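import Groth.Statements.S0002
import Groth.Agent.Lib.CohFound.ProperFinite

set_option autoImplicit false
universe u
open Coh

namespace Groth.Agent.S0002

open CategoryTheory AlgebraicGeometry in
/-- Finiteness of coherent cohomology over an affine base: if A is a Noetherian ring, X is a scheme
proper over Spec A and M is a coherent O_X-module, then each H^n(X, M) is a finite A-module.
(`Coh.IsCoh` is quasi-coherent of finite type, which is coherent here since X is locally
Noetherian.) -/
theorem result (A : Type u) [CommRing A] [IsNoetherianRing A] (X : Scheme.{u})
    [X.Over (Spec (CommRingCat.of A))] [IsProper (X ↘ Spec (CommRingCat.of A))]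
    (M : X.Modules) (hM : Coh.IsCoh M) (n : ℕ) : Module.Finite A (Coh.HH X M n) := by
  exact Groth.Agent.CohFound.finite_HH_of_isProper M hM n

end Groth.Agent.S0002
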