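import Groth.Statements.S9246
import Groth.Agent.Lib.RegLoc.Unramified
import Mathlib.RingTheory.Smooth.Flat
import Mathlib.RingTheory.Unramified.LocalRing
import Mathlib.RingTheory.Flat.Localization
import Mathlib.RingTheory.Finiteness.Descent
import Mathlib.RingTheory.Localization.Submodule

set_option autoImplicit false
universe u
open CAlg

namespace Groth.Agent.S9246

/-- Let A → B be an étale ring map and q a prime of B lying over the prime p of A. Then A_p is a regular
local ring if and only if B_q is a regular local ring. -/
theorem result (A B : Type u) [CommRing A] [CommRing B]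
    [Algebra A B] [Algebra.Etale A B] (q : Ideal B) [q.IsPrime] :
    IsRegularLocalRing (Localization.AtPrime (Ideal.comap (algebraMap A B) q)) ↔
      IsRegularLocalRing (Localization.AtPrime q) := by
  set p := Ideal.comap (algebraMap A B) q with hp
  haveI : q.LiesOver p := ⟨rfl⟩
  letI := (Localization.localRingHom p q (algebraMap A B) rfl).toAlgebra
  haveI : IsScalarTower A (Localization.AtPrime p) (Localization.AtPrime q) := by
    refine IsScalarTower.of_algebraMap_eq fun r => ?_
    rw [RingHom.algebraMap_toAlgebra, Localization.localRingHom_to_map,
      ← IsScalarTower.algebraMap_apply A B (Localization.AtPrime q)]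
  haveI : IsLocalHom (algebraMap (Localization.AtPrime p) (Localization.AtPrime q)) :=
    Localization.isLocalHom_localRingHom p q (algebraMap A B) rfl
  haveI : Module.Flat A (Localization.AtPrime q) := Module.Flat.trans A B (Localization.AtPrime q)
  haveI : Module.Flat (Localization.AtPrime p) (Localization.AtPrime q) := by
    rw [Module.flat_iff_of_isLocalization (Localization.AtPrime p) p.primeCompl]
    infer_instance
  haveI : Module.FaithfullyFlat (Localization.AtPrime p) (Localization.AtPrime q) :=
    Module.FaithfullyFlat.of_flat_of_isLocalHom
  haveI : Algebra.EssFiniteType A (Localization.AtPrime q) :=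
    Algebra.EssFiniteType.comp A B (Localization.AtPrime q)
  haveI : Algebra.EssFiniteType (Localization.AtPrime p) (Localization.AtPrime q) :=
    Algebra.EssFiniteType.of_comp A _ _
  have hnoe : IsNoetherianRing (Localization.AtPrime p) ↔ IsNoetherianRing (Localization.AtPrime q) := by
    refine ⟨fun _ => Algebra.EssFiniteType.isNoetherianRing (Localization.AtPrime p) (Localization.AtPrime q), fun _ => ?_⟩
    rw [isNoetherianRing_iff_ideal_fg]
    exact fun I => Ideal.FG.of_FG_map_of_faithfullyFlat (S := Localization.AtPrime q) (IsNoetherian.noetherian _)
  haveI : Algebra.FormallyUnramified A (Localization.AtPrime q) := Algebra.FormallyUnramified.comp A B _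
  haveI : Algebra.FormallyUnramified (Localization.AtPrime p) (Localization.AtPrime q) :=
    Algebra.FormallyUnramified.of_restrictScalars A _ _
  constructor
  · intro h
    haveI := hnoe.1 inferInstance
    exact (Groth.Agent.RegLoc.isRegularLocalRing_iff_of_map_maximalIdeal
      Algebra.FormallyUnramified.map_maximalIdeal).1 h
  · intro h
    haveI := hnoe.2 inferInstance
    exact Groth.Agent.RegLoc.isRegularLocalRing_of_flat (Localization.AtPrime p) (Localization.AtPrime q)

end Groth.Agent.S9246
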