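import Groth.Statements.S2074
import Groth.Agent.Lib.LimH13.ProperDescend
import Groth.Agent.S9190

set_option autoImplicit false
universe u
open CategoryTheory AlgebraicGeometry
open Lim

namespace Groth.Agent.S2074

set_option backward.isDefEq.respectTransparency false
set_option backward.isDefEq.respectTransparency.types false


/-- Let `S = lim S_i` be a cofiltered limit of schemes with affine transition morphisms, `f₀ : X₀ → Y₀`
a morphism of quasi-compact quasi-separated schemes over a quasi-compact quasi-separated stage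
`S_{i₀}`, locally of finite type, and `f : X → Y` its base change to `S`. If `f` is proper then the
base change `f_i : X_i → Y_i` to some stage `S_i` is proper. (Base changes are expressed by pullback
squares.) -/
theorem result {I : Type u} [SmallCategory I] [IsCofiltered I]
    (D : I ⥤ Scheme.{u}) (c : Limits.Cone D) (hc : Limits.IsLimit c)
    [∀ (i j : I) (f : i ⟶ j), IsAffineHom (D.map f)] (i₀ : I) [CompactSpace (D.obj i₀)]
    [QuasiSeparatedSpace (D.obj i₀)] {X₀ Y₀ : Scheme.{u}} (f₀ : X₀ ⟶ Y₀) (g₀ : Y₀ ⟶ D.obj i₀)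
    [CompactSpace X₀] [QuasiSeparatedSpace X₀] [CompactSpace Y₀] [QuasiSeparatedSpace Y₀]
    {X Y : Scheme.{u}} (f : X ⟶ Y) (g : Y ⟶ c.pt) (qY : Y ⟶ Y₀) (qX : X ⟶ X₀)
    (hY : IsPullback qY g g₀ (c.π.app i₀)) (hX : IsPullback qX f f₀ qY) [LocallyOfFiniteType f₀] [IsProper f] :
    ∃ (i : I) (φ : i ⟶ i₀) (Xi Yi : Scheme.{u}) (fi : Xi ⟶ Yi) (gi : Yi ⟶ D.obj i) (pY : Yi ⟶ Y₀)
      (pX : Xi ⟶ X₀), IsPullback pY gi g₀ (D.map φ) ∧ IsPullback pX fi f₀ pY ∧ IsProper fi := by

  obtain ⟨i, φ, Xi, Yi, fi, gi, pY, pX, hY', hX', hsep⟩ :=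
    Groth.Agent.S9190.result D c hc i₀ f₀ g₀ f g qY qX hY hX
  haveI := hsep
  haveI : IsAffineHom pY := MorphismProperty.of_isPullback hY'.flip inferInstance
  haveI : CompactSpace Yi := QuasiCompact.compactSpace_of_compactSpace pY
  haveI : QuasiSeparatedSpace Yi := quasiSeparatedSpace_of_quasiSeparated pY
  haveI : LocallyOfFiniteType fi := MorphismProperty.of_isPullback hX' inferInstance
  haveI : QuasiCompact f₀ := quasiCompact_of_compactSpace f₀
  haveI : QuasiCompact fi := MorphismProperty.of_isPullback hX' inferInstance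
  haveI : CompactSpace Xi := QuasiCompact.compactSpace_of_compactSpace fi
  haveI : QuasiSeparatedSpace Xi := quasiSeparatedSpace_of_quasiSeparated fi
  let qY' : Y ⟶ Yi := hY'.lift qY (g ≫ c.π.app i) (by rw [hY.w, Category.assoc, c.w])
  have hY1 : IsPullback qY' g gi (c.π.app i) := by
    refine IsPullback.of_right ?_ (hY'.lift_snd _ _ _) hY'
    rw [hY'.lift_fst, c.w]
    exact hY
  let qX' : X ⟶ Xi := hX'.lift qX (f ≫ qY') (by rw [hX.w, Category.assoc, hY'.lift_fst])
  have hX1 : IsPullback qX' f fi qY' := by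
    refine IsPullback.of_right ?_ (hX'.lift_snd _ _ _) hX'
    rw [hX'.lift_fst, hY'.lift_fst]
    exact hX
  obtain ⟨i', φ', Xk, Yk, fk, gk, pY', pX', hY2, hX2, hP⟩ :=
    Descend.exists_stage (@IsProper) (@IsProper) hc fi gi f g qY' qX' hY1 hX1 inferInstance
      fun E t e _ q P p r he hq hPb hr => by
        haveI : IsProper r := hr
        exact LimH13.exists_isProper fi t he hq hPb
  refine ⟨i', φ' ≫ φ, Xk, Yk, fk, gk, pY' ≫ pY, pX' ≫ pX, ?_, hX2.paste_horiz hX', hP⟩
  rw [D.map_comp]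
  exact hY2.paste_horiz hY'

end Groth.Agent.S2074
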