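import Groth.Statements.S2147
import Groth.Agent.Lib.LimH13.ProperModel

set_option autoImplicit false
universe u
open CategoryTheory AlgebraicGeometry
open Lim

namespace Groth.Agent.S2147

set_option backward.isDefEq.respectTransparency false
set_option backward.isDefEq.respectTransparency.types false
set_option linter.style.haveILetI false


/-- Let `f : X → S` be proper with `S` quasi-compact and quasi-separated. Then `f` is a limit of proper
morphisms `f_i : X_i → S_i` with `S_i` of finite type over `ℤ`: there are cofiltered diagrams of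
schemes `X_i`, `S_i` with affine transition morphisms, a natural transformation with proper
components, and limit cones identified with `X` and `S` compatibly with `f`. -/
theorem result {X S : Scheme.{u}} (f : X ⟶ S) [IsProper f] [CompactSpace S]
    [QuasiSeparatedSpace S] :
    ∃ (I : Type u) (_ : SmallCategory I) (_ : IsCofiltered I) (DX DS : I ⥤ Scheme.{u}) (φ : DX ⟶ DS)
      (cX : Limits.Cone DX) (cS : Limits.Cone DS) (_ : Limits.IsLimit cX) (_ : Limits.IsLimit cS)
      (eX : cX.pt ≅ X) (eS : cS.pt ≅ S),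
      (∀ (i j : I) (a : i ⟶ j), IsAffineHom (DX.map a) ∧ IsAffineHom (DS.map a)) ∧
      (∀ i, IsProper (φ.app i) ∧ CompactSpace (DS.obj i) ∧
        LocallyOfFiniteType (Limits.IsTerminal.from specULiftZIsTerminal (DS.obj i))) ∧
      (∀ i, cX.π.app i ≫ φ.app i = eX.hom ≫ f ≫ eS.inv ≫ cS.π.app i) := by

  obtain ⟨B, g, hBc, hB, hg⟩ := LimH13.hasZModel S
  haveI := hB.quasiSeparatedSpace
  haveI : IsFiltered (LimH13.SubAlg.Idx (RelSpec.QCAlg.directImage g)) :=
    isFiltered_of_directed_le_nonempty _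
  let D := LimH13.SubAlg.affDiag g
  let c := LimH13.SubAlg.affCone g
  haveI hDa : ∀ {i j} (a : i ⟶ j), IsAffineHom (D.map a) := fun a => LimH13.SubAlg.isAffineHom_affDiag_map g a
  haveI : ∀ i, CompactSpace (D.obj i) := fun i => LimH13.SubAlg.compactSpace_affDiag g i
  have hLFT : ∀ i, LimH13.LFTZ (D.obj i) := fun i =>
    @LimH13.LFTZ.of_comp _ _ hB i.unop.alg.π (LimH13.SubAlg.locallyOfFiniteType_π i.unop.ft)
  haveI : ∀ i, QuasiSeparatedSpace (D.obj i) := fun i => (hLFT i).quasiSeparatedSpace
  haveI : CompactSpace c.pt := inferInstanceAs (CompactSpace S)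
  haveI : QuasiSeparatedSpace c.pt := inferInstanceAs (QuasiSeparatedSpace S)
  haveI : IsProper (f : X ⟶ c.pt) := ‹IsProper f›
  obtain ⟨J, _, _, F, DX, φ, cX, hcX, hcS, eX, haff, hprop, hcomp⟩ :=
    LimH13.exists_proper_system D c (LimH13.SubAlg.isLimitAffCone g) (f : X ⟶ c.pt)
  refine ⟨J, inferInstance, inferInstance, DX, F ⋙ D, φ, cX, c.whisker F, hcX, hcS, eX, Iso.refl _,
    fun i j a => ⟨haff i j a, hDa (F.map a)⟩, fun i => ⟨hprop i, inferInstanceAs (CompactSpace (D.obj (F.obj i))),
      hLFT (F.obj i)⟩, fun i => ?_⟩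
  rw [hcomp]
  change eX.hom ≫ f ≫ c.π.app (F.obj i) = eX.hom ≫ f ≫ 𝟙 S ≫ c.π.app (F.obj i)
  erw [Category.id_comp]

end Groth.Agent.S2147
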