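import Groth.Statements.S0073
import Groth.Agent.Lib.EtStalk.Henselian
import Mathlib.Algebra.Homology.DerivedCategory.Ext.EnoughProjectives

set_option autoImplicit false
open CategoryTheory CategoryTheory.Limits AlgebraicGeometry Opposite
universe u
open EtBase

namespace Groth.Agent.S0073

/-- Étale cohomology of any abelian sheaf on the spectrum of a strictly henselian local ring vanishes in
positive degrees. -/
theorem result (R : Type u) [CommRing R] [HenselianLocalRing R]
    [IsSepClosed (IsLocalRing.ResidueField R)] (F : EtCoh.Ab (Spec (CommRingCat.of R)))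
    (p : ℕ) (hp : 1 ≤ p) : Subsingleton (EtCoh.H (Spec (CommRingCat.of R)) F p) := by
  have hT : IsTerminal (EtCoh.top (Spec (CommRingCat.of R))) :=
    MorphismProperty.Over.mkIdTerminal _ _
  let K : EtCoh.Ab (Spec (CommRingCat.of R)) :=
    (constantSheaf (Spec (CommRingCat.of R)).smallEtaleTopology AddCommGrpCat.{u + 1}).obj (AddCommGrpCat.of (ULift.{u + 1} ℤ))
  let e : ∀ G : EtCoh.Ab (Spec (CommRingCat.of R)), (K ⟶ G) ≃ G.obj.obj (op (EtCoh.top _)) :=
    fun G => ((constantSheafAdj (Spec (CommRingCat.of R)).smallEtaleTopology AddCommGrpCat.{u + 1} hT).homAddEquiv _ G).toEquiv.trans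
      (AddCommGrpCat.uliftZMultiplesAddEquiv.{u + 1} _).toEquiv
  have hnat : ∀ {A B : EtCoh.Ab (Spec (CommRingCat.of R))} (g : A ⟶ B) (x : K ⟶ A),
      e B (x ≫ g) = g.hom.app (op (EtCoh.top _)) (e A x) := fun g x => rfl
  have : Projective K := ⟨fun {A B} g p hp => by
    have hs := (AddCommGrpCat.epi_iff_surjective ((EtCoh.stalk (EtStalk.closedPt R)).map p)).1
      inferInstance (EtStalk.germ _ B (EtStalk.topFib R) (e B g))
    obtain ⟨q, hq⟩ := hs
    obtain ⟨a, rfl⟩ := (EtStalk.bijective_germ_top R A).2 q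
    rw [EtStalk.germ_nat] at hq
    refine ⟨(e A).symm a, (e B).injective ?_⟩
    rw [hnat, Equiv.apply_symm_apply]
    exact (EtStalk.bijective_germ_top R B).1 hq⟩
  obtain ⟨n, rfl⟩ := Nat.exists_eq_add_of_le' hp
  exact subsingleton_of_forall_eq 0 fun x => Abelian.Ext.eq_zero_of_projective x

end Groth.Agent.S0073
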