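import Groth.Statements.S4490
import Groth.Agent.Lib.FlatCx.Local
import Mathlib.RingTheory.Filtration
-- import your own Groth.Agent.* helpers here

set_option autoImplicit false
universe u
open FlatCx

namespace Groth.Agent.S4490

open CategoryTheory CategoryTheory.Limits in
/-- The case of the functor T_p(M) = H_p(P ⊗_A M) of a chain complex P of finitely generated flat
modules over a Noetherian local ring A with maximal ideal m and residue field k. Then T_p takes
surjections to surjections if and only if the map T_p(A) → T_p(k) induced by A → k is surjective;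
and also if and only if, for all sufficiently large n (there is n₀ such that for every n ≥ n₀), the
map T_p(A/m^(n+1)) → T_p(A/m) induced by the projection is surjective. (Surjectivity at one n gives
it at every smaller n, so this is the same as asking it for every n; at n = 0 alone the map is an
isomorphism and the condition would be empty.) -/
theorem result {A : Type u} [CommRing A] [IsNoetherianRing A]
    [IsLocalRing A] (P : ChainComplex (ModuleCat.{u} A) ℤ)
    (hP : ∀ i, Module.Finite A (P.X i) ∧ Module.Flat A (P.X i)) (p : ℤ) :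
    ((CohIII.TFun P p).PreservesEpimorphisms ↔
      Function.Surjective ((CohIII.TFun P p).map
        (ModuleCat.ofHom (Algebra.linearMap A (IsLocalRing.ResidueField A)))).hom) ∧
    ((CohIII.TFun P p).PreservesEpimorphisms ↔
      ∃ n₀ : ℕ, ∀ n : ℕ, n₀ ≤ n → Function.Surjective ((CohIII.TFun P p).map (ModuleCat.ofHom
        (Ideal.Quotient.factorₐ A (Ideal.pow_le_self (I := IsLocalRing.maximalIdeal A)
          (Nat.succ_ne_zero n))).toLinearMap :
        ModuleCat.of A (A ⧸ IsLocalRing.maximalIdeal A ^ (n + 1)) ⟶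
          ModuleCat.of A (A ⧸ IsLocalRing.maximalIdeal A))).hom) := by
  have := fun i => (hP i).1
  have := fun i => (hP i).2
  have h1 := Groth.Agent.FlatCxLib.preservesEpi_iff_surjective P p
  refine ⟨h1, fun h => ⟨0, fun n _ => Groth.Agent.FlatCxLib.Tmap_surjective P p h
    (Ideal.Quotient.factor_surjective (Ideal.pow_le_self (Nat.succ_ne_zero n)))⟩, fun ⟨n₀, hn⟩ => h1.2 ?_⟩
  have hq : p - 1 + 1 = p := sub_add_cancel p 1
  rw [Groth.Agent.FlatCxLib.surjective_residue_iff P hq, injective_iff_map_eq_zero]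
  intro z hz
  let m := IsLocalRing.maximalIdeal A
  let C := Groth.Agent.FlatCxLib.Cok P (p - 1)
  suffices z ∈ ⨅ n : ℕ, m ^ n • (⊤ : Submodule A (TensorProduct A C m)) by
    rwa [Ideal.iInf_pow_smul_eq_bot_of_isLocalRing m Ideal.IsPrime.ne_top', Submodule.mem_bot] at this
  rw [Submodule.mem_iInf]
  intro n
  let k := max n n₀
  suffices z ∈ m ^ k • (⊤ : Submodule A (TensorProduct A C m)) from
    Submodule.smul_mono_left (Ideal.pow_le_pow_right (le_max_left n n₀)) this
  let g : (A ⧸ m ^ (k + 1)) →ₗ[A] A ⧸ m :=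
    (Ideal.Quotient.factorₐ A (Ideal.pow_le_self (I := m) (Nat.succ_ne_zero k))).toLinearMap
  have hinj := (Groth.Agent.FlatCxLib.map_surjective_iff_injective P
    (K := ModuleCat.of A (LinearMap.ker g)) (M := ModuleCat.of A (A ⧸ m ^ (k + 1)))
    (N := ModuleCat.of A (A ⧸ m)) (ModuleCat.ofHom (LinearMap.ker g).subtype) (ModuleCat.ofHom g)
    (Submodule.injective_subtype _) (Ideal.Quotient.factor_surjective (Ideal.pow_le_self (I := m) (Nat.succ_ne_zero k)))
    (LinearMap.exact_subtype_ker_map g) hq).1 (hn k (le_max_right n n₀))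
  let φ : m →ₗ[A] LinearMap.ker g :=
    ((Algebra.linearMap A (A ⧸ m ^ (k + 1))).comp m.subtype).codRestrict _ fun x =>
      LinearMap.mem_ker.2 (Ideal.Quotient.eq_zero_iff_mem.2 x.2)
  have hφ : Function.Surjective φ := by
    rintro ⟨y, hy⟩
    obtain ⟨a, rfl⟩ := Ideal.Quotient.mk_surjective y
    exact ⟨⟨a, Ideal.Quotient.eq_zero_iff_mem.1 hy⟩, rfl⟩
  have hφz : φ.lTensor C z = 0 := hinj <| by
    rw [map_zero]
    refine (LinearMap.lTensor_comp_apply C (LinearMap.ker g).subtype φ z).symm.trans ?_
    refine (LinearMap.lTensor_comp_apply C (Algebra.linearMap A (A ⧸ m ^ (k + 1))) m.subtype z).trans ?_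
    exact (congrArg _ hz).trans (map_zero _)
  obtain ⟨η, rfl⟩ := (lTensor_exact C (LinearMap.exact_subtype_ker_map φ) hφ z).1 hφz
  clear hz hφz
  induction η using TensorProduct.induction_on with
  | zero => simp
  | add a b ha hb => rw [map_add]; exact add_mem ha hb
  | tmul c x =>
    have hx : ((x : m) : A) ∈ m ^ k • m := by
      rw [Ideal.smul_eq_mul, ← pow_succ, ← Ideal.Quotient.eq_zero_iff_mem]
      exact congrArg Subtype.val (LinearMap.mem_ker.1 x.2)
    obtain ⟨hm, hmem⟩ : ∃ hm : ((x : m) : A) ∈ m,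
        TensorProduct.tmul A c (⟨_, hm⟩ : m) ∈ m ^ k • (⊤ : Submodule A (TensorProduct A C m)) := by
      refine Submodule.smul_induction_on hx (fun r hr y hy => ⟨m.mul_mem_left r hy, ?_⟩)
        (fun a b ha hb => ⟨add_mem ha.1 hb.1, ?_⟩)
      · rw [show (⟨r • y, m.mul_mem_left r hy⟩ : m) = r • ⟨y, hy⟩ from rfl, TensorProduct.tmul_smul]
        exact Submodule.smul_mem_smul hr trivial
      · rw [show (⟨a + b, add_mem ha.1 hb.1⟩ : m) = ⟨a, ha.1⟩ + ⟨b, hb.1⟩ from rfl, TensorProduct.tmul_add]
        exact add_mem ha.2 hb.2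
    exact hmem

end Groth.Agent.S4490
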