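import Groth.Statements.S3572
import Groth.Agent.Lib.Twist.UniversalExist

set_option autoImplicit false
universe u
open CategoryTheory CategoryTheory.Limits AlgebraicGeometry
open EGA2

namespace Groth.Agent.S3572

/-- Existence part of the universal property of projective n-space over an affine base Spec R (the
published statement is for P(E) with E an arbitrary quasi-coherent module; here E is the free module
of rank n+1, so that P(E) is projective n-space over R): let X be a scheme over R, L an invertible
O_X-module and s_0, …, s_n global sections of L generating L. Then there is an R-morphism r from X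
to projective n-space over R and an isomorphism r^*O(1) ≅ L carrying the inverse image of the
coordinate T_i to s_i for every i. -/
theorem result {R : Type u} [CommRing R] (n : ℕ) {X : Scheme.{u}}
    (q : X ⟶ Spec (CommRingCat.of R)) (L : X.Modules) (hL : PicF.IsInvertible L)
    (s : Fin (n + 1) → ProjUP.Γm L) (hs : ProjUP.GeneratedBy L s) :
    ∃ (r : X ⟶ CohB1.ProjSpace n R) (_ : r ≫ CohB1.ProjSpace.toSpec n R = q)
      (τ : (Scheme.Modules.pullback r).obj (Twist.twistProjSpace n R 1) ≅ L),
      ∀ i, τ.hom.app ⊤ (ProjUP.pullSec r (Twist.twistProjSpace n R 1) (ProjUP.coord n R i)) = s i := by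
  let e : ULift.{u} (Fin (n + 1)) → MvPolynomial (Fin (n + 1)) R := fun i => MvPolynomial.X i.down
  have he : ∀ i, e i ∈ CohB1.polyGrading n R 1 := fun i => MvPolynomial.isHomogeneous_X R i.down
  have hgen : Algebra.adjoin R (Set.range e) = ⊤ := by
    rw [show Set.range e = Set.range (MvPolynomial.X : Fin (n + 1) → MvPolynomial (Fin (n + 1)) R) from
      Set.ext fun x => ⟨fun ⟨i, h⟩ => ⟨i.down, h⟩, fun ⟨i, h⟩ => ⟨⟨i⟩, h⟩⟩]
    exact MvPolynomial.adjoin_range_X
  have hs' : ProjUP.GeneratedBy L (fun i : ULift.{u} (Fin (n + 1)) => s i.down) := fun x => by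
    refine top_le_iff.1 ((hs x).ge.trans (Submodule.span_mono ?_))
    rintro _ ⟨i, rfl⟩
    exact ⟨⟨i⟩, rfl⟩
  obtain ⟨r, hr, τ, hτ⟩ := Groth.Agent.ProjUP.exists_hom_of_lift (CohB1.polyGrading n R) e he hgen q L hL
    (fun i => s i.down) hs' (fun m U hg => by
      choose c hc using fun i : Fin (n + 1) => (hg U le_rfl).2 (Groth.Agent.M1.mres L le_top (s i))
      simp only [Groth.Agent.M1.mres_id] at hc
      refine ⟨MvPolynomial.eval₂Hom ((Groth.Agent.M1.ores (le_top : U ≤ ⊤)).hom.comp (ProjUP.toGlobal q)) c,
        fun m' => ?_, fun a => ?_⟩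
      · simp only [e, MvPolynomial.eval₂Hom_X']
        exact hc m'.down
      · rw [MvPolynomial.algebraMap_eq, MvPolynomial.eval₂Hom_C]
        rfl)
  exact ⟨r, hr, τ, fun i => hτ ⟨i⟩⟩

end Groth.Agent.S3572
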