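import Groth.Statements.S0403
import Groth.Agent.Lib.FibGenApp4

set_option autoImplicit false
universe u
open FlatMor

set_option backward.isDefEq.respectTransparency.types false

namespace Groth.Agent.S0403

open AlgebraicGeometry CategoryTheory Limits in
/-- For a proper morphism the dimension of the fibre is an upper semicontinuous function on the target:
for every bound the set of points whose fibre has dimension at most that bound is open. -/
theorem result {X S : Scheme.{u}} (f : X ⟶ S) [IsProper f] (c : WithBot ℕ∞) :
    IsOpen {s : S | topologicalKrullDim (f.fiber s) ≤ c} := by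
  have key : IsOpen {x : X | FlatMor.fibreDimAt f x ≤ c} := by
    induction c using WithBot.recBotCoe with
    | bot =>
      convert isOpen_empty
      exact Set.eq_empty_iff_forall_notMem.2 fun x hx => FibGen4.fibreDimAt_ne_bot f x (le_bot_iff.1 hx)
    | coe c =>
      induction c using ENat.recTopCoe with
      | top => simpa using isOpen_univ
      | coe n => exact FibDim14.isOpen_fibreDimAt_le f n
  have : {s : S | topologicalKrullDim (f.fiber s) ≤ c} = (f '' {x | ¬ FlatMor.fibreDimAt f x ≤ c})ᶜ := by
    ext s
    simp only [Set.mem_setOf_eq, Set.mem_compl_iff, FibGen4.dim_fiber_le_iff]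
    constructor
    · rintro h ⟨x, hx, rfl⟩; exact hx (h x rfl)
    · intro h x hx; by_contra hc; exact h ⟨x, hc, hx⟩
  rw [this]
  exact (f.isClosedMap _ key.isClosed_compl).isOpen_compl

end Groth.Agent.S0403
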