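import Groth.Statements.S1536
import Groth.Agent.Lib.RigidRel.Const
import Groth.Agent.Lib.AbRigid.HZero

set_option autoImplicit false
universe u
open CategoryTheory CategoryTheory.Limits AlgebraicGeometry
open Variety

namespace Groth.Agent.S1536

/-- For a proper scheme X over a field k which is geometrically reduced and geometrically connected,
H^0(X, O_X) is one-dimensional over k, i.e. the global functions are the constants. -/
theorem result (k : Type u) [Field k] (X : Scheme.{u}) [X.Over (Spec (CommRingCat.of k))] [IsProper (X ↘ (Spec (CommRingCat.of k)))]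
    [GeometricallyReduced (X ↘ (Spec (CommRingCat.of k)))] [GeometricallyConnected (X ↘ (Spec (CommRingCat.of k)))] :
    Module.finrank k (Coh.HH X (Coh.structureModule X) 0) = 1 := by
  set f := X ↘ Spec (CommRingCat.of k)
  set g : k →+* Γ(X, ⊤) := ((Scheme.ΓSpecIso (CommRingCat.of k)).inv ≫ f.appTop).hom
  let e : Coh.HH X (Coh.structureModule X) 0 ≃+ Γ(X, ⊤) :=
    Sheaf.H.equiv₀ (Coh.toAb (Coh.structureModule X)) (isTerminalTop (α := X.Opens))
  have he : ∀ (c : k) x, e (c • x) = g c * e x := by
    intro c x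
    refine ((Sheaf.H.equiv₀_naturality (isTerminalTop (α := X.Opens))
      (Coh.smulAb (Coh.structureModule X) (Coh.toGlobal f c)) x).symm).trans ?_
    refine (Coh.smulAb_app _ _ _ _).trans ?_
    show Coh.resTop X (Opposite.op ⊤) _ * _ = _
    simp [g, Coh.resTop, Coh.toGlobal]
    rfl
  haveI : ConnectedSpace X :=
    GeometricallyConnected.geometrically_connectedSpace (f := f) (𝟙 _) (𝟙 X) f IsPullback.of_id_fst
  obtain ⟨x⟩ := (inferInstance : Nonempty X)
  haveI : Nontrivial Γ(X, ⊤) := (X.presheaf.germ ⊤ x trivial).hom.domain_nontrivial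
  refine finrank_eq_one_iff'.2 ⟨e.symm 1, fun h => one_ne_zero (α := Γ(X, ⊤)) ?_, fun w => ?_⟩
  · simpa using congrArg e h
  · obtain ⟨a, ha⟩ := Groth.Agent.RigidRel.surjective_appTop f (e w)
    refine ⟨(Scheme.ΓSpecIso (CommRingCat.of k)).hom.hom a, e.injective ?_⟩
    rw [he, e.apply_symm_apply, mul_one, ← ha]
    simp [g]

end Groth.Agent.S1536
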