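import Groth.Statements.S7547


set_option autoImplicit false
universe u
open PtTop

namespace Groth.Agent.S7547

/-- Let X be a Kolmogorov topological space whose quasi-compact opens form a basis for the topology. If
X is not Jacobson, there is a point x ∈ X which is not closed but such that {x} is locally closed. -/
theorem result {X : Type u} [TopologicalSpace X]
    [T0Space X] [PrespectralSpace X] (hX : ¬ JacobsonSpace X) :
    ∃ x : X, ¬ IsClosed ({x} : Set X) ∧ IsLocallyClosed ({x} : Set X) := by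
  classical
  simp only [jacobsonSpace_iff_locallyClosed, not_forall, not_exists] at hX
  obtain ⟨Z, hZne, hZ, hno⟩ := hX
  obtain ⟨V, F, hV, hF, rfl⟩ := hZ
  obtain ⟨a, ha⟩ := hZne
  obtain ⟨K, ⟨hKo, hKc⟩, haK, hKV⟩ :=
    PrespectralSpace.isTopologicalBasis.exists_subset_of_mem_open ha.1 hV
  haveI : CompactSpace (K ∩ F : Set X) := isCompact_iff_compactSpace.1 (hKc.inter_right hF)
  obtain ⟨⟨x, hx⟩, -, hxc⟩ := isClosed_univ.exists_closed_singleton
    (S := (Set.univ : Set (K ∩ F : Set X))) ⟨⟨a, haK, ha.2⟩, trivial⟩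
  refine ⟨x, fun hc ↦ hno ⟨x, ⟨hKV hx.1, hx.2⟩, hc⟩, ?_⟩
  obtain ⟨C, hC, hCe⟩ := isClosed_induced_iff.1 hxc
  rw [show ({x} : Set X) = K ∩ (F ∩ C) by
    ext b
    constructor
    · rintro rfl
      exact ⟨hx.1, hx.2, (hCe.symm.subset rfl : (⟨b, hx⟩ : (K ∩ F : Set X)) ∈ Subtype.val ⁻¹' C)⟩
    · rintro ⟨h1, h2, h3⟩
      exact congrArg Subtype.val (hCe.subset (show (⟨b, h1, h2⟩ : (K ∩ F : Set X)) ∈ _ from h3) : (⟨b, h1, h2⟩ : (K ∩ F : Set X)) = ⟨x, hx⟩)]
  exact ⟨K, F ∩ C, hKo, hF.inter hC, rfl⟩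

end Groth.Agent.S7547
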