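import Groth.Statements.S4949
import Groth.Agent.Lib.CMChart4

set_option autoImplicit false
open CategoryTheory AlgebraicGeometry
universe u v w
open EGA43

set_option backward.isDefEq.respectTransparency.types false

namespace Groth.Agent.S4949


open AlgebraicGeometry CategoryTheory Groth.Agent.FibDim14 in
theorem isCM_of_flat_qf {W P S : Scheme.{u}} (g : W ⟶ P) (π : P ⟶ S) [LocallyOfFiniteType g] [Smooth π]
    (w : W) (hflat : (g.stalkMap w).hom.Flat) (hqf : g.QuasiFiniteAt w) :
    MoreMor.IsCMAt (g ≫ π) w := by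
  refine ⟨?_, ?_⟩
  · rw [Scheme.Hom.stalkMap_comp]
    exact RingHom.Flat.comp (Flat.stalkMap π (g w)) hflat
  set s := (g ≫ π) w with hs
  let F := fibMap g π s
  let z := (g ≫ π).asFiber w
  have hzx : (g ≫ π).fiberι s z = w := (g ≫ π).fiberι_asFiber w
  haveI : LocallyOfFiniteType (g ≫ π) := inferInstance
  haveI : Smooth (toPt π s) := MorphismProperty.pullback_snd _ _ ‹Smooth π›
  haveI : LocallyOfFiniteType F :=
    MorphismProperty.of_isPullback (CMEquiDim4.isPullback_fibMap g π s) ‹LocallyOfFiniteType g›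
  haveI : IsLocallyNoetherian (π.fiber s) := LocallyOfFiniteType.isLocallyNoetherian (toPt π s)
  haveI : IsLocallyNoetherian ((g ≫ π).fiber s) := LocallyOfFiniteType.isLocallyNoetherian (toPt (g ≫ π) s)
  haveI : IsRegularLocalRing ((π.fiber s).presheaf.stalk (F z)) :=
    SmoothReg17.isRegularLocalRing_stalk (toPt π s) (F z)
  have hF' : FlatH4.fibreMapAt' g π (S.fromSpecResidueField s) = F := by
    apply Limits.pullback.hom_ext
    · rw [FlatH4.fibreMapAt']
      exact (Limits.pullback.lift_fst _ _ _).trans (Limits.pullback.lift_fst _ _ _).symm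
    · rw [FlatH4.fibreMapAt']
      refine (Limits.pullback.lift_snd _ _ _).trans ((Category.comp_id _).trans ?_)
      exact (Limits.pullback.lift_snd _ _ _).symm
  have hflatF : (F.stalkMap z).hom.Flat :=
    hF' ▸ FlatH4.flat_fibreMapAt'_of_flat g π (S.fromSpecResidueField s) z (FlatH4.flat_stalkMap_of_eq g hzx.symm hflat)
  have hF0 : FlatMor.fibreDimAt F z = 0 := by
    rw [fibreDimAt_baseChange (CMEquiDim4.isPullback_fibMap g π s), hzx, (fibreDimAt_eq_zero_iff g w).2 hqf]
  algebraize [(F.stalkMap z).hom]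
  haveI : IsLocalHom (algebraMap ((π.fiber s).presheaf.stalk (F z)) (((g ≫ π).fiber s).presheaf.stalk z)) :=
    F.toLRSHom.prop z
  obtain ⟨h1, h2⟩ := FlatDepth.ring_fibre_invariants (A := (π.fiber s).presheaf.stalk (F z))
    (B := ((g ≫ π).fiber s).presheaf.stalk z)
  obtain ⟨e₀⟩ := FlatDepth.nonempty_fiberStalkEquiv F z
  let A := (π.fiber s).presheaf.stalk (F z)
  let B := ((g ≫ π).fiber s).presheaf.stalk z
  have hdim : ringKrullDim (EGA4.FibRing A B) = 0 := by
    obtain ⟨n, hn, hn'⟩ := CMEquiDim4.exists_stalk_dim (toPt F (F z)) (F.asFiber z)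
    rw [show FlatMor.localDim (F.fiber (F z)) (F.asFiber z) = FlatMor.fibreDimAt F z from rfl, hF0] at hn'
    have h0 : n = 0 := by
      have h1 : (0 : ℕ) = VarDim.sdim (toPt F (F z)) (F.asFiber z) + n := by exact_mod_cast hn'
      omega
    exact (ringKrullDim_eq_of_ringEquiv e₀).trans (hn.trans (by rw [h0]; rfl))
  have hdep : LocCoh.depth (EGA4.FibRing A B) (EGA4.FibRing A B) = 0 := by
    have h := DepthLib.depth_le_supportDim (R := EGA4.FibRing A B) (M := EGA4.FibRing A B)
    rw [Module.supportDim_self_eq_ringKrullDim, hdim] at h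
    exact le_antisymm (WithBot.coe_le_coe.1 h) zero_le
  haveI := DepthLib.isCohenMacaulayLocalRing_of_isRegularLocalRing (R := A)
  refine { supportDim_eq_depth := ?_ }
  rw [Module.supportDim_self_eq_ringKrullDim, h1, h2, hdim, hdep, add_zero, add_zero,
    ← Module.supportDim_self_eq_ringKrullDim]
  exact LocCoh.IsCohenMacaulayLocalRing.supportDim_eq_depth
open AlgebraicGeometry CategoryTheory Groth.Agent.FibDim14 Groth.Agent.CMEquiDim4 in
theorem isCM_fibre_of_comp {X S : Scheme.{u}} (U : X.Opens) (f : X ⟶ S) (w : (U : Scheme.{u}))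
    (h : LocCoh.IsCohenMacaulayLocalRing (((U.ι ≫ f).fiber ((U.ι ≫ f) w)).presheaf.stalk ((U.ι ≫ f).asFiber w))) :
    LocCoh.IsCohenMacaulayLocalRing ((f.fiber (f (U.ι w))).presheaf.stalk (f.asFiber (U.ι w))) := by
  haveI : IsOpenImmersion (fibMap U.ι f ((U.ι ≫ f) w)) :=
    MorphismProperty.of_isPullback (isPullback_fibMap U.ι f ((U.ι ≫ f) w)) (inferInstance : IsOpenImmersion U.ι)
  have hpt : fibMap U.ι f ((U.ι ≫ f) w) ((U.ι ≫ f).asFiber w) = f.asFiber (U.ι w) := by
    refine (f.fiberι (f (U.ι w))).isEmbedding.injective ?_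
    rw [f.fiberι_asFiber]
    refine (fiberι_fibMap U.ι f ((U.ι ≫ f) w) _).trans ?_
    rw [(U.ι ≫ f).fiberι_asFiber]
  exact isCM_stalk_of_eq hpt (SMT.isCM_of_ringEquiv
    (asIso ((fibMap U.ι f ((U.ι ≫ f) w)).stalkMap ((U.ι ≫ f).asFiber w))).commRingCatIsoToRingEquiv.symm h)

/-- Let f : X ⟶ Y be a morphism locally of finite presentation and x a point of X. The following are
equivalent: a) f is flat at x and the fibre X_{f x} is Cohen–Macaulay at x; b) there are an open
neighbourhood U of x, a natural number n and a Y-morphism g from U to affine n-space over Y which is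
locally quasi-finite and such that U is g-flat at x. (The published statement asks for g
quasi-finite, that is of finite type with finite fibres, hence quasi-compact; this row asks only
that g be locally quasi-finite, g being automatically locally of finite type here — the condition
the proof of b) ⇒ a) uses.) -/
theorem result {X Y : Scheme.{u}} (f : X ⟶ Y)
    [LocallyOfFinitePresentation f] (x : X) :
    MoreMor.IsCMAt f x ↔ ∃ (n : ℕ) (U : X.Opens) (hx : x ∈ U) (g : (U : Scheme.{u}) ⟶ 𝔸(ULift.{u} (Fin n); Y)),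
      g ≫ (𝔸(ULift.{u} (Fin n); Y) ↘ Y) = U.ι ≫ f ∧ LocallyQuasiFinite g ∧ (g.stalkMap ⟨x, hx⟩).hom.Flat := by
  constructor
  · exact CMEquiDim4.exists_flat_qf_toAffineSpace f
  rintro ⟨n, U, hx, g, hg, hqf, hflat⟩
  haveI : LocallyOfFiniteType (g ≫ (𝔸(ULift.{u} (Fin n); Y) ↘ Y)) := hg.symm ▸ inferInstance
  haveI : LocallyOfFiniteType g := AlgebraicGeometry.locallyOfFiniteType_of_comp g (𝔸(ULift.{u} (Fin n); Y) ↘ Y)
  have h := isCM_of_flat_qf g (𝔸(ULift.{u} (Fin n); Y) ↘ Y) ⟨x, hx⟩ hflat (g.quasiFiniteAt _)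
  refine ⟨?_, ?_⟩
  · have h1 := Slice.flat_stalkMap_congr hg _ h.1
    rwa [FlatH4.flat_stalkMap_comp_left_iff] at h1
  · exact isCM_fibre_of_comp U f ⟨x, hx⟩ (CMEquiDim4.isCM_fibre_of_eq hg h.2)

end Groth.Agent.S4949
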