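import Groth.Statements.S6084
import Groth.Agent.Lib.AlgSpDescent.FppfComp
import Groth.Agent.Lib.AbRigid.GrpTop
import Mathlib.RingTheory.FiniteType
import Mathlib.RingTheory.Artinian.Algebra
import Mathlib.RingTheory.Jacobson.Artinian
import Mathlib.AlgebraicGeometry.Noetherian
import Mathlib.AlgebraicGeometry.Morphisms.FiniteType

set_option autoImplicit false
universe u
open CategoryTheory CategoryTheory.Limits MonoidalCategory CartesianMonoidalCategory MonObj GrpObj AlgebraicGeometry
open SGA3

namespace Groth.Agent.S6084

/-- Let k be a perfect field, G a group scheme locally of finite type over k and u : F → G a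
homomorphism of k-group schemes which is a closed immersion and surjective on underlying spaces,
with F reduced (so F is G_red with its group structure). Let p : G → X be a k-morphism which is
flat, surjective and locally of finite presentation and makes the square formed by (f, g) ↦ u(f) ·
g, the second projection F ×_k G → G and p (twice) cartesian (X is the quotient of G by F acting by
left translations). Then X is the spectrum of a finite local k-algebra with residue field k: X is
affine, its underlying space is a single point at which the structure morphism induces an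
isomorphism of residue fields, and the ring of global sections of X is finite over k. -/
theorem result (k : Type u) [Field k] [PerfectField k]
    (F G : Over (Spec (CommRingCat.of k))) [GrpObj F] [GrpObj G] [LocallyOfFiniteType G.hom] [IsReduced F.left]
    (u : F ⟶ G) [IsMonHom u] [IsClosedImmersion u.left] [Surjective u.left]
    (X : Over (Spec (CommRingCat.of k))) (p : G ⟶ X) [Flat p.left] [Surjective p.left] [LocallyOfFinitePresentation p.left]
    (hp : IsPullback ((u ▷ G) ≫ μ[G]) (snd F G) p p) :
    IsAffine X.left ∧ (∃ x : X.left, (Set.univ : Set X.left) = {x} ∧ IsIso (X.hom.residueFieldMap x)) ∧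
      ((Scheme.ΓSpecIso (CommRingCat.of k)).inv ≫ X.hom.appTop).hom.Finite := by
  let P := 𝟙_ (Over (Spec (CommRingCat.of k)))
  let e : P ⟶ X := η[G] ≫ p
  let x₀ : X.left := e.left (IsLocalRing.closedPoint k)
  have hall : ∀ x : X.left, x = x₀ := by
    intro x
    obtain ⟨g, rfl⟩ := p.left.surjective x
    obtain ⟨f, rfl⟩ := u.left.surjective g
    have h : u ≫ p = toUnit F ≫ η[G] ≫ p := by
      have h0 := congrArg (fun v => lift (𝟙 F) (toUnit F ≫ η[G]) ≫ v) hp.w
      simp only [← Category.assoc, lift_whiskerRight, lift_snd, Category.id_comp] at h0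
      rw [← Hom.mul_def, ← Hom.one_def, _root_.mul_one] at h0
      rw [h0, Hom.one_def]
      simp
    rw [← AbRigid.left_comp_apply, h, AbRigid.left_comp_apply]
    exact congrArg _ (Subsingleton.elim (α := Spec (CommRingCat.of k)) _ _)
  haveI : Subsingleton X.left := ⟨fun a b => (hall a).trans (hall b).symm⟩
  haveI : Nonempty X.left := ⟨x₀⟩
  haveI : LocallyOfFiniteType (p.left ≫ X.hom) := by rw [Over.w]; infer_instance
  haveI : LocallyOfFiniteType X.hom := AlgSpDescent.locallyOfFiniteType_of_fppf_comp p.left X.hom ‹_› ‹_› ‹_› ‹_›
  refine ⟨inferInstance, ⟨x₀, Set.eq_singleton_iff_unique_mem.mpr ⟨trivial, fun y _ => hall y⟩, ?_⟩, ?_⟩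
  · have hsec : e.left ≫ X.hom = 𝟙 _ := Over.w e
    rw [ConcreteCategory.isIso_iff_bijective]
    refine ⟨RingHom.injective _, fun z => ?_⟩
    have hc : (X.hom.residueFieldMap x₀) ≫ e.left.residueFieldMap (IsLocalRing.closedPoint k) =
        (e.left ≫ X.hom).residueFieldMap (IsLocalRing.closedPoint k) :=
      (Scheme.residueFieldMap_comp e.left X.hom _).symm
    haveI : IsIso ((e.left ≫ X.hom).residueFieldMap (IsLocalRing.closedPoint k)) := by
      have : IsIso (e.left ≫ X.hom) := by rw [hsec]; exact inferInstanceAs (IsIso (𝟙 (Spec (CommRingCat.of k))))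
      infer_instance
    obtain ⟨w, hw⟩ := (ConcreteCategory.bijective_of_isIso
      ((e.left ≫ X.hom).residueFieldMap (IsLocalRing.closedPoint k))).2
        ((e.left.residueFieldMap (IsLocalRing.closedPoint k)) z)
    refine ⟨w, RingHom.injective (e.left.residueFieldMap (IsLocalRing.closedPoint k)).hom ?_⟩
    rw [← hc] at hw
    exact hw
  · let φ := (Scheme.ΓSpecIso (CommRingCat.of k)).inv ≫ X.hom.appTop
    letI : Algebra k Γ(X.left, ⊤) := φ.hom.toAlgebra
    haveI : Algebra.FiniteType k Γ(X.left, ⊤) := by
      refine RingHom.finiteType_algebraMap.mp ?_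
      have h := (HasRingHomProperty.iff_of_isAffine (P := @LocallyOfFiniteType)).mp ‹LocallyOfFiniteType X.hom›
      exact RingHom.FiniteType.comp h (RingHom.FiniteType.of_surjective _
        (Scheme.ΓSpecIso (CommRingCat.of k)).commRingCatIsoToRingEquiv.symm.surjective)
    haveI : IsNoetherianRing Γ(X.left, ⊤) := Algebra.FiniteType.isNoetherianRing k _
    haveI : Subsingleton (PrimeSpectrum Γ(X.left, ⊤)) :=
      X.left.isoSpec.inv.homeomorph.injective.subsingleton
    haveI : IsArtinianRing Γ(X.left, ⊤) := by
      rw [isArtinianRing_iff_isNoetherianRing_krullDimLE_zero]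
      exact ⟨inferInstance, Ring.KrullDimLE.mk₀ fun I hI => by
        obtain ⟨M, hM, hle⟩ := Ideal.exists_le_maximal I hI.ne_top
        have := congrArg PrimeSpectrum.asIdeal (Subsingleton.elim (⟨I, hI⟩ : PrimeSpectrum Γ(X.left, ⊤)) ⟨M, hM.isPrime⟩)
        simp only at this
        rw [this]; exact hM⟩
    show φ.hom.Finite
    exact RingHom.finite_algebraMap.mpr (Module.finite_iff_isArtinianRing k _ |>.mpr inferInstance)


end Groth.Agent.S6084
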