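import Groth.Statements.S11199
import Groth.Agent.Lib.InvRing21.Coef
-- import your own Groth.Agent.* helpers here

set_option autoImplicit false
universe u
open CategoryTheory MonoidalCategory CartesianMonoidalCategory MonObj GrpObj AlgebraicGeometry
open scoped TensorProduct
open AGF

namespace Groth.Agent.S11199

/-- Let k be an algebraically closed field, G a linear algebraic group over k (an affine smooth group
scheme over k) and H a closed subgroup of G (a smooth closed subgroup scheme, i : H → G). Then there
are finitely many right-H-invariant global functions f₁, ..., fₙ on G which already cut out the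
observable hull of H: a rational point of G whose right translation fixes each fⱼ fixes every
right-H-invariant global function. -/
theorem result (k : Type u) [Field k] [IsAlgClosed k]
    (G : Over (Spec (CommRingCat.of k))) [GrpObj G] [IsAffine G.left] [Smooth G.hom]
    (H : Over (Spec (CommRingCat.of k))) [GrpObj H] [Smooth H.hom] (i : H ⟶ G) [IsMonHom i]
    [IsClosedImmersion i.left] :
    ∃ s : Finset Γ(G.left, ⊤), (∀ f ∈ s, AGF.IsRTransInv i f) ∧
      ∀ g : VecGrp.pt k k ⟶ G, (∀ f ∈ s, AGF.IsRTransInv g f) →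
        ∀ f : Γ(G.left, ⊤), AGF.IsRTransInv i f → AGF.IsRTransInv g f := by
  classical
  haveI : IsAffine (G ⊗ G).left := inferInstanceAs (IsAffine (Limits.pullback G.hom G.hom))
  haveI : LocallyOfFiniteType (G ⊗ G).hom := inferInstanceAs (LocallyOfFiniteType (Limits.pullback.fst G.hom G.hom ≫ G.hom))
  haveI : IsLocallyNoetherian (G ⊗ G).left := LocallyOfFiniteType.isLocallyNoetherian (G ⊗ G).hom
  haveI : IsNoetherianRing Γ((G ⊗ G).left, ⊤) :=
    IsLocallyNoetherian.component_noetherian (⟨⊤, isAffineOpen_top _⟩ : (G ⊗ G).left.affineOpens)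
  let w : Γ(G.left, ⊤) → Γ((G ⊗ G).left, ⊤) := fun f => (μ[G]).left.appTop f - (fst G G).left.appTop f
  obtain ⟨S, hS, hspan⟩ := (Submodule.fg_span_iff_fg_span_finset_subset
    (R := Γ((G ⊗ G).left, ⊤)) (w '' {f | AGF.IsRTransInv i f})).1 (IsNoetherian.noetherian _)
  choose f hf hfw using fun x : S => hS x.2
  refine ⟨Finset.univ.image f, fun y hy => ?_, fun g hg y hy => ?_⟩
  · obtain ⟨x, -, rfl⟩ := Finset.mem_image.1 hy
    exact hf x
  have hev : ∀ y, (G ◁ g).left.appTop (w y) =
      ((G ◁ g) ≫ μ[G]).left.appTop y - (fst G (VecGrp.pt k k)).left.appTop y := by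
    intro y
    simp only [w, map_sub]
    conv_rhs => rw [← whiskerLeft_fst G g, Over.comp_left, Scheme.Hom.comp_appTop, Over.comp_left, Scheme.Hom.comp_appTop]
    rfl
  have hker : Submodule.span _ (w '' {f | AGF.IsRTransInv i f}) ≤ RingHom.ker (G ◁ g).left.appTop.hom := by
    rw [hspan, Submodule.span_le]
    intro x hx
    show (G ◁ g).left.appTop x = 0
    rw [show x = w (f ⟨x, hx⟩) from (hfw ⟨x, hx⟩).symm, hev, sub_eq_zero]
    exact hg _ (Finset.mem_image.2 ⟨⟨x, hx⟩, Finset.mem_univ _, rfl⟩)
  have := hker (Submodule.subset_span ⟨y, hy, rfl⟩)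
  exact sub_eq_zero.1 ((hev y).symm.trans this)

end Groth.Agent.S11199
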