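import Groth.Statements.S11188
import Groth.Agent.Lib.InvRing21.Stab
import Groth.Agent.Lib.OrbitTop19.Smooth
import Groth.Agent.S11199
import Groth.Agent.S11191
-- import your own Groth.Agent.* helpers here

set_option autoImplicit false
universe u
open CategoryTheory MonoidalCategory CartesianMonoidalCategory MonObj GrpObj AlgebraicGeometry
open scoped TensorProduct
open AGF

namespace Groth.Agent.S11188

/-- (1) ⇔ (2) ⇔ (3): let k be an algebraically closed field, G a linear algebraic group over k (an
affine smooth group scheme over k) and H a closed subgroup of G (a smooth closed subgroup scheme, i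
: H → G). The following are equivalent: (i) H is observable in G, i.e. a rational point of G whose
right translation fixes every right-H-invariant global function on G lies in H; (ii) there are a
finite-dimensional rational G-module V and a vector v in V whose stabiliser, on rational points, is
H; (iii) there are finitely many right-H-invariant global functions on G which separate the cosets
gH: two rational points of G at which they all take the same values differ by right multiplication
by a rational point of H. -/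
theorem result (k : Type u) [Field k] [IsAlgClosed k]
    (G : Over (Spec (CommRingCat.of k))) [GrpObj G] [IsAffine G.left] [Smooth G.hom]
    (H : Over (Spec (CommRingCat.of k))) [GrpObj H] [Smooth H.hom] (i : H ⟶ G) [IsMonHom i]
    [IsClosedImmersion i.left] :
    List.TFAE [
      AGF.IsObservableIn k i,
      ∃ (V : Type u) (_ : AddCommGroup V) (_ : Module k V) (_ : Module.Finite k V) (ρ : VecGrp.GMod G V) (v : V),
        AGF.IsStabOnPts k i ρ v,
      ∃ s : Finset Γ(G.left, ⊤), (∀ f ∈ s, AGF.IsRTransInv i f) ∧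
        ∀ g g' : VecGrp.pt k k ⟶ G, (∀ f ∈ s, g.left.appTop f = g'.left.appTop f) →
          ∃ h : VecGrp.pt k k ⟶ H, g' = g * (h ≫ i)] := by
  classical
  haveI : IsAffine H.left := isAffine_of_isAffineHom i.left
  haveI : IsReduced H.left := Groth.Agent.OrbitTop19.isReduced_of_smooth H.hom
  haveI : IsAffine (VecGrp.pt k k).left := inferInstanceAs (IsAffine (Spec (CommRingCat.of k)))
  letI := Groth.Agent.InvRing21.gamAlg G
  letI := Groth.Agent.InvRing21.gamAlg H
  obtain ⟨S, hS, hSdet⟩ := Groth.Agent.S11199.result k G H i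
  have hfix : ∀ f, AGF.IsRTransInv i f → f ∈ (Groth.Agent.InvRing21.regular G).fixedUnder i :=
    fun f hf => Groth.Agent.InvRing21.mem_fixedUnder_regular i f hf
  have hreg : ∀ (g : VecGrp.pt k k ⟶ G) (f : Γ(G.left, ⊤)),
      (Groth.Agent.InvRing21.regular G).ρ k g ((1 : k) ⊗ₜ[k] f) = (1 : k) ⊗ₜ[k] f → AGF.IsRTransInv g f :=
    fun g f h => Groth.Agent.InvRing21.isRTransInv_of_regular_fixed g f
      ((Groth.Agent.InvRing21.fixed_iff_pt _ k g f).2 h)
  tfae_have 1 → 3 := by
    intro hobs
    let ρ := Groth.Agent.InvRing21.regular G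
    let b := Module.Free.chooseBasis k Γ(G.left, ⊤)
    let D : Γ(G.left, ⊤) → Finset Γ(G.left, ⊤) := fun f =>
      ((TensorProduct.equivFinsuppOfBasisRight b (ρ.ρ _ (Groth.Agent.InvRing21.uPt G) (1 ⊗ₜ[k] f))).support).image
        fun l => Groth.Agent.InvRing21.coef ρ (b.coord l) f
    refine ⟨S.biUnion D, fun y hy => ?_, fun g g' hgg => ?_⟩
    · obtain ⟨f, hf, hy⟩ := Finset.mem_biUnion.1 hy
      obtain ⟨l, -, rfl⟩ := Finset.mem_image.1 hy
      exact Groth.Agent.InvRing21.isRTransInv_coef ρ i f (hfix f (hS f hf) _ (Groth.Agent.InvRing21.uPt H)) _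
    obtain ⟨h, hh⟩ := hobs (g⁻¹ * g') (hSdet _ fun f hf => hreg _ f (by
      have key : ρ.ρ k g ((1 : k) ⊗ₜ[k] f) = ρ.ρ k g' ((1 : k) ⊗ₜ[k] f) := by
        refine (TensorProduct.equivFinsuppOfBasisRight b).injective (Finsupp.ext fun l => ?_)
        have e : ∀ (B : Type u) [CommRing B] [Algebra k B] (z : B ⊗[k] Γ(G.left, ⊤)),
            TensorProduct.equivFinsuppOfBasisRight b z l = Groth.Agent.InvRing21.ctr (b.coord l) z := by
          intro B _ _ z
          induction z using TensorProduct.induction_on with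
          | zero => simp
          | tmul c m => simp [Groth.Agent.InvRing21.ctr_tmul, TensorProduct.equivFinsuppOfBasisRight_apply_tmul_apply]
          | add x y hx hy => simp [hx, hy]
        rw [e, e, Groth.Agent.InvRing21.ctr_rho, Groth.Agent.InvRing21.ctr_rho]
        by_cases h0 : Groth.Agent.InvRing21.coef ρ (b.coord l) f = 0
        · rw [h0, map_zero, map_zero]
        · refine congrArg (Groth.Agent.InvRing21.ptHom k) (hgg _ (Finset.mem_biUnion.2 ⟨f, hf, Finset.mem_image.2 ⟨l, ?_, rfl⟩⟩))
          rw [Finsupp.mem_support_iff, e]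
          exact h0
      rw [Groth.Agent.InvRing21.rho_mul, ← key, ← Groth.Agent.InvRing21.rho_mul, inv_mul_cancel, map_one]
      rfl))
    exact ⟨h, by rw [hh, mul_inv_cancel_left]⟩
  tfae_have 3 → 1 := by
    rintro ⟨s, hs, hsep⟩ g hg
    obtain ⟨h, hh⟩ := hsep 1 g fun f hf => by
      have e := hg f (hs f hf)
      have := congrArg (lift (1 : VecGrp.pt k k ⟶ G) (𝟙 (VecGrp.pt k k))).left.appTop
        (show ((G ◁ g) ≫ μ[G]).left.appTop f = (fst G (VecGrp.pt k k)).left.appTop f from e)
      rw [← CommRingCat.comp_apply, ← CommRingCat.comp_apply, ← Scheme.Hom.comp_appTop, ← Scheme.Hom.comp_appTop,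
        ← Over.comp_left, ← Over.comp_left, Groth.Agent.InvRing21.whisker_mul, MonObj.comp_mul, lift_fst,
        ← Category.assoc, lift_snd, Category.id_comp, _root_.one_mul g] at this
      exact this.symm
    exact ⟨h, by rw [hh, _root_.one_mul (h ≫ i)]⟩
  tfae_have 1 → 2 := by
    intro hobs
    let ρ := Groth.Agent.InvRing21.regular G
    choose n v ξ hξ hspan hv using fun f : S => Groth.Agent.InvRing21.exists_finite_stable ρ (f : Γ(G.left, ⊤))
    choose α hα using fun f : S => (Submodule.mem_span_range_iff_exists_fun k).1 (hspan f)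
    let J := Σ f : S, ULift.{u} (Fin (n f))
    let C : J → J → Γ(G.left, ⊤) := fun a b =>
      if h : a.1 = b.1 then Groth.Agent.InvRing21.coef ρ (ξ b.1 (h ▸ a.2.down)) (v b.1 b.2.down) else 0
    have hC : ∀ f (a b : ULift.{u} (Fin (n f))), C ⟨f, a⟩ ⟨f, b⟩ = Groth.Agent.InvRing21.coef ρ (ξ f a.down) (v f b.down) :=
      fun f a b => by simp [C]
    have hC0 : ∀ f f' (a : ULift.{u} (Fin (n f))) (b : ULift.{u} (Fin (n f'))), f ≠ f' → C ⟨f, a⟩ ⟨f', b⟩ = 0 :=
      fun f f' a b h => by simp [C, h]
    have hmul : ∀ (B : Type u) [CommRing B] [Algebra k B] (g h : VecGrp.pt k B ⟶ G) (i j : J),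
        Groth.Agent.InvRing21.val (g * h) (C i j) =
          ∑ l, Groth.Agent.InvRing21.val g (C i l) * Groth.Agent.InvRing21.val h (C l j) := by
      rintro B _ _ g h ⟨f, a⟩ ⟨f', b⟩
      rw [Fintype.sum_sigma]
      by_cases e : f = f'
      · subst e
        rw [Finset.sum_eq_single f (fun x _ hx => Finset.sum_eq_zero fun c _ => by
          rw [hC0 _ _ _ _ hx.symm, map_zero, zero_mul]) (by simp)]
        simp only [hC]
        rw [← Equiv.sum_comp Equiv.ulift.symm]
        show Groth.Agent.InvRing21.ptHom B ((g * h).left.appTop _) = _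
        rw [Groth.Agent.InvRing21.appTop_coef_mul ρ (v f) (ξ f) (hv f) g h, map_sum]
        exact Finset.sum_congr rfl fun c _ => map_mul _ _ _
      · rw [hC0 _ _ _ _ e, map_zero, Finset.sum_eq_zero]
        intro x _
        refine Finset.sum_eq_zero fun c _ => ?_
        by_cases ex : f = x
        · subst ex; rw [hC0 _ _ _ _ e, map_zero, mul_zero]
        · rw [hC0 _ _ _ _ ex, map_zero, zero_mul]
    have hone : ∀ (B : Type u) [CommRing B] [Algebra k B] (i j : J),
        Groth.Agent.InvRing21.val (1 : VecGrp.pt k B ⟶ G) (C i j) = if i = j then 1 else 0 := by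
      rintro B _ _ ⟨f, a⟩ ⟨f', b⟩
      by_cases e : f = f'
      · subst e
        rw [hC]
        show Groth.Agent.InvRing21.ptHom B ((1 : VecGrp.pt k B ⟶ G).left.appTop _) = _
        rw [Groth.Agent.InvRing21.appTop_coef_one ρ (v f) (ξ f) (hξ f), apply_ite (Groth.Agent.InvRing21.ptHom B),
          map_one, map_zero]
        exact if_congr ⟨fun h => by rw [ULift.ext _ _ h], fun h => by cases h; rfl⟩ rfl rfl
      · rw [hC0 _ _ _ _ e, map_zero, if_neg fun h => e (congrArg Sigma.fst h)]
    let w : J → k := fun a => α a.1 a.2.down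
    have hstab : ∀ g : VecGrp.pt k k ⟶ G,
        (Groth.Agent.InvRing21.ofMatrix C hmul hone).ρ k g ((1 : k) ⊗ₜ[k] w) = (1 : k) ⊗ₜ[k] w ↔
          ∀ f : S, ρ.ρ k g ((1 : k) ⊗ₜ[k] (f : Γ(G.left, ⊤))) = (1 : k) ⊗ₜ[k] (f : Γ(G.left, ⊤)) := by
      intro g
      have hsum : ∀ (f : S) (a : ULift.{u} (Fin (n f))),
          ∑ b, w b • Groth.Agent.InvRing21.val g (C ⟨f, a⟩ b) =
            ∑ c, α f c • Groth.Agent.InvRing21.val g (Groth.Agent.InvRing21.coef ρ (ξ f a.down) (v f c)) := by
        intro f a
        rw [Fintype.sum_sigma, Finset.sum_eq_single f (fun x _ hx => Finset.sum_eq_zero fun c _ => by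
          rw [hC0 _ _ _ _ hx.symm, map_zero, smul_zero]) (by simp), ← Equiv.sum_comp Equiv.ulift.symm]
        simp [hC, w]
      rw [Groth.Agent.InvRing21.ofMatrix_fixed_iff]
      have hexp : ∀ f : S, ρ.ρ k g ((1 : k) ⊗ₜ[k] (f : Γ(G.left, ⊤))) =
          ∑ a, (∑ c, α f c • Groth.Agent.InvRing21.val g (Groth.Agent.InvRing21.coef ρ (ξ f a) (v f c))) ⊗ₜ[k] v f a := by
        intro f
        conv_lhs => rw [← hα f, TensorProduct.tmul_sum, map_sum]
        simp only [TensorProduct.tmul_smul, map_smul, hv f]
        simp only [Finset.smul_sum, TensorProduct.smul_tmul', TensorProduct.sum_tmul]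
        rw [Finset.sum_comm]
      constructor
      · intro h f
        rw [hexp f]
        conv_rhs => rw [← hα f, TensorProduct.tmul_sum]
        refine Finset.sum_congr rfl fun a _ => ?_
        rw [← hsum f ⟨a⟩, h ⟨f, ⟨a⟩⟩, TensorProduct.tmul_smul, TensorProduct.smul_tmul']
        simp [w]
      · rintro h ⟨f, a⟩
        rw [hsum f a]
        have := congrArg (Groth.Agent.InvRing21.ctr (ξ f a.down)) ((hexp f).symm.trans (h f))
        conv_rhs at this => rw [← hα f, TensorProduct.tmul_sum]
        simp only [map_sum, TensorProduct.tmul_smul, map_smul, Groth.Agent.InvRing21.ctr_tmul, hξ f] at this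
        simpa [w] using this
    refine ⟨J → k, inferInstance, inferInstance, inferInstance, Groth.Agent.InvRing21.ofMatrix C hmul hone, w,
      fun g => (hstab g).trans ⟨fun h => hobs g (hSdet g fun f hf => hreg g f (h ⟨f, hf⟩)), ?_⟩⟩
    rintro ⟨h, rfl⟩ f
    exact hfix _ (hS f f.2) k h
  tfae_have 2 → 1 := by
    rintro ⟨V, _, _, _, ρ, v, hv⟩ g hg
    refine (hv g).1 ?_
    refine Groth.Agent.S11191.result k G H i V ρ g hg v fun B _ _ h => ?_
    have key := Groth.Agent.InvRing21.fixed_of_points i ρ v fun h => (hv (h ≫ i)).2 ⟨h, rfl⟩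
    rw [← Groth.Agent.InvRing21.ptMap_val h, Category.assoc]
    have := congrArg (VecGrp.Wmap (Groth.Agent.InvRing21.val h)) key
    rwa [ρ.naturality, VecGrp.Wmap_tmul, map_one] at this
  tfae_finish

end Groth.Agent.S11188
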