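import Groth.Statements.S4447
import Mathlib.AlgebraicGeometry.ValuativeCriterion
import Mathlib.RingTheory.Valuation.LocalSubring

set_option autoImplicit false
universe u
open CategoryTheory CategoryTheory.Limits AlgebraicGeometry
open EGA2

namespace Groth.Agent.S4447

/-- Let p : X ⟶ Y be a morphism, x a point of X, y = p(x) and y' a specialization of y distinct from y.
Then there are a valuation ring A which is not a field, with field of fractions the residue field
k(x), and a morphism Spec A ⟶ Y mapping the closed point to y' and restricting on Spec k(x) to the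
canonical morphism Spec k(x) ⟶ X ⟶ Y (in particular the generic point of Spec A goes to y). -/
theorem result {X Y : Scheme.{u}} (p : X ⟶ Y) (x : X) (y' : Y)
    (hsp : p.base x ⤳ y') (hne : y' ≠ p.base x) :
    ∃ (A : ValuationSubring (X.residueField x)) (h : Spec (CommRingCat.of A) ⟶ Y), A ≠ ⊤ ∧
      h.base (IsLocalRing.closedPoint A) = y' ∧
      Spec.map (CommRingCat.ofHom A.subtype) ≫ h = X.fromSpecResidueField x ≫ p := by
  let ψ : Y.presheaf.stalk y' →+* X.residueField x :=
    (Y.presheaf.stalkSpecializes hsp ≫ p.stalkMap x ≫ X.residue x).hom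
  have hker : RingHom.ker ψ ≤ IsLocalRing.maximalIdeal _ := IsLocalRing.le_maximalIdeal (RingHom.ker_ne_top ψ)
  let I : Ideal ψ.range := (IsLocalRing.maximalIdeal (Y.presheaf.stalk y')).map ψ.rangeRestrict
  have hI : I ≠ ⊤ := by
    intro h
    rw [Ideal.eq_top_iff_one, Ideal.mem_map_iff_of_surjective _ ψ.rangeRestrict_surjective] at h
    obtain ⟨a, ha, ha1⟩ := h
    have : a - 1 ∈ IsLocalRing.maximalIdeal (Y.presheaf.stalk y') := hker (by
      rw [RingHom.mem_ker, map_sub, map_one, sub_eq_zero]
      exact congrArg Subtype.val ha1)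
    exact (IsLocalRing.maximalIdeal.isMaximal (Y.presheaf.stalk y')).ne_top ((Ideal.eq_top_iff_one _).2 (by simpa using Ideal.sub_mem _ ha this))
  obtain ⟨A, hA, hAI⟩ := Ideal.image_subset_nonunits_valuationSubring I hI
  let φ : Y.presheaf.stalk y' →+* A := ψ.codRestrict A.toSubring fun a => hA ⟨a, rfl⟩
  haveI : IsLocalHom (CommRingCat.ofHom φ).hom := ⟨fun a ha => by_contra fun hna => by
    have hm : ψ.rangeRestrict a ∈ I := Ideal.mem_map_of_mem _ ((IsLocalRing.mem_maximalIdeal a).2 hna)
    have h2 : (φ a : X.residueField x) ∈ A.nonunits := hAI ⟨_, hm, rfl⟩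
    rw [ValuationSubring.coe_mem_nonunits_iff, IsLocalRing.mem_maximalIdeal] at h2
    exact h2 ha⟩
  have hcl : (Spec.map (CommRingCat.ofHom φ) ≫ Y.fromSpecStalk y') (IsLocalRing.closedPoint A) = y' := by
    rw [Scheme.Hom.comp_apply]
    erw [Spec_closedPoint]
    exact Scheme.fromSpecStalk_closedPoint
  have hcomp : Spec.map (CommRingCat.ofHom A.subtype) ≫ Spec.map (CommRingCat.ofHom φ) ≫ Y.fromSpecStalk y' =
      X.fromSpecResidueField x ≫ p := by
    rw [← Spec.map_comp_assoc]
    show Spec.map (Y.presheaf.stalkSpecializes hsp ≫ p.stalkMap x ≫ X.residue x) ≫ _ = _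
    rw [Spec.map_comp, Spec.map_comp, Category.assoc, Category.assoc, Scheme.SpecMap_stalkSpecializes_fromSpecStalk,
      Scheme.SpecMap_stalkMap_fromSpecStalk]
    rfl
  refine ⟨A, Spec.map (CommRingCat.ofHom φ) ≫ Y.fromSpecStalk y', fun hA' => hne ?_, hcl, hcomp⟩
  subst hA'
  haveI : IsLocalHom (CommRingCat.ofHom (⊤ : ValuationSubring (X.residueField x)).subtype).hom :=
    ⟨fun a ha => IsUnit.of_mul_eq_one (⟨(a : X.residueField x)⁻¹, trivial⟩) (Subtype.ext (mul_inv_cancel₀ ha.ne_zero))⟩
  have hpt : (Spec.map (CommRingCat.ofHom (⊤ : ValuationSubring (X.residueField x)).subtype)) (IsLocalRing.closedPoint (X.residueField x)) =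
      IsLocalRing.closedPoint (⊤ : ValuationSubring (X.residueField x)) := Spec_closedPoint
  rw [← hcl, ← hpt, ← Scheme.Hom.comp_apply, hcomp, Scheme.Hom.comp_apply, X.fromSpecResidueField_apply]

end Groth.Agent.S4447
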