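import Groth.Statements.S3023
import Groth.Agent.Lib.PureClosed13.Basic
import Groth.Agent.Lib.GrpNeutral20.Conj
import Groth.Agent.Lib.AbRigid.GrpTop
import Groth.Agent.Lib.AbRigid.Image

set_option autoImplicit false
universe u
open CategoryTheory MonoidalCategory CartesianMonoidalCategory MonObj GrpObj AlgebraicGeometry TensorProduct
open SGA3

namespace Groth.Agent.S3023

/-- Let G be a group scheme over a field k (not necessarily locally of finite type). There is a group
scheme G⁰ over k with a homomorphism G⁰ ⟶ G that is a flat closed immersion (so the local rings of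
G⁰ are those of G) and whose image is the connected component of the identity point of G. The
published statement describes this underlying space as the irreducible component of the identity
point, which coincides with its connected component; the connected component is the form used here. -/
theorem result (k : Type u) [Field k] (G : Over (Spec (CommRingCat.of k))) [GrpObj G] :
    ∃ (G0 : Over (Spec (CommRingCat.of k))) (_ : GrpObj G0) (i : G0 ⟶ G), IsMonHom i ∧ IsClosedImmersion i.left ∧ Flat i.left ∧
      (∀ pt : ↥(𝟙_ (Over (Spec (CommRingCat.of k)))).left, Set.range i.left.base = connectedComponent (η[G].left.base pt)) := by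
  let pt : ↥(𝟙_ (Over (Spec (CommRingCat.of k)))).left := (IsLocalRing.closedPoint k : Spec (CommRingCat.of k))
  let C : Set G.left := connectedComponent (η[G].left.base pt)
  have hgen : StableUnderGeneralization C := fun x y hyx hx => by
    have hc : _root_.IsPreconnected (closure ({y} : Set G.left)) := isPreconnected_singleton.closure
    show y ∈ connectedComponent (η[G].left.base pt)
    rw [connectedComponent_eq hx]
    exact hc.subset_connectedComponent (specializes_iff_mem_closure.1 hyx) (subset_closure rfl)
  let I := PureClosed13.flatIdeal (X := G.left) (Z := C) isClosed_connectedComponent hgen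
  haveI : Flat I.subschemeι := PureClosed13.flat_flatIdeal isClosed_connectedComponent hgen
  let Z : Over (Spec (CommRingCat.of k)) := Over.mk (I.subschemeι ≫ G.hom)
  let i : Z ⟶ G := Over.homMk I.subschemeι rfl
  haveI : IsClosedImmersion i.left := inferInstanceAs (IsClosedImmersion I.subschemeι)
  haveI : Mono i := Over.mono_of_mono_left i
  have hrange : Set.range i.left = C := by
    show Set.range I.subschemeι = _
    rw [Scheme.IdealSheafData.range_subschemeι]
    exact PureClosed13.support_flatIdeal isClosed_connectedComponent hgen
  have lift' : ∀ {T : Over (Spec (CommRingCat.of k))} (g : T ⟶ G), Set.range g.left ⊆ C → ∃ g' : T ⟶ Z, g' ≫ i = g := by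
    intro T g hg
    obtain ⟨l, hl⟩ := PureClosed13.exists_lift I g.left (by
      rw [PureClosed13.support_flatIdeal isClosed_connectedComponent hgen]; exact hg)
    refine ⟨Over.homMk l ?_, Over.OverMorphism.ext hl⟩
    show l ≫ I.subschemeι ≫ G.hom = T.hom
    rw [reassoc_of% hl, Over.w g]
  haveI : Subsingleton (Spec (CommRingCat.of k)) := inferInstanceAs (Subsingleton (PrimeSpectrum k))
  have hN : SGA3x.neutralSet G = C := GrpNeutral20.neutralSet_eq_of_subsingleton G pt
  obtain ⟨m, hm⟩ := lift' ((i ⊗ₘ i) ≫ μ[G]) (by
    rintro _ ⟨z, rfl⟩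
    rw [AbRigid.left_comp_apply, ← hN]
    refine GrpNeutral20.mul_mem G _ ?_ ?_
    · rw [← AbRigid.left_comp_apply, tensorHom_fst, AbRigid.left_comp_apply, hN, ← hrange]; exact ⟨_, rfl⟩
    · rw [← AbRigid.left_comp_apply, tensorHom_snd, AbRigid.left_comp_apply, hN, ← hrange]; exact ⟨_, rfl⟩)
  obtain ⟨e, he⟩ := lift' η[G] (by
    rintro _ ⟨z, rfl⟩
    obtain rfl : z = pt := Subsingleton.elim (α := Spec (CommRingCat.of k)) _ _
    exact mem_connectedComponent)
  obtain ⟨v, hv⟩ := lift' (i ≫ ι[G]) (by
    rintro _ ⟨z, rfl⟩
    rw [AbRigid.left_comp_apply, ← hN]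
    exact GrpNeutral20.inv_mem G (hN ▸ hrange ▸ ⟨z, rfl⟩))
  letI := AbRigid.grpObjOfMono i e he m hm v hv
  refine ⟨Z, inferInstance, i, ⟨he, hm⟩, inferInstance, inferInstanceAs (Flat I.subschemeι), fun pt' => ?_⟩
  obtain rfl : pt' = pt := Subsingleton.elim (α := Spec (CommRingCat.of k)) _ _
  exact hrange

end Groth.Agent.S3023
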