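import Groth.Statements.S11189
import Groth.Agent.Lib.InvRing21.Quot
import Groth.Agent.S11188
-- import your own Groth.Agent.* helpers here

set_option autoImplicit false
universe u
open CategoryTheory MonoidalCategory CartesianMonoidalCategory MonObj GrpObj AlgebraicGeometry
open scoped TensorProduct
open AGF

namespace Groth.Agent.S11189

/-- Let k be an algebraically closed field, G a linear algebraic group over k (an affine smooth group
scheme over k) and H a closed subgroup of G (a smooth closed subgroup scheme, i : H → G), and let X,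
with G-action a and base point o, be the quotient G/H. Then H is observable in G if and only if X is
quasi-affine (quasi-compact and an open subscheme of an affine scheme). -/
theorem result (k : Type u) [Field k] [IsAlgClosed k]
    (G : Over (Spec (CommRingCat.of k))) [GrpObj G] [IsAffine G.left] [Smooth G.hom]
    (H : Over (Spec (CommRingCat.of k))) [GrpObj H] [Smooth H.hom] (i : H ⟶ G) [IsMonHom i]
    [IsClosedImmersion i.left]
    (X : Over (Spec (CommRingCat.of k))) (a : AlgGrp.Action G X) (o : 𝟙_ (Over (Spec (CommRingCat.of k))) ⟶ X)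
    (hX : AGF.IsQuotient i X a o) :
    AGF.IsObservableIn k i ↔ X.left.IsQuasiAffine := by
  classical
  haveI : IsAffine H.left := isAffine_of_isAffineHom i.left
  letI := Groth.Agent.InvRing21.gamAlg G
  haveI hsepX := Groth.Agent.InvRing21.IsQuotient.isSeparated hX
  haveI hcompX := Groth.Agent.InvRing21.IsQuotient.compactSpace hX
  haveI hlftX : LocallyOfFiniteType X.hom := hX.1
  have hpt : Spec.map (CommRingCat.ofHom (algebraMap k k)) = 𝟙 _ := by
    rw [show CommRingCat.ofHom (algebraMap k k) = 𝟙 _ from rfl, Spec.map_id]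
  constructor
  · intro hobs
    obtain ⟨s, hs, hsep⟩ := ((Groth.Agent.S11188.result k G H i).out 0 2).1 hobs
    choose F hF using fun f : s => (Groth.Agent.InvRing21.IsQuotient.appTop_bijOn hX).2 f (hs f f.2)
    refine Groth.Agent.InvRing21.isQuasiAffine_of_separating X.hom (Finset.univ.image F) fun p q hp hq hpq => ?_
    obtain ⟨g, hg⟩ := Groth.Agent.InvRing21.IsQuotient.exists_lift hX p hp
    obtain ⟨g', hg'⟩ := Groth.Agent.InvRing21.IsQuotient.exists_lift hX q hq
    have hval : ∀ (z : VecGrp.pt k k ⟶ G) (x : Γ(X.left, ⊤)),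
        z.left.appTop ((a.orbitMap o).left.appTop x) = (z.left ≫ (a.orbitMap o).left).appTop x := fun z x => by
      rw [Scheme.Hom.comp_appTop, CommRingCat.comp_apply]
    obtain ⟨h, hh⟩ := hsep g g' fun f hf => by
      have := hpq (F ⟨f, hf⟩) (Finset.mem_image_of_mem F (Finset.mem_univ _))
      have e : ∀ (z : VecGrp.pt k k ⟶ G), z.left.appTop f = (z.left ≫ (a.orbitMap o).left).appTop (F ⟨f, hf⟩) :=
        fun z => by rw [← hval, hF]
      rw [e, e]
      subst hg hg'
      exact this
    rw [← hg, ← hg']
    exact congrArg CommaMorphism.left ((Groth.Agent.InvRing21.IsQuotient.comp_eq_iff hX g g').2 ⟨h, hh⟩)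
  · intro hqa g hg
    haveI := hqa
    have key : g ≫ a.orbitMap o = (1 : VecGrp.pt k k ⟶ G) ≫ a.orbitMap o := by
      refine Over.OverMorphism.ext (Groth.Agent.InvRing21.eq_of_appTop_eq _ _ ?_)
      refine CommRingCat.hom_ext (RingHom.ext fun x => ?_)
      have h1 := (Groth.Agent.InvRing21.isRTransInv_pt_iff_val g _).1
        (hg _ (Groth.Agent.InvRing21.IsQuotient.isRTransInv_appTop hX x)) 1
      rw [_root_.one_mul g, Groth.Agent.InvRing21.appTop_val, Groth.Agent.InvRing21.appTop_val] at h1
      exact (Scheme.ΓSpecIso (CommRingCat.of k)).commRingCatIsoToRingEquiv.injective h1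
    obtain ⟨h, hh⟩ := (Groth.Agent.InvRing21.IsQuotient.comp_eq_iff hX _ _).1 key.symm
    exact ⟨h, by rw [hh, _root_.one_mul (h ≫ i)]⟩

end Groth.Agent.S11189
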