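import Groth.Statements.S11195
import Groth.Agent.Lib.InvRing21.Line
-- import your own Groth.Agent.* helpers here

set_option autoImplicit false
universe u
open CategoryTheory MonoidalCategory CartesianMonoidalCategory MonObj GrpObj AlgebraicGeometry
open scoped TensorProduct
open AGF

namespace Groth.Agent.S11195

/-- Let k be an algebraically closed field, G a linear algebraic group over k, K a closed subgroup of G
and H a closed subgroup of K (j : K → G, i : H → K smooth closed subgroup schemes). When H is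
observable in K, and K in G, H is also observable in G. -/
theorem result (k : Type u) [Field k] [IsAlgClosed k]
    (G : Over (Spec (CommRingCat.of k))) [GrpObj G] [IsAffine G.left] [Smooth G.hom]
    (K : Over (Spec (CommRingCat.of k))) [GrpObj K] [Smooth K.hom] (j : K ⟶ G) [IsMonHom j] [IsClosedImmersion j.left]
    (H : Over (Spec (CommRingCat.of k))) [GrpObj H] [Smooth H.hom] (i : H ⟶ K) [IsMonHom i] [IsClosedImmersion i.left]
    (hH : AGF.IsObservableIn k i) (hK : AGF.IsObservableIn k j) :
    AGF.IsObservableIn k (i ≫ j) := by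
  haveI : IsAffine K.left := isAffine_of_isAffineHom j.left
  haveI : IsAffine H.left := isAffine_of_isAffineHom i.left
  haveI : IsClosedImmersion (i ≫ j).left := inferInstanceAs (IsClosedImmersion (i.left ≫ j.left))
  letI := Groth.Agent.InvRing21.gamAlg G
  letI := Groth.Agent.InvRing21.gamAlg K
  letI := Groth.Agent.InvRing21.gamAlg H
  refine Groth.Agent.InvRing21.observable_of_inverse fun χ hm f hf hf1 => ?_
  haveI := hm
  have hf' : Groth.Agent.InvRing21.Semi i (fun h => Groth.Agent.InvRing21.val h (Red.gmFn χ)) (j.left.appTop f) :=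
    fun x h => by
      simp only [Groth.Agent.InvRing21.appTop_val]
      rw [MonObj.mul_comp, Category.assoc]
      exact hf _ h
  obtain ⟨d, hd, hd1⟩ := hf'.exists_inv hH (by
    rw [Groth.Agent.InvRing21.appTop_val, MonObj.one_comp j, hf1]; exact one_ne_zero)
  have hinv : ∀ h, (Groth.Agent.InvRing21.val h (Red.gmFn χ⁻¹) : k) = (Groth.Agent.InvRing21.val h (Red.gmFn χ))⁻¹ :=
    fun h => eq_inv_of_mul_eq_one_left (Groth.Agent.InvRing21.val_gmFn_inv χ h)
  obtain ⟨χ', hχ', hu⟩ := Groth.Agent.InvRing21.exists_char (Red.gmFn χ⁻¹)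
    (by rw [hinv, Groth.Agent.InvRing21.val_gmFn_one, inv_one])
    fun g h => by rw [hinv, hinv, hinv, Groth.Agent.InvRing21.val_gmFn_mul, _root_.mul_inv]
  haveI : IsMonHom χ⁻¹ := GmPts.gmFn_injective hu ▸ hχ'
  obtain ⟨V, _, _, _, σ, v, hv, hc⟩ := Groth.Agent.InvRing21.exists_vector_of_semi χ⁻¹ (hd.congr fun h => (hinv h).symm)
    fun h0 => hd1 (by rw [h0, map_zero])
  obtain ⟨W, _, _, _, ρ, φ, hφ, hcW⟩ := Groth.Agent.InvRing21.extendsAlong_of_observable hK σ
  obtain ⟨d', hd', hd1'⟩ := Groth.Agent.InvRing21.exists_semi_of_char_vector (i := i ≫ j) χ⁻¹ ρ (φ v)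
    (fun h0 => hv (hφ (h0.trans (map_zero φ).symm))) (fun B _ _ h => by
      have := hcW B (h ≫ i) ((1 : B) ⊗ₜ[k] v)
      rw [hc B h, map_smul, LinearMap.baseChange_tmul, Category.assoc] at this
      exact this.symm)
  exact ⟨d', hd'.congr hinv, by rw [hd1']; exact one_ne_zero⟩

end Groth.Agent.S11195
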