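import Groth.Statements.S11194
import Groth.Agent.Lib.InvRing21.OpenSubgroup
import Groth.Agent.S11195
-- import your own Groth.Agent.* helpers here

set_option autoImplicit false
universe u
open CategoryTheory MonoidalCategory CartesianMonoidalCategory MonObj GrpObj AlgebraicGeometry
open scoped TensorProduct
open AGF

namespace Groth.Agent.S11194

/-- (i) ⇔ (iii): let k be an algebraically closed field, G a linear algebraic group over k (an affine
smooth group scheme over k) and H a closed subgroup of G (a smooth closed subgroup scheme, i : H →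
G); let G₀ ⊆ G and H₀ ⊆ H be the identity components (connected open subgroup schemes) and i₀ : H₀ →
G₀ the induced homomorphism. Then H is observable in G if and only if H₀ is observable in G₀. -/
theorem result (k : Type u) [Field k] [IsAlgClosed k]
    (G : Over (Spec (CommRingCat.of k))) [GrpObj G] [IsAffine G.left] [Smooth G.hom]
    (H : Over (Spec (CommRingCat.of k))) [GrpObj H] [Smooth H.hom] (i : H ⟶ G) [IsMonHom i]
    [IsClosedImmersion i.left]
    (G₀ : Over (Spec (CommRingCat.of k))) [GrpObj G₀] [ConnectedSpace G₀.left] (jG : G₀ ⟶ G) [IsMonHom jG]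
    [IsOpenImmersion jG.left]
    (H₀ : Over (Spec (CommRingCat.of k))) [GrpObj H₀] [ConnectedSpace H₀.left] (jH : H₀ ⟶ H) [IsMonHom jH]
    [IsOpenImmersion jH.left] (i₀ : H₀ ⟶ G₀) [IsMonHom i₀] (hc : i₀ ≫ jG = jH ≫ i) :
    AGF.IsObservableIn k i ↔ AGF.IsObservableIn k i₀ := by
  haveI : IsAffine H.left := isAffine_of_isAffineHom i.left
  haveI : IsClosedImmersion jG.left := Groth.Agent.InvRing21.isClosedImmersion_of_open_subgroup jG
  haveI : IsClosedImmersion jH.left := Groth.Agent.InvRing21.isClosedImmersion_of_open_subgroup jH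
  haveI : IsAffine G₀.left := isAffine_of_isAffineHom jG.left
  haveI : IsAffine H₀.left := isAffine_of_isAffineHom jH.left
  haveI : Smooth G₀.hom := Groth.Agent.InvRing21.smooth_of_openImmersion jG
  haveI : Smooth H₀.hom := Groth.Agent.InvRing21.smooth_of_openImmersion jH
  haveI : IsClosedImmersion (i₀.left ≫ jG.left) := by
    rw [← Over.comp_left, hc, Over.comp_left]; infer_instance
  haveI : IsClosedImmersion i₀.left := IsClosedImmersion.of_comp i₀.left jG.left
  letI := Groth.Agent.InvRing21.gamAlg G
  constructor
  · intro hobs g hg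
    have hjH : AGF.IsObservableIn k (jH ≫ i) :=
      Groth.Agent.S11195.result k G H i H₀ jH (Groth.Agent.InvRing21.observable_of_open jH) hobs
    obtain ⟨y, hy⟩ := hjH (g ≫ jG) fun F hF => by
      rw [Groth.Agent.InvRing21.isRTransInv_pt_iff_val]
      intro x
      have hf : AGF.IsRTransInv i₀ ((jG ≫ Groth.Agent.InvRing21.lTr x).left.appTop F) := by
        rw [Groth.Agent.InvRing21.isRTransInv_iff_val]
        intro y κ
        rw [Groth.Agent.InvRing21.appTop_val, Groth.Agent.InvRing21.appTop_val, ← Category.assoc, ← Category.assoc,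
          Groth.Agent.InvRing21.comp_lTr, Groth.Agent.InvRing21.comp_lTr, MonObj.mul_comp, Category.assoc κ i₀ jG,
          hc, ← _root_.mul_assoc]
        exact (Groth.Agent.InvRing21.isRTransInv_iff_val _ _).1 hF _ κ
      have := (Groth.Agent.InvRing21.isRTransInv_pt_iff_val g _).1 (hg _ hf) 1
      rwa [Groth.Agent.InvRing21.appTop_val, Groth.Agent.InvRing21.appTop_val, ← Category.assoc, ← Category.assoc,
        Groth.Agent.InvRing21.comp_lTr, Groth.Agent.InvRing21.comp_lTr, _root_.one_mul g, MonObj.one_comp,
        _root_.mul_one, Groth.Agent.InvRing21.toPt_pt, Category.id_comp] at this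
    refine ⟨y, ?_⟩
    have : (y ≫ i₀) ≫ jG = g ≫ jG := by rw [Category.assoc, hc]; exact hy
    haveI : Mono jG := Over.mono_of_mono_left jG
    exact (cancel_mono jG).1 ‹_›
  · intro hobs
    have h0 : AGF.IsObservableIn k (i₀ ≫ jG) :=
      Groth.Agent.S11195.result k G G₀ jG H₀ i₀ hobs (Groth.Agent.InvRing21.observable_of_open jG)
    rw [hc] at h0
    exact Groth.Agent.InvRing21.observable_of_inverse fun χ hm f hf hf1 =>
      Groth.Agent.InvRing21.exists_inv_of_open jH i h0 hf hf1

end Groth.Agent.S11194
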