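import Groth.Statements.S11196
import Groth.Agent.Lib.BorelFix21.Fix
import Groth.Agent.Lib.BorelFix21.Component
import Groth.Agent.S11194
-- import your own Groth.Agent.* helpers here

set_option autoImplicit false
universe u
open CategoryTheory MonoidalCategory CartesianMonoidalCategory MonObj GrpObj AlgebraicGeometry
open scoped TensorProduct
open AGF

namespace Groth.Agent.S11196

/-- Let k be an algebraically closed field, G a linear algebraic group over k (an affine smooth group
scheme over k) and H a closed subgroup of G (a smooth closed subgroup scheme, i : H → G), with G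
solvable. Then H is observable in G. -/
theorem result (k : Type u) [Field k] [IsAlgClosed k]
    (G : Over (Spec (CommRingCat.of k))) [GrpObj G] [IsAffine G.left] [Smooth G.hom]
    (H : Over (Spec (CommRingCat.of k))) [GrpObj H] [Smooth H.hom] (i : H ⟶ G) [IsMonHom i]
    [IsClosedImmersion i.left]
    (hs : Red.IsSolvableGrp G) :
    AGF.IsObservableIn k i := by
  obtain ⟨G₀, _, jG, hjG, hjo, hcG⟩ := Groth.Agent.BorelFix21.exists_identity_component G
  obtain ⟨H₀, _, jH, hjH, hjHo, hcH⟩ := Groth.Agent.BorelFix21.exists_identity_component H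
  haveI := hjG; haveI := hjo; haveI := hcG; haveI := hjH; haveI := hjHo; haveI := hcH
  haveI : IsClosedImmersion jG.left := Groth.Agent.InvRing21.isClosedImmersion_of_open_subgroup jG
  haveI : Mono jG := Over.mono_of_mono_left jG
  haveI : IsAffine G₀.left := isAffine_of_isAffineHom jG.left
  haveI : Smooth G₀.hom := Groth.Agent.InvRing21.smooth_of_openImmersion jG
  haveI : IsAffine H.left := isAffine_of_isAffineHom i.left
  haveI : Smooth H₀.hom := Groth.Agent.InvRing21.smooth_of_openImmersion jH
  haveI : IsClosedImmersion jH.left := Groth.Agent.InvRing21.isClosedImmersion_of_open_subgroup jH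
  haveI : IsAffine H₀.left := isAffine_of_isAffineHom jH.left
  let pt : Spec (CommRingCat.of k) := IsLocalRing.closedPoint k
  have he : (jH ≫ i).left (η[H₀].left pt) = η[G].left pt :=
    Groth.Agent.OrbitTop19.apply_comp_left η[H₀] (jH ≫ i) η[G]
      (by rw [← Category.assoc, IsMonHom.one_hom, IsMonHom.one_hom]) pt
  have he' : η[G].left pt ∈ Set.range jG.left := ⟨η[G₀].left pt,
    Groth.Agent.OrbitTop19.apply_comp_left η[G₀] jG η[G] (IsMonHom.one_hom jG) pt⟩
  have hr : Set.range (jH ≫ i).left ⊆ Set.range jG.left :=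
    (isPreconnected_range (jH ≫ i).left.continuous).subset_isClopen
      ⟨jG.left.isClosedEmbedding.isClosed_range, jG.left.isOpenEmbedding.isOpen_range⟩
      ⟨_, ⟨_, rfl⟩, he ▸ he'⟩
  let i₀ : H₀ ⟶ G₀ := Over.homMk (IsOpenImmersion.lift jG.left (jH ≫ i).left hr)
    (by rw [← Over.w jG, ← Category.assoc, IsOpenImmersion.lift_fac, Over.w])
  have hc : i₀ ≫ jG = jH ≫ i := Over.OverMorphism.ext (IsOpenImmersion.lift_fac _ _ _)
  haveI : IsMonHom i₀ :=
    { one_hom := by
        rw [← cancel_mono jG, Category.assoc, hc, ← Category.assoc, IsMonHom.one_hom jH, IsMonHom.one_hom i, IsMonHom.one_hom jG]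
      mul_hom := by
        rw [← cancel_mono jG, Category.assoc, Category.assoc, hc, IsMonHom.mul_hom jG,
          MonoidalCategory.tensorHom_comp_tensorHom_assoc, hc, IsMonHom.mul_hom] }
  haveI : IsClosedImmersion (i₀.left ≫ jG.left) := by
    rw [← Over.comp_left, hc, Over.comp_left]; infer_instance
  haveI : IsClosedImmersion i₀.left := IsClosedImmersion.of_comp i₀.left jG.left
  haveI : Group.IsSolvable (VecGrp.pt k k ⟶ G) := (isSolvable_def _).2 ⟨hs.choose, hs.choose_spec _⟩
  let F : (VecGrp.pt k k ⟶ G₀) →* (VecGrp.pt k k ⟶ G) :=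
    MonoidHom.mk' (fun g => g ≫ jG) (fun g h => MonObj.mul_comp g h jG)
  haveI : Group.IsSolvable (VecGrp.pt k k ⟶ G₀) :=
    Group.isSolvable_of_isSolvable_injective (f := F) fun _ _ h => (cancel_mono jG).1 h
  exact (Groth.Agent.S11194.result k G H i G₀ jG H₀ jH i₀ hc).2
    (Groth.Agent.InvRing21.observable_of_inverse fun _ _ _ hf hf1 =>
      Groth.Agent.BorelFix21.exists_inv_semi i₀ hf hf1)

end Groth.Agent.S11196
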