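import Groth.Statements.S2979
import Groth.Agent.Lib.MultType.TwistNil

set_option autoImplicit false
universe u
open TensorProduct SGA3b
open SGA3b

namespace Groth.Agent.S2979

/-- Let R be a ring and I an ideal consisting of nilpotent elements. Every quasi-isotrivial (R/I)-group
of multiplicative type Spec A₀ is the base change of some quasi-isotrivial R-group of multiplicative
type Spec A. (Affine group schemes over an affine base are taken in Hopf-algebra form; base change
is the tensor product.) -/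
theorem result (R : Type u) [CommRing R] (I : Ideal R) (hI : ∀ x ∈ I, IsNilpotent x)
    (A₀ : Type u) [CommRing A₀] [HopfAlgebra (R ⧸ I) A₀] (h0 : IsQuasiIsotrivial (R ⧸ I) A₀) :
    ∃ (A : Type u) (_ : CommRing A) (_ : HopfAlgebra R A), IsQuasiIsotrivial R A ∧ Nonempty (((R ⧸ I) ⊗[R] A) ≃ₐc[R ⧸ I] A₀) := by
  obtain ⟨A, _, _, hA, ⟨e⟩⟩ := MultTypeLib.exists_nil_lift hI h0
  refine ⟨A, inferInstance, inferInstance, MultTypeLib.isQuasiIsotrivial_of_mod_nil hI hA ?_, ⟨e⟩⟩
  obtain ⟨s, hs, hf⟩ := h0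
  refine ⟨s, hs, fun f hfs => ?_⟩
  obtain ⟨T, _, _, hTe, hTf, hd⟩ := hf f hfs
  exact ⟨T, inferInstance, inferInstance, hTe, hTf,
    MultTypeLib.isDiag_congr (MultTypeLib.bcEquiv T (MultTypeLib.bcEquiv (Localization.Away f) e.symm)) hd⟩

end Groth.Agent.S2979
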