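import Groth.Statements.S18878
import Groth.Agent.Lib.SubGrp13.Basic

set_option autoImplicit false
universe u
open Lim

namespace Groth.Agent.S18878

set_option backward.isDefEq.respectTransparency false
set_option backward.isDefEq.respectTransparency.types false
set_option synthInstance.maxHeartbeats 200000

open scoped CategoryTheory.MonObj

open CategoryTheory AlgebraicGeometry in
/-- Let S = lim S_i be a cofiltered limit of schemes with affine transition morphisms over a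
quasi-compact quasi-separated stage S_{i₀}, let G₀ be a group scheme separated and of finite
presentation over S_{i₀} and H₀ ⊆ G₀ a closed subscheme whose immersion is of finite presentation,
and write G, H (resp. G_i, H_i) for the base changes to S (resp. to a stage S_i). If H is a closed
subgroup scheme of G, that is H carries a group structure over S for which H → G is a homomorphism,
then H_i is a closed subgroup scheme of G_i for some stage i → i₀; if moreover H is normal in G, the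
stage can be chosen so that H_i is normal in G_i. (The published statement is for separated finitely
presented group algebraic spaces and an arbitrary closed subspace H₀; this row is the case of
schemes and assumes H₀ → G₀ of finite presentation: over the limit Spec k of the spectra of k[x_1,
x_2, …]/(x_1, …, x_n), k of characteristic zero, the closed subscheme of the additive group cut out
by all x_m t^m becomes the whole additive group over Spec k but is a subgroup over no stage, so a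
finiteness condition on H₀ is needed, and finite presentation is what the published limit argument
uses.) -/
theorem result
    {I : Type u} [SmallCategory I] [IsCofiltered I]
    (D : I ⥤ Scheme.{u}) (c : Limits.Cone D) (hc : Limits.IsLimit c)
    [∀ (i j : I) (a : i ⟶ j), IsAffineHom (D.map a)] (i₀ : I)
    [CompactSpace (D.obj i₀)] [QuasiSeparatedSpace (D.obj i₀)]
    (G₀ : Over (D.obj i₀)) [GrpObj G₀] [IsSeparated G₀.hom] [QuasiCompact G₀.hom]
    [LocallyOfFinitePresentation G₀.hom]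
    (H₀ : Over (D.obj i₀)) (ι₀ : H₀ ⟶ G₀) [IsClosedImmersion ι₀.left]
    [LocallyOfFinitePresentation ι₀.left]
    (hH : ∃ _ : GrpObj (Red.bc (c.π.app i₀) H₀), IsMonHom ((Over.pullback (c.π.app i₀)).map ι₀)) :
    (∃ (i : I) (a : i ⟶ i₀) (_ : GrpObj (Red.bc (D.map a) H₀)),
        IsMonHom ((Over.pullback (D.map a)).map ι₀)) ∧
    ((∃ (_ : GrpObj (Red.bc (c.π.app i₀) H₀)) (_ : IsMonHom ((Over.pullback (c.π.app i₀)).map ι₀)),
        AlgGrp.IsNormalHom ((Over.pullback (c.π.app i₀)).map ι₀)) →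
      ∃ (i : I) (a : i ⟶ i₀) (_ : GrpObj (Red.bc (D.map a) H₀))
        (_ : IsMonHom ((Over.pullback (D.map a)).map ι₀)),
        AlgGrp.IsNormalHom ((Over.pullback (D.map a)).map ι₀)) := by
  haveI : ∀ {i j : I} (a : i ⟶ j), IsAffineHom (D.map a) := fun a => inferInstance
  haveI : QuasiCompact H₀.hom := by rw [← Over.w ι₀]; infer_instance
  open MonoidalCategory in
  haveI : QuasiCompact (H₀ ⊗ H₀).hom := by
    rw [Over.tensorObj_hom]
    infer_instance
  open MonoidalCategory in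
  haveI : QuasiCompact (G₀ ⊗ H₀).hom := by
    rw [Over.tensorObj_hom]
    infer_instance
  open MonoidalCategory in
  haveI : QuasiCompact (𝟙_ (Over (D.obj i₀))).hom := inferInstanceAs (QuasiCompact (𝟙 (D.obj i₀)))
  obtain ⟨gr, hmon⟩ := hH
  obtain ⟨h₁, h₂, h₃⟩ := @SubGrp13.factors_of_isMonHom _ _ (c.π.app i₀) _ _ _ ι₀ gr hmon
  obtain ⟨j₁, a₁, k₁⟩ := SubGrp13.exists_factors hc i₀ _ ι₀ h₁
  obtain ⟨j₂, a₂, k₂⟩ := SubGrp13.exists_factors hc i₀ _ ι₀ h₂
  obtain ⟨j₃, a₃, k₃⟩ := SubGrp13.exists_factors hc i₀ _ ι₀ h₃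
  obtain ⟨j₀, b₁₂, b₃⟩ : ∃ (j₀ : I) (_ : j₀ ⟶ IsCofiltered.min j₁ j₂), Nonempty (j₀ ⟶ j₃) :=
    ⟨IsCofiltered.min (IsCofiltered.min j₁ j₂) j₃, IsCofiltered.minToLeft _ _, ⟨IsCofiltered.minToRight _ _⟩⟩
  let j := j₀
  obtain ⟨b₃⟩ := b₃
  let b₁ : j ⟶ j₁ := b₁₂ ≫ IsCofiltered.minToLeft _ _
  let b₂ : j ⟶ j₂ := b₁₂ ≫ IsCofiltered.minToRight _ _
  obtain ⟨m, w, e₁, e₂⟩ : ∃ (m : I) (w : m ⟶ j), (w ≫ b₁) ≫ a₁ = (w ≫ b₂) ≫ a₂ ∧
      (w ≫ b₁) ≫ a₁ = (w ≫ b₃) ≫ a₃ := by
    let w₁ := IsCofiltered.eqHom (b₁ ≫ a₁) (b₂ ≫ a₂)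
    let w₂ := IsCofiltered.eqHom (w₁ ≫ b₁ ≫ a₁) (w₁ ≫ b₃ ≫ a₃)
    refine ⟨_, w₂ ≫ w₁, ?_, ?_⟩
    · simp only [Category.assoc]
      exact congrArg (w₂ ≫ ·) (IsCofiltered.eq_condition _ _)
    · simp only [Category.assoc]
      exact IsCofiltered.eq_condition _ _
  let a : m ⟶ i₀ := (w ≫ b₁) ≫ a₁
  have K : ∀ {m' : I} (v : m' ⟶ m), SubGrp13.Factors (D.map (v ≫ a)) (SubGrp13.mulHom ι₀) ι₀ ∧
      SubGrp13.Factors (D.map (v ≫ a)) (1 : MonoidalCategory.tensorUnit (Over (D.obj i₀)) ⟶ G₀) ι₀ ∧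
      SubGrp13.Factors (D.map (v ≫ a)) ι₀⁻¹ ι₀ := fun v =>
    ⟨k₁.comp (b' := D.map (v ≫ w ≫ b₁)) (by rw [← D.map_comp]; simp [a]),
      k₂.comp (b' := D.map (v ≫ w ≫ b₂)) (by
        rw [← D.map_comp]; simp only [a, e₁, Category.assoc]),
      k₃.comp (b' := D.map (v ≫ w ≫ b₃)) (by
        rw [← D.map_comp]; simp only [a, e₂, Category.assoc])⟩
  refine ⟨?_, ?_⟩
  · obtain ⟨g, hg⟩ := SubGrp13.exists_grpObj (D.map (𝟙 m ≫ a)) ι₀ (K (𝟙 m))
    exact ⟨m, 𝟙 m ≫ a, g, hg⟩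
  · rintro ⟨gr', hmon', hN⟩
    have h₄ := @SubGrp13.factors_conj_of_isNormalHom _ _ (c.π.app i₀) _ _ _ ι₀ gr' hN
    obtain ⟨j₄, a₄, k₄⟩ := SubGrp13.exists_factors hc i₀ _ ι₀ h₄
    let v₁ := IsCofiltered.minToLeft m j₄
    let v₂ := IsCofiltered.minToRight m j₄
    let v₃ := IsCofiltered.eqHom (v₁ ≫ a) (v₂ ≫ a₄)
    obtain ⟨g, hg⟩ := SubGrp13.exists_grpObj (D.map ((v₃ ≫ v₁) ≫ a)) ι₀ (K (v₃ ≫ v₁))
    refine ⟨_, (v₃ ≫ v₁) ≫ a, g, hg,
      @SubGrp13.isNormalHom_of_factors _ _ _ _ _ _ ι₀ g (k₄.comp (b' := D.map (v₃ ≫ v₂)) ?_)⟩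
    rw [← D.map_comp]
    congr 1
    simp only [Category.assoc]
    exact (IsCofiltered.eq_condition _ _).symm

end Groth.Agent.S18878
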