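import Groth.Statements.S9220
import Groth.Agent.Lib.LimH13.KerFG
import Groth.Agent.S0591
import Groth.Agent.S9189

set_option autoImplicit false
universe u
open CategoryTheory AlgebraicGeometry
open Lim

namespace Groth.Agent.S9220

set_option backward.isDefEq.respectTransparency false
set_option backward.isDefEq.respectTransparency.types false


/-- Let S = lim S_i be a cofiltered limit of quasi-compact quasi-separated schemes with affine
transition morphisms, and let I be a quasi-coherent sheaf of ideals of finite type on S (its ideal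
of sections on every affine open is finitely generated). Then for some index i there is a
quasi-coherent sheaf of ideals of finite type I_i on S_i such that I = I_i · O_S, the pullback ideal
sheaf along S → S_i. -/
theorem result {I : Type u} [SmallCategory I] [IsCofiltered I]
    (D : I ⥤ Scheme.{u}) (c : Limits.Cone D) (hc : Limits.IsLimit c)
    [∀ (i j : I) (f : i ⟶ j), IsAffineHom (D.map f)] [∀ i, CompactSpace (D.obj i)]
    [∀ i, QuasiSeparatedSpace (D.obj i)] (J : c.pt.IdealSheafData)
    (hJ : ∀ U : c.pt.affineOpens, (J.ideal U).FG) :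
    ∃ (i : I) (Ji : (D.obj i).IdealSheafData), (∀ U : (D.obj i).affineOpens, (Ji.ideal U).FG) ∧
      Ji.comap (c.π.app i) = J := by

  haveI : LocallyOfFinitePresentation J.subschemeι :=
    LimH13.locallyOfFinitePresentation_subschemeι (fun U => hJ U)
  obtain ⟨i, Xi, fi, g, hfi, hfc, hfs, hpb⟩ := Groth.Agent.S0591.result D c hc _ J.subschemeι
  haveI := hfi
  haveI : CompactSpace Xi := QuasiCompact.compactSpace_of_compactSpace fi
  haveI : QuasiSeparatedSpace Xi := quasiSeparatedSpace_of_quasiSeparated fi
  obtain ⟨i', φ, X', Y', fi', gi', pY, pX, hY', hX', hcl⟩ := Groth.Agent.S9189.result D c hc i fi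
    (𝟙 (D.obj i)) J.subschemeι (𝟙 c.pt) (c.π.app i) g IsPullback.of_id_snd hpb
  haveI : IsIso gi' := hY'.isIso_snd_of_isIso
  haveI := hcl
  have h2 : IsPullback pX (fi' ≫ gi') fi (D.map φ) := by
    have h3 := hX'.paste_vert hY'
    rwa [Category.comp_id] at h3
  haveI : LocallyOfFinitePresentation (fi' ≫ gi') := MorphismProperty.of_isPullback h2 hfi
  refine ⟨i', (fi' ≫ gi').ker, fun U => LimH13.ifg_ker _ U, ?_⟩
  let k := h2.lift g (J.subschemeι ≫ c.π.app i') (by rw [Category.assoc, c.w]; exact hpb.w)
  have hout : IsPullback (k ≫ pX) J.subschemeι fi (c.π.app i' ≫ D.map φ) := by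
    rw [h2.lift_fst, c.w]
    exact hpb
  rw [LimH13.ker_eq_of_isPullback (hout.of_right (h2.lift_snd _ _ _) h2).flip,
    Scheme.IdealSheafData.ker_subschemeι]

end Groth.Agent.S9220
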