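import Groth.Statements.S9318
import Groth.Agent.Lib.AdicSmooth.CompletionIff

set_option autoImplicit false
universe u
open CAlg

namespace Groth.Agent.S9318

/-- Let `R → S` be a ring map and `𝔫 ⊆ S` a finitely generated ideal, and let `S^` be the `𝔫`-adic
completion of `S`. Then `R → S` is formally smooth for the `𝔫`-adic topology if and only if `R → S^`
is formally smooth for the adic topology of the extension of `𝔫` to `S^`. No Noetherian hypothesis
is made on `S`. -/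
theorem result {R S : Type u} [CommRing R] [CommRing S]
    [Algebra R S] (𝔫 : Ideal S) (h𝔫 : 𝔫.FG) :
    CAlgX.IsAdicFormallySmooth R S 𝔫 ↔
      CAlgX.IsAdicFormallySmooth R (AdicCompletion 𝔫 S) (𝔫.map (algebraMap S (AdicCompletion 𝔫 S))) := by
  set 𝔫' := 𝔫.map (algebraMap S (AdicCompletion 𝔫 S)) with h𝔫'
  constructor
  · intro h A _ _ J hJ ψ ⟨k, hk⟩
    let ψ₀ : S →ₐ[R] A ⧸ J := ψ.comp (IsScalarTower.toAlgHom R S _)
    have hψ₀ : ∃ k : ℕ, ∀ x ∈ 𝔫 ^ k, ψ₀ x = 0 := ⟨k, fun x hx => hk _ (by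
      rw [h𝔫', ← Ideal.map_pow]; exact Ideal.mem_map_of_mem _ hx)⟩
    obtain ⟨χ₀, hχ₀⟩ := h A J hJ ψ₀ hψ₀
    obtain ⟨N, hN⟩ := Groth.Agent.AdicSmooth.continuous_lift 𝔫 J ⟨2, hJ⟩ ψ₀ hψ₀ χ₀ hχ₀
    obtain ⟨g, hg, hgk⟩ := Groth.Agent.AdicSmooth.exists_extend 𝔫 χ₀.toRingHom hN
    let χ : AdicCompletion 𝔫 S →ₐ[R] A :=
      { g with
        commutes' := fun r => by
          show g (algebraMap R _ r) = _
          rw [IsScalarTower.algebraMap_apply R S (AdicCompletion 𝔫 S), ← RingHom.comp_apply, hg]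
          exact χ₀.commutes r }
    refine ⟨χ, AlgHom.coe_ringHom_injective ?_⟩
    refine Groth.Agent.AdicSmooth.ext_of_completion 𝔫 h𝔫 (N := max N k) (fun x hx => ?_)
      (fun x hx => hk x (Ideal.pow_le_pow_right (le_max_right N k) hx)) (RingHom.ext fun s => ?_)
    · show Ideal.Quotient.mk J (g x) = 0
      rw [hgk x (Ideal.pow_le_pow_right (le_max_left N k) hx), map_zero]
    · show Ideal.Quotient.mk J (g (algebraMap S _ s)) = ψ₀ s
      rw [← RingHom.comp_apply g, hg]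
      exact AlgHom.congr_fun hχ₀ s
  · intro h A _ _ J hJ ψ₀ ⟨k, hk⟩
    obtain ⟨g, hg, hgk⟩ := Groth.Agent.AdicSmooth.exists_extend 𝔫 ψ₀.toRingHom hk
    let ψ : AdicCompletion 𝔫 S →ₐ[R] A ⧸ J :=
      { g with
        commutes' := fun r => by
          show g (algebraMap R _ r) = _
          rw [IsScalarTower.algebraMap_apply R S (AdicCompletion 𝔫 S), ← RingHom.comp_apply, hg]
          exact ψ₀.commutes r }
    obtain ⟨χ, hχ⟩ := h A J hJ ψ ⟨k, hgk⟩
    refine ⟨χ.comp (IsScalarTower.toAlgHom R S _), AlgHom.ext fun s => ?_⟩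
    exact (AlgHom.congr_fun hχ _).trans (RingHom.congr_fun hg s)

end Groth.Agent.S9318
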