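import Groth.Statements.S18195
import Groth.Agent.Lib.LocImm12.LocHom

open Groth.Agent.LocImm12
set_option backward.isDefEq.respectTransparency.types false

set_option autoImplicit false
universe u
open LocImm

namespace Groth.Agent.S18195

open CategoryTheory AlgebraicGeometry in
/-- Let `f : X ⟶ Y` and `g : Y ⟶ Z` be morphisms of Noetherian schemes with `g` separated and `f ≫ g` a
localizing immersion (localizing and injective on points). If `f` has schematically dense image,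
i.e. each ring map `Γ(Y, U) → Γ(X, f⁻¹U)` is injective, then `f` is a localizing immersion. -/
theorem result {X Y Z : Scheme.{u}} [IsNoetherian X] [IsNoetherian Y] [IsNoetherian Z]
    (f : X ⟶ Y) (g : Y ⟶ Z) (hfg : LocImm.IsLocImmersion (f ≫ g)) [IsSeparated g]
    (hd : ∀ U : Y.Opens, Function.Injective (f.app U).hom) : LocImm.IsLocImmersion f := by
  refine ⟨fun x => ?_, fun x₁ x₂ h => hfg.2 (show g (f x₁) = g (f x₂) from congrArg g h)⟩
  obtain ⟨V, hxV, -, hV, hP, hl⟩ := exists_affine_preimage hfg.1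
    (isPreimmersion_of_isLocImmersion hfg).isEmbedding x ⊤ trivial
  obtain ⟨T₀, hT₀, hxT₀, hT₀W⟩ := exists_isAffineOpen_mem_and_subset (x := f x) (U := g ⁻¹ᵁ V) hxV
  have eT : T₀ ≤ g ⁻¹ᵁ V := hT₀W
  obtain ⟨b, hb, hxb⟩ := hP.exists_basicOpen_le (V := f ⁻¹ᵁ T₀) ⟨x, hxT₀⟩ hxV
  obtain ⟨c, s, hs, hbc⟩ := ((isLocHom_iff _).1 hl).1 b
  have hDb : X.basicOpen b = X.basicOpen ((f ≫ g).app V c) := by
    rw [← hbc, Scheme.basicOpen_mul, X.basicOpen_of_isUnit hs, inf_eq_left.2 (X.basicOpen_le b)]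
  have hbc' : X.basicOpen b = f ⁻¹ᵁ (g ⁻¹ᵁ Z.basicOpen c) := by
    rw [hDb, ← Scheme.Hom.comp_preimage, Scheme.preimage_basicOpen]
  let t : Γ(Y, T₀) := g.appLE V T₀ eT c
  have ht : Y.basicOpen t = T₀ ⊓ g ⁻¹ᵁ Z.basicOpen c := by
    rw [Scheme.preimage_basicOpen]
    simp only [t, Scheme.Hom.appLE, CommRingCat.comp_apply, Scheme.basicOpen_res]
  have hpre : f ⁻¹ᵁ Y.basicOpen t = X.basicOpen ((f ≫ g).app V c) := by
    rw [ht, ← hDb, Scheme.Hom.preimage_inf, ← hbc']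
    exact inf_eq_right.2 hb
  have hTaff : IsAffineOpen (f ⁻¹ᵁ Y.basicOpen t) := hpre ▸ hP.basicOpen _
  refine ⟨⟨_, hT₀.basicOpen t⟩, ⟨_, hTaff⟩, ?_, le_rfl, ?_⟩
  · show x ∈ f ⁻¹ᵁ Y.basicOpen t
    rw [hpre, ← hDb]
    exact hxb
  rw [← Scheme.Hom.app_eq_appLE, isLocHom_iff]
  rw [Scheme.Hom.app_eq_appLE] at hl
  obtain ⟨e', hloc⟩ := isLocHom_appLE_basicOpen (f ≫ g) hV hP le_rfl hl c
  have e1 : Y.basicOpen t ≤ g ⁻¹ᵁ Z.basicOpen c := ht ▸ inf_le_right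
  have key : LocImm.IsLocHom ((g.appLE _ _ e1) ≫ f.app (Y.basicOpen t)).hom := by
    rw [Scheme.Hom.app_eq_appLE, Scheme.Hom.appLE_comp_appLE]
    have : ∀ (O : X.Opens) (h : O ≤ (f ≫ g) ⁻¹ᵁ Z.basicOpen c),
        O = X.basicOpen ((f ≫ g).appLE V _ le_rfl c) →
        LocImm.IsLocHom ((f ≫ g).appLE (Z.basicOpen c) O h).hom := by
      rintro O h rfl; exact hloc
    exact this _ _ (by rw [← Scheme.Hom.app_eq_appLE]; exact hpre)
  refine ⟨fun b' => ?_, fun a ha => ⟨1, by simp, by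
    rw [one_mul]; exact hd _ (ha.trans (map_zero _).symm)⟩⟩
  obtain ⟨a, s', hs', h⟩ := ((isLocHom_iff _).1 key).1 b'
  exact ⟨_, _, hs', h⟩

end Groth.Agent.S18195
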