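import Groth.Statements.S18193
import Groth.Agent.Lib.LocImm12.Global
import Groth.Agent.Lib.LocImm12.Noeth
import Groth.Agent.S18195
import Groth.Agent.S18204

open Groth.Agent.LocImm12
set_option backward.isDefEq.respectTransparency.types false
open CategoryTheory Limits TopologicalSpace

set_option autoImplicit false
universe u
open LocImm

namespace Groth.Agent.S18193

open CategoryTheory AlgebraicGeometry in
/-- Let `X, Y₁, Y₂, S` be Noetherian schemes, `f_i : X ⟶ Y_i` separated localizing immersions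
(localizing and injective on points) and `π_i : Y_i ⟶ S` separated morphisms of finite type with `f₁
≫ π₁ = f₂ ≫ π₂`. Then there are a scheme `W`, a localizing immersion `k : X ⟶ W` and open immersions
`g_i : W ⟶ Y_i` compatible over `S` with `k ≫ g_i = f_i`; in particular `W` is of finite type over
`S`. -/
theorem result {X Y₁ Y₂ S : Scheme.{u}} [IsNoetherian X] [IsNoetherian Y₁] [IsNoetherian Y₂] [IsNoetherian S]
    (f₁ : X ⟶ Y₁) (f₂ : X ⟶ Y₂) (π₁ : Y₁ ⟶ S) (π₂ : Y₂ ⟶ S)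
    (hf₁ : LocImm.IsLocImmersion f₁) (hf₂ : LocImm.IsLocImmersion f₂) [IsSeparated f₁] [IsSeparated f₂]
    [IsSeparated π₁] [IsSeparated π₂] [LocallyOfFiniteType π₁] [LocallyOfFiniteType π₂] (h : f₁ ≫ π₁ = f₂ ≫ π₂) :
    ∃ (W : Scheme.{u}) (k : X ⟶ W) (g₁ : W ⟶ Y₁) (g₂ : W ⟶ Y₂), LocImm.IsLocImmersion k ∧ IsOpenImmersion g₁ ∧ IsOpenImmersion g₂ ∧ g₁ ≫ π₁ = g₂ ≫ π₂ ∧ k ≫ g₁ = f₁ ∧ k ≫ g₂ = f₂ := by
  let hh : X ⟶ pullback π₁ π₂ := pullback.lift f₁ f₂ h
  have hh₁ : hh ≫ pullback.fst π₁ π₂ = f₁ := pullback.lift_fst ..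
  have hh₂ : hh ≫ pullback.snd π₁ π₂ = f₂ := pullback.lift_snd ..
  let q₁ : hh.image ⟶ Y₁ := hh.imageι ≫ pullback.fst π₁ π₂
  let q₂ : hh.image ⟶ Y₂ := hh.imageι ≫ pullback.snd π₁ π₂
  have hq : q₁ ≫ π₁ = q₂ ≫ π₂ := by simp [q₁, q₂, pullback.condition]
  have hk₁ : hh.toImage ≫ q₁ = f₁ := by simp [q₁, hh₁]
  have hk₂ : hh.toImage ≫ q₂ = f₂ := by simp [q₂, hh₂]
  have : IsNoetherian (pullback π₁ π₂) := isNoetherian_pullback π₁ π₂
  have : IsNoetherian hh.image := isNoetherian_of_finiteType hh.imageι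
  have hk : LocImm.IsLocImmersion hh.toImage :=
    S18195.result hh.toImage q₁ (hk₁.symm ▸ hf₁) (toImage_app_injective_of_opens hh)
  have : EssFT.LocallyEssFiniteType q₁ := locallyEssFiniteType_of_locallyOfFiniteType q₁
  have : EssFT.LocallyEssFiniteType q₂ := locallyEssFiniteType_of_locallyOfFiniteType q₂
  obtain ⟨W₁, hW₁, hl₁⟩ := exists_open_isLocImmersion_of_comp hk q₁ (hk₁.symm ▸ hf₁)
  obtain ⟨W₂, hW₂, hl₂⟩ := exists_open_isLocImmersion_of_comp hk q₂ (hk₂.symm ▸ hf₂)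
  let W := W₁ ⊓ W₂
  have hr : Set.range hh.toImage ⊆ Set.range W.ι := by
    rw [Scheme.Opens.range_ι]
    exact fun x hx => ⟨hW₁ hx, hW₂ hx⟩
  have : IsPreimmersion hh.toImage := isPreimmersion_of_isLocImmersion hk
  have : NoetherianSpace W.toScheme := W.ι.isEmbedding.isInducing.noetherianSpace
  have hWN : IsNoetherian W.toScheme :=
    { toIsLocallyNoetherian := isLocallyNoetherian_of_isOpenImmersion W.ι
      toCompactSpace := inferInstance }
  have key : ∀ {Y : Scheme.{u}} [IsNoetherian Y] (q : hh.image ⟶ Y) [LocallyOfFiniteType q]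
      (W' : hh.image.Opens), W ≤ W' → LocImm.IsLocImmersion (W'.ι ≫ q) →
      IsOpenImmersion (W.ι ≫ q) := by
    intro Y _ q _ W' hle hl
    refine S18204.result (W.ι ≫ q) ?_
    rw [← Scheme.homOfLE_ι _ hle, Category.assoc]
    exact isLocImmersion_comp (isLocImmersion_of_isOpenImmersion _) hl
  let k := IsOpenImmersion.lift W.ι hh.toImage hr
  have hkι : k ≫ W.ι = hh.toImage := IsOpenImmersion.lift_fac ..
  have : IsPreimmersion (k ≫ W.ι) := hkι.symm ▸ inferInstance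
  refine ⟨W, k, W.ι ≫ q₁, W.ι ≫ q₂,
    isLocImmersion_of_comp_openImmersion W.ι (hkι.symm ▸ hk), key q₁ W₁ inf_le_left hl₁,
    key q₂ W₂ inf_le_right hl₂, (Category.assoc _ _ _).trans ((congrArg (W.ι ≫ ·) hq).trans (Category.assoc _ _ _).symm), ?_, ?_⟩
  · rw [← Category.assoc, hkι, hk₁]
  · rw [← Category.assoc, hkι, hk₂]

end Groth.Agent.S18193
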