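import Groth.Statements.S8919
import Groth.Agent.Lib.Conormal2.Incl
import Groth.Agent.Lib.Cyc26.KoszulH1
import Groth.Agent.Lib.RegSeq26.FlatBC
import Groth.Agent.Lib.CI2.RImm
import Groth.Agent.Lib.SyntRank2.Compose
import Groth.Agent.Lib.SyntRank2.ConormalFree

set_option autoImplicit false
set_option linter.style.haveILetI false
set_option backward.isDefEq.respectTransparency false
set_option backward.isDefEq.respectTransparency.types false
set_option synthInstance.maxHeartbeats 400000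
universe u
open CategoryTheory CategoryTheory.Limits AlgebraicGeometry TopologicalSpace
open SDiv

namespace Groth.Agent.S8919
open CategoryTheory CategoryTheory.Limits AlgebraicGeometry
open RegImm

open CategoryTheory AlgebraicGeometry
open RegImm

open Groth.Agent TensorProduct

lemma one_tmul_smul_eq_zero {S T N : Type u} [CommRing S] [CommRing T] [Algebra S T] [AddCommGroup N]
    [Module S N] {s : S} (hs : algebraMap S T s = 0) (n : N) : (1 : T) ⊗ₜ[S] (s • n) = 0 := by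
  rw [tmul_smul, smul_tmul', Algebra.smul_def, hs, zero_mul, zero_tmul]

lemma exists_h1_ker_stalkMap {X Y : Scheme.{u}} (j : Y ⟶ X) (hj : RegImm.IsRegularImmersion .h1 j) (z : Y) :
    ∃ (c : ℕ) (g : Fin c → X.presheaf.stalk (j z)), CAlgX.IsH1Regular g ∧
      RingHom.ker (j.stalkMap z).hom = Ideal.span (Set.range g) := by
  obtain ⟨U, hz, hcl, rs, hrs, hker⟩ := hj.2 z
  haveI := hcl
  obtain ⟨hW, hs⟩ := CI2.surjective_app_of_closed j U.2
  let L := X.presheaf.stalk (j z)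
  letI : Algebra Γ(X, U.1) L := X.presheaf.algebra_section_stalk (⟨j z, hz⟩ : U.1)
  haveI : IsLocalization.AtPrime L (U.2.primeIdealOf ⟨j z, hz⟩).asIdeal := U.2.isLocalization_stalk ⟨j z, hz⟩
  haveI : Module.Flat Γ(X, U.1) L := IsLocalization.flat L (U.2.primeIdealOf ⟨j z, hz⟩).asIdeal.primeCompl
  letI : Algebra Γ(Y, j ⁻¹ᵁ U.1) (Y.presheaf.stalk z) := Y.presheaf.algebra_section_stalk (⟨z, hz⟩ : (j ⁻¹ᵁ U.1 : Y.Opens))
  haveI : IsLocalization.AtPrime (Y.presheaf.stalk z) (hW.primeIdealOf ⟨z, hz⟩).asIdeal := hW.isLocalization_stalk ⟨z, hz⟩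
  have hgerm : ∀ a : Γ(X, U.1), (j.stalkMap z).hom (algebraMap Γ(X, U.1) L a) =
      algebraMap Γ(Y, j ⁻¹ᵁ U.1) (Y.presheaf.stalk z) ((j.app U.1).hom a) := fun a =>
    Scheme.Hom.germ_stalkMap_apply j U.1 z hz a
  have hp : U.2.primeIdealOf ⟨j z, hz⟩ = (hW.primeIdealOf ⟨z, hz⟩).comap (j.app U.1).hom := by
    rw [← IsAffineOpen.comap_primeIdealOf_appLE U.1 U.2 (j ⁻¹ᵁ U.1) hW le_rfl hz, Scheme.Hom.app_eq_appLE]
  refine ⟨rs.length, fun k => algebraMap Γ(X, U.1) L (rs.get k),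
    RegSeq26.isH1Regular_of_flat hrs, ?_⟩
  rw [Set.range_comp' (algebraMap Γ(X, U.1) L) rs.get, Set.range_list_get, ← Ideal.map_span,
    show Ideal.span {x | x ∈ rs} = RingHom.ker (j.app U.1).hom from hker.symm]
  refine le_antisymm (fun x hx => ?_) (Ideal.map_le_iff_le_comap.2 fun a ha => ?_)
  · obtain ⟨a, s, rfl⟩ := IsLocalization.exists_mk'_eq (U.2.primeIdealOf ⟨j z, hz⟩).asIdeal.primeCompl x
    rw [IsLocalization.mk'_mem_iff]
    have h0 : (j.stalkMap z).hom (algebraMap Γ(X, U.1) L a) = 0 := by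
      rw [← IsLocalization.mk'_spec L a s, map_mul, show (j.stalkMap z).hom (IsLocalization.mk' L a s) = 0 from hx,
        zero_mul]
    rw [hgerm, IsLocalization.map_eq_zero_iff (hW.primeIdealOf ⟨z, hz⟩).asIdeal.primeCompl] at h0
    obtain ⟨⟨t, ht⟩, hta⟩ := h0
    obtain ⟨t', rfl⟩ := hs t
    have ht' : t' ∈ (U.2.primeIdealOf ⟨j z, hz⟩).asIdeal.primeCompl := by rw [hp]; exact ht
    refine (Ideal.unit_mul_mem_iff_mem _ (IsLocalization.map_units L ⟨t', ht'⟩)).1 ?_
    rw [← map_mul]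
    refine Ideal.mem_map_of_mem _ ?_
    rw [RingHom.mem_ker, map_mul]
    exact hta
  · show (j.stalkMap z).hom (algebraMap Γ(X, U.1) L a) = 0
    rw [hgerm, show (j.app U.1).hom a = 0 from ha, map_zero]


/-- The conormal sheaf of an `H₁`-regular immersion is finite locally free. -/
theorem isFinLocFree_conormal_of_h1 {X X' : Scheme.{u}} (i : X ⟶ X') [QuasiCompact i]
    (hi : RegImm.IsRegularImmersion .h1 i) : FlatMod.IsFinLocFree (Omega.conormal i) := by
  refine DPerf.isFinLocFree_of_locally fun x => ?_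
  obtain ⟨⟨V', hV'⟩, hxV', hcl, rs, hrs, hrsker⟩ := hi.2 x
  haveI := hcl
  obtain ⟨hV, hs⟩ := CI2.surjective_app_of_closed i hV'
  refine ⟨_, hV.fromSpec, inferInstance, by rw [hV.range_fromSpec]; exact hxV', ?_⟩
  let B' := Γ(X', V')
  let B := Γ(X, i ⁻¹ᵁ V')
  letI : Algebra B' B := (i.appLE V' (i ⁻¹ᵁ V') le_rfl).hom.toAlgebra
  have he : algebraMap B' B = (i.app V').hom := congrArg CommRingCat.Hom.hom i.appLE_eq_app
  let N := Omega.conormal i
  have hN : Coh.IsQCoh N := M1.isQCoh_pullback i (M2.isQCoh_idealMod _)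
  letI : Module B' Γ(N, i ⁻¹ᵁ V') := PullBC11.baseModule (g := i) N (U := V') (V := i ⁻¹ᵁ V') le_rfl
  haveI : IsScalarTower B' B Γ(N, i ⁻¹ᵁ V') := IsScalarTower.of_algebraMap_smul fun _ _ => rfl
  let s₁ : Γ(ClSub.idealMod i.ker, V') →ₗ[B'] Γ(N, i ⁻¹ᵁ V') :=
    PullBC11.sect (PP12.unitTo i (ClSub.idealMod i.ker)) (le_refl (i ⁻¹ᵁ V'))
  have hs₁ : IsBaseChange B s₁ := PP12.isBC_unit i (M2.isQCoh_idealMod i.ker) hV' hV (le_refl (i ⁻¹ᵁ V'))
  let E : Algebra.Extension.{u} B' B := Algebra.Extension.ofSurjective (Algebra.ofId B' B) (fun b => by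
    obtain ⟨a, ha⟩ := hs b
    exact ⟨a, (RingHom.congr_fun he a).trans ha⟩)
  have hker : RingHom.ker (algebraMap B' B) = RingHom.ker (i.app V').hom := by rw [he]
  have hEker : E.ker = Ideal.span (Set.range rs.get) := by
    rw [Set.range_list_get]
    exact hker.trans hrsker
  obtain ⟨eb⟩ := SyntRank2.nonempty_cotangent_equiv_of_gen E rs.get hEker fun a ha =>
    SyntRank2.coeff_of_h1 _ hrs E.ker (fun k => by rw [hEker]; exact Ideal.subset_span ⟨k, rfl⟩) a
      (by rw [← hEker]; rwa [pow_two] at ha)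
  haveI h1 : Module.Finite B E.Cotangent := Module.Finite.equiv eb.symm
  haveI h2 : Module.Projective B E.Cotangent := Module.Projective.of_equiv eb.symm
  let K : Ideal B' := RingHom.ker (algebraMap B' B)
  have hr : LinearMap.range (GrMap12.inclLin i.ker V') = K := by
    rw [GrMap12.range_inclLin _ ⟨V', hV'⟩, Scheme.Hom.ker_apply]
    exact hker.symm
  let eI : Γ(ClSub.idealMod i.ker, V') ≃ₗ[B'] K :=
    (LinearEquiv.ofInjective (GrMap12.inclLin i.ker V') (M2.idealIncl_injective _ _)).trans (LinearEquiv.ofEq _ _ hr)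
  obtain ⟨eC⟩ := SyntRank2.nonempty_tensor_ker_equiv_cotangent E
  let e : B ⊗[B'] Γ(ClSub.idealMod i.ker, V') ≃ₗ[B] E.Cotangent :=
    (TensorProduct.AlgebraTensorModule.congr (LinearEquiv.refl B B) eI).trans eC
  haveI : (N.restrict hV.fromSpec).IsQuasicoherent := M1.isQCoh_fromSpec hN hV
  let L := moduleSpecΓFunctor.obj (N.restrict hV.fromSpec)
  let eL : L ≃ₗ[B] Γ(N, i ⁻¹ᵁ V') := M1.affineSecEquiv N hV
  haveI : Module.Finite B L := Module.Finite.equiv (e.symm.trans (hs₁.equiv.trans eL.symm))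
  haveI : Module.Projective B L := Module.Projective.of_equiv (e.symm.trans (hs₁.equiv.trans eL.symm))
  exact M2.isFinLocFree_of_iso
    (@asIso _ _ _ _ (N.restrict hV.fromSpec).fromTildeΓ
      (Scheme.Modules.isIso_fromTildeΓ_of_isQuasicoherent (R := Γ(X, i ⁻¹ᵁ V')) _))
    (DPerf.isFinLocFree_tilde (M := L))


theorem mono_conormal {X Y Z : Scheme.{u}} (i : Y ⟶ X) [IsImmersion i] [QuasiCompact i] (j : Z ⟶ Y) [IsImmersion j]
    [QuasiCompact j] (hj : RegImm.IsRegularImmersion .h1 j)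
    (a' : (Scheme.Modules.pullback j).obj (Omega.conormal i) ⟶ Omega.conormal (j ≫ i))
    (ha' : OmegaSh.IsConormalMap (j ≫ i) i (𝟙 X) j a') : Mono a' := by
  refine (M1.mono_iff_stalk _).2 fun z => ?_
  refine (injective_iff_map_eq_zero _).2 fun w hw => ?_
  obtain ⟨u, rfl⟩ := (M2.pullStalkEquiv j z (Omega.conormal i)).surjective w
  obtain ⟨a, rfl⟩ := TensorProduct.mk_surjective (Y.presheaf.stalk (j z))
    ((Omega.conormal i).presheaf.stalk (j z) : Type u) (Z.presheaf.stalk z) (j.stalkMap_surjective z) u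
  obtain ⟨u', rfl⟩ := (M2.pullStalkEquiv i (j z) (ClSub.idealMod i.ker)).surjective a
  obtain ⟨m, rfl⟩ := TensorProduct.mk_surjective (X.presheaf.stalk (i (j z)))
    ((ClSub.idealMod i.ker).presheaf.stalk (i (j z)) : Type u) (Y.presheaf.stalk (j z)) (i.stalkMap_surjective _) u'
  suffices hm : m ∈ RingHom.ker (((i.stalkMap (j z)) ≫ j.stalkMap z).hom) • (⊤ : Submodule _ _) by
    rw [TensorProduct.mk_apply, TensorProduct.mk_apply]
    refine Submodule.smul_induction_on hm (fun r hr n _ => ?_) (fun a b ha hb => ?_)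
    · rw [tmul_smul, ← algebraMap_smul (Y.presheaf.stalk (j z)) r, map_smul]
      exact (congrArg (M2.pullStalkEquiv j z (Omega.conormal i)) (one_tmul_smul_eq_zero (T := Z.presheaf.stalk z) (s := algebraMap (X.presheaf.stalk (i (j z))) (Y.presheaf.stalk (j z)) r) hr _)).trans (map_zero _)
    · rw [tmul_add, map_add]
      refine ((congrArg (M2.pullStalkEquiv j z (Omega.conormal i)) (TensorProduct.tmul_add _ _ _)).trans
        (map_add _ _ _)).trans ?_
      exact (congrArg₂ (· + ·) ha hb).trans (add_zero _)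
  obtain ⟨V, hV, s, rfl⟩ := (ClSub.idealMod i.ker).presheaf.exists_germ_eq m
  obtain ⟨t, ht⟩ := GrMap12.exists_idealSect_of_app_eq_zero (j ≫ i) (M2.idealIncl i.ker s) (by
    rw [Scheme.Hom.comp_app]
    exact (congrArg (j.app (i ⁻¹ᵁ V)) (GrMap12.app_idealIncl_zero i s)).trans (map_zero _))
  have e0 : ∀ (G : Z.Modules) (O : Z.Opens) (m : Γ(G, O)), M1.mres G (le_rfl : O ≤ O) m = m :=
    fun G O m => ConcreteCategory.congr_hom (G.presheaf.map_id (Opposite.op O)) m
  have hφ : a'.app (j ⁻¹ᵁ (i ⁻¹ᵁ V)) (OmegaSh.pullSect j _ (i ⁻¹ᵁ V) (OmegaSh.conormalSect i V s)) =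
      OmegaSh.conormalSect (j ≫ i) V t :=
    (e0 _ _ _).symm.trans ((ha'.2 V s t ht _ le_rfl le_rfl).trans (e0 _ _ _))
  rw [TensorProduct.mk_apply, TensorProduct.mk_apply, M2.pullStalkEquiv_tmul] at hw
  erw [M2.pullStalkEquiv_tmul j z (Omega.conormal i) (U := i ⁻¹ᵁ V) hV] at hw
  have hw' : M2.pullStalkEquiv (j ≫ i) z (ClSub.idealMod (j ≫ i).ker)
      (1 ⊗ₜ (ClSub.idealMod (j ≫ i).ker).presheaf.germ V ((j ≫ i) z) hV t) = 0 := by
    rw [M2.pullStalkEquiv_tmul]
    refine Eq.trans ?_ hw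
    refine Eq.trans ?_ (TopCat.Presheaf.stalkFunctor_map_germ_apply (j ⁻¹ᵁ (i ⁻¹ᵁ V)) z hV
      ((Scheme.Modules.toPresheaf Z).map a') _).symm
    exact congrArg (fun q => (Omega.conormal (j ≫ i)).presheaf.germ (j ⁻¹ᵁ (i ⁻¹ᵁ V)) z hV q) hφ.symm
  rw [LinearEquiv.map_eq_zero_iff] at hw'
  have hK := Conormal2.mem_smul_top_of_one_tmul_eq_zero ((j ≫ i).stalkMap_surjective z) hw'
  let K : Ideal (X.presheaf.stalk (i (j z))) := RingHom.ker (((i.stalkMap (j z)) ≫ j.stalkMap z).hom)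
  have hcomp : RingHom.ker ((j ≫ i).stalkMap z).hom = K := by rw [Scheme.Hom.stalkMap_comp]
  have hb0 : Conormal2.incl (j ≫ i) ((j ≫ i) z) ((ClSub.idealMod (j ≫ i).ker).presheaf.germ V ((j ≫ i) z) hV t) ∈
      RingHom.ker ((j ≫ i).stalkMap z).hom * RingHom.ker ((j ≫ i).stalkMap z).hom :=
    Submodule.smul_induction_on hK (fun r hr n _ => by
      rw [map_smul, smul_eq_mul]
      exact Ideal.mul_mem_mul hr (Conormal2.incl_mem_ker (j ≫ i) z n))
      (fun a b ha hb => by rw [map_add]; exact add_mem ha hb)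
  rw [Conormal2.incl_germ, hcomp, ht] at hb0
  have hb : X.presheaf.germ V (i (j z)) hV (M2.idealIncl i.ker s) ∈ K * K := hb0
  obtain ⟨c, g, hg, hgker⟩ := exists_h1_ker_stalkMap j hj z
  have hI : X.presheaf.germ V (i (j z)) hV (M2.idealIncl i.ker s) ∈ RingHom.ker (i.stalkMap (j z)).hom := by
    rw [← Conormal2.incl_germ]; exact Conormal2.incl_mem_ker i (j z) _
  have hIK := SyntRank2.inf_mul_le (i.stalkMap (j z)).hom (i.stalkMap_surjective _) g hg K (by
    rw [← hgker, RingHom.comap_ker]; rfl) hI hb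
  have hle : RingHom.ker (i.stalkMap (j z)).hom * K ≤
      Submodule.map (Conormal2.incl i (i (j z))) (K • ⊤) := by
    rw [Ideal.mul_le]
    intro a ha b hbK
    obtain ⟨n, rfl⟩ := Conormal2.exists_incl_eq i (j z) a ha
    exact ⟨b • n, Submodule.smul_mem_smul hbK trivial, by rw [map_smul, smul_eq_mul, mul_comm]⟩
  obtain ⟨n, hn, hne⟩ := hle hIK
  rw [← Conormal2.incl_germ] at hne
  rwa [← Conormal2.incl_injective i _ hne]

/-- Let i : Z ⟶ Y and j : Y ⟶ X be quasi-compact immersions of schemes with i an H_1-regular immersion,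
and let a : i^*C_{Y/X} ⟶ C_{Z/X} and b : C_{Z/X} ⟶ C_{Z/Y} be the canonical maps of conormal
sheaves. Then the canonical sequence 0 → i^*C_{Y/X} → C_{Z/X} → C_{Z/Y} → 0 is exact and locally
split; here local splitting is recorded through C_{Z/Y} being finite locally free. The published
statement allows arbitrary immersions; this row takes both immersions quasi-compact, the case in
which the conormal sheaves used here are those of the immersions. -/
theorem result {Z Y X : Scheme.{u}} (i : Z ⟶ Y) (j : Y ⟶ X) [IsImmersion i] [IsImmersion j]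
    [QuasiCompact i] [QuasiCompact j]
    (a : (Scheme.Modules.pullback i).obj (Omega.conormal j) ⟶ Omega.conormal (i ≫ j))
    (ha : OmegaSh.IsConormalMap (i ≫ j) j (𝟙 X) i a)
    (b : (Scheme.Modules.pullback (𝟙 Z)).obj (Omega.conormal (i ≫ j)) ⟶ Omega.conormal i)
    (hb : OmegaSh.IsConormalMap i (i ≫ j) j (𝟙 Z) b)
    (hi : RegImm.IsRegularImmersion RegImm.Kind.h1 i) :
    a ≫ ((Scheme.Modules.pullbackId Z).inv.app (Omega.conormal (i ≫ j)) ≫ b) = 0 ∧
      (∀ w : a ≫ ((Scheme.Modules.pullbackId Z).inv.app (Omega.conormal (i ≫ j)) ≫ b) = 0, (ShortComplex.mk a ((Scheme.Modules.pullbackId Z).inv.app (Omega.conormal (i ≫ j)) ≫ b) w).ShortExact) ∧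
      FlatMod.IsFinLocFree (Omega.conormal i) := by
  obtain ⟨h0, hex, hepi⟩ := GrMap12.exact_conormal a ha b hb
  haveI := hepi
  exact ⟨h0, fun w => { exact := hex, mono_f := mono_conormal j i hi a ha, epi_g := epi_comp _ _ },
    isFinLocFree_conormal_of_h1 i hi⟩

end Groth.Agent.S8919
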