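import Groth.Statements.S5803
import Groth.Agent.Lib.QReg.Basic
import Mathlib.RingTheory.Filtration
import Mathlib.RingTheory.Regular.RegularSequence

set_option autoImplicit false
universe u
open EGA41

namespace Groth.Agent.S5803

open MvPolynomial in
theorem eval_mem {A : Type u} [CommRing A] {c : ℕ} (f : Fin c → A) {k : ℕ} {Q : MvPolynomial (Fin c) A}
    (hQ : Q.IsHomogeneous k) (h : ∀ d, Q.coeff d ∈ Ideal.span (Set.range f)) :
    eval f Q ∈ Ideal.span (Set.range f) ^ (k + 1) := by
  classical
  rw [eval_eq', pow_succ']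
  refine sum_mem fun d hd => Ideal.mul_mem_mul (h d) ?_
  have hk : ∑ i, d i = k := by
    have := hQ (mem_support_iff.1 hd)
    rw [Finsupp.weight_apply, Finsupp.sum_fintype _ _ (by simp)] at this
    simpa using this
  rw [← hk, ← Finset.prod_pow_eq_pow_sum]
  exact Ideal.prod_mem_prod fun i _ => Ideal.pow_mem_pow (I := Ideal.span (Set.range f)) (Ideal.subset_span ⟨i, rfl⟩) _

open MvPolynomial in
theorem div_mem {A : Type u} [CommRing A] {c : ℕ} {f : Fin (c + 1) → A} (hq : CAlgX.IsQuasiRegular f) {n : ℕ} {a : A}
    (h : f 0 * a ∈ Ideal.span (Set.range f) ^ n) : a ∈ Ideal.span (Set.range f) ^ (n - 1) := by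
  have : ∀ k, k ≤ n - 1 → a ∈ Ideal.span (Set.range f) ^ k := by
    intro k
    induction k with
    | zero => intro _; simp [Ideal.one_eq_top]
    | succ k ih =>
      intro hk
      obtain ⟨Q, hQ, rfl⟩ := QReg.exists_homogeneous_of_mem_pow (ih (by omega))
      refine eval_mem f hQ fun d => ?_
      have := hq (k + 1) (X 0 * Q) (add_comm 1 _ ▸ (isHomogeneous_X A (0 : Fin (c + 1))).mul hQ)
        (by rw [map_mul, eval_X]; exact Ideal.pow_le_pow_right (by omega) h) (Finsupp.single 0 1 + d)
      rwa [coeff_X_mul] at this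
  exact this _ le_rfl

open MvPolynomial in
theorem key : ∀ (c : ℕ) (A : Type u) [CommRing A] [IsNoetherianRing A] (f : Fin c → A),
    (∀ i, f i ∈ Ring.jacobson A) → CAlgX.IsQuasiRegular f →
      RingTheory.Sequence.IsWeaklyRegular A (List.ofFn f) := by
  intro c
  induction c with
  | zero => intro A _ _ f _ _; rw [List.ofFn_zero]; exact RingTheory.Sequence.IsWeaklyRegular.nil A A
  | succ c ih =>
    intro A _ _ f hf hq
    classical
    set J := Ideal.span (Set.range f)
    have hJ : J ≤ (⊥ : Ideal A).jacobson := Ideal.span_le.2 (by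
      rintro _ ⟨i, rfl⟩
      rw [SetLike.mem_coe, Ideal.jacobson_bot]
      exact hf i)
    rw [List.ofFn_succ, RingTheory.Sequence.isWeaklyRegular_cons_iff']
    refine ⟨IsSMulRegular.of_right_eq_zero_of_smul fun a ha => ?_, ?_⟩
    · have : a ∈ ⨅ n : ℕ, J ^ n := Submodule.mem_iInf _ |>.2 fun n => by
        simpa using div_mem hq (n := n + 1) (by rw [← smul_eq_mul, ha]; exact zero_mem _)
      have h2 := Ideal.iInf_pow_smul_eq_bot_of_le_jacobson (M := A) J hJ
      simp only [smul_eq_mul, Ideal.mul_top] at h2
      rwa [h2] at this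
    let I := Ideal.span ({f 0} : Set A)
    let g : Fin c → A ⧸ I := fun i => Ideal.Quotient.mk I (f i.succ)
    have hmap : Ideal.span (Set.range g) = J.map (Ideal.Quotient.mk I) := by
      rw [Ideal.map_span, ← Set.range_comp]
      refine le_antisymm (Ideal.span_mono ?_) (Ideal.span_le.2 ?_)
      · rintro _ ⟨i, rfl⟩; exact ⟨i.succ, rfl⟩
      · rintro _ ⟨i, rfl⟩
        refine Fin.cases ?_ (fun j => ?_) i
        · rw [SetLike.mem_coe, Function.comp_apply, Ideal.Quotient.eq_zero_iff_mem.2 (Ideal.mem_span_singleton_self _)]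
          exact zero_mem _
        · exact Ideal.subset_span ⟨j, rfl⟩
    have hgq : CAlgX.IsQuasiRegular g := by
      intro n P hP hev d
      by_cases hd : d.degree = n
      swap
      · rw [hP.coeff_eq_zero hd]; exact zero_mem _
      obtain ⟨P₀, rfl⟩ := MvPolynomial.map_surjective (Ideal.Quotient.mk I) Ideal.Quotient.mk_surjective P
      let P₁ := homogeneousComponent n P₀
      have hP₁ : P₁.IsHomogeneous n := homogeneousComponent_isHomogeneous n P₀
      have hPP : map (Ideal.Quotient.mk I) P₁ = map (Ideal.Quotient.mk I) P₀ := by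
        ext e
        rw [coeff_map, coeff_map, coeff_homogeneousComponent]
        split_ifs with he
        · rfl
        · rw [map_zero, ← coeff_map, hP.coeff_eq_zero he]
      rw [← hPP] at hev ⊢
      rw [coeff_map, hmap]
      rw [hmap, ← Ideal.map_pow, eval_map, show eval₂ (Ideal.Quotient.mk I) g P₁ =
        Ideal.Quotient.mk I (eval f (rename Fin.succ P₁)) by
          rw [eval_rename, ← coe_eval₂Hom]
          exact eval₂_comp_left (Ideal.Quotient.mk I) (RingHom.id A) (f ∘ Fin.succ) P₁ |>.symm,
        ← Ideal.mem_comap, Ideal.comap_map_of_surjective _ Ideal.Quotient.mk_surjective] at hev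
      change _ ∈ _ ⊔ RingHom.ker _ at hev
      rw [Ideal.mk_ker] at hev
      obtain ⟨j, hj, w, hw, hjw⟩ := Submodule.mem_sup.1 hev
      obtain ⟨a, rfl⟩ := Ideal.mem_span_singleton'.1 hw
      cases n with
      | zero =>
        have hd0 : d = 0 := (Finsupp.degree_eq_zero_iff d).1 hd
        subst hd0
        have : eval f (rename Fin.succ P₁) = coeff 0 P₁ := by
          conv_lhs => rw [(totalDegree_eq_zero_iff_eq_C).1 (Nat.le_zero.1 hP₁.totalDegree_le)]
          simp
        rw [← this, ← hjw, map_add, Ideal.Quotient.eq_zero_iff_mem.2 (I.mul_mem_left a (Ideal.mem_span_singleton_self _)), add_zero]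
        exact Ideal.mem_map_of_mem _ (by simpa using hj)
      | succ m =>
        have hmemP : eval f (rename Fin.succ P₁) ∈ J ^ (m + 1) := by
          rw [eval_rename, eval_eq']
          refine sum_mem fun e he => Ideal.mul_mem_left _ _ ?_
          have hk : ∑ i, e i = m + 1 := by
            have := hP₁ (mem_support_iff.1 he)
            rw [Finsupp.weight_apply, Finsupp.sum_fintype _ _ (by simp)] at this
            simpa using this
          rw [← hk, ← Finset.prod_pow_eq_pow_sum]
          exact Ideal.prod_mem_prod fun i _ => Ideal.pow_mem_pow (I := J) (Ideal.subset_span ⟨i.succ, rfl⟩) _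
        have ha : f 0 * a ∈ J ^ (m + 1) := by
          rw [mul_comm, show a * f 0 = eval f (rename Fin.succ P₁) - j by rw [← hjw]; ring]
          exact sub_mem hmemP (Ideal.pow_le_pow_right (Nat.le_succ _) hj)
        obtain ⟨Q, hQ, rfl⟩ := QReg.exists_homogeneous_of_mem_pow (by simpa using div_mem hq ha)
        have := hq (m + 1) (rename Fin.succ P₁ - X 0 * Q)
          (hP₁.rename_isHomogeneous.sub (add_comm 1 _ ▸ (isHomogeneous_X A (0 : Fin (c + 1))).mul hQ))
          (by rw [map_sub, ← hjw, map_mul, eval_X, mul_comm (f 0), add_sub_cancel_right]; exact hj) (d.mapDomain Fin.succ)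
        rw [coeff_sub, coeff_rename_mapDomain _ (Fin.succ_injective c), coeff_X_mul',
          if_neg (by
            rw [Finsupp.mem_support_iff, not_not]
            exact Finsupp.mapDomain_notin_range _ 0 (by rintro ⟨i, hi⟩; exact Fin.succ_ne_zero i hi)), sub_zero] at this
        exact Ideal.mem_map_of_mem _ this
    have hgj : ∀ i, g i ∈ Ring.jacobson (A ⧸ I) := fun i => by
      rw [← Ideal.jacobson_bot]
      exact Ideal.mem_jacobson_bot.2 fun y => by
        obtain ⟨y, rfl⟩ := Ideal.Quotient.mk_surjective y
        have h1 := hf i.succ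
        rw [← Ideal.jacobson_bot, Ideal.mem_jacobson_bot] at h1
        rw [← map_mul, ← (Ideal.Quotient.mk I).map_one, ← map_add]
        exact (h1 y).map _
    have hw := ih (A ⧸ I) g hgj hgq
    rw [List.map_ofFn]
    let e : QuotSMulTop (f 0) A ≃ₗ[A] A ⧸ I :=
      (QuotSMulTop.equivQuotTensor (f 0) A).trans (TensorProduct.rid A _)
    exact ((LinearEquiv.extendScalarsOfSurjective Ideal.Quotient.mk_surjective e).isWeaklyRegular_congr _).2 hw

/-- Case M = A: let A be a Noetherian ring and (f_i)_{1 ≤ i ≤ c} a finite sequence of elements of the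
Jacobson radical of A. Then (f_i) is a regular sequence if it is quasi-regular (and conversely every
regular sequence is quasi-regular). -/
theorem result (A : Type u) [CommRing A] [IsNoetherianRing A]
    (c : ℕ) (f : Fin c → A) (hf : ∀ i, f i ∈ Ring.jacobson A) (hq : CAlgX.IsQuasiRegular f) :
    RingTheory.Sequence.IsWeaklyRegular A (List.ofFn f) := by
  exact key c A f hf hq

end Groth.Agent.S5803
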