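import Groth.Statements.S9273
import Groth.Agent.Lib.FlatSyz.Kernel
import Mathlib.LinearAlgebra.TensorProduct.Pi
import Mathlib.LinearAlgebra.TensorProduct.RightExactness

set_option autoImplicit false
universe u
open CAlgX

namespace Groth.Agent.S9273

open scoped TensorProduct

/-- Let A → B and A → A' be ring maps and B' = A' ⊗_A B. If f_1, ..., f_r is an H_1-regular sequence in
B with B/(f_1, ..., f_r) flat over A, then the images of the f_i in B' form an H_1-regular sequence. -/
theorem result (A B A' : Type u) [CommRing A] [CommRing B]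
    [CommRing A'] [Algebra A B] [Algebra A A'] (r : ℕ) (f : Fin r → B)
    (hflat : Module.Flat A (B ⧸ Ideal.span (Set.range f))) (hq : CAlgX.IsH1Regular f) :
    CAlgX.IsH1Regular (fun i => ((1 : A') ⊗ₜ[A] f i : TensorProduct A A' B)) := by
  classical
  intro a ha
  let J : Submodule A B := (Ideal.span (Set.range f)).restrictScalars A
  let d₁ : (Fin r → B) →ₗ[A] J := LinearMap.codRestrict J ((Fintype.linearCombination B f).restrictScalars A) fun x => by
    show Fintype.linearCombination B f x ∈ Ideal.span (Set.range f)
    rw [Fintype.linearCombination_apply]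
    exact sum_mem fun i _ => Ideal.mul_mem_left _ _ (Ideal.subset_span ⟨i, rfl⟩)
  let d₂ : (Fin r × Fin r → B) →ₗ[A] (Fin r → B) := (Fintype.linearCombination B
    (fun ij : Fin r × Fin r => (Pi.single ij.1 (f ij.2) - Pi.single ij.2 (f ij.1) : Fin r → B))).restrictScalars A
  have hd₁ : Function.Surjective d₁ := by
    rintro ⟨x, hx⟩
    obtain ⟨c, hc⟩ := (Submodule.mem_span_range_iff_exists_fun B).mp (hx : x ∈ Ideal.span (Set.range f))
    exact ⟨c, Subtype.ext ((Fintype.linearCombination_apply B f c).trans hc)⟩
  have hex : Function.Exact d₂ d₁ := by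
    intro x
    constructor
    · intro hx
      have h0 : ∑ i, x i * f i = 0 := by
        have := congrArg Subtype.val hx
        simpa [d₁, Fintype.linearCombination_apply] using this
      have h1 := hq x h0
      have hle : Submodule.span B {v : Fin r → B | ∃ i j : Fin r, v = Pi.single i (f j) - Pi.single j (f i)} ≤
          LinearMap.range (Fintype.linearCombination B
            (fun ij : Fin r × Fin r => (Pi.single ij.1 (f ij.2) - Pi.single ij.2 (f ij.1) : Fin r → B))) := by
        rw [Fintype.range_linearCombination]
        refine Submodule.span_mono ?_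
        rintro _ ⟨i, j, rfl⟩
        exact ⟨(i, j), rfl⟩
      exact hle h1
    · rintro ⟨y, rfl⟩
      refine Subtype.ext ?_
      show Fintype.linearCombination B f (Fintype.linearCombination B _ y) = 0
      rw [Fintype.linearCombination_apply B _ y, map_sum]
      refine Finset.sum_eq_zero fun ij _ => ?_
      rw [map_smul, map_sub, Fintype.linearCombination_apply_single, Fintype.linearCombination_apply_single]
      simp only [smul_eq_mul]
      ring
  haveI := hflat
  have hJ := FlatSyz.lTensor_subtype_injective_of_flat_quotient J.subtype J.injective_subtype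
    ((Submodule.mkQ (Ideal.span (Set.range f))).restrictScalars A)
    (fun x => ⟨fun hx => ⟨⟨x, (Submodule.Quotient.mk_eq_zero _).mp hx⟩, rfl⟩, fun ⟨y, hy⟩ => by
      subst hy; exact (Submodule.Quotient.mk_eq_zero _).mpr y.2⟩)
    (Submodule.mkQ_surjective _) A'
  let e := TensorProduct.piRight A A' A' (fun _ : Fin r => B)
  have key : ∀ z : A' ⊗[A] (Fin r → B), ∑ i, e z i * ((1 : A') ⊗ₜ[A] f i) = J.subtype.lTensor A' (d₁.lTensor A' z) := by
    intro z
    induction z using TensorProduct.induction_on with
    | zero => simp
    | tmul s x =>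
      simp only [e, TensorProduct.piRight_apply, TensorProduct.piRightHom_tmul, Algebra.TensorProduct.tmul_mul_tmul, mul_one,
        ← TensorProduct.tmul_sum, LinearMap.lTensor_tmul]
      congr 1
    | add y z hy hz => simp only [map_add, Pi.add_apply, add_mul, Finset.sum_add_distrib, hy, hz]
  obtain ⟨w, hw⟩ := (lTensor_exact A' hex hd₁ (e.symm a)).mp (hJ (by
    rw [map_zero, ← key, LinearEquiv.apply_symm_apply]; exact ha))
  rw [← e.apply_symm_apply a, ← hw]
  clear hw
  induction w using TensorProduct.induction_on with
  | zero => rw [map_zero, map_zero]; exact zero_mem _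
  | tmul s y =>
    have : e (d₂.lTensor A' (s ⊗ₜ y)) = ∑ ij : Fin r × Fin r, (s ⊗ₜ[A] y ij) •
        (Pi.single ij.1 ((1 : A') ⊗ₜ[A] f ij.2) - Pi.single ij.2 ((1 : A') ⊗ₜ[A] f ij.1) : Fin r → A' ⊗[A] B) := by
      funext k
      rw [LinearMap.lTensor_tmul, TensorProduct.piRight_apply, TensorProduct.piRightHom_tmul]
      simp only [d₂, LinearMap.restrictScalars_apply, Fintype.linearCombination_apply, Finset.sum_apply, TensorProduct.tmul_sum]
      refine Finset.sum_congr rfl fun ij _ => ?_
      simp only [Pi.smul_apply, Pi.sub_apply, Pi.single_apply, smul_eq_mul, mul_sub, TensorProduct.tmul_sub]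
      split_ifs <;> simp [Algebra.TensorProduct.tmul_mul_tmul]
    rw [this]
    exact sum_mem fun ij _ => Submodule.smul_mem _ _ (Submodule.subset_span ⟨ij.1, ij.2, rfl⟩)
  | add y z hy hz => rw [map_add, map_add]; exact add_mem hy hz

end Groth.Agent.S9273
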