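import Groth.Statements.S8654
import Groth.Agent.Lib.CI2.RImmComp
import Groth.Prelude.Def_RegImm
import Mathlib

set_option autoImplicit false
universe u
open CategoryTheory CategoryTheory.Limits AlgebraicGeometry
open RegImm

namespace Groth.Agent.S8654
open CategoryTheory CategoryTheory.Limits AlgebraicGeometry

/-- Let i : Y ⟶ X and j : Z ⟶ Y be Koszul-regular immersions (not necessarily closed). Then the
composite Z ⟶ X is a Koszul-regular immersion. -/
theorem result {X Y Z : Scheme.{u}} (i : Y ⟶ X) (j : Z ⟶ Y)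
    (hi : RegImm.IsRegularImmersion .koszul i) (hj : RegImm.IsRegularImmersion .koszul j) :
    RegImm.IsRegularImmersion .koszul (j ≫ i) := by
  haveI := hi.1
  haveI := hj.1
  refine ⟨inferInstance, fun z => ?_⟩
  obtain ⟨U, hzU, hclU, rs, hrs, hkrs⟩ := hi.2 (j z)
  obtain ⟨V, hzV, hclV, ts, hts, hkts⟩ := hj.2 z
  haveI := hclU
  haveI := hclV
  obtain ⟨D, hzD, hclD, L, -, hL, hkL⟩ :=
    Groth.Agent.CI2.exists_comp_data i j U.2 hzU hrs hkrs V.2 hzV hts hkts
  exact ⟨D, hzD, hclD, L, hL, hkL⟩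

end Groth.Agent.S8654
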