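import Groth.Statements.S0590
import Groth.Agent.Lib.LimH13.ModelGlue

set_option autoImplicit false
universe u
open CategoryTheory AlgebraicGeometry
open Lim

namespace Groth.Agent.S0590

/-- Every quasi-compact quasi-separated scheme is the limit of an inverse system, indexed by a nonempty
directed preorder, of quasi-compact schemes locally of finite type over the integers with affine
transition morphisms. -/
theorem result (S : Scheme.{u}) [CompactSpace S] [QuasiSeparatedSpace S] :
    ∃ (I : Type u) (_ : Preorder I) (_ : IsDirected I (fun a b => a ≤ b)) (_ : Nonempty I)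
      (D : Iᵒᵖ ⥤ Scheme.{u}) (c : Limits.Cone D) (_ : Limits.IsLimit c),
      (∀ (i j : Iᵒᵖ) (f : i ⟶ j), IsAffineHom (D.map f)) ∧
      (∀ i, CompactSpace (D.obj i) ∧
        LocallyOfFiniteType (Limits.IsTerminal.from specULiftZIsTerminal (D.obj i))) ∧
      Nonempty (c.pt ≅ S) := by
  obtain ⟨Y, g, hYc, hY, hg⟩ := LimH13.hasZModel S
  haveI : QuasiSeparatedSpace Y := hY.quasiSeparatedSpace
  refine ⟨LimH13.SubAlg.Idx (RelSpec.QCAlg.directImage g), inferInstance, inferInstance, inferInstance,
    LimH13.SubAlg.affDiag g, LimH13.SubAlg.affCone g, LimH13.SubAlg.isLimitAffCone g,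
    fun i j f => LimH13.SubAlg.isAffineHom_affDiag_map g f, fun i => ⟨inferInstance, ?_⟩,
    ⟨Iso.refl _⟩⟩
  haveI : LocallyOfFiniteType i.unop.alg.π := LimH13.SubAlg.locallyOfFiniteType_π i.unop.ft
  exact @LimH13.LFTZ.of_comp _ _ hY i.unop.alg.π (LimH13.SubAlg.locallyOfFiniteType_π i.unop.ft)

end Groth.Agent.S0590
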