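import Groth.Statements.S8982
import Groth.Agent.Lib.HTop26.AlmostBlowUp
-- import your own Groth.Agent.* helpers here

set_option autoImplicit false
universe u
open HTop

namespace Groth.Agent.S8982

open CategoryTheory CategoryTheory.Limits AlgebraicGeometry in
/-- The base change of an almost blow up square along an arbitrary morphism Y → X is an almost blow up
square over Y. The base-changed corners are introduced through fibre-product squares; the morphism
from the new exceptional corner to the new centre is the one compatible with them. -/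
theorem result {E Z X' X Y E₁ Z₁ X₁ : Scheme.{u}} {e : E ⟶ X'} {π : E ⟶ Z} {b : X' ⟶ X} {i : Z ⟶ X} (h : HTop.IsAlmostBlowUpSquare e π b i) (g : Y ⟶ X) {b₁ : X₁ ⟶ Y} {gX : X₁ ⟶ X'} (hX : IsPullback gX b₁ b g) {i₁ : Z₁ ⟶ Y} {gZ : Z₁ ⟶ Z} (hZ : IsPullback gZ i₁ i g) {e₁ : E₁ ⟶ X₁} {gE : E₁ ⟶ E} (hE : IsPullback gE e₁ e gX) {π₁ : E₁ ⟶ Z₁} (hπ : π₁ ≫ i₁ = e₁ ≫ b₁) : HTop.IsAlmostBlowUpSquare e₁ π₁ b₁ i₁ := by
  obtain ⟨h1, h2, h3, h4, h5, h6, h7⟩ := h
  have hi : IsClosedImmersion i₁ := MorphismProperty.of_isPullback (P := @IsClosedImmersion) hZ h1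
  have hker : i₁.ker = i.ker.comap g := by
    rw [← Scheme.IdealSheafData.ker_fst_of_isClosedImmersion i g, ← hZ.flip.isoPullback_hom_fst, Scheme.Hom.ker_comp_of_isIso]
  have hJ : HTop.IsLocPrincipal (i₁.ker.comap b₁) := by
    rw [hker, ← Scheme.IdealSheafData.comap_comp, ← hX.w, Scheme.IdealSheafData.comap_comp]
    exact Groth.Agent.HTop26.isLocPrincipal_comap h4 gX
  refine ⟨hi, MorphismProperty.of_isPullback (P := @LocallyOfFinitePresentation) hZ h2, ?_, hJ,
    MorphismProperty.of_isPullback (P := @IsProper) hX h5,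
    MorphismProperty.of_isPullback (P := @LocallyOfFinitePresentation) hX h6, ?_⟩
  · have hw : gE ≫ π = π₁ ≫ gZ := by
      haveI := h1
      rw [← cancel_mono i, Category.assoc, Category.assoc, ← h3.w, ← Category.assoc, hE.w, Category.assoc, hX.w, hZ.w,
        ← Category.assoc, ← Category.assoc, hπ]
    have s := hE.flip.paste_vert h3
    rw [hw, hX.w] at s
    exact IsPullback.of_bot s hπ.symm hZ.flip
  · rw [Groth.Agent.HTop26.isBlowUp_supportedOn_iff b₁ i₁.ker hJ]
    intro W q hq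
    obtain ⟨k, hk, hu⟩ := (Groth.Agent.HTop26.isBlowUp_supportedOn_iff b i.ker h4).mp h7 W (q ≫ g)
      (by rw [Scheme.IdealSheafData.comap_comp, ← hker]; exact hq)
    refine ⟨hX.lift k q hk, hX.lift_snd _ _ _, fun l hl => hX.hom_ext ?_ (hl.trans (hX.lift_snd _ _ _).symm)⟩
    rw [hX.lift_fst]
    exact hu _ (by show (l ≫ gX) ≫ b = q ≫ g; rw [Category.assoc, hX.w, ← Category.assoc, hl])

end Groth.Agent.S8982
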