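import Groth.Statements.S8983
import Groth.Agent.Lib.HTop26.AlmostBlowUp
-- import your own Groth.Agent.* helpers here

set_option autoImplicit false
universe u
open HTop

namespace Groth.Agent.S8983

open CategoryTheory CategoryTheory.Limits AlgebraicGeometry in
/-- Given an almost blow up square with top right corner X' and a closed immersion W → X' of finite
presentation, the ideal of W lies inside the ideal of sections of the structure sheaf of X'
supported on the exceptional locus E (this single condition expresses both that X' minus E is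
scheme-theoretically contained in W and that the blow up of X in Z is, the two being the same
containment of ideal sheaves here) if and only if replacing X' by W and E by the scheme-theoretic
intersection of E and W gives again an almost blow up square. -/
theorem result {E Z X' X W EW : Scheme.{u}} {e : E ⟶ X'} {π : E ⟶ Z} {b : X' ⟶ X} {i : Z ⟶ X} (h : HTop.IsAlmostBlowUpSquare e π b i) (w : W ⟶ X') [IsClosedImmersion w] [LocallyOfFinitePresentation w] {eW : EW ⟶ W} {gE : EW ⟶ E} (hEW : IsPullback gE eW e w) : w.ker ≤ HTop.supportedOn (i.ker.comap b) ↔ HTop.IsAlmostBlowUpSquare eW (gE ≫ π) (w ≫ b) i := by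
  obtain ⟨h1, h2, h3, h4, h5, h6, h7⟩ := h
  haveI := h5
  haveI := h6
  have hJ : HTop.IsLocPrincipal (i.ker.comap (w ≫ b)) := by
    rw [Scheme.IdealSheafData.comap_comp]
    exact Groth.Agent.HTop26.isLocPrincipal_comap h4 w
  have hb := (Groth.Agent.HTop26.isBlowUp_supportedOn_iff b i.ker h4).mp h7
  constructor
  · intro hle
    refine ⟨h1, h2, hEW.flip.paste_vert h3, hJ, MorphismProperty.comp_mem _ w b inferInstance h5,
      MorphismProperty.comp_mem _ w b inferInstance h6, ?_⟩
    rw [Groth.Agent.HTop26.isBlowUp_supportedOn_iff (w ≫ b) i.ker hJ]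
    intro W g hg
    obtain ⟨k, hk, hu⟩ := hb W g hg
    have hk' : w.ker ≤ k.ker := hle.trans (Groth.Agent.HTop26.supportedOn_le_ker k (by
      rw [← Scheme.IdealSheafData.comap_comp, hk]; exact hg))
    refine ⟨IsClosedImmersion.lift w k hk', by show _ ≫ w ≫ b = g; rw [IsClosedImmersion.lift_fac_assoc, hk], fun l hl => ?_⟩
    rw [← cancel_mono w, IsClosedImmersion.lift_fac]
    exact hu _ (by show (l ≫ w) ≫ b = g; rw [Category.assoc]; exact hl)
  · rintro ⟨-, -, -, hJ', -, -, h7'⟩
    let ι := (HTop.supportedOn (i.ker.comap b)).subschemeι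
    obtain ⟨k, hk, -⟩ := (Groth.Agent.HTop26.isBlowUp_supportedOn_iff (w ≫ b) i.ker hJ').mp h7' _ (ι ≫ b) h7.1
    obtain ⟨k₀, -, hu⟩ := hb _ (ι ≫ b) h7.1
    have e : k ≫ w = ι := (hu (k ≫ w) (by show (k ≫ w) ≫ b = ι ≫ b; rw [Category.assoc]; exact hk)).trans (hu ι rfl).symm
    rw [← Scheme.IdealSheafData.ker_subschemeι (HTop.supportedOn (i.ker.comap b))]
    exact (Scheme.Hom.le_ker_comp k w).trans (by rw [e])

end Groth.Agent.S8983
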