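import Groth.Statements.S11445
import Groth.Agent.Lib.GITQuot.Orbit

set_option autoImplicit false
universe u
open CategoryTheory MonoidalCategory CartesianMonoidalCategory MonObj GrpObj AlgebraicGeometry Topology
open GIT

namespace Groth.Agent.S11445

/-- Let G act on X over S and let φ : X → Y over S satisfy (i) φ ∘ σ = φ ∘ p₂, (ii) O_Y is the sheaf of
invariant functions (each Γ(U, O_Y) → Γ(φ⁻¹U, O_X) injective with image the invariant sections),
(iii) the image of every closed invariant subset of X is closed and φ(⋂ W_i) = ⋂ φ(W_i) for every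
family of closed invariant subsets. Then (Y, φ) is a categorical quotient of X by G, and φ is
submersive. -/
theorem result (S : Scheme.{u}) (G X Y : Over S) [GrpObj G]
    (a : AlgGrp.Action G X) (φ : X ⟶ Y) (hi : GIT.IsInvariant a φ)
    (hii : ∀ U : Y.left.Opens,
      Function.Injective (φ.left.app U) ∧ Set.range (φ.left.app U) = {f | GIT.IsInvSection a φ U f})
    (hiii : ∀ W : Set X.left, IsClosed W → a.act.left.base '' ((snd G X).left.base ⁻¹' W) ⊆ W →
      IsClosed (φ.left.base '' W))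
    (hiii' : ∀ (J : Type u) (W : J → Set X.left),
      (∀ i, IsClosed (W i) ∧ a.act.left.base '' ((snd G X).left.base ⁻¹' W i) ⊆ W i) →
      φ.left.base '' (⋂ i, W i) = ⋂ i, φ.left.base '' W i) :
    GIT.IsCatQuot a φ ∧ IsQuotientMap φ.left.base := by
  have hinvset : ∀ {Z : Over S} (ψ : X ⟶ Z), GIT.IsInvariant a ψ → ∀ C : Set Z.left,
      a.act.left.base '' ((snd G X).left.base ⁻¹' (ψ.left.base ⁻¹' C)) ⊆ ψ.left.base ⁻¹' C := by
    rintro Z ψ hψ C _ ⟨p, hp, rfl⟩
    show ψ.left (a.act.left p) ∈ C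
    rw [← Scheme.Hom.comp_apply, hψ.left, Scheme.Hom.comp_apply]
    exact hp
  have hsurj : Function.Surjective φ.left.base := by
    have hcl : IsClosed (φ.left.base '' Set.univ) := hiii _ isClosed_univ (Set.subset_univ _)
    intro y
    by_contra hy
    let U : Y.left.Opens := ⟨(φ.left.base '' Set.univ)ᶜ, hcl.isOpen_compl⟩
    have hbot : φ.left ⁻¹ᵁ U = ⊥ := eq_bot_iff.2 fun x hx => (hx ⟨x, trivial, rfl⟩).elim
    have : Subsingleton Γ(X.left, φ.left ⁻¹ᵁ U) := by
      rw [hbot]; exact CommRingCat.subsingleton_of_isTerminal X.left.sheaf.isTerminalOfEmpty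
    haveI : Subsingleton Γ(Y.left, U) := (hii U).1.subsingleton
    have hU : U = ⊥ := by
      have := Y.left.basicOpen_of_isUnit (U := U) (isUnit_of_subsingleton 0)
      rw [Scheme.basicOpen_zero] at this
      exact this.symm
    have hyU : y ∈ U := fun ⟨x, _, hx⟩ => hy ⟨x, hx⟩
    rw [hU] at hyU
    exact hyU
  refine ⟨Groth.Agent.GITQuot.isCatQuot_of_cover hi hsurj hii fun Z ψ hψ y => ?_, ?_⟩
  · choose V hV hzV hsub using fun z : Z.left =>
      exists_isAffineOpen_mem_and_subset (show z ∈ (⊤ : Z.left.Opens) from trivial)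
    by_contra hno
    push Not at hno
    have hmem : y ∈ ⋂ z, φ.left.base '' (ψ.left.base ⁻¹' (V z : Set Z.left)ᶜ) := by
      refine Set.mem_iInter.2 fun z => ?_
      by_contra hy
      let U : Y.left.Opens := ⟨(φ.left.base '' (ψ.left.base ⁻¹' (V z : Set Z.left)ᶜ))ᶜ,
        (hiii _ ((V z).2.isClosed_compl.preimage ψ.left.continuous) (hinvset ψ hψ _)).isOpen_compl⟩
      refine hno U (V z) (hV z) hy fun x hx => ?_
      by_contra hxV
      exact hx ⟨x, hxV, rfl⟩
    rw [← hiii' Z.left (fun z => ψ.left.base ⁻¹' (V z : Set Z.left)ᶜ)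
      fun z => ⟨(V z).2.isClosed_compl.preimage ψ.left.continuous, hinvset ψ hψ _⟩] at hmem
    obtain ⟨x, hx, -⟩ := hmem
    exact Set.mem_iInter.1 hx (ψ.left.base x) (hzV _)
  · refine isQuotientMap_iff_isClosed.2 ⟨hsurj, fun C => ⟨fun hC => hC.preimage φ.left.continuous, fun hC => ?_⟩⟩
    have := hiii _ hC (hinvset φ hi C)
    rwa [Set.image_preimage_eq C hsurj] at this

end Groth.Agent.S11445
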