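import Groth.Statements.S17526
import Groth.Agent.Lib.HopfMod.Ideal

set_option autoImplicit false
universe u
open GLin

namespace Groth.Agent.S17526

/-- Let `k` be a field, `H` a commutative Hopf algebra of finite type over `k` which is linearly
reductive (every finite-dimensional comodule is semisimple; `G = Spec H` is a linearly reductive
affine group), and `A` a Noetherian commutative `k`-algebra with a coaction of `H` that is an
algebra map (an action of `G` on `Spec A`). Then the ring of invariants `A^G` is Noetherian. (The
published corollary is stated over an algebraically closed field; it is the affine case of a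
statement about good moduli spaces valid over any field, and is stated here over any field.) -/
theorem result
    (k : Type u) [Field k] (H : Type u) [CommRing H] [HopfAlgebra k H] [Algebra.FiniteType k H]
    (hG : HopfRep.IsLinearlyReductive k H)
    (A : Type u) [CommRing A] [Algebra k A] [IsNoetherianRing A]
    [HopfRep.Comod k H A] [GLin.IsCoactAlg k H A] :
    IsNoetherianRing ↥(GLin.invariants k H A) := by
  refine ⟨fun J => ?_⟩
  obtain ⟨T, hT, hspan⟩ := Submodule.fg_span_iff_fg_span_finset_subset
    ((GLin.invariants k H A).val '' (J : Set ↥(GLin.invariants k H A))) |>.1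
    (IsNoetherian.noetherian (Submodule.span A _))
  choose y hy hyv using fun t : T => hT t.2
  classical
  refine ⟨Finset.univ.image y, le_antisymm ?_ ?_⟩
  · refine Submodule.span_le.2 fun a ha => ?_
    obtain ⟨t, -, rfl⟩ := Finset.mem_image.1 (Finset.mem_coe.1 ha)
    exact hy t
  · intro x hx
    rw [Finset.coe_image, Finset.coe_univ, Set.image_univ]
    refine HopfMod.invariant_mem_span hG (f := y) ?_
    have h : (x : A) ∈ Submodule.span A (T : Set A) := hspan ▸ Submodule.subset_span ⟨x, hx, rfl⟩
    refine Submodule.span_mono (fun t ht => ?_) h
    exact ⟨⟨t, ht⟩, hyv ⟨t, ht⟩⟩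

end Groth.Agent.S17526
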