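import Groth.Statements.S1375
import Groth.Agent.Lib.Slice.Global
import Groth.Agent.Lib.Slice.Saturation

set_option autoImplicit false
universe u
open FlatMor

set_option backward.isDefEq.respectTransparency.types false

namespace Groth.Agent.S1375

open AlgebraicGeometry CategoryTheory Limits in
/-- Let S' → S be flat, locally of finite presentation and surjective (an fppf cover by one morphism).
Then there is a flat, locally of finite presentation, locally quasi-finite and surjective T → S
which factors through S' locally on T. -/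
theorem result {S' S : Scheme.{u}} (g : S' ⟶ S) [Flat g] [LocallyOfFinitePresentation g] [Surjective g] :
    ∃ (T : Scheme.{u}) (h : T ⟶ S), Flat h ∧ LocallyOfFinitePresentation h ∧ LocallyQuasiFinite h ∧ Surjective h ∧
      ∀ t : ↑T, ∃ (V : T.Opens) (r : ↑V ⟶ S'), t ∈ V ∧ r ≫ g = V.ι ≫ h := by
  obtain ⟨Y, g₀, hg₀, -, hfl, hlfp, hqf, hsur⟩ :=
    Groth.Agent.Slice.exists_slicing (s := pullback.fst g g) (t := pullback.snd g g)
      ⟨fun a b e₁ e₂ => pullback.hom_ext e₁ e₂,
       ⟨pullback.lift (𝟙 _) (𝟙 _) rfl, pullback.lift_fst _ _ _, pullback.lift_snd _ _ _⟩,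
       ⟨(pullbackSymmetry g g).hom, by simp, by simp⟩,
       fun a b e => ⟨pullback.lift (a ≫ pullback.fst g g) (b ≫ pullback.snd g g) (by
          rw [Category.assoc, Category.assoc, pullback.condition, reassoc_of% e, pullback.condition]), pullback.lift_fst _ _ _,
          pullback.lift_snd _ _ _⟩⟩
  have sq : IsPullback (pullback.fst g₀ (pullback.fst g g))
      (pullback.snd g₀ (pullback.fst g g) ≫ pullback.snd g g) (g₀ ≫ g) g :=
    ((IsPullback.of_hasPullback g₀ (pullback.fst g g)).flip.paste_horiz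
      (IsPullback.of_hasPullback g g).flip).flip
  have hp : Surjective (pullback.fst g₀ (pullback.fst g g)) :=
    MorphismProperty.of_isPullback (P := @Surjective) sq.flip inferInstance
  have hgood : ∀ y, Groth.Agent.Slice.GoodAt (g₀ ≫ g) y := by
    intro y
    obtain ⟨z, rfl⟩ := hp.surj y
    exact Groth.Agent.Slice.goodAt_of_isPullback sq z ⟨Flat.stalkMap _ z, Scheme.Hom.quasiFiniteAt _ z⟩
  refine ⟨Y, g₀ ≫ g, Flat.of_stalkMap _ fun y => (hgood y).1, inferInstance, ?_, ⟨fun x => ?_⟩,
    fun t => ⟨⊤, (⊤ : Y.Opens).ι ≫ g₀, trivial, Category.assoc _ _ _⟩⟩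
  · rw [← Scheme.Hom.quasiFiniteLocus_eq_top_iff, eq_top_iff]
    exact fun x _ => (hgood x).2
  · obtain ⟨x', rfl⟩ := (inferInstance : Surjective g).surj x
    obtain ⟨z, hz⟩ := hsur.surj x'
    refine ⟨pullback.fst g₀ (pullback.fst g g) z, ?_⟩
    rw [← Scheme.Hom.comp_apply, sq.w, Scheme.Hom.comp_apply, hz]

end Groth.Agent.S1375
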