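import Groth.Statements.S1378
import Groth.Agent.S1375
import Groth.Agent.Lib.AbsClosure4.Scheme

set_option autoImplicit false
universe u
open FlatMor

set_option backward.isDefEq.respectTransparency.types false

namespace Groth.Agent.S1378

open AlgebraicGeometry CategoryTheory Limits TensorProduct

theorem exists_lift_chart {S S₁ : Scheme.{u}} {R : CommRingCat.{u}} (k : Spec R ⟶ S) (h : S₁ ⟶ S) [Flat h]
    [LocallyOfFinitePresentation h] [LocallyQuasiFinite h] [Surjective h]
    (hroots : Groth.Agent.AbsClosure4.MonicRoots R)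
    (hdom : ∀ P : Ideal R, ∀ [P.IsPrime], IsDomain (Localization.AtPrime P))
    {S₂ : Scheme.{u}} (g₂ : S₂ ⟶ S) (href : ∀ t : S₁, ∃ (V : S₁.Opens) (r : (V : Scheme.{u}) ⟶ S₂), t ∈ V ∧ r ≫ g₂ = V.ι ≫ h)
    (P : Spec R) :
    ∃ (R' : CommRingCat.{u}) (j : Spec R' ⟶ Spec R) (r : Spec R' ⟶ S₂),
      IsOpenImmersion j ∧ P ∈ Set.range j ∧ r ≫ g₂ = j ≫ k := by
  obtain ⟨z, hz⟩ : ∃ z, pullback.fst k h z = P := (inferInstance : Surjective (pullback.fst k h)).surj P
  obtain ⟨W₀, r₀, hzW, hr₀⟩ := href (pullback.snd k h z)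
  obtain ⟨A, hA, hzA, hAW⟩ := exists_isAffineOpen_mem_and_subset (X := pullback k h) (x := z)
    (U := pullback.snd k h ⁻¹ᵁ W₀) hzW
  obtain ⟨φ, hφ⟩ := Spec.map_surjective (hA.fromSpec ≫ pullback.fst k h)
  have hflat : φ.hom.Flat := (HasRingHomProperty.Spec_iff (P := @Flat)).1 (hφ ▸ inferInstance)
  have hfp : φ.hom.FinitePresentation :=
    (HasRingHomProperty.Spec_iff (P := @LocallyOfFinitePresentation)).1 (hφ ▸ inferInstance)
  have hqf : φ.hom.QuasiFinite :=
    (HasRingHomProperty.Spec_iff (P := @LocallyQuasiFinite)).1 (hφ ▸ inferInstance)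
  algebraize [φ.hom]
  have hqP : Spec.map φ (hA.primeIdealOf ⟨z, hzA⟩) = P := by
    rw [hφ, Scheme.Hom.comp_apply, hA.fromSpec_primeIdealOf, hz]
  let q := (hA.primeIdealOf ⟨z, hzA⟩).asIdeal
  have hmem : ∀ a : R, algebraMap R Γ(pullback k h, A) a ∈ q ↔ a ∈ P.asIdeal := fun a => by
    rw [← hqP]; rfl
  let D := Localization.AtPrime P.asIdeal
  have := hdom P.asIdeal
  have hu : ∀ y : P.asIdeal.primeCompl, IsUnit (algebraMap R q.ResidueField y) := fun y => by
    rw [isUnit_iff_ne_zero, IsScalarTower.algebraMap_apply R Γ(pullback k h, A) q.ResidueField, Ne,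
      Ideal.algebraMap_residueField_eq_zero]
    exact fun hy => y.2 ((hmem y).1 hy)
  let fD : D →ₐ[R] q.ResidueField :=
    IsLocalization.liftAlgHom (M := P.asIdeal.primeCompl) (f := Algebra.ofId R _) hu
  let fB : Γ(pullback k h, A) →ₐ[R] q.ResidueField := IsScalarTower.toAlgHom R _ _
  let f := Algebra.TensorProduct.lift fD fB fun _ _ => Commute.all _ _
  let q' : Ideal (D ⊗[R] Γ(pullback k h, A)) := RingHom.ker f
  have : q'.IsPrime := RingHom.ker_isPrime f.toRingHom
  have : q'.LiesOver (IsLocalRing.maximalIdeal D) := by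
    refine ⟨((IsLocalRing.maximalIdeal.isMaximal D).eq_of_le (this.comap _).ne_top ?_)⟩
    rw [← Localization.AtPrime.map_eq_maximalIdeal, Ideal.map_le_iff_le_comap]
    intro a ha
    change f (algebraMap D (D ⊗[R] Γ(pullback k h, A)) (algebraMap R D a)) = 0
    rw [Algebra.TensorProduct.algebraMap_apply, Algebra.TensorProduct.lift_tmul, map_one, mul_one]
    change fD (algebraMap R D a) = 0
    rw [fD.commutes, IsScalarTower.algebraMap_apply R Γ(pullback k h, A) q.ResidueField,
      Ideal.algebraMap_residueField_eq_zero]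
    exact (hmem a).2 ha
  obtain ⟨σC⟩ := Groth.Agent.AbsClosure4.exists_section
    (hroots.of_isLocalization P.asIdeal.primeCompl D) q'
  obtain ⟨a, ha, ⟨σ⟩⟩ := Groth.Agent.AbsClosure4.exists_algHom_away P.asIdeal
    ((σC.restrictScalars R).comp Algebra.TensorProduct.includeRight)
  let j : Spec (.of (Localization.Away a)) ⟶ Spec R := Spec.map (CommRingCat.ofHom (algebraMap R (Localization.Away a)))
  let l : Spec (.of (Localization.Away a)) ⟶ pullback k h := Spec.map (CommRingCat.ofHom σ.toRingHom) ≫ hA.fromSpec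
  have hl : l ≫ pullback.fst k h = j := by
    simp only [l, j, Category.assoc, ← hφ, ← Spec.map_comp]
    congr 1
    ext x
    exact σ.commutes x
  have hrange : Set.range (l ≫ pullback.snd k h) ⊆ Set.range W₀.ι := by
    rintro _ ⟨x, rfl⟩
    rw [W₀.range_ι, Scheme.Hom.comp_apply]
    refine hAW ?_
    rw [show A.carrier = Set.range hA.fromSpec from hA.range_fromSpec.symm]
    exact ⟨_, rfl⟩
  refine ⟨_, j, IsOpenImmersion.lift W₀.ι (l ≫ pullback.snd k h) hrange ≫ r₀,
    IsOpenImmersion.of_isLocalization a, ?_, ?_⟩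
  · change P ∈ Set.range (PrimeSpectrum.comap (algebraMap R (Localization.Away a)))
    rw [PrimeSpectrum.localization_away_comap_range (Localization.Away a) a]
    exact ha
  · rw [Category.assoc, hr₀, IsOpenImmersion.lift_fac_assoc, Category.assoc, ← pullback.condition,
      reassoc_of% hl]

open AlgebraicGeometry CategoryTheory Limits in
/-- Let S' → S be flat, locally of finite presentation and surjective (an fppf cover by one morphism).
Then there is a surjective integral morphism T → S which factors through S' Zariski locally on T. -/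
theorem result {S' S : Scheme.{u}} (g : S' ⟶ S) [Flat g] [LocallyOfFinitePresentation g] [Surjective g] :
    ∃ (T : Scheme.{u}) (π : T ⟶ S), Surjective π ∧ IsIntegralHom π ∧
      ∀ t : ↑T, ∃ (V : T.Opens) (r : ↑V ⟶ S'), t ∈ V ∧ r ≫ g = V.ι ≫ π := by
  obtain ⟨S₁, h, _, _, _, _, href⟩ := Groth.Agent.S1375.result g
  refine ⟨Groth.Agent.AbsClosure4.absClosure S, Groth.Agent.AbsClosure4.toBase S, inferInstance,
    inferInstance, fun t => ?_⟩
  obtain ⟨U, P, rfl⟩ := Groth.Agent.AbsClosure4.exists_chart S t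
  have href' : ∀ t : S₁, ∃ (V : S₁.Opens) (r : (V : Scheme.{u}) ⟶ S'), t ∈ V ∧ r ≫ g = V.ι ≫ h := href
  obtain ⟨R', j, r, hj, ⟨x, hx⟩, hr⟩ := exists_lift_chart
    (Groth.Agent.AbsClosure4.chart S U ≫ Groth.Agent.AbsClosure4.toBase S) h
    Groth.Agent.AbsClosure4.monicRoots_integralClosure
    (fun Q _ => Groth.Agent.AbsClosure4.isDomain_atPrime_integralClosure Q) g href' P
  refine ⟨(j ≫ Groth.Agent.AbsClosure4.chart S U).opensRange,
    (j ≫ Groth.Agent.AbsClosure4.chart S U).isoOpensRange.inv ≫ r,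
    ⟨x, by rw [Scheme.Hom.comp_apply, hx]⟩, ?_⟩
  rw [Category.assoc, hr, ← Category.assoc j, ← Category.assoc, Scheme.Hom.isoOpensRange_inv_comp]

end Groth.Agent.S1378
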