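import Groth.Statements.S0385
import Groth.Agent.Lib.QCGen12.Finite
import Mathlib.AlgebraicGeometry.ZariskisMainTheorem

set_option autoImplicit false
universe u
open FlatMor

namespace Groth.Agent.S0385

open AlgebraicGeometry CategoryTheory Limits in
/-- Zariski's Main Theorem in its finite-factorization form (Mathlib already has the open immersion into
the integral relative normalization; the content here is replacing integral by finite): a
quasi-finite separated morphism (locally of finite type, quasi-compact, with finite fibres) to a
quasi-compact quasi-separated scheme is a quasi-compact open immersion followed by a finite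
morphism. -/
theorem result {X S : Scheme.{u}} (f : X ⟶ S) [CompactSpace S] [QuasiSeparatedSpace S] [LocallyQuasiFinite f] [LocallyOfFiniteType f] [QuasiCompact f] [IsSeparated f] :
    ∃ (T : Scheme.{u}) (j : X ⟶ T) (π : T ⟶ S), IsOpenImmersion j ∧ QuasiCompact j ∧ IsFinite π ∧ j ≫ π = f := by
  have : QuasiSeparatedSpace X := quasiSeparatedSpace_of_quasiSeparated f
  have : CompactSpace X := QuasiCompact.compactSpace_of_compactSpace f
  let P : f.normalization.Opens := f.toNormalization.opensRange
  have hP : IsCompact (P : Set f.normalization) := isCompact_range f.toNormalization.continuous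
  let e : X ≅ P.toScheme := f.toNormalization.isoOpensRange
  have he : e.hom ≫ P.ι = f.toNormalization := Scheme.Hom.isoOpensRange_hom_ι _
  have hf : e.hom ≫ P.ι ≫ f.fromNormalization = f := by
    rw [← Category.assoc, he, Scheme.Hom.toNormalization_fromNormalization]
  have : LocallyOfFiniteType (P.ι ≫ f.fromNormalization) := by
    rw [← MorphismProperty.cancel_left_of_respectsIso @LocallyOfFiniteType e.hom, hf]
    infer_instance
  obtain ⟨T, j, ρ, hj, hρ, hjρ⟩ := QCGen12.exists_finite_factor f.fromNormalization P hP
  have hc : (e.hom ≫ j) ≫ ρ = f := by rw [Category.assoc, hjρ, hf]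
  have : QuasiCompact ((e.hom ≫ j) ≫ ρ) := by rw [hc]; infer_instance
  exact ⟨T, e.hom ≫ j, ρ, inferInstance, QuasiCompact.of_comp (e.hom ≫ j) ρ, hρ, hc⟩


end Groth.Agent.S0385
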