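import Groth.Statements.S1376
import Groth.Agent.S0385
import Mathlib.AlgebraicGeometry.Morphisms.Immersion

set_option autoImplicit false
universe u
open FlatMor

set_option backward.isDefEq.respectTransparency.types false

namespace Groth.Agent.S1376


set_option backward.isDefEq.respectTransparency.types false in
open AlgebraicGeometry CategoryTheory Limits in
theorem extend {S V : Scheme.{u}} [CompactSpace ↑S] [QuasiSeparatedSpace ↑S] (U : S.Opens) (hU : IsCompact (U : Set ↑S))
    (v : V ⟶ (U : Scheme.{u})) [IsFinite v] [Surjective v] :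
    ∃ (V' : Scheme.{u}) (π : V' ⟶ S) (i : V ⟶ V'), Surjective π ∧ IsFinite π ∧ IsPullback i v π U.ι := by
  haveI : QuasiCompact U.ι := (quasiCompact_iff _).2 fun W hW hWc => by
    refine U.ι.isEmbedding.isInducing.isCompact_iff.2 ?_
    rw [Set.image_preimage_eq_inter_range, U.range_ι]
    exact QuasiSeparatedSpace.inter_isCompact _ _ hW hWc U.2 hU
  obtain ⟨T, j, π, hj, hjc, hπ, hjπ⟩ := Groth.Agent.S0385.result (v ≫ U.ι)
  have hrange : closure (Set.range j) ∩ π ⁻¹' (U : Set S) = Set.range j := by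
    have hle : ∀ x, j x ∈ π ⁻¹ᵁ U := fun x => by
      show π (j x) ∈ U
      rw [← Scheme.Hom.comp_apply, hjπ, Scheme.Hom.comp_apply]
      exact (v x).2
    let jU : V ⟶ (π ⁻¹ᵁ U).toScheme :=
      IsOpenImmersion.lift (π ⁻¹ᵁ U).ι j (by rintro _ ⟨x, rfl⟩; rw [Scheme.Opens.range_ι]; exact hle x)
    have hjU : jU ≫ (π ∣_ U) = v := by
      rw [← cancel_mono U.ι, Category.assoc, morphismRestrict_ι, ← Category.assoc, IsOpenImmersion.lift_fac, hjπ]
    haveI : IsFinite (jU ≫ (π ∣_ U)) := hjU ▸ inferInstance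
    haveI : IsFinite jU := IsFinite.of_comp jU (π ∣_ U)
    have hcl : IsClosed (Set.range jU) := jU.isClosedMap.isClosed_range
    obtain ⟨C, hC, hCeq⟩ := (π ⁻¹ᵁ U).ι.isEmbedding.isInducing.isClosed_iff.1 hcl
    have hj' : Set.range j = C ∩ π ⁻¹' (U : Set S) := by
      rw [← IsOpenImmersion.lift_fac (π ⁻¹ᵁ U).ι j (by rintro _ ⟨x, rfl⟩; rw [Scheme.Opens.range_ι]; exact hle x),
        Scheme.Hom.comp_base, TopCat.coe_comp, Set.range_comp]
      change (π ⁻¹ᵁ U).ι '' Set.range jU = _
      rw [← hCeq, Set.image_preimage_eq_inter_range, Scheme.Opens.range_ι]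
      rfl
    refine Set.Subset.antisymm (fun a ha => ?_) (fun a ha => ⟨subset_closure ha, (hj'.le ha).2⟩)
    exact hj'.ge ⟨closure_minimal (hj'.le.trans Set.inter_subset_left) hC ha.1, ha.2⟩
  let W := j.image
  let Z := (Scheme.IdealSheafData.vanishingIdeal
    (⟨(U : Set S)ᶜ, U.2.isClosed_compl⟩ : TopologicalSpace.Closeds S)).subscheme
  let z : Z ⟶ S := (Scheme.IdealSheafData.vanishingIdeal
    (⟨(U : Set S)ᶜ, U.2.isClosed_compl⟩ : TopologicalSpace.Closeds S)).subschemeι
  have hz : Set.range z = (U : Set S)ᶜ := by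
    rw [Scheme.IdealSheafData.range_subschemeι, Scheme.IdealSheafData.coe_support_vanishingIdeal]
    rfl
  let π' : W ⨿ Z ⟶ S := coprod.desc (j.imageι ≫ π) z
  have hπl : ∀ w, π' (coprod.inl (C := Scheme) w) = π (j.imageι w) := fun w => by
    rw [← Scheme.Hom.comp_apply, coprod.inl_desc, Scheme.Hom.comp_apply]
  have hπr : ∀ w, π' (coprod.inr (C := Scheme) w) = z w := fun w => by
    rw [← Scheme.Hom.comp_apply, coprod.inr_desc]
  let i : V ⟶ W ⨿ Z := j.toImage ≫ coprod.inl
  have hiπ : i ≫ π' = v ≫ U.ι := by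
    rw [Category.assoc, coprod.inl_desc, ← Category.assoc, Scheme.Hom.toImage_imageι, hjπ]
  have hir : Set.range i = π' ⁻¹' (U : Set S) := by
    refine Set.Subset.antisymm ?_ fun w hw => ?_
    · rintro _ ⟨x, rfl⟩
      show π' (i x) ∈ (U : Set S)
      rw [← Scheme.Hom.comp_apply, hiπ, Scheme.Hom.comp_apply]
      exact (v x).2
    · obtain ⟨a, rfl⟩ := (coprodMk W Z).surjective w
      cases a with
      | inl a =>
        rw [coprodMk_inl] at hw ⊢
        rw [Set.mem_preimage, hπl] at hw
        have hmem : j.imageι a ∈ closure (Set.range j) := by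
          have : j.imageι a ∈ Set.range j.ker.subschemeι := ⟨a, rfl⟩
          rw [Scheme.IdealSheafData.range_subschemeι, Scheme.Hom.support_ker] at this
          exact this
        obtain ⟨x, hx⟩ := hrange.le ⟨hmem, hw⟩
        refine ⟨x, ?_⟩
        show (j.toImage ≫ coprod.inl) x = _
        rw [Scheme.Hom.comp_apply]
        congr 1
        exact j.imageι.isEmbedding.injective (by rw [← Scheme.Hom.comp_apply, Scheme.Hom.toImage_imageι, hx])
      | inr b =>
        rw [coprodMk_inr] at hw
        rw [Set.mem_preimage, hπr] at hw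
        exact absurd hw (hz.le ⟨b, rfl⟩)
  haveI : IsFinite (j.imageι ≫ π) := inferInstance
  haveI : IsFinite z := inferInstance
  refine ⟨W ⨿ Z, π', i, ⟨fun s => ?_⟩, inferInstance, ?_⟩
  · by_cases hs : s ∈ U
    · obtain ⟨x, hx⟩ := (inferInstance : Surjective v).surj ⟨s, hs⟩
      refine ⟨i x, ?_⟩
      rw [← Scheme.Hom.comp_apply, hiπ, Scheme.Hom.comp_apply, hx]
      rfl
    · obtain ⟨b, hb⟩ := hz.ge hs
      exact ⟨_, (hπr b).trans hb⟩
  · refine (IsOpenImmersion.isPullback v i U.ι π' hiπ ?_).flip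
    apply SetLike.coe_injective
    rw [Scheme.Opens.opensRange_ι]
    exact hir.symm

open AlgebraicGeometry CategoryTheory Limits in
/-- Let S be quasi-compact and quasi-separated, U a quasi-compact open of S and V → U a surjective
finite morphism. Then there is a surjective finite morphism V' → S whose base change to U is V (V is
the fibre product of V' and U over S). -/
theorem result {S V : Scheme.{u}} [CompactSpace ↑S] [QuasiSeparatedSpace ↑S] (U : S.Opens) (hU : IsCompact (U : Set ↑S))
    (v : V ⟶ (U : Scheme.{u})) [IsFinite v] [Surjective v] :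
    ∃ (V' : Scheme.{u}) (π : V' ⟶ S) (i : V ⟶ V'), Surjective π ∧ IsFinite π ∧ IsPullback i v π U.ι := by
  exact extend U hU v

end Groth.Agent.S1376
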