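import Groth.Statements.S4495
import Mathlib.Geometry.RingedSpace.LocallyRingedSpace
-- import your own Groth.Agent.* helpers here

set_option autoImplicit false
universe u
open FlatCx

namespace Groth.Agent.S4495

open CategoryTheory AlgebraicGeometry Opposite in
/-- A locally ringed space Z is connected, in the sense that it is not the disjoint union of two
nonempty open subsets (the empty space being allowed), if and only if every idempotent of the ring
of global sections Γ(Z, O_Z) is 0 or 1 (equivalently, Γ(Z, O_Z) is not isomorphic to a product of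
two nonzero rings). -/
theorem result (Z : LocallyRingedSpace.{u}) :
    PreconnectedSpace Z ↔
      ∀ e : Z.presheaf.obj (op ⊤), IsIdempotentElem e → e = 0 ∨ e = 1 := by
  let Z' := Z.toRingedSpace
  constructor
  · intro hc e he
    have he0 : e * (1 - e) = 0 := by rw [mul_sub, mul_one, he, sub_self]
    have hcov : ∀ z : Z, z ∈ Z'.basicOpen e ∨ z ∈ Z'.basicOpen (1 - e) := fun z => by
      rcases IsLocalRing.isUnit_or_isUnit_one_sub_self (Z.presheaf.germ ⊤ z trivial e) with h | h
      · exact .inl ((Z'.mem_top_basicOpen e z).2 h)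
      · refine .inr ((Z'.mem_top_basicOpen (1 - e) z).2 ?_)
        rw [map_sub, map_one]; exact h
    have hdis : ∀ z : Z, z ∈ Z'.basicOpen e → z ∉ Z'.basicOpen (1 - e) := fun z h1 h2 => by
      have h := ((Z'.mem_top_basicOpen e z).1 h1).mul ((Z'.mem_top_basicOpen (1 - e) z).1 h2)
      rw [← map_mul, he0, map_zero] at h
      exact not_isUnit_zero (M₀ := Z.presheaf.stalk z) h
    have hclopen : IsClopen ((Z'.basicOpen e : TopologicalSpace.Opens Z'.toPresheafedSpace) : Set Z'.toPresheafedSpace) := by
      refine ⟨?_, Z'.basicOpen e |>.2⟩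
      rw [← isOpen_compl_iff]
      rw [show (Z'.basicOpen e : Set Z'.toPresheafedSpace)ᶜ = (Z'.basicOpen (1 - e) : Set Z'.toPresheafedSpace) from
        Set.ext fun z => ⟨(hcov z).resolve_left, fun h h' => hdis z h' h⟩]
      exact (Z'.basicOpen (1 - e)).2
    have : PreconnectedSpace Z'.toPresheafedSpace := hc
    rcases isClopen_iff.1 hclopen with h | h
    · refine .inl ?_
      have hu : IsUnit (1 - e) := Z'.isUnit_of_isUnit_germ ⊤ _ fun z _ =>
        (Z'.mem_top_basicOpen (1 - e) z).1 ((hcov z).resolve_left fun hz => Set.notMem_empty z (h ▸ hz))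
      exact hu.mul_left_eq_zero.1 he0
    · refine .inr ?_
      have hu : IsUnit e := Z'.isUnit_of_isUnit_germ ⊤ _ fun z _ =>
        (Z'.mem_top_basicOpen e z).1 (h.ge (Set.mem_univ z) : z ∈ (Z'.basicOpen e : Set Z'.toPresheafedSpace))
      exact (sub_eq_zero.1 (hu.mul_right_eq_zero.1 he0)).symm
  · intro h
    rw [preconnectedSpace_iff_clopen]
    intro s hs
    let V : Bool → TopologicalSpace.Opens Z := fun b => if b then ⟨s, hs.2⟩ else ⟨sᶜ, hs.1.isOpen_compl⟩
    let c : ∀ b, Z.presheaf.obj (op (V b)) := fun b => if b then 1 else 0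
    have hne : ∀ W : TopologicalSpace.Opens Z, W ≤ V true → W ≤ V false → ∀ x y : Z.presheaf.obj (op W), x = y :=
      fun W h1 h2 x y => TopCat.Presheaf.section_ext Z.sheaf W x y fun z hz => absurd (h1 hz) (h2 hz)
    obtain ⟨e, he, -⟩ := TopCat.Sheaf.existsUnique_gluing' Z.sheaf V ⊤ (fun b => homOfLE le_top)
      (fun z _ => TopologicalSpace.Opens.mem_iSup.2 (by
        by_cases hz : z ∈ s
        · exact ⟨true, hz⟩
        · exact ⟨false, hz⟩)) c (fun a b => by
        cases a <;> cases b
        · rfl
        · exact hne _ inf_le_right inf_le_left _ _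
        · exact hne _ inf_le_left inf_le_right _ _
        · rfl)
    let e' : Z.presheaf.obj (op ⊤) := e
    have hg : ∀ (b : Bool) (z : Z) (hz : z ∈ V b),
        Z.presheaf.germ ⊤ z trivial e' = Z.presheaf.germ (V b) z hz (c b) := fun b z hz =>
      (Z.presheaf.germ_res_apply (homOfLE (le_top : V b ≤ ⊤)) z hz e').symm.trans (congrArg _ (he b))
    have hc : ∀ z : Z, ∃ b, z ∈ V b := fun z => by
      by_cases hz : z ∈ s
      · exact ⟨true, hz⟩
      · exact ⟨false, hz⟩
    have hid : IsIdempotentElem e' := by
      refine TopCat.Presheaf.section_ext Z.sheaf ⊤ _ _ fun z _ => ?_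
      obtain ⟨b, hb⟩ := hc z
      show Z.presheaf.germ ⊤ z trivial (e' * e') = Z.presheaf.germ ⊤ z trivial e'
      rw [map_mul, hg b z hb, ← map_mul]
      cases b <;> simp [c]
    rcases h e' hid with h0 | h0
    · refine .inl (Set.eq_empty_of_forall_notMem fun z hz => ?_)
      have h1 := hg true z hz
      rw [h0, map_zero, show c true = 1 from rfl, map_one] at h1
      exact zero_ne_one (α := Z.presheaf.stalk z) h1
    · refine .inr (Set.eq_univ_of_forall fun z => by_contra fun hz => ?_)
      have h1 := hg false z hz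
      rw [h0, map_one, show c false = 0 from rfl, map_zero] at h1
      exact one_ne_zero (α := Z.presheaf.stalk z) h1

end Groth.Agent.S4495
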