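import Groth.Statements.S1618
import Groth.Agent.Lib.DimF18.Basic

set_option autoImplicit false
universe u
open CategoryTheory CategoryTheory.Limits AlgebraicGeometry
open Variety

namespace Groth.Agent.S1618

/-- Let X be irreducible and locally of finite type over a field k. Then every nonempty open subset of X
has the same Krull dimension as X. -/
theorem result (k : Type u) [Field k] (X : Scheme.{u}) [X.Over (Spec (CommRingCat.of k))] [LocallyOfFiniteType (X ↘ (Spec (CommRingCat.of k)))] [IrreducibleSpace X]
    (U : X.Opens) (hU : (U : Set X).Nonempty) : topologicalKrullDim U = topologicalKrullDim X := by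
  set f := X ↘ Spec (CommRingCat.of k)
  show topologicalKrullDim (U : Scheme.{u}) = _
  haveI : Nonempty (U : Scheme.{u}) := hU.to_subtype
  haveI : IrreducibleSpace (U : Scheme.{u}) := by
    haveI : Nonempty U := hU.to_subtype
    exact (isIrreducible_iff_irreducibleSpace.1 (⟨hU, (IrreducibleSpace.isIrreducible_univ X).2.open_subset U.2 (Set.subset_univ _)⟩) :)
  rw [VarDim.dim_eq_sdim_genericPoint f, VarDim.dim_eq_sdim_genericPoint (U.ι ≫ f),
    VarDim.sdim_comp_of_surjective f U.ι, genericPoint_eq_of_isOpenImmersion U.ι]

end Groth.Agent.S1618
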