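import Groth.Statements.S20008
import Groth.Agent.Lib.SpecialExt15.Basic
import Groth.Agent.Lib.Cartier.Smooth
import Groth.Agent.Lib.OrbitTop19.Smooth
import Groth.Agent.Lib.TorusIsog19.Basic
-- import your own Groth.Agent.* helpers here

set_option autoImplicit false
universe u
open CategoryTheory MonoidalCategory CartesianMonoidalCategory MonObj AlgebraicGeometry
open GIT

namespace Groth.Agent.S20008

/-- An extension of special groups is special. Over an algebraically closed field k of characteristic
zero, let G be an affine group scheme of finite type over k with a closed normal subgroup scheme N,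
the kernel of a surjective homomorphism q : G → Q onto an affine group scheme Q of finite type over
k (the factor group G/N). Call an affine group scheme H of finite type over k special when for every
action of H on a k-scheme X and every morphism ψ : X → Y of k-schemes which is an H-torsor over Y —
the square formed by the action, the second projection H ×_k X → X and ψ twice is cartesian, and ψ
acquires sections on the members of some fpqc covering family of Y — the morphism ψ acquires
sections on the members of some Zariski open covering of Y. If N and Q are special, then G is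
special. -/
theorem result
    (k : Type u) [Field k] [IsAlgClosed k] [CharZero k]
    (G N Q : Over (Spec (CommRingCat.of k))) [GrpObj G] [GrpObj N] [GrpObj Q]
    [IsAffine G.left] [LocallyOfFiniteType G.hom]
    (iN : N ⟶ G) [IsMonHom iN] [IsClosedImmersion iN.left] (hnorm : AlgGrp.IsNormalHom iN)
    (q : G ⟶ Q) [IsMonHom q] [Surjective q.left] [IsAffine Q.left] [LocallyOfFiniteType Q.hom]
    (hker : AlgGrp.IsKernel iN q)
    (hN : ∀ (X Y : Over (Spec (CommRingCat.of k))) (b : AlgGrp.Action N X) (ψ : X ⟶ Y),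
      IsPullback b.act (snd N X) ψ ψ →
      NonAbH1.IsLocallyTrivialFor Scheme.fpqcPrecoverage (Over.mk ψ.left : Over Y.left) →
      NonAbH1.IsLocallyTrivialFor Scheme.zariskiPrecoverage (Over.mk ψ.left : Over Y.left))
    (hQ : ∀ (X Y : Over (Spec (CommRingCat.of k))) (b : AlgGrp.Action Q X) (ψ : X ⟶ Y),
      IsPullback b.act (snd Q X) ψ ψ →
      NonAbH1.IsLocallyTrivialFor Scheme.fpqcPrecoverage (Over.mk ψ.left : Over Y.left) →
      NonAbH1.IsLocallyTrivialFor Scheme.zariskiPrecoverage (Over.mk ψ.left : Over Y.left))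
    (X Y : Over (Spec (CommRingCat.of k))) (a : AlgGrp.Action G X) (φ : X ⟶ Y)
    (hcart : IsPullback a.act (snd G X) φ φ)
    (hloc : NonAbH1.IsLocallyTrivialFor Scheme.fpqcPrecoverage (Over.mk φ.left : Over Y.left)) :
    NonAbH1.IsLocallyTrivialFor Scheme.zariskiPrecoverage (Over.mk φ.left : Over Y.left) := by

  haveI := Groth.Agent.Cartier.smooth_of_charZero (K := k) Q
  haveI : AlgebraicGeometry.IsReduced Q.left := Groth.Agent.OrbitTop19.isReduced_of_smooth Q.hom
  haveI : QuasiCompact q.left := inferInstance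
  haveI : Flat q.left := Groth.Agent.TorusIsog19.flat_of_surjective q
  haveI : Mono iN := (Over.forget _).mono_of_mono_map (f := iN) (inferInstanceAs (Mono iN.left))
  obtain ⟨W, ψ, r, bQ, hψr, hc₁, hl₁, hc₂, hl₂⟩ :=
    Groth.Agent.SpecialExt15.exists_factor k G N Q X Y iN q hker a φ hcart hloc
  obtain ⟨R₁, hR₁, hs₁⟩ := hN X W (a.restrict iN) ψ hc₁ hl₁
  obtain ⟨R₂, hR₂, hs₂⟩ := hQ W Y bQ r hc₂ hl₂
  obtain ⟨ι₂, Z₂, f₂, rfl⟩ := Presieve.exists_eq_ofArrows R₂
  choose s₂ hs₂' using fun i => hs₂ (f₂ i) (Presieve.ofArrows.mk i)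
  have hR₁' : ∀ i, R₁.pullbackArrows (s₂ i) ∈ Scheme.zariskiPrecoverage (Z₂ i) := fun i =>
    Precoverage.pullbackArrows_mem (s₂ i) hR₁
  choose ι₁ Z₁ f₁ hf₁ using fun i => Presieve.exists_eq_ofArrows (R₁.pullbackArrows (s₂ i))
  refine ⟨_, Precoverage.comp_mem_coverings f₂ hR₂ f₁ (fun i => hf₁ i ▸ hR₁' i), ?_⟩
  rintro S' f ⟨⟨i, j⟩⟩
  obtain ⟨V, v, hv, p, hp⟩ := Groth.Agent.TorsorSch25.exists_of_pullbackArrows (R := R₁) (p := s₂ i) (f := f₁ i j) (by
    rw [hf₁ i]; exact Presieve.ofArrows.mk j)
  obtain ⟨s, hs⟩ := hs₁ v hv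
  refine ⟨p ≫ s, ?_⟩
  have hs' : s ≫ ψ.left = v := hs
  have h2' : s₂ i ≫ r.left = f₂ i := hs₂' i
  show (p ≫ s) ≫ φ.left = f₁ i j ≫ f₂ i
  rw [← hψr, Over.comp_left, Category.assoc, reassoc_of% hs', reassoc_of% hp, h2']


end Groth.Agent.S20008
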