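import Groth.Statements.S3034
import Groth.Agent.Lib.QuotFlat20.Basic
import Groth.Agent.S3036
import Mathlib.AlgebraicGeometry.Morphisms.QuasiCompact

set_option autoImplicit false
universe u
open CategoryTheory MonoidalCategory CartesianMonoidalCategory MonObj GrpObj AlgebraicGeometry TensorProduct
open SGA3

namespace Groth.Agent.S3034

/-- Let A be a local artinian ring and u : G → H a quasi-compact homomorphism between group schemes
locally of finite type over A, with G flat over A and the kernel of u flat over A. Then u factors as
a homomorphism p : G → C which is faithfully flat and locally of finite presentation followed by a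
homomorphism i : C → H which is a closed immersion. (Stated here for G flat over A; the published
statement also covers non-flat G.) -/
theorem result (A : Type u) [CommRing A] [IsArtinianRing A] [IsLocalRing A]
    (G H : Over (Spec (CommRingCat.of A))) [GrpObj G] [GrpObj H] [LocallyOfFiniteType G.hom] [LocallyOfFiniteType H.hom]
    [Flat G.hom] (u : G ⟶ H) [IsMonHom u] [QuasiCompact u.left]
    (hN : Flat (Limits.pullback.snd u.left (η[H] : 𝟙_ (Over (Spec (CommRingCat.of A))) ⟶ H).left)) :
    ∃ (C : Over (Spec (CommRingCat.of A))) (_ : GrpObj C) (p : G ⟶ C) (i : C ⟶ H), IsMonHom p ∧ IsMonHom i ∧ p ≫ i = u ∧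
      Flat p.left ∧ Surjective p.left ∧ LocallyOfFinitePresentation p.left ∧ IsClosedImmersion i.left := by
  haveI : IsNoetherianRing (CommRingCat.of A) := inferInstanceAs (IsNoetherianRing A)
  haveI : IsLocallyNoetherian G.left := LocallyOfFiniteType.isLocallyNoetherian G.hom
  haveI : LocallyOfFinitePresentation G.hom := LocallyOfFinitePresentation.iff_locallyOfFiniteType.2 ‹_›
  have sq := (IsPullback.of_hasPullback u η[H]).map (Over.forget _)
  have hKf : Flat (Limits.pullback u η[H]).hom := by
    haveI := hN
    rw [← Over.w (Limits.pullback.snd u η[H])]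
    haveI : Flat (Limits.pullback.snd u η[H]).left := by
      rw [show (Limits.pullback.snd u η[H]).left = sq.isoPullback.hom ≫ Limits.pullback.snd u.left η[H].left from
        sq.isoPullback_hom_snd.symm]
      exact MorphismProperty.comp_mem _ _ _ inferInstance hN
    haveI : Flat (𝟙_ (Over (Spec (CommRingCat.of A)))).hom := inferInstanceAs (Flat (𝟙 _))
    infer_instance
  have hmk : AlgGrp.IsKernel (Limits.pullback.fst u η[H]) u := by
    have h := IsPullback.of_hasPullback u η[H]
    rw [show Limits.pullback.snd u η[H] = toUnit _ from toUnit_unique _ _] at h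
    exact h
  obtain ⟨Q, hQ, p, hp, ⟨h1, h2, h3, -⟩, hQfp, m, hm, hmono, hu⟩ :=
    QuotFlat20.exists_kernelQuotient (Or.inl ‹LocallyOfFiniteType H.hom›) u (Limits.pullback.fst u η[H]) hmk hKf
  haveI := hp; haveI := hm; haveI := hmono; haveI := h1
  haveI : QuasiCompact (p.left ≫ m.left) := by rw [← Over.comp_left, hu]; infer_instance
  haveI : QuasiCompact m.left := by
    refine ⟨fun U hU hUc => ?_⟩
    have hc : IsCompact ((p.left ≫ m.left) ⁻¹' U) := QuasiCompact.isCompact_preimage U hU hUc
    have := hc.image p.left.continuous
    rwa [show (⇑(p.left ≫ m.left)) = ⇑m.left ∘ ⇑p.left from rfl, Set.preimage_comp,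
      Set.image_preimage_eq _ p.left.surjective] at this
  exact ⟨Q, hQ, p, m, hp, hm, hu, h2, h1, h3, S3036.result A Q H m⟩


end Groth.Agent.S3034
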