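import Groth.Statements.S0108
import Groth.Agent.Lib.Kummer24.Epi
import Mathlib.CategoryTheory.Sites.EpiMono

set_option autoImplicit false
open CategoryTheory CategoryTheory.Limits AlgebraicGeometry Opposite
universe u
open EtBase

namespace Groth.Agent.S0108

/-- The Kummer sequence — when n is invertible on S, the n-th power map on the multiplicative group
sheaf is an epimorphism of étale sheaves (its kernel μ_n is, by definition in the prelude, the sheaf
of n-th roots of unity, so the sequence 0 → μ_n → G_m → G_m → 0 is exact). -/
theorem result (S : Scheme.{u}) (n : ℕ) (hn : IsUnit (n : Γ(S, ⊤))) : Epi (EtCoh.powMap S n) := by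
  exact (Sheaf.isLocallySurjective_iff_epi' _ (EtCoh.powMap S n)).mp
    (Groth.Agent.Kummer24.isLocallySurjective_powMap n hn)

end Groth.Agent.S0108
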