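import Groth.Statements.S0149
import Groth.Agent.Lib.EtLim24.Theorem
import Groth.Agent.Lib.EtLim24.Torsion
import Groth.Agent.S0101
import Mathlib.CategoryTheory.Presentable.Directed

set_option autoImplicit false
universe u
open CategoryTheory CategoryTheory.Limits AlgebraicGeometry Opposite
open EtPBC

namespace Groth.Agent.S0149

/-- If X = lim X_i is a cofiltered limit of quasi-compact quasi-separated schemes with affine transition
morphisms and cd(X_i) <= d for all i, then cd(X) <= d. -/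
theorem result {I : Type u} [SmallCategory I] [IsCofiltered I] (D : I ⥤ Scheme.{u})
    [∀ {i j : I} (a : i ⟶ j), IsAffineHom (D.map a)]
    [∀ i, CompactSpace (D.obj i)] [∀ i, QuasiSeparatedSpace (D.obj i)]
    (c : Cone D) (hc : IsLimit c) (d : ℕ) (h : ∀ i, EtCoh.CohDimLE (D.obj i) d) :
    EtCoh.CohDimLE c.pt d := by
  intro F hF q hq
  obtain ⟨α, _, _, _, G, hG⟩ := IsFiltered.exists_directed Iᵒᵖ
  let K : αᵒᵖ ⥤ I := G.leftOp
  haveI : K.Initial := by
    haveI := hG
    show (G.op ⋙ (opOpEquivalence I).functor).Initial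
    infer_instance
  let Xs : αᵒᵖ ⥤ Scheme.{u} := K ⋙ D
  let c₂ : Cone Xs := c.whisker K
  have hc₂ : IsLimit c₂ := (Functor.Initial.isLimitWhiskerEquiv K c).symm hc
  haveI : ∀ i : α, CompactSpace ↥(Xs.obj (Opposite.op i)) := fun i => inferInstanceAs (CompactSpace ↥(D.obj (K.obj (Opposite.op i))))
  haveI : ∀ i : α, QuasiSeparatedSpace ↥(Xs.obj (Opposite.op i)) := fun i => inferInstanceAs (QuasiSeparatedSpace ↥(D.obj (K.obj (Opposite.op i))))
  haveI : ∀ a, PreservesFiniteLimits (EtCoh.pull (c₂.π.app a)) := fun a => Groth.Agent.S0101.result _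
  haveI : ∀ ⦃a b : αᵒᵖ⦄ (e : a ⟶ b), PreservesFiniteLimits (EtCoh.pull (Xs.map e)) := fun a b e => Groth.Agent.S0101.result _
  have haff : ∀ ⦃a b : αᵒᵖ⦄ (e : a ⟶ b), IsAffineHom (Xs.map e) := fun a b e => inferInstanceAs (IsAffineHom (D.map (K.map e)))
  refine Groth.Agent.EtLim24.subsingleton_of_stages haff hc₂ F q fun i => ?_
  haveI : IsAffineHom (c₂.π.app (Opposite.op i)) := AlgebraicGeometry.isAffineHom_π_app _ _ hc (K.obj (Opposite.op i))
  exact h _ _ (Groth.Agent.EtLim24.isTorsion_push (c₂.π.app (Opposite.op i)) hF) q hq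

end Groth.Agent.S0149
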