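import Groth.Prelude.Def_PBC
import Groth.Agent.Lib.CdField3.Lef1
-- import your own Groth.Agent.* helpers here

namespace EtPBC
end EtPBC

set_option autoImplicit false
universe u
open CategoryTheory CategoryTheory.Limits AlgebraicGeometry Opposite
open EtPBC

namespace Groth.Agent.S0147

/-- Let K be a field with cd(K) <= e and X affine of finite type over K of dimension <= 1. Then cd(X) <=
1 + e. (Special case of the affine bound.) -/
theorem result (K : Type u) [Field K] (X : Scheme.{u}) [IsAffine X]
    (f : X ⟶ Spec (CommRingCat.of K)) [LocallyOfFiniteType f]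
    (e : ℕ) (hd : topologicalKrullDim X ≤ 1) (hK : EtCoh.CohDimLE (Spec (CommRingCat.of K)) e) :
    EtCoh.CohDimLE X (1 + e) := by
  exact CdField3.cohDimLE_affineCurve_field f e hd hK

end Groth.Agent.S0147
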