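import Groth.Statements.S7645
import Groth.Agent.Lib.PoleOne18.Ample
import Groth.Agent.Lib.VB17.Setup
import Groth.Agent.Lib.CohFound.EmbedPow

set_option autoImplicit false
universe u
open CategoryTheory CategoryTheory.Limits AlgebraicGeometry
open Variety

namespace Groth.Agent.S7645

/-- A proper scheme of dimension at most one over a field k is H-projective over k, i.e. admits a closed
immersion into P^n_k over k for some n. -/
theorem result (k : Type u) [Field k] (X : Scheme.{u}) [X.Over (Spec (CommRingCat.of k))] [IsProper (X ↘ (Spec (CommRingCat.of k)))]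
    (hdim : topologicalKrullDim X ≤ 1) :
    ∃ (n : ℕ) (i : X ⟶ CohB1.ProjSpace n k), IsClosedImmersion i ∧
      i ≫ CohB1.ProjSpace.toSpec n k = X ↘ (Spec (CommRingCat.of k)) := by
  haveI : IsNoetherian X := by
    have := LocallyOfFiniteType.isLocallyNoetherian (X ↘ (Spec (CommRingCat.of k)))
    have : CompactSpace X := QuasiCompact.compactSpace_of_compactSpace (X ↘ (Spec (CommRingCat.of k)))
    exact ⟨⟩
  haveI : X.IsSeparated := ⟨by
    have : terminal.from X = (X ↘ (Spec (CommRingCat.of k))) ≫ terminal.from _ := Subsingleton.elim _ _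
    rw [this]; infer_instance⟩
  obtain ⟨L, hL⟩ := Groth.Agent.PoleOne18.exists_isAmple (X := X) fun y =>
    (Groth.Agent.VB17.ringKrullDim_stalk_le_topologicalKrullDim y).trans hdim
  obtain ⟨n, d, j, -, hj, hq, -⟩ :=
    Groth.Agent.CohFound.exists_closedImmersion_pow_of_isAmple (X ↘ (Spec (CommRingCat.of k))) hL
  exact ⟨n, j, hj, hq⟩

end Groth.Agent.S7645
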