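import Groth.Statements.S1627
import Groth.Agent.Lib.AmpleImm18.AffineCrit
import Groth.Agent.S7645

set_option autoImplicit false
universe u
open CategoryTheory CategoryTheory.Limits AlgebraicGeometry
open Variety

namespace Groth.Agent.S1627

/-- A curve X over k (integral, separated, of finite type, of dimension one) is either affine or
H-projective, i.e. admits a closed immersion into some P^d_k over k. -/
theorem result (k : Type u) [Field k] (X : Scheme.{u}) [X.Over (Spec (CommRingCat.of k))] [IsIntegral X] [IsSeparated (X ↘ (Spec (CommRingCat.of k)))] [LocallyOfFiniteType (X ↘ (Spec (CommRingCat.of k)))] [QuasiCompact (X ↘ (Spec (CommRingCat.of k)))] (hdim : topologicalKrullDim X = 1) :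
    IsAffine X ∨ ∃ (d : ℕ) (c : X ⟶ CohB1.ProjSpace d k), IsClosedImmersion c ∧ c ≫ CohB1.ProjSpace.toSpec d k = X ↘ (Spec (CommRingCat.of k)) := by
  by_cases hp : IsProper (X ↘ (Spec (CommRingCat.of k)))
  · exact Or.inr (Groth.Agent.S7645.result k X hdim.le)
  refine Or.inl (Groth.Agent.AmpleImm18.isAffine_of_forall_not_isProper (X ↘ (Spec (CommRingCat.of k))) hdim.le
    fun η hη _ hpr => hp ?_)
  have hgen : η = genericPoint X := (hη _ (genericPoint_specializes η)).symm
  let I : X.IdealSheafData :=
    Scheme.IdealSheafData.vanishingIdeal (⟨closure {η}, isClosed_closure⟩ : TopologicalSpace.Closeds X)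
  have hI : I = ⊥ := by
    rw [← Scheme.IdealSheafData.support_eq_top_iff]
    refine SetLike.coe_injective ?_
    rw [Scheme.IdealSheafData.coe_support_vanishingIdeal, hgen]
    exact genericPoint_spec X
  haveI : IsIso I.subschemeι := (Scheme.isIso_subschemeι_iff_eq_bot I).2 hI
  have : IsProper (inv I.subschemeι ≫ I.subschemeι ≫ (X ↘ (Spec (CommRingCat.of k)))) := by
    haveI := hpr
    infer_instance
  rwa [IsIso.inv_hom_id_assoc] at this

end Groth.Agent.S1627
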