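import Groth.Statements.S18813
import Groth.Agent.Lib.CoalgH23.Integral

set_option autoImplicit false
universe u
open scoped TensorProduct
open HopfRep

namespace Groth.Agent.S18813

open scoped Groth.Agent.CoalgH23
open Groth.Agent.CoalgH23 WithConv

/-- Let k be a field, K a field extension of k and A a commutative Hopf algebra over k, the coordinate
ring of an affine group scheme G (no finiteness assumed). Then G is linearly reductive (every
finite-dimensional A-comodule is semisimple) if and only if the base change G_K is (every
finite-dimensional comodule over the K-Hopf algebra K ⊗_k A is semisimple). (The source phrases both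
sides as semisimplicity of all representations, which over a field is equivalent to semisimplicity
of the finite-dimensional ones since every comodule is the union of its finite-dimensional
subcomodules.) -/
theorem result (k K A : Type u) [Field k] [Field K]
    [Algebra k K] [CommRing A] [HopfAlgebra k A] :
    HopfRep.IsLinearlyReductive k A ↔ HopfRep.IsLinearlyReductive K (K ⊗[k] A) := by
  constructor
  · intro hG
    obtain ⟨l, hl1, hl⟩ := Groth.Agent.HopfMod.exists_integral hG
    let L : K ⊗[k] A →ₗ[K] K := (TensorProduct.AlgebraTensorModule.rid k K K).toLinearMap ∘ₗ l.baseChange K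
    have hLt : ∀ (c : K) (a : A), L (c ⊗ₜ[k] a) = l a • c := fun c a => by simp [L]
    refine isLinearlyReductive_of_integral (l := L) (by rw [Algebra.TensorProduct.one_def, hLt, hl1, one_smul]) fun y => ?_
    induction y with
    | zero => simp
    | add p q hp hq => simp only [map_add, hp, hq]
    | tmul c a =>
      rw [TensorProduct.comul_tmul, CommSemiring.comul_apply, hLt]
      have h := congrArg (fun z : A => c ⊗ₜ[k] z) (hl a)
      have e : ∀ z : A ⊗[k] A, TensorProduct.lid K (K ⊗[k] A) (L.rTensor (K ⊗[k] A)
          (TensorProduct.AlgebraTensorModule.tensorTensorTensorComm k K k K K K A A (((1 : K) ⊗ₜ[K] c) ⊗ₜ[k] z))) =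
          c ⊗ₜ[k] TensorProduct.lid k A (l.rTensor A z) := by
        intro z
        induction z with
        | zero => simp
        | add p q hp hq => simp only [TensorProduct.tmul_add, map_add, hp, hq]
        | tmul p q =>
          rw [TensorProduct.AlgebraTensorModule.tensorTensorTensorComm_tmul, LinearMap.rTensor_tmul,
            TensorProduct.lid_tmul, hLt, LinearMap.rTensor_tmul, TensorProduct.lid_tmul, smul_assoc, one_smul,
            TensorProduct.tmul_smul]
      rw [e, h, Algebra.TensorProduct.algebraMap_apply, Algebra.algebraMap_eq_smul_one]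
      simp [Algebra.smul_def]
      rw [Algebra.algebraMap_eq_smul_one, TensorProduct.tmul_smul, TensorProduct.smul_tmul', Algebra.smul_def]
  · intro hG
    obtain ⟨L, hL1, hL⟩ := Groth.Agent.HopfMod.exists_integral hG
    obtain ⟨p, hp⟩ : ∃ p : K →ₗ[k] k, p 1 = 1 := by
      obtain ⟨p, hp⟩ := (Algebra.linearMap k K).exists_leftInverse_of_injective
        (LinearMap.ker_eq_bot.2 (algebraMap k K).injective)
      exact ⟨p, by simpa using LinearMap.congr_fun hp 1⟩
    let L' : A →ₗ[k] K := L.restrictScalars k ∘ₗ (TensorProduct.mk k K A) 1
    refine isLinearlyReductive_of_integral (l := p ∘ₗ L') (by simp [L', ← Algebra.TensorProduct.one_def, hL1, hp]) fun a => ?_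
    have h := hL ((1 : K) ⊗ₜ[k] a)
    rw [TensorProduct.comul_tmul, CommSemiring.comul_apply] at h
    have e : ∀ z : A ⊗[k] A, TensorProduct.lid K (K ⊗[k] A) (L.rTensor (K ⊗[k] A)
        (TensorProduct.AlgebraTensorModule.tensorTensorTensorComm k K k K K K A A (((1 : K) ⊗ₜ[K] (1 : K)) ⊗ₜ[k] z))) =
        L'.rTensor A z := by
      intro z
      induction z with
      | zero => simp
      | add p q hp hq => simp only [TensorProduct.tmul_add, map_add, hp, hq]
      | tmul p q => simp [L', TensorProduct.smul_tmul']
    rw [e, Algebra.TensorProduct.algebraMap_apply, Algebra.algebraMap_self_apply] at h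
    have h2 := congrArg (fun z => TensorProduct.lid k A (p.rTensor A z)) h
    simp only [← LinearMap.rTensor_comp_apply, LinearMap.rTensor_tmul, TensorProduct.lid_tmul] at h2
    rw [h2, Algebra.algebraMap_eq_smul_one]
    rfl

end Groth.Agent.S18813
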