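import Groth.Statements.S0440
import Groth.Agent.Lib.ThickSp15.Scheme
-- import your own Groth.Agent.* helpers here

set_option autoImplicit false
universe u
open FlatMor

namespace Groth.Agent.S0440

open AlgebraicGeometry CategoryTheory Limits in
/-- If a scheme receives a closed immersion from an affine scheme which is a bijection on points, then
it is itself affine. -/
theorem result {X X' : Scheme.{u}} (t : X ⟶ X') [IsClosedImmersion t] (ht : Function.Surjective t) [IsAffine X] : IsAffine X' := by
  let S : Scheme.{u} := ⊤_ Scheme.{u}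
  let T : Over S := Over.mk (terminal.from X)
  let T' : Over S := Over.mk (terminal.from X')
  let f : T ⟶ T' := Over.homMk t (terminal.hom_ext _ _)
  have : IsAffine T.left := ‹IsAffine X›
  have hi : AlgSp.IsThickMor ((AlgSp.yon S).map f) :=
    (AlgSp.repWith_yon_map_iff AlgSp.thick _).2 ⟨‹_›, ⟨ht⟩⟩
  obtain ⟨U, hU, ⟨e⟩⟩ :=
    Groth.Agent.ThickSp15.exists_affine_of_thick (AlgSp.IsAlgSpace.yon_obj T') hi
  let e' : U ≅ T' := (AlgSp.yon S).preimageIso e
  have : IsIso e'.inv.left := inferInstanceAs (IsIso ((Over.forget S).map e'.inv))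
  exact .of_isIso e'.inv.left

end Groth.Agent.S0440
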