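import Groth.Statements.S1302
import Groth.Agent.S0440
import Groth.Agent.S1304

set_option autoImplicit false
universe u
open FlatMor

set_option backward.isDefEq.respectTransparency.types false

namespace Groth.Agent.S1302


open AlgebraicGeometry CategoryTheory Limits in
theorem aff_iff {X X' S S' : Scheme.{u}} (iX : X ⟶ X') (iS : S ⟶ S') (f : X ⟶ S) (f' : X' ⟶ S')
    (hX : MoreMor.IsThickening iX) (hS : MoreMor.IsThickening iS) (w : iX ≫ f' = f ≫ iS) :
    IsAffineHom f ↔ IsAffineHom f' := by
  obtain ⟨_, _⟩ := hX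
  obtain ⟨_, _⟩ := hS
  constructor
  · intro _
    refine ⟨fun V hV => ?_⟩
    have h1 : IsAffineOpen (iX ⁻¹ᵁ (f' ⁻¹ᵁ V)) := by
      rw [← Scheme.Hom.comp_preimage, w, Scheme.Hom.comp_preimage]
      exact (hV.preimage iS).preimage f
    haveI : IsAffine (iX ⁻¹ᵁ (f' ⁻¹ᵁ V) : X.Opens).toScheme := h1
    haveI : IsClosedImmersion (iX ∣_ (f' ⁻¹ᵁ V)) := IsZariskiLocalAtTarget.restrict (P := @IsClosedImmersion.{u}) inferInstance _
    haveI : Surjective (iX ∣_ (f' ⁻¹ᵁ V)) := IsZariskiLocalAtTarget.restrict (P := @Surjective.{u}) inferInstance _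
    exact Groth.Agent.S0440.result (iX ∣_ (f' ⁻¹ᵁ V)) (Surjective.surj)
  · intro _
    haveI : IsAffineHom (f ≫ iS) := by rw [← w]; infer_instance
    exact MorphismProperty.of_postcomp (W := @IsAffineHom) (W' := @IsSeparated) f iS inferInstance inferInstance

open AlgebraicGeometry CategoryTheory Limits in
/-- For a morphism of thickenings, that is a commutative square whose horizontal maps are thickenings
(closed immersions that are surjective on points), the morphism between the thin schemes is affine
if and only if the morphism between the thick ones is. -/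
theorem result {X X' S S' : Scheme.{u}} (iX : X ⟶ X') (iS : S ⟶ S') (f : X ⟶ S) (f' : X' ⟶ S')
    (hX : MoreMor.IsThickening iX) (hS : MoreMor.IsThickening iS) (w : iX ≫ f' = f ≫ iS) :
    IsAffineHom f ↔ IsAffineHom f' := by
  exact aff_iff iX iS f f' hX hS w

end Groth.Agent.S1302
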