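import Groth.Statements.S4863
import Groth.Agent.Lib.FlatH4.ModFlatAt
import Groth.Agent.Lib.FlatH4.FlatLocusFP

set_option autoImplicit false
universe u
open EGA43

namespace Groth.Agent.S4863


open Groth.Agent AlgebraicGeometry


open AlgebraicGeometry CategoryTheory Limits in
/-- First assertion, for a module: let f : X ⟶ Y be locally of finite presentation and F a
quasi-coherent O_X-module of finite presentation. Then the set of points of X at which F is f-flat
is open. -/
theorem result {X Y : Scheme.{u}} (f : X ⟶ Y)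
    [LocallyOfFinitePresentation f] (F : X.Modules) [Coh.IsQCoh F] (hF : CohB1.IsFP F) :
    IsOpen {x : X | FlatMod.IsFlatOverAt f F x} := by
  refine isOpen_iff_forall_mem_open.mpr fun x hx => ?_
  obtain ⟨U, hU, hyU, -⟩ :=
    exists_isAffineOpen_mem_and_subset (X := Y) (x := f x) (U := ⊤) trivial
  obtain ⟨W, hW, hxW, hWU⟩ :=
    exists_isAffineOpen_mem_and_subset (X := X) (x := x) (U := f ⁻¹ᵁ U) hyU
  letI : Algebra Γ(Y, U) Γ(X, W) := (f.appLE U W hWU).hom.toAlgebra
  haveI : Algebra.FinitePresentation Γ(Y, U) Γ(X, W) := f.finitePresentation_appLE hU hW hWU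
  letI := FlatH4.secModuleOver f F U W hWU
  haveI : IsScalarTower Γ(Y, U) Γ(X, W) Γ(F, W) := IsScalarTower.of_algebraMap_smul fun _ _ => rfl
  haveI : Module.FinitePresentation Γ(X, W) Γ(F, W) := M1.finitePresentation_sections hF hW
  have hopen := FlatH4.isOpen_flat_localized (R := Γ(Y, U)) (S := Γ(X, W)) (M := Γ(F, W))
  have hc : Continuous fun y : W => hW.primeIdealOf y := hW.isoSpec.hom.continuous
  refine ⟨_, ?_, W.2.isOpenEmbedding_subtypeVal.isOpenMap _ (hopen.preimage hc),
    ⟨⟨x, hxW⟩, (FlatH4.isFlatOverAt_iff f F U hU W hW hWU hxW).1 hx, rfl⟩⟩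
  rintro _ ⟨⟨z, hz⟩, hzf, rfl⟩
  exact (FlatH4.isFlatOverAt_iff f F U hU W hW hWU hz).2 hzf

end Groth.Agent.S4863
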