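import Groth.Statements.S4849
import Groth.Agent.Lib.SchDom.FlatStage
import Groth.Agent.S4863

set_option autoImplicit false
universe u
open CategoryTheory AlgebraicGeometry
open EGA43

namespace Groth.Agent.S4849

open Groth.Agent CategoryTheory.Limits

/-- Let S be the limit of a cofiltered system (S_i) of schemes with affine transition morphisms, S_{i₀}
a quasi-compact stage, f₀ : X₀ ⟶ Y₀ an S_{i₀}-morphism between schemes of finite presentation over
S_{i₀}, and F₀ a quasi-coherent O_{X₀}-module of finite presentation. Let f : X ⟶ Y and F be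
obtained by base change to S. Then F is f-flat if and only if there are an index i over i₀ and base
changes f_i : X_i ⟶ Y_i, F_i of f₀, F₀ to S_i with F_i f_i-flat. (Base changes are expressed by
pullback squares; the stage S_{i₀} is only assumed quasi-compact.) -/
theorem result {I : Type u} [SmallCategory I] [IsCofiltered I]
    (D : I ⥤ Scheme.{u}) (c : Limits.Cone D) (hc : Limits.IsLimit c)
    [∀ (i j : I) (φ : i ⟶ j), IsAffineHom (D.map φ)] (i₀ : I) [CompactSpace (D.obj i₀)]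
    {X₀ Y₀ : Scheme.{u}} (f₀ : X₀ ⟶ Y₀) (g₀ : Y₀ ⟶ D.obj i₀)
    [LocallyOfFinitePresentation g₀] [QuasiCompact g₀] [QuasiSeparated g₀]
    [LocallyOfFinitePresentation (f₀ ≫ g₀)] [QuasiCompact (f₀ ≫ g₀)] [QuasiSeparated (f₀ ≫ g₀)]
    (F₀ : X₀.Modules) [Coh.IsQCoh F₀] (hF₀ : CohB1.IsFP F₀)
    {X Y : Scheme.{u}} (f : X ⟶ Y) (g : Y ⟶ c.pt) (qY : Y ⟶ Y₀) (qX : X ⟶ X₀)
    (hY : IsPullback qY g g₀ (c.π.app i₀)) (hX : IsPullback qX f f₀ qY) :
    FlatMod.IsFlatOver f ((Scheme.Modules.pullback qX).obj F₀) ↔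
      ∃ (i : I) (φ : i ⟶ i₀) (Xi Yi : Scheme.{u}) (fi : Xi ⟶ Yi) (gi : Yi ⟶ D.obj i)
        (pY : Yi ⟶ Y₀) (pX : Xi ⟶ X₀),
        IsPullback pY gi g₀ (D.map φ) ∧ IsPullback pX fi f₀ pY ∧
          FlatMod.IsFlatOver fi ((Scheme.Modules.pullback pX).obj F₀) := by
  classical
  haveI : LocallyOfFinitePresentation f₀ := SchBasic.locallyOfFinitePresentation_of_comp f₀ g₀
  haveI : ∀ {i j : I} (a : i ⟶ j), IsAffineHom (D.map a) := fun a => inferInstance
  haveI : IsAffineHom (c.π.app i₀) := isAffineHom_π_app D c hc i₀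
  haveI : IsAffineHom qY := MorphismProperty.of_isPullback (P := @IsAffineHom) hY.flip ‹_›
  have hZ : IsZero (kernel (𝟙 F₀)) := isZero_kernel_of_mono _
  haveI : Coh.IsQCoh (kernel (𝟙 F₀)) := M1.isQCoh_isZero hZ
  let h₀ : kernel (𝟙 F₀) ⟶ F₀ := 0
  constructor
  · intro hflat
    let c' : Cone (Over.forget i₀ ⋙ D) := c.whisker (Over.forget i₀)
    have hc' : IsLimit c' := (Functor.Initial.isLimitWhiskerEquiv (Over.forget i₀) c).symm hc
    have hq : ∀ k, c'.π.app k ≫ (Descend.overT D i₀).app k = c.π.app i₀ := fun k => c.w k.hom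
    let E := Descend.pbDiagram (Over.forget i₀ ⋙ D) (Descend.overT D i₀) g₀
    let tE := Descend.pbFst (Over.forget i₀ ⋙ D) (Descend.overT D i₀) g₀
    let e := Descend.pbCone _ (Descend.overT D i₀) g₀ c' hq hY
    have he : IsLimit e := Descend.pbIsLimit _ (Descend.overT D i₀) g₀ c' hq hY hc'
    have hqe : ∀ k, e.π.app k ≫ tE.app k = qY := fun k =>
      Descend.pbCone_fst _ (Descend.overT D i₀) g₀ c' hq hY k
    let eF := Descend.pbCone E tE f₀ e hqe hX
    have heF : IsLimit eF := Descend.pbIsLimit E tE f₀ e hqe hX he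
    haveI : CompactSpace X₀ := Descend.compactSpace_stage (f₀ ≫ g₀)
    haveI : ∀ k, IsAffineHom (tE.app k) := fun k => inferInstance
    haveI : ∀ {i j} (b : i ⟶ j), IsAffineHom (E.map b) := fun b => Descend.isAffineHom_map _ tE b
    haveI : ∀ {i j} (b : i ⟶ j), IsAffineHom ((Descend.pbDiagram E tE f₀).map b) := fun b => inferInstance
    haveI : CompactSpace X := Scheme.compactSpace_of_isLimit _ eF heF
    have hopen : ∀ k, IsOpen {z : ↥((Descend.pbDiagram E tE f₀).obj k) | FlatMod.IsFlatOverAt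
        (pullback.snd f₀ (tE.app k)) ((Scheme.Modules.pullback (pullback.fst f₀ (tE.app k))).obj F₀) z} :=
      fun k => by
        exact @Groth.Agent.S4863.result _ _ (pullback.snd f₀ (tE.app k))
          (MorphismProperty.pullback_snd (P := @LocallyOfFinitePresentation) f₀ (tE.app k) ‹_›) _
          (M1.isQCoh_pullback _ ‹_›) (M1.isFP_pullback _ hF₀)
    let U : ∀ k, ((Descend.pbDiagram E tE f₀).obj k).Opens := fun k => ⟨_, hopen k⟩
    have hmap : ∀ {j k} (b : j ⟶ k) (z : ↥((Descend.pbDiagram E tE f₀).obj j)),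
        (Descend.pbDiagram E tE f₀).map b z ∈ U k → z ∈ U j := fun {j k} b z hz =>
      (SchDom.good_iff_of_isZero hZ h₀ _ _ _).1 (SchDom.good_of_stage f₀ _ F₀ h₀ (pullback.snd f₀ (tE.app j))
        (tE.app j) (pullback.fst f₀ (tE.app j)) (IsPullback.of_hasPullback _ _) z (pullback.snd f₀ (tE.app k))
        (tE.app k) (pullback.fst f₀ (tE.app k)) (IsPullback.of_hasPullback _ _) (E.map b)
        ((Descend.pbDiagram E tE f₀).map b) (Descend.t_nat E tE b) (Descend.pbMap_fst E tE f₀ b)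
        (Descend.pbMap_snd E tE f₀ b) ((SchDom.good_iff_of_isZero hZ h₀ _ _ _).2 hz))
    have hpt : ∀ x : X, ∃ k, x ∈ eF.π.app k ⁻¹ᵁ U k := by
      intro x
      obtain ⟨k, vY, vX, h1, h2, h3, h4, hgood⟩ :=
        SchDom.exists_stage_good D c hc i₀ f₀ g₀ _ F₀ (SchDom.isFP_of_isZero hZ) hF₀ h₀ f g qY qX hY hX x
          ((SchDom.good_iff_of_isZero hZ h₀ qX f x).2 (hflat x))
      refine ⟨k, ?_⟩
      have hvY : vY = e.π.app k := pullback.hom_ext (h1.trans (hqe k).symm)
        (h2.trans (Descend.pbCone_snd _ (Descend.overT D i₀) g₀ c' hq hY k).symm)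
      have hvX : vX = eF.π.app k := pullback.hom_ext (h3.trans (Descend.pbCone_fst E tE f₀ e hqe hX k).symm)
        (h4.trans (by rw [hvY]; exact (Descend.pbCone_snd E tE f₀ e hqe hX k).symm))
      have := (SchDom.good_iff_of_isZero hZ h₀ _ _ _).1 hgood
      show eF.π.app k x ∈ U k
      rw [← hvX]
      exact this
    choose kx hkx using hpt
    let O : X → X.Opens := fun x => eF.π.app (kx x) ⁻¹ᵁ U (kx x)
    obtain ⟨T, hT⟩ := CompactSpace.elim_nhds_subcover (fun x : X => (O x : Set X))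
      (fun x => (O x).2.mem_nhds (hkx x))
    obtain ⟨k₀, hk₀⟩ := IsCofiltered.inf_objs_exists (T.image kx)
    have htop : eF.π.app k₀ ⁻¹ᵁ U k₀ = ⊤ := top_le_iff.1 fun x _ => by
      obtain ⟨y, hy, hxy⟩ := Set.mem_iUnion₂.1 (hT.ge (Set.mem_univ x))
      refine hmap (hk₀ (Finset.mem_image_of_mem _ hy)).some (eF.π.app k₀ x) ?_
      rw [← Scheme.Hom.comp_apply, eF.w]
      exact hxy
    obtain ⟨j, b, hb⟩ := exists_map_eq_top _ eF heF (U k₀) htop
    exact ⟨j.left, j.hom, _, _, pullback.snd f₀ (tE.app j), pullback.snd g₀ (D.map j.hom),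
      pullback.fst g₀ (D.map j.hom), pullback.fst f₀ (tE.app j), IsPullback.of_hasPullback _ _,
      IsPullback.of_hasPullback _ _, fun z => hmap b z (hb.ge trivial)⟩
  · rintro ⟨i, φ, Xi, Yi, fi, gi, pY, pX, hYi, hXi, hflat⟩ x
    haveI : IsAffineHom pY := MorphismProperty.of_isPullback (P := @IsAffineHom) hYi.flip inferInstance
    let vY : Y ⟶ Yi := hYi.lift qY (g ≫ c.π.app i) (by rw [Category.assoc, c.w φ, hY.w])
    let vX : X ⟶ Xi := hXi.lift qX (f ≫ vY) (by rw [Category.assoc, hYi.lift_fst, hX.w])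
    exact (SchDom.good_iff_of_isZero hZ h₀ qX f x).1 (SchDom.good_of_stage f₀ _ F₀ h₀ f qY qX hX x fi pY pX hXi
      vY vX (hYi.lift_fst _ _ _) (hXi.lift_fst _ _ _) (hXi.lift_snd _ _ _)
      ((SchDom.good_iff_of_isZero hZ h₀ _ _ _).2 (hflat _)))

end Groth.Agent.S4849
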