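import Groth.Statements.S1340
import Mathlib.AlgebraicGeometry.Normalization
import Mathlib.AlgebraicGeometry.Morphisms.Proper

set_option autoImplicit false
universe u
open FlatMor

namespace Groth.Agent.S1340

open AlgebraicGeometry CategoryTheory Limits

theorem isIso_app_aux {X S : Scheme.{u}} (f : X ⟶ S) [UniversallyClosed f] [QuasiSeparated f]
    (V : S.affineOpens) : IsIso (f.toNormalization.app (f.fromNormalization ⁻¹ᵁ V.1)) := by
  let := (f.app V.1).hom.toAlgebra
  have : IsAffine (V.1 : Scheme.{u}) := V.2
  have : UniversallyClosed (f ∣_ V.1) := IsZariskiLocalAtTarget.restrict ‹_› _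
  have hint : (f.app V.1).hom.IsIntegral := by
    have h := isIntegral_appTop_of_universallyClosed (f ∣_ V.1)
    rw [morphismRestrict_appTop] at h
    have key : ∀ W : S.Opens, W = V.1 → (f.app W).hom.IsIntegral → (f.app V.1).hom.IsIntegral := by
      rintro _ rfl h; exact h
    refine key _ (Scheme.Opens.ι_image_top _) ?_
    exact (RingHom.isIntegral_respectsIso.cancel_right_isIso (f.app ((V.1 : S.Opens).ι ''ᵁ ⊤)) (X.presheaf.map (eqToHom (image_morphismRestrict_preimage f V.1 ⊤)).op)).mp h
  have htop : integralClosure Γ(S, V.1) Γ(X, f ⁻¹ᵁ V.1) = ⊤ := by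
    rw [integralClosure_eq_top_iff, ← algebraMap_isIntegral_iff, RingHom.algebraMap_toAlgebra]
    exact hint
  have : IsIso (CommRingCat.ofHom (integralClosure Γ(S, V.1) Γ(X, f ⁻¹ᵁ V.1)).val.toRingHom) := by
    rw [ConcreteCategory.isIso_iff_bijective]
    exact ⟨Subtype.val_injective, fun a => ⟨⟨a, htop ▸ Algebra.mem_top⟩, rfl⟩⟩
  rw [f.toNormalization_app_preimage V]
  exact IsIso.comp_isIso' inferInstance (IsIso.comp_isIso' this inferInstance)

open AlgebraicGeometry CategoryTheory Limits in
/-- Stein factorization, universally closed case: let f : X ⟶ S be universally closed and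
quasi-separated, and let X ⟶ X' ⟶ S be its factorization through the normalization X' of S in X.
Then the canonical morphism X ⟶ X' identifies the structure sheaf of X' with the pushforward of the
structure sheaf of X: for every open U of X' the induced map from O_{X'}(U) to the sections of O_X
over the inverse image of U is an isomorphism. (That X ⟶ X' is surjective and universally closed and
that X' ⟶ S is integral are separate facts not restated here.) -/
theorem result {X S : Scheme.{u}} (f : X ⟶ S) [UniversallyClosed f] [QuasiSeparated f]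
    (U : f.normalization.Opens) : IsIso (f.toNormalization.app U) := by
  let B : {p : (V : S.affineOpens) × Γ(f.normalization, f.fromNormalization ⁻¹ᵁ V.1) // True} → f.normalization.Opens :=
    fun p => f.normalization.basicOpen p.1.2
  have hB : TopologicalSpace.Opens.IsBasis (Set.range B) := by
    rw [TopologicalSpace.Opens.isBasis_iff_nbhd]
    intro W x hx
    obtain ⟨V, hV, hxV, -⟩ := exists_isAffineOpen_mem_and_subset (U := ⊤) (x := f.fromNormalization x) (Set.mem_univ _)
    obtain ⟨r, hrW, hxr⟩ := (hV.preimage f.fromNormalization).exists_basicOpen_le ⟨x, hx⟩ hxV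
    exact ⟨_, ⟨⟨⟨⟨V, hV⟩, r⟩, trivial⟩, rfl⟩, hxr, hrW⟩
  have hb : ∀ p, IsIso (f.toNormalization.app (B p)) := by
    rintro ⟨⟨V, r⟩, -⟩
    let W := f.fromNormalization ⁻¹ᵁ V.1
    have hW : IsAffineOpen W := V.2.preimage _
    have := isIso_app_aux f V
    have hc : IsCompact (f.toNormalization ⁻¹ᵁ W : Set X) := f.toNormalization.isCompact_preimage hW.isCompact
    have hq : IsQuasiSeparated (f.toNormalization ⁻¹ᵁ W : Set X) := f.toNormalization.isQuasiSeparated_preimage hW.isQuasiSeparated
    have := hW.isLocalization_basicOpen r
    have := isLocalization_basicOpen_of_qcqs hc hq (f.toNormalization.app W r)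
    let e := (asIso (f.toNormalization.app W)).commRingCatIsoToRingEquiv
    let ψ := IsLocalization.ringEquivOfRingEquiv (M := Submonoid.powers r)
      (T := Submonoid.powers (f.toNormalization.app W r)) Γ(f.normalization, f.normalization.basicOpen r)
      Γ(X, X.basicOpen (f.toNormalization.app W r)) e
      (Submonoid.map_powers e.toMonoidHom r)
    have key : f.toNormalization.app (f.normalization.basicOpen r) =
        ψ.toCommRingCatIso.hom ≫ X.presheaf.map (eqToHom (Scheme.preimage_basicOpen _ r)).op := by
      ext1
      refine IsLocalization.ringHom_ext (Submonoid.powers r) ?_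
      ext a
      have h1 : ψ (algebraMap _ _ a) = algebraMap _ Γ(X, X.basicOpen (f.toNormalization.app W r)) (e a) :=
        IsLocalization.ringEquivOfRingEquiv_eq _ a
      show f.toNormalization.app _ (f.normalization.presheaf.map (homOfLE (f.normalization.basicOpen_le r)).op a) =
        X.presheaf.map _ (ψ (algebraMap _ _ a))
      rw [h1]
      show (f.normalization.presheaf.map _ ≫ f.toNormalization.app _) a =
        (f.toNormalization.app W ≫ X.presheaf.map _ ≫ X.presheaf.map _) a
      rw [Scheme.Hom.naturality, ← Functor.map_comp]
      rfl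
    show IsIso (f.toNormalization.app (f.normalization.basicOpen r))
    rw [key]
    infer_instance
  let F : f.normalization.sheaf ⟶ (TopCat.Sheaf.pushforward CommRingCat f.toNormalization.base).obj X.sheaf :=
    ⟨f.toNormalization.c⟩
  have := TopCat.Sheaf.isIso_iff_isIso_basis hB (φ := F) hb
  have : IsIso F.hom := inferInstanceAs (IsIso ((TopCat.Sheaf.forget CommRingCat f.normalization).map F))
  exact inferInstanceAs (IsIso (F.hom.app (Opposite.op U)))

end Groth.Agent.S1340
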