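import Groth.Statements.S14584
import Groth.Agent.Lib.ProdAV19.Basic
import Groth.Agent.Lib.AbRigid.SmoothGI

set_option autoImplicit false
universe u
open CategoryTheory MonoidalCategory CartesianMonoidalCategory MonObj GrpObj AlgebraicGeometry CategoryTheory.Limits
open AlgGrp

namespace Groth.Agent.S14584

open Groth.Agent


/-- Let k be a field, X and Y varieties over k (separated, geometrically integral k-schemes of finite
type) with rational points x₀ and y₀, A an abelian variety (a proper, smooth, connected k-group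
scheme) and f : X × Y → A a k-morphism. Then, in the group of morphisms X × Y → A, f(x, y) = f(x₀,
y₀)⁻¹ · f(x₀, y) · f(x, y₀) identically; additively, f(x, y) − f(x₀, y) − f(x, y₀) + f(x₀, y₀) = 0.
Neither smoothness nor properness of X, Y is assumed. -/
theorem result (k : Type u) [Field k]
    (X Y A : Over (Spec (CommRingCat.of k)))
    [LocallyOfFiniteType X.hom] [QuasiCompact X.hom] [IsSeparated X.hom] [GeometricallyIntegral X.hom]
    [LocallyOfFiniteType Y.hom] [QuasiCompact Y.hom] [IsSeparated Y.hom] [GeometricallyIntegral Y.hom]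
    [GrpObj A] [IsProper A.hom] [Smooth A.hom] [ConnectedSpace ↥A.left]
    (x₀ : 𝟙_ (Over (Spec (CommRingCat.of k))) ⟶ X) (y₀ : 𝟙_ (Over (Spec (CommRingCat.of k))) ⟶ Y) (f : X ⊗ Y ⟶ A) :
    f = (toUnit (X ⊗ Y) ≫ lift x₀ y₀ ≫ f)⁻¹ * (snd X Y ≫ lift (toUnit Y ≫ x₀) (𝟙 Y) ≫ f) *
      (fst X Y ≫ lift (𝟙 X) (toUnit X ≫ y₀) ≫ f) := by
  haveI : IsReduced A.left := AbRigid.isReduced_of_smooth_over_field A.hom
  haveI : GeometricallyReduced A.hom := AbRigid.geometricallyReduced_of_smooth A.hom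
  haveI : GeometricallyIntegral A.hom := AbRigid.geometricallyIntegral_of_connected A
  haveI := isCommMonObj_of_isProper_of_geometricallyIntegral A
  letI : CommGroup (Y ⟶ A) := Hom.commGroup
  set E := (toUnit (X ⊗ Y) ≫ lift x₀ y₀ ≫ f)⁻¹ * (snd X Y ≫ lift (toUnit Y ≫ x₀) (𝟙 Y) ≫ f) *
      (fst X Y ≫ lift (𝟙 X) (toUnit X ≫ y₀) ≫ f) with hE
  rw [← mul_inv_eq_one]
  refine ProdAV19.eq_one_of_axes' X Y A _ x₀ y₀ ?_ ?_
  · have e : lift (toUnit Y ≫ x₀) (𝟙 Y) ≫ E = lift (toUnit Y ≫ x₀) (𝟙 Y) ≫ f := by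
      simp only [hE, MonObj.comp_mul, GrpObj.comp_inv, lift_fst_assoc, lift_snd_assoc, Category.id_comp,
        ← Category.assoc (lift (toUnit Y ≫ x₀) (𝟙 Y)) (toUnit _), comp_toUnit, Category.assoc]
      rw [← Category.assoc x₀, comp_lift, Category.comp_id, ← Category.assoc x₀,
        Subsingleton.elim (x₀ ≫ toUnit X) (𝟙 _), Category.id_comp, mul_comm, mul_inv_cancel_left]
    rw [MonObj.comp_mul, GrpObj.comp_inv, e, mul_inv_cancel]
  · have e : lift (𝟙 X) (toUnit X ≫ y₀) ≫ E = lift (𝟙 X) (toUnit X ≫ y₀) ≫ f := by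
      simp only [hE, MonObj.comp_mul, GrpObj.comp_inv, lift_fst_assoc, lift_snd_assoc, Category.id_comp,
        ← Category.assoc (lift (𝟙 X) (toUnit X ≫ y₀)) (toUnit _), comp_toUnit, Category.assoc]
      rw [← Category.assoc y₀, comp_lift, Category.comp_id, ← Category.assoc y₀,
        Subsingleton.elim (y₀ ≫ toUnit Y) (𝟙 _), Category.id_comp, inv_mul_cancel, _root_.one_mul]
    rw [MonObj.comp_mul, GrpObj.comp_inv, e, mul_inv_cancel]

end Groth.Agent.S14584
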