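import Groth.Statements.S17451
import Groth.Agent.Lib.TorusSlice15.Basic
import Groth.Agent.Lib.Rigid19.AntiAffine
import Groth.Agent.Lib.AbDual21.Phi
import Groth.Agent.Lib.AbRigid.SmoothGI
import Groth.Agent.Lib.AbRigid.Connected
import Groth.Agent.Lib.CubeField.Product
import Groth.Agent.Lib.BorelFix21.BaseChange
-- import your own Groth.Agent.* helpers here

set_option autoImplicit false
universe u
open CategoryTheory MonoidalCategory CartesianMonoidalCategory MonObj GrpObj AlgebraicGeometry CategoryTheory.Limits
open AlgGrp

namespace Groth.Agent.S17451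

/-- Let k be a field with algebraic closure K and G a smooth connected k-group scheme of finite type,
not assumed commutative, whose base change G_K has a torus as a subgroup with an abelian variety as
the quotient: there are a closed subgroup scheme T of G_K which is a torus and a flat surjective
homomorphism from G_K onto a proper smooth connected K-group scheme with kernel T. Then G is
commutative. (The published result also asserts that G then has, over k itself, a unique torus
subgroup with abelian-variety quotient of this kind; only commutativity is stated here.) -/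
theorem result (k : Type u) [Field k]
    (G : Over (Spec (CommRingCat.of k))) [GrpObj G] [Smooth G.hom] [QuasiCompact G.hom] [ConnectedSpace ↥G.left]
    (hK : (∃ (T : Over (Spec (CommRingCat.of (AlgebraicClosure k)))) (_ : GrpObj T) (i : T ⟶ Red.bc (Spec.map (CommRingCat.ofHom (algebraMap k (AlgebraicClosure k)))) G) (A : Over (Spec (CommRingCat.of (AlgebraicClosure k)))) (_ : GrpObj A) (q : Red.bc (Spec.map (CommRingCat.ofHom (algebraMap k (AlgebraicClosure k)))) G ⟶ A),
        IsMonHom i ∧ IsClosedImmersion i.left ∧ Red.IsTorus T ∧ IsMonHom q ∧ Surjective q.left ∧ Flat q.left ∧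
        AlgGrp.IsKernel i q ∧ IsProper A.hom ∧ Smooth A.hom ∧ ConnectedSpace ↥A.left)) :
    IsCommMonObj G := by
  let φ := Spec.map (CommRingCat.ofHom (algebraMap k (AlgebraicClosure k)))
  obtain ⟨T, _, i, A, _, q, hi, _, hT, hq, -, -, hker, _, _, _⟩ := hK
  haveI := hi
  haveI := hq
  let GK := Red.bc φ G
  haveI := BorelFix21.connectedSpace_bc φ G
  haveI : Smooth GK.hom := BorelFix21.smooth_bc φ G
  haveI : QuasiCompact GK.hom := inferInstanceAs (QuasiCompact (pullback.snd G.hom φ))
  haveI : IsSeparated GK.hom := AbRigid.isSeparated_of_grpObj GK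
  haveI := AbRigid.geometricallyIrreducible_of_connected GK
  haveI := CubeField.geometricallyConnected_of_irreducible GK.hom
  haveI := AbRigid.geometricallyIntegral_of_smooth GK
  haveI : IsIntegral GK.left := GeometricallyIntegral.geometrically_isIntegral (f := GK.hom)
    (𝟙 _) (𝟙 GK.left) GK.hom (IsPullback.of_horiz_isIso ⟨by simp⟩)
  haveI := AbRigid.geometricallyIrreducible_of_connected A
  haveI := CubeField.geometricallyConnected_of_irreducible A.hom
  haveI := AbRigid.geometricallyReduced_of_smooth A.hom
  haveI := Rigid19.quasiSeparated (X := A)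
  have hb : Function.Bijective ((Scheme.ΓSpecIso (CommRingCat.of (AlgebraicClosure k))).inv ≫ A.hom.appTop).hom :=
    (AbDual21.bijective_appTop A.hom).comp
      (ConcreteCategory.bijective_of_isIso (Scheme.ΓSpecIso (CommRingCat.of (AlgebraicClosure k))).inv)
  have hAc : ∀ {Z} (a b : Z ⟶ A), a * b = b * a := fun a b => by
    simpa using Rigid19.central hb (𝟙 A) a b
  -- the commutator
  let F : GK ⊗ GK ⟶ GK := fst GK GK * snd GK GK * (fst GK GK)⁻¹ * (snd GK GK)⁻¹
  have hF : F ≫ q = toUnit _ ≫ η[A] := by
    rw [← Hom.one_def]
    simp only [F, MonObj.mul_comp, GrpObj.inv_comp]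
    rw [hAc (fst GK GK ≫ q), mul_inv_cancel_right, mul_inv_cancel]
  let F' : GK ⊗ GK ⟶ T := hker.lift F (toUnit _) hF
  have hF' : F' ≫ i = F := hker.lift_fst _ _ _
  haveI : Mono i := by
    haveI : Mono ((Over.forget _).map i) := inferInstanceAs (Mono i.left)
    exact (Over.forget _).mono_of_mono_map this
  have key : F' = 1 := by
    refine TorusSlice15.eq_one_of_slices GK GK hT η[GK] η[GK] F' ?_ ?_
    · rw [← cancel_mono i, Category.assoc, hF', MonObj.one_comp]
      simp only [F, comp_mul, GrpObj.comp_inv]
      erw [lift_fst, lift_snd]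
      rw [← Hom.one_def, inv_one, _root_.mul_one, _root_.mul_one, mul_inv_cancel]
    · rw [← cancel_mono i, Category.assoc, hF', MonObj.one_comp]
      simp only [F, comp_mul, GrpObj.comp_inv]
      erw [lift_fst, lift_snd]
      rw [← Hom.one_def, inv_one, _root_.mul_one, _root_.one_mul, mul_inv_cancel]
  have hK' : fst GK GK * snd GK GK = snd GK GK * fst GK GK := by
    have h1 : F = 1 := by rw [← hF', key, MonObj.one_comp]
    simp only [F] at h1
    rwa [mul_inv_eq_one, mul_inv_eq_iff_eq_mul] at h1
  have hcK : ∀ {Z} (a b : Z ⟶ GK), a * b = b * a := fun a b => by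
    have h := congrArg (lift a b ≫ ·) hK'
    simpa only [comp_mul, lift_fst, lift_snd] using h
  have hc : fst G G * snd G G = snd G G * fst G G := by
    refine TorusSlice15.bc_map_injective (K := AlgebraicClosure k) ?_
    rw [Functor.map_mul, Functor.map_mul]
    exact hcK _ _
  constructor
  rw [show μ[G] = fst G G * snd G G by rw [Hom.mul_def, lift_fst_snd, Category.id_comp]]
  rw [MonObj.comp_mul, CartesianMonoidalCategory.braiding_hom_fst, CartesianMonoidalCategory.braiding_hom_snd]
  exact hc.symm

end Groth.Agent.S17451
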