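import Groth.Statements.S14595
import Groth.Agent.Lib.TorusSlice15.Semiab
-- import your own Groth.Agent.* helpers here

set_option autoImplicit false
universe u
open CategoryTheory MonoidalCategory CartesianMonoidalCategory MonObj GrpObj AlgebraicGeometry CategoryTheory.Limits
open AlgGrp

namespace Groth.Agent.S14595

/-- Let k be a field, X and Y varieties over k (separated, geometrically integral, of finite type) with
rational points x₀, y₀, G a semi-abelian variety (an extension of a proper smooth connected k-group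
scheme by a torus) and f : X × Y → G a k-morphism. Then f(x, y) f(x, y₀)⁻¹ f(x₀, y)⁻¹ f(x₀, y₀) = e
identically, in the group of morphisms X × Y → G. -/
theorem result (k : Type u) [Field k]
    (X Y G : Over (Spec (CommRingCat.of k)))
    [LocallyOfFiniteType X.hom] [QuasiCompact X.hom] [IsSeparated X.hom] [GeometricallyIntegral X.hom]
    [LocallyOfFiniteType Y.hom] [QuasiCompact Y.hom] [IsSeparated Y.hom] [GeometricallyIntegral Y.hom]
    [GrpObj G] [LocallyOfFiniteType G.hom] [QuasiCompact G.hom] (hG : (∃ (T : Over (Spec (CommRingCat.of k))) (_ : GrpObj T) (i : T ⟶ G) (A : Over (Spec (CommRingCat.of k))) (_ : GrpObj A) (q : G ⟶ A),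
        IsMonHom i ∧ IsClosedImmersion i.left ∧ Red.IsTorus T ∧ IsMonHom q ∧ Surjective q.left ∧ Flat q.left ∧
        AlgGrp.IsKernel i q ∧ IsProper A.hom ∧ Smooth A.hom ∧ ConnectedSpace ↥A.left))
    (x₀ : 𝟙_ (Over (Spec (CommRingCat.of k))) ⟶ X) (y₀ : 𝟙_ (Over (Spec (CommRingCat.of k))) ⟶ Y) (f : X ⊗ Y ⟶ G) :
    f * (fst X Y ≫ lift (𝟙 X) (toUnit X ≫ y₀) ≫ f)⁻¹ * (snd X Y ≫ lift (toUnit Y ≫ x₀) (𝟙 Y) ≫ f)⁻¹ *
      (toUnit (X ⊗ Y) ≫ lift x₀ y₀ ≫ f) = 1 := by
  obtain ⟨T, _, i, A, _, q, hi, _, hT, hq, _, _, hker, _, _, _⟩ := hG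
  haveI := hi
  haveI := hq
  haveI := TorusSlice15.isCommMonObj i q hker hT
  let a : X ⟶ G := lift (𝟙 X) (toUnit X ≫ y₀) ≫ f
  let b : Y ⟶ G := lift (toUnit Y ≫ x₀) (𝟙 Y) ≫ f
  let c : 𝟙_ (Over (Spec (CommRingCat.of k))) ⟶ G := lift x₀ y₀ ≫ f
  let F : X ⊗ Y ⟶ G := f * (fst X Y ≫ a)⁻¹ * (snd X Y ≫ b)⁻¹ * (toUnit (X ⊗ Y) ≫ c)
  show F = 1
  have hF : F ≫ q = toUnit _ ≫ η[A] := by
    have h := S14584.result k X Y A x₀ y₀ (f ≫ q)
    simp only [F, a, b, c, MonObj.mul_comp, GrpObj.inv_comp, Category.assoc]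
    conv_lhs => arg 1; arg 1; arg 1; rw [h]
    rw [← Hom.one_def, mul_inv_cancel_right, mul_inv_cancel_right, inv_mul_cancel]
  let F' : X ⊗ Y ⟶ T := hker.lift F (toUnit _) hF
  have hF' : F' ≫ i = F := hker.lift_fst _ _ _
  haveI : Mono i := by
    haveI : Mono ((Over.forget _).map i) := inferInstanceAs (Mono i.left)
    exact (Over.forget _).mono_of_mono_map this
  have hcollapse : ∀ {Z : Over (Spec (CommRingCat.of k))} (t : Z ⟶ 𝟙_ _), t = toUnit Z := fun t => toUnit_unique _ _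
  have hy : lift (𝟙 X) (toUnit X ≫ y₀) ≫ F = 1 := by
    simp only [F, comp_mul, GrpObj.comp_inv]
    erw [lift_fst_assoc, lift_snd_assoc]
    simp only [Category.id_comp, Category.assoc]
    rw [show lift (𝟙 X) (toUnit X ≫ y₀) ≫ f = a from rfl, show y₀ ≫ b = c by
      simp only [b, c]; rw [← Category.assoc, comp_lift, ← Category.assoc, hcollapse (y₀ ≫ toUnit Y), Category.comp_id,
        toUnit_unique (toUnit (𝟙_ (Over (Spec (CommRingCat.of k))))) (𝟙 _), Category.id_comp]]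
    rw [← Category.assoc (lift (𝟙 X) (toUnit X ≫ y₀)), hcollapse (lift (𝟙 X) (toUnit X ≫ y₀) ≫ toUnit (X ⊗ Y))]
    rw [mul_inv_cancel, _root_.one_mul, inv_mul_cancel]
  have hx : lift (toUnit Y ≫ x₀) (𝟙 Y) ≫ F = 1 := by
    simp only [F, comp_mul, GrpObj.comp_inv]
    erw [lift_fst_assoc, lift_snd_assoc]
    simp only [Category.id_comp, Category.assoc]
    rw [show lift (toUnit Y ≫ x₀) (𝟙 Y) ≫ f = b from rfl, show x₀ ≫ a = c by
      simp only [a, c]; rw [← Category.assoc, comp_lift, ← Category.assoc, hcollapse (x₀ ≫ toUnit X), Category.comp_id,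
        toUnit_unique (toUnit (𝟙_ (Over (Spec (CommRingCat.of k))))) (𝟙 _), Category.id_comp]]
    rw [← Category.assoc (lift (toUnit Y ≫ x₀) (𝟙 Y)), hcollapse (lift (toUnit Y ≫ x₀) (𝟙 Y) ≫ toUnit (X ⊗ Y))]
    rw [mul_comm b, mul_inv_cancel_right, inv_mul_cancel]
  rw [← hF']
  rw [TorusSlice15.eq_one_of_slices_field hT x₀ y₀ F'
    (by rw [← cancel_mono i, Category.assoc, hF', hy, MonObj.one_comp])
    (by rw [← cancel_mono i, Category.assoc, hF', hx, MonObj.one_comp]), MonObj.one_comp]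

end Groth.Agent.S14595
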