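import Groth.Statements.S2347
import Groth.Agent.Lib.NormSect.Basic
import Groth.Agent.Lib.H12.DimZero
import Mathlib.AlgebraicGeometry.Morphisms.ClosedImmersion

set_option autoImplicit false
universe u
open CategoryTheory CategoryTheory.Limits AlgebraicGeometry
open EGA2

namespace Groth.Agent.S2347

/-- Let X be an integral normal scheme, X' an integral scheme and g : X' → X an integral morphism. If g
has a rational section (a morphism s from a dense open U of X to X' with g ∘ s the inclusion of U),
then g is an isomorphism. -/
theorem result {X X' : Scheme.{u}} [IsIntegral X] [IsIntegral X'] (hX : Pi1.IsNormalScheme X)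
    (g : X' ⟶ X) [IsIntegralHom g] (U : X.Opens) (hU : Dense (U : Set X)) (s : (U : Scheme.{u}) ⟶ X') (hs : s ≫ g = U.ι) :
    IsIso g := by
  obtain ⟨s', hs', hsU⟩ := Groth.Agent.NormSect.exists_section (fun x => (hX x).2) g U hU s hs
  have : IsClosedImmersion (s' ≫ g) := by rw [hs']; infer_instance
  have : IsClosedImmersion s' := IsClosedImmersion.of_comp s' g
  have hsg : ∀ x, g (s' x) = x := fun x => by rw [← Scheme.Hom.comp_apply, hs']; rfl
  have hgen : g (genericPoint X') = genericPoint X := by
    have h1 : g (genericPoint X') ⤳ genericPoint X := by
      have := ((genericPoint_spec X').specializes (Set.mem_univ (s' (genericPoint X)))).map g.continuous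
      rwa [hsg] at this
    exact (h1.antisymm ((genericPoint_spec X).specializes trivial)).eq
  have heq := Groth.Agent.H12.eq_of_specializes_of_isIntegralHom g
    ((genericPoint_spec X').specializes (Set.mem_univ (s' (genericPoint X)))) (by rw [hsg, hgen])
  have : Surjective s' := ⟨Set.range_eq_univ.mp (Set.univ_subset_iff.mp fun y _ =>
    (show genericPoint X' ⤳ y from (genericPoint_spec X').specializes trivial).mem_closed
      s'.isClosedEmbedding.isClosed_range ⟨_, heq.symm⟩)⟩
  have : IsIso s' := isIso_of_isClosedImmersion_of_surjective s'
  exact ⟨s', by rw [← cancel_epi s', ← Category.assoc, hs', Category.id_comp, Category.comp_id], hs'⟩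

end Groth.Agent.S2347
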