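import Groth.Statements.S0414
import Groth.Agent.Lib.FlatH4.GenFreeRed
import Groth.Agent.Lib.QFDense4Scheme
import Mathlib.AlgebraicGeometry.Morphisms.Flat
import Mathlib.AlgebraicGeometry.Morphisms.FinitePresentation

set_option autoImplicit false
universe u
open FlatMor

set_option backward.isDefEq.respectTransparency.types false

namespace Groth.Agent.S0414


open AlgebraicGeometry CategoryTheory Limits TensorProduct in
lemma exists_piece {X S : Scheme.{u}} (f : X ⟶ S) [LocallyOfFiniteType f] {V₀ : S.Opens} (hV₀ : IsAffineOpen V₀)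
    [IsReduced S] {W : X.Opens} (hW : IsAffineOpen W) (e : W ≤ f ⁻¹ᵁ V₀) {b : Γ(S, V₀)} (hb : b ≠ 0) :
    ∃ a : Γ(S, V₀), a ≠ 0 ∧ b ∣ a ∧ ∀ c, a ∣ c → ∀ (h : W ⊓ f ⁻¹ᵁ S.basicOpen c ≤ f ⁻¹ᵁ S.basicOpen c),
      (f.appLE (S.basicOpen c) (W ⊓ f ⁻¹ᵁ S.basicOpen c) h).hom.Flat ∧
      (f.appLE (S.basicOpen c) (W ⊓ f ⁻¹ᵁ S.basicOpen c) h).hom.FinitePresentation := by
  letI : Algebra Γ(S, V₀) Γ(X, W) := (f.appLE V₀ W e).hom.toAlgebra
  have : Algebra.FiniteType Γ(S, V₀) Γ(X, W) := f.finiteType_appLE hV₀ hW e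
  obtain ⟨a, ha, hba, hfree⟩ := Groth.Agent.FlatH4.exists_free_and_finitePresentation_of_isReduced (R := Γ(S, V₀)) (S := Γ(X, W)) hb
  refine ⟨a, ha, hba, fun c hac h => ?_⟩
  have hWc : W ⊓ f ⁻¹ᵁ S.basicOpen c = X.basicOpen ((f.appLE V₀ W e) c) := by
    rw [Scheme.basicOpen_appLE]
  letI := (S.presheaf.map (homOfLE (S.basicOpen_le c)).op).hom.toAlgebra
  letI := (X.presheaf.map (homOfLE (inf_le_left : W ⊓ f ⁻¹ᵁ S.basicOpen c ≤ W)).op).hom.toAlgebra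
  letI := (f.appLE (S.basicOpen c) (W ⊓ f ⁻¹ᵁ S.basicOpen c) h).hom.toAlgebra
  letI : Algebra Γ(S, V₀) Γ(X, W ⊓ f ⁻¹ᵁ S.basicOpen c) :=
    ((algebraMap Γ(X, W) Γ(X, W ⊓ f ⁻¹ᵁ S.basicOpen c)).comp (algebraMap Γ(S, V₀) Γ(X, W))).toAlgebra
  have : IsScalarTower Γ(S, V₀) Γ(X, W) Γ(X, W ⊓ f ⁻¹ᵁ S.basicOpen c) := IsScalarTower.of_algebraMap_eq fun x => rfl
  have : IsScalarTower Γ(S, V₀) Γ(S, S.basicOpen c) Γ(X, W ⊓ f ⁻¹ᵁ S.basicOpen c) := IsScalarTower.of_algebraMap_eq' (by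
    change (f.appLE V₀ W e ≫ X.presheaf.map _).hom = (S.presheaf.map _ ≫ f.appLE (S.basicOpen c) _ h).hom
    rw [Scheme.Hom.appLE_map, Scheme.Hom.map_appLE])
  have hloc := hV₀.isLocalization_basicOpen c
  have hloc' : IsLocalization.Away ((f.appLE V₀ W e) c) Γ(X, W ⊓ f ⁻¹ᵁ S.basicOpen c) :=
    hW.isLocalization_of_eq_basicOpen _ (homOfLE inf_le_left) hWc
  have : IsLocalization (Algebra.algebraMapSubmonoid Γ(X, W) (Submonoid.powers c)) Γ(X, W ⊓ f ⁻¹ᵁ S.basicOpen c) := by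
    rw [Algebra.algebraMapSubmonoid, Submonoid.map_powers]; exact hloc'
  have hpush : Algebra.IsPushout Γ(S, V₀) Γ(S, S.basicOpen c) Γ(X, W) Γ(X, W ⊓ f ⁻¹ᵁ S.basicOpen c) :=
    (Algebra.isPushout_of_isLocalization (Submonoid.powers c) Γ(S, S.basicOpen c) Γ(X, W) Γ(X, W ⊓ f ⁻¹ᵁ S.basicOpen c)).symm
  obtain ⟨hfr, hfp⟩ := hfree Γ(S, S.basicOpen c)
    (isUnit_of_dvd_unit (map_dvd _ hac) (IsLocalization.Away.algebraMap_isUnit c))
  let ee := Algebra.IsPushout.equiv Γ(S, V₀) Γ(S, S.basicOpen c) Γ(X, W) Γ(X, W ⊓ f ⁻¹ᵁ S.basicOpen c)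
  have h1 : Module.Free Γ(S, S.basicOpen c) Γ(X, W ⊓ f ⁻¹ᵁ S.basicOpen c) := Module.Free.of_equiv ee.toLinearEquiv
  have h2 : Algebra.FinitePresentation Γ(S, S.basicOpen c) Γ(X, W ⊓ f ⁻¹ᵁ S.basicOpen c) := Algebra.FinitePresentation.equiv ee
  exact ⟨(inferInstance : Module.Flat Γ(S, S.basicOpen c) Γ(X, W ⊓ f ⁻¹ᵁ S.basicOpen c)), h2⟩

open AlgebraicGeometry CategoryTheory Limits TopologicalSpace in
lemma exists_flat_lfp_restrict {X S : Scheme.{u}} (f : X ⟶ S) [IsReduced S] [LocallyOfFiniteType f] [QuasiCompact f]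
    (O : S.Opens) (hO : (O : Set S).Nonempty) :
    ∃ V : S.Opens, V ≤ O ∧ (V : Set S).Nonempty ∧ Flat (f ∣_ V) ∧ LocallyOfFinitePresentation (f ∣_ V) := by
  classical
  obtain ⟨x, hx⟩ := hO
  obtain ⟨V₀, hV₀, hxV, hVO⟩ := exists_isAffineOpen_mem_and_subset (X := S) hx
  obtain ⟨s, hs, e⟩ := isCompact_iff_finite_and_eq_biUnion_affineOpens.1
    (f.isCompact_preimage hV₀.isCompact)
  have hWV : ∀ W ∈ s, (W : X.Opens) ≤ f ⁻¹ᵁ V₀ := fun W hW =>
    (le_iSup₂ (f := fun i (_ : i ∈ s) => (i : X.Opens)) W hW).trans e.ge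
  have key : ∀ t : Finset X.affineOpens, ↑t ⊆ s → ∃ a : Γ(S, V₀), a ≠ 0 ∧ ∀ W ∈ t, ∀ c, a ∣ c →
      ∀ (h : (W : X.Opens) ⊓ f ⁻¹ᵁ S.basicOpen c ≤ f ⁻¹ᵁ S.basicOpen c),
      (f.appLE (S.basicOpen c) ((W : X.Opens) ⊓ f ⁻¹ᵁ S.basicOpen c) h).hom.Flat ∧
      (f.appLE (S.basicOpen c) ((W : X.Opens) ⊓ f ⁻¹ᵁ S.basicOpen c) h).hom.FinitePresentation := by
    intro t
    induction t using Finset.induction with
    | empty =>
      refine fun _ => ⟨1, ?_, by simp⟩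
      have : Nontrivial Γ(S, V₀) := (S.presheaf.germ V₀ x hxV).hom.domain_nontrivial
      exact one_ne_zero
    | insert W t _ ih =>
      intro hts
      rw [Finset.coe_insert, Set.insert_subset_iff] at hts
      obtain ⟨a, ha, h⟩ := ih hts.2
      obtain ⟨a', ha', haa', h'⟩ := exists_piece f hV₀ W.2 (hWV W hts.1) ha
      exact ⟨a', ha', Finset.forall_mem_insert .. |>.2 ⟨h', fun W' hW' c hc => h W' hW' c (haa'.trans hc)⟩⟩
  obtain ⟨a, ha, h⟩ := key hs.toFinset (by simp)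
  refine ⟨S.basicOpen a, fun w hw => hVO (S.basicOpen_le a hw),
    Groth.Agent.QFDense4.nonempty_basicOpen hV₀ (fun h => ha (IsReduced.eq_zero a h)), ?_⟩
  have hcov : ⨆ W : s, (f ⁻¹ᵁ S.basicOpen a).ι ⁻¹ᵁ ((W : X.affineOpens) : X.Opens) = ⊤ := by
    refine top_unique fun y _ => ?_
    obtain ⟨W, hW⟩ := Opens.mem_iSup.1 (e.le (show (f ⁻¹ᵁ S.basicOpen a).ι y ∈ f ⁻¹ᵁ V₀ from S.basicOpen_le a y.2))
    obtain ⟨hWs, hW⟩ := Opens.mem_iSup.1 hW
    exact Opens.mem_iSup.2 ⟨⟨W, hWs⟩, hW⟩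
  have hVa : IsAffine (S.basicOpen a : Scheme.{u}) := hV₀.basicOpen a
  have main : ∀ W : s, ((((f ⁻¹ᵁ S.basicOpen a).ι ⁻¹ᵁ ((W : X.affineOpens) : X.Opens))).ι ≫ (f ∣_ S.basicOpen a)).appTop.hom.Flat ∧
      ((((f ⁻¹ᵁ S.basicOpen a).ι ⁻¹ᵁ ((W : X.affineOpens) : X.Opens))).ι ≫ (f ∣_ S.basicOpen a)).appTop.hom.FinitePresentation ∧
      IsAffine (((f ⁻¹ᵁ S.basicOpen a).ι ⁻¹ᵁ ((W : X.affineOpens) : X.Opens)) : Scheme.{u}) := by
    intro W
    obtain ⟨h1, h2⟩ := h W.1 (hs.mem_toFinset.2 W.2) a dvd_rfl inf_le_right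
    let P : X.Opens := (W : X.affineOpens).1 ⊓ f ⁻¹ᵁ S.basicOpen a
    have hP : IsAffineOpen P := Groth.Agent.QFDense4.isAffineOpen_inter_preimage f hV₀ (hV₀.basicOpen a) (S.basicOpen_le a) W.1.2 (hWV _ W.2)
    have hPimg : (f ⁻¹ᵁ S.basicOpen a).ι ''ᵁ ((f ⁻¹ᵁ S.basicOpen a).ι ⁻¹ᵁ (W : X.affineOpens).1) = P := by
      rw [Scheme.Hom.image_preimage_eq_opensRange_inf, Scheme.Opens.opensRange_ι]; exact inf_comm _ _
    let Q := (f ⁻¹ᵁ S.basicOpen a).ι ⁻¹ᵁ (W : X.affineOpens).1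
    have hQ : IsAffineOpen Q := (Scheme.Hom.isAffineOpen_iff_of_isOpenImmersion (f ⁻¹ᵁ S.basicOpen a).ι).1 (hPimg.symm ▸ hP)
    have hQle : Q ≤ (f ∣_ S.basicOpen a) ⁻¹ᵁ ⊤ := le_top
    have key : ∀ (Pr : ∀ {R T : CommRingCat.{u}}, (R ⟶ T) → Prop) (_ : RingHom.RespectsIso fun {R T} [CommRing R] [CommRing T] (g : R →+* T) => Pr (CommRingCat.ofHom g)),
        Pr (f.appLE (S.basicOpen a) P inf_le_right) → Pr ((f ∣_ S.basicOpen a).appLE ⊤ Q hQle) := by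
      intro Pr _ hPr
      rw [morphismRestrict_appLE]
      refine (Scheme.Hom.appLE_congr f _ (U' := S.basicOpen a) (V' := P) (Scheme.Opens.ι_image_top _) hPimg Pr).2 hPr
    have hcomp : (Q.ι ≫ (f ∣_ S.basicOpen a)).appTop = (f ∣_ S.basicOpen a).appLE ⊤ Q hQle ≫ Q.topIso.inv := by
      rw [Scheme.Hom.comp_appTop, Scheme.Opens.ι_appTop, Scheme.Opens.topIso_inv, Scheme.Hom.appLE]
      simp only [Category.assoc]
      refine congrArg (Scheme.Hom.app _ _ ≫ ·) ?_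
      exact (congrArg _ (Subsingleton.elim _ _)).trans (Functor.map_comp _ _ _)
    refine ⟨?_, ?_, hQ⟩
    · rw [hcomp, CommRingCat.hom_comp]
      exact RingHom.Flat.comp (key (fun g => g.hom.Flat) RingHom.Flat.respectsIso h1)
        (RingHom.Flat.of_bijective (ConcreteCategory.bijective_of_isIso Q.topIso.inv))
    · rw [hcomp, CommRingCat.hom_comp]
      exact RingHom.FinitePresentation.comp (RingHom.FinitePresentation.of_bijective (ConcreteCategory.bijective_of_isIso Q.topIso.inv))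
        (key (fun g => g.hom.FinitePresentation) RingHom.finitePresentation_respectsIso h2)
  constructor
  · refine (IsZariskiLocalAtSource.iff_of_openCover (P := @Flat) (Scheme.openCoverOfIsOpenCover _ _ hcov)).2 fun W => ?_
    haveI : IsAffine ((Scheme.openCoverOfIsOpenCover (f ⁻¹ᵁ S.basicOpen a : Scheme.{u}) _ hcov).X W) := (main W).2.2
    exact (HasRingHomProperty.iff_of_isAffine (P := @Flat)).2 (main W).1
  · refine (IsZariskiLocalAtSource.iff_of_openCover (P := @LocallyOfFinitePresentation) (Scheme.openCoverOfIsOpenCover _ _ hcov)).2 fun W => ?_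
    haveI : IsAffine ((Scheme.openCoverOfIsOpenCover (f ⁻¹ᵁ S.basicOpen a : Scheme.{u}) _ hcov).X W) := (main W).2.2
    exact (HasRingHomProperty.iff_of_isAffine (P := @LocallyOfFinitePresentation)).2 (main W).2.1


open AlgebraicGeometry CategoryTheory Limits in
/-- Generic flatness: a morphism X → S of finite type with S reduced is flat and locally of finite
presentation over some dense open subscheme of S. (Stated for the structure sheaf; the published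
statement also treats a quasi-coherent O_X-module of finite type.) -/
theorem result {X S : Scheme.{u}} (f : X ⟶ S) [IsReduced S] [LocallyOfFiniteType f] [QuasiCompact f] :
    ∃ U : S.Opens, Dense (U : Set ↑S) ∧ Flat (f ∣_ U) ∧ LocallyOfFinitePresentation (f ∣_ U) := by
  let U : S.Opens := sSup {V : S.Opens | Flat (f ∣_ V) ∧ LocallyOfFinitePresentation (f ∣_ V)}
  refine ⟨U, ?_, ?_, ?_⟩
  · rw [dense_iff_inter_open]
    intro O hO hne
    obtain ⟨V, hle, ⟨x, hx⟩, hfl, hfp⟩ := exists_flat_lfp_restrict f ⟨O, hO⟩ hne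
    exact ⟨x, hle hx, TopologicalSpace.Opens.mem_sSup.2 ⟨V, ⟨hfl, hfp⟩, hx⟩⟩
  all_goals
    let T := {V : S.Opens | Flat (f ∣_ V) ∧ LocallyOfFinitePresentation (f ∣_ V)}
    have hsup : ⨆ V : T, U.ι ⁻¹ᵁ (V : S.Opens) = ⊤ := by
      refine top_unique fun y _ => ?_
      obtain ⟨V, hV, hy⟩ := TopologicalSpace.Opens.mem_sSup.1 y.2
      exact TopologicalSpace.Opens.mem_iSup.2 ⟨⟨V, hV⟩, hy⟩
    have himg : ∀ V : T, U.ι ''ᵁ (U.ι ⁻¹ᵁ (V : S.Opens)) = V := fun V => by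
      rw [Scheme.Hom.image_preimage_eq_opensRange_inf, Scheme.Opens.opensRange_ι, inf_eq_right]
      exact fun y hy => TopologicalSpace.Opens.mem_sSup.2 ⟨V, V.2, hy⟩
  · refine (IsZariskiLocalAtTarget.iff_of_iSup_eq_top (P := @Flat) _ hsup).2 fun V => ?_
    rw [MorphismProperty.arrow_mk_iso_iff @Flat (morphismRestrictRestrict f U (U.ι ⁻¹ᵁ (V : S.Opens))),
      MorphismProperty.arrow_mk_iso_iff @Flat (morphismRestrictEq f (himg V))]
    exact V.2.1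
  · refine (IsZariskiLocalAtTarget.iff_of_iSup_eq_top (P := @LocallyOfFinitePresentation) _ hsup).2 fun V => ?_
    rw [MorphismProperty.arrow_mk_iso_iff @LocallyOfFinitePresentation (morphismRestrictRestrict f U (U.ι ⁻¹ᵁ (V : S.Opens))),
      MorphismProperty.arrow_mk_iso_iff @LocallyOfFinitePresentation (morphismRestrictEq f (himg V))]
    exact V.2.2

end Groth.Agent.S0414
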