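import Groth.Statements.S13022
import Groth.Agent.Lib.StAlg16.LocQApps
import Groth.Agent.Lib.StAlg.DiagApps
import Groth.Agent.Lib.PicDesc21.Fun

set_option autoImplicit false
universe u
open CategoryTheory AlgebraicGeometry
open AlgSt

namespace Groth.Agent.S13022
set_option linter.style.haveILetI false
set_option backward.isDefEq.respectTransparency false
set_option backward.isDefEq.respectTransparency.types false


/-- Let f_j : 𝒳_j → 𝒳 be a family of flat, locally finitely presented morphisms of algebraic stacks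
which is jointly surjective on points. Then, given any scheme U and any object x of 𝒳 lying over U,
one can find an fppf covering {U_i → U}, indices j(i) and objects x_i of 𝒳_{j(i)} over U_i with
f_{j(i)}(x_i) ≅ x|_{U_i}. -/
theorem result
    (S : Scheme.{u}) (𝒳 : AlgSt.Cat S)
    (h𝒳 : AlgSt.IsAlgStack Scheme.fppfPrecoverage 𝒳)
    (J : Type u) (𝒳' : J → AlgSt.Cat S) (h𝒳' : ∀ j, AlgSt.IsAlgStack Scheme.fppfPrecoverage (𝒳' j))
    (f : ∀ j, 𝒳' j ⥤ᵇ 𝒳)
    (hf₁ : ∀ j, AlgSt.LocQ (AlgSp.LocP @Flat) (f j)) (hf₂ : ∀ j, AlgSt.LocQ (AlgSp.LocP @LocallyOfFinitePresentation) (f j))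
    (hf₃ : ∀ p : AlgSt.Points 𝒳, ∃ j, p ∈ Set.range (AlgSt.Points.map (f j)))
    (U : Over S) (x : FibCat.overCat U ⥤ᵇ 𝒳) :
    ∃ (ι : Type u) (V : ι → Over S) (g : ∀ i, V i ⟶ U) (c : ι → J),
      (Presieve.ofArrows (fun i ↦ (V i).left) fun i ↦ (g i).left) ∈ Scheme.fppfPrecoverage U.left ∧
      ∀ i, ∃ x' : FibCat.overCat (V i) ⥤ᵇ 𝒳' (c i),
        Nonempty (BasedFunctor.comp x' (f (c i)) ≅ BasedFunctor.comp (AlgSt.overMap (g i)) x) := by
  have gX := h𝒳.isStack.1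
  choose W w hw hws using fun j => (h𝒳' j).atlas
  have h1 := (Groth.Agent.StAlg.rep1_diag_iff gX).1 h𝒳.diag
  choose V k h hi hsq hP using fun j => Groth.Agent.StAlg16.exists_chart_square gX (h1 (W j) (BasedFunctor.comp (w j) (f j))) U x
  have comp_with : ∀ (R : MorphismProperty Scheme.{u}) [AlgSpace.EtaleLocal R]
      (hP : AlgSp.IsSmoothLocalST (AlgSp.LocP (S := S) R)) (hP₂ : AlgSp.IsLocalOnBase AlgSp.IsFppfCover (AlgSp.LocP (S := S) R)),
      (@Smooth : MorphismProperty Scheme.{u}) ≤ R → ∀ j, AlgSt.LocQ (AlgSp.LocP R) (f j) →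
      AlgSt.RepByAlgSpWith (AlgSp.LocP R) (BasedFunctor.comp (w j) (f j)) := by
    intro R _ hP hP₂ hle j hf
    have gW := Groth.Agent.StAlg16.isAlgStack_overCat (W j)
    refine (Groth.Agent.StAlg16.locQ_iff_with hP Groth.Agent.StAlg.pbP_locP hP₂ gW h𝒳 (h1 _ _)).1 ?_
    exact Groth.Agent.StAlg16.locQ_comp hP (fun X Y Z hX hY hZ a b ha hb => Groth.Agent.AlgSpace.locP_comp hX hY hZ ha hb)
      gW (h𝒳' j) h𝒳
      ((Groth.Agent.StAlg16.locQ_iff_with hP Groth.Agent.StAlg.pbP_locP hP₂ gW (h𝒳' j)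
        ((Groth.Agent.StAlg.rep1_diag_iff (h𝒳' j).isStack.1).1 (h𝒳' j).diag _ _)).2
        (Groth.Agent.StAlg.with_locP_mono hle (hw j))) hf
  refine ⟨J, V, k, id, Groth.Agent.PicDesc21.mem_fppf_iff.2 ⟨fun v => ?_, fun j => ⟨?_, ?_⟩⟩,
    fun j => ⟨BasedFunctor.comp (AlgSt.overMap (h j)) (w j), ⟨(hi j).some.symm⟩⟩⟩
  · obtain ⟨j, q, hq⟩ := hf₃ (AlgSt.Points.ofChart x v)
    obtain ⟨t, rfl⟩ := Groth.Agent.StAlg16.surjective_ofChart (h𝒳' j).isStack.1 (hws j) q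
    obtain ⟨s, hs, -⟩ := hsq j v t (by rw [← hq, Groth.Agent.StAlg16.ofChart_eq (BasedFunctor.comp (w j) (f j)), Groth.Agent.StAlg16.map_comp_apply, ← Groth.Agent.StAlg16.ofChart_eq])
    exact ⟨j, s, hs⟩
  · exact (hP j @Flat).1 (comp_with @Flat Groth.Agent.StAlg16.isSmoothLocalST_flat
      Groth.Agent.StAlg16.isLocalOnBase_fppf_locP_flat Groth.Agent.StAlg.smooth_le_flat j (hf₁ j))
  · exact (hP j @LocallyOfFinitePresentation).1 (comp_with @LocallyOfFinitePresentation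
      Groth.Agent.StAlg16.isSmoothLocalST_lfp Groth.Agent.StAlg16.isLocalOnBase_fppf_locP_lfp
      Groth.Agent.StAlg.smooth_le_lfp j (hf₂ j))

end Groth.Agent.S13022
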