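import Groth.Statements.S16869
import Groth.Agent.Lib.GerbAbs16.Apps
import Groth.Agent.S12831
import Groth.Agent.Lib.StAlg16.LocQApps

set_option autoImplicit false
universe u
open CategoryTheory AlgebraicGeometry
open Gerb

set_option backward.isDefEq.respectTransparency false
set_option backward.isDefEq.respectTransparency.types false

namespace Groth.Agent.S16869

/-- A morphism of algebraic stacks making its source a gerbe over its target is a universal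
homeomorphism. -/
theorem result
    (S : Scheme.{u}) (𝒳 𝒴 : AlgSt.Cat S)
    (h𝒳 : AlgSt.IsAlgStack Scheme.fppfPrecoverage 𝒳) (h𝒴 : AlgSt.IsAlgStack Scheme.fppfPrecoverage 𝒴)
    (f : 𝒳 ⥤ᵇ 𝒴) (hf : Gerb.IsGerbeOver (QuotSh.J Scheme.fppfPrecoverage S) f) :
    AlgSt.IsUnivHomeo Scheme.fppfPrecoverage f := by
  intro 𝒵 h𝒵 g
  have hA := Groth.Agent.StAlg.isAlgStack_fp h𝒴.isStack h𝒴.diag h𝒵 h𝒳 g f
  have hg := Groth.Agent.GerbAbs.isGerbeOver_fpFst h𝒵.isStack.1 h𝒴.isStack.1 g hf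
  refine ⟨Groth.Agent.StAlg16.continuous_map h𝒵 _,
    Groth.Agent.StAlg16.isOpenMor_of_flat_lfp hA h𝒵 (Groth.Agent.GerbAbs.Chart.locQ_flat hA h𝒵 hg) (Groth.Agent.GerbAbs.Chart.locQ_lfp hA h𝒵 hg),
    (Groth.Agent.S12831.result h𝒳 h𝒴 f).2 (Groth.Agent.GerbAbs.Chart.diag_triple h𝒳 h𝒴 hf).1 𝒵 h𝒵 g,
    Groth.Agent.GerbAbs.Chart.isSurjective hA h𝒵 hg⟩

end Groth.Agent.S16869
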