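import Groth.Statements.S6278
import Mathlib.RingTheory.Localization.FractionRing
import Mathlib.RingTheory.IntegralClosure.IntegrallyClosed

set_option autoImplicit false
universe u
open CAlg

namespace Groth.Agent.S6278

/-- A normal ring R (all localizations at primes are integrally closed domains) is integrally closed in
its total ring of fractions. -/
theorem result (R : Type u) [CommRing R] (hR : EGA4.IsNormalRing R) : IsIntegrallyClosedIn R (FractionRing R) := by
  refine ⟨IsFractionRing.injective R (FractionRing R), fun {x} => ⟨fun hx => ?_, ?_⟩⟩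
  swap
  · rintro ⟨r, rfl⟩; exact isIntegral_algebraMap
  let C : Ideal R := ((LinearMap.range (Algebra.linearMap R (FractionRing R))).comap
    (LinearMap.toSpanSingleton R (FractionRing R) x))
  suffices C = ⊤ by
    obtain ⟨r, hr⟩ := this ▸ (Submodule.mem_top : (1 : R) ∈ (⊤ : Ideal R))
    exact ⟨r, by simpa using hr⟩
  by_contra hne
  obtain ⟨m, hm, hle⟩ := Ideal.exists_le_maximal _ hne
  obtain ⟨hdom, hcl⟩ := hR m
  let L := Localization.AtPrime m
  let K := FractionRing L
  have hg : ∀ b : nonZeroDivisors R, IsUnit ((algebraMap L K).comp (algebraMap R L) b) := by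
    intro b
    refine IsUnit.mk0 _ fun h0 => ?_
    rw [RingHom.comp_apply, IsFractionRing.to_map_eq_zero_iff, IsLocalization.map_eq_zero_iff m.primeCompl] at h0
    obtain ⟨⟨t, ht⟩, ht0⟩ := h0
    exact ht ((mem_nonZeroDivisors_iff.1 b.2).2 t ht0 ▸ m.zero_mem)
  obtain ⟨φ, hφ⟩ : ∃ φ : FractionRing R →+* K, ∀ r, φ (algebraMap R (FractionRing R) r) = algebraMap L K (algebraMap R L r) :=
    ⟨IsLocalization.lift hg, fun r => IsLocalization.lift_eq hg r⟩
  obtain ⟨P, hP, hPx⟩ := hx
  have hint : IsIntegral L (φ x) := by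
    refine ⟨P.map (algebraMap R L), hP.map _, ?_⟩
    rw [Polynomial.eval₂_map]
    have := congrArg φ hPx
    rw [Polynomial.hom_eval₂, map_zero] at this
    rwa [show φ.comp (algebraMap R (FractionRing R)) = (algebraMap L K).comp (algebraMap R L) from
      RingHom.ext fun r => hφ r] at this
  obtain ⟨y, hy⟩ := IsIntegrallyClosed.isIntegral_iff.1 hint
  obtain ⟨⟨c, s⟩, hcs⟩ := IsLocalization.surj m.primeCompl y
  obtain ⟨⟨a, b⟩, hab⟩ := IsLocalization.surj (nonZeroDivisors R) x
  have h1 : algebraMap L K (algebraMap R L (a * s)) = algebraMap L K (algebraMap R L (c * b)) := by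
    have e1 := congrArg φ hab
    rw [map_mul, hφ, hφ, ← hy] at e1
    have e2 := congrArg (algebraMap L K) hcs
    rw [map_mul] at e2
    simp only [map_mul]
    rw [← e1, ← e2]
    ring
  obtain ⟨t, ht⟩ := IsLocalization.exists_of_eq (M := m.primeCompl) (IsFractionRing.injective L K h1)
  have hmem : (t : R) * s ∈ C := by
    refine ⟨t * c, ?_⟩
    change algebraMap R (FractionRing R) (t * c) = ((t : R) * s) • x
    apply (IsLocalization.map_units (FractionRing R) b).mul_right_cancel
    rw [Algebra.smul_def, mul_assoc _ x, hab, ← map_mul, ← map_mul]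
    congr 1
    linear_combination -ht
  exact (hm.isPrime.mem_or_mem (hle hmem)).elim t.2 s.2

end Groth.Agent.S6278
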