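import Groth.Statements.S2139
import Groth.Agent.Lib.CAlgLow.NormalCrit
import Groth.Agent.S6278

set_option autoImplicit false
universe u
open CAlg

namespace Groth.Agent.S2139

theorem converse {R : Type u} [CommRing R] [IsReduced R] (hfin : (minimalPrimes R).Finite)
    (h : IsIntegrallyClosedIn R (FractionRing R)) (p : Ideal R) [p.IsPrime] :
    IsDomain (Localization.AtPrime p) ∧ IsIntegrallyClosed (Localization.AtPrime p) := by
  classical
  have hall : ∀ x : R, (∀ P ∈ minimalPrimes R, x ∈ P) → x = 0 := fun x hx => by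
    have h1 : x ∈ sInf (minimalPrimes R) := Submodule.mem_sInf.2 hx
    rw [show sInf (minimalPrimes R) = sInf ((⊥ : Ideal R).minimalPrimes) from rfl, Ideal.sInf_minimalPrimes,
      show (⊥ : Ideal R).radical = nilradical R from rfl, mem_nilradical] at h1
    exact h1.eq_zero
  have hnzd : ∀ x : R, (∀ P ∈ minimalPrimes R, x ∉ P) → x ∈ nonZeroDivisors R := fun x hx => by
    rw [mem_nonZeroDivisors_iff]
    refine ⟨fun y hy => hall y fun P hP => ?_, fun y hy => hall y fun P hP => ?_⟩
    · exact (hP.1.1.mem_or_mem (hy ▸ P.zero_mem)).resolve_left (hx P hP)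
    · exact (hP.1.1.mem_or_mem (hy ▸ P.zero_mem)).resolve_right (hx P hP)
  obtain ⟨q, hq, hqp⟩ := Ideal.exists_minimalPrimes_le (bot_le : (⊥ : Ideal R) ≤ p)
  obtain ⟨T, hT⟩ := hfin.exists_finset_coe
  have hprime : ∀ P ∈ minimalPrimes R, P.IsPrime := fun P hP => hP.1.1
  have hne : ∀ P : Ideal R, P ∈ minimalPrimes R → P ≠ q → ∃ x, x ∈ P ∧ x ∉ q := fun P hP hPq =>
    Set.not_subset.1 fun hle => hPq (le_antisymm hle (hq.2 hP.1 hle))
  choose! xs hxs using hne
  have hmem : ∀ {P}, P ∈ T ↔ P ∈ minimalPrimes R := fun {P} => by rw [← hT]; rfl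
  let x : R := ∏ P ∈ T.erase q, xs P
  have hxP : ∀ P ∈ minimalPrimes R, P ≠ q → x ∈ P := fun P hP hPq =>
    Ideal.prod_mem P (Finset.mem_erase.2 ⟨hPq, hmem.2 hP⟩) ((hxs P hP hPq).1)
  have hxq : x ∉ q := fun hx => by
    have := hprime q hq
    obtain ⟨P, hP, hPx⟩ := (Ideal.IsPrime.prod_mem_iff (p := q)).1 hx
    exact (hxs P (hmem.1 (Finset.mem_erase.1 hP).2) (Finset.mem_erase.1 hP).1).2 hPx
  obtain ⟨y, hyq, hy⟩ := Set.not_subset.1 (show ¬ (q : Set R) ⊆ ⋃ P ∈ ((T.erase q : Finset (Ideal R)) : Set (Ideal R)), (P : Set R) from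
    fun hsub => by
      obtain ⟨P, hP, hle⟩ := (Ideal.subset_union_prime (f := id) ⊥ ⊥
        (fun i hi _ _ => hprime i (hmem.1 (Finset.mem_erase.1 hi).2))).1 hsub
      exact (Finset.mem_erase.1 hP).1 (le_antisymm ((hmem.1 (Finset.mem_erase.1 hP).2).2 hq.1 hle) hle))
  have hy' : ∀ P ∈ minimalPrimes R, P ≠ q → y ∉ P := fun P hP hPq hyP =>
    hy (Set.mem_biUnion (Finset.mem_coe.2 (Finset.mem_erase.2 ⟨hPq, hmem.2 hP⟩)) hyP)
  have hs : x + y ∈ nonZeroDivisors R := hnzd _ fun P hP hsum => by
    by_cases hPq : P = q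
    · subst hPq; exact hxq ((Submodule.add_mem_iff_left _ hyq).1 hsum)
    · exact hy' P hP hPq ((Submodule.add_mem_iff_right _ (hxP P hP hPq)).1 hsum)
  have hxy : x * y = 0 := hall _ fun P hP => by
    by_cases hPq : P = q
    · subst hPq; exact Ideal.mul_mem_left _ _ hyq
    · exact Ideal.mul_mem_right _ _ (hxP P hP hPq)
  let Q := FractionRing R
  obtain ⟨e, he⟩ : ∃ e : R, e * (x + y) = x := by
    let w : Q := IsLocalization.mk' Q x (⟨x + y, hs⟩ : nonZeroDivisors R)
    have hint : IsIntegral R w := by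
      refine ⟨Polynomial.X ^ 2 - Polynomial.X, Polynomial.monic_X_pow_sub (lt_of_le_of_lt Polynomial.degree_X_le (by norm_num)), ?_⟩
      simp only [Polynomial.eval₂_sub, Polynomial.eval₂_pow, Polynomial.eval₂_X, sub_eq_zero, w]
      rw [pow_two, ← IsLocalization.mk'_mul, IsLocalization.mk'_eq_iff_eq]
      refine congrArg _ ?_
      change (x + y) * (x * x) = ((x + y) * (x + y)) * x
      linear_combination (-(x + y)) * hxy
    obtain ⟨e, he⟩ := h.isIntegral_iff.1 hint
    refine ⟨e, IsFractionRing.injective R Q ?_⟩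
    rw [map_mul, he]
    exact IsLocalization.mk'_spec Q x ⟨x + y, hs⟩
  have heP : ∀ P ∈ minimalPrimes R, P ≠ q → e ∈ P := fun P hP hPq =>
    (((hprime P hP)).mem_or_mem (he.symm ▸ hxP P hP hPq)).resolve_right fun hm =>
      hy' P hP hPq ((Submodule.add_mem_iff_right _ (hxP P hP hPq)).1 hm)
  have heq : e ∉ q := fun h1 => hxq (he ▸ Ideal.mul_mem_right _ _ h1)
  have hidem : e * e = e := by
    refine sub_eq_zero.1 (hall _ fun P hP => ?_)
    by_cases hPq : P = q
    · subst hPq
      have h1 : (e - 1) * (x + y) ∈ P := by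
        rw [sub_mul, one_mul, he, sub_add_cancel_left]
        exact neg_mem hyq
      have h2 := ((hprime P hP).mem_or_mem h1).resolve_right fun hm => hxq ((Submodule.add_mem_iff_left _ hyq).1 hm)
      rw [show e * e - e = e * (e - 1) by ring]
      exact Ideal.mul_mem_left _ _ h2
    · exact sub_mem (Ideal.mul_mem_left _ _ (heP P hP hPq)) (heP P hP hPq)
  have hep : e ∉ p := fun h1 => by
    have := (hprime q hq).mem_or_mem (show e * (e - 1) ∈ q by rw [mul_sub, mul_one, hidem, sub_self]; exact q.zero_mem)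
    exact (inferInstance : p.IsPrime).ne_top ((Ideal.eq_top_iff_one _).2
      (by simpa using sub_mem h1 (hqp (this.resolve_left heq))))
  have hkill : ∀ z ∈ q, e * z = 0 := fun z hz => hall _ fun P hP => by
    by_cases hPq : P = q
    · subst hPq; exact Ideal.mul_mem_left _ _ hz
    · exact Ideal.mul_mem_right _ _ (heP P hP hPq)
  have hdom : IsDomain (Localization.AtPrime p) := Groth.Agent.CAlgLow.isDomain_atPrime p fun a b hab =>
    ((hprime q hq).mem_or_mem (hab ▸ q.zero_mem : a * b ∈ q)).imp
      (fun h1 => ⟨e, hep, hkill a h1⟩) (fun h1 => ⟨e, hep, hkill b h1⟩)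
  refine ⟨hdom, Groth.Agent.CAlgLow.isIntegrallyClosed_atPrime p fun d c a b hb hH => ?_⟩
  obtain ⟨t, ht, ht0⟩ := hH
  have hbq : b ∉ q := fun h1 => hb e hep (hkill b h1)
  let b' : R := b * e + (1 - e)
  have hb' : b' ∈ nonZeroDivisors R := hnzd _ fun P hP hm => by
    by_cases hPq : P = q
    · subst hPq
      have h1 : e - 1 ∈ P := (((hprime P hP)).mem_or_mem (show e * (e - 1) ∈ P by
        rw [mul_sub, mul_one, hidem, sub_self]; exact P.zero_mem)).resolve_left heq
      have h2 : b * e ∈ P := by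
        have h3 := add_mem hm h1
        rwa [show b' + (e - 1) = b * e by simp only [b']; ring] at h3
      exact ((hprime P hP).mem_or_mem h2).elim hbq heq
    · refine (hprime P hP).ne_top ((Ideal.eq_top_iff_one _).2 ?_)
      have h2 : b * e - e ∈ P := sub_mem (Ideal.mul_mem_left _ _ (heP P hP hPq)) (heP P hP hPq)
      have := sub_mem hm h2
      simpa [b'] using this
  let w : Q := IsLocalization.mk' Q (a * e) (⟨b', hb'⟩ : nonZeroDivisors R)
  have hHq : e * (a ^ d + ∑ i : Fin d, c i * a ^ (i : ℕ) * b ^ (d - i)) = 0 :=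
    hkill _ (((hprime q hq).mem_or_mem (ht0 ▸ q.zero_mem : t * _ ∈ q)).resolve_left fun h1 => ht (hqp h1))
  have hwb : w * algebraMap R Q b = algebraMap R Q (a * e) := by
    apply (IsLocalization.map_units Q (⟨b', hb'⟩ : nonZeroDivisors R)).mul_right_cancel
    rw [mul_right_comm, IsLocalization.mk'_spec, ← map_mul, ← map_mul]
    congr 1
    simp only [b']
    linear_combination a * (1 - b) * hidem
  have hwe : w * algebraMap R Q e = w := by
    apply (IsLocalization.map_units Q (⟨b', hb'⟩ : nonZeroDivisors R)).mul_right_cancel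
    rw [mul_right_comm, IsLocalization.mk'_spec, ← map_mul]
    congr 1
    rw [mul_assoc, hidem]
  have hint : IsIntegral R w := by
    refine ⟨Polynomial.X * (Polynomial.X ^ d + ∑ i : Fin d, Polynomial.C (c i) * Polynomial.X ^ (i : ℕ)),
      Polynomial.monic_X.mul (Polynomial.monic_X_pow_add (Polynomial.degree_sum_fin_lt _)), ?_⟩
    simp only [Polynomial.eval₂_mul, Polynomial.eval₂_add, Polynomial.eval₂_pow, Polynomial.eval₂_X,
      Polynomial.eval₂_finsetSum, Polynomial.eval₂_C]
    have hwk : ∀ k : ℕ, w * w ^ k * algebraMap R Q b ^ k = w * algebraMap R Q (a ^ k) := by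
      intro k
      rw [mul_assoc, ← mul_pow, hwb, map_mul, mul_pow, map_pow]
      rcases k with - | k
      · simp
      · rw [← map_pow (algebraMap R Q) e, IsIdempotentElem.pow_succ_eq k hidem, mul_comm (algebraMap R Q a ^ (k + 1)),
          ← mul_assoc, hwe]
    have hbu : ∀ z : Q, z * algebraMap R Q e = z → z * algebraMap R Q b ^ d = 0 → z = 0 := by
      intro z hz hz0
      apply ((IsLocalization.map_units Q (⟨b', hb'⟩ : nonZeroDivisors R)).pow d).mul_right_cancel
      rw [zero_mul]
      have : z * algebraMap R Q b' = z * algebraMap R Q b := by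
        simp only [b', map_add, map_mul, map_sub, map_one]
        linear_combination (algebraMap R Q b - 1) * hz
      have hk : ∀ k : ℕ, z * algebraMap R Q b' ^ k = z * algebraMap R Q b ^ k := by
        intro k
        induction k with
        | zero => simp
        | succ k ih => rw [pow_succ, ← mul_assoc, ih, mul_right_comm, this, mul_assoc, ← pow_succ']
      rw [hk, hz0]
    refine hbu _ (by rw [mul_right_comm, hwe]) ?_
    rw [mul_add, add_mul, hwk, Finset.mul_sum, Finset.sum_mul]
    have : ∑ i : Fin d, w * (algebraMap R Q (c i) * w ^ (i : ℕ)) * algebraMap R Q b ^ d =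
        ∑ i : Fin d, w * algebraMap R Q (c i * a ^ (i : ℕ) * b ^ (d - i)) := by
      refine Finset.sum_congr rfl fun i _ => ?_
      have e1 : algebraMap R Q b ^ d = algebraMap R Q b ^ (i : ℕ) * algebraMap R Q b ^ (d - i) := by
        rw [← pow_add, Nat.add_sub_cancel' i.2.le]
      rw [e1, map_mul, map_mul, map_pow (algebraMap R Q) b]
      linear_combination (algebraMap R Q (c i) * algebraMap R Q b ^ (d - (i : ℕ))) * hwk i
    rw [this, ← Finset.mul_sum, ← mul_add, ← map_sum, ← map_add, ← hwe, mul_assoc, ← map_mul, hHq, map_zero, mul_zero]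
  obtain ⟨u, hu⟩ := h.isIntegral_iff.1 hint
  refine ⟨u, 1, p.one_notMem, e, hep, ?_⟩
  have h4 : u * b = a * e := IsFractionRing.injective R Q (by rw [map_mul, hu, hwb])
  rw [mul_one, mul_sub, h4]
  linear_combination (-a) * hidem



/-- Let `R` be a reduced ring with finitely many minimal primes. Then every localization of `R` at a
prime is an integrally closed domain if and only if `R` is integrally closed in its total ring of
fractions. -/
theorem result {R : Type u} [CommRing R] [IsReduced R] (hfin : (minimalPrimes R).Finite) :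
    (∀ (p : Ideal R) [p.IsPrime], IsDomain (Localization.AtPrime p) ∧ IsIntegrallyClosed (Localization.AtPrime p)) ↔
      IsIntegrallyClosedIn R (FractionRing R) := by
  refine ⟨fun h => Groth.Agent.S6278.result R fun p _ => h p, fun h p _ => converse hfin h p⟩

end Groth.Agent.S2139
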