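import Groth.Statements.S9677
import Groth.Agent.Lib.Birat12.Fibre

set_option autoImplicit false
universe u
open CategoryTheory CategoryTheory.Limits AlgebraicGeometry
open Mor

namespace Groth.Agent.S9677

/-- Suppose X and Y have finitely many irreducible components and f : X ⟶ Y is birational, i.e. f
restricts to a bijection between the generic points of the irreducible components of X and those of
Y and induces an isomorphism of local rings at every generic point of an irreducible component of X.
Then for any generic point y of a component of Y, pulling f back along the canonical map Spec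
O_{Y,y} ⟶ Y gives an isomorphism onto Spec O_{Y,y}. -/
theorem result {X Y : Scheme.{u}} (f : X ⟶ Y)
    (hXfin : (irreducibleComponents ↥X).Finite) (hYfin : (irreducibleComponents ↥Y).Finite)
    (hbij : Set.BijOn (fun x : X => f.base x) {x : X | closure {x} ∈ irreducibleComponents ↥X}
      {y : Y | closure {y} ∈ irreducibleComponents ↥Y})
    (hiso : ∀ x : X, closure {x} ∈ irreducibleComponents ↥X → IsIso (f.stalkMap x))
    (y : Y) (hy : closure {y} ∈ irreducibleComponents ↥Y) :
    IsIso (pullback.snd f (Y.fromSpecStalk y)) := by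
  -- the fibre over `y` is one point
  obtain ⟨x₁, hx₁, hfx₁ : f x₁ = y⟩ := hbij.surjOn hy
  have huniq : ∀ x : X, f x = y → x = x₁ := by
    intro x hx
    obtain ⟨C, hC, hxC⟩ : ∃ C ∈ irreducibleComponents X, x ∈ C :=
      ⟨_, irreducibleComponent_mem_irreducibleComponents x, mem_irreducibleComponent⟩
    obtain ⟨g, hg⟩ := (QuasiSober.sober hC.1 (isClosed_of_mem_irreducibleComponents C hC) :
      ∃ g, IsGenericPoint g C)
    have hgC : closure {g} ∈ irreducibleComponents X := by rw [hg.def]; exact hC
    have hgx : g ⤳ x := hg.specializes hxC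
    have hfg : f g = y := by
      have h1 : f g ⤳ y := hx ▸ hgx.map f.continuous
      have hsub : closure {y} ⊆ closure {f g} := specializes_iff_closure_subset.1 h1
      exact IsGenericPoint.eq (S := closure {f g}) isGenericPoint_closure
        (hy.eq_of_subset isIrreducible_singleton.closure hsub)
    obtain rfl : g = x₁ := hbij.injOn hgC hx₁ (hfg.trans hfx₁.symm)
    -- stalk argument: the stalk at `x` is already local at `g`
    have := hiso g hx₁
    apply Birat12.eq_of_stalkSpecializes f hgx (hfg.trans hx.symm)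
  have hmono : Mono (pullback.fst f (Y.fromSpecStalk y)) := inferInstance
  let q := pullback.snd f (Y.fromSpecStalk y)
  let a := pullback.fst f (Y.fromSpecStalk y)
  have := hiso x₁ hx₁
  have hgen : ∀ t : Spec (Y.presheaf.stalk y), Y.fromSpecStalk y t = y := by
    intro t
    have h1 : Y.fromSpecStalk y t ⤳ y := (Y.range_fromSpecStalk (x := y)).subset ⟨t, rfl⟩
    exact IsGenericPoint.eq (S := closure {Y.fromSpecStalk y t}) isGenericPoint_closure
      (hy.eq_of_subset isIrreducible_singleton.closure (specializes_iff_closure_subset.1 h1))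
  have ha : ∀ p, a p = x₁ := fun p => huniq _ (by
    rw [← Scheme.Hom.comp_apply, pullback.condition, Scheme.Hom.comp_apply]
    exact hgen _)
  have : Subsingleton ↥(pullback f (Y.fromSpecStalk y)) :=
    ⟨fun p p' => a.isEmbedding.injective ((ha p).trans (ha p').symm)⟩
  subst hfx₁
  -- the inverse
  let σ : Spec (Y.presheaf.stalk (f x₁)) ⟶ X := Spec.map (inv (f.stalkMap x₁)) ≫ X.fromSpecStalk x₁
  have hσ : σ ≫ f = Y.fromSpecStalk (f x₁) := by
    rw [Category.assoc, ← Scheme.SpecMap_stalkMap_fromSpecStalk, ← Spec.map_comp_assoc,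
      IsIso.hom_inv_id, Spec.map_id, Category.id_comp]
  let σ' := pullback.lift σ (𝟙 _) (hσ.trans (Category.id_comp _).symm)
  have h1 : σ' ≫ pullback.snd f _ = 𝟙 _ := pullback.lift_snd ..
  have hσ₁ : σ' ≫ a = σ := pullback.lift_fst ..
  have key : ∀ (b : Spec (X.presheaf.stalk x₁) ⟶ Spec (Y.presheaf.stalk (f x₁))),
      b ≫ Y.fromSpecStalk (f x₁) = X.fromSpecStalk x₁ ≫ f → b = Spec.map (f.stalkMap x₁) := by
    intro b hb
    rw [← cancel_mono (Y.fromSpecStalk (f x₁)), hb, Scheme.SpecMap_stalkMap_fromSpecStalk]
  obtain ⟨p⟩ : Nonempty ↥(pullback f (Y.fromSpecStalk (f x₁))) :=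
    ⟨σ' (IsLocalRing.closedPoint _)⟩
  obtain ⟨c, hc⟩ := Birat12.exists_factor_fromSpecStalk a p (ha p)
  refine ⟨σ', ?_, h1⟩
  rw [← cancel_mono a, Category.assoc, hσ₁, Category.id_comp, ← hc]
  have hd : c ≫ Spec.map (f.stalkMap x₁) = q := by
    rw [← cancel_mono (Y.fromSpecStalk (f x₁)), Category.assoc,
      Scheme.SpecMap_stalkMap_fromSpecStalk, ← Category.assoc, hc]
    exact pullback.condition
  show q ≫ σ = c ≫ _
  rw [← hd, Category.assoc, ← Spec.map_comp_assoc, IsIso.inv_hom_id, Spec.map_id, Category.id_comp]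


end Groth.Agent.S9677
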