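import Groth.Statements.S1685
import Groth.Agent.Lib.Goren.Basic
import Groth.Agent.Lib.SecDiv18.Stalk
import Mathlib.AlgebraicGeometry.Morphisms.ClosedImmersion

set_option autoImplicit false
universe u
open CategoryTheory CategoryTheory.Limits AlgebraicGeometry TopologicalSpace
open SDiv

namespace Groth.Agent.S1685

/-- Let X be a locally Noetherian scheme all of whose local rings satisfy Serre's condition (S_k), and
let D be the closed subscheme of an effective Cartier divisor. Then all local rings of D satisfy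
(S_{k-1}). -/
theorem result (X : Scheme.{u}) [IsLocallyNoetherian X] (k : ℕ)
    (hX : ∀ x : ↥X, min (k : WithBot ℕ∞) (ringKrullDim (X.presheaf.stalk x)) ≤
      ((LocCoh.depth (X.presheaf.stalk x) (X.presheaf.stalk x) : ℕ∞) : WithBot ℕ∞))
    (𝓘 : X.IdealSheafData) (h𝓘 : BlowUp.IsEffCartierIdeal 𝓘) (d : ↥𝓘.subscheme) :
    min ((k - 1 : ℕ) : WithBot ℕ∞) (ringKrullDim (𝓘.subscheme.presheaf.stalk d)) ≤
      ((LocCoh.depth (𝓘.subscheme.presheaf.stalk d) (𝓘.subscheme.presheaf.stalk d) : ℕ∞) : WithBot ℕ∞) := by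
  rcases Nat.eq_zero_or_pos k with rfl | hk
  · exact (min_le_left _ _).trans (by exact_mod_cast zero_le)
  let ι := 𝓘.subschemeι
  obtain ⟨U, hxU, f, hI, hnzd, hmem, -⟩ :=
    Groth.Agent.SecDiv.exists_stalk_eqn h𝓘 (x := ι d) (𝓘.range_subschemeι.le ⟨d, rfl⟩)
  let R := X.presheaf.stalk (ι d)
  let B := 𝓘.subscheme.presheaf.stalk d
  letI : Algebra R B := (ι.stalkMap d).hom.toAlgebra
  have hs : Function.Surjective (algebraMap R B) := ι.stalkMap_surjective d
  let g : R := X.presheaf.germ U.1 (ι d) hxU f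
  have hker : RingHom.ker (algebraMap R B) = Ideal.span {g} := by
    let := TopCat.Presheaf.algebra_section_stalk X.presheaf (⟨ι d, hxU⟩ : U.1)
    have := U.2.isLocalization_stalk ⟨ι d, hxU⟩
    refine le_antisymm (fun z hz => ?_) ?_
    · obtain ⟨⟨a, c⟩, hac⟩ := IsLocalization.surj (U.2.primeIdealOf ⟨ι d, hxU⟩).asIdeal.primeCompl z
      have hac : z * X.presheaf.germ U.1 (ι d) hxU c = X.presheaf.germ U.1 (ι d) hxU a := hac
      have hcu : IsUnit (X.presheaf.germ U.1 (ι d) hxU c) := (Groth.Agent.M1.isUnit_germ_iff U.2 hxU c).mpr c.2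
      have h0 : 𝓘.subscheme.presheaf.germ (ι ⁻¹ᵁ U.1) d hxU (ι.app U.1 a) = 0 := by
        rw [← Scheme.Hom.germ_stalkMap_apply ι U.1 d hxU a, ← hac, map_mul]
        rw [show (ι.stalkMap d) z = 0 from hz, zero_mul]
      let := TopCat.Presheaf.algebra_section_stalk 𝓘.subscheme.presheaf (⟨d, hxU⟩ : (ι ⁻¹ᵁ U.1 : 𝓘.subscheme.Opens))
      have := (U.2.preimage ι).isLocalization_stalk ⟨d, hxU⟩
      obtain ⟨⟨s, hs'⟩, hsa⟩ := (IsLocalization.map_eq_zero_iff
        ((U.2.preimage ι).primeIdealOf ⟨d, hxU⟩).asIdeal.primeCompl _ _).mp h0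
      obtain ⟨e, rfl⟩ := 𝓘.subschemeι_app_surjective U s
      have heu : IsUnit (X.presheaf.germ U.1 (ι d) hxU e) := by
        refine (isUnit_map_iff (ι.stalkMap d).hom _).mp ?_
        change IsUnit (ι.stalkMap d _)
        rw [Scheme.Hom.germ_stalkMap_apply ι U.1 d hxU e]
        exact (Groth.Agent.M1.isUnit_germ_iff (U.2.preimage ι) hxU _).mpr hs'
      have hmem' : e * a ∈ 𝓘.ideal U := by
        rw [← 𝓘.ker_subschemeι_app U, RingHom.mem_ker, map_mul]
        exact hsa
      rw [hI] at hmem'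
      have h2 := Ideal.mem_map_of_mem (X.presheaf.germ U.1 (ι d) hxU).hom hmem'
      rw [Ideal.map_span, Set.image_singleton, map_mul] at h2
      have h3 : X.presheaf.germ U.1 (ι d) hxU a ∈ Ideal.span {g} := (Ideal.unit_mul_mem_iff_mem _ heu).mp h2
      rw [← hac] at h3
      exact (Ideal.mul_unit_mem_iff_mem _ hcu).mp h3
    · rw [Ideal.span_singleton_le_iff_mem, RingHom.mem_ker]
      change ι.stalkMap d g = 0
      rw [Scheme.Hom.germ_stalkMap_apply ι U.1 d hxU f,
        show ι.app U.1 f = 0 from (RingHom.mem_ker).mp ((𝓘.ker_subschemeι_app U).ge (hI.ge (Ideal.subset_span rfl))), map_zero]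
  have hreg : IsSMulRegular R g := fun a b hab => mul_cancel_left_mem_nonZeroDivisors hnzd |>.mp hab
  let e : (R ⧸ Ideal.span {g}) ≃ₐ[R] B :=
    (Ideal.quotientEquivAlgOfEq R hker.symm).trans (Ideal.quotientKerAlgEquivOfSurjective (f := Algebra.ofId R B) hs)
  haveI : IsLocalRing (R ⧸ Ideal.span {g}) := Groth.Agent.GorenLib.isLocalRing_quotient hmem
  have hdepth : LocCoh.depth B B + 1 = LocCoh.depth R R := by
    have hm : (IsLocalRing.maximalIdeal R).map (algebraMap R B) = IsLocalRing.maximalIdeal B :=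
      IsLocalRing.map_maximalIdeal_of_surjective (algebraMap R B) hs
    rw [LocCoh.depth, LocCoh.depth, ← hm, Groth.Agent.GorenLib.idealDepth_map_of_surjective hs,
      ← Groth.Agent.DepthLib.idealDepth_congr ((Groth.Agent.GorenLib.quotEquiv g).trans e.toLinearEquiv),
      Groth.Agent.DepthLib.idealDepth_quotSMulTop_add_one hmem hreg]
  have hdim : ringKrullDim B + 1 = ringKrullDim R := by
    rw [← Groth.Agent.GorenLib.ringKrullDim_quotient_add_one hmem hreg, ringKrullDim_eq_of_ringEquiv e.toRingEquiv]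
  have h := hX (ι d)
  rw [← hdepth, ← hdim] at h
  obtain ⟨j, rfl⟩ := Nat.exists_eq_succ_of_ne_zero hk.ne'
  change min ((j : ℕ) : WithBot ℕ∞) (ringKrullDim B) ≤ ((LocCoh.depth B B : ℕ∞) : WithBot ℕ∞)
  rw [Nat.cast_succ, WithBot.coe_add, WithBot.coe_one, min_add_add_right] at h
  exact (ENat.WithBot.add_le_add_one_right_iff).mp h

end Groth.Agent.S1685
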