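import Groth.Statements.S1686
import Groth.Agent.Lib.TopDimLib.Basic
import Groth.Agent.Lib.EffCartier.Basic
import Mathlib.RingTheory.Ideal.MinimalPrime.Basic
import Mathlib.AlgebraicGeometry.Stalk

set_option autoImplicit false
universe u
open CategoryTheory CategoryTheory.Limits AlgebraicGeometry TopologicalSpace
open SDiv

namespace Groth.Agent.S1686

/-- Let D be the closed subscheme of an effective Cartier divisor on a scheme S and d a point of D with
image s in S. If the local dimension of S at s is finite, then the local dimension of D at d is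
strictly smaller. -/
theorem result (S : Scheme.{u}) (𝓘 : S.IdealSheafData) (h𝓘 : BlowUp.IsEffCartierIdeal 𝓘) (d : ↥𝓘.subscheme)
    (hfin : FlatMor.localDim ↥S (𝓘.subschemeι d) ≠ ⊤) :
    FlatMor.localDim ↥𝓘.subscheme d < FlatMor.localDim ↥S (𝓘.subschemeι d) := by
  classical
  have hmax : ∀ z : S, z ∈ 𝓘.support → ∃ y : S, y ⤳ z ∧ y ≠ z := by
    intro z hz
    obtain ⟨U, hzU, f, hf⟩ := Groth.Agent.EffCartier.isEffCartierIdeal_iff.mp h𝓘 z
    have hnu : ¬ IsUnit (S.presheaf.germ U.1 z hzU f) := by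
      rw [Scheme.IdealSheafData.mem_support_iff_of_mem hzU, hf.ideal_eq, Scheme.zeroLocus_span,
        Scheme.mem_zeroLocus_iff] at hz
      exact fun h => hz f rfl ((S.mem_basicOpen f z hzU).mpr h)
    have hnzd : S.presheaf.germ U.1 z hzU f ∈ nonZeroDivisors (S.presheaf.stalk z) := by
      let := TopCat.Presheaf.algebra_section_stalk S.presheaf (⟨z, hzU⟩ : U.1)
      have := U.2.isLocalization_stalk ⟨z, hzU⟩
      exact IsLocalization.map_nonZeroDivisors_le (U.2.primeIdealOf ⟨z, hzU⟩).asIdeal.primeCompl (S.presheaf.stalk z)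
        (Submonoid.mem_map_of_mem (algebraMap Γ(S, U.1) (S.presheaf.stalk z)) hf.mem)
    obtain ⟨q, hq, hqm⟩ := Ideal.exists_minimalPrimes_le (bot_le : ⊥ ≤ IsLocalRing.maximalIdeal (S.presheaf.stalk z))
    haveI := hq.1.1
    refine ⟨S.fromSpecStalk z ⟨q, inferInstance⟩, (Scheme.range_fromSpecStalk (X := S) (x := z)).le ⟨_, rfl⟩, fun he => ?_⟩
    replace he := he.trans (Scheme.fromSpecStalk_closedPoint (X := S) (x := z)).symm
    have hqe : q = IsLocalRing.maximalIdeal (S.presheaf.stalk z) :=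
      congrArg PrimeSpectrum.asIdeal ((S.fromSpecStalk z).isEmbedding.injective he)
    exact Set.disjoint_left.mp (Ideal.disjoint_nonZeroDivisors_of_mem_minimalPrimes hq)
      (hqe ▸ hnu : S.presheaf.germ U.1 z hzU f ∈ q) hnzd
  obtain ⟨⟨U, hU⟩, hdim⟩ := Groth.Agent.TopDimLib.exists_localDim_eq (X := ↥S) (𝓘.subschemeι d)
  have h0 : 0 ≤ FlatMor.localDim ↥S (𝓘.subschemeι d) := by
    rw [← hdim]
    haveI : Nonempty (U : Set ↥S) := ⟨⟨_, hU⟩⟩
    exact Groth.Agent.TopDimLib.zero_le_dim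
  obtain ⟨n, hn⟩ : ∃ n : ℕ, FlatMor.localDim ↥S (𝓘.subschemeι d) = n := by
    match FlatMor.localDim ↥S (𝓘.subschemeι d), h0, hfin with
    | ⊥, h, _ => exact absurd h (by simp)
    | (⊤ : ℕ∞), _, h => exact absurd rfl h
    | ((n : ℕ) : ℕ∞), _, _ => exact ⟨n, rfl⟩
  rw [hn] at hdim ⊢
  let V : Opens ↥𝓘.subscheme := ⟨𝓘.subschemeι ⁻¹' (U : Set ↥S), U.isOpen.preimage 𝓘.subschemeι.continuous⟩
  by_contra hlt
  have hle : (n : WithBot ℕ∞) ≤ topologicalKrullDim (V : Set ↥𝓘.subscheme) :=
    (not_lt.mp hlt).trans (Groth.Agent.TopDimLib.localDim_le_opens V hU)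
  obtain ⟨p, hp⟩ := Order.le_krullDim_iff.mp hle
  let g : ↥(V : Set ↥𝓘.subscheme) → ↥(U : Set ↥S) := Set.MapsTo.restrict (⇑𝓘.subschemeι) (V : Set ↥𝓘.subscheme) (U : Set ↥S) fun _ h => h
  have hg : Topology.IsInducing g :=
    Topology.IsInducing.codRestrict (𝓘.subschemeι.isClosedEmbedding.isEmbedding.isInducing.comp Topology.IsInducing.subtypeVal) _
  let q : LTSeries (IrreducibleCloseds (U : Set ↥S)) := p.map _ (IrreducibleCloseds.map_strictMono_of_isInducing hg)
  haveI : QuasiSober (V : Set ↥𝓘.subscheme) := V.isOpen.isOpenEmbedding_subtypeVal.quasiSober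
  obtain ⟨w, hw⟩ := QuasiSober.sober p.last.isIrreducible p.last.isClosed
  have hlast : (q.last : Set (U : Set ↥S)) = closure {g w} := by
    change closure (g '' (p.last : Set _)) = _
    exact (hw.image hg.continuous).def.symm
  obtain ⟨y, hy, hyne⟩ := hmax (g w).1 ((𝓘.range_subschemeι).le ⟨w.1, rfl⟩)
  let y' : (U : Set ↥S) := ⟨y, hy.mem_open U.isOpen (g w).2⟩
  have hy' : y' ⤳ g w := (subtype_specializes_iff _ _).mpr hy
  have hstep : q.last < ⟨closure {y'}, isIrreducible_singleton.closure, isClosed_closure⟩ := by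
    refine lt_of_le_of_ne (show (q.last : Set (U : Set ↥S)) ⊆ closure {y'} from hlast ▸ hy'.closure_subset) fun he => ?_
    have h1 : closure {g w} = closure ({y'} : Set (U : Set ↥S)) := hlast.symm.trans (congrArg SetLike.coe he)
    refine hyne (hy.antisymm ?_).eq
    exact (subtype_specializes_iff _ _).mp (specializes_iff_mem_closure.mpr (h1.ge (subset_closure rfl)) : g w ⤳ y')
  have h2 := Groth.Agent.TopDimLib.length_le (q.snoc _ hstep)
  rw [hdim, RelSeries.snoc_length, show q.length = n from hp] at h2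
  have h3 : n + 1 ≤ n := by exact_mod_cast h2
  omega

end Groth.Agent.S1686
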