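import Groth.Statements.S10390
import Groth.Agent.Lib.AlgSpDecent.MonoEmb
-- import your own Groth.Agent.* helpers here

set_option autoImplicit false
universe u
open CategoryTheory CategoryTheory.Limits AlgebraicGeometry Topology TopologicalSpace
open AlgSp Groth.Agent.AlgSpDecent Groth.Agent.AlgSpace Topology

namespace Groth.Agent.S10390

/-- Let S be a scheme, X and Y algebraic spaces over S, and f : X ⟶ Y a morphism, and let y ∈ |Y| be a
point represented by a monomorphism Spec k ⟶ Y which is representable quasi-compact. Then for the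
fibre X_k = Spec k ×_Y X the map |X_k| → |X| is a homeomorphism of |X_k| onto f⁻¹({y}) with its
induced topology. -/
theorem result {S : Scheme.{u}} {X Y : AlgSp.Space S} (f : X ⟶ Y)
    (r : AlgSp.FieldPt Y.obj) (hm : Mono r.toHom) (hq : AlgSp.RepWith @QuasiCompact r.toHom)
    (Xk : AlgSp.Space S) (fst : Xk ⟶ X) (snd : Xk.obj ⟶ (AlgSp.yon S).obj r.pt) (hsq : IsPullback fst.hom snd f.hom r.toHom) :
    IsEmbedding (AlgSp.Points.map fst.hom) ∧
      Set.range (AlgSp.Points.map fst.hom) = AlgSp.Points.map f.hom ⁻¹' {AlgSp.Points.mk r} := by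
  have : Mono r.toHom := hm
  have : Mono fst.hom := hsq.mono_fst_of_mono
  have hinj : Function.Injective (AlgSp.Points.map fst.hom) := fun x y h => by
    obtain ⟨w, hw₁, hw₂⟩ := exists_point_lift
      (IsKernelPair.id_of_mono fst.hom : IsPullback (𝟙 _) (𝟙 _) fst.hom fst.hom) x y h
    rw [← hw₁, ← hw₂]
  have hrange : Set.range (AlgSp.Points.map fst.hom) = AlgSp.Points.map f.hom ⁻¹' {AlgSp.Points.mk r} := by
    ext x
    refine ⟨?_, fun hx => ?_⟩
    · rintro ⟨y, rfl⟩
      rw [Set.mem_preimage, ← AlgSp.Points.map_comp, hsq.w, AlgSp.Points.map_comp]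
      exact map_toHom_eq r _
    · obtain ⟨z, hz⟩ := exists_map_toHom_eq r
      exact mem_range_map_fst hsq x ⟨z, hz.trans hx.symm⟩
  obtain ⟨B, q, hqe, hqs⟩ := Y.property.atlas
  obtain ⟨U, p, α, hpe, hps, hp⟩ := exists_chart_over X.property Y.property f.hom q hqe hqs
  obtain ⟨T, c, fT, sqT'⟩ := (Functor.relativelyRepresentable.of_diag Y.property.diag q) r.toHom
  obtain ⟨a, rfl⟩ := (AlgSp.yon S).map_surjective fT
  have hpre := isPreimmersion_fibre Y.property.diag hq hqe sqT'.flip
  have sW := IsPullback.of_hasPullback α a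
  have : IsPreimmersion (pullback.fst α a).left :=
    MorphismProperty.of_isPullback (P := @IsPreimmersion) (sW.map (Over.forget S)).flip hpre
  let wU := pullback.fst α a
  let ω := hsq.lift ((AlgSp.yon S).map wU ≫ p) ((AlgSp.yon S).map (pullback.snd α a ≫ c)) (by
    simp only [wU, Functor.map_comp, Category.assoc, hp, ← sqT'.w]
    rw [← Functor.map_comp_assoc, ← Functor.map_comp_assoc, pullback.condition])
  have sqω : IsPullback ω ((AlgSp.yon S).map wU) fst.hom p := by
    refine IsPullback.of_right ?_ (hsq.lift_fst _ _ _) hsq.flip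
    rw [hsq.lift_snd, hp, Functor.map_comp]
    exact (sW.map (AlgSp.yon S)).flip.paste_horiz sqT'.flip
  have hω : ω ≫ fst.hom = (AlgSp.yon S).map wU ≫ p := sqω.w
  refine ⟨⟨⟨le_antisymm (continuous_iff_le_induced.1 (AlgSp.Points.continuous_map _)) ?_⟩, hinj⟩, hrange⟩
  intro C hC
  have hW : IsOpen (AlgSp.Points.ofPt ω ⁻¹' C) := hC.preimage (AlgSp.Points.continuous_ofPt ω)
  obtain ⟨G, hG, hGeq⟩ := (IsPreimmersion.isEmbedding wU.left).isInducing.isOpen_iff.1 hW
  refine isOpen_induced_iff.2 ⟨AlgSp.Points.ofPt p '' G, isOpenMap_ofPt p hpe _ hG, ?_⟩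
  have key : ∀ w, AlgSp.Points.map fst.hom (AlgSp.Points.ofPt ω w) = AlgSp.Points.ofPt p (wU.left w) :=
    fun w => ofPt_sq hω w
  ext x
  constructor
  · rintro ⟨g, hg, hgx⟩
    obtain ⟨w, hw, hw'⟩ := exists_pt_of_isPullback sqω (x := x) (t := g) hgx.symm
    have : w ∈ AlgSp.Points.ofPt ω ⁻¹' C := hGeq ▸ (show wU.left w ∈ G from hw' ▸ hg)
    rwa [Set.mem_preimage, hw] at this
  · intro hx
    obtain ⟨g, hg⟩ := surjective_ofPt hps (AlgSp.Points.map fst.hom x)
    obtain ⟨w, hw, hw'⟩ := exists_pt_of_isPullback sqω (x := x) (t := g) hg.symm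
    refine ⟨wU.left w, ?_, by rw [← key, hw]⟩
    rw [← Set.mem_preimage, hGeq, Set.mem_preimage, hw]
    exact hx

end Groth.Agent.S10390
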