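import Groth.Statements.S0400
import Groth.Agent.Lib.FlatH4.MapInj

set_option autoImplicit false
universe u
open FlatMor

namespace Groth.Agent.S0400

open TensorProduct in
/-- Fibrewise criterion of flatness, nilpotent form: let R → S be a ring map, I a nilpotent ideal of R,
and M an S-module that is flat over R and such that M/IM is flat over S/IS. Then M is flat over S.
The published statement also determines the primes of S at which S is flat over R; that part is not
stated here. -/
theorem result {R S M : Type u} [CommRing R] [CommRing S] [Algebra R S] (I : Ideal R) (hI : IsNilpotent I)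
    [AddCommGroup M] [Module S M] [Module R M] [IsScalarTower R S M] [Module.Flat R M]
    (h : Module.Flat (S ⧸ I.map (algebraMap R S)) ((S ⧸ I.map (algebraMap R S)) ⊗[S] M)) : Module.Flat S M := by
  refine Groth.Agent.FlatH4.flat_of_isNilpotent (I.map (algebraMap R S)) ?_
    (Groth.Agent.FlatH4.injective_lTensor_map I) h
  obtain ⟨n, hn⟩ := hI
  exact ⟨n, by rw [← Ideal.map_pow, hn]; simp⟩

end Groth.Agent.S0400
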