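import Groth.Statements.S0422
import Groth.Agent.Lib.FlatH4.FibreCritApps

set_option autoImplicit false
universe u
open FlatMor

namespace Groth.Agent.S0422

open TensorProduct in
/-- Fibrewise criterion of flatness modulo a locally nilpotent ideal: let R → S be of finite type, S' an
S-algebra which is of finite presentation over R, I an ideal of R all of whose elements are
nilpotent, and M a finitely presented S'-module which is flat over R and such that M/IM is flat over
S/IS. Then M is flat over S. (The published statement also asserts flatness over R of suitable
localizations of S; that part is not stated here.) -/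
theorem result {R S S' M : Type u} [CommRing R] [CommRing S] [CommRing S'] [Algebra R S] [Algebra S S'] [Algebra R S'] [IsScalarTower R S S']
    [Algebra.FiniteType R S] [Algebra.FinitePresentation R S'] (I : Ideal R) (hI : ∀ a ∈ I, IsNilpotent a)
    [AddCommGroup M] [Module S' M] [Module S M] [Module R M] [IsScalarTower S S' M] [IsScalarTower R S M]
    [Module.FinitePresentation S' M] [Module.Flat R M]
    (h : Module.Flat (S ⧸ I.map (algebraMap R S)) ((S ⧸ I.map (algebraMap R S)) ⊗[S] M)) : Module.Flat S M := by
  haveI : IsScalarTower R S' M := IsScalarTower.of_algebraMap_smul fun r m => by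
    rw [IsScalarTower.algebraMap_apply R S S', algebraMap_smul, algebraMap_smul]
  haveI : SMulCommClass S S' M := inferInstance
  refine Groth.Agent.FlatH4.flat_of_localized_maximal_algebra (S := S') fun q _ => ?_
  haveI : Module.Flat R (LocalizedModule q.primeCompl M) :=
    (Groth.Agent.FlatH4.flat_localized_iff q).2 fun J x hx => ⟨1, q.primeCompl.one_mem, by
      rw [one_smul]
      exact Module.Flat.lTensor_preserves_injective_linearMap J.subtype J.injective_subtype
        (hx.trans (map_zero _).symm)⟩
  refine Groth.Agent.FlatH4.flat_localized_of_fibFlat_ft (A := R) q ?_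
  intro N N' _ _ _ _ hN hN' g hg x hx
  have hle : I.map (algebraMap R S) ≤ (q.comap (algebraMap R S')).map (algebraMap R S) :=
    Ideal.map_mono fun a ha => by
      obtain ⟨n, hn⟩ := hI a ha
      refine Ideal.IsPrime.mem_of_pow_mem inferInstance n ?_
      rw [hn]
      exact zero_mem _
  exact Groth.Agent.FlatH4.fibFlat_of_flat_mod _ h q (fun m r => @hN m ⟨r.1, hle r.2⟩)
    (fun m r => @hN' m ⟨r.1, hle r.2⟩) g hg x hx

end Groth.Agent.S0422
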