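import Groth.Statements.S10283
import Groth.Agent.Lib.AlgSpace.Space
import Groth.Agent.Lib.AlgSpDecent.Basic2
import Groth.Agent.Lib.AlgSpace.Points
import Groth.Agent.Lib.EtaleFibre12.Basic

set_option autoImplicit false
universe u
open CategoryTheory CategoryTheory.Limits AlgebraicGeometry
open AlgSp

namespace Groth.Agent.S10283

open Groth.Agent.AlgSpace Groth.Agent.AlgSpDecent Opposite

/-- A point of a scheme étale over a field spans a finite separable extension. -/
theorem exists_separable {K : Type u} [Field K] {V : Scheme.{u}} (v : V ⟶ Spec (.of K)) [Etale v] (z : V) :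
    ∃ ψ : K →+* V.residueField z, Spec.map (CommRingCat.ofHom ψ) = V.fromSpecResidueField z ≫ v ∧
      (letI := ψ.toAlgebra; Module.Finite K (V.residueField z) ∧ Algebra.IsSeparable K (V.residueField z)) := by
  let τ := Spec.preimage ((Spec (.of K)).fromSpecResidueField (v z))
  have hτ' : Spec.map τ = (Spec (.of K)).fromSpecResidueField (v z) := Spec.map_preimage _
  have hcl : IsClosedImmersion (Spec.map τ) := by
    rw [hτ']
    refine .of_isPreimmersion _ ?_
    rw [Scheme.range_fromSpecResidueField]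
    convert isClosed_univ
    exact Set.eq_univ_of_forall fun x => Subsingleton.elim (α := PrimeSpectrum K) _ _
  have hτs : Function.Surjective τ.hom := by
    have h1 : Function.Surjective (Spec.map τ).appTop :=
      (IsClosedImmersion.isAffine_surjective_of_isAffine (f := Spec.map τ)).2
    have h2 : τ = (Scheme.ΓSpecIso _).inv ≫ (Spec.map τ).appTop ≫ (Scheme.ΓSpecIso _).hom := by simp
    rw [h2]
    exact ((ConcreteCategory.bijective_of_isIso (Scheme.ΓSpecIso _).hom).2.comp h1).comp
      (ConcreteCategory.bijective_of_isIso (Scheme.ΓSpecIso _).inv).2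
  let τe : K ≃+* (Spec (.of K)).residueField (v z) := RingEquiv.ofBijective τ.hom ⟨τ.hom.injective, hτs⟩
  refine ⟨(v.residueFieldMap z).hom.comp τ.hom, ?_, ?_⟩
  · rw [CommRingCat.ofHom_comp, Spec.map_comp]
    exact (congrArg (_ ≫ ·) hτ').trans (Scheme.Hom.SpecMap_residueFieldMap_fromSpecResidueField v z)
  letI : Algebra K ((Spec (.of K)).residueField (v z)) := τ.hom.toAlgebra
  letI : Algebra ((Spec (.of K)).residueField (v z)) (V.residueField z) := (v.residueFieldMap z).hom.toAlgebra
  letI : Algebra K (V.residueField z) := ((v.residueFieldMap z).hom.comp τ.hom).toAlgebra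
  haveI : IsScalarTower K ((Spec (.of K)).residueField (v z)) (V.residueField z) :=
    IsScalarTower.of_algebraMap_eq fun _ => rfl
  haveI : Module.Finite K ((Spec (.of K)).residueField (v z)) :=
    RingHom.finite_algebraMap.1 (RingHom.Finite.of_surjective τ.hom hτs)
  haveI : Algebra.IsSeparable K ((Spec (.of K)).residueField (v z)) := by
    exact Algebra.IsSeparable.of_algHom K K
      ({ τe.symm.toRingHom with commutes' := fun r => τe.symm_apply_apply r } :
        (Spec (.of K)).residueField (v z) →ₐ[K] K)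
  haveI : Module.Finite ((Spec (.of K)).residueField (v z)) (V.residueField z) :=
    RingHom.finite_algebraMap.1 (Groth.Agent.EtaleFibre12.finite_residueFieldMap v z)
  haveI : Algebra.IsSeparable ((Spec (.of K)).residueField (v z)) (V.residueField z) := inferInstance
  exact ⟨Module.Finite.trans ((Spec (.of K)).residueField (v z)) (V.residueField z),
    Algebra.IsSeparable.trans K ((Spec (.of K)).residueField (v z)) (V.residueField z)⟩

/-- The closed and generic points. -/
theorem specializes_closedPoint' {A K : Type u} [CommRing A] [IsLocalRing A] [CommRing K] (g : A →+* K)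
    (k : PrimeSpectrum K) : (Spec.map (CommRingCat.ofHom g)) k ⤳ IsLocalRing.closedPoint A :=
  IsLocalRing.specializes_closedPoint _


/-- In the existence part of the valuative criterion for a morphism of algebraic spaces one may restrict
to finite separable extensions of the fraction field. -/
theorem result {S : Scheme.{u}} {X Y : AlgSp.Space S} (f : X ⟶ Y)
    (hf : AlgSp.ExistVC f.hom) (sq : AlgSp.ValSq f.hom) :
    ∃ e : sq.DomExt, (letI := e.ψ.toAlgebra; Module.Finite sq.K e.K' ∧ Algebra.IsSeparable sq.K e.K') ∧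
      e.HasLift := by
  obtain ⟨e, l, hl₁, hl₂⟩ := hf sq
  -- the base change
  let P := pullback f.hom sq.bot
  have sqP := IsPullback.of_hasPullback f.hom sq.bot
  have hP : IsAlgSpace P := isAlgSpace_pullback Y.property X.property (IsAlgSpace.yon_obj _) sqP
  let tK : (yon S).obj sq.ptK ⟶ P := pullback.lift sq.top ((yon S).map sq.j) sq.comm
  let φA : e.ptA' ⟶ sq.ptA := Over.homMk (Spec.map (CommRingCat.ofHom e.φ)) rfl
  let jA : e.ptK' ⟶ e.ptA' := Over.homMk (Spec.map (CommRingCat.ofHom (algebraMap e.A' e.K'))) rfl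
  let ψK : e.ptK' ⟶ sq.ptK := Over.homMk (Spec.map (CommRingCat.ofHom e.ψ)) (by
    change Spec.map _ ≫ Spec.map _ ≫ _ = Spec.map _ ≫ Spec.map _ ≫ _
    rw [← Spec.map_comp_assoc, ← Spec.map_comp_assoc, ← CommRingCat.ofHom_comp,
      ← CommRingCat.ofHom_comp, e.comm])
  let l' : (yon S).obj e.ptA' ⟶ P := pullback.lift l ((yon S).map φA) hl₂
  have hl' : (yon S).map jA ≫ l' = (yon S).map ψK ≫ tK := by
    apply pullback.hom_ext
    · rw [Category.assoc, Category.assoc, pullback.lift_fst, pullback.lift_fst]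
      exact hl₁
    · rw [Category.assoc, Category.assoc, pullback.lift_snd, pullback.lift_snd, ← Functor.map_comp,
        ← Functor.map_comp]
      congr 1
      refine Over.OverMorphism.ext ?_
      change Spec.map _ ≫ Spec.map _ = Spec.map _ ≫ Spec.map _
      rw [← Spec.map_comp, ← Spec.map_comp, ← CommRingCat.ofHom_comp, ← CommRingCat.ofHom_comp, e.comm]
  let cA' : ↥e.ptA'.left := IsLocalRing.closedPoint e.A'
  let gA' : ↥e.ptA'.left := jA.left (IsLocalRing.closedPoint e.K')
  have hspec : gA' ⤳ cA' := specializes_closedPoint' _ _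
  -- an affine chart at the limit point
  obtain ⟨U₀, a₀, hU₀, ha₀, u₀', hu₀'⟩ := exists_affine_chart_at hP (Points.ofPt l' cA')
  have sqW := ha₀.1.isPullback l'
  obtain ⟨kW, hkW⟩ := (yon S).map_surjective (ha₀.1.fst l')
  rw [← hkW] at sqW
  let pW := ha₀.1.snd l'
  have : Etale pW.left := ha₀.2 _ _ _ sqW
  obtain ⟨w, hw₁, hw₂⟩ := exists_pt_of_isPullback sqW (x := Points.ofScheme U₀ u₀') (t := cA')
    (by rw [← Points.ofPt_eq_map_ofScheme]; exact hu₀')
  obtain ⟨w₀, hww, hw₀⟩ := Flat.generalizingMap pW.left (show gA' ⤳ pW.left w from hw₂ ▸ hspec)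
  have hu : kW.left w₀ ⤳ kW.left w := hww.map kW.left.continuous
  have hu₁ : kW.left w = u₀' := by
    rw [ofPt_map_eq] at hw₁
    exact (Points.schemeEquiv U₀).injective hw₁
  have hgen : Points.ofPt a₀ (kW.left w₀) = Points.ofPt tK (IsLocalRing.closedPoint sq.K) := by
    have h1 : Points.ofPt a₀ (kW.left w₀) = Points.ofPt l' (pW.left w₀) := by
      rw [← ofPt_map_comp, ← ofPt_map_comp, sqW.w]
    rw [h1, hw₀, ← ofPt_map_comp, hl', ofPt_map_comp]
    exact congrArg _ (Subsingleton.elim (α := PrimeSpectrum sq.K) _ _)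
  -- the separable extension
  have sqV := ha₀.1.isPullback tK
  obtain ⟨kV, hkV⟩ := (yon S).map_surjective (ha₀.1.fst tK)
  rw [← hkV] at sqV
  let pV := ha₀.1.snd tK
  have : Etale pV.left := ha₀.2 _ _ _ sqV
  obtain ⟨z, hz₁, -⟩ := exists_pt_of_isPullback sqV (x := Points.ofScheme U₀ (kW.left w₀))
    (t := IsLocalRing.closedPoint sq.K) (by rw [← Points.ofPt_eq_map_ofScheme]; exact hgen)
  have hz : kV.left z = kW.left w₀ := by
    rw [ofPt_map_eq] at hz₁
    exact (Points.schemeEquiv U₀).injective hz₁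
  obtain ⟨ψ, hψ, hsep⟩ := exists_separable pV.left z
  -- the valuation ring
  let eU := U₀.left.isoSpec
  let ρ := Spec.preimage ((ha₀.1.pullback tK).left.fromSpecResidueField z ≫ kV.left ≫ eU.hom)
  have hρ : Spec.map ρ = (ha₀.1.pullback tK).left.fromSpecResidueField z ≫ kV.left ≫ eU.hom :=
    Spec.map_preimage _
  let 𝔭 : PrimeSpectrum Γ(U₀.left, ⊤) := eU.hom u₀'
  let K' := (ha₀.1.pullback tK).left.residueField z
  have hker : RingHom.ker ρ.hom ≤ 𝔭.asIdeal := by
    have h1 : (Spec.map ρ) (IsLocalRing.closedPoint K') = eU.hom (kW.left w₀) := by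
      rw [hρ, Scheme.Hom.comp_apply, Scheme.Hom.comp_apply, Scheme.fromSpecResidueField_apply, hz]
    have h2 : (Spec.map ρ) (IsLocalRing.closedPoint K') ⤳ eU.hom u₀' := by
      rw [h1]; exact (hu₁ ▸ hu).map eU.hom.continuous
    have h3 : (PrimeSpectrum.comap ρ.hom (IsLocalRing.closedPoint K')).asIdeal ≤ 𝔭.asIdeal :=
      (PrimeSpectrum.le_iff_specializes (PrimeSpectrum.comap ρ.hom (IsLocalRing.closedPoint K')) 𝔭).2 h2
    refine le_trans (fun r hr => ?_) h3
    change ρ.hom r ∈ IsLocalRing.maximalIdeal K'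
    rw [RingHom.mem_ker.1 hr]
    exact zero_mem _
  let j : Localization.AtPrime 𝔭.asIdeal →+* K' := IsLocalization.lift (M := 𝔭.asIdeal.primeCompl)
    (g := ρ.hom) fun y => isUnit_iff_ne_zero.2 fun h => y.2 (hker (RingHom.mem_ker.2 h))
  obtain ⟨A₃, hA₃, hl₃⟩ := IsLocalRing.exists_factor_valuationRing j
  let ρ' : Γ(U₀.left, ⊤) →+* A₃ :=
    (j.codRestrict A₃.toSubring hA₃).comp (algebraMap _ (Localization.AtPrime 𝔭.asIdeal))
  have hρ' : (algebraMap A₃ K').comp ρ' = ρ.hom := RingHom.ext fun r => IsLocalization.lift_eq _ r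
  have hloc : ∀ r, IsUnit (ρ' r) → r ∉ 𝔭.asIdeal := fun r hr =>
    (IsLocalization.AtPrime.isUnit_to_map_iff (Localization.AtPrime 𝔭.asIdeal) 𝔭.asIdeal r).1
      (hl₃.map_nonunit _ hr)
  -- the ring map from the valuation ring
  obtain ⟨kU, hkU⟩ := (yon S).map_surjective (a₀ ≫ pullback.snd f.hom sq.bot)
  let θ : CommRingCat.of sq.A ⟶ Γ(U₀.left, ⊤) := Spec.preimage (eU.inv ≫ kU.left)
  have hθ : Spec.map θ = eU.inv ≫ kU.left := Spec.map_preimage _
  let φ : sq.A →+* A₃ := ρ'.comp θ.hom
  have hcomm : (algebraMap A₃ K').comp φ = ψ.comp (algebraMap sq.A sq.K) := by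
    change (algebraMap A₃ K').comp (ρ'.comp θ.hom) = _
    rw [← RingHom.comp_assoc, hρ']
    have h := congrArg CommRingCat.Hom.hom (Spec.map_injective (a₁ := θ ≫ ρ)
      (a₂ := CommRingCat.ofHom (ψ.comp (algebraMap sq.A sq.K))) (by
        have h1 : kV ≫ kU = pV ≫ sq.j := (yon S).map_injective (by
          rw [Functor.map_comp, Functor.map_comp, hkU, ← Category.assoc, sqV.w, Category.assoc,
            pullback.lift_snd])
        have h2 : kV.left ≫ kU.left = pV.left ≫ Spec.map (CommRingCat.ofHom (algebraMap sq.A sq.K)) :=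
          congrArg (fun m => m.left) h1
        have h3 : Spec.map ρ ≫ Spec.map θ =
            (ha₀.1.pullback tK).left.fromSpecResidueField z ≫ kV.left ≫ kU.left := by
          rw [hρ, hθ, Category.assoc, Category.assoc, Iso.hom_inv_id_assoc]
        refine (Spec.map_comp _ _).trans (h3.trans ?_)
        rw [h2, ← Category.assoc]
        exact (congrArg (· ≫ Spec.map (CommRingCat.ofHom (algebraMap sq.A sq.K))) hψ).symm.trans
          (Spec.map_comp _ _).symm))
    exact h
  have hmax : PrimeSpectrum.comap θ.hom 𝔭 = IsLocalRing.closedPoint sq.A := by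
    change (Spec.map θ) (eU.hom u₀') = _
    rw [hθ, Scheme.Hom.comp_apply, ← Scheme.Hom.comp_apply eU.hom, Iso.hom_inv_id]
    change kU.left u₀' = _
    apply (Points.schemeEquiv sq.ptA).injective
    change Points.ofScheme sq.ptA _ = Points.ofScheme sq.ptA _
    rw [← ofPt_map_eq, hkU, ← Points.map_ofPt, hu₀', Points.map_ofPt, pullback.lift_snd, ofPt_map_eq]
    have := e.isLocalHom
    exact congrArg _ (IsLocalRing.comap_closedPoint e.φ)
  have hlocal : IsLocalHom φ := ⟨fun r hr => by
    by_contra hn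
    have : r ∈ (PrimeSpectrum.comap θ.hom 𝔭).asIdeal := by
      rw [hmax]; exact hn
    exact hloc _ hr this⟩
  refine ⟨{ A' := A₃, K' := K', φ := φ, ψ := ψ, comm := hcomm, isLocalHom := hlocal }, hsep, ?_⟩
  let m₃ : Over.mk (Spec.map (CommRingCat.ofHom φ) ≫ sq.str) ⟶ U₀ :=
    Over.homMk (Spec.map (CommRingCat.ofHom ρ') ≫ eU.inv) (by
      change (Spec.map (CommRingCat.ofHom ρ') ≫ eU.inv) ≫ U₀.hom = Spec.map _ ≫ sq.str
      rw [show CommRingCat.ofHom φ = θ ≫ CommRingCat.ofHom ρ' from rfl, Spec.map_comp, hθ]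
      simp only [Category.assoc]
      rw [show U₀.hom = kU.left ≫ sq.str from (Over.w kU).symm])
  refine ⟨(yon S).map m₃ ≫ a₀ ≫ pullback.fst f.hom sq.bot, ?_, ?_⟩
  · have htop : tK ≫ pullback.fst f.hom sq.bot = sq.top := pullback.lift_fst _ _ _
    rw [← htop]
    let q : Over.mk (Spec.map (CommRingCat.ofHom (algebraMap A₃ K')) ≫ Spec.map (CommRingCat.ofHom φ) ≫ sq.str) ⟶
        ha₀.1.pullback tK := Over.homMk ((ha₀.1.pullback tK).left.fromSpecResidueField z) (by
          change _ = Spec.map _ ≫ Spec.map _ ≫ sq.str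
          rw [← Spec.map_comp_assoc, ← CommRingCat.ofHom_comp, hcomm, CommRingCat.ofHom_comp,
            Spec.map_comp_assoc, hψ, Category.assoc]
          exact congrArg _ (Over.w pV).symm)
    have e₁ : (Over.homMk (Spec.map (CommRingCat.ofHom (algebraMap A₃ K'))) rfl :
        Over.mk (Spec.map (CommRingCat.ofHom (algebraMap A₃ K')) ≫ Spec.map (CommRingCat.ofHom φ) ≫ sq.str) ⟶
          Over.mk (Spec.map (CommRingCat.ofHom φ) ≫ sq.str)) ≫ m₃ = q ≫ kV := Over.OverMorphism.ext (by
      change Spec.map _ ≫ Spec.map _ ≫ eU.inv = _ ≫ kV.left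
      rw [← Spec.map_comp_assoc, ← CommRingCat.ofHom_comp, hρ', CommRingCat.ofHom_hom, hρ]
      simp only [Category.assoc, Iso.hom_inv_id, Category.comp_id]
      rfl)
    rw [← Functor.map_comp_assoc]
    erw [e₁]
    rw [Functor.map_comp, Category.assoc, reassoc_of% sqV.w, ← Functor.map_comp_assoc]
    congr 2
    exact Over.OverMorphism.ext hψ.symm
  · rw [Category.assoc, Category.assoc, pullback.condition, ← Category.assoc a₀, ← hkU,
      ← Functor.map_comp_assoc]
    congr 2
    refine Over.OverMorphism.ext ?_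
    change (Spec.map (CommRingCat.ofHom ρ') ≫ eU.inv) ≫ kU.left = Spec.map (CommRingCat.ofHom φ)
    rw [Category.assoc, ← hθ, ← Spec.map_comp]
    rfl

end Groth.Agent.S10283
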