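import Groth.Statements.S9124
import Groth.Agent.Lib.CAlgLow.CatenaryEmb
import Mathlib.RingTheory.Localization.Ideal

set_option autoImplicit false
universe u
open CAlg

namespace Groth.Agent.S9124

/-- A localization of a catenary ring is catenary. -/
theorem result (A : Type u) [CommRing A] (S : Submonoid A)
    (B : Type u) [CommRing B] [Algebra A B] [IsLocalization S B]
    (hA : CAlg.IsCatenary A) : CAlg.IsCatenary B := by
  refine Groth.Agent.CAlgLow.isCatenary_of_orderEmbedding
    (OrderEmbedding.ofMapLEIff (PrimeSpectrum.comap (algebraMap A B)) fun p q => ⟨fun h => ?_,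
      fun h => Ideal.comap_mono h⟩) ?_ hA
  · have h' : p.asIdeal.comap (algebraMap A B) ≤ q.asIdeal.comap (algebraMap A B) := h
    change p.asIdeal ≤ q.asIdeal
    rw [← IsLocalization.map_comap S B p.asIdeal, ← IsLocalization.map_comap S B q.asIdeal]
    exact Ideal.map_mono h'
  · rw [OrderEmbedding.coe_ofMapLEIff, PrimeSpectrum.localization_comap_range B S]
    exact ⟨fun p _ q hq r hr => hq.mono_right hr.2⟩

end Groth.Agent.S9124
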