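import Groth.Statements.S9125
import Groth.Agent.Lib.CAlgLow.CatenaryEmb
import Mathlib.RingTheory.Spectrum.Prime.RingHom

set_option autoImplicit false
universe u
open CAlg

namespace Groth.Agent.S9125

/-- A quotient of a catenary ring is catenary. -/
theorem result (A : Type u) [CommRing A] (I : Ideal A)
    (hA : CAlg.IsCatenary A) : CAlg.IsCatenary (A ⧸ I) := by
  refine Groth.Agent.CAlgLow.isCatenary_of_orderEmbedding
    (OrderEmbedding.ofMapLEIff (PrimeSpectrum.comap (Ideal.Quotient.mk I)) fun p q => ⟨fun h => ?_,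
      fun h => Ideal.comap_mono h⟩) ?_ hA
  · exact (Ideal.comap_le_comap_iff_of_surjective _ Ideal.Quotient.mk_surjective _ _).1 h
  · rw [OrderEmbedding.coe_ofMapLEIff, range_comap_of_surjective _ _ Ideal.Quotient.mk_surjective]
    exact ⟨fun p hp q _ r hr => by
      rw [PrimeSpectrum.mem_zeroLocus] at hp ⊢
      exact hp.trans hr.1⟩

end Groth.Agent.S9125
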