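import Groth.Statements.S0552
import Groth.Agent.Lib.CAlgLow.CatenaryEmb
import Mathlib.RingTheory.Spectrum.Prime.Topology

set_option autoImplicit false
universe u
open CAlg

namespace Groth.Agent.S0552

theorem exists_lift {α β : Type u} [PartialOrder α] [PartialOrder β] (f : β ↪o α)
    (hf : ∀ y b, y ≤ f b → y ∈ Set.range f) (s : LTSeries α) {b : β} (hs : s.last ≤ f b) :
    ∃ t : LTSeries β, t.map f f.strictMono = s := by
  choose g hg using fun i => hf (s i) b ((s.monotone (Fin.le_last i)).trans hs)
  refine ⟨⟨s.length, g, fun i => ?_⟩, ?_⟩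
  · change g i.castSucc < g i.succ
    rw [← f.lt_iff_lt, hg, hg]
    exact s.step i
  · exact RelSeries.ext rfl (funext fun i => hg i)



/-- A ring is catenary exactly when its localization at every maximal ideal is catenary. -/
theorem result (R : Type u) [CommRing R] :
    CAlg.IsCatenary R ↔ ∀ (m : Ideal R) [m.IsMaximal], CAlg.IsCatenary (Localization.AtPrime m) := by
  let emb := fun (m : Ideal R) (_ : m.IsMaximal) => OrderEmbedding.ofMapLEIff
    (PrimeSpectrum.comap (algebraMap R (Localization.AtPrime m))) (fun a b => by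
      simp only [← PrimeSpectrum.asIdeal_le_asIdeal, PrimeSpectrum.comap_asIdeal]
      refine ⟨fun h => ?_, fun h => Ideal.comap_mono h⟩
      rw [← IsLocalization.map_comap m.primeCompl (Localization.AtPrime m) a.asIdeal,
        ← IsLocalization.map_comap m.primeCompl (Localization.AtPrime m) b.asIdeal]
      exact Ideal.map_mono h)
  have hrange : ∀ m hm, Set.range (emb m hm) = {p : PrimeSpectrum R | p.asIdeal ≤ m} := by
    intro m hm
    refine (PrimeSpectrum.localization_comap_range (Localization.AtPrime m) m.primeCompl).trans ?_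
    ext p
    exact ⟨fun h x hx => by_contra fun hxm => Set.disjoint_left.1 h hxm hx,
      fun h => Set.disjoint_left.2 fun x hx hxp => hx (h hxp)⟩
  have hdown : ∀ m hm y b, y ≤ emb m hm b → y ∈ Set.range (emb m hm) := fun m hm y b hy => by
    have : emb m hm b ∈ Set.range (emb m hm) := ⟨b, rfl⟩
    rw [hrange m hm] at this ⊢
    exact le_trans (show y.asIdeal ≤ _ from hy) this
  constructor
  · intro h m hm
    refine Groth.Agent.CAlgLow.isCatenary_of_orderEmbedding (emb m hm) ?_ h
    rw [hrange m hm]
    exact ⟨fun x _ y hy z hz => le_trans (show z.asIdeal ≤ y.asIdeal from hz.2) hy⟩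
  · intro h
    have hget : ∀ q : PrimeSpectrum R, ∃ (m : Ideal R) (hm : m.IsMaximal) (b : _), emb m hm b = q := by
      intro q
      obtain ⟨m, hm, hqm⟩ := Ideal.exists_le_maximal q.asIdeal q.isPrime.ne_top
      exact ⟨m, hm, (hrange m hm).ge hqm⟩
    refine ⟨fun p q hpq => ?_, fun s t h0 h1 hs ht => ?_⟩
    · obtain ⟨m, hm, b, rfl⟩ := hget q
      obtain ⟨a, rfl⟩ := hdown m hm p b hpq
      obtain ⟨n, hn⟩ := (h m).1 a b ((emb m hm).le_iff_le.1 hpq)
      refine ⟨n, fun s hp hq => ?_⟩
      obtain ⟨t, rfl⟩ := exists_lift (emb m hm) (hdown m hm) s hq.le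
      exact hn t ((emb m hm).injective hp) ((emb m hm).injective hq)
    · obtain ⟨m, hm, b, hb⟩ := hget s.last
      obtain ⟨s', rfl⟩ := exists_lift (emb m hm) (hdown m hm) s hb.ge
      obtain ⟨t', rfl⟩ := exists_lift (emb m hm) (hdown m hm) t (h1.ge.trans hb.ge)
      exact (h m).2 s' t' ((emb m hm).injective h0) ((emb m hm).injective h1)
        (fun i => (hs i).of_image (emb m hm)) (fun i => (ht i).of_image (emb m hm))

end Groth.Agent.S0552
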