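import Groth.Prelude.Def_Found
import Mathlib.RingTheory.Localization.AtPrime.Basic
import Groth.Agent.Lib.UCat.Universal
import Groth.Agent.S0552

set_option autoImplicit false
universe u
open CAlg

namespace Groth.Agent.S0553

/-- A Noetherian ring is universally catenary exactly when its localization at every maximal ideal is
universally catenary. -/
theorem result (R : Type u) [CommRing R]
    [IsNoetherianRing R] :
    CAlg.IsUniversallyCatenary R ↔
      ∀ (m : Ideal R) [m.IsMaximal], CAlg.IsUniversallyCatenary (Localization.AtPrime m) := by
  refine ⟨fun h m _ => UCat.isUniversallyCatenary_of_essFiniteType R (Localization.AtPrime m) h, fun h => ⟨inferInstance, fun S _ _ hft => ?_⟩⟩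
  refine (Groth.Agent.S0552.result S).2 fun n hn => ?_
  obtain ⟨m, hm, hle⟩ := Ideal.exists_le_maximal (n.comap (algebraMap R S)) (Ideal.IsPrime.comap _).ne_top
  have hu : ∀ y : m.primeCompl, IsUnit (algebraMap R (Localization.AtPrime n) y) := fun y => by
    rw [IsScalarTower.algebraMap_apply R S (Localization.AtPrime n)]
    exact IsLocalization.map_units (Localization.AtPrime n)
      (⟨algebraMap R S y, fun hy => y.2 (hle hy)⟩ : n.primeCompl)
  letI : Algebra (Localization.AtPrime m) (Localization.AtPrime n) :=
    (IsLocalization.lift (M := m.primeCompl) hu).toAlgebra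
  haveI : IsScalarTower R (Localization.AtPrime m) (Localization.AtPrime n) :=
    IsScalarTower.of_algebraMap_eq fun x => (IsLocalization.lift_eq hu x).symm
  haveI := hft
  haveI : Algebra.EssFiniteType R (Localization.AtPrime n) := Algebra.EssFiniteType.comp R S _
  haveI : Algebra.EssFiniteType (Localization.AtPrime m) (Localization.AtPrime n) :=
    Algebra.EssFiniteType.of_comp R _ _
  exact (UCat.isUniversallyCatenary_of_essFiniteType (Localization.AtPrime m) (Localization.AtPrime n) (h m)).2
    (Localization.AtPrime n) inferInstance


end Groth.Agent.S0553
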