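import Groth.Statements.S12444
import Groth.Agent.Lib.PtSet.Catenary

set_option autoImplicit false
universe u
open PtTop

namespace Groth.Agent.S12444

/-- A topological space X is catenary if and only if it has an open covering by catenary subspaces
(here: every point has a catenary open neighbourhood); and if X is catenary then so is every locally
closed subspace of X. -/
theorem result (X : Type u) [TopologicalSpace X] :
    (PtTop.IsCatenarySpace X ↔
      ∀ x : X, ∃ U : TopologicalSpace.Opens X, x ∈ U ∧ PtTop.IsCatenarySpace U) ∧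
    (PtTop.IsCatenarySpace X → ∀ S : Set X, IsLocallyClosed S → PtTop.IsCatenarySpace S) := by
  have hlc : PtTop.IsCatenarySpace X → ∀ S : Set X, IsLocallyClosed S → PtTop.IsCatenarySpace S := by
    rintro h S ⟨U, F, hU, hF, rfl⟩
    exact Groth.Agent.PtSet.isCatenaryOrder_of_embedding (Groth.Agent.PtSet.closedsEmb (U ∩ F))
      (Groth.Agent.PtSet.closedsEmb_ordConnected hU hF) h
  refine ⟨⟨fun h x ↦ ⟨⊤, trivial, hlc h _ isOpen_univ.isLocallyClosed⟩, fun h ↦ ?_⟩, hlc⟩
  have key : ∀ T : TopologicalSpace.IrreducibleCloseds X, ∃ (U : Set X) (_ : IsOpen U)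
      (_ : Groth.Agent.PtSet.IsCatenaryOrder (TopologicalSpace.IrreducibleCloseds ↥(U ∩ Set.univ))),
      ∀ W, T ≤ W → ∃ c, Groth.Agent.PtSet.closedsEmb (U ∩ Set.univ) c = W := by
    intro T
    obtain ⟨x, hx⟩ := T.isIrreducible.nonempty
    obtain ⟨U, hxU, hU⟩ := h x
    refine ⟨(U : Set X), U.isOpen, ?_, fun W hW ↦ Groth.Agent.PtSet.mem_range_closedsEmb U.isOpen
      isClosed_univ W (Set.subset_univ _) ⟨x, hW hx, hxU⟩⟩
    rw [Set.inter_univ]
    exact hU
  rw [Groth.Agent.PtSet.isCatenarySpace_iff, Groth.Agent.PtSet.isCatenaryOrder_iff]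
  refine ⟨fun T T' hT ↦ ?_, fun T T' T'' hT hT' ↦ ?_⟩
  · obtain ⟨U, hU, hcat, hsur⟩ := key T
    obtain ⟨a, rfl⟩ := hsur T le_rfl
    obtain ⟨b, rfl⟩ := hsur T' hT
    rw [Groth.Agent.PtSet.codimO_map _ (Groth.Agent.PtSet.closedsEmb_ordConnected hU isClosed_univ)]
    exact (hcat a b ((Groth.Agent.PtSet.closedsEmb _).le_iff_le.1 hT)).1
  · obtain ⟨U, hU, hcat, hsur⟩ := key T
    obtain ⟨a, rfl⟩ := hsur T le_rfl
    obtain ⟨b, rfl⟩ := hsur T' hT
    obtain ⟨c, rfl⟩ := hsur T'' (hT.trans hT')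
    simp only [Groth.Agent.PtSet.codimO_map _
      (Groth.Agent.PtSet.closedsEmb_ordConnected hU isClosed_univ)]
    exact (Groth.Agent.PtSet.isCatenaryOrder_iff.1 hcat).2 a b c
      ((Groth.Agent.PtSet.closedsEmb _).le_iff_le.1 hT) ((Groth.Agent.PtSet.closedsEmb _).le_iff_le.1 hT')

end Groth.Agent.S12444
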