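import Groth.Statements.S12446
import Groth.Agent.Lib.CatenarySch12.Basic
import Groth.Agent.S0552
import Groth.Agent.S9124

set_option autoImplicit false
set_option backward.isDefEq.respectTransparency.types false
universe u
open CategoryTheory AlgebraicGeometry
open Props

namespace Groth.Agent.S12446

/-- For a scheme X, the underlying topological space of X is catenary if and only if for every point x
the local ring O_{X,x} is a catenary ring. -/
theorem result (X : Scheme.{u}) :
    PtTop.IsCatenarySpace X ↔ ∀ x : X, CAlg.IsCatenary (X.presheaf.stalk x) := by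
  constructor
  · intro h x
    obtain ⟨U, hU, hxU, -⟩ := exists_isAffineOpen_mem_and_subset (x := x) (U := ⊤) trivial
    letI := X.presheaf.algebra_section_stalk ⟨x, hxU⟩
    haveI := hU.isLocalization_stalk ⟨x, hxU⟩
    exact Groth.Agent.S9124.result Γ(X, U) (hU.primeIdealOf ⟨x, hxU⟩).asIdeal.primeCompl _
      ((Groth.Agent.CatenarySch12.isCatenarySpace_affineOpen ⟨U, hU⟩).1
        (Groth.Agent.CatenarySch12.isCatenarySpace_opens U h))
  · intro h
    refine Groth.Agent.CatenarySch12.isCatenarySpace_of_cover fun x => ?_
    obtain ⟨U, hU, hxU, -⟩ := exists_isAffineOpen_mem_and_subset (x := x) (U := ⊤) trivial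
    refine ⟨⟨U, hU⟩, hxU, (Groth.Agent.S0552.result _).2 fun m hm => ?_⟩
    let y : PrimeSpectrum Γ(X, U) := ⟨m, hm.isPrime⟩
    have hy : hU.fromSpec y ∈ U := by
      rw [← SetLike.mem_coe, ← hU.range_fromSpec]
      exact ⟨y, rfl⟩
    letI := X.presheaf.algebra_section_stalk (U := U) ⟨hU.fromSpec y, hy⟩
    haveI : IsLocalization.AtPrime (X.presheaf.stalk (hU.fromSpec y)) m := hU.isLocalization_stalk' y hy
    exact Groth.Agent.CatenarySch12.isCatenary_of_ringEquiv
      (IsLocalization.algEquiv m.primeCompl (X.presheaf.stalk (hU.fromSpec y))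
        (Localization.AtPrime m)).toRingEquiv (h _)

end Groth.Agent.S12446
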