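import Groth.Statements.S12447
import Groth.Agent.Lib.CatenarySch12.DimFun
import Mathlib.AlgebraicGeometry.Noetherian

set_option autoImplicit false
set_option backward.isDefEq.respectTransparency.types false
universe u
open CategoryTheory AlgebraicGeometry
open Props

namespace Groth.Agent.S12447

/-- Let S be a locally Noetherian scheme. Then the underlying topological space of S is catenary if and
only if locally in the Zariski topology there is a dimension function, i.e. every point has an open
neighbourhood U carrying a function δ : U → ℤ which strictly decreases along nontrivial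
specializations and drops by exactly one along immediate specializations. -/
theorem result (S : Scheme.{u}) [IsLocallyNoetherian S] :
    PtTop.IsCatenarySpace S ↔
      ∀ s : S, ∃ U : S.Opens, s ∈ U ∧ ∃ δ : U → ℤ, PtTop.IsDimensionFunction δ := by
  constructor
  · intro h s
    obtain ⟨U, hU, hsU, -⟩ := exists_isAffineOpen_mem_and_subset (x := s) (U := ⊤) trivial
    haveI : IsAffine (U : Scheme.{u}) := hU
    haveI : IsNoetherian (U : Scheme.{u}) := { }
    haveI hN : TopologicalSpace.NoetherianSpace (U : Scheme.{u}) := inferInstance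
    obtain ⟨V, hsV, δ, hδ⟩ := @Groth.Agent.CatenarySch12.exists_dimensionFunction _ _ hN inferInstance inferInstance
      (Groth.Agent.CatenarySch12.isCatenarySpace_opens U h) ⟨s, hsU⟩
    let W : S.Opens := U.ι ''ᵁ V
    have hm : ∀ w : W, ∃ h' : w.1 ∈ U, (⟨w.1, h'⟩ : (U : Scheme.{u})) ∈ V := by
      rintro ⟨_, ⟨⟨a, ha⟩, hv, rfl⟩⟩
      exact ⟨ha, hv⟩
    let ψ : W → V := fun w => ⟨⟨w.1, (hm w).1⟩, (hm w).2⟩
    have hψs : ∀ a b : W, ψ a ⤳ ψ b ↔ a ⤳ b := fun a b => by
      rw [subtype_specializes_iff, subtype_specializes_iff]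
      exact subtype_specializes_iff (⟨a.1, (hm a).1⟩ : (U : Scheme.{u})) ⟨b.1, (hm b).1⟩
    have hψi : Function.Injective ψ := fun a b e =>
      Subtype.ext (congrArg (fun v : V => v.1.1) e)
    have hψsur : Function.Surjective ψ := fun v => ⟨⟨v.1.1, ⟨v.1, v.2, rfl⟩⟩, rfl⟩
    refine ⟨W, ⟨⟨s, hsU⟩, hsV, rfl⟩, fun w => δ (ψ w),
      fun a b hab hne => hδ.1 _ _ ((hψs a b).2 hab) (hψi.ne hne), fun a b hab => hδ.2 _ _ ?_⟩
    refine ⟨(hψs a b).2 hab.1, hψi.ne hab.2.1, fun z haz hzb => ?_⟩
    obtain ⟨c, rfl⟩ := hψsur z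
    exact (hab.2.2 c ((hψs a c).1 haz) ((hψs c b).1 hzb)).imp (congrArg ψ) (congrArg ψ)
  · intro h
    refine (Groth.Agent.S12444.result S).1.2 fun s => ?_
    obtain ⟨U, hsU, δ, hδ⟩ := h s
    exact ⟨U, hsU, Groth.Agent.CatenarySch12.isCatenarySpace_of_dimensionFunction (X := (U : Scheme.{u})) hδ⟩

end Groth.Agent.S12447
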