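import Groth.Prelude.Def_EGA4b
import Groth.Prelude.Def_CAlg
import Groth.Prelude.Def_Found
import Mathlib.RingTheory.LocalRing.RingHom.Basic
import Mathlib.RingTheory.Flat.Basic
import Mathlib.RingTheory.Ideal.Quotient.Operations
import Mathlib.RingTheory.KrullDimension.Module
import Mathlib.RingTheory.Ideal.MinimalPrime.Basic
import Mathlib.RingTheory.AdicCompletion.Algebra
import Mathlib.RingTheory.LocalRing.ResidueField.Fiber
import Mathlib.RingTheory.TensorProduct.Basic
import Mathlib.RingTheory.RegularLocalRing.Defs
import Mathlib.RingTheory.Localization.AtPrime.Basic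
import Groth.Agent.Lib.FlatDepth.GeomFib
import Groth.Agent.Lib.FlatDepth.CplMap
import Groth.Agent.Lib.FlatDepth.RegNormal

set_option autoImplicit false
universe u
open EGA4

namespace Groth.Agent.S4704

/-- Let A → A' be a local homomorphism of Noetherian local rings which is regular (flat, with
geometrically regular fibres). If the completion map of A' is regular (the formal fibres of A' are
geometrically regular), then the completion map of A is regular. -/
theorem result (A A' : Type u) [CommRing A] [CommRing A'] [IsNoetherianRing A]
    [IsNoetherianRing A'] [IsLocalRing A] [IsLocalRing A'] [Algebra A A'] [IsLocalHom (algebraMap A A')]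
    (hf : CAlg.IsRegularHom A A') (hA' : CAlg.IsRegularHom A' (EGA4.Cpl A')) :
    CAlg.IsRegularHom A (EGA4.Cpl A) := by
  haveI := hf.1
  obtain ⟨_, hT, hff⟩ := FlatDepth.exists_cpl_tower A A'
  haveI := hff inferInstance
  exact FlatDepth.isRegularHom_of_comp A (EGA4.Cpl A) (EGA4.Cpl A')
    (FlatDepth.isRegularHom_comp A A' (EGA4.Cpl A') hf hA')

end Groth.Agent.S4704
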