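import Groth.Prelude.Def_EGA4b
import Groth.Prelude.Def_Found
import Mathlib.RingTheory.Flat.FaithfullyFlat.Basic
import Mathlib.RingTheory.TensorProduct.Basic
import Mathlib.RingTheory.FiniteType
import Mathlib.RingTheory.LocalRing.ResidueField.Fiber
import Mathlib.RingTheory.Localization.Basic
import Groth.Agent.Lib.FlatDepth.FibBC
import Groth.Agent.Lib.FlatDepth.CM

set_option autoImplicit false
universe u
open EGA4

namespace Groth.Agent.S4736

/-- Let A → B be a regular homomorphism of Noetherian rings (flat, with geometrically regular fibres)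
and S a multiplicative subset of A. Then the induced homomorphism S⁻¹A → S⁻¹B is regular. (S⁻¹A and
S⁻¹B are given here as arbitrary localizations at S and at its image.) -/
theorem result (A B : Type u) [CommRing A] [CommRing B] [IsNoetherianRing A] [IsNoetherianRing B]
    [Algebra A B] (h : CAlg.IsRegularHom A B) (S : Submonoid A)
    (A' B' : Type u) [CommRing A'] [CommRing B'] [Algebra A A'] [Algebra B B'] [Algebra A' B'] [Algebra A B']
    [IsScalarTower A A' B'] [IsScalarTower A B B'] [IsLocalization S A']
    [IsLocalization (Algebra.algebraMapSubmonoid B S) B'] :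
    CAlg.IsRegularHom A' B' := by
  haveI : Algebra.IsPushout A B A' B' := Algebra.isPushout_of_isLocalization S A' B B'
  haveI : Algebra.IsPushout A A' B B' := Algebra.IsPushout.symm inferInstance
  let e : TensorProduct A A' B ≃ₐ[A'] B' := Algebra.IsPushout.equiv A A' B B'
  have hs : (algebraMap A A').SurjectiveOnStalks := RingHom.surjectiveOnStalks_of_isLocalization S _
  haveI := h.1
  haveI : IsNoetherianRing B' := IsLocalization.isNoetherianRing (Algebra.algebraMapSubmonoid B S) B' inferInstance
  exact ⟨Module.Flat.of_linearEquiv e.symm.toLinearEquiv, fun P _ => ⟨FlatDepth.isNoetherianRing_fiber P,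
    FlatDepth.isGeomRegular_fibre hs e (fun p _ => (h.2 p).2) P⟩⟩

end Groth.Agent.S4736
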