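import Groth.Statements.S9405
import Groth.Agent.Lib.Compl.Complete
import Groth.Agent.Lib.Hens.Local

set_option autoImplicit false
universe u
open CAlg

namespace Groth.Agent.S9405

/-- A module-finite algebra S over a complete Noetherian local ring R is a finite product of complete
Noetherian local rings; precisely, S has finitely many maximal ideals, S maps bijectively onto the
product of its localizations at them, and each of these localizations is Noetherian and complete for
its maximal ideal. -/
theorem result (R : Type u) [CommRing R]
    [IsLocalRing R] [IsNoetherianRing R] [IsAdicComplete (IsLocalRing.maximalIdeal R) R]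
    (S : Type u) [CommRing S] [Algebra R S] [Module.Finite R S] :
    Finite (MaximalSpectrum S) ∧
      Function.Bijective
        (algebraMap S ((m : MaximalSpectrum S) → Localization.AtPrime m.asIdeal)) ∧
      ∀ m : MaximalSpectrum S, IsNoetherianRing (Localization.AtPrime m.asIdeal) ∧
        IsAdicComplete (IsLocalRing.maximalIdeal (Localization.AtPrime m.asIdeal))
          (Localization.AtPrime m.asIdeal) := by
  haveI : HenselianLocalRing R := ⟨fun f hf a h1 h2 => HenselianRing.is_henselian f hf a h1 (h2.map _)⟩
  haveI := Groth.Agent.Hens.finite_maximalSpectrum (A := R) (B := S)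
  have hbij := Groth.Agent.Hens.bijective_pi_localization_of_henselian (A := R) (B := S)
  refine ⟨inferInstance, hbij, fun m => ⟨IsLocalization.isNoetherianRing m.asIdeal.primeCompl _ (IsNoetherianRing.of_finite R S), ?_⟩⟩
  let T := Localization.AtPrime m.asIdeal
  have hsurj : Function.Surjective (algebraMap S T) := fun y => by
    classical
    obtain ⟨x, hx⟩ := hbij.2 (Function.update (0 : ∀ m : MaximalSpectrum S, Localization.AtPrime m.asIdeal) m y)
    exact ⟨x, (congrFun hx m).trans (Function.update_self _ _ _)⟩
  haveI : Module.Finite R T := Module.Finite.of_surjective (IsScalarTower.toAlgHom R S T).toLinearMap hsurj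
  haveI : IsAdicComplete (IsLocalRing.maximalIdeal R) T := Groth.Agent.Compl.isAdicComplete_of_finite _ _
  let I := (IsLocalRing.maximalIdeal R).map (algebraMap R T)
  haveI : IsAdicComplete I T := (IsAdicComplete.map_algebraMap_iff _ _).2 inferInstance
  haveI : IsNoetherianRing T := IsNoetherianRing.of_finite R T
  have hI : I ≤ IsLocalRing.maximalIdeal T := by
    rw [Ideal.map_le_iff_le_comap]
    exact (IsLocalRing.eq_maximalIdeal (Ideal.isMaximal_comap_of_isIntegral_of_isMaximal (R := R) (IsLocalRing.maximalIdeal T))).ge
  have hrad : IsLocalRing.maximalIdeal T ≤ I.radical := by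
    rw [Ideal.radical_eq_sInf]
    refine le_sInf fun P hP => ?_
    obtain ⟨hIP, hPp⟩ := hP
    haveI := hPp
    have hc : (IsLocalRing.maximalIdeal R) ≤ P.comap (algebraMap R T) := Ideal.map_le_iff_le_comap.1 hIP
    haveI : (P.comap (algebraMap R T)).IsMaximal := by
      rw [← ((IsLocalRing.maximalIdeal.isMaximal R).eq_of_le (Ideal.comap_ne_top _ hPp.ne_top) hc)]
      exact IsLocalRing.maximalIdeal.isMaximal R
    exact (IsLocalRing.eq_maximalIdeal (Ideal.isMaximal_of_isIntegral_of_isMaximal_comap (R := R) P inferInstance)).ge
  obtain ⟨k, hk⟩ := Ideal.exists_pow_le_of_le_radical_of_fg_radical hrad (IsNoetherian.noetherian _)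
  exact Groth.Agent.Compl.isAdicComplete_of_le_of_pow_le T hI hk

end Groth.Agent.S9405
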