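import Groth.Prelude.Def_Found
import Mathlib.RingTheory.Smooth.Basic
import Mathlib.RingTheory.FinitePresentation
import Mathlib.RingTheory.MvPolynomial.Basic
import Mathlib.RingTheory.AdicCompletion.Algebra
import Mathlib.RingTheory.Henselian
import Groth.Agent.Lib.CplDomain.GRing

set_option autoImplicit false
universe u
open CAlg

namespace Groth.Agent.S0598

/-- A Noetherian local ring complete with respect to its maximal ideal is a G-ring. -/
theorem result (R : Type u) [CommRing R] [IsLocalRing R] [IsNoetherianRing R]
    [IsAdicComplete (IsLocalRing.maximalIdeal R) R] : CAlg.IsGRing R := by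
  exact CplDomain.isGRing_of_complete R

end Groth.Agent.S0598
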