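import Groth.Statements.S0003
import Groth.Agent.Lib.CohFound.FormalFn
import Groth.Agent.Lib.Compl.Complete
-- import your own Groth.Agent.* helpers here

set_option autoImplicit false
universe u
open Formal

namespace Groth.Agent.S0003

open CategoryTheory AlgebraicGeometry in
/-- The Theorem on formal functions over a complete base: let A be a Noetherian ring complete with
respect to an ideal I, X a scheme proper over Spec A and M a coherent O_X-module. Then for every p
the canonical map from H^p(X, M) to the inverse limit of the groups H^p(X, M/I^nM) is bijective.
(The general Theorem on formal functions allows any Noetherian A and asserts that the I-adic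
completion of H^p(X, M) maps bijectively onto this limit; it is stated here only for A already
complete.) -/
theorem result (A : Type u) [CommRing A] [IsNoetherianRing A] (I : Ideal A)
    [IsAdicComplete I A] (X : Scheme.{u}) [X.Over (Spec (CommRingCat.of A))]
    [IsProper (X ↘ Spec (CommRingCat.of A))] (M : X.Modules) (hM : Coh.IsCoh M) (p : ℕ) :
    Function.Bijective (Formal.toHHlim I M p) := by
  have := CohFound.finite_HH_of_isProper (A := A) M hM p
  have := Compl.isAdicComplete_of_finite I (Coh.HH X M p)
  obtain ⟨e, he⟩ := CohFound.FF.exists_completion_equiv I M p hM
  have hf : ⇑(Formal.toHHlim I M p) = e ∘ AdicCompletion.of I (Coh.HH X M p) := funext fun x => (he x).symm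
  rw [hf]
  exact e.bijective.comp (AdicCompletion.of_bijective I _)

end Groth.Agent.S0003
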