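import Groth.Statements.S4460
import Groth.Agent.Lib.PropSuppH7.FormalFn
import Groth.Agent.S0003

set_option autoImplicit false
universe u
open Formal

namespace Groth.Agent.S4460

open AlgebraicGeometry CategoryTheory in
/-- In the inverse-limit form. Let A be a Noetherian ring separated and complete for the I-adic
topology, X a scheme of finite type over Spec A and M a coherent O_X-module whose support is proper
over Spec A. Then for every p the canonical map from H^p(X, M) to the inverse limit of the groups
H^p(X, M/I^(n+1)M) is bijective. -/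
theorem result (A : Type u) [CommRing A] [IsNoetherianRing A] (I : Ideal A)
    [IsAdicComplete I A] (X : Scheme.{u}) [X.Over (Spec (CommRingCat.of A))]
    [LocallyOfFiniteType (X ↘ Spec (CommRingCat.of A))] [QuasiCompact (X ↘ Spec (CommRingCat.of A))]
    (M : X.Modules) (hM : Coh.IsCoh M)
    (hs : ClSub.IsProperOver (X ↘ Spec (CommRingCat.of A)) (CohB1.support M)) (p : ℕ) :
    Function.Bijective (Formal.toHHlim I M p) := by
  haveI : IsLocallyNoetherian X := LocallyOfFiniteType.isLocallyNoetherian (X ↘ Spec (CommRingCat.of A))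
  obtain ⟨Z, i, hi, hp, -, N, hN, hNft, ⟨e⟩⟩ :=
    PropSuppH7.exists_model (X ↘ Spec (CommRingCat.of A)) hM.1 hM.2 hs
  letI : Z.Over (Spec (CommRingCat.of A)) := ⟨i ≫ (X ↘ Spec (CommRingCat.of A))⟩
  haveI : IsProper (Z ↘ Spec (CommRingCat.of A)) := hp
  exact PropSuppH7.bijective_toHHlim_push i rfl I ⟨hN, hNft⟩ e.symm p
    (Groth.Agent.S0003.result A I Z N ⟨hN, hNft⟩ p)

end Groth.Agent.S4460
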