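import Groth.Statements.S1152
import Groth.Agent.Lib.AmpleDesc12.Rel
-- import your own Groth.Agent.* helpers here

set_option autoImplicit false
set_option backward.isDefEq.respectTransparency false
open CategoryTheory CategoryTheory.Limits AlgebraicGeometry Opposite
universe u
open Desc

namespace Groth.Agent.S1152

/-- Single quasi-compact flat surjective cover; the converse direction is base change: Let f : X ⟶ S be
a morphism, L an invertible O_X-module, g : S' ⟶ S quasi-compact, flat and surjective, X' = X ×_S S'
with projections to X and S', and L' the pullback of L to X'. If L' is ample on X' relative to S',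
then L is ample on X relative to S. -/
theorem result {X S S' : Scheme.{u}} (f : X ⟶ S) (L : X.Modules) (hL : PicF.IsInvertible L)
    (g : S' ⟶ S) [QuasiCompact g] [Flat g] [Surjective g]
    (h : RelAmple.IsRelAmple (pullback.snd f g) ((Scheme.Modules.pullback (pullback.fst f g)).obj L)) :
    RelAmple.IsRelAmple f L := Groth.Agent.AmpleDesc12.isRelAmple_of_isRelAmple_baseChange f L hL g h

end Groth.Agent.S1152
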