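import Groth.Statements.S0380
import Groth.Agent.Lib.LocCoh.Restrict
-- import your own Groth.Agent.* helpers here

set_option autoImplicit false
universe u v
open LocCoh

namespace Groth.Agent.S0380

/-- Local cohomology with support in I vanishes above degree d on all modules exactly when, for every
prime p, local cohomology over A_p with support in I A_p vanishes above degree d on all A_p-modules. -/
theorem result (R : Type u) [CommRing R] [IsNoetherianRing R] (I : Ideal R) (d : ℕ) : LocCoh.CdLE R I d ↔ ∀ (p : Ideal R) [p.IsPrime], LocCoh.CdLE (Localization.AtPrime p) (I.map (algebraMap R (Localization.AtPrime p))) d := by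
  constructor
  · intro h p _
    have := IsLocalization.isNoetherianRing p.primeCompl (Localization.AtPrime p) inferInstance
    intro M _ _ i hi
    let _ : Module R M := Module.compHom M (algebraMap R (Localization.AtPrime p))
    have : IsScalarTower R (Localization.AtPrime p) M := ⟨fun a b x => by
      change (a • b) • x = algebraMap R (Localization.AtPrime p) a • b • x
      rw [Algebra.smul_def, mul_smul]⟩
    exact (Groth.Agent.LocCohLib.subsingleton_restrictScalars_iff (Localization.AtPrime p) I M i).2 (h M i hi)
  · intro h
    refine (Groth.Agent.LocCohLib.cdLE_iff_self I d).1 fun i hi => ?_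
    refine Groth.Agent.LocCohLib.subsingleton_of_localizations I i R fun p => ?_
    have := IsLocalization.isNoetherianRing p.asIdeal.primeCompl (Localization.AtPrime p.asIdeal) inferInstance
    refine (Groth.Agent.LocCohLib.hcongr I i (IsLocalizedModule.iso p.asIdeal.primeCompl
      (Algebra.linearMap R (Localization.AtPrime p.asIdeal)))).toEquiv.subsingleton_congr.2 ?_
    exact (Groth.Agent.LocCohLib.subsingleton_restrictScalars_iff (Localization.AtPrime p.asIdeal) I
      (Localization.AtPrime p.asIdeal) i).1 (h p.asIdeal (Localization.AtPrime p.asIdeal) i hi)


end Groth.Agent.S0380
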