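import Groth.Statements.S5161
import Groth.Agent.Lib.LocCoh.AffinePunct27
import Groth.Agent.S0327
import Groth.Agent.S0380
-- import your own Groth.Agent.* helpers here

set_option autoImplicit false
universe u
open AlgebraicGeometry
open LocCoh

namespace Groth.Agent.S5161

/-- Let A be a Noetherian ring, X = Spec A and Y ⊆ X a closed subset whose complement U is an affine
open. Then every irreducible component of Y has codimension ≤ 1 in X, i.e. the generic point of each
irreducible component of Y is a prime of height at most 1. -/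
theorem result (A : Type u) [CommRing A] [IsNoetherianRing A] (U : (Spec (CommRingCat.of A)).Opens) (hU : IsAffineOpen U) (p : PrimeSpectrum A) (hpU : (p : (Spec (CommRingCat.of A) : Type u)) ∉ (U : Set (Spec (CommRingCat.of A) : Type u))) (hmin : ∀ q : PrimeSpectrum A, q.asIdeal ≤ p.asIdeal → (q : (Spec (CommRingCat.of A) : Type u)) ∉ (U : Set (Spec (CommRingCat.of A) : Type u)) → q = p) : p.asIdeal.height ≤ 1 := by
  obtain ⟨I, hI⟩ : ∃ I : Ideal A, LocCoh.puncturedOpen A I = U := by
    refine ⟨PrimeSpectrum.vanishingIdeal ((U : Set (Spec (CommRingCat.of A) : Type u))ᶜ), TopologicalSpace.Opens.ext ?_⟩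
    show (PrimeSpectrum.zeroLocus (R := A) _)ᶜ = _
    rw [PrimeSpectrum.zeroLocus_vanishingIdeal_eq_closure]
    exact (congrArg compl U.2.isClosed_compl.closure_eq).trans (compl_compl _)
  subst hI
  have hIp : I ≤ p.asIdeal := not_not.1 hpU
  by_contra hh
  rw [not_le] at hh
  let Ap := Localization.AtPrime p.asIdeal
  have : IsNoetherianRing Ap := IsLocalization.isNoetherianRing p.asIdeal.primeCompl Ap inferInstance
  have hcd := (Groth.Agent.S0380.result A I 1).1 (Groth.Agent.LocCohSheafLib.cdLE_one_of_isAffineOpen I hU) p.asIdeal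
  have hrad : IsLocalRing.maximalIdeal Ap ≤ (I.map (algebraMap A Ap)).radical := by
    rw [Ideal.radical_eq_sInf]
    refine le_sInf fun q hq => le_of_eq ?_
    have := hq.2
    have hle : q.comap (algebraMap A Ap) ≤ p.asIdeal :=
      (Ideal.comap_mono (IsLocalRing.le_maximalIdeal hq.2.ne_top)).trans (Localization.AtPrime.under_maximalIdeal).le
    have he := congrArg PrimeSpectrum.asIdeal (hmin ⟨q.comap (algebraMap A Ap), Ideal.comap_isPrime _ _⟩ hle
      (not_not.2 ((Ideal.le_comap_map.trans (Ideal.comap_mono hq.1)) : I ≤ q.comap (algebraMap A Ap))))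
    have h1 := IsLocalization.map_under p.asIdeal.primeCompl Ap q
    rw [Ideal.under, show q.comap (algebraMap A Ap) = p.asIdeal from he, Localization.AtPrime.map_eq_maximalIdeal] at h1
    exact h1
  have hrad' : I.map (algebraMap A Ap) ≤ (IsLocalRing.maximalIdeal Ap).radical :=
    (Ideal.map_mono hIp).trans (Localization.AtPrime.map_eq_maximalIdeal.le.trans Ideal.le_radical)
  obtain ⟨d, hd⟩ := ENat.ne_top_iff_exists.1 (Ideal.height_ne_top (I := p.asIdeal) p.isPrime.ne_top)
  have hdim : ringKrullDim Ap = (d : ℕ) := by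
    rw [IsLocalization.AtPrime.ringKrullDim_eq_height p.asIdeal Ap, ← hd]; rfl
  have h2 : 1 < d := by rw [← hd] at hh; exact_mod_cast hh
  have hnt := Groth.Agent.S0327.result Ap d hdim
  obtain ⟨e⟩ := Groth.Agent.LocCohLib.nonempty_congr_radical hrad' hrad d Ap
  have : Subsingleton (LocCoh.H (I.map (algebraMap A Ap)) d Ap) := hcd Ap d h2
  exact not_nontrivial_iff_subsingleton.2 (e.toEquiv.subsingleton_congr.1 this) hnt

end Groth.Agent.S5161
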