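import Groth.Statements.S0404
import Groth.Agent.Lib.FibGenApp4
import Mathlib.AlgebraicGeometry.Morphisms.UniversallyOpen

set_option autoImplicit false
universe u
open FlatMor

set_option backward.isDefEq.respectTransparency.types false

namespace Groth.Agent.S0404

open AlgebraicGeometry CategoryTheory Limits in
/-- For a flat morphism of finite presentation (here: flat, quasi-compact, quasi-separated and locally
of finite presentation) the dimension of the fibre is a lower semicontinuous function on the target. -/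
theorem result {X S : Scheme.{u}} (f : X ⟶ S) [Flat f] [LocallyOfFinitePresentation f] [QuasiCompact f] [QuasiSeparated f] (c : WithBot ℕ∞) :
    IsOpen {s : S | c < topologicalKrullDim (f.fiber s)} := by
  have hopen : IsOpenMap f := f.isOpenMap
  have heq : {s : S | c < topologicalKrullDim (f.fiber s)} = f '' {x | c < FlatMor.fibreDimAt f x ∧ FibDim14.IsMaxFib f x} := by
    ext s
    refine (FibGen4.lt_dim_fiber_iff f s c).trans ⟨fun ⟨x, hx, hc⟩ => ?_, fun ⟨x, hx, hs⟩ => ⟨x, hs, hx.1⟩⟩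
    obtain ⟨x', -, h2, hmax, hd⟩ := FibGen4.exists_isMaxFib f x
    exact ⟨x', ⟨hd.symm ▸ hc, hmax⟩, h2.trans hx⟩
  rw [heq, isOpen_iff_forall_mem_open]
  rintro _ ⟨x, ⟨hc, hmax⟩, rfl⟩
  obtain ⟨W, hxW, hW⟩ := FibGen4.exists_nhd_fibreDimAt_eq f hmax
  refine ⟨f '' (W : Set X), ?_, hopen _ W.2, ⟨x, hxW, rfl⟩⟩
  rintro _ ⟨y, hy, rfl⟩
  obtain ⟨y', -, h2, hmax', hd⟩ := FibGen4.exists_isMaxFib f y
  exact ⟨y', ⟨by rw [hd, hW y hy]; exact hc, hmax'⟩, h2⟩

end Groth.Agent.S0404
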