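import Groth.Statements.S1499
import Groth.Agent.Lib.RelAmple18.Twist

set_option autoImplicit false
universe u
attribute [local instance] HasDerivedCategory.standard
open FlatMor

namespace Groth.Agent.S1499

open AlgebraicGeometry CategoryTheory Limits in
/-- Let f : X → Y with Y having an ample family of invertible modules, and suppose some O_X-module is
ample relative to f. Then X has an ample family of invertible modules. -/
theorem result {X Y : Scheme.{u}} (f : X ⟶ Y)
    (hY : MoreMor.HasAmpleFamily Y) (L : X.Modules) (hL : RelAmple.IsRelAmple f L) :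
    MoreMor.HasAmpleFamily X := by
  obtain ⟨hYc, hY⟩ := hY
  haveI := hYc
  haveI := hL.1
  haveI : CompactSpace X := QuasiCompact.compactSpace_of_compactSpace f
  choose N n s hN hn hys hA using hY
  have hNn : ∀ y, PicF.IsInvertible (CohB1.tensorPow (N y) (n y)) := fun y =>
    Groth.Agent.M2.isInvertible_tensorPow (hN y) (n y)
  let M : Y → X.Modules := fun y => (Scheme.Modules.pullback f).obj (CohB1.tensorPow (N y) (n y))
  have hM : ∀ y, PicF.IsInvertible (M y) := fun y => PicLoc.isInvertible_pullback f (hNn y)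
  let σ : ∀ y, Coh.structureModule X ⟶ M y := fun y =>
    (PicLoc.pullbackStructureIso f).inv ≫ (Scheme.Modules.pullback f).map (s y)
  have hσ : ∀ y, CohB1.genLocus _ (σ y) = f ⁻¹ᵁ CohB1.genLocus _ (s y) := fun y =>
    Groth.Agent.Amp.genLocus_pullback f (hNn y) (s y) (PicLoc.pullbackStructureIso f).symm
  have hamp : ∀ y, Groth.Agent.RA.AmpleOn L (CohB1.genLocus _ (σ y)) := fun y => by
    rw [hσ y]; exact hL.2 ⟨_, hA y⟩
  haveI : QuasiSeparatedSpace X := Groth.Agent.RA.quasiSeparatedSpace_of_loci M hM σ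
    (fun x _ => TopologicalSpace.Opens.mem_iSup.mpr ⟨f x, (hσ (f x)).ge (hys (f x))⟩)
    fun y => Groth.Agent.Amp.quasiSeparatedSpace_of_isAmple (hamp y)
  refine ⟨inferInstance, fun x => ?_⟩
  have hx : x ∈ CohB1.genLocus _ (σ (f x)) := (hσ (f x)).ge (hys (f x))
  have hLi := Groth.Agent.RA.isInvertible_of_isRelAmple f hL
  obtain ⟨m, G', ⟨s', hs'⟩, hxG', hA'⟩ := (Groth.Agent.Amp.isAmple_iff.mp (hamp (f x))).2.2 ⟨x, hx⟩
  obtain ⟨q₀, hq⟩ := Groth.Agent.RA.exists_locus_extend (hM (f x))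
    (Groth.Agent.M2.isInvertible_tensorPow hLi (m + 1)) (σ (f x))
    (s' ≫ (Groth.Agent.M2.restrictTensorPowIso _ L (m + 1)).symm.hom)
  obtain ⟨t, ht⟩ := hq q₀ le_rfl
  rw [Groth.Agent.Amp.genLocus_comp_iso, hs'] at ht
  refine ⟨_, 1, t ≫ (Groth.Agent.M2.tensorPowOne _).symm.hom,
    Groth.Agent.M2.isInvertible_tensor (Groth.Agent.M2.isInvertible_tensorPow hLi _)
      (Groth.Agent.M2.isInvertible_tensorPow (hM (f x)) q₀), le_rfl, ?_, ?_⟩
  · rw [Groth.Agent.Amp.genLocus_comp_iso, ht]; exact ⟨⟨x, hx⟩, hxG', rfl⟩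
  · rw [Groth.Agent.Amp.genLocus_comp_iso, ht]; exact hA'.image_of_isOpenImmersion _

end Groth.Agent.S1499
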