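import Groth.Statements.S2337
import Groth.Agent.Lib.RelAmple18.Ops

set_option autoImplicit false
universe u
open CategoryTheory CategoryTheory.Limits AlgebraicGeometry
open EGA2

namespace Groth.Agent.S2337

/-- Let f : X → Y be quasi-compact. Then f is quasi-affine (preimages of affine opens are quasi-affine)
if and only if O_X is ample relative to f. -/
theorem result {X Y : Scheme.{u}} (f : X ⟶ Y) [QuasiCompact f] :
    Mor2.IsQuasiAffine f ↔ RelAmple.IsRelAmple f (Coh.structureModule X) := by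
  rw [Groth.Agent.RA.isRelAmple_def, Mor2.IsQuasiAffine]
  refine ⟨fun h V hV => ?_, fun h => ⟨inferInstance, fun V hV => ?_⟩⟩
  · obtain ⟨e⟩ := Groth.Agent.RA.structureModule_restrict_iso (f ⁻¹ᵁ V)
    exact Groth.Agent.Amp.isAmple_of_iso e.symm (Groth.Agent.RA.isQuasiAffine_iff_isAmple.mp (h.2 V hV))
  · obtain ⟨e⟩ := Groth.Agent.RA.structureModule_restrict_iso (f ⁻¹ᵁ V)
    exact Groth.Agent.RA.isQuasiAffine_iff_isAmple.mpr (Groth.Agent.Amp.isAmple_of_iso e (h V hV))

end Groth.Agent.S2337
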