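import Groth.Statements.S7197
import Groth.Agent.Lib.AdmBlow2.AmpleFam

set_option autoImplicit false
universe u
open FlatMor

namespace Groth.Agent.S7197

open AlgebraicGeometry CategoryTheory Limits in
/-- A quasi-compact quasi-separated scheme X with finitely many irreducible components admits a
quasi-compact dense open U together with a blowing up X' → X which is U-admissible and whose source
X' carries an ample family of invertible modules. -/
theorem result (X : Scheme.{u}) [CompactSpace ↥X] [QuasiSeparatedSpace ↥X]
    (hirr : (irreducibleComponents ↥X).Finite) :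
    ∃ (U : X.Opens) (𝓘 : X.IdealSheafData) (X' : Scheme.{u}) (b : X' ⟶ X),
      IsCompact (U : Set ↥X) ∧ Dense (U : Set ↥X) ∧ BlowUp.IsAdmissibleFor U 𝓘 ∧ BlowUp.IsBlowUp b 𝓘 ∧
      MoreMor.HasAmpleFamily X' := by
  exact Groth.Agent.AdmBlow2.exists_ampleFamily hirr

end Groth.Agent.S7197
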