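import Groth.Statements.S5733
import Groth.Agent.Lib.VeryAmple11.Univ

set_option autoImplicit false
universe u
open CategoryTheory CategoryTheory.Limits AlgebraicGeometry TopologicalSpace Opposite
open scoped HomogeneousIdeal
open EGA2

namespace Groth.Agent.S5733

/-- Let E be a quasi-coherent O_Y-module with graded symmetric algebra 𝒮 (j : E → 𝒮 in degree one), p :
P = P(E) → Y its projective bundle with its charts over affine opens, O_P(1) the fundamental sheaf
with its chart identifications, and φ : E → p_*O_P(1) the canonical map (on an affine open U, the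
section φ(e) read on the chart Proj(𝒮(U)) has value j(e)/1 at every point), with adjoint a : p^*E →
O_P(1). Then Y-morphisms into P(E) correspond to invertible quotients of the inverse image of E: for
every morphism g : X → Y, every invertible O_X-module L and every epimorphism s : g^*E → L there is
exactly one morphism r : X → P over Y (r ≫ p = g) admitting an isomorphism τ : r^*O_P(1) ≅ L which
carries r^*(a), composed with the canonical identification g^*E ≅ r^*p^*E, to s. -/
theorem result {Y P : Scheme.{u}} (E : Y.Modules) (hE : Coh.IsQCoh E)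
    (𝒮 : RelProj.QCGrAlg Y) (j : E ⟶ 𝒮.toModule) (hj : RelProj.IsGrSymAlg E 𝒮 j) (p : P ⟶ Y)
    (chart : ∀ (U : Y.Opens) (hU : IsAffineOpen U), ((p ⁻¹ᵁ U : P.Opens) : Scheme.{u}) ≅ Proj (𝒮.deg U hU))
    (hP : RelProj.IsRelProj 𝒮 p chart) (O1 : P.Modules)
    (lam : ∀ (U : Y.Opens) (hU : IsAffineOpen U),
      O1 ⟶ (Scheme.Modules.pushforward (RelProj.emb p chart U hU)).obj (GrTwist.twist (𝒮.deg U hU) 1))
    (hO1 : RelProj.IsRelTwist 𝒮 p chart 1 O1 lam)
    (φ : E ⟶ (Scheme.Modules.pushforward p).obj O1)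
    (hφ : ∀ (U : Y.Opens) (hU : IsAffineOpen U) (e : Γ(E, U))
      (y : ↥(RelProj.emb p chart U hU ⁻¹ᵁ (p ⁻¹ᵁ U))),
      GrTwist.val (V := RelProj.emb p chart U hU ⁻¹ᵁ (p ⁻¹ᵁ U))
          ((lam U hU).app (p ⁻¹ᵁ U) ((φ.app U) e)) y =
        algebraMap (𝒮.presheaf.obj (op U)) (GrTwist.Loc (𝒮.deg U hU) y.1)
          ((j.app U) e : 𝒮.presheaf.obj (op U)))
    {X : Scheme.{u}} (g : X ⟶ Y) (L : X.Modules) (hL : PicF.IsInvertible L)
    (s : (Scheme.Modules.pullback g).obj E ⟶ L) (hs : Epi s) :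
    ∃! r : X ⟶ P, ∃ (hr : r ≫ p = g) (τ : (Scheme.Modules.pullback r).obj O1 ≅ L),
      (Scheme.Modules.pullbackCongr hr).inv.app E ≫ (Scheme.Modules.pullbackComp r p).inv.app E ≫
        (Scheme.Modules.pullback r).map
          (((Scheme.Modules.pullbackPushforwardAdjunction p).homEquiv E O1).symm φ) ≫ τ.hom = s := by
  open Groth.Agent Groth.Agent.M1 in
  let adj := Scheme.Modules.pullbackPushforwardAdjunction g
  have hval := VA11.app_eq_phi hj hO1 hφ
  have htr : ∀ (r : X ⟶ P) (hr : r ≫ p = g) (τ : (Scheme.Modules.pullback r).obj O1 ≅ L) (U : Y.Opens)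
      (hU : IsAffineOpen U) (e : Γ(E, U)),
      VA11.sig hO1 r τ U hU ⟨j.app U e, hj.2 U hU e⟩ =
        mres L (show r ⁻¹ᵁ (p ⁻¹ᵁ U) ≤ g ⁻¹ᵁ U by rw [← hr]; rfl)
          (((Scheme.Modules.pullbackCongr hr).inv.app E ≫ (Scheme.Modules.pullbackComp r p).inv.app E ≫
            (Scheme.Modules.pullback r).map
              (((Scheme.Modules.pullbackPushforwardAdjunction p).homEquiv E O1).symm φ) ≫ τ.hom).app
                (g ⁻¹ᵁ U) (M2.pullSec g E e)) := by
    intro r hr τ U hU e
    subst hr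
    refine Eq.trans ?_ (mres_id _ _ _).symm
    simp only [Scheme.Modules.pullbackCongr, eqToIso_refl, Iso.refl_inv, NatTrans.id_app, Category.id_comp]
    rw [comp_app_apply, comp_app_apply, VA11.pullbackComp_inv_pullSec]
    let a := ((Scheme.Modules.pullbackPushforwardAdjunction p).homEquiv E O1).symm φ
    have h1 : ((Scheme.Modules.pullback r).map a).app _ (M2.pullSec r _ (M2.pullSec p E e)) =
        M2.pullSec r O1 (a.app _ (M2.pullSec p E e)) :=
      (congrArg (fun χ => χ.app (p ⁻¹ᵁ U) (M2.pullSec p E e))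
        ((Scheme.Modules.pullbackPushforwardAdjunction r).unit.naturality a)).symm
    have h2 : a.app _ (M2.pullSec p E e) = φ.app U e :=
      congrArg (fun χ : E ⟶ (Scheme.Modules.pushforward p).obj O1 => χ.app U e)
        (((Scheme.Modules.pullbackPushforwardAdjunction p).homEquiv_unit (f := a)).symm.trans
          (Equiv.apply_symm_apply _ φ))
    erw [h1, h2, hval U hU e]
    rfl
  obtain ⟨r, hr, τ, hτ⟩ := VA11.exists_morphism_of_gens hE hj hP hO1
    (haveI := hs; VA11.gens_of_epi hL s)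
  have hsec : ∀ (U : Y.Opens) (e : Γ(E, U)),
      VA11.secs (adj.homEquiv E L s) U e = s.app (g ⁻¹ᵁ U) (M2.pullSec g E e) := fun U e =>
    congrArg (fun χ : E ⟶ (Scheme.Modules.pushforward g).obj L => χ.app U e) (adj.homEquiv_unit (f := s))
  refine ⟨r, ⟨hr, τ, (adj.homEquiv E L).injective (VA11.hom_ext_affine _ _ fun U hU e => ?_)⟩, ?_⟩
  · refine (congrArg (fun χ : E ⟶ (Scheme.Modules.pushforward g).obj L => χ.app U e) (adj.homEquiv_unit _ _ _)).trans ?_
    have h3 := (htr r hr τ U hU e).symm.trans (hτ U hU e)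
    have hge : g ⁻¹ᵁ U ≤ r ⁻¹ᵁ (p ⁻¹ᵁ U) := by rw [← hr]; rfl
    have h4 := congrArg (mres L hge) h3
    rw [mres_mres, mres_mres, mres_id, mres_id] at h4
    exact h4
  · rintro r' ⟨hr', τ', h'⟩
    refine VA11.eq_of_sig hE hj hP hO1 hr' hr τ' τ (fun U _ e => s.app (g ⁻¹ᵁ U) (M2.pullSec g E e))
      (fun U hU e => ?_) fun U hU e => (hτ U hU e).trans (congrArg _ (hsec U e :))
    have := htr r' hr' τ' U hU e
    rwa [h'] at this

end Groth.Agent.S5733
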