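import Groth.Statements.S2076
import Groth.Agent.Lib.LimH13.Hom

set_option autoImplicit false
universe u
open CategoryTheory AlgebraicGeometry
open Lim

namespace Groth.Agent.S2076

/-- Let `X = lim X_i` be a cofiltered limit of quasi-compact schemes over `S` with affine transition
morphisms and `h : Y → X` a closed immersion with `Y → S` locally of finite type. Then `Y → X_i` is
a closed immersion for some `i`. -/
theorem result {I : Type u} [SmallCategory I] [IsCofiltered I] (S : Scheme.{u})
    (D : I ⥤ Over S) (c : Limits.Cone D) (hc : Limits.IsLimit c)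
    [∀ (i j : I) (f : i ⟶ j), IsAffineHom (D.map f).left] [∀ i, CompactSpace (D.obj i).left]
    {Y : Scheme.{u}} (h : Y ⟶ c.pt.left) [IsClosedImmersion h] [LocallyOfFiniteType (h ≫ c.pt.hom)] :
    ∃ i : I, IsClosedImmersion (h ≫ (c.π.app i).left) := by
  haveI : ∀ {i j : I} (f : i ⟶ j), IsAffineHom ((D ⋙ Over.forget S).map f) :=
    fun {i j} f => (inferInstance : IsAffineHom (D.map f).left)
  haveI : ∀ i, CompactSpace ((D ⋙ Over.forget S).obj i) := fun i =>
    (inferInstance : CompactSpace (D.obj i).left)
  obtain ⟨i₀⟩ := IsCofiltered.nonempty (C := I)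
  haveI : IsConnected I := IsCofiltered.isConnected I
  let t : D ⋙ Over.forget S ⟶ (Functor.const I).obj S :=
    { app := fun i => (D.obj i).hom
      naturality := fun i j a => by simp }
  have H : ∀ (c' : Limits.Cone (D ⋙ Over.forget S)) (_ : Limits.IsLimit c') (h' : Y ⟶ c'.pt),
      IsClosedImmersion h' → LocallyOfFiniteType (h' ≫ c'.π.app i₀ ≫ t.app i₀) →
      ∃ i, IsClosedImmersion (h' ≫ c'.π.app i) := fun c' hc' h' h1 h2 =>
    LimH13.exists_isClosedImmersion_into_stage t hc' h' i₀
  have h2 : LocallyOfFiniteType (h ≫ (c.π.app i₀).left ≫ (D.obj i₀).hom) := by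
    rw [Over.w (c.π.app i₀)]
    exact ‹LocallyOfFiniteType (h ≫ c.pt.hom)›
  exact H _ (Limits.isLimitOfPreserves (Over.forget S) hc) h ‹IsClosedImmersion h› h2

end Groth.Agent.S2076
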