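import Groth.Statements.S9317
import Groth.Agent.Lib.AdicSmooth.CompletionIff

set_option autoImplicit false
universe u
open CAlg

namespace Groth.Agent.S9317

/-- Let `R → S` be a ring map, let `𝔪 ⊆ R` and `𝔫 ⊆ S` be finitely generated ideals such that some power
of `𝔪` maps into `𝔫`, and let `R^`, `S^` be the `𝔪`-adic and `𝔫`-adic completions. Let `ψ : R^ → S^`
be a ring map whose composite with `R → R^` is the composite `R → S → S^` (there is exactly one such
map, the canonical one, since any such map is continuous for the adic topologies). Then `R → S` is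
formally smooth for the `𝔫`-adic topology if and only if `R^ → S^`, i.e. `S^` viewed as an
`R^`-algebra through `ψ`, is formally smooth for the adic topology of the extension of `𝔫` to `S^`. -/
theorem result {R S : Type u} [CommRing R] [CommRing S]
    [Algebra R S] (𝔪 : Ideal R) (𝔫 : Ideal S) (h𝔪 : 𝔪.FG) (h𝔫 : 𝔫.FG)
    (hc : ∃ c : ℕ, (𝔪 ^ c).map (algebraMap R S) ≤ 𝔫)
    (ψ : AdicCompletion 𝔪 R →+* AdicCompletion 𝔫 S)
    (hψ : ψ.comp (algebraMap R (AdicCompletion 𝔪 R)) =
      (algebraMap S (AdicCompletion 𝔫 S)).comp (algebraMap R S)) :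
    CAlgX.IsAdicFormallySmooth R S 𝔫 ↔
      letI : Algebra (AdicCompletion 𝔪 R) (AdicCompletion 𝔫 S) := ψ.toAlgebra
      CAlgX.IsAdicFormallySmooth (AdicCompletion 𝔪 R) (AdicCompletion 𝔫 S)
        (𝔫.map (algebraMap S (AdicCompletion 𝔫 S))) := by
  let R' := AdicCompletion 𝔪 R
  let S' := AdicCompletion 𝔫 S
  let _ : Algebra R' S' := ψ.toAlgebra
  set 𝔫' := 𝔫.map (algebraMap S S') with h𝔫'
  set 𝔪' := 𝔪.map (algebraMap R R') with h𝔪'
  obtain ⟨c, hc⟩ := hc
  have hψR : ∀ r, ψ (algebraMap R R' r) = algebraMap S S' (algebraMap R S r) := RingHom.congr_fun hψ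
  have hmn : ∀ k, ∀ x ∈ 𝔪' ^ (c * k), ψ x ∈ 𝔫' ^ k := by
    intro k x hx
    have : (𝔪' ^ (c * k)).map ψ ≤ 𝔫' ^ k := by
      rw [pow_mul, Ideal.map_pow]
      refine Ideal.pow_right_mono ?_ k
      rw [show 𝔪' ^ c = (𝔪 ^ c).map (algebraMap R R') from (Ideal.map_pow _ _ _).symm, Ideal.map_map, hψ,
        ← Ideal.map_map]
      exact Ideal.map_mono hc
    exact this (Ideal.mem_map_of_mem _ hx)
  constructor
  · intro h A _ _ J hJ φ ⟨k, hk⟩
    let _ : Algebra R A := ((algebraMap R' A).comp (algebraMap R R')).toAlgebra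
    let φ₀ : S →ₐ[R] A ⧸ J :=
      { φ.toRingHom.comp (algebraMap S S') with
        commutes' := fun r => by
          show φ (algebraMap S S' (algebraMap R S r)) = _
          rw [← hψR]
          exact φ.commutes (algebraMap R R' r) }
    have hφ₀ : ∃ k : ℕ, ∀ x ∈ 𝔫 ^ k, φ₀ x = 0 := ⟨k, fun x hx => hk _ (by
      rw [h𝔫', ← Ideal.map_pow]; exact Ideal.mem_map_of_mem _ hx)⟩
    obtain ⟨χ₀, hχ₀⟩ := h A J hJ φ₀ hφ₀
    obtain ⟨N, hN⟩ := Groth.Agent.AdicSmooth.continuous_lift 𝔫 J ⟨2, hJ⟩ φ₀ hφ₀ χ₀ hχ₀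
    obtain ⟨g, hg, hgk⟩ := Groth.Agent.AdicSmooth.exists_extend 𝔫 χ₀.toRingHom hN
    -- the structure map kills a power of the completed ideal
    have hA : ∀ x ∈ 𝔪' ^ ((c * k) * 2), algebraMap R' A x = 0 := by
      intro x hx
      have h1 : (𝔪' ^ (c * k)).map (algebraMap R' A) ≤ J := Ideal.map_le_iff_le_comap.2 fun y hy => by
        rw [Ideal.mem_comap, ← Ideal.Quotient.eq_zero_iff_mem]
        have h2 : φ (ψ y) = Ideal.Quotient.mk J (algebraMap R' A y) := φ.commutes y
        rw [← h2]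
        exact hk _ (hmn k y hy)
      have h3 : (𝔪' ^ ((c * k) * 2)).map (algebraMap R' A) ≤ ⊥ := by
        rw [pow_mul, Ideal.map_pow, ← hJ]
        exact Ideal.pow_right_mono h1 2
      exact h3 (Ideal.mem_map_of_mem _ hx)
    let χ : S' →ₐ[R'] A :=
      { g with
        commutes' := fun r => by
          refine RingHom.congr_fun (Groth.Agent.AdicSmooth.ext_of_completion 𝔪 h𝔪
            (g₁ := g.comp ψ) (g₂ := algebraMap R' A) (N := max (c * N) ((c * k) * 2))
            (fun x hx => hgk _ (hmn N x (Ideal.pow_le_pow_right (le_max_left _ _) hx)))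
            (fun x hx => hA x (Ideal.pow_le_pow_right (le_max_right _ _) hx))
            (RingHom.ext fun r => ?_)) r
          show g (ψ (algebraMap R R' r)) = _
          rw [hψR, ← RingHom.comp_apply g, hg]
          exact χ₀.commutes r }
    refine ⟨χ, AlgHom.coe_ringHom_injective ?_⟩
    refine Groth.Agent.AdicSmooth.ext_of_completion 𝔫 h𝔫 (N := max N k) (fun x hx => ?_)
      (fun x hx => hk x (Ideal.pow_le_pow_right (le_max_right N k) hx)) (RingHom.ext fun s => ?_)
    · show Ideal.Quotient.mk J (g x) = 0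
      rw [hgk x (Ideal.pow_le_pow_right (le_max_left N k) hx), map_zero]
    · show Ideal.Quotient.mk J (g (algebraMap S _ s)) = φ₀ s
      rw [← RingHom.comp_apply g, hg]
      exact AlgHom.congr_fun hχ₀ s
  · intro h A _ _ J hJ φ₀ ⟨k, hk⟩
    have hR : ∀ x ∈ 𝔪 ^ ((c * k) * 2), algebraMap R A x = 0 := by
      intro x hx
      have h1 : (𝔪 ^ (c * k)).map (algebraMap R A) ≤ J := Ideal.map_le_iff_le_comap.2 fun y hy => by
        rw [Ideal.mem_comap, ← Ideal.Quotient.eq_zero_iff_mem]
        have h2 : φ₀ (algebraMap R S y) = Ideal.Quotient.mk J (algebraMap R A y) := φ₀.commutes y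
        rw [← h2]
        refine hk _ ?_
        have : (𝔪 ^ (c * k)).map (algebraMap R S) ≤ 𝔫 ^ k := by
          rw [pow_mul, Ideal.map_pow]
          exact Ideal.pow_right_mono hc k
        exact this (Ideal.mem_map_of_mem _ hy)
      have h3 : (𝔪 ^ ((c * k) * 2)).map (algebraMap R A) ≤ ⊥ := by
        rw [pow_mul, Ideal.map_pow, ← hJ]
        exact Ideal.pow_right_mono h1 2
      exact h3 (Ideal.mem_map_of_mem _ hx)
    obtain ⟨a, ha, hak⟩ := Groth.Agent.AdicSmooth.exists_extend 𝔪 (algebraMap R A) hR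
    let _ : Algebra R' A := a.toAlgebra
    obtain ⟨g, hg, hgk⟩ := Groth.Agent.AdicSmooth.exists_extend 𝔫 φ₀.toRingHom hk
    let φ : S' →ₐ[R'] A ⧸ J :=
      { g with
        commutes' := fun r => by
          refine RingHom.congr_fun (Groth.Agent.AdicSmooth.ext_of_completion 𝔪 h𝔪
            (g₁ := g.comp ψ) (g₂ := (Ideal.Quotient.mk J).comp a) (N := max (c * k) ((c * k) * 2))
            (fun x hx => hgk _ (hmn k x (Ideal.pow_le_pow_right (le_max_left _ _) hx)))
            (fun x hx => by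
              show Ideal.Quotient.mk J (a x) = 0
              rw [hak x (Ideal.pow_le_pow_right (le_max_right _ _) hx), map_zero])
            (RingHom.ext fun r => ?_)) r
          show g (ψ (algebraMap R R' r)) = Ideal.Quotient.mk J (a (algebraMap R R' r))
          rw [hψR, ← RingHom.comp_apply g, hg, ← RingHom.comp_apply a, ha]
          exact φ₀.commutes r }
    obtain ⟨χ, hχ⟩ := h A J hJ φ ⟨k, hgk⟩
    let χ₀ : S →ₐ[R] A :=
      { χ.toRingHom.comp (algebraMap S S') with
        commutes' := fun r => by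
          show χ (algebraMap S S' (algebraMap R S r)) = _
          rw [← hψR]
          exact (χ.commutes (algebraMap R R' r)).trans (RingHom.congr_fun ha r) }
    refine ⟨χ₀, AlgHom.ext fun s => ?_⟩
    exact (AlgHom.congr_fun hχ (algebraMap S S' s)).trans (RingHom.congr_fun hg s)

end Groth.Agent.S9317
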