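import Groth.Statements.S18096
import Groth.Agent.Lib.AffRep19.GL

set_option autoImplicit false
universe u
open CategoryTheory MonoidalCategory CartesianMonoidalCategory MonObj GrpObj AlgebraicGeometry CategoryTheory.Limits
open AlgGrp

namespace Groth.Agent.S18096

/-- Let k be a field and G a k-group scheme of finite type. Then G is anti-affine, i.e. O(G) = k, if and
only if every finite-dimensional linear representation of G is trivial, i.e. for every n every
homomorphism G → GL_{n,k} is trivial. -/
theorem result (k : Type u) [Field k]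
    (G : Over (Spec (CommRingCat.of k))) [GrpObj G] [LocallyOfFiniteType G.hom] [QuasiCompact G.hom] :
    Function.Bijective ((Scheme.ΓSpecIso (CommRingCat.of k)).inv ≫ G.hom.appTop).hom ↔
      ∀ (n : ℕ) (ρ : G ⟶ FrB.GLn n (Spec (CommRingCat.of k))), IsMonHom ρ → ρ = 1 := by
  refine ⟨fun h n ρ hρ => ?_, fun h => ?_⟩
  · haveI := hρ
    haveI : IsAffine (FrB.GLZ.{u} n).left := inferInstanceAs (IsAffine (Spec _))
    haveI : IsAffine (FrB.GLn n (Spec (CommRingCat.of k))).left :=
      inferInstanceAs (IsAffine (Limits.pullback _ _))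
    exact Groth.Agent.AffRep19.hom_eq_one h ρ
  · refine ⟨Groth.Agent.AffRep19.injective_struct η[G], ?_⟩
    by_contra hs
    obtain ⟨n, ρ, hρ⟩ := Groth.Agent.AffRep19.exists_rep G hs
    obtain ⟨r, hr, hmat⟩ := Groth.Agent.AffRep19.exists_hom ρ
    refine hρ ?_
    rw [← hmat, Category.id_comp, h n r hr, (Groth.Agent.AffRep19.matsFrB _ n).one]

end Groth.Agent.S18096
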