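import Groth.Statements.S7073
import Groth.Agent.Lib.DMod.Amplitude
import Mathlib.RingTheory.Flat.Stability
-- import your own Groth.Agent.* helpers here

set_option autoImplicit false
universe u
attribute [local instance] HasDerivedCategory.standard
open Dual2

set_option backward.isDefEq.respectTransparency.types false
open CategoryTheory CategoryTheory.Limits

namespace Groth.Agent.S7073

/-- For a flat homomorphism of finite presentation R → A of commutative rings, every perfect object of
D(A) is R-perfect, i.e. pseudo-coherent over A and of finite tor dimension as a complex of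
R-modules. -/
theorem result (R A : Type u) [CommRing R] [CommRing A] [Algebra R A]
    [Module.Flat R A] [Algebra.FinitePresentation R A] (K : Dual.D A) (hK : DRing.IsPerfect A K) :
    Dual2.IsRelPerfect R A K := by
  refine ⟨Groth.Agent.DMod.pc'_of_perfect hK, ?_⟩
  obtain ⟨E, a, b, hE, hfp, ⟨e⟩⟩ := hK
  let F := ModuleCat.restrictScalars.{u} (algebraMap R A)
  refine ⟨a, b, (F.mapHomologicalComplex (ComplexShape.up ℤ)).obj E, ?_, ?_,
    ⟨(F.mapDerivedCategoryFactors.app E).symm ≪≫ (DRing.restrictD (algebraMap R A)).mapIso e⟩⟩
  · intro i hi
    exact F.map_isZero (hE i hi)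
  · intro i
    haveI := (hfp i).2
    haveI : Module.Flat A (E.X i) := Module.Flat.of_projective
    letI : Module R (E.X i) := Module.compHom (E.X i) (algebraMap R A)
    haveI : IsScalarTower R A (E.X i) := IsScalarTower.of_algebraMap_smul fun _ _ => rfl
    exact Module.Flat.trans R A (E.X i)

end Groth.Agent.S7073
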