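import Groth.Statements.S0342
import Groth.Agent.Lib.Goren.Basic
-- import your own Groth.Agent.* helpers here

set_option autoImplicit false
universe u v
open Goren

namespace Groth.Agent.S0342

/-- Regular local rings have finite injective dimension over themselves, i.e. are Gorenstein. -/
theorem result (A : Type u) [CommRing A] [IsRegularLocalRing A] : LocCoh.IsGorensteinLocalRing A := by
  refine { exists_hasInjectiveDimensionLT := ?_ }
  rw [Groth.Agent.GorenLib.exists_hasInjectiveDimensionLT_iff]
  exact ⟨_, fun i hi => CategoryTheory.HasProjectiveDimensionLT.subsingleton
    (hX := Groth.Agent.RegLoc.hasProjectiveDimensionLT_of_regular (R := A) rfl _) _ _ i hi _⟩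


end Groth.Agent.S0342
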