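import Groth.Statements.S7010
import Groth.Agent.Lib.DMod.Amplitude

set_option autoImplicit false
universe u
open CategoryTheory CategoryTheory.Limits
attribute [local instance] HasDerivedCategory.standard
open DRing

namespace Groth.Agent.S7010

open CategoryTheory.Pretriangulated in
/-- The inclusion of the perfect objects in the subcategory generated by R: let R be a commutative ring
and P a property of objects of D(R) which is closed under isomorphisms, holds for R[0], is stable
under all shifts, is closed under extensions (if it holds for the outer terms of a distinguished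
triangle it holds for the middle term) and is closed under taking direct summands. Then P holds for
every perfect object of D(R). -/
theorem result (R : Type u) [CommRing R]
    (P : ObjectProperty (Dual.D R)) [P.IsClosedUnderIsomorphisms] (hR : P (Dual.inD R R))
    (hshift : ∀ (K : Dual.D R) (n : ℤ), P K → P ((shiftFunctor (Dual.D R) n).obj K))
    (hext : ∀ T : Triangle (Dual.D R), T ∈ distinguishedTriangles → P T.obj₁ → P T.obj₃ → P T.obj₂)
    (hsum : ∀ (X Y : Dual.D R) [HasBinaryBiproduct X Y], P (X ⊞ Y) → P X)
    (K : Dual.D R) (hK : DRing.IsPerfect R K) : P K := by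
  have hzero : ∀ Z : Dual.D R, IsZero Z → P Z := fun Z hZ => by
    let e : Dual.inD R R ≅ Z ⊞ Dual.inD R R :=
      { hom := biprod.inr
        inv := biprod.snd
        hom_inv_id := biprod.inr_snd
        inv_hom_id := by
          apply biprod.hom_ext
          · exact hZ.eq_of_tgt _ _
          · simp }
    exact hsum _ _ (P.prop_of_iso e hR)
  have hequiv : ∀ {M N : Type u} [AddCommGroup M] [Module R M] [AddCommGroup N] [Module R N],
      (M ≃ₗ[R] N) → P (Dual.inD R M) → P (Dual.inD R N) := fun e h =>
    P.prop_of_iso ((DerivedCategory.singleFunctor (ModuleCat.{u} R) 0).mapIso e.toModuleIso) h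
  have hfree : ∀ n : ℕ, P (Dual.inD R (Fin n → R)) := by
    intro n
    induction n with
    | zero => exact hzero _ (Functor.map_isZero _ (ModuleCat.isZero_of_subsingleton _))
    | succ n ih =>
      obtain ⟨t, hT⟩ := Groth.Agent.DMod.exists_surj_triangle
        (LinearMap.funLeft R R (Fin.succ : Fin n → Fin (n + 1)))
        (LinearMap.funLeft_surjective_of_injective R R _ (Fin.succ_injective n))
      refine hext _ hT (hequiv ?_ hR) ih
      exact
        { toFun := fun r => ⟨Fin.cons r 0, LinearMap.mem_ker.2 (funext fun j => by
            simp [LinearMap.funLeft_apply])⟩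
          map_add' := fun r r' => Subtype.ext (funext fun j => by
            refine Fin.cases ?_ (fun j => ?_) j <;> simp)
          map_smul' := fun r r' => Subtype.ext (funext fun j => by
            refine Fin.cases ?_ (fun j => ?_) j <;> simp)
          invFun := fun x => x.1 0
          left_inv := fun r => by simp
          right_inv := fun x => Subtype.ext (funext fun j => by
            refine Fin.cases ?_ (fun j => ?_) j
            · simp
            · have hx := congrFun (LinearMap.mem_ker.1 x.2) j
              simp [LinearMap.funLeft_apply] at hx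
              simp [hx]) }
  have hproj : ∀ (M : Type u) [AddCommGroup M] [Module R M] [Module.Finite R M]
      [Module.Projective R M], P (Dual.inD R M) := by
    intro M _ _ _ _
    obtain ⟨n, p, hp⟩ := Groth.Agent.DMod.exists_free_surj (A := R) M
    obtain ⟨e, -, -⟩ := Groth.Agent.DMod.exists_equiv_prod (Submodule.injective_subtype _)
      (LinearMap.exact_subtype_ker_map p) hp
    let S := DerivedCategory.singleFunctor (ModuleCat.{u} R) 0
    have : PreservesBinaryBiproducts S := preservesBinaryBiproducts_of_preservesBiproducts S
    exact hsum (S.obj (ModuleCat.of R M)) (S.obj (ModuleCat.of R (LinearMap.ker p)))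
      (P.prop_of_iso (S.mapIso ((e ≪≫ₗ LinearEquiv.prodComm R _ _).toModuleIso ≪≫
        (ModuleCat.biprodIsoProd (ModuleCat.of R M) (ModuleCat.of R (LinearMap.ker p))).symm) ≪≫
          S.mapBiprod _ _) (hfree n))
  obtain ⟨E, a, b, hE, hF, ⟨e⟩⟩ := hK
  refine P.prop_of_iso e ?_
  refine Groth.Agent.DMod.bounded_induction (Q := fun L => P (DRing.toD L))
    (p := fun _ M => Module.Finite R M ∧ Module.Projective R M)
    (fun L hL => hzero _ ?_) (fun L n hL hn => ?_) (fun L n h₁ h₂ => ?_)
    (fun n M N i hM => Groth.Agent.DMod.modClass_finiteProjective.equiv i.toLinearEquiv hM)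
    E a b hE (fun i _ _ => hF i)
  · refine DerivedCategory.Q.map_isZero ((IsZero.iff_id_eq_zero L).2 ?_)
    ext1 i
    exact (hL i).eq_of_src _ _
  · obtain ⟨e⟩ := Groth.Agent.DMod.exists_iso_single_X hL
    have := hn.1
    have := hn.2
    refine P.prop_of_iso ?_ (hshift _ (-n) (hproj (L.X n)))
    exact Groth.Agent.DMod.singleShiftIso n (L.X n) ≪≫ e.symm
  · obtain ⟨t, hT⟩ := Groth.Agent.DMod.exists_sub_triangle L (Groth.Agent.DMod.geSub L n)
      (Groth.Agent.DMod.geSub_stable L n)
    exact hext _ hT h₁ h₂

end Groth.Agent.S7010
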