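import Groth.Statements.S7011
import Groth.Agent.Lib.DBaseChange.LiftClass
-- import your own Groth.Agent.* helpers here

set_option autoImplicit false
set_option linter.style.haveILetI false
set_option backward.isDefEq.respectTransparency false
universe u
open CategoryTheory CategoryTheory.Limits
attribute [local instance] HasDerivedCategory.standard
open DRing

namespace Groth.Agent.S7011

/-- Let R be a commutative ring and I an ideal contained in the Jacobson radical of R (every element of
1 + I is a unit), such that the derived base change D(R) → D(R/I) exists. Let K be a pseudo-coherent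
object of D(R) and E a bounded above cochain complex of finitely generated stably free R/I-modules
which is isomorphic in D(R/I) to K ⊗^L_R R/I. Then there is a bounded above cochain complex P of
finitely generated stably free R-modules, isomorphic to K in D(R), whose termwise reduction P ⊗_R
R/I is isomorphic to E as a complex, and such that P^i is free for every i for which E^i is free. -/
theorem result (R : Type u) [CommRing R] (I : Ideal R)
    (hI : I ≤ Ideal.jacobson (⊥ : Ideal R)) [DRing.HasLBaseChange (Ideal.Quotient.mk I)] (K : Dual.D R)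
    (hK : DRing.IsPseudoCoherent' R K) (E : DRing.Cx (R ⧸ I)) (b : ℤ) (hEb : DRing.VanishesAbove E b)
    (hEs : ∀ i : ℤ, Module.Finite (R ⧸ I) (E.X i) ∧ Module.IsStablyFree (R ⧸ I) (E.X i))
    (hE : Nonempty (DRing.toD E ≅ (DRing.LBaseChange (Ideal.Quotient.mk I)).obj K)) :
    ∃ (P : DRing.Cx R) (b' : ℤ), DRing.VanishesAbove P b' ∧
      (∀ i : ℤ, Module.Finite R (P.X i) ∧ Module.IsStablyFree R (P.X i)) ∧
      Nonempty (DRing.toD P ≅ K) ∧ Nonempty ((((ModuleCat.extendScalars (Ideal.Quotient.mk I)).mapHomologicalComplex (ComplexShape.up ℤ)).obj P) ≅ E) ∧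
      ∀ i : ℤ, Module.Free (R ⧸ I) (E.X i) → Module.Free R (P.X i) := by
  have hc := Groth.Agent.DBaseChange.Lift.cls_stFree (R := R) hI
  obtain ⟨eE⟩ := hE
  haveI := (Groth.Agent.DMod.vanishesAbove_iff E b).1 hEb
  obtain ⟨Q, c, hQc, hQf, ⟨eQ⟩⟩ := hK
  haveI := (Groth.Agent.DMod.vanishesAbove_iff Q c).1 hQc
  have hQ : ∀ i, Groth.Agent.DBaseChange.Lift.stFreeP R (Q.X i) := fun i =>
    haveI := (hQf i).2
    ⟨(hQf i).1, inferInstance⟩
  haveI : E.IsStrictlyLE (max c b) := E.isStrictlyLE_of_le b _ (le_max_right _ _)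
  haveI : Q.IsStrictlyLE (max c b) := Q.isStrictlyLE_of_le c _ (le_max_left _ _)
  have hflat : ∀ i, Module.Flat R (Q.X i) := fun i => by
    haveI : Module.Projective R (Q.X i) := hc.proj _ (hQ i)
    infer_instance
  obtain ⟨P, b', hb', hP, ⟨eP⟩, ⟨iso⟩⟩ := Groth.Agent.DBaseChange.Lift.exists_representative_lift hc
    Groth.Agent.DBaseChange.Lift.stFree_prod Q (max c b) hQ E
    (fun i => haveI := (hEs i).1; haveI := (hEs i).2
      Groth.Agent.DBaseChange.Lift.exists_stFree_lift hI (E.X i))
    ((Groth.Agent.DBaseChange.valueIso _ Q (Groth.Agent.DBaseChange.adapted_of_flat Q c hflat)).symm ≪≫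
      (DRing.LBaseChange _).mapIso eQ ≪≫ eE.symm)
  refine ⟨P, b', hb', hP, ⟨eP ≪≫ eQ⟩, ⟨iso⟩, fun i hfree => ?_⟩
  haveI := hfree
  haveI := (hEs i).1
  obtain ⟨X, hXfin, hXfree, ⟨eX⟩⟩ := Groth.Agent.DBaseChange.Lift.exists_red_free_iso (E.X i)
  obtain ⟨k⟩ := Groth.Agent.DBaseChange.Lift.iso_of_red_iso hc (X := X) (Y := P.X i)
    ⟨hXfin, haveI := hXfree; inferInstance⟩ (hP i)
    (eX ≪≫ ((HomologicalComplex.eval _ _ i).mapIso iso).symm)
  haveI := hXfree
  exact Module.Free.of_equiv k.toLinearEquiv

end Groth.Agent.S7011
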