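import Groth.Statements.S0372
import Groth.Agent.Lib.Dlz27.CMLocus
-- import your own Groth.Agent.* helpers here

set_option autoImplicit false
universe u v
open CategoryTheory
attribute [local instance] HasDerivedCategory.standard
open Dual

namespace Groth.Agent.S0372

/-- If a Noetherian ring has a dualizing complex then the set of primes at which the localization is
Cohen–Macaulay is open and dense in the prime spectrum. -/
theorem result (A : Type u) [CommRing A] [IsNoetherianRing A] (ω : Dual.D A) (hω : Dual.IsDualizing A ω) : IsOpen {p : PrimeSpectrum A | LocCoh.IsCohenMacaulayLocalRing (Localization.AtPrime p.asIdeal)} ∧ Dense {p : PrimeSpectrum A | LocCoh.IsCohenMacaulayLocalRing (Localization.AtPrime p.asIdeal)} := by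
  have key : ∀ p : PrimeSpectrum A, LocCoh.IsCohenMacaulayLocalRing (Localization.AtPrime p.asIdeal) ↔
      (Subsingleton (LocalizedModule p.asIdeal.primeCompl A) ∨ LocCoh.IsCohenMacaulayModule
        (Localization.AtPrime p.asIdeal) (LocalizedModule p.asIdeal.primeCompl A)) := fun p => by
    have hnt : Nontrivial (LocalizedModule p.asIdeal.primeCompl A) := by
      show p ∈ Module.support A A
      rw [Module.support_eq_zeroLocus, PrimeSpectrum.mem_zeroLocus]; exact fun a ha => by
        simp [show a = 0 by simpa using Module.mem_annihilator.1 ha 1]
    have e : LocalizedModule p.asIdeal.primeCompl A ≃ₗ[Localization.AtPrime p.asIdeal]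
        Localization.AtPrime p.asIdeal := (IsLocalizedModule.iso p.asIdeal.primeCompl
      (Algebra.linearMap A (Localization.AtPrime p.asIdeal))).extendScalarsOfIsLocalization p.asIdeal.primeCompl
        (Localization.AtPrime p.asIdeal)
    simp only [not_subsingleton_iff_nontrivial.2 hnt, false_or, LocCoh.IsCohenMacaulayModule,
      DepthLib.depth_localizedModule_self, Module.supportDim_eq_of_equiv e]
    have : IsNoetherianRing (Localization.AtPrime p.asIdeal) :=
      IsLocalization.isNoetherianRing p.asIdeal.primeCompl _ inferInstance
    exact ⟨fun h => h.supportDim_eq_depth, fun h => { supportDim_eq_depth := h }⟩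
  refine ⟨by simpa only [key] using Dlz27.isOpen_cm hω (Dlz27.model hω) A, fun p => ?_⟩
  have h : p ∈ Module.support A A := by
    rw [Module.support_eq_zeroLocus, PrimeSpectrum.mem_zeroLocus]; exact fun a ha => by
        simp [show a = 0 by simpa using Module.mem_annihilator.1 ha 1]
  exact closure_mono (fun q hq => (key q).2 (Or.inr hq.1))
    (Dlz27.support_subset_closure_cm hω (Dlz27.model hω) A h)

end Groth.Agent.S0372
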