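import Groth.Statements.S1783
import Groth.Agent.Lib.DlzFin27.Apps
import Groth.Agent.Lib.RGamma27.FlatBC
import Groth.Agent.Lib.BC8.UpperD
import Groth.Agent.Lib.Dlz27.Shift

set_option autoImplicit false
universe u
open CategoryTheory
attribute [local instance] HasDerivedCategory.standard
open Dual2

namespace Groth.Agent.S1783

theorem hd_ext {A B : Type u} [CommRing A] [CommRing B] [IsNoetherianRing A] [IsNoetherianRing B] (φ : A →+* B) (hφ : φ.Flat) [DRing.HasLBaseChange φ]
    (K : Dual.D A) (i : ℤ) :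
    Nonempty ((DerivedCategory.homologyFunctor (ModuleCat.{u} B) i).obj ((DRing.LBaseChange φ).obj K) ≅
      (ModuleCat.extendScalars.{u, u, u} φ).obj ((DerivedCategory.homologyFunctor (ModuleCat.{u} A) i).obj K)) := by
  obtain ⟨J, -, -, ⟨e⟩⟩ := RGamma27.exists_res K
  haveI := RGamma27.isIso_valueMap_of_flat φ hφ J
  exact ⟨(DerivedCategory.homologyFunctor (ModuleCat.{u} B) i).mapIso
      ((DRing.LBaseChange φ).mapIso e ≪≫ asIso ((DBaseChange.valueMap φ).app J)) ≪≫
    DBaseChange.hdEquiv _ i ≪≫ DBaseChange.homologyExtIso φ hφ J i ≪≫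
      (ModuleCat.extendScalars.{u, u, u} φ).mapIso ((DBaseChange.hdEquiv J i).symm ≪≫
        (DerivedCategory.homologyFunctor (ModuleCat.{u} A) i).mapIso e.symm)⟩

theorem subsingleton_ext {A B : Type u} [CommRing A] [CommRing B] (φ : A →+* B) (M : ModuleCat.{u} A)
    [Subsingleton M] : Subsingleton ((ModuleCat.extendScalars.{u, u, u} φ).obj M) :=
  ModuleCat.subsingleton_of_isZero ((ModuleCat.extendScalars.{u, u, u} φ).map_isZero
    (ModuleCat.isZero_of_subsingleton M))

theorem finite_ext {A B : Type u} [CommRing A] [CommRing B] (φ : A →+* B) (M : ModuleCat.{u} A)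
    [Module.Finite A M] : Module.Finite B ((ModuleCat.extendScalars.{u, u, u} φ).obj M) := by
  letI := φ.toAlgebra
  exact inferInstanceAs (Module.Finite B (TensorProduct A B M))


/-- Let R → A be a ring map of finite type between Noetherian rings, where φ^!(K) is formed from a
presentation ψ : R[x_1, …, x_n] → A as RHom_P(A, K ⊗^L_R P)[n], assuming the derived base change to
P exists and taking for RHom_P(A, −) a right adjoint of restriction of scalars along ψ. If K in D(R)
has vanishing cohomology below some degree, then so does φ^!(K); if moreover all cohomology modules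
of K are finite R-modules, then all cohomology modules of φ^!(K) are finite A-modules. -/
theorem result (R A : Type u) [CommRing R] [CommRing A] [IsNoetherianRing R] [IsNoetherianRing A] [Algebra R A] (n : ℕ) (ψ : MvPolynomial (Fin n) R →ₐ[R] A) (hψ : Function.Surjective ψ) [DRing.HasLBaseChange (algebraMap R (MvPolynomial (Fin n) R))] (Rψ : Dual.D (MvPolynomial (Fin n) R) ⥤ Dual.D A) (adj : DRing.restrictD ψ.toRingHom ⊣ Rψ) (K : Dual.D R) (a : ℤ) (hKa : ∀ i : ℤ, i < a → Subsingleton (Dual.HD R K i)) : (∃ b : ℤ, ∀ i : ℤ, i < b → Subsingleton (Dual.HD A (Dual2.shriekVia n Rψ K) i)) ∧ ((∀ i : ℤ, Module.Finite R (Dual.HD R K i)) → ∀ i : ℤ, Module.Finite A (Dual.HD A (Dual2.shriekVia n Rψ K) i)) := by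
  letI : Algebra (MvPolynomial (Fin n) R) A := ψ.toRingHom.toAlgebra
  haveI : Module.Finite (MvPolynomial (Fin n) R) A := RingHom.Finite.of_surjective _ hψ
  have hflat : (algebraMap R (MvPolynomial (Fin n) R)).Flat := RingHom.flat_algebraMap_iff.2 inferInstance
  let L := (DRing.LBaseChange (algebraMap R (MvPolynomial (Fin n) R))).obj K
  have hL : ∀ i : ℤ, i < a → Subsingleton (Dual.HD _ L i) := fun i hi => by
    obtain ⟨e⟩ := hd_ext _ hflat K i
    haveI : Subsingleton ((DerivedCategory.homologyFunctor (ModuleCat.{u} R) i).obj K) := hKa i hi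
    haveI := subsingleton_ext (algebraMap R (MvPolynomial (Fin n) R))
      ((DerivedCategory.homologyFunctor (ModuleCat.{u} R) i).obj K)
    exact e.toLinearEquiv.toEquiv.subsingleton
  haveI : L.IsGE a := (DerivedCategory.isGE_iff _ _).2 fun i hi =>
    haveI := hL i hi
    ModuleCat.isZero_of_subsingleton _
  haveI := BC8.isGE_upper (ModuleCat.restrictScalars.{u} ψ.toRingHom) adj L a
  haveI : (Dual2.shriekVia n Rψ K).IsGE (a - n) :=
    DerivedCategory.TStructure.t.isGE_shift _ a n (a - n) (by lia)
  refine ⟨⟨a - n, fun i hi => ModuleCat.subsingleton_of_isZero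
    (DerivedCategory.isZero_of_isGE _ (a - n) i hi)⟩, fun hfin i => ?_⟩
  haveI := DlzFin27.finite_HD_rightAdjoint Rψ adj L a hL (fun j => by
    obtain ⟨e⟩ := hd_ext _ hflat K j
    haveI : Module.Finite R ((DerivedCategory.homologyFunctor (ModuleCat.{u} R) j).obj K) := hfin j
    haveI := finite_ext (algebraMap R (MvPolynomial (Fin n) R))
      ((DerivedCategory.homologyFunctor (ModuleCat.{u} R) j).obj K)
    exact Module.Finite.equiv e.toLinearEquiv.symm) (n + i)
  haveI : Module.Finite A
      (((DerivedCategory.homologyFunctor (ModuleCat.{u} A) 0).shift ((n : ℤ) + i)).obj (Rψ.obj L)) :=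
    ‹Module.Finite A (Dual.HD A (Rψ.obj L) ((n : ℤ) + i))›
  exact Module.Finite.equiv (((DerivedCategory.homologyFunctor (ModuleCat.{u} A) 0).shiftIso
    (n : ℤ) i ((n : ℤ) + i) rfl).app (Rψ.obj L)).symm.toLinearEquiv


end Groth.Agent.S1783
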