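import Groth.Statements.S1801
import Groth.Agent.Lib.BC8.ShriekViaFlat
import Groth.Agent.Lib.DBaseChange.ResPC
import Groth.Agent.Lib.DBaseChange.TorTri
import Groth.Agent.S1783

set_option autoImplicit false
universe u
open CategoryTheory
open scoped TensorProduct
attribute [local instance] HasDerivedCategory.standard
open Dual2

namespace Groth.Agent.S1801


/-- Flat case (part (2) with (1)(a)–(c) and (2)(b)). Let R → A be a ring map between Noetherian rings
which is flat and of finite type, where φ^!(K) is formed from a presentation ψ : R[x_1, …, x_n] → A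
as RHom_P(A, K ⊗^L_R P)[n], assuming the derived base change to P exists and taking for RHom_P(A, −)
a right adjoint of restriction of scalars along ψ; put ω = φ^!(R). Then: (a) ω has finitely many
nonzero cohomology modules, all finite over A; (b) after restriction of scalars to R, ω is
isomorphic to a bounded complex of flat R-modules (finite tor dimension over R); (c) a ↦ a·id is a
bijection A → End(ω) and ω has no self-maps of nonzero degree; (d) for every ring map R → k to a
field, assuming the derived base change D(A) → D(k ⊗_R A) exists, the base change of ω is a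
dualizing complex for k ⊗_R A. -/
theorem result (R A : Type u) [CommRing R] [CommRing A] [IsNoetherianRing R] [IsNoetherianRing A] [Algebra R A] [Module.Flat R A] (n : ℕ) (ψ : MvPolynomial (Fin n) R →ₐ[R] A) (hψ : Function.Surjective ψ) [DRing.HasLBaseChange (algebraMap R (MvPolynomial (Fin n) R))] (Rψ : Dual.D (MvPolynomial (Fin n) R) ⥤ Dual.D A) (adj : DRing.restrictD ψ.toRingHom ⊣ Rψ) : (∃ a b : ℤ, ∀ i : ℤ, (i < a ∨ b < i) → Subsingleton (Dual.HD A (Dual2.shriekVia n Rψ (Dual.inD R R)) i)) ∧ (∀ i : ℤ, Module.Finite A (Dual.HD A (Dual2.shriekVia n Rψ (Dual.inD R R)) i)) ∧ DRing.HasFiniteTorDimCx R ((DRing.restrictD (algebraMap R A)).obj (Dual2.shriekVia n Rψ (Dual.inD R R))) ∧ (Function.Bijective (fun a : A => a • CategoryTheory.CategoryStruct.id (Dual2.shriekVia n Rψ (Dual.inD R R))) ∧ ∀ i : ℤ, i ≠ 0 → Subsingleton (Dual2.shriekVia n Rψ (Dual.inD R R) ⟶ (Dual2.shriekVia n Rψ (Dual.inD R R))⟦i⟧)) ∧ ∀ (k : Type u) [Field k] [Algebra R k] [DRing.HasLBaseChange (Algebra.TensorProduct.includeRight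 : A →ₐ[R] k ⊗[R] A).toRingHom], Dual.IsDualizing (k ⊗[R] A) ((DRing.LBaseChange (Algebra.TensorProduct.includeRight : A →ₐ[R] k ⊗[R] A).toRingHom).obj (Dual2.shriekVia n Rψ (Dual.inD R R))) := by
  obtain ⟨o⟩ := BC8.nonempty_via_one n Rψ (R := R) (A := A)
  obtain ⟨hperf, hend, hext⟩ := BC8.isRelPerfect_upper_flat n ψ hψ adj
  let ω₀ := Rψ.obj (Dual.inD (MvPolynomial (Fin n) R) (MvPolynomial (Fin n) R))
  let ω := Dual2.shriekVia n Rψ (Dual.inD R R)
  obtain ⟨⟨lo, hlo⟩, hfin⟩ := S1783.result R A n ψ hψ Rψ adj (Dual.inD R R) 0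
    (fun i hi => ModuleCat.subsingleton_of_isZero (DerivedCategory.isZero_of_isGE _ 0 i hi))
  have hp : DRing.IsPerfect (MvPolynomial (Fin n) R) ((DRing.restrictD ψ.toRingHom).obj ω) :=
    DBaseChange.isPerfect_of_iso ((((DRing.restrictD ψ.toRingHom).commShiftIso (n : ℤ)).app ω₀).symm ≪≫
      (DRing.restrictD ψ.toRingHom).mapIso o.symm) (DBaseChange.isPerfect_shift (n : ℤ) hperf)
  have hfinD : ∀ i : ℤ, Module.Finite R (Dual.HD R (Dual.inD R R) i) := fun i => Dlz27.finite_HD_inD (A := R) R i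
  refine ⟨?_, hfin hfinD, ?_, ⟨?_, fun i hi => ?_⟩, fun k _ _ _ => ?_⟩
  · obtain ⟨E, a, b, hv, -, ⟨e⟩⟩ := hp
    haveI : ((DRing.restrictD ψ.toRingHom).obj ω).IsLE b := by
      refine (DerivedCategory.isLE_iff _ _).2 fun i hi => ?_
      refine Limits.IsZero.of_iso ?_ ((DerivedCategory.homologyFunctor _ i).mapIso e.symm ≪≫
        (DerivedCategory.homologyFunctorFactors _ i).app E)
      exact (HomologicalComplex.exactAt_iff_isZero_homology E i).1
        (ShortComplex.exact_of_isZero_X₂ _ (hv i (Or.inr hi)))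
    haveI : ω.IsLE b := (DBaseChange.resD_isLE_iff ψ.toRingHom ω b).1 inferInstance
    exact ⟨lo, b, fun i hi => hi.elim (hlo i) fun h =>
      ModuleCat.subsingleton_of_isZero (DerivedCategory.isZero_of_isLE ω b i h)⟩
  · exact (BC8.isRelPerfect_of_restrict ψ hψ ω hp).2
  · exact BC8.bijective_smul_of_iso A o.symm (BC8.bijective_smul_map A (shiftFunctor (Dual.D A) (n : ℤ))
      ((Functor.FullyFaithful.ofFullyFaithful (shiftFunctor (Dual.D A) (n : ℤ))).homEquiv).bijective hend)
  · haveI := hext i hi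
    haveI : Subsingleton (ω₀⟦(n : ℤ)⟧ ⟶ ω₀⟦(n : ℤ) + i⟧) := BC8.subsingleton_hom_shift (n : ℤ) ((n : ℤ) + i) i rfl
    exact (o.symm.homCongr ((shiftFunctorAdd' (Dual.D A) (n : ℤ) i ((n : ℤ) + i) rfl).app ω₀ ≪≫
      (shiftFunctor (Dual.D A) i).mapIso o.symm)).symm.subsingleton
  · obtain ⟨ab⟩ := DBaseChange.nonempty_adjunction (Algebra.TensorProduct.includeRight : A →ₐ[R] k ⊗[R] A).toRingHom
    letI := ab.leftAdjointCommShift ℤ
    exact Dlz27.isDualizing_of_iso (((DRing.LBaseChange (Algebra.TensorProduct.includeRight :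
      A →ₐ[R] k ⊗[R] A).toRingHom).mapIso o ≪≫
        ((DRing.LBaseChange (Algebra.TensorProduct.includeRight : A →ₐ[R] k ⊗[R] A).toRingHom).commShiftIso
          (n : ℤ)).app ω₀).symm) (Dlz27.isDualizing_shift (BC8.isDualizing_fibre n ψ hψ adj k) _)


end Groth.Agent.S1801
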