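import Groth.Statements.S7640
import Groth.Agent.Lib.AmpleFin18.PushEuler

set_option autoImplicit false
universe u
open CategoryTheory CategoryTheory.Limits AlgebraicGeometry
open Variety

namespace Groth.Agent.S7640

/-- Let k be a field, let X and Y be proper curves over k (integral, proper over k, of dimension one)
and let f : X → Y be a morphism over k that is not constant, i.e. sends the generic point of X to
that of Y. For a finite locally free module E of rank n on Y, the degree of f^*E is deg(X/Y) ·
deg(E), where deg(X/Y) is the degree of the function field of X over that of Y. -/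
theorem result (k : Type u) [Field k] (X Y : Scheme.{u})
    [X.Over (Spec (CommRingCat.of k))] [Y.Over (Spec (CommRingCat.of k))] [IsIntegral X] [IsIntegral Y]
    [IsProper (X ↘ (Spec (CommRingCat.of k)))] [IsProper (Y ↘ (Spec (CommRingCat.of k)))]
    (hX : topologicalKrullDim X = 1) (hY : topologicalKrullDim Y = 1)
    (f : X ⟶ Y) (hf : f ≫ (Y ↘ (Spec (CommRingCat.of k))) = X ↘ (Spec (CommRingCat.of k)))
    (hξ : f.base (genericPoint X) = genericPoint Y)
    (n : ℕ) (E : Y.Modules) (hE : FlatMod.IsFinLocFreeOfRank n E) :
    Curv2.deg k X ((Scheme.Modules.pullback f).obj E) n =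
      (f.residueDegree (genericPoint X) : ℤ) * Curv2.deg k Y E n := by
  haveI := (Groth.Agent.CurveAmple18.curveLike k X hX.le).noetherian
  haveI := (Groth.Agent.CurveAmple18.curveLike k Y hY.le).noetherian
  haveI : IsProper (f ≫ (Y ↘ Spec (CommRingCat.of k))) := by rw [hf]; infer_instance
  haveI : IsProper f := IsProper.of_comp f (Y ↘ Spec (CommRingCat.of k))
  haveI : IsFinite f := Groth.Agent.AmpleFin18.isFinite_of_nonconstant hX.le hY f hξ
  have hFE : Coh.IsQCoh ((Scheme.Modules.pullback f).obj E) :=
    Groth.Agent.M1.isQCoh_pullback f (Groth.Agent.CurveCoh17.isCoh_of_ofRank hE).1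
  haveI := Groth.Agent.AmpleFin18.isIso_projHom_of_ofRank f E (Coh.structureModule X) hE
  have hG : Coh.IsCoh ((Scheme.Modules.pushforward f).obj (Coh.structureModule X)) :=
    Groth.Agent.Cyc26.isCoh_push_finite f (Groth.Agent.M1.isCoh_structureModule X)
  have h1 : Curv2.euler k Y (CohB1.tensorMod E ((Scheme.Modules.pushforward f).obj (Coh.structureModule X))) =
      Curv2.euler k X ((Scheme.Modules.pullback f).obj E) := by
    rw [Groth.Agent.CurveCoh17.euler_iso (asIso (Groth.Agent.AmpleFin18.projHom f E (Coh.structureModule X))),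
      ← Groth.Agent.AmpleFin18.euler_push f hf _ hFE]
    exact Groth.Agent.CurveCoh17.euler_iso
      ((Scheme.Modules.pushforward f).mapIso (Groth.Agent.M2.tensorRUnit _))
  have h2 : Curv2.euler k Y ((Scheme.Modules.pushforward f).obj (Coh.structureModule X)) =
      Curv2.euler k X (Coh.structureModule X) :=
    Groth.Agent.AmpleFin18.euler_push f hf _ (Groth.Agent.M1.isQCoh_structureModule X)
  have h3 := Groth.Agent.CurveAmple18.euler_tensor_coh (k := k) hY.le hE hG
  rw [Groth.Agent.AmpleFin18.finrank_pushO_genericPoint hX.le hY f hξ hξ, h1, h2] at h3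
  rw [Curv2.deg, h3]
  ring

end Groth.Agent.S7640
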