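import Groth.Statements.S1570
import Groth.Agent.Lib.SecDiv18.Stalk

set_option autoImplicit false
universe u
open CategoryTheory CategoryTheory.Limits AlgebraicGeometry
open Divisors

namespace Groth.Agent.S1570

/-- Let X be locally Noetherian and D a closed subscheme with ideal sheaf I. If for every point x of D
the ideal generated by I in the local ring at x is generated by one nonzerodivisor, then D is an
effective Cartier divisor. -/
theorem result (X : Scheme.{u}) [IsLocallyNoetherian X]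
    (D : X.IdealSheafData)
    (h : ∀ x ∈ D.support, ∀ (U : X.affineOpens) (hx : x ∈ (U : X.Opens)),
      ∃ g : X.presheaf.stalk x, g ∈ nonZeroDivisors (X.presheaf.stalk x) ∧
        (D.ideal U).map (X.presheaf.germ U x hx).hom = Ideal.span {g}) :
    BlowUp.IsEffCartierIdeal D := by
  intro x
  by_cases hx : x ∈ D.support
  swap
  · obtain ⟨U, hU, hxU, hUs⟩ := exists_isAffineOpen_mem_and_subset (U := D.support.compl) hx
    refine ⟨⟨U, hU⟩, hxU, 1, one_mem _, ?_⟩
    rw [Ideal.span_singleton_one]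
    by_contra hne
    obtain ⟨m, hm, hle⟩ := Ideal.exists_le_maximal _ hne
    have hyU : hU.fromSpec ⟨m, hm.isPrime⟩ ∈ U := hU.range_fromSpec.le ⟨_, rfl⟩
    refine hUs hyU ?_
    change hU.fromSpec ⟨m, hm.isPrime⟩ ∈ D.support
    rw [Scheme.IdealSheafData.mem_support_iff_of_mem (U := ⟨U, hU⟩) hyU, Scheme.mem_zeroLocus_iff]
    intro a ha hya
    have : (⟨m, hm.isPrime⟩ : PrimeSpectrum _) ∈ hU.fromSpec ⁻¹ᵁ X.basicOpen a := hya
    rw [hU.fromSpec_preimage_basicOpen] at this
    exact this (hle ha)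
  obtain ⟨U, hU, hxU, -⟩ := exists_isAffineOpen_mem_and_subset (U := (⊤ : X.Opens)) (x := x) trivial
  obtain ⟨g, hg, hspan⟩ := h x hx ⟨U, hU⟩ hxU
  let A := Γ(X, U)
  haveI : IsNoetherianRing A := IsLocallyNoetherian.component_noetherian ⟨U, hU⟩
  let := TopCat.Presheaf.algebra_section_stalk X.presheaf (⟨x, hxU⟩ : U)
  have := hU.isLocalization_stalk ⟨x, hxU⟩
  let S := (hU.primeIdealOf ⟨x, hxU⟩).asIdeal.primeCompl
  let φ : A →+* X.presheaf.stalk x := algebraMap A (X.presheaf.stalk x)
  obtain ⟨⟨⟨f, hf⟩, c⟩, hfc⟩ := (IsLocalization.mem_map_algebraMap_iff S (X.presheaf.stalk x) (I := D.ideal ⟨U, hU⟩)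
    (z := g)).mp (by
      change g ∈ (D.ideal ⟨U, hU⟩).map (X.presheaf.germ U x hxU).hom
      rw [hspan]; exact Ideal.subset_span rfl)
  have hcu : IsUnit (φ c) := IsLocalization.map_units _ c
  have hfg : Ideal.span {φ f} = Ideal.span {g} := by
    rw [show φ f = g * φ c from hfc.symm, Ideal.span_singleton_mul_right_unit hcu]
  have hfnzd : φ f ∈ nonZeroDivisors (X.presheaf.stalk x) := by
    rw [show φ f = g * φ c from hfc.symm]
    exact mul_mem hg hcu.mem_nonZeroDivisors
  obtain ⟨s, hs⟩ := IsNoetherian.noetherian (D.ideal ⟨U, hU⟩)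
  obtain ⟨t, ht⟩ := IsNoetherian.noetherian (Submodule.colon (⊥ : Submodule A A) {f})
  have h1 : ∀ a ∈ s, ∃ d : S, (d : A) * a ∈ Ideal.span {f} := fun a ha => by
    have hmem : φ a ∈ Ideal.span {φ f} := by
      rw [hfg, ← hspan]
      exact Ideal.mem_map_of_mem _ (hs ▸ Submodule.subset_span ha)
    rw [← Set.image_singleton, ← Ideal.map_span] at hmem
    obtain ⟨d, hd, hd'⟩ := (IsLocalization.algebraMap_mem_map_algebraMap_iff S (X.presheaf.stalk x) _ a).mp hmem
    exact ⟨⟨d, hd⟩, hd'⟩
  have h2 : ∀ a ∈ t, ∃ d : S, (d : A) * a = 0 := fun a ha => by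
    have ha' : a * f = 0 := by
      have : a ∈ Submodule.colon (⊥ : Submodule A A) {f} := ht ▸ Submodule.subset_span ha
      simpa [Submodule.mem_colon_singleton] using this
    have : φ a * φ f = 0 := by rw [← map_mul, ha', map_zero]
    exact (IsLocalization.map_eq_zero_iff S (X.presheaf.stalk x) a).mp
      ((mul_right_mem_nonZeroDivisors_eq_zero_iff hfnzd).mp this)
  choose! d hd using h1
  choose! e he using h2
  let r : A := (∏ a ∈ s, (d a : A)) * ∏ a ∈ t, (e a : A)
  have hr : r ∈ S := mul_mem (prod_mem fun a _ => (d a).2) (prod_mem fun a _ => (e a).2)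
  have hIr : ∀ a ∈ D.ideal ⟨U, hU⟩, r * a ∈ Ideal.span {f} := fun a ha => by
    rw [← hs] at ha
    induction ha using Submodule.span_induction with
    | mem a ha =>
      obtain ⟨q, hq⟩ := (Finset.dvd_prod_of_mem (fun a => (d a : A)) ha : _ ∣ ∏ a ∈ s, (d a : A))
      rw [show r * a = (q * ∏ a ∈ t, (e a : A)) * ((d a : A) * a) by simp only [r, hq]; ring]
      exact Ideal.mul_mem_left _ _ (hd a ha)
    | zero => rw [mul_zero]; exact zero_mem _
    | add a b _ _ ha hb => rw [mul_add]; exact add_mem ha hb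
    | smul q a _ ha => rw [smul_eq_mul, mul_left_comm]; exact Ideal.mul_mem_left _ _ ha
  have hAr : ∀ a, a * f = 0 → r * a = 0 := fun a haf => by
    have ha : a ∈ Submodule.colon (⊥ : Submodule A A) {f} := by simpa [Submodule.mem_colon_singleton] using haf
    clear haf
    rw [← ht] at ha
    induction ha using Submodule.span_induction with
    | mem a ha =>
      obtain ⟨q, hq⟩ := (Finset.dvd_prod_of_mem (fun a => (e a : A)) ha : _ ∣ ∏ a ∈ t, (e a : A))
      rw [show r * a = ((∏ a ∈ s, (d a : A)) * q) * ((e a : A) * a) by simp only [r, hq]; ring, he a ha, mul_zero]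
    | zero => rw [mul_zero]
    | add a b _ _ ha hb => rw [mul_add, ha, hb, add_zero]
    | smul q a _ ha => rw [smul_eq_mul, mul_left_comm, ha, mul_zero]
  refine ⟨X.affineBasicOpen (U := ⟨U, hU⟩) r, (X.mem_basicOpen r x hxU).mpr
    ((Groth.Agent.M1.isUnit_germ_iff hU hxU r).mpr hr), ?_⟩
  letI : Algebra A Γ(X, X.basicOpen r) := (X.presheaf.map (homOfLE (X.basicOpen_le r)).op).hom.toAlgebra
  haveI : IsLocalization.Away r Γ(X, X.basicOpen r) := hU.isLocalization_basicOpen r
  refine ⟨algebraMap A Γ(X, X.basicOpen r) f, mem_nonZeroDivisors_iff_right.mpr fun (z : Γ(X, X.basicOpen r)) hz => ?_, ?_⟩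
  · have hz' : z * algebraMap A Γ(X, X.basicOpen r) f = 0 := hz
    obtain ⟨⟨a, q⟩, haq⟩ := IsLocalization.surj (.powers r) z
    have h0 : algebraMap A Γ(X, X.basicOpen r) (a * f) = 0 := by
      rw [map_mul, ← haq]
      exact (mul_right_comm z _ _).trans (by rw [hz', zero_mul])
    obtain ⟨q', hq'⟩ := (IsLocalization.map_eq_zero_iff (.powers r) Γ(X, X.basicOpen r) _).mp h0
    have h3 := hAr ((q' : A) * a) (by rw [mul_assoc]; exact hq')
    have h4 : algebraMap A Γ(X, X.basicOpen r) a = 0 := by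
      refine (IsLocalization.map_eq_zero_iff (.powers r) Γ(X, X.basicOpen r) a).mpr
        ⟨⟨r * q', mul_mem (Submonoid.mem_powers r) q'.2⟩, ?_⟩
      change r * (q' : A) * a = 0
      rw [mul_assoc]; exact h3
    exact ((IsLocalization.map_units Γ(X, X.basicOpen r) q).mul_left_eq_zero).mp (haq.trans h4)
  · rw [← D.map_ideal_basicOpen ⟨U, hU⟩ r]
    refine le_antisymm (Ideal.map_le_iff_le_comap.mpr fun a ha => ?_) ((Ideal.span_singleton_le_iff_mem _).mpr (Ideal.mem_map_of_mem _ hf))
    have := Ideal.mem_map_of_mem (algebraMap A Γ(X, X.basicOpen r)) (hIr a ha)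
    rw [Ideal.map_span, Set.image_singleton, map_mul] at this
    change algebraMap A Γ(X, X.basicOpen r) a ∈ (Ideal.span {algebraMap A Γ(X, X.basicOpen r) f} : Ideal Γ(X, X.basicOpen r))
    exact (Ideal.unit_mul_mem_iff_mem _ (IsLocalization.Away.algebraMap_isUnit (S := Γ(X, X.basicOpen r)) r)).mp this

end Groth.Agent.S1570
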