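import Groth.Statements.S1684
import Groth.Agent.Lib.SecDiv18.Stalk
import Groth.Agent.S1570

set_option autoImplicit false
universe u
open CategoryTheory CategoryTheory.Limits AlgebraicGeometry TopologicalSpace
open SDiv

namespace Groth.Agent.S1684

/-- Let X be a locally Noetherian scheme and 𝓘 a quasi-coherent ideal sheaf whose closed subscheme D is
integral, of codimension 1 in X (the local ring of X at the generic point of D has dimension 1), and
such that the local ring of X at every point of D is a unique factorisation domain. Then 𝓘 is the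
ideal sheaf of an effective Cartier divisor. -/
theorem result (X : Scheme.{u}) [IsLocallyNoetherian X] (𝓘 : X.IdealSheafData)
    [IsIntegral 𝓘.subscheme]
    (hcodim : ringKrullDim (X.presheaf.stalk (𝓘.subschemeι (genericPoint ↥𝓘.subscheme))) = 1)
    (hufd : ∀ x : ↥X, x ∈ 𝓘.support → IsDomain (X.presheaf.stalk x) ∧ UniqueFactorizationMonoid (X.presheaf.stalk x)) :
    BlowUp.IsEffCartierIdeal 𝓘 := by
  refine Groth.Agent.S1570.result X 𝓘 fun x hx U hxU => ?_
  obtain ⟨hdom, hUFD⟩ := hufd x hx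
  haveI := hdom
  haveI := hUFD
  let ξ := 𝓘.subschemeι (genericPoint 𝓘.subscheme)
  have hξ : IsGenericPoint ξ (𝓘.support : Set X) := by
    have h := (genericPoint_spec 𝓘.subscheme).image 𝓘.subschemeι.continuous
    rwa [Set.image_univ, 𝓘.range_subschemeι, 𝓘.support.isClosed.closure_eq] at h
  have hξU : ξ ∈ U.1 := (hξ.specializes hx).mem_open U.1.isOpen hxU
  have hne : Nonempty (𝓘.subschemeι ⁻¹ᵁ U.1 : 𝓘.subscheme.Opens) := ⟨⟨_, hξU⟩⟩
  have hIp : (𝓘.ideal U).IsPrime := by
    conv => arg 1; rw [← 𝓘.ker_subschemeι, Scheme.Hom.ker_apply]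
    exact RingHom.ker_isPrime _
  have hmem : ∀ {z : X} (hz : z ∈ U.1), z ∈ 𝓘.support → 𝓘.ideal U ≤ (U.2.primeIdealOf ⟨z, hz⟩).asIdeal := by
    intro z hz hzs a ha
    rw [Scheme.IdealSheafData.mem_support_iff_of_mem hz, Scheme.mem_zeroLocus_iff] at hzs
    by_contra hna
    exact hzs a ha ((X.mem_basicOpen a z hz).mpr ((Groth.Agent.M1.isUnit_germ_iff U.2 hz a).mpr hna))
  have hPξ : (U.2.primeIdealOf ⟨ξ, hξU⟩).asIdeal = 𝓘.ideal U := by
    let y := U.2.fromSpec ⟨𝓘.ideal U, hIp⟩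
    have hyU : y ∈ U.1 := U.2.range_fromSpec.le ⟨_, rfl⟩
    have hy : y ∈ 𝓘.support := by
      rw [Scheme.IdealSheafData.mem_support_iff_of_mem hyU, Scheme.mem_zeroLocus_iff]
      intro a ha hya
      have : (⟨𝓘.ideal U, hIp⟩ : PrimeSpectrum _) ∈ U.2.fromSpec ⁻¹ᵁ X.basicOpen a := hya
      rw [U.2.fromSpec_preimage_basicOpen] at this
      exact this ha
    have h2 := ((PrimeSpectrum.le_iff_specializes ⟨𝓘.ideal U, hIp⟩ (U.2.primeIdealOf ⟨ξ, hξU⟩)).mp
      (hmem hξU hξ.mem)).map U.2.fromSpec.continuous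
    rw [U.2.fromSpec_primeIdealOf] at h2
    have hy' : y = ξ := (h2.antisymm (hξ.specializes hy)).eq
    exact congrArg PrimeSpectrum.asIdeal
      (U.2.fromSpec.isOpenEmbedding.injective ((U.2.fromSpec_primeIdealOf ⟨ξ, hξU⟩).trans hy'.symm))
  have hht : (𝓘.ideal U).height = 1 := by
    let := TopCat.Presheaf.algebra_section_stalk X.presheaf (⟨ξ, hξU⟩ : U.1)
    have := U.2.isLocalization_stalk ⟨ξ, hξU⟩
    have h := IsLocalization.AtPrime.ringKrullDim_eq_height (U.2.primeIdealOf ⟨ξ, hξU⟩).asIdeal (X.presheaf.stalk ξ)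
    rw [hcodim, hPξ] at h
    exact_mod_cast h.symm
  let := TopCat.Presheaf.algebra_section_stalk X.presheaf (⟨x, hxU⟩ : U.1)
  have := U.2.isLocalization_stalk ⟨x, hxU⟩
  let S := (U.2.primeIdealOf ⟨x, hxU⟩).asIdeal.primeCompl
  have hdisj : Disjoint (S : Set Γ(X, U.1)) (𝓘.ideal U : Set Γ(X, U.1)) :=
    Set.disjoint_left.mpr fun a ha haI => ha (hmem hxU hx haI)
  let q := (𝓘.ideal U).map (algebraMap Γ(X, U.1) (X.presheaf.stalk x))
  have hq : q.IsPrime := IsLocalization.isPrime_of_isPrime_disjoint S (X.presheaf.stalk x) (𝓘.ideal U) hIp hdisj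
  have hqh : q.height = 1 := (IsLocalization.height_map_of_disjoint S (𝓘.ideal U) hdisj).trans hht
  have hq0 : q ≠ ⊥ := fun h0 => by
    rw [h0, Ideal.height_bot] at hqh
    exact zero_ne_one hqh
  obtain ⟨π, hπ, hπp⟩ := hq.exists_mem_prime_of_ne_bot hq0
  refine ⟨π, mem_nonZeroDivisors_of_ne_zero hπp.ne_zero, ?_⟩
  change q = Ideal.span {π}
  by_contra hne'
  haveI hπI : (Ideal.span {π} : Ideal (X.presheaf.stalk x)).IsPrime := (Ideal.span_singleton_prime hπp.ne_zero).mpr hπp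
  have hlt : Ideal.span {π} < q := lt_of_le_of_ne ((Ideal.span_singleton_le_iff_mem _).mpr hπ) (Ne.symm hne')
  have h0 : (⊥ : Ideal (X.presheaf.stalk x)) < Ideal.span {π} :=
    bot_lt_iff_ne_bot.mpr (by simpa [Ideal.span_singleton_eq_bot] using hπp.ne_zero)
  haveI := hq
  have h1 := Ideal.height_strict_mono_of_isPrime h0
  have h2 := Ideal.height_strict_mono_of_isPrime hlt
  rw [hqh] at h2
  exact absurd h2 (not_lt.mpr (Order.one_le_iff_ne_zero.mpr (fun h3 => by rw [h3] at h1; exact not_lt_zero' h1)))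

end Groth.Agent.S1684
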