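import Groth.Statements.S0844
import Groth.Agent.Lib.CohFound.ProjCech

set_option autoImplicit false
universe u
open Coherent

namespace Groth.Agent.S0844

open CategoryTheory AlgebraicGeometry in
/-- For a ring R, n ≥ 0, d ∈ ℤ and q ≥ 0, the group H^q(P^n_R, O(d)) is zero unless q = 0 and d ≥ 0, or
q = n and d ≤ -n-1. -/
theorem result (R : Type u) [CommRing R] (n : ℕ) (d : ℤ) (q : ℕ)
    (h₀ : ¬ (q = 0 ∧ 0 ≤ d)) (hn : ¬ (q = n ∧ d ≤ -((n : ℤ) + 1))) :
    Subsingleton (Coh.HH (CohB1.ProjSpace n R) (Twist.twistProjSpace n R d) q) := by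
  open Groth.Agent in
  refine (CohFound.subsingleton_HH_iff _ q).2 ?_
  rcases Nat.eq_zero_or_pos q with rfl | hq
  · have hd : d < 0 := lt_of_not_ge fun h => h₀ ⟨rfl, h⟩
    have hn' : 0 < n := by
      rcases Nat.eq_zero_or_pos n with rfl | h
      · exact absurd ⟨rfl, by omega⟩ hn
      · exact h
    have : Subsingleton (((Groth.Agent.CohFound.abF (Proj (CohB1.polyGrading n R))).obj
        (Twist.twist (CohB1.polyGrading n R) d)).obj.obj (Opposite.op ⊤)) :=
      Groth.Agent.Twist.subsingleton_sections_twistProjSpace_neg n R hn' hd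
    exact (Groth.Agent.CohFound.hc0 ((Groth.Agent.CohFound.abF (Proj (CohB1.polyGrading n R))).obj
        (Twist.twist (CohB1.polyGrading n R) d)) ⊤).toEquiv.subsingleton
  · refine Groth.Agent.CohFound.ProjNum.subsingleton_hc_Od (d := d) q hq ?_
    by_cases h : q = n
    · exact Or.inl (by by_contra h'; exact hn ⟨h, by omega⟩)
    · exact Or.inr h

end Groth.Agent.S0844
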