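import Groth.Statements.S1659
import Groth.Agent.Lib.SecDiv18.Peel

set_option autoImplicit false
universe u
open CategoryTheory CategoryTheory.Limits AlgebraicGeometry
open Divisors

namespace Groth.Agent.S1659

/-- Let X be Noetherian, D an effective Cartier divisor and D_1, …, D_r effective Cartier divisors which
are integral as closed subschemes, with D contained set-theoretically in their union. Then D = Σ a_i
D_i for some a_i ≥ 0, i.e. the ideal sheaf of D is the product of the a_i-th powers of the ideal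
sheaves of the D_i. -/
theorem result (X : Scheme.{u}) [IsNoetherian X] (D : X.IdealSheafData) (hD : BlowUp.IsEffCartierIdeal D)
    (r : ℕ) (Ds : Fin r → X.IdealSheafData) (hDs : ∀ i, BlowUp.IsEffCartierIdeal (Ds i)) (hint : ∀ i, IsIntegral (Ds i).subscheme)
    (hsub : (D.support : Set X) ⊆ ⋃ i, ((Ds i).support : Set X)) :
    ∃ a : Fin r → ℕ, D = ∏ i, Ds i ^ a i := by
  have hnd : ∀ i (J : X.IdealSheafData), D ≤ J → J ≤ Ds i → J * Ds i ≠ J := by
    intro i J hJ hJi he
    obtain ⟨z, hz, -⟩ := Groth.Agent.SecDiv.exists_generic (hint i)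
    obtain ⟨y, hyJ, -, hmax⟩ := Groth.Agent.SecDiv.exists_maximal_of_colon_eq (hDs i) he hz
    obtain ⟨w, hw, hne⟩ := Groth.Agent.SecDiv.exists_proper_generisation hD (Scheme.IdealSheafData.support_antitone hJ hyJ)
    exact hne (hmax w hw)
  obtain ⟨a, R, hZ, hle, hno⟩ := Groth.Agent.SecDiv.exists_peel Ds hDs D hnd
  have hR : BlowUp.IsEffCartierIdeal R := Groth.Agent.EffCartier.isEffCartierIdeal_of_mul_right (hZ ▸ hD)
  have htop : R = ⊤ := by
    rw [← Scheme.IdealSheafData.support_eq_bot_iff]
    ext z
    refine ⟨fun hz => ?_, fun h => h.elim⟩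
    obtain ⟨y, hy, -, hymax⟩ := Groth.Agent.SecDiv.exists_maximal_generisation R hz
    have hy1 := Groth.Agent.SecDiv.ringKrullDim_generic hR hy hymax
    obtain ⟨i, hi⟩ := Set.mem_iUnion.mp (hsub (Scheme.IdealSheafData.support_antitone hle hy))
    obtain ⟨x, hx, hcl⟩ := Groth.Agent.SecDiv.exists_generic (hint i)
    have hxy : x ⤳ y := specializes_iff_mem_closure.mpr (hcl.le hi)
    have hne : x ≠ y := fun he => by
      subst he
      exact hno i (Groth.Agent.SecDiv.le_of_support (hint i) (hcl.le.trans (R.support.isClosed.closure_subset_iff.mpr (Set.singleton_subset_iff.mpr hy))))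
    have h2 := Groth.Agent.SecDiv.two_le_of_specializes hxy hne
      (Groth.Agent.SecDiv.ringKrullDim_generic (hDs i) hx fun w hw hwx =>
        (hwx.antisymm (specializes_iff_mem_closure.mpr (hcl.le hw))).eq)
    rw [hy1] at h2
    exact absurd h2 (by decide)
  refine ⟨a, ?_⟩
  rw [hZ, htop, Groth.Agent.SecDiv.mul_top', Finsupp.prod_fintype _ _ fun i => pow_zero _]

end Groth.Agent.S1659
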