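import Groth.Statements.S4512
import Groth.Agent.Lib.AdicSmooth.RegularIff
import Groth.Agent.Lib.RegCpl3.Basic

set_option autoImplicit false
universe u
open EGA41

namespace Groth.Agent.S4512

open IsLocalRing in
/-- Let k be a field and A a Noetherian local k-algebra with residue field K, and suppose A is formally
smooth over k for the adic topology of its maximal ideal (k discrete). Then A is geometrically
regular over k, i.e. A ⊗_k k' is a regular ring for every finite extension k' of k; and the adic
completion of A is isomorphic, as a ring, to a power series ring K[[T_1, …, T_n]] (existence of a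
ring isomorphism; no compatibility with k is asserted, and none holds in general when K is
inseparable over k). -/
theorem result {k A : Type u} [Field k] [CommRing A]
    [IsLocalRing A] [IsNoetherianRing A] [Algebra k A] (h : CAlgX.IsAdicFormallySmooth k A (maximalIdeal A)) :
    CAlg.IsGeometricallyRegular k A ∧
      ∃ n : ℕ, Nonempty (AdicCompletion (maximalIdeal A) A ≃+* MvPowerSeries (Fin n) (ResidueField A)) := by
  refine ⟨fun K _ _ _ => ?_, ?_⟩
  · have : IsNoetherianRing (TensorProduct k K A) := by
      have : IsNoetherianRing (TensorProduct k A K) := Algebra.FiniteType.isNoetherianRing A _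
      exact isNoetherianRing_of_ringEquiv (TensorProduct k A K) (Algebra.TensorProduct.comm k A K).toRingEquiv
    refine Groth.Agent.RegCpl3.isRegularRing_of_maximal fun M hM => ?_
    let inA : A →ₐ[k] TensorProduct k K A := Algebra.TensorProduct.includeRight
    have hint : inA.toRingHom.IsIntegral := by
      have h1 : (algebraMap A (TensorProduct k A K)).IsIntegral :=
        algebraMap_isIntegral_iff.2 (Algebra.IsIntegral.of_finite A _)
      have : inA.toRingHom = (Algebra.TensorProduct.comm k A K).toRingEquiv.toRingHom.comp
          (algebraMap A (TensorProduct k A K)) := RingHom.ext fun a => rfl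
      rw [this]
      exact RingHom.IsIntegral.trans _ _ h1
        (RingHom.isIntegral_of_surjective _ (Algebra.TensorProduct.comm k A K).surjective)
    let _ : Algebra A (TensorProduct k K A) := inA.toRingHom.toAlgebra
    have : Algebra.IsIntegral A (TensorProduct k K A) := algebraMap_isIntegral_iff.1 hint
    have hmax : M.comap inA = maximalIdeal A :=
      IsLocalRing.eq_maximalIdeal (Ideal.isMaximal_comap_of_isIntegral_of_isMaximal (R := A) M)
    exact Groth.Agent.AdicSmooth.isRegularLocalRing_of_adicFS
      (Groth.Agent.AdicSmooth.adicFS_localization_baseChange h K M hmax)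
  · have := Groth.Agent.Compl.isNoetherianRing_maximalIdeal_adicCompletion A
    have hreg := Groth.Agent.AdicSmooth.isRegularLocalRing_of_adicFS h
    rw [Groth.Agent.Compl.isRegularLocalRing_adicCompletion_iff A] at hreg
    have := Groth.Agent.PrimeField.perfectField_bot k
    obtain ⟨d, ⟨e⟩⟩ := (Groth.Agent.AdicSmooth.adicFS_iff_regular_complete (⊥ : Subfield k)
      (AdicCompletion (maximalIdeal A) A)).2 hreg
    have hres : ∃ f : ResidueField (AdicCompletion (maximalIdeal A) A) ≃+* ResidueField A, True := by
      refine ⟨(RingEquiv.ofBijective (ResidueField.map (algebraMap A (AdicCompletion (maximalIdeal A) A)))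
        ⟨RingHom.injective _, fun z => ?_⟩).symm, trivial⟩
      obtain ⟨y, rfl⟩ := residue_surjective z
      obtain ⟨r, hr⟩ := Groth.Agent.AdicSmooth.exists_sub_mem (maximalIdeal A) (IsNoetherian.noetherian _) 1 y
      refine ⟨residue A r, ?_⟩
      rw [pow_one, ← AdicCompletion.maximalIdeal_eq_map, ← residue_eq_zero_iff, map_sub, sub_eq_zero] at hr
      rw [hr, ResidueField.map_residue]
    obtain ⟨f, -⟩ := hres
    let g : MvPowerSeries (Fin d) (ResidueField (AdicCompletion (maximalIdeal A) A)) ≃+*
        MvPowerSeries (Fin d) (ResidueField A) :=
      RingEquiv.ofRingHom (MvPowerSeries.map f.toRingHom) (MvPowerSeries.map f.symm.toRingHom)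
        (RingHom.ext fun x => MvPowerSeries.ext fun n => by simp [MvPowerSeries.coeff_map])
        (RingHom.ext fun x => MvPowerSeries.ext fun n => by simp [MvPowerSeries.coeff_map])
    exact ⟨d, ⟨e.trans g⟩⟩

end Groth.Agent.S4512
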