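import Groth.Statements.S4535
import Groth.Agent.Lib.AdicSmooth.Basic

set_option autoImplicit false
universe u
open EGA41

namespace Groth.Agent.S4535

open TensorProduct in
/-- Let B (𝔟-adic) be formally smooth over A (𝔞-adic) and let A' (𝔞'-adic) be a topological A-algebra (a
power of 𝔞 maps into 𝔞'). Then the A'-algebra A' ⊗_A B, with the tensor product topology, i.e. the
adic topology of the ideal generated by the images of 𝔞' and 𝔟, is formally smooth over A'. -/
theorem result {A B A' : Type u} [CommRing A] [CommRing B] [CommRing A'] [Algebra A B] [Algebra A A']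
    (𝔞 : Ideal A) (𝔟 : Ideal B) (𝔞' : Ideal A') (hAA' : ∃ k : ℕ, (𝔞 ^ k).map (algebraMap A A') ≤ 𝔞')
    (hB : EGA41.IsFormallySmoothAdic A 𝔞 B 𝔟) :
    EGA41.IsFormallySmoothAdic A' 𝔞' (A' ⊗[A] B)
      (𝔞'.map (algebraMap A' (A' ⊗[A] B)) ⊔
        𝔟.map (Algebra.TensorProduct.includeRight : B →ₐ[A] A' ⊗[A] B).toRingHom) := by
  intro C _ _ J hJ hC u hu
  letI : Algebra A C := ((algebraMap A' C).comp (algebraMap A A')).toAlgebra
  haveI : IsScalarTower A A' C := IsScalarTower.of_algebraMap_eq fun _ => rfl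
  obtain ⟨k, hk⟩ := hu
  obtain ⟨j, hj⟩ := hAA'
  obtain ⟨i, hi⟩ := hC
  let u₀ : B →ₐ[A] C ⧸ J := (u.restrictScalars A).comp Algebra.TensorProduct.includeRight
  have hu₀ : ∃ k : ℕ, ∀ x ∈ 𝔟 ^ k, u₀ x = 0 := by
    refine ⟨k, fun x hx => hk _ (Ideal.pow_right_mono le_sup_right k ?_)⟩
    rw [← Ideal.map_pow]
    exact Ideal.mem_map_of_mem _ hx
  have hC' : (𝔞 ^ (j * i)).map (algebraMap A C) ≤ ⊥ := by
    rw [IsScalarTower.algebraMap_eq A A' C, ← Ideal.map_map, ← hi, pow_mul, Ideal.map_pow]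
    exact Ideal.map_mono (Ideal.pow_right_mono hj i)
  obtain ⟨v, hv⟩ := hB C J hJ ⟨j * i, le_bot_iff.1 hC'⟩ u₀ hu₀
  refine ⟨Algebra.TensorProduct.lift (Algebra.ofId A' C) v (fun _ _ => Commute.all _ _),
      Algebra.TensorProduct.ext (by ext) (AlgHom.ext fun b => ?_)⟩
  have h1 := AlgHom.congr_fun hv b
  simpa [u₀] using h1

end Groth.Agent.S4535
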