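import Groth.Statements.S4573
import Groth.Agent.Lib.PPoly3.PRadical
import Groth.Agent.S4512
import Groth.Agent.Lib.AdicSmooth.PrimeField

set_option autoImplicit false
universe u
open TensorProduct IsLocalRing
open EGA41

namespace Groth.Agent.S4573

/-- Let k be a field of characteristic exponent p and A a Noetherian local k-algebra. Then A is formally
smooth over k for the adic topology of its maximal ideal if and only if, for every finite extension
k' of k with k'^p ⊆ k, the ring k' ⊗_k A is regular. -/
theorem result {k A : Type u} [Field k] (p : ℕ)
    [ExpChar k p] [CommRing A] [IsLocalRing A] [IsNoetherianRing A] [Algebra k A] :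
    CAlgX.IsAdicFormallySmooth k A (maximalIdeal A) ↔
      ∀ (k' : Type u) [Field k'] [Algebra k k'], Module.Finite k k' →
        (∀ x : k', x ^ p ∈ (algebraMap k k').range) → IsRegularRing (k' ⊗[k] A) := by
  constructor
  · intro h k' _ _ hfin _
    exact (Groth.Agent.S4512.result h).1 k' hfin
  · intro h
    haveI : IsRegularRing (k ⊗[k] A) := h k inferInstance fun x => ⟨x ^ p, rfl⟩
    haveI : IsRegularRing A := IsRegularRing.of_ringEquiv (Algebra.TensorProduct.lid k A).toRingEquiv
    haveI : IsRegularLocalRing A := IsRegularLocalRing.of_isRegularRing_of_isLocalRing A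
    rcases (expChar_is_prime_or_one k p).symm with hp | hp
    · subst hp
      haveI := charZero_of_expChar_one' k
      exact (AdicSmooth.adicFS_iff_regular k A).mpr inferInstance
    · haveI : Fact p.Prime := ⟨hp⟩
      haveI : CharP k p := by
        obtain ⟨_⟩ | ⟨_⟩ := ‹ExpChar k p›
        · exact absurd hp Nat.not_prime_one
        · assumption
      haveI := PrimeField.perfectField_bot k
      refine PrimeField.isAdicFormallySmooth_of_symGr
        (PrimeField.symGr_of_isAdicFormallySmooth ((AdicSmooth.adicFS_iff_regular (⊥ : Subfield k) A).mpr inferInstance))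
        (PPoly3.injective_lTensor_of_linearIndependent fun f hf => PPoly3.linearIndependent_image p h f hf)

end Groth.Agent.S4573
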