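import Groth.Statements.S15544
import Groth.Agent.Lib.Stein6.UnibranchFibres
import Groth.Agent.Lib.UnivOpenFin5.Normal
-- import your own Groth.Agent.* helpers here

set_option autoImplicit false
set_option linter.style.haveILetI false
open CategoryTheory AlgebraicGeometry
universe u
open Coherent

namespace Groth.Agent.S15544

/-- Let X and Y be integral schemes, Y locally Noetherian with all local rings integrally closed, and f
: X ⟶ Y a proper birational morphism (the generic point of X maps to that of Y and the stalk map
there is an isomorphism). Then every fibre of f is connected and nonempty. (The published statement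
takes X and Y Noetherian; over a locally Noetherian Y this is the same assertion fibre by fibre.) -/
theorem result {X Y : Scheme.{u}} [IsIntegral X]
    [IsIntegral Y] [IsLocallyNoetherian Y] (hY : Pi1.IsNormalScheme Y) (f : X ⟶ Y) [IsProper f]
    (hgen : f.base (genericPoint X) = genericPoint Y) (hbir : IsIso (f.stalkMap (genericPoint X)))
    (y : Y) : ConnectedSpace ↥(f.fiber y) := by
  haveI : IsLocallyNoetherian X := LocallyOfFiniteType.isLocallyNoetherian f
  have hdom : f.base (genericPoint X) ⤳ genericPoint Y := specializes_of_eq hgen
  refine Groth.Agent.Stein6.connectedSpace_fiber f hdom (fun x _ => ⟨0, ?_⟩) y ?_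
  · rw [pow_zero, pow_one]
    obtain ⟨b, hb⟩ := (ConcreteCategory.bijective_of_isIso (f.stalkMap (genericPoint X))).2 x
    obtain ⟨c, rfl⟩ : ∃ c, (Y.presheaf.stalkSpecializes hdom).hom c = b := by
      haveI : IsIso (Y.presheaf.stalkSpecializes hdom) := (Y.presheaf.stalkCongr (.of_eq hgen.symm)).isIso_hom
      exact (ConcreteCategory.bijective_of_isIso (Y.presheaf.stalkSpecializes hdom)).2 b
    exact ⟨c, hb⟩
  · haveI := (hY y).1
    haveI := (hY y).2
    exact (Groth.Agent.UnivOpenFin5.isGeomUnibranch_of_normal (Y.presheaf.stalk y)).1

end Groth.Agent.S15544
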