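import Groth.Statements.S3321
import Groth.Agent.Lib.ArInter.Genus
-- import your own Groth.Agent.* helpers here

set_option autoImplicit false
universe u
open CategoryTheory CategoryTheory.Limits AlgebraicGeometry
open Models

namespace Groth.Agent.S3321

/-- In the following situation (R a discrete valuation ring with residue field k, C a smooth proper
curve over its fraction field K with H^0(C, O_C) = K, X a regular proper model, Γ_1, …, Γ_n the
irreducible components of the closed fibre with multiplicities m_i, L_i ⊗ I(Γ_i) ≅ O_X) one has g_C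
= 1 + Σ_i m_i ([κ_i : k] (g_i - 1) - (Γ_i · Γ_i) / 2), where g_C = dim_K H^1(C, O_C), κ_i = H^0(Γ_i,
O) and g_i is the genus of Γ_i, so that [κ_i : k] g_i = dim_k H^1(Γ_i, O). Stated multiplied by 2
and with [κ_i : k](g_i - 1) written as dim_k H^1(Γ_i, O) - dim_k H^0(Γ_i, O). -/
theorem result (R : Type u) [CommRing R] [IsDomain R] [IsDiscreteValuationRing R]
    (C X : Scheme.{u}) (f : C ⟶ Spec (CommRingCat.of (FractionRing R))) (p : X ⟶ Spec (CommRingCat.of R))
    (hC : Curve.IsSmoothProperCurve (FractionRing R) C f) (hH0 : IsIso f.appTop)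
    (hX : Models.IsRegularProperModel R X p C f)
    {n : ℕ} (Γ : Fin n → ArSurf.VertComp R (Over.mk p)) (hΓ : Models.IsComponentList R (Over.mk p) Γ)
    (L : Fin n → X.Modules) (hL : ∀ i, ClSub.IsInverseOf (L i) (ClSub.idealMod (Γ i).ι.ker)) :
    2 * (Models.curveGenus (FractionRing R) C f : ℤ) =
      2 + ∑ i, (Models.mult R (Over.mk p) (Γ i) : ℤ) *
        (2 * ((Models.h1 R (Over.mk p) (Γ i) : ℤ) - (Models.wdeg R (Over.mk p) (Γ i) : ℤ)) - ArSurf.inter R (Over.mk p) (L i) (Γ i)) := by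
  have hS := Groth.Agent.ArInter.isSurf_of_model hC hX
  obtain ⟨π, hπ⟩ := IsDiscreteValuationRing.exists_irreducible R
  have hE := fun i => Groth.Agent.ArInter.isEffCartierIdeal_ker (X := Over.mk p) (hL i)
  obtain ⟨a, Q, hZ, hQ, -, hno⟩ := Groth.Agent.ArInter.exists_decomp hS.pre hπ Γ hE hΓ.1
  obtain rfl := Groth.Agent.ArInter.eq_top_of_cover hS.pre hπ Γ hE
    (Groth.Agent.ArInter.cover_of_isComponentList hΓ) hZ hQ hno
  have hm : ∀ i, Models.mult R (Over.mk p) (Γ i) = a i :=
    fun i => Groth.Agent.ArInter.mult_eq hS.pre hπ Γ hE hΓ.1 hZ hno i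
  simp only [hm]
  have hker : ∀ Δ, ∑ r, (a r : ℤ) * ArSurf.inter R (Over.mk p) (L r) Δ = 0 := fun Δ =>
    (Groth.Agent.ArInter.sum_mul_inter hS hπ Γ L hL hZ hQ Δ).trans (Groth.Agent.ArInter.ideg_top hS Δ)
  rw [← Scheme.IdealSheafData.one_eq_top, mul_one] at hZ
  have hchi := Groth.Agent.ArInter.two_mul_chiLen hS Γ hΓ.1 L hL a
  rw [← hZ, Groth.Agent.ArInter.chiLen_fibre hS hπ
      (hZ ▸ (Groth.Agent.ArInter.finLen_finsetProd hS Γ hE a Finset.univ).2),
    Groth.Agent.ArInter.finrank_HH_eq_generic hX.2.1 hX.1, Groth.Agent.ArInter.finrank_HH_eq_generic hX.2.1 hX.1,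
    show Models.hRank (FractionRing R) C f (Coh.structureModule C) 0 = 1 from ?_] at hchi
  · have hzero : ∑ q, ∑ r, (a q : ℤ) * a r * ArSurf.inter R (Over.mk p) (L r) (Γ q) = 0 :=
      Finset.sum_eq_zero fun q _ => by
        simp only [mul_assoc, ← Finset.mul_sum, hker (Γ q), mul_zero]
    rw [hzero, neg_zero, zero_add] at hchi
    have hh : ∀ q, (a q : ℤ) * (2 * ((Models.h1 R (Over.mk p) (Γ q) : ℤ) - Models.wdeg R (Over.mk p) (Γ q)) -
        ArSurf.inter R (Over.mk p) (L q) (Γ q)) = -((a q : ℤ) * (ArSurf.inter R (Over.mk p) (L q) (Γ q) +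
          2 * ((Models.wdeg R (Over.mk p) (Γ q) : ℤ) - Models.h1 R (Over.mk p) (Γ q)))) := fun q => by ring
    rw [Finset.sum_congr rfl fun q _ => hh q, Finset.sum_neg_distrib, ← hchi, Models.curveGenus]
    push_cast
    ring
  · letI : C.Over (Spec (CommRingCat.of (FractionRing R))) := ⟨f⟩
    let K := FractionRing R
    let x₀ : Coh.HH C (Coh.structureModule C) 0 :=
      (Groth.Agent.CurveCoh17.hh0 (Coh.structureModule C)).symm (1 : Γ(C, ⊤))
    have hψ : Function.Bijective (Coh.toGlobal f : K →+* Γ(C, ⊤)) :=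
      (ConcreteCategory.bijective_of_isIso f.appTop).comp
        (ConcreteCategory.bijective_of_isIso (Scheme.ΓSpecIso (CommRingCat.of K)).inv)
    have hval : ∀ c : K, Groth.Agent.CurveCoh17.hh0 (Coh.structureModule C) (LinearMap.toSpanSingleton K _ x₀ c) =
        (Coh.toGlobal f c : Γ(C, ⊤)) := fun c => by
      show Groth.Agent.CurveCoh17.hh0 (Coh.structureModule C) (Coh.toGlobal f c • x₀) = _
      refine (Groth.Agent.CurveCoh17.hh0_smul (M := Coh.structureModule C) _ x₀).trans ?_
      have hx : Groth.Agent.CurveCoh17.hh0 (Coh.structureModule C) x₀ = (1 : Γ(C, ⊤)) :=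
        (Groth.Agent.CurveCoh17.hh0 (Coh.structureModule C)).apply_symm_apply _
      exact (congrArg _ hx).trans (mul_one (Coh.toGlobal f c : Γ(C, ⊤)))
    have hb : Function.Bijective (LinearMap.toSpanSingleton K _ x₀) := by
      refine ⟨fun c d h => hψ.1 ?_, fun z => ?_⟩
      · rw [← hval, ← hval, h]
      · obtain ⟨c, hc⟩ := hψ.2 (Groth.Agent.CurveCoh17.hh0 (Coh.structureModule C) z)
        exact ⟨c, (Groth.Agent.CurveCoh17.hh0 (Coh.structureModule C)).injective ((hval c).trans hc)⟩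
    show Module.finrank K (Coh.HH C (Coh.structureModule C) 0) = 1
    rw [← (LinearEquiv.ofBijective _ hb).finrank_eq, Module.finrank_self]

end Groth.Agent.S3321
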