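import Groth.Statements.S3322
import Groth.Agent.S3321
import Groth.Agent.Lib.ArInter.Model
import Groth.Agent.Lib.HensProper6.Fibres
-- import your own Groth.Agent.* helpers here

set_option autoImplicit false
set_option linter.style.haveILetI false
universe u
open CategoryTheory CategoryTheory.Limits AlgebraicGeometry
open Models

namespace Groth.Agent.S3322

open Groth.Agent in
/-- Ranks over the residue field of the cohomology of a vertical curve are multiples of the degree of the
field of constants. -/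
theorem wdeg_dvd_finrank (R : Type u) [CommRing R] [IsDomain R] [IsDiscreteValuationRing R]
    {X : Over (Spec (CommRingCat.of R))} (hX : ArInter.IsSurf X) (Γ : ArSurf.VertComp R X) :
    0 < Models.wdeg R X Γ ∧ ∀ (M : Γ.curve.left.Modules) (i : ℕ),
      (Models.wdeg R X Γ : ℤ) ∣ (Module.finrank (IsLocalRing.ResidueField R) (Coh.HH Γ.curve.left M i) : ℤ) := by
  let k := IsLocalRing.ResidueField R
  haveI : IsProper Γ.curve.hom := ArInter.isProper_curve hX Γ
  let κ := Coh.Γtop Γ.curve.left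
  let φ : k →+* Γ(Γ.curve.left, ⊤) := Coh.toGlobal Γ.curve.hom
  letI : CommRing κ := inferInstanceAs (CommRing Γ(Γ.curve.left, ⊤))
  letI : Algebra k κ := RingHom.toAlgebra (S := κ) φ
  haveI : Module.Finite k κ := HensProper6.finite_toGlobal Γ.curve.hom
  haveI : IsDomain κ := inferInstanceAs (IsDomain Γ(Γ.curve.left, ⊤))
  have hF : IsField κ := isField_of_isIntegral_of_isField' (Field.toIsField k)
  letI := hF.toField
  have key : ∀ (M : Γ.curve.left.Modules) (i : ℕ), Module.finrank k κ * Module.finrank κ (Coh.HH Γ.curve.left M i) =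
      Module.finrank k (Coh.HH Γ.curve.left M i) := fun M i => by
    haveI : IsScalarTower k κ (Coh.HH Γ.curve.left M i) := ⟨fun r c x => by
      rw [Algebra.smul_def, mul_smul]
      rfl⟩
    exact Module.finrank_mul_finrank k κ (Coh.HH Γ.curve.left M i)
  let O := Coh.structureModule Γ.curve.left
  let x₀ : Coh.HH Γ.curve.left O 0 := (CurveCoh17.hh0 O).symm (1 : Γ(Γ.curve.left, ⊤))
  have hval : ∀ c : κ, CurveCoh17.hh0 O (LinearMap.toSpanSingleton κ _ x₀ c) = (c : Γ(Γ.curve.left, ⊤)) := fun c => by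
    refine (CurveCoh17.hh0_smul (M := O) c x₀).trans ?_
    exact (congrArg _ ((CurveCoh17.hh0 O).apply_symm_apply (1 : Γ(Γ.curve.left, ⊤)))).trans
      (mul_one (c : Γ(Γ.curve.left, ⊤)))
  have hb : Function.Bijective (LinearMap.toSpanSingleton κ _ x₀) :=
    ⟨fun c d h => ((hval c).symm.trans (congrArg _ h)).trans (hval d),
      fun z => ⟨_, (CurveCoh17.hh0 O).injective (hval _)⟩⟩
  have hw : Models.wdeg R X Γ = Module.finrank k κ := by
    refine (key O 0).symm.trans ?_
    rw [← (LinearEquiv.ofBijective _ hb).finrank_eq, Module.finrank_self, mul_one]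
  refine ⟨hw ▸ Module.finrank_pos, fun M i => ?_⟩
  rw [hw, ← key M i, Nat.cast_mul]
  exact dvd_mul_right _ _


/-- In the following situation (R a discrete valuation ring with residue field k, C a smooth proper
curve over its fraction field K with H^0(C, O_C) = K, X a regular proper model, Γ_1, …, Γ_n the
irreducible components of the closed fibre with multiplicities m_i, L_i ⊗ I(Γ_i) ≅ O_X) the data n,
m_i, a_ij = (Γ_i · Γ_j) = deg_k(L_j|Γ_i), w_i = dim_k H^0(Γ_i, O) and g_i with w_i g_i = dim_k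
H^1(Γ_i, O) is a numerical type (n > 0, m_i > 0, (a_ij) symmetric with non-negative off-diagonal
entries, connected, killing m, w_i | a_ij, g_i ≥ 0), and its genus is the genus dim_K H^1(C, O_C) of
C. -/
theorem result (R : Type u) [CommRing R] [IsDomain R] [IsDiscreteValuationRing R]
    (C X : Scheme.{u}) (f : C ⟶ Spec (CommRingCat.of (FractionRing R))) (p : X ⟶ Spec (CommRingCat.of R))
    (hC : Curve.IsSmoothProperCurve (FractionRing R) C f) (hH0 : IsIso f.appTop)
    (hX : Models.IsRegularProperModel R X p C f)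
    {n : ℕ} (Γ : Fin n → ArSurf.VertComp R (Over.mk p)) (hΓ : Models.IsComponentList R (Over.mk p) Γ)
    (L : Fin n → X.Modules) (hL : ∀ i, ClSub.IsInverseOf (L i) (ClSub.idealMod (Γ i).ι.ker)) :
    ∃ T : Models.NumericalType n,
      (∀ i, T.m i = (Models.mult R (Over.mk p) (Γ i) : ℤ)) ∧ (∀ i j, T.a i j = ArSurf.inter R (Over.mk p) (L j) (Γ i)) ∧
      (∀ i, T.w i = (Models.wdeg R (Over.mk p) (Γ i) : ℤ)) ∧
      (∀ i, T.w i * T.g i = (Models.h1 R (Over.mk p) (Γ i) : ℤ)) ∧
      T.genus = (Models.curveGenus (FractionRing R) C f : ℤ) := by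
  classical
  have hS := Groth.Agent.ArInter.isSurf_of_model hC hX
  have hpos : 0 < n := by
    obtain ⟨x, hx⟩ := (Groth.Agent.ArInter.isConnected_specialFibreSet hC hH0 hX).nonempty
    obtain ⟨i, -⟩ := Groth.Agent.ArInter.cover_of_isComponentList hΓ x hx
    exact i.pos
  have hd := fun i => wdeg_dvd_finrank R hS (Γ i)
  have hg : ∀ i, (Models.wdeg R (Over.mk p) (Γ i) : ℤ) * ((Models.h1 R (Over.mk p) (Γ i) : ℤ) / Models.wdeg R (Over.mk p) (Γ i)) =
      Models.h1 R (Over.mk p) (Γ i) := fun i => Int.mul_ediv_cancel' ((hd i).2 _ 1)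
  have hm : ∀ i, 0 < Models.mult R (Over.mk p) (Γ i) := fun i => by
    obtain ⟨a, Q, ha, -, -, -, -, hc⟩ := Groth.Agent.ArInter.exists_weights hS hΓ.1 hL
    rw [(hc (Groth.Agent.ArInter.cover_of_isComponentList hΓ)).2 i]
    exact ha i
  let T : Models.NumericalType n :=
    { m := fun i => (Models.mult R (Over.mk p) (Γ i) : ℤ)
      a := Matrix.of fun i j => ArSurf.inter R (Over.mk p) (L j) (Γ i)
      w := fun i => (Models.wdeg R (Over.mk p) (Γ i) : ℤ)
      g := fun i => (Models.h1 R (Over.mk p) (Γ i) : ℤ) / Models.wdeg R (Over.mk p) (Γ i)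
      pos := hpos
      m_pos := fun i => Int.natCast_pos.mpr (hm i)
      w_pos := fun i => Int.natCast_pos.mpr (hd i).1
      g_nonneg := fun i => Int.ediv_nonneg (Int.natCast_nonneg _) (Int.natCast_nonneg _)
      symm := Matrix.IsSymm.ext fun i j => Groth.Agent.ArInter.inter_symm hS hΓ.1 hL i j
      offDiag_nonneg := fun i j hij => by
        have hE := fun q => Groth.Agent.ArInter.isEffCartierIdeal_ker (X := Over.mk p) (hL q)
        exact (Groth.Agent.ArInter.inter_nonneg_and_eq_zero_iff hS (Γ i) (hE j) (by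
          rw [Groth.Agent.ArInter.coe_support_ker]
          exact Groth.Agent.ArInter.genPtOf_notMem_range hS.pre (hE i) (hE j) fun e => hij (hΓ.1 e)) (hL j)).1
      connected := fun I hI hI' => Groth.Agent.ArInter.exists_adjacent hS
        (Groth.Agent.ArInter.isConnected_specialFibreSet hC hH0 hX) hΓ hL I hI hI'
      mulVec_m := funext fun i => by
        show ∑ j, ArSurf.inter R (Over.mk p) (L j) (Γ i) * (Models.mult R (Over.mk p) (Γ j) : ℤ) = 0
        obtain ⟨a, Q, -, -, -, hsum, -, hc⟩ := Groth.Agent.ArInter.exists_weights hS hΓ.1 hL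
        obtain ⟨rfl, hm'⟩ := hc (Groth.Agent.ArInter.cover_of_isComponentList hΓ)
        simp only [hm', mul_comm (ArSurf.inter R (Over.mk p) _ (Γ i))]
        exact (hsum (Γ i)).trans (Groth.Agent.ArInter.ideg_top hS _)
      w_dvd := fun i j => by
        show (Models.wdeg R (Over.mk p) (Γ i) : ℤ) ∣ ArSurf.inter R (Over.mk p) (L j) (Γ i)
        simp only [ArSurf.inter, ArSurf.curveDeg, FGA.eulerCharLE, Finset.sum_range_succ, Finset.range_zero,
          Finset.sum_empty, pow_zero, pow_one, one_mul, zero_add]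
        exact ((((hd i).2 _ 0).add (((hd i).2 _ 1).mul_left _)).sub (((hd i).2 _ 0).add (((hd i).2 _ 1).mul_left _))) }
  refine ⟨T, fun _ => rfl, fun _ _ => rfl, fun _ => rfl, hg, ?_⟩
  have h := Groth.Agent.S3321.result R C X f p hC hH0 hX Γ hΓ L hL
  have h1 : ∑ i, T.m i * T.w i * (T.g i - 1) =
      ∑ i, (Models.mult R (Over.mk p) (Γ i) : ℤ) * ((Models.h1 R (Over.mk p) (Γ i) : ℤ) - Models.wdeg R (Over.mk p) (Γ i)) :=
    Finset.sum_congr rfl fun i _ => by
      show (Models.mult R (Over.mk p) (Γ i) : ℤ) * (Models.wdeg R (Over.mk p) (Γ i) : ℤ) *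
        ((Models.h1 R (Over.mk p) (Γ i) : ℤ) / Models.wdeg R (Over.mk p) (Γ i) - 1) = _
      rw [mul_assoc, mul_sub, hg i, mul_one]
  have h2 : ∀ i, (Models.mult R (Over.mk p) (Γ i) : ℤ) * (2 * ((Models.h1 R (Over.mk p) (Γ i) : ℤ) -
      Models.wdeg R (Over.mk p) (Γ i)) - ArSurf.inter R (Over.mk p) (L i) (Γ i)) =
      2 * ((Models.mult R (Over.mk p) (Γ i) : ℤ) * ((Models.h1 R (Over.mk p) (Γ i) : ℤ) - Models.wdeg R (Over.mk p) (Γ i))) -
        T.m i * T.a i i := fun i => by
    show _ = _ - (Models.mult R (Over.mk p) (Γ i) : ℤ) * ArSurf.inter R (Over.mk p) (L i) (Γ i)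
    ring
  rw [Finset.sum_congr rfl fun i _ => h2 i, Finset.sum_sub_distrib, ← Finset.mul_sum] at h
  show 1 + (∑ i, T.m i * T.w i * (T.g i - 1)) - (∑ i, T.m i * T.a i i) / 2 = _
  rw [h1]
  omega

end Groth.Agent.S3322
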