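import Groth.Statements.S3314
import Groth.Agent.Lib.ArInter.Twists

set_option autoImplicit false
universe u
open CategoryTheory CategoryTheory.Limits AlgebraicGeometry
open Models

namespace Groth.Agent.S3314

/-- Let R be a discrete valuation ring with fraction field K, C a smooth proper curve over K with H⁰(C,
O_C) = K, X a regular proper model of C over R, Γ_1, …, Γ_n the irreducible components of the closed
fibre with multiplicities m_i, and L_i invertible O_X-modules with L_i ⊗ I(Γ_i) ≅ O_X (that is, L_i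
= O_X(Γ_i)). For exponent vectors a, b with natural-number entries, the modules L_1^{a_1} ⊗ ⋯ ⊗
L_n^{a_n} and L_1^{b_1} ⊗ ⋯ ⊗ L_n^{b_n} are isomorphic if and only if a − b is an integer multiple
of (m_1, …, m_n). (Equivalently: the kernel of ℤⁿ → Pic(X), e_i ↦ [O_X(Γ_i)], is generated by (m_1,
…, m_n).) -/
theorem result (R : Type u) [CommRing R] [IsDomain R] [IsDiscreteValuationRing R]
    (C X : Scheme.{u}) (f : C ⟶ Spec (CommRingCat.of (FractionRing R))) (p : X ⟶ Spec (CommRingCat.of R))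
    (hC : Curve.IsSmoothProperCurve (FractionRing R) C f) (hH0 : IsIso f.appTop)
    (hX : Models.IsRegularProperModel R X p C f)
    {n : ℕ} (Γ : Fin n → ArSurf.VertComp R (Over.mk p)) (hΓ : Models.IsComponentList R (Over.mk p) Γ)
    (L : Fin n → X.Modules) (hL : ∀ i, ClSub.IsInverseOf (L i) (ClSub.idealMod (Γ i).ι.ker)) (a b : Fin n → ℕ) :
    Nonempty (FGA.multiTwist L a ≅ FGA.multiTwist L b) ↔
      ∃ c : ℤ, ∀ i, (a i : ℤ) - (b i : ℤ) = c * (Models.mult R (Over.mk p) (Γ i) : ℤ) := by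
  have hS := Groth.Agent.ArInter.isSurf_of_model hC hX
  have hE := fun i => Groth.Agent.ArInter.isEffCartierIdeal_ker (X := Over.mk p) (hL i)
  obtain ⟨π, hπ⟩ := IsDiscreteValuationRing.exists_irreducible R
  obtain ⟨m, Q, hZ, hQ, hm0, hno⟩ := Groth.Agent.ArInter.exists_decomp hS.pre hπ Γ hE hΓ.1
  obtain rfl := Groth.Agent.ArInter.eq_top_of_cover hS.pre hπ Γ hE
    (Groth.Agent.ArInter.cover_of_isComponentList hΓ) hZ hQ hno
  have hm := Groth.Agent.ArInter.mult_eq hS.pre hπ Γ hE hΓ.1 hZ hno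
  rw [Groth.Agent.SecDiv.mul_top'] at hZ
  have hA : ∀ c, ClSub.IsInverseOf (FGA.multiTwist L c) (ClSub.idealMod (∏ i, (Γ i).ι.ker ^ c i)) := fun c =>
    Groth.Agent.ArInter.isInverseOf_multiTwist _ hE L hL c
  have hF : ∀ k : ℕ, Groth.Agent.ArInter.fibreIdeal (Over.mk p) (π ^ k) = ∏ i, (Γ i).ι.ker ^ (k * m i) := fun k => by
    rw [Groth.Agent.ArInter.fibreIdeal_pow, hZ, ← Finset.prod_pow]
    exact Finset.prod_congr rfl fun i _ => by rw [← pow_mul, mul_comm]
  have hprod : ∀ c d : Fin n → ℕ,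
      (∏ i, (Γ i).ι.ker ^ c i) * (∏ i, (Γ i).ι.ker ^ d i) = ∏ i, (Γ i).ι.ker ^ (c i + d i) := fun c d => by
    rw [← Finset.prod_mul_distrib]
    exact Finset.prod_congr rfl fun i _ => (pow_add _ _ _).symm
  constructor
  · rintro ⟨e⟩
    obtain ⟨eI⟩ := Groth.Agent.ArInter.nonempty_iso_inverse
      (M := ClSub.idealMod (∏ i, (Γ i).ι.ker ^ a i)) (M' := ClSub.idealMod (∏ i, (Γ i).ι.ker ^ b i))
      ((hA a).map fun x => Groth.Agent.M2.tensorComm _ _ ≪≫ x)
      ((hA b).map fun x => Groth.Agent.M2.tensorComm _ _ ≪≫ x) e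
    let N := ∑ i, a i
    have haN : ∀ i, a i ≤ N * m i := fun i =>
      le_trans (Finset.single_le_sum (fun j _ => Nat.zero_le _) (Finset.mem_univ i)) (Nat.le_mul_of_pos_right _ (hm0 i))
    have hle : Groth.Agent.ArInter.fibreIdeal (Over.mk p) (π ^ N) ≤ ∏ i, (Γ i).ι.ker ^ a i := by
      rw [hF, show (∏ i, (Γ i).ι.ker ^ (N * m i)) = (∏ i, (Γ i).ι.ker ^ a i) * ∏ i, (Γ i).ι.ker ^ (N * m i - a i) by
        rw [hprod]; exact Finset.prod_congr rfl fun i _ => by rw [Nat.add_sub_cancel' (haN i)]]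
      intro U
      rw [Scheme.IdealSheafData.ideal_mul, Pi.mul_apply]
      exact Ideal.mul_le_left
    obtain ⟨M, hM⟩ := Groth.Agent.ArInter.exists_mul_eq_mul hS.pre (by
        exact (Groth.Agent.ArInter.bijective_appTop hC hH0 hX).comp
          (ConcreteCategory.bijective_of_isIso (Scheme.ΓSpecIso (CommRingCat.of R)).inv)) hπ hle eI
    rw [hF, hF, hprod, hprod] at hM
    have h := Groth.Agent.ArInter.exponent_eq hS.pre Γ hE hΓ.1 hM
    refine ⟨(N : ℤ) - M, fun i => ?_⟩
    have hi : ((N * m i + b i : ℕ) : ℤ) = ((M * m i + a i : ℕ) : ℤ) := congrArg _ (congrFun h i)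
    rw [hm i]
    push_cast at hi
    linarith
  · rintro ⟨c, hc⟩
    obtain ⟨k, rfl | rfl⟩ := Int.eq_nat_or_neg c
    · have h : a = fun i => b i + k * m i := funext fun i => by
        have := hc i
        rw [hm i] at this
        zify
        linarith
      subst h
      obtain ⟨f⟩ := Groth.Agent.ArInter.nonempty_idealMod_fibreIdeal hS.pre (pow_ne_zero k hπ.ne_zero)
      obtain ⟨j⟩ := Groth.Agent.CurveCoh17.nonempty_idealMod_mul
        (Groth.Agent.ArInter.isEffCartierIdeal_finsetProd _ b hE Finset.univ)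
        (Groth.Agent.ArInter.isEffCartierIdeal_fibreIdeal hS.pre (pow_ne_zero k hπ.ne_zero))
      exact Groth.Agent.ArInter.nonempty_iso_inverse (hA _) (hA b)
        (eqToIso (congrArg ClSub.idealMod (by rw [hF, hprod])) ≪≫ j.symm ≪≫
          Groth.Agent.M2.tensorIso (Iso.refl _) f.symm ≪≫ Groth.Agent.M2.tensorRUnit _)
    · have h : b = fun i => a i + k * m i := funext fun i => by
        have := hc i
        rw [hm i] at this
        zify
        linarith
      subst h
      obtain ⟨f⟩ := Groth.Agent.ArInter.nonempty_idealMod_fibreIdeal hS.pre (pow_ne_zero k hπ.ne_zero)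
      obtain ⟨j⟩ := Groth.Agent.CurveCoh17.nonempty_idealMod_mul
        (Groth.Agent.ArInter.isEffCartierIdeal_finsetProd _ a hE Finset.univ)
        (Groth.Agent.ArInter.isEffCartierIdeal_fibreIdeal hS.pre (pow_ne_zero k hπ.ne_zero))
      obtain ⟨r⟩ := Groth.Agent.ArInter.nonempty_iso_inverse (hA _) (hA a)
        (eqToIso (congrArg ClSub.idealMod (by rw [hF, hprod])) ≪≫ j.symm ≪≫
          Groth.Agent.M2.tensorIso (Iso.refl _) f.symm ≪≫ Groth.Agent.M2.tensorRUnit _)
      exact ⟨r.symm⟩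

end Groth.Agent.S3314
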