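import Groth.Statements.S3320
import Groth.Agent.Lib.ArInter.Model

set_option autoImplicit false
universe u
open CategoryTheory CategoryTheory.Limits AlgebraicGeometry
open Models

namespace Groth.Agent.S3320

/-- In the following situation (R a discrete valuation ring, C a smooth proper curve over its fraction
field with H^0(C, O_C) = K, X a regular proper model, Γ_1, …, Γ_n the irreducible components of the
closed fibre with multiplicities m_i, L_j ⊗ I(Γ_j) ≅ O_X), for every integer vector a one has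
Σ_{i,j} a_i a_j (Γ_i · Γ_j) ≤ 0, with equality if and only if a is a rational multiple of (m_1, …,
m_n). -/
theorem result (R : Type u) [CommRing R] [IsDomain R] [IsDiscreteValuationRing R]
    (C X : Scheme.{u}) (f : C ⟶ Spec (CommRingCat.of (FractionRing R))) (p : X ⟶ Spec (CommRingCat.of R))
    (hC : Curve.IsSmoothProperCurve (FractionRing R) C f) (hH0 : IsIso f.appTop)
    (hX : Models.IsRegularProperModel R X p C f)
    {n : ℕ} (Γ : Fin n → ArSurf.VertComp R (Over.mk p)) (hΓ : Models.IsComponentList R (Over.mk p) Γ)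
    (L : Fin n → X.Modules) (hL : ∀ i, ClSub.IsInverseOf (L i) (ClSub.idealMod (Γ i).ι.ker)) (a : Fin n → ℤ) :
    (∑ q : Fin n × Fin n, a q.1 * a q.2 * ArSurf.inter R (Over.mk p) (L q.2) (Γ q.1)) ≤ 0 ∧
      ((∑ q : Fin n × Fin n, a q.1 * a q.2 * ArSurf.inter R (Over.mk p) (L q.2) (Γ q.1)) = 0 ↔
        ∃ c : ℚ, ∀ i, (a i : ℚ) = c * (Models.mult R (Over.mk p) (Γ i) : ℚ)) := by
  have hS := Groth.Agent.ArInter.isSurf_of_model hC hX
  obtain ⟨w, Q, hw, -, -, hsum, -, hc⟩ := Groth.Agent.ArInter.exists_weights hS hΓ.1 hL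
  obtain ⟨rfl, hm⟩ := hc (Groth.Agent.ArInter.cover_of_isComponentList hΓ)
  let N : Fin n → Fin n → ℚ := fun j i => (ArSurf.inter R (Over.mk p) (L j) (Γ i) : ℚ)
  have hrow : ∀ i, ∑ j, (w j : ℚ) * N j i = 0 := fun i => by
    have h := congrArg (fun z : ℤ => (z : ℚ)) ((hsum (Γ i)).trans (Groth.Agent.ArInter.ideg_top hS (Γ i)))
    push_cast at h
    exact h
  have hw' : ∀ i, (0 : ℚ) < (w i : ℚ) := fun i => Nat.cast_pos.mpr (hw i)
  have hoff : ∀ i j, i ≠ j → 0 ≤ N j i := fun i j h => Int.cast_nonneg (Groth.Agent.ArInter.inter_nonneg hS hΓ.1 hL i j h)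
  have hsymm : ∀ i j, N i j = N j i := fun i j => Int.cast_inj.mpr (Groth.Agent.ArInter.inter_symm hS hΓ.1 hL i j)
  let S : ℤ := ∑ q : Fin n × Fin n, a q.1 * a q.2 * ArSurf.inter R (Over.mk p) (L q.2) (Γ q.1)
  have hS' : (S : ℚ) = ∑ i, ∑ j, (a i : ℚ) * (a j : ℚ) * N j i := by
    simp only [S, N]
    push_cast
    exact Fintype.sum_prod_type _
  have hle := Groth.Agent.ArInter.form_nonpos N _ hw' hoff hsymm (fun i => (hrow i).le) (fun i => (a i : ℚ))
  rw [← hS'] at hle
  refine ⟨by exact_mod_cast hle, fun h0 => ?_, fun ⟨c, hc⟩ => ?_⟩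
  · have h0' : ∑ i, ∑ j, (a i : ℚ) * (a j : ℚ) * N j i = 0 := by
      rw [← hS', show S = 0 from h0, Int.cast_zero]
    rcases isEmpty_or_nonempty (Fin n) with he | he
    · exact ⟨0, fun i => isEmptyElim i⟩
    let y := fun i => (a i : ℚ) / (w i : ℚ)
    obtain ⟨i₀⟩ := he
    refine ⟨y i₀, fun i => ?_⟩
    suffices h : y i = y i₀ by
      rw [hm i, ← h]
      exact (div_mul_cancel₀ _ (hw' i).ne').symm
    by_contra hi
    obtain ⟨p', hp', q', hq', hne⟩ := Groth.Agent.ArInter.exists_adjacent hS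
      (Groth.Agent.ArInter.isConnected_specialFibreSet hC hH0 hX) hΓ hL (Finset.univ.filter fun i => y i = y i₀)
      ⟨i₀, by simp⟩ (fun h => hi (Finset.filter_eq_self.mp h i (Finset.mem_univ i)))
    simp only [Finset.mem_filter, Finset.mem_univ, true_and] at hp' hq'
    exact hq' ((Groth.Agent.ArInter.eq_of_form_eq_zero N _ hw' hoff hsymm hrow (fun i => (a i : ℚ)) h0'
      (Int.cast_ne_zero.mpr hne)).symm.trans hp')
  · suffices h : (S : ℚ) = 0 by exact Int.cast_eq_zero.mp h
    rw [hS']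
    refine Finset.sum_eq_zero fun i _ => ?_
    simp only [hc, hm, mul_assoc, ← Finset.mul_sum, hrow i, mul_zero]

end Groth.Agent.S3320
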