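import Groth.Statements.S0343
import Groth.Agent.Lib.Goren.Basic
-- import your own Groth.Agent.* helpers here

set_option autoImplicit false
universe u v
open Goren

namespace Groth.Agent.S0343

/-- For a Noetherian local ring A and a non-zero-divisor f in the maximal ideal, A is Gorenstein exactly
when A/(f) is. -/
theorem result (A : Type u) [CommRing A] [IsLocalRing A] [IsNoetherianRing A] (f : A) (hf : f ∈ IsLocalRing.maximalIdeal A) (hreg : IsSMulRegular A f) : LocCoh.IsGorensteinLocalRing A ↔ LocCoh.IsGorensteinLocalRing (A ⧸ Ideal.span {f}) := by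
  have := Groth.Agent.GorenLib.isLocalRing_quotient hf
  constructor
  · intro h
    obtain ⟨n, hn⟩ := h.exists_hasInjectiveDimensionLT
    exact { exists_hasInjectiveDimensionLT := ⟨n + 1,
      Groth.Agent.GorenLib.exists_hasInjectiveDimensionLT_quotient hreg (CategoryTheory.hasInjectiveDimensionLT_of_ge _ n (n + 2) (by omega))⟩ }
  · intro h
    obtain ⟨n, hn⟩ := h.exists_hasInjectiveDimensionLT
    refine { exists_hasInjectiveDimensionLT := ?_ }
    rw [Groth.Agent.GorenLib.exists_hasInjectiveDimensionLT_iff]
    exact ⟨n + 2, fun i hi => Groth.Agent.GorenLib.subsingleton_ext_of_quotient hf hreg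
      (CategoryTheory.hasInjectiveDimensionLT_of_ge _ n (n + 1) n.le_succ) i hi⟩


end Groth.Agent.S0343
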