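import Groth.Statements.S11174
import Groth.Agent.Lib.InjHull.Duality
-- import your own Groth.Agent.* helpers here

set_option autoImplicit false
universe u
open CategoryTheory
open InjHull

namespace Groth.Agent.S11174

/-- Fix a Noetherian local ring A, write m for its maximal ideal and k for its residue field, and let I
be an A-module such that (a) every element of I is killed by some power of m, (b) the A-module
Hom_A(k, I) is isomorphic to k, and (c) there is a decreasing sequence of ideals a_1 ⊇ a_2 ⊇ … of A,
cofinal with the powers of m in both directions (each a_n contains a power of m and each power of m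
contains some a_n), with length_A(A/a_n) = length_A(Hom_A(A/a_n, I)) for every n. Then I is an
injective hull of k: some A-linear map k → I is an essential injection into an injective module. -/
theorem result (A : Type u) [CommRing A] [IsLocalRing A] [IsNoetherianRing A] (I : Type u) [AddCommGroup I] [Module A I] (ha : LocCoh.IsPowerTorsion (IsLocalRing.maximalIdeal A) I) (hb : Nonempty ((IsLocalRing.ResidueField A →ₗ[A] I) ≃ₗ[A] IsLocalRing.ResidueField A)) (a : ℕ → Ideal A) (hanti : Antitone a) (hcof : ∀ n : ℕ, ∃ N : ℕ, IsLocalRing.maximalIdeal A ^ N ≤ a n) (hcof' : ∀ N : ℕ, ∃ n : ℕ, a n ≤ IsLocalRing.maximalIdeal A ^ N) (hlen : ∀ n : ℕ, Module.length A (A ⧸ a n) = Module.length A ((A ⧸ a n) →ₗ[A] I)) : ∃ f : IsLocalRing.ResidueField A →ₗ[A] I, InjHull.IsInjectiveHull f := by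
  obtain ⟨e⟩ := hb
  have hsimp : IsSimpleModule A (IsLocalRing.ResidueField A) :=
    isSimpleModule_iff_quot_maximal.2 ⟨IsLocalRing.maximalIdeal A, inferInstance, ⟨LinearEquiv.refl A _⟩⟩
  have h1 : Module.length A (Submodule.torsionBySet A I (IsLocalRing.maximalIdeal A : Set A)) = 1 := by
    rw [← (Groth.Agent.InjHullLib.homQuotientEquiv (IsLocalRing.maximalIdeal A) I).length_eq]
    exact (LinearEquiv.length_eq e).trans (Module.length_eq_one_iff.2 hsimp)
  obtain ⟨g, hg, hsoc⟩ := Groth.Agent.InjHullLib.exists_residueMap_of_length_one h1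
  have hess : InjHull.IsEssentialInj g := (Groth.Agent.InjHullLib.isEssentialInj_iff g).2 ⟨hg, fun x hx => by
    obtain ⟨r, hr, hr0⟩ := Groth.Agent.InjHullLib.exists_smul_mem_torsion ha hx
    exact ⟨r, hsoc hr, hr0⟩⟩
  obtain ⟨E, _, _, f, hf⟩ := Groth.Agent.InjHullLib.exists_injective_hull A (IsLocalRing.ResidueField A)
  obtain ⟨α, hα, hαg⟩ := Groth.Agent.InjHullLib.exists_extension_injective hess f hf.injective hf.isInjective
  have hsurj : Function.Surjective α := by
    intro y
    obtain ⟨N, hN⟩ := Groth.Agent.InjHullLib.exists_pow_smul_eq_zero hf y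
    obtain ⟨n, hn⟩ := hcof' N
    let eI := Groth.Agent.InjHullLib.homQuotientEquiv (a n) I
    let eE := Groth.Agent.InjHullLib.homQuotientEquiv (a n) E
    let β : ((A ⧸ a n) →ₗ[A] I) →ₗ[A] ((A ⧸ a n) →ₗ[A] E) :=
      { toFun := fun χ => α.comp χ, map_add' := fun p q => LinearMap.comp_add p q α, map_smul' := fun c p => LinearMap.comp_smul α c p }
    have hβ : Function.Injective β := fun p q h => LinearMap.ext fun z => hα (LinearMap.congr_fun h z)
    obtain ⟨N', hN'⟩ := hcof n
    have hfl := Groth.Agent.InjHullLib.isFiniteLength_quotient hN'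
    have hlen' : Module.length A ((A ⧸ a n) →ₗ[A] E) = Module.length A (A ⧸ a n) :=
      Groth.Agent.InjHullLib.length_dual hf hfl
    have hfin : Module.length A ((A ⧸ a n) →ₗ[A] E) ≠ ⊤ := by
      rw [hlen']
      exact Module.length_ne_top_iff.2 hfl
    have hrange : LinearMap.range β = ⊤ := by
      have h2 := Module.length_eq_add_of_exact (LinearMap.range β).subtype (LinearMap.range β).mkQ
        (Submodule.injective_subtype _) (Submodule.mkQ_surjective _) (LinearMap.exact_subtype_mkQ _)
      rw [← (LinearEquiv.ofInjective β hβ).length_eq, ← hlen n, ← hlen'] at h2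
      have h3 : Module.length A (((A ⧸ a n) →ₗ[A] E) ⧸ LinearMap.range β) = 0 := by
        have h4 : Module.length A ((A ⧸ a n) →ₗ[A] E) + Module.length A (((A ⧸ a n) →ₗ[A] E) ⧸ LinearMap.range β)
            = Module.length A ((A ⧸ a n) →ₗ[A] E) + 0 := by rw [add_zero]; exact h2.symm
        exact (WithTop.add_left_inj hfin).1 h4
      exact Submodule.Quotient.subsingleton_iff.1 (Module.length_eq_zero_iff.1 h3)
    obtain ⟨χ, hχ⟩ := LinearMap.range_eq_top.1 hrange (eE.symm ⟨y, Groth.Agent.InjHullLib.mem_torsion_iff.2 fun r hr => hN r (hn hr)⟩)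
    refine ⟨χ 1, ?_⟩
    have := LinearMap.congr_fun hχ 1
    exact this.trans (one_smul A y)
  refine ⟨g, hess, ?_⟩
  exact Groth.Agent.InjHullLib.injective_of_linearEquiv (LinearEquiv.ofBijective α ⟨hα, hsurj⟩).symm hf.isInjective

end Groth.Agent.S11174
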