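import Groth.Statements.S2034
import Groth.Agent.Lib.SmoothingH7.DimZero
import Groth.Agent.S2033

set_option autoImplicit false
universe u
open Smoothing

namespace Groth.Agent.S2034

open TensorProduct in
/-- Let `R` be a Noetherian ring, `A` a finitely presented `R`-algebra, `R → A → Λ` ring maps and `𝔮 ⊆
Λ` a prime minimal over the radical of the extended singular ideal of `R → A`; let `𝔭` be the prime
of `R` under `𝔮` and suppose the localized problem `R_𝔭 → R_𝔭 ⊗_R A → Λ_𝔮 ⊇ 𝔮Λ_𝔮` can be resolved.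
If moreover `Λ_𝔮` has Krull dimension zero, then the problem `R → A → Λ ⊇ 𝔮` itself can be resolved. -/
theorem result {R A Λ Rₚ Λq : Type u} [CommRing R] [IsNoetherianRing R] [CommRing A]
    [Algebra R A] [Algebra.FinitePresentation R A] [CommRing Λ] [Algebra R Λ] (φ : A →ₐ[R] Λ)
    (𝔮 : Ideal Λ) [𝔮.IsPrime] (hmin : 𝔮 ∈ (Smoothing.singRad R φ).minimalPrimes)
    [CommRing Rₚ] [Algebra R Rₚ] [IsLocalization.AtPrime Rₚ (𝔮.comap (algebraMap R Λ))]
    [CommRing Λq] [Algebra Λ Λq] [IsLocalization.AtPrime Λq 𝔮] [Algebra R Λq] [IsScalarTower R Λ Λq]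
    [Algebra Rₚ Λq] [IsScalarTower R Rₚ Λq] (hdim : ringKrullDim Λq = 0)
    (hres : Smoothing.Resolvable Rₚ
      (Algebra.TensorProduct.lift (Algebra.ofId Rₚ Λq) ((IsScalarTower.toAlgHom R Λ Λq).comp φ)
        (fun _ _ => Commute.all _ _) : Rₚ ⊗[R] A →ₐ[Rₚ] Λq) (𝔮.map (algebraMap Λ Λq))) :
    Smoothing.Resolvable R φ 𝔮 := by
  obtain ⟨C, _, _, _, g, h, hgh, hC⟩ := Groth.Agent.S2033.result φ 𝔮 hmin hres
  haveI : IsLocalRing Λq := IsLocalization.AtPrime.isLocalRing Λq 𝔮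
  haveI : Ring.KrullDimLE 0 Λq := Ring.krullDimLE_iff.2 (by exact_mod_cast hdim.le)
  refine Groth.Agent.Lib.SmoothingH7.resolvable_of_minimalPrime φ 𝔮 hmin.1.2 (fun x hx => ?_) g h hgh hC
  have h1 : algebraMap Λ Λq x ∈ IsLocalRing.maximalIdeal Λq :=
    (IsLocalization.AtPrime.to_map_mem_maximal_iff Λq 𝔮 x).2 hx
  rw [Ring.KrullDimLE.eq_maximalIdeal_of_isPrime (IsLocalRing.maximalIdeal Λq)] at h1
  obtain ⟨N, hN⟩ : IsNilpotent (algebraMap Λ Λq x) := by
    rw [← mem_nilradical, nilradical_eq_sInf, Submodule.mem_sInf]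
    intro J hJ
    haveI hJ' : Ideal.IsPrime J := hJ
    rw [Ring.KrullDimLE.eq_maximalIdeal_of_isPrime J]
    exact h1
  rw [← map_pow] at hN
  obtain ⟨⟨s, hs⟩, hs'⟩ := (IsLocalization.map_eq_zero_iff 𝔮.primeCompl Λq _).1 hN
  exact ⟨s, hs, N, hs'⟩

end Groth.Agent.S2034
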