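import Groth.Statements.S6823
import Groth.Agent.Lib.SmoothingH7.SepResidue

set_option autoImplicit false
universe u
open Smoothing

namespace Groth.Agent.S6823

/-- Let k be a field, A a finitely presented k-algebra, φ : A → Λ a k-algebra map with Λ Noetherian, and
𝔮 ⊆ Λ a prime minimal over the radical of H_{A/k}Λ (H the singular ideal) such that Λ_𝔮 is a regular
local ring and the residue field κ(𝔮) is separable over k, i.e. geometrically reduced over k. Then k
→ A → Λ ⊇ 𝔮 can be resolved: φ factors through a finitely presented k-algebra B whose extended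
singular radical contains that of A and is not contained in 𝔮. -/
theorem result {k A Λ : Type u} [Field k] [CommRing A]
    [Algebra k A] [Algebra.FinitePresentation k A] [CommRing Λ] [Algebra k Λ] [IsNoetherianRing Λ]
    (φ : A →ₐ[k] Λ) (𝔮 : Ideal Λ) [𝔮.IsPrime] (hmin : 𝔮 ∈ (Smoothing.singRad k φ).minimalPrimes)
    [IsRegularLocalRing (Localization.AtPrime 𝔮)]
    [Algebra.IsGeometricallyReduced k 𝔮.ResidueField] : Smoothing.Resolvable k φ 𝔮 := by
  obtain ⟨d, hd⟩ := Groth.Agent.RegLoc.exists_dim_eq_nat (R := Localization.AtPrime 𝔮)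
  rcases Nat.eq_zero_or_pos d with rfl | hd0
  · haveI : IsLocalization.AtPrime k (𝔮.comap (algebraMap k Λ)) :=
      IsLocalization.of_le_isUnit_of_bijective (fun x hx => by
        obtain ⟨x, hx, rfl⟩ := hx
        exact isUnit_iff_ne_zero.2 fun h => hx (by
          have hx0 : x = 0 := h
          rw [hx0]; exact zero_mem _)) Function.bijective_id
    haveI : IsScalarTower k k (Localization.AtPrime 𝔮) := ⟨fun a b c => by
      simp only [Algebra.smul_def, smul_eq_mul, map_mul, mul_assoc, Algebra.algebraMap_self, RingHom.id_apply]⟩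
    refine Groth.Agent.S2034.result φ 𝔮 hmin (Rₚ := k) (Λq := Localization.AtPrime 𝔮) (by exact_mod_cast hd) ?_
    haveI : Algebra.FinitePresentation k (TensorProduct k k A) := inferInstance
    refine Groth.Agent.Lib.SmoothingH7.resolvable_of_indSmooth _ _ ?_ ?_
    · rw [IsLocalization.AtPrime.map_eq_maximalIdeal 𝔮]
      exact (IsLocalRing.maximalIdeal.isMaximal _).ne_top
    have hbot : IsLocalRing.maximalIdeal (Localization.AtPrime 𝔮) = ⊥ := by
      have hr := Groth.Agent.RegLoc.spanFinrank_eq_of_dim hd
      rwa [Submodule.spanFinrank_eq_zero_iff_eq_bot (IsNoetherian.noetherian _)] at hr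
    exact Groth.Agent.Lib.SmoothingH7.indSmooth_of_equiv (RingEquiv.refl k)
      ((Ideal.quotEquivOfEq hbot).trans (RingEquiv.quotientBot _)) (fun c => rfl)
      (Groth.Agent.Lib.SmoothingH7.indSmooth_of_geometricallyReduced_field k 𝔮.ResidueField)
  · exact Groth.Agent.Lib.SmoothingH7.resolvable_sep φ 𝔮 hmin hd hd0

end Groth.Agent.S6823
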