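import Groth.Statements.S6824
import Groth.Agent.Lib.InsepH7.Resolve
import Groth.Agent.Lib.FormalFib3.Basic
import Groth.Agent.S6823
import Groth.Agent.Lib.Sep.Basic

set_option autoImplicit false
universe u
open Smoothing

namespace Groth.Agent.S6824

/-- Let k be a field of characteristic p > 0, A a finitely presented k-algebra, φ : A → Λ a k-algebra
map with Λ Noetherian and geometrically regular over k, and 𝔮 ⊆ Λ a prime minimal over the radical
of H_{A/k}Λ. Then k → A → Λ ⊇ 𝔮 can be resolved. -/
theorem result {k A Λ : Type u} [Field k] (p : ℕ) [Fact p.Prime]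
    [CharP k p] [CommRing A] [Algebra k A] [Algebra.FinitePresentation k A] [CommRing Λ] [Algebra k Λ]
    [IsNoetherianRing Λ] (hreg : CAlg.IsGeometricallyRegular k Λ) (φ : A →ₐ[k] Λ) (𝔮 : Ideal Λ)
    [𝔮.IsPrime] (hmin : 𝔮 ∈ (Smoothing.singRad k φ).minimalPrimes) : Smoothing.Resolvable k φ 𝔮 := by
  have hfin : Module.Finite k k := inferInstance
  haveI : IsRegularLocalRing (Localization.AtPrime 𝔮) :=
    Groth.Agent.FormalFib3.isRegularLocalRing_atPrime (R := k) k 𝔮 (hreg k hfin)
  have hregq : CAlg.IsGeometricallyRegular k (Localization.AtPrime 𝔮) := fun k' _ _ hk' => by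
    haveI := hreg k' hk'
    exact Groth.Agent.FormalFib3.regular_tensor_atPrime k' 𝔮
  obtain ⟨d, hd⟩ := Groth.Agent.RegLoc.exists_dim_eq_nat (R := Localization.AtPrime 𝔮)
  rcases Nat.eq_zero_or_pos d with rfl | hd0
  · have hbot : IsLocalRing.maximalIdeal (Localization.AtPrime 𝔮) = ⊥ := by
      have hr := Groth.Agent.RegLoc.spanFinrank_eq_of_dim hd
      rwa [Submodule.spanFinrank_eq_zero_iff_eq_bot (IsNoetherian.noetherian _)] at hr
    have had := Groth.Agent.FormalFib3.isAdicFormallySmooth_atPrime (R := k) k 𝔮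
      (fun K' _ i1 i2 hT hK' => by
        have hi : i1 = i2 := Algebra.algebra_ext _ _ fun x => (@IsScalarTower.algebraMap_apply k k K' _ _ _ _ i1 i2 hT x).symm.trans rfl
        subst hi
        exact hreg K' hK')
    haveI : Algebra.FormallySmooth k (Localization.AtPrime 𝔮) :=
      Algebra.FormallySmooth.of_comp_surjective fun B _ _ I hI f =>
        had B I hI f ⟨1, fun x hx => by
          rw [hbot, pow_one, Ideal.mem_bot] at hx
          rw [hx, map_zero]⟩
    let e : Localization.AtPrime 𝔮 ≃ₐ[k] 𝔮.ResidueField :=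
      AlgEquiv.ofBijective (IsScalarTower.toAlgHom k _ _) ⟨by
        rw [RingHom.injective_iff_ker_eq_bot]
        exact (IsLocalRing.ker_residue).trans hbot, IsLocalRing.residue_surjective⟩
    haveI : Algebra.FormallySmooth k 𝔮.ResidueField := Algebra.FormallySmooth.of_equiv e
    haveI : Algebra.IsGeometricallyReduced k 𝔮.ResidueField :=
      (Groth.Agent.Sep.formallySmooth_iff_isGeometricallyReduced k _).1 inferInstance
    exact Groth.Agent.S6823.result φ 𝔮 hmin
  · exact Groth.Agent.InsepH7.resolvable_insep p φ 𝔮 hmin hregq hd hd0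

end Groth.Agent.S6824
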