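import Groth.Statements.S5260
import Groth.Agent.Lib.PureSmooth29.SubgroupTransporter

set_option autoImplicit false
set_option backward.isDefEq.respectTransparency false
set_option backward.isDefEq.respectTransparency.types false
set_option maxSynthPendingDepth 3
open CategoryTheory MonoidalCategory CartesianMonoidalCategory MonObj GrpObj AlgebraicGeometry
universe u
open SGA3x

namespace Groth.Agent.S5260

/-- Normalizer: Let G be an S-group locally of finite type and quasi-separated over S, H an S-group
which is smooth and of finite presentation over S with connected fibres, and i : H ⟶ G a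
homomorphism which is a monomorphism. Then the normalizer of H in G is representable by a closed
subgroup scheme of G whose immersion into G is of finite presentation. -/
theorem result {S : Scheme.{u}} (G H : Over S) [GrpObj G] [GrpObj H]
    [LocallyOfFiniteType G.hom] [QuasiSeparated G.hom] [Smooth H.hom] [QuasiCompact H.hom] [QuasiSeparated H.hom]
    (hconn : ∀ s : S, ConnectedSpace ↥(Limits.pullback H.hom (S.fromSpecResidueField s)))
    (i : H ⟶ G) [IsMonHom i] [Mono i] :
    ∃ (N : Over S) (_ : GrpObj N) (j : N ⟶ G), Red.IsNormalizerOf i j ∧ IsClosedImmersion j.left ∧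
      LocallyOfFinitePresentation j.left := by
  haveI : LocallyOfFinitePresentation i.left := by
    haveI : LocallyOfFinitePresentation (i.left ≫ G.hom) := by rw [Over.w i]; infer_instance
    exact SchBasic.locallyOfFinitePresentation_of_comp i.left G.hom
  haveI : QuasiCompact i.left := by
    haveI : QuasiCompact (i.left ≫ G.hom) := by rw [Over.w i]; infer_instance
    exact QuasiCompact.of_comp i.left G.hom
  haveI : IsMonHom (i ⊗ₘ i) := inferInstance
  haveI : Mono (i ⊗ₘ i) := ⟨fun a b hab => by
    apply CartesianMonoidalCategory.hom_ext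
    · rw [← cancel_mono i]
      have := congrArg (· ≫ fst G G) hab
      simpa using this
    · rw [← cancel_mono i]
      have := congrArg (· ≫ snd G G) hab
      simpa using this⟩
  haveI : QuasiCompact (i ⊗ₘ i).left := by
    rw [Over.tensorHom_left]
    exact MorphismProperty.pullbackMap (P := @QuasiCompact) ‹QuasiCompact i.left› ‹QuasiCompact i.left›
      (Over.w i).symm (Over.w i).symm
  haveI : LocallyOfFinitePresentation (i ⊗ₘ i).left := by
    rw [Over.tensorHom_left]
    exact MorphismProperty.pullbackMap (P := @LocallyOfFinitePresentation) ‹LocallyOfFinitePresentation i.left›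
      ‹LocallyOfFinitePresentation i.left› (Over.w i).symm (Over.w i).symm
  let φ : H ⊗ G ⟶ G ⊗ G := lift ((snd H G) * (fst H G ≫ i) * (snd H G)⁻¹) ((snd H G)⁻¹ * (fst H G ≫ i) * (snd H G))
  obtain ⟨N, j, hj, hfp, hrep⟩ := PureSmooth29.exists_transporter_subgroup (G := G)
    (PureSmooth29.neutralSet_eq_univ hconn) (i ⊗ₘ i) φ (fun T h h' g => by
      apply CartesianMonoidalCategory.hom_ext
      · simp only [φ, MonObj.mul_comp, Category.assoc, lift_fst, MonObj.comp_mul, GrpObj.comp_inv, lift_snd,
          lift_fst_assoc]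
        group
      · simp only [φ, MonObj.mul_comp, Category.assoc, MonObj.comp_mul, GrpObj.comp_inv, lift_snd,
          lift_fst_assoc]
        group)
  haveI := hj
  haveI : Mono j := Over.mono_of_mono_left j
  have hiff : ∀ (X : Over S) (g : X ⟶ G), (∃ z : X ⟶ N, z ≫ j = g) ↔
      ∀ (X' : Over S) (x : X' ⟶ X) (h : X' ⟶ H),
        (∃ h' : X' ⟶ H, (x ≫ g) * (h ≫ i) * (x ≫ g)⁻¹ = h' ≫ i) ∧
        (∃ h' : X' ⟶ H, (x ≫ g)⁻¹ * (h ≫ i) * (x ≫ g) = h' ≫ i) := fun X g =>
    (hrep X g).trans (forall_congr' fun X' => forall_congr' fun x => forall_congr' fun h => by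
      simp only [φ, comp_lift, MonObj.comp_mul, GrpObj.comp_inv, lift_snd, lift_fst_assoc]
      constructor
      · rintro ⟨κ, hκ⟩
        have h1 := congrArg (· ≫ fst G G) hκ
        have h2 := congrArg (· ≫ snd G G) hκ
        simp only [lift_fst, lift_snd, Category.assoc, tensorHom_fst, tensorHom_snd] at h1 h2
        exact ⟨⟨κ ≫ fst H H, by rw [Category.assoc]; exact h1⟩, ⟨κ ≫ snd H H, by rw [Category.assoc]; exact h2⟩⟩
      · rintro ⟨⟨a, ha⟩, b, hb⟩
        exact ⟨lift a b, by rw [lift_map, ha, hb]⟩)
  obtain ⟨hgrp, hhom⟩ := MTRigid29.exists_grpObj_of_subgroup j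
    (fun X a b => (hiff X _).2 fun X' x h => by
      have ha := (hiff X _).1 ⟨a, rfl⟩ X' x
      have hb := (hiff X _).1 ⟨b, rfl⟩ X' x
      rw [MonObj.comp_mul]
      constructor
      · obtain ⟨h', hh'⟩ := (hb h).1
        obtain ⟨h'', hh''⟩ := (ha h').1
        exact ⟨h'', by rw [← hh'', ← hh']; group⟩
      · obtain ⟨h', hh'⟩ := (ha h).2
        obtain ⟨h'', hh''⟩ := (hb h').2
        exact ⟨h'', by rw [← hh'', ← hh']; group⟩)
    ((hiff _ _).2 fun X' x h => by
      simp only [MonObj.comp_one, _root_.one_mul, inv_one, _root_.mul_one]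
      exact ⟨⟨h, rfl⟩, ⟨h, rfl⟩⟩)
    (fun X a => (hiff X _).2 fun X' x h => by
      have ha := (hiff X _).1 ⟨a, rfl⟩ X' x h
      rw [GrpObj.comp_inv, _root_.inv_inv]
      exact ⟨ha.2, ha.1⟩)
  letI := hgrp
  exact ⟨N, inferInstance, j, ⟨hhom, inferInstance, hiff⟩, hj, hfp⟩

end Groth.Agent.S5260
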