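import Groth.Statements.S1690
import Groth.Agent.Lib.RefHull26.Extend
-- import your own Groth.Agent.* helpers here

set_option autoImplicit false
universe u
open CategoryTheory CategoryTheory.Limits AlgebraicGeometry TopologicalSpace
open SDiv

namespace Groth.Agent.S1690

/-- (1) if and only if (3): let X be an integral locally Noetherian normal scheme and F a coherent
module. Then F is reflexive (stalkwise) if and only if there is an open subscheme j : U ⟶ X such
that every point outside U has local ring of dimension at least 2, the restriction of F to U is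
finite locally free, and the canonical map F ⟶ j_* j^* F is an isomorphism. -/
theorem result (X : Scheme.{u}) [IsIntegral X] [IsLocallyNoetherian X] (hX : Pi1.IsNormalScheme X)
    (F : X.Modules) (hF : Coh.IsCoh F) :
    (∀ x : ↥X, Module.IsReflexive (X.presheaf.stalk x) (F.presheaf.stalk x)) ↔
      ∃ U : X.Opens, (∀ x : ↥X, x ∉ U → (2 : WithBot ℕ∞) ≤ ringKrullDim (X.presheaf.stalk x)) ∧
        FlatMod.IsFinLocFree (F.restrict U.ι) ∧ IsIso ((Scheme.Modules.restrictAdjunction U.ι).unit.app F) := by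
  constructor
  · intro h
    let U : X.Opens := ⟨_, Groth.Agent.RH26.isOpen_free_stalk (Groth.Agent.M1.isFP_of_isCoh hF)⟩
    have hU : ∀ x : X, x ∉ U → (2 : WithBot ℕ∞) ≤ ringKrullDim (X.presheaf.stalk x) := fun x hx => by
      have h1 : ¬ ringKrullDim (X.presheaf.stalk x) ≤ 1 := fun h1 => hx (Groth.Agent.RH26.free_of_dim_le_one hX hF (h x) h1)
      rw [ringKrullDim_stalk_eq_coheight] at h1 ⊢
      rw [not_le] at h1
      have h3 := Order.add_one_le_of_lt (WithBot.coe_lt_coe.1 (show ((1 : ℕ∞) : WithBot ℕ∞) < _ from h1))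
      exact WithBot.coe_le_coe.2 (le_of_eq_of_le (by norm_num) h3)
    refine ⟨U, hU, ?_, Groth.Agent.RH26.isIso_unit_of_closed1 ((Groth.Agent.RH26.isReflexive_iff_closed1 hX hF).1 ((Groth.Agent.RH26.isReflexive_iff_stalks hF).2 h)) U hU⟩
    refine (Groth.Agent.M1.isFinLocFree_iff _).2 ⟨Groth.Agent.M1.isFP_restrict (Groth.Agent.M1.isFP_of_isCoh hF) _, fun z => ?_⟩
    have hz : Module.Free (X.presheaf.stalk (U.ι z)) (F.presheaf.stalk (U.ι z)) := z.2
    exact ((Groth.Agent.DPerf.ff_restrict_iff U.ι F z).2 ⟨hz, Groth.Agent.M1.finite_stalk hF.1 (Groth.Agent.M1.isFP_isFT (Groth.Agent.M1.isFP_of_isCoh hF)) _⟩).1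
  · rintro ⟨U, hU, hfree, hext⟩
    refine (Groth.Agent.RH26.isReflexive_iff_stalks hF).1 ((Groth.Agent.RH26.isReflexive_iff_closed1 hX hF).2 (Groth.Agent.RH26.closed1_of_big_open hX hF U hU (fun x hx => ?_) hext))
    obtain ⟨h1, h2⟩ := (Groth.Agent.DPerf.ff_restrict_iff U.ι F ⟨x, hx⟩).1 (Groth.Agent.DPerf.ff_of_isFinLocFree hfree _)
    haveI : Module.Free (X.presheaf.stalk x) (F.presheaf.stalk x) := h1
    haveI : Module.Finite (X.presheaf.stalk x) (F.presheaf.stalk x) := h2
    show Module.IsReflexive (X.presheaf.stalk x) (F.presheaf.stalk x)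
    infer_instance

end Groth.Agent.S1690
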