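import Groth.Statements.S1509
import Groth.Agent.Lib.PCMor4.Koszul

set_option autoImplicit false
universe u
attribute [local instance] HasDerivedCategory.standard
open FlatMor

set_option backward.isDefEq.respectTransparency.types false

namespace Groth.Agent.S1509

open AlgebraicGeometry CategoryTheory Limits in
/-- A regular closed immersion (kernel ideal locally generated by a regular sequence) is a perfect
morphism. -/
theorem result {Z X : Scheme.{u}} (i : Z ⟶ X) (hi : Mor2.IsRegularClosedImmersion i) : MoreMor.IsPerfectMor i := by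
  obtain ⟨hci, h⟩ := hi
  rw [PCMor4.isPerfectMor_iff]
  refine PCMor4.pfMor_of_forall_exists i fun z => ?_
  obtain ⟨U, hU, hzU, rs, hrs, hk⟩ := h z
  refine ⟨i ⁻¹ᵁ U, U, le_rfl, hU.preimage i, hU, hzU, ?_⟩
  rw [← Scheme.Hom.app_eq_appLE]
  rw [Scheme.Hom.ker_apply] at hk
  exact PCMor4.pfh_of_isWeaklyRegular _ (i.app_surjective U hU) rs hrs.toIsWeaklyRegular hk

end Groth.Agent.S1509
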