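import Groth.Statements.S1515
import Groth.Agent.Lib.PCMor4.DiagSmooth
import Groth.Agent.S1509

set_option autoImplicit false
universe u
attribute [local instance] HasDerivedCategory.standard
open FlatMor

set_option backward.isDefEq.respectTransparency.types false

namespace Groth.Agent.S1515

open AlgebraicGeometry CategoryTheory Limits in
/-- (1) ⇔ (2) ⇔ (4): let f : X → Y be separated and of finite type between locally Noetherian schemes,
with diagonal Δ (a closed immersion). Then f is smooth iff f is flat and Δ is a regular closed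
immersion, iff f is flat and Δ is a perfect morphism. -/
theorem result {X Y : Scheme.{u}} (f : X ⟶ Y) [IsSeparated f] [LocallyOfFiniteType f] [QuasiCompact f] [IsLocallyNoetherian X] [IsLocallyNoetherian Y] :
    (Smooth f ↔ Flat f ∧ Mor2.IsRegularClosedImmersion (pullback.diagonal f)) ∧
    (Smooth f ↔ Flat f ∧ MoreMor.IsPerfectMor (pullback.diagonal f)) := by
  haveI : IsLocallyNoetherian (pullback f f) :=
    haveI : LocallyOfFiniteType (pullback.fst f f) := MorphismProperty.pullback_fst _ _ inferInstance
    LocallyOfFiniteType.isLocallyNoetherian (pullback.fst f f)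
  have h1 : Smooth f → Flat f ∧ Mor2.IsRegularClosedImmersion (pullback.diagonal f) := fun h =>
    ⟨inferInstance, PCMor4.isRegularClosedImmersion_of_koszul _ (PCMor4.koszul_diagonal f)⟩
  have h2 : Flat f ∧ MoreMor.IsPerfectMor (pullback.diagonal f) → Smooth f := fun ⟨h, hp⟩ =>
    PCMor4.smooth_of_flat_of_diagonal f ((PCMor4.isPerfectMor_iff _).1 hp)
  exact ⟨⟨h1, fun ⟨h, hr⟩ => h2 ⟨h, Groth.Agent.S1509.result _ hr⟩⟩,
    ⟨fun h => ⟨(h1 h).1, Groth.Agent.S1509.result _ (h1 h).2⟩, h2⟩⟩

end Groth.Agent.S1515
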