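import Groth.Statements.S2054
import Groth.Agent.Lib.Depth.ReflexiveCrit
import Groth.Agent.Lib.SerreCrit.Basic
import Groth.Agent.Lib.RefHull26.Closed

set_option autoImplicit false
universe u
open CAlg

namespace Groth.Agent.S2054


open IsLocalRing

theorem isPrincipalIdealRing_of_dim_le_one (A : Type u) [CommRing A] [IsDomain A] [IsNoetherianRing A]
    [IsLocalRing A] [IsIntegrallyClosed A] (h : ringKrullDim A ≤ 1) : IsPrincipalIdealRing A := by
  by_cases h1 : ringKrullDim A = 1
  · haveI := Groth.Agent.Curve17.isDiscreteValuationRing_of_dim_one A h1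
    infer_instance
  · haveI : Ring.KrullDimLE 0 A := Ring.krullDimLE_iff.2 (Order.le_of_lt_succ (lt_of_le_of_ne h h1))
    letI := (Ring.KrullDimLE.isField_of_isReduced (R := A)).toField
    infer_instance


/-- Let `R` be a Noetherian normal domain and `M` a finite `R`-module. Then `M` is reflexive (the map to
its double dual is bijective) if and only if `M` is torsion free and satisfies Serre's condition
`(S_2)`. -/
theorem result {R M : Type u} [CommRing R] [IsDomain R] [IsNoetherianRing R]
    [IsIntegrallyClosed R] [AddCommGroup M] [Module R M] [Module.Finite R M] :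
    Module.IsReflexive R M ↔ NoZeroSMulDivisors R M ∧ LocCoh.HasSk 2 R M := by
  constructor
  · intro h
    have : Module.Finite R (Module.Dual R M) := Groth.Agent.RH26.finite_dual
    refine ⟨⟨fun {c x} hcx => smul_eq_zero.1 hcx⟩, ?_⟩
    refine Groth.Agent.DepthLib.hasSk_congr (Module.evalEquiv R M).symm
      (Groth.Agent.DepthLib.hasSk_two_linearMap (M := Module.Dual R M) ?_)
    exact (Groth.Agent.SerreCrit.R1_S2_of_normal fun p _ =>
      ⟨IsLocalization.isDomain_localization p.primeCompl_le_nonZeroDivisors,
        isIntegrallyClosed_of_isLocalization _ p.primeCompl p.primeCompl_le_nonZeroDivisors⟩).2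
  · rintro ⟨htf, hS⟩
    haveI := htf
    refine Groth.Agent.DepthLib.isReflexive_of_forall_localization_or_depth fun p _ => ?_
    haveI : IsDomain (Localization.AtPrime p) :=
      IsLocalization.isDomain_localization p.primeCompl_le_nonZeroDivisors
    haveI : IsIntegrallyClosed (Localization.AtPrime p) :=
      isIntegrallyClosed_of_isLocalization _ p.primeCompl p.primeCompl_le_nonZeroDivisors
    let P := LocalizedModule p.primeCompl M
    haveI : Module.Finite (Localization.AtPrime p) P :=
      Module.Finite.of_isLocalizedModule p.primeCompl (LocalizedModule.mkLinearMap p.primeCompl M)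
    have hP : ∀ (a : Localization.AtPrime p) (x : P), a • x = 0 → a = 0 ∨ x = 0 := by
      intro a x hax
      obtain ⟨⟨b, t⟩, hbt⟩ := IsLocalization.surj p.primeCompl a
      obtain ⟨⟨y, t'⟩, hyt⟩ := IsLocalizedModule.surj p.primeCompl
        (LocalizedModule.mkLinearMap p.primeCompl M) x
      have : LocalizedModule.mkLinearMap p.primeCompl M (b • y) = 0 := by
        rw [map_smul, ← hyt, ← algebraMap_smul (Localization.AtPrime p) b, ← hbt, Submonoid.smul_def,
          smul_comm _ (t' : R) x, mul_comm, mul_smul, hax, smul_zero, smul_zero]
      obtain ⟨c, hc⟩ := (IsLocalizedModule.eq_zero_iff p.primeCompl _).1 this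
      rcases smul_eq_zero.1 hc with hc | hc
      · exact absurd (show (c : R) ∈ p from by rw [hc]; exact p.zero_mem) c.2
      rcases smul_eq_zero.1 hc with hb | hy
      · left
        rw [hb, map_zero] at hbt
        exact (IsLocalization.map_units (Localization.AtPrime p) t).mul_left_eq_zero.1 hbt
      · right
        rw [hy, map_zero] at hyt
        exact (IsLocalizedModule.smul_inj (LocalizedModule.mkLinearMap p.primeCompl M) t' x 0).1
          (by rw [hyt, smul_zero])
    haveI : Module.IsTorsionFree (Localization.AtPrime p) P := ⟨fun a ha => by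
      refine IsSMulRegular.of_right_eq_zero_of_smul fun x hx => ?_
      exact (hP a x hx).resolve_left ha.ne_zero⟩
    by_cases hd : ringKrullDim (Localization.AtPrime p) ≤ 1
    · left
      haveI := isPrincipalIdealRing_of_dim_le_one _ hd
      haveI : Module.Free (Localization.AtPrime p) P := Module.free_of_finite_type_torsion_free'
      infer_instance
    · right
      rcases subsingleton_or_nontrivial P with hs | hs
      · refine le_of_le_of_eq le_top (Eq.symm ?_)
        exact Groth.Agent.DepthLib.idealDepth_of_smul_top_eq_top (Subsingleton.elim _ _)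
      have h2 : (2 : WithBot ℕ∞) ≤ Module.supportDim (Localization.AtPrime p) P := by
        have hann : Module.annihilator (Localization.AtPrime p) P = ⊥ := by
          refine (Submodule.eq_bot_iff _).2 fun a ha => ?_
          obtain ⟨x, hx⟩ := exists_ne (0 : P)
          exact (hP a x (Module.mem_annihilator.1 ha x)).resolve_right hx
        rw [Module.supportDim_eq_ringKrullDim_quotient_annihilator, hann,
          ringKrullDim_eq_of_ringEquiv (RingEquiv.quotientBot _)]
        exact Order.succ_le_of_lt (not_le.1 hd)
      have := hS p
      rw [min_eq_left (by exact_mod_cast h2)] at this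
      exact WithBot.coe_le_coe.1 this

end Groth.Agent.S2054
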