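import Groth.Statements.S9759
import Groth.Agent.Lib.FlatH4.NoethApprox
import Groth.Agent.Lib.FlatH4.FlatDescent
import Mathlib.AlgebraicGeometry.Morphisms.Flat
import Mathlib.RingTheory.Adjoin.FG
import Mathlib.RingTheory.FiniteStability

set_option autoImplicit false
universe u
open FlatMor

namespace Groth.Agent.S9759

open TensorProduct

/-- Ring-level statement. -/
theorem exists_flat_approx (A B : Type u) [CommRing A] [CommRing B] [Algebra A B]
    [Algebra.FinitePresentation A B] [Module.Flat A B] :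
    ∃ (R B₀ : Type u) (_ : CommRing R) (_ : CommRing B₀) (_ : Algebra R A) (_ : Algebra R B₀),
      Algebra.FiniteType ℤ R ∧ Algebra.FiniteType R B₀ ∧ Module.Flat R B₀ ∧
        Nonempty (A ⊗[R] B₀ ≃ₐ[A] B) := by
  obtain ⟨R, B₀, _, _, _, _, hR, hB₀, ⟨e⟩⟩ := Groth.Agent.FlatH4.exists_approx A B
  have : IsNoetherianRing R := Algebra.FiniteType.isNoetherianRing ℤ R
  have : Module.Flat A (A ⊗[R] B₀) := Module.Flat.of_linearEquiv e.toLinearEquiv
  obtain ⟨R₁, hR₁, hflat⟩ := Groth.Agent.FlatH4.exists_subalgebra_flat R A B₀ B₀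
  have : Algebra.FiniteType R R₁ := (Subalgebra.fg_iff_finiteType R₁).1 hR₁
  exact ⟨R₁, R₁ ⊗[R] B₀, inferInstance, inferInstance, inferInstance, inferInstance,
    Algebra.FiniteType.trans (S := R) hR inferInstance, inferInstance, hflat R₁ le_rfl hR₁,
    ⟨(Algebra.TensorProduct.cancelBaseChange R R₁ A A B₀).trans e⟩⟩


open AlgebraicGeometry CategoryTheory Limits in
/-- Let f : X ⟶ S be a flat morphism of finite presentation between affine schemes. Then f is the base
change of a morphism of finite type f₀ : X₀ ⟶ S₀ between affine schemes with S₀ of finite type over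
ℤ and f₀ flat. -/
theorem result {X S : Scheme.{u}} (f : X ⟶ S) [IsAffine X] [IsAffine S] [LocallyOfFinitePresentation f] [Flat f] :
    ∃ (X₀ S₀ : Scheme.{u}) (f₀ : X₀ ⟶ S₀) (g : S ⟶ S₀) (g' : X ⟶ X₀), IsAffine X₀ ∧ IsAffine S₀ ∧ IsPullback g' f f₀ g ∧
      Algebra.FiniteType ℤ Γ(S₀, ⊤) ∧ LocallyOfFiniteType f₀ ∧ Flat f₀ := by
  algebraize [f.appTop.hom]
  have : Algebra.FinitePresentation Γ(S, ⊤) Γ(X, ⊤) :=
    (HasRingHomProperty.iff_of_isAffine (P := @LocallyOfFinitePresentation)).1 ‹_›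
  have : Module.Flat Γ(S, ⊤) Γ(X, ⊤) :=
    (HasRingHomProperty.iff_of_isAffine (P := @Flat) (f := f)).1 ‹_›
  obtain ⟨R, B₀, _, _, _, _, hR, hft, hflat, ⟨e⟩⟩ := exists_flat_approx Γ(S, ⊤) Γ(X, ⊤)
  obtain ⟨g', hg'⟩ := Groth.Agent.FlatH4.isPullback_of_affine f e
  refine ⟨Spec (.of B₀), Spec (.of R), _, _, g', inferInstance, inferInstance, hg', ?_, ?_, ?_⟩
  · exact hR.equiv (Scheme.ΓSpecIso (CommRingCat.of R)).symm.commRingCatIsoToRingEquiv.toIntAlgEquiv
  · rw [HasRingHomProperty.Spec_iff (P := @LocallyOfFiniteType)]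
    exact RingHom.finiteType_algebraMap.2 inferInstance
  · rw [Flat.SpecMap_iff]
    exact RingHom.flat_algebraMap_iff.2 hflat

end Groth.Agent.S9759
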