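import Groth.Statements.S0345
import Groth.Agent.Lib.Goren.Basic
import Mathlib.RingTheory.LocalProperties.InjectiveDimension
-- import your own Groth.Agent.* helpers here

set_option autoImplicit false
universe u v
open Goren

namespace Groth.Agent.S0345

/-- For a Noetherian ring A, the A-module A has finite injective dimension exactly when every
localization of A at a prime is Gorenstein and A has finite Krull dimension. -/
theorem result (A : Type u) [CommRing A] [IsNoetherianRing A] : (∃ n : ℕ, CategoryTheory.HasInjectiveDimensionLT (ModuleCat.of A A) n) ↔ (LocCoh.IsGorensteinRing A ∧ ringKrullDim A < ⊤) := by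
  have key : ∀ (p : Ideal A) [p.IsPrime] (n : ℕ),
      CategoryTheory.HasInjectiveDimensionLT ((ModuleCat.of A A).localizedModule p.primeCompl) n ↔
        CategoryTheory.HasInjectiveDimensionLT
          (ModuleCat.of (Localization.AtPrime p) (Localization.AtPrime p)) n := by
    intro p _ n
    let f : A →ₗ[A] (ModuleCat.of A A).localizedModule p.primeCompl :=
      (ModuleCat.of A A).localizedModuleMkLinearMap p.primeCompl
    have hf : IsLocalizedModule p.primeCompl f :=
      ModuleCat.localizedModule_isLocalizedModule (ModuleCat.of A A) p.primeCompl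
    let e := ((IsLocalizedModule.linearEquiv p.primeCompl f
      (Algebra.linearMap A (Localization.AtPrime p))).extendScalarsOfIsLocalization p.primeCompl
        (Localization.AtPrime p)).toModuleIso
    exact ⟨fun h => CategoryTheory.hasInjectiveDimensionLT_of_iso e n,
      fun h => CategoryTheory.hasInjectiveDimensionLT_of_iso e.symm n⟩
  constructor
  · rintro ⟨n, hn⟩
    have hn' : CategoryTheory.HasInjectiveDimensionLE (ModuleCat.of A A) n :=
      CategoryTheory.hasInjectiveDimensionLT_of_ge _ n (n + 1) n.le_succ
    have hloc : ∀ (p : Ideal A) [p.IsPrime], CategoryTheory.HasInjectiveDimensionLT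
        (ModuleCat.of (Localization.AtPrime p) (Localization.AtPrime p)) (n + 1) := fun p _ =>
      (key p _).1 ((ModuleCat.of A A).localizedModule_hasInjectiveDimensionLE n p.primeCompl)
    have hG : ∀ (p : Ideal A) [p.IsPrime],
        LocCoh.IsGorensteinLocalRing (Localization.AtPrime p) := fun p _ =>
      { exists_hasInjectiveDimensionLT := ⟨n + 1, hloc p⟩ }
    refine ⟨{ isGorensteinLocalRing_localization := hG }, lt_of_le_of_lt
      ((ringKrullDim_le_iff_height_le (n : WithBot ℕ∞)).2 fun p hp => ?_) ?_⟩
    · have := hG p
      obtain ⟨d, hd⟩ := Groth.Agent.DepthLib.exists_depth_eq_natCast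
        (R := Localization.AtPrime p) (M := Localization.AtPrime p)
      have hdim := (Groth.Agent.GorenLib.gorenstein_invariants d _ hd).1
      rw [IsLocalization.AtPrime.ringKrullDim_eq_height p] at hdim
      rw [hdim]
      obtain ⟨_, _, hnt⟩ := Groth.Agent.GorenLib.gorenstein_of_dim
        (S := Localization.AtPrime p) ((Groth.Agent.GorenLib.gorenstein_invariants d _ hd).1)
      by_contra hlt
      refine not_subsingleton_iff_nontrivial.2 hnt
        (CategoryTheory.HasInjectiveDimensionLT.subsingleton (hX := hloc p) _ (n + 1) d ?_ _)
      have : n < d := by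
        by_contra h'
        exact hlt (by exact_mod_cast (not_lt.1 h'))
      omega
    · exact WithBot.coe_lt_coe.2 (WithTop.coe_lt_top (n : ℕ))
  · rintro ⟨hG, hdim⟩
    obtain ⟨N, hN⟩ : ∃ N : ℕ, ringKrullDim A ≤ N := by
      cases hd : ringKrullDim A with
      | bot => exact ⟨0, bot_le⟩
      | coe d =>
        cases d with
        | top => rw [hd] at hdim; exact absurd hdim (lt_irrefl _)
        | coe d => exact ⟨d, le_rfl⟩
    refine ⟨N + 1, ((ModuleCat.of A A).hasInjectiveDimensionLE_iff_forall_maximalSpectrum N).2
      fun m => (key m.1 _).2 ?_⟩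
    have this_prime := m.2.isPrime
    have := hG.isGorensteinLocalRing_localization m.1
    obtain ⟨d, hd⟩ := Groth.Agent.DepthLib.exists_depth_eq_natCast
      (R := Localization.AtPrime m.1) (M := Localization.AtPrime m.1)
    obtain ⟨hdim', hinj⟩ := Groth.Agent.GorenLib.gorenstein_invariants d _ hd
    rw [IsLocalization.AtPrime.ringKrullDim_eq_height m.1] at hdim'
    have hle := (ringKrullDim_le_iff_height_le _).1 hN this_prime
    rw [hdim'] at hle
    exact CategoryTheory.hasInjectiveDimensionLT_of_ge _ (d + 1) (N + 1)
      (Nat.succ_le_succ (by exact_mod_cast hle))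


end Groth.Agent.S0345
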