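import Groth.Statements.S12886
import Groth.Agent.Lib.CohMop.StalkDepth
import Groth.Agent.Lib.Depth.Devissage

set_option autoImplicit false
set_option linter.style.haveILetI false
universe u
open CategoryTheory CategoryTheory.Limits TopologicalSpace AlgebraicGeometry
open Coherent

namespace Groth.Agent.S12886

/-- Let X be a locally Noetherian scheme, Y a closed subset with open complement U, F a coherent
O_X-module and n a natural number. If some coherent O_X-module G has support equal to Y and ℰxt^i(G,
F) = 0 for all i < n, then the depth of F_x over O_{X,x} is at least n for every point x of Y. (The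
converse holds with G = O_Y. Internal Hom of every O_X-module and injective resolutions of
O_X-modules are the stated instance hypotheses, both true.) -/
theorem result (X : Scheme.{u}) [IsLocallyNoetherian X]
    (U : X.Opens) (F : X.Modules) (hF : Coh.IsCoh F) (n : ℕ)
    [∀ M : X.Modules, ModSite.HasSheafHom (O := X.sheaf) M] [HasInjectiveResolutions (ModSite.Mod X.sheaf)]
    (h : ∃ G : X.Modules, Coh.IsCoh G ∧ CohB1.support G = (U : Set X)ᶜ ∧
      ∀ i : ℕ, i < n → IsZero ((ModSite.extSh (O := X.sheaf) G i).obj F))
    (x : X) (hx : x ∉ (U : Set X)) :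
    (n : ℕ∞) ≤ LocCoh.depth (X.presheaf.stalk x) (F.presheaf.stalk x) := by
  obtain ⟨G, hG, hsupp, hvan⟩ := h
  let A := ModSite.stalkRing (CohMop.pt x) X.sheaf
  haveI : IsLocalRing A := (CohMop.ringCmp x).isLocalRing
  haveI : IsNoetherianRing A := CohMop.isNoetherianRing_stalkRing x
  haveI := CohMop.finite_stFun x hF
  haveI := CohMop.finite_stFun x hG
  rw [CohMop.depth_stFun, LocCoh.depth, DepthLib.natCast_le_idealDepth_iff]
  intro i hi
  have hxs : x ∈ CohB1.support G := hsupp.symm.subset hx
  haveI : Nontrivial ((CohMop.stFun x).obj G) :=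
    (not_subsingleton_iff_nontrivial).1 fun hs => hxs ⟨fun a b => (CohMop.modCmp x G).injective (hs.elim _ _)⟩
  refine DepthLib.subsingleton_ext_of_support_subset ((CohMop.stFun x).obj G) (fun j hj => ?_) i hi _ ?_
  · obtain ⟨e⟩ := CohMop.nonempty_stalk_extSh x hG F j
    exact ModuleCat.subsingleton_of_isZero (((CohMop.stFun x).map_isZero (hvan j hj)).of_iso e.symm)
  · rw [DepthLib.support_quotient]
    intro p hp
    obtain ⟨q, hq⟩ := Module.nonempty_support_of_nontrivial (R := A) (M := (CohMop.stFun x).obj G)
    refine Module.mem_support_mono (?_ : q ≤ p) hq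
    exact (IsLocalRing.le_maximalIdeal q.isPrime.ne_top).trans hp

end Groth.Agent.S12886
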