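import Groth.Statements.S16185
import Groth.Agent.Lib.AlgSpDecent.GorensteinFibre
-- import your own Groth.Agent.* helpers here

set_option autoImplicit false
universe u
open CategoryTheory CategoryTheory.Limits AlgebraicGeometry
open Dual3

namespace Groth.Agent.S16185

/-- Let A be an Artinian local ring with maximal ideal m and let f : P → Spec A be a flat morphism of
schemes whose closed fibre X = P ×_{Spec A} Spec (A/m) is a Gorenstein scheme (locally Noetherian,
all local rings Gorenstein). Then f is a Gorenstein morphism: flat at every point with Gorenstein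
local rings on its fibres. (The source takes A to be a local Artinian algebra over a field k with
residue field k and X a k-scheme deformed flatly over A; the k-algebra structure plays no role, so
the residue field of A is used directly.) -/
theorem result
    {A : Type u} [CommRing A] [IsArtinianRing A] [IsLocalRing A]
    {P X : Scheme.{u}} (f : P ⟶ Spec (CommRingCat.of A)) [Flat f]
    (i : X ⟶ P) (q : X ⟶ Spec (CommRingCat.of (IsLocalRing.ResidueField A)))
    (hsq : IsPullback i q f (Spec.map (CommRingCat.ofHom (IsLocalRing.residue A))))
    (hX : Dual3.IsGorenstein X) : Dual3.IsGorensteinMor f := by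
  intro x
  refine ⟨Flat.stalkMap f x, ?_⟩
  let v : PrimeSpectrum A := f x
  have hv : v.asIdeal = IsLocalRing.maximalIdeal A :=
    IsLocalRing.eq_maximalIdeal (IsArtinianRing.isPrime_iff_isMaximal v.asIdeal |>.1 v.2)
  haveI : v.asIdeal.IsMaximal := hv ▸ inferInstance
  let ρ : IsLocalRing.ResidueField A →+* v.asIdeal.ResidueField :=
    Ideal.Quotient.lift _ (algebraMap A v.asIdeal.ResidueField) fun a ha => by
      rw [Ideal.algebraMap_residueField_eq_zero]; rw [hv]; exact ha
  have hρ : Function.Bijective ρ := ⟨RingHom.injective ρ, fun y => by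
    obtain ⟨a, ha⟩ := v.asIdeal.algebraMap_residueField_surjective y
    exact ⟨IsLocalRing.residue A a, ha⟩⟩
  let j := Spec.map (RingEquiv.ofBijective ρ hρ).toCommRingCatIso.hom
  have hj : Spec.map (Scheme.Spec.residueFieldIso (CommRingCat.of A) v).inv ≫ j ≫
      Spec.map (CommRingCat.ofHom (IsLocalRing.residue A)) =
      (Spec (CommRingCat.of A)).fromSpecResidueField (f x) := by
    rw [show j ≫ Spec.map (CommRingCat.ofHom (IsLocalRing.residue A)) =
      Spec.map (CommRingCat.ofHom (algebraMap A v.asIdeal.ResidueField)) from by
        rw [← Spec.map_comp]; rfl]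
    exact Scheme.Spec.map_residueFieldIso_inv_eq_fromSpecResidueField (CommRingCat.of A) v
  let ε := Spec.map (Scheme.Spec.residueFieldIso (CommRingCat.of A) v).inv ≫ j
  haveI : IsIso ε := inferInstance
  have sq2 : IsPullback (i) (q ≫ inv ε) f ((Spec (CommRingCat.of A)).fromSpecResidueField (f x)) :=
    hsq.of_iso (Iso.refl _) (Iso.refl _) (asIso ε).symm (Iso.refl _) (by simp) (by simp) (by simp)
      (by simp [← hj, ε])
  exact Groth.Agent.AlgSpDecent.GorAt.gorenstein_stalk_of_iso (sq2.isoPullback) hX.2 _

end Groth.Agent.S16185
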