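import Groth.Statements.S4991
import Groth.Agent.Lib.GeomReg18.Descent
import Groth.Agent.Lib.FlatDepth.GenericSmooth

set_option autoImplicit false
universe u
open CategoryTheory CategoryTheory.Limits AlgebraicGeometry TopologicalSpace
open Unram17

namespace Groth.Agent.S4991

/-- Let Y be locally Noetherian and f : X ⟶ Y locally of finite type, smooth on an open neighbourhood of
a point x with image y. Then the local ring of X at x is regular if and only if the local ring of Y
at y is regular. -/
theorem result {X Y : Scheme.{u}} (f : X ⟶ Y)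
    [IsLocallyNoetherian Y] [LocallyOfFiniteType f] (x : ↥X)
    (hx : ∃ U : X.Opens, x ∈ U ∧ Smooth (U.ι ≫ f)) :
    IsRegularLocalRing ↑(X.presheaf.stalk x) ↔ IsRegularLocalRing ↑(Y.presheaf.stalk (f.base x)) := by
  obtain ⟨U, hxU, hU⟩ := hx
  let g := U.ι ≫ f
  haveI : Smooth g := hU
  let w : U.toScheme := ⟨x, hxU⟩
  let e := (asIso (U.ι.stalkMap w)).commRingCatIsoToRingEquiv
  constructor
  · intro h
    haveI : IsRegularLocalRing (U.toScheme.presheaf.stalk w) :=
      IsRegularLocalRing.of_ringEquiv (R := X.presheaf.stalk x) e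
    exact Groth.Agent.GeomReg18.isRegularLocalRing_stalk_of_flat g w inferInstance
  · intro h
    obtain ⟨O, hO, hyO, -⟩ :=
      exists_isAffineOpen_mem_and_subset (X := Y) (x := g w) (U := ⊤) trivial
    obtain ⟨V, hV, hwV, hVO⟩ :=
      exists_isAffineOpen_mem_and_subset (X := U.toScheme) (x := w) (U := g ⁻¹ᵁ O) hyO
    have hsm := g.smooth_appLE hO hV hVO
    haveI : IsNoetherianRing Γ(Y, O) := IsLocallyNoetherian.component_noetherian ⟨O, hO⟩
    algebraize [(g.appLE O V hVO).hom]
    letI := Y.presheaf.algebra_section_stalk (U := O) ⟨g w, hyO⟩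
    haveI := hO.isLocalization_stalk ⟨g w, hyO⟩
    letI := U.toScheme.presheaf.algebra_section_stalk (U := V) ⟨w, hwV⟩
    haveI := hV.isLocalization_stalk ⟨w, hwV⟩
    haveI : IsRegularLocalRing (Localization.AtPrime
        ((hV.primeIdealOf ⟨w, hwV⟩).asIdeal.comap (algebraMap Γ(Y, O) Γ(U.toScheme, V)))) := by
      have hc := congrArg PrimeSpectrum.asIdeal (IsAffineOpen.comap_primeIdealOf_appLE O hO V hV hVO hwV)
      haveI : IsLocalization.AtPrime (Y.presheaf.stalk (g w))
          ((hV.primeIdealOf ⟨w, hwV⟩).asIdeal.comap (algebraMap Γ(Y, O) Γ(U.toScheme, V))) := by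
        convert! hO.isLocalization_stalk ⟨g w, hyO⟩ using 2
      haveI : IsRegularLocalRing (Y.presheaf.stalk (g w)) := h
      exact IsRegularLocalRing.of_ringEquiv
        (IsLocalization.algEquiv ((hV.primeIdealOf ⟨w, hwV⟩).asIdeal.comap
          (algebraMap Γ(Y, O) Γ(U.toScheme, V))).primeCompl (Y.presheaf.stalk (g w)) _).toRingEquiv
    haveI := Groth.Agent.FlatDepth.regular_of_smooth (A := Γ(Y, O)) (hV.primeIdealOf ⟨w, hwV⟩).asIdeal
    haveI : IsRegularLocalRing (U.toScheme.presheaf.stalk w) :=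
      IsRegularLocalRing.of_ringEquiv
        (IsLocalization.algEquiv (hV.primeIdealOf ⟨w, hwV⟩).asIdeal.primeCompl
          (Localization.AtPrime (hV.primeIdealOf ⟨w, hwV⟩).asIdeal) (U.toScheme.presheaf.stalk w)).toRingEquiv
    exact IsRegularLocalRing.of_ringEquiv (R := U.toScheme.presheaf.stalk w) e.symm

end Groth.Agent.S4991
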