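import Groth.Statements.S1682
import Groth.Agent.Lib.EffCartier.Mul
import Mathlib.AlgebraicGeometry.IdealSheaf.Functorial

set_option autoImplicit false
universe u
open CategoryTheory CategoryTheory.Limits AlgebraicGeometry TopologicalSpace
open SDiv

namespace Groth.Agent.S1682

/-- Let b : X' ⟶ X be a blowing-up of X along the quasi-coherent ideal sheaf 𝓘, with centre Z = support
of 𝓘. Then b restricted over the open complement of Z is an isomorphism. -/
theorem result {X X' : Scheme.{u}} (𝓘 : X.IdealSheafData) (b : X' ⟶ X) (hb : BlowUp.IsBlowUp b 𝓘) :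
    IsIso (b ∣_ 𝓘.support.compl) := by
  obtain ⟨-, huniv⟩ := hb
  set U : X.Opens := 𝓘.support.compl with hUdef
  have htop : ∀ {Y : Scheme.{u}} (g : Y ⟶ (U : Scheme.{u})), 𝓘.comap (g ≫ U.ι) = ⊤ := by
    intro Y g
    rw [← Scheme.IdealSheafData.support_eq_bot_iff, Scheme.IdealSheafData.support_comap]
    ext y
    refine ⟨fun h => ?_, fun h => h.elim⟩
    exact (g y).2 h
  have hE : ∀ {Y : Scheme.{u}} (g : Y ⟶ (U : Scheme.{u})), BlowUp.IsEffCartierIdeal (𝓘.comap (g ≫ U.ι)) := by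
    intro Y g
    rw [htop g]
    exact Groth.Agent.EffCartier.isEffCartierIdeal_top
  obtain ⟨h, hh, -⟩ := huniv _ U.ι (Category.id_comp U.ι ▸ hE (𝟙 _))
  have hr : ∀ z, h z ∈ b ⁻¹ᵁ U := fun z => by
    change b (h z) ∈ U
    rw [← Scheme.Hom.comp_apply, hh]
    exact z.2
  let h' : (U : Scheme.{u}) ⟶ (b ⁻¹ᵁ U : X'.Opens) := IsOpenImmersion.lift (b ⁻¹ᵁ U).ι h
    (by rw [Scheme.Opens.range_ι]; rintro _ ⟨z, rfl⟩; exact hr z)
  have h'ι : h' ≫ (b ⁻¹ᵁ U).ι = h := IsOpenImmersion.lift_fac _ _ _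
  refine ⟨h', ?_, ?_⟩
  · rw [← cancel_mono (b ⁻¹ᵁ U).ι, Category.assoc, h'ι, Category.id_comp]
    obtain ⟨k, -, hk⟩ := huniv _ ((b ∣_ U) ≫ U.ι) (hE _)
    exact (hk _ (by change ((b ∣_ U) ≫ h) ≫ b = _; rw [Category.assoc, hh])).trans
      (hk _ (morphismRestrict_ι b U).symm).symm
  · rw [← cancel_mono U.ι, Category.assoc, morphismRestrict_ι, ← Category.assoc, h'ι, hh, Category.id_comp]

end Groth.Agent.S1682
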