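import Groth.Statements.S13585
import Groth.Prelude.Def_Canon
import Groth.Agent.Lib.SmImm2.Main
import Groth.Agent.Lib.Wedge2.Props
import Groth.Agent.Lib.Omega12.BaseChange
import Groth.Agent.Lib.Omega12.Compat
import Mathlib.AlgebraicGeometry.Morphisms.Smooth
import Mathlib.AlgebraicGeometry.Morphisms.Separated
import Mathlib.AlgebraicGeometry.Noetherian

set_option autoImplicit false
set_option linter.style.haveILetI false
set_option backward.isDefEq.respectTransparency false
set_option backward.isDefEq.respectTransparency.types false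
set_option synthInstance.maxHeartbeats 400000
set_option maxHeartbeats 1600000
universe u
open CategoryTheory CategoryTheory.Limits AlgebraicGeometry
open Canon

namespace Groth.Agent.S13585
open CategoryTheory CategoryTheory.Limits AlgebraicGeometry

open Groth.Agent

theorem zero_of_rank {X : Scheme.{u}} {M : X.Modules} (h : FlatMod.IsFinLocFreeOfRank 0 M) : IsZero M := by
  rw [IsZero.iff_id_eq_zero]
  refine Scheme.Modules.hom_ext _ _ fun U => ?_
  ext a
  refine M1.section_ext _ _ fun x hx => ?_
  obtain ⟨e⟩ := CurveCoh17.nonempty_stalk_equiv h x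
  exact e.injective (Subsingleton.elim _ _)

theorem iso_of_sec {X P : Scheme.{u}} (p : P ⟶ X) (s : X ⟶ P) (hs : s ≫ p = 𝟙 X) (n : ℕ)
    [SmoothOfRelativeDimension n p] [QuasiSeparated p] [IsClosedImmersion s] :
    RegImm.IsRegularImmersionOfCodim .regular n s ∧
      Nonempty ((Scheme.Modules.pullback s).obj (Omega.sheaf p) ≅ Omega.conormal s) := by
  haveI : SmoothOfRelativeDimension 0 (s ≫ p) := by rw [hs]; infer_instance
  haveI : QuasiSeparated (s ≫ p) := by rw [hs]; infer_instance
  haveI : Smooth p := SmoothOfRelativeDimension.smooth n p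
  haveI : Smooth (s ≫ p) := SmoothOfRelativeDimension.smooth 0 (s ≫ p)
  obtain ⟨T, hT, h1, h2, h3, hC, hX, hY⟩ := SmImm2.exists_conormal_ses p s n 0
  refine ⟨SmImm2.regular_codim_of_rank (SmImm2.regular_of_smooth p s) hC, ?_⟩
  haveI : IsIso T.f := hT.isIso_f_iff.2 (h3 ▸ zero_of_rank hY)
  exact ⟨eqToIso h2.symm ≪≫ (asIso T.f).symm ≪≫ eqToIso h1⟩

/-- Let `f : X ⟶ Y` and `g : Y ⟶ Z` be morphisms of schemes with `g` smooth of relative dimension `n`,
and let `Γ : X ⟶ X ×_Z Y` be the graph of `f`. Then `Γ` is a regular immersion of codimension `n`,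
and the top exterior power of its conormal sheaf is `f^* ω_{Y/Z}`, where `ω_{Y/Z} = Λ^n Ω_{Y/Z}`;
that is, the canonical sheaf of the immersion `Γ` is the dual of `f^* ω_{Y/Z}`. (This row takes `X`
locally Noetherian and `g` separated, so that the graph is a closed immersion and the criterion for
sections of smooth morphisms over a locally Noetherian base, through which the published proof goes,
applies; the published statement has arbitrary preschemes.) -/
theorem result {X Y Z : Scheme.{u}} [IsLocallyNoetherian X]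
    (f : X ⟶ Y) (g : Y ⟶ Z) (n : ℕ) [SmoothOfRelativeDimension n g] [IsSeparated g]
    (ωY : Y.Modules) (hω : Canon.IsTopDiff g n ωY) :
    RegImm.IsRegularImmersionOfCodim .regular n (pullback.lift (𝟙 X) f (Category.id_comp (f ≫ g))) ∧
      ExtPow.IsExtPow n (Omega.conormal (pullback.lift (𝟙 X) f (Category.id_comp (f ≫ g))))
        ((Scheme.Modules.pullback f).obj ωY) := by
  let P := pullback (f ≫ g) g
  let p : P ⟶ X := pullback.fst (f ≫ g) g
  let q : P ⟶ Y := pullback.snd (f ≫ g) g
  let s : X ⟶ P := pullback.lift (𝟙 X) f (Category.id_comp (f ≫ g))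
  have hsp : s ≫ p = 𝟙 X := pullback.lift_fst _ _ _
  have hsq : s ≫ q = f := pullback.lift_snd _ _ _
  haveI := smoothOfRelativeDimension_isStableUnderBaseChange (n := n)
  haveI : SmoothOfRelativeDimension n p :=
    MorphismProperty.pullback_fst (P := @SmoothOfRelativeDimension n) _ _ ‹_›
  haveI : IsSeparated p := inferInstanceAs (IsSeparated (pullback.fst _ _))
  haveI : IsClosedImmersion s := by
    haveI : IsClosedImmersion (s ≫ p) := by rw [hsp]; infer_instance
    exact IsClosedImmersion.of_comp s p
  obtain ⟨h1, ⟨e⟩⟩ := iso_of_sec p s hsp n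
  refine ⟨h1, ?_⟩
  have sq : IsPullback q p g (f ≫ g) := (IsPullback.of_hasPullback (f ≫ g) g).flip
  have hd := Omega12.isUniversal_dOmega (f := g)
  have hd' := Omega12.isUniversal_dOmega (f := p)
  obtain ⟨c, hc, -⟩ := Omega12.existsUnique_diffCompat sq.w.symm hd (OmegaSh.dOmega p)
  haveI := Omega12.isIso_diffCompat_of_isPullback sq hd hd' c hc
  refine Wedge2.isExtPow_of_iso ?_ (Iso.refl _) (Wedge2.isExtPow_pullback' f (Omega12.isQCoh_receptacle g hd) hω)
  exact (Scheme.Modules.pullbackCongr hsq).symm.app (Omega.sheaf g) ≪≫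
    ((Scheme.Modules.pullbackComp s q).app (Omega.sheaf g)).symm ≪≫
    (Scheme.Modules.pullback s).mapIso (asIso c) ≪≫ e

end Groth.Agent.S13585
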