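import Groth.Statements.S9438
import Mathlib
import Groth.Agent.Lib.Depth.BaseChange
import Groth.Agent.Lib.Depth.More
import Groth.Agent.Lib.RegLoc.GlobalDim
import Groth.Agent.Lib.Hens.Noetherian

set_option autoImplicit false
universe u
open CAlg

namespace Groth.Agent.S9438
open IsLocalRing TensorProduct

theorem exists_over (R S : Type u) [CommRing R] [CommRing S] [Algebra R S]
    [Module.FaithfullyFlat R S] [IsNoetherianRing R] [IsNoetherianRing S] (p : Ideal R) [p.IsPrime] :
    ∃ q : Ideal S, q.IsPrime ∧ q.comap (algebraMap R S) = p ∧ q ∈ (p.map (algebraMap R S)).minimalPrimes ∧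
      q.height = p.height := by
  obtain ⟨⟨q₀, hq₀⟩, hq₀p⟩ := PrimeSpectrum.comap_surjective_of_faithfullyFlat (A := R) (B := S) ⟨p, ‹_›⟩
  have hp : q₀.comap (algebraMap R S) = p := congrArg PrimeSpectrum.asIdeal hq₀p
  obtain ⟨q, hq, hle⟩ := Ideal.exists_minimalPrimes_le (I := p.map (algebraMap R S)) (J := q₀)
    (Ideal.map_le_iff_le_comap.2 hp.ge)
  have hqP : q.IsPrime := hq.1.1
  have hqp : q.comap (algebraMap R S) = p :=
    le_antisymm ((Ideal.comap_mono hle).trans hp.le) (Ideal.map_le_iff_le_comap.1 hq.1.2)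
  refine ⟨q, hqP, hqp, hq, ?_⟩
  haveI : q.LiesOver p := ⟨hqp.symm⟩
  rw [Ideal.height_eq_height_add_of_liesOver_of_hasGoingDown p q]
  suffices h0 : (q.map (Ideal.Quotient.mk (p.map (algebraMap R S)))).height = 0 by rw [h0, add_zero]
  haveI := Ideal.map_isPrime_of_surjective (f := Ideal.Quotient.mk (p.map (algebraMap R S)))
    Ideal.Quotient.mk_surjective (by rw [Ideal.mk_ker]; exact hq.1.2 : RingHom.ker _ ≤ q)
  rw [Ideal.height_eq_zero_iff]
  refine ⟨⟨inferInstance, bot_le⟩, fun P hP hPle => ?_⟩
  haveI := hP.1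
  have h1 : P.comap (Ideal.Quotient.mk (p.map (algebraMap R S))) ≤ q := by
    refine (Ideal.comap_mono hPle).trans ?_
    rw [Ideal.comap_map_of_surjective _ Ideal.Quotient.mk_surjective, ← RingHom.ker_eq_comap_bot, Ideal.mk_ker]
    exact sup_le le_rfl hq.1.2
  have h2 : q ≤ P.comap (Ideal.Quotient.mk (p.map (algebraMap R S))) :=
    hq.2 ⟨inferInstance, fun x hx => by
      rw [Ideal.mem_comap, Ideal.Quotient.eq_zero_iff_mem.2 hx]; exact zero_mem P⟩ h1
  exact Ideal.map_le_iff_le_comap.2 h2

theorem isNoetherianRing (R S : Type u) [CommRing R] [CommRing S] [Algebra R S]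
    [Module.FaithfullyFlat R S] [IsNoetherianRing S] : IsNoetherianRing R :=
  Groth.Agent.Hens.isNoetherianRing_of_faithfullyFlat R S

/-- The condition (R_k) descends along faithfully flat ring maps: if S is faithfully flat over R,
Noetherian and (R_k), then R is Noetherian and (R_k). -/
theorem result (k : ℕ) (R : Type u) [CommRing R] (S : Type u) [CommRing S]
    [Algebra R S] [Module.FaithfullyFlat R S] [IsNoetherianRing S] (hS : LocCoh.HasRk k S) :
    IsNoetherianRing R ∧ LocCoh.HasRk k R := by
  haveI := isNoetherianRing R S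
  refine ⟨inferInstance, fun p _ hk => ?_⟩
  obtain ⟨q, hqP, hqp, -, hh⟩ := exists_over R S p
  haveI : q.LiesOver p := ⟨hqp.symm⟩
  letI := Localization.AtPrime.algebraOfLiesOver p q
  haveI : IsLocalHom (algebraMap (Localization.AtPrime p) (Localization.AtPrime q)) :=
    Localization.isLocalHom_localRingHom p q (algebraMap R S) hqp.symm
  haveI : Module.Flat (Localization.AtPrime p) (Localization.AtPrime q) :=
    (Module.flat_iff_of_isLocalization (R := R) (S := Localization.AtPrime p)
      (M := Localization.AtPrime q) p.primeCompl).mpr inferInstance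
  haveI : IsRegularLocalRing (Localization.AtPrime q) := hS q (hh ▸ hk)
  exact Groth.Agent.RegLoc.isRegularLocalRing_of_flat (Localization.AtPrime p) (Localization.AtPrime q)

end Groth.Agent.S9438
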