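import Groth.Statements.S9437
import Groth.Agent.S9438
import Mathlib
import Groth.Agent.Lib.Depth.BaseChange
import Groth.Agent.Lib.Depth.More
import Groth.Agent.Lib.RegLoc.GlobalDim
import Groth.Agent.Lib.Hens.Noetherian

set_option autoImplicit false
universe u
open CAlg

namespace Groth.Agent.S9437
open IsLocalRing TensorProduct

open Groth.Agent.DepthLib in
theorem idealDepth_le_of_zeroLocus {A : Type u} [CommRing A] [IsNoetherianRing A] (I J : Ideal A)
    (h : PrimeSpectrum.zeroLocus (I : Set A) ⊆ PrimeSpectrum.zeroLocus (J : Set A)) :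
    LocCoh.idealDepth J A ≤ LocCoh.idealDepth I A :=
  ENat.forall_natCast_le_iff_le.1 fun n hn => (natCast_le_idealDepth_iff n).2 fun i hi =>
    subsingleton_ext_of_le_idealDepth hn (ModuleCat.of A (A ⧸ I)) ((support_quotient I).subset.trans h) hi

open Groth.Agent.DepthLib in
theorem depth_eq (A B : Type u) [CommRing A] [CommRing B] [Algebra A B] [IsLocalRing A] [IsLocalRing B]
    [IsNoetherianRing A] [IsNoetherianRing B] [Module.Flat A B] [IsLocalHom (algebraMap A B)]
    (hmin : maximalIdeal B ∈ ((maximalIdeal A).map (algebraMap A B)).minimalPrimes) :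
    LocCoh.depth B B = LocCoh.depth A A := by
  haveI := Module.FaithfullyFlat.of_flat_of_isLocalHom (A := A) (B := B)
  have hle : (maximalIdeal A).map (algebraMap A B) ≤ maximalIdeal B := hmin.1.2
  have h1 : LocCoh.idealDepth (maximalIdeal B) B = LocCoh.idealDepth ((maximalIdeal A).map (algebraMap A B)) B := by
    refine le_antisymm (idealDepth_le_of_zeroLocus _ _ fun P hP => ?_) (idealDepth_mono hle)
    rw [PrimeSpectrum.mem_zeroLocus, SetLike.coe_subset_coe] at hP ⊢
    exact hmin.2 ⟨P.2, hP⟩ (le_maximalIdeal P.2.ne_top)
  show LocCoh.idealDepth (maximalIdeal B) B = LocCoh.idealDepth (maximalIdeal A) A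
  rw [h1, ← idealDepth_baseChange_eq (A := A) (B := B) (M := A) (I := maximalIdeal A)]
  exact (idealDepth_congr (Algebra.TensorProduct.rid A B B).toLinearEquiv).symm

/-- Serre's condition (S_k) descends along faithfully flat ring maps: if S is faithfully flat over R,
Noetherian and (S_k), then R is Noetherian and (S_k). -/
theorem result (k : ℕ) (R : Type u) [CommRing R] (S : Type u) [CommRing S]
    [Algebra R S] [Module.FaithfullyFlat R S] [IsNoetherianRing S] (hS : LocCoh.HasSk k S S) :
    IsNoetherianRing R ∧ LocCoh.HasSk k R R := by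
  haveI := S9438.isNoetherianRing R S
  refine ⟨inferInstance, fun p _ => ?_⟩
  have key : ∀ (A : Type u) [CommRing A] (q : Ideal A) [q.IsPrime],
      (min (k : WithBot ℕ∞) (Module.supportDim (Localization.AtPrime q)
          (LocalizedModule q.primeCompl A)) ≤
        ((LocCoh.depth (Localization.AtPrime q) (LocalizedModule q.primeCompl A) : ℕ∞) :
          WithBot ℕ∞)) ↔
      (min (k : WithBot ℕ∞) (ringKrullDim (Localization.AtPrime q)) ≤
        ((LocCoh.depth (Localization.AtPrime q) (Localization.AtPrime q) : ℕ∞) : WithBot ℕ∞)) := by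
    intro A _ q _
    let e : LocalizedModule q.primeCompl A ≃ₗ[Localization.AtPrime q] Localization.AtPrime q :=
      LinearEquiv.refl _ _
    rw [← Module.supportDim_self_eq_ringKrullDim, Module.supportDim_eq_of_equiv e,
      show LocCoh.depth (Localization.AtPrime q) (LocalizedModule q.primeCompl A) =
        LocCoh.depth (Localization.AtPrime q) (Localization.AtPrime q) from
        Groth.Agent.DepthLib.idealDepth_congr e]
  obtain ⟨q, hqP, hqp, hqm, hh⟩ := S9438.exists_over R S p
  haveI : q.LiesOver p := ⟨hqp.symm⟩
  letI := Localization.AtPrime.algebraOfLiesOver p q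
  haveI : IsLocalHom (algebraMap (Localization.AtPrime p) (Localization.AtPrime q)) :=
    Localization.isLocalHom_localRingHom p q (algebraMap R S) hqp.symm
  haveI : Module.Flat (Localization.AtPrime p) (Localization.AtPrime q) :=
    (Module.flat_iff_of_isLocalization (R := R) (S := Localization.AtPrime p)
      (M := Localization.AtPrime q) p.primeCompl).mpr inferInstance
  have hmap : (maximalIdeal (Localization.AtPrime p)).map (algebraMap (Localization.AtPrime p) (Localization.AtPrime q))
      = (p.map (algebraMap R S)).map (algebraMap S (Localization.AtPrime q)) := by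
    rw [← Localization.AtPrime.map_eq_maximalIdeal, Ideal.map_map, Ideal.map_map,
      ← IsScalarTower.algebraMap_eq, ← IsScalarTower.algebraMap_eq]
  have hmin : maximalIdeal (Localization.AtPrime q) ∈
      ((maximalIdeal (Localization.AtPrime p)).map (algebraMap _ (Localization.AtPrime q))).minimalPrimes := by
    rw [hmap, IsLocalization.minimalPrimes_map q.primeCompl, Set.mem_preimage,
      Localization.AtPrime.under_maximalIdeal]
    exact hqm
  have hd := depth_eq (Localization.AtPrime p) (Localization.AtPrime q) hmin
  have hdim : ringKrullDim (Localization.AtPrime q) = ringKrullDim (Localization.AtPrime p) := by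
    rw [IsLocalization.AtPrime.ringKrullDim_eq_height q, IsLocalization.AtPrime.ringKrullDim_eq_height p, hh]
  have := (key S q).1 (hS q)
  rw [key, ← hd, ← hdim]
  exact this

end Groth.Agent.S9437
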