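import Groth.Statements.S4562
import Groth.Agent.Lib.IntClosFin.Main

set_option autoImplicit false
universe u
open CAlg

namespace Groth.Agent.S4562

/-- Let A be a Noetherian domain with fraction field K. If the integral closure of A in every finite
purely inseparable extension of K is a finitely generated A-module, then A is Japanese (N-2). -/
theorem result (A : Type u) [CommRing A] [IsDomain A]
    [IsNoetherianRing A]
    (h : ∀ (K' : Type u) [Field K'] [Algebra A K'] [Algebra (FractionRing A) K']
      [IsScalarTower A (FractionRing A) K'], FiniteDimensional (FractionRing A) K' →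
      IsPurelyInseparable (FractionRing A) K' → Module.Finite A (integralClosure A K')) :
    CAlg.IsN2 A := by
  intro L _ _ _ _ hL
  haveI := hL
  let P := A
  let F := FractionRing A
  let Ω := AlgebraicClosure L
  let N : IntermediateField F Ω := IntermediateField.normalClosure F L Ω
  haveI : FiniteDimensional F N := normalClosure.is_finiteDimensional F L Ω
  haveI : Normal F N := normalClosure.normal F L Ω
  let M : IntermediateField F N := IntermediateField.fixedField (⊤ : Subgroup Gal(N/F))
  haveI : IsPurelyInseparable F M := Groth.Agent.IntClosFin.isPurelyInseparable_of_fixed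
  haveI : IsScalarTower P F M := IsScalarTower.of_algebraMap_eq fun x => Subtype.ext (IsScalarTower.algebraMap_apply P F N x)
  haveI : Module.Finite P (integralClosure P M) := h M inferInstance inferInstance
  haveI : IsFractionRing (integralClosure P M) M := IsIntegralClosure.isFractionRing_of_finite_extension P F M _
  haveI : IsIntegrallyClosed (integralClosure P M) := integralClosure.isIntegrallyClosedOfFiniteExtension F
  haveI : IsGalois M N := IsGalois.of_fixed_field N (⊤ : Subgroup Gal(N/F))
  haveI : IsScalarTower (integralClosure P M) M N := IsScalarTower.of_algebraMap_eq fun x => rfl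
  haveI : IsScalarTower P (integralClosure P M) N := IsScalarTower.of_algebraMap_eq fun x => rfl
  haveI : Module.Finite P (integralClosure P N) := Groth.Agent.IntClosFin.finite_integralClosure_tower P (integralClosure P M) M N
  obtain ⟨j⟩ : Nonempty (L →ₐ[F] N) :=
    ⟨(IntermediateField.inclusion ((IsScalarTower.toAlgHom F L Ω).fieldRange_le_normalClosure)).comp
      (IsScalarTower.toAlgHom F L Ω).equivFieldRange.toAlgHom⟩
  let jP : L →ₐ[P] N := j.restrictScalars P
  let g : integralClosure P L →ₗ[P] integralClosure P N :=
    { toFun := fun x => ⟨jP x, x.2.map jP⟩
      map_add' := fun x y => Subtype.ext (map_add jP (x : L) (y : L))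
      map_smul' := fun c x => Subtype.ext (jP.toLinearMap.map_smul c (x : L)) }
  exact Module.Finite.of_injective g fun x y h =>
    Subtype.ext ((j : L →+* N).injective (congrArg Subtype.val h :))

end Groth.Agent.S4562
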