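import Groth.Statements.S7127
import Groth.Agent.Lib.WEtaleH7.AbsFlat
import Groth.Agent.Lib.WEtaleH7.Field
import Groth.Agent.Lib.WEtaleH7.Misc

set_option autoImplicit false
universe u
open EtAlg

namespace Groth.Agent.S7127

/-- Let A be a ring and B → C an A-algebra homomorphism between weakly étale A-algebras. Then C is
weakly étale over B. -/
theorem result (A B C : Type u) [CommRing A] [CommRing B] [CommRing C]
    [Algebra A B] [Algebra A C] [Algebra B C] [IsScalarTower A B C] [Algebra.WeaklyEtale A B]
    [Algebra.WeaklyEtale A C] : Algebra.WeaklyEtale B C := by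
  open scoped TensorProduct Polynomial in
  haveI : Module.Flat B C := WEtaleH7.flat_of_flat_lmul A C (Algebra.WeaklyEtale.flat_lmul' A B)
  refine { flat_lmul' := ?_ }
  let π : C ⊗[A] C →ₐ[A] C ⊗[B] C := Algebra.TensorProduct.mapOfCompatibleSMul B A A C C
  have hπ : Function.Surjective π := fun z => by
    induction z with
    | zero => exact ⟨0, map_zero π⟩
    | add a b ha hb =>
      obtain ⟨x, rfl⟩ := ha
      obtain ⟨y, rfl⟩ := hb
      exact ⟨x + y, map_add π x y⟩
    | tmul a b => exact ⟨a ⊗ₜ b, rfl⟩
  have heq : ((Algebra.TensorProduct.lmul' B (S := C)).restrictScalars A).comp π =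
      Algebra.TensorProduct.lmul' A (S := C) := by
    ext <;> simp [π]
  refine WEtaleH7.flat_of_comp_surjective π.toRingHom
    (Algebra.TensorProduct.lmul' B (S := C)).toRingHom hπ ?_
  have h0 := Algebra.WeaklyEtale.flat_lmul' A C
  rw [← heq] at h0
  exact h0

end Groth.Agent.S7127
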