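import Groth.Statements.S1366
import Groth.Agent.Lib.HensProper6.Apps
import Groth.Agent.Lib.ProjSpace.Basic
import Groth.Agent.S7409

set_option autoImplicit false
universe u
open FlatMor

set_option backward.isDefEq.respectTransparency.types false

namespace Groth.Agent.S1366


set_option backward.isDefEq.respectTransparency.types false

open AlgebraicGeometry CategoryTheory Limits in
theorem aux_lift {A : Type u} [CommRing A] {I : Ideal A} (hA : HenselianRing A I)
    {X X' Xb : Scheme.{u}} (f : X ⟶ Spec (CommRingCat.of A)) [IsSeparated f]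
    (π : X' ⟶ X) [IsProper π] [Surjective π] (k : X' ⟶ Xb) [IsOpenImmersion k]
    (fb : Xb ⟶ Spec (CommRingCat.of A)) [IsProper fb] (hk : k ≫ fb = π ≫ f)
    {Z : Scheme.{u}} (ι : Z ⟶ X) [IsProper (ι ≫ f)] (O : X.Opens)
    (hZ : Set.range ι = f ⁻¹' PrimeSpectrum.zeroLocus (I : Set A) ∩ (O : Set X)) :
    ∃ W : X.Opens, IsClosed (W : Set X) ∧ UniversallyClosed (W.ι ≫ f) ∧
      (W : Set X) ∩ f ⁻¹' PrimeSpectrum.zeroLocus (I : Set A) = Set.range ι := by
  have hke : Topology.IsOpenEmbedding k := k.isOpenEmbedding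
  have hfb : ∀ a, fb (k a) = f (π a) := fun a => by
    rw [← Scheme.Hom.comp_apply, hk, Scheme.Hom.comp_apply]
  let P : Set Xb := k '' (π ⁻¹' Set.range ι)
  have hPc : IsClosed P := by
    haveI : IsProper ((pullback.fst π ι ≫ k) ≫ fb) := by
      rw [Category.assoc, hk, pullback.condition_assoc]
      infer_instance
    haveI : IsProper (pullback.fst π ι ≫ k) := IsProper.of_comp _ fb
    have h : Set.range (pullback.fst π ι ≫ k) = P := by
      rw [Scheme.Hom.comp_base, TopCat.coe_comp, Set.range_comp, Scheme.Pullback.range_fst]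
    exact h ▸ (pullback.fst π ι ≫ k).isClosedMap.isClosed_range
  let T : Set Xb := fb ⁻¹' PrimeSpectrum.zeroLocus (I : Set A)
  have hTc : IsClosed T := (PrimeSpectrum.isClosed_zeroLocus _).preimage fb.continuous
  have hPT : P = T ∩ k '' (π ⁻¹' (O : Set X)) := by
    ext y
    constructor
    · rintro ⟨a, ha, rfl⟩
      have ha' : π a ∈ Set.range ι := ha
      rw [hZ] at ha'
      exact ⟨by simp only [T, Set.mem_preimage, hfb]; exact ha'.1, a, ha'.2, rfl⟩
    · rintro ⟨h, a, ha, rfl⟩
      refine ⟨a, ?_, rfl⟩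
      show π a ∈ Set.range ι
      rw [hZ]
      exact ⟨by simp only [T, Set.mem_preimage, hfb] at h ⊢; exact h, ha⟩
  have hQc : IsClosed (T \ k '' (π ⁻¹' (O : Set X))) :=
    hTc.sdiff (hke.isOpenMap _ (O.2.preimage π.continuous))
  obtain ⟨Wb, hWb, hPW, hWQ⟩ := Groth.Agent.HensProper6.exists_isClopen hA fb hPc hQc
    (by rw [hPT]; exact Set.disjoint_sdiff_right.mono_left Set.inter_subset_right)
    (by rw [hPT, Set.inter_union_sdiff])
  have hWT : ∀ y ∈ Wb, y ∈ T → y ∈ P := by
    intro y hy hyT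
    rw [hPT]
    refine ⟨hyT, ?_⟩
    by_contra hn
    exact Set.disjoint_left.mp hWQ hy ⟨hyT, hn⟩
  have hrange : Wb ⊆ Set.range k := by
    have h := Groth.Agent.HensProper6.eq_empty_of_isClosed hA fb
      (hWb.1.sdiff hke.isOpen_range) (Z := Wb \ Set.range k) (Set.disjoint_left.mpr fun y hy hyT => by
        obtain ⟨a, -, rfl⟩ := hWT y hy.1 hyT
        exact hy.2 ⟨a, rfl⟩)
    exact Set.sdiff_eq_empty.mp h
  let W' : Set X' := k ⁻¹' Wb
  have hW' : IsClopen W' := hWb.preimage k.continuous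
  let C : Set X := π '' W'ᶜ
  have hCc : IsClosed C := π.isClosedMap _ hW'.2.isClosed_compl
  have hdisj : ∀ a ∈ W', π a ∉ C := by
    let S : Set X' := W' ∩ π ⁻¹' C
    have hS : IsClosed S := hW'.1.inter (hCc.preimage π.continuous)
    have hkS : IsClosed (k '' S) := by
      have : k '' S = Wb \ k '' Sᶜ := by
        ext y
        constructor
        · rintro ⟨a, ha, rfl⟩
          exact ⟨ha.1, fun ⟨b, hb, hba⟩ => hb (hke.injective hba ▸ ha)⟩
        · rintro ⟨hy, hn⟩
          obtain ⟨a, rfl⟩ := hrange hy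
          exact ⟨a, by_contra fun h => hn ⟨a, h, rfl⟩, rfl⟩
      rw [this]
      exact hWb.1.sdiff (hke.isOpenMap _ hS.isOpen_compl)
    have h := Groth.Agent.HensProper6.eq_empty_of_isClosed hA fb hkS
      (Set.disjoint_left.mpr fun y hy hyT => by
        obtain ⟨a, ⟨haW, hb'⟩, rfl⟩ := hy
        obtain ⟨b, hb, hba⟩ := hb'
        obtain ⟨a', ha', hka⟩ := hWT _ haW hyT
        have : a' = a := hke.injective hka
        subst this
        refine hb (hPW ⟨b, ?_, rfl⟩)
        show π b ∈ Set.range ι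
        rw [hba]; exact ha')
    intro a ha hC
    exact (Set.eq_empty_iff_forall_notMem.mp h) (k a) ⟨a, ⟨ha, hC⟩, rfl⟩
  have hWC : π '' W' = Cᶜ := by
    ext x
    constructor
    · rintro ⟨a, ha, rfl⟩
      exact hdisj a ha
    · intro hx
      obtain ⟨a, rfl⟩ := π.surjective x
      exact ⟨a, by_contra fun h => hx ⟨a, h, rfl⟩, rfl⟩
  let W : X.Opens := ⟨Cᶜ, hCc.isOpen_compl⟩
  have hWclosed : IsClosed (W : Set X) := by
    show IsClosed Cᶜ
    rw [← hWC]; exact π.isClosedMap _ hW'.1
  have hpre : π ⁻¹' (W : Set X) = W' := by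
    ext a
    exact ⟨fun h => by_contra fun hn => h ⟨a, hn, rfl⟩, hdisj a⟩
  refine ⟨W, hWclosed, ?_, ?_⟩
  · let V : X'.Opens := π ⁻¹ᵁ W
    haveI : IsClosedImmersion (V.ι ≫ k) := IsClosedImmersion.of_isPreimmersion _ (by
      rw [Scheme.Hom.comp_base, TopCat.coe_comp, Set.range_comp]
      have : k '' Set.range V.ι = Wb := by
        rw [Scheme.Opens.range_ι]
        show k '' (π ⁻¹' (W : Set X)) = Wb
        rw [hpre, Set.image_preimage_eq_of_subset hrange]
      rw [this]
      exact hWb.1)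
    haveI : Surjective (π ∣_ W) := IsZariskiLocalAtTarget.restrict ‹_› W
    haveI : UniversallyClosed ((π ∣_ W) ≫ W.ι ≫ f) := by
      rw [morphismRestrict_ι_assoc, ← hk, ← Category.assoc]
      infer_instance
    exact UniversallyClosed.of_comp_surjective (π ∣_ W) _
  · ext x
    constructor
    · rintro ⟨hxW, hxT⟩
      have hxW' : x ∈ π '' W' := by rw [hWC]; exact hxW
      obtain ⟨a, ha, rfl⟩ := hxW'
      obtain ⟨a', ha', hka⟩ := hWT (k a) ha (by simp only [T, Set.mem_preimage, hfb] at hxT ⊢; exact hxT)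
      have : a' = a := hke.injective hka
      subst this
      exact ha'
    · intro hx
      have hx' := hx
      rw [hZ] at hx'
      refine ⟨?_, hx'.1⟩
      show x ∈ Cᶜ
      rw [← hWC]
      obtain ⟨a, rfl⟩ := π.surjective x
      exact ⟨a, hPW ⟨a, hx, rfl⟩, rfl⟩

open AlgebraicGeometry CategoryTheory Limits in
/-- Let (A, I) be a henselian pair and X a separated scheme of finite type over Spec A, with X_0 its
base change to Spec (A/I). If Y is an open and closed subset of X_0 which (as an open subscheme) is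
proper over Spec (A/I), then there is an open and closed subset W of X, proper over Spec A as an
open subscheme, whose preimage in X_0 is exactly Y. -/
theorem result {A : Type u} [CommRing A] (I : Ideal A) [HenselianRing A I]
    {X : Scheme.{u}} (f : X ⟶ Spec (CommRingCat.of A)) [IsSeparated f] [LocallyOfFiniteType f] [QuasiCompact f]
    (Y : (pullback f (Spec.map (CommRingCat.ofHom (Ideal.Quotient.mk I)))).Opens) (hYc : IsClosed (Y : Set ↑(pullback f (Spec.map (CommRingCat.ofHom (Ideal.Quotient.mk I))))))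
    (hYp : IsProper (Y.ι ≫ pullback.snd f (Spec.map (CommRingCat.ofHom (Ideal.Quotient.mk I))))) :
    ∃ W : X.Opens, IsClosed (W : Set ↑X) ∧ IsProper (W.ι ≫ f) ∧
      pullback.fst f (Spec.map (CommRingCat.ofHom (Ideal.Quotient.mk I))) ⁻¹ᵁ W = Y := by
  let mkI := Spec.map (CommRingCat.ofHom (Ideal.Quotient.mk I))
  let i := pullback.fst f mkI
  haveI : IsClosedImmersion i := inferInstanceAs (IsClosedImmersion (pullback.fst f mkI))
  obtain ⟨n, X', π, j, hj, hjb, hπ, hπs⟩ := Groth.Agent.S7409.result f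
  haveI := hj
  haveI := hπ
  haveI := hπs
  haveI : QuasiCompact (j ≫ CohB1.ProjSpaceOver.toBase n _) := by rw [hjb]; infer_instance
  haveI : QuasiCompact j := QuasiCompact.of_comp _ (CohB1.ProjSpaceOver.toBase n _)
  haveI : IsProper ((Y.ι ≫ i) ≫ f) := by
    haveI := hYp
    rw [Category.assoc, pullback.condition, ← Category.assoc]
    infer_instance
  obtain ⟨O, hO, hOY⟩ := i.isEmbedding.isInducing.isOpen_iff.mp Y.2
  have hrange : Set.range (Y.ι ≫ i) =
      f ⁻¹' PrimeSpectrum.zeroLocus (I : Set A) ∩ ((⟨O, hO⟩ : X.Opens) : Set X) := by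
    rw [Scheme.Hom.comp_base, TopCat.coe_comp, Set.range_comp, Scheme.Opens.range_ι,
      ← Groth.Agent.HensProper6.range_fst_quotient f I]
    show i '' (Y : Set _) = Set.range i ∩ O
    rw [show (Y : Set ↑(pullback f mkI)) = i ⁻¹' O from hOY.symm, Set.image_preimage_eq_range_inter]
  obtain ⟨W, hWc, hWu, hWT⟩ := aux_lift (I := I) inferInstance f π j.toImage
    (j.imageι ≫ CohB1.ProjSpaceOver.toBase n _) (by rw [Scheme.Hom.toImage_imageι_assoc, hjb])
    (Y.ι ≫ i) ⟨O, hO⟩ hrange
  haveI := hWu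
  haveI : IsClosedImmersion W.ι := IsClosedImmersion.of_isPreimmersion _ (by
    rw [Scheme.Opens.range_ι]; exact hWc)
  refine ⟨W, hWc, IsProper.mk, ?_⟩
  ext x
  show i x ∈ W ↔ x ∈ Y
  constructor
  · intro hx
    have : i x ∈ Set.range (Y.ι ≫ i) := by
      rw [← hWT]
      refine ⟨hx, ?_⟩
      rw [← Groth.Agent.HensProper6.range_fst_quotient f I]
      exact ⟨x, rfl⟩
    obtain ⟨y, hy⟩ := this
    rw [Scheme.Hom.comp_apply] at hy
    rw [← i.isEmbedding.injective hy]
    exact y.2
  · intro hx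
    have : i x ∈ Set.range (Y.ι ≫ i) := ⟨⟨x, hx⟩, rfl⟩
    rw [← hWT] at this
    exact this.1

end Groth.Agent.S1366
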