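import Groth.Statements.S0597
import Groth.Agent.Lib.ArtinApproxH7.Core

set_option autoImplicit false
universe u
open CAlg

namespace Groth.Agent.S0597

/-- Let `A` be Noetherian and Henselian at `I`, and suppose the map to the `I`-adic completion is
regular. Any solution in the completion of a finite system of polynomial equations over `A` can be
approximated to any `I`-adic order by a solution in `A`. -/
theorem result (A : Type u) [CommRing A] [IsNoetherianRing A]
    (I : Ideal A) [HenselianRing A I] (hreg : CAlg.IsRegularHom A (AdicCompletion I A)) (n m : ℕ)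
    (F : Fin m → MvPolynomial (Fin n) A) (a : Fin n → (AdicCompletion I A))
    (ha : ∀ j, MvPolynomial.eval a (MvPolynomial.map (algebraMap A (AdicCompletion I A)) (F j)) = 0) (N : ℕ) :
    ∃ b : Fin n → A, (∀ j, MvPolynomial.eval b (F j) = 0) ∧
      ∀ i, a i - algebraMap A (AdicCompletion I A) (b i) ∈ (I ^ N).map (algebraMap A (AdicCompletion I A)) := by
  have hI : I.FG := IsNoetherian.noetherian I
  let T := AdicCompletion I A
  let N' := N + 1
  let J : Ideal T := (I ^ N').map (algebraMap A T)
  haveI : IsNoetherianRing T := Compl.isNoetherianRing_adicCompletion I hI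
  haveI : HenselianRing T J := Groth.Agent.ArtinApproxH7.henselianRing_pow I hI N' (Nat.succ_pos N)
  haveI hA : HenselianRing A (I ^ N') :=
    (Groth.Agent.Hens.henselianRing_iff_of_radical_eq (by rw [Ideal.radical_pow _ (Nat.succ_ne_zero N)])).2 ‹HenselianRing A I›
  have ha' : ∀ j, MvPolynomial.aeval a (F j) = 0 := fun j => by
    have h1 := ha j
    rw [MvPolynomial.eval_map] at h1
    exact h1
  obtain ⟨R', _, _, _, ψ, b, hb, hcong⟩ := Groth.Agent.ArtinApproxH7.exists_etale_solution hreg J
    (fun x => by
      obtain ⟨r, hr⟩ := Groth.Agent.ArtinApproxH7.exists_approx I hI N' x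
      exact ⟨1, r, by rw [map_one]; exact isUnit_one, by rwa [map_one, one_mul]⟩) F a ha'
  let σ : R' →ₐ[A] A ⧸ I ^ N' := (AdicCompletion.evalₐ I N').comp ψ
  obtain ⟨τ, hτ⟩ := Groth.Agent.Hens.exists_smooth_lift_of_henselianRing hA σ
  refine ⟨fun i => τ (b i), fun j => ?_, fun i => ?_⟩
  · show MvPolynomial.aeval (fun i => τ (b i)) (F j) = 0
    have : (MvPolynomial.aeval (fun i => τ (b i)) : MvPolynomial (Fin n) A →ₐ[A] A) = τ.comp (MvPolynomial.aeval b) :=
      (MvPolynomial.comp_aeval b τ).symm
    rw [this]
    show τ (MvPolynomial.aeval b (F j)) = 0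
    rw [hb, map_zero]
  · have h1 : algebraMap A T (τ (b i)) - ψ (b i) ∈ J := by
      rw [Groth.Agent.ArtinApproxH7.mem_map_pow_iff I hI, map_sub, AlgHom.commutes]
      exact sub_eq_zero.2 (AlgHom.congr_fun hτ (b i))
    have h2 : a i - algebraMap A T (τ (b i)) ∈ J := by
      have := J.sub_mem (hcong i) h1
      convert this using 1
      ring
    exact Ideal.map_mono (Ideal.pow_le_pow_right (Nat.le_succ N)) h2

end Groth.Agent.S0597
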