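import Groth.Statements.S0023
import Groth.Agent.Lib.CohFound.ProjCech
import Groth.Agent.Lib.Twist.Tensor

set_option autoImplicit false
universe u
open Coherent

namespace Groth.Agent.S0023

open AlgebraicGeometry in
/-- Special case of the twist d = 0 in positive degree: H^q(P^n_R, O) = 0 for all q > 0 and any ring R.
(The full statement computes all H^q(P^n_R, O(d)); only the untwisted part is stated here.) -/
theorem result (n : ℕ) (R : Type u) [CommRing R]
    (q : ℕ) (hq : 0 < q) :
    Subsingleton (Coh.HH (CohB1.ProjSpace n R) (Coh.structureModule (CohB1.ProjSpace n R)) q) := by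
  obtain ⟨e⟩ := Groth.Agent.Twist.nonempty_twist_zero_iso (𝒜 := CohB1.polyGrading n R)
  refine (Groth.Agent.CohFound.subsingleton_HH_iff _ q).2 ?_
  have h := Groth.Agent.CohFound.ProjNum.subsingleton_hc_Od (n := n) (R := R) (d := 0) q hq (Or.inl (by omega))
  refine ⟨fun x y => ?_⟩
  obtain ⟨a, rfl⟩ : ∃ a, Groth.Agent.CohFound.mp ((Groth.Agent.CohFound.abF _).map e.hom) q ⊤ a = x :=
    ⟨Groth.Agent.CohFound.mp ((Groth.Agent.CohFound.abF _).map e.inv) q ⊤ x, by
      rw [← Groth.Agent.CohFound.mp_comp, ← CategoryTheory.Functor.map_comp, e.inv_hom_id,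
        CategoryTheory.Functor.map_id]
      exact Groth.Agent.CohFound.mp_id _ q _ x⟩
  obtain ⟨b, rfl⟩ : ∃ b, Groth.Agent.CohFound.mp ((Groth.Agent.CohFound.abF _).map e.hom) q ⊤ b = y :=
    ⟨Groth.Agent.CohFound.mp ((Groth.Agent.CohFound.abF _).map e.inv) q ⊤ y, by
      rw [← Groth.Agent.CohFound.mp_comp, ← CategoryTheory.Functor.map_comp, e.inv_hom_id,
        CategoryTheory.Functor.map_id]
      exact Groth.Agent.CohFound.mp_id _ q _ y⟩
  rw [@Subsingleton.elim _ h a b]

end Groth.Agent.S0023
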