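import Groth.Statements.S6686
import Groth.Agent.Lib.BigSite16.BaseChange

set_option autoImplicit false
universe u
open CategoryTheory CategoryTheory.Limits AlgebraicGeometry Opposite
open BigSite

namespace Groth.Agent.S6686
set_option linter.style.haveILetI false
set_option backward.isDefEq.respectTransparency false
set_option backward.isDefEq.respectTransparency.types false
open CategoryTheory CategoryTheory.Limits in
theorem aux {A B A' E : Type*} [Category A] [Category B] [Category A'] [Category E] [Abelian A] [Abelian B] [Abelian A']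
    [Abelian E] [EnoughInjectives A] [EnoughInjectives A'] (P : A ⥤ B) (P' : A' ⥤ E) (Φ : B ⥤ E) (Ψ : A ⥤ A')
    [P.Additive] [P'.Additive] [Φ.Additive] [Ψ.Additive] [PreservesFiniteLimits Φ] [PreservesFiniteColimits Φ]
    [PreservesFiniteLimits Ψ] [PreservesFiniteColimits Ψ] (hΨ : ∀ I : A, Injective I → Injective (Ψ.obj I))
    (e : P ⋙ Φ ≅ Ψ ⋙ P') (X : A) (n : ℕ) :
    Nonempty (Φ.obj ((P.rightDerived n).obj X) ≅ (P'.rightDerived n).obj (Ψ.obj X)) := by
  obtain ⟨a⟩ := Groth.Agent.BigSite16.nonempty_rightDerived_comp P Φ X n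
  obtain ⟨b⟩ := Groth.Agent.BigSite16.nonempty_rightDerived_precomp Ψ P' hΨ X n
  let R := InjectiveResolution.of X
  exact ⟨a ≪≫ R.isoRightDerivedObj (P ⋙ Φ) n ≪≫ (HomologicalComplex.homologyFunctor _ _ n).mapIso
    ((NatIso.mapHomologicalComplex e _).app R.cocomplex) ≪≫ (R.isoRightDerivedObj (Ψ ⋙ P') n).symm ≪≫ b.symm⟩


/-- Part (3): for an abelian sheaf and degree by degree: let f : T → S be a morphism of schemes, g : S'
→ S a scheme over S and T' = S' ×_S T with projections g' : T' → T and f' : T' → S'. For an abelian
sheaf F on the big etale site of T and every q ≥ 0, the restriction i_g⁻¹ (R^q f_{big,*} F) to the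
small etale site of S' is isomorphic to R^q f'_{small,*} (i_{g'}⁻¹ F), where i_h⁻¹ restricts a
big-etale sheaf over a base to the small etale site of a scheme h over that base. (Existence of an
isomorphism only: the comparison map is not constructed here. For g the identity of S this gives
(R^q f_{big,*} F)|_{S_et} ≅ R^q f_{small,*} (F|_{T_et}).) -/
theorem result {T S T' S' : Scheme.{u}} (f : T ⟶ S) (g : S' ⟶ S)
    (g' : T' ⟶ T) (f' : T' ⟶ S') (c : IsPullback g' f' f g) (F : BigSite.Ab Scheme.etalePrecoverage T) (q : ℕ) :
    Nonempty ((BigSite.resEtAlong Scheme.etalePrecoverage g).obj ((BigSite.RpushBig Scheme.etalePrecoverage f q).obj F) ≅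
      (EtCoh.Rpush f' q).obj ((BigSite.resEtAlong Scheme.etalePrecoverage g').obj F)) := by
  obtain ⟨e⟩ := Groth.Agent.BigSite16.nonempty_resEtAlongPushIso c
  haveI : PreservesFiniteLimits (BigSite.resEtAlong Scheme.etalePrecoverage g) := comp_preservesFiniteLimits _ _
  haveI : PreservesFiniteColimits (BigSite.resEtAlong Scheme.etalePrecoverage g) := comp_preservesFiniteColimits _ _
  haveI : PreservesFiniteLimits (BigSite.resEtAlong Scheme.etalePrecoverage g') := comp_preservesFiniteLimits _ _
  haveI : PreservesFiniteColimits (BigSite.resEtAlong Scheme.etalePrecoverage g') := comp_preservesFiniteColimits _ _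
  exact aux (BigSite.pushBig Scheme.etalePrecoverage f AddCommGrpCat.{u + 1}) (EtCoh.push f')
    (BigSite.resEtAlong Scheme.etalePrecoverage g) (BigSite.resEtAlong Scheme.etalePrecoverage g')
    (fun I hI => by
      haveI := hI
      haveI := Groth.Agent.BigSite16.injective_pullBig g' Scheme.etalePrecoverage I
      exact Groth.Agent.BigSite16.injective_resEt Scheme.etalePrecoverage
        ((BigSite.pullBig Scheme.etalePrecoverage g' AddCommGrpCat.{u + 1}).obj I)) e F q

end Groth.Agent.S6686
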