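import Groth.Statements.S18423
import Groth.Agent.Lib.Disc25.EtaleDiscr

set_option autoImplicit false
universe u v
open Pi1

namespace Groth.Agent.S18423

/-- Let A be a Noetherian local ring of Krull dimension at least 2 and B a finite flat commutative
A-algebra. If B is etale over A at every prime of B lying over a non-maximal prime of A (that is,
Spec B is etale over the punctured spectrum of A), then B is etale over A. -/
theorem result (A : Type u) (B : Type v) [CommRing A] [CommRing B]
    [Algebra A B] [IsNoetherianRing A] [IsLocalRing A] (hdim : (2 : WithBot ℕ∞) ≤ ringKrullDim A)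
    [Module.Finite A B] [Module.Flat A B]
    (h : ∀ q : PrimeSpectrum B, q.asIdeal.comap (algebraMap A B) ≠ IsLocalRing.maximalIdeal A →
      Algebra.IsEtaleAt A q.asIdeal) :
    Algebra.Etale A B := by
  classical
  have : Module.Free A B := Module.free_of_flat_of_isLocalRing
  let b := Module.Free.chooseBasis A B
  rw [Groth.Agent.Disc25.etale_iff_isUnit_discr b]
  have key : ∀ p : PrimeSpectrum A, Algebra.discr A b ∈ p.asIdeal →
      p.asIdeal = IsLocalRing.maximalIdeal A := by
    intro p hD
    by_contra hp
    have : Module.Finite A Ω[B⁄A] := Module.Finite.trans B _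
    have hsupp : p ∉ Module.support A Ω[B⁄A] := by
      rw [Module.support_eq_zeroLocus, PrimeSpectrum.mem_zeroLocus, SetLike.coe_subset_coe]
      intro hann
      have hcomap : (Module.annihilator B Ω[B⁄A]).comap (algebraMap A B) ≤ p.asIdeal := by
        refine le_trans (fun a ha => ?_) hann
        rw [Ideal.mem_comap, Module.mem_annihilator] at ha
        rw [Module.mem_annihilator]
        intro m
        rw [← algebraMap_smul B a m]
        exact ha m
      obtain ⟨q, hq, hqprime, hqp⟩ :=
        Ideal.exists_ideal_over_prime_of_isIntegral p.asIdeal _ hcomap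
      have he : Algebra.IsEtaleAt A q := h ⟨q, hqprime⟩ (by simpa [hqp] using hp)
      have hu : Algebra.IsUnramifiedAt A q := inferInstance
      have : (⟨q, hqprime⟩ : PrimeSpectrum B) ∈ Algebra.unramifiedLocus A B := hu
      rw [Algebra.unramifiedLocus_eq_compl_support, Set.mem_compl_iff,
        Module.support_eq_zeroLocus, PrimeSpectrum.mem_zeroLocus, SetLike.coe_subset_coe] at this
      exact this hq
    rw [Module.mem_support_iff_nontrivial_residueField_tensorProduct,
      not_nontrivial_iff_subsingleton] at hsupp
    let _ : Algebra B (TensorProduct A p.asIdeal.ResidueField B) :=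
      Algebra.TensorProduct.rightAlgebra
    have h1 : Algebra.FormallyUnramified p.asIdeal.ResidueField
        (TensorProduct A p.asIdeal.ResidueField B) :=
      ⟨(KaehlerDifferential.tensorKaehlerEquivBase A p.asIdeal.ResidueField B
        (TensorProduct A p.asIdeal.ResidueField B)).symm.toEquiv.subsingleton⟩
    have : Algebra.FinitePresentation p.asIdeal.ResidueField
        (TensorProduct A p.asIdeal.ResidueField B) :=
      Algebra.FinitePresentation.of_finiteType.1 inferInstance
    have h2 : Algebra.Etale p.asIdeal.ResidueField
        (TensorProduct A p.asIdeal.ResidueField B) := .of_formallyUnramified_of_flat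
    rw [Groth.Agent.Disc25.etale_iff_isUnit_discr (b.baseChange p.asIdeal.ResidueField),
      Groth.Agent.Disc25.discr_baseChange,
      Ideal.algebraMap_residueField_eq_zero.2 hD] at h2
    exact not_isUnit_zero h2
  by_contra hu
  have hmin : IsLocalRing.maximalIdeal A ∈ (Ideal.span {Algebra.discr A b}).minimalPrimes := by
    refine ⟨⟨inferInstance, ?_⟩, fun q hq _ => ?_⟩
    · rw [Ideal.span_singleton_le_iff_mem]; exact hu
    · exact (key ⟨q, hq.1⟩ ((Ideal.span_singleton_le_iff_mem _).1 hq.2)).ge
  have hh := Ideal.height_le_one_of_isPrincipal_of_mem_minimalPrimes _ _ hmin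
  rw [← IsLocalRing.maximalIdeal_height_eq_ringKrullDim] at hdim
  have := hdim.trans (WithBot.coe_le_coe.2 hh)
  norm_num at this
end Groth.Agent.S18423
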