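import Groth.Statements.S17887
import Groth.Agent.Lib.EffCartier.Dense

set_option autoImplicit false
universe u
open CategoryTheory AlgebraicGeometry
open BlowUp

namespace Groth.Agent.S17887

/-- Let X be a Noetherian scheme, U ⊆ X an open subscheme that is schematically dense in X, I a
quasi-coherent ideal sheaf on X whose support does not meet U, and π : X' → X a blowing-up of X
along I. Then π⁻¹(U) is schematically dense in X'. -/
theorem result {X X' : Scheme.{u}} [IsNoetherian X]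
    (U : X.Opens) [IsSchemeTheoreticallyDominant U.ι] (𝓘 : X.IdealSheafData)
    (hU : Disjoint (𝓘.support : Set X) (U : Set X)) (π : X' ⟶ X) (hπ : BlowUp.IsBlowUp π 𝓘) :
    IsSchemeTheoreticallyDominant (π ⁻¹ᵁ U).ι := by
  haveI := EffCartier.dominant_cmpl hπ.1
  set W := EffCartier.cmpl (𝓘.comap π)
  haveI := EffCartier.isIso_blowUp_restrict hπ
  have hW : ∀ x : W, π (W.ι x) ∈ EffCartier.cmpl 𝓘 := fun x hx => x.2 (by
    rw [Scheme.IdealSheafData.support_comap]; exact hx)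
  have hr : Set.range W.ι ⊆ Set.range (π ⁻¹ᵁ EffCartier.cmpl 𝓘).ι := by
    rintro _ ⟨x, rfl⟩
    rw [Scheme.Opens.range_ι]
    exact hW x
  let j : W.toScheme ⟶ (π ⁻¹ᵁ EffCartier.cmpl 𝓘).toScheme := IsOpenImmersion.lift (π ⁻¹ᵁ EffCartier.cmpl 𝓘).ι W.ι hr
  haveI : IsOpenImmersion j := by
    have : IsOpenImmersion (j ≫ (π ⁻¹ᵁ EffCartier.cmpl 𝓘).ι) := by rw [IsOpenImmersion.lift_fac]; infer_instance
    exact IsOpenImmersion.of_comp j (π ⁻¹ᵁ EffCartier.cmpl 𝓘).ι
  have hφ : W.ι ≫ π = j ≫ (π ∣_ EffCartier.cmpl 𝓘) ≫ (EffCartier.cmpl 𝓘).ι := by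
    rw [morphismRestrict_ι, IsOpenImmersion.lift_fac_assoc]
  haveI : Flat (W.ι ≫ π) := by rw [hφ]; infer_instance
  haveI := EffCartier.dominant_preimage (W.ι ≫ π) U
  have hcomp : IsSchemeTheoreticallyDominant (((W.ι ≫ π) ⁻¹ᵁ U).ι ≫ W.ι) := inferInstance
  haveI := hcomp
  exact EffCartier.dominant_of_range_le (((W.ι ≫ π) ⁻¹ᵁ U).ι ≫ W.ι) _ fun x => x.2

end Groth.Agent.S17887
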