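import Groth.Statements.S4100
import Groth.Agent.Lib.GrpNeutral20.Sep

set_option autoImplicit false
universe u
open CategoryTheory MonoidalCategory CartesianMonoidalCategory MonObj GrpObj AlgebraicGeometry CategoryTheory.Limits
open SGA3

namespace Groth.Agent.S4100

/-- Let G be an S-group scheme locally of finite presentation and universally open over S with connected
fibres, acting on an S-scheme X locally of finite presentation over S in such a way that the
morphism G ×_S X → X ×_S X, (g, x) ↦ (g·x, x), is surjective. Then X is separated over S. -/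
theorem result (S : Scheme.{u}) (G X : Over S) [GrpObj G]
    [LocallyOfFinitePresentation G.hom] [UniversallyOpen G.hom]
    (hconn : ∀ s : S, _root_.IsConnected (G.hom.base ⁻¹' {s}))
    [LocallyOfFinitePresentation X.hom] (a : AlgGrp.Action G X)
    (hΦ : Surjective (lift a.act (snd G X)).left) : IsSeparated X.hom := by
  have hN : ∀ x : G.left, x ∈ SGA3x.neutralSet G := fun x => by
    rw [GrpNeutral20.mem_iff]
    exact (hconn (G.hom x)).isPreconnected.subset_connectedComponentIn
      (GrpNeutral20.unit_over G (G.hom x)) Set.Subset.rfl rfl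
  have hu : ∀ x ∈ SGA3x.neutralSet G, EGA43.IsUnivOpenAt G.hom x := by
    intro x _ Y' g x' _ U hU
    exact (pullback.snd G.hom g).isOpenMap.image_mem_nhds hU
  have hdim : IsLocallyConstant (fun s : S => topologicalKrullDim ↥(G.hom ⁻¹' {s})) := by
    rw [IsLocallyConstant.iff_eventually_eq]
    intro s
    obtain ⟨U, hU, hUc⟩ := GrpNeutral20.const_of_univOpen G s ⊤ trivial (fun x hx _ _ => hu x hx)
    exact Filter.eventually_of_mem hU hUc
  apply GrpNeutral20.isSeparated_of_common_opens
  intro q
  obtain ⟨z, hz⟩ := hΦ.surj q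
  obtain ⟨U, hxU, hU⟩ := GrpNeutral20.exists_isSeparated_nhd X.hom (pullback.snd X.hom X.hom q)
  obtain ⟨V, hV, hVs⟩ := GrpNeutral20.isSeparated_actSet a
    (GrpNeutral20.constDimGen_of_isLocallyConstant G hdim) hu U hU
  refine ⟨V, hVs, ?_, ?_⟩
  · show pullback.fst X.hom X.hom q ∈ (V : Set X.left)
    rw [hV]
    refine ⟨z, ⟨hN _, ?_⟩, ?_⟩
    · rw [← lift_snd a.act (snd G X), GrpNeutral20.hap, hz]
      exact hxU
    · rw [← lift_fst a.act (snd G X), GrpNeutral20.hap, hz]
      rfl
  · show pullback.snd X.hom X.hom q ∈ (V : Set X.left)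
    rw [hV]
    exact GrpNeutral20.subset_actSet a U hxU


end Groth.Agent.S4100
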