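import Groth.Statements.S3025
import Groth.Agent.S4100
import Groth.Agent.Lib.GrpNeutral20.Div
import Groth.Agent.Lib.OrbitTop19.Base

set_option autoImplicit false
universe u
open CategoryTheory MonoidalCategory CartesianMonoidalCategory MonObj GrpObj AlgebraicGeometry TensorProduct
open SGA3

namespace Groth.Agent.S3025

/-- Let S be a scheme and G a group scheme over S which is locally of finite presentation and
universally open over S and whose fibres are connected. Then G is separated and quasi-compact (hence
of finite presentation) over S. -/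
theorem result (S : Scheme.{u}) (G : Over S) [GrpObj G]
    [LocallyOfFinitePresentation G.hom] [UniversallyOpen G.hom]
    (hconn : ∀ s : S, _root_.IsConnected (G.hom.base ⁻¹' {s})) :
    IsSeparated G.hom ∧ QuasiCompact G.hom := by
  refine ⟨Groth.Agent.S4100.result S G G hconn (OrbitTop19.mulAction G) ?_, ?_⟩
  · let Φ : G ⊗ G ≅ G ⊗ G :=
      { hom := lift (fst G G * snd G G) (snd G G)
        inv := lift (fst G G * (snd G G)⁻¹) (snd G G)
        hom_inv_id := by
          apply CartesianMonoidalCategory.hom_ext <;> simp [MonObj.comp_mul, GrpObj.comp_inv, GrpObj.inv_eq_inv]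
        inv_hom_id := by
          apply CartesianMonoidalCategory.hom_ext <;> simp [MonObj.comp_mul, GrpObj.comp_inv, GrpObj.inv_eq_inv] }
    have hμ : (OrbitTop19.mulAction G).act = fst G G * snd G G := by
      show μ[G] = _
      rw [Hom.mul_def, lift_fst_snd, Category.id_comp]
    rw [hμ]
    haveI : IsIso Φ.hom.left := inferInstanceAs (IsIso ((Over.forget S).mapIso Φ).hom)
    exact inferInstanceAs (Surjective Φ.hom.left)
  · rw [quasiCompact_iff_forall_isAffineOpen]
    intro V hV
    haveI : LocallyOfFinitePresentation (Red.bc V.ι G).hom :=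
      inferInstanceAs (LocallyOfFinitePresentation (Limits.pullback.snd G.hom V.ι))
    haveI : IsAffine V.toScheme := hV
    obtain ⟨U, hU, hNU⟩ := GrpNeutral20.exists_isCompact_open (Red.bc V.ι G)
      (fun t => inferInstanceAs (LocallyOfFiniteType (Limits.pullback.snd _ _)))
    have hall : (U : Set (Red.bc V.ι G).left) = Set.univ := by
      refine Set.eq_univ_of_forall fun x => hNU ?_
      rw [GrpNeutral20.neutralSet_bc G V.ι, Set.mem_preimage, GrpNeutral20.mem_iff]
      exact (hconn _).isPreconnected.subset_connectedComponentIn (GrpNeutral20.unit_over G _) Set.Subset.rfl rfl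
    have e : (G.hom ⁻¹ᵁ V : Set G.left) = Limits.pullback.fst G.hom V.ι '' Set.univ := by
      rw [Set.image_univ, Scheme.Pullback.range_fst, Scheme.Opens.range_ι]
      rfl
    rw [e]
    exact (hall ▸ hU).image (Limits.pullback.fst G.hom V.ι).continuous


end Groth.Agent.S3025
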