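import Groth.Statements.S9336
import Groth.Agent.Lib.FtPts3.Fibre

set_option autoImplicit false
universe u
open QFin

namespace Groth.Agent.S9336

open AlgebraicGeometry CategoryTheory in
/-- Let f : X → Y be surjective and g : Y → S locally of finite type. If g ∘ f is locally quasi-finite
(and locally of finite type), then g is locally quasi-finite. -/
theorem result {X Y S : Scheme.{u}} (f : X ⟶ Y) (g : Y ⟶ S) [Surjective f]
    [LocallyQuasiFinite (f ≫ g)] [LocallyOfFiniteType (f ≫ g)] [LocallyOfFiniteType g] :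
    LocallyQuasiFinite g := by
  rw [← Scheme.Hom.quasiFiniteLocus_eq_top_iff]
  have hc : ∀ y : Y, IsClosed ({g.asFiber y} : Set ↑(g.fiber (g y))) := by
    intro y
    obtain ⟨x, rfl⟩ := f.surjective y
    refine FtPts3.isClosed_asFiber_of_isIntegral g (f x) fun a => ?_
    have hfin := (FtPts3.isClosed_asFiber_iff_finite (f ≫ g) x).1 ((f ≫ g).quasiFiniteAt x).isClopen_singleton_asFiber.isClosed
    have hfin' : ((f.residueFieldMap x).hom.comp (g.residueFieldMap (f x)).hom).Finite := by
      rw [← CommRingCat.hom_comp, ← Scheme.residueFieldMap_comp]; exact hfin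
    obtain ⟨p, hp, hp0⟩ := hfin'.to_isIntegral ((f.residueFieldMap x).hom a)
    exact ⟨p, hp, (f.residueFieldMap x).hom.injective (by rw [map_zero, Polynomial.hom_eval₂]; exact hp0)⟩
  refine top_le_iff.1 fun y _ => ?_
  refine (FtPts3.quasiFiniteAt_iff_specializes g y).2 ⟨hc y, (FtPts3.noGen_asFiber_iff g y).2 fun z hz hsp => ?_⟩
  exact ((FtPts3.isClosed_asFiber_iff g z).1 (hc z) y hz.symm hsp).symm

end Groth.Agent.S9336
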