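import Groth.Statements.S5371
import Groth.Agent.Lib.GrpQuot20.Transfer
import Groth.Agent.Lib.AlgSpDescent.FppfComp
import Groth.Agent.Lib.Thick4
import Groth.Agent.S9336

set_option autoImplicit false
universe u
open CategoryTheory CategoryTheory.Limits MonoidalCategory CartesianMonoidalCategory MonObj GrpObj AlgebraicGeometry
open SGA3

namespace Groth.Agent.S5371

/-- Let u : G' → G be a monomorphism of S-group schemes and p : G → G'' a morphism of S-schemes which is
covering for the fpqc topology (some Z → G'' which is flat, surjective, with every affine open of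
G'' the image of a quasi-compact open of Z, factors through p) and such that the square (g, h) ↦
g·u(h), first projection G ×_S G' → G, p, p is cartesian, so that G'' represents the fpqc quotient
sheaf G/G'. (xii) G' is flat and locally of finite presentation over S if and only if p is
surjective, flat and locally of finite presentation; in that case, if G is locally of finite
presentation (resp. locally of finite type, of finite type, smooth, etale, unramified, locally
quasi-finite) over S, so is G''. (xiii) If G' is flat and of finite presentation over S then p is of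
finite presentation, and G is of finite presentation over S if and only if G'' is. -/
theorem result (S : Scheme.{u}) (G G' G'' : Over S) [GrpObj G] [GrpObj G']
    (u : G' ⟶ G) [IsMonHom u] [Mono u] (p : G ⟶ G'')
    (hcov : (∃ (Z : Scheme.{u}) (q : Z ⟶ G''.left) (r : Z ⟶ G.left), r ≫ p.left = q ∧ Surjective q ∧ Flat q ∧
        ∀ V : G''.left.Opens, IsAffineOpen V → ∃ W : Z.Opens, IsCompact (W : Set Z) ∧ q.base '' (W : Set Z) = (V : Set G''.left)))
    (hsq : IsPullback ((G ◁ u) ≫ μ[G]) (fst G G') p p) :
    ((Flat G'.hom ∧ LocallyOfFinitePresentation G'.hom) ↔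
      (Surjective p.left ∧ Flat p.left ∧ LocallyOfFinitePresentation p.left)) ∧
    (Flat p.left → LocallyOfFinitePresentation p.left →
      (LocallyOfFinitePresentation G.hom → LocallyOfFinitePresentation G''.hom) ∧
      (LocallyOfFiniteType G.hom → LocallyOfFiniteType G''.hom) ∧
      (LocallyOfFiniteType G.hom → QuasiCompact G.hom → QuasiCompact G''.hom) ∧
      (Smooth G.hom → Smooth G''.hom) ∧ (Etale G.hom → Etale G''.hom) ∧
      (FormallyUnramified G.hom → LocallyOfFinitePresentation G.hom → FormallyUnramified G''.hom) ∧
      (LocallyQuasiFinite G.hom → LocallyOfFiniteType G.hom → LocallyQuasiFinite G''.hom)) ∧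
    (Flat G'.hom → LocallyOfFinitePresentation G'.hom → QuasiCompact G'.hom → QuasiSeparated G'.hom →
      QuasiCompact p.left ∧ QuasiSeparated p.left ∧ LocallyOfFinitePresentation p.left ∧
      ((LocallyOfFinitePresentation G.hom ∧ QuasiCompact G.hom ∧ QuasiSeparated G.hom) ↔
        (LocallyOfFinitePresentation G''.hom ∧ QuasiCompact G''.hom ∧ QuasiSeparated G''.hom))) := by
  obtain ⟨Z, q, r, hr, hqs, hflat, hq⟩ := hcov
  subst hr
  haveI := hqs
  haveI := hflat
  haveI : Surjective p.left := GrpQuot20.surjective_of_cover_factor p.left r
  haveI := FpqcDesc.descendsAlong_quasiCompact.{u}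
  haveI := FpqcDesc.descendsAlong_quasiSeparated.{u}
  have hfl : Flat G'.hom → Flat p.left := fun h =>
    GrpQuot20.flat_of_flat_pullback_fst p.left (r ≫ p.left) (GrpQuot20.prop_pullback_fst_of_subgroup u p @Flat hsq h r)
  have hfp : LocallyOfFinitePresentation G'.hom → LocallyOfFinitePresentation p.left := fun h =>
    GrpQuot20.descend_cover @LocallyOfFinitePresentation p.left (r ≫ p.left) hq
      (GrpQuot20.prop_pullback_fst_of_subgroup u p @LocallyOfFinitePresentation hsq h r)
  refine ⟨⟨fun h => ⟨inferInstance, hfl h.1, hfp h.2⟩, fun h =>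
    ⟨GrpQuot20.prop_subgroup_of_quotient u p @Flat hsq h.2.1,
      GrpQuot20.prop_subgroup_of_quotient u p @LocallyOfFinitePresentation hsq h.2.2⟩⟩,
    fun hpf hpp => ?_, fun h1 h2 h3 h4 => ?_⟩
  · haveI := hpf
    haveI := hpp
    have e : p.left ≫ G''.hom = G.hom := Over.w p
    rw [← e]
    refine ⟨fun h => ?_, fun h => AlgSpDescent.locallyOfFiniteType_of_fppf_comp _ _ hpf hpp inferInstance h,
      fun _ h => ?_, fun h => AlgSpDescent.smooth_of_fppf_comp _ _ hpf hpp inferInstance h,
      fun h => AlgSpDescent.etale_of_fppf_comp _ _ hpf hpp inferInstance h, fun h h' => ?_, fun h h' => ?_⟩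
    · haveI := h
      exact FppfSource.locallyOfFinitePresentation_of_fppf_comp p.left G''.hom
    · haveI := h
      exact SchBasic.quasiCompact_of_comp_surjective p.left G''.hom
    · haveI := h
      haveI : FormallyUnramified p.left := FormallyUnramified.of_comp p.left G''.hom
      exact AlgSpDescent.descendsEtaleSource_formallyUnramified p.left G''.hom
        (Etale.of_formallyUnramified_of_flat p.left) inferInstance h
    · haveI := h
      haveI := h'
      haveI := AlgSpDescent.locallyOfFiniteType_of_fppf_comp p.left G''.hom hpf hpp inferInstance h'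
      exact Groth.Agent.S9336.result p.left G''.hom
  · haveI := hfl h1
    haveI := hfp h2
    haveI : QuasiCompact p.left := GrpQuot20.descend_cover @QuasiCompact p.left (r ≫ p.left) hq
      (GrpQuot20.prop_pullback_fst_of_subgroup u p @QuasiCompact hsq h3 r)
    haveI : QuasiSeparated p.left := GrpQuot20.descend_cover @QuasiSeparated p.left (r ≫ p.left) hq
      (GrpQuot20.prop_pullback_fst_of_subgroup u p @QuasiSeparated hsq h4 r)
    refine ⟨inferInstance, inferInstance, inferInstance, ?_⟩
    rw [← Over.w p]
    constructor
    · rintro ⟨a, b, c⟩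
      haveI : LocallyOfFinitePresentation (p.left ≫ G''.hom) := a
      haveI : QuasiCompact (p.left ≫ G''.hom) := b
      haveI : QuasiSeparated (p.left ≫ G''.hom) := c
      exact ⟨FppfSource.locallyOfFinitePresentation_of_fppf_comp p.left G''.hom,
        SchBasic.quasiCompact_of_comp_surjective p.left G''.hom,
        Thick4.quasiSeparated_of_comp_surjective p.left G''.hom⟩
    · rintro ⟨a, b, c⟩
      exact ⟨inferInstance, inferInstance, inferInstance⟩

end Groth.Agent.S5371
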