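import Groth.Statements.S5417
import Groth.Agent.Lib.QuotFlat20.Basic

set_option autoImplicit false
universe u
open CategoryTheory MonoidalCategory CartesianMonoidalCategory MonObj GrpObj AlgebraicGeometry CategoryTheory.Limits
open SGA3x

namespace Groth.Agent.S5417

/-- Let u : G → H be a homomorphism of S-group schemes, G locally of finite presentation over S, and H
locally of finite type over S or S locally Noetherian. Let k : K → G be the kernel of u and suppose
K flat over S. Then G/K is representable by an S-group scheme Q locally of finite presentation over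
S: there is a homomorphism q : G → Q representing the fppf quotient, and u = q followed by a
homomorphism Q → H which is a monomorphism. -/
theorem result (S : Scheme.{u}) (G H : Over S) [GrpObj G] [GrpObj H] [LocallyOfFinitePresentation G.hom]
    (hH : LocallyOfFiniteType H.hom ∨ IsLocallyNoetherian S) (u : G ⟶ H) [IsMonHom u]
    (K : Over S) [GrpObj K] (k : K ⟶ G) [IsMonHom k] (hK : AlgGrp.IsKernel k u) [Flat K.hom] :
    ∃ (Q : Over S) (_ : GrpObj Q) (q : G ⟶ Q) (_ : IsMonHom q), RedSub.IsQuotient k q ∧
      LocallyOfFinitePresentation Q.hom ∧ ∃ (m : Q ⟶ H) (_ : IsMonHom m), Mono m ∧ q ≫ m = u := by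
  exact QuotFlat20.exists_kernelQuotient hH u k hK ‹Flat K.hom›


end Groth.Agent.S5417
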