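import Groth.Statements.S6758
import Groth.Agent.Lib.DbCohPn9.Transfer
import Groth.Agent.Lib.DbCohPn9.Main

set_option autoImplicit false
set_option linter.style.haveILetI false
set_option backward.isDefEq.respectTransparency false
universe u
open CategoryTheory AlgebraicGeometry
attribute [local instance] HasDerivedCategory.standard
open DEquiv

namespace Groth.Agent.S6758

/-- (1) ⇔ (4): let k be a field, n ≥ 0, P = P^n_k, and let K be an object of D(O_P) with quasi-coherent
cohomology sheaves. Then K is bounded with coherent cohomology sheaves if and only if for each d =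
0, …, n the k-vector spaces H^i(P, K ⊗^L O_P(d)) = Hom(O_P, (K ⊗^L O_P(d))⟦i⟧) are
finite-dimensional for all i ∈ ℤ and nonzero for only finitely many i. (The derived functors - ⊗^L
O_P(d) are assumed to exist, as instance binders. The published statement lists two further
equivalent conditions, which are not restated here: that for every perfect object E of D(O_P) the
spaces Hom(E, K⟦i⟧) be finite-dimensional for all i and nonzero for only finitely many i, a
criterion which holds on every H-projective scheme over k, and the same condition on the spaces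
H^i(P, E ⊗^L K) for every perfect E.) -/
theorem result
    (k : Type u) [Field k] (n : ℕ)
    (K : DCoh.D (CohB1.ProjSpaceOver n (Spec (.of k)))) (hK : DCoh.IsQCohD K)
    [∀ d : ℤ, DCoh.HasLTensorMod (Twist.twistOver n (Spec (.of k)) d)] :
    SGA6.cohbP (CohB1.ProjSpaceOver n (Spec (.of k))) K ↔
      ∀ d : ℕ, d ≤ n →
        (∀ i : ℤ, Module.Finite k (DCoh.inD (CohB1.ProjSpaceOver n (Spec (.of k))) (Coh.structureModule (CohB1.ProjSpaceOver n (Spec (.of k)))) ⟶
            (shiftFunctor (DCoh.D (CohB1.ProjSpaceOver n (Spec (.of k)))) i).obj ((DCoh.LTensorMod (Twist.twistOver n (Spec (.of k)) (d : ℤ))).obj K))) ∧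
        Set.Finite {i : ℤ | Nontrivial (DCoh.inD (CohB1.ProjSpaceOver n (Spec (.of k))) (Coh.structureModule (CohB1.ProjSpaceOver n (Spec (.of k)))) ⟶
            (shiftFunctor (DCoh.D (CohB1.ProjSpaceOver n (Spec (.of k)))) i).obj ((DCoh.LTensorMod (Twist.twistOver n (Spec (.of k)) (d : ℤ))).obj K))} := by
  letI := Groth.Agent.DbCohPn9.overPn n k
  let σ := Groth.Agent.PicPn.pj n (𝟙 (Spec (CommRingCat.of k)))
  haveI : IsIso σ := Groth.Agent.DbCohPn9.isIso_pj_id n k
  haveI : σ.IsOver (Spec (CommRingCat.of k)) :=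
    ⟨(Groth.Agent.PicPn.pj_toBase n (𝟙 (Spec (CommRingCat.of k)))).trans (Category.comp_id _)⟩
  have key : ∀ (d : ℤ) (i : ℤ), Nonempty
      ((DCoh.inD (CohB1.ProjSpaceOver n (Spec (.of k))) (Coh.structureModule (CohB1.ProjSpaceOver n (Spec (.of k)))) ⟶
        (shiftFunctor (DCoh.D (CohB1.ProjSpaceOver n (Spec (.of k)))) i).obj ((DCoh.LTensorMod (Twist.twistOver n (Spec (.of k)) d)).obj K)) ≃ₗ[k]
      (DCoh.inD (CohB1.ProjSpace n k) (Coh.structureModule (CohB1.ProjSpace n k)) ⟶
        ((Groth.Agent.PnKoszul9.tk (n := n) (A := k) d).obj ((Groth.Agent.DPerf.resD σ).obj K))⟦i⟧)) := fun d i => by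
    haveI := Groth.Agent.PnKoszul9.preservesFiniteLimits_tensorRightMod (Twist.twistOver n (Spec (.of k)) d)
      (Groth.Agent.Twist.isInvertible_twistOver n _ d)
    obtain ⟨e₁⟩ := Groth.Agent.PnKoszul9.nonempty_ltensorMod_twD (Twist.twistOver n (Spec (.of k)) d)
    obtain ⟨e₂⟩ := Groth.Agent.PicPn.nonempty_pullback_pj_twistOver n (𝟙 (Spec (CommRingCat.of k))) d
    obtain ⟨e₃⟩ := Groth.Agent.DbCohPn9.nonempty_twD_resD σ (Twist.twistOver n (Spec (.of k)) d)
      (Twist.twistProjSpace n k d) ((Scheme.Modules.restrictFunctorIsoPullback σ).app _ ≪≫ e₂)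
    exact Groth.Agent.DbCohPn9.nonempty_hom_equiv σ _ _
      ((Groth.Agent.DPerf.resD σ).mapIso (e₁.app K) ≪≫ e₃.app K) i
  rw [← Groth.Agent.DbCohPn9.cohbP_resD_iff σ,
    Groth.Agent.DbCohPn9.cohbP_iff n k (Groth.Agent.DQC.isQCohD_resD σ hK)]
  refine forall₂_congr fun d _ => and_congr (forall_congr' fun i => ?_) ?_
  · obtain ⟨e⟩ := key d i
    exact ⟨fun h => @Module.Finite.equiv _ _ _ _ _ _ _ _ h e.symm, fun h => @Module.Finite.equiv _ _ _ _ _ _ _ _ h e⟩
  · refine iff_of_eq (congrArg Set.Finite (Set.ext fun i => ?_))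
    obtain ⟨e⟩ := key d i
    exact e.toEquiv.nontrivial_congr.symm

end Groth.Agent.S6758
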