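import Groth.Statements.S5809
import Groth.Agent.Lib.TorSymm3.Basic
import Mathlib.RingTheory.LocalRing.Module

set_option autoImplicit false
universe u
open CategoryTheory
open EGA41

namespace Groth.Agent.S5809

open CategoryTheory in
theorem key (A : Type u) [CommRing A] [IsLocalRing A] [IsNoetherianRing A] : ∀ (n : ℕ) (M : Type u)
    [AddCommGroup M] [Module A M] [Module.Finite A M],
    HasProjectiveDimensionLT (ModuleCat.of A M) (n + 1) ↔
      Limits.IsZero (((Tor (ModuleCat.{u} A) (n + 1)).obj (ModuleCat.of A M)).obj
          (ModuleCat.of A (IsLocalRing.ResidueField A))) := by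
  intro n
  induction n with
  | zero =>
    intro M _ _ _
    haveI : Module.FinitePresentation A M := Module.finitePresentation_of_finite A M
    constructor
    · intro h
      haveI : Module.Flat A M := Groth.Agent.FlatSyz.hasProjectiveDimensionLE_zero_iff_flat.1 h
      exact Groth.Agent.FlatSyz.flat_iff_isZero_tor_one.1 inferInstance _
    · intro h
      obtain ⟨k, f, hf⟩ := Module.Finite.exists_fin' A M
      have hinj : Function.Injective (f.ker.subtype.lTensor (IsLocalRing.ResidueField A)) :=
        (Groth.Agent.TorSymm3.isZero_tor_one_iff (L := ↥(LinearMap.ker f)) (ModuleCat.of A M) f.ker.subtype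
          f.ker.injective_subtype f (LinearMap.exact_subtype_ker_map f) hf).1
          ((Groth.Agent.TorSymm3.isZero_tor_one_comm M (IsLocalRing.ResidueField A)).1 h)
      haveI : Module.Finite A f.ker := Module.Finite.iff_fg.2 (IsNoetherian.noetherian _)
      haveI : Module.Free A M := Module.free_of_lTensor_residueField_injective f.ker.subtype f hf
        (LinearMap.exact_subtype_ker_map f) hinj
      exact Groth.Agent.FlatSyz.hasProjectiveDimensionLE_zero_iff_flat.2 inferInstance
  | succ n ih =>
    intro M _ _ _
    obtain ⟨k, f, hf⟩ := Module.Finite.exists_fin' A M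
    haveI : Module.Finite A f.ker := Module.Finite.iff_fg.2 (IsNoetherian.noetherian _)
    refine (Groth.Agent.FlatSyz.hasProjectiveDimensionLE_succ_iff (K := ↥(LinearMap.ker f)) f.ker.subtype
      f.ker.injective_subtype f (LinearMap.exact_subtype_ker_map f) hf n).trans ((ih f.ker).trans ?_)
    exact (Groth.Agent.FlatSyz.isZero_tor_shift (K := ↥(LinearMap.ker f)) f.ker.subtype
      f.ker.injective_subtype f (LinearMap.exact_subtype_ker_map f) hf n).symm

/-- Let A be a Noetherian local ring with residue field k, M a finitely generated A-module and n ≥ 0.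
For M to have projective dimension at most n it is necessary that Tor^A_i(M, k) = 0 for all i > n,
and it suffices that Tor^A_(n+1)(M, k) = 0. (Tor is written here as the left derived functors of k ⊗
- evaluated at M, i.e. computed from a projective resolution of M.) -/
theorem result (A : Type u) [CommRing A] [IsLocalRing A]
    [IsNoetherianRing A] (M : Type u) [AddCommGroup M] [Module A M] [Module.Finite A M] (n : ℕ) :
    (HasProjectiveDimensionLT (ModuleCat.of A M) (n + 1) →
        ∀ i : ℕ, n < i → Limits.IsZero (((Tor (ModuleCat.{u} A) i).obj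
          (ModuleCat.of A (IsLocalRing.ResidueField A))).obj (ModuleCat.of A M))) ∧
      (Limits.IsZero (((Tor (ModuleCat.{u} A) (n + 1)).obj
          (ModuleCat.of A (IsLocalRing.ResidueField A))).obj (ModuleCat.of A M)) →
        HasProjectiveDimensionLT (ModuleCat.of A M) (n + 1)) := by
  refine ⟨fun h i hi => ?_, fun h => ?_⟩
  · obtain ⟨j, rfl⟩ : ∃ j, i = j + 1 := ⟨i - 1, by omega⟩
    rw [Groth.Agent.TorSymm3.isZero_tor_comm j]
    exact (key A j M).1 (hasProjectiveDimensionLT_of_ge _ (n + 1) (j + 1) (by omega))
  · rw [Groth.Agent.TorSymm3.isZero_tor_comm n] at h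
    exact (key A n M).2 h

end Groth.Agent.S5809
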