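import Groth.Statements.S6703
import Mathlib.CategoryTheory.HomCongr
-- import your own Groth.Agent.* helpers here

set_option autoImplicit false
universe v v' u u'
open CategoryTheory
open DEquiv

namespace Groth.Agent.S6703

open CategoryTheory.Limits CategoryTheory.Pretriangulated

section aux

variable {D : Type u} [Category.{v} D] [Preadditive D] [HasShift D ℤ]
  {D' : Type u'} [Category.{v'} D'] [Preadditive D'] [HasShift D' ℤ]
  (F : D ⥤ D') [F.CommShift ℤ]

/-- `F` is bijective on morphisms `A ⟶ B`. -/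
def BijOn (A B : D) : Prop := Function.Bijective (fun f : A ⟶ B => F.map f)

omit [Preadditive D] [HasShift D ℤ] [Preadditive D'] [HasShift D' ℤ] [F.CommShift ℤ] in
theorem bijOn_iso {A B A₂ B₂ : D} (a : A ≅ A₂) (b : B ≅ B₂) (h : BijOn F A B) : BijOn F A₂ B₂ := by
  have : (fun f : A₂ ⟶ B₂ => F.map f) = (Iso.homCongr (F.mapIso a) (F.mapIso b)) ∘
      (fun f : A ⟶ B => F.map f) ∘ (Iso.homCongr a b).symm := by
    ext f
    simp [← Functor.map_comp]
  unfold BijOn
  rw [this]
  exact (Equiv.bijective _).comp (h.comp (Equiv.bijective _))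

theorem bijOn_shift {A B : D} (m : ℤ) (h : BijOn F A B) :
    BijOn F ((shiftFunctor D m).obj A) ((shiftFunctor D m).obj B) := by
  let e₁ : (A ⟶ B) ≃ ((shiftFunctor D m).obj A ⟶ (shiftFunctor D m).obj B) :=
    ⟨(shiftFunctor D m).map, (shiftFunctor D m).preimage, fun f => Functor.preimage_map f,
      fun f => Functor.map_preimage _ f⟩
  let e₂ : (F.obj A ⟶ F.obj B) ≃
      ((shiftFunctor D' m).obj (F.obj A) ⟶ (shiftFunctor D' m).obj (F.obj B)) :=
    ⟨(shiftFunctor D' m).map, (shiftFunctor D' m).preimage, fun f => Functor.preimage_map f,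
      fun f => Functor.map_preimage _ f⟩
  have : (fun f : (shiftFunctor D m).obj A ⟶ (shiftFunctor D m).obj B => F.map f) =
      (Iso.homCongr ((F.commShiftIso m).symm.app A) ((F.commShiftIso m).symm.app B)) ∘ e₂ ∘
      (fun f : A ⟶ B => F.map f) ∘ e₁.symm := by
    ext f
    obtain ⟨g, rfl⟩ := e₁.surjective f
    simp only [Function.comp_apply, Equiv.symm_apply_apply]
    simp [e₁, e₂, Functor.commShiftIso_hom_naturality]
  unfold BijOn
  rw [this]
  exact (Equiv.bijective _).comp (e₂.bijective.comp (h.comp (Equiv.bijective _)))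

/-- Objects isomorphic to a shift of an object of `S`. -/
def IsShiftOf (S : Set D) (A : D) : Prop :=
  ∃ E ∈ S, ∃ j : ℤ, Nonempty (A ≅ (shiftFunctor D j).obj E)

omit [Preadditive D] in
theorem isShiftOf_shift {S : Set D} {A : D} (h : IsShiftOf S A) (m : ℤ) :
    IsShiftOf S ((shiftFunctor D m).obj A) := by
  obtain ⟨E, hE, j, ⟨e⟩⟩ := h
  exact ⟨E, hE, j + m, ⟨(shiftFunctor D m).mapIso e ≪≫ ((shiftFunctorAdd D j m).app E).symm⟩⟩

theorem bijOn_of_isShiftOf {S : Set D}
    (h4 : ∀ E ∈ S, ∀ E' ∈ S, ∀ i : ℤ,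
      Function.Bijective (fun f : E ⟶ (shiftFunctor D i).obj E' => F.map f))
    {A B : D} (hA : IsShiftOf S A) (hB : IsShiftOf S B) : BijOn F A B := by
  obtain ⟨E, hE, j, ⟨a⟩⟩ := hA
  obtain ⟨E', hE', k, ⟨b⟩⟩ := hB
  exact bijOn_iso F a.symm (((shiftFunctorAdd' D (k - j) j k (by omega)).app E').symm ≪≫ b.symm)
    (bijOn_shift F j (h4 E hE E' hE' (k - j)))

end aux


open CategoryTheory.Limits CategoryTheory.Pretriangulated in
/-- Let F : D ⥤ D' be an exact functor of triangulated categories admitting both a left and a right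
adjoint, and let S be a set of objects of D such that an object K of D is zero as soon as Hom(E,
K⟦i⟧) = 0 for all E ∈ S and i ∈ ℤ, and also as soon as Hom(K, E⟦i⟧) = 0 for all E ∈ S and i ∈ ℤ. If
for all E, E' ∈ S and i ∈ ℤ the map Hom(E, E'⟦i⟧) → Hom(F E, F (E'⟦i⟧)) given by F is bijective,
then F is full and faithful. -/
theorem result
    {D : Type u} [Category.{v} D] [Preadditive D] [HasZeroObject D] [HasShift D ℤ]
    [∀ n : ℤ, (shiftFunctor D n).Additive] [Pretriangulated D] [IsTriangulated D]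
    {D' : Type u'} [Category.{v'} D'] [Preadditive D'] [HasZeroObject D'] [HasShift D' ℤ]
    [∀ n : ℤ, (shiftFunctor D' n).Additive] [Pretriangulated D'] [IsTriangulated D']
    (F : D ⥤ D') [F.CommShift ℤ] [F.IsTriangulated] [F.IsLeftAdjoint] [F.IsRightAdjoint]
    (S : Set D)
    (h2 : ∀ K : D, (∀ E ∈ S, ∀ (i : ℤ) (f : E ⟶ (shiftFunctor D i).obj K), f = 0) → IsZero K)
    (h3 : ∀ K : D, (∀ E ∈ S, ∀ (i : ℤ) (f : K ⟶ (shiftFunctor D i).obj E), f = 0) → IsZero K)
    (h4 : ∀ E ∈ S, ∀ E' ∈ S, ∀ i : ℤ,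
      Function.Bijective (fun f : E ⟶ (shiftFunctor D i).obj E' => F.map f)) :
    F.Full ∧ F.Faithful := by
  have hS : ∀ E ∈ S, IsShiftOf S E :=
    fun E hE => ⟨E, hE, 0, ⟨((shiftFunctorZero D ℤ).app E).symm⟩⟩
  have adjR := Adjunction.ofIsLeftAdjoint F
  have adjL := Adjunction.ofIsRightAdjoint F
  have huniv : ∀ B : D, IsShiftOf S B → ∀ X : D, BijOn F X B := by
    intro B hB
    have hη : ∀ A : D, IsShiftOf S A →
        Function.Bijective (fun u : A ⟶ B => u ≫ adjR.unit.app B) := by
      intro A hA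
      have : (fun u : A ⟶ B => u ≫ adjR.unit.app B) =
          (adjR.homEquiv A (F.obj B)) ∘ (fun u : A ⟶ B => F.map u) := by
        ext u
        simp [Adjunction.homEquiv_unit]
      rw [this]
      exact (Equiv.bijective _).comp (bijOn_of_isShiftOf F h4 hA hB)
    obtain ⟨C, g₀, d, hT⟩ := distinguished_cocone_triangle (adjR.unit.app B)
    have hC : ∀ A : D, IsShiftOf S A → ∀ g : A ⟶ C, g = 0 := by
      intro A hA g
      have z12 : adjR.unit.app B ≫ g₀ = 0 := comp_distTriang_mor_zero₁₂ _ hT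
      have z31 : d ≫ (shiftFunctor D (1 : ℤ)).map (adjR.unit.app B) = 0 :=
        comp_distTriang_mor_zero₃₁ _ hT
      have h1 : g ≫ d ≫ (shiftFunctor D (1 : ℤ)).map (adjR.unit.app B) = 0 := by
        rw [z31, comp_zero]
      obtain ⟨w, hw⟩ := (shiftFunctor D (1 : ℤ)).map_surjective
        ((shiftFunctorCompIsoId D (-1 : ℤ) 1 (by omega)).hom.app A ≫ g ≫ d)
      have hw0 : w = 0 := by
        apply (hη _ (isShiftOf_shift hA (-1))).1
        simp only [zero_comp]
        apply (shiftFunctor D (1 : ℤ)).map_injective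
        rw [Functor.map_comp, hw, Category.assoc, Category.assoc, h1, comp_zero, Functor.map_zero]
      have hgd : g ≫ d = 0 := by
        rw [hw0, Functor.map_zero] at hw
        rw [← cancel_epi ((shiftFunctorCompIsoId D (-1 : ℤ) 1 (by omega)).hom.app A)]
        rw [← hw, comp_zero]
      obtain ⟨h, hh⟩ : ∃ h : A ⟶ F.rightAdjoint.obj (F.obj B), g = h ≫ g₀ :=
        Triangle.coyoneda_exact₃ _ hT g hgd
      obtain ⟨u, hu⟩ := (hη A hA).2 h
      rw [hh, ← hu]
      exact (Category.assoc _ _ _).trans ((congrArg (u ≫ ·) z12).trans comp_zero)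
    have hCz : IsZero C := h2 C fun E hE i f => by
      have := hC _ (isShiftOf_shift (hS E hE) (-i))
        ((shiftFunctor D (-i)).map f ≫ (shiftFunctorCompIsoId D i (-i) (by omega)).hom.app C)
      rw [← zero_comp, cancel_mono] at this
      exact (shiftFunctor D (-i)).map_injective (this.trans (Functor.map_zero _ _ _).symm)
    have : IsIso (adjR.unit.app B) := (Triangle.isZero₃_iff_isIso₁ _ hT).1 hCz
    intro X
    have h' : (fun f : X ⟶ B => F.map f) =
        (adjR.homEquiv X (F.obj B)).symm ∘ (fun f : X ⟶ B => f ≫ adjR.unit.app B) := by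
      ext f
      simp only [Function.comp_apply]
      rw [Equiv.eq_symm_apply]
      simp [Adjunction.homEquiv_unit]
    unfold BijOn
    rw [h']
    exact (Equiv.bijective _).comp ((asIso (adjR.unit.app B)).homToEquiv.bijective)
  have hε : ∀ X : D, IsIso (adjL.counit.app X) := by
    intro X
    have hpre : ∀ B : D, IsShiftOf S B →
        Function.Bijective (fun u : X ⟶ B => adjL.counit.app X ≫ u) := by
      intro B hB
      have : (fun u : X ⟶ B => adjL.counit.app X ≫ u) =
          (adjL.homEquiv (F.obj X) B).symm ∘ (fun u : X ⟶ B => F.map u) := by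
        ext u
        simp [Adjunction.homEquiv_counit]
      rw [this]
      exact (Equiv.bijective _).comp (huniv B hB X)
    obtain ⟨C, g₀, d, hT⟩ := distinguished_cocone_triangle (adjL.counit.app X)
    have hC : ∀ B : D, IsShiftOf S B → ∀ g : C ⟶ B, g = 0 := by
      intro B hB g
      have z12 : adjL.counit.app X ≫ g₀ = 0 := comp_distTriang_mor_zero₁₂ _ hT
      have z31 : d ≫ (shiftFunctor D (1 : ℤ)).map (adjL.counit.app X) = 0 :=
        comp_distTriang_mor_zero₃₁ _ hT
      have hg₀ : g₀ ≫ g = 0 := by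
        apply (hpre B hB).1
        simp only [comp_zero]
        rw [← Category.assoc, z12, zero_comp]
      obtain ⟨h, hh⟩ : ∃ h : (shiftFunctor D (1 : ℤ)).obj (F.leftAdjoint.obj (F.obj X)) ⟶ B,
          g = d ≫ h := Triangle.yoneda_exact₃ _ hT g hg₀
      obtain ⟨w, hw⟩ := (shiftFunctor D (1 : ℤ)).map_surjective
        (h ≫ (shiftFunctorCompIsoId D (-1 : ℤ) 1 (by omega)).inv.app B)
      obtain ⟨u, hu⟩ := (hpre _ (isShiftOf_shift hB (-1))).2 w
      rw [hh, ← cancel_mono ((shiftFunctorCompIsoId D (-1 : ℤ) 1 (by omega)).inv.app B)]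
      rw [zero_comp]
      refine (Category.assoc _ _ _).trans ((congrArg (d ≫ ·) hw.symm).trans ?_)
      rw [← hu]
      refine (congrArg (d ≫ ·) (Functor.map_comp _ _ _)).trans ?_
      exact ((Category.assoc _ _ _).symm).trans ((congrArg (· ≫ _) z31).trans zero_comp)
    have hCz : IsZero C := h3 C fun E hE i f => hC _ (isShiftOf_shift (hS E hE) i) f
    exact (Triangle.isZero₃_iff_isIso₁ _ hT).1 hCz
  have : IsIso adjL.counit := NatIso.isIso_of_isIso_app _
  exact ⟨adjL.fullyFaithfulROfIsIsoCounit.full, adjL.fullyFaithfulROfIsIsoCounit.faithful⟩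

end Groth.Agent.S6703
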