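import Groth.Statements.S2072
import Groth.Agent.Lib.CAlgLow.AnUnram
import Groth.Agent.Lib.CplDomain.Nagata
import Groth.Agent.Lib.CplLocH7.Basic

set_option autoImplicit false
universe u
open CAlg

namespace Groth.Agent.S2072

open scoped TensorProduct


/-- A Noetherian local domain whose completion with respect to the maximal ideal is reduced (an
analytically unramified local domain) is N-1: its integral closure in its fraction field is a finite
module. -/
theorem result {R : Type u} [CommRing R] [IsDomain R] [IsLocalRing R]
    [IsNoetherianRing R] [IsReduced (AdicCompletion (IsLocalRing.maximalIdeal R) R)] : CAlg.IsN1 R := by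
  haveI : Module.FaithfullyFlat R (AdicCompletion (IsLocalRing.maximalIdeal R) R) := CplLocH7.faithfullyFlat_cpl R
  haveI : IsNoetherianRing (AdicCompletion (IsLocalRing.maximalIdeal R) R) := CplLocH7.isNoetherianRing_cpl R
  let Q := FractionRing (AdicCompletion (IsLocalRing.maximalIdeal R) R)
  haveI : IsReduced Q := isReduced_localizationPreserves (nonZeroDivisors (AdicCompletion (IsLocalRing.maximalIdeal R) R)) Q ‹_›
  have hu : ∀ a : R, a ≠ 0 → IsUnit (algebraMap R Q a) :=
    fun a ha => AnUnram.isUnit_algebraMap_of_flat (AdicCompletion (IsLocalRing.maximalIdeal R) R) Q a ha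
  let f : FractionRing R →ₐ[R] Q := IsLocalization.liftAlgHom (M := nonZeroDivisors R) (f := Algebra.ofId R Q)
    fun s => hu s (nonZeroDivisors.ne_zero s.2)
  have hsurj : Function.Surjective (algebraMap Q (Q ⊗[R] FractionRing R)) := fun x => by
    induction x using TensorProduct.induction_on with
    | zero => exact ⟨0, map_zero _⟩
    | add x y hx hy =>
      obtain ⟨a, rfl⟩ := hx; obtain ⟨b, rfl⟩ := hy
      exact ⟨a + b, map_add _ _ _⟩
    | tmul q k =>
      obtain ⟨a, s, hs, rfl⟩ := IsFractionRing.div_surjective (A := R) k
      obtain ⟨v, hv⟩ := hu s (nonZeroDivisors.ne_zero hs)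
      refine ⟨q * ↑v⁻¹ * algebraMap R Q a, ?_⟩
      have h1 : s • (q * ↑v⁻¹) = q := by rw [Algebra.smul_def, ← hv, mul_left_comm, Units.mul_inv, mul_one]
      have h2 : s • (algebraMap R (FractionRing R) a / algebraMap R (FractionRing R) s) = a • 1 := by
        rw [Algebra.smul_def, mul_div_cancel₀ _ (IsFractionRing.to_map_ne_zero_of_mem_nonZeroDivisors hs),
          Algebra.smul_def, mul_one]
      conv_rhs => rw [← h1, TensorProduct.smul_tmul, h2, ← TensorProduct.smul_tmul]
      rw [Algebra.TensorProduct.algebraMap_apply, Algebra.algebraMap_self, RingHom.id_apply, Algebra.smul_def, mul_comm]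
  haveI : IsReduced (Q ⊗[R] FractionRing R) := by
    refine isReduced_of_injective (Algebra.TensorProduct.lift (Algebra.ofId Q Q) f fun _ _ => mul_comm _ _) ?_
    intro x y hxy
    obtain ⟨a, rfl⟩ := hsurj x
    obtain ⟨b, rfl⟩ := hsurj y
    rw [show a = b by simpa using hxy]
  exact AnUnram.finite_integralClosure_of_isReduced_fibre (AdicCompletion (IsLocalRing.maximalIdeal R) R)
    (CplDomain.isNagata_of_complete _) (nonZeroDivisors _) Q (IsFractionRing.injective _ Q) hu (FractionRing R)

end Groth.Agent.S2072
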