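import Groth.Statements.S9394
import Groth.Agent.Lib.CAlgLow.N1Span

set_option autoImplicit false
universe u
open CAlg

namespace Groth.Agent.S9394

/-- Being N-2 (Japanese) can be checked on a finite cover of Spec R by principal opens whose rings are
N-2 domains. -/
theorem result (R : Type u) [CommRing R] [IsDomain R]
    {ι : Type u} [Finite ι] (f : ι → R) (hf : Ideal.span (Set.range f) = ⊤)
    (Rf : ι → Type u) [∀ i, CommRing (Rf i)] [∀ i, IsDomain (Rf i)] [∀ i, Algebra R (Rf i)]
    [∀ i, IsLocalization.Away (f i) (Rf i)] (h : ∀ i, CAlg.IsN2 (Rf i)) : CAlg.IsN2 R := by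
  choose alg tow frac using fun i => Groth.Agent.CAlgLow.exists_lift_fractionRing (S := Rf i) (Submonoid.powers (f i))
  let _ : ∀ i, Algebra (Rf i) (FractionRing R) := alg
  have := frac
  intro L _ _ _ _ hfd
  let e := fun i => FractionRing.algEquiv (Rf i) (FractionRing R)
  let aS : ∀ i, Algebra (Rf i) L := fun i =>
    ((algebraMap (FractionRing R) L).comp (algebraMap (Rf i) (FractionRing R))).toAlgebra
  have : ∀ i, IsScalarTower R (Rf i) L := fun i => IsScalarTower.of_algebraMap_eq fun r => by
    have := tow i
    change algebraMap R L r = algebraMap (FractionRing R) L (algebraMap (Rf i) (FractionRing R) (algebraMap R (Rf i) r))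
    rw [← IsScalarTower.algebraMap_apply R (Rf i) (FractionRing R), ← IsScalarTower.algebraMap_apply]
  refine Groth.Agent.CAlgLow.finite_integralClosure_of_span f hf Rf L fun i => ?_
  let _ : Algebra (FractionRing (Rf i)) L :=
    ((algebraMap (FractionRing R) L).comp (e i).toRingEquiv.toRingHom).toAlgebra
  have : IsScalarTower (Rf i) (FractionRing (Rf i)) L := IsScalarTower.of_algebraMap_eq fun r => by
    change algebraMap (FractionRing R) L _ = algebraMap (FractionRing R) L ((e i) (algebraMap (Rf i) (FractionRing (Rf i)) r))
    rw [AlgEquiv.commutes]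
  refine h i L ?_
  obtain ⟨s, hs⟩ := hfd.fg_top
  refine ⟨⟨s, eq_top_iff.2 fun x hxt => ?_⟩⟩
  clear hxt
  have hx : x ∈ Submodule.span (FractionRing R) (s : Set L) := hs ▸ Submodule.mem_top
  induction hx using Submodule.span_induction with
  | mem y hy => exact Submodule.subset_span hy
  | zero => exact zero_mem _
  | add a b _ _ ha hb => exact add_mem ha hb
  | smul c a _ ha =>
    have := Submodule.smul_mem _ ((e i).symm c) ha
    rwa [Algebra.smul_def, RingHom.algebraMap_toAlgebra, RingHom.comp_apply,
      show (e i).toRingEquiv.toRingHom ((e i).symm c) = c from (e i).apply_symm_apply c, ← Algebra.smul_def] at this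

end Groth.Agent.S9394
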