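import Groth.Statements.S6532
import Groth.Agent.Lib.CI2.TateLift

set_option autoImplicit false
universe u
open LCI

namespace Groth.Agent.S6532
open LCI

theorem hρ_mem {A : Type u} [CommRing A] {m : ℕ} (φ : Module.Dual A (Fin m → A)) (r : Fin m → A) (K : Ideal A)
    (hr : ∀ j, r j ∈ K) (n : ℕ) (x : (Groth.Agent.CI2.tateData A (Fin m → A) φ r).G n) :
    (Groth.Agent.CI2.tateData A (Fin m → A) φ r).ρ n x ∈
      K • (⊤ : Submodule A ((Groth.Agent.CI2.tateData A (Fin m → A) φ r).G (n + 1))) :=
  Groth.Agent.CI2.ρ_mem φ r K hr n x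

/-- The augmentation in degree zero. -/
noncomputable def aug {A : Type u} [CommRing A] {m : ℕ} (φ : Module.Dual A (Fin m → A)) (r : Fin m → A) :
    (Groth.Agent.CI2.tateData A (Fin m → A) φ r).G 0 →ₗ[A] A :=
  (ExteriorAlgebra.algebraMapInv (R := A) (M := Fin m → A)).toLinearMap.comp
    (⋀[A]^0 (Fin m → A)).subtype

theorem aug_mem {A : Type u} [CommRing A] {m : ℕ} (fv r : Fin m → A)
    (t : (Groth.Agent.CI2.tateData A (Fin m → A) (Fintype.linearCombination A fv) r).G (0 + 1)) :
    aug (Fintype.linearCombination A fv) r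
      ((Groth.Agent.CI2.tateData A (Fin m → A) (Fintype.linearCombination A fv) r).δ 0 t) ∈
        Ideal.span (Set.range fv) := by
  obtain ⟨x, hx⟩ := t
  change x ∈ LinearMap.range (ExteriorAlgebra.ι A (M := Fin m → A)) ^ (0 + 1) at hx
  change ExteriorAlgebra.algebraMapInv
    (CliffordAlgebra.contractLeft (Fintype.linearCombination A fv : Module.Dual A (Fin m → A)) x) ∈ _
  rw [zero_add, pow_one] at hx
  obtain ⟨v, rfl⟩ := hx
  rw [show CliffordAlgebra.contractLeft (Fintype.linearCombination A fv : Module.Dual A (Fin m → A))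
      (ExteriorAlgebra.ι A v) = algebraMap A _ (Fintype.linearCombination A fv v) from
      CliffordAlgebra.contractLeft_ι (0 : QuadraticForm A (Fin m → A)) _ v]
  rw [AlgHom.commutes, Algebra.algebraMap_self, RingHom.id_apply, Fintype.linearCombination_apply]
  exact Ideal.sum_mem _ fun i _ => Ideal.mul_mem_left _ _ (Ideal.subset_span ⟨i, rfl⟩)

theorem pow_mem_tate {A : Type u} [CommRing A] (f : A) (hff : f * f = 0) {m : ℕ} (fv r : Fin m → A) (g : A)
    (hsum : ∑ j, r j * fv j = f * g) (hr : ∀ j, f * r j = 0) (D : ℕ)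
    (hT : DRing.HasTorDimLE (A ⧸ Ideal.span {f}) D
      ((A ⧸ Ideal.span {f}) ⧸ (Ideal.span (Set.range fv)).map (Ideal.Quotient.mk (Ideal.span {f})))) :
    g ^ (D + 1) ∈ Ideal.span (Set.range fv) ⊔ (Ideal.span {f}).annihilator := by
  have hK : ∀ a, a ∈ (Ideal.span {f}).annihilator ↔ f * a = 0 := fun a => by
    rw [Submodule.mem_annihilator_span_singleton, smul_eq_mul, mul_comm]
  refine Groth.Agent.CI2.TateLift.pow_mem
    (T := Groth.Agent.CI2.tateData A (Fin m → A) (Fintype.linearCombination A fv) r) (g := g)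
    (K := (Ideal.span {f}).annihilator) (aug _ r) ?_ (aug_mem fv r) hff hK
    (hρ_mem _ r _ fun j => (hK _).2 (hr j)) ⟨1, ?_⟩ ?_ D hT
  · exact (Fintype.linearCombination_apply A fv r).trans hsum
  · change (1 : ExteriorAlgebra A (Fin m → A)) ∈ LinearMap.range (ExteriorAlgebra.ι A (M := Fin m → A)) ^ 0
    rw [pow_zero, Submodule.mem_one]
    exact ⟨1, map_one _⟩
  · exact map_one (ExteriorAlgebra.algebraMapInv (R := A) (M := Fin m → A))

theorem transfer {S P : Type u} [CommRing S] [CommRing P] (e : P ≃+* S) (J : Ideal P) (J' : Ideal S)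
    (hJ : J.map (e : P →+* S) = J') {D : ℕ} (h : DRing.HasTorDimLE S D (S ⧸ J')) :
    DRing.HasTorDimLE P D (P ⧸ J) := by
  subst hJ
  letI : Algebra S P := e.symm.toRingHom.toAlgebra
  have hbij : Function.Bijective (algebraMap S P) := e.symm.bijective
  have hsurj : Function.Surjective (Algebra.ofId S (P ⧸ J)) := fun y => by
    obtain ⟨p, rfl⟩ := Ideal.Quotient.mk_surjective y
    obtain ⟨z, rfl⟩ := hbij.2 p
    exact ⟨z, rfl⟩
  have hkerq : RingHom.ker (Algebra.ofId S (P ⧸ J)) = J.map (e : P →+* S) := by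
    ext z
    rw [RingHom.mem_ker]
    change Ideal.Quotient.mk J (e.symm z) = 0 ↔ z ∈ J.map (e : P →+* S)
    rw [Ideal.Quotient.eq_zero_iff_mem]
    constructor
    · intro hz
      simpa using Ideal.mem_map_of_mem (e : P →+* S) hz
    · intro hz
      rw [Ideal.mem_map_iff_of_surjective (e : P →+* S) e.surjective] at hz
      obtain ⟨x, hx, rfl⟩ := hz
      simpa using hx
  exact Groth.Agent.CI2.torDim_of_bijective (R := S) (S := P) hbij D _
    (Groth.Agent.CI2.torDim_congr
      ((Ideal.quotientEquivAlgOfEq S hkerq.symm).trans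
        (Ideal.quotientKerAlgEquivOfSurjective hsurj)).toLinearEquiv h)

/-- Let R' → R be a surjection of Noetherian rings whose kernel is generated by a single element f and
has square zero; let I ⊆ R be the image of the annihilator of f. Let S = R[x_1, …, x_n]/(f_1, …,
f_m) and let ∑ r_j f_j = 0 be a relation in R[x_1, …, x_n] such that (1) every coefficient of every
r_j lies in I, and (2) there are lifts r'_j, f'_j in R'[x_1, …, x_n] and an element g with ∑ r'_j
f'_j = f g, where g maps to a non-nilpotent element of S/IS. Under these hypotheses, the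
Tor-dimension of S over R is infinite (so S fails to be a perfect R-algebra). -/
theorem result {R' R : Type u} [CommRing R'] [CommRing R]
    [IsNoetherianRing R'] [IsNoetherianRing R] (π : R' →+* R) (hπ : Function.Surjective π)
    (f : R') (hker : RingHom.ker π = Ideal.span {f}) (hf : f * f = 0)
    {n m : ℕ} (fs r : Fin m → MvPolynomial (Fin n) R) (hrel : ∑ j, r j * fs j = 0)
    (h1 : ∀ (j : Fin m) (d : Fin n →₀ ℕ),
      MvPolynomial.coeff d (r j) ∈ ((Ideal.span {f}).annihilator).map π)
    (r' f' : Fin m → MvPolynomial (Fin n) R') (g : MvPolynomial (Fin n) R')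
    (hr' : ∀ j, MvPolynomial.map π (r' j) = r j) (hf' : ∀ j, MvPolynomial.map π (f' j) = fs j)
    (hsum : ∑ j, r' j * f' j = MvPolynomial.C f * g)
    (hg : ¬ IsNilpotent (Ideal.Quotient.mk
      (Ideal.span (Set.range fs) ⊔ (((Ideal.span {f}).annihilator).map π).map MvPolynomial.C)
      (MvPolynomial.map π g))) :
    ¬ DRing.HasFiniteTorDim R (MvPolynomial (Fin n) R ⧸ Ideal.span (Set.range fs)) := by
  rintro ⟨d, hd⟩
  have hann : ∀ a : R', a ∈ (Ideal.span {f}).annihilator ↔ f * a = 0 := fun a => by
    rw [Submodule.mem_annihilator_span_singleton, smul_eq_mul, mul_comm]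
  have hr0 : ∀ j, MvPolynomial.C f * r' j = 0 := fun j => MvPolynomial.ext _ _ fun e => by
    have h := h1 j e
    rw [← hr' j, MvPolynomial.coeff_map] at h
    have h' := Ideal.mem_comap.2 h
    rw [Ideal.comap_map_of_surjective' _ hπ, hker,
      sup_eq_left.2 ((Ideal.span_singleton_le_iff_mem _).2 ((hann f).2 hf))] at h'
    rw [MvPolynomial.coeff_C_mul, MvPolynomial.coeff_zero]
    exact (hann _).1 h'
  -- the ring map `P → R[x]`
  let q : (MvPolynomial (Fin n) R' ⧸ Ideal.span {MvPolynomial.C (σ := Fin n) f}) →+* MvPolynomial (Fin n) R :=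
    Ideal.Quotient.lift _ (MvPolynomial.map π) fun a ha => by
      obtain ⟨w, rfl⟩ := Ideal.mem_span_singleton'.1 ha
      rw [map_mul, MvPolynomial.map_C, show π f = 0 from (RingHom.mem_ker).1
        (hker.ge (Ideal.mem_span_singleton_self f)), map_zero, mul_zero]
  have hq : Function.Bijective q := by
    refine ⟨RingHom.lift_injective_of_ker_le_ideal _ _ ?_,
      Ideal.Quotient.lift_surjective_of_surjective _ _ (MvPolynomial.map_surjective π hπ)⟩
    rw [MvPolynomial.ker_map, hker, Ideal.map_span, Set.image_singleton]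
  let e := RingEquiv.ofBijective q hq
  let J := (Ideal.span (Set.range f')).map (Ideal.Quotient.mk (Ideal.span {MvPolynomial.C (σ := Fin n) f}))
  have h2 : J.map (e : _ →+* MvPolynomial (Fin n) R) = Ideal.span (Set.range fs) := by
    simp only [J, Ideal.map_span, ← Set.range_comp]
    exact congrArg (fun v => Ideal.span (Set.range v)) (funext fun j => (hf' j))
  have hT := transfer e J _ h2 (Groth.Agent.CI2.torDim_mvPolynomial (A := R) n d
    (MvPolynomial (Fin n) R ⧸ Ideal.span (Set.range fs)) hd)
  have hpow := pow_mem_tate (MvPolynomial.C f) (by rw [← map_mul, hf, map_zero]) f' r' g hsum hr0 (d + n) hT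
  refine hg ⟨d + n + 1, ?_⟩
  rw [← map_pow, ← map_pow, Ideal.Quotient.eq_zero_iff_mem]
  have hle : (Ideal.span (Set.range f') ⊔ (Ideal.span {MvPolynomial.C (σ := Fin n) f}).annihilator).map
      (MvPolynomial.map π) ≤
      Ideal.span (Set.range fs) ⊔ (((Ideal.span {f}).annihilator).map π).map MvPolynomial.C := by
    rw [Ideal.map_sup]
    refine sup_le_sup ?_ ?_
    · rw [Ideal.map_span, ← Set.range_comp]
      exact le_of_eq (congrArg (fun v => Ideal.span (Set.range v)) (funext hf'))
    · refine Ideal.map_le_iff_le_comap.2 fun a ha => ?_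
      rw [Ideal.mem_comap, MvPolynomial.mem_map_C_iff]
      intro e
      rw [MvPolynomial.coeff_map]
      refine Ideal.mem_map_of_mem π ((hann _).2 ?_)
      have h := congrArg (MvPolynomial.coeff e) (Submodule.mem_annihilator_span_singleton _ _ |>.1 ha)
      rwa [smul_eq_mul, mul_comm, MvPolynomial.coeff_C_mul, MvPolynomial.coeff_zero] at h
  exact hle (Ideal.mem_map_of_mem _ hpow)

end Groth.Agent.S6532
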