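import Groth.Statements.S2199
import Groth.Agent.S6532

set_option autoImplicit false
universe u
open LCI

namespace Groth.Agent.S2199

theorem linearEquiv_quot {A : Type u} [CommRing A] (I J : Ideal A) (hIJ : I ≤ J) [Algebra (A ⧸ I) (A ⧸ J)]
    [IsScalarTower A (A ⧸ I) (A ⧸ J)] :
    Nonempty ((A ⧸ J) ≃ₗ[A ⧸ I] (A ⧸ I) ⧸ J.map (Ideal.Quotient.mk I)) := by
  let e : ((A ⧸ I) ⧸ J.map (Ideal.Quotient.mkₐ A I)) ≃ₐ[A] A ⧸ J := DoubleQuot.quotQuotEquivQuotOfLEₐ A hIJ
  let l : ((A ⧸ I) ⧸ J.map (Ideal.Quotient.mk I)) ≃ₗ[A] A ⧸ J := e.toLinearEquiv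
  exact ⟨(l.symm.extendScalarsOfSurjective (S := A ⧸ I) Ideal.Quotient.mk_surjective)⟩

theorem exists_hyperplane {A : Type u} [CommRing A] [IsNoetherianRing A] [IsLocalRing A] (I : Ideal A) (x : A)
    (hx : x ∈ I) (hxI : x ∉ IsLocalRing.maximalIdeal A * I) :
    ∃ I' : Ideal A, I' ⊔ Ideal.span {x} = I ∧ x ∉ I' ∧ ∀ a ∈ IsLocalRing.maximalIdeal A, a * x ∈ I' := by
  obtain ⟨I', ⟨hle, hI', hx'⟩, hmax⟩ := (IsNoetherian.wf (inferInstance : IsNoetherian A A)).has_min
    {N : Ideal A | IsLocalRing.maximalIdeal A * I ≤ N ∧ N ≤ I ∧ x ∉ N}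
    ⟨_, le_rfl, Ideal.mul_le_right, hxI⟩
  have hsup : I' ⊔ Ideal.span {x} = I := by
    refine le_antisymm (sup_le hI' ((Ideal.span_singleton_le_iff_mem I).2 hx)) fun y hy => ?_
    by_contra hc
    have hlt : I' < I' ⊔ Ideal.span {y} := lt_of_le_of_ne le_sup_left fun e => hc
      (Submodule.mem_sup_left (e.ge (Submodule.mem_sup_right (Ideal.mem_span_singleton_self y))))
    have hxm : x ∈ I' ⊔ Ideal.span {y} := by
      by_contra h2
      exact hmax _ ⟨hle.trans le_sup_left, sup_le hI' ((Ideal.span_singleton_le_iff_mem I).2 hy), h2⟩ hlt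
    obtain ⟨i, hi, z, hz, hiz⟩ := Submodule.mem_sup.1 hxm
    obtain ⟨a, rfl⟩ := Ideal.mem_span_singleton'.1 hz
    by_cases ha : a ∈ IsLocalRing.maximalIdeal A
    · exact hx' (hiz ▸ add_mem hi (hle (Ideal.mul_mem_mul ha hy)))
    · obtain ⟨v, hv⟩ := IsLocalRing.notMem_maximalIdeal.1 ha
      refine hc ?_
      have hy' : y = ↑v⁻¹ * x - ↑v⁻¹ * i := by
        rw [← hiz, ← hv, mul_add, ← mul_assoc, Units.inv_mul]; ring
      rw [hy']
      exact sub_mem (Submodule.mem_sup_right (Ideal.mul_mem_left _ _ (Ideal.mem_span_singleton_self x)))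
        (Submodule.mem_sup_left (Ideal.mul_mem_left I' _ hi))
  exact ⟨I', hsup, hx', fun a ha => hle (Ideal.mul_mem_mul ha hx)⟩

/-- For a Noetherian local ring (A, m) and proper ideals I inside J such that A/J has finite
Tor-dimension as a module over A/I (canonical algebra structure), the map I/mI -> J/mJ is injective:
an element of I lying in mJ already lies in mI. -/
theorem result {A : Type u} [CommRing A] [IsNoetherianRing A] [IsLocalRing A]
    (I J : Ideal A) (hIJ : I ≤ J) (hJ : J ≠ ⊤) [Algebra (A ⧸ I) (A ⧸ J)]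
    [IsScalarTower A (A ⧸ I) (A ⧸ J)] (hfd : DRing.HasFiniteTorDim (A ⧸ I) (A ⧸ J))
    (x : A) (hx : x ∈ I) (hxm : x ∈ IsLocalRing.maximalIdeal A * J) :
    x ∈ IsLocalRing.maximalIdeal A * I := by
  by_contra hxI
  obtain ⟨D, hD⟩ := hfd
  obtain ⟨eAJ⟩ := linearEquiv_quot I J hIJ
  replace hD := Groth.Agent.CI2.torDim_congr eAJ hD
  obtain ⟨I', hsup, hx', hann⟩ := exists_hyperplane I x hx hxI
  have hle : I' ≤ I := hsup ▸ le_sup_left
  -- generators of `J`
  obtain ⟨m, gv, hgv⟩ := Submodule.fg_iff_exists_fin_generating_family.1 (IsNoetherian.noetherian J)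
  have hxm' : x ∈ IsLocalRing.maximalIdeal A • Submodule.span A (Set.range gv) := by
    rwa [hgv]
  obtain ⟨a, ha, hax⟩ := (Submodule.mem_ideal_smul_span_iff_exists_sum _ gv x).1 hxm'
  let π : A →+* A ⧸ I' := Ideal.Quotient.mk I'
  have hsum : ∑ j : Fin m, π (a j) * π (gv j) = π x * 1 := by
    rw [mul_one, ← hax, Finsupp.sum_fintype _ _ (fun i => zero_smul A (gv i)), map_sum]
    exact Finset.sum_congr rfl fun j _ => (map_mul π _ _).symm
  have hkill : ∀ b ∈ IsLocalRing.maximalIdeal A, π x * π b = 0 := fun b hb => by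
    rw [← map_mul, mul_comm, Ideal.Quotient.eq_zero_iff_mem]
    exact hann b hb
  have hxmem : x ∈ IsLocalRing.maximalIdeal A := IsLocalRing.le_maximalIdeal hJ (hIJ hx)
  have hspan : (Ideal.span {x}).map π = Ideal.span {π x} := by
    rw [Ideal.map_span, Set.image_singleton]
  let e : ((A ⧸ I') ⧸ Ideal.span {π x}) ≃+* A ⧸ I :=
    ((Ideal.quotEquivOfEq hspan.symm).trans (DoubleQuot.quotQuotEquivQuotSup I' (Ideal.span {x}))).trans
      (Ideal.quotEquivOfEq hsup)
  have hmap : ((Ideal.span (Set.range fun j => π (gv j))).map (Ideal.Quotient.mk (Ideal.span {π x}))).map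
      (e : ((A ⧸ I') ⧸ Ideal.span {π x}) →+* A ⧸ I) = J.map (Ideal.Quotient.mk I) := by
    rw [← hgv, Ideal.map_map, Ideal.map_span, ← Set.range_comp]
    exact (congrArg (fun v => Ideal.span (Set.range v)) (funext fun j => rfl)).trans
      ((Ideal.map_span (Ideal.Quotient.mk I) (Set.range gv)).trans
        (congrArg Ideal.span (Set.range_comp _ _).symm)).symm
  have hT := Groth.Agent.S6532.transfer e _ _ hmap hD
  have h1 := Groth.Agent.S6532.pow_mem_tate (π x) (hkill x hxmem) (fun j => π (gv j)) (fun j => π (a j)) 1 hsum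
    (fun j => hkill _ (ha j)) D hT
  rw [one_pow] at h1
  haveI : Nontrivial (A ⧸ I') := Ideal.Quotient.nontrivial_iff.2 fun e => hx' (e ▸ Submodule.mem_top)
  haveI := IsLocalRing.of_surjective' π Ideal.Quotient.mk_surjective
  have h2 : Ideal.span (Set.range fun j => π (gv j)) ⊔ (Ideal.span {π x}).annihilator ≤
      IsLocalRing.maximalIdeal (A ⧸ I') := by
    refine sup_le (Ideal.span_le.2 ?_) ?_
    · rintro _ ⟨j, rfl⟩
      refine (IsLocalRing.mem_maximalIdeal _).2 fun hu => ?_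
      have hg : gv j ∈ IsLocalRing.maximalIdeal A :=
        IsLocalRing.le_maximalIdeal hJ (hgv.le (Submodule.subset_span ⟨j, rfl⟩))
      obtain ⟨v, hv⟩ := hu.exists_left_inv
      obtain ⟨v, rfl⟩ := Ideal.Quotient.mk_surjective v
      have h3 : v * gv j - 1 ∈ I' := by
        rw [← Ideal.Quotient.eq_zero_iff_mem, map_sub, map_mul, map_one, hv, sub_self]
      have h4 : (1 : A) ∈ IsLocalRing.maximalIdeal A := by
        have h5 := sub_mem ((IsLocalRing.maximalIdeal A).mul_mem_left v hg)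
          (IsLocalRing.le_maximalIdeal hJ (hIJ (hle h3)))
        simpa using h5
      exact (IsLocalRing.maximalIdeal.isMaximal A).ne_top ((Ideal.eq_top_iff_one _).2 h4)
    · refine IsLocalRing.le_maximalIdeal fun e => ?_
      have h3 := (Submodule.mem_annihilator_span_singleton (π x) (1 : A ⧸ I')).1 (e ▸ Submodule.mem_top)
      rw [one_smul] at h3
      exact hx' (Ideal.Quotient.eq_zero_iff_mem.1 h3)
  exact (IsLocalRing.maximalIdeal.isMaximal _).ne_top ((Ideal.eq_top_iff_one _).2 (h2 h1))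

end Groth.Agent.S2199
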