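import Groth.Statements.S2200
import Groth.Agent.S2199
import Groth.Agent.Lib.CI2.FlatLCI
import Groth.Agent.Lib.CI2.KoszulInv
import Groth.Agent.Lib.CI2.Regular

set_option autoImplicit false
universe u
open LCI

namespace Groth.Agent.S2200

/-- A generating list of the minimal size of an ideal generated by a regular sequence is regular. -/
theorem isRegular_of_length_le {A : Type u} [CommRing A] [IsNoetherianRing A] [IsLocalRing A] (J : Ideal A)
    (hJ : J ≠ ⊤) (hJreg : ∃ rs : List A, Ideal.ofList rs = J ∧ RingTheory.Sequence.IsRegular A rs)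
    (l : List A) (hl : Ideal.ofList l = J) (hlen : l.length ≤ J.spanFinrank) :
    RingTheory.Sequence.IsRegular A l := by
  obtain ⟨rs, hrs, hreg⟩ := hJreg
  have hex := Groth.Agent.CI2.ex_of_isWeaklyRegular rs A hreg.toIsWeaklyRegular
  have h1 := Groth.Agent.CI2.length_le_of_ofList_eq hex (hrs ▸ hJ) (hl.trans hrs.symm)
  have h2 : l.length = rs.length := le_antisymm (hlen.trans (Groth.Agent.CI2.spanFinrank_le_length hrs)) h1
  have hex' := Groth.Agent.CI2.ex_of_ofList_eq hex (hl.trans hrs.symm) h2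
  have hmem : ∀ x ∈ l, x ∈ IsLocalRing.maximalIdeal A := fun x hx =>
    IsLocalRing.le_maximalIdeal hJ (hl ▸ Ideal.subset_span hx)
  have hw := Groth.Agent.CI2.isWeaklyRegular_reverse_of_exact l.reverse (fun x hx => hmem x (List.mem_reverse.1 hx))
    (fun z hz => Groth.Agent.CI2.ex_of_perm l.reverse_perm.symm hex' 0 z hz)
  rw [List.reverse_reverse] at hw
  exact Groth.Agent.DepthLib.isRegular_of_isWeaklyRegular (I := IsLocalRing.maximalIdeal A) hw hmem
    (by rw [smul_eq_mul, Ideal.mul_top]; exact (IsLocalRing.maximalIdeal.isMaximal A).ne_top)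

/-- If `I/mI → J/mJ` is injective, generators of `I` extend to minimal generators of `J`. -/
theorem exists_extension {A : Type u} [CommRing A] [IsNoetherianRing A] [IsLocalRing A] (I J : Ideal A) (hIJ : I ≤ J)
    (hinj : ∀ x ∈ I, x ∈ IsLocalRing.maximalIdeal A * J → x ∈ IsLocalRing.maximalIdeal A * I) :
    ∃ l1 l2 : List A, Ideal.ofList l1 = I ∧ Ideal.ofList (l1 ++ l2) = J ∧
      (l1 ++ l2).length ≤ J.spanFinrank := by
  classical
  obtain ⟨l1, hl1, hlen1⟩ := Groth.Agent.CI2.exists_generators I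
  let m := IsLocalRing.maximalIdeal A
  letI : Field (A ⧸ m) := Ideal.Quotient.field m
  letI : Module (A ⧸ m) (I ⧸ m • (⊤ : Submodule A I)) := inferInstanceAs (Module (A ⧸ m) _)
  letI : Module (A ⧸ m) (J ⧸ m • (⊤ : Submodule A J)) := inferInstanceAs (Module (A ⧸ m) _)
  haveI : IsScalarTower A (A ⧸ m) (I ⧸ m • (⊤ : Submodule A I)) := inferInstanceAs (IsScalarTower A (A ⧸ m) _)
  haveI : IsScalarTower A (A ⧸ m) (J ⧸ m • (⊤ : Submodule A J)) := inferInstanceAs (IsScalarTower A (A ⧸ m) _)
  haveI : Module.Finite A J := Module.Finite.of_fg (IsNoetherian.noetherian J)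
  haveI : Module.Finite (A ⧸ m) (J ⧸ m • (⊤ : Submodule A J)) := Module.Finite.of_restrictScalars_finite A _ _
  let ι0 : (I ⧸ m • (⊤ : Submodule A I)) →ₗ[A] (J ⧸ m • (⊤ : Submodule A J)) :=
    Submodule.mapQ _ _ (Submodule.inclusion hIJ) (Submodule.smul_top_le_comap_smul_top m _)
  let ι := ι0.extendScalarsOfSurjective (S := A ⧸ m) Ideal.Quotient.mk_surjective
  have hι : Function.Injective ι := by
    change Function.Injective ι0
    rw [injective_iff_map_eq_zero]
    intro v hv
    obtain ⟨⟨x, hx⟩, rfl⟩ := Submodule.mkQ_surjective _ v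
    have h1 : (Submodule.inclusion hIJ ⟨x, hx⟩) ∈ m • (⊤ : Submodule A J) := (Submodule.Quotient.mk_eq_zero _).1 hv
    rw [Submodule.mem_smul_top_iff] at h1
    exact (Submodule.Quotient.mk_eq_zero _).2 ((Submodule.mem_smul_top_iff m I ⟨x, hx⟩).2 (hinj x hx h1))
  let b := Module.finBasis (A ⧸ m) ((J ⧸ m • (⊤ : Submodule A J)) ⧸ LinearMap.range ι)
  choose y hy using fun i => Submodule.mkQ_surjective _ (b i)
  choose h hh using fun i => Submodule.mkQ_surjective (m • (⊤ : Submodule A J)) (y i)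
  let l2 : List A := List.ofFn fun i => (h i : A)
  have hl2 : Ideal.ofList l2 = Submodule.span A (Set.range fun i => (h i : A)) := by
    simp only [l2, Ideal.ofList, List.mem_ofFn]
    rfl
  have hsub : Ideal.ofList l2 ≤ J := by
    rw [hl2]
    exact Submodule.span_le.2 (by rintro _ ⟨i, rfl⟩; exact (h i).2)
  have hJle : J ≤ (I ⊔ Ideal.ofList l2) ⊔ m • J := fun x hx => by
    have h1 : (LinearMap.range ι).mkQ ((m • (⊤ : Submodule A J)).mkQ ⟨x, hx⟩) ∈
        Submodule.span (A ⧸ m) (Set.range b) := b.mem_span _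
    obtain ⟨c, hc⟩ := (Submodule.mem_span_range_iff_exists_fun _).1 h1
    choose a ha using fun i => Ideal.Quotient.mk_surjective (c i)
    have h2 : (LinearMap.range ι).mkQ ((m • (⊤ : Submodule A J)).mkQ (⟨x, hx⟩ - ∑ i, a i • h i)) = 0 := by
      rw [map_sub, map_sum, map_sub, map_sum, ← hc, sub_eq_zero]
      refine Finset.sum_congr rfl fun i _ => ?_
      rw [map_smul, hh, ← algebraMap_smul (A ⧸ m) (a i) (y i), map_smul, hy, ← ha i]
      rfl
    obtain ⟨v, hv⟩ := (Submodule.Quotient.mk_eq_zero _).1 h2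
    obtain ⟨⟨w, hw⟩, rfl⟩ := Submodule.mkQ_surjective _ v
    have h3 : (⟨x, hx⟩ - ∑ i, a i • h i) - Submodule.inclusion hIJ ⟨w, hw⟩ ∈ m • (⊤ : Submodule A J) := by
      rw [← Submodule.Quotient.mk_eq_zero, Submodule.Quotient.mk_sub, sub_eq_zero]
      exact hv.symm
    rw [Submodule.mem_smul_top_iff] at h3
    have h4 : x = (w + ∑ i, a i * (h i : A)) + (x - ∑ i, a i * (h i : A) - w) := by ring
    rw [h4]
    refine Submodule.add_mem_sup (Submodule.add_mem_sup hw ?_) ?_
    · rw [hl2]
      exact Submodule.sum_mem _ fun i _ => Submodule.smul_mem _ _ (Submodule.subset_span ⟨i, rfl⟩)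
    · convert h3 using 1
      simp
  refine ⟨l1, l2, hl1, ?_, ?_⟩
  · rw [Ideal.ofList_append, hl1]
    exact le_antisymm (sup_le hIJ hsub) (Submodule.le_of_le_smul_of_le_jacobson_bot (IsNoetherian.noetherian J)
      (IsLocalRing.maximalIdeal_le_jacobson _) hJle)
  · rw [List.length_append, List.length_ofFn, hlen1,
      IsLocalRing.spanFinrank_eq_finrank_quotient I (IsNoetherian.noetherian I),
      IsLocalRing.spanFinrank_eq_finrank_quotient J (IsNoetherian.noetherian J)]
    have h1 := Submodule.finrank_quotient_add_finrank (LinearMap.range ι)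
    rw [LinearMap.finrank_range_of_inj hι] at h1
    exact le_of_eq ((add_comm _ _).trans h1)

/-- Let (A, m) be a Noetherian local ring and I, J proper ideals with I inside J. If J is cut out by a
regular sequence and A/J has finite Tor-dimension as an A/I-module (canonical algebra structure),
then I is cut out by a regular sequence of A and the image of J in A/I by one of A/I. -/
theorem result {A : Type u} [CommRing A] [IsNoetherianRing A] [IsLocalRing A]
    (I J : Ideal A) (hIJ : I ≤ J) (hJ : J ≠ ⊤) [Algebra (A ⧸ I) (A ⧸ J)]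
    [IsScalarTower A (A ⧸ I) (A ⧸ J)] (hfd : DRing.HasFiniteTorDim (A ⧸ I) (A ⧸ J))
    (hJreg : ∃ rs : List A, Ideal.ofList rs = J ∧ RingTheory.Sequence.IsRegular A rs) :
    (∃ rs : List A, Ideal.ofList rs = I ∧ RingTheory.Sequence.IsRegular A rs) ∧
      ∃ rs' : List (A ⧸ I), Ideal.ofList rs' = J.map (Ideal.Quotient.mk I) ∧
        RingTheory.Sequence.IsRegular (A ⧸ I) rs' := by
  obtain ⟨l1, l2, hl1, hl, hlen⟩ := exists_extension I J hIJ
    fun x hx hxm => Groth.Agent.S2199.result I J hIJ hJ hfd x hx hxm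
  have hreg := isRegular_of_length_le J hJ hJreg (l1 ++ l2) hl hlen
  have hI : I ≠ ⊤ := fun e => hJ (top_le_iff.1 (e ▸ hIJ))
  obtain ⟨h1, h2⟩ := (RingTheory.Sequence.isWeaklyRegular_append_iff A l1 l2).1 hreg.toIsWeaklyRegular
  refine ⟨⟨l1, hl1, Groth.Agent.DepthLib.isRegular_of_isWeaklyRegular (I := IsLocalRing.maximalIdeal A) h1
    (fun x hx => IsLocalRing.le_maximalIdeal hI (hl1 ▸ Ideal.subset_span hx))
    (by rw [smul_eq_mul, Ideal.mul_top]; exact (IsLocalRing.maximalIdeal.isMaximal A).ne_top)⟩, ?_⟩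
  have hmap : Ideal.ofList (l2.map (Ideal.Quotient.mk I)) = J.map (Ideal.Quotient.mk I) := by
    rw [← hl, Ideal.map_ofList, List.map_append, Ideal.ofList_append, eq_comm, sup_eq_right,
      ← Ideal.map_ofList, hl1]
    rw [Ideal.map_quotient_self]
    exact bot_le
  refine ⟨l2.map (Ideal.Quotient.mk I), hmap, (RingTheory.Sequence.isRegular_iff _ _).2 ⟨?_, ?_⟩⟩
  · have he : (Ideal.ofList l1 • ⊤ : Submodule A A) = I := by rw [smul_eq_mul, Ideal.mul_top, hl1]
    exact (RingTheory.Sequence.isWeaklyRegular_map_algebraMap_iff (A ⧸ I) (A ⧸ I) l2).2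
      (((Submodule.quotEquivOfEq _ _ he).isWeaklyRegular_congr l2).1 h2)
  · rw [hmap, smul_eq_mul, Ideal.mul_top]
    intro e
    refine hJ ?_
    have := congrArg (Ideal.comap (Ideal.Quotient.mk I)) e
    rwa [Ideal.comap_top, Ideal.comap_map_of_surjective' _ Ideal.Quotient.mk_surjective, Ideal.mk_ker,
      sup_eq_left.2 hIJ, eq_comm] at this

end Groth.Agent.S2200
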