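import Groth.Statements.S2169
import Groth.Agent.Lib.CI2.Complete
import Groth.Prelude

set_option autoImplicit false
universe u
open LCI

namespace Groth.Agent.S2169

theorem isCI_congr {A B : Type u} [CommRing A] [IsNoetherianRing A] [IsLocalRing A] [CommRing B] [IsLocalRing B]
    (e : A ≃+* B) (h : Pi1.IsCompleteIntersection B) : Pi1.IsCompleteIntersection A := by
  haveI : IsNoetherianRing B := isNoetherianRing_of_ringEquiv A e
  letI : Algebra A B := (e : A →+* B).toAlgebra
  have hs : Function.Surjective (algebraMap A B) := e.surjective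
  let f := Groth.Agent.FlatDepth.cplQuotHom A B hs
  have hb : Function.Bijective f := by
    refine ⟨(RingHom.injective_iff_ker_eq_bot f).mpr ?_, Groth.Agent.FlatDepth.cplQuotHom_surjective A B hs⟩
    show RingHom.ker (Groth.Agent.FlatDepth.cplQuotHom A B hs) = ⊥
    rw [Groth.Agent.FlatDepth.ker_cplQuotHom, show RingHom.ker (algebraMap A B) = ⊥ from
      (RingHom.injective_iff_ker_eq_bot _).mp e.injective, Ideal.map_bot]
  obtain ⟨C, _, _, rs, h1, h2, ⟨e'⟩⟩ := h
  exact ⟨C, inferInstance, inferInstance, rs, h1, h2, ⟨(RingEquiv.ofBijective f hb).trans e'⟩⟩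

/-- Let A be a complete Noetherian local ring whose completion is a regular local ring modulo a regular
sequence. Then for every surjection R -> A from a regular local ring R, the kernel is generated by a
regular sequence of R. -/
theorem result {A R : Type u} [CommRing A] [CommRing R]
    [IsNoetherianRing A] [IsLocalRing A] [IsAdicComplete (IsLocalRing.maximalIdeal A) A]
    [IsRegularLocalRing R] (f : R →+* A) (hf : Function.Surjective f)
    (hA : Pi1.IsCompleteIntersection A) :
    ∃ rs : List R, Ideal.ofList rs = RingHom.ker f ∧ RingTheory.Sequence.IsRegular R rs := by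
  haveI : IsLocalRing (R ⧸ RingHom.ker f) := Groth.Agent.RegLoc.isLocalRing_quotient (RingHom.ker_ne_top f)
  obtain ⟨rs, h1, h2⟩ := (Groth.Agent.CI2.isCompleteIntersection_quotient_iff (RingHom.ker f) (RingHom.ker_ne_top f)).mp
    (isCI_congr (RingHom.quotientKerEquivOfSurjective hf) hA)
  exact ⟨rs, h2, h1⟩

end Groth.Agent.S2169
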