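import Groth.Statements.S9368
import Groth.Agent.Lib.CI2.SyntScheme
import Groth.Agent.Lib.CI2.Local
import Groth.Agent.Lib.CI2.NhdIff
import Groth.Prelude.Def_RegImm
import Mathlib

set_option autoImplicit false
universe u
open Synt

namespace Groth.Agent.S9368
open AlgebraicGeometry CategoryTheory

theorem isSyntomic_of_isLCIOver {k A : Type u} [Field k] [CommRing A] [Algebra k A] (h : Synt.IsLCIOver k A) :
    Synt.IsSyntomic k A := by
  haveI := h.1
  refine ⟨inferInstance, Algebra.FinitePresentation.of_finiteType.mp inferInstance, fun p => ?_⟩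
  let σ : k ≃ₐ[k] p.asIdeal.ResidueField := AlgEquiv.ofBijective (Algebra.ofId k _)
    ⟨(algebraMap k p.asIdeal.ResidueField).injective, by
      obtain rfl : p = ⊥ := Subsingleton.elim _ _
      exact Ideal.algebraMap_residueField_surjective _⟩
  let e : A ≃ₐ[k] p.asIdeal.Fiber A :=
    (Algebra.TensorProduct.lid k A).symm.trans (Algebra.TensorProduct.congr σ AlgEquiv.refl)
  refine Groth.Agent.CI2.isLCIOver_congr_semilinear σ.toRingEquiv e.toRingEquiv (fun a => ?_) h
  show e (algebraMap k A a) = _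
  rw [AlgEquiv.commutes, IsScalarTower.algebraMap_apply k p.asIdeal.ResidueField (p.asIdeal.Fiber A)]
  rfl

variable {k : Type u} [Field k] {X : Scheme.{u}} (p : X ⟶ Spec (CommRingCat.of k))

/-- the structure map of sections -/
noncomputable abbrev str (U : X.Opens) : CommRingCat.of k ⟶ Γ(X, U) :=
  (Scheme.ΓSpecIso (CommRingCat.of k)).inv ≫ p.appLE ⊤ U le_top

theorem syntHom_str_iff (U : X.Opens) :
    Groth.Agent.CI2.SyntHom (p.appLE ⊤ U le_top).hom ↔ Groth.Agent.CI2.SyntHom (str p U).hom := by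
  have hR := Groth.Agent.CI2.syntHom_propertyIsLocal.{u}.respectsIso
  rw [str, CommRingCat.hom_comp]
  exact (RingHom.RespectsIso.cancel_left_isIso hR (Scheme.ΓSpecIso (CommRingCat.of k)).inv (p.appLE ⊤ U le_top)).symm

theorem isLCIOver_of_syntMor (h : Synt.IsSyntomicMor p) (U : X.affineOpens) :
    letI := (str p U.1).hom.toAlgebra
    Synt.IsLCIOver k Γ(X, U.1) :=
  letI := (str p U.1).hom.toAlgebra
  Groth.Agent.CI2.isLCIOver_of_isSyntomic_field (Groth.Agent.CI2.syntHom_algebraMap.mp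
    ((syntHom_str_iff p U.1).mp ((Groth.Agent.CI2.isSyntomicMor_iff_appLE p).mp h ⟨⊤, isAffineOpen_top _⟩ U le_top)))

theorem stalk_isCIOver_iff (U : X.affineOpens) (x : X) (hx : x ∈ U.1) :
    letI := (str p U.1).hom.toAlgebra
    letI := ((Scheme.ΓSpecIso (CommRingCat.of k)).inv ≫ p.appLE ⊤ ⊤ le_top ≫ X.presheaf.germ ⊤ x trivial).hom.toAlgebra
    Synt.IsCIOver k (X.presheaf.stalk x) ↔
      Synt.IsCIOver k (Localization.AtPrime (U.2.primeIdealOf ⟨x, hx⟩).asIdeal) := by
  letI := (str p U.1).hom.toAlgebra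
  letI := ((Scheme.ΓSpecIso (CommRingCat.of k)).inv ≫ p.appLE ⊤ ⊤ le_top ≫ X.presheaf.germ ⊤ x trivial).hom.toAlgebra
  letI : Algebra Γ(X, U.1) (X.presheaf.stalk x) := (X.presheaf.germ U.1 x hx).hom.toAlgebra
  haveI : IsLocalization.AtPrime (X.presheaf.stalk x) (U.2.primeIdealOf ⟨x, hx⟩).asIdeal :=
    U.2.isLocalization_stalk ⟨x, hx⟩
  haveI : IsScalarTower k Γ(X, U.1) (X.presheaf.stalk x) := IsScalarTower.of_algebraMap_eq' (by
    rw [RingHom.algebraMap_toAlgebra, RingHom.algebraMap_toAlgebra, RingHom.algebraMap_toAlgebra, ← CommRingCat.hom_comp]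
    refine congrArg CommRingCat.Hom.hom ?_
    rw [str, Category.assoc, ← X.presheaf.germ_res (homOfLE (show U.1 ≤ ⊤ from le_top)) x hx]
    refine congrArg ((Scheme.ΓSpecIso (CommRingCat.of k)).inv ≫ ·) ?_
    rw [← Category.assoc]
    exact congrArg (· ≫ X.presheaf.germ U.1 x hx) (p.appLE_map _ _))
  let e : X.presheaf.stalk x ≃ₐ[k] Localization.AtPrime (U.2.primeIdealOf ⟨x, hx⟩).asIdeal :=
    (IsLocalization.algEquiv (U.2.primeIdealOf ⟨x, hx⟩).asIdeal.primeCompl _ _).restrictScalars k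
  exact ⟨Groth.Agent.CI2.isCIOver_congr e, Groth.Agent.CI2.isCIOver_congr e.symm⟩

open AlgebraicGeometry CategoryTheory in
/-- For X locally of finite type over a field k with structure morphism p, the following are equivalent:
(1) p is syntomic; (2) every x ∈ X has an affine open neighbourhood whose coordinate ring is a
global complete intersection over k; (3) each stalk O_{X,x} is a complete intersection ring over k
(k-algebra structures induced by p). -/
theorem result (k : Type u) [Field k] (X : Scheme.{u}) (p : X ⟶ Spec (CommRingCat.of k)) [LocallyOfFiniteType p] :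
    [Synt.IsSyntomicMor p,
      ∀ x : ↑X, ∃ U : X.affineOpens, x ∈ U.1 ∧
        letI := ((Scheme.ΓSpecIso (CommRingCat.of k)).inv ≫ p.appLE ⊤ U.1 le_top).hom.toAlgebra
        Synt.IsGlobalCI k Γ(X, U.1),
      ∀ x : ↑X,
        letI := ((Scheme.ΓSpecIso (CommRingCat.of k)).inv ≫ p.appLE ⊤ ⊤ le_top ≫ X.presheaf.germ ⊤ x trivial).hom.toAlgebra
        Synt.IsCIOver k (X.presheaf.stalk x)].TFAE := by
  tfae_have 1 → 2 := by
    intro h x
    obtain ⟨U, hU, hxU, -⟩ := exists_isAffineOpen_mem_and_subset (X := X) (U := ⊤) (x := x) trivial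
    letI := (str p U).hom.toAlgebra
    obtain ⟨g, hg, hci⟩ := (isLCIOver_of_syntMor p h ⟨U, hU⟩).2 (hU.primeIdealOf ⟨x, hxU⟩)
    refine ⟨⟨X.basicOpen g, hU.basicOpen g⟩, ?_, ?_⟩
    · have : hU.fromSpec (hU.primeIdealOf ⟨x, hxU⟩) ∈ X.basicOpen g := by
        show hU.primeIdealOf ⟨x, hxU⟩ ∈ hU.fromSpec ⁻¹ᵁ X.basicOpen g
        rw [hU.fromSpec_preimage_basicOpen]
        exact hg
      rwa [hU.fromSpec_primeIdealOf] at this
    letI := (str p (X.basicOpen g)).hom.toAlgebra
    haveI : IsLocalization.Away g Γ(X, X.basicOpen g) := hU.isLocalization_basicOpen g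
    haveI : IsScalarTower k Γ(X, U) Γ(X, X.basicOpen g) := IsScalarTower.of_algebraMap_eq' (by
      show (str p (X.basicOpen g)).hom = (X.presheaf.map (homOfLE (X.basicOpen_le g)).op).hom.comp (str p U).hom
      rw [← CommRingCat.hom_comp]
      refine congrArg CommRingCat.Hom.hom ?_
      rw [str, str, Category.assoc]
      exact congrArg ((Scheme.ΓSpecIso (CommRingCat.of k)).inv ≫ ·) (p.appLE_map _ _).symm)
    exact Groth.Agent.CI2.isGlobalCI_congr
      ((IsLocalization.algEquiv (Submonoid.powers g) (Localization.Away g) Γ(X, X.basicOpen g)).restrictScalars k) hci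
  tfae_have 2 → 3 := by
    intro h x
    obtain ⟨U, hx, hci⟩ := h x
    letI := (str p U.1).hom.toAlgebra
    exact (stalk_isCIOver_iff p U x hx).mpr (Groth.Agent.CI2.isCIOver_atPrime_of_isGlobalCI hci _)
  tfae_have 3 → 1 := by
    intro h
    refine fun x => ?_
    obtain ⟨U, hU, hxU, -⟩ := exists_isAffineOpen_mem_and_subset (X := X) (U := ⊤) (x := x) trivial
    refine ⟨⟨U, hU⟩, ⟨⊤, isAffineOpen_top _⟩, le_top, hxU, ?_⟩
    letI := (str p U).hom.toAlgebra
    haveI : Algebra.FiniteType k Γ(X, U) := by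
      have h1 : (p.appLE ⊤ U le_top).hom.FiniteType :=
        HasRingHomProperty.appLE @LocallyOfFiniteType p ‹_› ⟨⊤, isAffineOpen_top _⟩ ⟨U, hU⟩ le_top
      have h2 : (str p U).hom.FiniteType := by
        rw [str, CommRingCat.hom_comp]
        exact h1.comp (RingHom.FiniteType.of_surjective _ (ConcreteCategory.bijective_of_isIso _).surjective)
      exact h2
    have hlci : Synt.IsLCIOver k Γ(X, U) := Groth.Agent.CI2.isLCIOver_of_forall_maximal fun m _ => by
      let x' : X := hU.fromSpec ⟨m, inferInstance⟩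
      have hx' : x' ∈ U := hU.range_fromSpec.subset ⟨_, rfl⟩
      have hm : (hU.primeIdealOf ⟨x', hx'⟩) = (⟨m, inferInstance⟩ : PrimeSpectrum _) :=
        hU.fromSpec.isOpenEmbedding.injective (hU.fromSpec_primeIdealOf _)
      have hci := (stalk_isCIOver_iff p ⟨U, hU⟩ x' hx').mp (h x')
      have key : ∀ (z : PrimeSpectrum Γ(X, U)), z = ⟨m, inferInstance⟩ →
          Synt.IsCIOver k (Localization.AtPrime z.asIdeal) → Synt.IsCIOver k (Localization.AtPrime m) := by
        rintro z rfl hz; exact hz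
      exact key _ hm hci
    exact (syntHom_str_iff p U).mpr (Groth.Agent.CI2.syntHom_algebraMap.mpr (isSyntomic_of_isLCIOver hlci))
  tfae_finish

end Groth.Agent.S9368
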