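import Groth.Statements.S9651
import Mathlib

set_option autoImplicit false
universe u
open CAlg

namespace Groth.Agent.S9651

theorem chev {D T : Type u} [CommRing D] [IsDomain D] [CommRing T] [IsDomain T] [Algebra D T]
    [Algebra.FiniteType D T] (hinj : Function.Injective (algebraMap D T)) (g : T) (hg : g ≠ 0) :
    ∃ a : D, a ≠ 0 ∧ ∀ p : PrimeSpectrum D, a ∉ p.asIdeal →
      ∃ q : PrimeSpectrum T, q.comap (algebraMap D T) = p ∧ g ∉ q.asIdeal := by
  classical
  let Tg := Localization.Away g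
  haveI : IsDomain Tg := IsLocalization.isDomain_localization
    (powers_le_nonZeroDivisors_of_noZeroDivisors hg)
  haveI : Algebra.FiniteType T Tg := IsLocalization.finiteType_of_monoid_fg (Submonoid.powers g) Tg
  haveI : Algebra.FiniteType D Tg := Algebra.FiniteType.trans ‹Algebra.FiniteType D T› ‹_›
  have hinj' : Function.Injective (algebraMap D Tg) := by
    rw [IsScalarTower.algebraMap_eq D T Tg]
    exact (IsLocalization.injective Tg (powers_le_nonZeroDivisors_of_noZeroDivisors hg)).comp hinj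
  let K := FractionRing D
  let TK := TensorProduct D K Tg
  let F := FractionRing Tg
  have hF : ∀ y : nonZeroDivisors D, IsUnit (algebraMap D F (y : D)) := fun y => by
    refine isUnit_iff_ne_zero.mpr fun h => nonZeroDivisors.ne_zero y.2 ?_
    rw [IsScalarTower.algebraMap_apply D Tg F] at h
    exact hinj' ((IsFractionRing.injective Tg F (h.trans (map_zero _).symm)).trans (map_zero _).symm)
  let ι : K →ₐ[D] F := IsLocalization.liftAlgHom (f := Algebra.ofId D F) hF
  have : Nontrivial TK := RingHom.domain_nontrivial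
    (Algebra.TensorProduct.lift ι (IsScalarTower.toAlgHom D Tg F) fun _ _ => mul_comm _ _).toRingHom
  obtain ⟨s, hs⟩ := (‹Algebra.FiniteType D Tg›).out
  obtain ⟨m, hm⟩ := Ideal.exists_maximal TK
  let L := TK ⧸ m
  letI : Field L := Ideal.Quotient.field m
  haveI : Algebra.FiniteType K L := Algebra.FiniteType.of_surjective (Ideal.Quotient.mkₐ K m)
    (Ideal.Quotient.mkₐ_surjective K m)
  haveI : Module.Finite K L := finite_of_finite_type_of_isJacobsonRing K L
  let φ : Tg →ₐ[D] L := ((Ideal.Quotient.mkₐ K m).restrictScalars D).comp Algebra.TensorProduct.includeRight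
  obtain ⟨a, ha, haint⟩ := exists_integral_multiples D K (s.image φ)
  refine ⟨a, ha, fun p hp => ?_⟩
  let C := integralClosure D L
  have hC : ∀ t : Tg, ∃ n : ℕ, algebraMap D L a ^ n * φ t ∈ C := by
    intro t
    have : t ∈ Algebra.adjoin D (s : Set Tg) := by rw [hs]; exact Algebra.mem_top
    induction this using Algebra.adjoin_induction with
    | mem x hx => exact ⟨1, by rw [pow_one, ← Algebra.smul_def]; exact haint _ (Finset.mem_image_of_mem φ hx)⟩
    | algebraMap r => exact ⟨0, by rw [pow_zero, one_mul, AlgHom.commutes]; exact C.algebraMap_mem r⟩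
    | add x y _ _ hx hy =>
      obtain ⟨n, hn⟩ := hx
      obtain ⟨m, hm⟩ := hy
      refine ⟨n + m, ?_⟩
      rw [map_add, mul_add]
      refine C.add_mem ?_ ?_
      · rw [pow_add, mul_comm (_ ^ n), mul_assoc]; exact C.mul_mem (pow_mem (C.algebraMap_mem a) _) hn
      · rw [pow_add, mul_assoc]; exact C.mul_mem (pow_mem (C.algebraMap_mem a) _) hm
    | mul x y _ _ hx hy =>
      obtain ⟨n, hn⟩ := hx
      obtain ⟨m, hm⟩ := hy
      refine ⟨n + m, ?_⟩
      rw [map_mul, pow_add, mul_mul_mul_comm]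
      exact C.mul_mem hn hm
  have hDL : Function.Injective (algebraMap D L) := by
    rw [IsScalarTower.algebraMap_eq D K L]
    exact (algebraMap K L).injective.comp (IsFractionRing.injective D K)
  have hDC : Function.Injective (algebraMap D C) := fun x y h => hDL (congrArg Subtype.val h)
  haveI : Algebra.IsIntegral D C := integralClosure.AlgebraIsIntegral
  obtain ⟨q, hqp, hq⟩ := Ideal.exists_ideal_over_prime_of_isIntegral_of_isPrime p.asIdeal (⊥ : Ideal C) (by
    intro x hx
    rw [Ideal.mem_comap, Ideal.mem_bot] at hx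
    rw [hDC (hx.trans (map_zero _).symm)]; exact zero_mem _)
  haveI := hq.1
  have haq : algebraMap D C a ∉ q := fun h => hp (by rw [← hq.2]; exact h)
  let Q : Ideal Tg :=
  { carrier := {t | ∃ n : ℕ, ∃ h : algebraMap D L a ^ n * φ t ∈ C, (⟨_, h⟩ : C) ∈ q}
    add_mem' := by
      rintro x y ⟨n, hn, hnq⟩ ⟨m, hm, hmq⟩
      have h1 : algebraMap D L a ^ (n + m) * φ (x + y) =
          ((algebraMap D C a ^ m * ⟨_, hn⟩ + algebraMap D C a ^ n * ⟨_, hm⟩ : C) : L) := by
        push_cast; rw [map_add]; ring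
      refine ⟨n + m, by rw [h1]; exact SetLike.coe_mem _, ?_⟩
      convert q.add_mem (q.mul_mem_left (algebraMap D C a ^ m) hnq) (q.mul_mem_left (algebraMap D C a ^ n) hmq) using 1
      exact Subtype.ext h1
    zero_mem' := ⟨0, by rw [map_zero, mul_zero]; exact C.zero_mem, by
      convert q.zero_mem; exact mul_eq_zero_of_right _ (map_zero φ)⟩
    smul_mem' := by
      rintro c x ⟨n, hn, hnq⟩
      obtain ⟨m, hm⟩ := hC c
      have h1 : algebraMap D L a ^ (n + m) * φ (c • x) =
          (((⟨_, hm⟩ : C) * ⟨_, hn⟩ : C) : L) := by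
        push_cast; rw [smul_eq_mul, map_mul]; ring
      refine ⟨n + m, by rw [h1]; exact SetLike.coe_mem _, ?_⟩
      convert q.mul_mem_left (⟨_, hm⟩ : C) hnq using 1
      exact Subtype.ext h1 }
  have hQD : ∀ r : D, algebraMap D Tg r ∈ Q ↔ r ∈ p.asIdeal := by
    intro r
    constructor
    · rintro ⟨n, hn, hnq⟩
      have : (⟨_, hn⟩ : C) = algebraMap D C (a ^ n * r) := Subtype.ext (by
        show algebraMap D L a ^ n * φ (algebraMap D Tg r) = algebraMap D L (a ^ n * r)
        rw [AlgHom.commutes, map_mul, map_pow])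
      rw [this] at hnq
      have hmem : a ^ n * r ∈ p.asIdeal := by rw [← hq.2]; exact hnq
      exact (p.isPrime.mem_or_mem hmem).resolve_left fun h => hp (p.isPrime.mem_of_pow_mem n h)
    · intro hr
      refine ⟨0, by rw [pow_zero, one_mul, AlgHom.commutes]; exact C.algebraMap_mem r, ?_⟩
      rw [← hq.2, Ideal.mem_comap] at hr
      have he : (⟨algebraMap D L a ^ 0 * φ (algebraMap D Tg r), by
          rw [pow_zero, one_mul, AlgHom.commutes]; exact C.algebraMap_mem r⟩ : C) = algebraMap D C r :=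
        Subtype.ext (show algebraMap D L a ^ 0 * φ (algebraMap D Tg r) = algebraMap D L r by
          rw [pow_zero, one_mul]; exact φ.commutes r)
      rw [he]; exact hr
  haveI hQ : Q.IsPrime := by
    refine ⟨fun h => p.isPrime.ne_top ((Ideal.eq_top_iff_one _).mpr ((hQD 1).mp (by rw [h]; trivial))), ?_⟩
    rintro x y ⟨n, hn, hnq⟩
    obtain ⟨i, hi⟩ := hC x
    obtain ⟨j, hj⟩ := hC y
    have h1 : (algebraMap D C a ^ n) * ((⟨_, hi⟩ : C) * ⟨_, hj⟩) =
        algebraMap D C a ^ (i + j) * (⟨_, hn⟩ : C) := Subtype.ext (by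
      push_cast; rw [map_mul]; ring)
    have h2 : (algebraMap D C a ^ n) * ((⟨_, hi⟩ : C) * ⟨_, hj⟩) ∈ q := h1 ▸ q.mul_mem_left _ hnq
    rcases Ideal.IsPrime.mem_or_mem inferInstance h2 with h | h
    · exact absurd (Ideal.IsPrime.mem_of_pow_mem inferInstance n h) haq
    rcases Ideal.IsPrime.mem_or_mem inferInstance h with h | h
    · exact Or.inl ⟨i, hi, h⟩
    · exact Or.inr ⟨j, hj, h⟩
  refine ⟨⟨Q.comap (algebraMap T Tg), inferInstance⟩, PrimeSpectrum.ext (Ideal.ext fun r => ?_), ?_⟩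
  · show algebraMap T Tg (algebraMap D T r) ∈ Q ↔ _
    rw [← IsScalarTower.algebraMap_apply]; exact hQD r
  · exact fun h => hQ.ne_top (Q.eq_top_of_isUnit_mem h (IsLocalization.Away.algebraMap_isUnit g))

/-- Let R → S be a ring map of finite type, f : Spec(S) → Spec(R) the induced map and E ⊆ Spec(S) a
constructible subset. If ξ ∈ f(E) then f(E) ∩ cl{ξ} contains an open dense subset of the closure
cl{ξ}: some open U of Spec(R) has U ∩ cl{ξ} dense in cl{ξ} and contained in f(E). -/
theorem result {R S : Type u} [CommRing R] [CommRing S] [Algebra R S] [Algebra.FiniteType R S]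
    (E : Set (PrimeSpectrum S)) (hE : Topology.IsConstructible E) (ξ : PrimeSpectrum R) (hξ : ξ ∈ PrimeSpectrum.comap (algebraMap R S) '' E) :
    ∃ U : Set (PrimeSpectrum R), IsOpen U ∧ closure ({ξ} : Set (PrimeSpectrum R)) ⊆ closure (U ∩ closure {ξ}) ∧ U ∩ closure {ξ} ⊆ PrimeSpectrum.comap (algebraMap R S) '' E := by
  obtain ⟨η, hη, rfl⟩ := hξ
  obtain ⟨cs, rfl⟩ := PrimeSpectrum.exists_constructibleSetData_iff.mpr hE
  simp only [PrimeSpectrum.ConstructibleSetData.toSet, Set.mem_iUnion] at hη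
  obtain ⟨C, hC, hηC⟩ := hη
  rw [PrimeSpectrum.BasicConstructibleSetData.toSet] at hηC
  obtain ⟨hz, hD⟩ := hηC
  set q := η.asIdeal
  set p := q.comap (algebraMap R S)
  have hfne : C.f ∉ q := by simpa using hD
  letI : Algebra (R ⧸ p) (S ⧸ q) := (Ideal.quotientMap q (algebraMap R S) le_rfl).toAlgebra
  haveI : IsScalarTower R (R ⧸ p) (S ⧸ q) := IsScalarTower.of_algebraMap_eq fun r => rfl
  haveI : Algebra.FiniteType R (S ⧸ q) := Algebra.FiniteType.trans ‹Algebra.FiniteType R S› inferInstance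
  haveI : Algebra.FiniteType (R ⧸ p) (S ⧸ q) := Algebra.FiniteType.of_restrictScalars_finiteType R _ _
  obtain ⟨a, ha, hsur⟩ := chev (D := R ⧸ p) (T := S ⧸ q)
    (Ideal.quotientMap_injective (I := q) (f := algebraMap R S)) (Ideal.Quotient.mk q C.f)
    (by rwa [ne_eq, Ideal.Quotient.eq_zero_iff_mem])
  obtain ⟨b, rfl⟩ := Ideal.Quotient.mk_surjective a
  rw [ne_eq, Ideal.Quotient.eq_zero_iff_mem] at ha
  have hξU : PrimeSpectrum.comap (algebraMap R S) η ∈ (PrimeSpectrum.basicOpen b : Set (PrimeSpectrum R)) :=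
    ha
  refine ⟨PrimeSpectrum.basicOpen b, (PrimeSpectrum.basicOpen b).isOpen,
    closure_mono (Set.singleton_subset_iff.mpr ⟨hξU, subset_closure rfl⟩), ?_⟩
  rintro x ⟨hxb, hx⟩
  have hpx : p ≤ x.asIdeal := by
    rw [← specializes_iff_mem_closure, ← PrimeSpectrum.le_iff_specializes] at hx
    exact hx
  let x' : PrimeSpectrum (R ⧸ p) := ⟨x.asIdeal.map (Ideal.Quotient.mk p),
    Ideal.map_isPrime_of_surjective Ideal.Quotient.mk_surjective (by rwa [Ideal.mk_ker])⟩
  have hx' : x'.asIdeal.comap (Ideal.Quotient.mk p) = x.asIdeal := by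
    rw [Ideal.comap_map_of_surjective _ Ideal.Quotient.mk_surjective, ← RingHom.ker_eq_comap_bot, Ideal.mk_ker, sup_of_le_left hpx]
  obtain ⟨Q, hQ, hQf⟩ := hsur x' (fun h => hxb (by rw [← hx']; exact h))
  refine ⟨PrimeSpectrum.comap (Ideal.Quotient.mk q) Q, ?_, ?_⟩
  · simp only [PrimeSpectrum.ConstructibleSetData.toSet, Set.mem_iUnion]
    refine ⟨C, hC, ?_, by simpa [PrimeSpectrum.BasicConstructibleSetData.toSet] using hQf⟩
    rw [PrimeSpectrum.mem_zeroLocus] at hz ⊢
    intro y hy
    show Ideal.Quotient.mk q y ∈ Q.asIdeal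
    rw [Ideal.Quotient.eq_zero_iff_mem.mpr (hz hy)]; exact zero_mem _
  · apply PrimeSpectrum.ext
    ext r
    have h1 := congrArg (fun z : PrimeSpectrum (R ⧸ p) => Ideal.Quotient.mk p r ∈ z.asIdeal) hQ
    have h2 : (Ideal.Quotient.mk p r ∈ x'.asIdeal) ↔ r ∈ x.asIdeal := by rw [← Ideal.mem_comap, hx']
    exact (iff_of_eq h1).trans h2

end Groth.Agent.S9651
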