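import Groth.Statements.S0845
import Groth.Agent.Lib.CohFound.ProjTopIso

set_option autoImplicit false
universe u
open Coherent

namespace Groth.Agent.S0845

open CategoryTheory AlgebraicGeometry in
/-- Top cohomology of negative twists on projective space: for a ring R and natural numbers n, k, the
R-module H^n(P^n_R, O(-(n+1+k))) is R-linearly isomorphic to the module of homogeneous polynomials
of degree k in n+1 variables over R. The published statement is a canonical identification of
H^n(P^n_R, O(d)), d < 0, with the degree-d part of (T_0⋯T_n)^(-1) R[1/T_0, …, 1/T_n], a free
R-module on the Laurent monomials with all exponents ≤ -1 and total degree d; only the existence of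
an abstract R-linear isomorphism is asserted here. -/
theorem result (R : Type u) [CommRing R] (n k : ℕ) :
    Nonempty (Coh.HH (CohB1.ProjSpace n R) (Twist.twistProjSpace n R (-((n : ℤ) + 1 + k))) n ≃ₗ[R]
      ↥(MvPolynomial.homogeneousSubmodule (Fin (n + 1)) R k)) := by
  exact Groth.Agent.CohFound.ProjNum.nonempty_top_linearEquiv (n := n) (R := R) (k := k)

end Groth.Agent.S0845
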