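import Groth.Statements.S0544
import Mathlib.RingTheory.AdicCompletion.Functoriality
import Mathlib.LinearAlgebra.StdBasis

set_option autoImplicit false
universe u
open CAlg

namespace Groth.Agent.S0544

theorem isPrecomplete_pi {R : Type u} [CommRing R] (I : Ideal R) [IsPrecomplete I R] (r : ℕ) :
    IsPrecomplete I (Fin r → R) := by
  constructor
  intro f hf
  have hcoord : ∀ (j : Fin r) {m n : ℕ}, m ≤ n → f m j ≡ f n j [SMOD (I ^ m • ⊤ : Submodule R R)] := by
    intro j m n hmn
    rw [SModEq.sub_mem]
    have := Submodule.mem_map_of_mem (f := LinearMap.proj (R := R) (φ := fun _ : Fin r => R) j) (SModEq.sub_mem.1 (hf hmn))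
    rw [Submodule.map_smul''] at this
    exact Submodule.smul_mono le_rfl le_top this
  choose L hL using fun j => IsPrecomplete.prec inferInstance (hcoord j)
  refine ⟨L, fun n => ?_⟩
  have e := (Pi.basisFun R (Fin r)).sum_repr (f n - L : Fin r → R)
  rw [SModEq.sub_mem, ← e]
  refine sum_mem fun j _ => Submodule.smul_mem_smul ?_ Submodule.mem_top
  simpa [SModEq.sub_mem] using hL j n



/-- Let `R` be complete with respect to an ideal `I` and `M` an `R`-module which is `I`-adically
separated and such that `M/IM` is finitely generated. Then `M` is a finitely generated `R`-module. -/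
theorem result (R : Type u) [CommRing R]
    (I : Ideal R) [IsAdicComplete I R] (M : Type u) [AddCommGroup M] [Module R M] [IsHausdorff I M]
    (h : Module.Finite R (M ⧸ (I • ⊤ : Submodule R M))) : Module.Finite R M := by
  obtain ⟨r, g, hg⟩ := Module.Finite.exists_fin (R := R) (M := M ⧸ (I • ⊤ : Submodule R M))
  choose x hx using fun j => Submodule.mkQ_surjective _ (g j)
  have := isPrecomplete_pi I r
  let f := Fintype.linearCombination R x
  refine Module.Finite.of_surjective f (surjective_of_mkQ_comp_surjective (I := I) ?_)
  rw [← LinearMap.range_eq_top, LinearMap.range_comp, Fintype.range_linearCombination, Submodule.map_span,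
    ← Set.range_comp, show (Submodule.mkQ (I • ⊤ : Submodule R M) ∘ x) = g from funext hx, hg]

end Groth.Agent.S0544
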