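import Groth.Statements.S4558
import Groth.Agent.S0544
import Mathlib.LinearAlgebra.TensorProduct.Quotient
import Mathlib.RingTheory.AdicCompletion.Completeness

set_option autoImplicit false
universe u
open EGA41

namespace Groth.Agent.S4558

/-- Let A be a discrete ring, B an adic topological A-algebra with ideal of definition 𝔫 (B separated
and complete for the 𝔫-adic topology) and B₀ = B/𝔫. If Ω_{B₀/A} and 𝔫/𝔫² are B₀-modules of finite
type, then Ω̂_{B/A}, the 𝔫-adic completion of Ω_{B/A}, is a B-module of finite type. -/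
theorem result {A B : Type u} [CommRing A] [CommRing B] [Algebra A B] (𝔫 : Ideal B)
    [IsAdicComplete 𝔫 B] [Module.Finite (B ⧸ 𝔫) (Ω[B ⧸ 𝔫⁄A])] [Module.Finite (B ⧸ 𝔫) 𝔫.Cotangent] :
    Module.Finite B (AdicCompletion 𝔫 (Ω[B⁄A])) := by
  have hs : Function.Surjective (algebraMap B (B ⧸ 𝔫)) := Ideal.Quotient.mk_surjective
  -- `𝔫` is finitely generated
  haveI : Module.Finite B 𝔫.Cotangent := Module.Finite.trans (B ⧸ 𝔫) _
  haveI : IsHausdorff 𝔫 (𝔫 : Submodule B B) := ⟨fun x hx => Subtype.ext (IsHausdorff.haus' (I := 𝔫) (x : B) fun n => by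
    rw [SModEq.sub_mem, sub_zero]
    have := hx n
    rw [SModEq.sub_mem, sub_zero, Submodule.mem_smul_top_iff] at this
    exact Submodule.smul_mono le_rfl le_top this)⟩
  haveI hnfin : Module.Finite B (𝔫 : Submodule B B) := S0544.result B 𝔫 _ ‹Module.Finite B 𝔫.Cotangent›
  have hfg : 𝔫.FG := Module.Finite.iff_fg.mp hnfin
  haveI : IsAdicComplete 𝔫 (AdicCompletion 𝔫 Ω[B⁄A]) := AdicCompletion.isAdicComplete hfg
  refine S0544.result B 𝔫 _ ?_
  -- the reduction
  haveI : Module.Finite B Ω[B ⧸ 𝔫⁄A] := Module.Finite.trans (B ⧸ 𝔫) _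
  haveI hcot : Module.Finite B (RingHom.ker (algebraMap B (B ⧸ 𝔫))).Cotangent := by
    rw [show RingHom.ker (algebraMap B (B ⧸ 𝔫)) = 𝔫 from Ideal.mk_ker]
    infer_instance
  haveI : Module.Finite B (TensorProduct B (B ⧸ 𝔫) Ω[B⁄A]) := by
    constructor
    refine Submodule.fg_of_fg_map_of_fg_inf_ker ((KaehlerDifferential.mapBaseChange A B (B ⧸ 𝔫)).restrictScalars B) ?_ ?_
    · rw [Submodule.map_top, LinearMap.range_eq_top.mpr]
      · exact Module.finite_def.mp inferInstance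
      · intro y
        exact KaehlerDifferential.mapBaseChange_surjective A B (B ⧸ 𝔫) hs y
    · rw [top_inf_eq, (LinearMap.exact_iff (f := KaehlerDifferential.kerCotangentToTensor A B (B ⧸ 𝔫))
        (g := (KaehlerDifferential.mapBaseChange A B (B ⧸ 𝔫)).restrictScalars B)).mp
        (KaehlerDifferential.exact_kerCotangentToTensor_mapBaseChange A B (B ⧸ 𝔫) hs)]
      exact Module.Finite.iff_fg.mp (Module.Finite.range _)
  haveI : Module.Finite B (Ω[B⁄A] ⧸ (𝔫 ^ 1 • ⊤ : Submodule B Ω[B⁄A])) := by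
    rw [pow_one]
    exact Module.Finite.equiv (TensorProduct.quotTensorEquivQuotSMul Ω[B⁄A] 𝔫)
  let ev := AdicCompletion.eval 𝔫 Ω[B⁄A] 1
  have hk : (𝔫 • ⊤ : Submodule B (AdicCompletion 𝔫 Ω[B⁄A])) = LinearMap.ker ev := by
    rw [← AdicCompletion.pow_smul_top_eq_ker_eval hfg, pow_one]
  exact Module.Finite.equiv ((Submodule.quotEquivOfEq _ _ hk).trans
    (ev.quotKerEquivOfSurjective (AdicCompletion.eval_surjective 𝔫 Ω[B⁄A] 1))).symm

end Groth.Agent.S4558
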