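import Groth.Statements.S3847
import Groth.Agent.Lib.CKaehlerFree3.GenRank
import Groth.Agent.S4528
import Mathlib.RingTheory.LocalRing.Module

set_option autoImplicit false
universe u
open EGA418

namespace Groth.Agent.S3847

open scoped TensorProduct

/-- Let k be a field, A a complete Noetherian local k-algebra whose residue field is a finite extension
of k, p a prime ideal of A and q a minimal prime ideal of A contained in p. Let Ω̂ be the completion
of the module of differentials of A over k for the topology of the maximal ideal. Then the minimal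
number of generators of the A_p-module Ω̂_p (the rank of its fibre at p) is at least dim(A/q). -/
theorem result (k A : Type u) [Field k] [CommRing A]
    [IsLocalRing A] [IsNoetherianRing A] [Algebra k A]
    [IsAdicComplete (IsLocalRing.maximalIdeal A) A]
    [Module.Finite k (IsLocalRing.ResidueField A)]
    (p q : Ideal A) [p.IsPrime] (hq : q ∈ minimalPrimes A) (hqp : q ≤ p) :
    ringKrullDim (A ⧸ q) ≤
      (Cardinal.toENat (Module.rank p.ResidueField
        (TensorProduct A p.ResidueField
          (AdicCompletion (IsLocalRing.maximalIdeal A) (KaehlerDifferential k A)))) : WithBot ℕ∞) := by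
  classical
  haveI : q.IsPrime := hq.1.1
  haveI : Module.Finite A (AdicCompletion (IsLocalRing.maximalIdeal A) (KaehlerDifferential k A)) := S4528.result
  set M := AdicCompletion (IsLocalRing.maximalIdeal A) (KaehlerDifferential k A)
  haveI : Nontrivial (A ⧸ q) := Ideal.Quotient.nontrivial_iff.2 Ideal.IsPrime.ne_top'
  haveI : IsLocalRing (A ⧸ q) := IsLocalRing.of_surjective' _ Ideal.Quotient.mk_surjective
  have hm : (IsLocalRing.maximalIdeal A).map (algebraMap A (A ⧸ q)) = IsLocalRing.maximalIdeal (A ⧸ q) :=
    IsLocalRing.map_maximalIdeal_of_surjective _ Ideal.Quotient.mk_surjective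
  haveI hcq : IsAdicComplete (IsLocalRing.maximalIdeal A) (A ⧸ q) := Compl.isAdicComplete_of_finite _ _
  haveI : IsAdicComplete (IsLocalRing.maximalIdeal (A ⧸ q)) (A ⧸ q) := by
    rw [← hm]; exact (IsAdicComplete.map_algebraMap_iff _ _).2 hcq
  haveI : Module.Finite k (IsLocalRing.ResidueField (A ⧸ q)) :=
    haveI : IsLocalHom (Ideal.Quotient.mkₐ k q).toRingHom :=
      Function.Surjective.isLocalHom _ Ideal.Quotient.mk_surjective
    Module.Finite.of_surjective
      ({ toFun := IsLocalRing.ResidueField.map (Ideal.Quotient.mkₐ k q).toRingHom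
         map_add' := map_add _
         map_smul' := fun c x => by
           obtain ⟨x, rfl⟩ := IsLocalRing.residue_surjective x
           rw [RingHom.id_apply, Algebra.smul_def, Algebra.smul_def, map_mul]
           congr 1 } :
        IsLocalRing.ResidueField A →ₗ[k] IsLocalRing.ResidueField (A ⧸ q)) fun y => by
      obtain ⟨y, rfl⟩ := IsLocalRing.residue_surjective y
      obtain ⟨x, rfl⟩ := Ideal.Quotient.mk_surjective y
      exact ⟨IsLocalRing.residue A x, rfl⟩
  obtain ⟨n, hn⟩ := DepthLib.exists_supportDim_eq_natCast (R := A ⧸ q) (M := A ⧸ q)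
  rw [Module.supportDim_self_eq_ringKrullDim] at hn
  obtain ⟨ψ, hψi, hψf⟩ := CKaehlerFree3.exists_finite_injective_powerSeries k (A ⧸ q) n hn
  letI : Algebra (MvPowerSeries (Fin n) k) (A ⧸ q) := ψ.toRingHom.toAlgebra
  haveI : IsScalarTower k (MvPowerSeries (Fin n) k) (A ⧸ q) :=
    IsScalarTower.of_algebraMap_eq fun a => (ψ.commutes a).symm
  haveI : Module.Finite (MvPowerSeries (Fin n) k) (A ⧸ q) := hψf
  let L := FractionRing (A ⧸ q)
  obtain ⟨h₀, hspan⟩ := CKaehlerFree3.exists_generic_map (k := k) (C := A ⧸ q) L hψi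
  -- the map on the completion
  haveI : IsAdicComplete (IsLocalRing.maximalIdeal A) (Fin n → A ⧸ q) := Compl.isAdicComplete_of_finite _ _
  let h : Ω[A⁄k] →ₗ[A] (Fin n → A ⧸ q) := h₀.restrictScalars A ∘ₗ KaehlerDifferential.map k k A (A ⧸ q)
  let h₁ : M →ₗ[A] (Fin n → A ⧸ q) :=
    (AdicCompletion.ofLinearEquiv (IsLocalRing.maximalIdeal A) (Fin n → A ⧸ q)).symm.toLinearMap ∘ₗ
      (AdicCompletion.map (IsLocalRing.maximalIdeal A) h).restrictScalars A
  let Φ : M →ₗ[A] (Fin n → L) :=
    (LinearMap.pi fun i => (IsScalarTower.toAlgHom A (A ⧸ q) L).toLinearMap ∘ₗ LinearMap.proj i) ∘ₗ h₁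
  have hΦ : Submodule.span L (Set.range Φ) = ⊤ := by
    rw [eq_top_iff, ← hspan, Submodule.span_le]
    rintro _ ⟨ω, rfl⟩
    obtain ⟨ω, rfl⟩ := KaehlerDifferential.map_surjective_of_surjective k k A (A ⧸ q)
      Ideal.Quotient.mk_surjective ω
    refine Submodule.subset_span ⟨AdicCompletion.of _ _ ω, ?_⟩
    change (fun i => algebraMap (A ⧸ q) L (h₁ (AdicCompletion.of _ _ ω) i)) = _
    rw [show h₁ (AdicCompletion.of _ _ ω) = h ω by
      rw [LinearMap.comp_apply, LinearMap.coe_restrictScalars, AdicCompletion.map_of, LinearEquiv.coe_coe,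
        AdicCompletion.ofLinearEquiv_symm_of]]
    rfl
  -- generators near `p`
  haveI : Module.Finite p.ResidueField (p.ResidueField ⊗[A] M) := inferInstance
  let B := Module.finBasis p.ResidueField (p.ResidueField ⊗[A] M)
  set r := Module.finrank p.ResidueField (p.ResidueField ⊗[A] M)
  have hgen : Submodule.span p.ResidueField (Set.range fun y : M => (1 : p.ResidueField) ⊗ₜ[A] y) = ⊤ := by
    rw [eq_top_iff]
    intro z _
    induction z using TensorProduct.induction_on with
    | zero => exact zero_mem _
    | add a b ha hb => exact add_mem (ha trivial) (hb trivial)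
    | tmul c y =>
      rw [show c ⊗ₜ[A] y = c • ((1 : p.ResidueField) ⊗ₜ[A] y) by rw [TensorProduct.smul_tmul', smul_eq_mul, mul_one]]
      exact Submodule.smul_mem _ _ (Submodule.subset_span ⟨y, rfl⟩)
  obtain ⟨t, ht, htspan, htind⟩ :=
    exists_linearIndependent p.ResidueField (Set.range fun y : M => (1 : p.ResidueField) ⊗ₜ[A] y)
  rw [hgen] at htspan
  haveI : Fintype t := Set.Finite.fintype htind.setFinite
  have hcard : Fintype.card t = r := by
    rw [← Module.finrank_eq_card_basis (Module.Basis.mk htind (by rw [Subtype.range_coe, htspan]))]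
  choose y hy using fun z : t => ht z.2
  let N := Submodule.span A (Set.range y)
  have hsupp : (⟨p, inferInstance⟩ : PrimeSpectrum A) ∉ Module.support A (M ⧸ N) := by
    rw [Module.mem_support_iff_nontrivial_residueField_tensorProduct, not_nontrivial_iff_subsingleton]
    refine subsingleton_of_forall_eq 0 fun w => ?_
    obtain ⟨w, rfl⟩ := LinearMap.lTensor_surjective p.ResidueField N.mkQ_surjective w
    have hw : w ∈ Submodule.span p.ResidueField (t : Set (p.ResidueField ⊗[A] M)) := by rw [htspan]; trivial
    induction hw using Submodule.span_induction with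
    | mem z hz =>
      rw [show z = (1 : p.ResidueField) ⊗ₜ[A] y ⟨z, hz⟩ from (hy ⟨z, hz⟩).symm, LinearMap.lTensor_tmul, Submodule.mkQ_apply,
        (Submodule.Quotient.mk_eq_zero N).2 (Submodule.subset_span ⟨⟨z, hz⟩, rfl⟩), TensorProduct.tmul_zero]
    | zero => rw [map_zero]
    | add a b _ _ ha hb => rw [map_add, ha, hb, add_zero]
    | smul c a _ ha =>
      rw [← LinearMap.baseChange_eq_ltensor, map_smul, LinearMap.baseChange_eq_ltensor, ha, smul_zero]
  rw [Module.notMem_support_iff'] at hsupp
  have hle : Submodule.span L (Set.range Φ) ≤ Submodule.span L (Set.range fun z => Φ (y z)) := by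
    rw [Submodule.span_le]
    rintro _ ⟨x, rfl⟩
    obtain ⟨s, hs, hsx⟩ := hsupp (N.mkQ x)
    rw [← map_smul, Submodule.mkQ_apply, Submodule.Quotient.mk_eq_zero] at hsx
    have hmem : Φ (s • x) ∈ Submodule.span L (Set.range fun z => Φ (y z)) := by
      have := Submodule.mem_map_of_mem (f := Φ) hsx
      rw [Submodule.map_span, ← Set.range_comp] at this
      exact Submodule.span_subset_span A L _ this
    rw [map_smul, ← algebraMap_smul L s] at hmem
    have hs0 : algebraMap A L s ≠ 0 := fun h0 => hs (hqp (Ideal.Quotient.eq_zero_iff_mem.1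
      (IsFractionRing.injective (A ⧸ q) L ((IsScalarTower.algebraMap_apply A (A ⧸ q) L s).symm.trans
        (h0.trans (map_zero _).symm)))))
    exact (Submodule.smul_mem_iff _ hs0).1 hmem
  have hnr : n ≤ r := by
    calc n = Module.finrank L (Fin n → L) := (Module.finrank_fin_fun L).symm
      _ ≤ Module.finrank L (Submodule.span L (Set.range fun z => Φ (y z))) := by
        rw [← finrank_top L (Fin n → L), ← hΦ]
        exact Submodule.finrank_mono hle
      _ ≤ r := hcard ▸ finrank_range_le_card _
  rw [hn, ← Module.finrank_eq_rank]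
  rw [Cardinal.toENat_nat]
  exact_mod_cast hnr

end Groth.Agent.S3847
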