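import Groth.Statements.S5054
import Groth.Agent.Lib.CKaehlerFree3.Unram
import Groth.Agent.S3847
import Groth.Agent.S4528

set_option autoImplicit false
universe u
open EGA418

namespace Groth.Agent.S5054

/-- Let k be a field, A a complete Noetherian local k-algebra whose residue field is a finite extension
of k, p a prime ideal of A distinct from the maximal ideal and containing a minimal prime q with dim
A/q = dim A, Ω̂ the completion (for the topology of the maximal ideal) of the module of
differentials of A over k, and m a natural number. Then the A_p-module Ω̂_p is generated by m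
elements if and only if there is a local k-algebra homomorphism from the power series ring k[[T_1,
…, T_m]] to A making A a finite algebra over it which is unramified at p. -/
theorem result (k A : Type u) [Field k] [CommRing A]
    [IsLocalRing A] [IsNoetherianRing A] [Algebra k A] [IsAdicComplete (IsLocalRing.maximalIdeal A) A]
    [Module.Finite k (IsLocalRing.ResidueField A)]
    (p : Ideal A) [p.IsPrime] (hp : p ≠ IsLocalRing.maximalIdeal A)
    (hq : ∃ q ∈ minimalPrimes A, q ≤ p ∧ ringKrullDim (A ⧸ q) = ringKrullDim A) (m : ℕ) :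
    (∃ s : Fin m → (LocalizedModule p.primeCompl (AdicCompletion (IsLocalRing.maximalIdeal A) (KaehlerDifferential k A))), Submodule.span (Localization.AtPrime p) (Set.range s) = ⊤) ↔
      ∃ (_ : Algebra (MvPowerSeries (Fin m) k) A) (_ : IsScalarTower k (MvPowerSeries (Fin m) k) A),
        IsLocalHom (algebraMap (MvPowerSeries (Fin m) k) A) ∧ Module.Finite (MvPowerSeries (Fin m) k) A ∧
          Algebra.IsUnramifiedAt (MvPowerSeries (Fin m) k) p := by
  classical
  haveI hfinA : Module.Finite A (AdicCompletion (IsLocalRing.maximalIdeal A) Ω[A⁄k]) := S4528.result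
  constructor
  · rintro ⟨s, hs⟩
    obtain ⟨hfin, hd⟩ := CKaehlerFree3.finrank_residue_le p s hs
    obtain ⟨n, hn⟩ := DepthLib.exists_supportDim_eq_natCast (R := A) (M := A)
    rw [Module.supportDim_self_eq_ringKrullDim] at hn
    have hnm : n ≤ m := by
      obtain ⟨q, hq, hqp, hdim⟩ := hq
      have h := S3847.result k A p q hq hqp
      rw [hdim, hn, ← Module.finrank_eq_rank, Cardinal.toENat_nat] at h
      exact le_trans (by exact_mod_cast h) hd
    obtain ⟨x, hx, N, hN⟩ := CKaehlerFree3.exists_parameters_avoiding A n m hn hnm p hp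
    obtain ⟨u, hu⟩ := CKaehlerFree3.exists_units_span (k := k) p m x hx hd
    obtain ⟨ψ, hψ⟩ := H2Alg.PSHom.exists_algHom (A := k) (IsLocalRing.maximalIdeal A) (fun i => (u i : A) * x i)
      fun i => Ideal.mul_mem_left _ _ (hx i).1
    letI : Algebra (MvPowerSeries (Fin m) k) A := ψ.toRingHom.toAlgebra
    haveI : IsScalarTower k (MvPowerSeries (Fin m) k) A := IsScalarTower.of_algebraMap_eq fun a => (ψ.commutes a).symm
    have hmap : (IsLocalRing.maximalIdeal (MvPowerSeries (Fin m) k)).map ψ.toRingHom = Ideal.span (Set.range x) := by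
      rw [H2Alg.PSHom.maximalIdeal_eq, H2Alg.PSHom.V, Ideal.map_span, ← Set.range_comp]
      refine le_antisymm (Ideal.span_le.2 ?_) (Ideal.span_le.2 ?_)
      · rintro _ ⟨i, rfl⟩
        change ψ (MvPowerSeries.X i) ∈ _
        rw [hψ]
        exact Ideal.mul_mem_left _ _ (Ideal.subset_span ⟨i, rfl⟩)
      · rintro _ ⟨i, rfl⟩
        have hmem : ψ (MvPowerSeries.X i) ∈ Ideal.span (Set.range (ψ.toRingHom ∘ fun i => MvPowerSeries.X i)) :=
          Ideal.subset_span ⟨i, rfl⟩
        have h2 := Ideal.mul_mem_left _ ((u i)⁻¹ : Aˣ).val hmem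
        rwa [hψ, Units.inv_mul_cancel_left] at h2
    have hle : (IsLocalRing.maximalIdeal (MvPowerSeries (Fin m) k)).map ψ.toRingHom ≤ IsLocalRing.maximalIdeal A := by
      rw [hmap]; exact Ideal.span_le.2 (by rintro _ ⟨i, rfl⟩; exact (hx i).1)
    haveI hloc : IsLocalHom (algebraMap (MvPowerSeries (Fin m) k) A) := by
      refine ⟨fun a ha => by_contra fun hna => ?_⟩
      exact (IsLocalRing.mem_maximalIdeal _).1 (hle (Ideal.mem_map_of_mem ψ.toRingHom
        ((IsLocalRing.mem_maximalIdeal a).2 hna))) ha
    haveI hfinR : Module.Finite (MvPowerSeries (Fin m) k) A := by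
      refine CKaehlerFree3.finite_of_hom ψ.toRingHom ?_ hle N (hmap ▸ hN)
      have h : ((IsLocalRing.residue A).comp (ψ.toRingHom.comp MvPowerSeries.C)) =
          algebraMap k (IsLocalRing.ResidueField A) := RingHom.ext fun a => by
        rw [RingHom.comp_apply, RingHom.comp_apply, IsScalarTower.algebraMap_apply k A,
          IsLocalRing.ResidueField.algebraMap_eq, ← ψ.commutes a, MvPowerSeries.algebraMap_apply,
          Algebra.algebraMap_self_apply]
        rfl
      rw [h, RingHom.finite_algebraMap]
      infer_instance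
    refine ⟨inferInstance, inferInstance, hloc, hfinR, CKaehlerFree3.isUnramifiedAt_of_span_residue p ?_⟩
    rw [← hu]
    refine congrArg _ (congrArg Set.range (funext fun i => ?_))
    rw [← hψ i]
    rfl
  · rintro ⟨_, _, hloc, hfinR, h⟩
    haveI := hloc
    haveI := hfinR
    exact ⟨_, CKaehlerFree3.localized_span_eq_top p _ (CKaehlerFree3.span_residue_of_isUnramifiedAt p h)⟩

end Groth.Agent.S5054
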