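import Groth.Statements.S5055
import Groth.Agent.Lib.CKaehlerFree3.Etale
import Groth.Agent.Lib.CKaehlerFree3.GeomReg
import Groth.Agent.S5054

set_option autoImplicit false
universe u
open EGA418

namespace Groth.Agent.S5055

/-- Let k be a field, A a complete Noetherian local k-algebra of Krull dimension n whose residue field
is a finite extension of k, p a prime ideal distinct from the maximal ideal and containing a minimal
prime q with dim A/q = n, and Ω̂ the completion of the module of differentials of A over k. If the
A_p-module Ω̂_p is generated by n elements, then it is free of rank n and A_p is a geometrically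
regular k-algebra. -/
theorem result (k A : Type u) [Field k] [CommRing A]
    [IsLocalRing A] [IsNoetherianRing A] [Algebra k A] [IsAdicComplete (IsLocalRing.maximalIdeal A) A]
    [Module.Finite k (IsLocalRing.ResidueField A)]
    (n : ℕ) (hn : ringKrullDim A = n) (p : Ideal A) [p.IsPrime] (hp : p ≠ IsLocalRing.maximalIdeal A)
    (hq : ∃ q ∈ minimalPrimes A, q ≤ p ∧ ringKrullDim (A ⧸ q) = n)
    (hgen : ∃ s : Fin n → (LocalizedModule p.primeCompl (AdicCompletion (IsLocalRing.maximalIdeal A) (KaehlerDifferential k A))), Submodule.span (Localization.AtPrime p) (Set.range s) = ⊤) :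
    (Module.Free (Localization.AtPrime p) (LocalizedModule p.primeCompl (AdicCompletion (IsLocalRing.maximalIdeal A) (KaehlerDifferential k A))) ∧
      Module.finrank (Localization.AtPrime p) (LocalizedModule p.primeCompl (AdicCompletion (IsLocalRing.maximalIdeal A) (KaehlerDifferential k A))) = n) ∧
      CAlg.IsGeometricallyRegular k (Localization.AtPrime p) := by
  classical
  obtain ⟨q, hqm, hqp, hdim⟩ := hq
  haveI : q.IsPrime := hqm.1.1
  haveI hfinA : Module.Finite A (AdicCompletion (IsLocalRing.maximalIdeal A) Ω[A⁄k]) := S4528.result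
  obtain ⟨a1, a2, hloc, hfin, hunr⟩ := (S5054.result k A p hp ⟨q, hqm, hqp, by rw [hdim, hn]⟩ n).1 hgen
  letI := a1; haveI := a2; haveI := hfin
  obtain ⟨-, hdom, -, g, hg, hE⟩ := CKaehlerFree3.etaleAt_of_unramifiedAt p ⟨q, hqm, hqp, hdim⟩ hunr
  haveI := hdom
  refine ⟨?_, CKaehlerFree3.geometricallyRegular_atPrime_of_chart p g hg hE⟩
  obtain ⟨s, hs⟩ := hgen
  refine CKaehlerFree3.free_of_rank_at_minimal p q hqm hqp s hs ?_
  have h := S3847.result k A q q hqm le_rfl
  rw [hdim, ← Module.finrank_eq_rank, Cardinal.toENat_nat] at h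
  have h2 : n ≤ Module.finrank q.ResidueField (TensorProduct A q.ResidueField (AdicCompletion (IsLocalRing.maximalIdeal A) Ω[A⁄k])) := by
    exact_mod_cast h
  exact h2

end Groth.Agent.S5055
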