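import Groth.Statements.S5074
import Groth.Agent.Lib.CKaehlerFree3.RegSpan
import Groth.Agent.Lib.CKaehlerFree3.Units
import Groth.Agent.Lib.CKaehlerFree3.Etale
import Groth.Agent.Lib.RegLoc.Basic
import Groth.Agent.S3847

set_option autoImplicit false
universe u
open EGA418

namespace Groth.Agent.S5074

open scoped TensorProduct

/-- Let k be a field of characteristic exponent p such that k is finite over k^p (the Frobenius
endomorphism of k is a finite ring map), A a complete Noetherian local k-algebra whose residue field
is a finite extension of k, and P a prime ideal of A such that A_P is geometrically regular over k.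
Then for every minimal prime q of A contained in P (there is exactly one), the A_P-module obtained
by localising at P the completion of the module of differentials of A over k is free of rank equal
to dim(A/q). -/
theorem result (p : ℕ) (k A : Type u) [Field k] [ExpChar k p]
    (hk : (frobenius k p).Finite) [CommRing A] [IsLocalRing A] [IsNoetherianRing A] [Algebra k A]
    [IsAdicComplete (IsLocalRing.maximalIdeal A) A] [Module.Finite k (IsLocalRing.ResidueField A)]
    (P : Ideal A) [P.IsPrime] (hP : CAlg.IsGeometricallyRegular k (Localization.AtPrime P))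
    (q : Ideal A) (hq : q ∈ minimalPrimes A) (hqP : q ≤ P) (n : ℕ) (hn : ringKrullDim (A ⧸ q) = n) :
    Module.Free (Localization.AtPrime P) (LocalizedModule P.primeCompl (AdicCompletion (IsLocalRing.maximalIdeal A) (KaehlerDifferential k A))) ∧
      Module.finrank (Localization.AtPrime P) (LocalizedModule P.primeCompl (AdicCompletion (IsLocalRing.maximalIdeal A) (KaehlerDifferential k A))) = n := by
  classical
  haveI hfinM : Module.Finite A (AdicCompletion (IsLocalRing.maximalIdeal A) (KaehlerDifferential k A)) :=
    S4528.result
  set M := AdicCompletion (IsLocalRing.maximalIdeal A) (KaehlerDifferential k A) with hM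
  haveI hreg : IsRegularRing (Localization.AtPrime P) := by
    haveI := hP k (inferInstance : Module.Finite k k)
    exact IsRegularRing.of_ringEquiv (Algebra.TensorProduct.lid k (Localization.AtPrime P)).toRingEquiv
  haveI : IsRegularLocalRing (Localization.AtPrime P) := IsRegularLocalRing.of_isRegularRing_of_isLocalRing _
  haveI : IsDomain (Localization.AtPrime P) := RegLoc.isDomain _
  haveI : q.IsPrime := hq.1.1
  obtain ⟨d, hd⟩ := DepthLib.exists_supportDim_eq_natCast (R := A ⧸ P) (M := A ⧸ P)
  rw [Module.supportDim_self_eq_ringKrullDim] at hd
  have hh : ringKrullDim (Localization.AtPrime P) =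
      (Module.finrank (IsLocalRing.ResidueField (Localization.AtPrime P))
        (IsLocalRing.CotangentSpace (Localization.AtPrime P)) : ℕ) :=
    ((IsRegularLocalRing.iff_finrank_cotangentSpace _).1 inferInstance).symm
  set h := Module.finrank (IsLocalRing.ResidueField (Localization.AtPrime P))
    (IsLocalRing.CotangentSpace (Localization.AtPrime P)) with hhdef
  have hnhd : h + d = n := by
    have h1 := CKaehlerFree3.height_add_ringKrullDim_quotient P q hq hqP
    rw [hh, hd, hn] at h1
    exact_mod_cast h1
  have hle : Module.finrank P.ResidueField (P.ResidueField ⊗[A] M) ≤ n := by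
    rw [← hnhd]
    cases ‹ExpChar k p› with
    | zero => exact CKaehlerFree3.span_charZero P h d hh hd
    | prime hp =>
      haveI := Fact.mk hp
      exact CKaehlerFree3.finrank_le_charP P p hk hP h d hhdef.symm hd
  -- generators
  have hgen : Submodule.span P.ResidueField (Set.range fun y : M => (1 : P.ResidueField) ⊗ₜ[A] y) = ⊤ := by
    rw [eq_top_iff]
    intro z _
    induction z using TensorProduct.induction_on with
    | zero => exact zero_mem _
    | add a b ha hb => exact add_mem (ha trivial) (hb trivial)
    | tmul c y =>
      rw [show c ⊗ₜ[A] y = c • ((1 : P.ResidueField) ⊗ₜ[A] y) by rw [TensorProduct.smul_tmul', smul_eq_mul, mul_one]]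
      exact Submodule.smul_mem _ _ (Submodule.subset_span ⟨y, rfl⟩)
  obtain ⟨t, ht, htspan, htind⟩ :=
    exists_linearIndependent P.ResidueField (Set.range fun y : M => (1 : P.ResidueField) ⊗ₜ[A] y)
  rw [hgen] at htspan
  haveI : Fintype t := Set.Finite.fintype htind.setFinite
  have hcard : Fintype.card t = Module.finrank P.ResidueField (P.ResidueField ⊗[A] M) := by
    rw [← Module.finrank_eq_card_basis (Module.Basis.mk htind (by rw [Subtype.range_coe, htspan]))]
  choose y hy using fun z : t => ht z.2
  let e := Fintype.equivFin t
  let y' : Fin n → M := fun i => if hi : (i : ℕ) < Fintype.card t then y (e.symm ⟨i, hi⟩) else 0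
  have hspan : Submodule.span P.ResidueField (Set.range fun i => (1 : P.ResidueField) ⊗ₜ[A] y' i) = ⊤ := by
    rw [eq_top_iff, ← htspan, Submodule.span_le]
    intro z hz
    refine Submodule.subset_span ⟨⟨e ⟨z, hz⟩, lt_of_lt_of_le (e ⟨z, hz⟩).2 (hcard ▸ hle)⟩, ?_⟩
    simp only [y', Fin.is_lt, dif_pos, Fin.eta, Equiv.symm_apply_apply]
    exact hy ⟨z, hz⟩
  have htop := CKaehlerFree3.localized_span_eq_top P y' hspan
  have hlow : n ≤ Module.finrank q.ResidueField (q.ResidueField ⊗[A] M) := by
    have h2 := S3847.result k A q q hq le_rfl
    rw [hn, ← Module.finrank_eq_rank, Cardinal.toENat_nat] at h2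
    exact_mod_cast h2
  exact CKaehlerFree3.free_of_rank_at_minimal P q hq hqP _ htop hlow

end Groth.Agent.S5074
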