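import Groth.Statements.S0843
import Groth.Agent.Lib.Twist.GlobalProjSpace

set_option autoImplicit false
universe u
open Coherent

open CategoryTheory AlgebraicGeometry
namespace Groth.Agent.S0843

open CategoryTheory AlgebraicGeometry in
/-- The case q = 0 and d ≥ 0: for a ring R and n, d ≥ 0, the R-module H^0(P^n_R, O(d)) is isomorphic to
the module of homogeneous polynomials of degree d in T_0, …, T_n over R. (The existing degree-zero
row is the case d = 0.) -/
theorem result (R : Type u) [CommRing R] (n d : ℕ) :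
    Nonempty (Coh.HH (CohB1.ProjSpace n R) (Twist.twistProjSpace n R (d : ℤ)) 0 ≃ₗ[R]
      ↥(MvPolynomial.homogeneousSubmodule (Fin (n + 1)) R d)) := by
  let M := Twist.twistProjSpace n R (d : ℤ)
  let e₀ : Coh.HH (CohB1.ProjSpace n R) M 0 ≃+ Γ(M, ⊤) :=
    CategoryTheory.Sheaf.H.equiv₀ (Coh.toAb M) Limits.isTerminalTop
  let g : ↥(MvPolynomial.homogeneousSubmodule (Fin (n + 1)) R d) → Γ(M, ⊤) :=
    fun a => Twist.globalOf (CohB1.polyGrading n R) a
  have hg : Function.Bijective g := Groth.Agent.Twist.globalOf_bijective_polyGrading n R d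
  have hadd : ∀ a b, g (a + b) = g a + g b := fun a b =>
    Groth.Agent.Twist.sec_ext (fun x hx => by
      show Localization.mk (a.1 + b.1) _ = Localization.mk a.1 _ + Localization.mk b.1 _
      rw [Localization.add_mk_self])
  have hsmul : ∀ (c : R) (x : Coh.HH (CohB1.ProjSpace n R) M 0) (a), e₀ x = g a → e₀ (c • x) = g (c • a) := by
    intro c x a hxa
    have h1 := CategoryTheory.Sheaf.H.equiv₀_naturality Limits.isTerminalTop
      (Coh.smulAb M (Coh.toGlobal (CohB1.ProjSpace n R ↘ Spec (CommRingCat.of R)) c)) x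
    refine h1.symm.trans ?_
    refine (congrArg _ hxa).trans ?_
    rw [Coh.smulAb_app]
    refine Groth.Agent.Twist.sec_ext (fun x hx => ?_)
    refine (Groth.Agent.Twist.val_smul _ _ x hx).trans ?_
    have hres : Groth.Agent.Twist.valO (U := ⊤)
        ((Coh.resTop (CohB1.ProjSpace n R) (Opposite.op ⊤))
          (Coh.toGlobal (CohB1.ProjSpace n R ↘ Spec (CommRingCat.of R)) c)) x hx =
        Localization.mk (MvPolynomial.C c) ⟨1, Groth.Agent.Twist.one_notMem n R x⟩ :=
      Groth.Agent.Twist.valO_constFun n R c x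
    refine (congrArg (· * _) hres).trans ?_
    show _ * Localization.mk a.1 _ = Localization.mk (c • a.1) _
    rw [Localization.mk_mul, MvPolynomial.smul_eq_C_mul]
    exact congrArg _ (Subtype.ext (one_mul _))
  let f : ↥(MvPolynomial.homogeneousSubmodule (Fin (n + 1)) R d) →ₗ[R] Coh.HH (CohB1.ProjSpace n R) M 0 :=
    { toFun := fun a => e₀.symm (g a)
      map_add' := fun a b => by rw [hadd, map_add]
      map_smul' := fun c a => e₀.injective (by
        rw [AddEquiv.apply_symm_apply]
        exact (hsmul c _ a (e₀.apply_symm_apply _)).symm) }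
  exact ⟨(LinearEquiv.ofBijective f (e₀.symm.bijective.comp hg)).symm⟩

end Groth.Agent.S0843
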