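import Groth.Statements.S4466
import Groth.Agent.S0843
import Groth.Agent.S0844
import Groth.Agent.S0845
import Mathlib.RingTheory.Binomial
import Mathlib.Algebra.Order.Antidiag.FinsuppEquiv

set_option autoImplicit false
universe u
open Coherent

namespace Groth.Agent.S4466

open MvPolynomial in
theorem finrank_forms (k : Type u) [Field k] (r d : ℕ) :
    Module.finrank k (homogeneousSubmodule (Fin (r + 1)) k d) = (r + d).choose r := by
  classical
  have e : homogeneousSubmodule (Fin (r + 1)) k d =
      restrictSupport k ((Finset.univ.finsuppAntidiag d : Finset (Fin (r + 1) →₀ ℕ)) : Set (Fin (r + 1) →₀ ℕ)) := by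
    ext f
    rw [mem_homogeneousSubmodule, restrictSupport, AddMonoidAlgebra.mem_supported]
    constructor
    · intro h m hm
      have := h (mem_support_iff.1 hm)
      simpa [Finsupp.weight_apply, Finsupp.sum_fintype] using this
    · intro h m hm
      have := h (mem_support_iff.2 hm)
      simpa [Finsupp.weight_apply, Finsupp.sum_fintype] using this
  rw [e, Module.finrank_eq_card_basis (basisRestrictSupport k _)]
  simp [Finset.card_finsuppAntidiag_nat_eq_choose]
  exact Nat.choose_symm_add.symm

open AlgebraicGeometry CategoryTheory in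
/-- Let k be a field, r > 0 and n any integer. Then the Euler characteristic of the twisting sheaf O(n)
on projective r-space over k, namely the alternating sum of the dimensions of H^j(P^r_k, O(n)) for 0
≤ j ≤ r, equals the binomial coefficient C(n+r, r), understood as the binomial polynomial evaluated
at the integer n+r (so that it makes sense and is correct for negative n too). -/
theorem result (k : Type u) [Field k] (r : ℕ) (hr : 0 < r)
    (n : ℤ) :
    ((Finset.range (r + 1)).sum fun j => (-1 : ℤ) ^ j *
        (Module.finrank k (Coh.HH (CohB1.ProjSpace r k) (Twist.twistProjSpace r k n) j) : ℤ)) =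
      Ring.choose (n + r) r := by
  have hz : ∀ q, ¬ (q = 0 ∧ 0 ≤ n) → ¬ (q = r ∧ n ≤ -((r : ℤ) + 1)) →
      Module.finrank k (Coh.HH (CohB1.ProjSpace r k) (Twist.twistProjSpace r k n) q) = 0 := by
    intro q h0 h1
    have := Groth.Agent.S0844.result k r n q h0 h1
    exact Module.finrank_zero_of_subsingleton
  by_cases h : 0 ≤ n
  · obtain ⟨d, rfl⟩ := Int.eq_ofNat_of_zero_le h
    obtain ⟨e⟩ := Groth.Agent.S0843.result k r d
    rw [Finset.sum_eq_single 0 (fun j _ hj => by rw [hz j (fun hh => hj hh.1) (by omega)]; simp) (by simp),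
      e.finrank_eq, finrank_forms k r d, pow_zero, one_mul, ← Nat.cast_add, Ring.choose_natCast, add_comm d r]
  · by_cases h' : n ≤ -((r : ℤ) + 1)
    · obtain ⟨m, rfl⟩ : ∃ m : ℕ, n = -((r : ℤ) + 1 + m) := ⟨(-((r : ℤ) + 1) - n).toNat, by omega⟩
      obtain ⟨e⟩ := Groth.Agent.S0845.result k r m
      rw [Finset.sum_eq_single r (fun j _ hj => by rw [hz j (by omega) (fun hh => hj hh.1)]; simp) (by simp),
        e.finrank_eq, finrank_forms k r m, show -((r : ℤ) + 1 + m) + r = -((m : ℤ) + 1) by ring, Ring.choose_neg,
        show (m : ℤ) + 1 + r - 1 = ((r + m : ℕ) : ℤ) by push_cast; ring, Ring.choose_natCast]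
      simp [Units.smul_def, Int.negOnePow_def]
    · rw [Finset.sum_eq_zero fun j _ => by rw [hz j (by omega) (by omega)]; simp]
      obtain ⟨m, hm⟩ : ∃ m : ℕ, n + r = m := ⟨(n + r).toNat, by omega⟩
      rw [hm, Ring.choose_natCast, Nat.choose_eq_zero_of_lt (by omega), Nat.cast_zero]

end Groth.Agent.S4466
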