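import Groth.Statements.S7383
import Groth.Agent.Lib.LimH13.FPSystem

set_option autoImplicit false
universe u
open CategoryTheory AlgebraicGeometry
open Lim

namespace Groth.Agent.S7383

set_option backward.isDefEq.respectTransparency false
set_option backward.isDefEq.respectTransparency.types false
set_option maxHeartbeats 1000000


/-- Let `f : X → S` be a morphism with `X` quasi-compact and quasi-separated and `S` quasi-separated.
Then, in the category of schemes over `S`, `X` is the limit of a nonempty directed inverse system of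
schemes `X_i → S` of finite presentation (locally of finite presentation, quasi-compact and
quasi-separated) with affine transition morphisms. -/
theorem result {X S : Scheme.{u}} (f : X ⟶ S)
    [CompactSpace X] [QuasiSeparatedSpace X] [QuasiSeparatedSpace S] :
    ∃ (I : Type u) (_ : Preorder I) (_ : IsDirected I (fun a b => a ≤ b)) (_ : Nonempty I)
      (D : Iᵒᵖ ⥤ Over S) (c : Limits.Cone D) (_ : Limits.IsLimit c),
      (∀ i, LocallyOfFinitePresentation (D.obj i).hom ∧ QuasiCompact (D.obj i).hom ∧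
        QuasiSeparated (D.obj i).hom) ∧
      (∀ (i j : Iᵒᵖ) (a : i ⟶ j), IsAffineHom (D.map a).left) ∧
      Nonempty (c.pt ≅ Over.mk f) := by

  have hcov : ∀ x : X, ∃ V : S.affineOpens, f x ∈ V.1 := fun x => by
    obtain ⟨V, hV, hx, -⟩ := exists_isAffineOpen_mem_and_subset (x := f x) (U := ⊤) trivial
    exact ⟨⟨V, hV⟩, hx⟩
  choose V hV using hcov
  obtain ⟨t, ht⟩ := (isCompact_univ (X := X)).elim_finite_subcover (fun x => (f ⁻¹ᵁ (V x).1 : Set X))
    (fun x => (f ⁻¹ᵁ (V x).1).2) (fun x _ => Set.mem_iUnion.mpr ⟨x, hV x⟩)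
  let O : S.Opens := ⨆ x : t, (V x.1).1
  have hOc : IsCompact (O : Set S) := by
    rw [TopologicalSpace.Opens.coe_iSup]
    exact isCompact_iUnion fun x => (V x.1).2.isCompact
  haveI : CompactSpace O.toScheme := isCompact_iff_compactSpace.mp hOc
  haveI : QuasiSeparatedSpace O.toScheme := quasiSeparatedSpace_of_quasiSeparated O.ι
  have hr : Set.range f ⊆ Set.range O.ι := by
    rintro _ ⟨x, rfl⟩
    rw [Scheme.Opens.range_ι]
    obtain ⟨y, hy, hxy⟩ := Set.mem_iUnion₂.mp (ht (Set.mem_univ x))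
    exact TopologicalSpace.Opens.mem_iSup.mpr ⟨⟨y, hy⟩, hxy⟩
  let f' := IsOpenImmersion.lift O.ι f hr
  obtain ⟨Y, g, hYc, hY, hg⟩ := LimH13.hasZModel O.toScheme
  obtain ⟨W, hWc, w, h, hW, hw, hfg⟩ := LimH13.exists_compatible_model f' hY g
  haveI := hY.quasiSeparatedSpace
  haveI := hW.quasiSeparatedSpace
  haveI := hY.isLocallyNoetherian
  haveI := LimH13.isDirected_pairs hfg
  haveI := LimH13.nonempty_pairs hfg
  haveI : IsFiltered (LimH13.Pairs f' g w h) := isFiltered_of_directed_le_nonempty _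
  have hXL : ∀ i : (LimH13.Pairs f' g w h)ᵒᵖ, LimH13.LFTZ (LimH13.diagX.obj i) := fun i =>
    @LimH13.LFTZ.of_comp _ _ hW i.unop.1.2.alg.π
      (LimH13.SubAlg.locallyOfFiniteType_π i.unop.1.2.ft)
  have hSL : ∀ i : (LimH13.Pairs f' g w h)ᵒᵖ, LimH13.LFTZ (LimH13.diagS.obj i) := fun i =>
    @LimH13.LFTZ.of_comp _ _ hY i.unop.1.1.alg.π
      (LimH13.SubAlg.locallyOfFiniteType_π i.unop.1.1.ft)
  haveI : ∀ {p q} (a : p ⟶ q), IsAffineHom ((LimH13.diagX (f := f') (g := g) (w := w) (h := h)).map a) :=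
    fun a => LimH13.SubAlg.isAffineHom_affDiag_map w
      ((LimH13.monotone_snd (f := f') (g := g) (w := w) (h := h)).functor.op.map a)
  haveI : ∀ {p q} (a : p ⟶ q), IsAffineHom ((LimH13.diagS (f := f') (g := g) (w := w) (h := h)).map a) :=
    fun a => LimH13.SubAlg.isAffineHom_affDiag_map g
      ((LimH13.monotone_fst (f := f') (g := g) (w := w) (h := h)).functor.op.map a)
  haveI : ∀ p, CompactSpace ((LimH13.diagX (f := f') (g := g) (w := w) (h := h)).obj p) :=
    fun p => LimH13.SubAlg.compactSpace_affDiag w _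
  have hιo : IsOpenImmersion O.ι := inferInstance
  have hιc : QuasiCompact O.ι := quasiCompact_of_compactSpace O.ι
  let c := LimH13.FPSys.cone (cX := LimH13.coneX (f := f') (g := g) (w := w) (h := h))
    (cS := LimH13.coneS (f := f') (g := g) (w := w) (h := h)) LimH13.diagHom O.ι f' LimH13.cone_comp
  have hm : Mono O.ι := inferInstance
  let hc : Limits.IsLimit c := @LimH13.FPSys.isLimit _ _ _ _ _ _ _ (LimH13.isLimitConeX hfg) _
    (LimH13.isLimitConeS hfg) S O.ι f' LimH13.cone_comp hm
  refine ⟨LimH13.Pairs f' g w h, inferInstance, inferInstance, inferInstance,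
    _, c, hc,
    fun i => LimH13.FPSys.fp_diag
      (cS := LimH13.coneS (f := f') (g := g) (w := w) (h := h)) LimH13.diagHom O.ι hιo hιc i (hXL i) (hSL i),
    fun i j a => LimH13.FPSys.isAffineHom_diag_map LimH13.diagHom (LimH13.isLimitConeS hfg) O.ι a,
    ⟨eqToIso ?_⟩⟩
  change Over.mk (f' ≫ O.ι) = Over.mk f
  rw [IsOpenImmersion.lift_fac]

end Groth.Agent.S7383
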