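import Groth.Statements.S1455
import Groth.Agent.Lib.GenFlatStrat4.Limit

set_option autoImplicit false
universe u
open FlatMor

set_option backward.isDefEq.respectTransparency.types false

namespace Groth.Agent.S1455


set_option backward.isDefEq.respectTransparency.types false


open AlgebraicGeometry CategoryTheory Limits in
/-- Let f : X → S be of finite presentation with X and S quasi-compact and quasi-separated, and F a
finitely presented quasi-coherent O_X-module. Then there are t ≥ 0 and ideal sheaves I_0 ≤ I_1 ≤ ...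
≤ I_t = O_S on S, each of finite type, with I_0 cutting out a thickening of S (its support is all of
S), such that for each i the pullback of F to the part of X over the locally closed stratum
supp(I_i) ∖ supp(I_{i+1}) is flat over that stratum. -/
theorem result {X S : Scheme.{u}} (f : X ⟶ S) [LocallyOfFinitePresentation f] [QuasiCompact f] [QuasiSeparated f]
    [CompactSpace ↑S] [QuasiSeparatedSpace ↑S] (F : X.Modules) (hq : Coh.IsQCoh F) (hfp : CohB1.IsFP F) :
    ∃ (t : ℕ) (I : Fin (t + 1) → S.IdealSheafData), Monotone I ∧ I (Fin.last t) = ⊤ ∧ ((I 0).support : Set ↑S) = Set.univ ∧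
      (∀ i, ∀ U : S.affineOpens, ((I i).ideal U).FG) ∧
      ∀ i : Fin t, FlatMod.IsFlatOver
        (pullback.snd f (((I i.castSucc).subschemeι ⁻¹ᵁ (I i.succ).support.compl).ι ≫ (I i.castSucc).subschemeι))
        ((Scheme.Modules.pullback (pullback.fst f (((I i.castSucc).subschemeι ⁻¹ᵁ (I i.succ).support.compl).ι ≫ (I i.castSucc).subschemeι))).obj F) := by
  obtain ⟨S₀, X₀, π, f₀, q, F₀, _, _, _, hF₀, H, ⟨e⟩⟩ := Groth.Agent.GenFlatStrat4.exists_model f F hq hfp
  haveI : Coh.IsQCoh F₀ := hF₀.1
  obtain ⟨t, C, hC, hC0, hCt, hCg⟩ := Groth.Agent.GenFlatStrat4.exists_chain f₀ F₀ hF₀ ⊤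
  let J : Fin (t + 1) → S₀.IdealSheafData := fun j => Scheme.IdealSheafData.vanishingIdeal (C j)
  have hsupp : ∀ j, (J j).support = C j := fun j =>
    TopologicalSpace.Closeds.ext (Scheme.IdealSheafData.coe_support_vanishingIdeal _)
  refine ⟨t, fun j => (J j).comap π, ?_, ?_, ?_, ?_, ?_⟩
  · intro a b hab
    exact Scheme.IdealSheafData.comap_mono π
      (Scheme.IdealSheafData.le_support_iff_le_vanishingIdeal.mp (by rw [hsupp]; exact hC hab))
  · have : J (Fin.last t) = ⊤ := (Scheme.IdealSheafData.support_eq_bot_iff _).mp (by rw [hsupp, hCt])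
    simp [this]
  · rw [Scheme.IdealSheafData.support_comap, hsupp, hC0]
    rfl
  · intro j
    refine Groth.Agent.EffCartier.isFiniteTypeIdeal_comap (fun U => ?_) π
    haveI : IsNoetherianRing Γ(S₀, U.1) := IsLocallyNoetherian.component_noetherian U
    exact IsNoetherian.noetherian _
  · intro i
    let ι₀ := (J i.castSucc).subschemeι
    let V₀ := ι₀ ⁻¹ᵁ (C i.succ).compl
    let T := ((J i.castSucc).comap π).subschemeι ⁻¹ᵁ ((J i.succ).comap π).support.compl
    let b : ((J i.castSucc).comap π).subscheme ⟶ (J i.castSucc).subscheme :=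
      ((J i.castSucc).comapIso π).hom ≫ pullback.snd _ _
    have hb : b ≫ ι₀ = ((J i.castSucc).comap π).subschemeι ≫ π := by
      rw [Category.assoc, ← pullback.condition, Scheme.IdealSheafData.comapIso_hom_fst_assoc]
    have hr : Set.range (T.ι ≫ b) ⊆ Set.range V₀.ι := by
      rintro _ ⟨x, rfl⟩
      rw [Scheme.Opens.range_ι]
      have h1 := x.2
      show ι₀ (b (T.ι x)) ∈ (C i.succ).compl
      rw [← Scheme.Hom.comp_apply b, hb, Scheme.Hom.comp_apply]
      intro h2
      refine h1 ?_
      show _ ∈ ((J i.succ).comap π).support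
      rw [Scheme.IdealSheafData.support_comap, hsupp]
      exact h2
    refine Groth.Agent.GenFlatStrat4.flatAlong_of_isPullback H F₀ e _ (hCg i) _
      (IsOpenImmersion.lift V₀.ι (T.ι ≫ b) hr) ?_
    show _ ≫ V₀.ι ≫ ι₀ = (T.ι ≫ _) ≫ π
    rw [IsOpenImmersion.lift_fac_assoc, Category.assoc, hb, Category.assoc]

end Groth.Agent.S1455
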