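import Groth.Statements.S16761
import Groth.Agent.Lib.CBC10.Rows0

set_option autoImplicit false
universe u
open Coherent

namespace Groth.Agent.S16761

open Groth.Agent

open AlgebraicGeometry CategoryTheory CategoryTheory.Limits in
/-- Let f : X → S be proper and of finite presentation, F an O_X-module of finite presentation which is
flat over S, and d a natural number with dim X_s ≤ d for all s. Then the set S' of points s with
H^j(X_s, F_s) = 0 for all j ≥ 1 is open, and over every open U ⊆ S' the sheaves R^j f_* F (j ≥ 1)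
restrict to zero, f_* F restricts to a finite locally free module, and the formation of f_* F
commutes with base change: for every cartesian square with base a morphism g : T → S whose image
lies in U, with f' : X ×_S T → T and g' : X ×_S T → X the projections, the base change map g^* f_* F
→ f'_* g'^* F is an isomorphism. (The published statement asks only that f be proper; without finite
presentation the assertions on f_* F fail — for a finite flat morphism which is not of finite
presentation and F = O_X the direct image f_* O_X need not be finite locally free — and the argument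
runs through cohomology and base change for morphisms of finite presentation, so f is taken of
finite presentation here. Higher direct images are right derived functors of f_* on O_X-modules,
with injective resolutions carried as an instance argument.) -/
theorem result {X S : Scheme.{u}} (f : X ⟶ S)
    [IsProper f] [LocallyOfFinitePresentation f] [HasInjectiveResolutions X.Modules]
    (F : X.Modules) (hF : CohB1.IsFP F) (hfl : FlatMod.IsFlatOver f F)
    (d : ℕ) (hd : ∀ s : S, topologicalKrullDim ↥(f.fiber s) ≤ d) :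
    IsOpen {s : S | ∀ j : ℕ, 1 ≤ j → Subsingleton (CohIII.fiberH f F s j)} ∧
      ∀ U : S.Opens, (U : Set S) ⊆ {s : S | ∀ j : ℕ, 1 ≤ j → Subsingleton (CohIII.fiberH f F s j)} →
        (∀ j : ℕ, 1 ≤ j → IsZero (((Coh.Rpush f j).obj F).restrict U.ι)) ∧
          FlatMod.IsFinLocFree (((Coh.push f).obj F).restrict U.ι) ∧
            ∀ (T X' : Scheme.{u}) (g : T ⟶ S) (f' : X' ⟶ T) (g' : X' ⟶ X) (hsq : IsPullback g' f' f g),
              Set.range g.base ⊆ (U : Set S) → IsIso (CohBC.bc0 f g f' g' hsq.w F) := by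
  haveI := M1.isFP_isQCoh hF
  have hnhd : ∀ s : S, (∀ j : ℕ, 1 ≤ j → Subsingleton (CohIII.fiberH f F s j)) →
      ∀ n : ℕ, ∃ V : S.Opens, s ∈ V ∧ ∀ j : ℕ, 1 ≤ j → j ≤ n →
        ∀ y ∈ V, Subsingleton (CohIII.fiberH f F y j) := by
    intro s hs n
    induction n with
    | zero => exact ⟨⊤, trivial, fun j h1 h2 => by omega⟩
    | succ n ih =>
      obtain ⟨V, hsV, hV⟩ := ih
      obtain ⟨V₁, -, M₁, hs₁⟩ := CBC10.exists_model_at f F hF hfl (U := ⊤) (s := s) trivial
      obtain ⟨V₂, -, M₂, hs₂, -, -, -, h2⟩ := M₁.exists_zero_nhd inferInstance hs₁ (n + 1) (hs (n + 1) (by omega))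
      refine ⟨V ⊓ V₂, ⟨hsV, hs₂⟩, fun j h1 hj y hy => ?_⟩
      rcases Nat.lt_or_ge j (n + 1) with hlt | hge
      · exact hV j h1 (by omega) y hy.1
      · obtain rfl : j = n + 1 := by omega
        exact h2 y hy.2
  refine ⟨isOpen_iff_forall_mem_open.2 fun s hs => ?_, fun U hU => ⟨fun j hj => ?_, ?_, fun T X' g f' g' hsq hg => ?_⟩⟩
  · obtain ⟨V, hsV, hV⟩ := hnhd s hs d
    refine ⟨V, fun y hy j hj => ?_, V.isOpen, hsV⟩
    rcases Nat.lt_or_ge d j with hlt | hge
    · exact CBC10.subsingleton_fiberH_of_dim y (hd y) hlt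
    · exact hV j hj hge y hy
  · choose V M hsV _ hz using fun s : U => show ∃ (V : S.Opens) (_ : CBC10.Model f F V), s.1 ∈ V ∧
        True ∧ IsZero (((Coh.Rpush f j).obj F).restrict V.ι) from by
      obtain ⟨V₁, -, M₁, hs₁⟩ := CBC10.exists_model_at f F hF hfl (U := ⊤) (s := s.1) trivial
      obtain ⟨V₂, -, M₂, hs₂, -, -, hz, -⟩ := M₁.exists_zero_nhd inferInstance hs₁ j (hU s.2 j hj)
      exact ⟨V₂, M₂, hs₂, trivial, CBC10.isZero_restrict_of_models j V₂ fun y hy => ⟨V₂, M₂, hy, le_rfl, hz⟩⟩
    refine DPerf.isZero_of_cover (fun s : U => U.ι ⁻¹ᵁ V s) (fun s => ⟨s, hsV s⟩) fun s => ?_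
    have hr : Set.range ((U.ι ⁻¹ᵁ V s).ι ≫ U.ι) ⊆ Set.range (V s).ι := by
      rw [Scheme.Opens.range_ι]
      rintro _ ⟨z, rfl⟩
      exact z.2
    exact (((Scheme.Modules.restrictFunctor (IsOpenImmersion.lift (V s).ι
      ((U.ι ⁻¹ᵁ V s).ι ≫ U.ι) hr)).map_isZero (hz s)).of_iso
        ((M1.restrictLiftIso _ (V s).ι ((U.ι ⁻¹ᵁ V s).ι ≫ U.ι) hr).symm)).of_iso
          (M1.restrictRestrictIso _ U.ι (U.ι ⁻¹ᵁ V s).ι _ rfl)
  · refine CBC10.isFinLocFree_push_restrict U fun s hs => ?_
    obtain ⟨V, M, hsV, h1, -⟩ := CBC10.exists_nhd_H1 hF hfl s (hU hs 1 le_rfl)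
    obtain ⟨V', hV', M', hsV', hflat⟩ := CBC10.exists_model_le M hsV hs
    exact ⟨V', M', hsV', hV', hflat _ h1⟩
  · refine CBC10.isIso_bc0 hsq F fun z => ?_
    obtain ⟨V, M, hzV, h1, -⟩ := CBC10.exists_nhd_H1 hF hfl (g z) (hU (hg ⟨z, rfl⟩) 1 le_rfl)
    exact ⟨V, M, hzV, h1⟩

end Groth.Agent.S16761
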