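import Groth.Statements.S4465
import Groth.Agent.Lib.PropSuppH7.Basic
import Groth.Agent.Lib.CohFound.RelVan
import Groth.Agent.Lib.CohFound.ClosedImmPush
import Groth.Agent.Lib.CohFound.AffMor
import Groth.Agent.Lib.RelAmple18.Ops
import Groth.Agent.Lib.CohFound.SerreVan
import Groth.Agent.Lib.ModM1.Coh
import Groth.Agent.Lib.SerreCl8.Sub
import Mathlib.CategoryTheory.Abelian.Refinements
-- import your own Groth.Agent.* helpers here

set_option autoImplicit false
universe u
open Coherent

namespace Groth.Agent.S4465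

open Groth.Agent
set_option linter.style.haveILetI false

open CategoryTheory CategoryTheory.Limits AlgebraicGeometry Opposite in
theorem exact_sections {X : Scheme.{u}} (C : ShortComplex X.Modules) (hC : C.Exact) (E : X.Modules)    (hE : PicF.IsInvertible E) (U : X.Opens)
    (hvan : Subsingleton (CohFound.Hc ((CohFound.abF X).obj (CohB1.tensorMod (kernel C.f) E)) 1 U)) :
    Function.Exact ((DCoh.tensorRightMod E).map C.f |>.app U) ((DCoh.tensorRightMod E).map C.g |>.app U) := by
  let T := M2.tensorR E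
  let p := C.toCycles
  let ι := C.iCycles
  haveI : Epi p := hC.epi_toCycles
  let S1 : ShortComplex X.Modules := ShortComplex.mk (kernel.ι C.f) p (by
    rw [← cancel_mono ι, Category.assoc, zero_comp, C.toCycles_i, kernel.condition])
  have hS1 : S1.ShortExact :=
    { exact := ShortComplex.exact_of_f_is_kernel _ (KernelFork.IsLimit.ofι' (kernel.ι C.f) S1.zero
        fun k hk => ⟨kernel.lift C.f k (by
          rw [← C.toCycles_i, ← Category.assoc, hk, zero_comp]), kernel.lift_ι _ _ _⟩) }
  let q := cokernel.π ι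
  let S2 : ShortComplex X.Modules := ShortComplex.mk ι q (cokernel.condition ι)
  have hS2 : S2.ShortExact := { exact := ShortComplex.exact_cokernel ι }
  let j : cokernel ι ⟶ C.X₃ := cokernel.desc ι C.g C.iCycles_g
  haveI : Mono j := by
    refine Preadditive.mono_of_cancel_zero _ fun {Z} k hk => ?_
    obtain ⟨Z', π, hπ, x, hx⟩ := surjective_up_to_refinements_of_epi q k
    have hxg : x ≫ C.g = 0 := by
      rw [← cokernel.π_desc ι C.g C.iCycles_g]
      exact (Category.assoc _ _ _).symm.trans ((congrArg (· ≫ j) hx.symm).trans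
        ((Category.assoc _ _ _).trans ((congrArg (π ≫ ·) hk).trans comp_zero)))
    haveI := hπ
    rw [← cancel_epi π, comp_zero, hx, ← C.liftCycles_i x hxg, Category.assoc, cokernel.condition, comp_zero]
  let S3 : ShortComplex X.Modules := ShortComplex.mk j (cokernel.π j) (cokernel.condition j)
  have hS3 : S3.ShortExact := { exact := ShortComplex.exact_cokernel j }
  have hT1 := CohFound.shortExact_abF (CohFound.shortExact_tensor_invertible hS1 hE)
  have hT2 := CohFound.shortExact_abF (CohFound.shortExact_tensor_invertible hS2 hE)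
  have hT3 := CohFound.shortExact_abF (CohFound.shortExact_tensor_invertible hS3 hE)
  have hf : T.map p ≫ T.map ι = T.map C.f := by rw [← T.map_comp]; exact congrArg T.map C.toCycles_i
  have hg : T.map q ≫ T.map j = T.map C.g := by rw [← T.map_comp]; exact congrArg T.map (cokernel.π_desc _ _ _)
  change Function.Exact ((T.map C.f).app U) ((T.map C.g).app U)
  intro y
  constructor
  · intro hy
    rw [← hg] at hy
    haveI : Mono ((CohFound.abF X).map (T.map j)) := hT3.mono_f
    have hy' : (T.map q).app U y = 0 :=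
      CohFound.injective_app_of_mono ((CohFound.abF X).map (T.map j)) U (hy.trans (map_zero _).symm)
    haveI := hT2.mono_f
    obtain ⟨z, hz⟩ := CohFound.exact_app hT2.exact (U := U) y hy'
    let z' := (CohFound.hc0 ((CohFound.abF X).obj (T.obj C.cycles)) U).symm z
    obtain ⟨w, hw⟩ := CohFound.exact₃ hT1 0 U z' (@Subsingleton.elim _ hvan _ _)
    refine ⟨CohFound.hc0 ((CohFound.abF X).obj (T.obj C.X₁)) U w, ?_⟩
    rw [← hf]
    refine Eq.trans (congrArg ((T.map ι).app U) ?_) hz
    exact (CohFound.hc0_mp ((CohFound.abF X).map (T.map p)) U w).symm.trans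
      ((congrArg (CohFound.hc0 ((CohFound.abF X).obj (T.obj C.cycles)) U) hw).trans
        ((CohFound.hc0 ((CohFound.abF X).obj (T.obj C.cycles)) U).apply_symm_apply z))
  · rintro ⟨x, rfl⟩
    have h0 : T.map C.f ≫ T.map C.g = 0 := by rw [← T.map_comp, C.zero, T.map_zero]
    exact congrArg (fun φ : T.obj C.X₁ ⟶ T.obj C.X₃ => φ.app U x) h0

open CategoryTheory CategoryTheory.Limits AlgebraicGeometry in
/-- Twists of a module with proper support have no first cohomology over affine opens of the base. -/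
theorem exists_vanishing {X Y : Scheme.{u}} (f : X ⟶ Y) [IsNoetherian Y] [LocallyOfFiniteType f] [QuasiCompact f]
    (L : X.Modules) (hL : PicF.IsInvertible L) (hamp : RelAmple.IsRelAmple f L) {K : X.Modules}
    (hK : Coh.IsCoh K) (hs : ClSub.IsProperOver f (CohB1.support K)) :
    ∃ N : ℕ, ∀ n, N ≤ n → ∀ V : Y.Opens, IsAffineOpen V →
      Subsingleton (CohFound.Hc ((CohFound.abF X).obj (CohB1.tensorMod K (CohB1.tensorPow L n))) 1 (f ⁻¹ᵁ V)) := by
  obtain ⟨Z, i, hi, hp, -, N, hN, hNT, ⟨e⟩⟩ := PropSuppH7.exists_model f hK.1 hK.2 hs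
  haveI := hi
  haveI := hp
  have hA := RA.isRelAmple_pullback_of_isInducing f i i.isClosedEmbedding.isEmbedding.isInducing hamp
  have hLi : PicF.IsInvertible ((Scheme.Modules.pullback i).obj L) := PicLoc.isInvertible_pullback i hL
  obtain ⟨n₀, hn₀⟩ := CohFound.exists_isZero_rpushAb (i ≫ f) _ hLi (fun W hW => hA.2 ⟨W, hW⟩) (M := N) ⟨hN, hNT⟩
  refine ⟨n₀, fun n hn V hV => ?_⟩
  have hE : Coh.IsQCoh (CohB1.tensorPow L n) := Twist.isQCoh_of_isInvertible (Amp.isInvertible_tensorPow hL n)
  have hQ : Coh.IsQCoh (CohB1.tensorMod N (CohB1.tensorPow ((Scheme.Modules.pullback i).obj L) n)) :=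
    M2.isQCoh_tensor hN (Twist.isQCoh_of_isInvertible (Amp.isInvertible_tensorPow hLi n))
  obtain ⟨σ⟩ := CohFound.nonempty_sections_rpushAb (i ≫ f) hQ 1 hV
  haveI hz : Subsingleton (CohFound.Hc ((CohFound.abF Z).obj
      (CohB1.tensorMod N (CohB1.tensorPow ((Scheme.Modules.pullback i).obj L) n))) 1 (i ⁻¹ᵁ (f ⁻¹ᵁ V))) :=
    @Equiv.subsingleton _ _ σ.toEquiv.symm (AddCommGrpCat.subsingleton_of_isZero
      (((sheafToPresheaf _ _) ⋙ (evaluation _ _).obj (Opposite.op V)).map_isZero (hn₀ n hn 1 one_pos)))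
  obtain ⟨pe⟩ := CohFound.nonempty_push_tensor_iso i N hN (CohB1.tensorPow L n) hE
  let Q := CohB1.tensorMod N ((Scheme.Modules.pullback i).obj (CohB1.tensorPow L n))
  haveI : Q.IsQuasicoherent := M2.isQCoh_tensor hN (M1.isQCoh_pullback i hE)
  obtain ⟨ε⟩ := CohFound.nonempty_hc_push_isAffineHom i Q 1 (f ⁻¹ᵁ V)
  have hQ' : Subsingleton (CohFound.Hc ((CohFound.abF Z).obj Q) 1 (i ⁻¹ᵁ (f ⁻¹ᵁ V))) :=
    CohFound.subsingleton_hc_of_iso (M2.tensorIso (Iso.refl N) (M2.pullTensorPowIso i L n)).symm 1 _ hz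
  exact CohFound.subsingleton_hc_of_iso (pe ≪≫ M2.tensorIso e (Iso.refl _)) 1 _
    (@Equiv.subsingleton _ _ ε.toEquiv hQ')

open CategoryTheory CategoryTheory.Limits AlgebraicGeometry in
theorem properSupport_kernel {X Y : Scheme.{u}} (f : X ⟶ Y) {M N : X.Modules} (φ : M ⟶ N) (_hM : Coh.IsCoh M)
    (hK : Coh.IsCoh (kernel φ)) (hs : ClSub.IsProperOver f (CohB1.support M)) :
    ClSub.IsProperOver f (CohB1.support (kernel φ)) := by
  obtain ⟨hc, hp⟩ := hs
  haveI := hp
  refine ⟨M1.isClosed_support hK.2, ?_⟩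
  have hle : Scheme.IdealSheafData.vanishingIdeal ⟨CohB1.support M, hc⟩ ≤
      Scheme.IdealSheafData.vanishingIdeal ⟨CohB1.support (kernel φ), M1.isClosed_support hK.2⟩ :=
    Scheme.IdealSheafData.vanishingIdeal_antimono (SerreCl8.support_subset_of_mono (kernel.ι φ))
  rw [← Scheme.IdealSheafData.inclusion_subschemeι hle, Category.assoc]
  infer_instance

open AlgebraicGeometry CategoryTheory CategoryTheory.Limits in
/-- Let Y be a Noetherian scheme, f : X → Y a morphism of finite type, L an invertible O_X-module ample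
relative to f and F → G → H a sequence of coherent O_X-modules which is exact at G, such that the
supports of F and of H are proper over Y. Then there is N such that for every n ≥ N the induced
sequence f_*(F(n)) → f_*(G(n)) → f_*(H(n)) of O_Y-modules is exact, where M(n) = M ⊗ L^{⊗ n}. -/
theorem result {X Y : Scheme.{u}} (f : X ⟶ Y)
    [IsNoetherian Y] [LocallyOfFiniteType f] [QuasiCompact f] (L : X.Modules) (hL : PicF.IsInvertible L)
    (hamp : RelAmple.IsRelAmple f L) (C : ShortComplex X.Modules) (hC : C.Exact)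
    (h1 : Coh.IsCoh C.X₁) (h2 : Coh.IsCoh C.X₂) (h3 : Coh.IsCoh C.X₃)
    (hs1 : ClSub.IsProperOver f (CohB1.support C.X₁)) (hs3 : ClSub.IsProperOver f (CohB1.support C.X₃)) :
    ∃ N : ℕ, ∀ n : ℕ, N ≤ n →
      (C.map (DCoh.tensorRightMod (CohB1.tensorPow L n) ⋙ Coh.push f)).Exact := by
  have hK : Coh.IsCoh (kernel C.f) :=
    haveI := LocallyOfFiniteType.isLocallyNoetherian f
    M1.isCoh_kernel h1 h2.1 C.f
  obtain ⟨N, hN⟩ := exists_vanishing f L hL hamp hK (properSupport_kernel f C.f h1 hK hs1)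
  refine ⟨N, fun n hn => ?_⟩
  refine (ShortComplex.exact_map_iff_of_faithful _ (CohFound.abF Y)).1 (CohFound.exact_of_local_lift fun U s hs x hx => ?_)
  obtain ⟨V, hV, hxV, hVU⟩ := exists_isAffineOpen_mem_and_subset (X := Y) (x := x) (U := U) hx
  refine ⟨V, hVU, hxV, ?_⟩
  let D := C.map (DCoh.tensorRightMod (CohB1.tensorPow L n) ⋙ Coh.push f)
  have hv := exact_sections C hC (CohB1.tensorPow L n) (Amp.isInvertible_tensorPow hL n) (f ⁻¹ᵁ V) (hN n hn V hV)
  refine (hv _).1 ?_
  exact (M1.app_mres D.g hVU s).trans ((congrArg (M1.mres D.X₃ hVU) hs).trans (map_zero _))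

end Groth.Agent.S4465
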