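import Groth.Statements.S7041
-- import your own Groth.Agent.* helpers here

set_option autoImplicit false
universe u
open TensorProduct
open LocCoh

namespace Groth.Agent.S7041

/-- Let R → R' be a homomorphism of commutative rings and I an ideal of R such that the induced map
R/I^n → R'/I^n R' is bijective for every n > 0. Then for every R-module M in which every element is
killed by a power of I, the map M → R' ⊗_R M sending m to 1 ⊗ m is bijective. -/
theorem result {R R' : Type u} [CommRing R] [CommRing R'] [Algebra R R']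
    (I : Ideal R)
    (hq : ∀ n : ℕ, 0 < n → Function.Bijective
      (Ideal.quotientMap (Ideal.map (algebraMap R R') (I ^ n)) (algebraMap R R') Ideal.le_comap_map))
    (M : Type u) [AddCommGroup M] [Module R M] (hM : LocCoh.IsPowerTorsion I M) :
    Function.Bijective (fun m : M => (1 : R') ⊗ₜ[R] m) := by
  classical
  choose n hn using hM
  have hn1 : ∀ m : M, ∀ a ∈ I ^ (n m + 1), a • m = 0 := fun m a ha =>
    hn m a (Ideal.pow_le_pow_right (Nat.le_succ _) ha)
  have hsurj : ∀ (k : ℕ) (r : R'), ∃ a : R, r - algebraMap R R' a ∈ Ideal.map (algebraMap R R') (I ^ (k + 1)) := by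
    intro k r
    obtain ⟨y, hy⟩ := (hq (k + 1) k.succ_pos).2 (Ideal.Quotient.mk _ r)
    obtain ⟨a, rfl⟩ := Ideal.Quotient.mk_surjective y
    rw [Ideal.quotientMap_mk, Ideal.Quotient.mk_eq_mk_iff_sub_mem] at hy
    exact ⟨a, by simpa using neg_mem hy⟩
  have hinj : ∀ (k : ℕ) (a : R), algebraMap R R' a ∈ Ideal.map (algebraMap R R') (I ^ (k + 1)) → a ∈ I ^ (k + 1) := by
    intro k a ha
    rw [← Ideal.Quotient.eq_zero_iff_mem]
    refine (hq (k + 1) k.succ_pos).1 ?_
    rw [map_zero, Ideal.quotientMap_mk, Ideal.Quotient.eq_zero_iff_mem]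
    exact ha
  have key : ∀ (k : ℕ) (r : R') (b : R) (m : M), (∀ a ∈ I ^ (k + 1), a • m = 0) →
      r - algebraMap R R' b ∈ Ideal.map (algebraMap R R') (I ^ (k + 1)) →
      b • m = Classical.choose (hsurj (n m) r) • m := by
    intro k r b m hk hb
    have hc := Classical.choose_spec (hsurj (n m) r)
    set c := Classical.choose (hsurj (n m) r)
    obtain ⟨d, hd⟩ := hsurj (k + n m) r
    have h1 : d - b ∈ I ^ (k + 1) := hinj k _ (by
      have hd' := Ideal.map_mono (f := algebraMap R R') (Ideal.pow_le_pow_right (show k + 1 ≤ k + n m + 1 by omega)) hd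
      have := sub_mem hb hd'
      simpa [map_sub] using this)
    have h2 : d - c ∈ I ^ (n m + 1) := hinj (n m) _ (by
      have hd' := Ideal.map_mono (f := algebraMap R R') (Ideal.pow_le_pow_right (show n m + 1 ≤ k + n m + 1 by omega)) hd
      have := sub_mem hc hd'
      simpa [map_sub] using this)
    have e1 := hk _ h1
    have e2 := hn1 m _ h2
    rw [sub_smul, sub_eq_zero] at e1 e2
    rw [← e1, e2]
  let φ : R' →ₗ[R] M →ₗ[R] M := LinearMap.mk₂ R (fun r m => Classical.choose (hsurj (n m) r) • m)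
    (fun r₁ r₂ m => by
      rw [← add_smul]
      refine (key (n m) _ _ m (hn1 m) ?_).symm
      have := add_mem (Classical.choose_spec (hsurj (n m) r₁)) (Classical.choose_spec (hsurj (n m) r₂))
      simpa [map_add, add_sub_add_comm] using this)
    (fun c r m => by
      rw [smul_smul]
      refine (key (n m) _ _ m (hn1 m) ?_).symm
      have := Ideal.mul_mem_left _ (algebraMap R R' c) (Classical.choose_spec (hsurj (n m) r))
      simpa [Algebra.smul_def, mul_sub] using this)
    (fun r m₁ m₂ => by
      obtain ⟨b, hb⟩ := hsurj (n m₁ + n m₂) r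
      have e : ∀ a ∈ I ^ (n m₁ + n m₂ + 1), a • m₁ = 0 ∧ a • m₂ = 0 := fun a ha =>
        ⟨hn1 m₁ a (Ideal.pow_le_pow_right (by omega) ha), hn1 m₂ a (Ideal.pow_le_pow_right (by omega) ha)⟩
      rw [← key _ r b m₁ (fun a ha => (e a ha).1) hb, ← key _ r b m₂ (fun a ha => (e a ha).2) hb,
        ← key _ r b (m₁ + m₂) (fun a ha => by rw [smul_add, (e a ha).1, (e a ha).2, add_zero]) hb, smul_add])
    (fun c r m => by
      obtain ⟨b, hb⟩ := hsurj (n m) r
      rw [← key _ r b m (hn1 m) hb, ← key _ r b (c • m) (fun a ha => by rw [smul_comm, hn1 m a ha, smul_zero]) hb,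
        smul_comm])
  have h1 : ∀ m : M, TensorProduct.lift φ ((1 : R') ⊗ₜ[R] m) = m := by
    intro m
    rw [TensorProduct.lift.tmul]
    show Classical.choose (hsurj (n m) 1) • m = m
    rw [← key (n m) 1 1 m (hn1 m) (by simp), one_smul]
  refine ⟨fun a b hab => ?_, fun z => ?_⟩
  · rw [← h1 a, ← h1 b]
    exact congrArg _ hab
  · induction z with
    | zero => exact ⟨0, by simp⟩
    | add x y hx hy =>
      obtain ⟨a, rfl⟩ := hx
      obtain ⟨b, rfl⟩ := hy
      exact ⟨a + b, by simp [TensorProduct.tmul_add]⟩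
    | tmul r m =>
      obtain ⟨b, hb⟩ := hsurj (n m) r
      refine ⟨b • m, ?_⟩
      have hzero : ∀ j ∈ Ideal.map (algebraMap R R') (I ^ (n m + 1)), j ⊗ₜ[R] m = 0 := by
        intro j hj
        have : ∀ s : R', (s * j) ⊗ₜ[R] m = 0 := by
          refine Submodule.span_induction (p := fun j _ => ∀ s : R', (s * j) ⊗ₜ[R] m = 0) ?_
            (fun s => by simp) (fun u v _ _ hu hv s => by rw [mul_add, TensorProduct.add_tmul, hu, hv, add_zero])
            (fun u v _ hv s => by rw [smul_eq_mul, ← mul_assoc]; exact hv _) hj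
          rintro _ ⟨a, ha, rfl⟩ s
          rw [mul_comm, ← Algebra.smul_def, TensorProduct.smul_tmul, hn1 m a ha, TensorProduct.tmul_zero]
        simpa using this 1
      show (1 : R') ⊗ₜ[R] (b • m) = r ⊗ₜ[R] m
      rw [← TensorProduct.smul_tmul, Algebra.smul_def, mul_one]
      rw [← sub_eq_zero, ← TensorProduct.sub_tmul, ← neg_sub, TensorProduct.neg_tmul, hzero _ hb, neg_zero]

end Groth.Agent.S7041
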