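import Groth.Statements.S5158
import Groth.Agent.S7041
import Mathlib.RingTheory.AdicCompletion.Completeness
-- import your own Groth.Agent.* helpers here

set_option autoImplicit false
universe u
open scoped TensorProduct
open Matlis

namespace Groth.Agent.S5158

/-- Let A be a Noetherian local ring, Â its m-adic completion and I an m-power torsion A-module (a union
of submodules of finite length). Then x ↦ 1 ⊗ x is a bijection I → Â ⊗_A I. -/
theorem result (A : Type u) [CommRing A] [IsLocalRing A] [IsNoetherianRing A] (I : Type u) [AddCommGroup I] [Module A I] (hI : LocCoh.IsPowerTorsion (IsLocalRing.maximalIdeal A) I) : Function.Bijective (TensorProduct.mk A (AdicCompletion (IsLocalRing.maximalIdeal A) A) I 1) := by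
  refine Groth.Agent.S7041.result (IsLocalRing.maximalIdeal A) (fun n _ => ?_) I hI
  let m := IsLocalRing.maximalIdeal A
  have hker : ∀ x : AdicCompletion m A, AdicCompletion.evalₐ m n x = 0 →
      x ∈ Ideal.map (algebraMap A (AdicCompletion m A)) (m ^ n) := by
    intro x hx
    have h1 : x ∈ (AdicCompletion.eval m A n).ker := by
      rw [LinearMap.mem_ker, ← AdicCompletion.factor_evalₐ_eq_eval m x (le_of_eq (by rw [smul_eq_mul, Ideal.mul_top])), hx, map_zero]
    rw [← AdicCompletion.pow_smul_top_eq_ker_eval (IsNoetherian.noetherian m)] at h1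
    rw [← Submodule.restrictScalars_mem A, ← Ideal.smul_top_eq_map]
    exact h1
  constructor
  · rw [injective_iff_map_eq_zero]
    intro y hy
    obtain ⟨a, rfl⟩ := Ideal.Quotient.mk_surjective y
    rw [Ideal.quotientMap_mk, Ideal.Quotient.eq_zero_iff_mem] at hy
    rw [Ideal.Quotient.eq_zero_iff_mem]
    have h0 : Ideal.map (algebraMap A (AdicCompletion m A)) (m ^ n) ≤ RingHom.ker (AdicCompletion.evalₐ m n) := by
      rw [Ideal.map_le_iff_le_comap]
      intro r hr
      rw [Ideal.mem_comap, RingHom.mem_ker, AlgHom.commutes, Ideal.Quotient.algebraMap_eq, Ideal.Quotient.eq_zero_iff_mem]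
      exact hr
    have h1 := h0 hy
    rwa [RingHom.mem_ker, AlgHom.commutes, Ideal.Quotient.algebraMap_eq, Ideal.Quotient.eq_zero_iff_mem] at h1
  · intro z
    obtain ⟨x, rfl⟩ := Ideal.Quotient.mk_surjective z
    obtain ⟨a, ha⟩ := Ideal.Quotient.mk_surjective (AdicCompletion.evalₐ m n x)
    refine ⟨Ideal.Quotient.mk _ a, ?_⟩
    rw [Ideal.quotientMap_mk, Ideal.Quotient.mk_eq_mk_iff_sub_mem]
    refine hker _ ?_
    rw [map_sub, AlgHom.commutes, Ideal.Quotient.algebraMap_eq, ha, sub_self]

end Groth.Agent.S5158
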