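import Groth.Statements.S5336
import Groth.Agent.Lib.GrpAtPt20.Flat

set_option autoImplicit false
universe u
open CategoryTheory CategoryTheory.Limits MonoidalCategory CartesianMonoidalCategory MonObj GrpObj AlgebraicGeometry
open SGA3

namespace Groth.Agent.S5336

/-- Let A be a local artinian ring, G an A-group scheme which is flat and locally of finite type over A,
and u : G → H a homomorphism of A-group schemes. If u is flat at some point x of G (the local ring
of G at x is flat over the local ring of H at u(x)), then u is flat. -/
theorem result (A : Type u) [CommRing A] [IsArtinianRing A] [IsLocalRing A] (G H : Over (Spec (CommRingCat.of A))) [GrpObj G] [GrpObj H]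
    [Flat G.hom] [LocallyOfFiniteType G.hom] (u : G ⟶ H) [IsMonHom u]
    (h : ∃ x : G.left, (u.left.stalkMap x).hom.Flat) : Flat u.left := by
  haveI : Subsingleton (Spec (CommRingCat.of A)) := ⟨fun x y => Subsingleton.elim (α := PrimeSpectrum A) x y⟩
  obtain ⟨x, hx⟩ := h
  exact Groth.Agent.GrpAtPt20.flat_hom G H u x hx


end Groth.Agent.S5336
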