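import Groth.Statements.S3664
import Groth.Agent.Lib.DelLift8.Res
import Groth.Agent.Lib.DelLift8.Core

set_option backward.isDefEq.respectTransparency false
set_option backward.isDefEq.respectTransparency.types false

set_option autoImplicit false
universe u
open CategoryTheory CategoryTheory.Limits AlgebraicGeometry
attribute [local instance] HasDerivedCategory.standard
open Dual3

namespace Groth.Agent.S3664

/-- Let j : U → X be an open immersion of Noetherian schemes (restriction to U assumed exact), I a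
quasi-coherent ideal whose vanishing locus is X ∖ U, F a bounded complex of coherent O_X-modules
with Deligne system K_n = I^n F (inclusions ι_n : K_n → F), and L an object of D(O_X) with coherent
cohomology sheaves vanishing below some degree (L is allowed to be bounded below rather than
bounded). Then colim_n Hom_X(K_n, L) = Hom_U(F|_U, L|_U): (surjectivity) every map α : F|_U → L|_U
satisfies ι_n|_U ≫ α = φ|_U for some n and some φ : K_n → L; (injectivity) if φ, ψ : K_n → L agree
after restriction to U then for some m ≥ n they agree after composition with any map K_m → K_n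
compatible with the inclusions into F. -/
theorem result (U X : Scheme.{u}) [IsNoetherian U] [IsNoetherian X] (j : U ⟶ X) [IsOpenImmersion j] [∀ (U V : Scheme.{u}) (j : U ⟶ V) [IsOpenImmersion j], PreservesFiniteLimits (Scheme.Modules.restrictFunctor j)] (I : X.IdealSheafData) (hI : I.supportSetᶜ = Set.range j) (F : CochainComplex X.Modules ℤ) (lo hi : ℤ) (hF : DCoh.VanishesOutside F lo hi) (hFc : ∀ q : ℤ, Coh.IsCoh (F.X q)) (L : DCoh.D X) (hLc : DCoh.IsCohD L) (c₀ : ℤ) (hK : ∀ i : ℤ, i < c₀ → IsZero (DCoh.HD L i)) : (∀ α : (DCoh.restrictD j).obj (DCoh.toD X F) ⟶ (DCoh.restrictD j).obj L, ∃ (n : ℕ) (φ : DCoh.toD X ((Dual3.deligne I n).obj F) ⟶ L), (DCoh.restrictD j).map (DerivedCategory.Q.map (Dual3.deligneι I n F)) ≫ α = (DCoh.restrictD j).map φ) ∧ ∀ (n : ℕ) (φ ψ : DCoh.toD X ((Dual3.deligne I n).obj F) ⟶ L), (DCoh.restrictD j).map φ = (DCoh.restrictD j).map ψ → ∃ m : ℕ, n ≤ m ∧ ∀ t : (Dual3.deligne I m).obj F ⟶ (Dual3.deligne I n).obj F, t ≫ Dual3.deligneι I n F = Dual3.deligneι I m F → DerivedCategory.Q.map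 t ≫ φ = DerivedCategory.Q.map t ≫ ψ := by
  haveI : L.IsGE c₀ := (DerivedCategory.isGE_iff L c₀).2 hK
  obtain ⟨J, hJa, hJi, hJq, ⟨e⟩⟩ := DelLift8.exists_resolution L c₀ fun i => (hLc i).1
  haveI := hJa
  haveI := hJi
  haveI : J.IsKInjective := CochainComplex.isKInjective_of_injective J c₀
  let R := DelLift8.res j
  haveI : ∀ p, Injective ((R.obj J).X p) := fun p => DelLift8.injective_restrict' j (J.X p)
  haveI : CochainComplex.IsStrictlyGE (R.obj J) c₀ := (CochainComplex.isStrictlyGE_iff _ c₀).2 fun i hi =>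
    (Scheme.Modules.restrictFunctor j).map_isZero (CochainComplex.isZero_of_isStrictlyGE J c₀ i hi)
  haveI : CochainComplex.IsKInjective (R.obj J) := CochainComplex.isKInjective_of_injective _ c₀
  let fac := (Scheme.Modules.restrictFunctor j).mapDerivedCategoryFactors
  have key : ∀ {A B : CochainComplex X.Modules ℤ} (f : A ⟶ B),
      (DCoh.restrictD j).map (DerivedCategory.Q.map f) =
        fac.hom.app A ≫ DerivedCategory.Q.map (R.map f) ≫ fac.inv.app B := by
    intro A B f
    have hn := fac.hom.naturality f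
    dsimp at hn
    rw [← reassoc_of% hn, Iso.hom_inv_id_app]
    simp
  refine ⟨fun α => ?_, fun n φ ψ h => ?_⟩
  · obtain ⟨a, ha⟩ := KInjLib.exists_map_eq (fac.inv.app F ≫ α ≫ (DCoh.restrictD j).map e.inv ≫ fac.hom.app J)
    obtain ⟨n, φ, hφ⟩ := DelLift8.exists_lift j hI hF hFc hJq a
    refine ⟨n, DerivedCategory.Q.map φ ≫ e.hom, ?_⟩
    erw [Functor.map_comp, key φ, key (Dual3.deligneι I n F)]
    rw [hφ, Functor.map_comp, ha]
    simp [R]
  · obtain ⟨a, ha⟩ := KInjLib.exists_map_eq (φ ≫ e.inv)
    obtain ⟨b, hb⟩ := KInjLib.exists_map_eq (ψ ≫ e.inv)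
    have h' : (DCoh.restrictD j).map (DerivedCategory.Q.map a) = (DCoh.restrictD j).map (DerivedCategory.Q.map b) := by
      rw [ha, hb, Functor.map_comp, Functor.map_comp, h]
    rw [key, key] at h'
    have h'' := (cancel_mono (fac.inv.app J)).1 ((cancel_epi (fac.hom.app _)).1 h')
    obtain ⟨H⟩ := (KInjLib.map_eq_iff _ _).1 h''
    obtain ⟨m, hm, hH⟩ := DelLift8.exists_homotopy j hI hF hFc hJq (a - b)
      ((Homotopy.ofEq (R.map_sub (f := a) (g := b))).trans (Homotopy.equivSubZero H))
    refine ⟨m, hm, fun t ht => (cancel_mono e.inv).1 ?_⟩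
    obtain ⟨H'⟩ := hH t ht
    rw [Category.assoc, Category.assoc, ← ha, ← hb, ← Functor.map_comp, ← Functor.map_comp]
    exact DerivedCategory.Q_map_eq_of_homotopy _
      (Homotopy.equivSubZero.symm ((Homotopy.ofEq (Preadditive.comp_sub _ _ _).symm).trans H'))

end Groth.Agent.S3664
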