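import Groth.Statements.S10934
import Groth.Agent.Lib.EnriquesSeveri11.Lef
import Groth.Agent.Lib.VB17.Setup
import Groth.Agent.Lib.Depth.SkOps
import Groth.Agent.Lib.RelAmple18.Ops

set_option autoImplicit false
set_option backward.isDefEq.respectTransparency false
universe u
open CategoryTheory CategoryTheory.Limits AlgebraicGeometry
open ProjDual

namespace Groth.Agent.S10934

/-- (a)⇔(b): let k be a field, i : X → P^N_k a closed immersion with X of dimension n, and write F(−q) =
F ⊗ i^*O(−q). Then X is an equidimensional Cohen–Macaulay scheme of dimension n — the local ring of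
X at every closed point is Cohen–Macaulay of Krull dimension n — if and only if for every finite
locally free O_X-module F (vector bundle) there is q₀ such that H^j(X, F(−q)) = 0 for all j < n and
all q ≥ q₀. -/
theorem result (k : Type u) [Field k] (N n : ℕ)
    {X : Scheme.{u}} (i : X ⟶ CohB1.ProjSpace N k) [IsClosedImmersion i] (hn : topologicalKrullDim ↥X = n) :
    (∀ x : X, IsClosed ({x} : Set ↥X) →
        LocCoh.IsCohenMacaulayLocalRing (X.presheaf.stalk x) ∧ ringKrullDim (X.presheaf.stalk x) = n) ↔
      ∀ F : X.Modules, FlatMod.IsFinLocFree F → ∃ q₀ : ℕ, ∀ q : ℕ, q₀ ≤ q → ∀ j : ℕ, j < n →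
        Subsingleton (Coh.HH X (CohB1.tensorMod F
          ((Scheme.Modules.pullback i).obj (Twist.twistProjSpace N k (-(q : ℤ))))) j) := by
  letI : X.Over (Spec (CommRingCat.of k)) := ⟨i ≫ CohB1.ProjSpace.toSpec N k⟩
  haveI : IsProper (CohB1.ProjSpace.toSpec N k) := ProjSpace.isProper_toSpec N k
  haveI : IsProper (X ↘ Spec (CommRingCat.of k)) := inferInstanceAs (IsProper (i ≫ _))
  haveI : AlgebraicGeometry.IsNoetherian X := CohFound.isNoetherian_of_isProper (X ↘ Spec (CommRingCat.of k))
  have hamp : CohB1.IsAmple ((CMReg18.TwistData.pullback (CMReg18.projData k N) i).O 1) :=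
    RA.isAmple_pullback_of_quasiAffine i (fun V hV => by
      haveI : IsAffine (i ⁻¹ᵁ V) := hV.preimage i
      infer_instance) (CMReg18.isAmple_twistOne k)
  constructor
  · intro hCM F hF
    obtain _ | m := n
    · exact ⟨0, fun q _ j hj => absurd hj (Nat.not_lt_zero _)⟩
    obtain ⟨m₀, hm⟩ := ES11.exists_forall_subsingleton_inverse k hamp
      ((CMReg18.TwistData.pullback (CMReg18.projData k N) i).invIso) (CohFound.isCoh_of_isFinLocFree hF) m
      (fun x hx => by
        obtain ⟨hcm, hdim⟩ := hCM x hx
        obtain ⟨hfp, hfree⟩ := (M1.isFinLocFree_iff F).1 hF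
        haveI := hfree x
        haveI := M1.finite_stalk (CohFound.isCoh_of_isFinLocFree hF).1 (CohFound.isCoh_of_isFinLocFree hF).2 x
        have e := (Module.finBasis (X.presheaf.stalk x) (F.presheaf.stalk x)).equivFun
        refine lt_of_lt_of_le ?_ ((DepthLib.idealDepth_le_pi (A := X.presheaf.stalk x) (M := X.presheaf.stalk x)
          (IsLocalRing.maximalIdeal (X.presheaf.stalk x)) _).trans_eq (DepthLib.idealDepth_congr e.symm))
        have h := hcm.supportDim_eq_depth
        rw [Module.supportDim_self_eq_ringKrullDim, hdim] at h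
        have h' : ((m + 1 : ℕ) : ℕ∞) = LocCoh.depth (X.presheaf.stalk x) (X.presheaf.stalk x) := by
          exact_mod_cast h
        change ((m : ℕ) : ℕ∞) < LocCoh.depth (X.presheaf.stalk x) (X.presheaf.stalk x)
        rw [← h']
        exact_mod_cast Nat.lt_succ_self m)
    refine ⟨m₀, fun q hq j hj => ?_⟩
    obtain ⟨u⟩ : Nonempty (CohB1.tensorPow ((CMReg18.TwistData.pullback (CMReg18.projData k N) i).O (-1)) q ≅
        (CMReg18.TwistData.pullback (CMReg18.projData k N) i).O (-(q : ℤ))) := by
      clear hq
      induction q with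
      | zero => exact ⟨(CMReg18.TwistData.pullback (CMReg18.projData k N) i).zero.symm⟩
      | succ q ih =>
        obtain ⟨u⟩ := ih
        exact ⟨M2.tensorIso u (Iso.refl _) ≪≫ (CMReg18.TwistData.pullback (CMReg18.projData k N) i).add _ _ ≪≫
          eqToIso (by congr 1; push_cast; ring)⟩
    exact CMReg18.van_iso k (M2.tensorIso (Iso.refl F) u) (hm q hq j (by omega))
  · intro h x hx
    have hdimle : ringKrullDim (X.presheaf.stalk x) ≤ n :=
      (VB17.ringKrullDim_stalk_le_topologicalKrullDim x).trans hn.le
    have hdep : ((n : ℕ) : ℕ∞) ≤ LocCoh.depth (X.presheaf.stalk x) (X.presheaf.stalk x) := by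
      obtain _ | m := n
      · simp
      have hO := M2.isFinLocFree_of_isInvertible (PicLoc.isInvertible_structureModule X)
      obtain ⟨q₀, hq₀⟩ := h _ hO
      have := ES11.lt_depth_of_negVan (k := k) (CMReg18.TwistData.pullback (CMReg18.projData k N) i) hamp m
        (CohFound.isCoh_of_isFinLocFree hO) (fun j hj => ⟨(q₀ : ℤ), fun q hq => by
          obtain ⟨q, rfl⟩ := Int.eq_ofNat_of_zero_le (le_trans (Int.natCast_nonneg q₀) hq)
          exact hq₀ q (by exact_mod_cast hq) j (by omega)⟩) x hx
      rw [ES11.depth_structureModule] at this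
      exact_mod_cast Order.add_one_le_of_lt this
    have hle := DepthLib.depth_le_supportDim (R := X.presheaf.stalk x) (M := X.presheaf.stalk x)
    rw [Module.supportDim_self_eq_ringKrullDim] at hle
    have heq : ringKrullDim (X.presheaf.stalk x) = n :=
      le_antisymm hdimle (le_trans (by exact_mod_cast hdep) hle)
    refine ⟨{ supportDim_eq_depth := ?_ }, heq⟩
    refine le_antisymm ?_ (le_of_le_of_eq hle (Module.supportDim_self_eq_ringKrullDim (X.presheaf.stalk x)).symm)
    rw [Module.supportDim_self_eq_ringKrullDim, heq]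
    exact_mod_cast hdep

end Groth.Agent.S10934
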