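import Groth.Statements.S11377
import Groth.Agent.Lib.CdLocFree12.Basic
import Groth.Agent.Lib.CohFound.ProjQuot
import Groth.Agent.Lib.Exact8.AmpleFam
import Groth.Agent.Lib.FrobSplit12.Vanish
import Groth.Agent.Lib.CMReg18.Resolution
-- import your own Groth.Agent.* helpers here

set_option autoImplicit false
set_option backward.isDefEq.respectTransparency false
universe u
open CategoryTheory CategoryTheory.Limits AlgebraicGeometry TopologicalSpace
open CohDim

namespace Groth.Agent.S11377

/-- Let S be an integral scheme, separated and of finite type over an algebraically closed field k, with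
all local rings regular, let L be an ample invertible O_S-module with tensor inverse M (so S is
quasi-projective and M^{⊗m} plays the role of O_S(-m)), and let r ≥ 0. If there is m₀ such that
H^i(S, M^{⊗m}) = 0 for every i > r and every m ≥ m₀, then H^i(S, F) = 0 for every i > r and every
coherent O_S-module F. (The published statement takes O_S(1) from a quasi-projective embedding; the
printed proof uses only that F ⊗ O_S(m) is generated by finitely many global sections for m ≫ 0,
which holds for any ample L.) -/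
theorem result (k : Type u) [Field k] [IsAlgClosed k] (S : Scheme.{u})
    [S.Over (Spec (CommRingCat.of k))] [IsSeparated (S ↘ (Spec (CommRingCat.of k)))]
    [LocallyOfFiniteType (S ↘ (Spec (CommRingCat.of k)))] [QuasiCompact (S ↘ (Spec (CommRingCat.of k)))]
    [IsIntegral S] (hreg : ∀ x : S, IsRegularLocalRing (S.presheaf.stalk x))
    (L M : S.Modules) (hL : CohB1.IsAmple L) (hM : ClSub.IsInverseOf M L) (r : ℕ)
    (hneg : ∃ m₀ : ℕ, ∀ m : ℕ, m₀ ≤ m → ∀ i : ℕ, r < i → Subsingleton (Coh.HH S (CohB1.tensorPow M m) i))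
    (F : S.Modules) (hF : Coh.IsCoh F) (i : ℕ) (hi : r < i) :
    Subsingleton (Coh.HH S F i) := by
  classical
  haveI : IsLocallyNoetherian S := LocallyOfFiniteType.isLocallyNoetherian (S ↘ Spec (CommRingCat.of k))
  haveI : CompactSpace S := QuasiCompact.compactSpace_of_compactSpace (S ↘ Spec (CommRingCat.of k))
  haveI := CdLocFree12.isSeparated_top (k := k) (X := S)
  haveI : QuasiSeparatedSpace S := quasiSeparatedSpace_of_quasiSeparated (S ↘ Spec (CommRingCat.of k))
  obtain ⟨m₀, hm₀⟩ := hneg
  let a := m₀ + 1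
  have hLa : CohB1.IsAmple (CohB1.tensorPow L a) := (Amp.isAmple_tensorPow_iff hL.1 (Nat.succ_pos _)).2 hL
  let Fam : PUnit.{u + 1} → S.Modules := fun _ => CohB1.tensorPow L a
  have hFam : KSix.IsAmpleFamily Fam := ⟨inferInstance, inferInstance, fun _ => hLa.1, fun x => by
    obtain ⟨n, s, h1, h2⟩ := hLa.2.2 x
    exact ⟨PUnit.unit, n, s, h1, h2⟩⟩
  refine CdLocFree12.of_presentations (k := k)
    (fun E => ∀ j, r < j → Subsingleton (Coh.HH S E j)) (fun G j => Subsingleton (Coh.HH S G j)) r
    (fun G hG => ?_) (fun _ _ h => h) (fun E h => h) (CdLocFree12.subsingleton_step (k := k)) F hF i hi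
  obtain ⟨E, π, ⟨b, N, hN, ⟨e⟩⟩, hE, hπ⟩ := Exact8.AmpleFam.exists_epi Fam hFam G hG.1 hG.2
  refine ⟨E, π, fun j hj => ?_, CohFound.isCoh_of_isFinLocFree hE, hπ⟩
  have hsub : ∀ l, Subsingleton (Coh.HH S (N l) j) := fun l => by
    obtain ⟨i₀, q, hq, ⟨eN⟩⟩ := hN l
    obtain ⟨eM⟩ := FrobSplit12.nonempty_tensorPow_iso_structure hM (a * q)
    haveI := hm₀ (a * q) (le_trans (Nat.le_succ _) (Nat.le_mul_of_pos_right _ hq)) j hj
    let e' : CohB1.tensorMod (N l) (CohB1.tensorPow L (a * q)) ≅ Coh.structureModule S :=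
      M2.tensorIso (Iso.refl _) (M2.tensorPowPow L a q).symm ≪≫ eN
    let e'' : N l ≅ CohB1.tensorPow M (a * q) :=
      (M2.tensorRUnit _).symm ≪≫ M2.tensorIso (Iso.refl _) eM.symm ≪≫
        M2.tensorIso (Iso.refl _) (M2.tensorComm _ _) ≪≫ (M2.tensorAssoc _ _ _).symm ≪≫
        M2.tensorIso e' (Iso.refl _) ≪≫ M2.tensorLUnit _
    exact (CurveCoh17.hequiv k e'' j).toEquiv.subsingleton
  haveI : Subsingleton (Coh.HH S (⨁ N) j) := subsingleton_of_forall_eq 0 fun x => by
    rw [← CMReg18.biproduct_tot k N j x]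
    exact Finset.sum_eq_zero fun l _ => by rw [(hsub l).elim (CurveCoh17.hmap k _ j x) 0, map_zero]
  exact (CurveCoh17.hequiv k e j).toEquiv.subsingleton

end Groth.Agent.S11377
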