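import Groth.Statements.S0205
import Groth.Agent.Lib.CdpDim3.Main
import Groth.Agent.S1667
-- import your own Groth.Agent.* helpers here

set_option autoImplicit false
universe u
open CategoryTheory CategoryTheory.Limits AlgebraicGeometry Opposite
open Curves

namespace Groth.Agent.S0205

/-- In characteristic p, p-power torsion abelian étale sheaves (every section is étale-locally killed by
a power of p) on a separated finite type scheme of dimension at most one over an algebraically
closed field have no cohomology above degree one. -/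
theorem result (k : Type u) [Field k] [IsAlgClosed k] (p : ℕ) [Fact p.Prime] [CharP k p]
    (X : Scheme.{u}) (f : X ⟶ Spec (CommRingCat.of k)) [IsSeparated f] [LocallyOfFiniteType f] [QuasiCompact f]
    (hdim : topologicalKrullDim X ≤ 1) (F : EtCoh.Ab X)
    (hF : ∀ (U : X.Etale) (s : EtCoh.sect F U) (x : U.left), ∃ (V : X.Etale) (g : V ⟶ U),
      (∃ v : V.left, g.left.base v = x) ∧ ∃ n : ℕ, (p ^ n) • (F.obj.map g.op s) = 0)
    (q : ℕ) (hq : 1 < q) :
    Subsingleton (EtCoh.H X F q) := by
  letI : X.Over (Spec (CommRingCat.of k)) := ⟨f⟩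
  haveI : IsSeparated (X ↘ Spec (CommRingCat.of k)) := ‹IsSeparated f›
  haveI : LocallyOfFiniteType (X ↘ Spec (CommRingCat.of k)) := ‹LocallyOfFiniteType f›
  haveI : QuasiCompact (X ↘ Spec (CommRingCat.of k)) := ‹QuasiCompact f›
  obtain ⟨N, i, hi, hif⟩ := Groth.Agent.S1667.result k X hdim
  haveI := hi
  haveI := ProjSpace.isProper_toSpec N k
  exact CdpDim3.cohDimLEAt_of_cpt (p := p) f
    (CdpDim3.cpt_of_immersion f (CohB1.ProjSpace.toSpec N k) i hif (by exact_mod_cast hdim)) F hF q hq

end Groth.Agent.S0205
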