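import Groth.Statements.S0642
import Groth.Agent.Lib.EtStalk.IntegralUniv
import Groth.Agent.Lib.EtStalk.HofPush
import Groth.Agent.S3054

set_option autoImplicit false
open CategoryTheory CategoryTheory.Limits AlgebraicGeometry Opposite
universe u
open EtCore

namespace Groth.Agent.S0642

/-- Let X_0 -> X be integral, universally injective and surjective (a universal homeomorphism). Then for
every abelian sheaf F on the small etale site of X and every q the pullback map from H^q(X, F) to
H^q(X_0, F|_{X_0}) is bijective. (Exactness of pullback of abelian sheaves, which always holds, is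
carried as an instance hypothesis.) -/
theorem result {X₀ X : Scheme.{u}} (i : X₀ ⟶ X) [IsIntegralHom i]
    [UniversallyInjective i] [Surjective i] [PreservesFiniteLimits (EtCoh.pull i)] (F : EtCoh.Ab X) (q : ℕ) :
    Function.Bijective (EtCore.Hpull i F q) := by
  have hu := Groth.Agent.EtStalk.isIso_unit_integral i F (fun x _ => i.surjective x)
  have hb := Groth.Agent.EtStalk.bijective_HofPush i q ((EtCoh.pull i).obj F)
    (fun p hp => Groth.Agent.S3054.result i _ p hp)
  have key : ∀ x, EtCore.Hpull i F q x = EtLim.HofPush i ((EtCoh.pull i).obj F) q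
      (x.comp (Abelian.Ext.mk₀ ((EtCoh.pullPushAdj i).unit.app F)) (add_zero q)) := fun x => by
    rw [Groth.Agent.EtStalk.HofPush_apply, Abelian.Ext.mapExactFunctor_comp, Abelian.Ext.mapExactFunctor_mk₀]
    simp only [Abelian.Ext.comp_assoc_of_third_deg_zero, Abelian.Ext.mk₀_comp_mk₀]
    rw [(EtCoh.pullPushAdj i).left_triangle_components, Abelian.Ext.comp_mk₀_id]
    rfl
  rw [show (EtCore.Hpull i F q : _ → _) = _ from funext key]
  refine hb.comp ⟨fun x y h => ?_, fun y => ⟨y.comp (Abelian.Ext.mk₀ (inv ((EtCoh.pullPushAdj i).unit.app F))) (add_zero q), ?_⟩⟩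
  · have := congrArg (fun z => z.comp (Abelian.Ext.mk₀ (inv ((EtCoh.pullPushAdj i).unit.app F))) (add_zero q)) h
    simpa using this
  · simp

end Groth.Agent.S0642
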