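import Groth.Statements.S8524
import Groth.Agent.Lib.EtStalk.Agree

set_option autoImplicit false
universe u
open CategoryTheory CategoryTheory.Limits AlgebraicGeometry Opposite
open EtAcyc

namespace Groth.Agent.S8524
open Groth.Agent.EtStalk

/-- For the small etale site of a scheme and abelian sheaves: let L be a set of primes, F an abelian
L-torsion sheaf on the small etale site of a scheme X, and U an etale X-scheme with quasi-compact
underlying space. Then every section of F over U is killed by some positive integer all of whose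
prime factors lie in L. -/
theorem result {X : Scheme.{u}} (L : Set ℕ) (F : EtCoh.Ab X)
    (hF : EtAcyc.IsLTorsion L F) (U : X.Etale) [CompactSpace U.left] (s : EtCoh.sect F U) :
    ∃ m : ℕ, EtAcyc.PrimesIn L m ∧ m • s = 0 := by
  classical
  choose V g m hv hm hms using hF U s
  obtain ⟨t, ht⟩ := (isCompact_univ (X := U.left)).elim_finite_subcover
    (fun x => Set.range (g x).left) (fun x => by
      have := etale_left (g x)
      exact (g x).left.isOpenMap.isOpen_range)
    (fun x _ => Set.mem_iUnion.2 ⟨x, hv x⟩)
  refine ⟨∏ x ∈ t, m x, ⟨Finset.prod_pos fun x _ => (hm x).1, fun p hp hdvd => ?_⟩, ?_⟩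
  · obtain ⟨x, -, hx⟩ := (Nat.prime_iff.1 hp).exists_mem_finset_dvd hdvd
    exact (hm x).2 p hp hx
  · refine eq_of_agree F fun y => ?_
    obtain ⟨x, hx, hy⟩ := Set.mem_iUnion₂.1 (ht (Set.mem_univ y))
    refine ⟨V x, g x, hy, ?_⟩
    rw [map_nsmul, map_zero, ← Finset.prod_erase_mul t m hx, mul_smul, hms x, smul_zero]

end Groth.Agent.S8524
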