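import Mathlib.RingTheory.Henselian
import Mathlib.RingTheory.LocalRing.ResidueField.Basic
import Mathlib.RingTheory.LocalRing.RingHom.Basic
import Groth.Prelude.Def_Hensel
import Mathlib.RingTheory.DiscreteValuationRing.Basic
import Mathlib.RingTheory.Noetherian.Basic
import Groth.Agent.Lib.Hens.Transfer

set_option autoImplicit false
universe u
open Hensel

namespace Groth.Agent.S9262

/-- Let R be a Noetherian local ring with henselization S and strict henselization T. Then R is a
discrete valuation ring exactly when S is one, and exactly when T is one. -/
theorem result (R S T : Type u)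
    [CommRing R] [IsLocalRing R] [IsNoetherianRing R] [CommRing S] [IsLocalRing S] [Algebra R S]
    [IsLocalHom (algebraMap R S)] [Hensel.IsHenselization R S] [CommRing T] [IsLocalRing T]
    [Algebra R T] [IsLocalHom (algebraMap R T)] [Hensel.IsStrictHenselization R T] :
    ((∃ _ : IsDomain R, IsDiscreteValuationRing R) ↔ (∃ _ : IsDomain S, IsDiscreteValuationRing S)) ∧
      ((∃ _ : IsDomain R, IsDiscreteValuationRing R) ↔
        (∃ _ : IsDomain T, IsDiscreteValuationRing T)) := by
  haveI := Groth.Agent.Hens.henselization_flat R S; haveI := Groth.Agent.Hens.henselization_isNoetherianRing R S; haveI := Groth.Agent.Hens.strictHenselization_flat R T; haveI := Groth.Agent.Hens.strictHenselization_isNoetherianRing R T; simp only [Groth.Agent.Hens.isDiscreteValuationRing_iff_regular_dim_one, Groth.Agent.Hens.henselization_ringKrullDim R S, Groth.Agent.Hens.strictHenselization_ringKrullDim R T, ← Groth.Agent.RegLoc.isRegularLocalRing_iff_of_map_maximalIdeal (Groth.Agent.Hens.henselization_map_maximalIdeal R S), ← Groth.Agent.RegLoc.isRegularLocalRing_iff_of_map_maximalIdeal (Groth.Agent.Hens.strictHenselization_map_maximalIdeal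 R T), and_self]

end Groth.Agent.S9262
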