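import Groth.Statements.S3246
import Groth.Agent.Lib.Dix24.Kummer

set_option autoImplicit false
universe u
open CategoryTheory AlgebraicGeometry
open Dix

namespace Groth.Agent.S3246
open Groth.Agent.Dix24 CategoryTheory CategoryTheory.Limits CategoryTheory.Abelian

/-- Let X be a scheme, ℓ a prime and n an integer with cd_ℓ(X) ≤ n (étale cohomology of ℓ-primary
torsion sheaves vanishes above degree n). Then the ℓ-primary torsion of H^i(X_ét, G_m) is zero for i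
> n + 1; if moreover ℓ is invertible on X, it is zero for i > n. -/
theorem result (X : Scheme.{u}) (ℓ : ℕ) (hℓ : ℓ.Prime) (n : ℕ) (hcd : Dix.CohDimLEAt X ℓ n) : (∀ i : ℕ, n + 1 < i → ∀ ξ : EtCoh.H X (EtCoh.Gm X) i, (∃ k : ℕ, ℓ ^ k • ξ = 0) → ξ = 0) ∧ (Dix.InvertibleOn X ℓ → ∀ i : ℕ, n < i → ∀ ξ : EtCoh.H X (EtCoh.Gm X) i, (∃ k : ℕ, ℓ ^ k • ξ = 0) → ξ = 0) := by
  have key : ∀ (k i : ℕ), n < i → Subsingleton (EtCoh.H X (kernel ((ℓ ^ k) • 𝟙 (EtCoh.Gm X))) i) :=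
    fun k i hi => hcd _ (isPrimaryTorsion_of_killedBy (killedBy_of_nsmul_id (nsmul_id_kernel _))) i hi
  constructor
  · rintro i hi ξ ⟨k, hk⟩
    obtain ⟨η, hη⟩ := exists_of_nsmul_eq_zero (ℓ ^ k) ξ hk (Or.inr ⟨i - 1, by omega, fun Q hQ =>
      hcd Q (isPrimaryTorsion_of_killedBy (killedBy_of_nsmul_id hQ)) (i - 1) (by omega)⟩)
    have : Subsingleton (Ext _ _ i) := key k i (by omega)
    rw [← hη, Subsingleton.elim η 0, Ext.zero_comp]
  · rintro hinv i hi ξ ⟨k, hk⟩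
    have hu : IsUnit ((ℓ ^ k : ℕ) : Γ(X, ⊤)) := by
      rw [Nat.cast_pow]
      exact (isUnit_natCast ℓ hinv).pow k
    obtain ⟨η, hη⟩ := exists_of_nsmul_eq_zero (ℓ ^ k) ξ hk (Or.inl (Groth.Agent.S0108.result X _ hu))
    have : Subsingleton (Ext _ _ i) := key k i hi
    rw [← hη, Subsingleton.elim η 0, Ext.zero_comp]

end Groth.Agent.S3246
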