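import Groth.Statements.S1866
import Groth.Agent.Lib.CubeField.AmpleAV
import Groth.Agent.Lib.CubeField.DivSection
import Groth.Agent.Lib.CubeField.Embed
import Groth.Agent.Lib.CubeField.FinInst
import Mathlib.AlgebraicGeometry.Group.Smooth

set_option autoImplicit false
universe u v
open CategoryTheory MonoidalCategory CartesianMonoidalCategory MonObj GrpObj AlgebraicGeometry
open GrpSch

namespace Groth.Agent.S1866

/-- An abelian variety over a field K is projective over K; stated as: there is a closed immersion into
projective n-space over K compatible with the structure morphisms, for some n. -/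
theorem result (K : Type u) [Field K] (A : Over (Spec (CommRingCat.of K))) [GrpObj A] [IsProper A.hom] [GeometricallyIntegral A.hom] : ∃ (n : ℕ) (j : A.left ⟶ CohB1.ProjSpace n K), IsClosedImmersion j ∧ j ≫ CohB1.ProjSpace.toSpec n K = A.hom := by
  haveI : Smooth A.hom :=
    @smooth_of_grpObj K _ _ A.hom _ (show GrpObj (Over.mk A.hom) from ‹GrpObj A›) _
  haveI : IsIntegral A.left := GeometricallyIntegral.isIntegral_of_subsingleton A.hom
  obtain ⟨x⟩ : Nonempty A.left := inferInstance
  obtain ⟨U, hU, hxU, -⟩ := exists_isAffineOpen_mem_and_subset (X := A.left) (x := x) (U := ⊤) trivial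
  obtain ⟨N, hN, s, hs⟩ := Groth.Agent.CubeField.exists_section_compl_affine A.hom U hU (U.isOpen.dense ⟨x, hxU⟩)
  exact Groth.Agent.CubeField.exists_closedImmersion_of_isAmple A.hom
    (Groth.Agent.CubeField.isAmple_of_affine_genLocus Groth.Agent.CubeField.finH1 hN s (hs ▸ hU) (hs ▸ ⟨x, hxU⟩))

end Groth.Agent.S1866
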