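import Groth.Statements.S8384
import Mathlib.RingTheory.AdicCompletion.RingHom
-- import your own Groth.Agent.* helpers here

set_option autoImplicit false
universe u
open CategoryTheory MonoidalCategory CartesianMonoidalCategory MonObj GrpObj AlgebraicGeometry
open SGA3x

namespace Groth.Agent.S8384

/-- A morphism from the spectrum of a local ring whose closed point lands in an affine open `U`
factors through `U`. -/
lemma exists_lift_affine {A : Type u} [CommRing A] [IsLocalRing A] {X : Scheme.{u}}
    (f : Spec (CommRingCat.of A) ⟶ X) {U : X.Opens} (hU : IsAffineOpen U)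
    (h : f (IsLocalRing.closedPoint A) ∈ U) :
    ∃ φ : Γ(X, U) ⟶ CommRingCat.of A, Spec.map φ ≫ hU.fromSpec = f := by
  have hr : Set.range f ⊆ Set.range hU.fromSpec := by
    rw [hU.range_fromSpec]
    rintro _ ⟨p, rfl⟩
    exact ((IsLocalRing.closedPoint_mem_iff (f ⁻¹ᵁ U)).mp h).ge (Set.mem_univ p)
  refine ⟨Spec.preimage (IsOpenImmersion.lift hU.fromSpec f hr), ?_⟩
  rw [Spec.map_preimage, IsOpenImmersion.lift_fac]

/-- Let A be a local ring, separated and complete for the topology defined by its maximal ideal m, S =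
Spec A and Sₙ = Spec(A/mⁿ). Then for every scheme X the canonical map Hom(S, X) → lim Hom(Sₙ, X) is
bijective: two morphisms S → X that agree on every Sₙ are equal, and every family of morphisms Sₙ →
X compatible with the closed immersions Sₙ → Sₙ₊₁ is induced by a morphism S → X. -/
theorem result (A : Type u) [CommRing A] [IsLocalRing A]
    [IsAdicComplete (IsLocalRing.maximalIdeal A) A] (X : Scheme.{u}) :
    (∀ f g : (Spec (CommRingCat.of A)) ⟶ X,
      (∀ n : ℕ, (Spec.map (CommRingCat.ofHom (Ideal.Quotient.mk ((IsLocalRing.maximalIdeal A) ^ n)))) ≫ f = (Spec.map (CommRingCat.ofHom (Ideal.Quotient.mk ((IsLocalRing.maximalIdeal A) ^ n)))) ≫ g) → f = g) ∧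
    (∀ u : (n : ℕ) → (Spec (CommRingCat.of (A ⧸ (IsLocalRing.maximalIdeal A) ^ n)) ⟶ X),
      (∀ n : ℕ, (Spec.map (CommRingCat.ofHom (Ideal.Quotient.factor
          (Ideal.pow_le_pow_right (I := (IsLocalRing.maximalIdeal A)) (Nat.le_succ n))))) ≫ u (n + 1) = u n) →
      ∃ f : (Spec (CommRingCat.of A)) ⟶ X, ∀ n : ℕ, (Spec.map (CommRingCat.ofHom (Ideal.Quotient.mk ((IsLocalRing.maximalIdeal A) ^ n)))) ≫ f = u n) := by
  let m : Ideal A := IsLocalRing.maximalIdeal A
  have hpt : ∀ (n : ℕ) (p : Spec (CommRingCat.of (A ⧸ m ^ n))),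
      Spec.map (CommRingCat.ofHom (Ideal.Quotient.mk (m ^ n))) p = IsLocalRing.closedPoint A := by
    intro n p
    refine PrimeSpectrum.ext ?_
    have h0 : m ^ n ≤ Ideal.comap (Ideal.Quotient.mk (m ^ n)) p.asIdeal := fun a ha => by
      rw [Ideal.mem_comap, Ideal.Quotient.eq_zero_iff_mem.mpr ha]
      exact zero_mem _
    haveI : (Ideal.comap (Ideal.Quotient.mk (m ^ n)) p.asIdeal).IsPrime := inferInstance
    rcases Nat.eq_zero_or_pos n with rfl | hn
    · exfalso
      exact Ideal.IsPrime.ne_top inferInstance (top_le_iff.mp (le_trans (by simp) h0))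
    · exact ((IsLocalRing.maximalIdeal.isMaximal A).eq_of_le (Ideal.IsPrime.ne_top inferInstance)
        ((Ideal.IsPrime.pow_le_iff (by omega)).mp h0)).symm
  constructor
  · intro f g hfg
    have hne : (m ^ 1) ≠ ⊤ := by
      rw [pow_one]; exact (IsLocalRing.maximalIdeal.isMaximal A).ne_top
    haveI : Nontrivial (A ⧸ m ^ 1) := Ideal.Quotient.nontrivial_iff.mpr hne
    obtain ⟨p⟩ : Nonempty (Spec (CommRingCat.of (A ⧸ m ^ 1))) :=
      inferInstanceAs (Nonempty (PrimeSpectrum (A ⧸ m ^ 1)))
    have hc : f (IsLocalRing.closedPoint A) = g (IsLocalRing.closedPoint A) := by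
      rw [← hpt 1 p, ← Scheme.Hom.comp_apply, ← Scheme.Hom.comp_apply, hfg 1]
    obtain ⟨U, hU, hxU, -⟩ := exists_isAffineOpen_mem_and_subset (x := f (IsLocalRing.closedPoint A))
      (U := (⊤ : X.Opens)) trivial
    obtain ⟨φ, hφ⟩ := exists_lift_affine f hU hxU
    obtain ⟨ψ, hψ⟩ := exists_lift_affine g hU (hc ▸ hxU)
    suffices φ = ψ by rw [← hφ, ← hψ, this]
    ext1
    refine DFunLike.coe_injective (IsHausdorff.funext' m fun n x => ?_)
    have h2 := hfg n
    rw [← hφ, ← hψ, ← Category.assoc, ← Category.assoc, cancel_mono, ← Spec.map_comp,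
      ← Spec.map_comp, Spec.map_inj] at h2
    exact congr($(h2).hom x)
  · intro u hu
    have hne : (m ^ 1) ≠ ⊤ := by
      rw [pow_one]; exact (IsLocalRing.maximalIdeal.isMaximal A).ne_top
    haveI : Nontrivial (A ⧸ m ^ 1) := Ideal.Quotient.nontrivial_iff.mpr hne
    obtain ⟨p0⟩ : Nonempty (Spec (CommRingCat.of (A ⧸ m ^ 1))) :=
      inferInstanceAs (Nonempty (PrimeSpectrum (A ⧸ m ^ 1)))
    have hsub : ∀ n (p q : Spec (CommRingCat.of (A ⧸ m ^ n))), p = q := fun n p q => by
      have h := (hpt n p).trans (hpt n q).symm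
      exact PrimeSpectrum.comap_injective_of_surjective (Ideal.Quotient.mk (m ^ n))
        Ideal.Quotient.mk_surjective h
    have hall : ∀ n (p : Spec (CommRingCat.of (A ⧸ m ^ n))), u n p = u 1 p0 := by
      intro n
      rcases Nat.eq_zero_or_pos n with rfl | hn
      · intro p
        have h1 : u 0 p = u 1 (Spec.map (CommRingCat.ofHom (Ideal.Quotient.factor
            (Ideal.pow_le_pow_right (I := m) (Nat.le_succ 0)))) p) := by
          rw [← Scheme.Hom.comp_apply, hu 0]
        exact h1.trans (congrArg (u 1) (hsub 1 _ p0))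
      · induction n, hn using Nat.le_induction with
        | base => intro p; rw [hsub 1 p p0]
        | succ k hk ih =>
          intro p
          have hne : (m ^ k) ≠ ⊤ := fun h => (IsLocalRing.maximalIdeal.isMaximal A).ne_top
            (top_le_iff.mp (h ▸ Ideal.pow_le_self (by omega)))
          haveI : Nontrivial (A ⧸ m ^ k) := Ideal.Quotient.nontrivial_iff.mpr hne
          obtain ⟨q⟩ : Nonempty (Spec (CommRingCat.of (A ⧸ m ^ k))) :=
            inferInstanceAs (Nonempty (PrimeSpectrum (A ⧸ m ^ k)))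
          rw [hsub (k + 1) p (Spec.map (CommRingCat.ofHom (Ideal.Quotient.factor
            (Ideal.pow_le_pow_right (I := m) (Nat.le_succ k)))) q), ← ih q,
            ← Scheme.Hom.comp_apply, hu k]
    obtain ⟨U, hU, hxU, -⟩ := exists_isAffineOpen_mem_and_subset (x := u 1 p0)
      (U := (⊤ : X.Opens)) trivial
    have hr : ∀ n, Set.range (u n) ⊆ Set.range hU.fromSpec := fun n => by
      rw [hU.range_fromSpec]
      rintro _ ⟨p, rfl⟩
      rw [hall n p]; exact hxU
    let φ : ∀ n, Γ(X, U) →+* A ⧸ m ^ n :=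
      fun n => (Spec.preimage (IsOpenImmersion.lift hU.fromSpec (u n) (hr n))).hom
    have hφ : ∀ n, Spec.map (CommRingCat.ofHom (φ n)) ≫ hU.fromSpec = u n := fun n => by
      change Spec.map (Spec.preimage _) ≫ _ = _
      rw [Spec.map_preimage, IsOpenImmersion.lift_fac]
    have hstep : ∀ k, (Ideal.Quotient.factorPow m (Nat.le_succ k)).comp (φ (k + 1)) = φ k := by
      intro k
      have h := hu k
      rw [← hφ (k + 1), ← hφ k, ← Category.assoc, cancel_mono, ← Spec.map_comp, Spec.map_inj] at h
      exact congr($(h).hom)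
    have hf : ∀ {a b : ℕ} (hle : a ≤ b), (Ideal.Quotient.factorPow m hle).comp (φ b) = φ a := by
      intro a b hle
      induction b, hle using Nat.le_induction with
      | base => ext x; simp
      | succ k hk ih => rw [← ih, ← hstep k, ← RingHom.comp_assoc]; simp
    refine ⟨Spec.map (CommRingCat.ofHom (IsAdicComplete.liftRingHom m φ hf)) ≫ hU.fromSpec,
      fun n => ?_⟩
    rw [← Category.assoc, ← Spec.map_comp, ← hφ n]
    congr 2
    ext1
    exact IsAdicComplete.mk_comp_liftRingHom m φ hf n

end Groth.Agent.S8384
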