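import Groth.Statements.S8385
import Groth.Agent.S8384
import Groth.Agent.Lib.CT6.CompleteSemilocal
-- import your own Groth.Agent.* helpers here

set_option autoImplicit false
universe u
open CategoryTheory MonoidalCategory CartesianMonoidalCategory MonObj GrpObj AlgebraicGeometry
open SGA3x

namespace Groth.Agent.S8385

open Limits in
/-- Complete orthogonal idempotents split `Spec R` into `Spec (R ⧸ (1 - eᵢ))`. -/
lemma idem_hom_ext {R : Type u} [CommRing R] {Idx : Type u} [Fintype Idx] {e : Idx → R}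
    (he : CompleteOrthogonalIdempotents e) {X : Scheme.{u}}
    {f g : Spec (CommRingCat.of R) ⟶ X}
    (h : ∀ i, Spec.map (CommRingCat.ofHom (Ideal.Quotient.mk (Ideal.span {1 - e i}))) ≫ f =
      Spec.map (CommRingCat.ofHom (Ideal.Quotient.mk (Ideal.span {1 - e i}))) ≫ g) : f = g := by
  let P : Idx → CommRingCat.{u} := fun i => CommRingCat.of (R ⧸ Ideal.span {1 - e i})
  let φ : CommRingCat.of R ⟶ CommRingCat.of (Π i, P i) :=
    CommRingCat.ofHom (Pi.ringHom fun i => Ideal.Quotient.mk (Ideal.span {1 - e i}))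
  haveI : IsIso φ := (ConcreteCategory.isIso_iff_bijective _).mpr he.bijective_pi
  rw [← cancel_epi (Spec.map φ), ← cancel_epi (sigmaSpec P)]
  refine Sigma.hom_ext _ _ fun i => ?_
  simp only [← Category.assoc, ι_sigmaSpec, ← Spec.map_comp]
  exact h i

open Limits in
lemma idem_exists_desc {R : Type u} [CommRing R] {Idx : Type u} [Fintype Idx] {e : Idx → R}
    (he : CompleteOrthogonalIdempotents e) {X : Scheme.{u}}
    (f : ∀ i, Spec (CommRingCat.of (R ⧸ Ideal.span {1 - e i})) ⟶ X) :
    ∃ F : Spec (CommRingCat.of R) ⟶ X,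
      ∀ i, Spec.map (CommRingCat.ofHom (Ideal.Quotient.mk (Ideal.span {1 - e i}))) ≫ F = f i := by
  let P : Idx → CommRingCat.{u} := fun i => CommRingCat.of (R ⧸ Ideal.span {1 - e i})
  let φ : CommRingCat.of R ⟶ CommRingCat.of (Π i, P i) :=
    CommRingCat.ofHom (Pi.ringHom fun i => Ideal.Quotient.mk (Ideal.span {1 - e i}))
  haveI : IsIso φ := (ConcreteCategory.isIso_iff_bijective _).mpr he.bijective_pi
  refine ⟨inv (Spec.map φ) ≫ inv (sigmaSpec P) ≫ Sigma.desc f, fun i => ?_⟩
  have h1 : Sigma.ι (fun i => Spec (P i)) i ≫ sigmaSpec P ≫ Spec.map φ =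
      Spec.map (CommRingCat.ofHom (Ideal.Quotient.mk (Ideal.span {1 - e i}))) := by
    rw [← Category.assoc, ι_sigmaSpec, ← Spec.map_comp]
    rfl
  rw [← h1]
  simp only [Category.assoc, IsIso.hom_inv_id_assoc]
  exact Sigma.ι_desc _ _

/-- Complete orthogonal idempotents of a complete semilocal Noetherian ring with local factors. -/
lemma exists_idempotents (R : Type u) [CommRing R] [IsNoetherianRing R] (K : Ideal R) [IsAdicComplete K R]
    [IsArtinianRing (R ⧸ K)] :
    ∃ (Idx : Type u) (_ : Fintype Idx) (e : Idx → R), CompleteOrthogonalIdempotents e ∧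
      ∀ i, ∃ _ : IsLocalRing (R ⧸ Ideal.span {1 - e i}),
        IsAdicComplete (IsLocalRing.maximalIdeal (R ⧸ Ideal.span {1 - e i})) (R ⧸ Ideal.span {1 - e i}) ∧
        K.map (Ideal.Quotient.mk (Ideal.span {1 - e i})) ≤ IsLocalRing.maximalIdeal _ ∧
        ∃ N : ℕ, IsLocalRing.maximalIdeal _ ^ N ≤ K.map (Ideal.Quotient.mk (Ideal.span {1 - e i})) := by
  classical
  have hK : ∀ (M : Ideal R), M.IsMaximal → K ≤ M := fun M hM =>
    (IsAdicComplete.le_jacobson_bot K).trans (sInf_le ⟨bot_le, hM⟩)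
  haveI : Finite (MaximalSpectrum R) := by
    refine Finite.of_injective (β := MaximalSpectrum (R ⧸ K)) (fun M =>
      ⟨M.asIdeal.map (Ideal.Quotient.mk K),
        haveI := M.isMaximal
        Ideal.IsMaximal.map_of_surjective_of_ker_le (f := Ideal.Quotient.mk K)
          Ideal.Quotient.mk_surjective (by rw [Ideal.mk_ker]; exact hK _ M.isMaximal)⟩)
      fun a b hab => MaximalSpectrum.ext ?_
    have := congrArg (fun x => Ideal.comap (Ideal.Quotient.mk K) x.asIdeal) hab
    simp only [Ideal.comap_map_of_surjective' _ Ideal.Quotient.mk_surjective, Ideal.mk_ker] at this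
    rwa [sup_eq_left.2 (hK _ a.isMaximal), sup_eq_left.2 (hK _ b.isMaximal)] at this
  letI : Fintype (MaximalSpectrum R) := Fintype.ofFinite _
  choose e he heM heo using fun M : MaximalSpectrum R =>
    haveI := M.isMaximal
    CT6.exists_idempotent R K M.asIdeal
  have hunit : ∀ x : R, IsIdempotentElem x → (∀ M : MaximalSpectrum R, x ∉ M.asIdeal) → x = 1 := by
    intro x hx hxM
    have hu : IsUnit x := by
      by_contra h
      obtain ⟨M, hM, hxM'⟩ := exists_max_ideal_of_mem_nonunits h
      exact hxM ⟨M, hM⟩ hxM'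
    exact (IsIdempotentElem.iff_eq_one_of_isUnit hu).mp hx
  have hortho : OrthogonalIdempotents e := by
    refine ⟨he, fun M M' hne => ?_⟩
    have h1 : (1 - e M * e M') = 1 := by
      refine hunit _ (IsIdempotentElem.one_sub ((he M).mul (he M'))) fun P hP => ?_
      have hmem : e M * e M' ∈ P.asIdeal := by
        by_cases hPM : P = M
        · subst hPM
          exact P.asIdeal.mul_mem_left _ (heo M' P.asIdeal P.isMaximal fun h => hne (MaximalSpectrum.ext h))
        · exact P.asIdeal.mul_mem_right _ (heo M P.asIdeal P.isMaximal fun h => hPM (MaximalSpectrum.ext h))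
      apply P.isMaximal.ne_top
      rw [Ideal.eq_top_iff_one]
      have := add_mem hP hmem
      rwa [sub_add_cancel] at this
    simpa using h1
  have hcomp : CompleteOrthogonalIdempotents e := by
    refine ⟨hortho, hunit _ hortho.isIdempotentElem_sum fun P hP => ?_⟩
    refine heM P ?_
    rw [← Finset.add_sum_erase _ _ (Finset.mem_univ P)] at hP
    refine (Ideal.add_mem_iff_left _ (Ideal.sum_mem _ fun M hM => ?_)).mp hP
    exact heo M P.asIdeal P.isMaximal fun h => Finset.ne_of_mem_erase hM (MaximalSpectrum.ext h.symm)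
  refine ⟨_, inferInstance, e, hcomp, fun M => ?_⟩
  haveI := M.isMaximal
  let π := Ideal.Quotient.mk (Ideal.span {1 - e M})
  have hJM : Ideal.span {1 - e M} ≤ M.asIdeal := by
    rw [Ideal.span_singleton_le_iff_mem]
    exact (Ideal.IsPrime.mem_or_mem inferInstance (show e M * (1 - e M) ∈ M.asIdeal by
      rw [(he M).mul_one_sub_self]; exact zero_mem _)).resolve_left (heM M)
  have hmM : (M.asIdeal.map π).IsMaximal :=
    Ideal.IsMaximal.map_of_surjective_of_ker_le (f := π) Ideal.Quotient.mk_surjective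
      (by rw [Ideal.mk_ker]; exact hJM)
  have huq : ∀ N : Ideal (R ⧸ Ideal.span {1 - e M}), N.IsMaximal → N = M.asIdeal.map π := fun N hN => by
    haveI := hN
    have hc := Ideal.comap_isMaximal_of_surjective (K := N) π Ideal.Quotient.mk_surjective
    have : (⟨N.comap π, hc⟩ : MaximalSpectrum R) = M := by
      by_contra hne
      refine hc.ne_top ((Ideal.eq_top_iff_one _).2 ?_)
      have h1 := heo M (N.comap π) hc fun h => hne (MaximalSpectrum.ext h)
      have h2 : 1 - e M ∈ N.comap π :=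
        (Ideal.mk_ker.symm.le.trans (Ideal.comap_mono bot_le)) (Ideal.mem_span_singleton_self _)
      have := add_mem h1 h2
      rwa [add_sub_cancel] at this
    rw [← congrArg MaximalSpectrum.asIdeal this,
      Ideal.map_comap_of_surjective π Ideal.Quotient.mk_surjective]
  haveI : IsLocalRing (R ⧸ Ideal.span {1 - e M}) :=
    IsLocalRing.of_unique_max_ideal ⟨_, hmM, fun N hN => huq N hN⟩
  refine ⟨inferInstance, ?_⟩
  haveI : IsAdicComplete K (R ⧸ Ideal.span {1 - e M}) := Compl.isAdicComplete_of_finite K _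
  haveI : IsAdicComplete (K.map π) (R ⧸ Ideal.span {1 - e M}) :=
    (IsAdicComplete.map_algebraMap_iff K (R ⧸ Ideal.span {1 - e M})).2 inferInstance
  haveI : IsArtinianRing ((R ⧸ Ideal.span {1 - e M}) ⧸ K.map π) :=
    (Ideal.quotientMap_surjective (f := π) (I := K.map π) (J := K) (H := Ideal.le_comap_map)
      Ideal.Quotient.mk_surjective).isArtinianRing
  have hKle : K.map π ≤ IsLocalRing.maximalIdeal (R ⧸ Ideal.span {1 - e M}) :=
    (IsAdicComplete.le_jacobson_bot (K.map π)).trans (IsLocalRing.jacobson_eq_maximalIdeal ⊥ bot_ne_top).le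
  obtain ⟨N, hN⟩ := IsArtinianRing.isNilpotent_jacobson_bot (R := (R ⧸ Ideal.span {1 - e M}) ⧸ K.map π)
  have hpow : IsLocalRing.maximalIdeal (R ⧸ Ideal.span {1 - e M}) ^ N ≤ K.map π := by
    rw [← Ideal.mk_ker (I := K.map π), ← Ideal.map_eq_bot_iff_le_ker, Ideal.map_pow, eq_bot_iff]
    refine le_trans (Ideal.pow_right_mono ?_ N) hN.le
    refine le_sInf fun m hm => ?_
    haveI := hm.2
    rw [Ideal.map_le_iff_le_comap]
    exact (IsLocalRing.eq_maximalIdeal (Ideal.comap_isMaximal_of_surjective _ Ideal.Quotient.mk_surjective)).ge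
  exact ⟨Compl.isAdicComplete_of_le_of_pow_le _ hKle hpow, hKle, N, hpow⟩

/-- Morphisms out of a complete semilocal Noetherian ring are compatible systems. -/
lemma semilocal_ext_and_lift (R : Type u) [CommRing R] [IsNoetherianRing R] (K : Ideal R)
    [IsAdicComplete K R] [IsArtinianRing (R ⧸ K)] (I : ℕ → Ideal R) (hI : ∀ n, I n = K ^ n)
    (hmono : ∀ n, I (n + 1) ≤ I n) (X : Scheme.{u}) :
    (∀ f g : Spec (CommRingCat.of R) ⟶ X,
      (∀ n : ℕ, Spec.map (CommRingCat.ofHom (Ideal.Quotient.mk (I n))) ≫ f =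
        Spec.map (CommRingCat.ofHom (Ideal.Quotient.mk (I n))) ≫ g) → f = g) ∧
    (∀ u : (n : ℕ) → (Spec (CommRingCat.of (R ⧸ I n)) ⟶ X),
      (∀ n : ℕ, Spec.map (CommRingCat.ofHom (Ideal.Quotient.factor (hmono n))) ≫ u (n + 1) = u n) →
      ∃ f : Spec (CommRingCat.of R) ⟶ X,
        ∀ n : ℕ, Spec.map (CommRingCat.ofHom (Ideal.Quotient.mk (I n))) ≫ f = u n) := by
  classical
  obtain ⟨Idx, hι, e, he, hloc⟩ := exists_idempotents R K
  choose hl hcpl hKn N hN using hloc
  let n' : ∀ i, Ideal (R ⧸ Ideal.span {1 - e i}) := fun i => IsLocalRing.maximalIdeal _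
  have hkill : ∀ i k, I k ≤ RingHom.ker ((Ideal.Quotient.mk (n' i ^ k)).comp
      (Ideal.Quotient.mk (Ideal.span {1 - e i}))) := by
    intro i k
    rw [← RingHom.comap_ker, Ideal.mk_ker, ← Ideal.map_le_iff_le_comap, hI, Ideal.map_pow]
    exact Ideal.pow_right_mono (hKn i) k
  let ρ : ∀ i k, R ⧸ I k →+* (R ⧸ Ideal.span {1 - e i}) ⧸ n' i ^ k :=
    fun i k => Ideal.Quotient.lift (I k) _ fun x hx => hkill i k hx
  constructor
  · intro f g hfg
    refine idem_hom_ext he fun i => ?_
    refine (S8384.result (R ⧸ Ideal.span {1 - e i}) X).1 _ _ fun k => ?_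
    have hsq : CommRingCat.ofHom (Ideal.Quotient.mk (Ideal.span {1 - e i})) ≫
        CommRingCat.ofHom (Ideal.Quotient.mk (n' i ^ k)) =
        CommRingCat.ofHom (Ideal.Quotient.mk (I k)) ≫ CommRingCat.ofHom (ρ i k) := by
      ext x; rfl
    rw [← Category.assoc, ← Category.assoc, ← Spec.map_comp, hsq, Spec.map_comp, Category.assoc,
      Category.assoc, hfg k]
  · intro u hu
    have hle : ∀ {a b : ℕ}, a ≤ b → I b ≤ I a := fun {a b} h => antitone_nat_of_succ_le hmono h
    have hu' : ∀ a b (h : a ≤ b),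
        Spec.map (CommRingCat.ofHom (Ideal.Quotient.factor (hle h))) ≫ u b = u a := by
      intro a b h
      induction b, h using Nat.le_induction with
      | base =>
        have : CommRingCat.ofHom (Ideal.Quotient.factor (hle (le_refl a))) = 𝟙 _ := by
          ext x; simp
        rw [this, Spec.map_id, Category.id_comp]
      | succ k hk ih =>
        have : CommRingCat.ofHom (Ideal.Quotient.factor (hle (hk.trans (Nat.le_succ k)))) =
            CommRingCat.ofHom (Ideal.Quotient.factor (hmono k)) ≫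
              CommRingCat.ofHom (Ideal.Quotient.factor (hle hk)) := by
          ext x; simp
        rw [this, Spec.map_comp, Category.assoc, hu k, ih]
    have hv : ∀ i, ∃ f : Spec (CommRingCat.of (R ⧸ Ideal.span {1 - e i})) ⟶ X,
        ∀ k, Spec.map (CommRingCat.ofHom (Ideal.Quotient.mk (n' i ^ k))) ≫ f =
          Spec.map (CommRingCat.ofHom (ρ i k)) ≫ u k := by
      intro i
      refine (S8384.result (R ⧸ Ideal.span {1 - e i}) X).2
        (fun k => Spec.map (CommRingCat.ofHom (ρ i k)) ≫ u k) fun k => ?_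
      have hsq : CommRingCat.ofHom (ρ i (k + 1)) ≫ CommRingCat.ofHom (Ideal.Quotient.factor
          (Ideal.pow_le_pow_right (I := n' i) (Nat.le_succ k))) =
          CommRingCat.ofHom (Ideal.Quotient.factor (hmono k)) ≫ CommRingCat.ofHom (ρ i k) := by
        ext x; rfl
      rw [← Category.assoc, ← Spec.map_comp, hsq, Spec.map_comp, Category.assoc, hu k]
    choose fi hfi using hv
    obtain ⟨F, hF⟩ := idem_exists_desc he fi
    refine ⟨F, fun k => ?_⟩
    refine idem_hom_ext (he.map (Ideal.Quotient.mk (I k))) fun i => ?_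
    let q := Ideal.Quotient.mk (Ideal.span {(1 : R ⧸ I k) - Ideal.Quotient.mk (I k) (e i)})
    let σ : R ⧸ Ideal.span {1 - e i} →+*
        (R ⧸ I k) ⧸ Ideal.span {(1 : R ⧸ I k) - Ideal.Quotient.mk (I k) (e i)} :=
      Ideal.Quotient.lift _ (q.comp (Ideal.Quotient.mk (I k))) fun x hx => by
        obtain ⟨c, rfl⟩ := Ideal.mem_span_singleton'.mp hx
        change q (Ideal.Quotient.mk (I k) (c * (1 - e i))) = 0
        refine Ideal.Quotient.eq_zero_iff_mem.mpr ?_
        rw [map_mul, map_sub, map_one]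
        exact Ideal.mul_mem_left _ _ (Ideal.mem_span_singleton_self _)
    let j := max (N i * k) k
    have hj : n' i ^ j ≤ RingHom.ker σ := by
      refine (Ideal.pow_le_pow_right (le_max_left _ _)).trans ?_
      rw [pow_mul]
      refine (Ideal.pow_right_mono (hN i) k).trans ?_
      rw [← Ideal.map_pow, ← hI, Ideal.map_le_iff_le_comap]
      intro x hx
      change q (Ideal.Quotient.mk (I k) x) = 0
      rw [Ideal.Quotient.eq_zero_iff_mem.mpr hx, map_zero]
    let τ := Ideal.Quotient.lift (n' i ^ j) σ fun x hx => hj hx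
    have h1 : CommRingCat.ofHom (Ideal.Quotient.mk (I k)) ≫ CommRingCat.ofHom q =
        CommRingCat.ofHom (Ideal.Quotient.mk (Ideal.span {1 - e i})) ≫
          CommRingCat.ofHom (Ideal.Quotient.mk (n' i ^ j)) ≫ CommRingCat.ofHom τ := by
      ext x; rfl
    have h2 : CommRingCat.ofHom (ρ i j) ≫ CommRingCat.ofHom τ =
        CommRingCat.ofHom (Ideal.Quotient.factor (hle (le_max_right _ _ : k ≤ j))) ≫
          CommRingCat.ofHom q := by
      ext x; rfl
    rw [← Category.assoc, ← Spec.map_comp, h1]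
    simp only [Spec.map_comp, Category.assoc]
    rw [hF i, hfi i j, ← Category.assoc, ← Spec.map_comp, h2, Spec.map_comp, Category.assoc, hu' k j (le_max_right _ _)]


/-- Let A be a complete Noetherian local ring with maximal ideal m, S = Spec A, Sₙ = Spec(A/mⁿ), X =
Spec B a scheme finite over S (B a finite A-algebra) and Y an S-scheme. Then the canonical map
Hom_S(X, Y) → lim Hom_{Sₙ}(Xₙ, Yₙ), Xₙ = Spec(B/mⁿB), is bijective: two S-morphisms X → Y agreeing
on every Xₙ are equal, and every family of S-morphisms Xₙ → Y compatible with the closed immersions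
Xₙ → Xₙ₊₁ comes from an S-morphism X → Y. -/
theorem result (A : Type u) [CommRing A] [IsLocalRing A]
    [IsNoetherianRing A] [IsAdicComplete (IsLocalRing.maximalIdeal A) A] (B : Type u) [CommRing B] [Algebra A B]
    [Module.Finite A B] (Y : Over (Spec (CommRingCat.of A))) :
    (∀ f g : Spec (CommRingCat.of B) ⟶ Y.left, f ≫ Y.hom = Spec.map (CommRingCat.ofHom (algebraMap A B)) →
      g ≫ Y.hom = Spec.map (CommRingCat.ofHom (algebraMap A B)) →
      (∀ n : ℕ, Spec.map (CommRingCat.ofHom (Ideal.Quotient.mk (Ideal.map (algebraMap A B) ((IsLocalRing.maximalIdeal A) ^ n)))) ≫ f =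
        Spec.map (CommRingCat.ofHom (Ideal.Quotient.mk (Ideal.map (algebraMap A B) ((IsLocalRing.maximalIdeal A) ^ n)))) ≫ g) → f = g) ∧
    (∀ u : (n : ℕ) → (Spec (CommRingCat.of (B ⧸ (Ideal.map (algebraMap A B) ((IsLocalRing.maximalIdeal A) ^ n)))) ⟶ Y.left),
      (∀ n : ℕ, u n ≫ Y.hom =
        Spec.map (CommRingCat.ofHom ((Ideal.Quotient.mk (Ideal.map (algebraMap A B) ((IsLocalRing.maximalIdeal A) ^ n))).comp (algebraMap A B)))) →
      (∀ n : ℕ, Spec.map (CommRingCat.ofHom (Ideal.Quotient.factor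
          (Ideal.map_mono (Ideal.pow_le_pow_right (I := (IsLocalRing.maximalIdeal A)) (Nat.le_succ n))))) ≫ u (n + 1) = u n) →
      ∃ f : Spec (CommRingCat.of B) ⟶ Y.left, f ≫ Y.hom = Spec.map (CommRingCat.ofHom (algebraMap A B)) ∧
        ∀ n : ℕ, Spec.map (CommRingCat.ofHom (Ideal.Quotient.mk (Ideal.map (algebraMap A B) ((IsLocalRing.maximalIdeal A) ^ n)))) ≫ f = u n) := by
  haveI : IsNoetherianRing B := IsNoetherianRing.of_finite A B
  haveI : IsAdicComplete (IsLocalRing.maximalIdeal A) B := Compl.isAdicComplete_of_finite _ B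
  let K := Ideal.map (algebraMap A B) (IsLocalRing.maximalIdeal A)
  haveI : IsAdicComplete K B := (IsAdicComplete.map_algebraMap_iff _ B).2 inferInstance
  haveI : IsArtinianRing (B ⧸ K) := by
    haveI : (IsLocalRing.maximalIdeal A).IsMaximal := inferInstance
    letI : Field (A ⧸ IsLocalRing.maximalIdeal A) := Ideal.Quotient.field _
    haveI : Module.Finite (A ⧸ IsLocalRing.maximalIdeal A) (B ⧸ K) :=
      Module.Finite.of_restrictScalars_finite A _ _
    exact IsArtinianRing.of_finite (A ⧸ IsLocalRing.maximalIdeal A) (B ⧸ K)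
  have hI : ∀ n, Ideal.map (algebraMap A B) (IsLocalRing.maximalIdeal A ^ n) = K ^ n :=
    fun n => Ideal.map_pow _ _ n
  obtain ⟨hext, hlift⟩ := semilocal_ext_and_lift B K _ hI
    (fun n => Ideal.map_mono (Ideal.pow_le_pow_right (Nat.le_succ n))) Y.left
  refine ⟨fun f g _ _ h => hext f g h, fun u hu1 hu2 => ?_⟩
  obtain ⟨f, hf⟩ := hlift u hu2
  refine ⟨f, ?_, hf⟩
  refine (semilocal_ext_and_lift B K _ hI
    (fun n => Ideal.map_mono (Ideal.pow_le_pow_right (Nat.le_succ n))) _).1 _ _ fun n => ?_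
  rw [← Category.assoc, hf n, hu1 n, ← Spec.map_comp]
  rfl

end Groth.Agent.S8385
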