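import Groth.Statements.S5339
import Groth.Agent.Lib.LftDesc20.Group

set_option autoImplicit false
universe u
open CategoryTheory CategoryTheory.Limits MonoidalCategory CartesianMonoidalCategory MonObj GrpObj AlgebraicGeometry
open SGA3

namespace Groth.Agent.S5339

/-- Let A be a local artinian ring and G a flat A-group scheme (not assumed locally of finite type). If
G is locally quasi-finite and locally of finite type (resp. unramified, resp. smooth, resp. etale)
over A on some nonempty open subscheme, then G is locally quasi-finite and locally of finite type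
(resp. unramified, resp. smooth, resp. etale) over A. -/
theorem result (A : Type u) [CommRing A] [IsArtinianRing A] [IsLocalRing A] (G : Over (Spec (CommRingCat.of A))) [GrpObj G] [Flat G.hom]
    (W : G.left.Opens) (hW : (W : Set G.left).Nonempty) :
    (LocallyQuasiFinite (W.ι ≫ G.hom) → LocallyOfFiniteType (W.ι ≫ G.hom) → LocallyQuasiFinite G.hom ∧ LocallyOfFiniteType G.hom) ∧
    (FormallyUnramified (W.ι ≫ G.hom) → LocallyOfFinitePresentation (W.ι ≫ G.hom) →
      FormallyUnramified G.hom ∧ LocallyOfFinitePresentation G.hom) ∧
    (Smooth (W.ι ≫ G.hom) → Smooth G.hom) ∧ (Etale (W.ι ≫ G.hom) → Etale G.hom) := by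
  haveI : Subsingleton (Spec (CommRingCat.of A)) := ⟨fun x y => Subsingleton.elim (α := PrimeSpectrum A) x y⟩
  have htu : (toUnit G).left = G.hom := (Category.comp_id _).symm.trans (Over.w (toUnit G))
  have main : LocallyOfFiniteType (W.ι ≫ G.hom) → LocallyOfFiniteType G.hom := fun h =>
    Groth.Agent.LftDesc20.lft_of_open_artinian A G W hW
  refine ⟨fun h1 h2 => ?_, fun h1 h2 => ?_, fun h => ?_, fun h => ?_⟩
  · haveI := main h2
    haveI : LocallyOfFinitePresentation G.hom := inferInstance
    haveI : LocallyOfFiniteType (toUnit G).left := by rw [htu]; infer_instance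
    refine ⟨?_, inferInstance⟩
    rw [← htu] at h1 ⊢
    exact Groth.Agent.GrpAtPt20.locallyQuasiFinite_of_open (toUnit G) W hW h1
  · haveI := main inferInstance
    haveI : LocallyOfFinitePresentation G.hom := inferInstance
    haveI : LocallyOfFiniteType (toUnit G).left := by rw [htu]; infer_instance
    refine ⟨?_, inferInstance⟩
    rw [← htu] at h1 ⊢
    exact Groth.Agent.GrpAtPt20.formallyUnramified_of_open (toUnit G) W hW h1
  · haveI := main inferInstance
    haveI : LocallyOfFinitePresentation G.hom := inferInstance
    rw [← htu] at h ⊢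
    exact Groth.Agent.GrpAtPt20.smooth_of_open (toUnit G) W hW h
  · haveI := main inferInstance
    haveI : LocallyOfFinitePresentation G.hom := inferInstance
    rw [← htu] at h ⊢
    exact Groth.Agent.GrpAtPt20.etale_of_open (toUnit G) W hW h


end Groth.Agent.S5339
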