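import Groth.Statements.S5318
import Groth.Agent.Lib.GrpUnr20.Basic
import Groth.Agent.S5339

set_option autoImplicit false
universe u
open CategoryTheory CategoryTheory.Limits MonoidalCategory CartesianMonoidalCategory MonObj GrpObj AlgebraicGeometry
open SGA3

namespace Groth.Agent.S5318

/-- (ii) ⟺ (iii) and, for G locally of finite presentation over S, (ii) ⟺ (iv): let G be an S-group
scheme. The unit section of G is an open immersion if and only if G is locally of finite
presentation over S on some open containing the unit section and every fibre G_s is unramified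
(formally unramified and locally of finite presentation) over κ(s). If G is locally of finite
presentation over S, the unit section is an open immersion if and only if G is unramified over S. -/
theorem result (S : Scheme.{u}) (G : Over S) [GrpObj G] :
    (IsOpenImmersion η[G].left ↔
      ((∃ W : G.left.Opens, (∀ p : ↥(𝟙_ (Over S)).left, η[G].left.base p ∈ W) ∧ LocallyOfFinitePresentation (W.ι ≫ G.hom)) ∧
        ∀ s : S, FormallyUnramified (G.hom.fiberToSpecResidueField s) ∧ LocallyOfFinitePresentation (G.hom.fiberToSpecResidueField s))) ∧
    (LocallyOfFinitePresentation G.hom → (IsOpenImmersion η[G].left ↔ FormallyUnramified G.hom)) := by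
  have key : IsOpenImmersion η[G].left → ∃ W : G.left.Opens,
      (∀ p : ↥(𝟙_ (Over S)).left, η[G].left.base p ∈ W) ∧ LocallyOfFinitePresentation (W.ι ≫ G.hom) := by
    intro h
    refine ⟨η[G].left.opensRange, fun p => ⟨p, rfl⟩, ?_⟩
    rw [← Scheme.Hom.isoOpensRange_inv_comp_assoc η[G].left, Over.w η[G]]
    haveI : IsIso η[G].left.isoOpensRange.inv := inferInstance
    exact (MorphismProperty.cancel_left_of_respectsIso @LocallyOfFinitePresentation _ _).2
      (inferInstanceAs (LocallyOfFinitePresentation (𝟙 S)))
  refine ⟨⟨fun h => ⟨key h, fun s => ?_⟩, fun ⟨⟨W, hW, hWfp⟩, hs⟩ => ?_⟩, fun hG => ⟨fun h => ?_, fun h => ?_⟩⟩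
  · let i₀ := S.fromSpecResidueField s
    let F := Over.pullback i₀
    letI : GrpObj (F.obj G) := Functor.grpObjObj
    haveI : IsOpenImmersion (η[F.obj G]).left := by
      rw [show η[F.obj G] = Functor.LaxMonoidal.ε F ≫ F.map η[G] from rfl, Over.comp_left]
      haveI : IsIso (Functor.LaxMonoidal.ε F).left :=
        inferInstanceAs (IsIso ((Over.forget _).map (Functor.Monoidal.εIso F).hom))
      haveI : IsOpenImmersion (F.map η[G]).left :=
        MorphismProperty.of_isPullback (Groth.Agent.GrpFin20.isPullback_map i₀ η[G]) h
      infer_instance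
    haveI : Flat (F.obj G).hom := inferInstance
    have art : ∀ (K : Type u) [Field K], IsArtinianRing K := fun K _ => inferInstance
    let e₀ := (η[F.obj G]).left
    have hι : e₀.opensRange.ι ≫ (F.obj G).hom = e₀.isoOpensRange.inv := by
      rw [← Scheme.Hom.isoOpensRange_inv_comp_assoc e₀, Over.w η[F.obj G]]
      exact Category.comp_id _
    exact (@Groth.Agent.S5339.result (S.residueField s) _ (art (S.residueField s)) inferInstance (F.obj G) _ _ e₀.opensRange
      ⟨_, IsLocalRing.closedPoint _, rfl⟩).2.1 (by rw [hι]; infer_instance) (by rw [hι]; infer_instance)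
  · haveI := hWfp
    haveI : FormallyUnramified (W.ι ≫ G.hom) :=
      Groth.Agent.GrpUnr20.formallyUnramified_of_fibres _ fun K _ a => by
        obtain ⟨y, φ, rfl⟩ : ∃ (y : S) (φ : S.residueField y ⟶ CommRingCat.of K),
            Spec.map φ ≫ S.fromSpecResidueField y = a :=
          ⟨_, _, Scheme.descResidueField_stalkClosedPointTo_fromSpecResidueField K S a⟩
        let r := Limits.pullback.fst G.hom (S.fromSpecResidueField y)
        have sq := ((IsPullback.of_hasPullback (Spec.map φ)
            ((r ⁻¹ᵁ W).ι ≫ Limits.pullback.snd G.hom (S.fromSpecResidueField y))).flip.paste_horiz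
          ((isPullback_morphismRestrict r W).paste_vert
            (IsPullback.of_hasPullback G.hom (S.fromSpecResidueField y)))).flip
        rw [← sq.isoPullback_inv_fst]
        refine (MorphismProperty.cancel_left_of_respectsIso @FormallyUnramified _ _).2 ?_
        refine MorphismProperty.pullback_fst _ _ ?_
        exact MorphismProperty.comp_mem @FormallyUnramified _ _ inferInstance (hs y).1
    let l : S ⟶ W.toScheme := IsOpenImmersion.lift W.ι η[G].left (by
      rintro _ ⟨p, rfl⟩
      rw [Scheme.Opens.range_ι]
      exact hW p)
    have hl : l ≫ W.ι = η[G].left := IsOpenImmersion.lift_fac _ _ _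
    haveI : IsOpenImmersion l := Groth.Agent.GrpUnr20.isOpenImmersion_section (W.ι ≫ G.hom) l (by
      rw [← Category.assoc, hl]; exact Over.w η[G])
    rw [← hl]
    infer_instance
  · haveI := h
    exact Groth.Agent.GrpUnr20.formallyUnramified_of_unit G
  · haveI := hG
    exact Groth.Agent.GrpUnr20.isOpenImmersion_unit G


end Groth.Agent.S5318
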