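import Groth.Statements.S19473
import Groth.Agent.Lib.AlgGrpBasic19.FibreIso
import Groth.Agent.Lib.AlgGrpBasic19.Basic

set_option autoImplicit false
universe u
open CategoryTheory CategoryTheory.Limits MonoidalCategory CartesianMonoidalCategory MonObj GrpObj AlgebraicGeometry
open AlgGrp

namespace Groth.Agent.S19473

/-- Let S be a scheme and G an S-group scheme whose structure morphism G → S is locally of finite type.
Then G → S is unramified — formally unramified, since it is locally of finite type — if and only if
the identity section S → G is an open immersion. (The separated and quasi-separated clauses of the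
published item are separate results.) -/
theorem result (S : Scheme.{u})
    (G : Over S) [GrpObj G] [LocallyOfFiniteType G.hom] :
    FormallyUnramified G.hom ↔ IsOpenImmersion η[G].left := by
  haveI hdiag : IsPullback (toUnit G).left (lift (𝟙 G) (𝟙 G)).left η[G].left
      (((fst G G)⁻¹ * snd G G : G ⊗ G ⟶ G)).left := by
    suffices h0 : IsPullback (toUnit G) (lift (𝟙 G) (𝟙 G)) η[G] ((fst G G)⁻¹ * snd G G) from
      h0.map (Over.forget S)
    refine ⟨⟨?_⟩, ⟨Limits.PullbackCone.IsLimit.mk _ (fun c => c.snd ≫ fst G G) (fun c => toUnit_unique _ _)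
      (fun c => ?_) (fun c m _ h2 => ?_)⟩⟩
    · rw [MonObj.comp_mul, GrpObj.comp_inv, lift_fst, lift_snd, inv_mul_cancel]; rfl
    · have h := c.condition
      rw [MonObj.comp_mul, GrpObj.comp_inv, Subsingleton.elim c.fst (toUnit _)] at h
      have h' : (c.snd ≫ fst G G)⁻¹ * (c.snd ≫ snd G G) = 1 := h.symm
      rw [inv_mul_eq_one] at h'
      apply CartesianMonoidalCategory.hom_ext
      · simp
      · simpa using h'
    · rw [← h2, Category.assoc, lift_fst, Category.comp_id]
  constructor
  · intro h
    haveI := h
    have hη : η[G].left ≫ G.hom = 𝟙 S := Over.w η[G]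
    let m : G.left ⟶ Limits.pullback G.hom G.hom :=
      Limits.pullback.lift (G.hom ≫ η[G].left) (𝟙 _) (by rw [Category.assoc, hη, Category.comp_id, Category.id_comp])
    have hm1 : m ≫ Limits.pullback.fst _ _ = G.hom ≫ η[G].left := Limits.pullback.lift_fst _ _ _
    have hm2 : m ≫ Limits.pullback.snd _ _ = 𝟙 _ := Limits.pullback.lift_snd _ _ _
    have sq : IsPullback η[G].left η[G].left m (Limits.pullback.diagonal G.hom) := by
      refine ⟨⟨?_⟩, ⟨Limits.PullbackCone.IsLimit.mk _ (fun c => c.fst ≫ G.hom) (fun c => ?_) (fun c => ?_)
        (fun c m' h1 _ => ?_)⟩⟩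
      · apply Limits.pullback.hom_ext <;> simp [hm1, hm2, reassoc_of% hη]
      · have e1 := congrArg (· ≫ Limits.pullback.fst _ _) c.condition
        have e2 := congrArg (· ≫ Limits.pullback.snd _ _) c.condition
        simp [hm1, hm2] at e1 e2
        rw [Category.assoc, e1, e2]
      · have e1 := congrArg (· ≫ Limits.pullback.fst _ _) c.condition
        simp [hm1] at e1
        simpa using e1
      · rw [← h1, Category.assoc]; exact ((congrArg (m' ≫ ·) hη).trans (Category.comp_id _)).symm
    exact MorphismProperty.of_isPullback (P := @IsOpenImmersion) sq.flip inferInstance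
  · intro h
    haveI : IsOpenImmersion (Limits.pullback.diagonal G.hom) := by
      have e : Limits.pullback.diagonal G.hom = (lift (𝟙 G) (𝟙 G) : G ⟶ G ⊗ G).left := by
        apply Limits.pullback.hom_ext
        · rw [Limits.pullback.diagonal_fst]; symm
          exact congrArg CommaMorphism.left (lift_fst (𝟙 G) (𝟙 G))
        · rw [Limits.pullback.diagonal_snd]; symm
          exact congrArg CommaMorphism.left (lift_snd (𝟙 G) (𝟙 G))
      rw [e]
      exact MorphismProperty.of_isPullback (P := @IsOpenImmersion) hdiag h
    infer_instance

end Groth.Agent.S19473
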