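import Groth.Statements.S17465
import Groth.Agent.Lib.TorusIsog19.Isogeny
-- import your own Groth.Agent.* helpers here

set_option autoImplicit false
universe u
open CategoryTheory MonoidalCategory CartesianMonoidalCategory MonObj GrpObj AlgebraicGeometry CategoryTheory.Limits
open AlgGrp

namespace Groth.Agent.S17465

set_option linter.style.haveILetI false
set_option backward.isDefEq.respectTransparency.types false
open CategoryTheory CategoryTheory.Limits CategoryTheory.MonoidalCategory CategoryTheory.CartesianMonoidalCategory CategoryTheory.MonObj AlgebraicGeometry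


/-- Let k be a field and f : G' → G an isogeny, i.e. a surjective homomorphism with finite kernel,
between smooth connected commutative affine k-group schemes of finite type. Then G' is a torus
exactly when G is one. (The published sentence draws this conclusion after treating surjective
homomorphisms and isogenies together; for a surjective homomorphism with positive-dimensional kernel
only the implication from G' to G survives — the projection of the product of the multiplicative and
the additive group onto the multiplicative group is surjective with a non-torus source — so the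
equivalence is stated for isogenies, the case the dimension count in the printed proof covers. The
companion clause about unipotence is not stated.) -/
theorem result (k : Type u) [Field k]
    (G' G : Over (Spec (CommRingCat.of k))) [GrpObj G'] [GrpObj G] [IsCommMonObj G'] [IsCommMonObj G]
    [Smooth G'.hom] [QuasiCompact G'.hom] [ConnectedSpace ↥G'.left] [IsAffine G'.left]
    [Smooth G.hom] [QuasiCompact G.hom] [ConnectedSpace ↥G.left] [IsAffine G.left]
    (f : G' ⟶ G) [IsMonHom f] (hf : SGA7.IsIsogenyOver f) :
    Red.IsTorus G' ↔ Red.IsTorus G := by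
  classical
  haveI := hf.1
  obtain ⟨N, i, hi⟩ : ∃ (N : Over (Spec (CommRingCat.of k))) (i : N ⟶ G'), AlgGrp.IsKernel i f := by
    refine ⟨pullback f η[G], pullback.fst f η[G], ?_⟩
    have h := IsPullback.of_hasPullback f η[G]
    rwa [toUnit_unique (pullback.snd f η[G]) (toUnit _)] at h
  haveI : IsFinite N.hom := hf.2 N i hi
  let K := AlgebraicClosure k
  let φ := Spec.map (CommRingCat.ofHom (algebraMap k K))
  haveI : IsAffine (Red.bc φ G').left := BorelFix21.isAffine_bc _ G'
  haveI : Smooth (Red.bc φ G').hom := BorelFix21.smooth_bc _ G'
  haveI : ConnectedSpace (Red.bc φ G').left := BorelFix21.connectedSpace_bc _ G'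
  haveI : IsAffine (Red.bc φ G).left := BorelFix21.isAffine_bc _ G
  haveI : Smooth (Red.bc φ G).hom := BorelFix21.smooth_bc _ G
  haveI : ConnectedSpace (Red.bc φ G).left := BorelFix21.connectedSpace_bc _ G
  haveI : Surjective ((Over.pullback φ).map f).left := by
    refine MorphismProperty.of_isPullback (P := @Surjective)
      (IsPullback.of_right (h₁₁ := ((Over.pullback φ).map f).left) (h₁₂ := pullback.snd G.hom φ)
        (v₁₁ := pullback.fst G'.hom φ) (v₁₂ := pullback.fst G.hom φ) (v₁₃ := φ)
        (h₂₁ := f.left) (h₂₂ := G.hom) ?_ ?_ (IsPullback.of_hasPullback G.hom φ).flip).flip hf.1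
    · have := (IsPullback.of_hasPullback G'.hom φ).flip
      erw [pullback.lift_snd]
      simpa using this
    · erw [pullback.lift_fst]
  have key := TorusIsog19.isTorus_iff (G' := Red.bc φ G') (G := Red.bc φ G) ((Over.pullback φ).map f) (by
    haveI : Finite (TorusIsog19.geo k K ⟶ N) := TorusIsog19.finite_pts_of_isFinite K
    have hlift : ∀ x : {x : VecGrp.pt K K ⟶ Red.bc φ G' | x ≫ (Over.pullback φ).map f = 1},
        ∃ n : TorusIsog19.geo k K ⟶ N, n ≫ i = DiagGL.fl φ G' x.1 := fun x => by
      refine ⟨hi.lift (DiagGL.fl φ G' x.1) (toUnit _) ?_, hi.lift_fst _ _ _⟩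
      rw [← TorPts21.fl_comp_map, show x.1 ≫ (Over.pullback φ).map f = 1 from x.2, MTRigid29.fl_one,
        MonObj.one_eq_one, MonObj.comp_one]
    choose n hn using hlift
    exact @Set.toFinite _ _ (Finite.of_injective n fun x y e =>
      Subtype.ext (DiagGL.fl_injective φ G' (by rw [← hn, ← hn, e]))))
  exact ⟨fun h => TorPts21.isTorus_of_bc φ (key.1 (TorPts21.isTorus_bc φ h)),
    fun h => TorPts21.isTorus_of_bc φ (key.2 (TorPts21.isTorus_bc φ h))⟩

end Groth.Agent.S17465
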