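import Groth.Statements.S16113
import Groth.Agent.Lib.UnitsRos.Affine
import Groth.Agent.Lib.UnitsFG.Global
import Mathlib.AlgebraicGeometry.Noetherian
import Mathlib.LinearAlgebra.FreeModule.PID

set_option autoImplicit false
universe u
open CategoryTheory MonoidalCategory CartesianMonoidalCategory MonObj GrpObj AlgebraicGeometry CategoryTheory.Limits
open AlgGrp

namespace Groth.Agent.S16113

/-- Over an algebraically closed field k, let X be an irreducible variety (an integral separated
k-scheme of finite type) and R = Γ(X, O_X). Then the quotient of the unit group R^× by the subgroup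
k^× of nonzero constants is a free abelian group of finite rank: for some n there is a surjective
group homomorphism from R^× onto ℤⁿ (written multiplicatively) whose kernel is exactly the image of
k^× under the structure map k → R. -/
theorem result (k : Type u) [Field k] [IsAlgClosed k]
    (X : Over (Spec (CommRingCat.of k))) [IsIntegral X.left] [IsSeparated X.hom] [LocallyOfFiniteType X.hom] [QuasiCompact X.hom] :
    ∃ (n : ℕ) (v : (Γ(X.left, ⊤))ˣ →* Multiplicative (Fin n → ℤ)), Function.Surjective v ∧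
      v.ker = (Units.map (((Scheme.ΓSpecIso (CommRingCat.of k)).inv ≫ X.hom.appTop).hom : k →* Γ(X.left, ⊤))).range := by
  classical
  haveI : IsNoetherianRing k := inferInstance
  obtain ⟨J, _, φ, hφ⟩ := Groth.Agent.UnitsFG.exists_hom_global X.hom
    (by simpa [irreducibleComponents_eq_singleton] using Set.finite_singleton _)
  letI := (Groth.Agent.UnitsFG.globalMap X.hom).toAlgebra
  let C : kˣ →* (Γ(X.left, ⊤))ˣ := Units.map (algebraMap k Γ(X.left, ⊤) : k →* Γ(X.left, ⊤))
  have hC : ∀ c, φ (C c) = 1 := by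
    intro c
    refine Multiplicative.toAdd.injective (funext fun i => ?_)
    by_contra hne
    set v : ℤ := Multiplicative.toAdd (φ (C c)) i with hv
    obtain ⟨z, hz⟩ := IsAlgClosed.exists_pow_nat_eq (c : k) (n := v.natAbs + 1) (by omega)
    have hz0 : z ≠ 0 := fun h => c.ne_zero (by rw [← hz, h, zero_pow (by omega)])
    have hd : (Units.mk0 z hz0) ^ (v.natAbs + 1) = c := Units.ext (by simpa using hz)
    have h1 : v = (v.natAbs + 1 : ℕ) • (Multiplicative.toAdd (φ (C (Units.mk0 z hz0))) i) := by
      rw [hv]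
      conv_lhs => rw [← hd, map_pow, map_pow, toAdd_pow, Pi.smul_apply]
    have h2 : ((v.natAbs + 1 : ℕ) : ℤ) ∣ v := ⟨_, by rw [nsmul_eq_mul] at h1; exact h1⟩
    have h3 := Int.natAbs_dvd_natAbs.2 h2
    rw [Int.natAbs_natCast] at h3
    exact hne (Int.natAbs_eq_zero.1 (Nat.eq_zero_of_dvd_of_lt h3 (Nat.lt_succ_self _)))
  let N : Submodule ℤ (J → ℤ) := AddSubgroup.toIntSubmodule (MonoidHom.range φ).toAddSubgroup'
  obtain ⟨n, b⟩ := Submodule.basisOfPid (Pi.basisFun ℤ J) N
  have hmem : ∀ u, Multiplicative.toAdd (φ u) ∈ N := fun u => ⟨u, rfl⟩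
  let v : (Γ(X.left, ⊤))ˣ →* Multiplicative (Fin n → ℤ) :=
    MonoidHom.mk' (fun u => Multiplicative.ofAdd (b.equivFun ⟨Multiplicative.toAdd (φ u), hmem u⟩)) fun u w => by
      rw [← ofAdd_add, ← map_add]
      simp only [map_mul, toAdd_mul]
      rfl
  refine ⟨n, v, fun w => ?_, ?_⟩
  · obtain ⟨u, hu⟩ := (b.equivFun.symm (Multiplicative.toAdd w)).2
    refine ⟨u, Multiplicative.toAdd.injective ?_⟩
    show b.equivFun ⟨Multiplicative.toAdd (φ u), hmem u⟩ = _
    rw [show (⟨Multiplicative.toAdd (φ u), hmem u⟩ : N) = b.equivFun.symm (Multiplicative.toAdd w) from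
      Subtype.ext (show Multiplicative.toAdd (φ u) = _ by rw [hu]; rfl), LinearEquiv.apply_symm_apply]
  · ext u
    have hk : v u = 1 ↔ φ u = 1 := by
      show Multiplicative.ofAdd (b.equivFun _) = Multiplicative.ofAdd 0 ↔ _
      rw [Equiv.apply_eq_iff_eq, map_eq_zero_iff _ b.equivFun.injective, Submodule.mk_eq_zero]
      exact toAdd_eq_zero
    rw [MonoidHom.mem_ker, hk]
    constructor
    · intro h
      have hi : IsIntegral k (u : Γ(X.left, ⊤)) := hφ u h
      obtain ⟨c, hc⟩ := Groth.Agent.UnitsRos.exists_const hi.isAlgebraic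
      have hc0 : c ≠ 0 := fun h0 => u.ne_zero (by rw [← hc, h0, map_zero])
      exact ⟨Units.mk0 c hc0, Units.ext hc⟩
    · rintro ⟨c, rfl⟩
      exact hC c

end Groth.Agent.S16113
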