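import Groth.Statements.S9559
import Groth.Agent.Lib.EtSplitH7.Main
import Mathlib.AlgebraicGeometry.Limits

set_option autoImplicit false
open CategoryTheory CategoryTheory.Limits AlgebraicGeometry Opposite
universe u
open EtLocal

namespace Groth.Agent.S9559

/-- A finite étale morphism f : X ⟶ S becomes, after base change to a suitable étale neighbourhood (U,
u) of any point s of S, a finite disjoint union of copies of U: X_U is isomorphic over U to a finite
coproduct of schemes V_j each of which maps isomorphically onto U. -/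
theorem result {X S : Scheme.{u}} (f : X ⟶ S) [IsFinite f] [Etale f] (s : S) :
    ∃ (U : Scheme.{u}) (g : U ⟶ S) (_ : AlgebraicGeometry.Etale g) (u : U) (_ : g.base u = s)
      (n : ℕ) (V : Fin n → Scheme.{u}) (c : ∀ j, V j ⟶ U) (_ : ∀ j, IsIso (c j))
      (e : (∐ V) ≅ pullback f g), ∀ j, Sigma.ι V j ≫ e.hom ≫ pullback.snd f g = c j := by
  classical
  haveI hfib : Finite (f ⁻¹' {s}) := (f.finite_preimage_singleton s).to_subtype
  let ix := Finite.equivFin (f ⁻¹' {s})
  let x : Fin (Nat.card (f ⁻¹' {s})) → ↥X := fun i => (ix.symm i).1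
  have hinj : Function.Injective x := fun i j h => ix.symm.injective (Subtype.ext h)
  have hs : ∀ i, f (x i) = s := fun i => (ix.symm i).2
  haveI : Etale ((⊤ : X.Opens).ι ≫ f) := inferInstance
  obtain ⟨U, g, u, hg, hgu, K, hK, W, V, hcov, hWV, hVV, hV, hW⟩ :=
    Groth.Agent.EtSplitH7.exists_decomp (MorphismProperty.isomorphisms Scheme.{u})
      (fun e (he : IsIso e) => inferInstance) f s x
      (Groth.Agent.EtSplitH7.exists_nbhd (MorphismProperty.isomorphisms Scheme.{u}) f s x hinj hs ⊤
        (fun i => trivial) fun U g W'' hfin v huniq hpi => by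
          haveI := hfin
          haveI : Etale (pullback.snd ((⊤ : X.Opens).ι ≫ f) g) := MorphismProperty.pullback_snd _ _ inferInstance
          exact Groth.Agent.EtSplitH7.exists_isIso_restrict _ v huniq hpi)
  haveI := hg
  have hWc : IsClosed (W : Set ↥(pullback f g)) := by
    have e : (W : Set ↥(pullback f g)) = ((⨆ k, V k : (pullback f g).Opens) : Set ↥(pullback f g))ᶜ := by
      ext z
      refine ⟨fun hz hz' => ?_, fun hz => ?_⟩
      · obtain ⟨k, hk⟩ := TopologicalSpace.Opens.mem_iSup.1 hz'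
        exact (disjoint_iff_inf_le.1 (hWV k)) ⟨hz, hk⟩
      · exact (show z ∈ W ⊔ ⨆ k, V k from hcov ▸ trivial).resolve_right hz
    rw [e]
    exact (⨆ k, V k : (pullback f g).Opens).2.isClosed_compl
  haveI : IsFinite (pullback.snd f g) := MorphismProperty.pullback_snd _ _ inferInstance
  let N : U.Opens := ⟨(pullback.snd f g '' (W : Set ↥(pullback f g)))ᶜ,
    ((pullback.snd f g).isClosedMap _ hWc).isOpen_compl⟩
  have hu : u ∈ N := by
    rintro ⟨w, hw, hwu⟩
    have hfw : f (pullback.fst f g w) = s := by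
      rw [← Scheme.Hom.comp_apply, pullback.condition, Scheme.Hom.comp_apply, hwu, hgu]
    refine hW w (ix ⟨pullback.fst f g w, hfw⟩) hw hwu ?_
    show _ = (ix.symm (ix _)).1
    rw [Equiv.symm_apply_apply]
  let g' := N.ι ≫ g
  let bc := Groth.Agent.Weight.bcMap (IsPullback.of_hasPullback f g) (IsPullback.of_hasPullback f g') N.ι rfl
  have hpb := Groth.Agent.Weight.isPullback_bcMap (IsPullback.of_hasPullback f g) (IsPullback.of_hasPullback f g') N.ι rfl
  let eK := Finite.equivFin K
  let V' : Fin (Nat.card K) → (pullback f g').Opens := fun j => bc ⁻¹ᵁ V (eK.symm j)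
  have hiso : ∀ j, IsIso ((V' j).ι ≫ pullback.snd f g') := fun j =>
    MorphismProperty.of_isPullback (P := MorphismProperty.isomorphisms Scheme.{u})
      ((isPullback_morphismRestrict bc (V (eK.symm j))).paste_vert hpb) (hV _).1
  obtain ⟨hc⟩ := nonempty_isColimit_cofanMk_of (fun j => (V' j).ι) (by
    rw [eq_top_iff]
    intro z _
    have h1 : pullback.snd f g (bc z) ∈ N := by
      rw [← Scheme.Hom.comp_apply, Groth.Agent.Weight.bcMap_snd, Scheme.Hom.comp_apply]
      exact ((pullback.snd f g') z).2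
    have h2 : bc z ∈ W ⊔ ⨆ k, V k := hcov ▸ trivial
    obtain ⟨k, hk⟩ := TopologicalSpace.Opens.mem_iSup.1 (h2.resolve_left fun hz => h1 ⟨_, hz, rfl⟩)
    refine TopologicalSpace.Opens.mem_iSup.2 ⟨eK k, ?_⟩
    rw [Scheme.Opens.opensRange_ι]
    show bc z ∈ V (eK.symm (eK k))
    rwa [Equiv.symm_apply_apply]) (fun i j hij => by
    simp only [Function.onFun, Scheme.Opens.opensRange_ι, disjoint_iff_inf_le]
    rintro z ⟨hz, hz'⟩
    exact (disjoint_iff_inf_le.1 (hVV _ _ fun h => hij (eK.symm.injective h))) (show bc z ∈ V (eK.symm i) ⊓ V (eK.symm j) from ⟨hz, hz'⟩))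
  refine ⟨N, g', inferInstance, ⟨u, hu⟩, hgu, Nat.card K, fun j => (V' j).toScheme,
    fun j => (V' j).ι ≫ pullback.snd f g', hiso,
    (colimit.isColimit _).coconePointUniqueUpToIso hc, fun j => ?_⟩
  rw [← Category.assoc]
  exact congrArg (· ≫ pullback.snd f g')
    (IsColimit.comp_coconePointUniqueUpToIso_hom (colimit.isColimit _) hc ⟨j⟩)

end Groth.Agent.S9559
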