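import Groth.Statements.S9700
import Groth.Agent.Lib.ValSq12.Dense


set_option autoImplicit false
universe u
set_option linter.style.haveILetI false
open CategoryTheory CategoryTheory.Limits AlgebraicGeometry
open Mor

namespace Groth.Agent.S9700

/-- Let f : X ⟶ S and h : U ⟶ X be quasi-compact with h(U) dense in X. Suppose each valuative square
over f, whose map Spec K ⟶ X factors through h, has a unique diagonal lift. Then f is universally
closed, and f is also separated provided it is quasi-separated. -/
theorem result {U X S : Scheme.{u}} (f : X ⟶ S) (h : U ⟶ X)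
    [QuasiCompact f] [QuasiCompact h] (hd : DenseRange h.base)
    (H : ∀ sq : ValuativeCommSq f, (∃ i : Spec (.of sq.K) ⟶ U, i ≫ h = sq.i₁) →
      Nonempty (Unique sq.commSq.LiftStruct)) :
    UniversallyClosed f ∧ (QuasiSeparated f → IsSeparated f) := by
  refine ⟨UniversallyClosed.of_valuativeCriterion f
    (fun sq => ValSq12.exists_lift_of_dense f h hd H sq), fun hqs => ?_⟩
  haveI := hqs
  haveI : QuasiCompact (pullback.diagonal f) := hqs.1
  haveI : UniversallyClosed (pullback.diagonal f) := by
    refine UniversallyClosed.of_valuativeCriterion _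
      (fun sq => ValSq12.exists_lift_of_dense (pullback.diagonal f) h hd (fun sq hi => ?_) sq)
    obtain ⟨R, K, i₁, i₂, ⟨w⟩⟩ := sq
    have hd1 : i₁ = Spec.map (CommRingCat.ofHom (algebraMap R K)) ≫ i₂ ≫ pullback.fst f f := by
      rw [← Category.assoc, ← w, Category.assoc, pullback.diagonal_fst, Category.comp_id]
    have hd2 : i₁ = Spec.map (CommRingCat.ofHom (algebraMap R K)) ≫ i₂ ≫ pullback.snd f f := by
      rw [← Category.assoc, ← w, Category.assoc, pullback.diagonal_snd, Category.comp_id]
    have w' : i₁ ≫ f = Spec.map (CommRingCat.ofHom (algebraMap R K)) ≫ (i₂ ≫ pullback.fst f f ≫ f) := by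
      rw [hd1]; simp only [Category.assoc]
    obtain ⟨hU⟩ := H { R := R, K := K, i₁ := i₁, i₂ := i₂ ≫ pullback.fst f f ≫ f, commSq := ⟨w'⟩ } hi
    haveI := hU
    have hab : i₂ ≫ pullback.fst f f = i₂ ≫ pullback.snd f f :=
      congrArg CommSq.LiftStruct.l (Subsingleton.elim
        (CommSq.LiftStruct.mk (sq := (⟨w'⟩ : CommSq _ _ f _)) (i₂ ≫ pullback.fst f f) hd1.symm
          (Category.assoc _ _ _))
        (CommSq.LiftStruct.mk (sq := (⟨w'⟩ : CommSq _ _ f _)) (i₂ ≫ pullback.snd f f) hd2.symm
          (by rw [Category.assoc, pullback.condition])))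
    refine ⟨{ default := ⟨i₂ ≫ pullback.fst f f, hd1.symm, ?_⟩, uniq := fun l => ?_ }⟩
    · apply pullback.hom_ext
      · simp
      · simp [hab]
    · refine CommSq.LiftStruct.ext ((cancel_mono (pullback.diagonal f)).1 ?_)
      rw [l.fac_right]
      apply pullback.hom_ext
      · simp
      · simp [hab]
  refine ⟨IsClosedImmersion.of_isPreimmersion _ ?_⟩
  exact (pullback.diagonal f).isClosedMap.isClosed_range


end Groth.Agent.S9700
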