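import Groth.Statements.S6184
import Groth.Agent.Lib.BigSite16.Res
import Mathlib.CategoryTheory.Adjunction.Triple

set_option autoImplicit false
open CategoryTheory CategoryTheory.Limits AlgebraicGeometry Opposite
universe u
open BigSite

namespace Groth.Agent.S6184
set_option linter.style.haveILetI false
set_option backward.isDefEq.respectTransparency false
set_option backward.isDefEq.respectTransparency.types false
open CategoryTheory CategoryTheory.Limits AlgebraicGeometry in
theorem aux (X : Scheme.{u}) (A : Type*) [Category A]
    [((EtFppf.a X).sheafPushforwardContinuous A X.smallEtaleTopology (QuotSh.J Scheme.etalePrecoverage X)).IsRightAdjoint]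
    [∀ F : X.Etaleᵒᵖ ⥤ A, (EtFppf.a X).op.HasPointwiseRightKanExtension F] (G : Sheaf X.smallEtaleTopology A) :
    IsIso (((EtFppf.a X).sheafAdjunctionContinuous A X.smallEtaleTopology
      (QuotSh.J Scheme.etalePrecoverage X)).unit.app G) := by
  haveI : (EtFppf.a X).Full := inferInstanceAs (Scheme.Etale.forget X).Full
  haveI : (EtFppf.a X).Faithful := inferInstanceAs (Scheme.Etale.forget X).Faithful
  haveI : BigSite.AEtCocont Scheme.etalePrecoverage X := BigSite.aEtCocont_etale X
  let adj2 := (EtFppf.a X).sheafAdjunctionCocontinuous A X.smallEtaleTopology (QuotSh.J Scheme.etalePrecoverage X)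
  haveI : IsIso adj2.counit := by
    haveI : ∀ F, IsIso (adj2.counit.app F) := fun F => by
      haveI : IsIso ((sheafToPresheaf X.smallEtaleTopology A).map (adj2.counit.app F)) := by
        show IsIso (adj2.counit.app F).hom
        rw [Functor.sheafAdjunctionCocontinuous_counit_app_hom]
        infer_instance
      exact isIso_of_fully_faithful (sheafToPresheaf X.smallEtaleTopology A) _
    exact NatIso.isIso_of_isIso_app _
  let t : Adjunction.Triple _ _ _ :=
    { adj₁ := (EtFppf.a X).sheafAdjunctionContinuous A X.smallEtaleTopology (QuotSh.J Scheme.etalePrecoverage X)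
      adj₂ := adj2 }
  haveI : IsIso t.adj₁.unit := t.isIso_unit_iff_isIso_counit.2 (inferInstanceAs (IsIso adj2.counit))
  exact inferInstanceAs (IsIso (t.adj₁.unit.app G))


/-- Let X be a scheme, u the inclusion of the small etale site of X into the big etale site (X-schemes
with the etale topology), u_* restriction of sheaves along it and u^* its left adjoint. For every
sheaf of sets G and every abelian sheaf G on the small etale site, the unit G -> u_* u^* G is an
isomorphism (so u^* is fully faithful). Stated for sheaves of sets (first conjunct, with Mathlib's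
sheaf pullback along the inclusion) and for abelian sheaves (second conjunct, the prelude's
adjunction on the big etale site). -/
theorem result (X : Scheme.{u}) :
    (∀ G : EtDesc.Sh X, IsIso (((EtFppf.a X).sheafAdjunctionContinuous (Type (u + 1)) X.smallEtaleTopology
      (QuotSh.J Scheme.etalePrecoverage X)).unit.app G)) ∧
    (∀ G : EtCoh.Ab X, IsIso ((BigSite.piEtAdj Scheme.etalePrecoverage X).unit.app G)) := by
  exact ⟨fun G => aux X _ G, fun G => aux X _ G⟩

end Groth.Agent.S6184
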