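import Groth.Statements.S0071
import Groth.Agent.Lib.EtStalk.FiniteStalk

set_option autoImplicit false
open CategoryTheory CategoryTheory.Limits AlgebraicGeometry Opposite
universe u
open EtBase

namespace Groth.Agent.S0071

/-- Part (2) — higher direct images of an abelian étale sheaf along a finite morphism vanish in positive
degrees. -/
theorem result {X Y : Scheme.{u}} (f : X ⟶ Y) [IsFinite f] [EtCoh.BCCont f]
    (F : EtCoh.Ab X) (q : ℕ) (hq : 1 ≤ q) : IsZero ((EtCoh.Rpush f q).obj F) := by
  have := Groth.Agent.EtStalk.preservesFiniteColimits_push_finite f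
  let I : InjectiveResolution F := injectiveResolution F
  refine IsZero.of_iso ?_ (I.isoRightDerivedObj (EtCoh.push f) q)
  change IsZero (HomologicalComplex.homology _ q)
  rw [← HomologicalComplex.exactAt_iff_isZero_homology, HomologicalComplex.exactAt_iff]
  obtain ⟨m, rfl⟩ := Nat.exists_eq_add_one.2 hq
  exact ((I.cocomplex.exactAt_iff (m + 1)).1 (I.cocomplex_exactAt_succ m)).map (EtCoh.push f)

end Groth.Agent.S0071
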