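import Groth.Statements.S12238
import Groth.Agent.Lib.SmallBigBC16.Basic
import Groth.Agent.S0621
import Groth.Agent.S0071
import Groth.Agent.S6686
-- import your own Groth.Agent.* helpers here

set_option autoImplicit false
open CategoryTheory CategoryTheory.Limits AlgebraicGeometry Opposite
universe u
open BigSite

namespace Groth.Agent.S12238
set_option linter.style.haveILetI false
set_option backward.isDefEq.respectTransparency false
set_option backward.isDefEq.respectTransparency.types false

/-- Let f : T → S be a finite morphism of schemes and F an arbitrary abelian sheaf on the small étale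
site of T. Then for every q the abelian sheaves π_S⁻¹(R^q f_small,* F) and R^q f_big,*(π_T⁻¹ F) on
the big étale site of S are isomorphic, where π⁻¹ denotes pullback from the small to the big étale
site. Existence of an isomorphism only; this is what the comparison π_S⁻¹ Rf_small,* K = Rf_big,*
π_T⁻¹ K, valid for every complex K when f is finite, gives on cohomology sheaves for K = F placed in
degree 0. -/
theorem result {T S : Scheme.{u}} (f : T ⟶ S) [IsFinite f]
    (F : EtCoh.Ab T) (q : ℕ) :
    Nonempty ((BigSite.piEtPull Scheme.etalePrecoverage S).obj ((EtCoh.Rpush f q).obj F) ≅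
      (BigSite.RpushBig Scheme.etalePrecoverage f q).obj ((BigSite.piEtPull Scheme.etalePrecoverage T).obj F)) := by
  haveI : ∀ X : Scheme.{u}, IsIso (SmallBigBC16.piAdj AddCommGrpCat.{u + 1} X).unit := fun X => by
    haveI := fun G => (Groth.Agent.S6184.result X).2 G
    exact NatIso.isIso_of_isIso_app _
  obtain ⟨e⟩ := SmallBigBC16.nonempty_iso AddCommGrpCat.{u + 1} f fun V g F =>
    Groth.Agent.S0621.result f g _ _ (IsPullback.of_hasPullback f g) F
  cases q with
  | zero =>
    haveI : PreservesFiniteLimits (EtCoh.push f) :=
      haveI := (EtCoh.pullPushAdj f).isRightAdjoint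
      inferInstance
    haveI : PreservesFiniteLimits (BigSite.pushBig Scheme.etalePrecoverage f AddCommGrpCat.{u + 1}) :=
      haveI := (BigSite.bigAdj Scheme.etalePrecoverage f AddCommGrpCat.{u + 1}).isRightAdjoint
      inferInstance
    exact ⟨(BigSite.piEtPull Scheme.etalePrecoverage S).mapIso ((EtCoh.push f).rightDerivedZeroIsoSelf.app F) ≪≫
      e.app F ≪≫ ((BigSite.pushBig Scheme.etalePrecoverage f AddCommGrpCat.{u + 1}).rightDerivedZeroIsoSelf.app
        ((BigSite.piEtPull Scheme.etalePrecoverage T).obj F)).symm⟩
  | succ n =>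
    have hl : IsZero ((BigSite.piEtPull Scheme.etalePrecoverage S).obj ((EtCoh.Rpush f (n + 1)).obj F)) := by
      haveI := (BigSite.piEtAdj Scheme.etalePrecoverage S).isLeftAdjoint
      exact (BigSite.piEtPull Scheme.etalePrecoverage S).map_isZero (Groth.Agent.S0071.result f F (n + 1) (by omega))
    let Q := (BigSite.RpushBig Scheme.etalePrecoverage f (n + 1)).obj
      ((BigSite.piEtPull Scheme.etalePrecoverage T).obj F)
    have hr : IsZero Q := by
      rw [IsZero.iff_id_eq_zero]
      apply ObjectProperty.hom_ext
      apply NatTrans.ext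
      funext U
      obtain ⟨⟨V, ⟨⟨⟩⟩, g⟩⟩ := U
      haveI : IsFinite (pullback.snd f g) := inferInstance
      obtain ⟨i⟩ := Groth.Agent.S6686.result f g _ _ (IsPullback.of_hasPullback f g)
        ((BigSite.piEtPull Scheme.etalePrecoverage T).obj F) (n + 1)
      have hz := (Groth.Agent.S0071.result (pullback.snd f g) _ (n + 1) (by omega)).of_iso i
      let U₀ : V.Etale := MorphismProperty.Over.mk ⊤ (𝟙 V) (inferInstanceAs (Etale (𝟙 V)))
      have hz' := ((sheafToPresheaf _ AddCommGrpCat.{u + 1}) ⋙ (evaluation _ _).obj (op U₀)).map_isZero hz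
      exact (hz'.of_iso (Q.obj.mapIso (Over.isoMk (Iso.refl _) (Category.id_comp g).symm :
        Over.mk g ≅ (Over.map g).obj ((EtFppf.a V).obj U₀)).symm.op)).eq_of_src _ _
    exact ⟨hl.iso hr⟩
end Groth.Agent.S12238
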