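import Groth.Statements.S1379
import Groth.Agent.S1375
import Groth.Agent.Lib.SchBasic.Basic
import Mathlib.AlgebraicGeometry.ZariskisMainTheorem

set_option autoImplicit false
universe u
open FlatMor

set_option backward.isDefEq.respectTransparency.types false

namespace Groth.Agent.S1379

open AlgebraicGeometry CategoryTheory Limits in
/-- Let S₁ → S be flat, locally of finite presentation and surjective (an fppf cover by one morphism).
Then for every point s of S there are an étale morphism S' → S whose image contains s and a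
surjective, finite, flat morphism of finite presentation V → S' such that V → S factors through S₁
Zariski locally on V. -/
theorem result {S₁ S : Scheme.{u}} (g : S₁ ⟶ S) [Flat g] [LocallyOfFinitePresentation g] [Surjective g] (s : S) :
    ∃ (S' V : Scheme.{u}) (e : S' ⟶ S) (π : V ⟶ S'), Etale e ∧ s ∈ Set.range ⇑e ∧ Surjective π ∧ IsFinite π ∧ Flat π ∧ LocallyOfFinitePresentation π ∧
      ∀ v : ↑V, ∃ (W : V.Opens) (r : ↑W ⟶ S₁), v ∈ W ∧ r ≫ g = W.ι ≫ π ≫ e := by
  obtain ⟨T, h, _, _, _, _, href⟩ := Groth.Agent.S1375.result g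
  obtain ⟨t, rfl⟩ := (inferInstance : Surjective h).surj s
  obtain ⟨A, hA, htA, -⟩ := exists_isAffineOpen_mem_and_subset (X := S) (x := h t) (U := ⊤) trivial
  obtain ⟨W, r, htW, hr⟩ := href t
  obtain ⟨B, hB, htB, hBsub⟩ :=
    exists_isAffineOpen_mem_and_subset (X := T) (x := t) (U := h ⁻¹ᵁ A ⊓ W) ⟨htA, htW⟩
  have hBA : B ≤ h ⁻¹ᵁ A := fun x hx => (hBsub hx).1
  have hBW : B ≤ W := fun x hx => (hBsub hx).2
  have : IsAffine (B : Scheme.{u}) := hB
  have : IsAffine (A : Scheme.{u}) := hA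
  have : IsSeparated (B.ι ≫ h) := by
    rw [← Scheme.Hom.resLE_comp_ι h hBA]
    infer_instance
  obtain ⟨U, e, _, -, V, -, v, -, hfin, hv⟩ := exists_etale_isCompl_of_quasiFiniteAt (B.ι ≫ h)
    (x := (⟨t, htB⟩ : B)) (s := h t) rfl (Scheme.Hom.quasiFiniteAt _ _)
  let q := V.ι ≫ pullback.snd (B.ι ≫ h) e
  have : IsFinite q := hfin
  let O : U.Opens := ⟨Set.range q, q.isOpenMap.isOpen_range⟩
  let π : (V : Scheme.{u}) ⟶ (O : Scheme.{u}) := IsOpenImmersion.lift O.ι q (by rw [O.range_ι]; rfl)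
  have hπ : π ≫ O.ι = q := IsOpenImmersion.lift_fac _ _ _
  have : IsFinite (π ≫ O.ι) := hπ ▸ inferInstance
  have : Flat (π ≫ O.ι) := hπ ▸ inferInstance
  have : LocallyOfFinitePresentation (π ≫ O.ι) := hπ ▸ inferInstance
  refine ⟨O, V, O.ι ≫ e, π, inferInstance, ⟨π v, ?_⟩, ⟨fun o => ?_⟩, IsFinite.of_comp π O.ι,
    MorphismProperty.of_postcomp (W := @Flat) (W' := @IsOpenImmersion) π O.ι inferInstance inferInstance,
    Groth.Agent.SchBasic.locallyOfFinitePresentation_of_comp π O.ι, fun x => ?_⟩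
  · rw [← Scheme.Hom.comp_apply, ← Category.assoc, hπ]
    change (q ≫ e) v = _
    simp only [q, Category.assoc, ← pullback.condition]
    simp only [Scheme.Hom.comp_apply]
    change h (B.ι (pullback.fst (B.ι ≫ h) e v.1)) = h t
    rw [hv]
    rfl
  · obtain ⟨a, ha⟩ := o.2
    refine ⟨a, Subtype.ext ?_⟩
    rw [← hπ] at ha
    exact ha
  · refine ⟨⊤, (⊤ : V.toScheme.Opens).ι ≫ V.ι ≫ pullback.fst (B.ι ≫ h) e ≫ T.homOfLE hBW ≫ r, trivial, ?_⟩
    simp only [Category.assoc, hr, reassoc_of% hπ, q, Scheme.homOfLE_ι_assoc, pullback.condition]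

end Groth.Agent.S1379
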