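import Groth.Statements.S13423
import Groth.Agent.Lib.Branch14.UnrEtaleGlobal
import Groth.Agent.Lib.GrpUnr20.Basic
import Groth.Agent.Lib.FlatH4.SmoothFibres
import Groth.Agent.Lib.FinCondH13.Components
import Groth.Agent.Lib.AlgSpDecent.FiniteMin

set_option autoImplicit false
universe u
open CategoryTheory AlgebraicGeometry
open NeronHD

namespace Groth.Agent.S13423

open Limits TopologicalSpace

set_option linter.style.haveILetI false
set_option backward.isDefEq.respectTransparency.types false

theorem formallyUnramified_of_standardSmooth {K A : Type u} [Field K] [CommRing A] [Algebra K A]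
    (hsm : (algebraMap K A).IsStandardSmooth) [Module.Finite K A] : Algebra.FormallyUnramified K A := by
  rcases subsingleton_or_nontrivial A with hA | hA
  · exact ⟨subsingleton_of_forall_eq 0 fun x => by
      rw [← one_smul A x, Subsingleton.elim (1 : A) 0, zero_smul]⟩
  obtain ⟨n, g, hgC, hg⟩ := RingHom.IsStandardSmooth.exists_etale_mvPolynomial hsm
  letI := g.toAlgebra
  haveI : Algebra.Etale (MvPolynomial (Fin n) K) A := hg
  haveI : IsScalarTower K (MvPolynomial (Fin n) K) A := IsScalarTower.of_algebraMap_eq' hgC.symm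
  have hinj : Function.Injective g := by
    refine (injective_iff_map_eq_zero g).2 fun a ha => ?_
    haveI : Module.IsTorsionFree (MvPolynomial (Fin n) K) A := inferInstance
    have h0 : a • (1 : A) = 0 := by rw [Algebra.smul_def, mul_one]; exact ha
    exact (smul_eq_zero.1 h0).resolve_right one_ne_zero
  haveI : Module.Finite K (MvPolynomial (Fin n) K) :=
    Module.Finite.of_injective (IsScalarTower.toAlgHom K (MvPolynomial (Fin n) K) A).toLinearMap hinj
  rcases Nat.eq_zero_or_pos n with rfl | hn
  · haveI : Algebra.FormallyUnramified K (MvPolynomial (Fin 0) K) :=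
      Algebra.FormallyUnramified.of_surjective (Algebra.ofId K _) (fun p => ⟨MvPolynomial.isEmptyRingEquiv K (Fin 0) p,
        (MvPolynomial.isEmptyRingEquiv K (Fin 0)).symm_apply_apply p⟩)
    exact Algebra.FormallyUnramified.comp K (MvPolynomial (Fin 0) K) A
  · exfalso
    obtain ⟨p, hp, hp0⟩ := IsIntegral.of_finite K (MvPolynomial.X ⟨0, hn⟩ : MvPolynomial (Fin n) K)
    let ψ : MvPolynomial (Fin n) K →ₐ[K] Polynomial K := MvPolynomial.aeval fun _ => Polynomial.X
    have h : Polynomial.aeval (Polynomial.X : Polynomial K) p = 0 := by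
      have := congrArg ψ hp0
      rw [map_zero, ← Polynomial.aeval_def, ← Polynomial.aeval_algHom_apply, MvPolynomial.aeval_X] at this
      exact this
    rw [Polynomial.aeval_X_left_apply] at h
    exact hp.ne_zero h

/-- Smooth quasi-finite schemes over fields are unramified. -/
theorem formallyUnramified_of_field {K : Type u} [Field K] {P : Scheme.{u}} (q : P ⟶ Spec (CommRingCat.of K))
    [Smooth q] [LocallyQuasiFinite q] : FormallyUnramified q := by
  choose U hU V hV hxV e hsm using Smooth.exists_isStandardSmooth q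
  refine IsZariskiLocalAtSource.of_iSup_eq_top (P := @FormallyUnramified) V
    (top_le_iff.1 fun x _ => TopologicalSpace.Opens.mem_iSup.2 ⟨x, hxV x⟩) fun x => ?_
  have hUtop : U x = ⊤ := by
    ext z
    refine ⟨fun _ => trivial, fun _ => ?_⟩
    have h1 : q x ∈ U x := e x (hxV x)
    rwa [Subsingleton.elim z (q x)]
  have hqf := HasRingHomProperty.appLE (P := @LocallyQuasiFinite) q inferInstance ⟨U x, hU x⟩ ⟨V x, hV x⟩ (e x)
  letI : Algebra Γ(Spec (CommRingCat.of K), U x) Γ(P, V x) := (q.appLE (U x) (V x) (e x)).hom.toAlgebra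
  let ι : CommRingCat.of K ≅ Γ(Spec (CommRingCat.of K), U x) :=
    (Scheme.ΓSpecIso _).symm ≪≫ (Spec (CommRingCat.of K)).presheaf.mapIso (eqToIso hUtop).op
  letI algK : Algebra K Γ(P, V x) := ((q.appLE (U x) (V x) (e x)).hom.comp ι.hom.hom).toAlgebra
  have hK : (algebraMap K Γ(P, V x)).IsStandardSmooth :=
    RingHom.isStandardSmooth_respectsIso.2 (q.appLE (U x) (V x) (e x)).hom ι.commRingCatIsoToRingEquiv (hsm x)
  haveI : Algebra.QuasiFinite K Γ(P, V x) :=
    RingHom.quasiFinite_algebraMap.1
      (RingHom.QuasiFinite.respectsIso.2 (q.appLE (U x) (V x) (e x)).hom ι.commRingCatIsoToRingEquiv hqf)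
  haveI : Module.Finite K Γ(P, V x) := Module.Finite.of_quasiFinite
  have hun := formallyUnramified_of_standardSmooth hK
  have hun' : (q.appLE (U x) (V x) (e x)).hom.FormallyUnramified := by
    have h2 : (q.appLE (U x) (V x) (e x)).hom = (algebraMap K Γ(P, V x)).comp ι.inv.hom := RingHom.ext fun a => by
      show _ = (q.appLE (U x) (V x) (e x)).hom (ι.hom.hom (ι.inv.hom a))
      exact congrArg _ (ι.inv_hom_id_apply a).symm
    rw [h2]
    exact RingHom.FormallyUnramified.respectsIso.2 _ ι.symm.commRingCatIsoToRingEquiv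
      (RingHom.formallyUnramified_algebraMap.2 hun)
  have h : FormallyUnramified (Spec.map (q.appLE (U x) (V x) (e x))) :=
    (HasRingHomProperty.Spec_iff (P := @FormallyUnramified)).2 hun'
  rw [← (hV x).isoSpec_hom_fromSpec, Category.assoc, ← (hU x).SpecMap_appLE_fromSpec q (hV x) (e x)]
  exact MorphismProperty.comp_mem _ _ _ inferInstance (MorphismProperty.comp_mem _ _ _ h inferInstance)

theorem isIntegral_of_connected {S : Scheme.{u}} [IsLocallyNoetherian S] [IsReduced S] [ConnectedSpace S]
    (h : ∀ s : S, IsDomain (S.presheaf.stalk s)) : IsIntegral S := by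
  have hnhd : ∀ s : S, ∃ U : S.Opens, s ∈ U ∧ IsIntegral (U : Scheme.{u}) := fun s => by
    haveI := h s
    exact FinCondH13.exists_integral_nhd s
  choose U hsU hU using hnhd
  obtain ⟨s₀⟩ := (inferInstance : Nonempty S)
  haveI := hU
  let η : S → S := fun s => (U s).ι (genericPoint (U s : Scheme.{u}))
  have hη : ∀ (s z : S), z ∈ U s → η s ⤳ z := fun s z hz =>
    ((genericPoint_spec (U s : Scheme.{u})).specializes (Set.mem_univ (⟨z, hz⟩ : (U s : Scheme.{u})))).map (U s).ι.continuous
  have heq : ∀ s t z : S, z ∈ U s → z ∈ U t → η s = η t := by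
    intro s t z hzs hzt
    have gen : ∀ (a b : S), η b ∈ U a → η a ⤳ η b := fun a b hb => hη a _ hb
    have h1 : η s ∈ U t := by
      obtain ⟨w, hw⟩ : ∃ w : (U s : Scheme.{u}), (U s).ι w = η s := ⟨_, rfl⟩
      exact (genericPoint_spec (U s : Scheme.{u})).mem_open_set_iff ((U s).ι ⁻¹ᵁ U t).2 |>.2
        ⟨⟨z, hzs⟩, Set.mem_univ _, hzt⟩
    have h2 : η t ∈ U s :=
      (genericPoint_spec (U t : Scheme.{u})).mem_open_set_iff ((U t).ι ⁻¹ᵁ U s).2 |>.2
        ⟨⟨z, hzt⟩, Set.mem_univ _, hzs⟩
    exact ((gen s t h2).antisymm (gen t s h1)).eq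
  let C : Set S := {s | η s = η s₀}
  have hloc : ∀ s t, t ∈ U s → η t = η s := fun s t ht => heq t s t (hsU t) ht
  have hC : IsClopen C :=
    ⟨isOpen_compl_iff.1 (isOpen_iff_forall_mem_open.2 fun s hs => ⟨U s, fun t ht htC => hs ((hloc s t ht).symm.trans htC), (U s).2, hsU s⟩),
      isOpen_iff_forall_mem_open.2 fun s hs => ⟨U s, fun t ht => (hloc s t ht).trans hs, (U s).2, hsU s⟩⟩
  have huniv : C = Set.univ := hC.eq_univ ⟨s₀, rfl⟩
  haveI : IrreducibleSpace S := by
    have hcl : closure {η s₀} = (Set.univ : Set S) := Set.eq_univ_of_forall fun s => by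
      have hs : η s = η s₀ := (huniv ▸ Set.mem_univ s : s ∈ C)
      exact specializes_iff_mem_closure.1 (hs ▸ hη s s (hsU s))
    haveI : PreirreducibleSpace S := ⟨hcl ▸ isIrreducible_singleton.closure.2⟩
    exact ⟨inferInstance⟩
  exact isIntegral_of_irreducibleSpace_of_isReduced S

/-- Let S be a reduced, locally Noetherian scheme over a field of characteristic 0 whose local rings are
all geometrically unibranch, and let f : X → S be quasi-finite (locally of finite type,
quasi-compact, with finite discrete fibres), separated and dominant, with X connected and nonempty,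
such that every fibre X_s over the residue field k(s) is smooth. Then f is étale. (Case of schemes
of a statement about algebraic spaces.) -/
theorem result {k : Type u} [Field k] [CharZero k] {S : Scheme.{u}} (σ : S ⟶ Spec (CommRingCat.of k)) [IsLocallyNoetherian S] [IsReduced S]
    (hS : ∀ s : S, CAlg2.IsGeomUnibranch (S.presheaf.stalk s))
    {X : Scheme.{u}} (f : X ⟶ S) [LocallyOfFiniteType f] [QuasiCompact f] [LocallyQuasiFinite f] [IsSeparated f] [IsDominant f]
    [ConnectedSpace X]
    (hfib : ∀ s : S, Smooth (Limits.pullback.snd f (S.fromSpecResidueField s))) :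
    Etale f := by
  haveI : ConnectedSpace S := by
    refine connectedSpace_iff_univ.2 ?_
    rw [← f.denseRange.closure_range]
    exact (isConnected_range f.continuous).closure
  haveI : IsIntegral S := isIntegral_of_connected fun s => by
    haveI := (hS s).1.1
    haveI : _root_.IsReduced (S.presheaf.stalk s) := inferInstance
    exact MulEquiv.isDomain (CAlg2.red (S.presheaf.stalk s))
      (((Ideal.quotEquivOfEq (nilradical_eq_zero (S.presheaf.stalk s))).trans (RingEquiv.quotientBot _)).symm.toMulEquiv)
  haveI : FormallyUnramified f := by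
    refine GrpUnr20.formallyUnramified_of_fibres f fun K _ a => ?_
    haveI : Smooth (pullback.fst a f) := by
      let s := a (IsLocalRing.closedPoint K)
      have hs := hfib s
      haveI : Smooth (pullback.fst (S.fromSpecResidueField s) f) := by
        rw [← pullbackSymmetry_hom_comp_snd]
        haveI := hs
        infer_instance
      rw [← Scheme.descResidueField_stalkClosedPointTo_fromSpecResidueField K S a,
        ← pullbackRightPullbackFstIso_inv_fst]
      infer_instance
    haveI : LocallyQuasiFinite (pullback.fst a f) := MorphismProperty.pullback_fst _ _ ‹_›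
    exact formallyUnramified_of_field _
  obtain ⟨x, hx⟩ := AlgSpDecent.exists_specializes_of_mem_closure_range f (y := genericPoint S) (f.denseRange _)
  exact Branch14.etale_of_unramified_dominant f hS ⟨x, (hx.antisymm (genericPoint_specializes _)).eq⟩

end Groth.Agent.S13423
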