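import Groth.Statements.S19145
import Groth.Agent.Lib.MTRigid29.TwConstUnibranch

set_option autoImplicit false
open CategoryTheory MonoidalCategory CartesianMonoidalCategory MonObj GrpObj AlgebraicGeometry
universe u
open TwC

namespace Groth.Agent.S19145

set_option backward.isDefEq.respectTransparency false
set_option backward.isDefEq.respectTransparency.types false
set_option maxSynthPendingDepth 3
open CategoryTheory.Limits Groth.Agent.MTRigid29 Groth.Agent.EtHull15

/-- Let S be an irreducible scheme whose local rings are all geometrically unibranch, η its generic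
point, and X a quasi-isotrivial twisted constant S-scheme (etale-locally on S isomorphic to a
constant scheme). Then X is the disjoint union, over the points λ of the generic fibre X_η, of the
closures X(λ) of λ: every point of X lies in the closure of exactly one such λ, each X(λ) is open
and closed in X and, as an open subscheme, is a finite etale cover of S (finite, etale and
surjective); and restricting a section of X ⟶ S to the generic point is a bijection from the
sections of X over S onto the sections of X_η over η. -/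
theorem result {S : Scheme.{u}} [IrreducibleSpace S]
    (hS : ∀ s : S, CAlg2.IsGeomUnibranch (S.presheaf.stalk s))
    (X : Over S) (hX : TwC.IsTwConst TwC.Topology.etale X) :
    (∀ x : X.left, ∃! l : X.left, X.hom.base l = genericPoint S ∧ x ∈ closure ({l} : Set X.left)) ∧
    (∀ l : X.left, X.hom.base l = genericPoint S →
      ∃ U : X.left.Opens, (U : Set X.left) = closure ({l} : Set X.left) ∧ IsClosed (U : Set X.left) ∧
        IsFinite (U.ι ≫ X.hom) ∧ Etale (U.ι ≫ X.hom) ∧ Surjective (U.ι ≫ X.hom)) ∧
    (∀ σ₁ σ₂ : S ⟶ X.left, σ₁ ≫ X.hom = 𝟙 S → σ₂ ≫ X.hom = 𝟙 S →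
      S.fromSpecResidueField (genericPoint S) ≫ σ₁ = S.fromSpecResidueField (genericPoint S) ≫ σ₂ → σ₁ = σ₂) ∧
    (∀ τ : Spec (S.residueField (genericPoint S)) ⟶ X.left, τ ≫ X.hom = S.fromSpecResidueField (genericPoint S) →
      ∃ σ : S ⟶ X.left, σ ≫ X.hom = 𝟙 S ∧ S.fromSpecResidueField (genericPoint S) ≫ σ = τ) := by
  obtain ⟨hsep, het⟩ := etale_of_twConst X hX
  haveI := hsep
  haveI := het
  haveI : LocallyQuasiFinite X.hom := SchDesc12.locallyQuasiFinite_of_etale X.hom
  have hgenη : IsGen (genericPoint S) := fun z hz => (hz.antisymm (genericPoint_specializes z)).eq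
  have hgen : ∀ l : X.left, IsGen l ↔ X.hom.base l = genericPoint S := fun l =>
    ⟨fun hl => ((isGen_image X.hom hl) _ (genericPoint_specializes _)).symm,
      fun h => isGen_of_image X.hom (show IsGen (X.hom l) from h.symm ▸ hgenη)⟩
  have hfin : ∀ (Z : Scheme.{u}) (f : Z ⟶ S), Etale f → LocFinGen Z := fun Z f hf => by
    haveI := hf; exact locFinGen_of_irreducible f
  have hU : ∀ l : X.left, X.hom.base l = genericPoint S →
      ∃ U : X.left.Opens, (U : Set X.left) = closure ({l} : Set X.left) ∧ IsClosed (U : Set X.left) ∧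
        IsFinite (U.ι ≫ X.hom) := fun l hl => isFinite_closure hS hfin X hX ((hgen l).2 hl)
  refine ⟨fun x => ?_, fun l hl => ?_, section_ext X, fun τ hτ => ?_⟩
  · obtain ⟨l, hl, hlx, huniq⟩ := exists_unique_isGen x (isUnibranch_of_etale X.hom hS x)
    exact ⟨l, ⟨(hgen l).1 hl, specializes_iff_mem_closure.1 hlx⟩,
      fun l' hl' => huniq l' ((hgen l').2 hl'.1) (specializes_iff_mem_closure.2 hl'.2)⟩
  · obtain ⟨U, hUl, hUc, hUf⟩ := hU l hl
    refine ⟨U, hUl, hUc, hUf, inferInstance, ⟨fun s => ?_⟩⟩
    haveI := hUf
    have hlU : l ∈ U := by rw [← SetLike.mem_coe, hUl]; exact subset_closure rfl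
    exact (genericPoint_specializes s).mem_closed (U.ι ≫ X.hom).isClosedMap.isClosed_range ⟨⟨l, hlU⟩, hl⟩
  · obtain ⟨pt⟩ := (inferInstance : Nonempty (Spec (S.residueField (genericPoint S))))
    have hl : X.hom.base (τ pt) = genericPoint S := by
      show X.hom (τ pt) = _
      rw [← Scheme.Hom.comp_apply, hτ]
      exact S.fromSpecResidueField_apply _ _
    obtain ⟨U, hUl, -, hUf⟩ := hU (τ pt) hl
    exact exists_section_of_finite hS X τ hτ U (fun p => Subsingleton.elim pt p ▸ hUl) hUf

end Groth.Agent.S19145
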