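import Groth.Statements.S2454
import Groth.Agent.Lib.FSFlat3.Forward
import Groth.Agent.Lib.FlatDepth.GeomExt

set_option autoImplicit false
universe u
open EGA41

namespace Groth.Agent.S2454

open scoped TensorProduct

open IsLocalRing in
/-- Let A → B be a local homomorphism of Noetherian local rings making B a Cohen A-algebra. Then B, with
its adic topology, is formally smooth over A with its adic topology. -/
theorem result {A B : Type u} [CommRing A] [IsLocalRing A] [CommRing B] [IsLocalRing B]
    [Algebra A B] [IsLocalHom (algebraMap A B)] (h : EGA41.IsCohenAlgebra A B) :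
    EGA41.IsFormallySmoothAdic A (maximalIdeal A) B (maximalIdeal B) := by
  obtain ⟨hA, hB, -, hflat, hm, hsep⟩ := h
  intro C _ _ J hJ _ u hu
  refine AdicSmooth.exists_lift_of_isAdicFormallySmooth ?_ J hJ u hu
  refine (FSFlat3.isAdicFormallySmooth_iff (k := IsLocalRing.ResidueField A) IsLocalRing.residue_surjective).2 ⟨hflat, ?_⟩
  let f : IsLocalRing.ResidueField A ⊗[A] B →ₐ[IsLocalRing.ResidueField A] IsLocalRing.ResidueField B :=
    Algebra.TensorProduct.lift (Algebra.ofId _ _) (IsScalarTower.toAlgHom A B _) (fun _ _ => Commute.all _ _)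
  have hf : ∀ b, f (1 ⊗ₜ b) = residue B b := fun b => by simp [f]
  have hsurj := FSFlat3.includeRight_surjective_of_surjective (A := A) (B := B) (k := IsLocalRing.ResidueField A) IsLocalRing.residue_surjective
  have hfi : Function.Injective f := by
    rw [injective_iff_map_eq_zero]
    intro z hz
    obtain ⟨b, rfl⟩ := hsurj z
    have hb : b ∈ (maximalIdeal A).map (algebraMap A B) := by
      rw [hm, ← residue_eq_zero_iff, ← hf]; exact hz
    have hle : (maximalIdeal A).map (algebraMap A B) ≤ RingHom.ker
        (Algebra.TensorProduct.includeRight : B →ₐ[A] IsLocalRing.ResidueField A ⊗[A] B).toRingHom :=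
      Ideal.map_le_iff_le_comap.2 fun a ha => by
        show (1 : IsLocalRing.ResidueField A) ⊗ₜ[A] algebraMap A B a = 0
        rw [Algebra.algebraMap_eq_smul_one, ← TensorProduct.smul_tmul, Algebra.smul_def,
          IsLocalRing.ResidueField.algebraMap_eq, (residue_eq_zero_iff a).2 ha, zero_mul, TensorProduct.zero_tmul]
    exact hle hb
  let e := AlgEquiv.ofBijective f ⟨hfi, fun y => by obtain ⟨b, rfl⟩ := residue_surjective y; exact ⟨_, hf b⟩⟩
  intro k' _ _ hfin
  haveI : IsRegularRing (k' ⊗[IsLocalRing.ResidueField A] IsLocalRing.ResidueField B) := FlatDepth.geomRegular_of_field k' hfin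
  exact IsRegularRing.of_ringEquiv (Algebra.TensorProduct.congr (AlgEquiv.refl : k' ≃ₐ[IsLocalRing.ResidueField A] k') e.symm).toRingEquiv

end Groth.Agent.S2454
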