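import Groth.Statements.S4542
import Groth.Agent.Lib.AdicSmooth3.Lift

set_option autoImplicit false
universe u
open EGA41

namespace Groth.Agent.S4542

/-- Let B (𝔟-adic) be formally smooth over A (𝔞-adic); let C be a topological A-algebra for the 𝔠-adic
topology (a power of 𝔞 maps into 𝔠) which is complete, and J an ideal which is closed, i.e. C/J is
Hausdorff for the 𝔠-adic topology, and whose powers tend to 0, i.e. some power of J lies in 𝔠. Then
every continuous A-algebra homomorphism u : B → C/J (a power of 𝔟 maps into the image of 𝔠) factors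
as B → C → C/J with B → C a continuous A-algebra homomorphism (a power of 𝔟 maps into 𝔠). -/
theorem result {A B C : Type u} [CommRing A] [CommRing B] [CommRing C] [Algebra A B]
    [Algebra A C] (𝔞 : Ideal A) (𝔟 : Ideal B) (𝔠 : Ideal C) (hB : EGA41.IsFormallySmoothAdic A 𝔞 B 𝔟)
    [IsAdicComplete 𝔠 C] (hAC : ∃ k : ℕ, (𝔞 ^ k).map (algebraMap A C) ≤ 𝔠)
    (J : Ideal C) (hJ : ∃ t : ℕ, J ^ t ≤ 𝔠) [IsHausdorff (𝔠.map (Ideal.Quotient.mk J)) (C ⧸ J)]
    (u : B →ₐ[A] C ⧸ J) (hu : ∃ k : ℕ, (𝔟 ^ k).map u.toRingHom ≤ 𝔠.map (Ideal.Quotient.mk J)) :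
    ∃ v : B →ₐ[A] C, (∃ k : ℕ, (𝔟 ^ k).map v.toRingHom ≤ 𝔠) ∧ (Ideal.Quotient.mkₐ A J).comp v = u := by
  exact AdicSmooth3.exists_lift 𝔞 𝔟 𝔠 hB hAC J hJ u hu

end Groth.Agent.S4542
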