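import Groth.Statements.S4543
import Groth.Agent.S4542
import Mathlib.RingTheory.AdicCompletion.Functoriality

set_option autoImplicit false
universe u
open EGA41

namespace Groth.Agent.S4543

open TensorProduct in
theorem mem_map_pow_of_equiv {A B B' : Type u} [CommRing A] [CommRing B] [CommRing B'] [Algebra A B] [Algebra A B']
    [Module.Flat A B'] (J : Ideal A) (u : B →ₐ[A] B')
    (u₀ : (B ⧸ J.map (algebraMap A B)) ≃ₗ[A] (B' ⧸ J.map (algebraMap A B')))
    (hu : ∀ b, Ideal.Quotient.mk (J.map (algebraMap A B')) (u b) = u₀ (Ideal.Quotient.mk (J.map (algebraMap A B)) b))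
    (n : ℕ) (b : B) (hb : u b ∈ (J ^ n).map (algebraMap A B')) : b ∈ (J ^ n).map (algebraMap A B) := by
  induction n generalizing b with
  | zero => simp [Ideal.one_eq_top, Ideal.map_top]
  | succ n ih =>
    let Jn : Submodule A A := J ^ n
    let S : Submodule A Jn := J • ⊤
    let Kn := (J ^ (n + 1)).map (algebraMap A B)
    have hb0 := ih b (Ideal.map_mono (Ideal.pow_le_pow_right n.le_succ) hb)
    let ν : Jn ⊗[A] B →ₗ[A] B := (TensorProduct.lid A B).toLinearMap ∘ₗ Jn.subtype.rTensor B
    let ν' : Jn ⊗[A] B' →ₗ[A] B' := (TensorProduct.lid A B').toLinearMap ∘ₗ Jn.subtype.rTensor B'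
    obtain ⟨z, hz⟩ : ∃ z, ν z = b := by
      refine Submodule.span_induction (p := fun x _ => ∀ y : B, ∃ z, ν z = y * x) ?_ ?_ ?_ ?_ hb0 1 |>.imp
        fun z hz => by rw [hz, one_mul]
      · rintro _ ⟨a, ha, rfl⟩ y
        exact ⟨(⟨a, ha⟩ : Jn) ⊗ₜ y, by simp [ν, Algebra.smul_def, mul_comm]⟩
      · intro y; exact ⟨0, by simp⟩
      · intro a c _ _ ha hc y
        obtain ⟨z₁, h₁⟩ := ha y; obtain ⟨z₂, h₂⟩ := hc y
        exact ⟨z₁ + z₂, by rw [map_add, h₁, h₂, mul_add]⟩
      · intro c a _ ha y
        obtain ⟨z₁, h₁⟩ := ha (y * c)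
        exact ⟨z₁, by rw [h₁, smul_eq_mul, mul_assoc]⟩
    have hSmem : ∀ a ∈ J ^ (n + 1), ∃ a' : S, ((a' : Jn) : A) = a := by
      intro a ha
      have h1 : a ∈ S.map Jn.subtype := by
        rw [Submodule.map_smul'', Submodule.map_top, Submodule.range_subtype, smul_eq_mul, ← pow_succ']
        exact ha
      obtain ⟨a', ha', rfl⟩ := h1
      exact ⟨⟨a', ha'⟩, rfl⟩
    obtain ⟨W, hW⟩ : ∃ W : S ⊗[A] B', ν' (S.subtype.rTensor B' W) = u b := by
      refine Submodule.span_induction (p := fun x _ => ∀ y : B', ∃ W : S ⊗[A] B', ν' (S.subtype.rTensor B' W) = y * x)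
        ?_ ?_ ?_ ?_ hb 1 |>.imp fun z hz => by rw [hz, one_mul]
      · rintro _ ⟨a, ha, rfl⟩ y
        obtain ⟨a', rfl⟩ := hSmem a ha
        exact ⟨a' ⊗ₜ y, by simp [ν', Algebra.smul_def, mul_comm]⟩
      · intro y; exact ⟨0, by simp⟩
      · intro a c _ _ ha hc y
        obtain ⟨z₁, h₁⟩ := ha y; obtain ⟨z₂, h₂⟩ := hc y
        exact ⟨z₁ + z₂, by rw [map_add, map_add, h₁, h₂, mul_add]⟩
      · intro c a _ ha y
        obtain ⟨z₁, h₁⟩ := ha (y * c)
        exact ⟨z₁, by rw [h₁, smul_eq_mul, mul_assoc]⟩
    have hν'inj : Function.Injective ν' :=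
      (TensorProduct.lid A B').injective.comp (Module.Flat.rTensor_preserves_injective_linearMap _ Jn.injective_subtype)
    have hνu : ∀ z, ν' (u.toLinearMap.lTensor Jn z) = u (ν z) := by
      intro z
      induction z with
      | zero => simp
      | add a c ha hc => simp only [map_add, ha, hc]
      | tmul a c => simp [ν, ν', map_smul]
    have hzW : u.toLinearMap.lTensor Jn z = S.subtype.rTensor B' W := hν'inj (by rw [hνu, hz, hW])
    let φ : Jn →ₗ[A] (B ⧸ J.map (algebraMap A B)) →ₗ[A] B ⧸ Kn :=
      { toFun := fun a => ((Submodule.restrictScalars A (J.map (algebraMap A B))).liftQ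
            ((Ideal.Quotient.mkₐ A Kn).toLinearMap ∘ₗ ((a : A) • LinearMap.id)) fun x hx => by
              show Ideal.Quotient.mk Kn ((a : A) • x) = 0
              rw [Ideal.Quotient.eq_zero_iff_mem, Algebra.smul_def]
              show _ ∈ (J ^ (n + 1)).map (algebraMap A B)
              rw [pow_succ, Ideal.map_mul]
              exact Ideal.mul_mem_mul (Ideal.mem_map_of_mem _ a.2) hx).comp
          (Submodule.Quotient.restrictScalarsEquiv A (J.map (algebraMap A B))).symm.toLinearMap
        map_add' := fun a c => LinearMap.ext fun x => by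
          obtain ⟨x, rfl⟩ := Ideal.Quotient.mk_surjective x
          show Ideal.Quotient.mk Kn (((a : A) + c) • x) = Ideal.Quotient.mk Kn ((a : A) • x) + Ideal.Quotient.mk Kn ((c : A) • x)
          rw [add_smul, map_add]
        map_smul' := fun r a => LinearMap.ext fun x => by
          obtain ⟨x, rfl⟩ := Ideal.Quotient.mk_surjective x
          show Ideal.Quotient.mk Kn ((r * (a : A)) • x) = r • Ideal.Quotient.mk Kn ((a : A) • x)
          rw [mul_smul]; rfl }
    let Ψ : Jn ⊗[A] B' →ₗ[A] B ⧸ Kn :=
      TensorProduct.lift (φ.compl₂ (u₀.symm.toLinearMap ∘ₗ (Ideal.Quotient.mkₐ A (J.map (algebraMap A B'))).toLinearMap))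
    have h1 : Ψ (u.toLinearMap.lTensor Jn z) = Ideal.Quotient.mk Kn (ν z) := by
      clear hz hzW
      induction z with
      | zero => simp
      | add a c ha hc => simp only [map_add, ha, hc]
      | tmul a c =>
        simp only [Ψ, LinearMap.lTensor_tmul, TensorProduct.lift.tmul, LinearMap.compl₂_apply, LinearMap.comp_apply,
          AlgHom.toLinearMap_apply, Ideal.Quotient.mkₐ_eq_mk, LinearEquiv.coe_coe, hu, LinearEquiv.symm_apply_apply]
        show Ideal.Quotient.mk Kn ((a : A) • c) = _
        simp [ν]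
    have h2 : ∀ W : S ⊗[A] B', Ψ (S.subtype.rTensor B' W) = 0 := by
      intro W
      induction W with
      | zero => simp
      | add a c ha hc => simp only [map_add, ha, hc, add_zero]
      | tmul a c =>
        rw [LinearMap.rTensor_tmul]
        simp only [Ψ, TensorProduct.lift.tmul, LinearMap.compl₂_apply, LinearMap.comp_apply]
        obtain ⟨x, hx⟩ := Ideal.Quotient.mk_surjective (u₀.symm (Ideal.Quotient.mk (J.map (algebraMap A B')) c))
        rw [show (u₀.symm.toLinearMap ((Ideal.Quotient.mkₐ A (J.map (algebraMap A B'))).toLinearMap c)) = Ideal.Quotient.mk _ x from hx.symm]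
        show Ideal.Quotient.mk Kn (((a : Jn) : A) • x) = 0
        rw [Ideal.Quotient.eq_zero_iff_mem, Algebra.smul_def]
        refine Ideal.mul_mem_right _ _ (Ideal.mem_map_of_mem _ ?_)
        have h3 : ((a : Jn) : A) ∈ S.map Jn.subtype := ⟨_, a.2, rfl⟩
        rw [Submodule.map_smul'', Submodule.map_top, Submodule.range_subtype, smul_eq_mul] at h3
        rw [pow_succ']
        exact h3
    rw [← hz, ← Ideal.Quotient.eq_zero_iff_mem, ← h1, hzW]
    exact h2 W

open IsLocalRing in
/-- Let A be a Noetherian ring, J an ideal of A, B and B' two A-algebras which are Noetherian local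
rings, the structure maps being continuous for the J-adic topology on A (JB and JB' lie in the
maximal ideals); suppose B and B' are complete for the J-adic topologies, B is a formally smooth
A-algebra for the J-adic topology on A and the JB-adic topology on B (nilpotent test ideals, test
algebras killed by a power of J, test maps killing a power of JB), and B' is a flat A-module. Then
every (A/J)-algebra isomorphism u₀ : B/JB ≅ B'/JB' comes from an A-algebra isomorphism u : B ≅ B' by
passing to quotients. (B is taken formally smooth for the JB-adic topology, the topology along which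
the argument lifts B → B'/JB' to B'; read with the convention that a local ring carries the adic
topology of its maximal ideal, the published hypothesis would be formal smoothness for the
maximal-ideal topology on B, a weaker condition when JB is strictly smaller than the maximal ideal,
and that reading is not what the argument establishes.) -/
theorem result {A B B' : Type u} [CommRing A] [IsNoetherianRing A] (J : Ideal A)
    [CommRing B] [IsLocalRing B] [IsNoetherianRing B] [Algebra A B]
    [CommRing B'] [IsLocalRing B'] [IsNoetherianRing B'] [Algebra A B']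
    (hB : J.map (algebraMap A B) ≤ maximalIdeal B) (hB' : J.map (algebraMap A B') ≤ maximalIdeal B')
    [IsAdicComplete (J.map (algebraMap A B)) B] [IsAdicComplete (J.map (algebraMap A B')) B']
    (hfs : EGA41.IsFormallySmoothAdic A J B (J.map (algebraMap A B))) [Module.Flat A B']
    (u₀ : (B ⧸ J.map (algebraMap A B)) ≃ₐ[A ⧸ J] (B' ⧸ J.map (algebraMap A B'))) :
    ∃ u : B ≃ₐ[A] B', ∀ b : B,
      Ideal.Quotient.mk (J.map (algebraMap A B')) (u b) = u₀ (Ideal.Quotient.mk (J.map (algebraMap A B)) b) := by
  let JB := J.map (algebraMap A B)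
  let JB' := J.map (algebraMap A B')
  let u₁ : B →ₐ[A] B' ⧸ JB' := (u₀.toAlgHom.restrictScalars A).comp (Ideal.Quotient.mkₐ A JB)
  haveI : IsHausdorff (JB'.map (Ideal.Quotient.mk JB')) (B' ⧸ JB') := by
    rw [Ideal.map_quotient_self]; infer_instance
  obtain ⟨u, -, hu⟩ := Groth.Agent.S4542.result J JB JB' hfs ⟨1, by rw [pow_one]⟩ JB' ⟨1, by rw [pow_one]⟩ u₁ ⟨1, by
    rw [pow_one]
    refine Ideal.map_le_iff_le_comap.2 fun x hx => ?_
    show u₀ (Ideal.Quotient.mk JB x) ∈ JB'.map (Ideal.Quotient.mk JB')
    rw [Ideal.Quotient.eq_zero_iff_mem.2 hx, map_zero]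
    exact zero_mem _⟩
  have hu' : ∀ b, Ideal.Quotient.mk JB' (u b) = u₀ (Ideal.Quotient.mk JB b) := fun b => AlgHom.congr_fun hu b
  have hmap : JB.map u.toRingHom = JB' := by
    rw [Ideal.map_map, show u.toRingHom.comp (algebraMap A B) = algebraMap A B' from u.comp_algebraMap]
  have hsurj : Function.Surjective u.toRingHom := by
    haveI : IsHausdorff (JB.map u.toRingHom) B' := hmap.symm ▸ IsAdicComplete.toIsHausdorff
    refine surjective_of_mk_map_comp_surjective (I := JB) u.toRingHom fun y => ?_
    obtain ⟨y', rfl⟩ := Ideal.Quotient.mk_surjective y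
    obtain ⟨x, hx⟩ := u₀.surjective (Ideal.Quotient.mk JB' y')
    obtain ⟨b, rfl⟩ := Ideal.Quotient.mk_surjective x
    refine ⟨b, ?_⟩
    rw [← hu', Ideal.Quotient.eq] at hx
    show Ideal.Quotient.mk (JB.map u.toRingHom) (u b) = _
    rw [Ideal.Quotient.eq, hmap]
    exact hx
  have hinj : ∀ n b, u b ∈ (J ^ n).map (algebraMap A B') → b ∈ (J ^ n).map (algebraMap A B) :=
    mem_map_pow_of_equiv J u ((u₀.toLinearEquiv).restrictScalars A) hu'
  have hinj' : Function.Injective u := by
    rw [injective_iff_map_eq_zero]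
    intro b hb
    refine IsHausdorff.haus (IsAdicComplete.toIsHausdorff (I := JB)) b fun n => ?_
    rw [SModEq.zero, smul_eq_mul, Ideal.mul_top, ← Ideal.map_pow]
    exact hinj n b (hb ▸ zero_mem _)
  exact ⟨AlgEquiv.ofBijective u ⟨hinj', hsurj⟩, hu'⟩

end Groth.Agent.S4543
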