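import Groth.Statements.S19314
import Groth.Agent.Lib.Comp17.TFBound
import Groth.Agent.Lib.Comp17.EmbedPow
import Groth.Agent.Lib.CMReg18.QuotFam
-- import your own Groth.Agent.* helpers here

set_option autoImplicit false
universe u
open CategoryTheory CategoryTheory.Limits AlgebraicGeometry
open DecSh

namespace Groth.Agent.S19314

set_option backward.isDefEq.respectTransparency false
set_option backward.isDefEq.respectTransparency.types false
set_option maxHeartbeats 1000000

open Groth.Agent Groth.Agent.CurveCoh17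

theorem bound_sub {k : Type u} [Field k] {X : Scheme.{u}} [X.Over (Spec (CommRingCat.of k))]
    [IsProper (X ↘ Spec (CommRingCat.of k))] [AlgebraicGeometry.IsReduced X] (hd : topologicalKrullDim X = 1)
    (hpure : ∀ x : X, ¬ IsOpen ({x} : Set X)) {L : X.Modules} (hL : CohB1.IsAmple L) {δ : ℚ} (hδ : 0 < δ)
    {α χ : ℤ} {F : X.Modules} (hF : Coh.IsCoh F) (ht : TorSh.IsTorsionFree F) (hα : DecSh.mult k X L F = α)
    (hχ : Curv2.euler k X F = χ) {A B : ℕ} {Dm : X.Modules} (T : DecSh.TF F A B Dm)
    (hT : T.IsSemistable k L δ) (G : X.Modules) (j : G ⟶ F) (_ : Mono j) (hG : Coh.IsCoh G) (hG0 : ¬ IsZero G) :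
    Comp17.e k G ≤ |(χ : ℚ)| + δ * A := by
  haveI : IsNoetherian X := VB17.isNoetherian_of_over (k := k) (X := X)
  have hmult : ∀ M : X.Modules, ((DecSh.mult k X L M : ℤ) : ℚ) = Comp17.a k L M := fun M => by
    rw [DecSh.mult, Comp17.a]
    push_cast
    rfl
  have hαq : Comp17.a k L F = (α : ℚ) := by rw [← hmult, hα]
  have hχq : Comp17.e k F = (χ : ℚ) := by rw [Comp17.e, hχ]
  have hA0 : (0 : ℚ) ≤ A := Nat.cast_nonneg _
  by_cases htop : Subobject.mk j = ⊤
  · haveI : IsIso j := (Subobject.isIso_iff_mk_eq_top j).2 htop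
    rw [Comp17.e_iso k (asIso j), hχq]
    nlinarith [le_abs_self (χ : ℚ)]
  · let u := Subobject.underlyingIso j
    let P := Subobject.mk j
    have hP0 : ¬ IsZero (P : X.Modules) := fun h => hG0 (h.of_iso u.symm)
    have hPc : Coh.IsCoh (P : X.Modules) := CohFound.isCoh_of_iso u.symm hG
    have hss := hT (DecSh.WFilt.single P htop hP0) fun _ => hPc
    obtain ⟨I, -, hI⟩ := (DecSh.WFilt.single P htop hP0).exists_gam_eq_mu (DecSh.mult k X L F)
      (fun Q => DecSh.mult k X L (Q : X.Modules)) T.nv
    rw [← hI] at hss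
    have hnu := Finset.card_filter_le (Finset.univ : Finset (Fin A))
      (fun i => (DecSh.WFilt.single P htop hP0).mulX (DecSh.mult k X L F)
        (fun Q => DecSh.mult k X L (Q : X.Modules)) (I i) ≤ DecSh.mult k X L (P : X.Modules))
    simp only [Finset.card_univ, Fintype.card_fin] at hnu
    have hnu' : (((DecSh.WFilt.single P htop hP0).nu (DecSh.mult k X L F)
        (fun Q => DecSh.mult k X L (Q : X.Modules)) I ⟨0, Nat.one_pos⟩ : ℕ) : ℚ) ≤ (A : ℚ) := by
      exact_mod_cast hnu
    have hsum : ∀ f : Fin (DecSh.WFilt.single P htop hP0).t → ℚ, ∑ i, f i = f ⟨0, Nat.one_pos⟩ :=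
      fun f => Fin.sum_univ_one f
    rw [DecSh.WFilt.msum, DecSh.WFilt.gam, hsum, hsum] at hss
    generalize ((DecSh.WFilt.single P htop hP0).nu (DecSh.mult k X L F)
        (fun Q => DecSh.mult k X L (Q : X.Modules)) I ⟨0, Nat.one_pos⟩ : ℕ) = ν at hss hnu'
    have hw : (DecSh.WFilt.single P htop hP0).wt ⟨0, Nat.one_pos⟩ = 1 := rfl
    have hp : (DecSh.WFilt.single P htop hP0).piece ⟨0, Nat.one_pos⟩ = P := rfl
    rw [hw, hp, one_mul, one_mul] at hss
    rw [hmult, hmult, Comp17.a_iso k L u, hαq, show ((Curv2.euler k X (P : X.Modules) : ℤ) : ℚ) =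
      Comp17.e k G from Comp17.e_iso k u, show ((Curv2.euler k X F : ℤ) : ℚ) = (χ : ℚ) from hχq] at hss
    have hcok : Coh.IsCoh (cokernel j) := M1.isCoh_cokernel hG.1 hF j
    have hadd := (Comp17.e_add k hd hL.1 (S := ShortComplex.mk j (cokernel.π j) (cokernel.condition j))
      { exact := ShortComplex.exact_of_g_is_cokernel _ (cokernelIsCokernel _) } hG hF hcok).2
    dsimp only at hadd
    rw [hαq] at hadd
    have hq := Comp17.a_nonneg (k := k) hd hL hcok
    have hp := Comp17.a_nonneg (k := k) hd hL hG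
    have hF0 : ¬ IsZero F := fun h => hG0 (IsZero.of_mono j h)
    have hone := Comp17.one_le_a (k := k) hd hL hF (Comp17.dim_of_tf (k := k) hd hpure hF ht hF (𝟙 F) hF0)
    rw [hαq] at hone
    have h1 : (α : ℚ) * Comp17.e k G ≤ (α : ℚ) * (|(χ : ℚ)| + δ * A) := by
      have e1 : Comp17.a k L G * (χ : ℚ) ≤ (α : ℚ) * |(χ : ℚ)| := by
        refine le_trans (mul_le_mul_of_nonneg_left (le_abs_self _) hp) ?_
        exact mul_le_mul_of_nonneg_right (by linarith) (abs_nonneg _)
      have e2 : δ * ((ν : ℚ) * α) ≤ δ * ((A : ℚ) * α) :=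
        mul_le_mul_of_nonneg_left (mul_le_mul_of_nonneg_right hnu' (by linarith)) hδ.le
      have e3 : 0 ≤ δ * ((A : ℚ) * Comp17.a k L G) := mul_nonneg hδ.le (mul_nonneg hA0 hp)
      nlinarith
    exact le_of_mul_le_mul_left h1 (by linarith)

/-- Let k be an algebraically closed field of characteristic zero, X a reduced proper k-scheme of
dimension one without isolated points, L an ample invertible O_X-module, χ the Euler characteristic
over k and α(M) = χ(M ⊗ L) − χ(M) the multiplicity. Fix δ > 0, integers α and e, natural numbers a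
and b and an O_X-module D. Then the family of coherent O_X-modules F with torsion free stalks, α(F)
= α and χ(F) = e (fixed Hilbert polynomial) for which there is a δ-semistable tensor field of type
(a, b) on F with values in D is bounded: there are a k-scheme T of finite type and a coherent module
on X ×_k T among whose fibres at k-points every member occurs up to isomorphism. (The published
corollary is for a reduced projective curve with D locally free, in a section whose polarisation is
very ample. The bound on the maximal slope that drives the proof uses none of these, and boundedness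
for an ample L follows from the very ample case by passing to a power of L, which rescales all
multiplicities.) -/
theorem result
    (k : Type u) [Field k] [IsAlgClosed k] [CharZero k]
    (X : Scheme.{u}) [X.Over (Spec (CommRingCat.of k))] [IsProper (X ↘ Spec (CommRingCat.of k))]
    [AlgebraicGeometry.IsReduced X] (hdim : topologicalKrullDim X = 1)
    (hpure : ∀ x : X, ¬ IsOpen ({x} : Set X))
    (L : X.Modules) (hL : CohB1.IsAmple L)
    (δ : ℚ) (hδ : 0 < δ) (α e : ℤ) (a b : ℕ) (D : X.Modules) :
    Pic13.IsBounded k X (fun F => Coh.IsCoh F ∧ TorSh.IsTorsionFree F ∧ DecSh.mult k X L F = α ∧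
      Curv2.euler k X F = e ∧ ∃ T : DecSh.TF F a b D, T.IsSemistable k L δ) := by
  haveI : Infinite k := IsAlgClosed.instInfinite
  obtain ⟨n, ι, hcl, hι, A, B, hA0, hB0, ⟨i⟩⟩ :=
    Comp17.exists_closedImmersion_pow (X ↘ Spec (CommRingCat.of k)) hL
  haveI := hcl
  have hc : ∀ {M : X.Modules}, Coh.IsCoh M →
      Comp17.a k ((Comp17.embData (k := k) ι).O 1) M = ((B * A : ℕ) : ℚ) * Comp17.a k L M := fun {M} hM => by
    have hinv : PicF.IsInvertible (CohB1.tensorPow L A) := Amp.isInvertible_tensorPow hL.1 A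
    have h1 : Comp17.a k ((Comp17.embData (k := k) ι).O 1) M =
        Comp17.a k (CohB1.tensorPow (CohB1.tensorPow L A) B) M := by
      let i' : (Comp17.embData (k := k) ι).O 1 ≅ CohB1.tensorPow (CohB1.tensorPow L A) B := i
      rw [Comp17.a, Comp17.a, CurveCoh17.euler_iso (M2.tensorIso (Iso.refl M) i')]
    rw [h1, Comp17.a_pow (k := k) hdim hinv hM, Comp17.a_pow (k := k) hdim hL.1 hM]
    push_cast
    ring
  have hAmp : CohB1.IsAmple ((Comp17.embData (k := k) ι).O 1) :=
    NumPoly18.isAmple_pullback_twistProjSpace ι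
  let K : ℚ := |(e : ℚ)| + δ * a
  obtain ⟨N, hN⟩ := exists_nat_gt (K + (Module.finrank k (Coh.HH X (Coh.structureModule X) 1) : ℚ))
  obtain ⟨C, hC⟩ := exists_nat_ge ((N : ℚ) * ((B * A : ℕ) : ℚ) * (α : ℚ) - (e : ℚ))
  obtain ⟨T, q, h1, h2, 𝔉, h3, h4⟩ := CMReg18.isBounded_regular (k := k) ι hι (-(N : ℤ) + 1 + C)
    (Set.finite_singleton (fun d : ℤ => e + d * (((B * A : ℕ) : ℤ) * α)))
  refine ⟨T, q, h1, h2, 𝔉, h3, fun F ⟨hF, ht, hα, he, T', hT'⟩ => h4 F ⟨hF, ?_, ?_⟩⟩
  · have hαq : Comp17.a k L F = (α : ℚ) := by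
      rw [Comp17.a, ← hα, DecSh.mult]
      push_cast
      rfl
    refine Comp17.isReg_of_bound (k := k) hdim ι hpure hAmp hL (B * A) (Nat.mul_pos hB0 hA0)
      (fun hM => hc hM) hF ht K (fun G j hj hG hG0 => bound_sub hdim hpure hL hδ hF ht hα he T' hT' G j hj hG hG0)
      N hN C ?_
    rw [hαq, show Comp17.e k F = (e : ℚ) by rw [Comp17.e, he]]
    exact hC
  · rw [Set.mem_singleton_iff]
    funext d
    have h := Comp17.e_tw (k := k) hdim (Comp17.embData (k := k) ι) hL.1 (B * A) (fun hM => hc hM) hF d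
    have hαq : Comp17.a k L F = (α : ℚ) := by
      rw [Comp17.a, ← hα, DecSh.mult]
      push_cast
      rfl
    rw [hαq, Comp17.e, Comp17.e, he] at h
    exact_mod_cast h

end Groth.Agent.S19314
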