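import Groth.Statements.S1549
import Groth.Agent.Lib.GeomRed18.Smooth
import Groth.Agent.Lib.GeomIrr18.Comp

set_option autoImplicit false
universe u
open CategoryTheory CategoryTheory.Limits AlgebraicGeometry
open Variety
attribute [local instance] Curv2.stalkAlgebra Curv2.resAlgebra

namespace Groth.Agent.S1549

/-- For a reduced scheme locally of finite type over k, being geometrically reduced is equivalent to
having a dense open subscheme that is smooth over k. -/
theorem result (k : Type u) [Field k] (X : Scheme.{u}) [X.Over (Spec (CommRingCat.of k))] [IsReduced X] [LocallyOfFiniteType (X ↘ (Spec (CommRingCat.of k)))] :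
    GeometricallyReduced (X ↘ (Spec (CommRingCat.of k))) ↔ ∃ U : X.Opens, Dense (U : Set X) ∧ Smooth (U.ι ≫ (X ↘ (Spec (CommRingCat.of k)))) := by
  let f := X ↘ Spec (CommRingCat.of k)
  haveI : IsLocallyNoetherian X := LocallyOfFiniteType.isLocallyNoetherian f
  constructor
  · intro h
    haveI : LocallyOfFinitePresentation f := inferInstance
    refine ⟨f.smoothLocus, ?_, GeomRed.smooth_smoothLocus⟩
    rw [dense_iff_inter_open]
    rintro O hO ⟨a, ha⟩
    obtain ⟨η, hη, hηa⟩ := FlatH4.exists_isMaxPt_specializes a
    refine ⟨η, hηa.mem_open hO ha, ?_⟩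
    have hfld : IsField (X.presheaf.stalk η) :=
      isField_stalk_of_closure_mem_irreducibleComponents X η (GeomIrr.closure_mem_of_isMaximalPt hη)
    haveI : IsPrincipalIdealRing (X.presheaf.stalk η) := letI := hfld.toField; inferInstance
    haveI : IsDomain (X.presheaf.stalk η) := hfld.isDomain
    refine RegSmooth17.mem_smoothLocus_of_isRegularLocalRing f η ?_
    haveI := (GeomRed.isGeomReducedAt_iff (k := k) η).mp (GeomRed.geometricallyReduced_iff_forall.mp h η)
    letI : Field (X.presheaf.stalk η) := hfld.toField
    let r : X.presheaf.stalk η →ₐ[k] X.residueField η := { (X.residue η).hom with commutes' := fun _ => rfl }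
    let e := AlgEquiv.ofBijective r ⟨RingHom.injective r.toRingHom, X.residue_surjective η⟩
    haveI : Algebra.IsGeometricallyReduced k (X.residueField η) :=
      Algebra.IsGeometricallyReduced.of_injective e.symm.toAlgHom e.symm.injective
    exact RingHom.formallySmooth_algebraMap.2
      ((Sep.formallySmooth_iff_isGeometricallyReduced k (X.residueField η)).2 inferInstance)
  · rintro ⟨U, hU, hsm⟩
    haveI := hsm
    haveI : LocallyOfFinitePresentation f := inferInstance
    refine GeomRed.geometricallyReduced_of_maximal fun η hη => GeomRed.isGeomReducedAt_of_mem_smoothLocus ?_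
    have hηU : η ∈ (U : Set X) := FlatH4.IsMaxPt.mem_of_dense hη U.isOpen hU
    have h1 : U.ι ⁻¹ᵁ f.smoothLocus = ⊤ := by
      rw [Scheme.Hom.preimage_smoothLocus_eq]; exact Scheme.Hom.smoothLocus_eq_top _
    exact h1.ge (show (⟨η, hηU⟩ : U.toScheme) ∈ (⊤ : U.toScheme.Opens) from trivial)

end Groth.Agent.S1549
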