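import Groth.Statements.S1629
import Groth.Agent.S2514
import Groth.Agent.Lib.GeomRed21.Scheme
import Groth.Agent.Lib.GeomRed18.Scheme
import Groth.Agent.Lib.GeomIrr18.Comp
import Groth.Agent.Lib.GeomConn24.IdemLift
import Groth.Agent.Lib.UnivHomeo.Morph
import Groth.Agent.Lib.RedSep.Basic

set_option autoImplicit false
universe u
open CategoryTheory CategoryTheory.Limits AlgebraicGeometry
open Variety

set_option backward.isDefEq.respectTransparency.types false
set_option maxHeartbeats 800000
open TensorProduct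

namespace Groth.Agent.S1629

theorem exists_level {k : Type u} [Field k] (A : Type u) [CommRing A] [Algebra k A] [Algebra.FiniteType k A]
    (Kp : IntermediateField k (AlgebraicClosure k)) [PerfectField Kp] :
    ∃ T : Finset (AlgebraicClosure k), ↑T ⊆ (Kp : Set (AlgebraicClosure k)) ∧
      ∀ F : IntermediateField k (AlgebraicClosure k), F ≤ Kp → ↑T ⊆ (F : Set (AlgebraicClosure k)) →
        ∀ (R : Type u) [CommRing R] [Algebra F R] [Algebra k R] [IsScalarTower k F R] (π : F ⊗[k] A →ₐ[F] R),
          Function.Surjective π → (∀ z, π z = 0 ↔ IsNilpotent z) → Algebra.IsGeometricallyReduced F R := by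
  classical
  let P := Kp ⊗[k] A
  haveI : IsNoetherianRing P := Algebra.FiniteType.isNoetherianRing Kp P
  obtain ⟨gs, hgs⟩ := (IsNoetherian.noetherian (nilradical P) : (nilradical P).FG)
  choose S hS using fun g : gs => TensorProduct.exists_finset (g : P)
  refine ⟨Finset.univ.biUnion fun g => (S g).image fun i => ((i.1 : Kp) : AlgebraicClosure k), ?_, fun F hFK hF => ?_⟩
  · intro x hx
    simp only [Finset.coe_biUnion, Set.mem_iUnion, Finset.coe_image, Set.mem_image] at hx
    obtain ⟨g, -, i, -, rfl⟩ := hx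
    exact i.1.2
  letI : Algebra F Kp := (IntermediateField.inclusion hFK).toRingHom.toAlgebra
  haveI : IsScalarTower k F Kp := IsScalarTower.of_algebraMap_eq fun _ => rfl
  refine S2514.level_aux F Kp (A := A) gs hgs fun g hg => ?_
  refine ⟨∑ i ∈ (S ⟨g, hg⟩).attach, (⟨((i.1.1 : Kp) : AlgebraicClosure k), hF ?_⟩ : F) ⊗ₜ[k] i.1.2, ?_⟩
  · exact Finset.mem_biUnion.2 ⟨⟨g, hg⟩, Finset.mem_univ _, Finset.mem_image.2 ⟨i.1, i.2, rfl⟩⟩
  · rw [map_sum]
    refine Eq.trans ?_ (hS ⟨g, hg⟩).symm
    exact Finset.sum_attach (S ⟨g, hg⟩) fun i => i.1 ⊗ₜ[k] i.2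

theorem quot_model {k : Type u} [Field k] (F : Type u) [Field F] [Algebra k F] (A : Type u) [CommRing A] [Algebra k A] :
    ∃ (R : Type u) (_ : CommRing R) (_ : Algebra F R) (_ : Algebra k R) (_ : IsScalarTower k F R)
      (_ : _root_.IsReduced R) (π : F ⊗[k] A →ₐ[F] R), Function.Surjective π ∧ ∀ z, π z = 0 ↔ IsNilpotent z :=
  ⟨(F ⊗[k] A) ⧸ nilradical (F ⊗[k] A), inferInstance, inferInstance, inferInstance, inferInstance,
    (Ideal.isRadical_iff_quotient_reduced _).1 (Ideal.radical_isRadical _), Ideal.Quotient.mkₐ F _,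
    Ideal.Quotient.mk_surjective, fun _ => Ideal.Quotient.eq_zero_iff_mem.trans mem_nilradical⟩

/-- The algebraic model of an affine part of the reduced base change. -/
theorem exists_model {k : Type u} [Field k] {X : Scheme.{u}} [X.Over (Spec (CommRingCat.of k))] {U : X.Opens}
    (hU : IsAffineOpen U) (F : Type u) [Field F] [Algebra k F]
    (R : Type u) [CommRing R] [Algebra F R] [_root_.IsReduced R]
    (π : letI := GeomRed.secAlgebra k X U; F ⊗[k] Γ(X, U) →ₐ[F] R)
    (hπ : Function.Surjective π) (hker : ∀ z, π z = 0 → IsNilpotent z) :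
    ∃ j : Spec (CommRingCat.of R) ⟶ (Curv2.bc k X F).nilradical.subscheme, IsOpenImmersion j ∧
      j ≫ (Curv2.bc k X F).nilradical.subschemeι ≫ Curv2.bcSnd k X F =
        Spec.map (CommRingCat.ofHom (algebraMap F R)) ∧
      ((Curv2.bc k X F).nilradical.subschemeι ≫ Curv2.bcFst k X F) ⁻¹' (U : Set X) ⊆ Set.range j := by
  letI := GeomRed.secAlgebra k X U
  let P := Curv2.bc k X F
  let f := X ↘ Spec (CommRingCat.of k)
  let g := Spec.map (CommRingCat.ofHom (algebraMap k F))
  let m := pullback.map (Spec.map (CommRingCat.ofHom (algebraMap k Γ(X, U)))) g f g hU.fromSpec (𝟙 _) (𝟙 _)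
    (by rw [Category.comp_id, GeomRed.spec_secMap hU]) (by simp)
  let σ : Γ(X, U) ⊗[k] F →+* R := π.toRingHom.comp (Algebra.TensorProduct.comm k Γ(X, U) F).toRingEquiv.toRingHom
  have hσ : Function.Surjective σ := hπ.comp (Algebra.TensorProduct.comm k Γ(X, U) F).surjective
  let c : Spec (CommRingCat.of R) ⟶ pullback (Spec.map (CommRingCat.ofHom (algebraMap k Γ(X, U)))) g :=
    Spec.map (CommRingCat.ofHom σ) ≫ (pullbackSpecIso k Γ(X, U) F).inv
  haveI : IsClosedImmersion (Spec.map (CommRingCat.ofHom σ)) := IsClosedImmersion.spec_of_surjective _ hσ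
  haveI : IsClosedImmersion c := inferInstanceAs (IsClosedImmersion (Spec.map _ ≫ _))
  haveI : Surjective c := by
    haveI : Surjective (Spec.map (CommRingCat.ofHom σ)) := ⟨fun p => by
      obtain ⟨q, hq⟩ := (range_comap_of_surjective _ σ hσ).ge (show p ∈ PrimeSpectrum.zeroLocus (RingHom.ker σ : Set _) from
        fun z hz => by
          obtain ⟨n, hn⟩ := hker _ hz
          have h2 : IsNilpotent z := (IsNilpotent.map_iff (Algebra.TensorProduct.comm k Γ(X, U) F).injective).1 ⟨n, hn⟩
          exact nilradical_le_prime p.asIdeal (mem_nilradical.2 h2))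
      exact ⟨q, hq⟩⟩
    exact inferInstanceAs (Surjective (Spec.map _ ≫ _))
  haveI : IsReduced P.nilradical.subscheme := RedSepLib.isReduced_nilradical_subscheme P
  let b := pullback.fst m P.nilradical.subschemeι
  haveI : IsReduced (pullback m P.nilradical.subschemeι) :=
    isReduced_of_isOpenImmersion (pullback.snd m P.nilradical.subschemeι)
  haveI : Surjective P.nilradical.subschemeι := ⟨fun z => by
    show z ∈ Set.range P.nilradical.subschemeι
    rw [Scheme.IdealSheafData.range_subschemeι, Scheme.support_nilradical]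
    trivial⟩
  haveI : Surjective b := MorphismProperty.pullback_fst _ _ inferInstance
  haveI : IsReduced (Spec (CommRingCat.of R)) := inferInstance
  obtain ⟨e, he⟩ := RedSepLib.exists_iso_of_range_eq c b (c.surjective.range_eq.trans b.surjective.range_eq.symm)
  refine ⟨e.hom ≫ pullback.snd m P.nilradical.subschemeι, inferInstance, ?_, ?_⟩
  · have h1 : e.hom ≫ pullback.snd m P.nilradical.subschemeι ≫ P.nilradical.subschemeι = c ≫ m := by
      rw [← pullback.condition, ← Category.assoc, he]
    rw [← Category.assoc, Category.assoc e.hom, h1]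
    show ((Spec.map _ ≫ (pullbackSpecIso k Γ(X, U) F).inv) ≫ m) ≫ pullback.snd f g = _
    rw [Category.assoc, pullback.lift_snd, Category.comp_id, Category.assoc, pullbackSpecIso_inv_snd, ← Spec.map_comp]
    congr 1
    ext r
    show π ((Algebra.TensorProduct.comm k Γ(X, U) F) (1 ⊗ₜ r)) = algebraMap F R r
    rw [Algebra.TensorProduct.comm_tmul, ← π.commutes]
    rfl
  · intro z hz
    have hr : P.nilradical.subschemeι z ∈ Set.range m := by
      refine (Scheme.Pullback.range_map _ _ _ _ _ _ _ _ _).ge ?_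
      refine ⟨?_, by simp⟩
      show pullback.fst f g (P.nilradical.subschemeι z) ∈ Set.range hU.fromSpec
      rw [hU.range_fromSpec]
      exact hz
    obtain ⟨w, hw⟩ := hr
    obtain ⟨v, -, hv⟩ := Scheme.Pullback.exists_preimage_pullback w z hw
    exact ⟨e.inv v, by rw [← Scheme.Hom.comp_apply, ← Category.assoc, e.inv_hom_id, Category.id_comp, hv]⟩

/-- The points with geometrically reduced residue field are dense in an affine part. -/
theorem closure_gRPt {k : Type u} [Field k] {X : Scheme.{u}} [X.Over (Spec (CommRingCat.of k))] {U : X.Opens}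
    (hU : IsAffineOpen U) (F : IntermediateField k (AlgebraicClosure k))
    (h : letI := GeomRed.secAlgebra k X U
      ∀ (R : Type u) [CommRing R] [Algebra F R] [Algebra k R] [IsScalarTower k F R] (π : F ⊗[k] Γ(X, U) →ₐ[F] R),
        Function.Surjective π → (∀ z, π z = 0 ↔ IsNilpotent z) → Algebra.IsGeometricallyReduced F R)
    {z : (Curv2.bc k X F).nilradical.subscheme}
    (hz : z ∈ ((Curv2.bc k X F).nilradical.subschemeι ≫ Curv2.bcFst k X F) ⁻¹' (U : Set X)) :
    z ∈ closure {w | GeomRed21.GRPt ((Curv2.bc k X F).nilradical.subschemeι ≫ Curv2.bcSnd k X F) w} := by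
  letI := GeomRed.secAlgebra k X U
  obtain ⟨R, _, _, _, _, _, π, hπ, hker⟩ := quot_model (k := k) F Γ(X, U)
  obtain ⟨j, hj, hjk, hjr⟩ := exists_model hU F R π hπ (fun w hw => (hker w).1 hw)
  haveI : Algebra.IsGeometricallyReduced F R := h R π hπ hker
  haveI : GeometricallyReduced (Spec.map (CommRingCat.ofHom (algebraMap F R))) := GeomConn24.geometricallyReduced_spec fun K _ _ => GeomRed21.isReduced_tensor_field' R K
  obtain ⟨y, rfl⟩ := hjr hz
  have h1 := j.continuous.range_subset_closure_image_dense
    (GeomRed21.dense_gRPt (Spec.map (CommRingCat.ofHom (algebraMap F R)))) ⟨y, rfl⟩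
  refine closure_mono ?_ h1
  rintro _ ⟨w, hw, rfl⟩
  exact GeomRed21.gRPt_image j hjk hw


/-- Let X be a k-scheme locally of finite type, having only finitely many irreducible components. There
is then a finite purely inseparable extension k' of k for which the reduction of X_{k'} (the closed
subscheme defined by the nilradical) is geometrically reduced over k'. -/
theorem result (k : Type u) [Field k] (X : Scheme.{u}) [X.Over (Spec (CommRingCat.of k))] [LocallyOfFiniteType (X ↘ (Spec (CommRingCat.of k)))]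
    (hirr : (irreducibleComponents (X : Type u)).Finite) :
    ∃ (k' : Type u) (_ : Field k') (_ : Algebra k k'), FiniteDimensional k k' ∧ IsPurelyInseparable k k' ∧
      GeometricallyReduced ((Curv2.bc k X k').nilradical.subschemeι ≫ Curv2.bcSnd k X k') := by
  classical
  haveI : CompactSpace PUnit := inferInstance
  choose η hη hηc using fun Zc : irreducibleComponents (X : Type u) => GeomIrr.exists_generic_component Zc.2
  haveI : Finite (irreducibleComponents (X : Type u)) := hirr.to_subtype
  cases nonempty_fintype (irreducibleComponents (X : Type u))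
  choose U hU hηU _h using fun Zc : irreducibleComponents (X : Type u) =>
    exists_isAffineOpen_mem_and_subset (X := X) (x := η Zc) (U := ⊤) trivial
  letI : ∀ Zc, Algebra k Γ(X, U Zc) := fun Zc => GeomRed.secAlgebra k X (U Zc)
  haveI : ∀ Zc, Algebra.FiniteType k Γ(X, U Zc) := fun Zc => by
    have h := (HasRingHomProperty.appLE (P := @LocallyOfFiniteType)
      (X ↘ Spec (CommRingCat.of k)) inferInstance ⟨⊤, isAffineOpen_top _⟩ ⟨U Zc, hU Zc⟩ (fun _ _ => trivial)).comp
      (RingHom.FiniteType.of_surjective _ (Scheme.ΓSpecIso (CommRingCat.of k)).commRingCatIsoToRingEquiv.symm.surjective)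
    refine RingHom.finiteType_algebraMap.1 ?_
    convert h using 1
    ext r
    simp [RingHom.algebraMap_toAlgebra, GeomRed.secMap, Coh.toGlobal, Scheme.Hom.appLE, Scheme.Hom.appTop]
  let Kp := perfectClosure k (AlgebraicClosure k)
  choose T hT hT' using fun Zc => S1629.exists_level (Γ(X, U Zc)) Kp
  let F := IntermediateField.adjoin k (↑(Finset.univ.biUnion T) : Set (AlgebraicClosure k))
  have hFK : F ≤ Kp := IntermediateField.adjoin_le_iff.2 fun x hx => by
    simp only [Finset.coe_biUnion, Set.mem_iUnion] at hx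
    obtain ⟨Zc, -, hx⟩ := hx
    exact hT Zc hx
  haveI : IsPurelyInseparable k F := (le_perfectClosure_iff k _ F).1 hFK
  haveI : FiniteDimensional k F := IntermediateField.finiteDimensional_adjoin fun z _ => Algebra.IsIntegral.isIntegral z
  refine ⟨F, inferInstance, inferInstance, inferInstance, inferInstance, ?_⟩
  let P := Curv2.bc k X F
  haveI : IsReduced P.nilradical.subscheme := RedSepLib.isReduced_nilradical_subscheme P
  refine GeomRed21.geometricallyReduced_of_dense _ (dense_iff_closure_eq.2 (Set.eq_univ_of_forall fun z => ?_))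
  have h1 : IsHomeomorph (Curv2.bcFst k X F) :=
    UH.isHomeomorph_of_isUnivHomeo (UH.isUnivHomeo_fst _ _ (UH.isUnivHomeo_Spec_of_isPurelyInseparable k F))
  obtain ⟨z₀, hz₀, hmax⟩ : ∃ z₀, z₀ ⤳ z ∧ GeomIrr.IsMaximalPt z₀ := by
    obtain ⟨z₀, h, h'⟩ := GeomIrr.exists_maximal_specializes z
    exact ⟨z₀, h', h⟩
  let ι := P.nilradical.subschemeι
  have hc : IsHomeomorph (ι ≫ Curv2.bcFst k X F) := by
    rw [Scheme.Hom.comp_base, TopCat.coe_comp]
    refine h1.comp (isHomeomorph_iff_isEmbedding_surjective.2 ⟨ι.isEmbedding, fun p => ?_⟩)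
    show p ∈ Set.range ι
    rw [Scheme.IdealSheafData.range_subschemeι, Scheme.support_nilradical]
    trivial
  let x₀ := (ι ≫ Curv2.bcFst k X F) z₀
  have hx₀ : GeomIrr.IsMaximalPt x₀ := fun y hy => by
    obtain ⟨w, rfl⟩ := hc.surjective y
    exact congrArg _ (hmax w (hc.homeomorph.isInducing.specializes_iff.1 hy))
  let Zc : irreducibleComponents (X : Type u) := ⟨closure {x₀}, GeomIrr.closure_mem_of_isMaximalPt hx₀⟩
  have hmem : z₀ ∈ (ι ≫ Curv2.bcFst k X F) ⁻¹' (U Zc : Set X) := by
    show x₀ ∈ U Zc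
    have hspec : x₀ ⤳ η Zc :=
      specializes_iff_mem_closure.2 (show η Zc ∈ (Zc : Set X) from (hηc Zc) ▸ subset_closure rfl)
    exact (hη Zc x₀ hspec).symm ▸ hηU Zc
  have hdense := S1629.closure_gRPt (hU Zc) F (hT' Zc F hFK fun z hz =>
    IntermediateField.subset_adjoin k _ (Finset.mem_biUnion.2 ⟨Zc, Finset.mem_univ _, hz⟩)) hmem
  exact isClosed_closure.closure_subset_iff.2 (Set.singleton_subset_iff.2 hdense) (specializes_iff_mem_closure.1 hz₀)

end Groth.Agent.S1629
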