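import Groth.Statements.S1583
import Groth.Agent.Lib.GeomIrr18.CompImage

set_option autoImplicit false
universe u
open CategoryTheory CategoryTheory.Limits AlgebraicGeometry
open Variety

namespace Groth.Agent.S1583

/-- Let K be any field extension of k and X a scheme over k. The image in X of a connected component of
X_K is a connected component of X. -/
theorem result (k : Type u) [Field k] (X : Scheme.{u}) [X.Over (Spec (CommRingCat.of k))] (K : Type u) [Field K] [Algebra k K]
    (x' : Curv2.bc k X K) :
    (Curv2.bcFst k X K).base '' connectedComponent x' = connectedComponent (Curv2.bcFst k X K x') := by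
  let π := Curv2.bcFst k X K
  let x := π x'
  refine Set.Subset.antisymm (π.continuous.image_connectedComponent_subset x') ?_
  let Z : TopologicalSpace.Closeds X := ⟨connectedComponent x, isClosed_connectedComponent⟩
  let I := Scheme.IdealSheafData.vanishingIdeal Z
  let h := I.subschemeι
  have hr : Set.range h = connectedComponent x := by
    rw [Scheme.IdealSheafData.range_subschemeι, Scheme.IdealSheafData.coe_support_vanishingIdeal]
    rfl
  haveI : ConnectedSpace I.subscheme := by
    rw [connectedSpace_iff_univ]
    refine ⟨?_, ?_⟩
    · obtain ⟨a, -⟩ := hr.ge (mem_connectedComponent (x := x))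
      exact ⟨a, trivial⟩
    · refine h.isEmbedding.isInducing.isPreconnected_image.mp ?_
      rw [Set.image_univ, hr]
      exact isPreconnected_connectedComponent
  letI : I.subscheme.Over (Spec (CommRingCat.of k)) := ⟨h ≫ (X ↘ Spec (CommRingCat.of k))⟩
  obtain ⟨q, hq1, -, hq3, -⟩ := GeomIrr.exists_bcMap (X ↘ Spec (CommRingCat.of k)) (Spec.map (CommRingCat.ofHom (algebraMap k K))) h
  obtain ⟨y', hy'⟩ : x' ∈ Set.range q := hq3.ge (show π x' ∈ Set.range h from hr.ge mem_connectedComponent)
  rintro b hb
  obtain ⟨a, rfl⟩ := hr.ge hb
  obtain ⟨y, hy, hya⟩ := (GeomIrr.image_connectedComponent_eq_univ' k I.subscheme K y').ge (Set.mem_univ a)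
  refine ⟨q y, ?_, ?_⟩
  · rw [← hy']
    exact q.continuous.image_connectedComponent_subset y' ⟨y, hy, rfl⟩
  · rw [← hya]
    exact congrArg (fun g => g y) hq1

end Groth.Agent.S1583
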