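import Groth.Statements.S1654
import Groth.Agent.Lib.GeomIrr18.Level
import Mathlib.AlgebraicGeometry.Noetherian

set_option autoImplicit false
universe u
open CategoryTheory CategoryTheory.Limits AlgebraicGeometry
open Variety

namespace Groth.Agent.S1654

/-- Let X be a k-scheme locally of finite type, having only finitely many irreducible components. There
is then a finite separable extension k' of k such that every irreducible component of X_{k'}, with
its reduced induced structure, is geometrically irreducible over k'. -/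
theorem result (k : Type u) [Field k] (X : Scheme.{u}) [X.Over (Spec (CommRingCat.of k))] [LocallyOfFiniteType (X ↘ (Spec (CommRingCat.of k)))]
    (hirr : (irreducibleComponents (X : Type u)).Finite) :
    ∃ (k' : Type u) (_ : Field k') (_ : Algebra k k'), FiniteDimensional k k' ∧ Algebra.IsSeparable k k' ∧
      ∀ (T : Set (Curv2.bc k X k')) (hT : T ∈ irreducibleComponents (Curv2.bc k X k' : Type u)),
        GeometricallyIrreducible
          ((Scheme.IdealSheafData.vanishingIdeal ⟨T, isClosed_of_mem_irreducibleComponents T hT⟩).subschemeι ≫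
            Curv2.bcSnd k X k') := by
  let Ω := SeparableClosure k
  let π := Curv2.bcFst k X Ω
  choose g hg hgT using fun Z : irreducibleComponents ↥X => GeomIrr.exists_generic_component Z.2
  haveI := hirr.to_subtype
  have hfin : {z : ↥(Curv2.bc k X Ω) | GeomIrr.IsMaximalPt z}.Finite := by
    haveI := GeomIrr.isIntegralHom_fst (X ↘ Spec (CommRingCat.of k)) Ω
    haveI : LocallyOfFiniteType (Curv2.bcSnd k X Ω) := MorphismProperty.pullback_snd _ _ inferInstance
    haveI : IsLocallyNoetherian (Curv2.bc k X Ω) := LocallyOfFiniteType.isLocallyNoetherian (Curv2.bcSnd k X Ω)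
    choose W hW hgW _ using fun Z => exists_isAffineOpen_mem_and_subset (X := X) (x := g Z) (U := ⊤) trivial
    let M : irreducibleComponents ↥X → Set ↥(Curv2.bc k X Ω) := fun Z => {z | GeomIrr.IsMaximalPt z ∧ π z ∈ W Z}
    refine (Set.finite_iUnion (f := M) fun Z => ?_).subset fun z hz => ?_
    · let V : (Curv2.bc k X Ω).Opens := π ⁻¹ᵁ W Z
      haveI : CompactSpace (V : Scheme.{u}) := isCompact_iff_compactSpace.mp
        (QuasiCompact.isCompact_preimage (f := π) _ (W Z).isOpen (hW Z).isCompact)
      haveI : IsNoetherian (V : Scheme.{u}) := ⟨⟩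
      haveI := (TopologicalSpace.NoetherianSpace.finite_irreducibleComponents (α := (V : Scheme.{u}))).to_subtype
      have hcl : ∀ w : M Z, closure ({⟨w.1, w.2.2⟩} : Set (V : Scheme.{u})) ∈ irreducibleComponents (V : Scheme.{u}) := fun w =>
        GeomIrr.closure_mem_of_isMaximalPt fun y hy => Subtype.ext (w.2.1 y.1 (hy.map continuous_subtype_val))
      refine Set.finite_coe_iff.mp (Finite.of_injective
        (fun w : M Z => (⟨_, hcl w⟩ : irreducibleComponents (V : Scheme.{u}))) fun a b hab => ?_)
      have h2 := (inseparable_iff_closure_eq.mpr (congrArg Subtype.val hab)).eq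
      exact Subtype.ext (Subtype.mk.inj h2)
    · have hm := GeomIrr.isMaximalPt_bcFst k X Ω hz
      let Z : irreducibleComponents ↥X := ⟨_, GeomIrr.closure_mem_of_isMaximalPt hm⟩
      refine Set.mem_iUnion.mpr ⟨Z, hz, ?_⟩
      have h1 : g Z = π z := (inseparable_iff_closure_eq.mpr (hgT Z)).eq
      exact h1 ▸ hgW Z
  obtain ⟨F, hF, hirr'⟩ := GeomIrr.exists_level_irreducible k X hfin
  haveI := hF
  refine ⟨F, inferInstance, inferInstance, inferInstance, Algebra.isSeparable_tower_bot_of_isSeparable k F Ω, fun T hT => ?_⟩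
  refine ⟨geometrically_iff_of_commRing_of_isClosedUnderIsomorphisms.mpr fun K _ _ => ?_⟩
  let I := Scheme.IdealSheafData.vanishingIdeal ⟨T, isClosed_of_mem_irreducibleComponents T hT⟩
  obtain ⟨q, -, -, hq, hqi⟩ := GeomIrr.exists_bcMap (Curv2.bcSnd k X F) (Spec.map (CommRingCat.ofHom (algebraMap F K))) I.subschemeι
  haveI := hqi inferInstance
  rw [Scheme.IdealSheafData.range_subschemeι, Scheme.IdealSheafData.coe_support_vanishingIdeal] at hq
  have h1 : IsIrreducible (Set.range q) := hq ▸ hirr' K T hT
  refine (irreducibleSpace_def _).mpr (show IsIrreducible (Set.univ : Set _) from ?_)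
  rw [← Set.preimage_range q]
  refine ⟨⟨(h1.1.choose_spec).choose, (h1.1.choose_spec).choose, rfl⟩, ?_⟩
  intro u v hu hv ⟨a, _, ha⟩ ⟨b, _, hb⟩
  obtain ⟨u', hu', rfl⟩ := q.isEmbedding.isInducing.isOpen_iff.mp hu
  obtain ⟨v', hv', rfl⟩ := q.isEmbedding.isInducing.isOpen_iff.mp hv
  obtain ⟨_, ⟨c, rfl⟩, hc⟩ := h1.2 u' v' hu' hv' ⟨q a, ⟨a, rfl⟩, ha⟩ ⟨q b, ⟨b, rfl⟩, hb⟩
  exact ⟨c, ⟨c, rfl⟩, hc⟩

end Groth.Agent.S1654
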