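import Groth.Statements.S4623
import Groth.Agent.Lib.GeomIrr18.Res

set_option autoImplicit false
open CategoryTheory AlgebraicGeometry
universe u
open FBase

namespace Groth.Agent.S4623

/-- Let h : X → Y be a surjective morphism of schemes over a field k. If X is geometrically irreducible
over k, then Y is geometrically irreducible over k. -/
theorem result {k : Type u} [Field k] {X Y : Scheme.{u}}
    (f : X ⟶ Spec (CommRingCat.of k)) (g : Y ⟶ Spec (CommRingCat.of k)) (h : X ⟶ Y) (w : h ≫ g = f)
    [Surjective h] [GeometricallyIrreducible f] : GeometricallyIrreducible g := by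
  subst w
  refine ⟨geometrically_iff_of_commRing_of_isClosedUnderIsomorphisms.mpr fun K _ _ => ?_⟩
  obtain ⟨q, -, -, hq, -⟩ := Groth.Agent.GeomIrr.exists_bcMap g (Spec.map (CommRingCat.ofHom (algebraMap k K))) h
  haveI : Surjective q := ⟨fun z => hq.ge (Set.mem_preimage.mpr (h.surjective _))⟩
  haveI := GeometricallyIrreducible.geometrically_irreducibleSpace (f := h ≫ g) (Spec.map (CommRingCat.ofHom (algebraMap k K))) _ _
    (IsPullback.of_hasPullback _ _)
  exact Groth.Agent.GeomIrr.irreducibleSpace_of_surjective q

end Groth.Agent.S4623
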