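import Groth.Statements.S5641
import Groth.Agent.Lib.Spread4.Components
import Groth.Agent.Lib.Spread4.FiniteModel
import Groth.Agent.Lib.Spread4.Gen
import Groth.Agent.Lib.UnivHomeo.Basic
-- import your own Groth.Agent.* helpers here

set_option autoImplicit false
universe u
open CategoryTheory CategoryTheory.Limits AlgebraicGeometry
open FlatMor

namespace Groth.Agent.S5641

/-- Let S be an integral Noetherian scheme and f : X ⟶ S a morphism of finite type. Then there are a
nonempty open subscheme V of S, an integral scheme S' and a finite flat surjective morphism h : S' ⟶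
V such that every irreducible component of X' = X ×_S S', given its reduced closed-subscheme
structure, is flat over S' with geometrically integral fibres. (Fibres over all points of S' are
nonempty here, which the published statement does not require; it is obtained by shrinking V once
more.) -/
theorem result {X S : Scheme.{u}} [IsNoetherian S] [IsIntegral S]
    (f : X ⟶ S) [LocallyOfFiniteType f] [QuasiCompact f] :
    ∃ (V : S.Opens) (S' : Scheme.{u}) (h : S' ⟶ (V : Scheme.{u})), (V : Set S).Nonempty ∧ IsIntegral S' ∧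
      IsFinite h ∧ Flat h ∧ Surjective h ∧
      ∀ (Z : Scheme.{u}) (i : Z ⟶ pullback f (h ≫ V.ι)) [IsClosedImmersion i] [IsReduced Z],
        Set.range i.base ∈ irreducibleComponents ↥(pullback f (h ≫ V.ι)) →
          Flat (i ≫ pullback.snd f (h ≫ V.ι)) ∧ GeometricallyIntegral (i ≫ pullback.snd f (h ≫ V.ι)) := by
  classical
  obtain ⟨U, hU, hηU, -⟩ := exists_isAffineOpen_mem_and_subset (X := S) (x := genericPoint S) (U := ⊤) trivial
  haveI : Nonempty U := ⟨⟨_, hηU⟩⟩
  let A : Type u := Γ(S, U)
  haveI : IsDomain A := inferInstanceAs (IsDomain Γ(S, U))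
  haveI : IsNoetherianRing A := IsLocallyNoetherian.component_noetherian ⟨U, hU⟩
  let K := FractionRing A
  let j : Spec (CommRingCat.of A) ⟶ S := hU.fromSpec
  let p : Spec (CommRingCat.of K) ⟶ S := Spec.map (CommRingCat.ofHom (algebraMap A K)) ≫ j
  obtain ⟨L, _, _, hfin, hL⟩ := Spread4.exists_field_components K (pullback.snd f p)
  haveI := hfin
  letI : Algebra A L := ((algebraMap K L).comp (algebraMap A K)).toAlgebra
  haveI : IsScalarTower A K L := IsScalarTower.of_algebraMap_eq' rfl
  obtain ⟨B, hBfin, hBinj, hBfr⟩ := Spread4.exists_finite_model A K L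
  let χ : B →+* L := B.val.toRingHom
  have hkerB : RingHom.ker χ ≤ nilradical B := fun b hb => by
    rw [show b = 0 from Subtype.ext hb]; exact zero_mem _
  let g₀ : Spec (CommRingCat.of B) ⟶ Spec (CommRingCat.of A) := Spec.map (CommRingCat.ofHom (algebraMap A B))
  haveI : IsFinite g₀ := (IsFinite.SpecMap_iff _).2 (RingHom.finite_algebraMap.2 hBfin)
  haveI := hBfin
  haveI : Surjective g₀ := UH.surjective_of_injective _ hBinj (fun b => Algebra.IsIntegral.isIntegral b)
  haveI : IsNoetherianRing B := isNoetherian_of_tower A (isNoetherian_of_isNoetherianRing_of_finite A B)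
  obtain ⟨σ, hσ, hσχ⟩ := Spread4.exists_iso_generic χ hkerB (fun x => by
    obtain ⟨b, d, hd, e⟩ := hBfr x
    exact ⟨b, d, hd, e⟩)
  haveI := hσ
  let P := pullback f (g₀ ≫ j)
  let F : P ⟶ Spec (CommRingCat.of B) := pullback.snd f (g₀ ≫ j)
  obtain ⟨a, ha⟩ := Spread4.exists_fibre_comparison f (g₀ ≫ j) _ p
    (Spec.map (CommRingCat.ofHom (algebraMap K L))) σ (by
      rw [reassoc_of% hσχ]
      simp only [g₀, p, ← Category.assoc]
      congr 1
      simp only [← Spec.map_comp, ← CommRingCat.ofHom_comp]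
      rfl)
  haveI : IsIso a := MorphismProperty.of_isPullback (P := MorphismProperty.isomorphisms Scheme) ha.flip
    (inferInstanceAs (IsIso σ))
  obtain ⟨W, hW, hWgood⟩ := Spread4.exists_good_open F (fun Z i _ _ hi => by
    have hi' : Set.range (i ≫ inv a) ∈ irreducibleComponents ↥(pullback (pullback.snd f p)
        (Spec.map (CommRingCat.ofHom (algebraMap K L)))) := by
      have hr : Set.range (i ≫ inv a) = a ⁻¹' Set.range i := by
        ext z
        constructor
        · rintro ⟨w, rfl⟩
          exact ⟨w, by rw [← Scheme.Hom.comp_apply, Category.assoc, IsIso.inv_hom_id, Category.comp_id]⟩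
        · rintro ⟨w, hw⟩
          refine ⟨w, ?_⟩
          rw [Scheme.Hom.comp_apply, hw, ← Scheme.Hom.comp_apply, IsIso.hom_inv_id]
          rfl
      rw [hr]
      refine preimage_mem_irreducibleComponents hi a.isOpenEmbedding ?_
      rw [a.surjective.range_eq, Set.inter_univ]
      exact hi.1.1
    have h1 : GeometricallyIntegral (((i ≫ inv a) ≫ pullback.snd (pullback.snd f p)
        (Spec.map (CommRingCat.ofHom (algebraMap K L)))) ≫ σ) :=
      (MorphismProperty.cancel_right_of_respectsIso (P := @GeometricallyIntegral) _ σ).2 (hL Z (i ≫ inv a) hi')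
    rwa [Category.assoc, ← ha.w, Category.assoc, IsIso.inv_hom_id_assoc] at h1)
  obtain ⟨Wf, hWf, hflat, -⟩ := S0414.result g₀
  let bad : Set (Spec (CommRingCat.of A)) := g₀ '' (W : Set (Spec (CommRingCat.of B)))ᶜ
  have hbad : IsClosed bad := g₀.isClosedMap _ W.isOpen.isClosed_compl
  let ξ : Spec (CommRingCat.of A) := ⟨⊥, Ideal.isPrime_bot⟩
  have hξ : ξ ∉ bad := by
    rintro ⟨w, hw, e⟩
    refine hw ?_
    have h0 : w.asIdeal = ⊥ := by
      haveI : Algebra.IsIntegral A B := inferInstance
      exact Ideal.eq_bot_of_comap_eq_bot (R := A) (congrArg PrimeSpectrum.asIdeal e)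
    obtain ⟨w', hw'⟩ := hW
    exact ((PrimeSpectrum.le_iff_specializes w w').1 (by
      show w.asIdeal ≤ w'.asIdeal
      rw [h0]; exact bot_le)).mem_open W.isOpen hw'
  have hξWf : ξ ∈ Wf := by
    obtain ⟨w', hw'⟩ := hWf.nonempty
    exact ((PrimeSpectrum.le_iff_specializes ξ w').1 bot_le).mem_open Wf.isOpen hw'
  obtain ⟨O, hO, hξO, hOsub⟩ := exists_isAffineOpen_mem_and_subset (X := Spec (CommRingCat.of A)) (x := ξ)
    (U := ⟨badᶜ ∩ (Wf : Set _), hbad.isOpen_compl.inter Wf.isOpen⟩) ⟨hξ, hξWf⟩
  let O' : (Spec (CommRingCat.of B)).Opens := g₀ ⁻¹ᵁ O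
  have hO'W : O' ≤ W := fun z hz => by
    by_contra hzW
    exact (hOsub (show g₀ z ∈ (O : Set _) from hz)).1 ⟨z, hzW, rfl⟩
  haveI : Nonempty O' := by
    obtain ⟨z, hz⟩ := g₀.surjective ξ
    exact ⟨⟨z, show g₀ z ∈ O by rw [hz]; exact hξO⟩⟩
  let j' : (O : Scheme.{u}) ⟶ S := O.ι ≫ j
  let h : (O' : Scheme.{u}) ⟶ (j'.opensRange : Scheme.{u}) := (g₀ ∣_ O) ≫ j'.isoOpensRange.hom
  haveI : IsFinite (g₀ ∣_ O) := IsZariskiLocalAtTarget.restrict (P := @IsFinite) inferInstance O
  haveI : Surjective (g₀ ∣_ O) := IsZariskiLocalAtTarget.restrict (P := @Surjective) inferInstance O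
  haveI : Flat (g₀ ∣_ O) := MorphismProperty.of_isPullback (P := @Flat)
    (Spread4.isPullback_restrict_le g₀ (show O ≤ Wf from fun z hz => (hOsub hz).2)) hflat
  haveI : IsIntegral (O' : Scheme.{u}) := isIntegral_of_isOpenImmersion O'.ι
  have hh : h ≫ j'.opensRange.ι = O'.ι ≫ g₀ ≫ j := by
    simp only [h, Category.assoc]
    rw [Scheme.Hom.isoOpensRange_hom_ι, morphismRestrict_ι_assoc]
  refine ⟨j'.opensRange, O', h, ⟨_, ⟨⟨ξ, hξO⟩, rfl⟩⟩, inferInstance, inferInstance, inferInstance, inferInstance,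
    fun Z i _ _ hi => ?_⟩
  let m : pullback f (h ≫ j'.opensRange.ι) ⟶ P := pullback.lift (pullback.fst _ _) (pullback.snd _ _ ≫ O'.ι)
    (pullback.condition.trans ((congrArg (pullback.snd f _ ≫ ·) hh).trans (Category.assoc _ _ _).symm))
  have hm : IsPullback m (pullback.snd f (h ≫ j'.opensRange.ι)) F O'.ι := by
    refine IsPullback.of_right ?_ (pullback.lift_snd _ _ _) (IsPullback.of_hasPullback f (g₀ ≫ j))
    rw [pullback.lift_fst, ← hh]
    exact IsPullback.of_hasPullback _ _
  haveI : IsOpenImmersion m := MorphismProperty.of_isPullback hm.flip inferInstance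
  let C : Set P := closure (m '' Set.range i)
  have hCirr : IsIrreducible C := (hi.1.image _ m.continuous.continuousOn).closure
  have hpreC : m ⁻¹' C = Set.range i := by
    refine Set.Subset.antisymm ?_ fun z hz => subset_closure ⟨z, hz, rfl⟩
    have h1 : m ⁻¹' C = closure (Set.range i) := by
      rw [show C = closure (m '' Set.range i) from rfl, ← m.isOpenEmbedding.isEmbedding.closure_eq_preimage_closure_image]
    rw [h1, i.isClosedEmbedding.isClosed_range.closure_eq]
  have hC : C ∈ irreducibleComponents (P : Type u) := by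
    refine ⟨hCirr, fun D hD hCD => ?_⟩
    obtain ⟨x₀, hx₀⟩ := hi.1.1
    have hne : (D ∩ Set.range m).Nonempty := ⟨m x₀, hCD (subset_closure ⟨x₀, hx₀, rfl⟩), ⟨x₀, rfl⟩⟩
    have hD' : IsPreirreducible (m ⁻¹' D) := hD.2.preimage m.isOpenEmbedding
    have h2 : Set.range i = m ⁻¹' D :=
      le_antisymm (fun z hz => hCD (subset_closure ⟨z, hz, rfl⟩))
        (hi.2 ⟨⟨x₀, hCD (subset_closure ⟨x₀, hx₀, rfl⟩)⟩, hD'⟩ fun z hz => hCD (subset_closure ⟨z, hz, rfl⟩))
    show D ⊆ closure (m '' Set.range i)
    rw [h2, Set.image_preimage_eq_inter_range]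
    exact subset_closure_inter_of_isPreirreducible_of_isOpen hD.2 m.isOpenEmbedding.isOpen_range hne
  obtain ⟨hq1, hq2⟩ := hWgood C hC (by
    obtain ⟨x₀, hx₀⟩ := hi.1.1
    refine ⟨m x₀, subset_closure ⟨x₀, hx₀, rfl⟩, hO'W ?_⟩
    rw [← Scheme.Hom.comp_apply, hm.w, Scheme.Hom.comp_apply]
    exact (pullback.snd f (h ≫ j'.opensRange.ι) x₀).2)
  let I := Scheme.IdealSheafData.vanishingIdeal (X := P) ⟨C, isClosed_of_mem_irreducibleComponents C hC⟩
  haveI : IsReduced I.subscheme := Spread4.isReduced_vanishing _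
  let Q := pullback I.subschemeι m
  haveI : IsClosedImmersion (pullback.snd I.subschemeι m) := MorphismProperty.pullback_snd _ _ inferInstance
  haveI : IsReduced Q := isReduced_of_isOpenImmersion (pullback.fst I.subschemeι m)
  have hQr : Set.range i = Set.range (pullback.snd I.subschemeι m) := by
    rw [Scheme.Pullback.range_snd, Spread4.range_vanishing]
    exact hpreC.symm
  obtain ⟨e, he, hei⟩ := Spread4.exists_iso_of_range_eq i (pullback.snd I.subschemeι m) hQr
  haveI := he
  have hsq : IsPullback (pullback.fst I.subschemeι m) (pullback.snd I.subschemeι m ≫ pullback.snd f (h ≫ j'.opensRange.ι))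
      (I.subschemeι ≫ F) O'.ι := (IsPullback.of_hasPullback I.subschemeι m).paste_vert hm
  have key : ∀ (Pp : MorphismProperty Scheme.{u}) [Pp.IsStableUnderBaseChange], Pp ((I.subschemeι ≫ F) ∣_ W) →
      Pp (i ≫ pullback.snd f (h ≫ j'.opensRange.ι)) := by
    intro Pp _ hp
    have h1 : Pp ((I.subschemeι ≫ F) ∣_ O') := MorphismProperty.of_isPullback (Spread4.isPullback_restrict_le _ hO'W) hp
    have h2 : IsPullback (pullback.fst I.subschemeι m) (pullback.snd I.subschemeι m ≫ pullback.snd f (h ≫ j'.opensRange.ι))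
      (I.subschemeι ≫ F) O'.ι := hsq
    have h3 := (isPullback_morphismRestrict (I.subschemeι ≫ F) O').flip
    have h4 : Pp (pullback.snd I.subschemeι m ≫ pullback.snd f (h ≫ j'.opensRange.ι)) := by
      have e2 := h2.isoIsPullback_hom_snd _ _ h3
      rw [← e2]
      exact (MorphismProperty.cancel_left_of_respectsIso Pp _ _).2 h1
    rw [← hei, Category.assoc]
    exact (MorphismProperty.cancel_left_of_respectsIso Pp e _).2 h4
  exact ⟨key @Flat hq1, key @GeometricallyIntegral hq2⟩

end Groth.Agent.S5641
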