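import Groth.Statements.S6542
-- import your own Groth.Agent.* helpers here
import Groth.Agent.Lib.CurveCoh17.P1Apps
import Groth.Agent.Lib.DVRVal.Curve
import Groth.Agent.Lib.VB17.Setup

set_option autoImplicit false
universe u
open CategoryTheory CategoryTheory.Limits AlgebraicGeometry
attribute [local instance] Curv2.resAlgebra
open Curves

namespace Groth.Agent.S6542

/-- Let X be a proper curve over the field k (proper, integral, of dimension one). If H^1(X, O_X) = 0
and there are closed points x_1, ..., x_n of X whose local rings are normal and whose residue-field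
degrees over k have greatest common divisor 1, then X is isomorphic to P^1_k over k. -/
theorem result (k : Type u) [Field k] (X : Scheme.{u}) [X.Over (Spec (CommRingCat.of k))]
    [IsIntegral X] [IsProper (X ↘ (Spec (CommRingCat.of k)))] (hdim : topologicalKrullDim X = 1)
    (h1 : Subsingleton (Coh.HH X (Coh.structureModule X) 1))
    (s : Finset X) (hcl : ∀ x ∈ s, IsClosed ({x} : Set X)) (hn : ∀ x ∈ s, IsIntegrallyClosed (X.presheaf.stalk x))
    (hgcd : s.gcd (fun x => Module.finrank k (X.residueField x)) = 1) :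
    ∃ e : X ≅ CohB1.ProjSpace 1 k, e.hom ≫ CohB1.ProjSpace.toSpec 1 k = X ↘ (Spec (CommRingCat.of k)) := by
  have hg : Curv2.genus k X = 0 := Module.finrank_zero_of_subsingleton
  have hX : Groth.Agent.CurveCoh17.CurveLike k X := Groth.Agent.VB17.curveLike hdim
  haveI := hX.noetherian
  let Deg : AddSubgroup ℤ :=
    { carrier := {n | ∃ L : X.Modules, PicF.IsInvertible L ∧ Curv2.deg k X L 1 = n}
      zero_mem' := ⟨_, PicLoc.isInvertible_structureModule X, Groth.Agent.CurveCoh17.deg_structureModule⟩
      add_mem' := by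
        rintro _ _ ⟨L, hL, rfl⟩ ⟨M, hM, rfl⟩
        exact ⟨_, Groth.Agent.M2.isInvertible_tensor hL hM, hX.deg_tensor_invertible hL hM⟩
      neg_mem' := by
        rintro _ ⟨L, hL, rfl⟩
        obtain ⟨D, hD, ⟨e⟩⟩ := Groth.Agent.M2.exists_inverse hL
        exact ⟨D, hD, hX.deg_of_tensor_iso hL hD e⟩ }
  have hpt : ∀ x ∈ s, ((Module.finrank k (X.residueField x) : ℕ) : ℤ) ∈ Deg := fun x hx => by
    have hpid : IsPrincipalIdealRing (X.presheaf.stalk x) := by
      haveI := hn x hx
      haveI := Groth.Agent.DVRVal.valuationRing_of_normal (X.presheaf.stalk x)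
        ((Groth.Agent.VB17.ringKrullDim_stalk_le_topologicalKrullDim x).trans hdim.le)
      have e : IsNoetherianRing (X.presheaf.stalk x) ↔ IsPrincipalIdealRing (X.presheaf.stalk x) :=
        (IsBezout.TFAE (R := X.presheaf.stalk x)).out 0 1
      exact e.1 inferInstance
    set Z := Scheme.IdealSheafData.vanishingIdeal (⟨{x}, hcl x hx⟩ : TopologicalSpace.Closeds X)
    have hI := Groth.Agent.CurveCoh17.isInvertible_pointIdeal_of_pid hdim (hcl x hx) hpid
    obtain ⟨D, hD, ⟨e⟩⟩ := Groth.Agent.M2.exists_inverse hI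
    refine ⟨D, hD, ?_⟩
    have h := Groth.Agent.CurveCoh17.euler_add (Groth.Agent.M2.shortExact_idealMod Z)
      (hX.adm (Groth.Agent.CurveCoh17.isCoh_idealMod Z)) (hX.adm (Groth.Agent.CurveCoh17.isCoh_quotMod Z))
    dsimp only at h
    rw [(Groth.Agent.CurveCoh17.suppIn_quotMod_point (hcl x hx)).euler_eq
      (hX.fin _ (Groth.Agent.CurveCoh17.isCoh_quotMod Z) 0),
      Groth.Agent.CurveCoh17.finrank_quotMod_point (hcl x hx)] at h
    rw [hX.deg_of_tensor_iso hI hD e, Curv2.deg]
    push_cast at h ⊢
    linarith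
  have key : ∀ t : Finset X, (∀ x ∈ t, ((Module.finrank k (X.residueField x) : ℕ) : ℤ) ∈ Deg) →
      ((t.gcd fun x => Module.finrank k (X.residueField x) : ℕ) : ℤ) ∈ Deg := by
    classical
    intro t
    induction t using Finset.induction with
    | empty => intro _; simp
    | insert a t hat ih =>
      intro h
      rw [Finset.gcd_insert, gcd_eq_nat_gcd, Nat.gcd_eq_gcd_ab]
      refine add_mem ?_ ?_
      · rw [mul_comm, ← smul_eq_mul]
        exact Deg.zsmul_mem (h a (Finset.mem_insert_self a t)) _
      · rw [mul_comm, ← smul_eq_mul]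
        exact Deg.zsmul_mem (ih fun x hx => h x (Finset.mem_insert_of_mem hx)) _
  obtain ⟨L, hL, hd⟩ := key s hpt
  rw [hgcd] at hd
  exact Groth.Agent.CurveCoh17.exists_iso_P1 hdim hL hd (hX.two_le_h0 hg hL hd)

end Groth.Agent.S6542
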