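import Groth.Statements.S1573
import Groth.Agent.Lib.SecDiv18.Punctured
import Groth.Agent.Lib.WeakAss18.Push
import Mathlib.AlgebraicGeometry.Morphisms.Affine
import Mathlib.AlgebraicGeometry.ResidueField
import Mathlib.RingTheory.Ideal.MinimalPrime.Basic
import Mathlib.RingTheory.Ideal.Height

set_option autoImplicit false
universe u
open CategoryTheory CategoryTheory.Limits AlgebraicGeometry
open Divisors

namespace Groth.Agent.S1573

/-- Let X be locally Noetherian and U an open subscheme whose inclusion is an affine morphism. At every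
point ξ outside U which is maximal under generisation among points outside U, the local ring of X
has dimension at most one; if U is dense the dimension equals one. -/
theorem result (X : Scheme.{u}) [IsLocallyNoetherian X]
    (U : X.Opens) [IsAffineHom U.ι] (ξ : X) (hξ : ξ ∉ U) (hgen : ∀ y : X, y ∉ U → y ⤳ ξ → y = ξ) :
    ringKrullDim (X.presheaf.stalk ξ) ≤ 1 ∧ (Dense (U : Set X) → ringKrullDim (X.presheaf.stalk ξ) = 1) := by
  classical
  obtain ⟨V, hV, hξV, -⟩ := exists_isAffineOpen_mem_and_subset (U := (⊤ : X.Opens)) (x := ξ) trivial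
  haveI : IsNoetherianRing Γ(X, V) := IsLocallyNoetherian.component_noetherian ⟨V, hV⟩
  let := TopCat.Presheaf.algebra_section_stalk X.presheaf (⟨ξ, hξV⟩ : V)
  have := hV.isLocalization_stalk ⟨ξ, hξV⟩
  let P := (hV.primeIdealOf ⟨ξ, hξV⟩).asIdeal
  have hPu : ∀ a, IsUnit (X.presheaf.germ V ξ hξV a) ↔ a ∉ P := fun a => Groth.Agent.M1.isUnit_germ_iff hV hξV a
  have hdim := IsLocalization.AtPrime.ringKrullDim_eq_height P (X.presheaf.stalk ξ)
  have hle : ringKrullDim (X.presheaf.stalk ξ) ≤ 1 := by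
    rw [hdim, ← WithBot.coe_one, WithBot.coe_le_coe]
    by_contra hgt
    -- a chain of two primes below `P`
    obtain ⟨p₀, q, hp₀, hq, hlt1, hlt2⟩ : ∃ p₀ q : Ideal Γ(X, V), p₀.IsPrime ∧ q.IsPrime ∧ p₀ < q ∧ q < P := by
      by_contra hno
      push Not at hno
      refine hgt ((Ideal.height_le_iff (p := P) (n := 1)).mpr fun q hq hqP => ?_)
      rw [Nat.cast_one, Order.lt_one_iff, Ideal.height_eq_zero_iff]
      refine ⟨⟨hq, bot_le⟩, fun p hp hpq => ?_⟩
      exact (not_lt_iff_le_imp_ge.mp fun h => hno p q hp.1 hq h hqP) hpq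
    haveI := hp₀
    haveI := hq
    obtain ⟨y₀, hy₀, hy₀u⟩ := Groth.Agent.WA.exists_point hV p₀
    obtain ⟨y, hy, hyu⟩ := Groth.Agent.WA.exists_point hV q
    have hy₀ξ : y₀ ⤳ ξ := Groth.Agent.WA.specializes_of_isUnit hV hξV hy₀ fun a ha =>
      (hy₀u a).mpr fun h => (hPu a).mp ha (hlt2.le (hlt1.le h))
    have hyξ : y ⤳ ξ := Groth.Agent.WA.specializes_of_isUnit hV hξV hy fun a ha =>
      (hyu a).mpr fun h => (hPu a).mp ha (hlt2.le h)
    have hyy₀ : y₀ ⤳ y := Groth.Agent.WA.specializes_of_isUnit hV hy hy₀ fun a ha =>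
      (hy₀u a).mpr fun h => (hyu a).mp ha (hlt1.le h)
    have hyne : y ≠ ξ := fun h => by
      subst h
      obtain ⟨a, haP, haq⟩ := Set.exists_of_ssubset hlt2
      exact (hPu a).mp ((hyu a).mpr haq) haP
    have hy₀ne : y₀ ≠ ξ := fun h => by
      subst h
      obtain ⟨a, haq, hap⟩ := Set.exists_of_ssubset hlt1
      exact (hPu a).mp ((hy₀u a).mpr hap) (hlt2.le haq)
    have hyU : y ∈ U := by_contra fun h => hyne (hgen y h hyξ)
    have hy₀U : y₀ ∈ U := by_contra fun h => hy₀ne (hgen y₀ h hy₀ξ)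
    have hW : IsAffineOpen (U ⊓ V) := by
      have h := (hV.preimage U.ι).image_of_isOpenImmersion U.ι
      rwa [Scheme.Hom.image_preimage_eq_opensRange_inf, Scheme.Opens.opensRange_ι] at h
    -- everything is mapped to the residue field at the lowest point
    let ψ : X.presheaf.stalk ξ →+* X.residueField y₀ :=
      (X.residue y₀).hom.comp (X.presheaf.stalkSpecializes hy₀ξ).hom
    let θ : Γ(X, U ⊓ V) →+* X.residueField y₀ :=
      (X.residue y₀).hom.comp (X.presheaf.germ (U ⊓ V) y₀ ⟨hy₀U, hy₀⟩).hom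
    have hψ : ∀ a, ψ (X.presheaf.germ V ξ hξV a) = X.residue y₀ (X.presheaf.germ V y₀ hy₀ a) := fun a => by
      change X.residue y₀ (X.presheaf.stalkSpecializes hy₀ξ _) = _
      rw [TopCat.Presheaf.germ_stalkSpecializes_apply]
    have hθ : ∀ a, θ (X.presheaf.map (homOfLE (inf_le_right : U ⊓ V ≤ V)).op a) = ψ (X.presheaf.germ V ξ hξV a) := fun a => by
      rw [hψ]
      change X.residue y₀ (X.presheaf.germ (U ⊓ V) y₀ ⟨hy₀U, hy₀⟩ _) = _
      rw [TopCat.Presheaf.germ_res_apply]
    let A := (X.presheaf.stalk ξ : Type u) ⧸ RingHom.ker ψ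
    haveI : Nontrivial A := Ideal.Quotient.nontrivial_iff.mpr (RingHom.ker_ne_top ψ)
    haveI : IsLocalRing A := IsLocalRing.of_surjective' (Ideal.Quotient.mk (RingHom.ker ψ)) Ideal.Quotient.mk_surjective
    letI : Algebra A (X.residueField y₀) := (RingHom.kerLift ψ).toAlgebra
    have hAψ : ∀ w, algebraMap A (X.residueField y₀) (Ideal.Quotient.mk _ w) = ψ w := fun w => rfl
    have hmax : ∀ w : X.presheaf.stalk ξ, w ∈ IsLocalRing.maximalIdeal _ →
        Ideal.Quotient.mk (RingHom.ker ψ) w ∈ IsLocalRing.maximalIdeal A := fun w hw => by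
      haveI : IsLocalHom (Ideal.Quotient.mk (RingHom.ker ψ)) := IsLocalHom.of_surjective _ Ideal.Quotient.mk_surjective
      exact (IsLocalRing.mem_maximalIdeal _).mpr fun h => (IsLocalRing.mem_maximalIdeal _).mp hw ((isUnit_map_iff _ _).mp h)
    have hPm : ∀ a ∈ P, Ideal.Quotient.mk (RingHom.ker ψ) (X.presheaf.germ V ξ hξV a) ∈ IsLocalRing.maximalIdeal A :=
      fun a ha => hmax _ ((IsLocalRing.mem_maximalIdeal _).mpr fun h => (hPu a).mp h ha)
    have hnum : ∀ a : A, ∃ (r s : Γ(X, V)), s ∉ P ∧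
        a * Ideal.Quotient.mk _ (X.presheaf.germ V ξ hξV s) = Ideal.Quotient.mk _ (X.presheaf.germ V ξ hξV r) := fun a => by
      obtain ⟨w, rfl⟩ := Ideal.Quotient.mk_surjective a
      obtain ⟨⟨r, s⟩, h⟩ := IsLocalization.surj P.primeCompl w
      exact ⟨r, s, s.2, by rw [← map_mul]; exact congrArg _ h⟩
    let B : Submodule A (X.residueField y₀) := Submodule.span A (Set.range θ)
    obtain ⟨x, hxq, hxp⟩ := Set.exists_of_ssubset hlt1
    refine Groth.Agent.SecDiv.false_of_punctured (A := A) (L := X.residueField y₀) (RingHom.kerLift_injective ψ) B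
      (Submodule.subset_span ⟨1, map_one θ⟩) ?_ _ (hPm x (hlt2.le hxq)) ?_ ?_ ?_
    · -- `𝔪 B = B`
      have hunit : ∃ s, s ∉ P ∧ X.presheaf.map (homOfLE (inf_le_right : U ⊓ V ≤ V)).op s ∈
          P.map (X.presheaf.map (homOfLE (inf_le_right : U ⊓ V ≤ V)).op).hom := by
        by_contra hno
        push Not at hno
        obtain ⟨Q, hQ, hPQ, hQd⟩ := Ideal.exists_le_prime_disjoint (P.map (X.presheaf.map (homOfLE (inf_le_right : U ⊓ V ≤ V)).op).hom)
          (P.primeCompl.map (X.presheaf.map (homOfLE (inf_le_right : U ⊓ V ≤ V)).op).hom) (by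
          rw [Set.disjoint_right]
          rintro _ ⟨s, hs, rfl⟩
          exact hno s hs)
        obtain ⟨z, hz, hzu⟩ := Groth.Agent.WA.exists_point hW Q
        have hzξ : z ⤳ ξ := Groth.Agent.WA.specializes_of_isUnit hV hξV hz.2 fun a ha => by
          rw [← X.presheaf.germ_res_apply (homOfLE (inf_le_right : U ⊓ V ≤ V)) z hz a]
          exact (hzu _).mpr (Set.disjoint_right.mp hQd (Submonoid.mem_map_of_mem _ ((hPu a).mp ha : a ∈ P.primeCompl)))
        have hξz : ξ ⤳ z := Groth.Agent.WA.specializes_of_isUnit hV hz.2 hξV fun a ha => by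
          refine (hPu a).mpr fun haP => ?_
          rw [← X.presheaf.germ_res_apply (homOfLE (inf_le_right : U ⊓ V ≤ V)) z hz a] at ha
          exact (hzu _).mp ha (hPQ (Ideal.mem_map_of_mem _ haP))
        exact hξ ((hξz.antisymm hzξ).eq ▸ hz.1)
      obtain ⟨s, hs, hsP⟩ := hunit
      obtain ⟨v, hv⟩ := ((hPu s).mpr hs).exists_left_inv
      refine Submodule.span_le.mpr ?_
      rintro _ ⟨c, rfl⟩
      have hθs : θ (X.presheaf.map (homOfLE (inf_le_right : U ⊓ V ≤ V)).op s * c) ∈ IsLocalRing.maximalIdeal A • B := by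
        generalize X.presheaf.map (homOfLE (inf_le_right : U ⊓ V ≤ V)).op s = e at hsP
        induction hsP using Submodule.span_induction generalizing c with
        | mem e he =>
          obtain ⟨a, ha, rfl⟩ := he
          rw [map_mul, hθ, ← hAψ, ← Algebra.smul_def]
          exact Submodule.smul_mem_smul (hPm a ha) (Submodule.subset_span ⟨c, rfl⟩)
        | zero => rw [zero_mul, map_zero]; exact zero_mem _
        | add a b _ _ ha hb => rw [add_mul, map_add]; exact add_mem (ha c) (hb c)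
        | smul a e _ he => rw [smul_eq_mul, mul_comm a, mul_assoc]; exact he (a * c)
      have h := Submodule.smul_mem (IsLocalRing.maximalIdeal A • B) (Ideal.Quotient.mk _ v) hθs
      rw [Algebra.smul_def, hAψ, map_mul, hθ, ← mul_assoc, ← map_mul, hv, map_one, one_mul] at h
      exact h
    · intro h
      refine (hy₀u x).mpr hxp |>.map (X.residue y₀).hom |>.ne_zero ?_
      have h' := congrArg (algebraMap A (X.residueField y₀)) h
      rw [map_zero, hAψ, hψ] at h'
      exact h'
    · -- `x` is not invertible in `B`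
      intro b hb hxb
      obtain ⟨c, t, ht, hbc⟩ : ∃ c t, t ∉ P ∧ b * ψ (X.presheaf.germ V ξ hξV t) = θ c := by
        clear hxb
        induction hb using Submodule.span_induction with
        | mem b hb => obtain ⟨c, rfl⟩ := hb; exact ⟨c, 1, fun h => (hV.primeIdealOf ⟨ξ, hξV⟩).isPrime.ne_top ((Ideal.eq_top_iff_one _).mpr h), by simp⟩
        | zero => exact ⟨0, 1, fun h => (hV.primeIdealOf ⟨ξ, hξV⟩).isPrime.ne_top ((Ideal.eq_top_iff_one _).mpr h), by simp⟩
        | add b b' _ _ h1 h2 =>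
          obtain ⟨c, t, ht, e⟩ := h1
          obtain ⟨c', t', ht', e'⟩ := h2
          refine ⟨c * X.presheaf.map (homOfLE (inf_le_right : U ⊓ V ≤ V)).op t' + c' * X.presheaf.map (homOfLE (inf_le_right : U ⊓ V ≤ V)).op t,
            t * t', fun h => ((hV.primeIdealOf ⟨ξ, hξV⟩).isPrime.mem_or_mem h).elim ht ht', ?_⟩
          rw [map_add θ, map_mul θ, map_mul θ, hθ, hθ, ← e, ← e', map_mul (X.presheaf.germ V ξ hξV).hom, map_mul ψ]
          ring
        | smul a b _ h1 =>
          obtain ⟨c, t, ht, e⟩ := h1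
          obtain ⟨r, s, hs, hrs⟩ := hnum a
          refine ⟨X.presheaf.map (homOfLE (inf_le_right : U ⊓ V ≤ V)).op r * c, s * t,
            fun h => ((hV.primeIdealOf ⟨ξ, hξV⟩).isPrime.mem_or_mem h).elim hs ht, ?_⟩
          have h3 := congrArg (algebraMap A (X.residueField y₀)) hrs
          rw [map_mul, hAψ, hAψ] at h3
          rw [map_mul θ, hθ, ← h3, ← e, map_mul (X.presheaf.germ V ξ hξV).hom, map_mul ψ, Algebra.smul_def]
          ring
      rw [Algebra.smul_def, hAψ] at hxb
      have h0 : θ (X.presheaf.map (homOfLE (inf_le_right : U ⊓ V ≤ V)).op t - X.presheaf.map (homOfLE (inf_le_right : U ⊓ V ≤ V)).op x * c) = 0 := by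
        rw [map_sub θ, map_mul θ, hθ, hθ, ← hbc, ← mul_assoc, hxb, one_mul, sub_self]
      set f := X.presheaf.map (homOfLE (inf_le_right : U ⊓ V ≤ V)).op t - X.presheaf.map (homOfLE (inf_le_right : U ⊓ V ≤ V)).op x * c with hf
      have hfy : ¬ IsUnit (X.presheaf.germ (U ⊓ V) y ⟨hyU, hy⟩ f) := by
        intro hu
        have h1 : y₀ ∈ X.basicOpen f := hyy₀.mem_open (X.basicOpen f).isOpen ((X.mem_basicOpen f y ⟨hyU, hy⟩).mpr hu)
        have h2 := ((X.mem_basicOpen f y₀ ⟨hy₀U, hy₀⟩).mp h1).map (X.residue y₀).hom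
        rw [show (X.residue y₀).hom (X.presheaf.germ (U ⊓ V) y₀ ⟨hy₀U, hy₀⟩ f) = 0 from h0] at h2
        exact not_isUnit_zero h2
      refine hfy ?_
      rw [hf, map_sub, map_mul, X.presheaf.germ_res_apply, X.presheaf.germ_res_apply]
      have htu : IsUnit (X.presheaf.germ V y hy t) := (hyu t).mpr fun h => ht (hlt2.le h)
      by_contra hu
      refine (IsLocalRing.mem_maximalIdeal _).mp ?_ htu
      have hxm : X.presheaf.germ V y hy x ∈ IsLocalRing.maximalIdeal (X.presheaf.stalk y) :=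
        (IsLocalRing.mem_maximalIdeal _).mpr fun h => (hyu x).mp h hxq
      have h := Ideal.add_mem _ ((IsLocalRing.mem_maximalIdeal _).mpr hu)
        (Ideal.mul_mem_right (X.presheaf.germ (U ⊓ V) y ⟨hyU, hy⟩ c) _ hxm)
      rwa [sub_add_cancel] at h
    · -- powers of `𝔪` push `B` into the ring
      intro b hb a ha
      obtain ⟨r, t, ht, hrt⟩ := hnum a
      have hrP : r ∈ P := by_contra fun hr => by
        have := ((hPu r).mpr hr).map (Ideal.Quotient.mk (RingHom.ker ψ))
        rw [← hrt, IsUnit.mul_iff] at this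
        exact (IsLocalRing.mem_maximalIdeal _).mp ha this.1
      obtain ⟨s, hs, n, hsn⟩ : ∃ s, s ∉ P ∧ ∃ n : ℕ, X.basicOpen (s * r ^ n) ≤ U := by
        by_contra hno
        push Not at hno
        let J : Ideal Γ(X, V) :=
          { carrier := {g | X.basicOpen g ≤ U}
            zero_mem' := by simp
            add_mem' := fun {g h} hg hh => (X.basicOpen_add_le g h).trans (sup_le hg hh)
            smul_mem' := fun g h hh => by
              change X.basicOpen (g * h) ≤ U
              rw [Scheme.basicOpen_mul]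
              exact inf_le_right.trans hh }
        obtain ⟨Q, hQ, hJQ, hQd⟩ := Ideal.exists_le_prime_disjoint J (P.primeCompl ⊔ Submonoid.powers r) (by
          rw [Set.disjoint_right]
          intro g hg hgJ
          obtain ⟨s, hs, _, ⟨n, rfl⟩, rfl⟩ := Submonoid.mem_sup.mp hg
          exact hno s hs n hgJ)
        obtain ⟨z, hz, hzu⟩ := Groth.Agent.WA.exists_point hV Q
        have hzξ : z ⤳ ξ := Groth.Agent.WA.specializes_of_isUnit hV hξV hz fun a ha =>
          (hzu a).mpr (Set.disjoint_right.mp hQd (Submonoid.mem_sup_left ((hPu a).mp ha : a ∈ P.primeCompl)))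
        have hru : IsUnit (X.presheaf.germ V z hz r) :=
          (hzu r).mpr (Set.disjoint_right.mp hQd (Submonoid.mem_sup_right (Submonoid.mem_powers r)))
        have hzU : z ∈ U := by_contra fun h => by
          have := hgen z h hzξ
          subst this
          exact (hPu r).mp hru hrP
        obtain ⟨g, hgU, hzg⟩ := hV.exists_basicOpen_le (V := U) ⟨z, hzU⟩ hz
        exact (hzu g).mp ((X.mem_basicOpen g z hz).mp hzg) (hJQ hgU)
      have hkey : ∀ (g : Γ(X, V)) (hg : X.basicOpen g ≤ U) (c : Γ(X, U ⊓ V)), ∃ (e : Γ(X, V)) (m : ℕ),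
          y₀ ∈ X.basicOpen g → ψ (X.presheaf.germ V ξ hξV g) ^ m * θ c = ψ (X.presheaf.germ V ξ hξV e) := by
        intro g hg c
        haveI := hV.isLocalization_basicOpen g
        have hgW : X.basicOpen g ≤ U ⊓ V := le_inf hg (X.basicOpen_le g)
        obtain ⟨⟨e, ⟨_, m, rfl⟩⟩, he⟩ := IsLocalization.surj (Submonoid.powers g) (X.presheaf.map (homOfLE hgW).op c : Γ(X, X.basicOpen g))
        refine ⟨e, m, fun hy₀g => ?_⟩
        have h := congrArg (X.presheaf.germ (X.basicOpen g) y₀ hy₀g) he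
        rw [map_mul, X.presheaf.germ_res_apply] at h
        erw [X.presheaf.germ_res_apply, X.presheaf.germ_res_apply] at h
        have h' := congrArg (X.residue y₀) h
        rw [map_mul, map_pow, map_pow] at h'
        rw [hψ, hψ, mul_comm]
        exact h'
      have hgen' : ∀ c, ∃ k : ℕ, a ^ k • θ c ∈ LinearMap.range (Algebra.linearMap A (X.residueField y₀)) := by
        intro c
        have ha' := congrArg (algebraMap A (X.residueField y₀)) hrt
        rw [map_mul, hAψ, hAψ] at ha'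
        have hu : ∀ u, u ∉ P → ψ (X.presheaf.germ V ξ hξV u) ≠ 0 := fun u hu => (((hPu u).mpr hu).map ψ).ne_zero
        by_cases hy₀g : y₀ ∈ X.basicOpen (s * r ^ n)
        · obtain ⟨e, m, he⟩ := hkey (s * r ^ n) hsn c
          have he := he hy₀g
          obtain ⟨v, hv⟩ := (((hPu s).mpr hs).mul (((hPu t).mpr ht).pow n) |>.pow m).exists_left_inv
          refine ⟨n * m, Ideal.Quotient.mk _ (v * X.presheaf.germ V ξ hξV e), ?_⟩
          rw [Algebra.linearMap_apply, hAψ, map_mul, ← he, Algebra.smul_def, map_pow]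
          have hv' := congrArg ψ hv
          rw [map_mul, map_one, map_pow, map_mul, map_pow] at hv'
          rw [map_mul, map_mul, map_pow, map_pow, ← ha']
          linear_combination (algebraMap A (X.residueField y₀) a ^ (n * m) * θ c) * hv'
        · have h0 : X.residue y₀ (X.presheaf.germ V y₀ hy₀ (s * r ^ n)) = 0 := by
            change IsLocalRing.residue _ _ = 0
            rw [IsLocalRing.residue_eq_zero_iff, IsLocalRing.mem_maximalIdeal]
            exact fun h => hy₀g ((X.mem_basicOpen _ y₀ hy₀).mpr h)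
          rw [← hψ, map_mul, map_mul, map_pow, map_pow, mul_eq_zero, or_iff_right (hu s hs)] at h0
          have hr0 := eq_zero_of_pow_eq_zero h0
          rw [hr0, mul_eq_zero, or_iff_left (hu t ht)] at ha'
          exact ⟨1, by rw [pow_one, Algebra.smul_def, ha', zero_mul]; exact zero_mem _⟩
      induction hb using Submodule.span_induction with
      | mem b hb => obtain ⟨c, rfl⟩ := hb; exact hgen' c
      | zero => exact ⟨0, by simp⟩
      | add b b' _ _ h1 h2 =>
        obtain ⟨k, hk⟩ := h1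
        obtain ⟨k', hk'⟩ := h2
        refine ⟨k + k', ?_⟩
        rw [smul_add]
        refine Submodule.add_mem _ ?_ ?_
        · rw [pow_add, mul_comm, mul_smul]; exact Submodule.smul_mem _ _ hk
        · rw [pow_add, mul_smul]; exact Submodule.smul_mem _ _ hk'
      | smul w b _ h1 =>
        obtain ⟨k, hk⟩ := h1
        exact ⟨k, by rw [smul_comm]; exact Submodule.smul_mem _ _ hk⟩
  refine ⟨hle, fun hD => le_antisymm hle ?_⟩
  rw [hdim, ← WithBot.coe_one, WithBot.coe_le_coe, Order.one_le_iff_ne_zero]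
  intro h0
  have hPmin : P ∈ minimalPrimes Γ(X, V) := Ideal.height_eq_zero_iff.mp h0
  obtain ⟨g, hg, hgP⟩ : ∃ g : Γ(X, V), (∀ Q ∈ minimalPrimes Γ(X, V), Q ≠ P → g ∈ Q) ∧ g ∉ P := by
    let T : Finset (Ideal Γ(X, V)) := (minimalPrimes.finite_of_isNoetherianRing Γ(X, V)).toFinset.erase P
    have hnle : ¬ T.inf id ≤ P := fun h => by
      obtain ⟨Q, hQ, hle⟩ := (hV.primeIdealOf ⟨ξ, hξV⟩).isPrime.inf_le'.mp h
      obtain ⟨hne, hQ⟩ := Finset.mem_erase.mp hQ
      have hQ := (Set.Finite.mem_toFinset _).mp hQ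
      exact hne (le_antisymm hle (hPmin.2 hQ.1 hle))
    obtain ⟨g, hg, hgP⟩ := SetLike.not_le_iff_exists.mp hnle
    exact ⟨g, fun Q hQ hne => (Finset.inf_le (f := id) (Finset.mem_erase.mpr ⟨hne, (Set.Finite.mem_toFinset _).mpr hQ⟩) : T.inf id ≤ Q) hg, hgP⟩
  obtain ⟨z, hzg, hzU⟩ := hD.inter_open_nonempty _ (X.basicOpen g).isOpen ⟨ξ, (X.mem_basicOpen g ξ hξV).mpr ((hPu g).mpr hgP)⟩
  have hz : z ∈ V := X.basicOpen_le g hzg
  obtain ⟨Q, hQ, hQz⟩ := Ideal.exists_minimalPrimes_le (bot_le : ⊥ ≤ (hV.primeIdealOf ⟨z, hz⟩).asIdeal)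
  have hQP : Q = P := by_contra fun hne =>
    (Groth.Agent.M1.isUnit_germ_iff hV hz g).mp ((X.mem_basicOpen g z hz).mp hzg) (hQz (hg Q hQ hne))
  subst hQP
  refine hξ ((Groth.Agent.WA.specializes_of_isUnit hV hz hξV fun a ha => (hPu a).mpr fun h => ?_).mem_open U.isOpen hzU)
  exact (Groth.Agent.M1.isUnit_germ_iff hV hz a).mp ha (hQz h)

end Groth.Agent.S1573
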