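import Groth.Statements.S11316
import Groth.Agent.Lib.ProjDual12.CMDuality
import Groth.Agent.Lib.ProjDual12.PureDim
-- import your own Groth.Agent.* helpers here

set_option autoImplicit false
set_option backward.isDefEq.respectTransparency false
universe u
open CategoryTheory CategoryTheory.Limits AlgebraicGeometry
attribute [local instance] HasDerivedCategory.standard
open ProjDual

namespace Groth.Agent.S11316

/-- Let k be an algebraically closed field and X a closed subscheme of some P^N_k, of dimension n, which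
is Cohen–Macaulay (every local ring of X is Cohen–Macaulay) and equidimensional (every irreducible
component of X has dimension n); let (ω, t) be a dualizing sheaf for X, i.e. ω is coherent, t :
H^n(X, ω) → k is k-linear, and for every coherent F and every k-linear form ψ on H^n(X, F) there is
exactly one φ : F → ω with ψ = t ∘ H^n(φ). Then for every finite locally free O_X-module F for which
the internal Hom functor Hom_{O_X}(F, -) exists (right adjoint of F ⊗ -) and every i ≤ n, the k-dual
of H^i(X, F) is isomorphic to H^(n-i)(X, Hom_{O_X}(F, ω)). (Existence of a k-linear isomorphism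
only; the published statement writes the second module as H^(n-i)(X, F^∨ ⊗ ω) and obtains the
isomorphism from the duality maps θ^i.) -/
theorem result
    (k : Type u) [Field k] [IsAlgClosed k] (N n : ℕ) (X : Scheme.{u}) [X.Over (Spec (CommRingCat.of k))]
    (ι : X ⟶ CohB1.ProjSpace N k) [IsClosedImmersion ι] (hι : ι ≫ CohB1.ProjSpace.toSpec N k = X ↘ Spec (CommRingCat.of k))
    (hn : topologicalKrullDim ↥X = n)
    (hCM : ∀ x : X, LocCoh.IsCohenMacaulayLocalRing (X.presheaf.stalk x))
    (heq : ∀ Z : Set ↥X, Z ∈ irreducibleComponents ↥X → topologicalKrullDim ↥Z = (n : WithBot ℕ∞))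
    (ω : X.Modules) (hω : Coh.IsCoh ω) (t : Coh.HH X ω n →ₗ[k] k)
    (hdual : ∀ F : X.Modules, Coh.IsCoh F → ∀ ψ : Coh.HH X F n →ₗ[k] k,
        ∃! φ : F ⟶ ω, ∀ x : Coh.HH X F n,
          ψ x = t (Sheaf.H.map ((SheafOfModules.toSheaf X.ringCatSheaf).map φ) n x))
    (F : X.Modules) (hF : FlatMod.IsFinLocFree F) [DCoh.HasSheafHom F] (i : ℕ) (hi : i ≤ n) :
    Nonempty (Module.Dual k (Coh.HH X F i) ≃ₗ[k] Coh.HH X ((DCoh.sheafHom F).obj ω) (n - i)) := by
  haveI : IsLocallyNoetherian (CohB1.ProjSpace N k) := CohFound.ProjNum.isLocallyNoetherian_projSpace N k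
  haveI : IsLocallyNoetherian X := LocallyOfFiniteType.isLocallyNoetherian ι
  haveI : HasExt.{u} X.Modules := hasExt_of_enoughInjectives.{u} _
  have hneg : ∀ p, p < n → ProjDual12.NegX ι p := fun p hp => ProjDual12.negX_of_depth ι (fun x hx => by
    have h := (hCM x).supportDim_eq_depth
    rw [Module.supportDim_self_eq_ringKrullDim] at h
    have h2 : (n : WithBot ℕ∞) ≤ ringKrullDim (X.presheaf.stalk x) :=
      ProjDual12.le_ringKrullDim_stalk_closed (ι ≫ CohB1.ProjSpace.toSpec N k) heq hx
    rw [h] at h2
    exact_mod_cast h2) hp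
  obtain ⟨e⟩ := ProjDual12.nonempty_ext_dual ι t hι hω hdual (s := n) (fun p hp _ => hneg p hp)
    (F := F) (CohFound.isCoh_of_isFinLocFree hF) (q := i) (i := n - i) (by omega) (by omega)
  obtain ⟨e'⟩ := ProjDual12.nonempty_ext_linearEquiv_HH (k := k) hF ω (n - i)
  let θ : CohMop.ihom F ≅ DCoh.sheafHom F :=
    (CohMop.ihomAdj F).rightAdjointUniq
      ((DCoh.sheafHomAdj F).ofNatIsoLeft (KFlat.Site.flipObjIso X.sheaf F))
  exact ⟨(e.symm.trans e').trans (CurveCoh17.hequiv k (θ.app ω) (n - i))⟩

end Groth.Agent.S11316
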