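import Groth.Statements.S5668
import Groth.Agent.Lib.FundIso12.SmoothProj
import Groth.Agent.S11316
-- import your own Groth.Agent.* helpers here

set_option autoImplicit false
set_option backward.isDefEq.respectTransparency false
universe u
open CategoryTheory CategoryTheory.Limits AlgebraicGeometry
attribute [local instance] HasDerivedCategory.standard
open ProjDual

namespace Groth.Agent.S5668

/-- Let `k` be an algebraically closed field, `X` a nonsingular projective variety of dimension `n` over
`k` — here: a connected `k`-scheme, smooth of relative dimension `n` over `k`, with a closed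
immersion into some `P^r_k` over `k` — `L` an `n`-th exterior power of the sheaf of differentials of
`X` over `k`, and `F` a finite locally free `O_X`-module for which the internal Hom functor
`Hom_{O_X}(F, -)` exists (right adjoint of `F ⊗ -`). Then for `p ≤ n` the `k`-dual of `H^p(X, F)` is
isomorphic to `H^(n-p)(X, Hom_{O_X}(F, L))`. (Existence of a `k`-linear isomorphism only; the
published one comes from the Yoneda pairing into `H^n(X, L) ≅ k`.) -/
theorem result (k : Type u) [Field k] [IsAlgClosed k] (n r : ℕ) (X : Scheme.{u}) [X.Over (Spec (CommRingCat.of k))] [SmoothOfRelativeDimension n (X ↘ Spec (CommRingCat.of k))] [ConnectedSpace X] (ι : X ⟶ CohB1.ProjSpace r k) [IsClosedImmersion ι] (hι : ι ≫ CohB1.ProjSpace.toSpec r k = X ↘ Spec (CommRingCat.of k)) (L : X.Modules) (hL : ExtPow.IsExtPow n (Omega.sheaf (X ↘ Spec (CommRingCat.of k))) L) (F : X.Modules) (hF : FlatMod.IsFinLocFree F) [DCoh.HasSheafHom F] (p : ℕ) (hp : p ≤ n) : Nonempty (Module.Dual k (Coh.HH X F p) ≃ₗ[k] Coh.HH X ((DCoh.sheafHom F).obj L) (n - p)) := by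
  haveI := Groth.Agent.FundIso12.isProper_of_proj ι hι
  haveI : IsNoetherian X := Groth.Agent.VB17.isNoetherian_of_over (k := k)
  obtain ⟨t, ht⟩ := Groth.Agent.S11924.result k r n X ι hι L hL
  exact Groth.Agent.S11316.result k r n X ι hι (Groth.Agent.FundIso12.dim_eq k n)
    (Groth.Agent.FundIso12.isCM_stalk_of_smooth k n)
    (Groth.Agent.FundIso12.component_dim k n) L
    (Groth.Agent.Snapper.isCoh_of_isInvertible (Groth.Agent.FundIso12.isInvertible_omega hL)) t ht F hF p hp

end Groth.Agent.S5668
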