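import Groth.Statements.S0549
import Groth.Agent.Lib.Compl.Dim
import Groth.Agent.Lib.RegLoc.Basic
import Mathlib.RingTheory.DiscreteValuationRing.TFAE

set_option autoImplicit false
universe u
open CAlg

namespace Groth.Agent.S0549

/-- A Noetherian local ring is a discrete valuation ring exactly when its completion at the maximal
ideal is a discrete valuation ring. -/
theorem result (A : Type u) [CommRing A] [IsLocalRing A]
    [IsNoetherianRing A] :
    (∃ _ : IsDomain A, IsDiscreteValuationRing A) ↔
      ∃ _ : IsDomain (AdicCompletion (IsLocalRing.maximalIdeal A) A),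
        IsDiscreteValuationRing (AdicCompletion (IsLocalRing.maximalIdeal A) A) := by
  open IsLocalRing in
  have key : ∀ (B : Type u) [CommRing B] [IsLocalRing B] [IsNoetherianRing B],
      (∃ _ : IsDomain B, IsDiscreteValuationRing B) ↔
        IsRegularLocalRing B ∧ (maximalIdeal B).spanFinrank = 1 := by
    intro B _ _ _
    constructor
    · rintro ⟨_, hB⟩
      refine ⟨inferInstance, ?_⟩
      rw [spanFinrank_maximalIdeal_eq_finrank_cotangentSpace]
      exact IsLocalRing.finrank_CotangentSpace_eq_one_iff.2 hB
    · rintro ⟨_, h1⟩
      haveI := Groth.Agent.RegLoc.isDomain B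
      refine ⟨inferInstance, IsLocalRing.finrank_CotangentSpace_eq_one_iff.1 ?_⟩
      rw [← spanFinrank_maximalIdeal_eq_finrank_cotangentSpace]
      exact h1
  haveI := Groth.Agent.Compl.isNoetherianRing_maximalIdeal_adicCompletion A
  rw [key A, key (AdicCompletion (IsLocalRing.maximalIdeal A) A), AdicCompletion.spanFinrank_maximalIdeal_eq,
    Groth.Agent.Compl.isRegularLocalRing_adicCompletion_iff A]

end Groth.Agent.S0549
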