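import Groth.Statements.S4978
import Groth.Agent.Lib.ProperNhd.Main
import Groth.Agent.Lib.ProperNhd.Composite
import Groth.Agent.Lib.DVRVal.Criterion

set_option autoImplicit false
open CategoryTheory AlgebraicGeometry
universe u v w
open EGA43

namespace Groth.Agent.S4978

open IsLocalRing Groth.Agent.ProperNhd CategoryTheory.Limits

/-- Every point of a closed set of a scheme is a specialization of a maximal point of the set. -/
theorem exists_maximal {X : Scheme.{u}} (C : Set X) (hC : IsClosed C) (x : X) (hx : x ∈ C) :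
    ∃ ζ ∈ C, ζ ⤳ x ∧ ∀ z' ∈ C, ζ ∈ closure {z'} → z' = ζ := by
  haveI : QuasiSober C := hC.isClosedEmbedding_subtypeVal.quasiSober
  obtain ⟨ζ, hζ⟩ := QuasiSober.sober (isIrreducible_irreducibleComponent (x := (⟨x, hx⟩ : C)))
    isClosed_irreducibleComponent
  refine ⟨ζ.1, ζ.2, (hζ.specializes mem_irreducibleComponent).map continuous_subtype_val,
    fun z' hz' hsp => ?_⟩
  have h1 : (⟨z', hz'⟩ : C) ⤳ ζ :=
    Topology.IsInducing.subtypeVal.specializes_iff.1 (specializes_iff_mem_closure.2 hsp)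
  have hle : irreducibleComponent (⟨x, hx⟩ : C) ⊆ closure {(⟨z', hz'⟩ : C)} := by
    rw [← hζ.def]; exact h1.closure_subset
  have h2 : (⟨z', hz'⟩ : C) ∈ irreducibleComponent (⟨x, hx⟩ : C) :=
    (irreducibleComponent_mem_irreducibleComponents (⟨x, hx⟩ : C)).2 isIrreducible_singleton.closure hle
      (subset_closure rfl)
  exact ((hζ.specializes h2).map continuous_subtype_val |>.antisymm (specializes_iff_mem_closure.2 hsp)).eq.symm

variable {P T : Scheme.{u}} {K : Type u} [Field K]

theorem exists_residueHom (τ : Spec (CommRingCat.of K) ⟶ P) :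
    ∃ e : P.residueField (pt τ) ⟶ CommRingCat.of K, Spec.map e ≫ P.fromSpecResidueField (pt τ) = τ :=
  ⟨_, Scheme.descResidueField_stalkClosedPointTo_fromSpecResidueField K P τ⟩

/-- A point of the fraction field over a domain induces a surjection of residue fields. -/
theorem surjective_residueFieldMap_of_fractionRing {A : Type u} [CommRing A] [IsDomain A] [Algebra A K]
    [IsFractionRing A K] (q : P ⟶ Spec (CommRingCat.of A)) (τ : Spec (CommRingCat.of K) ⟶ P)
    (h : τ ≫ q = Spec.map (CommRingCat.ofHom (algebraMap A K))) :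
    Function.Surjective (q.residueFieldMap (pt τ)).hom := by
  obtain ⟨e, he⟩ := exists_residueHom τ
  let j := q.residueFieldMap (pt τ) ≫ e
  let ρA := Spec.preimage (Scheme.fromSpecResidueField (Spec (CommRingCat.of A)) (q (pt τ)))
  have hj : ρA ≫ j = CommRingCat.ofHom (algebraMap A K) := Spec.map_injective <| by
    simp only [j, ρA, Spec.map_comp, Spec.map_preimage, Category.assoc,
      Scheme.Hom.SpecMap_residueFieldMap_fromSpecResidueField]
    rw [reassoc_of% he, h]
  have hsurj : Function.Surjective j.hom := fun z => by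
    obtain ⟨a, b, -, rfl⟩ := IsFractionRing.div_surjective (A := A) z
    refine ⟨ρA.hom a / ρA.hom b, ?_⟩
    rw [map_div₀]
    congr 1 <;> exact congrArg (fun φ : CommRingCat.of A ⟶ CommRingCat.of K => φ.hom _) hj
  intro z
  obtain ⟨w, hw⟩ := hsurj (e.hom z)
  exact ⟨w, e.hom.injective hw⟩

/-- A field valued point is determined by its point and its composite, if the residue fields
do not grow. -/
theorem eq_of_pt_eq (q : P ⟶ T) (a b : Spec (CommRingCat.of K) ⟶ P) (hp : pt a = pt b)
    (hq : a ≫ q = b ≫ q) (hs : Function.Surjective (q.residueFieldMap (pt a)).hom) : a = b := by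
  obtain ⟨ea, hea⟩ := exists_residueHom a
  obtain ⟨eb, heb⟩ := exists_residueHom b
  generalize pt b = x at eb heb hp
  subst hp
  have : q.residueFieldMap (pt a) ≫ ea = q.residueFieldMap (pt a) ≫ eb := Spec.map_injective <| by
    rw [← cancel_mono (T.fromSpecResidueField _), Spec.map_comp, Spec.map_comp, Category.assoc,
      Category.assoc, Scheme.Hom.SpecMap_residueFieldMap_fromSpecResidueField, reassoc_of% hea,
      reassoc_of% heb, hq]
  rw [← hea, ← heb]
  congr 2
  ext z
  obtain ⟨w, rfl⟩ := hs z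
  exact congrArg (fun φ : T.residueField (q (pt a)) ⟶ CommRingCat.of K => φ.hom w) this

/-- A point with trivial residue field extension carries all field valued points below it. -/
theorem exists_point_over (q : P ⟶ T) (x : P) (hb : Function.Bijective (q.residueFieldMap x).hom)
    (τ : Spec (CommRingCat.of K) ⟶ T) (h : pt τ = q x) :
    ∃ σ : Spec (CommRingCat.of K) ⟶ P, σ ≫ q = τ ∧ pt σ = x := by
  obtain ⟨j, hj⟩ := exists_residueHom τ
  generalize pt τ = z at j hj h
  subst h
  obtain ⟨i, hi⟩ : ∃ i : P.residueField x ⟶ T.residueField (q x),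
      q.residueFieldMap x ≫ i = 𝟙 _ :=
    ⟨CommRingCat.ofHom (RingEquiv.ofBijective _ hb).symm.toRingHom,
      CommRingCat.hom_ext (RingHom.ext fun z => (RingEquiv.ofBijective _ hb).symm_apply_apply z)⟩
  refine ⟨Spec.map (i ≫ j) ≫ P.fromSpecResidueField x, ?_, ?_⟩
  · rw [← hj, Category.assoc, ← Scheme.Hom.SpecMap_residueFieldMap_fromSpecResidueField,
      ← Spec.map_comp_assoc, reassoc_of% hi]
  · exact Scheme.fromSpecResidueField_apply x (Spec.map (i ≫ j) (closedPoint K))

/-- A field valued point of the image of a closed immersion factors. -/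
theorem exists_factor_of_mem_range (i : P ⟶ T) [IsClosedImmersion i]
    (σ : Spec (CommRingCat.of K) ⟶ T) (h : pt σ ∈ Set.range i) :
    ∃ m : Spec (CommRingCat.of K) ⟶ P, m ≫ i = σ := by
  obtain ⟨p, hp⟩ := h
  obtain ⟨e, he⟩ := exists_residueHom σ
  generalize pt σ = x at e he hp
  subst hp
  have hsurj : Function.Surjective (i.residueFieldMap p).hom := by
    intro z
    obtain ⟨z', rfl⟩ := P.residue_surjective p z
    obtain ⟨w, rfl⟩ := i.stalkMap_surjective p z'
    exact ⟨(T.residue (i p)).hom w,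
      congrArg (fun φ : T.presheaf.stalk (i p) ⟶ P.residueField p => φ.hom w)
        (Scheme.residue_residueFieldMap i p)⟩
  let r := RingEquiv.ofBijective _ ⟨(i.residueFieldMap p).hom.injective, hsurj⟩
  let e' : P.residueField p ⟶ CommRingCat.of K := CommRingCat.ofHom (e.hom.comp r.symm.toRingHom)
  have hre : i.residueFieldMap p ≫ e' = e := by
    ext z
    exact congrArg e.hom (r.symm_apply_apply z)
  refine ⟨Spec.map e' ≫ P.fromSpecResidueField p, ?_⟩
  rw [← he, ← hre, Spec.map_comp, Category.assoc, Category.assoc,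
    Scheme.Hom.SpecMap_residueFieldMap_fromSpecResidueField]

theorem pt_generic (A : Type u) [CommRing A] [IsDomain A] [Algebra A K] [IsFractionRing A K] :
    pt (Spec.map (CommRingCat.ofHom (algebraMap A K))) = genericPoint (Spec (CommRingCat.of A)) := by
  rw [genericPoint_eq_bot_of_affine]
  apply PrimeSpectrum.ext
  show Ideal.comap (algebraMap A K) (maximalIdeal K) = ⊥
  rw [IsLocalRing.isField_iff_maximalIdeal_eq.1 (Field.toIsField K), ← RingHom.ker_eq_comap_bot,
    (RingHom.injective_iff_ker_eq_bot _).1 (IsFractionRing.injective A K)]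

section

variable {X Y : Scheme.{u}} (f : X ⟶ Y) (Z : Set X) (y : Y)

/-- The discrete valuative condition at `y` along `Z`, in terms of field valued points. -/
theorem exists_lift_of_sections
    (h : ∀ (A' : Type u) [CommRing A'] [IsDomain A'] [IsDiscreteValuationRing A'] (g : Spec (CommRingCat.of A') ⟶ Y),
        g.base (IsLocalRing.closedPoint A') = y →
        ∀ x' : ↥(pullback f g), (pullback.fst f g).base x' ∈ Z →
          (pullback.snd f g).base x' = genericPoint (Spec (CommRingCat.of A')) →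
          Function.Bijective ((pullback.snd f g).residueFieldMap x').hom →
          ∃ s : Spec (CommRingCat.of A') ⟶ pullback f g, s ≫ pullback.snd f g = 𝟙 _ ∧ x' ∈ Set.range s.base)
    (A : Type u) [CommRing A] [IsDomain A] [IsDiscreteValuationRing A] {K : Type u} [Field K]
    [Algebra A K] [IsFractionRing A K] (g : Spec (CommRingCat.of A) ⟶ Y) (hg : g (closedPoint A) = y)
    (x : Spec (CommRingCat.of K) ⟶ X) (hxZ : pt x ∈ Z)
    (hx : x ≫ f = Spec.map (CommRingCat.ofHom (algebraMap A K)) ≫ g) :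
    ∃ l : Spec (CommRingCat.of A) ⟶ X, l ≫ f = g ∧
      Spec.map (CommRingCat.ofHom (algebraMap A K)) ≫ l = x := by
  let τ := pullback.lift x (Spec.map (CommRingCat.ofHom (algebraMap A K))) hx
  have hτ2 : τ ≫ pullback.snd f g = Spec.map (CommRingCat.ofHom (algebraMap A K)) :=
    pullback.lift_snd _ _ _
  have h1 : pullback.fst f g (pt τ) = pt x := by
    show (τ ≫ pullback.fst f g) (closedPoint K) = _
    rw [pullback.lift_fst]
  have h2 : pullback.snd f g (pt τ) = genericPoint (Spec (CommRingCat.of A)) := by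
    rw [← pt_generic (K := K) A]
    show (τ ≫ pullback.snd f g) (closedPoint K) = _
    rw [hτ2]
  obtain ⟨s, hs, p, hp⟩ := h A g hg (pt τ) (h1 ▸ hxZ) h2
    ⟨((pullback.snd f g).residueFieldMap (pt τ)).hom.injective,
      surjective_residueFieldMap_of_fractionRing _ τ hτ2⟩
  have hpη : pt (Spec.map (CommRingCat.ofHom (algebraMap A K))) = p := by
    have h3 : (s ≫ pullback.snd f g) p = pullback.snd f g (pt τ) := congrArg (pullback.snd f g) hp
    rw [hs, h2, ← pt_generic (K := K) A] at h3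
    exact h3.symm
  have hτ : τ = Spec.map (CommRingCat.ofHom (algebraMap A K)) ≫ s := by
    refine eq_of_pt_eq (pullback.snd f g) _ _ ?_ (by rw [hτ2, Category.assoc, hs, Category.comp_id])
      (surjective_residueFieldMap_of_fractionRing _ τ hτ2)
    show pt τ = s (pt (Spec.map (CommRingCat.ofHom (algebraMap A K))))
    rw [hpη]; exact hp.symm
  refine ⟨s ≫ pullback.fst f g, ?_, ?_⟩
  · rw [Category.assoc, pullback.condition, reassoc_of% hs]
  · rw [← Category.assoc, ← hτ, pullback.lift_fst]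

variable {U : Y.Opens} (hU : IsAffineOpen U) (hy : y ∈ U)

theorem lifts_affPart
    (h : ∀ (A : Type u) [CommRing A] [IsDomain A] [IsDiscreteValuationRing A] {K : Type u} [Field K]
      [Algebra A K] [IsFractionRing A K] (g : Spec (CommRingCat.of A) ⟶ Y), g (closedPoint A) = y →
      ∀ x : Spec (CommRingCat.of K) ⟶ X, pt x ∈ Z →
        x ≫ f = Spec.map (CommRingCat.ofHom (algebraMap A K)) ≫ g →
        ∃ l : Spec (CommRingCat.of A) ⟶ X, l ≫ f = g ∧
          Spec.map (CommRingCat.ofHom (algebraMap A K)) ≫ l = x)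
    (σ : Spec (CommRingCat.of K) ⟶ ((f ⁻¹ᵁ U) : Scheme.{u})) (hσ : (f ⁻¹ᵁ U).ι (pt σ) ∈ Z)
    (W : ValuationSubring K) [IsDiscreteValuationRing W]
    (hmem : ∀ r, rho (affPart f hU) σ r ∈ W)
    (hcentre : ∀ r, W.valuation (rho (affPart f hU) σ r) < 1 ↔
      r ∈ (hU.primeIdealOf ⟨y, hy⟩).asIdeal) : Lifts σ W := by
  let ρ : Γ(Y, U) →+* W := (rho (affPart f hU) σ).codRestrict W.toSubring hmem
  let g : Spec (CommRingCat.of W) ⟶ Y := Spec.map (CommRingCat.ofHom ρ) ≫ hU.fromSpec
  have hgy : g (closedPoint W) = y := by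
    show hU.fromSpec (Spec.map (CommRingCat.ofHom ρ) (closedPoint W)) = y
    have : Spec.map (CommRingCat.ofHom ρ) (closedPoint W) = hU.primeIdealOf ⟨y, hy⟩ := by
      apply PrimeSpectrum.ext
      ext r
      show ρ r ∈ maximalIdeal W ↔ _
      rw [ValuationSubring.valuation_lt_one_iff]
      exact hcentre r
    rw [this, hU.fromSpec_primeIdealOf]
  have hσf : (σ ≫ (f ⁻¹ᵁ U).ι) ≫ f = Spec.map (CommRingCat.ofHom (algebraMap W K)) ≫ g := by
    rw [Category.assoc, ← affPart_fromSpec f hU]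
    simp only [g]
    rw [← Spec.map_comp_assoc,
      show CommRingCat.ofHom ρ ≫ CommRingCat.ofHom (algebraMap W K) = CommRingCat.ofHom
        (rho (affPart f hU) σ) from rfl, map_rho]
    simp only [affPart, Category.assoc]
  obtain ⟨l, hlf, hl⟩ := h W g hgy (σ ≫ (f ⁻¹ᵁ U).ι) hσ hσf
  have hr : Set.range l ⊆ Set.range (f ⁻¹ᵁ U).ι := by
    rw [Scheme.Opens.range_ι]
    rintro _ ⟨p, rfl⟩
    show f (l p) ∈ (U : Set Y)
    rw [← Scheme.Hom.comp_apply, hlf, ← hU.range_fromSpec]
    exact ⟨_, rfl⟩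
  refine ⟨IsOpenImmersion.lift (f ⁻¹ᵁ U).ι l hr, ?_⟩
  rw [← cancel_mono (f ⁻¹ᵁ U).ι, Category.assoc, IsOpenImmersion.lift_fac]
  exact hl

end

open CategoryTheory.Limits in
/-- Let Y be a Noetherian scheme, f : X ⟶ Y a separated morphism of finite type, Z a subset of X such
that every maximal point of the closure of Z belongs to Z, and y a point of Y. Then the closure of Z
is proper over Y at y (for some open U ∋ y, its trace on f⁻¹(U) is proper over U with the reduced
structure) if and only if: for every discrete valuation ring A' and every morphism g : Spec A' ⟶ Y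
mapping the closed point to y, every point x' of X' = X ×_Y Spec A' which projects into Z, lies over
the generic point η' of Spec A' and is rational over κ(η') is in the image of some section of X' ⟶
Spec A'. -/
theorem result {X Y : Scheme.{u}} [IsNoetherian Y] (f : X ⟶ Y) [IsSeparated f]
    [LocallyOfFiniteType f] [QuasiCompact f] (Z : Set X)
    (hZ : ∀ z ∈ closure Z, (∀ z' ∈ closure Z, z ∈ closure {z'} → z' = z) → z ∈ Z) (y : Y) :
    (∃ U : Y.Opens, y ∈ U ∧ ∃ hC : IsClosed ((f ⁻¹ᵁ U).ι.base ⁻¹' closure Z),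
      IsProper ((Scheme.IdealSheafData.vanishingIdeal
        (⟨(f ⁻¹ᵁ U).ι.base ⁻¹' closure Z, hC⟩ : TopologicalSpace.Closeds ↥(f ⁻¹ᵁ U))).subschemeι ≫ (f ∣_ U))) ↔
      ∀ (A' : Type u) [CommRing A'] [IsDomain A'] [IsDiscreteValuationRing A'] (g : Spec (CommRingCat.of A') ⟶ Y),
        g.base (IsLocalRing.closedPoint A') = y →
        ∀ x' : ↥(pullback f g), (pullback.fst f g).base x' ∈ Z →
          (pullback.snd f g).base x' = genericPoint (Spec (CommRingCat.of A')) →
          Function.Bijective ((pullback.snd f g).residueFieldMap x').hom →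
          ∃ s : Spec (CommRingCat.of A') ⟶ pullback f g, s ≫ pullback.snd f g = 𝟙 _ ∧ x' ∈ Set.range s.base := by
  constructor
  · rintro ⟨U, hy, hC, hp⟩ A _ _ _ g hg x' hxZ hxη hbij
    haveI := hp
    let S := Scheme.IdealSheafData.vanishingIdeal (X := ((f ⁻¹ᵁ U) : Scheme.{u}))
      (⟨(f ⁻¹ᵁ U).ι.base ⁻¹' closure Z, hC⟩ : TopologicalSpace.Closeds ↥(f ⁻¹ᵁ U))
    let K := FractionRing A
    let τη : Spec (CommRingCat.of K) ⟶ Spec (CommRingCat.of A) :=
      Spec.map (CommRingCat.ofHom (algebraMap A K))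
    obtain ⟨σ, hσ2, hσx⟩ := exists_point_over (pullback.snd f g) x' hbij τη
      ((pt_generic (K := K) A).trans hxη.symm)
    have hgU : ∀ p, g p ∈ U := fun p =>
      ((specializes_closedPoint p).map g.continuous).mem_open U.2 (hg ▸ hy)
    let g' : Spec (CommRingCat.of A) ⟶ (U : Scheme.{u}) := IsOpenImmersion.lift U.ι g (by
      rw [Scheme.Opens.range_ι]; rintro _ ⟨p, rfl⟩; exact hgU p)
    have hx'U : pullback.fst f g x' ∈ f ⁻¹ᵁ U := by
      show f (pullback.fst f g x') ∈ U
      rw [← Scheme.Hom.comp_apply, pullback.condition]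
      exact hgU _
    let σ₁ : Spec (CommRingCat.of K) ⟶ ((f ⁻¹ᵁ U) : Scheme.{u}) :=
      IsOpenImmersion.lift (f ⁻¹ᵁ U).ι (σ ≫ pullback.fst f g) (by
        rw [Scheme.Opens.range_ι]
        rintro _ ⟨p, rfl⟩
        rw [Subsingleton.elim p (closedPoint K)]
        show pullback.fst f g (pt σ) ∈ f ⁻¹ᵁ U
        rwa [hσx])
    obtain ⟨m, hm⟩ := exists_factor_of_mem_range S.subschemeι σ₁ (by
      rw [Scheme.IdealSheafData.range_subschemeι, Scheme.IdealSheafData.coe_support_vanishingIdeal]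
      show (f ⁻¹ᵁ U).ι (pt σ₁) ∈ closure Z
      rw [← Scheme.Hom.comp_apply, IsOpenImmersion.lift_fac, Scheme.Hom.comp_apply]
      exact subset_closure (show pullback.fst f g (pt σ) ∈ Z by rw [hσx]; exact hxZ))
    have hsq : CommSq m (Spec.map (CommRingCat.ofHom (algebraMap A K))) (S.subschemeι ≫ (f ∣_ U)) g' := ⟨by
      rw [← cancel_mono U.ι, Category.assoc, Category.assoc, morphismRestrict_ι, reassoc_of% hm,
        IsOpenImmersion.lift_fac_assoc, Category.assoc, pullback.condition, reassoc_of% hσ2,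
        Category.assoc, IsOpenImmersion.lift_fac]⟩
    have hex : ValuativeCriterion.Existence (S.subschemeι ≫ (f ∣_ U)) := by
      have h : @UniversallyClosed _ _ (S.subschemeι ≫ (f ∣_ U)) := inferInstance
      rw [UniversallyClosed.eq_valuativeCriterion] at h
      exact h.1
    obtain ⟨l, hl1, hl2⟩ := (hex { R := A, K := K, commSq := hsq, .. }).exists_lift
    let l' : Spec (CommRingCat.of A) ⟶ X := l ≫ S.subschemeι ≫ (f ⁻¹ᵁ U).ι
    have hl' : l' ≫ f = g := by
      have := congrArg (· ≫ U.ι) hl2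
      simp only [Category.assoc, morphismRestrict_ι, g', IsOpenImmersion.lift_fac] at this
      simpa [l'] using this
    refine ⟨pullback.lift l' (𝟙 _) (by rw [Category.id_comp, hl']), pullback.lift_snd _ _ _, pt τη, ?_⟩
    rw [← hσx]
    show (τη ≫ pullback.lift l' (𝟙 _) _) (closedPoint K) = σ (closedPoint K)
    refine congrArg (fun φ : Spec (CommRingCat.of K) ⟶ pullback f g => φ (closedPoint K)) ?_
    apply pullback.hom_ext
    · rw [Category.assoc, pullback.lift_fst]
      simp only [l']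
      rw [← Category.assoc τη, show τη ≫ l = m from hl1, reassoc_of% hm, IsOpenImmersion.lift_fac]
    · rw [Category.assoc, pullback.lift_snd, Category.comp_id, hσ2]
  · intro h
    obtain ⟨_, ⟨U, hU, rfl⟩, hy, -⟩ :=
      Y.isBasis_affineOpens.exists_subset_of_mem_open (Set.mem_univ y) isOpen_univ
    revert U
    intro (U : Y.Opens) hU hy
    haveI : IsNoetherianRing Γ(Y, U) := IsLocallyNoetherian.component_noetherian ⟨U, hU⟩
    let f₀ := affPart f hU
    haveI : ((f ⁻¹ᵁ U) : Scheme.{u}).IsSeparated :=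
      ⟨by rw [← CategoryTheory.Limits.terminal.comp_from f₀]; infer_instance⟩
    let C₀ : Set ↥(f ⁻¹ᵁ U) := (f ⁻¹ᵁ U).ι.base ⁻¹' closure Z
    have hC₀ : IsClosed C₀ := isClosed_closure.preimage (f ⁻¹ᵁ U).ι.continuous
    obtain ⟨g₀, hg₀, hlifts⟩ := exists_notMem_forall_lifts_inter f₀ (hU.primeIdealOf ⟨y, hy⟩) ∅ C₀ hC₀
      (fun L _ σ V _ hmem hρ hc => by
        obtain ⟨ζ, hζC, hζ, hmax⟩ := exists_maximal _ isClosed_closure _ (show (f ⁻¹ᵁ U).ι (pt σ) ∈ closure Z from hmem)
        have hζU : ζ ∈ f ⁻¹ᵁ U := hζ.mem_open (f ⁻¹ᵁ U).2 (pt σ).2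
        have hsp : (⟨ζ, hζU⟩ : ↥(f ⁻¹ᵁ U)) ⤳ pt σ := Topology.IsInducing.subtypeVal.specializes_iff.1 hζ
        refine lifts_of_generization f₀ (hU.primeIdealOf ⟨y, hy⟩)
          (Scheme.fromSpecResidueField ((f ⁻¹ᵁ U) : Scheme.{u}) (⟨ζ, hζU⟩ : ↥(f ⁻¹ᵁ U))) (fun V' h1 h2 => ?_) σ
          ((specializes_of_eq (Scheme.fromSpecResidueField_apply _ _)).trans hsp) V hρ hc
        refine lifts_of_dvr f₀ _ _ (fun W hW h1 h2 => ?_) V' h1 h2
        haveI := hW
        generalize hξ : pt (Scheme.fromSpecResidueField ((f ⁻¹ᵁ U) : Scheme.{u}) (⟨ζ, hζU⟩ : ↥(f ⁻¹ᵁ U))) = ξ at W hW h1 h2 ⊢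
        refine lifts_affPart f Z y hU hy (fun A _ _ _ K _ _ _ g hg x hxZ hx =>
          exists_lift_of_sections f Z y h A g hg x hxZ hx) _ ?_ W h1 h2
        have : ξ = ⟨ζ, hζU⟩ := hξ.symm.trans (Scheme.fromSpecResidueField_apply _ _)
        show (f ⁻¹ᵁ U).ι (Scheme.fromSpecResidueField ((f ⁻¹ᵁ U) : Scheme.{u}) ξ (closedPoint _)) ∈ Z
        erw [Scheme.fromSpecResidueField_apply, this]
        exact hZ ζ hζC hmax)
    let U' : Y.Opens := hU.fromSpec ''ᵁ bOpen g₀
    have hC : IsClosed ((f ⁻¹ᵁ U').ι.base ⁻¹' closure Z) :=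
      isClosed_closure.preimage (f ⁻¹ᵁ U').ι.continuous
    refine ⟨U', ⟨hU.primeIdealOf ⟨y, hy⟩, hg₀, hU.fromSpec_primeIdealOf _⟩, hC, ?_⟩
    obtain ⟨e, he, hfe⟩ := exists_restrict_iso f hU g₀
    let S := Scheme.IdealSheafData.vanishingIdeal (X := ((f ⁻¹ᵁ U') : Scheme.{u}))
      (⟨(f ⁻¹ᵁ U').ι.base ⁻¹' closure Z, hC⟩ : TopologicalSpace.Closeds ↥(f ⁻¹ᵁ U'))
    let p : S.subscheme ⟶ ((f₀ ⁻¹ᵁ bOpen g₀) : Scheme.{u}) := S.subschemeι ≫ e.hom
    have hex := existence_comp_of_lifts f₀ g₀ p C₀ (fun t => by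
      show (f ⁻¹ᵁ U).ι ((f₀ ⁻¹ᵁ bOpen g₀).ι (e.hom (S.subschemeι t))) ∈ closure Z
      rw [← Scheme.Hom.comp_apply, ← Scheme.Hom.comp_apply, he]
      have : S.subschemeι t ∈ Set.range S.subschemeι := ⟨t, rfl⟩
      rw [Scheme.IdealSheafData.range_subschemeι, Scheme.IdealSheafData.coe_support_vanishingIdeal] at this
      exact this) (fun L _ σ V h1 h2 h3 => hlifts L σ V (by simp) h1 h2 h3)
    haveI : UniversallyClosed (p ≫ (f₀ ∣_ bOpen g₀)) := UniversallyClosed.of_valuativeCriterion _ hex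
    haveI : LocallyOfFiniteType (f₀ ∣_ bOpen g₀) :=
      IsZariskiLocalAtTarget.restrict (P := @LocallyOfFiniteType) inferInstance _
    haveI : IsProper (p ≫ (f₀ ∣_ bOpen g₀)) := ⟨⟩
    have : S.subschemeι ≫ (f ∣_ U') = (p ≫ (f₀ ∣_ bOpen g₀)) ≫ (hU.fromSpec.isoImage (bOpen g₀)).hom := by
      rw [hfe]; simp [p, f₀, Category.assoc]
    rw [this]
    infer_instance

end Groth.Agent.S4978
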