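import Groth.Statements.S4630
import Groth.Agent.Lib.GeomRed18.PtInt

set_option autoImplicit false
open CategoryTheory AlgebraicGeometry
universe u
open FBase

namespace Groth.Agent.S4630

/-- Let X be a scheme over a field k, k' an extension field of k, and x' a point of X' = X ⊗_k k' lying
over the point x of X. Then X is geometrically pointwise integral at x over k if and only if X' is
geometrically pointwise integral at x' over k'. -/
theorem result {k K : Type u} [Field k] [Field K] [Algebra k K]
    {X : Scheme.{u}} (f : X ⟶ Spec (CommRingCat.of k)) (x' : ↥(FBase.bc f K)) :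
    FBase.IsGeomPtIntegralAt f ((FBase.bcπ f K) x') ↔ FBase.IsGeomPtIntegralAt (FBase.bcStr f K) x' := by
  constructor
  · intro h K' _ _ z hz
    letI : Algebra k K' := ((algebraMap K K').comp (algebraMap k K)).toAlgebra
    haveI : IsScalarTower k K K' := IsScalarTower.of_algebraMap_eq' rfl
    let e := (GeomRed.isPullback_trans f K K').isoPullback
    obtain ⟨v, rfl⟩ := e.hom.surjective z
    refine (GeomRed.stalk_congr_isDomain e.hom v).mpr (h K' v ?_)
    change Limits.pullback.fst f _ v = Limits.pullback.fst f _ x'
    rw [← GeomRed.trans_fst f K K', Scheme.Hom.comp_apply]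
    refine congrArg _ ?_
    rw [← hz]
    exact (congrArg (fun φ => φ v) (GeomRed.isPullback_trans f K K').isoPullback_hom_fst).symm
  · intro h K' _ _ z hz
    obtain ⟨L, hL1, hL2, hL3, hL4, hL5, hL6, u, hu, hu'⟩ := GeomRed.exists_common f K' K z x' hz
    let e := (GeomRed.isPullback_trans f K L).isoPullback
    have h1 := h L (e.hom u) (by
      rw [← hu']
      exact congrArg (fun φ => φ u) (GeomRed.isPullback_trans f K L).isoPullback_hom_fst)
    haveI := (GeomRed.stalk_congr_isDomain e.hom u).mp h1
    haveI := GeomRed.flat_trans f K' L
    subst hu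
    exact Function.Injective.isDomain ((GeomRed.trans f K' L).stalkMap u).hom (GeomRed.stalkMap_injective (GeomRed.trans f K' L) u)

end Groth.Agent.S4630
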