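import Groth.Statements.S4631
import Groth.Agent.Lib.GeomRed18.PtInt

set_option autoImplicit false
open CategoryTheory AlgebraicGeometry
universe u
open FBase

namespace Groth.Agent.S4631

/-- Let X be a scheme over an algebraically closed field k and x a point of X. Then X is geometrically
pointwise integral at x over k if and only if the local ring of X at x is a domain. -/
theorem result {k : Type u} [Field k] [IsAlgClosed k] {X : Scheme.{u}}
    (f : X ⟶ Spec (CommRingCat.of k)) (x : X) :
    FBase.IsGeomPtIntegralAt f x ↔ IsDomain ↑(X.presheaf.stalk x) := by
  letI : X.Over (Spec (CommRingCat.of k)) := ⟨f⟩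
  constructor
  · intro h
    let s := Spec.map (CommRingCat.ofHom (algebraMap k k))
    haveI : IsIso s := by
      have : CommRingCat.ofHom (algebraMap k k) = 𝟙 (CommRingCat.of k) := rfl
      simp only [s, this]; infer_instance
    haveI : IsIso (Limits.pullback.fst f s) := inferInstance
    let π := Limits.pullback.fst f s
    obtain ⟨z, rfl⟩ := π.surjective x
    exact (GeomRed.stalk_congr_isDomain π z).mpr (h k z rfl)
  · intro h K _ _ z hz
    haveI := h
    exact GeomRed.isDomain_stalk_bc (k := k) x K z hz

end Groth.Agent.S4631
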