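import Groth.Statements.S12059
import Groth.Agent.Lib.IsQuot25.Local

set_option autoImplicit false
universe u
open CategoryTheory CategoryTheory.Limits AlgebraicGeometry
open SGA1

namespace Groth.Agent.S12059

/-- Let a finite group G act on a commutative ring A by ring automorphisms σ_g, and let B → A be
injective, G-equivariant for the trivial action on B, with image containing all G-invariants (so B
is the ring of invariants A^G). Let ρ be an action of G on Spec A by scheme automorphisms whose
automorphisms are exactly the maps Spec(σ_g). Then Spec A ⟶ Spec B is a quotient of Spec A by G, and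
the structure sheaf of Spec B is the sheaf of G-invariants of the direct image of the structure
sheaf of Spec A: the map is affine and G-invariant, and for every open U of Spec B the sections of
the structure sheaf of Spec B over U map injectively onto the G-invariant sections of the structure
sheaf of Spec A over the inverse image of U. -/
theorem result (G : Type u) [Group G] [Finite G] (A B : Type u) [CommRing A] [CommRing B]
    [Algebra B A] [MulSemiringAction G A] [SMulCommClass G B A] [Algebra.IsInvariant B A G] [FaithfulSMul B A]
    (ρ : G →* Aut (Spec (CommRingCat.of A)))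
    (hρ : Set.range (fun g : G => (ρ g).hom) =
      Set.range (fun g : G => Spec.map (CommRingCat.ofHom (MulSemiringAction.toRingHom G A g)))) :
    SGA1.IsQuot ρ (Spec.map (CommRingCat.ofHom (algebraMap B A))) := by
  let φ := CommRingCat.ofHom (algebraMap B A)
  let ψ : G → (CommRingCat.of A ⟶ CommRingCat.of A) := fun g =>
    CommRingCat.ofHom (MulSemiringAction.toRingHom G A g)
  have hinv : ∀ g : G, (ρ g).hom ≫ Spec.map φ = Spec.map φ := by
    intro g
    obtain ⟨g', hg'⟩ := hρ.le ⟨g, rfl⟩
    rw [show (ρ g).hom = Spec.map (ψ g') from hg'.symm, ← Spec.map_comp]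
    congr 1
    ext b
    exact smul_algebraMap g' b
  refine IsQuot25.of_affineCover inferInstance hinv fun y => ⟨⊤, isAffineOpen_top _, trivial, ?_, ?_⟩
  · intro a b hab
    apply (ConcreteCategory.bijective_of_isIso (Scheme.ΓSpecIso (CommRingCat.of B)).hom).1
    apply FaithfulSMul.algebraMap_injective B A
    have h1 := congr($(Scheme.ΓSpecIso_naturality φ) a)
    have h2 := congr($(Scheme.ΓSpecIso_naturality φ) b)
    exact (h1.symm.trans (congrArg (Scheme.ΓSpecIso (CommRingCat.of A)).hom hab)).trans h2
  · intro s hs
    have hfix : ∀ g' : G, g' • (Scheme.ΓSpecIso (CommRingCat.of A)).hom s =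
        (Scheme.ΓSpecIso (CommRingCat.of A)).hom s := by
      intro g'
      obtain ⟨g, hg⟩ := hρ.ge ⟨g', rfl⟩
      have h1 : (Spec.map (ψ g')).appTop s = s := by
        have h2 := hs g
        rw [IsQuot25.actHom, IsQuot25.appLE_eq (show (ρ g).hom = Spec.map (ψ g') from hg)] at h2
        refine Eq.trans ?_ h2
        erw [Scheme.Hom.appLE_eq_app]
        rfl
      have h3 := congr($(Scheme.ΓSpecIso_naturality (ψ g')) s)
      exact h3.symm.trans (congrArg (Scheme.ΓSpecIso (CommRingCat.of A)).hom h1)
    obtain ⟨b, hb⟩ := Algebra.IsInvariant.isInvariant (A := B) (G := G)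
      ((Scheme.ΓSpecIso (CommRingCat.of A)).hom s) hfix
    refine ⟨(Scheme.ΓSpecIso (CommRingCat.of B)).inv b, ?_⟩
    apply (ConcreteCategory.bijective_of_isIso (Scheme.ΓSpecIso (CommRingCat.of A)).hom).1
    have h4 := congr($(Scheme.ΓSpecIso_naturality φ) ((Scheme.ΓSpecIso (CommRingCat.of B)).inv b))
    refine h4.trans (Eq.trans ?_ hb)
    show algebraMap B A ((Scheme.ΓSpecIso (CommRingCat.of B)).hom ((Scheme.ΓSpecIso (CommRingCat.of B)).inv b)) = _
    rw [Iso.inv_hom_id_apply]
end Groth.Agent.S12059
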