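import Groth.Statements.S18933
import Groth.Agent.Lib.CI2.Synt
import Groth.Prelude

set_option autoImplicit false
universe u
open Synt

namespace Groth.Agent.S18933

theorem dim0 (k B : Type u) [Field k] [CommRing B] [Algebra k B] [Module.Finite k B] [Nontrivial B] :
    ringKrullDim B = 0 := by
  haveI : IsArtinianRing B := IsArtinianRing.of_finite k B
  exact ringKrullDimZero_iff_ringKrullDim_eq_zero.mp inferInstance

/-- Let p be a prime, A a Noetherian commutative ring and m a natural number, and let φ be the A-algebra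
endomorphism of the polynomial ring A[T_1, …, T_m] with φ(T_i) = T_i^p. Then φ is syntomic and
faithfully flat (so Spec φ is a covering for the syntomic topology). -/
theorem result (p : ℕ) [Fact p.Prime]
    (A : Type u) [CommRing A] [IsNoetherianRing A] (m : ℕ)
    (φ : MvPolynomial (Fin m) A →ₐ[A] MvPolynomial (Fin m) A)
    (hφ : ∀ i : Fin m, φ (MvPolynomial.X i) = MvPolynomial.X i ^ p) :
    @Synt.IsSyntomic (MvPolynomial (Fin m) A) _ (MvPolynomial (Fin m) A) _ φ.toRingHom.toAlgebra ∧
      φ.toRingHom.FaithfullyFlat := by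
  let B := MvPolynomial (Fin m) A
  let F : Fin m → MvPolynomial (Fin m) B := fun i =>
    MvPolynomial.X i ^ p - MvPolynomial.C (MvPolynomial.X i)
  let Q := Synt.RelGCIRing B m m F
  let S := MvPolynomial (Fin m) A
  let ev : MvPolynomial (Fin m) B →+* S := MvPolynomial.eval₂Hom φ.toRingHom MvPolynomial.X
  let fwd : Q →+* S := Ideal.Quotient.lift _ ev (fun x hx => by
    have hle : Ideal.span (Set.range F) ≤ RingHom.ker ev := Ideal.span_le.mpr (by
      rintro _ ⟨i, rfl⟩
      simp [ev, F, hφ])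
    exact RingHom.mem_ker.mp (hle hx))
  let bwd : S →+* Q := MvPolynomial.eval₂Hom ((algebraMap B Q).comp (algebraMap A B))
    (fun i => Ideal.Quotient.mk _ (MvPolynomial.X i))
  have hfwd : ∀ z : MvPolynomial (Fin m) B, fwd (Ideal.Quotient.mk _ z) = ev z := fun z => rfl
  have hQ : ∀ b : B, algebraMap B Q b = Ideal.Quotient.mk _ (MvPolynomial.C b) := fun b => rfl
  have hbC : ∀ a : A, bwd (MvPolynomial.C a) = Ideal.Quotient.mk _ (MvPolynomial.C (MvPolynomial.C a)) := fun a => by
    rw [MvPolynomial.eval₂Hom_C, RingHom.comp_apply, hQ, MvPolynomial.algebraMap_eq]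
  have hbX : ∀ i, bwd (MvPolynomial.X i) = Ideal.Quotient.mk _ (MvPolynomial.X i) := fun i =>
    MvPolynomial.eval₂Hom_X' _ _ i
  have hevC : ∀ b : B, ev (MvPolynomial.C b) = φ b := fun b => MvPolynomial.eval₂Hom_C _ _ b
  have hevX : ∀ i, ev (MvPolynomial.X i) = MvPolynomial.X i := fun i => MvPolynomial.eval₂Hom_X' _ _ i
  have h1 : fwd.comp bwd = RingHom.id _ := by
    refine MvPolynomial.ringHom_ext (fun a => ?_) fun i => ?_
    · rw [RingHom.comp_apply, hbC, hfwd, hevC]
      exact φ.commutes a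
    · rw [RingHom.comp_apply, hbX, hfwd, hevX]
      rfl
  have h2 : bwd.comp fwd = RingHom.id _ := by
    refine Ideal.Quotient.ringHom_ext (MvPolynomial.ringHom_ext (fun b => ?_) fun i => ?_)
    · show bwd (fwd (Ideal.Quotient.mk _ (MvPolynomial.C b))) = Ideal.Quotient.mk _ (MvPolynomial.C b)
      rw [hfwd, hevC, ← hQ]
      refine RingHom.congr_fun (f := bwd.comp φ.toRingHom) (g := algebraMap B Q) ?_ b
      refine MvPolynomial.ringHom_ext (fun a => ?_) fun i => ?_
      · show bwd (φ (MvPolynomial.C a)) = _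
        rw [show φ (MvPolynomial.C a) = MvPolynomial.C a from φ.commutes a, hbC]
        rfl
      · show bwd (φ (MvPolynomial.X i)) = _
        rw [hφ, map_pow, hbX, hQ, ← map_pow]
        exact Ideal.Quotient.eq.mpr (Ideal.subset_span ⟨i, rfl⟩)
    · show bwd (fwd (Ideal.Quotient.mk _ (MvPolynomial.X i))) = _
      rw [hfwd, hevX, hbX]
      rfl
  let e : Q ≃+* S := RingEquiv.ofRingHom fwd bwd h1 h2
  have hfg : Algebra.adjoin B (Set.range fun i => (Ideal.Quotient.mk _ (MvPolynomial.X i) : Q)) = ⊤ := by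
    rw [show (Set.range fun i => (Ideal.Quotient.mk (Ideal.span (Set.range F)) (MvPolynomial.X i) : Q)) =
      (Ideal.Quotient.mkₐ B (Ideal.span (Set.range F))) '' Set.range MvPolynomial.X by rw [← Set.range_comp]; rfl,
      Algebra.adjoin_image, MvPolynomial.adjoin_range_X, Algebra.map_top, AlgHom.range_eq_top]
    exact Ideal.Quotient.mk_surjective
  haveI : Module.Finite B Q := ⟨by
    rw [← Algebra.top_toSubmodule, ← hfg]
    refine fg_adjoin_of_finite (Set.finite_range _) ?_
    rintro _ ⟨i, rfl⟩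
    refine ⟨Polynomial.X ^ p - Polynomial.C (MvPolynomial.X i),
      Polynomial.monic_X_pow_sub_C _ (Fact.out : p.Prime).ne_zero, ?_⟩
    rw [Polynomial.eval₂_sub, Polynomial.eval₂_X_pow, Polynomial.eval₂_C, hQ, ← map_pow, ← map_sub]
    exact Ideal.Quotient.eq_zero_iff_mem.mpr (Ideal.subset_span ⟨i, rfl⟩)⟩
  have hrel : Synt.IsRelGCI B m m F := fun q hq => by
    refine ⟨le_rfl, ?_⟩
    rw [dim0 q.asIdeal.ResidueField (q.asIdeal.Fiber (Synt.RelGCIRing B m m F))]
    simp
  have hsynQ := Groth.Agent.CI2.isSyntomic_of_isRelGCI hrel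
  have hφQ : φ.toRingHom = e.toRingHom.comp (algebraMap B Q) := RingHom.ext fun b => by
    show φ b = fwd (algebraMap B Q b)
    rw [hQ, hfwd, hevC]
  refine ⟨@Groth.Agent.CI2.isSyntomic_congr B _ Q _ _ S _ φ.toRingHom.toAlgebra
    (@AlgEquiv.ofRingEquiv B Q S _ _ _ _ φ.toRingHom.toAlgebra e (fun b => (RingHom.congr_fun hφQ b).symm)) hsynQ, ?_⟩
  have hinj : Function.Injective φ := by
    rw [show φ = MvPolynomial.expand p from MvPolynomial.algHom_ext fun i => by rw [hφ, MvPolynomial.expand_X]]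
    exact MvPolynomial.expand_injective (Fact.out : p.Prime).pos
  have hinjQ : Function.Injective (algebraMap B Q) := fun x y hxy => hinj (by
    show φ.toRingHom x = φ.toRingHom y
    rw [hφQ, RingHom.comp_apply, RingHom.comp_apply, hxy])
  haveI := hsynQ.1
  haveI : FaithfulSMul B Q := (faithfulSMul_iff_algebraMap_injective B Q).mpr hinjQ
  rw [hφQ]
  refine RingHom.FaithfullyFlat.iff_flat_and_comap_surjective.mpr
    ⟨(RingHom.flat_algebraMap_iff.mpr hsynQ.1).comp (RingHom.Flat.of_bijective e.bijective), fun P => ?_⟩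
  obtain ⟨P', -, hP', h'⟩ := Ideal.exists_ideal_over_prime_of_isIntegral P.asIdeal (⊥ : Ideal Q)
    (le_of_eq_of_le (Ideal.comap_bot_of_injective _ hinjQ) bot_le)
  refine ⟨⟨P'.comap e.symm.toRingHom, Ideal.IsPrime.comap _⟩, PrimeSpectrum.ext ?_⟩
  show (P'.comap e.symm.toRingHom).comap (e.toRingHom.comp (algebraMap B Q)) = P.asIdeal
  rw [Ideal.comap_comap, ← RingHom.comp_assoc, RingEquiv.toRingHom_eq_coe, RingEquiv.toRingHom_eq_coe, RingEquiv.symm_comp, RingHom.id_comp]
  exact h'

end Groth.Agent.S18933
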