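import Groth.Statements.S4936
import Groth.Agent.Lib.Branch14.GUBaseChange
import Groth.Agent.Lib.Branch14.Corollaries
import Groth.Agent.Lib.GeomIntUnibr4
import Groth.Agent.Lib.Unibr4.Poly

set_option autoImplicit false
set_option linter.style.haveILetI false
set_option backward.isDefEq.respectTransparency false
open CategoryTheory AlgebraicGeometry
universe u v w
open EGA43

namespace Groth.Agent.S4936

theorem gu_of_equiv {A A' : Type u} [CommRing A] [CommRing A'] [IsLocalRing A] [IsLocalRing A'] (e : A ≃+* A')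
    (h : CAlg2.IsGeomUnibranch A) : CAlg2.IsGeomUnibranch A' :=
  GeomIntUnibr4.isGeomUnibranch_of_surjective e.toRingHom e.surjective
    (((RingHom.injective_iff_ker_eq_bot _).1 e.injective).trans_le bot_le) h

section
open TensorProduct MvPolynomial
attribute [local instance] MvPolynomial.algebraMvPolynomial

variable {R : Type u} [CommRing R] {n : ℕ}


theorem gu_localization (p : Ideal R) [p.IsPrime] (Q : Ideal (MvPolynomial (ULift.{u} (Fin n)) R)) [Q.IsPrime]
    (hQ : Q.comap (C : R →+* (MvPolynomial (ULift.{u} (Fin n)) R)) = p) (hB : CAlg2.IsGeomUnibranch (Localization.AtPrime p)) :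
    CAlg2.IsGeomUnibranch (Localization.AtPrime Q) := by
  let B := Localization.AtPrime p
  let BT := MvPolynomial (ULift.{u} (Fin n)) B
  haveI : IsLocalization (p.primeCompl.map (C : R →+* (MvPolynomial (ULift.{u} (Fin n)) R))) BT := MvPolynomial.isLocalization _ _
  have hdisj : Disjoint (p.primeCompl.map (C : R →+* (MvPolynomial (ULift.{u} (Fin n)) R)) : Set (MvPolynomial (ULift.{u} (Fin n)) R)) Q := by
    rw [Set.disjoint_left]
    rintro _ ⟨r, hr, rfl⟩ hrQ
    exact hr (hQ ▸ hrQ)
  let q' : Ideal BT := Q.map (algebraMap (MvPolynomial (ULift.{u} (Fin n)) R) BT)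
  haveI hq' : q'.IsPrime := IsLocalization.isPrime_of_isPrime_disjoint _ BT Q inferInstance hdisj
  have hc : q'.comap (algebraMap (MvPolynomial (ULift.{u} (Fin n)) R) BT) = Q :=
    IsLocalization.comap_map_of_isPrime_disjoint _ BT inferInstance hdisj
  let e : B ⊗[R] (MvPolynomial (ULift.{u} (Fin n)) R) ≃ₐ[B] BT := MvPolynomial.scalarRTensorAlgEquiv
  let q : Ideal (B ⊗[R] (MvPolynomial (ULift.{u} (Fin n)) R)) := q'.comap e.toRingEquiv.toRingHom
  haveI : q.IsPrime := Ideal.IsPrime.comap _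
  have hq : q.comap (algebraMap B (B ⊗[R] (MvPolynomial (ULift.{u} (Fin n)) R))) = IsLocalRing.maximalIdeal B := by
    rw [Ideal.comap_comap]
    have he : e.toRingEquiv.toRingHom.comp (algebraMap B (B ⊗[R] (MvPolynomial (ULift.{u} (Fin n)) R))) = algebraMap B BT :=
      e.toAlgHom.comp_algebraMap
    rw [he]
    haveI : (q'.comap (algebraMap B BT)).IsPrime := Ideal.IsPrime.comap _
    refine le_antisymm (IsLocalRing.le_maximalIdeal (Ideal.IsPrime.ne_top inferInstance)) ?_
    have h1 : (q'.comap (algebraMap B BT)).comap (algebraMap R B) = p := by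
      rw [Ideal.comap_comap, ← IsScalarTower.algebraMap_eq]
      have h2 : algebraMap R BT = (algebraMap (MvPolynomial (ULift.{u} (Fin n)) R) BT).comp (C : R →+* (MvPolynomial (ULift.{u} (Fin n)) R)) :=
        RingHom.ext fun r => (MvPolynomial.map_C (algebraMap R B) r).symm
      rw [h2, ← Ideal.comap_comap, hc, hQ]
    rw [← Localization.AtPrime.map_eq_maximalIdeal, Ideal.map_le_iff_le_comap, h1]
  have hN : ∀ (N : Type u) [CommRing N] [IsDomain N] [IsIntegrallyClosed N] [Algebra R N]
      (P : Ideal (N ⊗[R] (MvPolynomial (ULift.{u} (Fin n)) R))) [P.IsPrime], CAlg2.IsGeomUnibranch (Localization.AtPrime P) := by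
    intro N _ _ _ _ P _
    let eN : N ⊗[R] (MvPolynomial (ULift.{u} (Fin n)) R) ≃+* MvPolynomial (ULift.{u} (Fin n)) N :=
      (MvPolynomial.scalarRTensorAlgEquiv : N ⊗[R] (MvPolynomial (ULift.{u} (Fin n)) R) ≃ₐ[N] _).toRingEquiv
    haveI := Unibr4.isIntegrallyClosed_mvPolynomial N n
    haveI : IsIntegrallyClosed (MvPolynomial (ULift.{u} (Fin n)) N) :=
      IsIntegrallyClosed.of_equiv (MvPolynomial.renameEquiv N Equiv.ulift.symm).toRingEquiv
    haveI : IsDomain (N ⊗[R] (MvPolynomial (ULift.{u} (Fin n)) R)) := eN.toMulEquiv.isDomain _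
    haveI : IsIntegrallyClosed (N ⊗[R] (MvPolynomial (ULift.{u} (Fin n)) R)) := IsIntegrallyClosed.of_equiv eN.symm
    haveI : IsDomain (Localization.AtPrime P) :=
      IsLocalization.isDomain_of_le_nonZeroDivisors (M := P.primeCompl) _ P.primeCompl_le_nonZeroDivisors
    haveI : IsIntegrallyClosed (Localization.AtPrime P) :=
      isIntegrallyClosed_of_isLocalization _ P.primeCompl P.primeCompl_le_nonZeroDivisors
    exact Branch14.isGeomUnibranch_of_isIntegrallyClosed (Localization.AtPrime P)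
  have h := Branch14.GUT.isGeomUnibranch_tensor_normRed hB hN q hq
  have e1 : Localization.AtPrime q ≃+* Localization.AtPrime q' :=
    IsLocalization.ringEquivOfRingEquiv (Localization.AtPrime q) (Localization.AtPrime q') e.toRingEquiv
      (M := q.primeCompl) (T := q'.primeCompl) (by
        ext x
        refine ⟨?_, fun hx => ⟨e.toRingEquiv.symm x, ?_, e.toRingEquiv.apply_symm_apply x⟩⟩
        · rintro ⟨y, hy, rfl⟩; exact hy
        · intro h'; exact hx (by simpa [q] using h'))
  haveI := IsLocalization.isLocalization_isLocalization_atPrime_isLocalization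
    (p.primeCompl.map (C : R →+* (MvPolynomial (ULift.{u} (Fin n)) R))) (Localization.AtPrime q') q'
  haveI : IsLocalization.AtPrime (Localization.AtPrime q') Q := by
    have := ‹IsLocalization.AtPrime (Localization.AtPrime q') (q'.comap (algebraMap (MvPolynomial (ULift.{u} (Fin n)) R) BT))›
    convert this using 2
    exact hc.symm
  exact gu_of_equiv (e1.trans (IsLocalization.algEquiv Q.primeCompl (Localization.AtPrime q')
    (Localization.AtPrime Q)).toRingEquiv) h

end

/-- Let Y be a scheme, Y' = Y[T_1, …, T_n] affine n-space over Y, y' a point of Y' and y its image in Y.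
If Y is geometrically unibranch at y, then Y' is geometrically unibranch at y'. -/
theorem result {Y : Scheme.{u}} (n : ℕ) (y' : ↥𝔸(ULift.{u} (Fin n); Y))
    (hy : CAlg2.IsGeomUnibranch (Y.presheaf.stalk ((𝔸(ULift.{u} (Fin n); Y) ↘ Y).base y'))) :
    CAlg2.IsGeomUnibranch ((𝔸(ULift.{u} (Fin n); Y)).presheaf.stalk y') := by
  obtain ⟨V, hV, hyV, -⟩ := exists_isAffineOpen_mem_and_subset
    (x := (𝔸(ULift.{u} (Fin n); Y) ↘ Y).base y') (U := ⊤) trivial
  let g : Spec (CommRingCat.of (MvPolynomial (ULift.{u} (Fin n)) Γ(Y, V))) ⟶ 𝔸(ULift.{u} (Fin n); Y) :=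
    (AffineSpace.SpecIso (ULift.{u} (Fin n)) Γ(Y, V)).inv ≫ AffineSpace.map (ULift.{u} (Fin n)) hV.fromSpec
  have hpb := AffineSpace.isPullback_map (n := ULift.{u} (Fin n)) hV.fromSpec
  haveI : IsOpenImmersion (AffineSpace.map (ULift.{u} (Fin n)) hV.fromSpec) :=
    MorphismProperty.of_isPullback hpb.flip inferInstance
  have hg : g ≫ (𝔸(ULift.{u} (Fin n); Y) ↘ Y) =
      Spec.map (CommRingCat.ofHom MvPolynomial.C) ≫ hV.fromSpec := by
    simp [g]
  obtain ⟨Q, rfl⟩ : ∃ Q, g.base Q = y' := by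
    obtain ⟨P, hP⟩ : (𝔸(ULift.{u} (Fin n); Y) ↘ Y).base y' ∈ Set.range hV.fromSpec.base := by
      rw [hV.range_fromSpec]; exact hyV
    obtain ⟨z₀, hz₀, -⟩ := Scheme.Pullback.exists_preimage_pullback
      (f := 𝔸(ULift.{u} (Fin n); Y) ↘ Y) (g := hV.fromSpec) y' P hP.symm
    obtain ⟨z, hz⟩ : ∃ z, (AffineSpace.map (ULift.{u} (Fin n)) hV.fromSpec).base z = y' :=
      ⟨hpb.isoPullback.inv.base z₀,
        (congrArg (fun F => F.base z₀) hpb.isoPullback_inv_fst).trans hz₀⟩
    obtain ⟨z', rfl⟩ := (AffineSpace.SpecIso (ULift.{u} (Fin n)) Γ(Y, V)).inv.surjective z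
    exact ⟨z', hz⟩
  have hy1 : (𝔸(ULift.{u} (Fin n); Y) ↘ Y).base (g.base Q) =
      hV.fromSpec (Spec.map (CommRingCat.ofHom MvPolynomial.C) Q) :=
    congrArg (fun F => F.base Q) hg
  rw [hy1] at hy
  let P := Spec.map (CommRingCat.ofHom (MvPolynomial.C : Γ(Y, V) →+* MvPolynomial (ULift.{u} (Fin n)) Γ(Y, V))) Q
  have h1 : CAlg2.IsGeomUnibranch (Localization.AtPrime P.asIdeal) :=
    gu_of_equiv ((asIso (hV.fromSpec.stalkMap P)).commRingCatIsoToRingEquiv.trans
      (Spec.stalkIso Γ(Y, V) P).commRingCatIsoToRingEquiv) hy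
  have h2 := gu_localization P.asIdeal Q.asIdeal rfl h1
  refine gu_of_equiv ?_ h2
  exact (Spec.stalkIso (CommRingCat.of (MvPolynomial (ULift.{u} (Fin n)) Γ(Y, V))) Q).commRingCatIsoToRingEquiv.symm.trans
      (asIso (g.stalkMap Q)).commRingCatIsoToRingEquiv.symm

end Groth.Agent.S4936
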