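import Groth.Statements.S16753
import Groth.Agent.Lib.Contr18.Apply

set_option autoImplicit false
universe u
open CurvSt

namespace Groth.Agent.S16753

open CategoryTheory CategoryTheory.Limits AlgebraicGeometry in
/-- Fix a scheme S with a point s, and consider two families of curves X → S and Y → S, where X and Y
are schemes and each structure morphism is flat, proper and locally of finite presentation with
every fibre of dimension at most one; the family X → S is given as the composite of a morphism c : X
→ Y over S followed by g : Y → S. Suppose that on the fibres over s the induced morphism c_s : X_s →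
Y_s makes O_{Y_s} → c_{s,*} O_{X_s} an isomorphism (on sections over each open of Y_s) and satisfies
R^1 c_{s,*} O_{X_s} = 0 (meaning that first cohomology of the structure sheaf vanishes on the
preimage of each affine open of Y_s). One can then find an open subset U of S containing s with the
following property: whenever S' → S has image inside U and X' → Y' → S' is the base-changed diagram
(with both squares cartesian), the morphism c' : X' → Y' still makes O_{Y'} → c'_* O_{X'} an
isomorphism and still has R^1 c'_* O_{X'} = 0, understood in the same sense. In the source, X and Y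
are permitted to be algebraic spaces. -/
theorem result {X Y S : Scheme.{u}} (c : X ⟶ Y) (g : Y ⟶ S)
    [Flat (c ≫ g)] [IsProper (c ≫ g)] [LocallyOfFinitePresentation (c ≫ g)]
    [Flat g] [IsProper g] [LocallyOfFinitePresentation g]
    (hX : ∀ t : S, topologicalKrullDim ↥((c ≫ g).fiber t) ≤ 1) (hY : ∀ t : S, topologicalKrullDim ↥(g.fiber t) ≤ 1)
    (s : S) (hiso : ∀ U : (g.fiber s).Opens, IsIso ((MoreMor.fiberMap c g s).app U))
    (hR1 : ∀ U : (g.fiber s).Opens, IsAffineOpen U →
      Subsingleton (Coh.HHon ((c ≫ g).fiber s) (Coh.structureModule ((c ≫ g).fiber s)) (MoreMor.fiberMap c g s ⁻¹ᵁ U) 1)) :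
    ∃ U : S.Opens, s ∈ U ∧
      ∀ (S' X' Y' : Scheme.{u}) (b : S' ⟶ S) (g' : Y' ⟶ S') (c' : X' ⟶ Y') (pY : Y' ⟶ Y) (pX : X' ⟶ X),
        IsPullback pY g' g b → IsPullback pX c' c pY → Set.range b.base ⊆ (U : Set S) →
          (∀ W : Y'.Opens, IsIso (c'.app W)) ∧
            ∀ W : Y'.Opens, IsAffineOpen W →
              Subsingleton (Coh.HHon X' (Coh.structureModule X') (c' ⁻¹ᵁ W) 1) := by
  haveI : IsProper c := IsProper.of_comp c g
  have hd : ∀ y' : ↥(g.fiber s), topologicalKrullDim ↥((MoreMor.fiberMap c g s).fiber y') ≤ 1 := fun y' => by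
    refine (Contr18.dim_le_of_baseChange (Contr18.isPullback_fiberMap c g s) y').2 ?_
    rw [VanFib13.dim_fiber]
    have h : ∀ x ∈ (c ⁻¹' {g.fiberι s y'} : Set X), x ∈ ((c ≫ g) ⁻¹' {g (g.fiberι s y')} : Set X) :=
      fun x hx => by simp only [Set.mem_preimage, Set.mem_singleton_iff] at hx ⊢; rw [← hx]; simp
    refine le_trans (Topology.IsInducing.topologicalKrullDim_le (f := fun x : (c ⁻¹' {g.fiberι s y'} : Set X) =>
      (⟨x.1, h x.1 x.2⟩ : ((c ≫ g) ⁻¹' {g (g.fiberι s y')} : Set X))) ?_) ?_
    · exact (Topology.IsInducing.subtypeVal.codRestrict _)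
    · rw [← VanFib13.dim_fiber]
      exact hX _
  obtain ⟨V, hsV, -, -, -, h⟩ := Contr18.exists_contraction c g s
    (fun x _ => Flat.stalkMap (c ≫ g) x) hd hR1 hiso
  refine ⟨⟨(g '' (V : Set Y)ᶜ)ᶜ, (g.isClosedMap _ V.isOpen.isClosed_compl).isOpen_compl⟩,
    fun ⟨y, hy, hys⟩ => hy (hsV hys), fun S' X' Y' b g' c' pY pX hY' hX' hb => ?_⟩
  have hW : ∀ W : Y'.Opens, W ≤ pY ⁻¹ᵁ V := fun W y' _ => by
    by_contra hy
    refine hb ⟨g' y', rfl⟩ ⟨pY y', hy, ?_⟩
    rw [← Scheme.Hom.comp_apply, hY'.w, Scheme.Hom.comp_apply]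
  exact ⟨fun W => (h b g' c' pY pX hY' hX' W (hW W)).1, fun W hWa => (h b g' c' pY pX hY' hX' W (hW W)).2 hWa⟩

end Groth.Agent.S16753
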