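import Groth.Statements.S2079
import Groth.Agent.Lib.LimH13.ProperSys
import Groth.Agent.Lib.LimH13.IdealSys
import Groth.Agent.Lib.LimH13.ClosedStage
import Groth.Agent.Lib.LimH13.Struct

set_option autoImplicit false
universe u
open CategoryTheory AlgebraicGeometry
open Lim

namespace Groth.Agent.S2079

set_option backward.isDefEq.respectTransparency false
set_option backward.isDefEq.respectTransparency.types false
set_option linter.style.haveILetI false


/-- Let `f : X → S` be proper with `S` quasi-compact and quasi-separated. Then `X` is the limit of a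
cofiltered diagram of `S`-schemes which are proper and of finite presentation over `S`, with all
transition morphisms and all projections `X → X_i` closed immersions. -/
theorem result {X S : Scheme.{u}} (f : X ⟶ S) [IsProper f] [CompactSpace S]
    [QuasiSeparatedSpace S] :
    ∃ (I : Type u) (_ : SmallCategory I) (_ : IsCofiltered I) (D : I ⥤ Over S) (c : Limits.Cone D)
      (_ : Limits.IsLimit c) (e : c.pt ≅ Over.mk f),
      (∀ (i j : I) (a : i ⟶ j), IsClosedImmersion (D.map a).left) ∧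
      (∀ i, IsClosedImmersion (c.π.app i).left ∧ IsProper (D.obj i).hom ∧
        LocallyOfFinitePresentation (D.obj i).hom) := by

  classical
  haveI : CompactSpace X := QuasiCompact.compactSpace_of_compactSpace f
  haveI : QuasiSeparatedSpace X := quasiSeparatedSpace_of_quasiSeparated f
  obtain ⟨X', f', j, h1, h2, h3, h4, h5, h6, h7, h8⟩ := LimH13.exists_closed_stage f
  haveI := h1
  haveI := h4
  haveI := h5
  haveI := h6
  haveI hs' : IsSeparated f' := h8 inferInstance
  haveI : IsFiltered (LimH13.FGIdx j.ker) :=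
    haveI := LimH13.isDirected_fgIdx j.ker
    isFiltered_of_directed_le_nonempty _
  haveI : IsConnected (LimH13.FGIdx j.ker)ᵒᵖ := IsCofiltered.isConnected _
  let E := LimH13.fgDiag j.ker ⋙ Over.forget X'
  let cX := (Over.forget X').mapCone (LimH13.fgCone j)
  have hcX : Limits.IsLimit cX := Limits.isLimitOfPreserves (Over.forget X') (LimH13.isLimitFGCone j)
  let h : E ⟶ (Functor.const (LimH13.FGIdx j.ker)ᵒᵖ).obj S :=
    { app := fun a => a.unop.1.subschemeι ≫ f'
      naturality := fun a b φ => by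
        change ((LimH13.fgDiag j.ker).map φ).left ≫ ((LimH13.fgDiag j.ker).obj b).hom ≫ f' =
          (((LimH13.fgDiag j.ker).obj a).hom ≫ f') ≫ 𝟙 S
        rw [Category.comp_id, Over.w_assoc] }
  haveI : ∀ {a b} (φ : a ⟶ b), IsClosedImmersion (E.map φ) := fun φ =>
    LimH13.isClosedImmersion_fgDiag_map _ φ
  haveI hEc : ∀ a, CompactSpace (E.obj a) := fun a =>
    QuasiCompact.compactSpace_of_compactSpace a.unop.1.subschemeι
  haveI hEq : ∀ a, QuasiSeparatedSpace (E.obj a) := fun a =>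
    quasiSeparatedSpace_of_quasiSeparated a.unop.1.subschemeι
  haveI : ∀ a, LocallyOfFiniteType (h.app a) := fun a =>
    inferInstanceAs (LocallyOfFiniteType (a.unop.1.subschemeι ≫ f'))
  have hcl : ∀ {a b} (φ : a ⟶ b), IsClosedImmersion (LimH13.graphMap h φ) := fun {a b} φ => by
    haveI : IsClosedImmersion (LimH13.graphMap h φ ≫ Limits.pullback.fst _ _) := by
      rw [LimH13.graphMap_fst]
      infer_instance
    haveI : IsSeparated (Limits.pullback.fst (h.app b) (((Functor.const (LimH13.FGIdx j.ker)ᵒᵖ).obj S).map φ)) :=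
      MorphismProperty.pullback_fst _ _ (inferInstanceAs (IsSeparated (𝟙 S)))
    exact IsClosedImmersion.of_comp (LimH13.graphMap h φ) (Limits.pullback.fst _ _)
  obtain ⟨a₀⟩ : Nonempty (LimH13.FGIdx j.ker)ᵒᵖ := ⟨Opposite.op (Classical.arbitrary _)⟩
  haveI : IsSeparated (h.app a₀) := inferInstanceAs (IsSeparated (a₀.unop.1.subschemeι ≫ f'))
  haveI : ∀ a, IsAffineHom ((𝟙 _ : (Functor.const (LimH13.FGIdx j.ker)ᵒᵖ).obj S ⟶ _).app a) := fun a =>
    inferInstanceAs (IsAffineHom (𝟙 S))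
  haveI : ∀ {a b : (LimH13.FGIdx j.ker)ᵒᵖ} (φ : a ⟶ b),
      IsAffineHom (((Functor.const (LimH13.FGIdx j.ker)ᵒᵖ).obj S).map φ) := fun φ =>
    inferInstanceAs (IsAffineHom (𝟙 S))
  haveI : IsProper (f : cX.pt ⟶ (LimH13.constCone (I := (LimH13.FGIdx j.ker)ᵒᵖ) S).pt) := ‹IsProper f›
  obtain ⟨a₁, -, ha₁⟩ := LimH13.exists_isProper_app h (𝟙 _) hcX (LimH13.isLimitConstCone S) hcl a₀ f
    fun a => by
      change f ≫ 𝟙 S = IsClosedImmersion.lift a.unop.1.subschemeι j _ ≫ a.unop.1.subschemeι ≫ f'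
      rw [Category.comp_id, IsClosedImmersion.lift_fac_assoc, h7]
  let T := {a : LimH13.FGIdx j.ker // a₁.unop ≤ a}
  haveI hdir : IsDirectedOrder T := ⟨fun a b => ⟨⟨⟨a.1.1 ⊔ b.1.1, a.1.2.1.sup b.1.2.1,
    sup_le a.1.2.2 b.1.2.2⟩, le_trans a.2 (le_sup_left : a.1.1 ≤ a.1.1 ⊔ b.1.1)⟩,
    (le_sup_left : a.1.1 ≤ a.1.1 ⊔ b.1.1), (le_sup_right : b.1.1 ≤ a.1.1 ⊔ b.1.1)⟩⟩
  haveI : Nonempty T := ⟨⟨a₁.unop, le_rfl⟩⟩
  have hmono : Monotone (fun a : T => a.1) := fun a b h => h
  haveI : hmono.functor.Final := hmono.final_functor_iff.mpr fun a =>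
    ⟨⟨⟨a.1 ⊔ a₁.unop.1, a.2.1.sup a₁.unop.2.1, sup_le a.2.2 a₁.unop.2.2⟩,
      (le_sup_right : a₁.unop.1 ≤ a.1 ⊔ a₁.unop.1)⟩, (le_sup_left : a.1 ≤ a.1 ⊔ a₁.unop.1)⟩
  haveI : IsFiltered T := isFiltered_of_directed_le_nonempty T
  haveI : IsConnected Tᵒᵖ := IsCofiltered.isConnected _
  let c₀ := (LimH13.fgCone j).whisker hmono.functor.op
  have hc₀ : Limits.IsLimit c₀ := (Functor.Initial.isLimitWhiskerEquiv _ _).symm (LimH13.isLimitFGCone j)
  refine ⟨Tᵒᵖ, inferInstance, inferInstance, (hmono.functor.op ⋙ LimH13.fgDiag j.ker) ⋙ Over.map f',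
    (Over.map f').mapCone c₀, ?_, eqToIso ?_,
    fun a b φ => LimH13.isClosedImmersion_fgDiag_map _ (hmono.functor.op.map φ), fun a => ⟨?_, ?_, ?_⟩⟩
  · refine Limits.isLimitOfReflects (Over.forget S) ?_
    exact Limits.isLimitOfPreserves (Over.forget X') hc₀
  · change Over.mk (j ≫ f') = Over.mk f
    rw [h7]
  · exact LimH13.isClosedImmersion_fgCone_π j (hmono.functor.op.obj a)
  · exact ha₁ (Opposite.op a.unop.1) (homOfLE a.unop.2).op
  · haveI := LimH13.locallyOfFinitePresentation_subschemeι a.unop.1.2.1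
    exact inferInstanceAs (LocallyOfFinitePresentation (a.unop.1.1.subschemeι ≫ f'))

end Groth.Agent.S2079
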