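import Groth.Statements.S9216
import Groth.Agent.Lib.LimH13.FibDimStage
import Groth.Agent.Lib.LimH13.IdealSys
import Groth.Agent.Lib.LimH13.Struct

set_option autoImplicit false
universe u
open CategoryTheory CategoryTheory.Limits AlgebraicGeometry
open Lim

namespace Groth.Agent.S9216

set_option backward.isDefEq.respectTransparency false
set_option backward.isDefEq.respectTransparency.types false
set_option linter.style.haveILetI false


/-- Let S be a quasi-compact quasi-separated scheme, f : X → S a morphism of finite presentation and d a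
natural number. Let Z be a closed subscheme of X such that every fibre of Z → S has dimension at
most d. Then there is a closed subscheme Z' of X containing Z such that Z' → X is of finite
presentation and every fibre of Z' → S has dimension at most d. -/
theorem result {X S Z : Scheme.{u}} [CompactSpace S]
    [QuasiSeparatedSpace S] (f : X ⟶ S) [LocallyOfFinitePresentation f] [QuasiCompact f] [QuasiSeparated f]
    (d : ℕ) (ι : Z ⟶ X) [IsClosedImmersion ι] (hZ : ∀ s : S, topologicalKrullDim ↥((ι ≫ f).fiber s) ≤ d) :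
    ∃ (Z' : Scheme.{u}) (ι' : Z' ⟶ X) (k : Z ⟶ Z'), IsClosedImmersion ι' ∧ LocallyOfFinitePresentation ι' ∧
      k ≫ ι' = ι ∧ ∀ s : S, topologicalKrullDim ↥((ι' ≫ f).fiber s) ≤ d := by

  classical
  haveI : CompactSpace X := QuasiCompact.compactSpace_of_compactSpace f
  haveI : QuasiSeparatedSpace X := quasiSeparatedSpace_of_quasiSeparated f
  haveI : IsFiltered (LimH13.FGIdx ι.ker) :=
    haveI := LimH13.isDirected_fgIdx ι.ker
    isFiltered_of_directed_le_nonempty _
  haveI : IsConnected (LimH13.FGIdx ι.ker)ᵒᵖ := IsCofiltered.isConnected _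
  let E := LimH13.fgDiag ι.ker ⋙ Over.forget X
  have hcX : Limits.IsLimit ((Over.forget X).mapCone (LimH13.fgCone ι)) :=
    Limits.isLimitOfPreserves (Over.forget X) (LimH13.isLimitFGCone ι)
  let h : E ⟶ (Functor.const (LimH13.FGIdx ι.ker)ᵒᵖ).obj S :=
    { app := fun a => a.unop.1.subschemeι ≫ f
      naturality := fun a b φ => by
        change ((LimH13.fgDiag ι.ker).map φ).left ≫ ((LimH13.fgDiag ι.ker).obj b).hom ≫ f =
          (((LimH13.fgDiag ι.ker).obj a).hom ≫ f) ≫ 𝟙 S
        rw [Category.comp_id, Over.w_assoc] }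
  haveI : ∀ {a b} (φ : a ⟶ b), IsClosedImmersion (E.map φ) := fun φ =>
    LimH13.isClosedImmersion_fgDiag_map _ φ
  haveI : ∀ a, LocallyOfFiniteType (h.app a) := fun a =>
    inferInstanceAs (LocallyOfFiniteType (a.unop.1.subschemeι ≫ f))
  haveI : ∀ a, QuasiCompact (h.app a) := fun a =>
    inferInstanceAs (QuasiCompact (a.unop.1.subschemeι ≫ f))
  haveI : ∀ {a b : (LimH13.FGIdx ι.ker)ᵒᵖ} (φ : a ⟶ b),
      IsAffineHom (((Functor.const (LimH13.FGIdx ι.ker)ᵒᵖ).obj S).map φ) := fun φ =>
    inferInstanceAs (IsAffineHom (𝟙 S))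
  haveI : ∀ a : (LimH13.FGIdx ι.ker)ᵒᵖ, CompactSpace (((Functor.const (LimH13.FGIdx ι.ker)ᵒᵖ).obj S).obj a) :=
    fun _ => inferInstanceAs (CompactSpace S)
  have hcl : ∀ {a b} (φ : a ⟶ b), IsClosedImmersion (LimH13.graphMap h φ) := fun {a b} φ => by
    haveI : IsClosedImmersion (LimH13.graphMap h φ ≫ Limits.pullback.fst _ _) := by
      rw [LimH13.graphMap_fst]
      infer_instance
    haveI : IsSeparated (Limits.pullback.fst (h.app b) (((Functor.const (LimH13.FGIdx ι.ker)ᵒᵖ).obj S).map φ)) :=
      MorphismProperty.pullback_fst _ _ (inferInstanceAs (IsSeparated (𝟙 S)))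
    exact IsClosedImmersion.of_comp (LimH13.graphMap h φ) (Limits.pullback.fst _ _)
  obtain ⟨a, ha⟩ := LimH13.exists_fibreDimAt_le h hcX (LimH13.isLimitConstCone S) hcl d
    (LimH13.exists_fibreDimAt_le_stage h hcX (LimH13.isLimitConstCone S) hcl (ι ≫ f) (fun a => by
      change IsClosedImmersion.lift a.unop.1.subschemeι ι _ ≫ a.unop.1.subschemeι ≫ f = (ι ≫ f) ≫ 𝟙 S
      rw [IsClosedImmersion.lift_fac_assoc, Category.comp_id]) d ((LimH13.forall_dim_fiber_le_iff _ d).1 hZ))
  exact ⟨a.unop.1.subscheme, a.unop.1.subschemeι, IsClosedImmersion.lift a.unop.1.subschemeι ι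
      (by rw [Scheme.IdealSheafData.ker_subschemeι]; exact a.unop.2.2), inferInstance,
    LimH13.locallyOfFinitePresentation_subschemeι a.unop.2.1, IsClosedImmersion.lift_fac _ _ _,
    (LimH13.forall_dim_fiber_le_iff _ d).2 ha⟩

end Groth.Agent.S9216
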