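import Groth.Statements.S3327
import Groth.Agent.Lib.ArInter.Meet
import Groth.Agent.S3320
import Groth.Agent.S3321
import Groth.Agent.S3322
import Groth.Agent.Lib.ArInter.ChainGen
-- import your own Groth.Agent.* helpers here

set_option autoImplicit false
universe u
open CategoryTheory CategoryTheory.Limits AlgebraicGeometry
open Models

namespace Groth.Agent.S3327

/-- In the following situation (R a discrete valuation ring with residue field k, C a smooth proper
curve over its fraction field K with H^0(C, O_C) = K, X a regular proper model, Γ_1, …, Γ_n the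
irreducible components of the closed fibre with multiplicities m_l), suppose Γ_i and Γ_j (i ≠ j) are
exceptional curves of the first kind which meet. Then n = 2, all multiplicities are 1, every
component is k-isomorphic to the projective line over k, Γ_i and Γ_j meet in a single point x with
residue field k, scheme-theoretically (I(Γ_i) + I(Γ_j) is the ideal of the reduced point x), and C
has genus zero. -/
theorem result (R : Type u) [CommRing R] [IsDomain R] [IsDiscreteValuationRing R]
    (C X : Scheme.{u}) (f : C ⟶ Spec (CommRingCat.of (FractionRing R))) (p : X ⟶ Spec (CommRingCat.of R))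
    (hC : Curve.IsSmoothProperCurve (FractionRing R) C f) (hH0 : IsIso f.appTop)
    (hX : Models.IsRegularProperModel R X p C f)
    {n : ℕ} (Γ : Fin n → ArSurf.VertComp R (Over.mk p)) (hΓ : Models.IsComponentList R (Over.mk p) Γ)
    (i j : Fin n) (hij : i ≠ j) (hi : Models.IsExcCurve (Γ i).ι) (hj : Models.IsExcCurve (Γ j).ι)
    (hmeet : ¬ Disjoint (Set.range ((Γ i).ι.base : (Γ i).curve.left → X))
      (Set.range ((Γ j).ι.base : (Γ j).curve.left → X))) :
    n = 2 ∧ (∀ l, Models.mult R (Over.mk p) (Γ l) = 1) ∧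
      (∀ l, ∃ e : (Γ l).curve.left ≅ CohB1.ProjSpace 1 (IsLocalRing.ResidueField R),
        e.hom ≫ CohB1.ProjSpace.toSpec 1 (IsLocalRing.ResidueField R) = (Γ l).curve.hom) ∧
      (∃ x : X, Set.range ((Γ i).ι.base : (Γ i).curve.left → X) ∩ Set.range ((Γ j).ι.base : (Γ j).curve.left → X) = {x} ∧
        (Γ i).ι.ker ⊔ (Γ j).ι.ker =
          Scheme.IdealSheafData.vanishingIdeal ⟨closure {x}, isClosed_closure⟩ ∧
        Function.Surjective ((X.residue x).hom.comp (Models.stalkHom R (Over.mk p) x))) ∧
      Models.curveGenus (FractionRing R) C f = 0 := by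
  classical
  have hS := Groth.Agent.ArInter.isSurf_of_model hC hX
  have hE := fun l => Groth.Agent.ArInter.isEffCartierIdeal_component hS.pre hX.2.2 hΓ l
  let L : Fin n → X.Modules := fun l => Groth.Agent.M2.dualMod (ClSub.idealMod (Γ l).ι.ker)
  have hL : ∀ l, ClSub.IsInverseOf (L l) (ClSub.idealMod (Γ l).ι.ker) :=
    fun l => ⟨Groth.Agent.M2.dualTensorIso (Groth.Agent.M2.isInvertible_idealMod _ (hE l))⟩
  obtain ⟨hi1, hii⟩ := Groth.Agent.ArInter.numerics_of_isExcCurve hS (Γ i) (hE i) (hL i) hi
  obtain ⟨hj1, hjj⟩ := Groth.Agent.ArInter.numerics_of_isExcCurve hS (Γ j) (hE j) (hL j) hj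
  obtain ⟨T, hm, ha, hw, -, hgen⟩ := Groth.Agent.S3322.result R C X f p hC hH0 hX Γ hΓ L hL
  have hne : 0 < ArSurf.inter R (Over.mk p) (L j) (Γ i) := by
    have h := Groth.Agent.ArInter.inter_offDiag_nonneg hS hΓ.1 hL hij
    exact lt_of_le_of_ne h.1 fun h0 => hmeet (h.2 h0.symm)
  let a := ArSurf.inter R (Over.mk p) (L j) (Γ i)
  let wi : ℤ := Models.wdeg R (Over.mk p) (Γ i)
  let wj : ℤ := Models.wdeg R (Over.mk p) (Γ j)
  have hsymm : ArSurf.inter R (Over.mk p) (L i) (Γ j) = a := Groth.Agent.ArInter.inter_symm hS hΓ.1 hL i j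
  have hdiv := fun l => (Groth.Agent.S3322.wdeg_dvd_finrank R hS (Γ l)).1
  have hwi : 0 < wi := Int.natCast_pos.mpr (hdiv i)
  have hwj : 0 < wj := Int.natCast_pos.mpr (hdiv j)
  have hai : wi ≤ a := Int.le_of_dvd hne (by
    have := T.w_dvd i j; rw [hw, ha] at this; exact this)
  have haj : wj ≤ a := Int.le_of_dvd hne (by
    have := T.w_dvd j i; rw [hw, ha] at this; exact hsymm ▸ this)
  let x : Fin n → ℤ := fun l => if l = i ∨ l = j then 1 else 0
  obtain ⟨hle, hiff⟩ := Groth.Agent.S3320.result R C X f p hC hH0 hX Γ hΓ L hL x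
  have hsum : (∑ q : Fin n × Fin n, x q.1 * x q.2 * ArSurf.inter R (Over.mk p) (L q.2) (Γ q.1)) =
      -wi - wj + 2 * a := by
    rw [Fintype.sum_prod_type]
    have hx : ∀ l, x l = (if l = i then 1 else 0) + (if l = j then 1 else 0) := fun l => by
      by_cases h1 : l = i <;> by_cases h2 : l = j <;> simp_all [x]
    simp only [hx, add_mul, mul_add, Finset.sum_add_distrib, ite_mul, one_mul, zero_mul, mul_ite, mul_one, mul_zero,
      Finset.sum_ite_eq', Finset.mem_univ, if_true]
    rw [hii, hjj, hsymm]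
    show -wi + a + (a + -wj) = _
    ring
  rw [hsum] at hle hiff
  obtain ⟨c, hc⟩ := hiff.mp (by omega)
  have hmp : ∀ l, (0 : ℤ) < Models.mult R (Over.mk p) (Γ l) := fun l => hm l ▸ T.m_pos l
  have hc0 : c ≠ 0 := fun h => by
    have := hc i; rw [h] at this; simp [x] at this
  have hall : ∀ l, l = i ∨ l = j := fun l => by
    by_contra hl
    have := hc l
    simp only [x, if_neg hl, Int.cast_zero] at this
    rcases mul_eq_zero.mp this.symm with h | h
    · exact hc0 h
    · have h' := hmp l
      norm_cast at h h'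
      omega
  have hmij : Models.mult R (Over.mk p) (Γ j) = Models.mult R (Over.mk p) (Γ i) := by
    have h1 := hc i
    have h2 := hc j
    simp [x] at h1 h2
    exact_mod_cast mul_left_cancel₀ hc0 (h2.symm.trans h1 : c * _ = c * _)
  have hn : n = 2 := by
    have h1 : (Finset.univ : Finset (Fin n)) = {i, j} := by
      ext l; simpa using hall l
    have h2 := congrArg Finset.card h1
    rwa [Finset.card_univ, Fintype.card_fin, Finset.card_pair hij] at h2
  have hgenus := Groth.Agent.S3321.result R C X f p hC hH0 hX Γ hΓ L hL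
  rw [show (Finset.univ : Finset (Fin n)) = {i, j} by ext l; simpa using hall l, Finset.sum_pair hij, hi1, hj1,
    hii, hjj, hmij] at hgenus
  have hwij : wi = a ∧ wj = a := ⟨by omega, by omega⟩
  have hprod : (Models.curveGenus (FractionRing R) C f : ℤ) = 1 - (Models.mult R (Over.mk p) (Γ i) : ℤ) * a := by
    push_cast at hgenus
    have e1 : (Models.wdeg R (Over.mk p) (Γ i) : ℤ) = a := hwij.1
    have e2 : (Models.wdeg R (Over.mk p) (Γ j) : ℤ) = a := hwij.2
    rw [e1, e2] at hgenus
    linarith
  have hapos : 0 < a := hne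
  have hmi := hmp i
  have hle1 : (Models.mult R (Over.mk p) (Γ i) : ℤ) * a ≤ 1 := by
    have : (0 : ℤ) ≤ Models.curveGenus (FractionRing R) C f := Int.natCast_nonneg _
    linarith
  have hm1 : (Models.mult R (Over.mk p) (Γ i) : ℤ) = 1 := by nlinarith
  have ha1 : a = 1 := by nlinarith
  have hP : ∀ l, Models.mult R (Over.mk p) (Γ l) = 1 ∧ Models.wdeg R (Over.mk p) (Γ l) = 1 ∧
      Models.h1 R (Over.mk p) (Γ l) = 0 ∧ ArSurf.inter R (Over.mk p) (L l) (Γ l) = -1 := fun l => by
    rcases hall l with rfl | rfl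
    · refine ⟨by exact_mod_cast hm1, ?_, hi1, ?_⟩
      · exact Int.natCast_inj.mp ((hwij.1.trans ha1).trans Nat.cast_one.symm)
      · rw [hii]; exact neg_inj.mpr (hwij.1.trans ha1)
    · refine ⟨hmij.trans (by exact_mod_cast hm1), ?_, hj1, ?_⟩
      · exact Int.natCast_inj.mp ((hwij.2.trans ha1).trans Nat.cast_one.symm)
      · rw [hjj]; exact neg_inj.mpr (hwij.2.trans ha1)
  refine ⟨hn, fun l => (hP l).1, fun l => Groth.Agent.ArInter.exists_iso_P1_curve hS (Γ l) (hE l) (hL l)
    (hP l).2.2.1 (hP l).2.2.2, ?_, ?_⟩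
  · have hgi := Groth.Agent.ArInter.genPtOf_notMem_range hS.pre (hE i) (hE j) fun e => hij (hΓ.1 e)
    refine Groth.Agent.ArInter.meet_of_lengthH_eq_one hS hgi ?_
    have h := Groth.Agent.ArInter.inter_eq_length_of_range_ne hS (hE i) (fun e => hij (hΓ.1 e)) (hL j)
    rw [show ArSurf.inter R (Over.mk p) (L j) (Γ i) = 1 from ha1] at h
    exact_mod_cast h.symm
  · rw [hm1, ha1] at hprod
    omega

end Groth.Agent.S3327
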