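import Groth.Statements.S7359
import Groth.Agent.S9674
import Groth.Agent.S9833
import Groth.Agent.S0566
import Groth.Agent.Lib.BlowUpExist.Proper
import Groth.Agent.Lib.NeronEt19.Normal
import Groth.Agent.Lib.BCField24.IntClosure
-- import your own Groth.Agent.* helpers here

set_option autoImplicit false
universe u
open CategoryTheory CategoryTheory.Limits AlgebraicGeometry
open Resolve

namespace Groth.Agent.S7359

set_option linter.style.haveILetI false
set_option backward.isDefEq.respectTransparency.types false


/-- Let X be an integral locally Noetherian Nagata scheme (every affine open has a Nagata coordinate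
ring), x ∈ X a closed point, b : X' → X the blowing up of X at x (in the reduced point; X' is again
integral) and X'' → X' the normalization of X'. Then the normalized blowing up X'' is a normal
scheme, is Nagata, and X'' → X is proper. (The quasi-compactness and quasi-separatedness binders on
Spec K(X') → X' always hold; they are needed only to form the normalization.) -/
theorem result (X : Scheme.{u}) [IsIntegral X] [IsLocallyNoetherian X]
    (hN : ∀ U : X.affineOpens, CAlg.IsNagata Γ(X, U.1)) (x : X) (hx : IsClosed ({x} : Set X))
    (X' : Scheme.{u}) (b : X' ⟶ X) (hb : BlowUp.IsBlowUp b (Scheme.IdealSheafData.vanishingIdeal ⟨{x}, hx⟩)) [IsIntegral X']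
    [QuasiCompact (X'.fromSpecStalk (genericPoint X'))] [QuasiSeparated (X'.fromSpecStalk (genericPoint X'))] :
    Pi1.IsNormalScheme (Curv2.normalization X') ∧
      (∀ U : (Curv2.normalization X').affineOpens, CAlg.IsNagata Γ(Curv2.normalization X', U.1)) ∧
      IsProper (Curv2.normalizationι X' ≫ b) := by
  haveI hbp : IsProper b :=
    BlowUpExist.isProper (fun U => by
      haveI : IsNoetherianRing Γ(X, U.1) := IsLocallyNoetherian.component_noetherian U
      exact IsNoetherian.noetherian _) hb
  have nag : ∀ {Y : Scheme.{u}} (g : Y ⟶ X) [LocallyOfFiniteType g],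
      ∀ V : Y.affineOpens, CAlg.IsNagata Γ(Y, V.1) := by
    intro Y g _ V
    refine Groth.Agent.S9833.result Y
      (ι := {V : Y.affineOpens // ∃ U : X.affineOpens, V.1 ≤ g ⁻¹ᵁ U.1}) (fun i => i.1.1) ?_ (fun i => i.1.2) ?_ V.1 V.2
    · refine eq_top_iff.2 fun y _ => ?_
      obtain ⟨U, hU, hyU, -⟩ := exists_isAffineOpen_mem_and_subset (X := X) (x := g y) (U := ⊤) trivial
      obtain ⟨W, hW, hyW, hWU⟩ := exists_isAffineOpen_mem_and_subset (X := Y) (x := y) (U := g ⁻¹ᵁ U) hyU
      exact TopologicalSpace.Opens.mem_iSup.2 ⟨⟨⟨W, hW⟩, ⟨U, hU⟩, hWU⟩, hyW⟩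
    · rintro ⟨⟨W, hW⟩, ⟨U, hU⟩, hWU⟩
      letI := (g.appLE U W hWU).hom.toAlgebra
      haveI : Algebra.FiniteType Γ(X, U) Γ(Y, W) := g.finiteType_appLE hU hW hWU
      exact Groth.Agent.S0566.result Γ(X, U) (hN ⟨U, hU⟩) Γ(Y, W)
  let ξ := X'.fromSpecStalk (genericPoint X')
  haveI : IsReduced X' := inferInstance
  haveI hfld : IsIntegral (Spec (X'.presheaf.stalk (genericPoint X'))) := by
    haveI : IsDomain (X'.presheaf.stalk (genericPoint X')) :=
      inferInstanceAs (IsDomain X'.functionField)
    infer_instance
  have hsub : Subsingleton (Spec (X'.presheaf.stalk (genericPoint X'))) :=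
    inferInstanceAs (Subsingleton (PrimeSpectrum X'.functionField))
  haveI : IsFinite ξ.fromNormalization := by
    refine Groth.Agent.S9674.result ξ (nag b) ?_ fun x _ => ?_
    · haveI : Finite ↥(irreducibleComponents (Spec (X'.presheaf.stalk (genericPoint X')))) := by
        rw [irreducibleComponents_eq_singleton]; infer_instance
      exact locallyFinite_of_finite _
    · suffices hs : Function.Surjective (ξ.residueFieldMap x).hom by
        letI := (ξ.residueFieldMap x).hom.toAlgebra
        haveI : Algebra.FiniteType _ _ := RingHom.FiniteType.of_surjective _ hs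
        show Algebra.EssFiniteType (X'.residueField (ξ x)) ((Spec (X'.presheaf.stalk (genericPoint X'))).residueField x)
        infer_instance
      intro a
      obtain ⟨a', rfl⟩ := IsLocalRing.residue_surjective a
      obtain ⟨c, rfl⟩ := ξ.stalkMap_surjective x a'
      exact ⟨IsLocalRing.residue _ c, IsLocalRing.ResidueField.map_residue _ _⟩
  refine ⟨?_, ?_, ?_⟩
  · refine NeronEt19.isNormalScheme_normalization ξ fun x => ?_
    have : IsField X'.functionField := Field.toIsField _
    haveI : IsIntegrallyClosed (X'.presheaf.stalk (genericPoint X')) := by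
      letI := this.toField
      infer_instance
    haveI : IsDomain (X'.presheaf.stalk (genericPoint X')) := inferInstanceAs (IsDomain X'.functionField)
    exact @BCField24.isIntegrallyClosed_stalk_spec (X'.presheaf.stalk (genericPoint X')) _ ‹_› ‹_› x
  · haveI : LocallyOfFiniteType (Curv2.normalizationι X' ≫ b) := by
      haveI : IsFinite (Curv2.normalizationι X') := ‹IsFinite ξ.fromNormalization›
      infer_instance
    exact nag (Curv2.normalizationι X' ≫ b)
  · haveI : IsFinite (Curv2.normalizationι X') := ‹IsFinite ξ.fromNormalization›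
    infer_instance

end Groth.Agent.S7359
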