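import Groth.Prelude.Def_EGA4b
import Groth.Prelude.Def_CAlg
import Groth.Prelude.Def_Found
import Mathlib.RingTheory.LocalRing.RingHom.Basic
import Mathlib.RingTheory.Flat.Basic
import Mathlib.RingTheory.Ideal.Quotient.Operations
import Mathlib.RingTheory.KrullDimension.Module
import Mathlib.RingTheory.Ideal.MinimalPrime.Basic
import Mathlib.RingTheory.RegularLocalRing.Defs
import Mathlib.RingTheory.Spectrum.Prime.Topology
import Groth.Agent.Lib.FlatDepth.Locus

set_option autoImplicit false
universe u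
open EGA4

namespace Groth.Agent.S4700

/-- Let A be a Noetherian ring. Suppose that for every prime p of A such that A_p is regular, the
regular locus of the domain A/p contains a nonempty open subset of Spec(A/p) (equivalently, is a
neighbourhood of the generic point). Then the regular locus of A is open in Spec A. -/
theorem result (A : Type u) [CommRing A] [IsNoetherianRing A]
    (h : ∀ p : PrimeSpectrum A, p ∈ EGA4.regLocus A →
      ∃ U : Set (PrimeSpectrum (A ⧸ p.asIdeal)), IsOpen U ∧ U.Nonempty ∧ U ⊆ EGA4.regLocus (A ⧸ p.asIdeal)) :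
    IsOpen (EGA4.regLocus A) := by
  refine FlatDepth.isOpen_of_nagata _ (fun p q hle hq => FlatDepth.regular_of_le hle hq) fun p hp => ?_
  haveI : IsRegularLocalRing (Localization.AtPrime p.asIdeal) := hp
  obtain ⟨U, hU, ⟨Q₀, hQ₀⟩, hsub⟩ := h p hp
  obtain ⟨f₀, hf₀, hf⟩ := FlatDepth.regular_of_quotient p.asIdeal
  obtain ⟨_, ⟨g, rfl⟩, hg, hgU⟩ :=
    PrimeSpectrum.isTopologicalBasis_basic_opens.exists_subset_of_mem_open hQ₀ hU
  obtain ⟨g, rfl⟩ := Ideal.Quotient.mk_surjective g
  refine ⟨f₀ * g, fun hm => (p.2.mem_or_mem hm).elim hf₀ fun hgp => ?_, fun q hpq hfq => ?_⟩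
  · exact hg (by rw [Ideal.Quotient.eq_zero_iff_mem.2 hgp]; exact Q₀.asIdeal.zero_mem)
  · have hker : RingHom.ker (Ideal.Quotient.mk p.asIdeal) ≤ q.asIdeal := by rwa [Ideal.mk_ker]
    haveI := Ideal.map_isPrime_of_surjective Ideal.Quotient.mk_surjective hker
    have hc : (q.asIdeal.map (Ideal.Quotient.mk p.asIdeal)).comap (Ideal.Quotient.mk p.asIdeal) = q.asIdeal :=
      (Ideal.comap_map_of_surjective _ Ideal.Quotient.mk_surjective _).trans (sup_eq_left.2 hker)
    refine hf q.asIdeal hpq (fun h => hfq (Ideal.mul_mem_right _ _ h)) (q.asIdeal.map (Ideal.Quotient.mk p.asIdeal)) hc ?_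
    refine hsub (a := ⟨_, ‹_›⟩) (hgU fun hm => hfq (Ideal.mul_mem_left _ _ ?_))
    rw [← hc]
    exact hm

end Groth.Agent.S4700
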