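import Groth.Statements.S0220
import Groth.Agent.Lib.Curve17.Basic
-- import your own Groth.Agent.* helpers here

set_option autoImplicit false
universe u
open CategoryTheory CategoryTheory.Limits AlgebraicGeometry TopologicalSpace
open Curves

namespace Groth.Agent.S0220
open Groth.Agent
set_option linter.style.haveILetI false

/-- A nonconstant morphism between curves over a field (integral, separated, finite type, dimension one)
whose target has integrally closed local domains is flat. -/
theorem result (k : Type u) [Field k] (X Y : Scheme.{u}) (p : X ⟶ Spec (CommRingCat.of k)) (q : Y ⟶ Spec (CommRingCat.of k))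
    [IsIntegral X] [IsIntegral Y] [IsSeparated p] [IsSeparated q] [LocallyOfFiniteType p] [LocallyOfFiniteType q]
    [QuasiCompact p] [QuasiCompact q] (hX : topologicalKrullDim X = 1) (hY : topologicalKrullDim Y = 1)
    (hN : ∀ y : Y, IsDomain (Y.presheaf.stalk y) ∧ IsIntegrallyClosed (Y.presheaf.stalk y))
    (f : X ⟶ Y) (hf : f ≫ q = p) (hnc : (Set.range f.base).Nontrivial) :
    Flat f := by
  haveI : LocallyOfFiniteType (f ≫ q) := hf ▸ inferInstance
  haveI : IsLocallyNoetherian Y := LocallyOfFiniteType.isLocallyNoetherian q
  have hη : f (genericPoint X) = genericPoint Y := Curve17.map_genericPoint hY.le f hnc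
  rw [Flat.iff_flat_stalkMap]
  intro x
  refine Curve17.flat_stalkMap_of_dvr f hη x ?_
  by_cases hy : f x = genericPoint Y
  · have hF : IsField (Y.presheaf.stalk (f x)) := by rw [hy]; exact Field.toIsField Y.functionField
    letI := hF.toField
    infer_instance
  · haveI := (hN (f x)).2
    haveI := Curve17.isDiscreteValuationRing_stalk hY (Curve17.isClosed_singleton hY.le hy)
    infer_instance

end Groth.Agent.S0220
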