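import Groth.Statements.S0283
import Groth.Agent.Lib.FEtEq25.Graph

set_option autoImplicit false
universe u
open Pi1

namespace Groth.Agent.S0283

open AlgebraicGeometry CategoryTheory CategoryTheory.Limits in
/-- Let f : X → Y be a morphism of schemes which is integral, universally injective and surjective (that
is, a universal homeomorphism). Then base change along f, from finite étale covers of Y to finite
étale covers of X, is a full and faithful functor. -/
theorem result {X Y : Scheme.{u}} (f : X ⟶ Y) [IsIntegralHom f] [UniversallyInjective f] [Surjective f] :
    (FEt.restrict f).Full ∧ (FEt.restrict f).Faithful := by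
  have hT : ∀ S : Set Y, IsClopen S → S.Nonempty → (S ∩ Set.range f).Nonempty :=
    fun S _ ⟨y, hy⟩ => ⟨y, hy, f.surjective y⟩
  refine ⟨Groth.Agent.FEtEq25.full_restrict f hT fun {Z} g hg C hC => ?_,
    Groth.Agent.FEtEq25.faithful_restrict f hT⟩
  let q := pullback.fst g f
  have : UniversallyInjective q := MorphismProperty.pullback_fst g f ‹UniversallyInjective f›
  have hq : Topology.IsQuotientMap q :=
    q.isClosedMap.isQuotientMap q.continuous q.surjective
  have hpre : q ⁻¹' (q '' C) = C := Set.preimage_image_eq C q.injective
  exact ⟨q '' C, hq.isClopen_preimage.1 (by rw [hpre]; exact hC), hpre⟩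
end Groth.Agent.S0283
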