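import Groth.Statements.S0238
import Groth.Agent.Lib.FEtEq25.Thickening
import Groth.Agent.S0283

set_option autoImplicit false
universe u
open Pi1

namespace Groth.Agent.S0238

open AlgebraicGeometry CategoryTheory CategoryTheory.Limits in
/-- For a thickening, i.e. a closed immersion which is surjective on points, pulling back finite etale
covers is an equivalence of categories. -/
theorem result {X X' : Scheme.{u}} (i : X ⟶ X') [IsClosedImmersion i] [Surjective i] :
    (FEt.restrict i).IsEquivalence := by
  have hff := Groth.Agent.S0283.result i
  exact { full := hff.1, faithful := hff.2, essSurj := Groth.Agent.FEtEq25.essSurj_restrict_thickening i }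
end Groth.Agent.S0238
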