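import Groth.Statements.S1186
import Groth.Agent.Lib.Pinch4.EtaleDescend

set_option autoImplicit false
universe u
open Pi1

set_option backward.isDefEq.respectTransparency.types false

namespace Groth.Agent.S1186

open AlgebraicGeometry CategoryTheory CategoryTheory.Limits in
/-- Let i : Z ⟶ X be a closed immersion and j : Z ⟶ Y an integral morphism such that every fibre of j
lies in the preimage under i of some affine open of X, and let a : X ⟶ W, b : Y ⟶ W exhibit W as the
pushout of i and j in the category of schemes. If U is finite étale over X and V is finite étale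
over Y with U ×_X Z ≅ V ×_Y Z over Z, then there is a finite étale cover T of W whose restrictions
to X and to Y are isomorphic to U and to V respectively. (This is the essential-surjectivity part of
an equivalence between finite étale covers of W and the 2-fibre product of the categories of finite
étale covers of X and of Y over that of Z; only the gluing of objects is asserted, and the
compatibility of the two identifications over Z is not asserted.) -/
theorem result {Z X Y W : Scheme.{u}} (i : Z ⟶ X) [IsClosedImmersion i] (j : Z ⟶ Y) [IsIntegralHom j]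
    (h3 : ∀ y : Y, ∃ U : X.Opens, IsAffineOpen U ∧ ∀ z : Z, j.base z = y → i.base z ∈ U)
    (a : X ⟶ W) (b : Y ⟶ W) (hpo : IsPushout i j a b)
    (U : FEt.Cat X) (V : FEt.Cat Y) (e : (FEt.restrict i).obj U ≅ (FEt.restrict j).obj V) :
    ∃ T : FEt.Cat W, Nonempty ((FEt.restrict a).obj T ≅ U) ∧ Nonempty ((FEt.restrict b).obj T ≅ V) := by
  haveI : IsFinite U.hom := U.prop.1
  haveI : Etale U.hom := U.prop.2
  haveI : IsFinite V.hom := V.prop.1
  haveI : Etale V.hom := V.prop.2
  haveI : IsIso e.hom.left := ((MorphismProperty.Over.forget _ _ _ ⋙ Over.forget Z).mapIso e).isIso_hom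
  let i' : pullback U.hom i ⟶ U.left := pullback.fst U.hom i
  let j' : pullback U.hom i ⟶ V.left := e.hom.left ≫ pullback.fst V.hom j
  let h : pullback U.hom i ⟶ Z := pullback.snd U.hom i
  have he : e.hom.left ≫ pullback.snd V.hom j = h := Over.w e.hom.hom
  have hX : IsPullback h i' i U.hom := (IsPullback.of_hasPullback U.hom i).flip
  let eL : pullback U.hom i ≅ pullback V.hom j := (MorphismProperty.Over.forget _ _ _ ⋙ Over.forget Z).mapIso e
  have hY : IsPullback h j' j V.hom :=
    (IsPullback.of_hasPullback V.hom j).flip.of_iso eL.symm (Iso.refl _) (Iso.refl _) (Iso.refl _)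
      (by simp [← he]; exact (Iso.inv_hom_id_assoc eL _).symm) (by simp [j']; exact (Iso.inv_hom_id_assoc eL _).symm) (by simp) (by simp)
  haveI : IsClosedImmersion i' := MorphismProperty.of_isPullback hX inferInstance
  haveI : IsIntegralHom j' := MorphismProperty.of_isPullback hY inferInstance
  have h3' : ∀ y : Y, ∃ O : X.Opens, IsAffineOpen O ∧ j ⁻¹' {y} ⊆ (i ⁻¹ᵁ O : Set Z) := fun y => by
    obtain ⟨O, hO, hO'⟩ := h3 y
    exact ⟨O, hO, fun z hz => hO' z hz⟩
  have H := Groth.Agent.Pinch4.isPinch_of_cond (Groth.Agent.Pinch4.cond_of_integral h3') hpo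
  obtain ⟨W', a', b', H'⟩ := Groth.Agent.Pinch4.exists_isPinch
    (Groth.Agent.Pinch4.cond_of_lqf (i' := i') (j' := j') hX.w hY.w h3')
  have hc : i' ≫ U.hom ≫ a = j' ≫ V.hom ≫ b := by
    rw [← Category.assoc, ← hX.w, Category.assoc, H.w, ← Category.assoc, hY.w, Category.assoc]
  let k := H'.isPushout.desc (U.hom ≫ a) (V.hom ≫ b) hc
  have ka : a' ≫ k = U.hom ≫ a := H'.isPushout.inl_desc _ _ _
  have kb : b' ≫ k = V.hom ≫ b := H'.isPushout.inr_desc _ _ _
  obtain ⟨ha, hb⟩ := Groth.Agent.Pinch4.cube H H' hX hY ka kb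
  obtain ⟨hk1, hk2⟩ := Groth.Agent.Pinch4.cube_finite_etale H H' hX hY ka kb
  refine ⟨MorphismProperty.Over.mk ⊤ k ⟨hk1, hk2⟩, ⟨?_⟩, ⟨?_⟩⟩
  · exact (MorphismProperty.Over.isoMk ha.flip.isoPullback ha.flip.isoPullback_hom_snd).symm
  · exact (MorphismProperty.Over.isoMk hb.flip.isoPullback hb.flip.isoPullback_hom_snd).symm

end Groth.Agent.S1186
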