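import Groth.Statements.S6545
import Groth.Agent.Lib.JacPts22.TorsCount

set_option linter.style.haveILetI false
set_option backward.isDefEq.respectTransparency false
set_option backward.isDefEq.respectTransparency.types false
set_option maxHeartbeats 1000000
set_option autoImplicit false
universe u
open CategoryTheory CategoryTheory.Limits AlgebraicGeometry
open Curves

namespace Groth.Agent.S6545

open Groth.Agent Groth.Agent.JacPts22

/-- Let k be an algebraically closed field, X a smooth proper curve over k (proper, smooth, integral, of
dimension one) of genus g, and n a natural number invertible in k. Then exactly n^{2g} isomorphism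
classes of invertible O_X-modules M satisfy M^{⊗n} ≅ O_X. (The published statement takes X
projective and gives Pic(X)[n] ≅ (Z/nZ)^{2g}; this row takes X proper, the same for curves over a
field, and states the number of classes, which for all such n together is equivalent.) -/
theorem result (k : Type u) [Field k] (X : Scheme.{u}) [X.Over (Spec (CommRingCat.of k))] [IsAlgClosed k]
    [IsIntegral X] [IsProper (X ↘ (Spec (CommRingCat.of k)))] [Smooth (X ↘ (Spec (CommRingCat.of k)))] (hdim : topologicalKrullDim X = 1)
    (n : ℕ) (hn : IsUnit (n : k)) :
    Nat.card {c : PicF.Cl (X) | ∃ M : Scheme.Modules (X), PicF.cl M = c ∧ PicF.IsInvertible M ∧ Nonempty (CohB1.tensorPow M (n) ≅ Coh.structureModule (X))} = n ^ (2 * Curv2.genus k X) := by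
  obtain ⟨J, gJ, cJ, hp, hgi, hd, hc⟩ := exists_torsion_model (k := k) (C := X) hdim
  haveI := hp
  haveI := hgi
  have hn' : 0 < n := Nat.pos_of_ne_zero fun h => by
    subst h
    simp at hn
  haveI : IsIntegral J.left := GeometricallyIntegral.isIntegral_of_subsingleton J.hom
  rw [hc n hn']
  exact AVDegree22.card_torsPts J hd hn.ne_zero

end Groth.Agent.S6545
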