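import Groth.Statements.S0139
import Groth.Agent.Lib.Constr24.Compact

set_option autoImplicit false
universe u
open CategoryTheory CategoryTheory.Limits AlgebraicGeometry Opposite
open EtPBC

namespace Groth.Agent.S0139

/-- Abelian case: for X quasi-compact and quasi-separated and F a constructible abelian sheaf, Hom(F, -)
commutes with filtered colimits of abelian sheaves on X_et (F is a compact object); stated for
filtered index categories in the universe of X. -/
theorem result (X : Scheme.{u}) [CompactSpace X] [QuasiSeparatedSpace X]
    (F : EtCoh.Ab X) (hF : EtPBC.IsConstructible F) (J : Type u) [SmallCategory J] [IsFiltered J] :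
    PreservesColimitsOfShape J (coyoneda.obj (op F)) := by
  exact Groth.Agent.Constr24.preservesColimitsOfShape_coyoneda hF J

end Groth.Agent.S0139
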