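import Groth.Statements.S7382
import Groth.Agent.Lib.LimH13.FinitePairs
import Groth.Agent.S7383

set_option autoImplicit false
universe u
open CategoryTheory AlgebraicGeometry
open Lim

namespace Groth.Agent.S7382

set_option backward.isDefEq.respectTransparency false
set_option backward.isDefEq.respectTransparency.types false
set_option maxHeartbeats 600000


/-- Let `f : X → S` be integral with `S` quasi-compact and quasi-separated. Then, in the category of
schemes over `S`, `X` is the limit of a nonempty directed inverse system of schemes `X_i → S` that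
are finite and locally of finite presentation. -/
theorem result {X S : Scheme.{u}} (f : X ⟶ S) [IsIntegralHom f]
    [CompactSpace S] [QuasiSeparatedSpace S] :
    ∃ (I : Type u) (_ : Preorder I) (_ : IsDirected I (fun a b => a ≤ b)) (_ : Nonempty I)
      (D : Iᵒᵖ ⥤ Over S) (c : Limits.Cone D) (_ : Limits.IsLimit c),
      (∀ i, IsFinite (D.obj i).hom ∧ LocallyOfFinitePresentation (D.obj i).hom) ∧
      Nonempty (c.pt ≅ Over.mk f) := by

  classical
  haveI : CompactSpace X := QuasiCompact.compactSpace_of_compactSpace f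
  haveI : QuasiSeparatedSpace X := quasiSeparatedSpace_of_quasiSeparated f
  obtain ⟨I, _, _, _, D, c, hc, hfp, haff, ⟨e⟩⟩ := Groth.Agent.S7383.result f
  haveI : IsFiltered I := isFiltered_of_directed_le_nonempty I
  haveI : IsConnected Iᵒᵖ := IsCofiltered.isConnected _
  let E := D ⋙ Over.forget S
  have hcE : Limits.IsLimit ((Over.forget S).mapCone c) := Limits.isLimitOfPreserves (Over.forget S) hc
  haveI : ∀ {i j} (a : i ⟶ j), IsAffineHom (E.map a) := fun a => haff _ _ a
  haveI hcs : ∀ i, CompactSpace (E.obj i) := fun i => by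
    haveI := (hfp i).2.1
    exact QuasiCompact.compactSpace_of_compactSpace (D.obj i).hom
  haveI hqs : ∀ i, QuasiSeparatedSpace (E.obj i) := fun i => by
    haveI := (hfp i).2.2
    exact quasiSeparatedSpace_of_quasiSeparated (D.obj i).hom
  let t : E ⟶ (Functor.const Iᵒᵖ).obj S :=
    { app := fun i => (D.obj i).hom
      naturality := fun i j a => by simp [E] }
  let i₀ : Iᵒᵖ := Opposite.op (Classical.arbitrary I)
  haveI : IsIso e.hom.left := inferInstanceAs (IsIso ((Over.forget S).mapIso e).hom)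
  haveI : IsIso e.inv.left := inferInstanceAs (IsIso ((Over.forget S).mapIso e).inv)
  haveI : IsAffineHom (((Over.forget S).mapCone c).π.app i₀ ≫ t.app i₀) := by
    have h1 : ((Over.forget S).mapCone c).π.app i₀ ≫ t.app i₀ = e.hom.left ≫ f :=
      (Over.w (c.π.app i₀)).trans (Over.w e.hom).symm
    rw [h1]
    infer_instance
  obtain ⟨i₁, hi₁⟩ := LimH13.exists_isAffineHom_structureMap (t := t) hcE i₀
  let p₁ : I := i₁.unop
  let h : ∀ p : I, X ⟶ (D.obj (Opposite.op p)).left := fun p => e.inv.left ≫ (c.π.app (Opposite.op p)).left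
  have hf : ∀ p, h p ≫ (D.obj (Opposite.op p)).hom = f := fun p => by
    change (e.inv.left ≫ (c.π.app (Opposite.op p)).left) ≫ _ = f
    rw [Category.assoc, Over.w (c.π.app (Opposite.op p))]
    exact Over.w e.inv
  have hw : ∀ {p q : I} (hpq : p ≤ q), h q ≫ LimH13.FinPairs.tr D hpq = h p := fun {p q} hpq => by
    change (e.inv.left ≫ (c.π.app (Opposite.op q)).left) ≫ _ = e.inv.left ≫ _
    rw [Category.assoc, ← Over.comp_left, c.w]
  have hbase : ∀ q : I, p₁ ≤ q → ∃ J : (D.obj (Opposite.op q)).left.IdealSheafData,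
      LimH13.IFG J ∧ J ≤ (h q).ker ∧ IsFinite (J.subschemeι ≫ (D.obj (Opposite.op q)).hom) := by
    intro q hq
    haveI : IsAffineHom (D.obj (Opposite.op q)).hom := hi₁ (Opposite.op q) (homOfLE hq).op
    haveI := (hfp (Opposite.op q)).1
    haveI : IsIntegralHom (h q ≫ (D.obj (Opposite.op q)).hom) := by rw [hf]; infer_instance
    haveI : QuasiSeparatedSpace (D.obj (Opposite.op q)).left := hqs _
    haveI : CompactSpace (D.obj (Opposite.op q)).left := hcs _
    haveI : QuasiCompact (h q) := inferInstance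
    haveI := LimH13.isIntegralHom_image (h q) (D.obj (Opposite.op q)).hom
    obtain ⟨J, hJ, hle, hfin⟩ :=
      LimH13.exists_ifg_finite (D.obj (Opposite.op q)).hom (h q).ker.subschemeι
    rw [Scheme.IdealSheafData.ker_subschemeι] at hle
    exact ⟨J, hJ, hle, hfin⟩
  have hcomap : ∀ {p q : I} (hpq : p ≤ q) (J : (D.obj (Opposite.op p)).left.IdealSheafData),
      LimH13.IFG J → J ≤ (h p).ker →
      LimH13.IFG (J.comap (LimH13.FinPairs.tr D hpq)) ∧ J.comap (LimH13.FinPairs.tr D hpq) ≤ (h q).ker := by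
    intro p q hpq J hJ hle
    refine ⟨?_, ?_⟩
    · haveI := LimH13.locallyOfFinitePresentation_subschemeι hJ
      exact LimH13.ifg_ker (Limits.pullback.fst (LimH13.FinPairs.tr D hpq) J.subschemeι)
    · rw [← Scheme.IdealSheafData.le_map_iff_comap_le, Scheme.IdealSheafData.map_ker, hw]
      exact hle
  have hex : ∀ p : I, p₁ ≤ p → ∃ x : LimH13.FinPairs.Stage D h p₁, x.idx = p := fun p hp => by
    obtain ⟨J, hJ⟩ := hbase p hp
    exact ⟨⟨⟨p, J⟩, hp, hJ⟩, rfl⟩
  have hdir : IsDirected (LimH13.FinPairs.Stage D h p₁) (fun a b => a ≤ b) := by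
    refine ⟨fun x y => ?_⟩
    obtain ⟨q, hxq, hyq⟩ := exists_ge_ge x.idx y.idx
    obtain ⟨J, hJ, hle, hfin⟩ := hbase q (x.2.1.trans hxq)
    obtain ⟨hx1, hx2⟩ := hcomap hxq x.ideal x.2.2.1 x.2.2.2.1
    obtain ⟨hy1, hy2⟩ := hcomap hyq y.ideal y.2.2.1 y.2.2.2.1
    haveI := hfin
    exact ⟨⟨⟨q, x.ideal.comap (LimH13.FinPairs.tr D hxq) ⊔ y.ideal.comap (LimH13.FinPairs.tr D hyq) ⊔ J⟩,
      x.2.1.trans hxq, (hx1.sup hy1).sup hJ, sup_le (sup_le hx2 hy2) hle,
      LimH13.isFinite_of_le _ le_sup_right⟩, ⟨hxq, le_sup_of_le_left le_sup_left⟩,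
      ⟨hyq, le_sup_of_le_left le_sup_right⟩⟩
  refine ⟨LimH13.FinPairs.Stage D h p₁, inferInstance, hdir, ⟨(hex p₁ le_rfl).choose⟩,
    LimH13.FinPairs.diag D h p₁, LimH13.FinPairs.cone f hf hw,
    LimH13.FinPairs.isLimit f hf hw hex hdir hc e (fun p => rfl), fun x => ?_, ⟨Iso.refl _⟩⟩
  haveI := LimH13.locallyOfFinitePresentation_subschemeι x.unop.2.2.1
  haveI := (hfp (Opposite.op x.unop.idx)).1
  exact ⟨x.unop.2.2.2.2,
    inferInstanceAs (LocallyOfFinitePresentation (x.unop.ideal.subschemeι ≫ (D.obj (Opposite.op x.unop.idx)).hom))⟩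

end Groth.Agent.S7382
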