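import Groth.Statements.S1585
import Groth.Agent.Lib.NormFin18.Birational

set_option autoImplicit false
universe u
open CategoryTheory CategoryTheory.Limits AlgebraicGeometry
open Variety

namespace Groth.Agent.S1585

/-- Part (1): and (4), for an integral scheme locally of finite type over a field: the normalization
morphism ν (normalization of X in its function field) is finite, dominant and an isomorphism over a
nonempty open, and the normalization is an integral scheme all of whose local rings are integrally
closed domains. (The quasi-compactness/quasi-separatedness binders on Spec K(X) → X always hold;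
they are needed only to form Mathlib's relative normalization.) -/
theorem result (k : Type u) [Field k] (X : Scheme.{u}) [X.Over (Spec (CommRingCat.of k))] [IsIntegral X] [LocallyOfFiniteType (X ↘ (Spec (CommRingCat.of k)))]
    [QuasiCompact (X.fromSpecStalk (genericPoint X))] [QuasiSeparated (X.fromSpecStalk (genericPoint X))] :
    IsFinite (Curv2.normalizationι X) ∧ IsDominant (Curv2.normalizationι X) ∧
      (∃ V : X.Opens, (V : Set X).Nonempty ∧ IsIso (Curv2.normalizationι X ∣_ V)) ∧
      IsIntegral (Curv2.normalization X) ∧ Pi1.IsNormalScheme (Curv2.normalization X) := by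
  have hg : X.fromSpecStalk (genericPoint X) =
      Spec.map (CommRingCat.ofHom (RingHom.id X.functionField)) ≫ X.fromSpecStalk (genericPoint X) := by
    rw [CommRingCat.ofHom_id, Spec.map_id]; exact (Category.id_comp _).symm
  let g : Spec (CommRingCat.of X.functionField) ⟶ X := X.fromSpecStalk (genericPoint X)
  haveI : QuasiCompact g := ‹QuasiCompact (X.fromSpecStalk (genericPoint X))›
  haveI : QuasiSeparated g := ‹QuasiSeparated (X.fromSpecStalk (genericPoint X))›
  haveI hfin : IsFinite g.fromNormalization :=
    Groth.Agent.CurveNF.isFinite_fromNormalization (g := g) hg (X ↘ Spec (CommRingCat.of k)) (RingHom.Finite.id _)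
  obtain ⟨hI, hN⟩ := Groth.Agent.CurveNF.isIntegral_and_normal (g := g) hg
  haveI := Groth.Agent.CurveNF.surjective_fromNormalization (g := g) hg
  refine ⟨hfin, ?_, Groth.Agent.NormFin18.exists_isIso_restrict (g := g) hg, hI, hN⟩
  exact (inferInstance : IsDominant g.fromNormalization)

end Groth.Agent.S1585
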