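import Groth.Statements.S1586
import Groth.Agent.Lib.BcField18.Galois
import Groth.Agent.Lib.CplLevelH7.Equiv

set_option autoImplicit false
universe u
open CategoryTheory CategoryTheory.Limits AlgebraicGeometry
open Curves

namespace Groth.Agent.S1586

set_option linter.style.haveILetI false
set_option backward.isDefEq.respectTransparency.types false
section Aux
open IsLocalRing Groth.Agent

/-- Completions of isomorphic local rings. -/
theorem exists_cplEquiv_map {A B : Type u} [CommRing A] [IsLocalRing A] [CommRing B] [IsLocalRing B]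
    (e : A ≃+* B) :
    ∃ E : AdicCompletion (maximalIdeal A) A ≃+* AdicCompletion (maximalIdeal B) B,
      ∀ a, E (algebraMap A _ a) = algebraMap B _ (e a) := by
  letI : Algebra A B := e.toRingHom.toAlgebra
  let f : A →ₐ[A] B := Algebra.ofId A B
  have hB : (maximalIdeal A).map (algebraMap A B) = maximalIdeal B :=
    IsLocalRing.map_maximalIdeal_of_surjective e.toRingHom e.surjective
  have hA : (maximalIdeal A).map (algebraMap A A) = maximalIdeal A := Ideal.map_id _
  have hbij : ∀ n, Function.Bijective (CplLevelH7.lev (maximalIdeal A) f n) := fun n => by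
    refine ⟨(injective_iff_map_eq_zero _).2 fun x hx => ?_, fun y => ?_⟩
    · obtain ⟨a, rfl⟩ := Ideal.Quotient.mk_surjective x
      rw [CplLevelH7.lev_mk, Ideal.Quotient.eq_zero_iff_mem, ← Ideal.map_pow] at hx
      rw [Ideal.Quotient.eq_zero_iff_mem, hA]
      exact (Ideal.apply_mem_of_equiv_iff (f := e)).1 hx
    · obtain ⟨b, rfl⟩ := Ideal.Quotient.mk_surjective y
      exact ⟨Ideal.Quotient.mk _ (e.symm b), congrArg (Ideal.Quotient.mk _) (e.apply_symm_apply b)⟩
  have he := CplLevelH7.exists_cplEquiv (B := A) (T := B) (maximalIdeal A) f hbij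
  rw [hA, hB] at he
  obtain ⟨E⟩ := he
  refine ⟨E.toRingEquiv, fun a => (E.commutes a).trans ?_⟩
  rfl

open MvPowerSeries in
/-- Coefficientwise twist of the formal double point. -/
theorem exists_twist {K : Type u} [Field K] (σ : K ≃+* K) :
    ∃ M : (MvPowerSeries (Fin 2) K ⧸ Ideal.span {(X 0 * X 1 : MvPowerSeries (Fin 2) K)}) ≃+*
        (MvPowerSeries (Fin 2) K ⧸ Ideal.span {(X 0 * X 1 : MvPowerSeries (Fin 2) K)}),
      ∀ c : K, M (Ideal.Quotient.mk _ (C c)) = Ideal.Quotient.mk _ (C (σ c)) := by
  let m : MvPowerSeries (Fin 2) K ≃+* MvPowerSeries (Fin 2) K :=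
    RingEquiv.ofRingHom (MvPowerSeries.map (σ : K →+* K)) (MvPowerSeries.map (σ.symm : K →+* K))
      (by ext f n; simp) (by ext f n; simp)
  refine ⟨Ideal.quotientEquiv _ _ m ?_, fun c => ?_⟩
  · rw [Ideal.map_span, Set.image_singleton]
    simp [m]
  · rw [Ideal.quotientEquiv_mk]
    simp [m]

end Aux


/-- Let X be of finite type over k of dimension one and x a node of X. Then every point of the base
change of X to an algebraic closure of k lying over x is an ordinary double point (its complete
local ring is the quotient of the power series ring in two variables by their product). -/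
theorem result (k : Type u) [Field k] (X : Scheme.{u}) [X.Over (Spec (CommRingCat.of k))]
    [LocallyOfFiniteType (X ↘ (Spec (CommRingCat.of k)))] [QuasiCompact (X ↘ (Spec (CommRingCat.of k)))] (hdim : topologicalKrullDim X = 1)
    (x : X) (hx : Curv2.IsNode k X x) (xb : Curv2.bc k X (AlgebraicClosure k)) (hxb : Curv2.bcFst k X (AlgebraicClosure k) xb = x) :
    @Curv2.IsOrdDoublePt (AlgebraicClosure k) _ ((Curv2.bc k X (AlgebraicClosure k)).presheaf.stalk xb) _
      (@Curv2.stalkAlgebra (AlgebraicClosure k) _ (Curv2.bc k X (AlgebraicClosure k)) ⟨Curv2.bcSnd k X (AlgebraicClosure k)⟩ xb) _ := by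
  obtain ⟨-, x0, hx0, hodp⟩ := hx
  obtain ⟨σ, hσ⟩ := BcField.exists_galAct k X (AlgebraicClosure k) (hxb.trans hx0.symm)
  subst hσ
  let φ := Curv2.galAct k X (AlgebraicClosure k) σ
  haveI : IsIso φ := BcField.isIso_galAct k X (AlgebraicClosure k) σ
  let st : (Curv2.bc k X (AlgebraicClosure k)).presheaf.stalk (φ xb) ≃+*
      (Curv2.bc k X (AlgebraicClosure k)).presheaf.stalk xb :=
    (asIso (φ.stalkMap xb)).commRingCatIsoToRingEquiv
  letI : (Curv2.bc k X (AlgebraicClosure k)).Over (Spec (CommRingCat.of (AlgebraicClosure k))) :=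
    ⟨Curv2.bcSnd k X (AlgebraicClosure k)⟩
  letI := Curv2.stalkAlgebra (AlgebraicClosure k) (Curv2.bc k X (AlgebraicClosure k))
  have hconst : ∀ c : AlgebraicClosure k,
      st (Curv2.stalkMap (AlgebraicClosure k) (Curv2.bc k X (AlgebraicClosure k)) (φ xb) c) =
        Curv2.stalkMap (AlgebraicClosure k) (Curv2.bc k X (AlgebraicClosure k)) xb (σ c) := fun c => by
    show φ.stalkMap xb ((Curv2.bc k X (AlgebraicClosure k)).presheaf.germ ⊤ (φ xb) trivial _) = _
    rw [Scheme.Hom.germ_stalkMap_apply]
    refine congrArg ((Curv2.bc k X (AlgebraicClosure k)).presheaf.germ ⊤ xb trivial) ?_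
    show (φ.appTop).hom ((Curv2.bcSnd k X (AlgebraicClosure k)).appTop
        ((Scheme.ΓSpecIso (CommRingCat.of (AlgebraicClosure k))).inv c)) =
      (Curv2.bcSnd k X (AlgebraicClosure k)).appTop
        ((Scheme.ΓSpecIso (CommRingCat.of (AlgebraicClosure k))).inv (σ c))
    rw [← CommRingCat.comp_apply, ← Scheme.Hom.comp_appTop, BcField.galAct_snd, Scheme.Hom.comp_appTop,
      CommRingCat.comp_apply]
    refine congrArg (Curv2.bcSnd k X (AlgebraicClosure k)).appTop ?_
    exact (congrArg (fun a => a.hom c)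
      (Scheme.ΓSpecIso_inv_naturality (CommRingCat.ofHom (σ : AlgebraicClosure k →ₐ[k] AlgebraicClosure k).toRingHom))).symm
  obtain ⟨e, he⟩ := hodp
  obtain ⟨E, hE⟩ := exists_cplEquiv_map st
  obtain ⟨M, hM⟩ := exists_twist σ.toRingEquiv
  refine ⟨E.symm.trans (e.trans M), fun c => ?_⟩
  obtain ⟨d, rfl⟩ := σ.surjective c
  have h1 : E.symm (algebraMap ((Curv2.bc k X (AlgebraicClosure k)).presheaf.stalk xb) _
      (Curv2.stalkMap (AlgebraicClosure k) (Curv2.bc k X (AlgebraicClosure k)) xb (σ d))) =
      algebraMap ((Curv2.bc k X (AlgebraicClosure k)).presheaf.stalk (φ xb)) _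
        (Curv2.stalkMap (AlgebraicClosure k) (Curv2.bc k X (AlgebraicClosure k)) (φ xb) d) := by
    rw [RingEquiv.symm_apply_eq, hE, hconst]
  exact (congrArg (fun a => M (e a)) h1).trans ((congrArg M (he d)).trans (hM d))

end Groth.Agent.S1586
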