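import Groth.Statements.S1589
import Groth.Agent.Lib.Nodal27.Scheme
import Groth.Agent.Lib.Nodal27.Goren
-- import your own Groth.Agent.* helpers here

set_option autoImplicit false
universe u
open CategoryTheory CategoryTheory.Limits AlgebraicGeometry
open Curves

namespace Groth.Agent.S1589

/-- Let X be locally of finite type over k with all irreducible components of dimension one and
at-worst-nodal singularities. Then every local ring of X is Gorenstein and X is geometrically
reduced over k. -/
theorem result (k : Type u) [Field k] (X : Scheme.{u}) [X.Over (Spec (CommRingCat.of k))] [LocallyOfFiniteType (X ↘ (Spec (CommRingCat.of k)))]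
    (hequi : ∀ Z ∈ irreducibleComponents (X : Type u), topologicalKrullDim Z = 1) (hX : Curv2.AtWorstNodal k X) :
    (∀ x : X, LocCoh.IsGorensteinLocalRing (X.presheaf.stalk x)) ∧ GeometricallyReduced (X ↘ (Spec (CommRingCat.of k))) := by
  refine ⟨fun x => ?_, NodalRed10.geometricallyReduced_of_atWorstNodal X hX⟩
  haveI : Surjective (Spec.map (CommRingCat.ofHom (algebraMap k (AlgebraicClosure k)))) :=
    ⟨Function.surjective_to_subsingleton (α := Spec (CommRingCat.of (AlgebraicClosure k))) (β := Spec (CommRingCat.of k)) _⟩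
  haveI : Surjective (Curv2.bcFst k X (AlgebraicClosure k)) := MorphismProperty.pullback_fst _ _ inferInstance
  haveI : Flat (Curv2.bcFst k X (AlgebraicClosure k)) := MorphismProperty.pullback_fst _ _ inferInstance
  obtain ⟨y, rfl⟩ := (Curv2.bcFst k X (AlgebraicClosure k)).surjective x
  letI : (Curv2.bc k X (AlgebraicClosure k)).Over (Spec (CommRingCat.of (AlgebraicClosure k))) := ⟨Curv2.bcSnd k X (AlgebraicClosure k)⟩
  haveI : LocallyOfFiniteType ((Curv2.bc k X (AlgebraicClosure k)) ↘ Spec (CommRingCat.of (AlgebraicClosure k))) :=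
    inferInstanceAs (LocallyOfFiniteType (pullback.snd _ _))
  haveI : IsLocallyNoetherian X := LocallyOfFiniteType.isLocallyNoetherian (X ↘ Spec (CommRingCat.of k))
  haveI : IsLocallyNoetherian (Curv2.bc k X (AlgebraicClosure k)) :=
    LocallyOfFiniteType.isLocallyNoetherian (Curv2.bcSnd k X (AlgebraicClosure k))
  have hgood : Nodal27.Good (Curv2.bcSnd k X (AlgebraicClosure k)) := (Nodal27.good_bar_iff X k).2 ⟨hequi, hX⟩
  have hy : LocCoh.IsGorensteinLocalRing ((Curv2.bc k X (AlgebraicClosure k)).presheaf.stalk y) := by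
    have key : y ∈ (Curv2.bcSnd k X (AlgebraicClosure k)).smoothLocus ∨ Nodal27.ODPAt (Curv2.bcSnd k X (AlgebraicClosure k)) y := by
      by_cases hc : IsClosed ({y} : Set (Curv2.bc k X (AlgebraicClosure k)))
      · exact hgood.2 y hc
      · exact Or.inl (Nodal27.mem_smoothLocus_of_good _ hgood hc)
    rcases key with hs | ho
    · exact @S0342.result _ _ (GeomRed.isRegularLocalRing_of_mem_smoothLocus (k := AlgebraicClosure k) hs)
    · letI := Curv2.stalkAlgebra (AlgebraicClosure k) (Curv2.bc k X (AlgebraicClosure k)) y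
      exact Nodal27.gorenstein_of_isOrdDoublePt
        ((Nodal27.odpAt_iff_isOrdDoublePt (Curv2.bc k X (AlgebraicClosure k)) (AlgebraicClosure k) y).2 ho)
  letI := ((Curv2.bcFst k X (AlgebraicClosure k)).stalkMap y).hom.toAlgebra
  haveI : Module.Flat (X.presheaf.stalk (Curv2.bcFst k X (AlgebraicClosure k) y))
      ((Curv2.bc k X (AlgebraicClosure k)).presheaf.stalk y) := Flat.stalkMap _ _
  haveI : IsLocalHom (algebraMap (X.presheaf.stalk (Curv2.bcFst k X (AlgebraicClosure k) y))
      ((Curv2.bc k X (AlgebraicClosure k)).presheaf.stalk y)) :=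
    inferInstanceAs (IsLocalHom ((Curv2.bcFst k X (AlgebraicClosure k)).stalkMap y).hom)
  exact ((Goren15.gorenstein_flat_local_iff _ _).1 hy).1

end Groth.Agent.S1589
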