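import Groth.Statements.S2331
import Groth.Agent.Lib.RelAmple18.Twist

set_option autoImplicit false
universe u
open CategoryTheory CategoryTheory.Limits AlgebraicGeometry
open EGA2

namespace Groth.Agent.S2331

/-- Let Z be quasi-compact, f : X → Y and g : Y → Z quasi-compact morphisms, L an O_X-module ample
relative to f and K an O_Y-module ample relative to g. Then there is n₀ > 0 such that L ⊗
f^*(K^{⊗n}) is ample relative to g ∘ f for every n ≥ n₀. -/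
theorem result {X Y Z : Scheme.{u}} [CompactSpace Z] (f : X ⟶ Y) (g : Y ⟶ Z)
    [QuasiCompact f] [QuasiCompact g] (L : X.Modules) (K : Y.Modules)
    (hL : RelAmple.IsRelAmple f L) (hK : RelAmple.IsRelAmple g K) :
    ∃ n₀ : ℕ, 0 < n₀ ∧ ∀ n, n₀ ≤ n →
      RelAmple.IsRelAmple (f ≫ g) (CohB1.tensorMod L ((Scheme.Modules.pullback f).obj (CohB1.tensorPow K n))) := by
  have hc : ∀ z : Z, ∃ (W : Z.Opens) (n₀ : ℕ), IsAffineOpen W ∧ z ∈ W ∧ ∀ n, n₀ ≤ n →
      Groth.Agent.RA.AmpleOn (CohB1.tensorMod L ((Scheme.Modules.pullback f).obj (CohB1.tensorPow K n)))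
        ((f ≫ g) ⁻¹ᵁ W) := fun z => by
    obtain ⟨W, hW, hzW, -⟩ := exists_isAffineOpen_mem_and_subset (U := (⊤ : Z.Opens)) (x := z) trivial
    let Q := g ⁻¹ᵁ W
    haveI : QuasiCompact (f ∣_ Q) := inferInstance
    haveI : CompactSpace (f ⁻¹ᵁ Q : Scheme.{u}) :=
      Groth.Agent.RA.compactSpace_of_isCompact (Groth.Agent.RA.isCompact_preimage (f ≫ g) hW)
    have hLQ : RelAmple.IsRelAmple (f ∣_ Q) (L.restrict (f ⁻¹ᵁ Q).ι) := by
      refine (Groth.Agent.RA.isRelAmple_def _).mpr fun V hV => ?_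
      rw [Groth.Agent.RA.ampleOn_restrict_iff, image_morphismRestrict_preimage]
      exact hL.2 ⟨_, hV.image_of_isOpenImmersion Q.ι⟩
    obtain ⟨n₀, hn₀⟩ := Groth.Agent.RA.exists_isAmple_twist (f ∣_ Q) hLQ (hK.2 ⟨W, hW⟩)
    refine ⟨W, n₀, hW, hzW, fun n hn => Groth.Agent.Amp.isAmple_of_iso ?_ (hn₀ n hn)⟩
    exact (Groth.Agent.M2.restrictTensorIso (f ⁻¹ᵁ Q).ι L _ ≪≫ Groth.Agent.M2.tensorIso (Iso.refl _)
      (Groth.Agent.M2.pullbackRestrictIso f (CohB1.tensorPow K n) Q ≪≫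
        (Scheme.Modules.pullback (f ∣_ Q)).mapIso (Groth.Agent.M2.restrictTensorPowIso Q.ι K n))).symm
  choose W n₀ hW hzW hn₀ using hc
  obtain ⟨T, hT⟩ := isCompact_univ.elim_finite_subcover (fun z => (W z : Set Z)) (fun z => (W z).isOpen)
    (fun z _ => Set.mem_iUnion.mpr ⟨z, hzW z⟩)
  refine ⟨T.sup n₀ + 1, by omega, fun n hn => Groth.Agent.RA.isRelAmple_of_local _ fun z => ?_⟩
  obtain ⟨a, ha, hza⟩ := Set.mem_iUnion₂.mp (hT (Set.mem_univ z))
  exact ⟨W a, hW a, hza, hn₀ a n (by have := Finset.le_sup (f := n₀) ha; omega)⟩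

end Groth.Agent.S2331
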