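import Groth.Statements.S1539
import Groth.Agent.Lib.GeomIrr18.FinCrit

set_option autoImplicit false
universe u
open CategoryTheory CategoryTheory.Limits AlgebraicGeometry
open Variety

namespace Groth.Agent.S1539

/-- If X_{k'} is irreducible for every finite separable field extension k' of k, then X is geometrically
irreducible over k. -/
theorem result (k : Type u) [Field k] (X : Scheme.{u}) [X.Over (Spec (CommRingCat.of k))]
    (h : ∀ (k' : Type u) [Field k'] [Algebra k k'] [FiniteDimensional k k'] [Algebra.IsSeparable k k'],
      IrreducibleSpace (Curv2.bc k X k')) :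
    GeometricallyIrreducible (X ↘ (Spec (CommRingCat.of k))) := by
  haveI : IrreducibleSpace ↥(pullback (X ↘ (Spec (CommRingCat.of k))) (Spec.map (CommRingCat.ofHom (algebraMap k (SeparableClosure k))))) :=
    Groth.Agent.GeomIrr.irreducibleSpace_bc_separableClosure k X h
  exact Groth.Agent.GeomIrr.geometricallyIrreducible_of_bc _ (SeparableClosure k)

end Groth.Agent.S1539
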