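import Groth.Statements.S18366
import Groth.Agent.Lib.GeomRed18.Smooth
import Groth.Agent.S1549

set_option autoImplicit false
universe u
open CategoryTheory CategoryTheory.Limits AlgebraicGeometry
open Variety
attribute [local instance] Curv2.stalkAlgebra Curv2.resAlgebra

namespace Groth.Agent.S18366

/-- Let k be a separably closed field and X a non-empty k-scheme of finite type which is geometrically
reduced. Then X has a k-rational point, i.e. the structure morphism admits a section. (Non-emptiness
is part of the hypotheses: the empty scheme is geometrically reduced of finite type and has no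
point. The published statement does not assume X non-empty; this row does, since the empty scheme
has no rational point.) -/
theorem result (k : Type u) [Field k] [IsSepClosed k]
    {X : Scheme.{u}} (f : X ⟶ Spec (CommRingCat.of k)) [LocallyOfFiniteType f] [QuasiCompact f] [GeometricallyReduced f]
    [Nonempty X] :
    ∃ s : Spec (CommRingCat.of k) ⟶ X, s ≫ f = 𝟙 (Spec (CommRingCat.of k)) := by
  letI : X.Over (Spec (CommRingCat.of k)) := ⟨f⟩
  haveI : LocallyOfFiniteType (X ↘ Spec (CommRingCat.of k)) := ‹LocallyOfFiniteType f›
  haveI : IsReduced X := by
    haveI : IsReduced (Limits.pullback f (Spec.map (CommRingCat.ofHom (algebraMap k k)))) :=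
      GeometricallyReduced.geometrically_isReduced (f := f) _ _ _ (IsPullback.of_hasPullback _ _)
    haveI : IsIso (Spec.map (CommRingCat.ofHom (algebraMap k k))) := by
      rw [show CommRingCat.ofHom (algebraMap k k) = 𝟙 (CommRingCat.of k) from rfl]; infer_instance
    exact isReduced_of_isOpenImmersion (asIso (Limits.pullback.fst f (Spec.map (CommRingCat.ofHom (algebraMap k k))))).inv
  obtain ⟨U, hU, hsm⟩ := (S1549.result k X).mp ‹_›
  haveI := hsm
  obtain ⟨x, hx⟩ := hU.nonempty
  obtain ⟨y, -, -, hfin, hsep⟩ := GeomRed.exists_separable_point (k := k) U hx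
  haveI := hfin; haveI := hsep
  let e := RingEquiv.ofBijective (algebraMap k (X.residueField y)) (IsSepClosed.algebraMap_bijective k _)
  refine ⟨Spec.map (CommRingCat.ofHom e.symm.toRingHom) ≫ X.fromSpecResidueField y, ?_⟩
  rw [Category.assoc, show X.fromSpecResidueField y ≫ f = Spec.map (CommRingCat.ofHom (Curv2.resMap k X y)) from
    (GeomIrr.spec_resMap k X y).symm, ← Spec.map_comp, ← Spec.map_id]
  congr 1
  ext a
  exact e.symm_apply_apply a

end Groth.Agent.S18366
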