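import Groth.Statements.S7613
import Groth.Agent.Lib.GeomRed18.Smooth
import Groth.Agent.Lib.GeomIrr18.Res
import Mathlib.AlgebraicGeometry.FunctionField
import Mathlib.AlgebraicGeometry.Geometrically.Integral

set_option autoImplicit false
universe u
open CategoryTheory CategoryTheory.Limits AlgebraicGeometry
open Variety
attribute [local instance] Curv2.stalkAlgebra Curv2.resAlgebra

namespace Groth.Agent.S7613

/-- Let X be a variety over a field k (integral, separated and of finite type over k) with a k-rational
point x (k → κ(x) onto) such that X → Spec k is smooth at x. Then every base change of X to an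
extension field of k is an integral scheme (X is geometrically integral over k). -/
theorem result (k : Type u) [Field k] (X : Scheme.{u}) [X.Over (Spec (CommRingCat.of k))] [IsIntegral X] [IsSeparated (X ↘ (Spec (CommRingCat.of k)))]
    [LocallyOfFiniteType (X ↘ (Spec (CommRingCat.of k)))] [QuasiCompact (X ↘ (Spec (CommRingCat.of k)))]
    (x : ↥X) (hx : Function.Surjective (Curv2.resMap k X x)) (hsm : x ∈ (X ↘ (Spec (CommRingCat.of k))).smoothLocus) :
    GeometricallyIntegral (X ↘ (Spec (CommRingCat.of k))) := by
  let f := X ↘ Spec (CommRingCat.of k)
  haveI : IsLocallyNoetherian X := LocallyOfFiniteType.isLocallyNoetherian f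
  haveI : LocallyOfFinitePresentation f := inferInstance
  let O := X.presheaf.stalk x
  let η := genericPoint X
  haveI : IsRegularLocalRing O := GeomRed.isRegularLocalRing_of_mem_smoothLocus (k := k) hsm
  haveI := RegLoc.isDomain O
  haveI := RegLoc.ufd_of_isRegularLocalRing O
  haveI : IsIntegrallyClosed O := inferInstance
  haveI : GeometricallyReduced f := GeomRed.geometricallyReduced_of_maximal fun ζ hζ => by
    refine GeomRed.isGeomReducedAt_of_mem_smoothLocus ?_
    rw [← hζ η ((genericPoint_spec X).specializes trivial)]
    exact ((genericPoint_spec X).specializes trivial).mem_open (f.smoothLocus.2) hsm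
  haveI : GeometricallyIrreducible f := by
    rw [GeomIrr.geometricallyIrreducible_iff_generic f (GeomIrr.spec_resMap k X η)]
    intro a ha
    obtain ⟨a', rfl⟩ := X.residue_surjective η a
    haveI : IsScalarTower k O X.functionField := IsScalarTower.of_algebraMap_eq fun c => by
      change Curv2.stalkMap k X η c = _
      exact (congrArg (fun φ => φ.hom (Coh.toGlobal f c))
        (X.presheaf.germ_stalkSpecializes (U := ⊤) (hy := trivial) ((genericPoint_spec X).specializes (Set.mem_univ x)))).symm
    let r : X.functionField →ₐ[k] X.residueField η := { (X.residue η).hom with commutes' := fun _ => rfl }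
    have hr : Function.Injective r := RingHom.injective r.toRingHom
    let g := minpoly k (r a')
    have hga : g.aeval a' = 0 := hr (by rw [map_zero, ← Polynomial.aeval_algHom_apply]; exact minpoly.aeval k _)
    have hgm : g.Monic := minpoly.monic ha.isIntegral
    obtain ⟨b, hb⟩ := IsIntegrallyClosed.isIntegral_iff.mp
      (IsIntegral.tower_top (R := k) (A := O) ⟨g, hgm, hga⟩ : IsIntegral O a')
    obtain ⟨c, hc⟩ := hx (X.residue x b)
    let rx : O →ₐ[k] X.residueField x := { (X.residue x).hom with commutes' := fun _ => rfl }
    have hgc : g.aeval c = 0 := by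
      have hgb : g.aeval b = 0 := IsFractionRing.injective O X.functionField (by
        rw [map_zero, ← Polynomial.aeval_algebraMap_apply, hb, hga])
      refine (Curv2.resMap k X x).injective ?_
      have h1 := Polynomial.aeval_algHom_apply (Algebra.ofId k (X.residueField x)) c g
      rw [map_zero]
      change (Algebra.ofId k (X.residueField x)) (g.aeval c) = 0
      rw [← h1, show (Algebra.ofId k (X.residueField x)) c = rx b from hc, Polynomial.aeval_algHom_apply, hgb, map_zero]
    have hg : g = Polynomial.X - Polynomial.C c :=
      (Polynomial.eq_of_monic_of_associated (Polynomial.monic_X_sub_C c) hgm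
        ((Polynomial.irreducible_X_sub_C c).associated_of_dvd (minpoly.irreducible ha.isIntegral) (Polynomial.dvd_iff_isRoot.mpr (by simpa [Polynomial.coe_aeval_eq_eval] using hgc)))).symm
    refine ⟨c, ?_⟩
    have h2 : g.aeval (r a') = 0 := minpoly.aeval k _
    rw [hg, map_sub, Polynomial.aeval_X, Polynomial.aeval_C, sub_eq_zero] at h2
    exact h2.symm
  exact GeometricallyIntegral.of_geometricallyReduced_of_geometricallyIrreducible f

end Groth.Agent.S7613
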