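import Groth.Statements.S4420
import Groth.Agent.Lib.AmpleImm18.General
import Groth.Agent.Lib.VeryAmple11.ProjCrit
import Groth.Agent.S2331
import Groth.Agent.Lib.QuotProj11.Poly

set_option autoImplicit false
universe u
open CategoryTheory CategoryTheory.Limits AlgebraicGeometry
open EGA2

namespace Groth.Agent.S4420

/-- Let Y be a quasi-compact separated scheme possessing an ample invertible O_Y-module and f : X → Y a
morphism. Then f is projective if and only if there are r ≥ 0 and a closed immersion of X into
projective r-space over Y compatible with the projections (f is H-projective). -/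
theorem result {X Y : Scheme.{u}} [CompactSpace Y] [Y.IsSeparated]
    (hY : ∃ M : Y.Modules, CohB1.IsAmple M) (f : X ⟶ Y) :
    RelProj.IsProjective f ↔ RelProj.IsHProjective f := by
  open Groth.Agent in
  refine ⟨fun h => ?_, QuotProj11.isProjective_of_isHProjective⟩
  haveI := QuotProj11.isProper_of_isProjective h
  obtain ⟨L, hL, hva⟩ := VA11.isRelVeryAmple_of_isProjective h
  have hrel := VA11.isRelAmple_of_isRelVeryAmple (f := f) hva
  obtain ⟨M, hM⟩ := hY
  let t := specULiftZIsTerminal.from Y
  haveI : QuasiCompact t := (quasiCompact_iff_compactSpace t).2 inferInstance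
  obtain ⟨n₀, -, hn⟩ := Groth.Agent.S2331.result f t L M hrel ((RA.isRelAmple_iff_isAmple t).2 hM)
  haveI : QuasiCompact (f ≫ t) := inferInstance
  have hamp := (RA.isRelAmple_iff_isAmple (f ≫ t)).1 (hn n₀ le_rfl)
  obtain ⟨m₀, hm⟩ := AmpleImm18.exists_immersion_over f hamp (PicLoc.isInvertible_structureModule X)
  obtain ⟨n, i, hi, hif, -⟩ := hm m₀ le_rfl
  haveI := hi
  haveI : IsProper (i ≫ CohB1.ProjSpaceOver.toBase n Y) := hif ▸ ‹IsProper f›
  haveI : IsSeparated (CohB1.ProjSpaceOver.toBase n Y) := (QuotProj11.isProper_of_isHProjective ⟨n, 𝟙 _, inferInstance, Category.id_comp _⟩).toIsSeparated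
  haveI : IsProper i := IsProper.of_comp i (CohB1.ProjSpaceOver.toBase n Y)
  exact ⟨n, i, IsClosedImmersion.of_isPreimmersion i i.isClosedMap.isClosed_range, hif⟩

end Groth.Agent.S4420
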