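import Groth.Statements.S1859
import Mathlib.AlgebraicGeometry.AlgebraicCycle.Basic
import Mathlib.LinearAlgebra.Dimension.Free
-- import your own Groth.Agent.* helpers here

set_option autoImplicit false
universe u
open CategoryTheory AlgebraicGeometry
open Cyc

namespace Groth.Agent.S1859

/-- For proper morphisms f : X → Y and g : Y → Z and a k-cycle α on X, g_*(f_*α) = (g ∘ f)_*α. Here a
pair (X, δ) with Cyc.IsSetup plays the role of a scheme locally of finite type over a fixed base
with a dimension function (X locally Noetherian with universally catenary local rings, δ a dimension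
function), and Cyc.DeltaCompat records that the dimension function upstairs is the induced one. -/
theorem result (X Y Z : Scheme.{u}) (δX : X → ℤ) (δY : Y → ℤ) (δZ : Z → ℤ) (hX : Cyc.IsSetup X δX) (hY : Cyc.IsSetup Y δY) (hZ : Cyc.IsSetup Z δZ) (f : X ⟶ Y) (g : Y ⟶ Z) [IsProper f] [IsProper g] (hf : Cyc.DeltaCompat f δX δY) (hg : Cyc.DeltaCompat g δY δZ) (k : ℤ) (α : AlgebraicCycle X ℤ) (hα : α ∈ Cyc.Zk X δX k) : AlgebraicCycle.map g δY δZ (AlgebraicCycle.map f δX δY α) = AlgebraicCycle.map (f ≫ g) δX δZ α := by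
  classical
  have hdeg : ∀ x : X, (f ≫ g).residueDegree x = g.residueDegree (f x) * f.residueDegree x := fun x => by
    letI := (f.residueFieldMap x).hom.toAlgebra
    letI := (g.residueFieldMap (f x)).hom.toAlgebra
    letI : Algebra (Z.residueField (g (f x))) (X.residueField x) :=
      ((g.residueFieldMap (f x) ≫ f.residueFieldMap x).hom).toAlgebra
    haveI : IsScalarTower (Z.residueField (g (f x))) (Y.residueField (f x)) (X.residueField x) :=
      IsScalarTower.of_algebraMap_eq fun _ => rfl
    have h := Module.finrank_mul_finrank (Z.residueField (g (f x))) (Y.residueField (f x)) (X.residueField x)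
    refine Eq.trans ?_ h.symm
    show @Module.finrank _ (X.residueField x) _ _
      ((f ≫ g).residueFieldMap x).hom.toAlgebra.toModule = _
    rw [Scheme.residueFieldMap_comp]
    rfl
  have hw : ∀ x : X, AlgebraicCycle.mapCoeff (f ≫ g) δX δZ x =
      AlgebraicCycle.mapCoeff g δY δZ (f x) * AlgebraicCycle.mapCoeff f δX δY x := fun x => by
    obtain ⟨n, -, hn⟩ := hf x
    obtain ⟨m, -, hm⟩ := hg (f x)
    simp only [AlgebraicCycle.mapCoeff]
    by_cases h1 : δX x = δY (f x)
    · by_cases h2 : δY (f x) = δZ (g (f x))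
      · rw [if_pos (show δX x = δZ ((f ≫ g).base x) from h1.trans h2), if_pos h2, if_pos h1, hdeg]
      · rw [if_neg (show ¬ δX x = δZ ((f ≫ g).base x) from fun h => h2 (h1.symm.trans h)), if_neg h2, zero_mul]
    · rw [if_neg h1, mul_zero, if_neg]
      show ¬ δX x = δZ (g (f x))
      omega
  ext z
  obtain ⟨W, hW⟩ := (PrespectralSpace.isTopologicalBasis (X := Z)).exists_subset_of_mem_open
    (by simp : z ∈ ⊤) (by simp)
  have hfin := α.locallyFiniteSupport.finite_inter_support_of_isCompact ((f ≫ g).isSpectralMap.2 hW.1.1 hW.1.2)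
  set s := hfin.toFinset
  have hs : ∀ x : X, x ∈ s ↔ g (f x) ∈ W ∧ α x ≠ 0 := fun x => by
    simp [s, Set.Finite.mem_toFinset]
  have hL : AlgebraicCycle.map (f ≫ g) δX δZ α z =
      ∑ x ∈ s, if g (f x) = z then α x * (AlgebraicCycle.mapCoeff (f ≫ g) δX δZ x : ℤ) else 0 := by
    rw [AlgebraicCycle.map, Function.locallyFinsupp.map_apply, finsum_mem_def]
    refine (finsum_eq_sum_of_support_subset _ ?_).trans (Finset.sum_congr rfl fun x _ => ?_)
    · intro x hx
      rw [Function.mem_support, ne_eq, Set.indicator_apply_eq_zero, not_forall] at hx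
      obtain ⟨h1, h2⟩ := hx
      rw [Finset.mem_coe, hs]
      exact ⟨(show g (f x) = z from h1).symm ▸ hW.2.1, left_ne_zero_of_mul h2⟩
    · rw [Set.indicator_apply]; rfl
  have hin : ∀ y : Y, g y = z → AlgebraicCycle.map f δX δY α y =
      ∑ x ∈ s, if f x = y then α x * (AlgebraicCycle.mapCoeff f δX δY x : ℤ) else 0 := fun y hy => by
    rw [AlgebraicCycle.map, Function.locallyFinsupp.map_apply, finsum_mem_def]
    refine (finsum_eq_sum_of_support_subset _ ?_).trans (Finset.sum_congr rfl fun x _ => ?_)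
    · intro x hx
      rw [Function.mem_support, ne_eq, Set.indicator_apply_eq_zero, not_forall] at hx
      obtain ⟨h1, h2⟩ := hx
      rw [Finset.mem_coe, hs, show f x = y from h1, hy]
      exact ⟨hW.2.1, left_ne_zero_of_mul h2⟩
    · rw [Set.indicator_apply]; rfl
  rw [hL, AlgebraicCycle.map, Function.locallyFinsupp.map_apply]
  set T := (s.filter fun x => g (f x) = z).image fun x => f x
  rw [finsum_mem_eq_sum_of_inter_support_eq _ (t := T) ?_]
  · rw [← Finset.sum_filter,
      ← Finset.sum_fiberwise_of_maps_to (t := T) (g := fun x => f x) fun x hx => Finset.mem_image_of_mem _ hx]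
    refine Finset.sum_congr rfl fun y hy => ?_
    obtain ⟨x₀, hx₀, rfl⟩ := Finset.mem_image.1 hy
    have hz := (Finset.mem_filter.1 hx₀).2
    rw [hin _ hz, ← Finset.sum_filter, Finset.sum_mul, Finset.filter_filter]
    refine Finset.sum_congr (Finset.filter_congr fun x _ => ⟨fun e => ⟨by rw [e, hz], e⟩, And.right⟩) fun x hx => ?_
    rw [hw, (Finset.mem_filter.1 hx).2.2, Nat.cast_mul]
    ring
  · ext y
    simp only [Set.mem_inter_iff, Function.mem_support, Set.mem_preimage, Set.mem_singleton_iff, Finset.mem_coe]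
    refine ⟨fun ⟨hy, h0⟩ => ⟨?_, h0⟩, fun ⟨hy, h0⟩ => ⟨?_, h0⟩⟩
    · have h1 := left_ne_zero_of_mul h0
      rw [hin y hy] at h1
      obtain ⟨x, hx, hx0⟩ := Finset.exists_ne_zero_of_sum_ne_zero h1
      by_cases e : f x = y
      · exact Finset.mem_image.2 ⟨x, Finset.mem_filter.2 ⟨hx, by rw [e]; exact hy⟩, e⟩
      · rw [if_neg e] at hx0; exact absurd rfl hx0
    · obtain ⟨x, hx, rfl⟩ := Finset.mem_image.1 hy
      exact (Finset.mem_filter.1 hx).2

end Groth.Agent.S1859
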