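import Groth.Statements.S6474
import Groth.Agent.Lib.Cyc26.Completion
import Groth.Agent.Lib.Cyc26.Cone
import Groth.Agent.Lib.Cyc26.RatPull
import Groth.Agent.Lib.GrpdSlice19.Step
import Groth.Agent.Lib.KFlat.FinLocFree

set_option autoImplicit false
universe u
open CategoryTheory AlgebraicGeometry
open Cyc

namespace Groth.Agent.S6474

set_option backward.isDefEq.respectTransparency false
set_option backward.isDefEq.respectTransparency.types false

open Groth.Agent.Cyc26A Groth.Agent.Cyc26 Limits TopologicalSpace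

theorem isFinLocFreeOfRank_biprod {X : Scheme.{u}} {M N : X.Modules} {m n : ℕ} (hM : FlatMod.IsFinLocFreeOfRank m M)
    (hN : FlatMod.IsFinLocFreeOfRank n N) : FlatMod.IsFinLocFreeOfRank (m + n) (M ⊞ N) := fun y => by
  obtain ⟨U, hU, ⟨a⟩⟩ := hM y
  obtain ⟨V, hV, ⟨b⟩⟩ := hN y
  obtain ⟨a'⟩ := M2.nonempty_free_mono (inf_le_left : U ⊓ V ≤ U) a
  obtain ⟨b'⟩ := M2.nonempty_free_mono (inf_le_right : U ⊓ V ≤ V) b
  have := preservesBinaryBiproducts_of_preservesBinaryCoproducts
    (Scheme.Modules.restrictFunctor (U ⊓ V).ι)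
  exact ⟨U ⊓ V, ⟨hU, hV⟩, ⟨(Scheme.Modules.restrictFunctor (U ⊓ V).ι).mapBiprod M N ≪≫
    biprod.mapIso a' b' ≪≫ KFlat.Sch.freeModAddIso _ m n⟩⟩

/-- A module of rank zero has no projective bundle. -/
theorem isEmpty_of_rank_zero {X H : Scheme.{u}} {π' : H ⟶ X} {E : X.Modules} {O : H.Modules}
    {φ : E ⟶ (Scheme.Modules.pushforward π').obj O} (hB : Cyc26PB.UBundle π' E O φ)
    (hE : FlatMod.IsFinLocFreeOfRank 0 E) : IsEmpty H := by
  refine ⟨fun x => ?_⟩
  obtain ⟨D, e, hxD, he⟩ := P1Split.exists_isBas_nhd hE (π' x)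
  have h := Cyc26PB.iSup_chartOpen hB he
  have hx : x ∈ π' ⁻¹ᵁ D := hxD
  rw [← h, Opens.mem_iSup] at hx
  exact hx.choose.elim0

/-- Pull-back of coefficients along an open immersion is restriction. -/
theorem pullFun_openImmersion {X Y : Scheme.{u}} (f : Y ⟶ X) [IsOpenImmersion f] {δY : Y → ℤ} {δX : X → ℤ}
    (hf : ∀ y, δY y = δX (f y)) (α : X → ℤ) (y : Y) : Cyc.pullFun f δY δX 0 α y = α (f y) := by
  rw [Cyc.pullFun, if_pos (by rw [hf, add_zero])]
  have hs : Function.Surjective (f.stalkMap y).hom :=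
    ((ConcreteCategory.isIso_iff_bijective (f.stalkMap y)).1 inferInstance).2
  have h1 : (IsLocalRing.maximalIdeal (X.presheaf.stalk (f y))).map (f.stalkMap y).hom =
      IsLocalRing.maximalIdeal (Y.presheaf.stalk y) := by
    rw [← IsLocalRing.maximalIdeal_comap (f.stalkMap y).hom, Ideal.map_comap_of_surjective _ hs]
  haveI : IsSimpleModule (Y.presheaf.stalk y) (Y.presheaf.stalk y ⧸ IsLocalRing.maximalIdeal (Y.presheaf.stalk y)) :=
    isSimpleModule_iff_isCoatom.2 (IsLocalRing.maximalIdeal.isMaximal _).out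
  rw [h1, Module.length_eq_one]
  simp

theorem delta_eq_of_openImmersion {X Y : Scheme.{u}} (f : Y ⟶ X) [IsOpenImmersion f] [LocallyOfFiniteType f]
    {δY : Y → ℤ} {δX : X → ℤ} (hf : Cyc.DeltaCompat f δY δX) (y : Y) : δY y = δX (f y) := by
  rw [UCat26.delta_eq_add_rd f hf y, GrpdSlice19.rd_eq_zero_of_surjectiveOnStalks f y, Nat.cast_zero, add_zero]


/-- Injectivity; surjectivity is the affine-fibres result: suppose ℰ is an O_X-module that is locally
free of finite rank r, and let p : E = Spec(Sym^* ℰ) → X denote the associated vector bundle. Then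
p^* : CH_k(X) → CH_{k+r}(E) is injective: a k-cycle α on X with p^*α ∼_rat 0 on E is itself ∼_rat 0.
The vector bundle is given through the relative-spectrum layer: A a quasi-coherent O_X-algebra with
j : ℰ → A making A the symmetric algebra of ℰ (RelSpec.IsSymAlg, ℰ quasi-coherent), E = A.spec with
structure morphism A.π and the induced dimension function. Here a pair (X, δ) with Cyc.IsSetup plays
the role of a scheme locally of finite type over the base (S, δ) (X locally Noetherian with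
universally catenary local rings, δ a dimension function), and Cyc.DeltaCompat records that the
dimension function upstairs is the induced one. -/
theorem result (X : Scheme.{u}) (δ : X → ℤ) (hX : Cyc.IsSetup X δ) (ℰ : X.Modules) (hq : Coh.IsQCoh ℰ) (r : ℕ) (hr : FlatMod.IsFinLocFreeOfRank r ℰ) (A : RelSpec.QCAlg X) (j : ℰ ⟶ A.toModule) (hA : RelSpec.IsSymAlg ℰ A j) (δE : ↥A.spec → ℤ) (hE : Cyc.IsSetup A.spec δE) (hδ : Cyc.DeltaCompat A.π δE δ) (k : ℤ) (α : AlgebraicCycle X ℤ) (hα : α ∈ Cyc.Zk X δ k) (γ : AlgebraicCycle A.spec ℤ) (hγ : ⇑γ = Cyc.pullFun A.π δE δ r ⇑α) (h0 : Cyc.RatEquivZero δE (k + r) γ) : Cyc.RatEquivZero δ k α := by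
  classical
  haveI := hX.1
  haveI := hE.1
  have hrO : FlatMod.IsFinLocFreeOfRank 1 (Coh.structureModule X) :=
    M2.isFinLocFreeOfRank_of_iso (M2.freeModOneIso X) (M2.isFinLocFreeOfRank_freeMod X 1)
  have hr1 := isFinLocFreeOfRank_biprod hr hrO
  obtain ⟨P, H, π, π', O1, h, c, hπ, hh, hcomp, ⟨φ, hB⟩, ⟨φ', hB'⟩, hc, hcπ, hrange⟩ :=
    Cyc26Cone.exists_completion hq (M1.isFP_isFT (M1.isFP_of_isFinLocFree
      (M2.isFinLocFree_of_ofRank hr))) hA
  haveI := hπ
  haveI := hh
  haveI := hc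
  obtain ⟨δP, hδP⟩ := P1S26.exists_deltaCompat π δ
  have hP := Cyc26Split.isSetup_of_lft π hX hδP
  haveI := hP.1
  haveI := Cyc26PB.flat_bundle hB hr1
  have hδc : ∀ x, δE x = δP (c x) :=
    delta_eq_of_openImmersion c (deltaCompat_of_comp c π hcπ hδ hδP)
  have hrest : ∀ x, γ x = Cyc.pullFun π δP δ (r : ℤ) ⇑α (c x) := fun x => by
    have hsh := shift_bundle (n := r) hB hr1 hP.2.2 hδP
    have h2 := (pullFun_comp_shift c π hE.2.2 hP.2.2 hsh (c' := 0)
      (fun z _ => by rw [hδc, add_zero]) ⇑α).2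
    rw [hcπ, add_zero] at h2
    rw [hγ, h2, pullFun_openImmersion c hδc]
  let e : A.spec ≅ (c.opensRange : Scheme.{u}) := c.isoOpensRange
  have he : ∀ u, c (e.inv u) = c.opensRange.ι u := fun u => by
    rw [← Scheme.Hom.comp_apply, Scheme.Hom.isoOpensRange_inv_comp]
  have hU := Cyc26Split.isSetup_of_lft c.opensRange.ι hP (δY := fun u => δP (c.opensRange.ι u))
    (fun u => ⟨0, by rw [Nat.cast_zero]; exact FibDim14.rdeg_eq_zero c.opensRange.ι u, (add_zero _).symm⟩)
  haveI := hU.1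
  have hshift : Shift e.inv (fun u => δP (c.opensRange.ι u)) δE 0 := fun u _ => by
    rw [hδc, he, add_zero]
  let γ' := pullCycle e.inv hU.2.2 hshift γ
  refine ratEquivZero_of_completion (n := r) (E' := ℰ) hX hB hr1 hcomp ?_ hδP c.opensRange (fun x => ?_) hα (γ := γ')
    (fun u => ?_) ?_
  · cases r with
    | zero => exact Or.inl ⟨rfl, isEmpty_of_rank_zero hB' hr⟩
    | succ m => exact Or.inr ⟨m, rfl, hr, φ', hB'⟩
  · show x ∈ Set.range c ↔ _
    rw [hrange]
    rfl
  · rw [pullCycle_coe, pullFun_openImmersion e.inv (δY := fun u => δP (c.opensRange.ι u))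
      (fun u => by rw [hδc, he]), hrest, he]
  · have := ratEquivZero_pullFun e.inv hU.2.2 hE.2.2 (c := 0) hshift h0 γ' (pullCycle_coe _ _ _ _)
    rwa [add_zero] at this

end Groth.Agent.S6474
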