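import Groth.Statements.S6497
import Groth.Agent.Lib.Cyc26.LimitRat
-- import your own Groth.Agent.* helpers here

set_option autoImplicit false
universe u
open CategoryTheory AlgebraicGeometry
open Cyc

namespace Groth.Agent.S6497

/-- Injectivity of colim CH_k(X_i) → CH_k(X'): if α ∈ Z_k(X_i) and g_i^*α ∼_rat 0 on X' (for a cycle
with the pulled-back coefficients), then for some stage X_j above X_i the pullback of α to X_j is
∼_rat 0. Setting: a directed inverse system (X_i) of quasi-compact schemes with affine flat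
transition morphisms and limit X' (a limit cone), each X_i and X' carrying a dimension function with
Cyc.IsSetup, and every transition map and every projection X' → X_i shifting the dimension functions
by c = 0 at generic points of fibres, so that the base-change pullbacks g^* are Cyc.pullFun with
shift 0. (The published statement takes X_i and X′ to be the base changes of one quasi-compact
scheme of finite type over a base S along S_i → S and lim S_i → S; this row allows any such inverse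
system.) -/
theorem result (I : Type u) [Preorder I] [IsDirected I (fun a b => a ≤ b)] [Nonempty I] (D : Iᵒᵖ ⥤ Scheme.{u}) (c : Limits.Cone D) (hc : Limits.IsLimit c) (haff : ∀ (i j : Iᵒᵖ) (f : i ⟶ j), IsAffineHom (D.map f)) (hflat : ∀ (i j : Iᵒᵖ) (f : i ⟶ j), Flat (D.map f)) (hqc : ∀ i, CompactSpace ↥(D.obj i)) (δ : (i : Iᵒᵖ) → ↥(D.obj i) → ℤ) (δ' : ↥c.pt → ℤ) (hset : ∀ i, Cyc.IsSetup (D.obj i) (δ i)) (hset' : Cyc.IsSetup c.pt δ') (hshift : ∀ (i j : Iᵒᵖ) (f : i ⟶ j) (x : ↥(D.obj i)), (∀ y, D.map f y = D.map f x → y ⤳ x → y = x) → δ i x = δ j (D.map f x)) (hflat' : ∀ i, Flat (c.π.app i)) (hshift' : ∀ (i : Iᵒᵖ) (x : ↥c.pt), (∀ y, c.π.app i y = c.π.app i x → y ⤳ x → y = x) → δ' x = δ i (c.π.app i x)) (k : ℤ) (i : Iᵒᵖ) (α : AlgebraicCycle (D.obj i) ℤ) (hα : α ∈ Cyc.Zk (D.obj i) (δ i) k) (α' : AlgebraicCycle c.pt ℤ) (hα' : ⇑α' = Cyc.pullFun (c.π.app i) δ' (δ i) 0 ⇑α) (h0 : Cyc.RatEquivZero δ' k α') : ∃ (j :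 Iᵒᵖ) (f : j ⟶ i) (αj : AlgebraicCycle (D.obj j) ℤ), ⇑αj = Cyc.pullFun (D.map f) (δ j) (δ i) 0 ⇑α ∧ Cyc.RatEquivZero (δ j) k αj := by
  classical
  haveI := hqc
  haveI : ∀ {a b : Iᵒᵖ} (f : a ⟶ b), IsAffineHom (D.map f) := fun f => haff _ _ f
  haveI : ∀ a, IsLocallyNoetherian (D.obj a) := fun a => (hset a).1
  haveI : IsLocallyNoetherian c.pt := hset'.1
  haveI : CompactSpace c.pt := Scheme.compactSpace_of_isLimit D c hc
  have hs : ∀ (a b : Iᵒᵖ) (f : a ⟶ b) (z : D.obj a), (∀ w, D.map f w = D.map f z → w ⤳ z → w = z) →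
      δ a z = δ b (D.map f z) + 0 := fun a b f z h => by rw [add_zero]; exact hshift a b f z h
  have hs' : ∀ (a : Iᵒᵖ) (z : c.pt), (∀ w, Cyc26Lim.pr D c a w = Cyc26Lim.pr D c a z → w ⤳ z → w = z) →
      δ' z = δ a (Cyc26Lim.pr D c a z) + 0 := fun a z h => by rw [add_zero]; exact hshift' a z h
  obtain ⟨ι, ξ, φ, hξ, hφ, hlf, hsum⟩ := h0
  haveI : Finite ι := Cyc26Lim.finite_index ξ hlf
  haveI : Fintype ι := Fintype.ofFinite ι
  obtain ⟨j, f, h, hgood, hh⟩ := Cyc26Lim.exists_stage_data D c hc i ξ φ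
  haveI := hflat j i f
  haveI := hflat' j
  haveI := hflat' i
  haveI : Flat (Cyc26Lim.pr D c j) := hflat' j
  have hne : ∀ m, h m ≠ 0 := fun m e => hφ m (by rw [← hh m, e, map_zero])
  have hη : ∀ m, δ j (Cyc26Lim.pr D c j (ξ m)) = k + 1 := fun m => by
    have := hs' j (ξ m) fun w h1 h2 => (hgood m).eq_of_specializes h1 h2
    rw [add_zero] at this
    rw [← this, hξ m]
  have hlfj : ∀ x : D.obj j, ∃ U : Set (D.obj j), IsOpen U ∧ x ∈ U ∧
      {m | (closure {Cyc26Lim.pr D c j (ξ m)} ∩ U).Nonempty}.Finite := fun x =>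
    ⟨Set.univ, isOpen_univ, Set.mem_univ x, Set.toFinite _⟩
  obtain ⟨γ, hγ⟩ := Cyc26.exists_cycle_sum_divFun (hset j).2.2 (fun m => Cyc26Lim.pr D c j (ξ m)) h hlfj
  obtain ⟨αj, hαj⟩ := Cyc26.exists_cycle_pullFun (D.map f) (hset j).2.2 (hs j i f) α
  have hγ' : ⇑γ = fun y => ∑ m, Cyc.divFun (δ j) (Cyc26Lim.pr D c j (ξ m)) (h m) y :=
    funext fun y => (hγ y).trans (finsum_eq_sum_of_fintype _)
  have hpα : Cyc.pullFun (Cyc26Lim.pr D c j) δ' (δ j) 0 ⇑αj = ⇑α' := by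
    rw [hαj, hα']
    have h2 := (Cyc26.pullFun_comp_shift (Cyc26Lim.pr D c j) (D.map f) hset'.2.2 (hset j).2.2 (hs j i f) (hs' j) ⇑α).2
    rw [Cyc26Lim.pr_w, add_zero] at h2
    exact h2.symm
  have hpγ : Cyc.pullFun (Cyc26Lim.pr D c j) δ' (δ j) 0 ⇑γ = ⇑α' := by
    funext x
    rw [hγ', Cyc26Lim.pullFun_sum, hsum x, finsum_eq_sum_of_fintype]
    refine Finset.sum_congr rfl fun m _ => ?_
    rw [Cyc26Lim.pullFun_divFun_good (Cyc26Lim.pr D c j) hset'.2.2 (hset j).2.2 (hs' j) (hξ m) (hgood m) (h m) (hne m) x,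
      hh m]
  have hsub : Cyc.pullFun (Cyc26Lim.pr D c j) δ' (δ j) 0 ⇑(αj - γ) = 0 := by
    rw [show ⇑(αj - γ) = ⇑αj - ⇑γ from funext fun _ => rfl, Cyc26Lim.pullFun_sub, hpα, hpγ, sub_self]
  obtain ⟨l, t, hl⟩ := Cyc26Lim.exists_stage_pullFun_eq_zero D c hc hset'.2.2 δ (hs' j) (αj - γ) hsub
  haveI := hflat l j t
  obtain ⟨γl, hγl⟩ := Cyc26.exists_cycle_pullFun (D.map t) (hset l).2.2 (hs l j t) γ
  refine ⟨l, t ≫ f, γl, ?_, ?_⟩
  · rw [show ⇑(αj - γ) = ⇑αj - ⇑γ from funext fun _ => rfl, Cyc26Lim.pullFun_sub, sub_eq_zero, hαj] at hl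
    have h2 := (Cyc26.pullFun_comp_shift (D.map t) (D.map f) (hset l).2.2 (hset j).2.2 (hs j i f) (hs l j t) ⇑α).2
    rw [add_zero, ← D.map_comp] at h2
    rw [h2, hl, hγl]
  · have hr : Cyc.RatEquivZero (δ j) k γ := ⟨ι, _, h, hη, hne, hlfj, hγ⟩
    have h3 := Cyc26.ratEquivZero_pullFun (D.map t) (hset l).2.2 (hset j).2.2 (hs l j t) hr γl hγl
    rwa [add_zero] at h3

end Groth.Agent.S6497
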