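import Groth.Statements.S10298
import Groth.Agent.Lib.RelNorm14.Main

set_option autoImplicit false
universe u
open CategoryTheory CategoryTheory.Limits AlgebraicGeometry
open AlgSp

namespace Groth.Agent.S10298
open Groth.Agent.AlgSpace Opposite

set_option backward.isDefEq.respectTransparency.types false

theorem main {S : Scheme.{u}} {V U N : Over S} (g : V ⟶ U)
    [QuasiCompact g.left] [QuasiSeparated g.left] (f' : V ⟶ N) (ν : N ⟶ U)
    (e : N.left ≅ g.left.normalization) (he1 : f'.left ≫ e.hom = g.left.toNormalization)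
    (he2 : e.hom ≫ g.left.fromNormalization = ν.left) :
    AlgSp.IsRelNormalization ((AlgSp.yon S).map g) ((AlgSp.yon S).map ν) ((AlgSp.yon S).map f') := by
  have h1 : f' ≫ ν = g := Over.OverMorphism.ext (by
    rw [Over.comp_left, ← he2, ← Category.assoc, he1, Scheme.Hom.toNormalization_fromNormalization])
  refine ⟨by rw [← Functor.map_comp, h1], isIntegralMor_iff_repWith.2 ((repWith_yon_map_iff _ _).2 ?_), ?_⟩
  · rw [← he2]
    infer_instance
  intro Z hZ π k hπ hk
  have hr := isIntegralMor_iff_repWith.1 hπ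
  have sq := hr.1.isPullback (𝟙 ((yon S).obj U))
  have hni : IsIntegralHom (hr.1.snd (𝟙 ((yon S).obj U))).left := hr.2 _ _ _ sq
  set n := hr.1.snd (𝟙 ((yon S).obj U)) with hn
  have hiso : IsIso (hr.1.fst (𝟙 ((yon S).obj U))) := sq.isIso_fst_of_isIso
  set z := hr.1.fst (𝟙 ((yon S).obj U)) with hz
  have hzπ : z ≫ π = (yon S).map n := sq.w.trans (Category.comp_id _)
  obtain ⟨k', hk'⟩ := (yon S).map_surjective (k ≫ inv z)
  have hk'n : k' ≫ n = g := (yon S).map_injective (by
    rw [Functor.map_comp, hk', ← hzπ, Category.assoc, IsIso.inv_hom_id_assoc, hk])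
  have H : g.left = k'.left ≫ n.left := by rw [← Over.comp_left, hk'n]
  let d := g.left.normalizationDesc k'.left n.left H
  let l₀ : N ⟶ hr.1.pullback (𝟙 ((yon S).obj U)) := Over.homMk (e.hom ≫ d) (by
    rw [← Over.w n, Category.assoc, Scheme.Hom.normalizationDesc_comp_assoc, ← Category.assoc, he2,
      Over.w])
  have hl₀n : l₀ ≫ n = ν := Over.OverMorphism.ext (by
    change (e.hom ≫ d) ≫ n.left = ν.left
    rw [Category.assoc, Scheme.Hom.normalizationDesc_comp, he2])
  have hl₀f : f' ≫ l₀ = k' := Over.OverMorphism.ext (by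
    change f'.left ≫ e.hom ≫ d = k'.left
    rw [← Category.assoc, he1, Scheme.Hom.toNormalization_normalizationDesc])
  refine ⟨(yon S).map l₀ ≫ z, ⟨?_, ?_⟩, ?_⟩
  · rw [← Category.assoc, ← Functor.map_comp, hl₀f, hk', Category.assoc, IsIso.inv_hom_id,
      Category.comp_id]
  · rw [Category.assoc, hzπ, ← Functor.map_comp, hl₀n]
  rintro h ⟨h₁, h₂⟩
  obtain ⟨h', hh'⟩ := (yon S).map_surjective (h ≫ inv z)
  have hh'n : h' ≫ n = ν := (yon S).map_injective (by
    rw [Functor.map_comp, hh', ← hzπ, Category.assoc, IsIso.inv_hom_id_assoc, h₂])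
  have hh'f : f' ≫ h' = k' := (yon S).map_injective (by
    rw [Functor.map_comp, hh', ← Category.assoc, h₁, hk'])
  suffices h' = l₀ by rw [← this, hh', Category.assoc, IsIso.inv_hom_id, Category.comp_id]
  refine Over.OverMorphism.ext ?_
  rw [← cancel_epi e.inv]
  refine Scheme.Hom.normalization.hom_ext g.left _ _ n.left ?_ ?_ ?_
  · simp only [← he1, Category.assoc, Iso.hom_inv_id_assoc]
    rw [← Over.comp_left, ← Over.comp_left, hh'f, hl₀f]
  · rw [Category.assoc, ← Over.comp_left, hh'n, ← he2, Iso.inv_hom_id_assoc]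
  · rw [Category.assoc, ← Over.comp_left, hl₀n, ← he2, Iso.inv_hom_id_assoc]


/-- For a quasi-compact quasi-separated morphism of schemes, the relative normalization of schemes is
the normalization in the sense of algebraic spaces. -/
theorem result {S : Scheme.{u}} {V U N : Over S} (g : V ⟶ U)
    [QuasiCompact g.left] [QuasiSeparated g.left] (f' : V ⟶ N) (ν : N ⟶ U)
    (e : N.left ≅ g.left.normalization) (he1 : f'.left ≫ e.hom = g.left.toNormalization)
    (he2 : e.hom ≫ g.left.fromNormalization = ν.left) :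
    AlgSp.IsRelNormalization ((AlgSp.yon S).map g) ((AlgSp.yon S).map ν) ((AlgSp.yon S).map f') := by
  exact main g f' ν e he1 he2

end Groth.Agent.S10298
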