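import Groth.Statements.S12451
import Groth.Agent.Lib.ModM1.LocFree

set_option autoImplicit false
universe u
open CategoryTheory AlgebraicGeometry
open Props

namespace Groth.Agent.S12451

/-- For a commutative ring R and an R-module M, the associated quasi-coherent module M~ on Spec R is a
finite locally free O-module exactly when M is finitely generated and projective over R
(equivalently, a finite locally free R-module). -/
theorem result {R : CommRingCat.{u}} (M : ModuleCat.{u} R) :
    FlatMod.IsFinLocFree (tilde M) ↔ Module.Finite R M ∧ Module.Projective R M := by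
  have key : ∀ x : PrimeSpectrum R, x ∈ Module.freeLocus R M ↔
      Module.Free ((Spec R).presheaf.stalk x) ((tilde M).presheaf.stalk x) := by
    intro x
    letI : Algebra R ((Spec R).presheaf.stalk x) := (StructureSheaf.toStalk R x).hom.toAlgebra
    haveI : IsLocalization.AtPrime ((Spec R).presheaf.stalk x) x.asIdeal := by
      exact (inferInstance : IsLocalization.AtPrime ((Spec.structureSheaf R).presheaf.stalk x) x.asIdeal)
    haveI : IsScalarTower R ((Spec R).presheaf.stalk x) ((tilde M).presheaf.stalk x) :=
      ⟨fun r a z => by rw [Algebra.smul_def, mul_smul]; rfl⟩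
    exact Module.mem_freeLocus_of_isLocalization x ((Spec R).presheaf.stalk x)
      ((tilde M).presheaf.stalk x) (tilde.toStalk M x).hom
  rw [Groth.Agent.M1.isFinLocFree_iff]
  constructor
  · rintro ⟨hFP, hfree⟩
    haveI : Module.FinitePresentation R ((modulesSpecToSheaf.obj (tilde M)).presheaf.obj (Opposite.op ⊤)) :=
      Groth.Agent.M1.finitePresentation_sections_spec (tilde M) hFP
    haveI : Module.FinitePresentation R M :=
      Groth.Agent.M1.finitePresentation_of_linearEquiv (tilde.isoTop M).toLinearEquiv.symm
    exact ⟨inferInstance, Module.freeLocus_eq_univ_iff.mp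
      (Set.eq_univ_iff_forall.mpr fun x => (key x).mpr (hfree x))⟩
  · rintro ⟨hfin, hproj⟩
    haveI : Module.FinitePresentation R M := Module.finitePresentation_of_projective R M
    exact ⟨Groth.Agent.M1.isFP_tilde M, fun x => (key x).mp (by
      rw [Module.freeLocus_eq_univ_iff.mpr hproj]; trivial)⟩

end Groth.Agent.S12451
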