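import Groth.Statements.S14347
import Groth.Agent.Lib.Fitting.More
import Mathlib

set_option autoImplicit false
universe u
open QuotLF

namespace Groth.Agent.S14347

open Groth.Agent

theorem rel_mkQ {R : Type u} [CommRing R] {q : ℕ} (N : Submodule R (Fin q → R)) (v : Fin q → R) :
    ∑ i, v i • N.mkQ (Pi.single i 1) = 0 ↔ v ∈ N := by
  have : ∑ i, v i • N.mkQ (Pi.single i (1 : R)) = N.mkQ v := by
    conv_rhs => rw [pi_eq_sum_univ' v, map_sum]
    simp
  rw [this, Submodule.mkQ_apply, Submodule.Quotient.mk_eq_zero]

/-- The minors of size `r`. -/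
def minors {R : Type u} [CommRing R] {p q : ℕ} (A : Matrix (Fin q) (Fin p) R) (r : ℕ) : Ideal R :=
  Ideal.span {d | ∃ (e : Fin r → Fin q) (f : Fin r → Fin p), d = (A.submatrix e f).det}

theorem minors_transpose {R : Type u} [CommRing R] {p q : ℕ} (A : Matrix (Fin q) (Fin p) R) (r : ℕ) :
    minors A.transpose r = minors A r := by
  unfold minors
  congr 1
  ext d
  constructor <;> rintro ⟨e, f, rfl⟩ <;> exact ⟨f, e, by rw [← Matrix.det_transpose]; rfl⟩

theorem minors_eq_bot {R : Type u} [CommRing R] {p q : ℕ} (A : Matrix (Fin q) (Fin p) R) {r : ℕ} (h : p < r) :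
    minors A r = ⊥ := by
  rw [minors, Ideal.span_eq_bot]
  rintro _ ⟨e, f, rfl⟩
  obtain ⟨a, b, hab, hf⟩ := Fintype.exists_ne_map_eq_of_card_lt f (by simpa using h)
  exact Matrix.det_zero_of_column_eq hab (fun i => by simp [hf])

theorem fitting_coker {R : Type u} [CommRing R] {p q : ℕ} (A : Matrix (Fin q) (Fin p) R) (k : ℕ) :
    Fitt.ideal R ((Fin q → R) ⧸ LinearMap.range (Matrix.mulVecLin A)) k = minors A (q - k) := by
  classical
  set N := LinearMap.range (Matrix.mulVecLin A)
  set x : Fin q → (Fin q → R) ⧸ N := fun i => N.mkQ (Pi.single i 1)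
  have hx : Submodule.span R (Set.range x) = ⊤ := by
    rw [show x = N.mkQ ∘ (fun i => (Pi.single i 1 : Fin q → R)) from rfl, Set.range_comp, Submodule.span_image,
      FittingLib.span_single_eq_top, Submodule.map_top, N.range_mkQ]
  rw [FittingLib.ideal_eq_J_fin x hx, FittingLib.J_eq_span_minors]
  refine le_antisymm (Ideal.span_le.2 ?_) (Ideal.span_le.2 ?_)
  · rintro _ ⟨z, e, hz, rfl⟩
    rw [SetLike.mem_coe, ← Matrix.det_transpose]
    refine FittingLib.det_mem_of_rows_mem_span (fun _ => Set.range fun j => fun a => A (e a) j) _ (fun B hB => ?_) _ fun b => ?_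
    · choose f hf using hB
      refine Ideal.subset_span ⟨e, f, ?_⟩
      rw [← Matrix.det_transpose B]
      congr 1
      ext a b
      simp [← hf b]
    · obtain ⟨c, hc⟩ := (rel_mkQ N (z b)).1 (hz b)
      rw [Submodule.mem_span_range_iff_exists_fun]
      refine ⟨c, funext fun a => ?_⟩
      show _ = z b (e a)
      rw [← hc]
      simp [Matrix.mulVec, dotProduct, mul_comm]
  · rintro _ ⟨e, f, rfl⟩
    refine Ideal.subset_span ⟨fun b => fun i => A i (f b), e, fun b => (rel_mkQ N _).2 ⟨Pi.single (f b) 1, ?_⟩, ?_⟩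
    · ext i
      simp
    · rfl

/-- Let R be a commutative ring and σ : R^m → R^n an injective linear map with cokernel M, so that M has
a length-one resolution by finite free modules and rank δ = n − m; let K be the cokernel of the dual
map (R^n)^∨ → (R^m)^∨, which is the module Ext¹_R(M, R). Then the Fitting ideals satisfy Fit_{δ +
j}(M) = Fit_j(K) for all j ≥ 0, and Fit_i(M) = 0 for i < δ (the degeneracy loci of M and of K agree
after the shift by δ). -/
theorem result (R : Type u) [CommRing R] (m n : ℕ)
    (σ : (Fin m → R) →ₗ[R] (Fin n → R)) (hσ : Function.Injective σ) :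
    (∀ j : ℕ, Fitt.ideal R ((Fin n → R) ⧸ LinearMap.range σ) (n - m + j) =
        Fitt.ideal R (Module.Dual R (Fin m → R) ⧸ LinearMap.range σ.dualMap) j) ∧
      ∀ i : ℕ, i < n - m → Fitt.ideal R ((Fin n → R) ⧸ LinearMap.range σ) i = ⊥ := by
  classical
  rcases subsingleton_or_nontrivial R with hR | hR
  · exact ⟨fun j => Subsingleton.elim _ _, fun i _ => Subsingleton.elim _ _⟩
  have hmn : m ≤ n := le_of_fin_injective R σ hσ
  set A := LinearMap.toMatrix' σ
  have hA : Matrix.mulVecLin A = σ := Matrix.toLin'_toMatrix' σ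
  refine ⟨fun j => ?_, fun i hi => ?_⟩
  · let E : Module.Dual R (Fin m → R) ≃ₗ[R] (Fin m → R) :=
      { toFun := fun φ i => φ (Pi.single i 1)
        map_add' := fun _ _ => rfl
        map_smul' := fun _ _ => rfl
        invFun := fun v => Fintype.linearCombination R v
        left_inv := fun φ => by
          refine (Pi.basisFun R (Fin m)).ext fun i => ?_
          simp
        right_inv := fun v => funext fun i => by simp }
    have hE : (LinearMap.range σ.dualMap).map (E : Module.Dual R (Fin m → R) →ₗ[R] (Fin m → R)) =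
        LinearMap.range (Matrix.mulVecLin A.transpose) := by
      have key : ∀ w : Fin n → R, E (σ.dualMap (Fintype.linearCombination R w)) = A.transpose.mulVec w := by
        intro w
        funext i
        show Fintype.linearCombination R w (σ (Pi.single i 1)) = _
        rw [Fintype.linearCombination_apply]
        simp [Matrix.mulVec, dotProduct, A, LinearMap.toMatrix'_apply]
      apply le_antisymm
      · rintro _ ⟨_, ⟨ψ, rfl⟩, rfl⟩
        have hψ : ψ = Fintype.linearCombination R fun i => ψ (Pi.single i 1) :=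
          (Pi.basisFun R (Fin n)).ext fun i => by simp
        exact ⟨fun i => ψ (Pi.single i 1), by rw [Matrix.mulVecLin_apply, ← key, ← hψ]; rfl⟩
      · rintro _ ⟨w, rfl⟩
        exact ⟨_, ⟨Fintype.linearCombination R w, rfl⟩, key w⟩
    rw [FittingLib.ideal_congr (M := Module.Dual R (Fin m → R) ⧸ LinearMap.range σ.dualMap)
      (Submodule.Quotient.equiv _ _ E hE), ← hA, fitting_coker, fitting_coker, minors_transpose,
      show n - (n - m + j) = m - j by omega]
  · rw [← hA, fitting_coker, minors_eq_bot]
    omega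

end Groth.Agent.S14347
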