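import Groth.Statements.S13482
import Groth.Agent.Lib.SiteLpull9.Away

set_option autoImplicit false
set_option linter.style.haveILetI false
set_option backward.isDefEq.respectTransparency false
universe u
open CategoryTheory CategoryTheory.Limits Opposite
attribute [local instance] HasDerivedCategory.standard
open DerComp

namespace Groth.Agent.S13482

/-- Let f be a morphism of ringed sites from (C, O_C) to (D, O_D) whose ring map sends the sheaf of
ideals I of O_D into the sheaf of ideals I' of O_C. If M in D(O_C) is derived complete with respect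
to I', then Rf_*M is derived complete with respect to I. (The published statement is for a morphism
of ringed topoi; this row takes a morphism of ringed sites, which induces one.) -/
theorem result {C D : Type u} [SmallCategory C] [SmallCategory D] {J : GrothendieckTopology C} {K : GrothendieckTopology D} {O_C : Sheaf J CommRingCat.{u}} {O_D : Sheaf K CommRingCat.{u}} (f : ModSite.RMor O_C O_D) [SiteCmp.HasRpushD f] (I : DerComp.IdealSh O_D) (I' : DerComp.IdealSh O_C) (hf : DerComp.RMapsIdealInto f I I') (M : DerivedCategory (ModSite.Mod O_C)) (hM : DerComp.IsDerComp O_C I' M) : DerComp.IsDerComp O_D I ((SiteCmp.RpushD f).obj M) := by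
  intro V g hg n
  obtain ⟨G', α, adj, hα⟩ := Groth.Agent.SiteLpull9.exists_adjunction f
  obtain ⟨e, he⟩ := Groth.Agent.SiteLpull9.pull_mu f V g
  obtain ⟨i⟩ := Groth.Agent.SiteLpull9.nonempty_left_tel f G' α hα
    (Groth.Agent.ModFlat16.isFlat_freeOn O_D V) (Groth.Agent.SiteLpull9.mu O_D V g) _ e he n
  let iD := (DerivedCategory.singleFunctor _ n).mapIso (Groth.Agent.SiteLpull9.extAwayIso O_D V g)
  let iC := (DerivedCategory.singleFunctor _ n).mapIso
    (Groth.Agent.SiteLpull9.extAwayIso O_C (f.fn.obj V) ((f.sharp.hom.app (op V)).hom g))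
  have key : ∀ {E : Type u} [SmallCategory E] {L : GrothendieckTopology E}
      (O : Sheaf L CommRingCat.{u}) (T : ModSite.Mod O) (X : DerivedCategory (ModSite.Mod O)),
      Subsingleton (SiteCmp.inD O T ⟶ X⟦n⟧) ↔
        Subsingleton ((DerivedCategory.singleFunctor _ n).obj T ⟶ X) := fun O T X =>
    ((((shiftEquiv' (DerivedCategory (ModSite.Mod O)) (-n) n (neg_add_cancel n)).toAdjunction.homEquiv
      (SiteCmp.inD O T) X).symm).trans
      (Iso.homCongr (((DerivedCategory.singleFunctors _).shiftIso (-n) n 0 (by omega)).app T)
        (Iso.refl X))).subsingleton_congr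
  rw [key]
  haveI := (key O_C _ M).1 (hM (f.fn.obj V) _ (hf V g hg) n)
  exact (((Iso.homCongr iD (Iso.refl _)).trans (adj.homEquiv _ _).symm).trans
    (Iso.homCongr (i ≪≫ iC.symm) (Iso.refl M))).subsingleton_congr.2 this

end Groth.Agent.S13482
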