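import Groth.Statements.S1233
import Groth.Agent.Lib.WeakAssBC4
import Mathlib.RingTheory.Unramified.LocalStructure
import Mathlib.RingTheory.Unramified.LocalRing
import Mathlib.RingTheory.Etale.StandardEtale
import Mathlib.RingTheory.Etale.Locus
import Mathlib.RingTheory.AdjoinRoot

set_option autoImplicit false
universe u
open FlatMor

namespace Groth.Agent.S1233

open TensorProduct in
/-- Let A → B be an étale ring map, M an A-module and u a prime of B lying over the prime p of A. Then u
is a weakly associated prime of the B-module B ⊗_A M if and only if p is a weakly associated prime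
of M. -/
theorem result {A B : Type u} [CommRing A] [CommRing B] [Algebra A B] [Algebra.Etale A B]
    (M : Type u) [AddCommGroup M] [Module A M] (p : Ideal A) [p.IsPrime] (u : Ideal B) [u.IsPrime] [u.LiesOver p] :
    u ∈ FlatCA.weakAss B (B ⊗[A] M) ↔ p ∈ FlatCA.weakAss A M := by
  refine ⟨fun h => ?_, Groth.Agent.WeakAssBC4.weakAss_baseChange_of_flat u fun q hq hle hp => ?_⟩
  · obtain ⟨g, hg, hse⟩ := Algebra.IsEtaleAt.exists_isStandardEtale (R := A) u
    let B' := Localization.Away g
    have hdisj : Disjoint ((Submonoid.powers g : Submonoid B) : Set B) (u : Set B) :=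
      (Ideal.disjoint_powers_iff_notMem g (Ideal.IsPrime.isRadical inferInstance)).2 hg
    let u' : Ideal B' := u.map (algebraMap B B')
    have : u'.IsPrime := IsLocalization.isPrime_of_isPrime_disjoint _ B' u inferInstance hdisj
    have hu' : u'.comap (algebraMap B B') = u := IsLocalization.comap_map_of_isPrime_disjoint _ B' inferInstance hdisj
    rw [← hu', ← Groth.Agent.WeakAssBC4.weakAss_baseChange_localization_iff (Submonoid.powers g)] at h
    obtain ⟨P⟩ := hse.nonempty_standardEtalePresentation
    let C := AdjoinRoot P.P.f
    let hh : C := AdjoinRoot.mk P.P.f P.P.g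
    let e : Localization.Away hh ≃ₐ[A] B' := (P.equivRing.trans P.P.equivAwayAdjoinRoot).symm
    letI : Algebra C B' := (e.toAlgHom.comp (IsScalarTower.toAlgHom A C _)).toRingHom.toAlgebra
    have : IsScalarTower A C B' := IsScalarTower.of_algebraMap_eq' (by
      ext a; exact ((e.toAlgHom.comp (IsScalarTower.toAlgHom A C _)).commutes a).symm)
    let e' : Localization.Away hh ≃ₐ[C] B' := { e with commutes' := fun c => rfl }
    have : IsLocalization.Away hh B' := IsLocalization.isLocalization_of_algEquiv _ e'
    have : Module.Finite A C := P.P.monic_f.finite_adjoinRoot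
    have : Module.Free A C := P.P.monic_f.free_adjoinRoot
    rw [Groth.Agent.WeakAssBC4.weakAss_baseChange_localization_iff (B := C) (Submonoid.powers hh)] at h
    have : (u'.comap (algebraMap C B')).LiesOver p := ⟨by
      rw [Ideal.under, Ideal.comap_comap, ← IsScalarTower.algebraMap_eq, IsScalarTower.algebraMap_eq A B B',
        ← Ideal.comap_comap, hu']
      exact u.over_def p⟩
    exact Groth.Agent.WeakAssBC4.weakAss_of_baseChange_finite_flat _ h
  · have := hq
    refine Algebra.QuasiFinite.eq_of_le_of_under_eq (R := A) q u hle (le_antisymm (Ideal.comap_mono hle) ?_)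
    rw [← u.over_def p]; exact hp

end Groth.Agent.S1233
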