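import Groth.Statements.S4848
import Groth.Agent.Lib.FlatSyz.Kernel
import Mathlib.RingTheory.FinitePresentation
import Mathlib.RingTheory.Flat.Stability

set_option autoImplicit false
universe u
open TensorProduct
open EGA43

namespace Groth.Agent.S4848

/-- A model over a finitely generated `ℤ`-subalgebra. -/
theorem exists_model {A₀ B₀ : Type u} [CommRing A₀] [CommRing B₀] [Algebra A₀ B₀]
    [Algebra.FinitePresentation A₀ B₀] (M₀ : Type u) [AddCommGroup M₀] [Module B₀ M₀] [Module A₀ M₀]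
    [IsScalarTower A₀ B₀ M₀] [Module.FinitePresentation B₀ M₀] :
    ∃ (R₀ : Subalgebra ℤ A₀) (n m : ℕ)
      (N₀ : Submodule (MvPolynomial (Fin n) R₀) (Fin m → MvPolynomial (Fin n) R₀)),
      R₀.FG ∧ Nonempty (A₀ ⊗[R₀] ((Fin m → MvPolynomial (Fin n) R₀) ⧸ N₀) ≃ₗ[A₀] M₀) := by
  classical
  obtain ⟨n, φ, hφ, hkerφ⟩ := Algebra.FinitePresentation.out (R := A₀) (A := B₀)
  let P := MvPolynomial (Fin n) A₀
  letI : Algebra P B₀ := φ.toRingHom.toAlgebra
  letI : Module P M₀ := Module.compHom M₀ φ.toRingHom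
  haveI : IsScalarTower P B₀ M₀ := IsScalarTower.of_algebraMap_smul fun _ _ => rfl
  haveI : IsScalarTower A₀ P M₀ := IsScalarTower.of_algebraMap_smul fun r x => by
    show φ (algebraMap A₀ P r) • x = r • x
    rw [AlgHom.commutes, algebraMap_smul]
  haveI : Module.FinitePresentation P B₀ :=
    Module.finitePresentation_of_surjective (Algebra.linearMap P B₀) hφ (by exact hkerφ)
  haveI : Module.FinitePresentation P M₀ := Module.FinitePresentation.trans P M₀ B₀
  obtain ⟨m, K, eM, hK⟩ := Module.FinitePresentation.exists_fin P M₀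
  obtain ⟨b, w, hw⟩ := Submodule.fg_iff_exists_fin_generating_family.1 hK
  let C : Set A₀ := ⋃ j : Fin b, ⋃ i : Fin m, ((w j i).coeffs : Set A₀)
  have hC : C.Finite := Set.finite_iUnion fun j => Set.finite_iUnion fun i => (w j i).coeffs.finite_toSet
  let R₀ : Subalgebra ℤ A₀ := Algebra.adjoin ℤ C
  have hlift : ∀ j i, ∃ p : MvPolynomial (Fin n) R₀, MvPolynomial.map (algebraMap R₀ A₀) p = w j i := by
    intro j i
    have h : w j i ∈ Set.range (MvPolynomial.map (σ := Fin n) (algebraMap R₀ A₀)) := by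
      rw [MvPolynomial.mem_range_map_iff_coeffs_subset]
      exact fun c hc => ⟨⟨c, Algebra.subset_adjoin (Set.mem_iUnion.2 ⟨j, Set.mem_iUnion.2 ⟨i, hc⟩⟩)⟩, rfl⟩
    obtain ⟨p, hp⟩ := h
    exact ⟨p, hp⟩
  choose w₀ hw₀ using hlift
  let N₀ := Submodule.span (MvPolynomial (Fin n) R₀) (Set.range w₀)
  have hN₀ : Groth.Agent.FlatSyz.mapSub A₀ N₀ = K := by
    rw [Groth.Agent.FlatSyz.mapSub_span, ← hw, ← Set.range_comp]
    exact congrArg _ (congrArg Set.range (funext fun j => funext (hw₀ j)))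
  obtain ⟨e⟩ := Groth.Agent.FlatSyz.nonempty_quotient_baseChange (A := A₀) N₀
  exact ⟨R₀, n, m, N₀, Subalgebra.fg_def.2 ⟨C, hC, rfl⟩,
    ⟨e.trans (((Submodule.quotEquivOfEq _ _ hN₀).trans eM.symm).restrictScalars A₀)⟩⟩

/-- Let A₀ be a commutative ring, (A_i) a directed system of A₀-algebras with colimit A, B₀ a finitely
presented A₀-algebra and M₀ a finitely presented B₀-module. Then the A-module A ⊗_{A₀} M₀ is flat if
and only if, for some index i, the A_i-module A_i ⊗_{A₀} M₀ is flat. -/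
theorem result {A₀ : Type u} [CommRing A₀]
    {ι : Type u} [Preorder ι] (G : ι → Type u) [∀ i, CommRing (G i)] [∀ i, Algebra A₀ (G i)]
    (g : ∀ i j, i ≤ j → G i →ₐ[A₀] G j)
    (A : Type u) [CommRing A] [Algebra A₀ A] [∀ i, Algebra (G i) A] [∀ i, IsScalarTower A₀ (G i) A]
    (hcolim : FlatCA.IsDirectedColimitRing G (fun i j h => (g i j h).toRingHom) A)
    {B₀ : Type u} [CommRing B₀] [Algebra A₀ B₀] [Algebra.FinitePresentation A₀ B₀]
    (M₀ : Type u) [AddCommGroup M₀] [Module B₀ M₀] [Module A₀ M₀] [IsScalarTower A₀ B₀ M₀]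
    [Module.FinitePresentation B₀ M₀] :
    Module.Flat A (A ⊗[A₀] M₀) ↔ ∃ i : ι, Module.Flat (G i) (G i ⊗[A₀] M₀) := by
  classical
  constructor
  · intro hflat
    obtain ⟨R₀, n, m, N₀, hR₀, ⟨e⟩⟩ := exists_model (A₀ := A₀) (B₀ := B₀) M₀
    haveI : IsNoetherianRing R₀ := isNoetherianRing_of_fg hR₀
    let M' := (Fin m → MvPolynomial (Fin n) R₀) ⧸ N₀
    let eS : ∀ (S : Type u) [CommRing S] [Algebra A₀ S], S ⊗[A₀] M₀ ≃ₗ[S] S ⊗[R₀] M' := fun S _ _ =>
      (e.symm.baseChange A₀ S _ _).trans (TensorProduct.AlgebraTensorModule.cancelBaseChange R₀ A₀ S S M')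
    haveI : Module.Flat A (A ⊗[R₀] M') := Module.Flat.of_linearEquiv (eS A).symm
    obtain ⟨B, hB, hBflat⟩ := Groth.Agent.FlatH4.exists_subalgebra_flat R₀ A (MvPolynomial (Fin n) R₀) M'
    haveI := hBflat B le_rfl hB
    haveI : Algebra.FiniteType R₀ B := B.fg_iff_finiteType.1 hB
    haveI : Algebra.FinitePresentation R₀ B := Algebra.FinitePresentation.of_finiteType.1 inferInstance
    obtain ⟨k, φ, hφ, hkerφ⟩ := Algebra.FinitePresentation.out (R := R₀) (A := B)
    obtain ⟨hdir, hne, hid, hcomp, hcompat, hsurj, hzero⟩ := hcolim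
    haveI := hdir
    haveI := hne
    -- lift the generators
    choose iy xy hxy using fun y : Fin k => hsurj (φ (MvPolynomial.X y) : A)
    obtain ⟨i, hi⟩ := Finite.exists_le iy
    let ψ : MvPolynomial (Fin k) R₀ →ₐ[R₀] G i := MvPolynomial.aeval fun y => g (iy y) i (hi y) (xy y)
    have hψ : ∀ p, algebraMap (G i) A (ψ p) = (φ p : A) := by
      have hext : (IsScalarTower.toAlgHom R₀ (G i) A).comp ψ = B.val.comp φ := by
        refine MvPolynomial.algHom_ext fun y => ?_
        simp only [ψ, AlgHom.comp_apply, MvPolynomial.aeval_X]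
        exact (RingHom.congr_fun (hcompat (iy y) i (hi y)) (xy y)).trans (hxy y)
      exact fun p => AlgHom.congr_fun hext p
    -- kill the relations
    obtain ⟨rel, hrel⟩ := hkerφ
    have hk : ∀ r : rel, ∃ j, ∃ h : i ≤ j, g i j h (ψ r) = 0 := fun r => hzero i (ψ r) (by
      have hr : φ r = 0 := hrel.le (Ideal.subset_span r.2)
      rw [hψ, hr]; rfl)
    choose jr hij hjr using hk
    obtain ⟨j₀, hj₀⟩ := Finite.exists_le jr
    obtain ⟨j, hij₀, hjj₀⟩ := directed_of (· ≤ ·) i j₀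
    let ψj : MvPolynomial (Fin k) R₀ →ₐ[R₀] G j := ((g i j hij₀).restrictScalars R₀).comp ψ
    have hker : RingHom.ker φ.toRingHom ≤ RingHom.ker ψj.toRingHom := by
      rw [show RingHom.ker φ.toRingHom = Ideal.span (rel : Set _) from hrel.symm, Ideal.span_le]
      intro r hr
      show g i j hij₀ (ψ r) = 0
      have h1 : g (jr ⟨r, hr⟩) j ((hj₀ _).trans hjj₀) (g i (jr ⟨r, hr⟩) (hij _) (ψ r)) =
          g i j hij₀ (ψ r) :=
        RingHom.congr_fun (hcomp i (jr ⟨r, hr⟩) j (hij _) ((hj₀ _).trans hjj₀)) (ψ r)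
      rw [← h1, hjr ⟨r, hr⟩, map_zero]
    let χ : B →ₐ[R₀] G j :=
      { RingHom.liftOfSurjective φ.toRingHom hφ ⟨ψj.toRingHom, hker⟩ with
        commutes' := fun r => by
          show RingHom.liftOfSurjective φ.toRingHom hφ ⟨ψj.toRingHom, hker⟩ (algebraMap R₀ B r) = _
          rw [← φ.commutes r]
          exact (RingHom.liftOfRightInverse_comp_apply _ _ _ _ _).trans (ψj.commutes r) }
    letI : Algebra B (G j) := χ.toRingHom.toAlgebra
    haveI : IsScalarTower R₀ B (G j) := IsScalarTower.of_algebraMap_eq fun r => (χ.commutes r).symm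
    refine ⟨j, Module.Flat.of_linearEquiv ((eS (G j)).trans
      (TensorProduct.AlgebraTensorModule.cancelBaseChange R₀ B (G j) (G j) M').symm)⟩
  · rintro ⟨i, hi⟩
    exact Module.Flat.of_linearEquiv
      (TensorProduct.AlgebraTensorModule.cancelBaseChange A₀ (G i) A A M₀).symm

end Groth.Agent.S4848
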