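import Groth.Statements.S1217
import Groth.Agent.Lib.FlatElem4.Spread
import Groth.Agent.Lib.CI2.FibAss
import Mathlib.RingTheory.FiniteType
import Mathlib.RingTheory.Flat.FaithfullyFlat.Algebra
import Mathlib.RingTheory.Flat.Stability
import Mathlib.RingTheory.Ideal.GoingDown
import Mathlib.RingTheory.Etale.Basic

set_option autoImplicit false
universe u
open FlatMor

set_option backward.isDefEq.respectTransparency.types false

namespace Groth.Agent.S1217


open TensorProduct

attribute [local instance] Algebra.TensorProduct.rightAlgebra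

set_option maxHeartbeats 1600000 in
/-- An associated prime of a fibre lifts to an associated prime of the fibre after base change. -/
theorem exists_assoc_over {A B : Type u} [CommRing A] [CommRing B] [Algebra A B] [Algebra.FiniteType A B]
    (N : Type u) [AddCommGroup N] [Module B N] [Module A N] [IsScalarTower A B N]
    (A₂ B₂ N₂ : Type u) [CommRing A₂] [CommRing B₂] [Algebra A A₂] [Algebra B B₂] [Algebra A₂ B₂] [Algebra A B₂]
    [IsScalarTower A B B₂] [IsScalarTower A A₂ B₂] [Algebra.IsPushout A A₂ B B₂]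
    [AddCommGroup N₂] [Module B₂ N₂] [Module B N₂] [IsScalarTower B B₂ N₂] [Module A₂ N₂] [IsScalarTower A₂ B₂ N₂]
    (f : N →ₗ[B] N₂) (hf : IsBaseChange B₂ f)
    (t : Ideal A) [t.IsPrime] (t₂ : Ideal A₂) [t₂.IsPrime] [t₂.LiesOver t]
    (P : Ideal B) [P.IsPrime] (hPt : P.LiesOver t)
    (hP : FlatCA.fiberIdeal t P ∈ associatedPrimes (t.Fiber B) (FlatCA.fiberMod t B N)) :
    ∃ P₂ : Ideal B₂, P₂.IsPrime ∧ P₂.LiesOver t₂ ∧ P₂.comap (algebraMap B B₂) = P ∧
      FlatCA.fiberIdeal t₂ P₂ ∈ associatedPrimes (t₂.Fiber B₂) (FlatCA.fiberMod t₂ B₂ N₂) := by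
  let κ₁ := t.ResidueField
  let κ₂ := t₂.ResidueField
  letI : Algebra κ₁ κ₂ := (Ideal.ResidueField.mapₐ t t₂ (Algebra.ofId A A₂) Ideal.LiesOver.over).toRingHom.toAlgebra
  haveI : IsScalarTower A κ₁ κ₂ := IsScalarTower.of_algebraMap_eq fun a =>
    ((Ideal.ResidueField.mapₐ t t₂ (Algebra.ofId A A₂) Ideal.LiesOver.over).commutes a).symm
  let F₁ := t.Fiber B
  let F₂ := t₂.Fiber B₂
  letI : Algebra B F₂ := ((algebraMap B₂ F₂).comp (algebraMap B B₂)).toAlgebra
  haveI : IsScalarTower B B₂ F₂ := IsScalarTower.of_algebraMap_eq fun _ => rfl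
  haveI : IsScalarTower A A₂ F₂ := IsScalarTower.of_algebraMap_eq fun a => by
    rw [IsScalarTower.algebraMap_apply A₂ κ₂ F₂, ← IsScalarTower.algebraMap_apply A A₂ κ₂, ← IsScalarTower.algebraMap_apply A κ₂ F₂]
  haveI : IsScalarTower A B₂ F₂ := IsScalarTower.of_algebraMap_eq fun a => by
    rw [IsScalarTower.algebraMap_apply A A₂ B₂, ← IsScalarTower.algebraMap_apply A₂ B₂ F₂, ← IsScalarTower.algebraMap_apply A A₂ F₂]
  haveI : IsScalarTower A B F₂ := IsScalarTower.of_algebraMap_eq fun a => by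
    rw [IsScalarTower.algebraMap_apply B B₂ F₂, ← IsScalarTower.algebraMap_apply A B B₂, ← IsScalarTower.algebraMap_apply A B₂ F₂]
  let ρ : F₁ →ₐ[A] F₂ := Algebra.TensorProduct.lift
    ((IsScalarTower.toAlgHom A κ₂ F₂).comp (IsScalarTower.toAlgHom A κ₁ κ₂)) (IsScalarTower.toAlgHom A B F₂)
    fun _ _ => mul_comm _ _
  letI : Algebra F₁ F₂ := ρ.toRingHom.toAlgebra
  haveI : IsScalarTower A κ₁ F₂ := IsScalarTower.of_algebraMap_eq fun a => by
    rw [IsScalarTower.algebraMap_apply κ₁ κ₂ F₂, ← IsScalarTower.algebraMap_apply A κ₁ κ₂, ← IsScalarTower.algebraMap_apply A κ₂ F₂]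
  haveI : IsScalarTower κ₁ F₁ F₂ := IsScalarTower.of_algebraMap_eq (R := κ₁) (S := F₁) (A := F₂) fun x => by
    show _ = (algebraMap κ₂ F₂ (algebraMap κ₁ κ₂ x)) * algebraMap B F₂ 1
    rw [map_one, mul_one]
    exact IsScalarTower.algebraMap_apply κ₁ κ₂ F₂ x
  haveI : IsScalarTower B F₁ F₂ := IsScalarTower.of_algebraMap_eq fun b => by
    show _ = (algebraMap κ₂ F₂ (algebraMap κ₁ κ₂ 1)) * algebraMap B F₂ b
    rw [map_one, map_one, one_mul]
  haveI : IsScalarTower A F₁ F₂ := IsScalarTower.of_algebraMap_eq fun a => (ρ.commutes a).symm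
  haveI : Algebra.IsPushout A₂ κ₂ B₂ F₂ := TensorProduct.isPushout
  haveI : Algebra.IsPushout A κ₁ B F₁ := TensorProduct.isPushout
  haveI : Algebra.IsPushout A κ₂ B F₂ :=
    (Algebra.IsPushout.comp_iff (R := A) (S := A₂) (T := κ₂) (R' := B) (S' := B₂) (T' := F₂)).2 inferInstance
  haveI hpo : Algebra.IsPushout κ₁ κ₂ F₁ F₂ :=
    (Algebra.IsPushout.comp_iff (R := A) (S := κ₁) (T := κ₂) (R' := B) (S' := F₁) (T' := F₂)).1 inferInstance
  haveI : Algebra.IsPushout κ₁ F₁ κ₂ F₂ := hpo.symm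
  haveI : Module.FaithfullyFlat F₁ F₂ :=
    Module.FaithfullyFlat.of_linearEquiv _ _ (Algebra.IsPushout.equiv κ₁ F₁ κ₂ F₂).toLinearEquiv.symm
  haveI : Algebra.FiniteType A₂ B₂ :=
    Algebra.FiniteType.equiv (A := A₂ ⊗[A] B) inferInstance (Algebra.IsPushout.equiv A A₂ B B₂)
  haveI : IsNoetherianRing F₁ := Algebra.FiniteType.isNoetherianRing κ₁ F₁
  haveI : IsNoetherianRing F₂ := Algebra.FiniteType.isNoetherianRing κ₂ F₂
  let h : N →ₗ[B] F₂ ⊗[B₂] N₂ := ((TensorProduct.mk B₂ F₂ N₂ 1).restrictScalars B) ∘ₗ f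
  have hh : IsBaseChange F₂ h := hf.comp (TensorProduct.isBaseChange B₂ N₂ F₂)
  let g : F₁ ⊗[B] N →ₗ[F₁] F₂ ⊗[B₂] N₂ := h.liftBaseChange F₁
  have hg : IsBaseChange F₂ g := IsBaseChange.of_comp (TensorProduct.isBaseChange B N F₁) (by
    have : (g.restrictScalars B) ∘ₗ (TensorProduct.mk B F₁ N 1) = h := LinearMap.ext fun n => by simp [g]
    rw [this]; exact hh)
  obtain ⟨hPp, x, hx⟩ := isAssociatedPrime_iff.1 (show IsAssociatedPrime (FlatCA.fiberIdeal t P) (F₁ ⊗[B] N) from hP)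
  let x₂ : F₂ ⊗[B₂] N₂ := g x
  let J : Ideal F₂ := Submodule.colon (⊥ : Submodule F₂ (F₂ ⊗[B₂] N₂)) {x₂}
  have hJ : J ≤ (FlatCA.fiberIdeal t P).map (algebraMap F₁ F₂) := fun b hb => by
    have hb' : b • ((1 : F₂) ⊗ₜ[F₁] x) = 0 := hg.equiv.injective (by
      rw [map_smul, map_zero, IsBaseChange.equiv_tmul, one_smul]
      exact (Submodule.mem_colon_singleton.1 hb))
    have := Groth.Agent.FlatElem4.mem_map_of_smul_mem_baseChange F₂ (⊥ : Submodule F₁ (F₁ ⊗[B] N)) x b
      (by rw [hb']; exact zero_mem _)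
    refine Ideal.map_mono (fun a ha => ?_) this
    rw [hx, Submodule.mem_colon_singleton]
    exact (Submodule.Quotient.mk_eq_zero _).1 ha
  have hJ' : (FlatCA.fiberIdeal t P).map (algebraMap F₁ F₂) ≤ J := Ideal.map_le_iff_le_comap.2 fun a ha => by
    rw [hx, Submodule.mem_colon_singleton, Submodule.mem_bot] at ha
    rw [Ideal.mem_comap, Submodule.mem_colon_singleton, Submodule.mem_bot, algebraMap_smul, ← map_smul, ha, map_zero]
  haveI := hPp
  obtain ⟨Q₀, hQ₀⟩ := PrimeSpectrum.comap_surjective_of_faithfullyFlat (A := F₁) (B := F₂) ⟨FlatCA.fiberIdeal t P, hPp⟩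
  have hQ₀' : Q₀.asIdeal.comap (algebraMap F₁ F₂) = FlatCA.fiberIdeal t P := congrArg PrimeSpectrum.asIdeal hQ₀
  obtain ⟨Q, hQ, hQle⟩ := Ideal.exists_minimalPrimes_le (J := Q₀.asIdeal) (I := J)
    (hJ.trans (Ideal.map_le_iff_le_comap.2 hQ₀'.ge))
  haveI hQp : Q.IsPrime := hQ.1.1
  have hQc : Q.comap (algebraMap F₁ F₂) = FlatCA.fiberIdeal t P :=
    le_antisymm ((Ideal.comap_mono hQle).trans hQ₀'.le) (Ideal.map_le_iff_le_comap.1 (hJ'.trans hQ.1.2))
  refine ⟨Q.comap (algebraMap B₂ F₂), inferInstance, ⟨?_⟩, ?_, ?_⟩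
  · ext a
    rw [Ideal.mem_comap, Ideal.mem_comap, ← IsScalarTower.algebraMap_apply A₂ B₂ F₂,
      IsScalarTower.algebraMap_apply A₂ κ₂ F₂]
    refine ⟨fun ha => by rw [Ideal.algebraMap_residueField_eq_zero.2 ha, map_zero]; exact Q.zero_mem, fun ha => ?_⟩
    by_contra hne
    exact hQp.ne_top (Ideal.eq_top_of_isUnit_mem _ ha
      ((isUnit_iff_ne_zero.2 fun h => hne (Ideal.algebraMap_residueField_eq_zero.1 h)).map _))
  · rw [Ideal.comap_comap, ← IsScalarTower.algebraMap_eq, IsScalarTower.algebraMap_eq B F₁ F₂, ← Ideal.comap_comap, hQc]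
    refine le_antisymm (fun b hb => ?_) Ideal.le_comap_map
    letI : Algebra κ₁ P.ResidueField := (Ideal.ResidueField.mapₐ t P (Algebra.ofId A B) hPt.over).toRingHom.toAlgebra
    let χ : F₁ →ₐ[A] P.ResidueField := Algebra.TensorProduct.lift
      (Ideal.ResidueField.mapₐ t P (Algebra.ofId A B) hPt.over) (IsScalarTower.toAlgHom A B P.ResidueField)
      fun _ _ => mul_comm _ _
    have hker : FlatCA.fiberIdeal t P ≤ RingHom.ker χ.toRingHom := Ideal.map_le_iff_le_comap.2 fun c hc => by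
      show Ideal.ResidueField.mapₐ t P (Algebra.ofId A B) hPt.over 1 * algebraMap B P.ResidueField c = 0
      rw [Ideal.algebraMap_residueField_eq_zero.2 hc, mul_zero]
    have h0 : χ (1 ⊗ₜ[A] b) = 0 := hker hb
    change Ideal.ResidueField.mapₐ t P (Algebra.ofId A B) hPt.over 1 * algebraMap B P.ResidueField b = 0 at h0
    rw [map_one, one_mul] at h0
    exact Ideal.algebraMap_residueField_eq_zero.1 h0
  · have he : FlatCA.fiberIdeal t₂ (Q.comap (algebraMap B₂ F₂)) = Q := by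
      refine le_antisymm (Ideal.map_le_iff_le_comap.2 le_rfl) fun z hz => ?_
      obtain ⟨s, hs, a, ha⟩ := Groth.Agent.CI2.FibAss.fib_frac t₂ z
      obtain ⟨u, hu⟩ := Groth.Agent.CI2.FibAss.isUnit_inc (S := B₂) t₂ hs
      have hz' : z = (↑u⁻¹ : F₂) * Groth.Agent.CI2.FibAss.inc t₂ a := by rw [← ha, ← hu, Units.inv_mul_cancel_left]
      have haQ : a ∈ Q.comap (algebraMap B₂ F₂) := by
        show Groth.Agent.CI2.FibAss.inc t₂ a ∈ Q
        rw [← ha]
        exact Q.mul_mem_left _ hz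
      rw [hz']
      exact Ideal.mul_mem_left _ _ (Ideal.mem_map_of_mem _ haQ)
    rw [he]
    show IsAssociatedPrime Q (F₂ ⊗[B₂] N₂)
    obtain ⟨y, hy⟩ := Submodule.exists_eq_colon_of_mem_minimalPrimes (x := x₂) hQ
    exact isAssociatedPrime_iff.2 ⟨hQp, y, hy⟩

/-- An impurity lifts along a base change flat at the point. -/
theorem exists_lift {A : Type u} [CommRing A] (A' : Type u) [CommRing A'] [Algebra A A'] (p' : Ideal A') [p'.IsPrime]
    [Module.Flat A (Localization.AtPrime p')] (A₁ : Type u) [CommRing A₁] [Algebra A A₁] (t' t : Ideal A₁) [t'.IsPrime]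
    [t.IsPrime] (htt : t' ≤ t) (L : Type u) [Field L] (χ : A' ⊗[A] A₁ →+* L)
    (hχ' : ∀ a, χ (a ⊗ₜ 1) = 0 ↔ a ∈ p') (hχ : ∀ a, χ (1 ⊗ₜ a) = 0 ↔ a ∈ t) :
    ∃ e' : Ideal (A' ⊗[A] A₁), e'.IsPrime ∧ e' ≤ RingHom.ker χ ∧
      e'.comap (algebraMap A₁ (A' ⊗[A] A₁)) = t' := by
  let E := Localization.AtPrime p' ⊗[A] A₁
  let ι : A' ⊗[A] A₁ →ₐ[A] E :=
    Algebra.TensorProduct.map (IsScalarTower.toAlgHom A A' (Localization.AtPrime p')) (AlgHom.id A A₁)
  let l : A' →+* L := χ.comp Algebra.TensorProduct.includeLeftRingHom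
  let l' : Localization.AtPrime p' →+* L :=
    IsLocalization.lift (M := p'.primeCompl) (g := l) fun s => isUnit_iff_ne_zero.2 fun h => s.2 ((hχ' s).1 h)
  letI : Algebra A L := (χ.comp (algebraMap A (A' ⊗[A] A₁))).toAlgebra
  let χ' : E →ₐ[A] L := Algebra.TensorProduct.lift
    { toRingHom := l'
      commutes' := fun a => by
        show l' (algebraMap A (Localization.AtPrime p') a) = _
        rw [IsScalarTower.algebraMap_apply A A' (Localization.AtPrime p'), IsLocalization.lift_eq]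
        rfl }
    { toRingHom := χ.comp (Algebra.TensorProduct.includeRight (R := A) (A := A') (B := A₁)).toRingHom
      commutes' := fun a => congrArg χ ((Algebra.TensorProduct.includeRight (R := A) (A := A') (B := A₁)).commutes a) }
    fun _ _ => mul_comm _ _
  have hcomp : ∀ z, χ' (ι z) = χ z := by
    intro z
    induction z using TensorProduct.induction_on with
    | zero => simp
    | add a b ha hb => simp only [map_add, ha, hb]
    | tmul a b =>
      show l' (algebraMap A' _ a) * χ (1 ⊗ₜ[A] b) = χ (a ⊗ₜ[A] b)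
      rw [IsLocalization.lift_eq]
      show χ (a ⊗ₜ[A] 1) * χ (1 ⊗ₜ[A] b) = _
      rw [← map_mul, Algebra.TensorProduct.tmul_mul_tmul, one_mul, mul_one]
  haveI : Module.Flat A₁ E := Module.Flat.of_linearEquiv
    ((Algebra.IsPushout.equiv A A₁ (Localization.AtPrime p') E).toLinearEquiv).symm
  haveI : (RingHom.ker χ'.toRingHom).IsPrime := RingHom.ker_isPrime _
  have hι : ∀ a, ι (1 ⊗ₜ[A] a) = (1 : Localization.AtPrime p') ⊗ₜ[A] a := fun a => by
    show (IsScalarTower.toAlgHom A A' (Localization.AtPrime p') 1) ⊗ₜ[A] a = _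
    rw [map_one]
  haveI : (RingHom.ker χ'.toRingHom).LiesOver t := ⟨Ideal.ext fun a => by
    show a ∈ t ↔ χ' (1 ⊗ₜ[A] a) = 0
    rw [← hχ a, ← hι a, hcomp]⟩
  obtain ⟨e, hle, hep, hover⟩ := Ideal.exists_ideal_le_liesOver_of_le (RingHom.ker χ'.toRingHom) htt
  refine ⟨e.comap ι.toRingHom, inferInstance, fun z hz => ?_, ?_⟩
  · rw [RingHom.mem_ker, ← hcomp]
    exact hle hz
  · rw [hover.over]
    ext a
    show ι (1 ⊗ₜ a) ∈ e ↔ (1 : Localization.AtPrime p') ⊗ₜ[A] a ∈ e
    rw [hι]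

set_option maxHeartbeats 1600000 in
/-- An impurity above `p` gives an impurity above `p'`. -/
theorem false_of_impurity {A B : Type u} [CommRing A] [CommRing B] [Algebra A B] [Algebra.FiniteType A B]
    (N : Type u) [AddCommGroup N] [Module B N] (p : Ideal A) [p.IsPrime]
    (A' B' N' : Type u) [CommRing A'] [CommRing B'] [Algebra A A'] [Algebra B B'] [Algebra A' B'] [Algebra A B']
    [IsScalarTower A B B'] [IsScalarTower A A' B'] [Algebra.IsPushout A B A' B']
    [AddCommGroup N'] [Module B' N'] [Module B N'] [IsScalarTower B B' N'] (f : N →ₗ[B] N') (hf : IsBaseChange B' f)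
    (p' : Ideal A') [p'.IsPrime] [p'.LiesOver p] [Module.Flat A (Localization.AtPrime p')]
    {A₁ B₁ N₁ : Type u} [CommRing A₁] [CommRing B₁] [Algebra A A₁] [Algebra B B₁] [Algebra A₁ B₁] [Algebra A B₁]
    [IsScalarTower A B B₁] [IsScalarTower A A₁ B₁] [AddCommGroup N₁] [Module B₁ N₁] [Module B N₁]
    [IsScalarTower B B₁ N₁] [Module A₁ N₁] [IsScalarTower A₁ B₁ N₁] (g : N →ₗ[B] N₁) (t' t : Ideal A₁) [t'.IsPrime]
    [t.IsPrime] (P : Ideal B₁) [P.IsPrime] (himp : FlatCA.IsImpurity A B N p A₁ B₁ N₁ g t' t P)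
    (L : Type u) [Field L] (χ : A' ⊗[A] A₁ →+* L) (hχ' : ∀ a, χ (a ⊗ₜ 1) = 0 ↔ a ∈ p')
    (hχ : ∀ a, χ (1 ⊗ₜ a) = 0 ↔ a ∈ t) :
    ∃ (B₂ N₂ : Type u) (_ : CommRing B₂) (_ : Algebra B' B₂) (_ : Algebra (A' ⊗[A] A₁) B₂) (_ : Algebra A' B₂)
      (_ : IsScalarTower A' B' B₂) (_ : IsScalarTower A' (A' ⊗[A] A₁) B₂) (_ : AddCommGroup N₂) (_ : Module B₂ N₂)
      (_ : Module B' N₂) (_ : IsScalarTower B' B₂ N₂) (_ : Module (A' ⊗[A] A₁) N₂)
      (_ : IsScalarTower (A' ⊗[A] A₁) B₂ N₂) (k : N' →ₗ[B'] N₂) (e' : Ideal (A' ⊗[A] A₁)) (_ : e'.IsPrime)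
      (P₂ : Ideal B₂) (_ : P₂.IsPrime) (_ : (RingHom.ker χ).IsPrime),
      FlatCA.IsImpurity A' B' N' p' (A' ⊗[A] A₁) B₂ N₂ k e' (RingHom.ker χ) P₂ := by
  obtain ⟨hpush, hbc, htt, htp, hPt, hass, hno⟩ := himp
  obtain ⟨e', he'p, he'le, he't⟩ := exists_lift A' p' A₁ t' t htt L χ hχ' hχ
  haveI : e'.LiesOver t' := ⟨he't.symm⟩
  let A₂ := A' ⊗[A] A₁
  let B₂ := A₂ ⊗[A₁] B₁
  haveI : Algebra.IsPushout A A₁ B B₁ := hpush.symm
  haveI : Algebra.FiniteType A₁ B₁ :=
    Algebra.FiniteType.equiv (A := A₁ ⊗[A] B) inferInstance (Algebra.IsPushout.equiv A A₁ B B₁)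
  haveI : Algebra.IsPushout A₁ A₂ B₁ B₂ := TensorProduct.isPushout
  let N₂ := B₂ ⊗[B₁] N₁
  letI : Algebra B B₂ := ((algebraMap B₁ B₂).comp (algebraMap B B₁)).toAlgebra
  haveI : IsScalarTower B B₁ B₂ := IsScalarTower.of_algebraMap_eq fun _ => rfl
  haveI : IsScalarTower A A' B₂ := IsScalarTower.of_algebraMap_eq (R := A) (S := A') (A := B₂) fun a => by
    rw [IsScalarTower.algebraMap_apply A' A₂ B₂, ← IsScalarTower.algebraMap_apply A A' A₂, ← IsScalarTower.algebraMap_apply A A₂ B₂]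
  haveI : IsScalarTower A A₁ B₂ := IsScalarTower.of_algebraMap_eq (R := A) (S := A₁) (A := B₂) fun a => by
    rw [IsScalarTower.algebraMap_apply A₁ A₂ B₂, ← IsScalarTower.algebraMap_apply A A₁ A₂, ← IsScalarTower.algebraMap_apply A A₂ B₂]
  haveI : IsScalarTower A B₁ B₂ := IsScalarTower.of_algebraMap_eq fun a => by
    rw [IsScalarTower.algebraMap_apply A A₁ B₁, ← IsScalarTower.algebraMap_apply A₁ B₁ B₂, ← IsScalarTower.algebraMap_apply A A₁ B₂]
  haveI : IsScalarTower A B B₂ := IsScalarTower.of_algebraMap_eq fun a => by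
    rw [IsScalarTower.algebraMap_apply B B₁ B₂, ← IsScalarTower.algebraMap_apply A B B₁, ← IsScalarTower.algebraMap_apply A B₁ B₂]
  letI : Algebra B' B₂ := (Algebra.pushoutDesc (R := A) (S := B) (R' := A') B'
    (IsScalarTower.toAlgHom A B B₂) (IsScalarTower.toAlgHom A A' B₂) (fun _ _ => mul_comm _ _)).toRingHom.toAlgebra
  haveI : IsScalarTower B B' B₂ := IsScalarTower.of_algebraMap_eq fun b =>
    (Algebra.pushoutDesc_left (R := A) (S := B) (R' := A') (S' := B')
      (IsScalarTower.toAlgHom A B B₂) (IsScalarTower.toAlgHom A A' B₂) (fun _ _ => mul_comm _ _) b).symm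
  haveI : IsScalarTower A' B' B₂ := IsScalarTower.of_algebraMap_eq fun a =>
    (Algebra.pushoutDesc_right (R := A) (S := B) (R' := A') (S' := B')
      (IsScalarTower.toAlgHom A B B₂) (IsScalarTower.toAlgHom A A' B₂) (fun _ _ => mul_comm _ _) a).symm
  haveI : Algebra.IsPushout A B A₂ B₂ := Algebra.IsPushout.symm
    ((Algebra.IsPushout.comp_iff (R := A) (S := A₁) (T := A₂) (R' := B) (S' := B₁) (T' := B₂)).2 inferInstance)
  haveI : Algebra.IsPushout A A' B B' := Algebra.IsPushout.symm inferInstance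
  haveI : Algebra.IsPushout A A₂ B B₂ := Algebra.IsPushout.symm inferInstance
  haveI hpo : Algebra.IsPushout A' A₂ B' B₂ :=
    (Algebra.IsPushout.comp_iff (R := A) (S := A') (T := A₂) (R' := B) (S' := B') (T' := B₂)).1 inferInstance
  haveI : IsScalarTower B B₁ N₂ := IsScalarTower.of_algebraMap_smul fun b x => by
    rw [← algebraMap_smul B₂ (algebraMap B B₁ b) x, ← IsScalarTower.algebraMap_apply, algebraMap_smul]
  haveI : IsScalarTower B B' N₂ := IsScalarTower.of_algebraMap_smul (R := B) (A := B') (M := N₂) fun b x => by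
    rw [← algebraMap_smul B₂ (algebraMap B B' b) x, ← IsScalarTower.algebraMap_apply, algebraMap_smul]
  let g₂ : N₁ →ₗ[B₁] N₂ := TensorProduct.mk B₁ B₂ N₁ 1
  have hg₂ : IsBaseChange B₂ g₂ := TensorProduct.isBaseChange B₁ N₁ B₂
  let c : N →ₗ[B] N₂ := (g₂.restrictScalars B) ∘ₗ g
  have hc : IsBaseChange B₂ c := hbc.comp hg₂
  let k : N' →ₗ[B'] N₂ := hf.lift c
  have hk : IsBaseChange B₂ k := IsBaseChange.of_comp hf (by
    rw [show (k : N' →ₗ[B] N₂) ∘ₗ f = c from hf.lift_comp c]; exact hc)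
  have h4 := exists_assoc_over (A := A₁) (B := B₁) N₁ A₂ B₂ N₂
  have h5 := h4 g₂ hg₂
  obtain ⟨P₂, hP₂p, hP₂t, hP₂P, hP₂a⟩ := h5 t' e' P hPt hass
  haveI hker : (RingHom.ker χ).IsPrime := RingHom.ker_isPrime _
  haveI := he'p
  haveI := hP₂p
  have hover : (RingHom.ker χ).LiesOver p' := ⟨Ideal.ext fun a => by
    rw [Ideal.under_def, Ideal.mem_comap, RingHom.mem_ker, Algebra.TensorProduct.algebraMap_apply, ← hχ' a,
      Algebra.algebraMap_self, RingHom.id_apply]⟩
  refine ⟨B₂, N₂, inferInstance, inferInstance, inferInstance, inferInstance, inferInstance, inferInstance,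
    inferInstance, inferInstance, inferInstance, inferInstance, inferInstance, inferInstance, k, e', he'p, P₂, hP₂p,
    hker, ⟨hpo.symm, hk, he'le, hover, hP₂t, hP₂a, fun P' _ hle hP' => ?_⟩⟩
  refine hno (P'.comap (algebraMap B₁ B₂)) (hP₂P ▸ Ideal.comap_mono hle) ⟨Ideal.ext fun a => ?_⟩
  rw [← hχ a, Ideal.mem_comap, Ideal.mem_comap, ← IsScalarTower.algebraMap_apply A₁ B₁ B₂,
    IsScalarTower.algebraMap_apply A₁ A₂ B₂, ← Ideal.mem_comap, ← Ideal.under_def, ← hP'.over]
  rfl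


/-- Ring form, X = Spec B affine: let B be a finite type A-algebra, N a finite B-module, p a prime of A,
and A' an A-algebra with a prime p' over p such that the local ring of A' at p' is flat over A. Let
B', N' be the base changes of B, N to A'. If N' is pure along the fibre over p' then N is pure along
the fibre over p, and likewise for universal purity. -/
theorem result {A B : Type u} [CommRing A] [CommRing B] [Algebra A B] [Algebra.FiniteType A B]
    (N : Type u) [AddCommGroup N] [Module B N] [Module.Finite B N] (p : Ideal A) [p.IsPrime]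
    (A' B' N' : Type u) [CommRing A'] [CommRing B'] [Algebra A A'] [Algebra B B'] [Algebra A' B'] [Algebra A B']
    [IsScalarTower A B B'] [IsScalarTower A A' B'] [Algebra.IsPushout A B A' B']
    [AddCommGroup N'] [Module B' N'] [Module B N'] [IsScalarTower B B' N'] (f : N →ₗ[B] N') (hf : IsBaseChange B' f)
    (p' : Ideal A') [p'.IsPrime] [p'.LiesOver p] [Module.Flat A (Localization.AtPrime p')] :
    (FlatCA.IsPureAlong A' B' N' p' → FlatCA.IsPureAlong A B N p) ∧
    (FlatCA.IsUnivPureAlong A' B' N' p' → FlatCA.IsUnivPureAlong A B N p) := by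
  intros
  refine ⟨fun hpure A₁ B₁ N₁ _ _ _ _ _ _ _ _ _ _ _ _ _ _ g t' t _ _ P _ het himp => ?_,
    fun hpure A₁ B₁ N₁ _ _ _ _ _ _ _ _ _ _ _ _ _ _ g t' t _ _ P _ himp => ?_⟩
  · haveI := het.1
    haveI := het.2.choose
    let e := RingEquiv.ofBijective (Ideal.ResidueField.mapₐ p t (Algebra.ofId A A₁) (Ideal.LiesOver.over)).toRingHom het.2.choose_spec
    let ψ : A₁ →+* p'.ResidueField :=
      ((Ideal.ResidueField.mapₐ p p' (Algebra.ofId A A') (Ideal.LiesOver.over)).toRingHom.comp e.symm.toRingHom).comp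
        (algebraMap A₁ t.ResidueField)
    let ψA : A₁ →ₐ[A] p'.ResidueField := { ψ with
      commutes' := fun a => by
        show (Ideal.ResidueField.mapₐ p p' (Algebra.ofId A A') _) (e.symm (algebraMap A₁ t.ResidueField (algebraMap A A₁ a))) = _
        rw [← IsScalarTower.algebraMap_apply, show algebraMap A t.ResidueField a = e (algebraMap A p.ResidueField a) from
          ((Ideal.ResidueField.mapₐ p t (Algebra.ofId A A₁) (Ideal.LiesOver.over)).commutes a).symm,
          RingEquiv.symm_apply_apply, AlgHom.commutes] }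
    let χ : A' ⊗[A] A₁ →+* p'.ResidueField :=
      (Algebra.TensorProduct.lift (IsScalarTower.toAlgHom A A' p'.ResidueField) ψA fun _ _ => mul_comm _ _).toRingHom
    obtain ⟨B₂, N₂, i1, i2, i3, i4, i5, i6, i7, i8, i9, i10, i11, i12, k, e', i13, P₂, i14, i15, himp₂⟩ :=
      false_of_impurity N p A' B' N' f hf p' g t' t P himp p'.ResidueField χ
        (fun a => by simp [χ, Ideal.algebraMap_residueField_eq_zero])
        (fun a => by simp [χ, ψA, ψ, Ideal.algebraMap_residueField_eq_zero])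
    refine hpure _ B₂ N₂ k e' (RingHom.ker χ) P₂ ⟨inferInstance, himp₂.2.2.2.1, ?_⟩ himp₂
    haveI := himp₂.2.2.2.1
    refine ⟨RingHom.injective _, fun y => ?_⟩
    let back : (RingHom.ker χ).ResidueField →+* p'.ResidueField := Ideal.ResidueField.lift (RingHom.ker χ) χ le_rfl
      (fun z hz => isUnit_iff_ne_zero.2 hz)
    refine ⟨back y, back.injective ?_⟩
    have hid : back.comp (Ideal.ResidueField.mapₐ p' (RingHom.ker χ) (Algebra.ofId A' (A' ⊗[A] A₁))
        Ideal.LiesOver.over).toRingHom = RingHom.id _ := Ideal.ResidueField.ringHom_ext (RingHom.ext fun a => by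
      show back (Ideal.ResidueField.mapₐ p' _ (Algebra.ofId A' (A' ⊗[A] A₁)) _ (algebraMap A' p'.ResidueField a)) = _
      rw [AlgHom.commutes, IsScalarTower.algebraMap_apply A' (A' ⊗[A] A₁) (RingHom.ker χ).ResidueField,
        Ideal.ResidueField.lift_algebraMap]
      simp [χ])
    exact congrArg (fun h : p'.ResidueField →+* p'.ResidueField => h (back y)) hid
  · haveI : t.LiesOver p := himp.2.2.2.1
    letI : Algebra p.ResidueField p'.ResidueField :=
      (Ideal.ResidueField.mapₐ p p' (Algebra.ofId A A') Ideal.LiesOver.over).toRingHom.toAlgebra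
    letI : Algebra p.ResidueField t.ResidueField :=
      (Ideal.ResidueField.mapₐ p t (Algebra.ofId A A₁) Ideal.LiesOver.over).toRingHom.toAlgebra
    haveI : IsScalarTower A p.ResidueField p'.ResidueField := IsScalarTower.of_algebraMap_eq fun a =>
      ((Ideal.ResidueField.mapₐ p p' (Algebra.ofId A A') Ideal.LiesOver.over).commutes a).symm
    haveI : IsScalarTower A p.ResidueField t.ResidueField := IsScalarTower.of_algebraMap_eq fun a =>
      ((Ideal.ResidueField.mapₐ p t (Algebra.ofId A A₁) Ideal.LiesOver.over).commutes a).symm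
    obtain ⟨m, hm⟩ := Ideal.exists_maximal (p'.ResidueField ⊗[p.ResidueField] t.ResidueField)
    letI := Ideal.Quotient.field m
    let L := (p'.ResidueField ⊗[p.ResidueField] t.ResidueField) ⧸ m
    let χ : A' ⊗[A] A₁ →+* L := ((IsScalarTower.toAlgHom A (p'.ResidueField ⊗[p.ResidueField] t.ResidueField) L).comp
      (Algebra.TensorProduct.lift
        (((Algebra.TensorProduct.includeLeft (R := p.ResidueField) (S := p.ResidueField)).restrictScalars A).comp
          (IsScalarTower.toAlgHom A A' p'.ResidueField))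
        ((Algebra.TensorProduct.includeRight.restrictScalars A).comp (IsScalarTower.toAlgHom A A₁ t.ResidueField))
        fun _ _ => mul_comm _ _)).toRingHom
    let jl : p'.ResidueField →+* L := (Ideal.Quotient.mk m).comp Algebra.TensorProduct.includeLeftRingHom
    let jr : t.ResidueField →+* L := (Ideal.Quotient.mk m).comp
      (Algebra.TensorProduct.includeRight (R := p.ResidueField) (A := p'.ResidueField)).toRingHom
    obtain ⟨B₂, N₂, i1, i2, i3, i4, i5, i6, i7, i8, i9, i10, i11, i12, k, e', i13, P₂, i14, i15, himp₂⟩ :=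
      false_of_impurity N p A' B' N' f hf p' g t' t P himp L χ
        (fun a => by
          rw [show χ (a ⊗ₜ 1) = jl (algebraMap A' p'.ResidueField a) by simp [χ, jl]; rfl,
            map_eq_zero_iff jl jl.injective, Ideal.algebraMap_residueField_eq_zero])
        (fun a => by
          rw [show χ (1 ⊗ₜ a) = jr (algebraMap A₁ t.ResidueField a) by simp [χ, jr]; rfl,
            map_eq_zero_iff jr jr.injective, Ideal.algebraMap_residueField_eq_zero])
    exact hpure _ B₂ N₂ k e' (RingHom.ker χ) P₂ himp₂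

end Groth.Agent.S1217
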