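import Groth.Statements.S1221
import Groth.Agent.Lib.Dev4.PurePoint

set_option autoImplicit false
universe u
open FlatMor

set_option backward.isDefEq.respectTransparency.types false

namespace Groth.Agent.S1221

/-- Let B be a finite type A-algebra, N a finite B-module and p a prime of A such that N is flat over A
at every prime of B over p. Let q' be a prime of B lying over a prime p' ⊆ p, such that the
extension of q' to the fibre ring over p' is an associated prime of the fibre module of N (a point
of the relative assassin). If q' is contained in some prime of B over p, then it is contained in a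
prime q over p whose extension to the fibre ring over p is an associated prime of the fibre module
over p. -/
theorem result {A B : Type u} [CommRing A] [CommRing B] [Algebra A B] [Algebra.FiniteType A B]
    (N : Type u) [AddCommGroup N] [Module B N] [Module A N] [IsScalarTower A B N] [Module.Finite B N] (p : Ideal A) [p.IsPrime]
    (hflat : ∀ (q : Ideal B) [q.IsPrime], q.LiesOver p → FlatCA.FlatAt A q N)
    (p' : Ideal A) [p'.IsPrime] (hp' : p' ≤ p) (q' : Ideal B) [q'.IsPrime] [q'.LiesOver p']
    (hass : FlatCA.fiberIdeal p' q' ∈ associatedPrimes (p'.Fiber B) (FlatCA.fiberMod p' B N))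
    (hspec : ∃ (t : Ideal B), t.IsPrime ∧ q' ≤ t ∧ t.LiesOver p) :
    ∃ (q : Ideal B) (_ : q.IsPrime), q' ≤ q ∧ q.LiesOver p ∧
      FlatCA.fiberIdeal p q ∈ associatedPrimes (p.Fiber B) (FlatCA.fiberMod p B N) := by
  obtain ⟨t, ht, hqt, htp⟩ := hspec
  haveI := ht
  haveI := htp
  by_contra hno
  push Not at hno
  obtain ⟨w, hw⟩ := (Groth.Agent.Dev4.fiberIdeal_mem_associatedPrimes_iff p' N q').1 hass
  obtain ⟨c, hc, hcreg⟩ := Groth.Agent.Dev4.exists_mem_notMem_assoc N p q' fun r hr hrp hwk hle => by
    haveI := hr
    haveI := hrp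
    exact hno r hr hle hrp ((Groth.Agent.Dev4.fiberIdeal_mem_associatedPrimes_iff p N r).2 hwk)
  obtain ⟨σ, hσ, n, hn⟩ := hw.1 c hc
  obtain ⟨s, hs, hs0⟩ := Groth.Agent.Dev4.regular_of_fibre N p t (hflat t htp) (fun _ : Fin 1 => c ^ n) (fun v hv =>
    Groth.Agent.Dev4.eq_zero_of_smul_eq_zero N p (fun r hr hrp hwk h => hcreg r hr hrp hwk (hr.mem_of_pow_mem n h)) v (hv 0))
    p'.ResidueField (σ • w) fun _ => by rw [← mul_smul, mul_comm]; exact hn
  rw [← mul_smul] at hs0
  exact hs (hqt ((‹q'.IsPrime›.mem_or_mem (hw.2 _ hs0)).resolve_right hσ))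

end Groth.Agent.S1221
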