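import Groth.Statements.S1255
import Groth.Agent.Lib.Dev4.ProjectiveLocal
import Groth.Agent.Lib.Dev4.ProjectivePure
import Groth.Agent.S1217
import Groth.Agent.S1221

set_option autoImplicit false
universe u
open FlatMor
open TensorProduct
set_option maxSynthPendingDepth 3
set_option backward.isDefEq.respectTransparency.types false
attribute [local instance] Algebra.TensorProduct.rightAlgebra

set_option backward.isDefEq.respectTransparency.types false

namespace Groth.Agent.S1255



open IsLocalRing in
/-- Forward: under purity every point of a relative assassin comes from the cover. -/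
theorem mem_image_of_isPureAlong {A B : Type u} [CommRing A] [CommRing B] [Algebra A B] [Algebra.FiniteType A B]
    (N : Type u) [AddCommGroup N] [Module B N] [Module A N] [IsScalarTower A B N] [Module.Finite B N] (p : Ideal A) [p.IsPrime]
    (hflat : ∀ (q : Ideal B) [q.IsPrime], q.LiesOver p → FlatCA.FlatAt A q N)
    (A' : Type u) [CommRing A'] [Algebra A A'] (p' : Ideal A') [p'.IsPrime] (het : FlatCA.IsEtaleNhd A A' p p')
    (B' : Type u) [CommRing B'] [Algebra B B'] [Algebra A' B'] [Algebra.Etale B B']
    (hcov : ∀ (q : Ideal B) [q.IsPrime], q.LiesOver p →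
      FlatCA.fiberIdeal p q ∈ associatedPrimes (p.Fiber B) (FlatCA.fiberMod p B N) →
      ∃ q' : Ideal B', q'.IsPrime ∧ q'.comap (algebraMap B B') = q ∧ q'.comap (algebraMap A' B') = p')
    (BA NA : Type u) [CommRing BA] [Algebra B BA] [Algebra A' BA] [Algebra A BA] [IsScalarTower A B BA] [IsScalarTower A A' BA]
    [Algebra.IsPushout A B A' BA] [Algebra BA B'] [IsScalarTower B BA B'] [IsScalarTower A' BA B']
    [AddCommGroup NA] [Module BA NA] [Module B NA] [IsScalarTower B BA NA] [Module A' NA] [IsScalarTower A' BA NA]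
    (fA : N →ₗ[B] NA) (hfA : IsBaseChange BA fA) (hpure : FlatCA.IsPureAlong A B N p)
    (t' : Ideal A') [t'.IsPrime] (ht : t' ≤ p') (Q : Ideal BA) [Q.IsPrime] [Q.LiesOver t']
    (hass : FlatCA.fiberIdeal t' Q ∈ associatedPrimes (t'.Fiber BA) (FlatCA.fiberMod t' BA NA)) :
    ∃ Q' : Ideal B', Q'.IsPrime ∧ Q'.comap (algebraMap BA B') = Q := by
  obtain ⟨hE, hl, hκ⟩ := id het
  haveI := hE
  haveI := hl
  haveI hpo : Algebra.IsPushout A A' B BA := Algebra.IsPushout.symm inferInstance
  haveI : Algebra.Etale B BA := Algebra.Etale.of_equiv (Algebra.IsPushout.equiv A B A' BA)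
  haveI : Algebra.Etale BA B' := Algebra.Etale.of_restrictScalars B BA B'
  haveI : Algebra.FiniteType A' BA :=
    let e := Algebra.IsPushout.equiv A A' B BA
    Algebra.FiniteType.of_surjective e.toAlgHom e.surjective
  haveI : Module.Finite BA NA := Module.Finite.equiv hfA.equiv
  have hflatA : ∀ (q : Ideal BA) [q.IsPrime], q.LiesOver p' → FlatCA.FlatAt A' q NA := fun q _ hq => by
    let q₀ := q.comap (algebraMap B BA)
    haveI : q.LiesOver q₀ := ⟨rfl⟩
    haveI : q₀.LiesOver p := ⟨by
      show p = (q.comap (algebraMap B BA)).comap (algebraMap A B)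
      rw [Ideal.comap_comap, ← IsScalarTower.algebraMap_eq, IsScalarTower.algebraMap_eq A A' BA, ← Ideal.comap_comap]
      exact hl.over.trans (congrArg (Ideal.comap (algebraMap A A')) hq.over)⟩
    haveI : Algebra.FormallyUnramified A A' := inferInstance
    haveI : Algebra.EssFiniteType A A' := inferInstance
    have h1 := Groth.Agent.Dev4.flatAt_of_unramified (R := A) (L := A') (BA ⊗[B] N) q
      (Groth.Agent.Dev4.flatAt_of_flat_map N q₀ q (hflat q₀ inferInstance))
    exact (FlatH4.flat_localized_congr q hfA.equiv).1 h1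
  obtain ⟨P', hP', hQP', hP'p⟩ : ∃ P' : Ideal BA, P'.IsPrime ∧ Q ≤ P' ∧ P'.LiesOver p' := by
    by_contra hc
    push Not at hc
    exact hpure A' BA NA fA t' p' Q het ⟨inferInstance, hfA, ht, hl, inferInstance, hass, fun P hP h => hc P hP h⟩
  obtain ⟨q₁, hq₁, hQq₁, hq₁p, hq₁ass⟩ := Groth.Agent.S1221.result NA p' hflatA t' ht Q hass ⟨P', hP', hQP', hP'p⟩
  haveI := hq₁
  haveI := hq₁p
  let q := q₁.comap (algebraMap B BA)
  haveI : q₁.LiesOver q := ⟨rfl⟩
  haveI : q.LiesOver p := ⟨by
    show p = (q₁.comap (algebraMap B BA)).comap (algebraMap A B)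
    rw [Ideal.comap_comap, ← IsScalarTower.algebraMap_eq, IsScalarTower.algebraMap_eq A A' BA, ← Ideal.comap_comap]
    exact hl.over.trans (congrArg (Ideal.comap (algebraMap A A')) hq₁p.over)⟩
  obtain ⟨w, hw⟩ := (Groth.Agent.Dev4.fiberIdeal_mem_associatedPrimes_iff p' NA q₁).1 hq₁ass
  -- the fibre of the base change is the fibre
  let eN : NA ≃ₗ[A'] A' ⊗[A] N :=
    (hfA.equiv.symm.restrictScalars A').trans (Algebra.IsPushout.cancelBaseChange A A' B BA N)
  let eκ : p.ResidueField ≃ₐ[A] p'.ResidueField := AlgEquiv.ofBijective _ hκ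
  let E : NA ⊗[A'] p'.ResidueField ≃+ N ⊗[A] p.ResidueField :=
    ((TensorProduct.comm A' NA p'.ResidueField).trans
      ((TensorProduct.congr (LinearEquiv.refl A' p'.ResidueField) eN).trans
        ((AlgebraTensorModule.cancelBaseChange A A' A' p'.ResidueField N)))).toAddEquiv.trans
      ((TensorProduct.comm A p'.ResidueField N).trans
        (TensorProduct.congr (LinearEquiv.refl A N) eκ.symm.toLinearEquiv)).toAddEquiv
  have hE' : ∀ (n : N) (c : p.ResidueField), E.symm (n ⊗ₜ[A] c) = fA n ⊗ₜ[A'] eκ c := fun n c => by
    rw [AddEquiv.symm_apply_eq]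
    have h1 : eN (fA n) = (1 : A') ⊗ₜ[A] n := by
      show Algebra.IsPushout.cancelBaseChange A A' B BA N (hfA.equiv.symm (fA n)) = _
      rw [hfA.equiv_symm_apply, ← LinearEquiv.eq_symm_apply, Algebra.IsPushout.cancelBaseChange_symm_tmul, map_one]
    simp [E, h1]
  have hEb : ∀ (b : B) (y : N ⊗[A] p.ResidueField), E.symm (b • y) = algebraMap B BA b • E.symm y := fun b y => by
    induction y using TensorProduct.induction_on with
    | zero => simp
    | add u v hu hv => simp only [smul_add, map_add, hu, hv]
    | tmul n c => rw [TensorProduct.smul_tmul', hE', hE', TensorProduct.smul_tmul', algebraMap_smul, map_smul]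
  have hqass : ∃ w₀ : N ⊗[A] p.ResidueField, Groth.Agent.Dev4.IsWk q w₀ := by
    refine ⟨E w, fun a ha => ?_, fun s hs => ?_⟩
    · obtain ⟨s, hs, k, hk⟩ := hw.1 (algebraMap B BA a) ha
      obtain ⟨c, hc, b, hb⟩ := Groth.Agent.Dev4.exists_congr_elem (B := B) p p' hκ s
      have hkill : ∀ m ∈ p'.map (algebraMap A' BA), ∀ z : NA ⊗[A'] p'.ResidueField, m • z = 0 := by
        intro m hm
        induction hm using Submodule.span_induction with
        | mem x hx =>
          obtain ⟨d, hd, rfl⟩ := hx
          intro z
          rw [algebraMap_smul]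
          induction z using TensorProduct.induction_on with
          | zero => exact smul_zero _
          | add u v hu hv => rw [smul_add, hu, hv, add_zero]
          | tmul n r => rw [← TensorProduct.tmul_smul, Algebra.smul_def, Ideal.algebraMap_residueField_eq_zero.2 hd,
              zero_mul, TensorProduct.tmul_zero]
        | zero => intro z; exact zero_smul _ _
        | add x y _ _ hx hy => intro z; rw [add_smul, hx, hy, add_zero]
        | smul r x _ hx => intro z; rw [smul_eq_mul, mul_smul, hx, smul_zero]
      refine ⟨b, fun hbq => ?_, k, E.symm.injective ?_⟩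
      · have hc' : algebraMap A BA c ∉ q₁ := Groth.Agent.Dev4.algebraMap_notMem (p' := p') hc
        have h2 : algebraMap A BA c * s ∈ q₁ := by
          have := q₁.add_mem (Groth.Agent.Dev4.map_le_of_liesOver (Q := q₁) hb) (hbq : algebraMap B BA b ∈ q₁)
          simpa using this
        exact (hq₁.mem_or_mem h2).elim hc' hs
      · have h3 : algebraMap B BA b • (algebraMap B BA a ^ k • w) = (algebraMap A BA c * s) • (algebraMap B BA a ^ k • w) := by
          have := hkill _ hb (algebraMap B BA a ^ k • w)
          rw [sub_smul, sub_eq_zero] at this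
          exact this.symm
        rw [map_zero, hEb, E.symm_apply_apply, map_mul, map_pow, mul_smul, h3, ← mul_smul, mul_assoc, mul_smul, hk, smul_zero]
    · have := congrArg E.symm hs
      rw [map_zero, hEb, E.symm_apply_apply] at this
      exact hw.2 _ this
  obtain ⟨q', hq', hq'q, hq'p⟩ := hcov q inferInstance ((Groth.Agent.Dev4.fiberIdeal_mem_associatedPrimes_iff p N q).2 hqass)
  haveI := hq'
  haveI : (q'.comap (algebraMap BA B')).LiesOver p' := ⟨by
    show p' = (q'.comap (algebraMap BA B')).comap (algebraMap A' BA)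
    rw [Ideal.comap_comap, ← IsScalarTower.algebraMap_eq]
    exact hq'p.symm⟩
  have hpt : q'.comap (algebraMap BA B') = q₁ := Groth.Agent.Dev4.prime_ext (R := A) (R' := A') (B := B) hκ _ _ (by
    rw [Ideal.comap_comap, ← IsScalarTower.algebraMap_eq]
    exact hq'q)
  haveI : q'.LiesOver q₁ := ⟨hpt.symm⟩
  obtain ⟨x, -, hx, hxQ⟩ := Ideal.exists_ideal_le_liesOver_of_le (p := Q) (q := q₁) q' hQq₁
  exact ⟨x, hx, hxQ.over.symm⟩

open IsLocalRing in
/-- A projective module over a local ring flat over the base forces universal purity. -/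
theorem isUnivPureAlong_of_projective {A B : Type u} [CommRing A] [CommRing B] [Algebra A B] [Algebra.FiniteType A B]
    (N : Type u) [AddCommGroup N] [Module B N] [Module A N] [IsScalarTower A B N] [Module.Finite B N] (p : Ideal A) [p.IsPrime]
    (L : Type u) [CommRing L] [IsLocalRing L] [Algebra A L] [Module.Flat A L] [(maximalIdeal L).LiesOver p]
    [Module.Projective L (L ⊗[A] N)] : FlatCA.IsUnivPureAlong A B N p := by
  let B' := L ⊗[A] B
  haveI : Algebra.IsPushout A B L B' := Algebra.IsPushout.symm inferInstance
  haveI : Algebra.FiniteType L B' := inferInstance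
  haveI : Module.Projective L (B' ⊗[B] N) :=
    Module.Projective.of_equiv (Algebra.IsPushout.cancelBaseChange A L B B' N).symm
  haveI : Module.Flat A (Localization.AtPrime (maximalIdeal L)) :=
    haveI : Module.Flat L (Localization.AtPrime (maximalIdeal L)) := IsLocalization.flat _ (maximalIdeal L).primeCompl
    Module.Flat.trans A L _
  exact (Groth.Agent.S1217.result N p L B' (B' ⊗[B] N) (TensorProduct.mk B B' N 1) (TensorProduct.isBaseChange B N B')
    (maximalIdeal L)).2 (Groth.Agent.Dev4.isUnivPure_of_projective (B' ⊗[B] N) _)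

open IsLocalRing Groth.Agent.Dev4 in
/-- Backward: if the relative assassins come from the cover the module is pure. -/
theorem isPureAlong_of_mem_image {A B : Type u} [CommRing A] [CommRing B] [Algebra A B] [Algebra.FiniteType A B]
    (N : Type u) [AddCommGroup N] [Module B N] [Module A N] [IsScalarTower A B N] [Module.Finite B N] (p : Ideal A) [p.IsPrime]
    (hflat : ∀ (q : Ideal B) [q.IsPrime], q.LiesOver p → FlatCA.FlatAt A q N)
    (A' : Type u) [CommRing A'] [Algebra A A'] (p' : Ideal A') [p'.IsPrime] (het : FlatCA.IsEtaleNhd A A' p p')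
    (B' : Type u) [CommRing B'] [Algebra B B'] [Algebra A' B'] [Algebra.Etale B B'] [Algebra.FiniteType A' B']
    (N' : Type u) [AddCommGroup N'] [Module B' N'] [Module B N'] [IsScalarTower B B' N'] [Module A' N'] [IsScalarTower A' B' N']
    (f : N →ₗ[B] N') (hf : IsBaseChange B' f)
    (hpure : FlatCA.IsPureAlong A' B' N' p')
    (BA NA : Type u) [CommRing BA] [Algebra B BA] [Algebra A' BA] [Algebra A BA] [IsScalarTower A B BA] [IsScalarTower A A' BA]
    [Algebra.IsPushout A B A' BA] [Algebra BA B'] [IsScalarTower B BA B'] [IsScalarTower A' BA B']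
    [AddCommGroup NA] [Module BA NA] [Module B NA] [IsScalarTower B BA NA] [Module A' NA] [IsScalarTower A' BA NA]
    (fA : N →ₗ[B] NA) (hfA : IsBaseChange BA fA)
    (h : ∀ (t' : Ideal A') [t'.IsPrime], t' ≤ p' → ∀ (Q : Ideal BA) [Q.IsPrime], Q.LiesOver t' →
        FlatCA.fiberIdeal t' Q ∈ associatedPrimes (t'.Fiber BA) (FlatCA.fiberMod t' BA NA) →
        ∃ Q' : Ideal B', Q'.IsPrime ∧ Q'.comap (algebraMap BA B') = Q) :
    FlatCA.IsPureAlong A B N p := by
  obtain ⟨hE, hl, hκ⟩ := id het
  haveI := hE
  haveI := hl
  haveI hpo : Algebra.IsPushout A A' B BA := Algebra.IsPushout.symm inferInstance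
  haveI : Algebra.Etale B BA := Algebra.Etale.of_equiv (Algebra.IsPushout.equiv A B A' BA)
  haveI : Algebra.Etale BA B' := Algebra.Etale.of_restrictScalars B BA B'
  haveI : Algebra.FiniteType A' BA :=
    let e := Algebra.IsPushout.equiv A A' B BA
    Algebra.FiniteType.of_surjective e.toAlgHom e.surjective
  haveI : Module.Finite BA NA := Module.Finite.equiv hfA.equiv
  haveI : Module.Finite B' N' := Module.Finite.equiv hf.equiv
  letI : Module BA N' := Module.compHom N' (algebraMap BA B')
  haveI : IsScalarTower BA B' N' := IsScalarTower.of_algebraMap_smul fun _ _ => rfl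
  haveI : IsScalarTower A' BA N' := IsScalarTower.of_algebraMap_smul fun a x => by
    show algebraMap BA B' (algebraMap A' BA a) • x = a • x
    rw [← IsScalarTower.algebraMap_apply, algebraMap_smul]
  let e₁ : B' ⊗[BA] NA ≃ₗ[B'] N' :=
    (AlgebraTensorModule.congr (LinearEquiv.refl B' B') hfA.equiv.symm).trans
      ((AlgebraTensorModule.cancelBaseChange B BA B' B' N).trans hf.equiv)
  have hflat' : ∀ (x : Ideal B') [x.IsPrime], x.LiesOver p' → FlatCA.FlatAt A' x N' := fun x _ hx => by
    let P := x.comap (algebraMap BA B')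
    let q := P.comap (algebraMap B BA)
    haveI : x.LiesOver P := ⟨rfl⟩
    haveI : P.LiesOver q := ⟨rfl⟩
    haveI : q.LiesOver p := ⟨by
      show p = ((x.comap (algebraMap BA B')).comap (algebraMap B BA)).comap (algebraMap A B)
      rw [Ideal.comap_comap (algebraMap A B), ← IsScalarTower.algebraMap_eq, IsScalarTower.algebraMap_eq A A' BA,
        ← Ideal.comap_comap, Ideal.comap_comap (algebraMap A' BA), ← IsScalarTower.algebraMap_eq]
      exact hl.over.trans (congrArg (Ideal.comap (algebraMap A A')) hx.over)⟩
    have h1 := flatAt_of_unramified (R := A) (L := A') (BA ⊗[B] N) P (flatAt_of_flat_map N q P (hflat q inferInstance))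
    have h2 : FlatCA.FlatAt A' P NA := (FlatH4.flat_localized_congr P hfA.equiv).1 h1
    exact (FlatH4.flat_localized_congr x e₁).1 (flatAt_of_flat_map NA P x h2)
  haveI := projective_local_of_isPureAlong N' p' hflat' hpure
  let L := Localization.AtPrime p'
  let SA := L ⊗[A'] BA
  let NL := SA ⊗[BA] NA
  let C := SA ⊗[BA] B'
  haveI : IsScalarTower L SA C := inferInstance
  let T : Submonoid BA := Algebra.algebraMapSubmonoid BA p'.primeCompl
  haveI : IsLocalization T SA := inferInstance
  haveI : IsLocalizedModule T (TensorProduct.mk BA SA NA 1) :=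
    (isLocalizedModule_iff_isBaseChange T SA _).2 (TensorProduct.isBaseChange BA NA SA)
  haveI : IsScalarTower A' BA NL := inferInstance
  haveI : Algebra.IsPushout A' L BA SA := inferInstance
  haveI : IsLocalization (Algebra.algebraMapSubmonoid B' T) C := inferInstance
  let eC : C ⊗[SA] NL ≃ₗ[L] L ⊗[A'] N' :=
    (((AlgebraTensorModule.cancelBaseChange BA SA C C NA).restrictScalars SA).trans
      ((AlgebraTensorModule.assoc BA BA SA SA B' NA).trans
        (AlgebraTensorModule.congr (LinearEquiv.refl SA SA) (e₁.restrictScalars BA)))).restrictScalars L |>.trans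
      (Algebra.IsPushout.cancelBaseChange A' L BA SA N')
  haveI : Module.Projective L (C ⊗[SA] NL) := Module.Projective.of_equiv eC.symm
  have hcov : ∀ (t : Ideal L) [t.IsPrime] (Q : Ideal SA) [Q.IsPrime] [Q.LiesOver t],
      FlatCA.fiberIdeal t Q ∈ associatedPrimes (t.Fiber SA) (FlatCA.fiberMod t SA NL) →
      ∃ x : Ideal C, x.IsPrime ∧ x.comap (algebraMap SA C) = Q := by
    intro t _ Q _ _ hass
    obtain ⟨w, hw⟩ := (fiberIdeal_mem_associatedPrimes_iff t NL Q).1 hass
    let t₀ := t.comap (algebraMap A' L)
    haveI : t.LiesOver t₀ := ⟨rfl⟩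
    let r := Q.comap (algebraMap BA SA)
    haveI : Q.LiesOver r := ⟨rfl⟩
    haveI : r.LiesOver t₀ := ⟨by
      show t.comap (algebraMap A' L) = (Q.comap (algebraMap BA SA)).comap (algebraMap A' BA)
      rw [Ideal.comap_comap, ← IsScalarTower.algebraMap_eq, IsScalarTower.algebraMap_eq A' L SA, ← Ideal.comap_comap]
      exact congrArg (Ideal.comap (algebraMap A' L)) (Ideal.over_def Q t)⟩
    obtain ⟨w₀, hw₀⟩ := exists_isWk_of_base_localization p'.primeCompl T NA NL (TensorProduct.mk BA SA NA 1) t₀ t r Q hw
    have hle : t₀ ≤ p' := by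
      rw [← Localization.AtPrime.comap_maximalIdeal (I := p')]
      exact Ideal.comap_mono (le_maximalIdeal (Ideal.IsPrime.ne_top inferInstance))
    obtain ⟨x, hx, hxr⟩ := h t₀ hle r inferInstance ((fiberIdeal_mem_associatedPrimes_iff t₀ NA r).2 ⟨w₀, hw₀⟩)
    haveI := hx
    have hdis : Disjoint ((Algebra.algebraMapSubmonoid B' T : Submonoid B') : Set B') (x : Set B') := by
      refine Set.disjoint_left.2 fun c hc hcx => ?_
      obtain ⟨b, hb, rfl⟩ := hc
      have hbr : b ∈ r := by rw [← hxr]; exact hcx
      exact (inferInstance : Q.IsPrime).ne_top (Ideal.eq_top_of_isUnit_mem _ hbr (IsLocalization.map_units SA (⟨b, hb⟩ : T)))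
    have hxC : (x.map (algebraMap B' C)).IsPrime :=
      IsLocalization.isPrime_of_isPrime_disjoint (Algebra.algebraMapSubmonoid B' T) C _ hx hdis
    refine ⟨x.map (algebraMap B' C), hxC, ?_⟩
    rw [← IsLocalization.map_comap T SA Q, ← IsLocalization.map_comap T SA ((x.map (algebraMap B' C)).comap (algebraMap SA C))]
    congr 1
    simp only [Ideal.under_def]
    rw [Ideal.comap_comap]
    have hcompat : (algebraMap SA C).comp (algebraMap BA SA) = (algebraMap B' C).comp (algebraMap BA B') := by
      ext b
      show algebraMap SA C (algebraMap BA SA b) = (Algebra.TensorProduct.includeRight : B' →ₐ[BA] C) (algebraMap BA B' b)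
      rw [AlgHom.commutes, ← IsScalarTower.algebraMap_apply]
    rw [hcompat, ← Ideal.comap_comap,
      show (x.map (algebraMap B' C)).comap (algebraMap B' C) = x from
        IsLocalization.under_map_of_isPrime_disjoint (Algebra.algebraMapSubmonoid B' T) C hx hdis]
    exact hxr
  haveI : Module.Flat L NL := by
    refine Module.flat_of_isLocalized_maximal (R := L) (M := NL) SA (fun P => LocalizedModule P.primeCompl NL)
      (fun P _ => LocalizedModule.mkLinearMap P.primeCompl NL) fun P _ => ?_
    let t := P.comap (algebraMap L SA)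
    haveI : P.LiesOver t := ⟨rfl⟩
    refine flatAt_of_assoc NL t P fun Q _ _ hQ hass => ?_
    haveI := hQ
    obtain ⟨x, hx, hxQ⟩ := hcov t Q hass
    haveI := hx
    haveI : x.LiesOver Q := ⟨hxQ.symm⟩
    exact flatAt_of_flat_map_descent NL Q x (RG4.flat_of_isLocalizedModule (R := L) x.primeCompl
      (LocalizedModule.mkLinearMap x.primeCompl (C ⊗[SA] NL)))
  haveI : Algebra.Etale SA C := inferInstance
  haveI : Module.Projective L NL := projective_of_covered (C := C) NL hcov
  haveI : Module.Projective L (L ⊗[A] N) := Module.Projective.of_equiv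
    ((Algebra.IsPushout.cancelBaseChange A' L BA SA NA).trans
      ((AlgebraTensorModule.congr (LinearEquiv.refl L L)
        ((hfA.equiv.symm.restrictScalars A').trans (Algebra.IsPushout.cancelBaseChange A A' B BA N))).trans
        (AlgebraTensorModule.cancelBaseChange A A' L L N)))
  haveI : Module.Flat A' L := IsLocalization.flat L p'.primeCompl
  haveI : Module.Flat A L := Module.Flat.trans A A' L
  obtain ⟨hmp, -⟩ := exists_bijective_local het
  haveI := hmp
  exact fun A'' B'' N'' _ _ _ _ _ _ _ _ _ _ _ _ _ _ f'' t'' t _ _ P _ _ =>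
    isUnivPureAlong_of_projective N p L A'' B'' N'' f'' t'' t P

/-- Ring form, all schemes affine: let B be an A-algebra of finite type, N a finite B-module and p a
prime of A such that N is flat over A at every prime of B over p. Let (A, p) → (A', p') be an
elementary étale ring map and B' an étale B-algebra which is compatibly an A'-algebra of finite
type, with base change N' of N to B', such that N' is pure along the fibre over p' and every prime q
of B over p whose extension to the fibre ring over p is an associated prime of the fibre module of N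
is the contraction of a prime of B' lying over p'. Let B_{A'} and N_{A'} be the base changes of B
and N to A' (any models), with the induced map B_{A'} → B'. Then N is pure along the fibre over p if
and only if: for every prime t' ⊆ p' of A' and every prime Q of B_{A'} over t' whose extension to
the fibre ring over t' is an associated prime of the fibre module of N_{A'}, Q is the contraction of
a prime of B'. (The published statement asks in its covering hypothesis only that the image of Spec
B' in Spec B contain the associated primes of the fibre module of N over p, without requiring the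
covering primes of B' to lie over p'. That is not enough when Spec A' has a second point over p —
with Spec A' = Spec A ⊔ Spec A and Spec B' over the other copy the "only if" fails — so the
hypothesis is stated here in the stronger form: the covering primes of B' lie over p'.) -/
theorem result {A B : Type u} [CommRing A] [CommRing B] [Algebra A B] [Algebra.FiniteType A B]
    (N : Type u) [AddCommGroup N] [Module B N] [Module A N] [IsScalarTower A B N] [Module.Finite B N] (p : Ideal A) [p.IsPrime]
    (hflat : ∀ (q : Ideal B) [q.IsPrime], q.LiesOver p → FlatCA.FlatAt A q N)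
    (A' : Type u) [CommRing A'] [Algebra A A'] (p' : Ideal A') [p'.IsPrime] (het : FlatCA.IsEtaleNhd A A' p p')
    (B' : Type u) [CommRing B'] [Algebra B B'] [Algebra A' B'] [Algebra A B'] [IsScalarTower A B B'] [IsScalarTower A A' B']
    [Algebra.Etale B B'] [Algebra.FiniteType A' B']
    (N' : Type u) [AddCommGroup N'] [Module B' N'] [Module B N'] [IsScalarTower B B' N'] [Module A' N'] [IsScalarTower A' B' N']
    (f : N →ₗ[B] N') (hf : IsBaseChange B' f)
    (hpure : FlatCA.IsPureAlong A' B' N' p')
    (hcov : ∀ (q : Ideal B) [q.IsPrime], q.LiesOver p →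
      FlatCA.fiberIdeal p q ∈ associatedPrimes (p.Fiber B) (FlatCA.fiberMod p B N) →
      ∃ q' : Ideal B', q'.IsPrime ∧ q'.comap (algebraMap B B') = q ∧ q'.comap (algebraMap A' B') = p')
    (BA NA : Type u) [CommRing BA] [Algebra B BA] [Algebra A' BA] [Algebra A BA] [IsScalarTower A B BA] [IsScalarTower A A' BA]
    [Algebra.IsPushout A B A' BA] [Algebra BA B'] [IsScalarTower B BA B'] [IsScalarTower A' BA B']
    [AddCommGroup NA] [Module BA NA] [Module B NA] [IsScalarTower B BA NA] [Module A' NA] [IsScalarTower A' BA NA]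
    (fA : N →ₗ[B] NA) (hfA : IsBaseChange BA fA) :
    FlatCA.IsPureAlong A B N p ↔
      ∀ (t' : Ideal A') [t'.IsPrime], t' ≤ p' → ∀ (Q : Ideal BA) [Q.IsPrime], Q.LiesOver t' →
        FlatCA.fiberIdeal t' Q ∈ associatedPrimes (t'.Fiber BA) (FlatCA.fiberMod t' BA NA) →
        ∃ Q' : Ideal B', Q'.IsPrime ∧ Q'.comap (algebraMap BA B') = Q := by
  refine ⟨fun h t' _ ht Q _ hQ hass => ?_, fun h => isPureAlong_of_mem_image N p hflat A' p' het B' N' f hf hpure BA NA fA hfA h⟩
  haveI := hQ
  exact mem_image_of_isPureAlong N p hflat A' p' het B' hcov BA NA fA hfA h t' ht Q hass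

end Groth.Agent.S1255
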