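import Groth.Statements.S0584
import Groth.Agent.Lib.CAlgLow.ProjCrit

set_option autoImplicit false
universe u
open scoped Classical
open CAlg

namespace Groth.Agent.S0584

/-- Projectivity of a module is equivalent to the conjunction of three conditions — flatness, the
Mittag-Leffler property, and being an internal direct sum of countably generated submodules. -/
theorem result (R : Type u) [CommRing R] (M : Type u)
    [AddCommGroup M] [Module R M] :
    Module.Projective R M ↔ (Module.Flat R M ∧ CAlg.IsMittagLeffler R M ∧
      ∃ (ι : Type u) (N : ι → Submodule R M), DirectSum.IsInternal N ∧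
        ∀ i, CAlg.IsCountablyGenerated R (N i)) := by
  refine ⟨fun h => ⟨inferInstance, Groth.Agent.CAlgLow.isMittagLeffler_of_projective, ?_⟩, ?_⟩
  · obtain ⟨κ, L, h1, h2, h3⟩ := Groth.Agent.CAlgLow.exists_cg_decomposition (R := R) (M := M)
    exact ⟨κ, L, DirectSum.isInternal_submodule_of_iSupIndep_of_iSup_eq_top h1 h2, h3⟩
  · rintro ⟨hF, hML, ι, N, hI, hc⟩
    haveI := hF
    exact Groth.Agent.CAlgLow.projective_of_flat_mittagLeffler N hI hc hML

end Groth.Agent.S0584
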