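import Groth.Statements.S6347
import Groth.Agent.Lib.CAlgLow.PiFlat

set_option autoImplicit false
universe u
open CAlg

namespace Groth.Agent.S6347

/-- Over a Noetherian ring R, the product module R^A (functions from any set A to R) is flat and
Mittag-Leffler. -/
theorem result (R : Type u) [CommRing R] [IsNoetherianRing R]
    (A : Type u) : Module.Flat R (A → R) ∧ CAlg.IsMittagLeffler R (A → R) := by
  have : Module.Flat R (A → R) :=
    Groth.Agent.CAlgLow.coherent_iff_pi_flat.1 (fun I _ => Module.finitePresentation_of_finite R I) A
  exact ⟨this, Groth.Agent.CAlgLow.isMittagLeffler_pi_of_isNoetherianRing⟩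

end Groth.Agent.S6347
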