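import Groth.Statements.S1285
import Groth.Agent.Lib.RG4.Generic
import Groth.Agent.Lib.RG4.Basis

set_option autoImplicit false
universe u
open FlatMor

set_option backward.isDefEq.respectTransparency.types false

namespace Groth.Agent.S1285


set_option backward.isDefEq.respectTransparency.types false
attribute [local instance] Algebra.TensorProduct.rightAlgebra

/-- Let (C, D, G) be a one-step dévissage of N/S/R over the prime p (see FlatCA.IsOneStepDevissage), and
suppose pD is prime (the generic point of the fibre of Spec D). Then there are r > 0 and a D-linear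
map α from D^r to G which becomes bijective after base change to the residue field of pD; moreover
for every such α the support of the fibre module over p of the cokernel of α has dimension strictly
less than that of the fibre module of N. -/
theorem result {R S : Type u} [CommRing R] [CommRing S] [Algebra R S] [Algebra.FiniteType R S]
    (N : Type u) [AddCommGroup N] [Module S N] [Module R N] [IsScalarTower R S N] [Module.Finite S N] (p : Ideal R) [p.IsPrime]
    (C D G : Type u) [CommRing C] [CommRing D] [Algebra S C] [Algebra R C] [IsScalarTower R S C]
    [Algebra R D] [Algebra D C] [IsScalarTower R D C] [AddCommGroup G] [Module C G] [Module S G] [IsScalarTower S C G]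
    [Module D G] [IsScalarTower D C G] [Module R G] [IsScalarTower R D G]
    (n : ℕ) (h : FlatCA.IsOneStepDevissage R S N p C D G n) [(p.map (algebraMap R D)).IsPrime] :
    (∃ (r : ℕ) (α : (Fin r → D) →ₗ[D] G), 0 < r ∧ Function.Bijective (α.baseChange (p.map (algebraMap R D)).ResidueField)) ∧
    ∀ (r : ℕ) (α : (Fin r → D) →ₗ[D] G), Function.Bijective (α.baseChange (p.map (algebraMap R D)).ResidueField) →
      Module.supportDim (p.Fiber D) (FlatCA.fiberMod p D (G ⧸ LinearMap.range α)) < (n : WithBot ℕ∞) := by
  obtain ⟨⟨e⟩, hsurj, _hfpC, hDC, hCG, hsm, _hirr, hdim⟩ := h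
  haveI : IsScalarTower R C G := IsScalarTower.of_algebraMap_smul fun r g => by
    rw [IsScalarTower.algebraMap_apply R D C, algebraMap_smul, algebraMap_smul]
  haveI : IsScalarTower R S G := IsScalarTower.of_algebraMap_smul fun r g => by
    rw [← algebraMap_smul C (algebraMap R S r) g, ← IsScalarTower.algebraMap_apply, algebraMap_smul]
  haveI : Module.Finite D C := hDC
  haveI : Module.Finite C G := hCG
  haveI : Module.Finite S C := Module.Finite.of_surjective (Algebra.linearMap S C) hsurj
  haveI : Module.Finite S G := Module.Finite.trans C G
  haveI : Module.Finite D G := Module.Finite.trans C G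
  have hdimD : Module.supportDim (p.Fiber D) (FlatCA.fiberMod p D G) = n := by
    rw [RG4.supportDim_fiberMod_eq (A := D) (B := C), ← RG4.supportDim_fiberMod_eq (A := S) (B := C),
      ← hdim]
    exact (Module.supportDim_eq_of_equiv (LinearEquiv.baseChange S (p.Fiber S) N G e)).symm
  have hle := RG4.ringKrullDim_fiber_le n hsm p
  haveI : Nontrivial (p.Fiber D) := by
    by_contra hnt
    rw [not_nontrivial_iff_subsingleton] at hnt
    haveI : Subsingleton (FlatCA.fiberMod p D G) := Module.subsingleton (p.Fiber D) _
    rw [Module.supportDim_eq_bot_of_subsingleton] at hdimD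
    exact absurd hdimD.symm (WithBot.natCast_ne_bot n)
  haveI := RG4.liesOver_of_nonempty (D := D) p inferInstance
  haveI := RG4.nontrivial_of_le_supportDim (D := D) p G n hle hdimD.ge
  refine ⟨?_, fun r α hα => ?_⟩
  · obtain ⟨r, α, hr, hα⟩ := RG4.exists_bijective_baseChange (D := D) (p.map (algebraMap R D)).ResidueField G
    exact ⟨r, α, hr ▸ Module.finrank_pos, hα⟩
  · exact RG4.supportDim_lt_of_subsingleton p (G ⧸ LinearMap.range α) n hle
      (RG4.subsingleton_baseChange_coker _ α hα.2)

end Groth.Agent.S1285
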