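import Groth.Statements.S1295
import Groth.Agent.Lib.Dev4.ColimPure
import Groth.Agent.Lib.Dev4.ProjectiveLocal
import Groth.Agent.Lib.FlatH4.NoethApprox

set_option autoImplicit false
universe u
open FlatMor
open TensorProduct
set_option maxSynthPendingDepth 3
set_option backward.isDefEq.respectTransparency.types false
attribute [local instance] Algebra.TensorProduct.rightAlgebra

set_option backward.isDefEq.respectTransparency.types false

namespace Groth.Agent.S1295



/-- The quotient of a free module by finitely many vectors commutes with base change. -/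
theorem isBaseChange_quotient {B₁ B N : Type u} [CommRing B₁] [CommRing B] [Algebra B₁ B] [AddCommGroup N] [Module B N]
    [Module B₁ N] [IsScalarTower B₁ B N] {m b : ℕ} (w : Fin b → Fin m → B₁) (π : (Fin m → B) →ₗ[B] N)
    (hπ : Function.Surjective π)
    (hker : LinearMap.ker π = Submodule.span B (Set.range fun i a => algebraMap B₁ B (w i a))) :
    ∃ f : ((Fin m → B₁) ⧸ Submodule.span B₁ (Set.range w)) →ₗ[B₁] N, IsBaseChange B f := by
  classical
  let K := Submodule.span B₁ (Set.range w)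
  let f₀ : (Fin m → B₁) →ₗ[B₁] N := (π.restrictScalars B₁).comp ((Algebra.linearMap B₁ B).compLeft (Fin m))
  have hf₀ : K ≤ LinearMap.ker f₀ := Submodule.span_le.2 fun x ⟨i, hi⟩ => by
    subst hi
    have h : (fun a => algebraMap B₁ B (w i a)) ∈ LinearMap.ker π := hker ▸ Submodule.subset_span ⟨i, rfl⟩
    exact h
  let f := K.liftQ f₀ hf₀
  let u : (Fin m → B) →ₗ[B] B ⊗[B₁] ((Fin m → B₁) ⧸ K) :=
    (K.mkQ.baseChange B).comp (TensorProduct.piScalarRight B₁ B B (Fin m)).symm.toLinearMap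
  have hu : ∀ v : Fin m → B₁, u (fun a => algebraMap B₁ B (v a)) = (1 : B) ⊗ₜ[B₁] K.mkQ v := fun v => by
    have : TensorProduct.piScalarRight B₁ B B (Fin m) ((1 : B) ⊗ₜ[B₁] v) = fun a => algebraMap B₁ B (v a) := by
      funext a
      simp [Algebra.smul_def]
    simp only [u, LinearMap.comp_apply, LinearEquiv.coe_coe]
    rw [← this, LinearEquiv.symm_apply_apply, LinearMap.baseChange_tmul]
  have hker' : LinearMap.ker π ≤ LinearMap.ker u := by
    rw [hker, Submodule.span_le]
    rintro _ ⟨i, rfl⟩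
    show u _ = 0
    rw [hu, Submodule.mkQ_apply, (Submodule.Quotient.mk_eq_zero K).2 (Submodule.subset_span ⟨i, rfl⟩), TensorProduct.tmul_zero]
  let F := f.liftBaseChange B
  have hFu : ∀ x, F (u x) = π x := fun x => by
    obtain ⟨y, rfl⟩ := (TensorProduct.piScalarRight B₁ B B (Fin m)).surjective x
    simp only [u, LinearMap.comp_apply, LinearEquiv.coe_coe, LinearEquiv.symm_apply_apply]
    induction y using TensorProduct.induction_on with
    | zero => simp
    | add p q hp hq => simp only [map_add, hp, hq]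
    | tmul c v =>
      rw [LinearMap.baseChange_tmul, LinearMap.liftBaseChange_tmul,
        show c ⊗ₜ[B₁] v = c • ((1 : B) ⊗ₜ[B₁] v) by rw [TensorProduct.smul_tmul', smul_eq_mul, mul_one],
        map_smul, map_smul]
      refine congrArg (c • ·) ?_
      show π (fun a => algebraMap B₁ B (v a)) = _
      congr 1
      funext a
      simp [Algebra.smul_def]
  have husurj : Function.Surjective u :=
    (LinearMap.lTensor_surjective B K.mkQ_surjective).comp (TensorProduct.piScalarRight B₁ B B (Fin m)).symm.surjective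
  have hbij : Function.Bijective F := by
    refine ⟨(injective_iff_map_eq_zero _).2 fun z hz => ?_, fun x => ?_⟩
    · obtain ⟨y, rfl⟩ := husurj z
      rw [hFu] at hz
      exact hker' hz
    · obtain ⟨y, rfl⟩ := hπ x
      exact ⟨u y, hFu y⟩
  exact ⟨f, IsBaseChange.of_equiv (LinearEquiv.ofBijective F hbij) fun x => by simp [F]⟩

/-- A ring map from a finitely generated `ℤ`-algebra to a colimit factors through a stage. -/
theorem exists_stage_ringHom {ι : Type u} [Preorder ι] {G : ι → Type u} [∀ i, CommRing (G i)]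
    {g : ∀ i j, i ≤ j → G i →+* G j} {A : Type u} [CommRing A] [∀ i, Algebra (G i) A]
    (hcolim : FlatCA.IsDirectedColimitRing G g A) (R : Type u) [CommRing R] [Algebra.FiniteType ℤ R] (ρ : R →+* A) :
    ∃ i, ∃ χ : R →+* G i, (algebraMap (G i) A).comp χ = ρ := by
  classical
  haveI : IsNoetherianRing R := Algebra.FiniteType.isNoetherianRing ℤ R
  haveI : Algebra.FinitePresentation ℤ R := Algebra.FinitePresentation.of_finiteType.1 inferInstance
  obtain ⟨k, φ, hφ, hkerφ⟩ := Algebra.FinitePresentation.out (R := ℤ) (A := R)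
  obtain ⟨hdir, hne, hid, hcomp, hcompat, hsurj, hzero⟩ := hcolim
  haveI : IsDirectedOrder ι := hdir
  haveI := hne
  choose iy xy hxy using fun y : Fin k => hsurj (ρ (φ (MvPolynomial.X y)))
  obtain ⟨i, hi⟩ := Finite.exists_le iy
  let ψ : MvPolynomial (Fin k) ℤ →+* G i := MvPolynomial.eval₂Hom (Int.castRingHom _) fun y => g (iy y) i (hi y) (xy y)
  have hψ : ∀ q, algebraMap (G i) A (ψ q) = ρ (φ q) := by
    have hext : (algebraMap (G i) A).comp ψ = ρ.comp φ.toRingHom := by
      refine MvPolynomial.ringHom_ext (fun r => by simp) fun y => ?_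
      simp only [ψ, RingHom.comp_apply, MvPolynomial.eval₂Hom_X']
      exact (RingHom.congr_fun (hcompat (iy y) i (hi y)) (xy y)).trans (hxy y)
    exact fun q => RingHom.congr_fun hext q
  obtain ⟨rel, hrel⟩ := hkerφ
  have hk : ∀ r : rel, ∃ j, ∃ h : i ≤ j, g i j h (ψ r) = 0 := fun r => hzero i (ψ r) (by
    have hr : φ r = 0 := hrel.le (Ideal.subset_span r.2)
    rw [hψ, hr, map_zero])
  choose jr hij hjr using hk
  obtain ⟨j₀, hj₀⟩ := Finite.exists_le jr
  obtain ⟨j, hij₀, hjj₀⟩ := directed_of (· ≤ ·) i j₀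
  let ψj := (g i j hij₀).comp ψ
  have hker : RingHom.ker φ.toRingHom ≤ RingHom.ker ψj := by
    rw [show RingHom.ker φ.toRingHom = Ideal.span (rel : Set _) from hrel.symm, Ideal.span_le]
    intro r hr
    show g i j hij₀ (ψ r) = 0
    have h1 : g (jr ⟨r, hr⟩) j ((hj₀ _).trans hjj₀) (g i (jr ⟨r, hr⟩) (hij _) (ψ r)) = g i j hij₀ (ψ r) :=
      RingHom.congr_fun (hcomp i (jr ⟨r, hr⟩) j (hij _) ((hj₀ _).trans hjj₀)) (ψ r)
    rw [← h1, hjr ⟨r, hr⟩, map_zero]
  refine ⟨j, RingHom.liftOfSurjective φ.toRingHom hφ ⟨ψj, hker⟩, RingHom.ext fun r => ?_⟩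
  obtain ⟨q, rfl⟩ := hφ r
  show algebraMap (G j) A (RingHom.liftOfSurjective φ.toRingHom hφ ⟨ψj, hker⟩ (φ.toRingHom q)) = _
  rw [show RingHom.liftOfSurjective φ.toRingHom hφ ⟨ψj, hker⟩ (φ.toRingHom q) = ψj q from
    RingHom.liftOfRightInverse_comp_apply _ _ _ _ _]
  exact ((RingHom.congr_fun (hcompat i j hij₀) (ψ q))).trans (hψ q)

/-- A model of an algebra and a module moves along the stages. -/
theorem exists_model_baseChange {A A₁ Ak B B₁ N N₁ : Type u} [CommRing A] [CommRing A₁] [CommRing Ak] [CommRing B]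
    [CommRing B₁] [Algebra A₁ Ak] [Algebra Ak A] [Algebra A₁ A] [IsScalarTower A₁ Ak A] [Algebra A B] [Algebra A₁ B₁]
    [Algebra A₁ B] [IsScalarTower A₁ A B] [Algebra B₁ B] [IsScalarTower A₁ B₁ B] [Algebra.IsPushout A₁ B₁ A B]
    [AddCommGroup N] [Module B N] [AddCommGroup N₁] [Module B₁ N₁] [Module B₁ N] [IsScalarTower B₁ B N]
    (f₁ : N₁ →ₗ[B₁] N) (hf₁ : IsBaseChange B f₁) :
    ∃ (_ : Algebra (Ak ⊗[A₁] B₁) B) (_ : Algebra Ak B) (_ : IsScalarTower Ak A B) (_ : IsScalarTower Ak (Ak ⊗[A₁] B₁) B)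
      (_ : Module (Ak ⊗[A₁] B₁) N) (_ : IsScalarTower (Ak ⊗[A₁] B₁) B N)
      (f : (Ak ⊗[A₁] B₁) ⊗[B₁] N₁ →ₗ[Ak ⊗[A₁] B₁] N),
      Algebra.IsPushout Ak (Ak ⊗[A₁] B₁) A B ∧ IsBaseChange B f := by
  letI : Algebra Ak B := Algebra.compHom B (algebraMap Ak A)
  haveI : IsScalarTower Ak A B := IsScalarTower.of_algebraMap_eq fun _ => rfl
  haveI : IsScalarTower A₁ Ak B := IsScalarTower.of_algebraMap_eq fun a => by
    show _ = algebraMap A B (algebraMap Ak A (algebraMap A₁ Ak a))
    rw [← IsScalarTower.algebraMap_apply A₁ Ak A, ← IsScalarTower.algebraMap_apply A₁ A B]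
  let Bk := Ak ⊗[A₁] B₁
  letI : Algebra Bk B := (Algebra.TensorProduct.lift (IsScalarTower.toAlgHom A₁ Ak B) (IsScalarTower.toAlgHom A₁ B₁ B)
    fun _ _ => Commute.all _ _).toRingHom.toAlgebra
  haveI : IsScalarTower Ak Bk B := IsScalarTower.of_algebraMap_eq fun a => by
    show _ = Algebra.TensorProduct.lift _ _ _ (a ⊗ₜ[A₁] (1 : B₁))
    simp
  haveI : IsScalarTower B₁ Bk B := IsScalarTower.of_algebraMap_eq fun b => by
    show _ = Algebra.TensorProduct.lift _ _ _ ((1 : Ak) ⊗ₜ[A₁] b)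
    simp
  letI : Module Bk N := Module.compHom N (algebraMap Bk B)
  haveI : IsScalarTower Bk B N := IsScalarTower.of_algebraMap_smul fun _ _ => rfl
  haveI : IsScalarTower B₁ Bk N := IsScalarTower.of_algebraMap_smul fun b x => by
    show algebraMap Bk B (algebraMap B₁ Bk b) • x = b • x
    rw [← IsScalarTower.algebraMap_apply B₁ Bk B, algebraMap_smul]
  haveI : Algebra.IsPushout A₁ Ak B₁ Bk := inferInstance
  haveI : Algebra.IsPushout A₁ A B₁ B := Algebra.IsPushout.symm inferInstance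
  have hpo : Algebra.IsPushout Ak A Bk B :=
    (Algebra.IsPushout.comp_iff (R := A₁) (S := Ak) (R' := B₁) (S' := Bk) (T := A) (T' := B)).1 inferInstance
  refine ⟨inferInstance, inferInstance, inferInstance, inferInstance, inferInstance, inferInstance,
    f₁.liftBaseChange Bk, hpo.symm, IsBaseChange.of_comp (TensorProduct.isBaseChange B₁ N₁ Bk) ?_⟩
  have h : ((f₁.liftBaseChange Bk).restrictScalars B₁) ∘ₗ TensorProduct.mk B₁ Bk N₁ 1 = f₁ :=
    LinearMap.ext fun x => by simp
  rw [h]
  exact hf₁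

/-- The local rings at the contractions of a prime. -/
theorem isDirectedColimitRing_local {ι : Type u} [Preorder ι] {G : ι → Type u} [∀ i, CommRing (G i)]
    {g : ∀ i j, i ≤ j → G i →+* G j} {A : Type u} [CommRing A] [∀ i, Algebra (G i) A]
    (hcolim : FlatCA.IsDirectedColimitRing G g A) (p : Ideal A) [p.IsPrime]
    [∀ i, Algebra (Localization.AtPrime (p.comap (algebraMap (G i) A))) (Localization.AtPrime p)]
    (h : ∀ i x, algebraMap (Localization.AtPrime (p.comap (algebraMap (G i) A))) (Localization.AtPrime p)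
      (algebraMap (G i) _ x) = algebraMap A (Localization.AtPrime p) (algebraMap (G i) A x)) :
    ∃ gl : ∀ i j, i ≤ j → Localization.AtPrime (p.comap (algebraMap (G i) A)) →+*
        Localization.AtPrime (p.comap (algebraMap (G j) A)),
      (∀ i j hij x, gl i j hij (algebraMap (G i) _ x) = algebraMap (G j) _ (g i j hij x)) ∧
      FlatCA.IsDirectedColimitRing (fun i => Localization.AtPrime (p.comap (algebraMap (G i) A))) gl (Localization.AtPrime p) := by
  have hpij : ∀ i j (hij : i ≤ j), p.comap (algebraMap (G i) A) = (p.comap (algebraMap (G j) A)).comap (g i j hij) :=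
    fun i j hij => by
      rw [Ideal.comap_comap]
      exact congrArg (fun f => Ideal.comap f p) (hcolim.2.2.2.2.1 i j hij).symm
  refine ⟨fun i j hij => Localization.localRingHom _ _ (g i j hij) (hpij i j hij),
    fun i j hij x => Localization.localRingHom_to_map _ _ _ _ x, ?_⟩
  exact Groth.Agent.Dev4.isDirectedColimitRing_atPrime hcolim p _ (Localization.AtPrime p) h _
    fun i j hij x => Localization.localRingHom_to_map _ _ _ _ x


/-- Ring form, X = Spec B and the S_i = Spec A_i affine: let A be the colimit of a directed system of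
rings (A_i), p a prime of A with contractions p_i, B a finitely presented A-algebra and N a finitely
presented B-module which is pure along the fibre over p and flat over A at every prime of B over p.
Then for some index i there are a finitely presented A_i-algebra B_i with B ≅ B_i ⊗_{A_i} A and a
finitely presented B_i-module N_i with N ≅ N_i ⊗_{B_i} B, such that N_i is pure along the fibre over
p_i and flat over A_i at every prime of B_i over p_i. -/
theorem result {ι : Type u} [Preorder ι] (G : ι → Type u) [∀ i, CommRing (G i)]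
    (g : ∀ i j, i ≤ j → G i →+* G j) {A : Type u} [CommRing A] [∀ i, Algebra (G i) A] (hcolim : FlatCA.IsDirectedColimitRing G g A)
    {B : Type u} [CommRing B] [Algebra A B] [Algebra.FinitePresentation A B]
    (N : Type u) [AddCommGroup N] [Module B N] [Module A N] [IsScalarTower A B N] [Module.FinitePresentation B N]
    (p : Ideal A) [p.IsPrime] (hpure : FlatCA.IsPureAlong A B N p)
    (hflat : ∀ (q : Ideal B) [q.IsPrime], q.LiesOver p → FlatCA.FlatAt A q N) :
    ∃ (i : ι) (Bi Ni : Type u) (_ : CommRing Bi) (_ : Algebra (G i) Bi) (_ : Algebra Bi B) (_ : Algebra (G i) B)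
      (_ : IsScalarTower (G i) A B) (_ : IsScalarTower (G i) Bi B)
      (_ : AddCommGroup Ni) (_ : Module Bi Ni) (_ : Module (G i) Ni) (_ : IsScalarTower (G i) Bi Ni)
      (_ : Module Bi N) (_ : IsScalarTower Bi B N) (f : Ni →ₗ[Bi] N),
      Algebra.FinitePresentation (G i) Bi ∧ Algebra.IsPushout (G i) Bi A B ∧ Module.FinitePresentation Bi Ni ∧ IsBaseChange B f ∧
      FlatCA.IsPureAlong (G i) Bi Ni (p.comap (algebraMap (G i) A)) ∧
      ∀ (q : Ideal Bi) [q.IsPrime], q.LiesOver (p.comap (algebraMap (G i) A)) → FlatCA.FlatAt (G i) q Ni := by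
  classical
  haveI := Groth.Agent.Dev4.projective_local_of_isPureAlong N p hflat hpure
  obtain ⟨hdir, hne, hid, hcomp, hcompat, hsurj, hzero⟩ := id hcolim
  haveI : IsDirectedOrder ι := hdir
  haveI := hne
  obtain ⟨R, B₀, _, _, _, _, hR, hB₀, ⟨e⟩⟩ := Groth.Agent.FlatH4.exists_approx A B
  obtain ⟨i, χ, hχ⟩ := exists_stage_ringHom hcolim R (algebraMap R A)
  letI : ∀ j : {j // i ≤ j}, Algebra R (G j.1) := fun j => ((g i j.1 j.2).comp χ).toAlgebra
  haveI : ∀ j : {j // i ≤ j}, IsScalarTower R (G j.1) A := fun j => IsScalarTower.of_algebraMap_eq fun r => by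
    show algebraMap R A r = algebraMap (G j.1) A (g i j.1 j.2 (χ r))
    rw [← hχ]
    exact (RingHom.congr_fun (hcompat i j.1 j.2) (χ r)).symm
  let gR : ∀ j k : {j // i ≤ j}, j ≤ k → G j.1 →ₐ[R] G k.1 := fun j k h =>
    { g j.1 k.1 h with
      commutes' := fun r => RingHom.congr_fun (hcomp i j.1 k.1 j.2 h) (χ r) }
  have hR' : FlatCA.IsDirectedColimitRing (fun j : {j // i ≤ j} => G j.1) (fun j k h => (gR j k h).toRingHom) A :=
    Groth.Agent.Dev4.isDirectedColimitRing_tail hcolim i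
  -- the module at a stage
  obtain ⟨m, K, eM, hK⟩ := Module.FinitePresentation.exists_fin B N
  obtain ⟨b, w, hw⟩ := Submodule.fg_iff_exists_fin_generating_family.1 hK
  choose jw hjw xw hxw using fun c : Fin b × Fin m =>
    Groth.Agent.Dev4.exists_stage_tensor (fun j : {j // i ≤ j} => G j.1) gR hR' B₀ ⟨i, le_rfl⟩ (e.symm (w c.1 c.2))
  haveI : IsDirectedOrder {j // i ≤ j} := hR'.1
  haveI : Nonempty {j // i ≤ j} := hR'.2.1
  obtain ⟨j, hj⟩ := Finite.exists_le jw
  let A₁ := G j.1
  let B₁ := A₁ ⊗[R] B₀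
  letI : Algebra A₁ B := Algebra.compHom B (algebraMap A₁ A)
  haveI : IsScalarTower A₁ A B := IsScalarTower.of_algebraMap_eq fun _ => rfl
  let ρ : B₁ →+* B := e.toRingEquiv.toRingHom.comp
    (Algebra.TensorProduct.map (IsScalarTower.toAlgHom R A₁ A) (AlgHom.id R B₀)).toRingHom
  letI : Algebra B₁ B := ρ.toAlgebra
  haveI : IsScalarTower A₁ B₁ B := IsScalarTower.of_algebraMap_eq fun a => by
    show algebraMap A B (algebraMap A₁ A a) = e (algebraMap A₁ A a ⊗ₜ[R] (AlgHom.id R B₀ 1))
    rw [AlgHom.id_apply, ← e.commutes]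
    rfl
  letI : Algebra R B := Algebra.compHom B (algebraMap R A)
  haveI : IsScalarTower R A B := IsScalarTower.of_algebraMap_eq fun _ => rfl
  letI : Algebra B₀ B := (e.toRingEquiv.toRingHom.comp
    (Algebra.TensorProduct.includeRight : B₀ →ₐ[R] A ⊗[R] B₀).toRingHom).toAlgebra
  haveI : IsScalarTower R B₀ B := IsScalarTower.of_algebraMap_eq fun r => by
    show algebraMap A B (algebraMap R A r) = e ((1 : A) ⊗ₜ[R] algebraMap R B₀ r)
    rw [← e.commutes, Algebra.TensorProduct.tmul_one_eq_one_tmul r |>.symm]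
    rfl
  haveI : IsScalarTower B₀ B₁ B := IsScalarTower.of_algebraMap_eq fun c => by
    show e ((1 : A) ⊗ₜ[R] c) = e (Algebra.TensorProduct.map (IsScalarTower.toAlgHom R A₁ A) (AlgHom.id R B₀) ((1 : A₁) ⊗ₜ[R] c))
    simp
  haveI : IsScalarTower R A₁ B := IsScalarTower.of_algebraMap_eq fun r => by
    show algebraMap A B (algebraMap R A r) = algebraMap A B (algebraMap A₁ A (algebraMap R A₁ r))
    rw [← IsScalarTower.algebraMap_apply R A₁ A]
  haveI : IsScalarTower R B₁ B := IsScalarTower.of_algebraMap_eq fun r => by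
    rw [IsScalarTower.algebraMap_apply R A₁ B₁, ← IsScalarTower.algebraMap_apply A₁ B₁ B, ← IsScalarTower.algebraMap_apply R A₁ B]
  haveI : Algebra.IsPushout R A B₀ B := Algebra.IsPushout.of_equiv e (RingHom.ext fun _ => rfl)
  haveI : Algebra.IsPushout A₁ B₁ A B := Algebra.IsPushout.symm
    ((Algebra.IsPushout.comp_iff (R := R) (S := A₁) (R' := B₀) (S' := B₁) (T := A) (T' := B)).1 inferInstance)
  letI : Module B₁ N := Module.compHom N (algebraMap B₁ B)
  haveI : IsScalarTower B₁ B N := IsScalarTower.of_algebraMap_smul fun _ _ => rfl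
  let w₁ : Fin b → Fin m → B₁ := fun c a => (gR (jw (c, a)) j (hj _)).toLinearMap.rTensor B₀ (xw (c, a))
  have hw₁ : ∀ c a, algebraMap B₁ B (w₁ c a) = w c a := fun c a => by
    show e (Algebra.TensorProduct.map (IsScalarTower.toAlgHom R A₁ A) (AlgHom.id R B₀) (w₁ c a)) = w c a
    rw [← e.apply_symm_apply (w c a), ← hxw (c, a)]
    have key : ∀ y, Algebra.TensorProduct.map (IsScalarTower.toAlgHom R A₁ A) (AlgHom.id R B₀)
        ((gR (jw (c, a)) j (hj _)).toLinearMap.rTensor B₀ y) =
        (IsScalarTower.toAlgHom R (G (jw (c, a)).1) A).toLinearMap.rTensor B₀ y := fun y => by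
      induction y using TensorProduct.induction_on with
      | zero => simp
      | add p q hp hq => simp only [map_add, hp, hq]
      | tmul p q =>
        rw [LinearMap.rTensor_tmul, LinearMap.rTensor_tmul, Algebra.TensorProduct.map_tmul, AlgHom.id_apply]
        exact congrArg (· ⊗ₜ[R] q) (RingHom.congr_fun (hcompat _ _ (hj _)) p)
    exact congrArg e (key _)
  let π : (Fin m → B) →ₗ[B] N := eM.symm.toLinearMap.comp K.mkQ
  have hπk : LinearMap.ker π = Submodule.span B (Set.range fun c a => algebraMap B₁ B (w₁ c a)) := by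
    simp only [hw₁]
    rw [show LinearMap.ker π = K by ext x; simp [π, Submodule.Quotient.mk_eq_zero]]
    exact hw.symm
  obtain ⟨f₁, hf₁⟩ := isBaseChange_quotient (B₁ := B₁) w₁ π (eM.symm.surjective.comp K.mkQ_surjective) hπk
  let N₁ := (Fin m → B₁) ⧸ Submodule.span B₁ (Set.range w₁)
  haveI : Module.FinitePresentation B₁ N₁ := Module.finitePresentation_of_surjective
    (Submodule.span B₁ (Set.range w₁)).mkQ (Submodule.mkQ_surjective _)
    (by rw [Submodule.ker_mkQ]; exact Submodule.fg_span (Set.finite_range w₁))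
  haveI : Algebra.FinitePresentation A₁ B₁ := inferInstance
  -- flatness at a later stage
  letI : Module A₁ N := Module.compHom N (algebraMap A₁ A)
  haveI : IsScalarTower A₁ A N := IsScalarTower.of_algebraMap_smul fun _ _ => rfl
  haveI : Algebra.IsPushout A₁ A B₁ B := Algebra.IsPushout.symm inferInstance
  let eA : A ⊗[A₁] N₁ ≃ₗ[A] N := (Algebra.IsPushout.cancelBaseChange A₁ A B₁ B N₁).symm.trans (hf₁.equiv.restrictScalars A)
  let ι₁ := {k : ι // j.1 ≤ k}
  letI : ∀ k : ι₁, Algebra A₁ (G k.1) := fun k => (g j.1 k.1 k.2).toAlgebra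
  haveI : ∀ k : ι₁, IsScalarTower A₁ (G k.1) A := fun k => IsScalarTower.of_algebraMap_eq fun a =>
    (RingHom.congr_fun (hcompat j.1 k.1 k.2) a).symm
  have h₁ := Groth.Agent.Dev4.isDirectedColimitRing_tail hcolim j.1
  let Lc : ι₁ → Type u := fun k => Localization.AtPrime (p.comap (algebraMap (G k.1) A))
  letI : ∀ k : ι₁, Algebra (Localization.AtPrime (p.comap (algebraMap (G k.1) A))) (Localization.AtPrime p) :=
    fun k => (Localization.localRingHom _ p (algebraMap (G k.1) A) rfl).toAlgebra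
  obtain ⟨gl, hgl, hL⟩ := isDirectedColimitRing_local h₁ p fun k x => Localization.localRingHom_to_map _ _ _ rfl x
  let gl' : ∀ k l : ι₁, k ≤ l → Lc k →ₐ[A₁] Lc l := fun k l h =>
    { gl k l h with
      commutes' := fun a => by
        show gl k l h (algebraMap A₁ (Lc k) a) = _
        rw [IsScalarTower.algebraMap_apply A₁ (G k.1) (Lc k), hgl, IsScalarTower.algebraMap_apply A₁ (G l.1) (Lc l)]
        exact congrArg _ (RingHom.congr_fun (hcomp j.1 k.1 l.1 k.2 h) a) }
  haveI : ∀ k : ι₁, IsScalarTower A₁ (Lc k) (Localization.AtPrime p) := fun k => IsScalarTower.of_algebraMap_eq fun a => by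
    rw [IsScalarTower.algebraMap_apply A₁ (G k.1) (Lc k), RingHom.algebraMap_toAlgebra, Localization.localRingHom_to_map,
      ← IsScalarTower.algebraMap_apply A₁ (G k.1) A, ← IsScalarTower.algebraMap_apply A₁ A (Localization.AtPrime p)]
  haveI : Module.Projective (Localization.AtPrime p) (Localization.AtPrime p ⊗[A₁] N₁) := Module.Projective.of_equiv
    ((AlgebraTensorModule.congr (LinearEquiv.refl (Localization.AtPrime p) (Localization.AtPrime p)) eA.symm).trans
      (AlgebraTensorModule.cancelBaseChange A₁ A (Localization.AtPrime p) (Localization.AtPrime p) N₁))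
  obtain ⟨k₁, hk₁⟩ := (Groth.Agent.S4848.result (A₀ := A₁) Lc gl' (Localization.AtPrime p) hL (B₀ := B₁) N₁).1 inferInstance
  haveI := hk₁
  -- purity at a still later stage
  obtain ⟨_, _, _, _, _, _, f₂, hpo₂, hf₂⟩ := exists_model_baseChange (A := A) (A₁ := A₁) (B := B) (B₁ := B₁) (Ak := G k₁.1) f₁ hf₁
  haveI := hpo₂
  let A₂ := G k₁.1
  let B₂ := A₂ ⊗[A₁] B₁
  let N₂ := B₂ ⊗[B₁] N₁
  let ι₂ := {k : ι // k₁.1 ≤ k}
  letI : ∀ k : ι₂, Algebra A₂ (G k.1) := fun k => (g k₁.1 k.1 k.2).toAlgebra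
  haveI : ∀ k : ι₂, IsScalarTower A₂ (G k.1) A := fun k => IsScalarTower.of_algebraMap_eq fun a =>
    (RingHom.congr_fun (hcompat k₁.1 k.1 k.2) a).symm
  let g₂ : ∀ k l : ι₂, k ≤ l → G k.1 →ₐ[A₂] G l.1 := fun k l h =>
    { g k.1 l.1 h with commutes' := fun a => RingHom.congr_fun (hcomp k₁.1 k.1 l.1 k.2 h) a }
  have h₂ : FlatCA.IsDirectedColimitRing (fun k : ι₂ => G k.1) (fun k l h => (g₂ k l h).toRingHom) A :=
    Groth.Agent.Dev4.isDirectedColimitRing_tail hcolim k₁.1
  haveI : Algebra.IsPushout A₁ A₂ B₁ B₂ := inferInstance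
  let eL : ∀ (M : Type u) [CommRing M] [Algebra A₁ M] [Algebra A₂ M] [IsScalarTower A₁ A₂ M],
      M ⊗[A₂] N₂ ≃ₗ[M] M ⊗[A₁] N₁ := fun M _ _ _ _ =>
    (AlgebraTensorModule.congr (LinearEquiv.refl M M) (Algebra.IsPushout.cancelBaseChange A₁ A₂ B₁ B₂ N₁)).trans
      (AlgebraTensorModule.cancelBaseChange A₁ A₂ M M N₁)
  haveI : Module.Flat (Lc k₁) (Lc k₁ ⊗[A₂] N₂) := Module.Flat.of_linearEquiv (eL (Lc k₁))
  haveI : Module.Flat A₂ (Lc k₁ ⊗[A₂] N₂) :=
    haveI : Module.Flat A₂ (Lc k₁) := IsLocalization.flat (Lc k₁) (p.comap (algebraMap A₂ A)).primeCompl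
    Module.Flat.trans A₂ (Lc k₁) _
  haveI : IsScalarTower A₁ A₂ (Localization.AtPrime p) := IsScalarTower.of_algebraMap_eq fun a => by
    rw [IsScalarTower.algebraMap_apply A₁ A (Localization.AtPrime p), IsScalarTower.algebraMap_apply A₁ A₂ A,
      ← IsScalarTower.algebraMap_apply A₂ A (Localization.AtPrime p)]
  haveI : Module.Projective (Localization.AtPrime p) (Localization.AtPrime p ⊗[A₂] N₂) :=
    Module.Projective.of_equiv (eL (Localization.AtPrime p)).symm
  haveI : Algebra.FinitePresentation A₂ B₂ := inferInstance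
  haveI : Module.FinitePresentation B₂ N₂ := inferInstance
  obtain ⟨k, hk⟩ := Groth.Agent.Dev4.exists_stage_isPureAlong (g := g₂) h₂ (B₀ := B₂) N₂ p
  obtain ⟨iA, iG, iT, iT', iM, iMT, f₃, hpo₃, hf₃⟩ := exists_model_baseChange (A := A) (A₁ := A₂) (B := B) (B₁ := B₂) (Ak := G k.1) f₂ hf₂
  let Bk := G k.1 ⊗[A₂] B₂
  let Nk := Bk ⊗[B₂] N₂
  haveI : Algebra.FinitePresentation (G k.1) Bk := inferInstance
  haveI : Module.FinitePresentation Bk Nk := inferInstance
  refine ⟨k.1, Bk, Nk, inferInstance, inferInstance, iA, iG, iT, iT', inferInstance, inferInstance, inferInstance,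
    inferInstance, iM, iMT, f₃, inferInstance, hpo₃, inferInstance, hf₃, hk, fun q _ hq => ?_⟩
  haveI := hq
  let Lk := Localization.AtPrime (p.comap (algebraMap (G k.1) A))
  letI : Algebra (Lc k₁) Lk := (gl k₁ ⟨k.1, k₁.2.trans k.2⟩ k.2).toAlgebra
  haveI : IsScalarTower A₂ (Lc k₁) Lk := IsScalarTower.of_algebraMap_eq fun a => by
    rw [RingHom.algebraMap_toAlgebra]
    refine Eq.trans ?_ (hgl k₁ ⟨k.1, k₁.2.trans k.2⟩ k.2 a).symm
    exact IsScalarTower.algebraMap_apply A₂ (G k.1) Lk a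
  haveI : Algebra.IsPushout A₂ (G k.1) B₂ Bk := inferInstance
  let e₁ : Lk ⊗[G k.1] Nk ≃ₗ[Lk] Lk ⊗[Lc k₁] (Lc k₁ ⊗[A₂] N₂) :=
    ((AlgebraTensorModule.congr (LinearEquiv.refl Lk Lk) (Algebra.IsPushout.cancelBaseChange A₂ (G k.1) B₂ Bk N₂)).trans
      (AlgebraTensorModule.cancelBaseChange A₂ (G k.1) Lk Lk N₂)).trans
      (AlgebraTensorModule.cancelBaseChange A₂ (Lc k₁) Lk Lk N₂).symm
  haveI : Module.Flat Lk (Lk ⊗[G k.1] Nk) := Module.Flat.of_linearEquiv e₁
  haveI : Module.Flat (G k.1) (Lk ⊗[G k.1] Nk) :=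
    haveI : Module.Flat (G k.1) Lk := IsLocalization.flat Lk (p.comap (algebraMap (G k.1) A)).primeCompl
    Module.Flat.trans (G k.1) Lk _
  exact Groth.Agent.Dev4.flatAt_of_flat_local Nk (p.comap (algebraMap (G k.1) A)) q

end Groth.Agent.S1295
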