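import Groth.Statements.S1229
import Groth.Agent.Lib.Dev4.FlatOverChain
import Groth.Agent.Lib.Dev4.Free
import Groth.Agent.Lib.Dev4.Construct
import Groth.Agent.Lib.Hens.Local
import Groth.Agent.S1252
import Groth.Agent.S1295

set_option autoImplicit false
universe u
open FlatMor
open TensorProduct
set_option maxSynthPendingDepth 3
set_option backward.isDefEq.respectTransparency.types false
attribute [local instance] Algebra.TensorProduct.rightAlgebra

set_option backward.isDefEq.respectTransparency.types false

namespace Groth.Agent.S1229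



open IsLocalRing Groth.Agent.Dev4 in
/-- The ideal for a finite type algebra at a point over the closed point of a henselian ring. -/
theorem exists_isFlatLocusIdeal {A S : Type u} [CommRing A] [HenselianLocalRing A] [CommRing S] [Algebra A S]
    [Algebra.FiniteType A S] (N : Type u) [AddCommGroup N] [Module S N] [Module.Finite S N] (q : Ideal S) [q.IsPrime]
    [q.LiesOver (maximalIdeal A)] :
    ∃ I : Ideal A, IsFlatLocusIdeal q N I ∧ (Algebra.FinitePresentation A S → Module.FinitePresentation S N → I.FG) := by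
  classical
  letI : Module A N := Module.compHom N (algebraMap A S)
  haveI : IsScalarTower A S N := IsScalarTower.of_algebraMap_smul fun _ _ => rfl
  by_cases hq : (⟨q, ‹_›⟩ : PrimeSpectrum S) ∈ Module.support S N
  swap
  · refine ⟨⊥, fun R' _ _ _ _ => ⟨fun _ => Ideal.map_bot, fun _ Q _ _ hQq => ?_⟩, fun _ _ => Submodule.fg_bot⟩
    obtain ⟨e, -⟩ := exists_tensorEquiv (R := A) (B := S) R' N
    have hsub : Subsingleton (LocalizedModule Q.primeCompl ((R' ⊗[A] S) ⊗[S] N)) := by
      refine Module.notMem_support_iff (p := (⟨Q, inferInstance⟩ : PrimeSpectrum (R' ⊗[A] S))) |>.1 fun hQ => hq ?_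
      have h1 := (Groth.Agent.FlatPur25.mem_support_baseChange_iff (B := S) (C := R' ⊗[A] S) (M := N) _).1 hQ
      rwa [show PrimeSpectrum.comap (algebraMap S (R' ⊗[A] S)) ⟨Q, inferInstance⟩ = ⟨q, ‹_›⟩ from PrimeSpectrum.ext hQq] at h1
    exact (Module.Flat.of_free : Module.Flat R' (LocalizedModule Q.primeCompl ((R' ⊗[A] S) ⊗[S] N)))
  set m := maximalIdeal A
  obtain ⟨R₁, S₁, _, _, _, _, _, _, _, _, p', q', _, _, hR, hS, hqp, hcd⟩ :=
    Groth.Agent.S1252.result (R := A) (S := S) N m q (exists_fibre_support_point N m q hq)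
  haveI := hqp
  haveI := hR.1
  haveI := hS.1
  haveI : q'.LiesOver q := hS.2.choose
  obtain ⟨hp', hκ⟩ := hR.2
  haveI := hp'
  -- a section of the étale neighbourhood
  let eκ : m.ResidueField ≃ₐ[A] p'.ResidueField := AlgEquiv.ofBijective _ hκ
  let eq : (A ⧸ m) ≃ₐ[A] m.ResidueField :=
    AlgEquiv.ofBijective (IsScalarTower.toAlgHom A (A ⧸ m) m.ResidueField) (Ideal.bijective_algebraMap_quotient_residueField m)
  let σ : R₁ →ₐ[A] A ⧸ m := eq.symm.toAlgHom.comp (eκ.symm.toAlgHom.comp (IsScalarTower.toAlgHom A R₁ p'.ResidueField))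
  obtain ⟨τ, hτ, -⟩ := Groth.Agent.Hens.existsUnique_algHom_lift (Groth.Agent.Hens.henselianRing_maximalIdeal A) σ
  letI : Algebra R₁ A := τ.toRingHom.toAlgebra
  haveI : IsScalarTower A R₁ A := IsScalarTower.of_algebraMap_eq fun a => (τ.commutes a).symm
  haveI hmp : m.LiesOver p' := ⟨Ideal.ext fun r => by
    show r ∈ p' ↔ τ r ∈ m
    rw [← Ideal.Quotient.eq_zero_iff_mem (I := m), show Ideal.Quotient.mk m (τ r) = σ r from AlgHom.congr_fun hτ r]
    show r ∈ p' ↔ eq.symm (eκ.symm (algebraMap R₁ p'.ResidueField r)) = 0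
    rw [map_eq_zero_iff _ eq.symm.injective, map_eq_zero_iff _ eκ.symm.injective, Ideal.algebraMap_residueField_eq_zero]⟩
  have hκ' : Function.Bijective (Ideal.ResidueField.mapₐ p' m (Algebra.ofId R₁ A) hmp.over) := by
    refine ⟨(Ideal.ResidueField.mapₐ p' m (Algebra.ofId R₁ A) hmp.over).toRingHom.injective, fun z => ?_⟩
    obtain ⟨c, rfl⟩ := eq.surjective z
    obtain ⟨a, rfl⟩ := Ideal.Quotient.mk_surjective c
    refine ⟨algebraMap R₁ p'.ResidueField (algebraMap A R₁ a), ?_⟩
    rw [AlgHom.commutes, IsScalarTower.algebraMap_apply R₁ A m.ResidueField, ← IsScalarTower.algebraMap_apply A R₁ A]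
    exact (eq.commutes a).symm
  let S₂ := A ⊗[R₁] S₁
  obtain ⟨q₂, hq₂, hq₂A, hq₂S⟩ := exists_prime_over_both (B := R₁) (SA := A) (S := S₁) m q'
    ((Ideal.over_def q' p').symm.trans (Ideal.over_def m p'))
  haveI := hq₂
  haveI : q₂.LiesOver q' := ⟨hq₂S.symm⟩
  haveI : q₂.LiesOver m := ⟨hq₂A.symm⟩
  letI : Algebra S S₂ := Algebra.compHom S₂ (algebraMap S S₁)
  haveI : IsScalarTower S S₁ S₂ := IsScalarTower.of_algebraMap_eq fun _ => rfl
  haveI : IsScalarTower A S S₂ := IsScalarTower.of_algebraMap_eq fun a => by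
    rw [IsScalarTower.algebraMap_apply S S₁ S₂, ← IsScalarTower.algebraMap_apply A S S₁,
      IsScalarTower.algebraMap_apply A R₁ S₁, ← IsScalarTower.algebraMap_apply R₁ S₁ S₂,
      IsScalarTower.algebraMap_apply R₁ A S₂, ← IsScalarTower.algebraMap_apply A R₁ A]
    rfl
  haveI : q₂.LiesOver q := Ideal.LiesOver.trans q₂ q' q
  haveI : Algebra.Etale R₁ A := Algebra.Etale.of_restrictScalars A R₁ A
  haveI hpo : Algebra.IsPushout R₁ S₁ A S₂ := Algebra.IsPushout.symm inferInstance
  haveI : Algebra.Etale S₁ S₂ := Algebra.Etale.of_equiv (Algebra.IsPushout.equiv R₁ S₁ A S₂ (h := hpo))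
  haveI : Algebra.Etale S S₂ := Algebra.Etale.comp S S₁ S₂
  haveI : IsScalarTower A R₁ S₁ := inferInstance
  haveI : Algebra.FiniteType R₁ S₁ :=
    haveI : Algebra.FiniteType A S₁ := Algebra.FiniteType.trans (S := S) inferInstance inferInstance
    Algebra.FiniteType.of_restrictScalars_finiteType A R₁ S₁
  haveI : Algebra.FiniteType A S₂ := inferInstance
  have hcd₂ : FlatCA.HasCompleteDevissageAt A S₂ (S₂ ⊗[S] N) m q₂ :=
    hasCDA_congr (hasCDA_tensor (hcd (S₁ ⊗[S] N) (TensorProduct.mk S S₁ N 1) (TensorProduct.isBaseChange S N S₁))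
      A m hκ' S₂ q₂) (AlgebraTensorModule.cancelBaseChange S S₁ S₂ S₂ N).symm
  obtain ⟨I, hI, hIfg⟩ := exists_isFlatLocusIdeal_cda (R := A) (S := S₂) (S₂ ⊗[S] N) q₂ hcd₂
  refine ⟨I, fun R' _ _ _ _ => ?_, fun hfpS hfpN => ?_⟩
  · rw [← hI R']
    let C' := R' ⊗[A] S₂
    letI : Algebra S C' := Algebra.compHom C' (algebraMap S S₂)
    haveI : IsScalarTower S S₂ C' := IsScalarTower.of_algebraMap_eq fun _ => rfl
    haveI : Algebra.IsPushout A S₂ R' C' := Algebra.IsPushout.symm inferInstance
    let M' := C' ⊗[S₂] (S₂ ⊗[S] N)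
    haveI : IsScalarTower S C' M' := IsScalarTower.of_algebraMap_smul fun s x => by
      show algebraMap S₂ C' (algebraMap S S₂ s) • x = s • x
      rw [algebraMap_smul, algebraMap_smul]
    exact flatOver_iff_model q q₂ N R' C' M'
      ((TensorProduct.mk S₂ C' (S₂ ⊗[S] N) 1).restrictScalars S ∘ₗ TensorProduct.mk S S₂ N 1)
      ((TensorProduct.isBaseChange S N S₂).comp (TensorProduct.isBaseChange S₂ (S₂ ⊗[S] N) C'))
  · haveI := hfpS
    haveI := hfpN
    haveI : Algebra.FinitePresentation A S₁ := Algebra.FinitePresentation.trans A S S₁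
    haveI : Algebra.FinitePresentation R₁ S₁ := Algebra.FinitePresentation.of_restrict_scalars_finitePresentation A R₁ S₁
    haveI : Algebra.FinitePresentation A S₂ := inferInstance
    exact hIfg inferInstance inferInstance

open IsLocalRing Groth.Agent.Dev4 in
/-- Passing from a finite type model to the local ring. -/
theorem exists_ideal_of_model {A B S : Type u} [CommRing A] [HenselianLocalRing A] [CommRing B] [IsLocalRing B] [Algebra A B]
    [IsLocalHom (algebraMap A B)] [CommRing S] [Algebra A S] [Algebra.FiniteType A S] [Algebra S B] [IsScalarTower A S B]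
    [IsLocalization ((maximalIdeal B).comap (algebraMap S B)).primeCompl B]
    (M : Type u) [AddCommGroup M] [Module B M] [Module S M] [IsScalarTower S B M]
    (N : Type u) [AddCommGroup N] [Module S N] [Module.Finite S N] (g : N →ₗ[S] M) (hg : IsBaseChange B g) :
    ∃ I : Ideal A,
      (∀ (A' B' M' : Type u) [CommRing A'] [IsLocalRing A'] [Algebra A A'] [IsLocalHom (algebraMap A A')]
        [CommRing B'] [Algebra B B'] [Algebra A' B'] [Algebra A B'] [IsScalarTower A B B'] [IsScalarTower A A' B']
        [Algebra.IsPushout A B A' B']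
        [AddCommGroup M'] [Module B' M'] [Module B M'] [IsScalarTower B B' M'] [Module A' M'] [IsScalarTower A' B' M']
        (f : M →ₗ[B] M'), IsBaseChange B' f →
        ((∀ (q : Ideal B') [q.IsPrime], (maximalIdeal A').map (algebraMap A' B') ⊔ (maximalIdeal B).map (algebraMap B B') ≤ q →
            FlatCA.FlatAt A' q M') ↔ I.map (algebraMap A A') = ⊥)) ∧
      (Algebra.FinitePresentation A S → Module.FinitePresentation S N → I.FG) := by
  classical
  let q := (maximalIdeal B).comap (algebraMap S B)
  haveI : (maximalIdeal B).LiesOver q := ⟨rfl⟩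
  haveI : q.LiesOver (maximalIdeal A) := ⟨by
    show _ = ((maximalIdeal B).comap (algebraMap S B)).comap (algebraMap A S)
    rw [Ideal.comap_comap, ← IsScalarTower.algebraMap_eq]
    exact (IsLocalRing.maximalIdeal_comap (algebraMap A B)).symm⟩
  haveI : Module.Flat S B := IsLocalization.flat B q.primeCompl
  obtain ⟨I, hI, hIfg⟩ := exists_isFlatLocusIdeal (A := A) (S := S) N q
  refine ⟨I, ?_, hIfg⟩
  intro A' B' M' _ _ _ _ _ _ _ _ _ _ _ _ _ _ _ _ _ f hf
  rw [← hI A']
  letI : Algebra S B' := Algebra.compHom B' (algebraMap S B)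
  haveI : IsScalarTower S B B' := IsScalarTower.of_algebraMap_eq fun _ => rfl
  letI : Module S M' := Module.compHom M' (algebraMap S B)
  haveI : IsScalarTower S B M' := IsScalarTower.of_algebraMap_smul fun _ _ => rfl
  haveI : IsScalarTower S B' M' := IsScalarTower.of_algebraMap_smul fun s x => by
    show algebraMap B B' (algebraMap S B s) • x = algebraMap S B s • x
    rw [algebraMap_smul]
  rw [flatOver_iff_model q (maximalIdeal B) N A' B' M' ((f.restrictScalars S).comp g) (hg.comp hf)]
  refine ⟨fun h Q _ hQA hQB => h Q (sup_le (Ideal.map_le_iff_le_comap.2 hQA.over.le) (Ideal.map_le_iff_le_comap.2 hQB.ge)),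
    fun h Q _ hQ => ?_⟩
  have h1 : maximalIdeal A' ≤ Q.comap (algebraMap A' B') := Ideal.map_le_iff_le_comap.1 (le_sup_left.trans hQ)
  have h2 : maximalIdeal B ≤ Q.comap (algebraMap B B') := Ideal.map_le_iff_le_comap.1 (le_sup_right.trans hQ)
  exact h Q ⟨((maximalIdeal.isMaximal A').eq_of_le (Ideal.IsPrime.ne_top inferInstance) h1)⟩
    ((maximalIdeal.isMaximal B).eq_of_le (Ideal.IsPrime.ne_top inferInstance) h2).symm

open IsLocalRing in
/-- Changing the submonoid to the complement of the closed point. -/
theorem isLocalization_atMaximal {S B : Type u} [CommRing S] [CommRing B] [IsLocalRing B] [Algebra S B] (W : Submonoid S)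
    [IsLocalization W B] : IsLocalization ((maximalIdeal B).comap (algebraMap S B)).primeCompl B := by
  refine ⟨⟨fun s => ?_, fun z => ?_, fun {x y} h => ?_⟩⟩
  · by_contra hs
    exact s.2 (show algebraMap S B s ∈ maximalIdeal B from (IsLocalRing.mem_maximalIdeal _).2 hs)
  · obtain ⟨⟨a, w, hw⟩, h⟩ := IsLocalization.surj W z
    exact ⟨⟨a, w, fun hm => (IsLocalRing.mem_maximalIdeal _).1 hm (IsLocalization.map_units B (⟨w, hw⟩ : W))⟩, h⟩
  · obtain ⟨⟨w, hw⟩, h'⟩ := IsLocalization.exists_of_eq (M := W) h
    exact ⟨⟨w, fun hm => (IsLocalRing.mem_maximalIdeal _).1 hm (IsLocalization.map_units B (⟨w, hw⟩ : W))⟩, h'⟩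


open IsLocalRing in
/-- Let A be a henselian local ring, A → B a local homomorphism of local rings which is essentially of
finite type, and M a finite B-module. Then some ideal I of A has the following property: for any
local ring A' with a local structure map from A, writing B', M' for the base changes of B, M to A'
(any models), M' is flat over A' at all primes of B' lying above both maximal ideals exactly when
IA' = 0. If A → B is essentially of finite presentation and M is finitely presented over B then I is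
finitely generated. -/
theorem result {A B : Type u} [CommRing A] [HenselianLocalRing A] [CommRing B] [IsLocalRing B] [Algebra A B]
    [IsLocalHom (algebraMap A B)] [Algebra.EssFiniteType A B]
    (M : Type u) [AddCommGroup M] [Module B M] [Module A M] [IsScalarTower A B M] [Module.Finite B M] :
    ∃ I : Ideal A,
      (∀ (A' B' M' : Type u) [CommRing A'] [IsLocalRing A'] [Algebra A A'] [IsLocalHom (algebraMap A A')]
        [CommRing B'] [Algebra B B'] [Algebra A' B'] [Algebra A B'] [IsScalarTower A B B'] [IsScalarTower A A' B']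
        [Algebra.IsPushout A B A' B']
        [AddCommGroup M'] [Module B' M'] [Module B M'] [IsScalarTower B B' M'] [Module A' M'] [IsScalarTower A' B' M']
        (f : M →ₗ[B] M'), IsBaseChange B' f →
        ((∀ (q : Ideal B') [q.IsPrime], (maximalIdeal A').map (algebraMap A' B') ⊔ (maximalIdeal B).map (algebraMap B B') ≤ q →
            FlatCA.FlatAt A' q M') ↔ I.map (algebraMap A A') = ⊥)) ∧
      (FlatCA.EssFinitePresentation A B → Module.FinitePresentation B M → I.FG) := by
  classical
  by_cases hfp : FlatCA.EssFinitePresentation A B ∧ Module.FinitePresentation B M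
  · obtain ⟨⟨S, _, _, _, _, W, hS, hW⟩, hM⟩ := hfp
    haveI := hS
    haveI := hW
    haveI := hM
    haveI := isLocalization_atMaximal (B := B) W
    let T := ((IsLocalRing.maximalIdeal B).comap (algebraMap S B)).primeCompl
    obtain ⟨m, K, eM, hK⟩ := Module.FinitePresentation.exists_fin B M
    obtain ⟨b, w, hw⟩ := Submodule.fg_iff_exists_fin_generating_family.1 hK
    obtain ⟨d, hd⟩ := IsLocalization.exist_integer_multiples_of_finite T fun c : Fin b × Fin m => w c.1 c.2
    choose w₁ hw₁ using fun i a => hd (i, a)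
    letI : Module S M := Module.compHom M (algebraMap S B)
    haveI : IsScalarTower S B M := IsScalarTower.of_algebraMap_smul fun _ _ => rfl
    let π : (Fin m → B) →ₗ[B] M := eM.symm.toLinearMap.comp K.mkQ
    have hu : IsUnit (algebraMap S B d) := IsLocalization.map_units B d
    have hker : LinearMap.ker π = Submodule.span B (Set.range fun i a => algebraMap S B (w₁ i a)) := by
      have hrw : (fun i a => algebraMap S B (w₁ i a)) = fun i => algebraMap S B d • w i := funext fun i => funext fun a => by
        rw [Pi.smul_apply, smul_eq_mul, hw₁ i a, Algebra.smul_def]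
      rw [hrw, show LinearMap.ker π = K by ext x; simp [π, Submodule.Quotient.mk_eq_zero], ← hw]
      refine le_antisymm (Submodule.span_le.2 ?_) (Submodule.span_le.2 ?_)
      · rintro _ ⟨i, rfl⟩
        rw [← one_smul B (w i), ← hu.val_inv_mul, mul_smul]
        exact Submodule.smul_mem _ _ (Submodule.subset_span ⟨i, rfl⟩)
      · rintro _ ⟨i, rfl⟩
        exact Submodule.smul_mem _ _ (Submodule.subset_span ⟨i, rfl⟩)
    obtain ⟨g, hg⟩ := Groth.Agent.S1295.isBaseChange_quotient (B₁ := S) w₁ π (eM.symm.surjective.comp K.mkQ_surjective) hker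
    haveI : Module.FinitePresentation S ((Fin m → S) ⧸ Submodule.span S (Set.range w₁)) :=
      Module.finitePresentation_of_surjective (Submodule.span S (Set.range w₁)).mkQ (Submodule.mkQ_surjective _)
        (by rw [Submodule.ker_mkQ]; exact Submodule.fg_span (Set.finite_range w₁))
    obtain ⟨I, hI, hIfg⟩ := exists_ideal_of_model (A := A) (B := B) (S := S) M _ g hg
    exact ⟨I, hI, fun _ _ => hIfg inferInstance inferInstance⟩
  · let S := Algebra.EssFiniteType.subalgebra A B
    haveI := isLocalization_atMaximal (B := B) (Algebra.EssFiniteType.submonoid A B)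
    let T := ((IsLocalRing.maximalIdeal B).comap (algebraMap S B)).primeCompl
    haveI : IsScalarTower S B M := IsScalarTower.of_algebraMap_smul fun _ _ => rfl
    obtain ⟨G, hG⟩ := (Module.Finite.fg_top : (⊤ : Submodule B M).FG)
    let N := Submodule.span S (G : Set M)
    haveI : Module.Finite S N := Module.Finite.span_of_finite S G.finite_toSet
    have hloc : IsLocalizedModule T N.subtype := by
      refine ⟨fun s => ?_, fun x => ?_, fun {x y} h => ⟨1, by rw [Subtype.ext (show (x : M) = y from h)]⟩⟩
      · refine (Module.End.isUnit_iff _).2 ?_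
        obtain ⟨u, hu⟩ := IsLocalization.map_units B s
        refine ⟨fun x y hxy => ?_, fun x => ⟨(↑u⁻¹ : B) • x, ?_⟩⟩
        · have h' : algebraMap S B s • x = algebraMap S B s • y := by rw [algebraMap_smul, algebraMap_smul]; exact hxy
          rw [← hu] at h'
          exact (smul_left_cancel_iff u).1 h'
        · show (s : S) • ((↑u⁻¹ : B) • x) = x
          rw [← algebraMap_smul B (s : S), ← hu, ← mul_smul, Units.mul_inv, one_smul]
      · have hx : x ∈ Submodule.span B (G : Set M) := hG ▸ Submodule.mem_top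
        induction hx using Submodule.span_induction with
        | mem z hz => exact ⟨(⟨z, Submodule.subset_span hz⟩, 1), by simp⟩
        | zero => exact ⟨(0, 1), by simp⟩
        | add a b _ _ ha hb =>
          obtain ⟨⟨p, s⟩, hp⟩ := ha
          obtain ⟨⟨p', s'⟩, hp'⟩ := hb
          refine ⟨((s' : S) • p + (s : S) • p', s * s'), ?_⟩
          show ((s : S) * (s' : S)) • (a + b) = N.subtype _
          rw [map_add, map_smul, map_smul, ← hp, ← hp']
          show ((s : S) * (s' : S)) • (a + b) = (s' : S) • ((s : S) • a) + (s : S) • ((s' : S) • b)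
          rw [smul_add, ← mul_smul, ← mul_smul, mul_comm (s' : S) (s : S)]
        | smul c a _ ha =>
          obtain ⟨⟨p, s⟩, hp⟩ := ha
          obtain ⟨⟨c₀, t⟩, hc⟩ := IsLocalization.surj T c
          refine ⟨(c₀ • p, t * s), ?_⟩
          show ((t : S) * (s : S)) • (c • a) = N.subtype _
          rw [map_smul, ← hp]
          show ((t : S) * (s : S)) • (c • a) = c₀ • ((s : S) • a)
          have hc' : algebraMap S B (t : S) * c = algebraMap S B c₀ := (mul_comm _ _).trans hc
          rw [← algebraMap_smul B ((t : S) * (s : S)), ← algebraMap_smul B c₀, ← algebraMap_smul B (s : S), map_mul,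
            ← mul_smul, ← mul_smul, ← hc']
          congr 1
          ring
    obtain ⟨I, hI, -⟩ := exists_ideal_of_model (A := A) (B := B) (S := S) M N N.subtype ((isLocalizedModule_iff_isBaseChange T B _).1 hloc)
    exact ⟨I, hI, fun h1 h2 => absurd ⟨h1, h2⟩ hfp⟩

end Groth.Agent.S1229
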