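import Groth.Statements.S2124
import Groth.Agent.Lib.CAlgLow.NullFun
import Mathlib.RingTheory.AdicCompletion.Completeness

set_option autoImplicit false
universe u
open CAlg

namespace Groth.Agent.S2124

open Groth.Agent.CAlgLow in
/-- For a complete ring the coordinate map is the inclusion of the null families up to isomorphism. -/
theorem coordMap_eq {R : Type u} [CommRing R] (I : Ideal R) [IsAdicComplete I R] (α : Type u) :
    ∃ ψ : AdicCompletion I (α →₀ R) ≃ₗ[R] nullFun I α,
      (LinearEquiv.piCongrRight fun _ : α => AdicCompletion.ofLinearEquiv I R).toLinearMap ∘ₗ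
        (nullFun I α).subtype ∘ₗ ψ.toLinearMap = coordMap I α := by
  let E := LinearEquiv.piCongrRight fun _ : α => AdicCompletion.ofLinearEquiv I R
  let ψ₀ : AdicCompletion I (α →₀ R) →ₗ[R] (α → R) := E.symm.toLinearMap ∘ₗ coordMap I α
  have hval : ∀ (r : R) (n : ℕ), ((AdicCompletion.ofLinearEquiv I R r).val n = 0) ↔ r ∈ I ^ n := fun r n => by
    show ((AdicCompletion.of I R r).val n = 0) ↔ _
    rw [AdicCompletion.of_apply, Submodule.mkQ_apply, Submodule.Quotient.mk_eq_zero, smul_eq_mul, Ideal.mul_top]
  have hrange : LinearMap.range ψ₀ = nullFun I α := by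
    ext f
    have h1 : f ∈ LinearMap.range ψ₀ ↔ E f ∈ LinearMap.range (coordMap I α) := by
      constructor
      · rintro ⟨x, rfl⟩; exact ⟨x, (E.apply_symm_apply _).symm⟩
      · rintro ⟨x, hx⟩; exact ⟨x, by show E.symm (coordMap I α x) = f; rw [hx, E.symm_apply_apply]⟩
    rw [h1, range_coordMap, mem_nullFun]
    refine forall_congr' fun n => iff_of_eq (congrArg Set.Finite (Set.ext fun a => ?_))
    simp only [Set.mem_setOf_eq, ne_eq]
    exact not_congr (hval (f a) n)
  refine ⟨(LinearEquiv.ofInjective ψ₀ (E.symm.injective.comp (coordMap_injective I α))).trans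
    (LinearEquiv.ofEq _ _ hrange), LinearMap.ext fun x => ?_⟩
  exact E.apply_symm_apply _


/-- Let `R` be Noetherian and `I`-adically complete and `α` any index set. The map from the `I`-adic
completion of the direct sum `⊕_α R` to the product `∏_α R^∧ = ∏_α R`, induced by the coordinate
projections, is universally injective. -/
theorem result {R : Type u} [CommRing R] [IsNoetherianRing R] (I : Ideal R)
    [IsAdicComplete I R] (α : Type u) :
    CAlgX.UniversallyInjective R
      (LinearMap.pi fun a : α => AdicCompletion.map I (Finsupp.lapply a : (α →₀ R) →ₗ[R] R) :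
        AdicCompletion I (α →₀ R) →ₗ[R] (α → AdicCompletion I R)) := by
  obtain ⟨ψ, hψ⟩ := coordMap_eq I α
  intro Q _ _
  show Function.Injective ((Groth.Agent.CAlgLow.coordMap I α).rTensor Q)
  rw [← hψ, LinearMap.rTensor_comp, LinearMap.rTensor_comp, LinearMap.coe_comp, LinearMap.coe_comp]
  exact (LinearEquiv.rTensor Q (LinearEquiv.piCongrRight fun _ : α => AdicCompletion.ofLinearEquiv I R)).injective.comp
    ((Groth.Agent.CAlgLow.universallyInjective_nullFun I α Q).comp (LinearEquiv.rTensor Q ψ).injective)

end Groth.Agent.S2124
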