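import Groth.Statements.S1198
import Groth.Agent.Lib.CAlgLow.SplitCompl
import Groth.Agent.S1197

set_option autoImplicit false
universe u
open FlatMor

namespace Groth.Agent.S1198

/-- Let R be a Noetherian ring complete with respect to an ideal I and M a flat R-module whose reduction
M/IM is projective over R/I. Then M's I-adic completion is a flat and Mittag-Leffler R-module. -/
theorem result (R : Type u) [CommRing R] [IsNoetherianRing R] (I : Ideal R) [IsAdicComplete I R]
    (M : Type u) [AddCommGroup M] [Module R M] [Module.Flat R M]
    [Module.Projective (R ⧸ I) (M ⧸ (I • ⊤ : Submodule R M))] :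
    Module.Flat R (AdicCompletion I M) ∧ CAlg.IsMittagLeffler R (AdicCompletion I M) := by
  obtain ⟨hF, hML⟩ := Groth.Agent.S1197.result R I M
  haveI := hF
  obtain ⟨s, hs⟩ := Groth.Agent.CAlgLow.exists_section_completion I (Finsupp.linearCombination R (id : M → M))
    (Finsupp.linearCombination_id_surjective R M)
  have hs' : (AdicCompletion.map I (Finsupp.linearCombination R (id : M → M))).restrictScalars R ∘ₗ
      s.restrictScalars R = LinearMap.id := LinearMap.ext fun x => DFunLike.congr_fun hs x
  have hui := Groth.Agent.CAlgLow.ui_of_leftInverse hs'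
  exact ⟨Groth.Agent.CAlgLow.flat_left_of_ui hui, Groth.Agent.CAlgLow.isMittagLeffler_of_ui hui hML⟩

end Groth.Agent.S1198
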