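import Groth.Statements.S1254
import Groth.Agent.Lib.Dev4.DevissageSplit

set_option autoImplicit false
universe u
open FlatMor TensorProduct

set_option backward.isDefEq.respectTransparency.types false

namespace Groth.Agent.S1254

/-- Let S be a finitely presented R-algebra, N a finitely presented S-module which is flat over R, and 𝔯
a prime of R such that N/S/R admits a complete dévissage over 𝔯. Then for some f ∈ R outside 𝔯 the
localization N_f is projective over R_f, and is R_f-isomorphic to a finite product of free modules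
B_i^{r_i} over smooth R_f-algebras B_i whose fibres are geometrically irreducible. -/
theorem result {R S : Type u} [CommRing R] [CommRing S] [Algebra R S] [Algebra.FinitePresentation R S]
    (N : Type u) [AddCommGroup N] [Module S N] [Module R N] [IsScalarTower R S N] [Module.FinitePresentation S N] [Module.Flat R N]
    (rr : Ideal R) [rr.IsPrime] (D : FlatCA.CompleteDevissage R S N rr) :
    ∃ f : R, f ∉ rr ∧
      Module.Projective (Localization.Away f) (LocalizedModule (Submonoid.powers f) N) ∧
      ∃ (k : ℕ) (B : Fin k → Type u) (_ : ∀ i, CommRing (B i)) (_ : ∀ i, Algebra (Localization.Away f) (B i)) (r : Fin k → ℕ),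
        (∀ i, Algebra.Smooth (Localization.Away f) (B i) ∧ FlatCA.GeomIrredFibres (Localization.Away f) (B i)) ∧
        Nonempty (LocalizedModule (Submonoid.powers f) N ≃ₗ[Localization.Away f] (∀ i, Fin (r i) → B i)) := by
  haveI := Dev4.tower_A D 0
  haveI := D.fpSA
  haveI : IsScalarTower R S (D.M 0) := IsScalarTower.of_algebraMap_smul fun x y => by
    rw [← algebraMap_smul (D.A 0) (algebraMap R S x) y, ← IsScalarTower.algebraMap_apply, algebraMap_smul]
  let eN : N ≃ₗ[R] D.M 0 := D.isoN.restrictScalars R
  haveI : Module.FinitePresentation S (D.M 0) := Module.FinitePresentation.of_equiv D.isoN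
  haveI : Module.Finite S (D.A 0) := Module.Finite.of_surjective (Algebra.linearMap S (D.A 0)) D.surjSA
  have hM : Module.FinitePresentation (D.A 0) (D.M 0) := RG4.finitePresentation_of_finite (B := S)
  have hA : Algebra.FinitePresentation R (D.A 0) := Algebra.FinitePresentation.trans R S (D.A 0)
  haveI : Module.Flat R (D.M 0) := Module.Flat.of_linearEquiv eN.symm
  have hflat : Module.Flat R (LocalizedModule (Submonoid.powers (1 : R)) (D.M 0)) :=
    RG4.flat_of_isLocalizedModule (Submonoid.powers (1 : R)) (LocalizedModule.mkLinearMap _ (D.M 0))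
  obtain ⟨k, hk⟩ : ∃ k, D.n = k + 1 := ⟨D.n - 1, (Nat.succ_pred_eq_of_pos D.pos).symm⟩
  obtain ⟨h, hh, -, hsplit⟩ := Dev4.exists_split D k 0 (by omega) 1
    (fun h1 => (inferInstance : rr.IsPrime).ne_top ((Ideal.eq_top_iff_one rr).2 h1)) hflat hA hM
  let L := Localization.Away h
  obtain ⟨e⟩ := hsplit L (IsLocalization.Away.algebraMap_isUnit h)
  let e₀ : LocalizedModule (Submonoid.powers h) N ≃ₗ[L]
      (∀ j : Fin (k + 1), Fin (D.r (0 + j)) → L ⊗[R] D.B (0 + j)) :=
    (LocalizedModule.equivTensorProduct (Submonoid.powers h) N).trans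
      ((LinearEquiv.baseChange R L N (D.M 0) eN).trans e)
  have hB : ∀ j : Fin (k + 1), Algebra.Smooth L (L ⊗[R] D.B (0 + j)) ∧ FlatCA.GeomIrredFibres L (L ⊗[R] D.B (0 + j)) :=
    fun j => by
      haveI := D.smooth (0 + j) (by omega)
      exact ⟨inferInstance, RG4.geomIrredFibres_baseChange L (D.geomIrred (0 + j) (by omega))⟩
  haveI : ∀ j : Fin (k + 1), Module.Projective L (L ⊗[R] D.B (0 + j)) := fun j =>
    haveI := (hB j).1
    Dev4.projective_of_smooth (hB j).2
  haveI : ∀ j : Fin (k + 1), Module.Projective L (Fin (D.r (0 + j)) → L ⊗[R] D.B (0 + j)) := fun j =>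
    Module.Projective.of_equiv (DirectSum.linearEquivFunOnFintype L (Fin (D.r (0 + j))) fun _ => L ⊗[R] D.B (0 + j))
  haveI : Module.Projective L (∀ j : Fin (k + 1), Fin (D.r (0 + j)) → L ⊗[R] D.B (0 + j)) :=
    Module.Projective.of_equiv (DirectSum.linearEquivFunOnFintype L (Fin (k + 1))
      fun j : Fin (k + 1) => Fin (D.r (0 + j)) → L ⊗[R] D.B (0 + j))
  exact ⟨h, hh, Module.Projective.of_equiv e₀.symm, k + 1, fun j => L ⊗[R] D.B (0 + j), inferInstance, inferInstance,
    fun j => D.r (0 + j), hB, ⟨e₀⟩⟩

end Groth.Agent.S1254
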