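import Groth.Statements.S1216
import Groth.Agent.Lib.Dev4.DivisibleQuot

set_option autoImplicit false
universe u
open FlatMor

set_option backward.isDefEq.respectTransparency.types false

namespace Groth.Agent.S1216

/-- Let A → B be a local homomorphism of local rings which is essentially of finite type, with A a
valuation ring, and N a finite B-module flat over A. Then every element x of N has a content ideal,
that is a smallest ideal I of A with x ∈ IN, and this ideal is principal. -/
theorem result {A B : Type u} [CommRing A] [IsDomain A] [ValuationRing A] [CommRing B] [IsLocalRing B] [Algebra A B]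
    [IsLocalHom (algebraMap A B)] [Algebra.EssFiniteType A B]
    (N : Type u) [AddCommGroup N] [Module B N] [Module A N] [IsScalarTower A B N] [Module.Finite B N] [Module.Flat A N] (x : N) :
    ∃ I : Ideal A, I.IsPrincipal ∧ x ∈ I • (⊤ : Submodule A N) ∧ ∀ J : Ideal A, x ∈ J • (⊤ : Submodule A N) → I ≤ J := by
  classical
  let s : Set A := {a | x ∈ Ideal.span {a} • (⊤ : Submodule A N)}
  let 𝔞 : Ideal A := ⨅ a : s, Ideal.span {(a : A)}
  have h1 : (1 : A) ∈ s := by
    show x ∈ Ideal.span {(1 : A)} • (⊤ : Submodule A N)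
    rw [Ideal.span_singleton_one, Submodule.top_smul]
    trivial
  have htot : ∀ a b : A, Ideal.span {a} ≤ Ideal.span {b} ∨ Ideal.span {b} ≤ Ideal.span {a} := fun a b => by
    rcases ((ValuationRing.iff_dvd_total (R := A)).1 inferInstance).total a b with h | h
    · exact Or.inr (Ideal.span_singleton_le_span_singleton.2 h)
    · exact Or.inl (Ideal.span_singleton_le_span_singleton.2 h)
  by_cases hmin : ∃ a ∈ s, Ideal.span {a} ≤ 𝔞
  · obtain ⟨a, ha, hle⟩ := hmin
    refine ⟨Ideal.span {a}, ⟨a, rfl⟩, ha, fun J hJ => ?_⟩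
    obtain ⟨J', hJ'J, ⟨g, hg⟩, hxJ'⟩ : ∃ J' ≤ J, (∃ g, J' = Ideal.span {g}) ∧ x ∈ J' • (⊤ : Submodule A N) := by
      clear ha h1 hle
      induction hJ using Submodule.smul_induction_on' with
      | smul r hr n _ => exact ⟨Ideal.span {r}, (Ideal.span_singleton_le_iff_mem _).2 hr, ⟨r, rfl⟩,
          Submodule.smul_mem_smul (Ideal.mem_span_singleton_self r) trivial⟩
      | add p _ q _ hp hq =>
        obtain ⟨J₁, hJ₁, ⟨g₁, rfl⟩, hp⟩ := hp
        obtain ⟨J₂, hJ₂, ⟨g₂, rfl⟩, hq⟩ := hq
        rcases htot g₁ g₂ with h | h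
        · exact ⟨_, hJ₂, ⟨g₂, rfl⟩, Submodule.add_mem _ (Submodule.smul_mono_left h hp) hq⟩
        · exact ⟨_, hJ₁, ⟨g₁, rfl⟩, Submodule.add_mem _ hp (Submodule.smul_mono_left h hq)⟩
    subst hg
    exact (hle.trans (iInf_le (fun a : s => Ideal.span {(a : A)}) ⟨g, hxJ'⟩)).trans hJ'J
  · simp only [not_exists, not_and] at hmin
    have hlt : ∀ w : A, w ∉ 𝔞 → ∃ a ∈ s, Ideal.span {a} ≤ Ideal.span {w} := fun w hw => by
      simp only [𝔞, Ideal.mem_iInf, not_forall] at hw
      obtain ⟨⟨a, ha⟩, hwa⟩ := hw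
      exact ⟨a, ha, (htot a w).resolve_right fun h => hwa (h (Ideal.mem_span_singleton_self w))⟩
    have hm : 𝔞 ≤ IsLocalRing.maximalIdeal A := IsLocalRing.le_maximalIdeal fun h => hmin 1 h1 (h ▸ le_top)
    have hx : x ∈ 𝔞 • (⊤ : Submodule A N) := by
      refine Groth.Agent.Dev4.mem_smul_top_of_divisible (B := B) 𝔞 hm (fun w hw => ?_) x fun w hw => ?_
      · by_contra hwa
        refine hwa (Ideal.mem_iInf.2 fun ⟨a, ha⟩ => ?_)
        show w ∈ Ideal.span {a}
        by_contra h
        obtain ⟨c, hc⟩ := Ideal.mem_span_singleton'.1 ((htot a w).resolve_right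
          (fun h' => h (h' (Ideal.mem_span_singleton_self w))) (Ideal.mem_span_singleton_self a))
        refine hmin a ha ((Ideal.span_singleton_le_iff_mem _).2 ?_)
        rw [← hc]
        refine hw c ((IsLocalRing.mem_maximalIdeal _).2 fun hu => h ?_)
        rw [← hc, Ideal.span_singleton_mul_left_unit hu]
        exact Ideal.mem_span_singleton_self w
      · obtain ⟨a, ha, hle⟩ := hlt w hw
        exact Submodule.smul_mono_left (hle.trans le_sup_right) ha
    exfalso
    obtain ⟨g, hg𝔞, hxg⟩ : ∃ g ∈ 𝔞, x ∈ Ideal.span {g} • (⊤ : Submodule A N) := by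
      clear_value 𝔞
      clear h1 hmin hlt hm
      induction hx using Submodule.smul_induction_on' with
      | smul r hr n _ => exact ⟨r, hr, Submodule.smul_mem_smul (Ideal.mem_span_singleton_self r) trivial⟩
      | add p _ q _ hp hq =>
        obtain ⟨g₁, hg₁, hp⟩ := hp
        obtain ⟨g₂, hg₂, hq⟩ := hq
        rcases htot g₁ g₂ with h | h
        · exact ⟨g₂, hg₂, Submodule.add_mem _ (Submodule.smul_mono_left h hp) hq⟩
        · exact ⟨g₁, hg₁, Submodule.add_mem _ hp (Submodule.smul_mono_left h hq)⟩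
    exact hmin g hxg ((Ideal.span_singleton_le_iff_mem _).2 hg𝔞)

end Groth.Agent.S1216
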