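import Groth.Statements.S1481
import Mathlib

set_option autoImplicit false
universe u
open FlatMor
set_option maxSynthPendingDepth 3
open TensorProduct

set_option backward.isDefEq.respectTransparency.types false

namespace Groth.Agent.S1481



open AlgebraicGeometry CategoryTheory Limits IsLocalRing

open AlgebraicGeometry CategoryTheory Limits in
/-- Let f : X → S, y a point of X with image t, Y the closure of y, s a point of S and x a point of Y
over s which is generic in an irreducible component of the fibre of Y over s (fibres as subspaces).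
Then there are a valuation ring R and a morphism g : Spec R → S sending the generic point to t and
the closed point to s, such that, writing X' for the base change with projections g' : X' → X and f'
: X' → Spec R, there is a point y' of X' over the generic point with g' y' = y which is generic in
an irreducible component of the generic fibre of g'⁻¹(Y), and a point x' in the closure of y' over
the closed point with g' x' = x which is generic in an irreducible component of the special fibre of
the closure of y'. -/
theorem result {X S : Scheme.{u}} (f : X ⟶ S) (y : X) (s : S) (x : X)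
    (hx : x ∈ closure ({y} : Set ↑X)) (hxs : f x = s)
    (hgen : ∃ C ∈ irreducibleComponents ↑(closure ({y} : Set ↑X) ∩ f ⁻¹' {s}), IsGenericPoint (⟨x, hx, hxs⟩ : ↑(closure ({y} : Set ↑X) ∩ f ⁻¹' {s})) C) :
    ∃ (R : Type u) (_ : CommRing R) (_ : IsDomain R) (_ : ValuationRing R) (g : Spec (CommRingCat.of R) ⟶ S),
      g (⊥ : PrimeSpectrum R) = f y ∧ g (IsLocalRing.closedPoint R) = s ∧
      ∃ (y' : ↑(pullback f g)) (hy't : pullback.snd f g y' = (⊥ : PrimeSpectrum R)) (hy'Y : pullback.fst f g y' ∈ closure ({y} : Set ↑X)),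
        pullback.fst f g y' = y ∧
        (∃ C ∈ irreducibleComponents ↑((pullback.fst f g) ⁻¹' closure ({y} : Set ↑X) ∩ (pullback.snd f g) ⁻¹' {(⊥ : PrimeSpectrum R)}),
          IsGenericPoint (⟨y', hy'Y, hy't⟩ : ↑((pullback.fst f g) ⁻¹' closure ({y} : Set ↑X) ∩ (pullback.snd f g) ⁻¹' {(⊥ : PrimeSpectrum R)})) C) ∧
        ∃ (x' : ↑(pullback f g)) (hx' : x' ∈ closure ({y'} : Set ↑(pullback f g))) (hx's : pullback.snd f g x' = IsLocalRing.closedPoint R),
          pullback.fst f g x' = x ∧
          ∃ C ∈ irreducibleComponents ↑(closure ({y'} : Set ↑(pullback f g)) ∩ (pullback.snd f g) ⁻¹' {IsLocalRing.closedPoint R}),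
            IsGenericPoint (⟨x', hx', hx's⟩ : ↑(closure ({y'} : Set ↑(pullback f g)) ∩ (pullback.snd f g) ⁻¹' {IsLocalRing.closedPoint R})) C := by
  classical
  have hspec : y ⤳ x := specializes_iff_mem_closure.2 hx
  have hfs : f y ⤳ s := hxs ▸ hspec.map f.continuous
  let K := X.residueField y
  let L := S.residueField (f y)
  let ι : L →+* K := (f.residueFieldMap y).hom
  let αX : X.presheaf.stalk x ⟶ K := X.presheaf.stalkSpecializes hspec ≫ X.residue y
  obtain ⟨V, hV, hVloc⟩ := exists_factor_valuationRing αX.hom
  let R : ValuationSubring L := V.comap ι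
  subst hxs
  let αS : S.presheaf.stalk (f x) ⟶ L := S.presheaf.stalkSpecializes hfs ≫ S.residue (f y)
  have hcompat : αS ≫ f.residueFieldMap y = f.stalkMap x ≫ αX := by
    simp only [αS, αX, Category.assoc, Scheme.residue_residueFieldMap]
    rw [← Category.assoc, Scheme.Hom.stalkSpecializes_stalkMap f y x hspec, Category.assoc]
  have hR : ∀ a, αS.hom a ∈ R.toSubring := fun a => by
    change ι (αS.hom a) ∈ V
    have h := congrArg (fun m : S.presheaf.stalk (f x) ⟶ K => m.hom a) hcompat
    simp only [CommRingCat.comp_apply] at h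
    exact h ▸ hV _
  let σ : S.presheaf.stalk (f x) ⟶ CommRingCat.of R := CommRingCat.ofHom (αS.hom.codRestrict R.toSubring hR)
  let τ : X.presheaf.stalk x ⟶ CommRingCat.of V := CommRingCat.ofHom (αX.hom.codRestrict V.toSubring hV)
  let ρ : CommRingCat.of R ⟶ CommRingCat.of V := CommRingCat.ofHom
    ((ι.comp R.subtype).codRestrict V.toSubring fun a => a.2)
  have hρloc : IsLocalHom ρ.hom := ⟨fun a ha => by
    have ha0 : (a : L) ≠ 0 := fun h => ha.ne_zero (Subtype.ext (by
      change ι (a : L) = 0
      rw [h, map_zero]))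
    obtain ⟨b, hb⟩ := ha.exists_right_inv
    have hbV : (b : K) = ι (a : L)⁻¹ := by
      have h : ι (a : L) * (b : K) = 1 := congrArg Subtype.val hb
      rw [map_inv₀]
      exact eq_inv_of_mul_eq_one_right h
    refine isUnit_iff_exists_inv.2 ⟨⟨(a : L)⁻¹, ?_⟩, Subtype.ext (mul_inv_cancel₀ ha0)⟩
    change ι (a : L)⁻¹ ∈ V
    exact hbV ▸ b.2⟩
  have hστ : σ ≫ ρ = f.stalkMap x ≫ τ := by
    ext a
    exact congrArg (fun m : S.presheaf.stalk (f x) ⟶ K => m.hom a) hcompat
  have hσloc : IsLocalHom σ.hom := by
    haveI : IsLocalHom (ρ.hom.comp σ.hom) := by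
      change IsLocalHom (σ ≫ ρ).hom
      rw [hστ]
      exact @RingHom.isLocalHom_comp _ _ _ _ _ _ τ.hom (f.stalkMap x).hom hVloc inferInstance
    exact isLocalHom_of_comp σ.hom ρ.hom
  let g : Spec (CommRingCat.of R) ⟶ S := Spec.map σ ≫ S.fromSpecStalk (f x)
  let k : Spec (CommRingCat.of V) ⟶ Spec (CommRingCat.of R) := Spec.map ρ
  let h : Spec (CommRingCat.of V) ⟶ X := Spec.map τ ≫ X.fromSpecStalk x
  have hkg : h ≫ f = k ≫ g := by
    simp only [h, k, g, Category.assoc]
    rw [← Scheme.SpecMap_stalkMap_fromSpecStalk, ← Spec.map_comp_assoc, ← Spec.map_comp_assoc, hστ]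
  let l := pullback.lift h k hkg
  let η : Spec L ⟶ Spec (CommRingCat.of R) := Spec.map (CommRingCat.ofHom (algebraMap R L))
  have hη : η ≫ g = S.fromSpecResidueField (f y) := by
    simp only [η, g, Scheme.fromSpecResidueField]
    rw [← Spec.map_comp_assoc, ← Scheme.SpecMap_stalkSpecializes_fromSpecStalk hfs, ← Spec.map_comp_assoc]
    rfl
  let ξ : Spec K ⟶ Spec (CommRingCat.of V) := Spec.map (CommRingCat.ofHom (algebraMap V K))
  have hξ : ξ ≫ h = X.fromSpecResidueField y := by
    simp only [ξ, h, Scheme.fromSpecResidueField]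
    rw [← Spec.map_comp_assoc, ← Scheme.SpecMap_stalkSpecializes_fromSpecStalk hspec, ← Spec.map_comp_assoc]
    rfl
  have hηbot : ∀ z, η z = (⊥ : PrimeSpectrum R) := fun z => PrimeSpectrum.ext (by
    change Ideal.comap (algebraMap R L) z.asIdeal = ⊥
    rw [Ideal.eq_bot_of_prime z.asIdeal]
    exact Ideal.comap_bot_of_injective _ Subtype.val_injective)
  have hξbot : ∀ z, ξ z = (⊥ : PrimeSpectrum V) := fun z => PrimeSpectrum.ext (by
    change Ideal.comap (algebraMap V K) z.asIdeal = ⊥
    rw [Ideal.eq_bot_of_prime z.asIdeal]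
    exact Ideal.comap_bot_of_injective _ Subtype.val_injective)
  have hgbot : g (⊥ : PrimeSpectrum R) = f y := by
    rw [← hηbot (closedPoint L), ← Scheme.Hom.comp_apply, hη]
    exact Scheme.fromSpecResidueField_apply _ _
  have hgcl : g (closedPoint R) = f x := by
    simp only [g, Scheme.Hom.comp_apply]
    rw [show Spec.map σ (closedPoint R) = closedPoint (S.presheaf.stalk (f x)) from haveI := hσloc; comap_closedPoint σ.hom]
    exact Scheme.fromSpecStalk_closedPoint
  have hkbot : k (⊥ : PrimeSpectrum V) = (⊥ : PrimeSpectrum R) := PrimeSpectrum.ext (by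
    change Ideal.comap ρ.hom ⊥ = ⊥
    exact Ideal.comap_bot_of_injective _ fun a b hab => Subtype.ext (ι.injective (congrArg Subtype.val hab)))
  have hkcl : k (closedPoint V) = closedPoint R := haveI := hρloc; comap_closedPoint ρ.hom
  let y' := l (⊥ : PrimeSpectrum V)
  have hy'f : pullback.fst f g y' = y := by
    simp only [y', l, ← Scheme.Hom.comp_apply, pullback.lift_fst]
    rw [← hξbot (closedPoint K), ← Scheme.Hom.comp_apply, hξ]
    exact Scheme.fromSpecResidueField_apply _ _
  have hy's : pullback.snd f g y' = (⊥ : PrimeSpectrum R) := by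
    simp only [y', l, ← Scheme.Hom.comp_apply, pullback.lift_snd]
    exact hkbot
  have hy'Y : pullback.fst f g y' ∈ closure ({y} : Set X) := by rw [hy'f]; exact subset_closure rfl
  refine ⟨R, inferInstance, inferInstance, inferInstance, g, hgbot, hgcl, y', hy's, hy'Y, hy'f, ?_, ?_⟩
  · let A := ((pullback.fst f g) ⁻¹' closure ({y} : Set X) ∩ (pullback.snd f g) ⁻¹' {(⊥ : PrimeSpectrum R)})
    let j := pullback.fst (pullback.snd f g) η
    have hj : Topology.IsEmbedding (fun z => pullback.fst f g (j z)) := by
      have e : j ≫ pullback.fst f g = (pullbackLeftPullbackSndIso f g η).hom ≫ pullback.fst f (η ≫ g) :=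
        (pullbackLeftPullbackSndIso_hom_fst _ _ _).symm
      haveI : IsPreimmersion (η ≫ g) := by rw [hη]; infer_instance
      haveI : IsPreimmersion (pullback.fst f (η ≫ g)) := MorphismProperty.pullback_fst _ _ inferInstance
      have := Scheme.Hom.isEmbedding ((pullbackLeftPullbackSndIso f g η).hom ≫ pullback.fst f (η ≫ g))
      rw [← e] at this
      exact this
    have hrange : ∀ z, pullback.snd f g z = (⊥ : PrimeSpectrum R) → ∃ z0, j z0 = z := fun z hz => by
      have : z ∈ Set.range j := by
        rw [Scheme.Pullback.range_fst]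
        exact ⟨closedPoint L, (hηbot _).trans hz.symm⟩
      exact this
    let a : A := ⟨y', hy'Y, hy's⟩
    have hgenA : IsGenericPoint a Set.univ := isGenericPoint_iff_specializes.2 fun z => by
      refine iff_of_true ?_ trivial
      obtain ⟨z0, hz0⟩ := hrange z.1 z.2.2
      obtain ⟨y0, hy0⟩ := hrange y' hy's
      have h1 : y0 ⤳ z0 := by
        rw [← hj.isInducing.specializes_iff]
        simp only [hy0, hy'f, hz0]
        exact specializes_iff_mem_closure.2 z.2.1
      have h2 := h1.map j.continuous
      rw [hy0, hz0] at h2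
      exact (subtype_specializes_iff _ _).2 h2
    exact ⟨Set.univ, ⟨⟨⟨a, trivial⟩, hgenA.isIrreducible.2⟩, fun _ _ _ => Set.subset_univ _⟩, hgenA⟩
  · let A := (closure ({y'} : Set ↑(pullback f g)) ∩ (pullback.snd f g) ⁻¹' {closedPoint R})
    have hA : IsClosed A := isClosed_closure.inter
      ((isClosed_singleton_closedPoint R).preimage (pullback.snd f g).continuous)
    haveI : QuasiSober A := hA.isClosedEmbedding_subtypeVal.quasiSober
    have hbot : (⊥ : PrimeSpectrum V) ⤳ closedPoint V := specializes_closedPoint _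
    let a0 : A := ⟨l (closedPoint V), specializes_iff_mem_closure.1 (hbot.map l.continuous), by
      change pullback.snd f g (l (closedPoint V)) = closedPoint R
      simp only [l, ← Scheme.Hom.comp_apply, pullback.lift_snd]
      exact hkcl⟩
    have ha0x : pullback.fst f g a0.1 = x := by
      simp only [a0, l, ← Scheme.Hom.comp_apply, pullback.lift_fst]
      simp only [h, Scheme.Hom.comp_apply]
      rw [show Spec.map τ (closedPoint V) = closedPoint (X.presheaf.stalk x) from haveI : IsLocalHom τ.hom := hVloc; comap_closedPoint τ.hom]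
      exact Scheme.fromSpecStalk_closedPoint
    obtain ⟨a, ha⟩ := QuasiSober.sober (isIrreducible_irreducibleComponent (x := a0)) isClosed_irreducibleComponent
    refine ⟨a.1, a.2.1, a.2.2, ?_, irreducibleComponent a0, irreducibleComponent_mem_irreducibleComponents a0, ha⟩
    obtain ⟨C, hC, hgx⟩ := hgen
    have hz : pullback.fst f g a.1 ⤳ x := by
      rw [← ha0x]
      exact ((ha.specializes (mem_irreducibleComponent (x := a0))).map continuous_subtype_val).map (pullback.fst f g).continuous
    have hzY : pullback.fst f g a.1 ∈ closure ({y} : Set X) := by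
      have h3 : pullback.fst f g y' ⤳ pullback.fst f g a.1 :=
        (specializes_iff_mem_closure.2 a.2.1).map (pullback.fst f g).continuous
      exact specializes_iff_mem_closure.1 ((specializes_of_eq hy'f.symm).trans h3)
    have hzf : f (pullback.fst f g a.1) = f x := by
      rw [← Scheme.Hom.comp_apply, pullback.condition, Scheme.Hom.comp_apply, show pullback.snd f g a.1 = closedPoint R from a.2.2, hgcl]
    let b : ↑(closure ({y} : Set X) ∩ f ⁻¹' {f x}) := ⟨pullback.fst f g a.1, hzY, hzf⟩
    have hbx : b ⤳ ⟨x, hx, rfl⟩ := (subtype_specializes_iff _ _).2 hz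
    have hle : C ⊆ closure {b} := hgx.def ▸ hbx.closure_subset
    have heq : closure {b} = C := le_antisymm (hC.2 isIrreducible_singleton.closure hle) hle
    have hxb : (⟨x, hx, rfl⟩ : ↑(closure ({y} : Set X) ∩ f ⁻¹' {f x})) ⤳ b :=
      hgx.specializes (heq ▸ subset_closure rfl)
    exact (hz.antisymm (hxb.map continuous_subtype_val)).eq

end Groth.Agent.S1481
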