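import Groth.Statements.S1205
import Groth.Agent.Lib.Dev4.StepLemma
import Groth.Agent.Lib.Dev4.GeomIntProjective
import Groth.Agent.Lib.Dev4.FlatAtTransfer
import Groth.Agent.Lib.RG4.LocFlat
import Groth.Agent.Lib.RG4.Step
import Groth.Agent.Lib.FlatFibInj.Main
import Groth.Agent.Lib.FlatH4.FlatLocusFP
import Mathlib.Tactic.TFAE

set_option autoImplicit false
universe u
open FlatMor

set_option backward.isDefEq.respectTransparency.types false

set_option backward.isDefEq.respectTransparency.types false
namespace Groth.Agent.S1205



open TensorProduct in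
/-- Multiplication by an element avoiding some prime of every fibre over `D(f)` is universally injective after inverting `f`. -/
theorem univInj_smul {R S : Type u} [CommRing R] [CommRing S] [Algebra R S] [Algebra.FiniteType R S] [Module.Flat R S]
    (hS : FlatCA.GeomIntegralFibres R S) (T : Submonoid S) (f : R) (hfT : algebraMap R S f ∈ T) (g : S)
    (hg : ∀ p : Ideal R, p.IsPrime → f ∉ p → ∃ Q : Ideal S, Q.IsPrime ∧ Q.comap (algebraMap R S) = p ∧ g ∉ Q) (r : ℕ) :
    FlatCA.UnivInj R ((g • LinearMap.id : LocalizedModule T (Fin r → S) →ₗ[S] LocalizedModule T (Fin r → S)).restrictScalars R) := by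
  intro Q _ _
  haveI : Module.Flat R (Fin r → S) :=
    Module.Flat.of_linearEquiv (DirectSum.linearEquivFunOnFintype R (Fin r) (fun _ => S)).symm
  haveI : Module.Flat R (LocalizedModule T (Fin r → S)) :=
    RG4.flat_of_isLocalizedModule T (LocalizedModule.mkLinearMap T (Fin r → S))
  haveI : Module.Finite (Localization T) (LocalizedModule T (Fin r → S)) :=
    Module.Finite.of_isLocalizedModule T (LocalizedModule.mkLinearMap T (Fin r → S))
  refine FlatFibInj.injective_lTensor_of_fibres (B := S) (L := Localization T) T _ (fun p _ => ?_) Q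
  let A := Fin r → S
  let κ := p.ResidueField
  have key : ∀ z : LocalizedModule T A ⊗[R] κ, g • z = 0 → z = 0 := by
    intro z hz
    by_cases hfp : f ∈ p
    · clear hz
      induction z using TensorProduct.induction_on with
      | zero => rfl
      | add a b ha hb => rw [ha, hb, add_zero]
      | tmul a x =>
        obtain ⟨b, hb⟩ := ((Module.End.isUnit_iff _).1
          (IsLocalizedModule.map_units (LocalizedModule.mkLinearMap T A) ⟨_, hfT⟩)).2 a
        rw [← hb]
        show (algebraMap R S f • b) ⊗ₜ[R] x = 0
        rw [algebraMap_smul, TensorProduct.smul_tmul, Algebra.smul_def, Ideal.algebraMap_residueField_eq_zero.2 hfp,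
          zero_mul, TensorProduct.tmul_zero]
    · let gA := AlgebraTensorModule.rTensor R κ (LocalizedModule.mkLinearMap T A)
      obtain ⟨⟨w, t⟩, rfl⟩ := IsLocalizedModule.mk'_surjective T gA z
      simp only [Function.uncurry_apply_pair] at hz ⊢
      rw [← IsLocalizedModule.mk'_smul, IsLocalizedModule.mk'_eq_zero'] at hz
      obtain ⟨u, hu⟩ := hz
      rw [IsLocalizedModule.mk'_eq_zero']
      refine ⟨u, ?_⟩
      obtain ⟨P, hP, hPp, hgP⟩ := hg p inferInstance hfp
      haveI := Dev4.isDomain_baseChange hS κ
      have hgp : (1 : κ) ⊗ₜ[R] g ≠ 0 := fun h0 => by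
        let π : κ →ₐ[R] P.ResidueField := Ideal.ResidueField.mapₐ p P (Algebra.ofId R S) hPp.symm
        have h3 := congrArg (Algebra.TensorProduct.lift π (IsScalarTower.toAlgHom R S P.ResidueField)
          fun _ _ => Commute.all _ _) h0
        rw [Algebra.TensorProduct.lift_tmul, map_zero, map_one, one_mul] at h3
        exact hgP (Ideal.algebraMap_residueField_eq_zero.1 h3)
      let ψ := TensorProduct.piRight R R κ (fun _ : Fin r => S)
      have hψ : ∀ (v : A ⊗[R] κ) (j : Fin r), ψ (TensorProduct.comm R A κ (g • v)) j =
          ((1 : κ) ⊗ₜ[R] g) * ψ (TensorProduct.comm R A κ v) j := fun v j => by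
        induction v using TensorProduct.induction_on with
        | zero => simp
        | add a b ha hb => simp only [smul_add, map_add, Pi.add_apply, ha, hb, mul_add]
        | tmul a x =>
          rw [TensorProduct.smul_tmul', TensorProduct.comm_tmul, TensorProduct.comm_tmul]
          show x ⊗ₜ[R] ((g • a) j) = ((1 : κ) ⊗ₜ[R] g) * (x ⊗ₜ[R] a j)
          rw [Algebra.TensorProduct.tmul_mul_tmul, one_mul, Pi.smul_apply, smul_eq_mul]
      apply (TensorProduct.comm R A κ).injective
      apply ψ.injective
      funext j
      rw [map_zero, map_zero, Pi.zero_apply]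
      have h1 := hψ (u • w) j
      rw [smul_comm g u w, hu, map_zero, map_zero, Pi.zero_apply] at h1
      exact (mul_eq_zero.1 h1.symm).resolve_left hgp
  rw [injective_iff_map_eq_zero]
  intro z hz
  apply (TensorProduct.comm R κ (LocalizedModule T A)).injective
  rw [map_zero]
  apply key
  have h2 : ∀ w, TensorProduct.comm R κ (LocalizedModule T A)
      (((g • LinearMap.id : LocalizedModule T A →ₗ[S] LocalizedModule T A).restrictScalars R).lTensor κ w) =
      g • TensorProduct.comm R κ (LocalizedModule T A) w := fun w => by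
    induction w using TensorProduct.induction_on with
    | zero => simp
    | add a b ha hb => simp only [map_add, ha, hb, smul_add]
    | tmul x a => rfl
  rw [← h2, hz, map_zero]

open TensorProduct in
theorem injective_of_univInj {R A B : Type u} [CommRing R] [AddCommGroup A] [Module R A] [AddCommGroup B] [Module R B]
    {f : A →ₗ[R] B} (hf : FlatCA.UnivInj R f) : Function.Injective f := fun x y hxy =>
  (TensorProduct.lid R _).symm.injective (hf R (by
    show (1 : R) ⊗ₜ[R] f x = (1 : R) ⊗ₜ[R] f y
    rw [hxy]))

/-- Injectivity of a localised map passes to larger submonoids. -/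
theorem injective_map_of_le {S A B : Type u} [CommRing S] [AddCommGroup A] [Module S A] [AddCommGroup B] [Module S B]
    (α : A →ₗ[S] B) {T T' : Submonoid S} (hT : T ≤ T') (h : Function.Injective (LocalizedModule.map T α)) :
    Function.Injective (LocalizedModule.map T' α) := by
  refine (injective_iff_map_eq_zero _).2 fun z hz => ?_
  induction z using LocalizedModule.induction_on with
  | h v t =>
    rw [LocalizedModule.map_mk, ← LocalizedModule.zero_mk t, LocalizedModule.mk_eq] at hz
    obtain ⟨u, hu⟩ := hz
    simp only [Submonoid.smul_def, smul_zero, smul_smul] at hu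
    rw [← map_smul] at hu
    have h1 : LocalizedModule.map T α (LocalizedModule.mk (((u : S) * (t : S)) • v) 1) = 0 := by
      rw [LocalizedModule.map_mk, hu, LocalizedModule.zero_mk]
    have h2 := h (h1.trans (map_zero _).symm)
    rw [← LocalizedModule.zero_mk (1 : T), LocalizedModule.mk_eq] at h2
    obtain ⟨w, hw⟩ := h2
    simp only [Submonoid.smul_def, OneMemClass.coe_one, one_smul, smul_zero, smul_smul] at hw
    rw [← LocalizedModule.zero_mk t, LocalizedModule.mk_eq]
    refine ⟨⟨w, hT w.2⟩ * u, ?_⟩
    simp only [Submonoid.smul_def, Submonoid.coe_mul, smul_zero, smul_smul]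
    rw [← hw]; congr 1; ring

open TensorProduct in
/-- Let S be a finitely presented flat R-algebra with geometrically integral fibres, q a prime of S over
the prime 𝔯 of R, so that 𝔭 = 𝔯S is a prime of S, and N a finitely presented S-module. Then there is
an S-linear map α from a finite free module S^r to N inducing a bijection after base change to κ(𝔭);
and for any such α the following are equivalent: N_q is flat over R; for some f ∈ R outside 𝔯 the
localization α_f is universally injective over R and for some g ∈ S outside q the localization of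
the cokernel at g is flat over R; α localized at (the image of) 𝔯 is universally injective over R
and the cokernel is flat over R at q; α localized at 𝔯 is injective and the cokernel is flat at q; α
localized at 𝔭 is bijective and the cokernel is flat at q; α localized at q is injective and the
cokernel is flat at q. (Universal injectivity over R_f or R_𝔯 of a map of modules over these
localizations is the same as over R, which is how it is written.) -/
theorem result {R S : Type u} [CommRing R] [CommRing S] [Algebra R S] [Algebra.FinitePresentation R S] [Module.Flat R S]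
    (hgi : FlatCA.GeomIntegralFibres R S) (rr : Ideal R) [rr.IsPrime] [(rr.map (algebraMap R S)).IsPrime]
    (q : Ideal S) [q.IsPrime] [q.LiesOver rr]
    (N : Type u) [AddCommGroup N] [Module S N] [Module R N] [IsScalarTower R S N] [Module.FinitePresentation S N] :
    (∃ (r : ℕ) (α : (Fin r → S) →ₗ[S] N), Function.Bijective (α.baseChange (rr.map (algebraMap R S)).ResidueField)) ∧
    ∀ (r : ℕ) (α : (Fin r → S) →ₗ[S] N), Function.Bijective (α.baseChange (rr.map (algebraMap R S)).ResidueField) →
      [FlatCA.FlatAt R q N,
       (∃ f : R, f ∉ rr ∧ FlatCA.UnivInj R ((LocalizedModule.map (Submonoid.powers (algebraMap R S f)) α).restrictScalars R)) ∧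
         (∃ g : S, g ∉ q ∧ Module.Flat R (LocalizedModule (Submonoid.powers g) (N ⧸ LinearMap.range α))),
       FlatCA.UnivInj R ((LocalizedModule.map (Algebra.algebraMapSubmonoid S rr.primeCompl) α).restrictScalars R) ∧ FlatCA.FlatAt R q (N ⧸ LinearMap.range α),
       Function.Injective (LocalizedModule.map (Algebra.algebraMapSubmonoid S rr.primeCompl) α) ∧ FlatCA.FlatAt R q (N ⧸ LinearMap.range α),
       Function.Bijective (LocalizedModule.map (rr.map (algebraMap R S)).primeCompl α) ∧ FlatCA.FlatAt R q (N ⧸ LinearMap.range α),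
       Function.Injective (LocalizedModule.map q.primeCompl α) ∧ FlatCA.FlatAt R q (N ⧸ LinearMap.range α)].TFAE := by
  classical
  refine ⟨?_, fun r α hα => ?_⟩
  · obtain ⟨r, α, -, hα⟩ := RG4.exists_bijective_baseChange (D := S) (rr.map (algebraMap R S)).ResidueField N
    exact ⟨r, α, hα⟩
  set ξ := rr.map (algebraMap R S) with hξdef
  have hle : ξ ≤ q := Ideal.map_le_iff_le_comap.2 (Ideal.LiesOver.over (P := q) (p := rr)).le
  have hqrr : ∀ x : R, x ∉ rr → algebraMap R S x ∉ q := fun x hx h => hx (by
    rw [Ideal.LiesOver.over (P := q) (p := rr)]; exact h)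
  have hξo : ξ.comap (algebraMap R S) = rr :=
    le_antisymm ((Ideal.comap_mono hle).trans (Ideal.LiesOver.over (P := q) (p := rr)).ge) Ideal.le_comap_map
  haveI : Module.Flat R (Fin r → S) :=
    Module.Flat.of_linearEquiv (DirectSum.linearEquivFunOnFintype R (Fin r) (fun _ => S)).symm
  -- elements off the generic point are universally regular near `rr`
  have hreg : ∀ g : S, g ∉ ξ → ∃ f : R, f ∉ rr ∧ ∀ T : Submonoid S, algebraMap R S f ∈ T →
      FlatCA.UnivInj R ((g • LinearMap.id : LocalizedModule T (Fin r → S) →ₗ[S] LocalizedModule T (Fin r → S)).restrictScalars R) := by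
    intro g hg
    have hopen : IsOpen (PrimeSpectrum.comap (algebraMap R S) '' ↑(PrimeSpectrum.basicOpen g)) :=
      PrimeSpectrum.isOpenMap_comap_of_hasGoingDown_of_finitePresentation _ (PrimeSpectrum.basicOpen g).isOpen
    obtain ⟨_, ⟨f, rfl⟩, hf, hfsub⟩ := PrimeSpectrum.isTopologicalBasis_basic_opens.exists_subset_of_mem_open
      (a := (⟨rr, inferInstance⟩ : PrimeSpectrum R))
      (show (⟨rr, inferInstance⟩ : PrimeSpectrum R) ∈ PrimeSpectrum.comap (algebraMap R S) '' ↑(PrimeSpectrum.basicOpen g) from
        ⟨⟨ξ, ‹_›⟩, hg, PrimeSpectrum.ext hξo⟩) hopen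
    refine ⟨f, hf, fun T hfT => univInj_smul hgi T f hfT g (fun p hp hfp => ?_) r⟩
    obtain ⟨Q, hgQ, hQ⟩ := hfsub (show (⟨p, hp⟩ : PrimeSpectrum R) ∈ ↑(PrimeSpectrum.basicOpen f) from hfp)
    exact ⟨Q.asIdeal, Q.2, congrArg PrimeSpectrum.asIdeal hQ, hgQ⟩
  -- universal injectivity from flatness at the point
  have hui : FlatCA.FlatAt R q N → ∃ f : R, f ∉ rr ∧ ∀ T : Submonoid S, algebraMap R S f ∈ T →
      FlatCA.UnivInj R ((LocalizedModule.map T α).restrictScalars R) := by
    intro h
    haveI : Module.Flat R (LocalizedModule ξ.primeCompl N) := RG4.flatAt_of_le hle h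
    obtain ⟨g, β, hg, hβ⟩ := Dev4.exists_retraction rr α hα
    obtain ⟨f, hf, hfu⟩ := hreg g hg
    refine ⟨f, hf, fun T hT Q _ _ => ?_⟩
    refine Function.Injective.of_comp (f := ((LocalizedModule.map T β).restrictScalars R).lTensor Q) ?_
    rw [← LinearMap.coe_comp, ← LinearMap.lTensor_comp]
    have heq : ((LocalizedModule.map T β).restrictScalars R).comp ((LocalizedModule.map T α).restrictScalars R) =
        (g • LinearMap.id : LocalizedModule T (Fin r → S) →ₗ[S] LocalizedModule T (Fin r → S)).restrictScalars R :=
      LinearMap.ext fun z => by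
        induction z using LocalizedModule.induction_on with
        | h v t =>
          show LocalizedModule.map T β (LocalizedModule.map T α (LocalizedModule.mk v t)) = g • LocalizedModule.mk v t
          rw [LocalizedModule.map_mk, LocalizedModule.map_mk, hβ, LocalizedModule.smul'_mk]
    rw [heq]; exact hfu T hT Q
  have hcok : FlatCA.FlatAt R q N → FlatCA.FlatAt R q (N ⧸ LinearMap.range α) := by
    intro h
    obtain ⟨f, hf, hfu⟩ := hui h
    haveI : Module.Flat R (LocalizedModule q.primeCompl N) := h
    exact RG4.flat_of_univInj_exact (f := (LocalizedModule.map q.primeCompl α).restrictScalars R)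
      (g := (LocalizedModule.map q.primeCompl (LinearMap.range α).mkQ).restrictScalars R)
      (LocalizedModule.map_surjective q.primeCompl _ (Submodule.mkQ_surjective _))
      (LocalizedModule.map_exact q.primeCompl α _ (LinearMap.exact_map_mkQ_range α))
      (hfu q.primeCompl (hqrr f hf))
  haveI : Module.FinitePresentation S (N ⧸ LinearMap.range α) :=
    Module.finitePresentation_of_surjective (LinearMap.range α).mkQ (Submodule.mkQ_surjective _)
      (by rw [Submodule.ker_mkQ, LinearMap.range_eq_map]; exact Module.Finite.fg_top.map α)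
  have hbasic : FlatCA.FlatAt R q (N ⧸ LinearMap.range α) →
      ∃ g : S, g ∉ q ∧ Module.Flat R (LocalizedModule (Submonoid.powers g) (N ⧸ LinearMap.range α)) := by
    intro h
    obtain ⟨_, ⟨g, rfl⟩, hg, hgsub⟩ := PrimeSpectrum.isTopologicalBasis_basic_opens.exists_subset_of_mem_open
      (a := (⟨q, inferInstance⟩ : PrimeSpectrum S))
      (show (⟨q, inferInstance⟩ : PrimeSpectrum S) ∈ {Q : PrimeSpectrum S |
        Module.Flat R (LocalizedModule Q.asIdeal.primeCompl (N ⧸ LinearMap.range α))} from h)
      FlatH4.isOpen_flat_localized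
    refine ⟨g, hg, ?_⟩
    let T := Submonoid.powers g
    let P := N ⧸ LinearMap.range α
    obtain ⟨eP⟩ := Dev4.exists_localizedEquiv T (Localization T) P
    haveI : Module.Flat R (Localization T ⊗[S] P) := Module.flat_of_isLocalized_maximal (R := R)
      (M := Localization T ⊗[S] P) (Localization T) (fun M => LocalizedModule M.primeCompl (Localization T ⊗[S] P))
      (fun M _ => LocalizedModule.mkLinearMap M.primeCompl _) fun M _ => by
        let Q : PrimeSpectrum S := PrimeSpectrum.comap (algebraMap S (Localization T)) ⟨M, inferInstance⟩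
        haveI : M.LiesOver Q.asIdeal := ⟨rfl⟩
        refine Dev4.flatAt_of_flat_map (R := R) (C := Localization T) P Q.asIdeal M (hgsub fun hh => ?_)
        refine (inferInstance : M.IsPrime).ne_top (Ideal.eq_top_of_isUnit_mem _ hh ?_)
        exact IsLocalization.map_units (Localization T) (⟨g, Submonoid.mem_powers g⟩ : T)
    exact Module.Flat.of_linearEquiv (eP.restrictScalars R)
  tfae_have 1 → 2 := fun h => by
    obtain ⟨f, hf, hfu⟩ := hui h
    exact ⟨⟨f, hf, hfu _ (Submonoid.mem_powers _)⟩, hbasic (hcok h)⟩
  tfae_have 1 → 3 := fun h => by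
    obtain ⟨f, hf, hfu⟩ := hui h
    exact ⟨hfu _ (Algebra.mem_algebraMapSubmonoid_of_mem (⟨f, hf⟩ : rr.primeCompl)), hcok h⟩
  tfae_have 2 → 4 := fun h => by
    obtain ⟨⟨f, hf, hfu⟩, g, hg, hgflat⟩ := h
    refine ⟨injective_map_of_le α ?_ (by have hi := injective_of_univInj hfu; exact hi), ?_⟩
    · rw [Submonoid.powers_le]
      exact Algebra.mem_algebraMapSubmonoid_of_mem (⟨f, hf⟩ : rr.primeCompl)
    · exact RG4.flat_of_isLocalizedModule q.primeCompl
        (IsLocalizedModule.liftOfLE (Submonoid.powers g) q.primeCompl (Submonoid.powers_le.2 hg)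
          (LocalizedModule.mkLinearMap (Submonoid.powers g) (N ⧸ LinearMap.range α))
          (LocalizedModule.mkLinearMap q.primeCompl (N ⧸ LinearMap.range α)))
  tfae_have 3 → 4 := fun h => ⟨by have hi := injective_of_univInj h.1; exact hi, h.2⟩
  tfae_have 4 → 5 := fun h => by
    refine ⟨⟨injective_map_of_le α ?_ h.1, fun z => ?_⟩, h.2⟩
    · rintro _ ⟨x, hx, rfl⟩ hxξ
      exact hx (hξo ▸ hxξ)
    haveI : Subsingleton (ξ.ResidueField ⊗[S] (N ⧸ LinearMap.range α)) := RG4.subsingleton_baseChange_coker _ α hα.2
    have hns : (⟨ξ, ‹_›⟩ : PrimeSpectrum S) ∉ Module.support S (N ⧸ LinearMap.range α) := fun h => by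
      rw [Module.mem_support_iff_nontrivial_residueField_tensorProduct] at h
      exact not_subsingleton _ ‹Subsingleton (ξ.ResidueField ⊗[S] (N ⧸ LinearMap.range α))›
    induction z using LocalizedModule.induction_on with
    | h w t =>
      obtain ⟨u, hu, huw⟩ := Module.notMem_support_iff'.1 hns (Submodule.Quotient.mk w)
      obtain ⟨v, hv⟩ : u • w ∈ LinearMap.range α := (Submodule.Quotient.mk_eq_zero _).1 (by rw [← huw]; rfl)
      refine ⟨LocalizedModule.mk v (⟨u, hu⟩ * t), ?_⟩
      rw [LocalizedModule.map_mk, hv, LocalizedModule.mk_eq]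
      exact ⟨1, by simp only [Submonoid.smul_def, Submonoid.coe_mul, OneMemClass.coe_one, one_smul]; rw [smul_smul, mul_comm]⟩
  tfae_have 5 → 6 := fun h => by
    refine ⟨(injective_iff_map_eq_zero _).2 fun z hz => ?_, h.2⟩
    induction z using LocalizedModule.induction_on with
    | h v t =>
      rw [LocalizedModule.map_mk, ← LocalizedModule.zero_mk t, LocalizedModule.mk_eq] at hz
      obtain ⟨u, hu⟩ := hz
      simp only [Submonoid.smul_def, smul_zero, smul_smul] at hu
      rw [← map_smul] at hu
      have h1 : LocalizedModule.map ξ.primeCompl α (LocalizedModule.mk (((u : S) * (t : S)) • v) 1) = 0 := by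
        rw [LocalizedModule.map_mk, hu, LocalizedModule.zero_mk]
      have h2 := h.1.1 (h1.trans (map_zero _).symm)
      rw [← LocalizedModule.zero_mk (1 : ξ.primeCompl), LocalizedModule.mk_eq] at h2
      obtain ⟨w, hw⟩ := h2
      simp only [Submonoid.smul_def, OneMemClass.coe_one, one_smul, smul_zero] at hw
      obtain ⟨f, hf, hfu⟩ := hreg w w.2
      refine injective_of_univInj (hfu q.primeCompl (hqrr f hf)) ?_
      rw [map_zero]
      show (w : S) • LocalizedModule.mk v t = 0
      rw [LocalizedModule.smul'_mk, ← LocalizedModule.zero_mk t, LocalizedModule.mk_eq]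
      refine ⟨u, ?_⟩
      simp only [Submonoid.smul_def, smul_zero, smul_smul]
      rw [← hw, smul_smul]; congr 1; ring
  tfae_have 6 → 1 := fun h => by
    haveI : Module.Flat R (LocalizedModule q.primeCompl (Fin r → S)) :=
      RG4.flat_of_isLocalizedModule q.primeCompl (LocalizedModule.mkLinearMap q.primeCompl (Fin r → S))
    haveI : Module.Flat R (LocalizedModule q.primeCompl (N ⧸ LinearMap.range α)) := h.2
    exact RG4.flat_of_exact
      (g := (LocalizedModule.map q.primeCompl (LinearMap.range α).mkQ).restrictScalars R)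
      (LocalizedModule.map_surjective q.primeCompl _ (Submodule.mkQ_surjective _))
      (f := (LocalizedModule.map q.primeCompl α).restrictScalars R)
      (LocalizedModule.map_exact q.primeCompl α (LinearMap.range α).mkQ (LinearMap.exact_map_mkQ_range α)) h.1
  tfae_finish

end Groth.Agent.S1205
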