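import Groth.Statements.S1215
import Groth.Agent.Lib.Dev4.MLChain
import Groth.Agent.Lib.Dev4.Henselian

set_option autoImplicit false
universe u
open FlatMor
open TensorProduct
set_option maxSynthPendingDepth 3
set_option backward.isDefEq.respectTransparency.types false

set_option backward.isDefEq.respectTransparency.types false

namespace Groth.Agent.S1215


open IsLocalRing TensorProduct in
/-- The statement with a finite type model. -/
theorem isMittagLeffler_of_model {A B S : Type u} [CommRing A] [HenselianLocalRing A] [CommRing B] [IsLocalRing B] [Algebra A B]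
    [IsLocalHom (algebraMap A B)] [CommRing S] [Algebra A S] [Algebra.FiniteType A S] [Algebra S B] [IsScalarTower A S B]
    [IsLocalization ((maximalIdeal B).comap (algebraMap S B)).primeCompl B]
    (N : Type u) [AddCommGroup N] [Module B N] [Module A N] [IsScalarTower A B N] [Module.Finite B N] [Module.Flat A N]
    [Module S N] [IsScalarTower S B N] [IsScalarTower A S N] :
    CAlg.IsMittagLeffler A N := by
  classical
  let q := (IsLocalRing.maximalIdeal B).comap (algebraMap S B)
  obtain ⟨N₁, hN₁, hloc⟩ := Groth.Agent.Dev4.exists_finite_model (S := S) (B := B) q.primeCompl N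
  haveI : q.LiesOver (IsLocalRing.maximalIdeal A) := ⟨by
    show _ = ((IsLocalRing.maximalIdeal B).comap (algebraMap S B)).comap (algebraMap A S)
    rw [Ideal.comap_comap, ← IsScalarTower.algebraMap_eq]
    exact (IsLocalRing.maximalIdeal_comap (algebraMap A B)).symm⟩
  by_cases hq : (⟨q, inferInstance⟩ : PrimeSpectrum S) ∈ Module.support S N₁
  swap
  · haveI : Subsingleton (LocalizedModule q.primeCompl N₁) := Module.notMem_support_iff.1 hq
    haveI : Subsingleton N := (IsLocalizedModule.iso q.primeCompl N₁.subtype).symm.toEquiv.subsingleton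
    exact Groth.Agent.CAlgLow.isMittagLeffler_of_projective
  obtain ⟨S₂, _, _, _, _, hEt, q₂, _, hq₂, hq₂A, hcd, -⟩ :=
    Groth.Agent.Dev4.exists_cda_henselian (A := A) (S := S) N₁ q hq
  let C := Localization.AtPrime q₂
  have hunit : ∀ s : q.primeCompl, IsUnit (algebraMap S C (s : S)) := fun s => by
    rw [IsScalarTower.algebraMap_apply S S₂ C]
    exact IsLocalization.map_units C (⟨_, fun h => s.2 (hq₂.over.ge h)⟩ : q₂.primeCompl)
  letI : Algebra B C := (IsLocalization.lift (M := q.primeCompl) hunit : B →+* C).toAlgebra
  haveI : IsScalarTower S B C := IsScalarTower.of_algebraMap_eq fun s => (IsLocalization.lift_eq hunit s).symm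
  haveI : IsScalarTower A B C := IsScalarTower.of_algebraMap_eq fun a => by
    rw [IsScalarTower.algebraMap_apply A S B, ← IsScalarTower.algebraMap_apply S B C, IsScalarTower.algebraMap_apply S S₂ C,
      ← IsScalarTower.algebraMap_apply A S S₂, ← IsScalarTower.algebraMap_apply A S₂ C]
  haveI : Module.Flat S C := Module.Flat.trans S S₂ C
  haveI : Module.Flat B C := (Module.flat_iff_of_isLocalization B q.primeCompl C).2 inferInstance
  haveI : IsLocalHom (algebraMap B C) := ⟨fun x hx => by
    obtain ⟨⟨a, s⟩, has⟩ := IsLocalization.surj q.primeCompl x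
    have hs : IsUnit (algebraMap S B s) := IsLocalization.map_units B s
    have ha : IsUnit (algebraMap S₂ C (algebraMap S S₂ a)) := by
      rw [← IsScalarTower.algebraMap_apply, IsScalarTower.algebraMap_apply S B C, ← has, map_mul]
      exact hx.mul (hs.map _)
    have haq : a ∉ q := fun h => (IsLocalization.AtPrime.isUnit_to_map_iff C q₂ _).1 ha (hq₂.over.le h)
    have hab : IsUnit (algebraMap S B a) := IsLocalization.map_units B (⟨a, haq⟩ : q.primeCompl)
    rw [← has] at hab
    exact (IsUnit.mul_iff.1 hab).1⟩
  haveI : Module.FaithfullyFlat B C := Module.FaithfullyFlat.of_flat_of_isLocalHom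
  have hg : IsBaseChange C (((TensorProduct.mk B C N 1).restrictScalars S).comp N₁.subtype) :=
    ((isLocalizedModule_iff_isBaseChange q.primeCompl B _).1 hloc).comp (TensorProduct.isBaseChange B N C)
  let L := LocalizedModule q₂.primeCompl (S₂ ⊗[S] N₁)
  have hgL : IsBaseChange C (((LocalizedModule.mkLinearMap q₂.primeCompl (S₂ ⊗[S] N₁)).restrictScalars S).comp
      (TensorProduct.mk S S₂ N₁ 1)) :=
    (TensorProduct.isBaseChange S N₁ S₂).comp
      ((isLocalizedModule_iff_isBaseChange q₂.primeCompl C (LocalizedModule.mkLinearMap q₂.primeCompl (S₂ ⊗[S] N₁))).1 inferInstance)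
  let e : L ≃ₗ[C] C ⊗[B] N := hgL.equiv.symm.trans hg.equiv
  haveI : Module.Flat A (C ⊗[B] N) := Groth.Agent.Dev4.flat_tensor_of_flat N
  have hflat : FlatCA.FlatAt A q₂ (S₂ ⊗[S] N₁) := Module.Flat.of_linearEquiv (M := C ⊗[B] N) (e.restrictScalars A)
  exact Groth.Agent.CAlgLow.isMittagLeffler_of_ui (Groth.Agent.Dev4.universallyInjective_mk (A := A) (B := B) (C := C) N)
    (Groth.Agent.CAlgLow.isMittagLeffler_congr (e.restrictScalars A).symm
      (Groth.Agent.Dev4.isML_of_cda (S₂ ⊗[S] N₁) q₂ hcd hflat))

/-- Let A → B be a local homomorphism of local rings which is essentially of finite type, with A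
henselian, and N a finite B-module flat over A. Then N is a Mittag-Leffler A-module. (The source
moreover writes N as a filtered colimit of free A-modules with transition maps injective modulo 𝔪_A;
only the Mittag-Leffler conclusion is stated here.) -/
theorem result {A B : Type u} [CommRing A] [HenselianLocalRing A] [CommRing B] [IsLocalRing B] [Algebra A B]
    [IsLocalHom (algebraMap A B)] [Algebra.EssFiniteType A B]
    (N : Type u) [AddCommGroup N] [Module B N] [Module A N] [IsScalarTower A B N] [Module.Finite B N] [Module.Flat A N] :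
    CAlg.IsMittagLeffler A N := by
  let S := Algebra.EssFiniteType.subalgebra A B
  haveI := Groth.Agent.Dev4.isLocalization_atMaximal (B := B) (Algebra.EssFiniteType.submonoid A B)
  haveI : IsScalarTower S B N := IsScalarTower.of_algebraMap_smul fun _ _ => rfl
  exact isMittagLeffler_of_model (A := A) (B := B) (S := S) N

end Groth.Agent.S1215
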