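import Groth.Statements.S1208
import Groth.Agent.Lib.Dev4.Conseq

set_option autoImplicit false
universe u
open FlatMor

set_option backward.isDefEq.respectTransparency.types false

namespace Groth.Agent.S1208


attribute [local instance] Algebra.TensorProduct.rightAlgebra
open TensorProduct IsLocalRing

theorem fp_localized {S C : Type u} [CommRing S] [CommRing C] [Algebra S C] [Module.Flat S C] (N : Type u) [AddCommGroup N]
    [Module S N] (q : Ideal S) [q.IsPrime] (x' : Ideal C) [x'.IsPrime] [hxq : x'.LiesOver q]
    [Module.FinitePresentation C (C ⊗[S] N)] :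
    Module.FinitePresentation (Localization.AtPrime q) (LocalizedModule q.primeCompl N) := by
  let Sq := Localization.AtPrime q
  let Cx := Localization.AtPrime x'
  letI : Algebra Sq Cx := (Localization.localRingHom q x' (algebraMap S C) hxq.over).toAlgebra
  haveI : IsScalarTower S Sq Cx := IsScalarTower.of_algebraMap_eq fun s => by
    rw [RingHom.algebraMap_toAlgebra, Localization.localRingHom_to_map, ← IsScalarTower.algebraMap_apply]
  haveI : IsLocalHom (algebraMap Sq Cx) := Localization.isLocalHom_localRingHom q x' _ hxq.over
  haveI : Module.Flat C Cx := IsLocalization.flat Cx x'.primeCompl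
  haveI : Module.Flat S Cx := Module.Flat.trans S C Cx
  haveI : Algebra.FormallyUnramified S Sq := .of_isLocalization q.primeCompl
  haveI : Algebra.EssFiniteType S Sq := .of_isLocalization Sq q.primeCompl
  haveI : Module.Flat Sq Cx := Algebra.FormallyUnramified.flat_of_restrictScalars S Sq Cx
  haveI : Module.FaithfullyFlat Sq Cx := Module.FaithfullyFlat.of_flat_of_isLocalHom
  let M := LocalizedModule q.primeCompl N
  have hb : IsBaseChange Sq (LocalizedModule.mkLinearMap q.primeCompl N) :=
    (isLocalizedModule_iff_isBaseChange q.primeCompl Sq _).1 inferInstance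
  let e : Cx ⊗[C] (C ⊗[S] N) ≃ₗ[Cx] Cx ⊗[Sq] M :=
    (AlgebraTensorModule.cancelBaseChange S C Cx Cx N).trans
      ((AlgebraTensorModule.cancelBaseChange S Sq Cx Cx N).symm.trans
        (LinearEquiv.baseChange Sq Cx _ _ hb.equiv))
  haveI : Module.FinitePresentation Cx (Cx ⊗[Sq] M) := Module.FinitePresentation.of_equiv e
  exact Dev4.finitePresentation_of_faithfullyFlat (A := Sq) (B := Cx) M

theorem fp_cancel {S A C : Type u} [CommRing S] [CommRing A] [CommRing C] [Algebra S A] [Algebra A C] [Algebra S C]
    [IsScalarTower S A C] (N : Type u) [AddCommGroup N] [Module S N]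
    (h : Module.FinitePresentation C (C ⊗[A] (A ⊗[S] N))) : Module.FinitePresentation C (C ⊗[S] N) :=
  haveI := h
  Module.FinitePresentation.of_equiv (AlgebraTensorModule.cancelBaseChange S A C C N)

/-- A model of the base change. -/
theorem exists_model (R S L : Type u) [CommRing R] [CommRing S] [CommRing L] [Algebra R S] [Algebra R L] [Module.Flat R L] :
    ∃ (SA : Type u) (_ : CommRing SA) (_ : Algebra R SA) (_ : Algebra S SA) (_ : Algebra L SA) (_ : IsScalarTower R S SA)
      (_ : IsScalarTower R L SA) (_ : Algebra.IsPushout R S L SA), Module.Flat S SA :=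
  ⟨S ⊗[R] L, inferInstance, inferInstance, inferInstance, inferInstance, inferInstance, inferInstance, inferInstance,
    inferInstanceAs (Module.Flat S (S ⊗[R] L))⟩

/-- Let S be a finitely presented R-algebra, N a finite S-module and q a prime of S such that N_q is
flat over R. Then N_q is a finitely presented module over S_q. -/
theorem result {R S : Type u} [CommRing R] [CommRing S] [Algebra R S] [Algebra.FinitePresentation R S]
    (N : Type u) [AddCommGroup N] [Module S N] [Module R N] [IsScalarTower R S N] [Module.Finite S N]
    (q : Ideal S) [q.IsPrime] (h : FlatCA.FlatAt R q N) :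
    Module.FinitePresentation (Localization.AtPrime q) (LocalizedModule q.primeCompl N) := by
  let p : Ideal R := q.comap (algebraMap R S)
  haveI : q.LiesOver p := ⟨rfl⟩
  obtain ⟨R', _, _, p', _, hR, hfree⟩ := Dev4.exists_free_local N p q h
  obtain ⟨heR, -, -⟩ := id hR
  haveI := heR
  haveI : Module.Flat R' (Localization.AtPrime p') := IsLocalization.flat (Localization.AtPrime p') p'.primeCompl
  haveI : Module.Flat R (Localization.AtPrime p') := Module.Flat.trans R R' (Localization.AtPrime p')
  obtain ⟨SA, _, _, _, _, _, _, _, hflSA⟩ := exists_model R S (Localization.AtPrime p')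
  haveI := hflSA
  obtain ⟨C, _, _, _, _, _, _, x', _, hxq, -, het, -, -, hfp, -⟩ :=
    hfree SA (SA ⊗[S] N) (TensorProduct.mk S SA N 1) (TensorProduct.isBaseChange S N SA)
  haveI := hxq
  haveI := het
  haveI : Module.Flat S C := Module.Flat.trans S SA C
  haveI : Module.FinitePresentation C (C ⊗[S] N) := fp_cancel N hfp
  exact fp_localized N q x'

end Groth.Agent.S1208
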