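import Groth.Prelude.Def_IntMult
import Mathlib.RingTheory.Regular.RegularSequence
import Mathlib.RingTheory.Support
import Mathlib.Topology.Algebra.Order.Field
import Mathlib.Analysis.SpecificLimits.Basic
import Mathlib.RingTheory.Noetherian.Defs
import Groth.Agent.Lib.KEuler6.Serre
import Groth.Agent.Lib.KEuler6.Tor

set_option autoImplicit false
universe u
open CategoryTheory
attribute [local instance] HasDerivedCategory.standard
namespace IntMult
end IntMult
open IntMult

namespace Groth.Agent.S1914

/-- Let A be a Noetherian local ring, I = (g₁, …, g_c) an ideal generated by a regular sequence and M a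
finite A-module with Supp(M/IM) of dimension ≤ 0. Then c! · length_A(M/I^t M)/t^c tends, as t → ∞,
to Σ_i (−1)^i length_A Tor_i^A(A/I, M); that is, e_I(M, c) equals this alternating sum. -/
theorem result (A : Type u) [CommRing A] [IsNoetherianRing A] [IsLocalRing A] (c : ℕ) (g : Fin c → A) (hreg : RingTheory.Sequence.IsRegular A (List.ofFn g)) (M : Type u) [AddCommGroup M] [Module A M] [Module.Finite A M] (h0 : Module.supportDim A (M ⧸ (Ideal.span (Set.range g) • (⊤ : Submodule A M))) ≤ 0) : Filter.Tendsto (fun t : ℕ => (c.factorial : ℝ) * ((Module.length A (M ⧸ (Ideal.span (Set.range g) ^ t • (⊤ : Submodule A M)))).toNat : ℝ) / (t : ℝ) ^ c) Filter.atTop (nhds (IntMult.chi A (A ⧸ Ideal.span (Set.range g)) M : ℝ)) := by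
  have hs : Ideal.span (Set.range g) = Ideal.ofList (List.ofFn g) := by
    rw [Ideal.ofList]; congr 1; ext a; simp [List.mem_ofFn]
  have hfl : Groth.Agent.KEuler6.FL A M (List.ofFn g) := by
    intro p hp hl
    have hmem : ∀ q : PrimeSpectrum A, p ≤ q →
        q ∈ Module.support A (M ⧸ (Ideal.span (Set.range g) • (⊤ : Submodule A M))) := fun q hq => by
      rw [Module.support_quotient]
      exact ⟨Module.mem_support_mono hq hp, by rw [hs]; exact le_trans hl hq⟩
    have hmax : IsMax (⟨p, hmem p le_rfl⟩ :
        Module.support A (M ⧸ (Ideal.span (Set.range g) • (⊤ : Submodule A M)))) :=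
      (Order.krullDim_nonpos_iff_forall_isMax.1 h0) _
    have := hmax (b := ⟨IsLocalRing.closedPoint A, hmem _ (IsLocalRing.le_maximalIdeal p.isPrime.ne_top)⟩)
      (IsLocalRing.le_maximalIdeal p.isPrime.ne_top)
    rw [show p.asIdeal = IsLocalRing.maximalIdeal A from
      le_antisymm (IsLocalRing.le_maximalIdeal p.isPrime.ne_top) this]
    exact IsLocalRing.maximalIdeal.isMaximal A
  rw [IntMult.chi, Groth.Agent.KEuler6.finsum_tor_eq_chi A M (List.ofFn g) hreg.toIsWeaklyRegular _ hs]
  have h := (Groth.Agent.KEuler6.tendsto_hs A M hfl).const_mul (c.factorial : ℝ)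
  rw [List.length_ofFn, ← hs, mul_div_cancel₀ _ (Nat.cast_ne_zero.2 c.factorial_ne_zero)] at h
  simp only [← mul_div_assoc] at h
  exact h

end Groth.Agent.S1914
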