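import Groth.Statements.S4494
import Groth.Agent.Lib.TorBal27.BaseChange
-- import your own Groth.Agent.* helpers here

set_option autoImplicit false
universe u
open HTor

namespace Groth.Agent.S4494

/-- Case of complexes reduced to single modules (to which the flat base change reduces). Let A → A' be a
ring map making A' a flat A-module, P' an A'-module (viewed also as an A-module) and Q an A-module.
Then for every n there is a bijective map Tor_n^A(P', Q) → Tor_n^{A'}(P', A' ⊗_A Q), semilinear over
A → A'. (Tor is Mathlib's, left derived in the second variable. The published statement gives a
canonical isomorphism for hypertor of complexes bounded below; this row asserts, for single modules,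
that a semilinear bijection exists.) -/
theorem result (A A' : Type u) [CommRing A] [CommRing A']
    [Algebra A A'] [Module.Flat A A'] (P' : Type u) [AddCommGroup P'] [Module A' P'] [Module A P']
    [IsScalarTower A A' P'] (Q : Type u) [AddCommGroup Q] [Module A Q] (n : ℕ) :
    ∃ φ : DRing.Tor A n P' Q →ₛₗ[algebraMap A A'] DRing.Tor A' n P' (TensorProduct A A' Q),
      Function.Bijective φ := by
  exact Groth.Agent.TorBal27.exists_semilinear_left_of_flat P' Q n

end Groth.Agent.S4494
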