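import Groth.Statements.S6470
import Groth.Agent.Lib.Diag27.Apps
import Groth.Agent.Lib.ModM1.Stalk
import Groth.Agent.Lib.SmoothReg17.Basic
-- import your own Groth.Agent.* helpers here

set_option autoImplicit false
universe u
open CategoryTheory CategoryTheory.Limits AlgebraicGeometry
attribute [local instance] HasDerivedCategory.standard
open IntMult

namespace Groth.Agent.S6470

/-- Let X be a nonsingular variety of dimension n and F, G coherent O_X-modules. Suppose the support of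
F has dimension at most r, the support of G has dimension at most s, and the two supports meet in a
set whose dimension does not exceed r + s − n. Then [F]_r and [G]_s intersect properly and [F]_r ·
[G]_s = Σ_p (−1)^p [Tor_p^{O_X}(F, G)]_{r+s−n}; the right side is written through stalks: its
coefficient at ζ with δ(ζ) = r + s − n is Σ_p (−1)^p length_{O_{X,ζ}} Tor_p^{O_{X,ζ}}(F_ζ, G_ζ)
(IntMult.chi), the stalk of the Tor sheaf being the Tor of the stalks. Support bounds are phrased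
through nontrivial stalks. Here X is a nonsingular variety over the algebraically closed field K
(smooth, separated, quasi-compact, integral) with dimension function δ (transcendence degree over K,
recorded by Cyc.DeltaCompat to Spec K with value 0, together with Cyc.IsSetup) and n = dim X = δ of
the generic point; cycles are coefficient functions X → ℤ, proper intersection is
IntMult.IntersectProperly and α · β is the Tor-formula intersection product on coefficient functions
(IntMult.interProd). -/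
theorem result (K : Type u) [Field K] [IsAlgClosed K] (X : Scheme.{u}) (f : X ⟶ Spec (CommRingCat.of K)) [Smooth f] [IsSeparated f] [QuasiCompact f] [IsIntegral X] (δ : X → ℤ) (hX : Cyc.IsSetup X δ) (hδ : Cyc.DeltaCompat f δ (fun _ => 0)) (n : ℤ) (hn : δ (genericPoint X) = n) (F G : X.Modules) (hF : Coh.IsCoh F) (hG : Coh.IsCoh G) (r s : ℤ) (hr : ∀ x : X, Nontrivial (F.presheaf.stalk x) → δ x ≤ r) (hs : ∀ x : X, Nontrivial (G.presheaf.stalk x) → δ x ≤ s) (hrs : ∀ x : X, Nontrivial (F.presheaf.stalk x) → Nontrivial (G.presheaf.stalk x) → δ x ≤ r + s - n) : IntMult.IntersectProperly δ n (Cyc.sheafFun δ r F) (Cyc.sheafFun δ s G) ∧ ∀ ζ : X, IntMult.interProd δ n (Cyc.sheafFun δ r F) (Cyc.sheafFun δ s G) ζ = if δ ζ = r + s - n then IntMult.chi ↑(X.presheaf.stalk ζ) ↑(F.presheaf.stalk ζ) ↑(G.presheaf.stalk ζ) else 0 := by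
  have hd := hX.2.2
  haveI := hX.1
  have hsupp : ∀ {E : X.Modules}, Coh.IsCoh E → ∀ {ξ ζ : X}, ξ ⤳ ζ → Nontrivial (E.presheaf.stalk ξ) →
      Nontrivial (E.presheaf.stalk ζ) := fun {E} hE {ξ ζ} h hn => by
    by_contra hc
    rw [not_nontrivial_iff_subsingleton] at hc
    have hm := (Cyc26.mem_support_stalk_iff hE.1 h).2 hn
    rw [Module.support_eq_empty] at hm
    exact hm
  have hne : ∀ {E : X.Modules} {k : ℤ} {ξ : X}, Cyc.sheafFun δ k E ξ ≠ 0 → δ ξ = k ∧ Nontrivial (E.presheaf.stalk ξ) := by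
    intro E k ξ h
    unfold Cyc.sheafFun at h
    split_ifs at h with hk
    · refine ⟨hk, ?_⟩
      by_contra hc
      rw [not_nontrivial_iff_subsingleton] at hc
      exact h (by rw [Module.length_eq_zero]; simp)
    · exact absurd rfl h
  refine ⟨fun ξ η ζ hξ hη h1 h2 => ?_, fun ζ => ?_⟩
  · obtain ⟨e1, n1⟩ := hne hξ
    obtain ⟨e2, n2⟩ := hne hη
    rw [e1, e2]
    exact hrs ζ (hsupp hF h1 n1) (hsupp hG h2 n2)
  classical
  haveI : IsLocallyNoetherian X := hX.1
  obtain ⟨V, hV, hxV, -⟩ := exists_isAffineOpen_mem_and_subset (show ζ ∈ (⊤ : X.Opens) from trivial)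
  haveI : IsRegularLocalRing (X.presheaf.stalk ζ) := SmoothReg17.isRegularLocalRing_stalk f ζ
  unfold IntMult.interProd
  split_ifs with hζ
  swap
  · refine finsum_eq_zero_of_forall_eq_zero fun p => ?_
    by_contra hp
    obtain ⟨e1, -⟩ := hne (left_ne_zero_of_mul (left_ne_zero_of_mul hp))
    obtain ⟨e2, -⟩ := hne (right_ne_zero_of_mul (left_ne_zero_of_mul hp))
    exact hζ (by have := p.2.2.2; omega)
  haveI := M1.finite_stalk hF.1 hF.2 ζ
  haveI := M1.finite_stalk hG.1 hG.2 ζ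
  by_cases hnF : Nontrivial (F.presheaf.stalk ζ)
  swap
  · haveI := not_nontrivial_iff_subsingleton.1 hnF
    rw [Diag27.chi_eq_zero_of_subsingleton]
    refine finsum_eq_zero_of_forall_eq_zero fun p => ?_
    by_contra hp
    exact hnF (hsupp hF p.2.1 (hne (left_ne_zero_of_mul (left_ne_zero_of_mul hp))).2)
  by_cases hnG : Nontrivial (G.presheaf.stalk ζ)
  swap
  · haveI := not_nontrivial_iff_subsingleton.1 hnG
    rw [Diag27.chi_comm, Diag27.chi_eq_zero_of_subsingleton]
    refine finsum_eq_zero_of_forall_eq_zero fun p => ?_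
    by_contra hp
    exact hnG (hsupp hG p.2.2.1 (hne (right_ne_zero_of_mul (left_ne_zero_of_mul hp))).2)
  have hζr := hr ζ hnF
  have hζs := hs ζ hnG
  let P : PrimeSpectrum (X.presheaf.stalk ζ) → X := fun p => X.fromSpecStalk ζ p
  have hP : ∀ p, P p ⤳ ζ := fun p => Diag27.fromSpecStalk_specializes ζ p
  have hgP : ∀ p, Diag27.genPrime (hP p) = p := fun p => Diag27.genPrime_fromSpecStalk p (hP p)
  have hmem : ∀ {E : X.Modules}, Coh.IsCoh E → ∀ p,
      (p ∈ Module.support (X.presheaf.stalk ζ) (E.presheaf.stalk ζ) ↔ Nontrivial (E.presheaf.stalk (P p))) :=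
    fun {E} hE p => by
      rw [← Cyc26.mem_support_stalk_iff hE.1 (hP p)]
      exact iff_of_eq (congrArg (· ∈ _) (hgP p).symm)
  have hlen : ∀ {E : X.Modules}, Coh.IsCoh E → ∀ p, Herbrand26.locLen p (E.presheaf.stalk ζ) =
      Module.length (X.presheaf.stalk (P p)) (E.presheaf.stalk (P p)) := fun {E} hE p => by
    rw [← Cyc26.locLen_stalk hE.1 (hP p)]
    exact congrArg (fun q => Herbrand26.locLen q _) (hgP p).symm
  have hdim : ∀ p : PrimeSpectrum (X.presheaf.stalk ζ),
      ringKrullDim (X.presheaf.stalk ζ ⧸ p.asIdeal) = ((δ (P p) - δ ζ).toNat : WithBot ℕ∞) := fun p => by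
    have h := Diag27.dim_genPrime hd (hP p)
    rwa [hgP p] at h
  have hsd : ∀ {E : X.Modules}, Coh.IsCoh E → ∀ k : ℤ, (∀ x, Nontrivial (E.presheaf.stalk x) → δ x ≤ k) →
      Module.supportDim (X.presheaf.stalk ζ) (E.presheaf.stalk ζ) ≤ ((k - δ ζ).toNat : ℕ) := fun {E} hE k hk =>
    Diag27.supportDim_le_of_forall fun p hp => by
      rw [hdim p]
      have := hk _ ((hmem hE p).1 hp)
      exact_mod_cast (show (δ (P p) - δ ζ).toNat ≤ (k - δ ζ).toNat by omega)
  have hvan : ∀ p q : PrimeSpectrum (X.presheaf.stalk ζ),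
      Diag27.Meet (A := X.presheaf.stalk ζ) (X.presheaf.stalk ζ ⧸ p.asIdeal) (X.presheaf.stalk ζ ⧸ q.asIdeal) →
      δ (P p) + δ (P q) < r + s →
      IntMult.chi (X.presheaf.stalk ζ) (X.presheaf.stalk ζ ⧸ p.asIdeal) (X.presheaf.stalk ζ ⧸ q.asIdeal) = 0 := by
    intro p q hpq hlt
    have h := Diag27.chi_prime_eq_zero f hd (hP p) (hP q)
    rw [hgP p, hgP q] at h
    exact h hpq (by omega)
  have hMN : Diag27.Meet (A := X.presheaf.stalk ζ) (F.presheaf.stalk ζ) (G.presheaf.stalk ζ) := by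
    intro p h1 h2
    have hle := hrs _ ((hmem hF p).1 h1) ((hmem hG p).1 h2)
    have e := Diag27.eq_of_delta_le hd (hP p) (by omega)
    rw [← hgP p, Diag27.genPrime_congr e (hP p) (specializes_refl ζ), Diag27.genPrime_refl]
  have hsub : ∀ (M : Type u) [AddCommGroup M] [Module (X.presheaf.stalk ζ) M], ∀ p ∈ Module.support (X.presheaf.stalk ζ) M,
      Module.support (X.presheaf.stalk ζ) (X.presheaf.stalk ζ ⧸ p.asIdeal) ⊆ Module.support (X.presheaf.stalk ζ) M := by
    intro M _ _ p hp x hx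
    rw [Module.support_eq_zeroLocus (M := X.presheaf.stalk ζ ⧸ p.asIdeal), Ideal.annihilator_quotient] at hx
    exact Module.mem_support_mono (show p ≤ x from hx) hp
  have hnat : ∀ p, ∀ k : ℤ, δ ζ ≤ k → ringKrullDim (X.presheaf.stalk ζ ⧸ p.asIdeal) = ((k - δ ζ).toNat : ℕ) → δ (P p) = k := by
    intro p k hk h
    rw [hdim p] at h
    have h' : (δ (P p) - δ ζ).toNat = (k - δ ζ).toNat := by exact_mod_cast h
    have := Diag27.delta_le hd (hP p)
    omega
  have hnatlt : ∀ p, ∀ k : ℤ, δ ζ ≤ k → ringKrullDim (X.presheaf.stalk ζ ⧸ p.asIdeal) < ((k - δ ζ).toNat : ℕ) → δ (P p) < k := by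
    intro p k hk h
    rw [hdim p] at h
    have h' : (δ (P p) - δ ζ).toNat < (k - δ ζ).toNat := by exact_mod_cast h
    have := Diag27.delta_le hd (hP p)
    omega
  let Tb := (Diag27.finite_top (G.presheaf.stalk ζ) (hsd hG s hs)).toFinset
  let Ta := (Diag27.finite_top (F.presheaf.stalk ζ) (hsd hF r hr)).toFinset
  have inner : ∀ p : PrimeSpectrum (X.presheaf.stalk ζ), δ (P p) ≤ r →
      Diag27.Meet (A := X.presheaf.stalk ζ) (X.presheaf.stalk ζ ⧸ p.asIdeal) (G.presheaf.stalk ζ) →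
      IntMult.chi (X.presheaf.stalk ζ) (X.presheaf.stalk ζ ⧸ p.asIdeal) (G.presheaf.stalk ζ) = ∑ q ∈ Tb,
        ((Herbrand26.locLen q (G.presheaf.stalk ζ)).toNat : ℤ) *
          IntMult.chi (X.presheaf.stalk ζ) (X.presheaf.stalk ζ ⧸ q.asIdeal) (X.presheaf.stalk ζ ⧸ p.asIdeal) := by
    intro p hp hpm
    rw [Diag27.chi_comm]
    exact Diag27.chi_devissage (X.presheaf.stalk ζ ⧸ p.asIdeal) _
      (fun q hq hqd => hvan q p hq (by have := hnatlt q s hζs hqd; omega)) (G.presheaf.stalk ζ) hpm.symm (hsd hG s hs)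
  have hchi := Diag27.chi_devissage (G.presheaf.stalk ζ) _ (fun p hp hpd => by
      have hlt := hnatlt p r hζr hpd
      rw [inner p hlt.le hp]
      refine Finset.sum_eq_zero fun q hq => ?_
      simp only [Tb, Set.Finite.mem_toFinset, Set.mem_setOf_eq] at hq
      rw [hvan q p (hp.symm.mono (hsub _ q hq.2)) (by have := hs _ ((hmem hG q).1 hq.2); omega), mul_zero])
    (F.presheaf.stalk ζ) hMN (hsd hF r hr)
  let Ψ : PrimeSpectrum (X.presheaf.stalk ζ) × PrimeSpectrum (X.presheaf.stalk ζ) → ℤ := fun y =>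
    if y.1 ∈ Ta ∧ y.2 ∈ Tb then
      ((Herbrand26.locLen y.1 (F.presheaf.stalk ζ)).toNat : ℤ) * (((Herbrand26.locLen y.2 (G.presheaf.stalk ζ)).toNat : ℤ) *
        IntMult.chi (X.presheaf.stalk ζ) (X.presheaf.stalk ζ ⧸ y.2.asIdeal) (X.presheaf.stalk ζ ⧸ y.1.asIdeal))
    else 0
  let g : {p : X × X // p.1 ⤳ ζ ∧ p.2 ⤳ ζ ∧ δ p.1 + δ p.2 - n = δ ζ} →
      PrimeSpectrum (X.presheaf.stalk ζ) × PrimeSpectrum (X.presheaf.stalk ζ) :=
    fun p => (Diag27.genPrime p.2.1, Diag27.genPrime p.2.2.1)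
  have hg : Function.Injective g := fun p q e =>
    Subtype.ext (Prod.ext (Diag27.genPrime_injective p.2.1 q.2.1 (congrArg Prod.fst e))
      (Diag27.genPrime_injective p.2.2.1 q.2.2.1 (congrArg Prod.snd e)))
  have hterm : ∀ p, Cyc.sheafFun δ r F p.1.1 * Cyc.sheafFun δ s G p.1.2 *
      IntMult.mult (IntMult.ptIdeal p.1.1) (IntMult.ptIdeal p.1.2) ζ = Ψ (g p) := by
    rintro ⟨⟨ξ, η⟩, h1, h2, h3⟩
    have key : ∀ {E : X.Modules} (hE : Coh.IsCoh E), haveI := M1.finite_stalk hE.1 hE.2 ζ; ∀ (k : ℤ) (hk : ∀ x, Nontrivial (E.presheaf.stalk x) → δ x ≤ k),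
        δ ζ ≤ k → ∀ {x : X} (hx : x ⤳ ζ), Cyc.sheafFun δ k E x =
        if Diag27.genPrime hx ∈ (Diag27.finite_top (E.presheaf.stalk ζ) (hsd hE k hk)).toFinset then
          ((Herbrand26.locLen (Diag27.genPrime hx) (E.presheaf.stalk ζ)).toNat : ℤ) else 0 := by
      intro E hE k hk hkz x hx
      haveI := M1.finite_stalk hE.1 hE.2 ζ
      simp only [Set.Finite.mem_toFinset, Set.mem_setOf_eq]
      rw [Diag27.dim_genPrime hd hx]
      unfold Cyc.sheafFun
      rw [show Herbrand26.locLen (Diag27.genPrime hx) (E.presheaf.stalk ζ) =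
        Module.length (X.presheaf.stalk x) (E.presheaf.stalk x) from Cyc26.locLen_stalk hE.1 hx]
      have hle := Diag27.delta_le hd hx
      by_cases hxk : δ x = k
      · rw [if_pos hxk]
        by_cases hsu : Diag27.genPrime hx ∈ Module.support (X.presheaf.stalk ζ) (E.presheaf.stalk ζ)
        · rw [if_pos ⟨by rw [hxk], hsu⟩]
        · rw [if_neg (fun h => hsu h.2)]
          haveI := not_nontrivial_iff_subsingleton.1 (mt (Cyc26.mem_support_stalk_iff hE.1 hx).2 hsu)
          rw [Module.length_eq_zero]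
          simp
      · rw [if_neg hxk, if_neg]
        rintro ⟨h, -⟩
        have h' : (δ x - δ ζ).toNat = (k - δ ζ).toNat := by exact_mod_cast h
        exact hxk (by omega)
    simp only [Ψ, g]
    rw [key hF r hr hζr h1, key hG s hs hζs h2]
    unfold IntMult.mult
    rw [Diag27.stalkIdeal_ptIdeal h1, Diag27.stalkIdeal_ptIdeal h2]
    by_cases c1 : Diag27.genPrime h1 ∈ Ta <;> by_cases c2 : Diag27.genPrime h2 ∈ Tb
    · rw [if_pos c1, if_pos c2, if_pos ⟨c1, c2⟩, mul_assoc]
    · rw [if_pos c1, if_neg c2, if_neg (fun h => c2 h.2), mul_zero, zero_mul]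
    · rw [if_neg c1, if_pos c2, if_neg (fun h => c1 h.1), zero_mul, zero_mul]
    · rw [if_neg c1, if_neg c2, if_neg (fun h => c1 h.1), zero_mul, zero_mul]
  rw [finsum_congr hterm, ← finsum_mem_range hg, finsum_mem_eq_sum_of_subset Ψ (t := Ta ×ˢ Tb), Finset.sum_product, hchi]
  · refine Finset.sum_congr rfl fun p hp => ?_
    have hp' := hp
    simp only [Ta, Set.Finite.mem_toFinset, Set.mem_setOf_eq] at hp'
    rw [inner p (hnat p r hζr hp'.1).le (hMN.mono (hsub _ p hp'.2)), Finset.mul_sum]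
    exact Finset.sum_congr rfl fun q hq => if_pos ⟨hp, hq⟩
  · rintro y ⟨-, hy⟩
    simp only [Function.mem_support, Ψ] at hy
    split_ifs at hy with h
    · exact Finset.mem_product.2 h
    · exact absurd rfl hy
  · rintro ⟨p, q⟩ hy
    rw [Finset.mem_coe, Finset.mem_product] at hy
    simp only [Ta, Tb, Set.Finite.mem_toFinset, Set.mem_setOf_eq] at hy
    refine ⟨⟨(P p, P q), hP p, hP q, ?_⟩, Prod.ext (hgP p) (hgP q)⟩
    show δ (P p) + δ (P q) - n = δ ζ
    rw [hnat p r hζr hy.1.1, hnat q s hζs hy.2.1]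
    exact hζ.symm


end Groth.Agent.S6470
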