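import Groth.Statements.S1950
import Groth.Agent.Lib.Diag27.ProjGeom
-- import your own Groth.Agent.* helpers here

set_option autoImplicit false
universe u
open CategoryTheory CategoryTheory.Limits AlgebraicGeometry
attribute [local instance] HasDerivedCategory.standard
open IntMult

namespace Groth.Agent.S1950

/-- Let f : X → Y be proper and flat, where X and Y are nonsingular varieties over K of dimensions n and
m, e = n − m, α an r-cycle on X and β an s-cycle on Y such that α and f^*β intersect properly. The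
pushforward f_*α then meets β properly, and on Y the cycle f_*α · β equals f_*(α · f^*β) (flat
pullback and products taken coefficientwise; f_* is Mathlib's pushforward, applied to any cycle with
the coefficients of α · f^*β). Here X is a nonsingular variety over the algebraically closed field K
(smooth, separated, quasi-compact, integral) with dimension function δ (transcendence degree) and n
= dim X; cycles are Mathlib AlgebraicCycles with Cyc.Zk membership, proper intersection is
IntMult.IntersectProperly and α · β is the Tor-formula intersection product on coefficient functions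
(IntMult.interProd), bundled where needed as 'any cycle with these coefficients'. -/
theorem result (K : Type u) [Field K] [IsAlgClosed K] (X Y : Scheme.{u}) (f : X ⟶ Y) (gX : X ⟶ Spec (CommRingCat.of K)) (gY : Y ⟶ Spec (CommRingCat.of K)) (hf : f ≫ gY = gX) [Smooth gX] [IsSeparated gX] [QuasiCompact gX] [IsIntegral X] [Smooth gY] [IsSeparated gY] [QuasiCompact gY] [IsIntegral Y] [Flat f] [IsProper f] (δX : X → ℤ) (δY : Y → ℤ) (hX : Cyc.IsSetup X δX) (hY : Cyc.IsSetup Y δY) (hδX : Cyc.DeltaCompat gX δX (fun _ => 0)) (hδY : Cyc.DeltaCompat gY δY (fun _ => 0)) (hδ : Cyc.DeltaCompat f δX δY) (n m : ℤ) (hn : δX (genericPoint X) = n) (hm : δY (genericPoint Y) = m) (e : ℕ) (he : (e : ℤ) = n - m) (hrel : Cyc.HasRelDim f e) (r s : ℤ) (α : AlgebraicCycle X ℤ) (β : AlgebraicCycle Y ℤ) (hα : α ∈ Cyc.Zk X δX r) (hβ : β ∈ Cyc.Zk Y δY s) (hprop : IntMult.IntersectProperly δX n ⇑α (Cyc.pullFun f δX δY e ⇑β)) (γ : AlgebraicCycle X ℤ) (hγ : ⇑γ = IntMult.interProd δX n ⇑α (Cyc.pullFun f δX δY e ⇑β)) : IntMult.IntersectProperly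 δY m ⇑(AlgebraicCycle.map f δX δY α) ⇑β ∧ IntMult.interProd δY m ⇑(AlgebraicCycle.map f δX δY α) ⇑β = ⇑(AlgebraicCycle.map f δX δY γ) := by
  classical
  subst hf
  haveI : LocallyOfFiniteType f := locallyOfFiniteType_of_comp f gY
  haveI : IsLocallyNoetherian X := hX.1
  haveI : IsLocallyNoetherian Y := hY.1
  haveI : CompactSpace Y := QuasiCompact.compactSpace_of_compactSpace gY
  haveI : CompactSpace X := QuasiCompact.compactSpace_of_compactSpace (f ≫ gY)
  haveI : IsNoetherian Y := {}
  set S := (Cyc26Lim.finite_support α).toFinset with hS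
  set T := (Cyc26Lim.finite_support β).toFinset with hT
  have hS' : ∀ u, α u ≠ 0 → u ∈ S := fun u hu => (Cyc26Lim.finite_support α).mem_toFinset.2 hu
  have hmap : ⇑(AlgebraicCycle.map f δX δY α) = fun y => ∑ u ∈ S,
      (α u * (AlgebraicCycle.mapCoeff f δX δY u : ℤ)) * Set.indicator {f u} (1 : Y → ℤ) y := funext fun y => by
    rw [Cyc26.map_apply_eq_sum f δX δY α y (S.filter fun u => f u = y) (fun u hu => (Finset.mem_filter.1 hu).2)
      (fun u h1 h2 _ => Finset.mem_filter.2 ⟨hS' u h2, h1⟩), Finset.sum_filter]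
    refine Finset.sum_congr rfl fun u _ => ?_
    by_cases h : f u = y
    · rw [if_pos h, Set.indicator_of_mem (Set.mem_singleton_iff.2 h.symm), Pi.one_apply, mul_one]
    · rw [if_neg h, Set.indicator_of_notMem (fun hm => h (Set.mem_singleton_iff.1 hm).symm), mul_zero]
  have hpair : ∀ u v, α u ≠ 0 → β v ≠ 0 → ∀ η z, Cyc.pullFun f δX δY e (Set.indicator {v} 1) η ≠ 0 →
      u ⤳ z → η ⤳ z → δX z ≤ δX u + δX η - n := by
    intro u v hu hv η z hη h1 h2
    refine hprop u η z hu ?_ h1 h2
    unfold Cyc.pullFun at hη ⊢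
    split_ifs at hη with hk
    · rw [if_pos hk]
      have hfv' := Set.mem_of_indicator_ne_zero (left_ne_zero_of_mul hη)
      have hfv : f η = v := hfv'
      exact mul_ne_zero (by rw [hfv]; exact hv) (right_ne_zero_of_mul hη)
    · exact absurd rfl hη
  refine ⟨fun ξ η ζ hξ hη h1 h2 => ?_, funext fun ζ => ?_⟩
  · rw [hmap] at hξ
    obtain ⟨u, -, hu⟩ := Finset.exists_ne_zero_of_sum_ne_zero hξ
    have hfu' := Set.mem_of_indicator_ne_zero (right_ne_zero_of_mul hu)
    have hfu : ξ = f u := hfu'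
    have hu1 := left_ne_zero_of_mul (left_ne_zero_of_mul hu)
    have hdu : δX u = δY (f u) := by
      by_contra h
      exact right_ne_zero_of_mul (left_ne_zero_of_mul hu) (by rw [AlgebraicCycle.mapCoeff, if_neg h]; rfl)
    subst hfu
    obtain ⟨z, hz1, hz2⟩ := f.isClosedMap.specializingMap h1
    obtain ⟨η', hη', -, hδη, hne⟩ := Diag27.exists_pull_point f hX.2.2 hY.2.2 hδ hrel (v := η) (z := z) (hz2.symm ▸ h2)
    have h3 := hpair u η hu1 hη η' z hne hz1 hη'
    have h4 := Cyc26.delta_image_le f hδ z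
    rw [hz2] at h4
    omega
  have hP : ∀ u v : _, u ∈ S → v ∈ T → _ := fun u v hu hv => Diag27.proj_pair (K := K) f (f ≫ gY) gY hX hδX hn
    hY.2.2 hm hδ hrel he u v (hpair u v ((Cyc26Lim.finite_support α).mem_toFinset.1 hu)
      ((Cyc26Lim.finite_support β).mem_toFinset.1 hv)) ζ
  choose W hWf hW using hP
  let Tb : Finset X := ((Cyc26Lim.finite_support γ).toFinset.filter fun z => f z = ζ) ∪
    (S.attach.biUnion fun u => T.attach.biUnion fun v => W u.1 v.1 u.2 v.2)
  have hTb : ∀ z ∈ Tb, f z = ζ := by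
    intro z hz
    rcases Finset.mem_union.1 hz with h | h
    · exact (Finset.mem_filter.1 h).2
    · obtain ⟨u, -, h⟩ := Finset.mem_biUnion.1 h
      obtain ⟨v, -, h⟩ := Finset.mem_biUnion.1 h
      exact hWf _ _ _ _ z h
  have hsub : ∀ u v (hu : u ∈ S) (hv : v ∈ T), W u v hu hv ⊆ Tb := fun u v hu hv z hz =>
    Finset.mem_union_right _ (Finset.mem_biUnion.2 ⟨⟨u, hu⟩, Finset.mem_attach _ _,
      Finset.mem_biUnion.2 ⟨⟨v, hv⟩, Finset.mem_attach _ _, hz⟩⟩)
  rw [Cyc26.map_apply_eq_sum f δX δY γ ζ Tb hTb (fun z hz hne _ =>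
    Finset.mem_union_left _ (Finset.mem_filter.2 ⟨(Cyc26Lim.finite_support γ).mem_toFinset.2 hne, hz⟩)), hγ]
  have hPs : ∀ z : X, Cyc.pullFun f δX δY e (fun y => ∑ v ∈ T, β v * Set.indicator {v} (1 : Y → ℤ) y) z =
      ∑ v ∈ T, β v * Cyc.pullFun f δX δY e (Set.indicator {v} 1) z := by
    intro z
    unfold Cyc.pullFun
    split_ifs with h
    · rw [Finset.sum_mul]
      exact Finset.sum_congr rfl fun u _ => by ring
    · simp
  have hfinY : ∀ w : Y, Diag27.FinAt ζ (Set.indicator {w} (1 : Y → ℤ)) := fun w =>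
    (Set.finite_singleton w).subset fun y hy => Set.mem_of_indicator_ne_zero hy.2
  have hfinX : ∀ (u z : X), Diag27.FinAt z (Set.indicator {u} (1 : X → ℤ)) := fun u z =>
    (Set.finite_singleton u).subset fun y hy => Set.mem_of_indicator_ne_zero hy.2
  have hfinP : ∀ (v : Y) (z : X), Diag27.FinAt z (Cyc.pullFun f δX δY e (Set.indicator {v} 1)) := fun v z => by
    obtain ⟨hle, heq⟩ := Diag27.pullFun_indicator f hY.2.2 hδ hrel v
    rw [heq]
    exact Diag27.finAt_sheafFun hX.2.2 z _ (M1.isCoh_pullback f (NumPoly18.isCoh_ptMod v)) hle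
  rw [Diag27.cycle_eq_sum α, Diag27.cycle_eq_sum β, funext hPs, hmap, ← hS]
  rw [Diag27.interProd_sum_left m ζ S _ _ _ (fun u _ => hfinY (f u)) (Diag27.finAt_sum _ T _ _ fun v _ => hfinY v)]
  simp only [Diag27.interProd_sum_right m ζ T β _ _ (hfinY _) (fun v _ => hfinY v)]
  simp only [Diag27.interProd_sum_left n _ S α _ _ (fun u _ => hfinX u _) (Diag27.finAt_sum _ T _ _ fun v _ => hfinP v _),
    Diag27.interProd_sum_right n _ T β _ _ (hfinX _ _) (fun v _ => hfinP v _), Finset.mul_sum, Finset.sum_mul]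
  rw [Finset.sum_comm (t := S)]
  refine Finset.sum_congr rfl fun u hu => ?_
  rw [Finset.sum_comm (t := T)]
  refine Finset.sum_congr rfl fun v hv => ?_
  calc _ = α u * β v * ((AlgebraicCycle.mapCoeff f δX δY u : ℤ) *
        IntMult.interProd δY m (Set.indicator {f u} 1) (Set.indicator {v} 1) ζ) := by ring
    _ = _ := by
      rw [hW u v hu hv Tb (hsub u v hu hv) hTb, Finset.mul_sum]
      exact Finset.sum_congr rfl fun z _ => by ring


end Groth.Agent.S1950
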