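import Groth.Statements.S2235
import Groth.Agent.Lib.KoszulColon25.Basic
import Mathlib.LinearAlgebra.TensorProduct.RightExactness

set_option autoImplicit false
universe u
open TensorProduct
open Disc

namespace Groth.Agent.S2235

open scoped TensorProduct

/-- Let A -> P be a ring map, f_1, ..., f_n a Koszul-regular sequence in P with B = P/(f_1, ..., f_n)
flat over A, and g_1, ..., g_n a Koszul-regular sequence in P tensor_A B generating the kernel of
the multiplication map P tensor_A B -> B. Write f_i tensor 1 = sum_j c_ij g_j. Then the annihilator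
of the kernel of B tensor_A B -> B is the principal ideal generated by the image of det(c_ij). -/
theorem result {A P : Type u} [CommRing A] [CommRing P] [Algebra A P]
    {n : ℕ} (f : Fin n → P) (hf : LCI.IsKoszulRegularSeq P (List.ofFn f))
    [Module.Flat A (P ⧸ Ideal.span (Set.range f))]
    (g : Fin n → P ⊗[A] (P ⧸ Ideal.span (Set.range f)))
    (hg : LCI.IsKoszulRegularSeq (P ⊗[A] (P ⧸ Ideal.span (Set.range f))) (List.ofFn g))
    (hgker : Ideal.span (Set.range g) = RingHom.ker (Algebra.TensorProduct.productMap
      (Ideal.Quotient.mkₐ A (Ideal.span (Set.range f))) (AlgHom.id A (P ⧸ Ideal.span (Set.range f)))))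
    (c : Matrix (Fin n) (Fin n) (P ⊗[A] (P ⧸ Ideal.span (Set.range f))))
    (hc : ∀ i, f i ⊗ₜ[A] (1 : P ⧸ Ideal.span (Set.range f)) = ∑ j, c i j * g j) :
    Submodule.annihilator (RingHom.ker
        (Algebra.TensorProduct.lmul' (S := P ⧸ Ideal.span (Set.range f)) A)) =
      Ideal.span {Algebra.TensorProduct.map (Ideal.Quotient.mkₐ A (Ideal.span (Set.range f)))
        (AlgHom.id A (P ⧸ Ideal.span (Set.range f))) (Matrix.det c)} := by
  classical
  let B := P ⧸ Ideal.span (Set.range f)
  let Q := P ⊗[A] B
  let π : Q →ₐ[A] B ⊗[A] B := Algebra.TensorProduct.map (Ideal.Quotient.mkₐ A (Ideal.span (Set.range f))) (AlgHom.id A B)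
  let F : Fin n → Q := fun i => f i ⊗ₜ[A] (1 : B)
  -- the sequence stays Koszul regular over `Q`
  have hEx : CI2.Ex Q Q (List.ofFn F) := by
    have h1 : CI2.Ex P P (List.ofFn f) := (CI2.isKoszulRegularSeq_iff_ex _).1 hf
    haveI : Module.Flat P Q := Module.Flat.baseChange A P B
    have h2 := (h1.of_flat Q).map_bijective (σ := algebraMap P Q)
      { toFun := id
        map_add' := fun _ _ => rfl
        map_smul' := fun a b => Algebra.smul_def a b }
      Function.bijective_id
    rw [List.map_ofFn] at h2
    exact h2
  have hπ : Function.Surjective π := by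
    intro x
    induction x using TensorProduct.induction_on with
    | zero => exact ⟨0, map_zero π⟩
    | tmul a b =>
      obtain ⟨p, rfl⟩ := Ideal.Quotient.mk_surjective a
      exact ⟨p ⊗ₜ b, rfl⟩
    | add x y hx hy =>
      obtain ⟨x, rfl⟩ := hx
      obtain ⟨y, rfl⟩ := hy
      exact ⟨x + y, map_add π x y⟩
  have hker : RingHom.ker π = Ideal.span (Set.range F) := by
    have h1 := Algebra.TensorProduct.rTensor_ker (R := A) (C := B) (Ideal.Quotient.mkₐ A (Ideal.span (Set.range f)))
      (Ideal.Quotient.mkₐ_surjective A _)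
    rw [show RingHom.ker (Ideal.Quotient.mkₐ A (Ideal.span (Set.range f))) = Ideal.span (Set.range f) from
      Ideal.Quotient.mkₐ_ker A _, Ideal.map_span, ← Set.range_comp] at h1
    exact h1
  let J := Ideal.span (Set.range g)
  have hmul : (Algebra.TensorProduct.lmul' (S := B) A).comp π =
      Algebra.TensorProduct.productMap (Ideal.Quotient.mkₐ A (Ideal.span (Set.range f))) (AlgHom.id A B) := by
    refine Algebra.TensorProduct.ext' fun a b => ?_
    simp [π]
    rfl
  have hJ : RingHom.ker (Algebra.TensorProduct.lmul' (S := B) A) = J.map π := by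
    apply le_antisymm
    · intro x hx
      obtain ⟨y, rfl⟩ := hπ x
      refine Ideal.mem_map_of_mem π ?_
      show y ∈ Ideal.span (Set.range g)
      rw [hgker, RingHom.mem_ker, ← hmul]
      exact hx
    · rw [Ideal.map_le_iff_le_comap]
      intro y hy
      show y ∈ _
      rw [Ideal.mem_comap, RingHom.mem_ker]
      have hy' : y ∈ Ideal.span (Set.range g) := hy
      rw [hgker, RingHom.mem_ker, ← hmul] at hy'
      exact hy'
  show Submodule.annihilator (RingHom.ker (Algebra.TensorProduct.lmul' (S := B) A)) = Ideal.span {π c.det}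
  rw [hJ]
  apply le_antisymm
  · intro x hx
    rw [Submodule.mem_annihilator] at hx
    obtain ⟨a, rfl⟩ := hπ x
    have hmem : a ∈ Ideal.span (Set.range F) ⊔ Ideal.span {c.det} :=
      KoszulColon25.mem_sup_span_det F g c hc hEx fun j => by
        rw [← hker, RingHom.mem_ker, map_mul]
        exact hx _ (Ideal.mem_map_of_mem π (Ideal.subset_span (Set.mem_range_self j)))
    have := Ideal.mem_map_of_mem π hmem
    rwa [← hker, Ideal.map_sup, Ideal.map_span _ {c.det}, Set.image_singleton,
      (Ideal.map_eq_bot_iff_le_ker π).2 le_rfl, bot_sup_eq] at this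
  · rw [Ideal.span_singleton_le_iff_mem, Submodule.mem_annihilator]
    intro y hy
    have key : J.map π ≤ LinearMap.ker (LinearMap.mulLeft (B ⊗[A] B) (π c.det)) := by
      rw [show J.map π = Ideal.span (π '' Set.range g) from Ideal.map_span π _]
      refine Submodule.span_le.2 ?_
      rintro _ ⟨_, ⟨j, rfl⟩, rfl⟩
      show π c.det * π (g j) = 0
      rw [← map_mul, ← RingHom.mem_ker, hker]
      exact KoszulColon25.det_mul_mem F g c hc j
    exact key hy

end Groth.Agent.S2235
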