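import Groth.Statements.S2237
import Groth.Agent.Lib.CI2.SyntKoszul
import Groth.Agent.Lib.CI2.FlatLCI
import Groth.Prelude.Def_LCI2
import Mathlib

set_option autoImplicit false
universe u
attribute [local instance] HasDerivedCategory.standard
open LCI

namespace Groth.Agent.S2237
open TensorProduct MvPolynomial

theorem ringKrullDim_fibre_zero {A S : Type u} [CommRing A] [CommRing S] [Algebra A S] [Algebra.QuasiFinite A S]
    (p : PrimeSpectrum A) [Nontrivial (p.asIdeal.Fiber S)] : ringKrullDim (p.asIdeal.Fiber S) = 0 :=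
  ringKrullDimZero_iff_ringKrullDim_eq_zero.mp inferInstance

/-- Implication (2) to (5), affine form: let A -> B be flat, quasi-finite and a local complete
intersection homomorphism (finite type with a Koszul-regular presentation). Then for every prime q
of B there are g in B outside q, a natural number n and polynomials f_1, ..., f_n in A[x_1, ...,
x_n] such that B_g is isomorphic as an A-algebra to A[x_1, ..., x_n]/(f_1, ..., f_n). -/
theorem result {A B : Type u} [CommRing A]
    [CommRing B] [Algebra A B] [Module.Flat A B] [Algebra.QuasiFinite A B] (hlci : LCI.IsLCI A B)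
    (q : Ideal B) [q.IsPrime] :
    ∃ g : B, g ∉ q ∧ ∃ (n : ℕ) (f : Fin n → MvPolynomial (Fin n) A),
      Nonempty (Localization.Away g ≃ₐ[A]
        (MvPolynomial (Fin n) A ⧸ Ideal.span (Set.range f))) := by
  have h := Groth.Agent.CI2.isSyntomic_of_flat_of_isLCI hlci
  obtain ⟨n, φ, hφ, hfg⟩ := h.2.1.out
  let I := RingHom.ker φ.toRingHom
  let S := MvPolynomial (Fin n) A ⧸ I
  let e : S ≃ₐ[A] B := Ideal.quotientKerAlgEquivOfSurjective hφ
  haveI : Algebra.QuasiFinite A S := Algebra.QuasiFinite.of_surjective_algHom e.symm.toAlgHom e.symm.surjective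
  let q' : Ideal S := q.comap e.toRingEquiv.toRingHom
  haveI : q'.IsPrime := Ideal.comap_isPrime _ _
  have hS : Synt.IsSyntomic A (Localization.Away (1 : S)) :=
    Groth.Agent.CI2.isSyntomic_away (Groth.Agent.CI2.isSyntomic_congr e.symm h) 1 _
  obtain ⟨H, c, f, hH, hf, hspan, hrel, -⟩ :=
    Groth.Agent.CI2.exists_frame I hfg 1 hS q' (q'.ne_top_iff_one.mp (Ideal.IsPrime.ne_top inferInstance))
  obtain ⟨e'⟩ := Groth.Agent.CI2.nonempty_awayEquiv f H
  let J := Ideal.span (Set.range f)
  have hJI : J ≤ I := Ideal.span_le.2 (by rintro _ ⟨i, rfl⟩; exact hf i)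
  obtain ⟨e''⟩ := Groth.Agent.CI2.nonempty_away_equiv_of_surjective (Ideal.Quotient.factorₐ A hJI)
    (Ideal.Quotient.factor_surjective hJI) (Ideal.Quotient.mk J H) (fun a ha => by
      obtain ⟨x, rfl⟩ := Ideal.Quotient.mk_surjective a
      refine ⟨1, ?_⟩
      rw [pow_one, ← map_mul, Ideal.Quotient.eq_zero_iff_mem]
      exact hspan x (Ideal.Quotient.eq_zero_iff_mem.mp ha))
  let E : Localization.Away (Ideal.Quotient.mk I H) ≃ₐ[A]
      Synt.RelGCIRing A (n + 1) (c + 1) (Groth.Agent.CI2.awayRel f H) := e''.trans e'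
  have hcn : c = n := by
    haveI : Algebra.QuasiFinite A (Synt.RelGCIRing A (n + 1) (c + 1) (Groth.Agent.CI2.awayRel f H)) :=
      Algebra.QuasiFinite.of_surjective_algHom E.toAlgHom E.surjective
    obtain ⟨Q, hQ, -⟩ := Groth.Agent.CI2.exists_prime_over (T := Localization.Away (Ideal.Quotient.mk I H))
      (Ideal.Quotient.mk I H) q' hH
    let z : PrimeSpectrum (Synt.RelGCIRing A (n + 1) (c + 1) (Groth.Agent.CI2.awayRel f H)) :=
      PrimeSpectrum.comap E.symm.toRingEquiv.toRingHom ⟨Q, hQ⟩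
    let p := PrimeSpectrum.comap (algebraMap A _) z
    haveI hnt : Nontrivial (p.asIdeal.Fiber (Synt.RelGCIRing A (n + 1) (c + 1) (Groth.Agent.CI2.awayRel f H))) :=
      PrimeSpectrum.nonempty_iff_nontrivial.1 ⟨PrimeSpectrum.preimageHomeomorphFiber A _ p ⟨z, rfl⟩⟩
    obtain ⟨hle, hd⟩ := hrel p hnt
    rw [ringKrullDim_fibre_zero p] at hd
    have : n + 1 - (c + 1) = 0 := by exact_mod_cast hd.symm
    omega
  subst hcn
  haveI : IsLocalization.Away (e.toRingEquiv (Ideal.Quotient.mk I H)) (Localization.Away (e (Ideal.Quotient.mk I H))) :=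
    inferInstanceAs (IsLocalization.Away (e (Ideal.Quotient.mk I H)) _)
  obtain ⟨e0⟩ := Groth.Agent.CI2.nonempty_away_equiv_of_surjective e.toAlgHom e.surjective (Ideal.Quotient.mk I H)
    (fun x hx => ⟨0, by rw [pow_zero, one_mul]; exact e.injective (hx.trans (map_zero _).symm)⟩)
  exact ⟨e (Ideal.Quotient.mk I H), hH, _, _, ⟨e0.trans E⟩⟩

end Groth.Agent.S2237
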