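import Groth.Statements.S2556
import Groth.Agent.Lib.Unibr4.Criterion

set_option autoImplicit false
open CategoryTheory AlgebraicGeometry
universe u
open EGA43

set_option backward.isDefEq.respectTransparency.types false

namespace Groth.Agent.S2556

/-- Suppose Y is a locally Noetherian scheme whose local rings are all geometrically unibranch, and f :
X ⟶ Y is locally of finite type. Then f is universally open exactly when its underlying map of
spaces is open. -/
theorem result {X Y : Scheme.{u}} [IsLocallyNoetherian Y]
    (hY : ∀ y : Y, CAlg2.IsGeomUnibranch (Y.presheaf.stalk y)) (f : X ⟶ Y) [LocallyOfFiniteType f] :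
    UniversallyOpen f ↔ IsOpenMap f.base := by
  refine ⟨fun h => ?_, fun h => ?_⟩
  · exact f.isOpenMap
  · exact Unibr4.universallyOpen_of_forall f fun x => Unibr4.isUnivOpenAt_of_isOpenAt f x (hY _)
      fun z _ _ _ => EGA43Top.liftsAt_of_isOpenAt fun U hU => h.image_mem_nhds hU

end Groth.Agent.S2556
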