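import Groth.Statements.S14855
import Mathlib

set_option autoImplicit false
universe u
open CAlg

namespace Groth.Agent.S14855
open WittVector

variable {p : ℕ} [Fact p.Prime]

theorem coeff_pow_mul {R : Type u} [CommRing R] {m : ℕ} (hm : (p : R) ^ m = 0) (n : ℕ) :
    ∀ (x : WittVector p R), ∀ i < n, ((p : WittVector p R) ^ (m * n) * x).coeff i = 0 := by
  induction n with
  | zero => intro x i hi; omega
  | succ n ih =>
    intro x i hi
    have h0 : ((p : WittVector p R) ^ (m * n) * x) = verschiebung^[n] (((p : WittVector p R) ^ (m * n) * x).shift n) :=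
      eq_iterate_verschiebung (ih x)
    set y := ((p : WittVector p R) ^ (m * n) * x).shift n
    have h1 : (p : WittVector p R) ^ (m * (n + 1)) * x = verschiebung^[n] ((p ^ m) • y) := by
      rw [iterate_map_nsmul, ← h0, nsmul_eq_mul, Nat.cast_pow, ← mul_assoc, ← pow_add, mul_add, mul_one, add_comm]
    rw [h1]
    rcases Nat.lt_succ_iff.1 hi |>.lt_or_eq with h | rfl
    · exact iterate_verschiebung_coeff_eq_zero _ h
    · have := iterate_verschiebung_coeff ((p ^ m) • y) i 0
      rw [Nat.zero_add] at this
      rw [this, nsmul_eq_mul, Nat.cast_pow]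
      show constantCoeff ((p : WittVector p R) ^ m * y) = 0
      rw [map_mul, map_pow, map_natCast, hm, zero_mul]

variable {R : Type u} [CommRing R]

/-- Equality of the first `n` coefficients modulo `p ^ m`. -/
noncomputable def π (p : ℕ) [Fact p.Prime] (R : Type u) [CommRing R] (n m : ℕ) :
    WittVector p R →+* TruncatedWittVector p n (R ⧸ Ideal.span {(p : R) ^ m}) :=
  (WittVector.truncate n).comp (WittVector.map (Ideal.Quotient.mk _))

theorem π_eq_iff (n m : ℕ) (x y : WittVector p R) :
    π p R n m x = π p R n m y ↔ ∀ i < n, x.coeff i - y.coeff i ∈ Ideal.span {(p : R) ^ m} := by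
  constructor
  · intro h i hi
    have := congrArg (fun z => TruncatedWittVector.coeff (⟨i, hi⟩ : Fin n) z) h
    simp only [π, RingHom.comp_apply, WittVector.coeff_truncate, WittVector.map_coeff] at this
    exact Ideal.Quotient.eq.1 this
  · intro h
    ext i
    simp only [π, RingHom.comp_apply, WittVector.coeff_truncate, WittVector.map_coeff]
    exact Ideal.Quotient.eq.2 (h i i.2)

theorem π_pow (n m N : ℕ) (hN : m * n ≤ N) (x : WittVector p R) :
    π p R n m ((p : WittVector p R) ^ N * x) = 0 := by
  rw [← map_zero (π p R n m), π_eq_iff]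
  intro i hi
  rw [WittVector.zero_coeff, sub_zero, ← Ideal.Quotient.eq_zero_iff_mem, ← WittVector.map_coeff,
    ← Nat.sub_add_cancel hN, pow_add, mul_comm ((p : WittVector p R) ^ (N - m * n)), mul_assoc, map_mul, map_pow, map_natCast]
  refine coeff_pow_mul ?_ n _ i hi
  rw [← map_natCast (Ideal.Quotient.mk (Ideal.span {(p : R) ^ m})), ← map_pow, Ideal.Quotient.eq_zero_iff_mem]
  exact Ideal.mem_span_singleton_self _

theorem separated [IsHausdorff (Ideal.span {(p : R)}) R] (x y : WittVector p R)
    (h : ∀ n m, π p R n m x = π p R n m y) : x = y := by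
  ext i
  rw [← sub_eq_zero]
  refine IsHausdorff.haus (inferInstance : IsHausdorff (Ideal.span {(p : R)}) R) _ fun m => ?_
  rw [SModEq.zero, smul_eq_mul, Ideal.mul_top, Ideal.span_singleton_pow]
  exact (π_eq_iff (i + 1) m x y).1 (h _ _) i (Nat.lt_succ_self i)

theorem exists_sum [IsAdicComplete (Ideal.span {(p : R)}) R] (y : ℕ → WittVector p R) :
    ∃ S : ℕ → WittVector p R, (∀ k, S k = y k + (p : WittVector p R) * S (k + 1)) ∧
      ((∀ k, constantCoeff (y k) = 0) → ∀ k, constantCoeff (S k) = 0) := by
  let P : ℕ → ℕ → WittVector p R := fun k N => ∑ j ∈ Finset.range N, (p : WittVector p R) ^ j * y (k + j)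
  have hstab : ∀ k n m N N', m * n ≤ N → N ≤ N' → π p R n m (P k N') = π p R n m (P k N) := by
    intro k n m N N' h1 h2
    obtain ⟨d, rfl⟩ := Nat.exists_eq_add_of_le h2
    show π p R n m (∑ j ∈ Finset.range (N + d), _) = _
    rw [Finset.sum_range_add, map_add, add_eq_left, map_sum]
    exact Finset.sum_eq_zero fun j _ => π_pow n m _ (by omega) _
  have hlim : ∀ k i, ∃ L : R, ∀ m, (P k (m * (i + 1))).coeff i - L ∈ Ideal.span {(p : R) ^ m} := by
    intro k i
    obtain ⟨L, hL⟩ := IsPrecomplete.prec (inferInstance : IsPrecomplete (Ideal.span {(p : R)}) R)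
      (f := fun m => (P k (m * (i + 1))).coeff i) (fun {a b} hab => by
        rw [SModEq.sub_mem, smul_eq_mul, Ideal.mul_top, Ideal.span_singleton_pow]
        exact (π_eq_iff (i + 1) a _ _).1 (hstab k (i + 1) a _ _ le_rfl (Nat.mul_le_mul_right _ hab)).symm i (Nat.lt_succ_self i))
    refine ⟨L, fun m => ?_⟩
    have := hL m
    rwa [SModEq.sub_mem, smul_eq_mul, Ideal.mul_top, Ideal.span_singleton_pow] at this
  choose L hL using hlim
  let S : ℕ → WittVector p R := fun k => WittVector.mk p (L k)
  have hS : ∀ k n m N, m * n ≤ N → π p R n m (P k N) = π p R n m (S k) := by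
    intro k n m N hN
    rw [π_eq_iff]
    intro i hi
    have h1 : m * (i + 1) ≤ N := le_trans (Nat.mul_le_mul_left m hi) hN
    have h2 := (π_eq_iff (i + 1) m _ _).1 (hstab k (i + 1) m _ N le_rfl h1) i (Nat.lt_succ_self i)
    have := add_mem h2 (hL k i m)
    rwa [sub_add_sub_cancel] at this
  refine ⟨S, fun k => separated _ _ fun n m => ?_, fun h k => ?_⟩
  · rw [← hS k n m (m * n + 1) (by omega), map_add, map_mul, ← hS (k + 1) n m (m * n) le_rfl, ← map_mul, ← map_add]
    congr 1
    show ∑ j ∈ Finset.range (m * n + 1), _ = _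
    rw [Finset.sum_range_succ', pow_zero, one_mul, add_zero, add_comm, Finset.mul_sum]
    congr 1
    refine Finset.sum_congr rfl fun j _ => ?_
    rw [pow_succ', mul_assoc, show k + (j + 1) = k + 1 + j by omega]
  · show (S k).coeff 0 = 0
    refine IsHausdorff.haus (inferInstance : IsHausdorff (Ideal.span {(p : R)}) R) _ fun m => ?_
    rw [SModEq.zero, smul_eq_mul, Ideal.mul_top, Ideal.span_singleton_pow]
    have h1 := (π_eq_iff 1 m _ _).1 (hS k 1 m (m * 1) le_rfl) 0 Nat.one_pos
    have h2 : (P k (m * 1)).coeff 0 = 0 := by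
      show constantCoeff (P k (m * 1)) = 0
      rw [map_sum]
      exact Finset.sum_eq_zero fun j _ => by rw [map_mul, h, mul_zero]
    rw [h2, zero_sub, neg_mem_iff] at h1
    exact h1

/-- Let p be a prime and R a commutative ring which is complete and separated for the p-adic topology.
Then the ring W(R) of p-typical Witt vectors of R is complete and separated for its own p-adic
topology, and it is also complete and separated for the adic topology of the ideal I_R, the kernel
of the projection of W(R) onto the zeroth Witt component. -/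
theorem result (p : ℕ) [Fact p.Prime] (R : Type u) [CommRing R]
    [IsAdicComplete (Ideal.span {(p : R)}) R] :
    IsAdicComplete (Ideal.span {(p : WittVector p R)}) (WittVector p R) ∧
      IsAdicComplete (RingHom.ker (WittVector.constantCoeff : WittVector p R →+* R)) (WittVector p R) := by
  let W := WittVector p R
  let I : Ideal W := RingHom.ker (WittVector.constantCoeff : WittVector p R →+* R)
  have hV : ∀ x ∈ I, ∃ z, x = verschiebung z := fun x hx =>
    ⟨x.shift 1, eq_iterate_verschiebung (n := 1) fun i hi => by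
      obtain rfl : i = 0 := by omega
      exact hx⟩
  have hVI : ∀ z : W, verschiebung z ∈ I := fun z => verschiebung_coeff_zero z
  have hVV : ∀ x z : W, verschiebung x * verschiebung z = (p : W) * verschiebung (x * z) := by
    intro x z
    rw [← verschiebung_mul_frobenius, frobenius_verschiebung, ← mul_assoc, mul_comm (x * z) (p : W),
      ← nsmul_eq_mul, ← nsmul_eq_mul, map_nsmul]
  have hI1 : ∀ k, I ^ (k + 1) ≤ Ideal.span {(p : W) ^ k} := by
    intro k
    induction k with
    | zero => simp
    | succ k ih =>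
      rw [pow_succ, Ideal.mul_le]
      intro a ha b hb
      -- write `a` as a multiple of `p ^ k` inside the ideal
      have hstep : I ^ (k + 1) ≤ Ideal.span {(p : W) ^ k} * I := by
        clear ha hb ih
        induction k with
        | zero => simp
        | succ k ih =>
          rw [pow_succ, Ideal.mul_le]
          intro a ha b hb
          obtain ⟨c, hc, rfl⟩ := Ideal.mem_span_singleton_mul.1 (ih ha)
          obtain ⟨x, rfl⟩ := hV c hc
          obtain ⟨z, rfl⟩ := hV b hb
          rw [mul_assoc, hVV, ← mul_assoc, ← pow_succ]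
          exact Ideal.mem_span_singleton_mul.2 ⟨_, hVI _, rfl⟩
      obtain ⟨c, hc, rfl⟩ := Ideal.mem_span_singleton_mul.1 (hstep ha)
      obtain ⟨x, rfl⟩ := hV c hc
      obtain ⟨z, rfl⟩ := hV b hb
      rw [mul_assoc, hVV, ← mul_assoc, ← pow_succ]
      exact Ideal.mul_mem_right _ _ (Ideal.mem_span_singleton_self _)
  have hI2 : ∀ k, ∀ c ∈ I, (p : W) ^ k * c ∈ I ^ (k + 1) := by
    intro k
    induction k with
    | zero => intro c hc; simpa using hc
    | succ k ih =>
      intro c hc
      obtain ⟨z, rfl⟩ := hV c hc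
      have e : (p : W) * verschiebung z = verschiebung z * verschiebung 1 := by rw [hVV, mul_one]
      rw [pow_succ (p : W) k, mul_assoc, e, ← mul_assoc, pow_succ I (k + 1)]
      exact Ideal.mul_mem_mul (ih _ (hVI z)) (hVI 1)
  have hsep : ∀ x : W, (∀ k, x ∈ Ideal.span {(p : W) ^ k}) → x = 0 := fun x hx => separated _ _ fun n m => by
    obtain ⟨c, rfl⟩ := Ideal.mem_span_singleton.1 (hx (m * n))
    rw [π_pow n m _ le_rfl, map_zero]
  refine ⟨{ haus' := fun x hx => hsep x fun k => ?_, prec' := fun f hf => ?_ },
    { haus' := fun x hx => hsep x fun k => ?_, prec' := fun f hf => ?_ }⟩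
  · have := hx k
    rwa [SModEq.zero, smul_eq_mul, Ideal.mul_top, Ideal.span_singleton_pow] at this
  · have hdiff : ∀ k, ∃ c, f (k + 1) = f k + (p : W) ^ k * c := fun k => by
      have := hf (Nat.le_succ k)
      rw [SModEq.sub_mem, smul_eq_mul, Ideal.mul_top, Ideal.span_singleton_pow] at this
      obtain ⟨c, hc⟩ := Ideal.mem_span_singleton.1 this
      exact ⟨-c, by linear_combination -hc⟩
    choose y hy using hdiff
    obtain ⟨S, hS, -⟩ := exists_sum y
    refine ⟨f 0 + S 0, fun k => ?_⟩
    have key : ∀ k, f 0 + S 0 = f k + (p : W) ^ k * S k := by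
      intro k
      induction k with
      | zero => rw [pow_zero, one_mul]
      | succ k ih => rw [ih, hy k, hS k, pow_succ]; ring
    rw [SModEq.sub_mem, smul_eq_mul, Ideal.mul_top, Ideal.span_singleton_pow, key k]
    exact Ideal.mem_span_singleton.2 ⟨-S k, by ring⟩
  · have := hx (k + 1)
    rw [SModEq.zero, smul_eq_mul, Ideal.mul_top] at this
    exact hI1 k this
  · have hstep : ∀ k, I ^ (k + 1) ≤ Ideal.span {(p : W) ^ k} * I := by
      intro k
      induction k with
      | zero => simp
      | succ k ih =>
        rw [pow_succ, Ideal.mul_le]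
        intro a ha b hb
        obtain ⟨c, hc, rfl⟩ := Ideal.mem_span_singleton_mul.1 (ih ha)
        obtain ⟨x, rfl⟩ := hV c hc
        obtain ⟨z, rfl⟩ := hV b hb
        rw [mul_assoc, hVV, ← mul_assoc, ← pow_succ]
        exact Ideal.mem_span_singleton_mul.2 ⟨_, hVI _, rfl⟩
    have hdiff : ∀ k, ∃ c ∈ I, f (k + 2) = f (k + 1) + (p : W) ^ k * c := fun k => by
      have := hf (Nat.le_succ (k + 1))
      rw [SModEq.sub_mem, smul_eq_mul, Ideal.mul_top] at this
      obtain ⟨c, hc, hce⟩ := Ideal.mem_span_singleton_mul.1 (hstep k this)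
      exact ⟨-c, neg_mem hc, by linear_combination hce⟩
    choose y hyI hy using hdiff
    obtain ⟨S, hS, hSI⟩ := exists_sum y
    refine ⟨f 1 + S 0, fun k => ?_⟩
    have key : ∀ k, f 1 + S 0 = f (k + 1) + (p : W) ^ k * S k := by
      intro k
      induction k with
      | zero => rw [pow_zero, one_mul]
      | succ k ih => rw [ih, hy k, hS k, pow_succ]; ring
    rw [SModEq.sub_mem, smul_eq_mul, Ideal.mul_top]
    rcases k with _ | k
    · simp
    · rw [key k]
      have : f (k + 1) - (f (k + 1) + (p : W) ^ k * S k) = (p : W) ^ k * (-S k) := by ring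
      rw [this]
      exact hI2 k _ (neg_mem (hSI (fun j => hyI j) k))

end Groth.Agent.S14855
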