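import Groth.Statements.S1711
import Groth.Agent.Lib.Dlz27.Faltings
-- import your own Groth.Agent.* helpers here

set_option autoImplicit false
universe u
open CategoryTheory
attribute [local instance] HasDerivedCategory.standard
open LocCoh

namespace Groth.Agent.S1711

/-- Let A be a Noetherian ring admitting a dualizing complex, T ⊆ T' subsets of Spec A stable under
specialization, s ≥ 0 and M a finite A-module. Then some ideal J with V(J) ⊆ T' kills H^i_T(M) for
all i ≤ s if and only if for every prime p outside T' and every q in T containing p, the depth of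
M_p over A_p plus the Krull dimension of the interval of primes between p and q is greater than s. -/
theorem result (A : Type u) [CommRing A] [IsNoetherianRing A] (hA : ∃ ω : Dual.D A, Dual.IsDualizing A ω) (T T' : Set (PrimeSpectrum A)) (hT : StableUnderSpecialization T) (hT' : StableUnderSpecialization T') (hTT' : T ⊆ T') (s : ℕ) (M : Type u) [AddCommGroup M] [Module A M] [Module.Finite A M] : (∃ J : Ideal A, PrimeSpectrum.zeroLocus (J : Set A) ⊆ T' ∧ ∀ i : ℕ, i ≤ s → ∀ a ∈ J, ∀ x : Dual2.HT T i M, a • x = 0) ↔ (∀ p q : PrimeSpectrum A, p ∉ T' → q ∈ T → p ≤ q → (s : WithBot ℕ∞) < ((LocCoh.depth (Localization.AtPrime p.asIdeal) (LocalizedModule p.asIdeal.primeCompl M) : ℕ∞) : WithBot ℕ∞) + Order.krullDim (Set.Icc p q)) := by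
  obtain ⟨ω, hω⟩ := hA
  let Mω := Dlz27.model hω
  obtain ⟨W, hW0, hWi, hWK, ⟨e⟩⟩ := Dlz27.exists_res_module (A := A) M
  have key := Dlz27.annihilator_iff hω Mω M W hWi e hT hT' s
  have conv : ∀ (i : ℕ) (a : A), (∀ x : Dual2.HT T i M, a • x = 0) ↔
      ∀ z ∈ HTFin27.TCy T W i, a • z ∈ HTFin27.TBd T W i := fun i a =>
    Dlz27.smul_eq_zero_iff_cycles W e (i : ℤ) (HTFin27.isColimK_κT T i (ModuleCat.of A M)) a
  rw [← key]
  exact exists_congr fun J => and_congr_right fun _ => forall_congr' fun i => imp_congr_right fun _ =>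
    forall_congr' fun a => imp_congr_right fun _ => conv i a

end Groth.Agent.S1711
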