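import Groth.Statements.S1751
import Groth.Agent.Lib.HTFin27.Main
import Mathlib.Algebra.Homology.DerivedCategory.FullyFaithful
-- import your own Groth.Agent.* helpers here

set_option autoImplicit false
universe u
open LocCoh

namespace Groth.Agent.S1751

/-- (1)⇔(2) for a general subset T ⊆ Spec A stable under specialization. Let A be a Noetherian ring, M a
finite A-module and n ≥ 0. Then H^i_T(M) is a finite A-module for all i ≤ n if and only if there is
an ideal J with V(J) ⊆ T annihilating H^i_T(M) for all i ≤ n. -/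
theorem result (A : Type u) [CommRing A] [IsNoetherianRing A] (T : Set (PrimeSpectrum A)) (hT : StableUnderSpecialization T) (M : Type u) [AddCommGroup M] [Module A M] [Module.Finite A M] (n : ℕ) : (∀ i : ℕ, i ≤ n → Module.Finite A (Dual2.HT T i M)) ↔ ∃ J : Ideal A, PrimeSpectrum.zeroLocus (J : Set A) ⊆ T ∧ ∀ i : ℕ, i ≤ n → ∀ a ∈ J, ∀ x : Dual2.HT T i M, a • x = 0 := by
  letI := HasDerivedCategory.standard (ModuleCat.{u} A)
  let κ : ∀ (i : ℤ) (j : Dual2.IdealsIn T),
      ((DerivedCategory.singleFunctor (ModuleCat.{u} A) 0).obj (HTFin27.qT T j) ⟶ (Dual.inD A M)⟦i⟧) →ₗ[A]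
        Dual2.HT T i.toNat M := fun i j => match i with
    | Int.ofNat m => HTFin27.κT T m (ModuleCat.of A M) j
    | Int.negSucc _ => 0
  have hge : (Dual.inD A M).IsGE 0 := inferInstanceAs
    (((DerivedCategory.singleFunctor (ModuleCat.{u} A) 0).obj (ModuleCat.of A M)).IsGE 0)
  have hle : (Dual.inD A M).IsLE 0 := inferInstanceAs
    (((DerivedCategory.singleFunctor (ModuleCat.{u} A) 0).obj (ModuleCat.of A M)).IsLE 0)
  have hK : ∀ i : ℤ, Module.Finite A (Dual.HD A (Dual.inD A M) i) := fun i => by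
    rcases lt_trichotomy i 0 with h | rfl | h
    · have := (DMod.isGE_iff _ 0).1 hge i h
      infer_instance
    · exact Module.Finite.equiv (M := M) ((DerivedCategory.singleFunctorCompHomologyFunctorIso (ModuleCat.{u} A) 0).app
        (ModuleCat.of A M)).toLinearEquiv.symm
    · have := (DMod.isLE_iff _ 0).1 hle i h
      infer_instance
  have hκ : ∀ i ∈ {i : ℤ | 0 ≤ i}, HTFin27.IsColimK T i (κ i) := fun i hi => by
    obtain ⟨m, rfl⟩ := Int.eq_ofNat_of_zero_le hi
    exact HTFin27.isColimK_κT T m (ModuleCat.of A M)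
  have := HTFin27.finite_iff_annihilated (T := T) (Dual.inD A M) 0 ((DMod.isGE_iff _ 0).1 hge) hK
    (V := fun i : ℤ => Dual2.HT T i.toNat M) {i : ℤ | 0 ≤ i} κ hκ n
    (fun i _ h => not_le.1 h)
  constructor
  · intro h
    obtain ⟨J, hJ, hk⟩ := this.1 (fun i hi _ => h i.toNat (by omega))
    exact ⟨J, hJ, fun i hi x hx y => hk i (by exact_mod_cast hi) (Int.natCast_nonneg i) x hx y⟩
  · rintro ⟨J, hJ, hk⟩ i hi
    exact this.2 ⟨J, hJ, fun j hj hj0 x hx y => hk j.toNat (by omega) x hx y⟩ i (by exact_mod_cast hi) (Int.natCast_nonneg i)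

end Groth.Agent.S1751
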