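import Groth.Statements.S1830
import Groth.Agent.Lib.Goren15.LCIFibre
import Mathlib.RingTheory.Localization.BaseChange
import Mathlib.RingTheory.LocalRing.ResidueField.Ideal
-- import your own Groth.Agent.* helpers here

set_option autoImplicit false
universe u
open CategoryTheory
open scoped TensorProduct
attribute [local instance] HasDerivedCategory.standard
open Goren

namespace Groth.Agent.S1830

/-- A flat local complete intersection ring map has Gorenstein fibres: let A → B be a flat ring
homomorphism which is a local complete intersection. Then for every prime p of A the fibre ring B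
⊗_A κ(p) is a Gorenstein ring. (This is the affine form of the statement that a syntomic morphism is
a Gorenstein morphism.) -/
theorem result (A B : Type u) [CommRing A] [CommRing B] [Algebra A B] [Module.Flat A B] (hl : LCI.IsLCI A B) (p : PrimeSpectrum A) : LocCoh.IsGorensteinRing (B ⊗[A] p.asIdeal.ResidueField) := by
  open TensorProduct in
  let K := p.asIdeal.ResidueField
  open TensorProduct in
  let D := B ⊗[A] (A ⧸ p.asIdeal)
  open TensorProduct in
  let φ : D →ₐ[B] B ⊗[A] K :=
    Algebra.TensorProduct.map (AlgHom.id B B) (IsScalarTower.toAlgHom A (A ⧸ p.asIdeal) K)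
  open TensorProduct in
  letI : Algebra D (B ⊗[A] K) := φ.toRingHom.toAlgebra
  open TensorProduct in
  haveI : IsScalarTower B D (B ⊗[A] K) := IsScalarTower.of_algebraMap_eq fun b => (φ.commutes b).symm
  open TensorProduct in
  haveI hloc : IsLocalization ((nonZeroDivisors (A ⧸ p.asIdeal)).map
      (Algebra.TensorProduct.includeRight : (A ⧸ p.asIdeal) →ₐ[A] D)) (B ⊗[A] K) :=
    IsLocalization.tensorProduct_tensorProduct_right A B (nonZeroDivisors (A ⧸ p.asIdeal)) K
      (RingHom.ext fun x => by
        show φ ((1 : B) ⊗ₜ[A] x) = (1 : B) ⊗ₜ[A] algebraMap (A ⧸ p.asIdeal) K x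
        rfl)
  haveI : Algebra.FiniteType A B := hl.1
  open TensorProduct in
  haveI : IsNoetherianRing (K ⊗[A] B) := Algebra.FiniteType.isNoetherianRing K (K ⊗[A] B)
  open TensorProduct in
  haveI : IsNoetherianRing (B ⊗[A] K) :=
    isNoetherianRing_of_ringEquiv _ (Algebra.TensorProduct.comm A K B).toRingEquiv
  refine ⟨fun Q _ => ?_⟩
  open TensorProduct in
  let Q₁ : Ideal D := Q.comap (algebraMap D (B ⊗[A] K))
  haveI : IsLocalization.AtPrime (Localization.AtPrime Q) Q₁ :=
    IsLocalization.isLocalization_isLocalization_atPrime_isLocalization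
      ((nonZeroDivisors (A ⧸ p.asIdeal)).map
        (Algebra.TensorProduct.includeRight : (A ⧸ p.asIdeal) →ₐ[A] D)) _ Q
  let π : B →+* D := (Algebra.TensorProduct.quotIdealMapEquivTensorQuot B p.asIdeal).toRingEquiv.toRingHom.comp
    (Ideal.Quotient.mk (p.asIdeal.map (algebraMap A B)))
  have hπ : Function.Surjective π :=
    (Algebra.TensorProduct.quotIdealMapEquivTensorQuot B p.asIdeal).surjective.comp Ideal.Quotient.mk_surjective
  have hker : RingHom.ker π = p.asIdeal.map (algebraMap A B) := by
    ext b
    rw [RingHom.mem_ker, ← Ideal.Quotient.eq_zero_iff_mem]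
    exact map_eq_zero_iff _ (Algebra.TensorProduct.quotIdealMapEquivTensorQuot B p.asIdeal).injective
  have hπA : ∀ b, π b = algebraMap B D b := fun b =>
    (Algebra.TensorProduct.quotIdealMapEquivTensorQuot B p.asIdeal).commutes b
  have hq : (Q₁.comap π).comap (algebraMap A B) = p.asIdeal := by
    ext a
    rw [Ideal.mem_comap, Ideal.mem_comap, Ideal.mem_comap, hπA,
      ← IsScalarTower.algebraMap_apply B D, ← IsScalarTower.algebraMap_apply A B,
      Algebra.TensorProduct.algebraMap_apply']
    constructor
    · intro h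
      by_contra hn
      refine Ideal.IsPrime.ne_top ‹Q.IsPrime› (Ideal.eq_top_of_isUnit_mem _ h (IsUnit.map
        (Algebra.TensorProduct.includeRight : K →ₐ[A] B ⊗[A] K) (isUnit_iff_ne_zero.2 fun h0 => hn ?_)))
      rwa [Ideal.algebraMap_residueField_eq_zero] at h0
    · intro ha
      rw [Ideal.algebraMap_residueField_eq_zero.2 ha, TensorProduct.tmul_zero]
      exact Q.zero_mem
  have h := Groth.Agent.Goren15.isGorensteinLocalRing_fibre_of_isLCI A B hl p.asIdeal (Q₁.comap π) hq
  obtain ⟨e⟩ := Groth.Agent.Goren15.nonempty_localization_quotient_equiv π hπ Q₁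
  refine (Groth.Agent.Goren15.isGorensteinLocalRing_iff_of_ringEquiv (((Ideal.quotEquivOfEq ?_).trans e).trans
    (IsLocalization.algEquiv Q₁.primeCompl (Localization.AtPrime Q₁) (Localization.AtPrime Q)).toRingEquiv)).1 h
  rw [hker, Ideal.map_map, ← IsScalarTower.algebraMap_eq]

end Groth.Agent.S1830
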