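import Groth.Statements.S19953
import Groth.Agent.Lib.ThetaGrp19.Cart
import Mathlib.AlgebraicGeometry.Morphisms.Immersion

set_option autoImplicit false
universe u
open CategoryTheory MonoidalCategory CartesianMonoidalCategory MonObj GrpObj AlgebraicGeometry
open ThetaGrp

namespace Groth.Agent.S19953

set_option backward.isDefEq.respectTransparency.types false
open CategoryTheory.Limits CategoryTheory.Pseudofunctor Groth.Agent.ThetaGrp19

variable {S : Scheme.{u}} {A B : Over S} [GrpObj A] [IsCommMonObj A] [GrpObj B] (f : A ⟶ B) [IsMonHom f]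
  {L : A.left.Modules} {M : B.left.Modules} (e : (Scheme.Modules.pullback f.left).obj M ≅ L)

/-- The descent datum as a cartesian morphism from the theta object. -/
noncomputable def desc (T : Over S) : thetaObj A L T ⟶ (⟨B.left, M⟩ : CoGrothendieck (modPF.{u})) :=
  proj A L T ≫ ⟨f.left, e.inv⟩

omit [IsCommMonObj A] [GrpObj B] [IsMonHom f] in
theorem isCart_desc (T : Over S) : IsCart (desc f e T) :=
  (isCart_proj A L T).comp (inferInstanceAs (IsIso e.inv))

theorem existsUnique_pt {T : Over S} (x : T ⟶ A) (hx : x ≫ f = 1) :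
    ∃! β : thetaPts A L T, IsOverPt β x ∧ β.1.hom ≫ desc f e T = desc f e T := by
  have hb : ∀ y : T ⟶ A, y ≫ f = 1 → (transl A y).left ≫ (desc f e T).base = (desc f e T).base := by
    intro y hy
    show (transl A y).left ≫ (fst A T).left ≫ f.left = (fst A T).left ≫ f.left
    rw [← Over.comp_left, ← Over.comp_left, ← Category.assoc, transl_fst,
      MonObj.mul_comp, Category.assoc, hy, MonObj.comp_one, _root_.mul_one]
  have hx' : x⁻¹ ≫ f = 1 := by rw [GrpObj.inv_comp, hx, inv_one]
  obtain ⟨p, ⟨hp, hpd⟩, -⟩ := existsUnique_lift (isCart_desc f e T) (desc f e T) (transl A x).left (hb x hx)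
  obtain ⟨q, ⟨hq, hqd⟩, -⟩ := existsUnique_lift (isCart_desc f e T) (desc f e T) (transl A x⁻¹).left (hb _ hx')
  have h1 : p ≫ q = 𝟙 _ := hom_ext_of_cart (isCart_desc f e T)
    (by rw [CoGrothendieck.categoryStruct_comp_base, hp, hq, ← Over.comp_left, ← transl_mul, mul_inv_cancel,
      transl_one]; rfl)
    (by rw [Category.assoc, hqd, hpd, Category.id_comp])
  have h2 : q ≫ p = 𝟙 _ := hom_ext_of_cart (isCart_desc f e T)
    (by rw [CoGrothendieck.categoryStruct_comp_base, hp, hq, ← Over.comp_left, ← transl_mul, inv_mul_cancel,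
      transl_one]; rfl)
    (by rw [Category.assoc, hpd, hqd, Category.id_comp])
  refine ⟨⟨⟨p, q, h1, h2⟩, x, hp⟩, ⟨hp, hpd⟩, fun β hβ => ?_⟩
  exact Subtype.ext (Iso.ext (hom_ext_of_cart (isCart_desc f e T) (hβ.1.trans hp.symm) (hβ.2.trans hpd.symm)))


/-- Let f : X → Y be a surjective homomorphism of abelian varieties over a field k (proper,
geometrically integral, commutative k-group schemes), i : N → X its kernel (a homomorphism forming a
cartesian square with the unit section of Y), L an invertible O_X-module, M an invertible O_Y-module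
with f^*M ≅ L, and G a k-group scheme with a point u ∈ G(L)(G) representing the theta group of L
(every point of G(L)(T) is the base change of u along a unique T → G, multiplicatively). Then there
is a level subgroup of G(L) whose image in K(L) is Ker(f): a homomorphism of group schemes j : N → G
that is an immersion, such that a point of N whose image lies over the identity translation is
trivial, and that lies over i (for every k-scheme T and T-valued point n of N, the base change of u
along j(n) lies over the translation by i(n)). -/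
theorem result (k : Type u) [Field k]
    (A : Over (Spec (CommRingCat.of k))) [GrpObj A] [IsCommMonObj A] [IsProper A.hom] [GeometricallyIntegral A.hom]
    (B : Over (Spec (CommRingCat.of k))) [GrpObj B] [IsCommMonObj B] [IsProper B.hom] [GeometricallyIntegral B.hom]
    (f : A ⟶ B) [IsMonHom f] (hf : Surjective f.left)
    (N : Over (Spec (CommRingCat.of k))) [GrpObj N] (i : N ⟶ A) [IsMonHom i] (hN : AlgGrp.IsKernel i f)
    (L : A.left.Modules) (hL : PicF.IsInvertible L)
    (M : B.left.Modules) (hM : PicF.IsInvertible M)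
    (hLM : Nonempty ((Scheme.Modules.pullback f.left).obj M ≅ L))
    (G : Over (Spec (CommRingCat.of k))) [GrpObj G] (u : ThetaGrp.thetaPts A L G)
    (hG : ThetaGrp.IsThetaGrpSch A L G u) :
    ∃ j : N ⟶ G, IsMonHom j ∧ ThetaGrp.IsLevelSubgrp u j ∧
      ∀ (T : Over (Spec (CommRingCat.of k))) (n : T ⟶ N) (β : ThetaGrp.thetaPts A L T),
        ThetaGrp.IsBaseChange β (n ≫ j) u → ThetaGrp.IsOverPt β (n ≫ i) := by
  obtain ⟨e⟩ := hLM
  have hi : ∀ {T : Over (Spec (CommRingCat.of k))} (n : T ⟶ N), (n ≫ i) ≫ f = 1 := by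
    intro T n
    rw [Category.assoc, hN.w, ← Category.assoc, toUnit_unique (n ≫ toUnit N) (toUnit T), Hom.one_def]
  have pt : ∀ {T : Over (Spec (CommRingCat.of k))} (n : T ⟶ N),
      ∃! β : thetaPts A L T, IsOverPt β (n ≫ i) ∧ β.1.hom ≫ desc f e T = desc f e T :=
    fun n => existsUnique_pt f e _ (hi n)
  choose b hb hbu using @pt
  obtain ⟨j, hj, -⟩ := hG.univ N (b (𝟙 N))
  have hnat : ∀ {T : Over (Spec (CommRingCat.of k))} (n : T ⟶ N), IsBaseChange (b n) (n ≫ j) u := by
    intro T n
    have h1 : (b n).1.hom ≫ bcLift A L n = bcLift A L n ≫ (b (𝟙 N)).1.hom := by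
      have hd : bcLift A L n ≫ desc f e N = desc f e T := by
        rw [desc, ← Category.assoc, bcLift_proj]; rfl
      refine hom_ext_of_cart (isCart_desc f e N) ?_ ?_
      · show (b n).1.hom.base ≫ (A ◁ n).left = (A ◁ n).left ≫ (b (𝟙 N)).1.hom.base
        rw [(hb n).1, (hb (𝟙 N)).1, ← Over.comp_left, ← Over.comp_left, comp_transl n (x := n ≫ i) (y := 𝟙 N ≫ i) (by rw [Category.id_comp])]
      · rw [Category.assoc, hd, Category.assoc, (hb (𝟙 N)).2, hd, (hb n).2]
    show _ ≫ bcLift A L (n ≫ j) = bcLift A L (n ≫ j) ≫ _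
    rw [← bcLift_comp, reassoc_of% h1, hj, Category.assoc]
  have hover : ∀ (T : Over (Spec (CommRingCat.of k))) (n : T ⟶ N) (β : thetaPts A L T),
      IsBaseChange β (n ≫ j) u → IsOverPt β (n ≫ i) := by
    intro T n β hβ
    rw [(hG.exists_bc T (n ≫ j)).unique hβ (hnat n)]
    exact (hb n).1
  have hmul : ∀ {T : Over (Spec (CommRingCat.of k))} (n m : T ⟶ N), (n * m) ≫ j = (n ≫ j) * (m ≫ j) := by
    intro T n m
    have h := hG.mul T _ _ _ _ (hnat n) (hnat m)
    have e1 : b (n * m) = b n * b m := by
      refine (hbu (n * m) _ ⟨?_, ?_⟩).symm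
      · show ((b m).1.hom ≫ (b n).1.hom).base = _
        rw [CoGrothendieck.categoryStruct_comp_base, (hb m).1, (hb n).1, ← Over.comp_left, ← transl_mul,
          MonObj.mul_comp, mul_comm]
      · show ((b m).1.hom ≫ (b n).1.hom) ≫ _ = _
        rw [Category.assoc, (hb n).2, (hb m).2]
    rw [← e1] at h
    exact (hG.univ T _).unique (hnat (n * m)) h
  have hone : ∀ {T : Over (Spec (CommRingCat.of k))}, (1 : T ⟶ N) ≫ j = 1 := by
    intro T
    have h := hmul (1 : T ⟶ N) 1
    rw [_root_.mul_one] at h
    exact left_eq_mul.mp h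
  have hmon : IsMonHom j :=
    { one_hom := by
        have := hone (T := 𝟙_ (Over (Spec (CommRingCat.of k))))
        simpa [Hom.one_def] using this
      mul_hom := by
        have := hmul (fst N N) (snd N N)
        simp only [Hom.mul_def, lift_fst_snd, Category.id_comp] at this
        rw [this]
        congr 1
        }
  refine ⟨j, hmon, ⟨?_, hmon, ?_⟩, hover⟩
  · obtain ⟨xu, hxu⟩ := u.2
    have hjx : j ≫ xu = i := by
      have h := hnat (𝟙 N)
      rw [Category.id_comp] at h
      refine (comp_of_transl_eq j (Over.OverMorphism.ext ?_)).trans (Category.id_comp i)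
      show (transl A (𝟙 N ≫ i)).left ≫ (A ◁ j).left = (A ◁ j).left ≫ (transl A xu).left
      rw [← (hb (𝟙 N)).1, ← hxu]
      exact congrArg CoGrothendieck.Hom.base h
    have : IsClosedImmersion η[B].left := by
      have : IsClosedImmersion (η[B].left ≫ B.hom) := by
        rw [Over.w η[B]]
        exact inferInstanceAs (IsClosedImmersion (𝟙 _))
      exact IsClosedImmersion.of_comp _ B.hom
    have : IsClosedImmersion i.left :=
      MorphismProperty.of_isPullback (P := @IsClosedImmersion)
        (hN.map (Over.forget _)).flip this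
    have : IsImmersion (j.left ≫ xu.left) := by
      rw [← Over.comp_left, hjx]; infer_instance
    exact IsImmersion.of_comp j.left xu.left
  · intro T h β hβ h1
    have hx := eq_of_transl_eq (Over.OverMorphism.ext ((hover T h β hβ).symm.trans h1))
    refine hN.hom_ext ?_ (toUnit_unique _ _)
    rw [hx, MonObj.one_comp]

end Groth.Agent.S19953
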