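import Groth.Statements.S19947
import Groth.Agent.S19953
import Groth.Agent.Lib.ThetaDesc13.Pts
import Groth.Agent.Lib.QcohDesc12.Effective
import Groth.Agent.Lib.ParaFDesc27.Descent
import Groth.Agent.Lib.AbRigid.Isogeny
import Groth.Agent.Lib.Twist.Pullback

set_option autoImplicit false
universe u
open CategoryTheory MonoidalCategory CartesianMonoidalCategory MonObj GrpObj AlgebraicGeometry
open ThetaGrp

namespace Groth.Agent.S19947

set_option backward.isDefEq.respectTransparency.types false
open CategoryTheory.Limits CategoryTheory.Pseudofunctor

/-- Let f : X → Y be a surjective homomorphism of abelian varieties over a field k (proper,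
geometrically integral, commutative k-group schemes), i : N → X its kernel (a homomorphism of
k-group schemes forming a cartesian square with the unit section of Y), L an invertible O_X-module,
and G a k-group scheme with a point u ∈ G(L)(G) representing the theta group of L (every point of
G(L)(T) is the base change of u along a unique T → G, multiplicatively). Then L descends to Y, i.e.
there is an invertible O_Y-module M with f^*M ≅ L, if and only if the inclusion i lifts to a
homomorphism of group schemes j : N → G over X: for every k-scheme T and every T-valued point n of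
N, the base change of u along j(n) lies over the translation by i(n). (The source states a bijection
between the isomorphism classes of such M and the set of such homomorphisms; this row states that
one set is non-empty exactly when the other is.) -/
theorem result (k : Type u) [Field k]
    (A : Over (Spec (CommRingCat.of k))) [GrpObj A] [IsCommMonObj A] [IsProper A.hom] [GeometricallyIntegral A.hom]
    (B : Over (Spec (CommRingCat.of k))) [GrpObj B] [IsCommMonObj B] [IsProper B.hom] [GeometricallyIntegral B.hom]
    (f : A ⟶ B) [IsMonHom f] (hf : Surjective f.left)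
    (N : Over (Spec (CommRingCat.of k))) [GrpObj N] (i : N ⟶ A) [IsMonHom i] (hN : AlgGrp.IsKernel i f)
    (L : A.left.Modules) (hL : PicF.IsInvertible L)
    (G : Over (Spec (CommRingCat.of k))) [GrpObj G] (u : ThetaGrp.thetaPts A L G)
    (hG : ThetaGrp.IsThetaGrpSch A L G u) :
    (∃ M : B.left.Modules, PicF.IsInvertible M ∧ Nonempty ((Scheme.Modules.pullback f.left).obj M ≅ L)) ↔
      ∃ j : N ⟶ G, IsMonHom j ∧
        ∀ (T : Over (Spec (CommRingCat.of k))) (n : T ⟶ N) (β : ThetaGrp.thetaPts A L T),
          ThetaGrp.IsBaseChange β (n ≫ j) u → ThetaGrp.IsOverPt β (n ≫ i) := by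
  constructor
  · rintro ⟨M, hM, hLM⟩
    obtain ⟨j, hj, -, hover⟩ := S19953.result k A B f hf N i hN L hL M hM hLM G u hG
    exact ⟨j, hj, hover⟩
  · rintro ⟨j, hj, hover⟩
    let D := ThetaDesc13.data (ThetaDesc13.ofLift hN hG j hover)
    have : IsIntegral B.left :=
      GeometricallyIntegral.geometrically_isIntegral (f := B.hom) (𝟙 _) (𝟙 B.left) B.hom
        (IsPullback.of_horiz_isIso ⟨by simp⟩)
    have : Flat f.left := AbRigid.flat_of_surjective A B f
    have : IsProper (f.left ≫ B.hom) := by rw [Over.w f]; infer_instance
    have : IsProper f.left := IsProper.of_comp f.left B.hom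
    have hcov : Presieve.ofArrows (fun _ : PUnit.{u + 1} => A.left) (fun _ => f.left) ∈
        Scheme.fpqcPrecoverage B.left := by
      rw [Presieve.ofArrows_pUnit]
      exact Scheme.Hom.singleton_mem_fpqcPrecoverage f.left
    have : ∀ x : PUnit.{u + 1}, Coh.IsQCoh (QcohDesc12.ob D x) :=
      fun _ => Twist.isQCoh_of_isInvertible hL
    obtain ⟨M, hM, ⟨e⟩⟩ := QcohDesc12.exists_iso_toDescentData (D := D) hcov
    let e' : (Scheme.Modules.pullback f.left).obj M ≅ L :=
      { hom := e.hom.hom PUnit.unit
        inv := e.inv.hom PUnit.unit
        hom_inv_id := congrArg (fun φ => DescentData.Hom.hom φ PUnit.unit) e.hom_inv_id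
        inv_hom_id := congrArg (fun φ => DescentData.Hom.hom φ PUnit.unit) e.inv_hom_id }
    exact ⟨M, ParaFDesc27.isInvertible_of_pullback f.left hM (Twist.isInvertible_of_iso e'.symm hL), ⟨e'⟩⟩

end Groth.Agent.S19947
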