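import Groth.Statements.S19948
import Groth.Agent.Lib.ThetaSplit13.Section
import Groth.Agent.Lib.ThetaSplit13.Isotropic
import Groth.Agent.S19947

set_option autoImplicit false
universe u
open CategoryTheory MonoidalCategory CartesianMonoidalCategory MonObj GrpObj AlgebraicGeometry
open ThetaGrp

namespace Groth.Agent.S19948

open CategoryTheory.Limits

/-- Let k be an algebraically closed field, f : X → Y an isogeny of abelian varieties over k (X, Y
proper, geometrically integral, commutative k-group schemes; f a finite surjective homomorphism), i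
: N → X the kernel of f (a homomorphism forming a cartesian square with the unit section of Y), L an
invertible O_X-module and i_K : K → X a closed immersion exhibiting K as K(L), the maximal closed
subscheme of X over which the Mumford bundle m^*L ⊗ p_1^*L⁻¹ ⊗ p_2^*L⁻¹, restricted to X ×_k K, is
the inverse image of an invertible module on K, with its universal property. Then L is the inverse
image of an invertible O_Y-module (there is an invertible M on Y with f^*M ≅ L) if and only if the
kernel of f lies inside K(L) as a subgroup scheme and the commutator pairing e_L is trivial on it: i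
factors through i_K, and for every k-scheme T any two points (x₁, φ₁), (x₂, φ₂) of G(L)(T) whose
translations are by points of N commute. (Algebraic closedness is used for the converse; over other
fields an isotropic kernel descends in general only after a finite extension of k.) -/
theorem result (k : Type u) [Field k] [IsAlgClosed k]
    (A : Over (Spec (CommRingCat.of k))) [GrpObj A] [IsCommMonObj A] [IsProper A.hom] [GeometricallyIntegral A.hom]
    (B : Over (Spec (CommRingCat.of k))) [GrpObj B] [IsCommMonObj B] [IsProper B.hom] [GeometricallyIntegral B.hom]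
    (f : A ⟶ B) [IsMonHom f] [IsFinite f.left] (hf : Surjective f.left)
    (N : Over (Spec (CommRingCat.of k))) [GrpObj N] (i : N ⟶ A) [IsMonHom i] (hN : AlgGrp.IsKernel i f)
    (L : A.left.Modules) (hL : PicF.IsInvertible L)
    (K : Over (Spec (CommRingCat.of k))) (iK : K ⟶ A) (hK : ThetaGrp.IsKL A L iK) :
    (∃ M : B.left.Modules, PicF.IsInvertible M ∧ Nonempty ((Scheme.Modules.pullback f.left).obj M ≅ L)) ↔
      ((∃ y : N ⟶ K, y ≫ iK = i) ∧ ThetaGrp.IsIsotropic L i) := by
  obtain ⟨G, ⟨α⟩⟩ := ThetaSch13.exists_representableBy (A := A) hL
  obtain ⟨gG, u, hG⟩ := ThetaSch13.isThetaGrpSch_of_representableBy α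
  haveI : IsSeparated B.hom := inferInstance
  haveI : IsClosedImmersion η[B].left := isClosedImmersion_of_comp_eq_id B.hom η[B].left (Over.w η[B])
  have hsq := IsPullback.map (Over.forget _) hN
  haveI : IsClosedImmersion i.left :=
    MorphismProperty.of_isPullback (P := @IsClosedImmersion) hsq.flip ‹IsClosedImmersion η[B].left›
  haveI : IsFinite (toUnit N).left := MorphismProperty.of_isPullback (P := @IsFinite) hsq ‹IsFinite f.left›
  haveI : IsAffine (𝟙_ (Over (Spec (CommRingCat.of k)))).left := inferInstanceAs (IsAffine (Spec (CommRingCat.of k)))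
  haveI : IsAffine N.left := isAffine_of_isAffineHom (toUnit N).left
  haveI : Mono ((Over.forget (Spec (CommRingCat.of k))).map i) := inferInstanceAs (Mono i.left)
  haveI : Mono i := (Over.forget (Spec (CommRingCat.of k))).mono_of_mono_map ‹_›
  haveI := ThetaSplit13.isCommMonObj_of_mono i
  rw [S19947.result k A B f hf N i hN L hL G u hG]
  constructor
  · rintro ⟨j, hj, hover⟩
    have hji : j ≫ ThetaSch13.ptOf u = i := ThetaSch13.comp_eq_of_over hover
    obtain ⟨y, hy⟩ := ThetaSch13.exists_factor hL hK (ThetaSch13.pull j u)
    exact ⟨⟨y, by rw [hy, ThetaSch13.ptOf_pull, hji]⟩,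
      ThetaSplit13.isIsotropic_of_lift (ThetaGrp19.hzero_of_field A) hL hG i j hji⟩
  · rintro ⟨hv, hiso⟩
    obtain ⟨j, hj, hji⟩ := ThetaSplit13.exists_lift hL hG hK i hv hiso
    refine ⟨j, hj, fun T n β h => ?_⟩
    have h2 := ThetaSch13.isOverPt_ptOf β
    rwa [ThetaSch13.eq_pull h, ThetaSch13.ptOf_pull, Category.assoc, hji, ← ThetaSch13.eq_pull h] at h2

end Groth.Agent.S19948
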