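import Groth.Statements.S7188
import Groth.Agent.Lib.Seesaw22.Closed
import Groth.Agent.Lib.QAGen11.Basic
import Groth.Agent.Lib.RankLoc10.Triv
import Groth.Agent.Lib.TensorMod.Invertible

set_option autoImplicit false
universe u
open FlatMor

namespace Groth.Agent.S7188

open AlgebraicGeometry CategoryTheory Limits in
/-- Let f : X → S be flat, proper and of finite presentation with O_T → (f_T)_* O_{X_T} an isomorphism
for every base change, let E be an invertible O_X-module, and let j : Z → S be the immersion of
finite presentation representing the locus of those T → S over which the pullback of E comes from a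
finite locally free O_T-module. If every geometric fibre of f is an integral scheme, j is a closed
immersion (the locus is a closed subscheme of S). -/
theorem result {X S Z : Scheme.{u}} (f : X ⟶ S) [Flat f] [IsProper f] [LocallyOfFinitePresentation f]
    (hO : ∀ (T : Scheme.{u}) (g : T ⟶ S) (U : T.Opens), IsIso ((pullback.snd f g).app U))
    (E : X.Modules) (hE : PicF.IsInvertible E)
    (j : Z ⟶ S) [IsImmersion j] [LocallyOfFinitePresentation j]
    (hZ : ∀ (T : Scheme.{u}) (g : T ⟶ S), (∃ g' : T ⟶ Z, g' ≫ j = g) ↔
        ∃ N : T.Modules, FlatMod.IsFinLocFree N ∧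
          Nonempty ((Scheme.Modules.pullback (pullback.snd f g)).obj N ≅ (Scheme.Modules.pullback (pullback.fst f g)).obj E))
    (hgeo : ∀ (K : Type u) [Field K] (x : Spec (CommRingCat.of K) ⟶ S), IsIntegral (pullback f x)) :
    IsClosedImmersion j := by
  haveI hres : ∀ z : Z, IsIso (j.residueFieldMap z) := fun z => by
    rw [ConcreteCategory.isIso_iff_bijective]
    refine ⟨(j.residueFieldMap z).hom.injective, ?_⟩
    have h1 : Function.Surjective (j.stalkMap z ≫ Z.residue z).hom :=
      (Z.residue_surjective z).comp (j.stalkMap_surjective z)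
    rw [← Scheme.residue_residueFieldMap] at h1
    exact Function.Surjective.of_comp (g := (S.residue (j z)).hom) h1
  have hint : ∀ s : S, IsIntegral (f.fiber s) := fun s => hgeo _ (S.fromSpecResidueField s)
  have hr : Set.range j = {s : S | Nonempty ((Scheme.Modules.pullback (f.fiberι s)).obj E ≅
      Coh.structureModule (f.fiber s))} := by
    ext s
    constructor
    · rintro ⟨z, rfl⟩
      obtain ⟨N, hN, ⟨φ⟩⟩ := (hZ (Spec (S.residueField (j z))) (S.fromSpecResidueField (j z))).1
        ⟨inv (Spec.map (j.residueFieldMap z)) ≫ Z.fromSpecResidueField z, by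
          rw [Category.assoc, IsIso.inv_comp_eq, Scheme.Hom.SpecMap_residueFieldMap_fromSpecResidueField]⟩
      haveI : IsIntegral (pullback f (S.fromSpecResidueField (j z))) := hgeo _ _
      have hE1 := PicLoc.isInvertible_pullback (pullback.fst f (S.fromSpecResidueField (j z))) hE
      haveI : Subsingleton (Spec (S.residueField (j z))) := inferInstanceAs (Subsingleton (PrimeSpectrum _))
      have hrk : ∀ x, Groth.Agent.RankLoc10.rk N x = 1 := fun x => by
        let y : ↥(pullback f (S.fromSpecResidueField (j z))) := Classical.arbitrary _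
        rw [Subsingleton.elim x (pullback.snd f (S.fromSpecResidueField (j z)) y),
          ← Groth.Agent.RankLoc10.rk_pullback hN (pullback.snd f (S.fromSpecResidueField (j z))) y,
          Groth.Agent.RankLoc10.rk_congr φ.symm (Groth.Agent.M2.isFinLocFree_of_isInvertible hE1)]
        obtain ⟨D, g, hD, hgen⟩ := Groth.Agent.ProjUP.exists_isGen_of_invertible hE1 y
        exact Groth.Agent.RankLoc10.rk_eq_of_isBas (Groth.Agent.P1Split.isBas_of_isGen hgen) hD
      have hN1 : PicF.IsInvertible N := (Groth.Agent.M2.isInvertible_iff_isFinLocFreeOfRank_one _).2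
        (Groth.Agent.RankLoc10.isFinLocFreeOfRank_of_rk hN hrk)
      obtain ⟨D, g, hD, hgen⟩ := Groth.Agent.ProjUP.exists_isGen_of_invertible hN1
        (IsLocalRing.closedPoint (S.residueField (j z)))
      obtain rfl : D = ⊤ := top_le_iff.1 fun x _ => by
        rwa [Subsingleton.elim x (IsLocalRing.closedPoint (S.residueField (j z)))]
      obtain ⟨e⟩ := Groth.Agent.Twist.nonempty_iso_of_generator _ g fun U => hgen U le_top
      exact ⟨φ.symm ≪≫ (Scheme.Modules.pullback _).mapIso e ≪≫ Groth.Agent.Twist.pullbackUnitIso _⟩
    · rintro ⟨e⟩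
      have h1 : PicF.IsInvertible (Coh.structureModule (Spec (S.residueField s))) :=
        Groth.Agent.QAGen11.isInvertible_unit _
      obtain ⟨g', hg'⟩ := (hZ (Spec (S.residueField s)) (S.fromSpecResidueField s)).2
        ⟨_, Groth.Agent.M2.isFinLocFree_of_isInvertible h1, ⟨Groth.Agent.Twist.pullbackUnitIso _ ≪≫ e.symm⟩⟩
      let pt : Spec (S.residueField s) := IsLocalRing.closedPoint (S.residueField s)
      refine ⟨g' pt, ?_⟩
      rw [← Scheme.Hom.comp_apply, hg']
      exact Scheme.fromSpecResidueField_apply _ _
  refine IsClosedImmersion.of_isPreimmersion j ?_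
  rw [hr]
  exact Groth.Agent.Seesaw22.isClosed_trivial f hint hE

end Groth.Agent.S7188
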