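import Groth.Prelude.Def_CGrpSh3
import Mathlib.AlgebraicGeometry.Morphisms.Finite
import Mathlib.AlgebraicGeometry.Morphisms.Flat
import Mathlib.AlgebraicGeometry.Noetherian
import Mathlib.RingTheory.Spectrum.Prime.FreeLocus
import Mathlib.RingTheory.Finiteness.ModuleFinitePresentation
import Mathlib.AlgebraicGeometry.Morphisms.Affine
import Mathlib.AlgebraicGeometry.Morphisms.Finite
import Mathlib.AlgebraicGeometry.Morphisms.FinitePresentation
import Groth.Prelude.Def_GmPts
-- import your own Groth.Agent.* helpers here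

set_option autoImplicit false
universe u
namespace GmDual
end GmDual
open GmDual

namespace Groth.Agent.S15383

section helpers

open CategoryTheory CategoryTheory.Limits AlgebraicGeometry Opposite TensorProduct

/-- Base change of a module which is free on `D(r)` is free where `r` is a unit. -/
theorem free_of_isPushout {A S B B' : Type u} [CommRing A] [CommRing S] [CommRing B] [CommRing B']
    [Algebra A S] [Algebra A B] [Algebra A B'] [Algebra S B'] [Algebra B B'] [IsScalarTower A S B']
    [IsScalarTower A B B'] [Algebra.IsPushout A S B B'] (r : A) (hr : IsUnit (algebraMap A S r))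
    [Module.Free (Localization.Away r) (LocalizedModule.Away r B)] : Module.Free S B' := by
  let : Algebra (Localization.Away r) S := (IsLocalization.Away.lift r hr).toAlgebra
  have : IsScalarTower A (Localization.Away r) S :=
    IsScalarTower.of_algebraMap_eq fun a => (IsLocalization.Away.lift_eq r hr a).symm
  let e₁ : LocalizedModule.Away r B ≃ₗ[Localization.Away r] Localization.Away r ⊗[A] B :=
    LocalizedModule.equivTensorProduct (Submonoid.powers r) B
  have : Module.Free (Localization.Away r) (Localization.Away r ⊗[A] B) := Module.Free.of_equiv e₁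
  let e₂ : S ⊗[Localization.Away r] (Localization.Away r ⊗[A] B) ≃ₗ[S] B' :=
    (AlgebraTensorModule.cancelBaseChange A (Localization.Away r) S S B).trans
      (Algebra.IsPushout.out (R := A) (S := S) (R' := B) (S' := B')).equiv
  exact Module.Free.of_equiv e₂

variable {X X' : Scheme.{u}} (f : X' ⟶ X) [IsFinite f] [Flat f] [LocallyOfFinitePresentation f]

theorem free_pullback {Tu Tv : Over X} [IsAffine Tu.left] [IsAffine Tv.left] (a : Tv ⟶ Tu)
    (r : Γ(Tu.left, ⊤)) (hr : IsUnit (a.left.appTop r))
    (h : letI := (pullback.fst Tu.hom f).appTop.hom.toAlgebra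
      Module.Free (Localization.Away r) (LocalizedModule.Away r Γ(pullback Tu.hom f, ⊤))) :
    letI := (pullback.fst Tv.hom f).appTop.hom.toAlgebra
    Module.Free Γ(Tv.left, ⊤) Γ(pullback Tv.hom f, ⊤) := by
  let g := pullback.map Tv.hom f Tu.hom f a.left (𝟙 X') (𝟙 X) (by simp) (by simp)
  have sq : IsPullback g (pullback.fst Tv.hom f) (pullback.fst Tu.hom f) a.left :=
    IsPullback.of_right (h₁₂ := pullback.snd Tu.hom f) (h₂₂ := Tu.hom) (v₁₃ := f)
      (by rw [show g ≫ pullback.snd Tu.hom f = pullback.snd Tv.hom f from (pullback.lift_snd _ _ _).trans (Category.comp_id _),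
          Over.w a]; exact (IsPullback.of_hasPullback Tv.hom f).flip) (pullback.lift_fst _ _ _)
      (IsPullback.of_hasPullback Tu.hom f).flip
  let := (pullback.fst Tu.hom f).appTop.hom.toAlgebra
  let := (pullback.fst Tv.hom f).appTop.hom.toAlgebra
  let := a.left.appTop.hom.toAlgebra
  let := g.appTop.hom.toAlgebra
  let : Algebra Γ(Tu.left, ⊤) Γ(pullback Tv.hom f, ⊤) :=
    (a.left.appTop ≫ (pullback.fst Tv.hom f).appTop).hom.toAlgebra
  have : IsScalarTower Γ(Tu.left, ⊤) Γ(Tv.left, ⊤) Γ(pullback Tv.hom f, ⊤) := .of_algebraMap_eq' rfl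
  have : IsScalarTower Γ(Tu.left, ⊤) Γ(pullback Tu.hom f, ⊤) Γ(pullback Tv.hom f, ⊤) := .of_algebraMap_eq' (by
    rw [RingHom.algebraMap_toAlgebra, RingHom.algebraMap_toAlgebra, RingHom.algebraMap_toAlgebra,
      ← CommRingCat.hom_comp, ← Scheme.Hom.comp_appTop, ← Scheme.Hom.comp_appTop, sq.w])
  have : Algebra.IsPushout Γ(Tu.left, ⊤) Γ(Tv.left, ⊤) Γ(pullback Tu.hom f, ⊤) Γ(pullback Tv.hom f, ⊤) :=
    CommRingCat.isPushout_iff_isPushout.mp (isPushout_appTop_of_isPullback sq).flip
  exact free_of_isPushout (B := Γ(pullback Tu.hom f, ⊤)) r hr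

theorem exists_chart (T : Over X) (x : T.left) : ∃ (Tv : Over X) (a : Tv ⟶ T) (_ : IsAffine Tv.left)
    (_ : IsOpenImmersion a.left), x ∈ Set.range a.left ∧
      (letI := (pullback.fst Tv.hom f).appTop.hom.toAlgebra
       Module.Finite Γ(Tv.left, ⊤) Γ(pullback Tv.hom f, ⊤) ∧
       Module.Free Γ(Tv.left, ⊤) Γ(pullback Tv.hom f, ⊤)) := by
  obtain ⟨U, hU, hxU, -⟩ := exists_isAffineOpen_mem_and_subset (x := x) (U := ⊤) trivial
  let Tu : Over X := Over.mk (U.ι ≫ T.hom)
  have : IsAffine Tu.left := hU
  let g := pullback.fst Tu.hom f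
  let := g.appTop.hom.toAlgebra
  have : Module.Finite Γ(Tu.left, ⊤) Γ(pullback Tu.hom f, ⊤) := g.finite_appTop
  have : Module.Flat Γ(Tu.left, ⊤) Γ(pullback Tu.hom f, ⊤) := g.flat_appTop
  have hfp : Algebra.FinitePresentation Γ(Tu.left, ⊤) Γ(pullback Tu.hom f, ⊤) := by
    have := isAffine_of_isAffineHom g
    exact HasRingHomProperty.appTop (P := @LocallyOfFinitePresentation) g inferInstance
  have : Module.FinitePresentation Γ(Tu.left, ⊤) Γ(pullback Tu.hom f, ⊤) :=
    Module.FinitePresentation.of_finite_of_finitePresentation _ _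
  let y : Tu.left := ⟨x, hxU⟩
  let p := Tu.left.isoSpec.hom y
  have hp : Module.Free (Localization.AtPrime p.asIdeal) (LocalizedModule p.asIdeal.primeCompl Γ(pullback Tu.hom f, ⊤)) :=
    Module.free_of_flat_of_isLocalRing
  obtain ⟨r, hr, hfree, -⟩ := Module.FinitePresentation.exists_free_localizedModule_powers p.asIdeal.primeCompl
    (LocalizedModule.mkLinearMap p.asIdeal.primeCompl Γ(pullback Tu.hom f, ⊤)) (Localization.AtPrime p.asIdeal)
  let V := Tu.left.basicOpen r
  have hy : y ∈ V := by
    rw [show V = _ from (Tu.left.toSpecΓ_preimage_basicOpen r).symm]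
    exact hr
  let Tv : Over X := Over.mk (V.ι ≫ Tu.hom)
  have hV : IsAffineOpen V := (isAffineOpen_top _).basicOpen r
  have : IsAffine Tv.left := hV
  let b : Tv ⟶ Tu := Over.homMk V.ι rfl
  let a : Tv ⟶ T := Over.homMk (V.ι ≫ U.ι) (by simp [Tv, Tu])
  have hu : IsUnit (b.left.appTop r) := by
    change IsUnit (V.ι.appTop r)
    have h := (Tu.left.toRingedSpace.isUnit_res_basicOpen r).map
      (Tu.left.presheaf.map (homOfLE (show V.ι ''ᵁ ⊤ ≤ Tu.left.basicOpen r by simp [V])).op).hom
    rw [Scheme.Opens.ι_appTop]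
    refine Eq.subst (motive := IsUnit) ?_ h
    erw [← CommRingCat.comp_apply, ← Functor.map_comp]
    rfl
  refine ⟨Tv, a, inferInstance, inferInstanceAs (IsOpenImmersion (V.ι ≫ U.ι)), ⟨⟨y, hy⟩, rfl⟩,
    (pullback.fst Tv.hom f).finite_appTop, free_pullback f b r hu hfree⟩

theorem normPt_comp {K : Precoverage Scheme.{u}} [(QuotSh.J K X).Subcanonical] [(QuotSh.J K X').Subcanonical]
    (N : CGrpSh3.pushGm K f ⟶ CGrpSh2.Gm K X) {T V : Over X} (a : V ⟶ T) (t : (Over.pullback f).obj T ⟶ Red.Gm X') :
    a ≫ CGrpSh3.normPt K f N T t = CGrpSh3.normPt K f N V ((Over.pullback f).map a ≫ t) := by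
  have h := ConcreteCategory.congr_hom (N.hom.naturality a.op) (ULift.up (Additive.ofMul t))
  exact (congrArg (fun z => (ULift.down z).toMul) h).symm

theorem main (N N' : CGrpSh3.pushGm Scheme.fppfPrecoverage f ⟶ CGrpSh2.Gm Scheme.fppfPrecoverage X)
    (hN : CGrpSh3.IsNormMap Scheme.fppfPrecoverage f N) (hN' : CGrpSh3.IsNormMap Scheme.fppfPrecoverage f N')
    (T : Over X) (t : (Over.pullback f).obj T ⟶ Red.Gm X') :
    CGrpSh3.normPt Scheme.fppfPrecoverage f N T t = CGrpSh3.normPt Scheme.fppfPrecoverage f N' T t := by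
  refine Over.OverMorphism.ext ?_
  choose Tv a hA hI hx hff using exists_chart f T
  let 𝒰 : T.left.OpenCover := Scheme.openCoverOfIsOpenCover _ (fun x => (a x).left.opensRange)
    (top_le_iff.1 fun x _ => TopologicalSpace.Opens.mem_iSup.2 ⟨x, hx x⟩)
  refine Scheme.Cover.hom_ext 𝒰 _ _ fun x => ?_
  have e : a x ≫ CGrpSh3.normPt Scheme.fppfPrecoverage f N T t =
      a x ≫ CGrpSh3.normPt Scheme.fppfPrecoverage f N' T t := by
    have := hA x
    let : Algebra Γ((Tv x).left, ⊤) Γ(((Over.pullback f).obj (Tv x)).left, ⊤) :=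
      (pullback.fst (Tv x).hom f).appTop.hom.toAlgebra
    have : Module.Finite Γ((Tv x).left, ⊤) Γ(((Over.pullback f).obj (Tv x)).left, ⊤) := (hff x).1
    have : Module.Free Γ((Tv x).left, ⊤) Γ(((Over.pullback f).obj (Tv x)).left, ⊤) := (hff x).2
    rw [normPt_comp, normPt_comp]
    exact GmPts.gmFn_injective ((hN (Tv x) (fun _ => rfl) _).trans (hN' (Tv x) (fun _ => rfl) _).symm)
  have e' := congrArg CommaMorphism.left e
  simp only [Over.comp_left] at e'
  have := hI x
  rw [← (a x).left.isoOpensRange_hom_ι] at e'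
  simp only [Category.assoc] at e'
  exact (cancel_epi (a x).left.isoOpensRange.hom).1 e'

end helpers

open CategoryTheory AlgebraicGeometry in
/-- Let f : X' ⟶ X be a finite flat morphism of Noetherian schemes (so finite locally free). A morphism
of abelian sheaves N : f_* 𝔾_{m,X'} ⟶ 𝔾_{m,X} on the big fppf site of X is called a norm map of f
when, on every affine test scheme T over X for which the functions of T ×_X X' form a finite free
algebra over those of T, it sends an invertible function on T ×_X X' to the determinant of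
multiplication by it. Two norm maps of f are equal: a norm map is determined by its affine-local
description by determinants. -/
theorem result (X X' : Scheme.{u}) (f : X' ⟶ X) [IsFinite f] [Flat f]
    [AlgebraicGeometry.IsNoetherian X]
    (N N' : CGrpSh3.pushGm Scheme.fppfPrecoverage f ⟶ CGrpSh2.Gm Scheme.fppfPrecoverage X)
    (hN : CGrpSh3.IsNormMap Scheme.fppfPrecoverage f N) (hN' : CGrpSh3.IsNormMap Scheme.fppfPrecoverage f N') :
    N = N' := by
  have : LocallyOfFinitePresentation f :=
    { finitePresentation_appLE := fun {U} hU {V} hV le =>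
        haveI := IsLocallyNoetherian.component_noetherian (X := X) ⟨U, hU⟩
        RingHom.FinitePresentation.of_finiteType.mp (f.finiteType_appLE hU hV le) }
  refine Sheaf.hom_ext ?_
  ext T s
  exact ULift.ext _ _ (congrArg Additive.ofMul (main f N N' hN hN' T.unop s.down.toMul))

end Groth.Agent.S15383
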