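import Groth.Statements.S10420
import Groth.Agent.Lib.ElemNbhd15.Cofiltered
-- import your own Groth.Agent.* helpers here

set_option autoImplicit false
universe u
open CategoryTheory CategoryTheory.Limits AlgebraicGeometry Topology TopologicalSpace
open AlgSp

namespace Groth.Agent.S10420

/-- For a decent algebraic space X over a scheme S and x ∈ |X|, the category of elementary etale
neighbourhoods (U, u) ⟶ (X, x) is cofiltered: two objects are dominated by a third and two parallel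
morphisms are equalized from some object (it is nonempty by the existence of elementary etale
neighbourhoods). -/
theorem result {S : Scheme.{u}} (X : AlgSp.Space S) (hX : AlgSp.IsDecent X.obj)
    (x : AlgSp.Points X.obj) :
    (∀ (U₁ U₂ : Over S) (a₁ : (AlgSp.yon S).obj U₁ ⟶ X.obj) (a₂ : (AlgSp.yon S).obj U₂ ⟶ X.obj) (u₁ : ↥U₁.left)
        (u₂ : ↥U₂.left), AlgSp.IsElemEtaleNbhd a₁ u₁ x → AlgSp.IsElemEtaleNbhd a₂ u₂ x →
        ∃ (U : Over S) (a : (AlgSp.yon S).obj U ⟶ X.obj) (v : ↥U.left) (h₁ : U ⟶ U₁) (h₂ : U ⟶ U₂),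
          AlgSp.IsElemEtaleNbhd a v x ∧ (AlgSp.yon S).map h₁ ≫ a₁ = a ∧ (AlgSp.yon S).map h₂ ≫ a₂ = a ∧
            h₁.left v = u₁ ∧ h₂.left v = u₂) ∧
      (∀ (U₁ U₂ : Over S) (a₁ : (AlgSp.yon S).obj U₁ ⟶ X.obj) (a₂ : (AlgSp.yon S).obj U₂ ⟶ X.obj) (u₁ : ↥U₁.left)
        (u₂ : ↥U₂.left) (b c : U₁ ⟶ U₂), AlgSp.IsElemEtaleNbhd a₁ u₁ x → AlgSp.IsElemEtaleNbhd a₂ u₂ x →
        (AlgSp.yon S).map b ≫ a₂ = a₁ → (AlgSp.yon S).map c ≫ a₂ = a₁ → b.left u₁ = u₂ → c.left u₁ = u₂ →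
        ∃ (U : Over S) (a : (AlgSp.yon S).obj U ⟶ X.obj) (v : ↥U.left) (h : U ⟶ U₁),
          AlgSp.IsElemEtaleNbhd a v x ∧ (AlgSp.yon S).map h ≫ a₁ = a ∧ h.left v = u₁ ∧ h ≫ b = h ≫ c) := by
  exact ⟨fun _ _ _ _ _ _ h₁ h₂ => Groth.Agent.ElemNbhd15.cofiltered₁ X.property.diag h₁ h₂,
    fun _ _ _ _ _ _ b c h₁ h₂ hb hc hbu hcu => Groth.Agent.ElemNbhd15.cofiltered₂ b c h₁ h₂ hb hc hbu hcu⟩


end Groth.Agent.S10420
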