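import Groth.Statements.S10440
import Groth.Agent.Lib.ElemNbhd15.Hens
-- import your own Groth.Agent.* helpers here

set_option autoImplicit false
universe u
open CategoryTheory CategoryTheory.Limits AlgebraicGeometry Topology TopologicalSpace
open AlgSp

namespace Groth.Agent.S10440

/-- For a decent algebraic space X over a scheme S and x ∈ |X|, let g : (U', u') ⟶ (U, u) be a morphism
of elementary etale neighbourhoods of (X, x). If R is a henselization of O_{U', u'} then, through
the local ring map O_{U, u} ⟶ O_{U', u'} induced by g, R is a henselization of O_{U, u} as well.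
(The published statement identifies the henselian local ring at x, defined as the colimit of global
sections over all elementary etale neighbourhoods, with the henselization of O_{U, u}; that ring is
not a separate construction here, and this row states the resulting independence of the
henselization from the chosen neighbourhood.) -/
theorem result {S : Scheme.{u}} (X : AlgSp.Space S)
    (hX : AlgSp.IsDecent X.obj) (x : AlgSp.Points X.obj) {U U' : Over S}
    (a : (AlgSp.yon S).obj U ⟶ X.obj) (a' : (AlgSp.yon S).obj U' ⟶ X.obj) (g : U' ⟶ U) (u' : ↥U'.left)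
    (hg : (AlgSp.yon S).map g ≫ a = a') (ha : AlgSp.IsElemEtaleNbhd a (g.left.base u') x)
    (ha' : AlgSp.IsElemEtaleNbhd a' u' x) (R : Type u) [CommRing R] [IsLocalRing R]
    [Algebra ↥(U'.left.presheaf.stalk u') R] [IsLocalHom (algebraMap ↥(U'.left.presheaf.stalk u') R)]
    [Hensel.IsHenselization ↥(U'.left.presheaf.stalk u') R] :
    letI : Algebra ↥(U.left.presheaf.stalk (g.left.base u')) R :=
      ((algebraMap ↥(U'.left.presheaf.stalk u') R).comp (g.left.stalkMap u').hom).toAlgebra
    ∃ (_ : IsLocalHom (algebraMap ↥(U.left.presheaf.stalk (g.left.base u')) R)),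
      Hensel.IsHenselization ↥(U.left.presheaf.stalk (g.left.base u')) R := by
  have hloc : IsLocalHom (((algebraMap ↥(U'.left.presheaf.stalk u') R).comp (g.left.stalkMap u').hom)) :=
    RingHom.isLocalHom_comp _ _
  letI : Algebra ↥(U.left.presheaf.stalk (g.left.base u')) R :=
    ((algebraMap ↥(U'.left.presheaf.stalk u') R).comp (g.left.stalkMap u').hom).toAlgebra
  refine ⟨hloc, ?_⟩
  have hge : Etale g.left := Groth.Agent.ElemNbhd15.etale_of_diagram ha.etale ha'.etale g hg
  have hb := Groth.Agent.ElemNbhd15.bijective_residueFieldMap g hg u' ha'.mono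
  obtain ⟨V, hV, huV, -⟩ := exists_isAffineOpen_mem_and_subset (X := U.left) (x := g.left u') (U := ⊤) trivial
  obtain ⟨V', hV', huV', hle⟩ := exists_isAffineOpen_mem_and_subset (X := U'.left) (x := u')
    (U := g.left ⁻¹ᵁ V) huV
  have he := Scheme.Hom.etale_appLE g.left hV hV' hle
  let _ : Algebra Γ(U.left, V) Γ(U'.left, V') := (g.left.appLE V V' hle).hom.toAlgebra
  have : Algebra.Etale Γ(U.left, V) Γ(U'.left, V') := he
  let _ : Algebra Γ(U.left, V) (U.left.presheaf.stalk (g.left u')) :=
    (U.left.presheaf.germ V (g.left u') huV).hom.toAlgebra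
  let _ : Algebra Γ(U'.left, V') (U'.left.presheaf.stalk u') :=
    (U'.left.presheaf.germ V' u' huV').hom.toAlgebra
  let _ : Algebra (U.left.presheaf.stalk (g.left u')) (U'.left.presheaf.stalk u') :=
    (g.left.stalkMap u').hom.toAlgebra
  let _ : Algebra Γ(U.left, V) (U'.left.presheaf.stalk u') :=
    ((U'.left.presheaf.germ V' u' huV').hom.comp (g.left.appLE V V' hle).hom).toAlgebra
  have : IsScalarTower Γ(U.left, V) Γ(U'.left, V') (U'.left.presheaf.stalk u') := .of_algebraMap_eq' rfl
  have : IsScalarTower Γ(U.left, V) (U.left.presheaf.stalk (g.left u')) (U'.left.presheaf.stalk u') :=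
    .of_algebraMap_eq' (by
      have h := congrArg CommRingCat.Hom.hom (g.left.germ_stalkMap V u' huV)
      rw [CommRingCat.hom_comp, CommRingCat.hom_comp] at h
      show _ = (g.left.stalkMap u').hom.comp (U.left.presheaf.germ V (g.left u') huV).hom
      rw [h]
      show (U'.left.presheaf.germ V' u' huV').hom.comp (g.left.appLE V V' hle).hom = _
      rw [← CommRingCat.hom_comp, ← CommRingCat.hom_comp, Scheme.Hom.appLE, Category.assoc,
        TopCat.Presheaf.germ_res])
  have h1 : IsLocalization.AtPrime (U.left.presheaf.stalk (g.left u'))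
      (hV.primeIdealOf ⟨g.left u', huV⟩).asIdeal := hV.isLocalization_stalk ⟨g.left u', huV⟩
  have h2 : IsLocalization.AtPrime (U'.left.presheaf.stalk u') (hV'.primeIdealOf ⟨u', huV'⟩).asIdeal :=
    hV'.isLocalization_stalk ⟨u', huV'⟩
  have : IsLocalHom (algebraMap (U.left.presheaf.stalk (g.left u')) (U'.left.presheaf.stalk u')) :=
    inferInstanceAs (IsLocalHom (g.left.stalkMap u').hom)
  have : IsScalarTower (U.left.presheaf.stalk (g.left u')) (U'.left.presheaf.stalk u') R :=
    .of_algebraMap_eq' rfl
  have : IsLocalHom (algebraMap (U.left.presheaf.stalk (g.left u')) R) := hloc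
  exact Groth.Agent.ElemNbhd15.isHenselization_of_etale (A := U.left.presheaf.stalk (g.left u'))
    (B := U'.left.presheaf.stalk u') (hV.primeIdealOf ⟨g.left u', huV⟩).asIdeal
    (hV'.primeIdealOf ⟨u', huV'⟩).asIdeal hb R


end Groth.Agent.S10440
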