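import Groth.Statements.S0040
import Groth.Agent.Lib.Algz3.ClosedSub

set_option autoImplicit false
universe u
open Coherent

namespace Groth.Agent.S0040

open AlgebraicGeometry CategoryTheory CategoryTheory.Limits in
/-- Let A be a Noetherian ring complete with respect to an ideal I, X a scheme separated and of finite
type over Spec A, and X_n = X ×_{Spec A} Spec(A/I^(n+1)) for n ≥ 0. Suppose given closed immersions
Z_n → X_n together with morphisms Z_n → Z_(n+1) forming cartesian squares with the transition maps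
X_n → X_(n+1), and suppose Z_0 is proper over Spec(A/I). Then there is a closed subscheme W → X,
proper over Spec A, with compatible morphisms Z_n → W making each Z_n the pullback W ×_X X_n. (The
published statement assumes only that Z_0 → X_0 is a closed immersion; here it is assumed for every
n.) -/
theorem result (A : Type u) [CommRing A] [IsNoetherianRing A]
    (I : Ideal A) [IsAdicComplete I A] {X : Scheme.{u}} (f : X ⟶ Spec (CommRingCat.of A))
    [IsSeparated f] [LocallyOfFiniteType f] [QuasiCompact f]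
    (Z : ℕ → Scheme.{u}) (z : (n : ℕ) → (Z n ⟶ CohB1.thick f I n)) (t : (n : ℕ) → (Z n ⟶ Z (n + 1)))
    (hz : ∀ n, IsClosedImmersion (z n))
    (ht : ∀ n, IsPullback (t n) (z n) (z (n + 1)) (CohB1.thickTrans f I n))
    (hp : IsProper (z 0 ≫ CohB1.thickToBase f I 0)) :
    ∃ (W : Scheme.{u}) (i : W ⟶ X) (w : (n : ℕ) → (Z n ⟶ W)), IsClosedImmersion i ∧
      IsProper (i ≫ f) ∧ (∀ n, w n = t n ≫ w (n + 1)) ∧ ∀ n, IsPullback (w n) (z n) i (CohB1.thickι f I n) := by
  letI : X.Over (Spec (CommRingCat.of A)) := ⟨f⟩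
  haveI : IsSeparated (X ↘ Spec (CommRingCat.of A)) := ‹IsSeparated f›
  haveI : LocallyOfFiniteType (X ↘ Spec (CommRingCat.of A)) := ‹LocallyOfFiniteType f›
  haveI : QuasiCompact (X ↘ Spec (CommRingCat.of A)) := ‹QuasiCompact f›
  have hth : ∀ n, IsPullback (CohB1.thickι f I n) (CohB1.thickToBase f I n) f (CohB1.specQuot I n) :=
    fun n => IsPullback.of_hasPullback _ _
  have hfst : ∀ n, CohB1.thickTrans f I n ≫ CohB1.thickι f I (n + 1) = CohB1.thickι f I n := fun n =>
    (pullback.lift_fst _ _ _).trans (Category.comp_id _)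
  have hsnd : ∀ n, CohB1.thickTrans f I n ≫ CohB1.thickToBase f I (n + 1) =
      CohB1.thickToBase f I n ≫ CohB1.specQuotTrans I n := fun n => pullback.lift_snd _ _ _
  have htr : ∀ n, IsPullback (CohB1.thickTrans f I n) (CohB1.thickToBase f I n) (CohB1.thickToBase f I (n + 1))
      (CohB1.specQuotTrans I n) := fun n =>
    IsPullback.of_right (h₁₂ := CohB1.thickι f I (n + 1)) (h₂₂ := CohB1.specQuot I (n + 1)) (v₁₃ := f)
      (by rw [hfst, CohB1.specQuotTrans_specQuot]; exact hth n) (hsnd n) (hth (n + 1))
  haveI : ∀ n, IsClosedImmersion (CohB1.specQuot I n) := fun n =>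
    IsClosedImmersion.spec_of_surjective _ Ideal.Quotient.mk_surjective
  haveI : ∀ n, IsClosedImmersion (CohB1.thickι f I n) := fun n =>
    MorphismProperty.of_isPullback (hth n).flip inferInstance
  haveI := hz
  haveI : ∀ n, IsClosedImmersion (z n ≫ CohB1.thickι f I n) := fun n => inferInstance
  obtain ⟨J, w, hJ, hw, hwt, hpb⟩ := Groth.Agent.Algz3.exists_closed_algebraization (I := I) (X := X) Z
    (fun n => z n ≫ CohB1.thickToBase f I n) t (fun n => (ht n).paste_vert (htr n))
    (fun n => z n ≫ CohB1.thickι f I n)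
    (fun n => by
      show t n ≫ z (n + 1) ≫ _ = z n ≫ _
      rw [← Category.assoc, (ht n).w, Category.assoc, hfst])
    (fun n => by
      show (z n ≫ CohB1.thickι f I n) ≫ f = (z n ≫ CohB1.thickToBase f I n) ≫ CohB1.specQuot I n
      rw [Category.assoc, Category.assoc, (hth n).w]) hp
  exact ⟨J.subscheme, J.subschemeι, w, inferInstance, hJ, hwt, fun n =>
    IsPullback.of_bot (hpb n) (hw n) (hth n)⟩

end Groth.Agent.S0040
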