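import Groth.Statements.S10042
import Groth.Agent.Lib.AffImm14.Basic
import Groth.Agent.Lib.AlgSpace.ImmDescent
import Groth.Agent.Lib.AlgSpace.Diag
import Groth.Agent.Lib.AlgSpace.QCQS
import Groth.Agent.Lib.AlgSpDecent.Basic
-- import your own Groth.Agent.* helpers here

set_option autoImplicit false
universe u
open CategoryTheory CategoryTheory.Limits AlgebraicGeometry
open AlgSp

namespace Groth.Agent.S10042

open CategoryTheory.Limits Topology Opposite Groth.Agent.AlgSpace Groth.Agent.AlgSpDecent

set_option backward.isDefEq.respectTransparency false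
set_option backward.isDefEq.respectTransparency.types false
set_option linter.style.haveILetI false
set_option maxHeartbeats 1600000

/-- An affine étale chart covering the image of a quasi-compact scheme. -/
theorem exists_affine_chart_covering {S : Scheme.{u}} {F : Sp S} (hF : IsAlgSpace F) {U : Over S}
    [CompactSpace U.left] (f : (yon S).obj U ⟶ F) :
    ∃ (V : Over S) (p : (yon S).obj V ⟶ F), IsAffine V.left ∧ RepWith @Etale p ∧
      ∀ u, Points.ofPt f u ∈ Set.range (Points.ofPt p) := by
  obtain ⟨V₀, a, he, hs⟩ := hF.atlas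
  obtain ⟨t, ht⟩ := isCompact_univ.elim_finite_subcover
    (fun O : V₀.left.affineOpens => Points.ofPt f ⁻¹' (Points.ofPt a '' (O.1 : Set ↥V₀.left)))
    (fun O => (isOpenMap_ofPt a he _ O.1.isOpen).preimage (Points.continuous_ofPt f)) (fun u _ => by
      obtain ⟨v, hv⟩ := surjective_ofPt hs (Points.ofPt f u)
      obtain ⟨_, ⟨O, hO, rfl⟩, hvO, -⟩ := V₀.left.isBasis_affineOpens.exists_subset_of_mem_open
        (Set.mem_univ v) isOpen_univ
      exact Set.mem_iUnion.2 ⟨⟨O, hO⟩, v, hvO, hv⟩)
  let W : V₀.left.Opens := ⨆ O ∈ t, O.1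
  have hW : IsCompact (W : Set ↥V₀.left) := by
    simp only [W, TopologicalSpace.Opens.coe_iSup]
    exact t.isCompact_biUnion fun O _ => O.2.isCompact
  have : CompactSpace ↥W.toScheme := isCompact_iff_compactSpace.1 hW
  obtain ⟨Y, q, hqs, hqe, hY⟩ := W.toScheme.exists_hom_isAffine_of_isZariskiLocalAtSource @Etale
  let m : Over.mk (q ≫ W.ι ≫ V₀.hom) ⟶ V₀ := Over.homMk (q ≫ W.ι) (Category.assoc _ _ _)
  have : Etale q := hqe
  refine ⟨_, (yon S).map m ≫ a, hY, repWith_comp ((repWith_yon_map_iff _ m).2
    (inferInstanceAs (Etale (q ≫ W.ι)))) he, fun u => ?_⟩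
  obtain ⟨O, hO, v, hv, hvu⟩ := Set.mem_iUnion₂.1 (ht (Set.mem_univ u))
  obtain ⟨y, hy⟩ := hqs.surj ⟨v, by
    simp only [W, TopologicalSpace.Opens.mem_iSup]; exact ⟨O, hO, hv⟩⟩
  refine ⟨y, (ofPt_map_comp _ _ _).trans (Eq.trans (congrArg (Points.ofPt a) ?_) hvu)⟩
  exact congrArg W.ι hy

/-- Let `X` be a quasi-separated and locally separated algebraic space over `S`, `U` an affine scheme
over `S` and `f : U ⟶ X` locally of finite type. Then there are an `n` and an immersion `U ⟶ 𝐀^n_X =
X ×_S 𝐀^n_S` over `X`. (The published statement allows any base scheme and uses absolute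
quasi-separatedness; this row assumes the base quasi-separated, over which quasi-separatedness
relative to the base is the absolute notion.) -/
theorem result (S : Scheme.{u}) [QuasiSeparatedSpace S]
    (X : AlgSp.Space S) (hqs : AlgSp.IsQuasiSeparatedSp X.obj) (hls : AlgSp.IsLocallySeparatedSp X.obj)
    (U : Over S) (hU : IsAffine U.left) (f : (AlgSp.yon S).obj U ⟶ X.obj) (hf : AlgSp.LocP @LocallyOfFiniteType f) :
    ∃ (n : ℕ) (i : (AlgSp.yon S).obj U ⟶ X.obj ⨯ (AlgSp.yon S).obj (Over.mk (𝔸(ULift.{u} (Fin n); S) ↘ S))),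
      i ≫ prod.fst = f ∧ AlgSp.RepWith @IsImmersion i := by
  have hXa := X.property
  have := hU
  obtain ⟨V, p, hV, hpe, hcov⟩ := exists_affine_chart_covering hXa f
  have := hV
  have sq := hpe.1.isPullback' f
  let W := hpe.1.pullback f
  let w₁ : W ⟶ V := hpe.1.fst' f
  let w₂ : W ⟶ U := hpe.1.snd f
  replace sq : IsPullback ((yon S).map w₁) ((yon S).map w₂) p f := sq
  -- `W` in the product
  have : IsImmersion (prod.lift w₁ w₂).left := prop_lift_of_repWith_diag hls sq
  have : QuasiCompact (prod.lift w₁ w₂).left := prop_lift_of_repWith_diag hqs sq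
  have : QuasiCompact U.hom := inferInstance
  have : QuasiCompact (prod.fst : V ⨯ U ⟶ V).left :=
    MorphismProperty.of_isPullback (P := @QuasiCompact) (isPullback_fst_left V U).flip inferInstance
  have : CompactSpace ↥(V ⨯ U).left := QuasiCompact.compactSpace_of_compactSpace (prod.fst : V ⨯ U ⟶ V).left
  have : CompactSpace ↥W.left := QuasiCompact.compactSpace_of_compactSpace (prod.lift w₁ w₂).left
  have : LocallyOfFiniteType w₁.left := by
    have h := locP_of_isPullback (IsAlgSpace.yon_obj U) hXa (IsAlgSpace.yon_obj V) sq.flip hf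
    exact h (𝟙 _) (𝟙 _) w₁ (repWith_id _ W) (repWith_id _ V) (by simp)
  have : IsImmersion (pullback.lift w₁.left w₂.left (specULiftZIsTerminal.hom_ext _ _) :
      W.left ⟶ pullback (specULiftZIsTerminal.from V.left) (specULiftZIsTerminal.from U.left)) := by
    have e : pullback.lift w₁.left w₂.left (specULiftZIsTerminal.hom_ext _ _) =
        ((prod.lift w₁ w₂).left ≫ (isPullback_fst_left V U).isoPullback.hom) ≫
          pullback.mapDesc V.hom U.hom (specULiftZIsTerminal.from S) ≫
            (pullback.congrHom (specULiftZIsTerminal.hom_ext (V.hom ≫ specULiftZIsTerminal.from S) (specULiftZIsTerminal.from V.left)) (specULiftZIsTerminal.hom_ext (U.hom ≫ specULiftZIsTerminal.from S) (specULiftZIsTerminal.from U.left))).hom := by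
      apply pullback.hom_ext
      · simp [pullback.mapDesc, lift_left_fst]
      · simp [pullback.mapDesc, lift_left_snd]
    rw [e]; infer_instance
  obtain ⟨n, v, hψ⟩ := AffImm14.exists_generators_immersion w₁.left w₂.left
  let A : Over S := Over.mk (𝔸(ULift.{u} (Fin n); S) ↘ S)
  let e : U ⟶ A := Over.homMk (AffineSpace.homOfVector U.hom fun i => v i.down)
    (AffineSpace.homOfVector_over _ _)
  let i : (yon S).obj U ⟶ X.obj ⨯ (yon S).obj A := prod.lift f ((yon S).map e)
  refine ⟨n, i, prod.lift_fst _ _, ?_⟩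
  -- the chart of the product
  let w' : W ⟶ V ⨯ A := prod.lift w₁ (w₂ ≫ e)
  let q : (yon S).obj (V ⨯ A) ⟶ X.obj ⨯ (yon S).obj A := prodComparison (yon S) V A ≫ prod.map p (𝟙 _)
  have hbot : IsPullback ((yon S).map (prod.fst : V ⨯ A ⟶ V)) q p prod.fst := by
    refine (isPullback_prod_map_left p ((yon S).obj A)).of_iso (asIso (prodComparison (yon S) V A)).symm
      (Iso.refl _) (Iso.refl _) (Iso.refl _) ?_ ?_ (by simp) (by simp)
    · simp
    · simp [q]
  have hqe : RepWith @Etale q := repWith_of_isPullback hbot hpe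
  have hwq : IsPullback ((yon S).map w') ((yon S).map w₂) q i := by
    refine IsPullback.of_right (h₁₂ := (yon S).map (prod.fst : V ⨯ A ⟶ V)) (h₂₂ := prod.fst) (v₁₃ := p) ?_ ?_ hbot
    · rw [← Functor.map_comp, prod.lift_fst, prod.lift_fst]
      exact sq
    · apply Limits.prod.hom_ext
      · simp only [q, i, w', Category.assoc, prod.map_fst, prodComparison_fst_assoc, prod.lift_fst,
          ← Functor.map_comp_assoc]
        exact sq.w
      · simp only [q, i, w', Category.assoc, prod.map_snd, Category.comp_id, prodComparison_snd, prod.lift_snd,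
          ← Functor.map_comp]
  -- restriction to the image of the chart
  let O : Set (Points (X.obj ⨯ (yon S).obj A)) := Set.range (Points.ofPt q)
  have hO : IsOpen O := (isOpenMap_ofPt q hqe).isOpen_range
  obtain ⟨q₀, hq₀⟩ := exists_lift_openSub (W := O) q (fun x => ⟨x, rfl⟩)
  obtain ⟨i₀, hi₀⟩ := exists_lift_openSub (W := O) i (fun x => by
    obtain ⟨y, hy⟩ := hcov x
    obtain ⟨z, -, hz⟩ := exists_point_lift hbot (Points.ofScheme V y) (Points.map i (Points.ofScheme U x))
      (by rw [← Points.map_comp, show i ≫ prod.fst = f from prod.lift_fst _ _, ← Points.ofPt_eq_map_ofScheme,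
        ← Points.ofPt_eq_map_ofScheme]; exact hy)
    obtain ⟨z', hz'⟩ : ∃ z', Points.ofScheme (V ⨯ A) z' = z := ⟨_, Points.ofScheme_toScheme _ z⟩
    exact ⟨z', by rw [Points.ofPt_eq_map_ofScheme q, hz', hz, ← Points.ofPt_eq_map_ofScheme]⟩)
  have hι := repWith_openSubι hO
  have sq₀ : IsPullback ((yon S).map w') ((yon S).map w₂) q₀ i₀ := by
    have hsq : IsPullback ((yon S).map w') ((yon S).map w₂) (q₀ ≫ openSubι O) (i₀ ≫ openSubι O) := by
      rw [hq₀, hi₀]; exact hwq
    exact IsPullback.of_isLimit' ⟨(cancel_mono (openSubι O)).1 (by simpa only [Category.assoc] using hsq.w)⟩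
      (PullbackCone.IsLimit.mk _ (fun c => hsq.lift c.fst c.snd (by rw [reassoc_of% c.condition]))
        (fun c => hsq.lift_fst _ _ _) (fun c => hsq.lift_snd _ _ _)
        (fun c m h₁ h₂ => hsq.hom_ext (h₁.trans (hsq.lift_fst _ _ _).symm)
          (h₂.trans (hsq.lift_snd _ _ _).symm)))
  have hq₀e : RepWith @Etale q₀ := repWith_of_isPullback (isPullback_of_mono q₀ (openSubι O)) (hq₀.symm ▸ hqe)
  have hq₀s : RepWith @Surjective q₀ := repWith_surjective_of_ofPt hq₀e.1 fun y => by
    obtain ⟨x, hx⟩ : Points.map (openSubι O) y ∈ O := (range_openSubι O).subset ⟨y, rfl⟩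
    refine ⟨x, injective_map_of_openImmersion hι ?_⟩
    rw [Points.map_ofPt, hq₀, hx]
  have hw' : IsImmersion w'.left := by
    have sqA : IsPullback (𝔸(ULift.{u} (Fin n); V.left) ↘ V.left) (AffineSpace.map _ V.hom) V.hom A.hom :=
      (AffineSpace.isPullback_map V.hom).flip
    have ew : AffineSpace.homOfVector (n := ULift.{u} (Fin n)) w₁.left (fun i => w₂.left.appTop (v i.down)) ≫
        (sqA.isoIsPullback _ _ (isPullback_fst_left V A)).hom = w'.left := by
      apply (isPullback_fst_left V A).hom_ext
      · refine (Category.assoc _ _ _).trans ((congrArg (_ ≫ ·) (sqA.isoIsPullback_hom_fst _ _ (isPullback_fst_left V A))).trans ?_)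
        rw [AffineSpace.homOfVector_over, lift_left_fst]
      · refine (Category.assoc _ _ _).trans ((congrArg (_ ≫ ·) (sqA.isoIsPullback_hom_snd _ _ (isPullback_fst_left V A))).trans ?_)
        rw [lift_left_snd, Over.comp_left]
        apply AffineSpace.hom_ext
        · rw [Category.assoc, AffineSpace.map_over, AffineSpace.homOfVector_over_assoc, Category.assoc]
          show w₁.left ≫ V.hom = w₂.left ≫ (AffineSpace.homOfVector U.hom _ ≫ _)
          rw [AffineSpace.homOfVector_over, Over.w, Over.w]
        · intro j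
          rw [← AffImm14.appTop_comp_apply, AffineSpace.map_appTop_coord, AffineSpace.homOfVector_appTop_coord,
            ← AffImm14.appTop_comp_apply]
          exact congrArg w₂.left.appTop (AffineSpace.homOfVector_appTop_coord (n := ULift.{u} (Fin n)) U.hom (fun i => v i.down) j).symm
    rw [← ew]; infer_instance
  rw [← hi₀]
  exact repWith_comp (repWith_immersion_of_etale_cover hq₀e hq₀s sq₀.flip
    ((repWith_yon_map_iff _ w').2 hw')) (repWith_mono (fun _ _ g (hg : IsOpenImmersion g) =>
      (inferInstance : IsImmersion g)) hι)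

end Groth.Agent.S10042
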