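import Groth.Statements.S10411
import Groth.Agent.Lib.AlgSpace.SchemeQuot
import Groth.Agent.Lib.AlgSpace.SchemeLocus
import Groth.Agent.Lib.AlgSpDecent.ZeroDim
import Groth.Agent.Lib.AlgSpace.QfCover
-- import your own Groth.Agent.* helpers here

set_option autoImplicit false
universe u
open CategoryTheory CategoryTheory.Limits AlgebraicGeometry Topology TopologicalSpace
open AlgSp
set_option backward.isDefEq.respectTransparency.types false

namespace Groth.Agent.S10411

open Groth.Agent.AlgSpace Groth.Agent.AlgSpDecent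

/-- Let S be a scheme, X and Y algebraic spaces over S, X ⟶ Y a surjective finite locally free morphism,
and y ∈ |Y|. Then y lies in the schematic locus of Y (some open subspace of Y containing y is a
scheme) if and only if there is an affine open subscheme U ⊆ X containing the preimage of y. -/
theorem result {S : Scheme.{u}} {X Y : AlgSp.Space S} (f : X ⟶ Y)
    (hf : AlgSp.IsFinLocFreeMor f.hom) (hs : AlgSp.RepWith @Surjective f.hom) (y : AlgSp.Points Y.obj) :
    (∃ (Y' : AlgSp.Space S) (j : Y' ⟶ Y), AlgSp.RepWith @IsOpenImmersion j.hom ∧ Y'.obj.obj.IsRepresentable ∧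
        y ∈ Set.range (AlgSp.Points.map j.hom)) ↔
      ∃ (U : Over S) (a : (AlgSp.yon S).obj U ⟶ X.obj), IsAffine U.left ∧ AlgSp.RepWith @IsOpenImmersion a ∧
        AlgSp.Points.map f.hom ⁻¹' {y} ⊆ Set.range (AlgSp.Points.ofPt a) := by
  have hfin : AlgSp.RepWith @IsFinite f.hom :=
    repWith_mono (fun _ _ g (hg : Mor2.IsFinLocFree g) => hg.1) hf
  constructor
  · rintro ⟨Y', j, hj, hrep, y', rfl⟩
    obtain ⟨G, ⟨e⟩⟩ := AlgSpDecent.exists_yon_iso_of_isRepresentable hrep
    obtain ⟨g₀, hg₀⟩ : ∃ g, Points.ofPt e.hom g = y' := by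
      obtain ⟨z, hz⟩ := (bijective_map_iso e.hom).2 y'
      obtain ⟨g, rfl⟩ := (Points.schemeHomeo G).surjective z
      exact ⟨g, (Points.ofPt_eq_map_ofScheme _ g).trans hz⟩
    obtain ⟨W, hW, hgW, -⟩ :=
      exists_isAffineOpen_mem_and_subset (X := G.left) (x := g₀) (U := ⊤) trivial
    obtain ⟨G', hG', b, hb, w, hbw⟩ : ∃ (G' : Over S) (_ : IsAffine G'.left)
        (b : (AlgSp.yon S).obj G' ⟶ Y.obj), AlgSp.RepWith @IsOpenImmersion b ∧
        ∃ w, Points.ofPt b w = Points.map j.hom y' := by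
      let ι : Over.mk (W.ι ≫ G.hom) ⟶ G := Over.homMk W.ι rfl
      refine ⟨Over.mk (W.ι ≫ G.hom), hW, (AlgSp.yon S).map ι ≫ e.hom ≫ j.hom,
        repWith_comp ((repWith_yon_map_iff _ _).2 (show IsOpenImmersion W.ι from inferInstance))
          ((repWith_respectsIso_left e.hom).2 hj), (⟨g₀, hgW⟩ : ↥W.toScheme), ?_⟩
      erw [ofPt_map_comp, ← Points.map_ofPt]
      exact congrArg _ hg₀
    have sq := hfin.1.isPullback b
    haveI : IsFinite (hfin.1.snd b).left := hfin.2 b _ _ sq
    refine ⟨_, hfin.1.fst b, isAffine_of_isAffineHom (hfin.1.snd b).left,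
      repWith_of_isPullback sq.flip hb, fun x hx => ?_⟩
    obtain ⟨v, hv, -⟩ := exists_pt_of_isPullback sq (x := x) (t := w) (hx.trans hbw.symm)
    exact ⟨v, hv⟩
  · rintro ⟨U, a, hU, ha, hfib⟩
    -- the points of `Y` whose fibre lies in `U`
    let Z : Set (Points X.obj) := (Set.range (Points.map a))ᶜ
    have hZ : ∀ (T : Over S) (g : (AlgSp.yon S).obj T ⟶ X.obj), IsClosed (Points.ofPt g ⁻¹' Z) :=
      fun T g => by
        have sq := ha.1.isPullback g
        haveI : IsOpenImmersion (ha.1.snd g).left := ha.2 g _ _ sq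
        have e : Points.ofPt g ⁻¹' Z = (Set.range (ha.1.snd g).left)ᶜ := by
          ext t
          refine not_congr ⟨?_, ?_⟩
          · rintro ⟨u, hu⟩
            obtain ⟨v, -, hv⟩ := exists_pt_of_isPullback sq hu
            exact ⟨v, hv⟩
          · rintro ⟨v, rfl⟩
            exact ⟨_, ofPt_sq sq.w v⟩
        rw [e]
        exact (ha.1.snd g).left.isOpenEmbedding.isOpen_range.isClosed_compl
    let V : Set (Points Y.obj) := (Points.map f.hom '' Z)ᶜ
    have hV : IsOpen V := Points.isOpen_iff.2 fun T g => by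
      have sq := hfin.1.isPullback g
      haveI : IsFinite (hfin.1.snd g).left := hfin.2 g _ _ sq
      have e : Points.ofPt g ⁻¹' V =
          ((hfin.1.snd g).left '' (Points.ofPt (hfin.1.fst g) ⁻¹' Z))ᶜ := by
        ext t
        refine not_congr ⟨?_, ?_⟩
        · rintro ⟨x, hx, hxt⟩
          obtain ⟨v, hv₁, hv₂⟩ := exists_pt_of_isPullback sq hxt
          exact ⟨v, (congrArg (· ∈ Z) hv₁).mpr hx, hv₂⟩
        · rintro ⟨v, hv, rfl⟩
          exact ⟨_, hv, ofPt_sq sq.w v⟩
      rw [e]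
      exact ((hfin.1.snd g).left.isClosedMap _ (hZ _ _)).isOpen_compl
    have hyV : y ∈ V := by
      rintro ⟨x, hx, rfl⟩
      obtain ⟨u, hu⟩ := hfib (show x ∈ Points.map f.hom ⁻¹' {Points.map f.hom x} from rfl)
      exact hx ⟨Points.ofScheme U u, (Points.ofPt_eq_map_ofScheme a u).symm.trans hu⟩
    -- its inverse image is an open subscheme of `U`
    let O : U.left.Opens := ⟨Points.ofPt (a ≫ f.hom) ⁻¹' V, Points.isOpen_iff.1 hV _ _⟩
    let U' : Over S := Over.mk (O.ι ≫ U.hom)
    let ι : U' ⟶ U := Over.homMk O.ι rfl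
    obtain ⟨q, hqe⟩ := exists_lift_openSub (W := V) ((AlgSp.yon S).map ι ≫ a ≫ f.hom) fun v => by
      rw [ofPt_map_comp]
      exact (show ι.left v ∈ O from by rw [← SetLike.mem_coe, ← O.range_ι]; exact ⟨v, rfl⟩)
    haveI : Mono a := mono_of_repWith a (repWith_mono (fun _ _ g (_ : IsOpenImmersion g) =>
      (inferInstance : Mono g)) ha)
    haveI : Mono ι.left := inferInstanceAs (Mono O.ι)
    haveI : Mono ι := (Over.forget S).mono_of_mono_map ‹_›
    haveI : IsOpenImmersion ι.left := inferInstanceAs (IsOpenImmersion O.ι)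
    have sqf : IsPullback q ((AlgSp.yon S).map ι ≫ a) (openSubι V) f.hom := by
      refine isPullback_of_mono_lifts (by rw [hqe, Category.assoc]) fun T x z e => ?_
      have hzV : ∀ t, Points.ofPt (x ≫ f.hom) t ∈ V := fun t => e ▸ ofPt_openSubι_mem z t
      obtain ⟨m, hm⟩ := exists_factor_of_range ha x (by
        rintro _ ⟨w, rfl⟩
        obtain ⟨t, rfl⟩ := (Points.schemeHomeo T).surjective w
        by_contra hn
        refine hzV t ⟨Points.ofPt x t, ?_, Points.map_ofPt _ _ _⟩
        rw [Points.ofPt_eq_map_ofScheme]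
        exact hn)
      obtain ⟨m', rfl⟩ := (AlgSp.yon S).map_surjective m
      have hr : Set.range m'.left ⊆ Set.range ι.left := by
        rintro _ ⟨t, rfl⟩
        change m'.left t ∈ Set.range O.ι
        rw [O.range_ι]
        change Points.ofPt (a ≫ f.hom) (m'.left t) ∈ V
        rw [← ofPt_map_comp, ← Category.assoc, hm]
        exact hzV t
      refine ⟨(AlgSp.yon S).map (Over.homMk (IsOpenImmersion.lift ι.left m'.left hr) (by
        change _ ≫ ι.left ≫ U.hom = _
        rw [IsOpenImmersion.lift_fac_assoc, Over.w m'])), ?_⟩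
      rw [← Category.assoc, ← Functor.map_comp, ← hm]
      exact congrArg (fun k => (AlgSp.yon S).map k ≫ a)
        (Over.OverMorphism.ext (IsOpenImmersion.lift_fac _ _ _))
    have hq : AlgSp.RepWith ((@IsFinite : MorphismProperty Scheme.{u}) ⊓ @Flat ⊓
        @LocallyOfFinitePresentation) q :=
      repWith_mono (fun _ _ g (hg : Mor2.IsFinLocFree g) => ⟨⟨hg.1, hg.2.1⟩, hg.2.2⟩)
        (repWith_of_isPullback sqf.flip hf)
    obtain ⟨t, ht⟩ := (AlgSp.yon S).map_surjective (hq.1.fst q)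
    let s := hq.1.snd q
    have sq : IsPullback ((AlgSp.yon S).map t) ((AlgSp.yon S).map s) q q := ht ▸ hq.1.isPullback q
    obtain ⟨⟨hsf, hsfl⟩, hsfp⟩ :
        (IsFinite s.left ∧ Flat s.left) ∧ LocallyOfFinitePresentation s.left := hq.2 _ _ _ sq
    obtain ⟨⟨htf, -⟩, -⟩ :
        (IsFinite t.left ∧ Flat t.left) ∧ LocallyOfFinitePresentation t.left := hq.2 _ _ _ sq.flip
    have he := schEqv_of_isEqvRel (isEqvRel_of_isPullback sq)
    -- a point over `y`
    obtain ⟨x, hx⟩ := surjective_map_of_repWith hs y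
    obtain ⟨u, hu⟩ := hfib (show x ∈ Points.map f.hom ⁻¹' {y} from hx)
    have huO : u ∈ O := by
      change Points.ofPt (a ≫ f.hom) u ∈ V
      rw [← Points.map_ofPt, hu, hx]
      exact hyV
    obtain ⟨z, hz⟩ : u ∈ Set.range ι.left := by
      change u ∈ Set.range O.ι
      rwa [O.range_ι]
    haveI : LocallyQuasiFinite ι.left := inferInstance
    obtain ⟨W, hW, hzW⟩ := FinQuot.exists_affine_of_finite ι.left
      ((s.left.finite_preimage_singleton z).image t.left)
    obtain ⟨W', hW', hzW', hinv⟩ := he.exists_invariant_affine z hW hzW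
    obtain ⟨Q, Z₁, ι₁, π₁, b₀, hι₁, hιV, -, -, -, hb₀, hb₀e⟩ := exists_open_quotient hq sq W' hW' hinv
    obtain ⟨z₁, hz₁⟩ : z ∈ Set.range ι₁.left := hιV ▸ hzW'
    let Y' : AlgSp.Space S := ⟨(AlgSp.yon S).obj Q, IsAlgSpace.yon_obj Q⟩
    let j : Y' ⟶ Y := ObjectProperty.homMk (b₀ ≫ openSubι V)
    refine ⟨Y', j, repWith_comp hb₀ (repWith_openSubι hV), isRepresentable_of_iso_yon (Iso.refl _),
      Points.ofScheme Q (π₁.left z₁), ?_⟩
    change Points.map (b₀ ≫ openSubι V) _ = y
    rw [← Points.ofPt_eq_map_ofScheme, ← ofPt_map_comp, ← Category.assoc, hb₀e, Category.assoc, hqe,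
      ofPt_map_comp, ofPt_map_comp, hz₁, hz, ← Points.map_ofPt, hu, hx]


end Groth.Agent.S10411
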