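import Groth.Statements.S6332
import Mathlib

set_option autoImplicit false
universe u
open Fields

namespace Groth.Agent.S6332

open IntermediateField in
/-- Let L/K be a finite Galois extension of fields of characteristic p > 0 whose degree equals the prime
p (equivalently, the Galois group is cyclic of order p). Then there is an element z of L with z ^ p
- z in K which generates L over K. -/
theorem result {K L : Type u} [Field K] [Field L] [Algebra K L] (p : ℕ)
    [Fact p.Prime] [CharP K p] [FiniteDimensional K L] [IsGalois K L]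
    (hdeg : Module.finrank K L = p) :
    ∃ z : L, z ^ p - z ∈ Set.range (algebraMap K L) ∧ K⟮z⟯ = ⊤ := by
  classical
  have hp : p.Prime := Fact.out
  have : CharP L p := charP_of_injective_algebraMap (algebraMap K L).injective p
  have hcard : Nat.card (L ≃ₐ[K] L) = p := by rw [IsGalois.card_aut_eq_finrank, hdeg]
  have : IsCyclic (L ≃ₐ[K] L) := isCyclic_of_prime_card hcard
  obtain ⟨σ, hσ⟩ := IsCyclic.exists_generator (α := L ≃ₐ[K] L)
  have hord : orderOf σ = p := (orderOf_eq_card_of_forall_mem_zpowers hσ).trans hcard
  obtain ⟨θ, hθ⟩ : ∃ θ, Algebra.trace K L θ ≠ 0 := by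
    by_contra h
    push Not at h
    exact Algebra.trace_ne_zero K L (LinearMap.ext h)
  have htr : algebraMap K L (Algebra.trace K L θ) = ∑ i ∈ Finset.range p, (σ ^ i) θ := by
    rw [trace_eq_sum_automorphisms]
    refine (Finset.sum_nbij (fun i => σ ^ i) (fun _ _ => Finset.mem_univ _) ?_ ?_ fun _ _ => rfl).symm
    · intro i hi j hj hij
      exact pow_injOn_Iio_orderOf (by simpa [hord] using hi) (by simpa [hord] using hj) hij
    · intro τ _
      obtain ⟨i, hi, hi'⟩ := Finset.mem_image.1 ((IsOfFinOrder.mem_zpowers_iff_mem_range_orderOf (isOfFinOrder_of_finite σ)).1 (hσ τ))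
      exact ⟨i, by simpa [hord] using hi, hi'⟩
  set t := algebraMap K L (Algebra.trace K L θ) with ht
  have ht0 : t ≠ 0 := (map_ne_zero _).2 hθ
  set y := ∑ i ∈ Finset.range p, (i : L) * (σ ^ i) θ with hy
  have hσy : σ y = y - t := by
    let g : ℕ → L := fun i => ((i : L) - 1) * (σ ^ i) θ
    have hgp : g p = g 0 := by
      simp only [g, CharP.cast_eq_zero, Nat.cast_zero]
      rw [← hord, pow_orderOf_eq_one, pow_zero]
    have hsum : ∑ i ∈ Finset.range p, g (i + 1) = ∑ i ∈ Finset.range p, g i := by
      have := Finset.sum_range_succ' g p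
      rw [Finset.sum_range_succ, hgp] at this
      exact (add_right_cancel this).symm
    rw [hy, map_sum, htr, ← Finset.sum_sub_distrib]
    rw [Finset.sum_congr rfl (g := fun i => g (i + 1)) fun i _ => by
      simp only [g, map_mul, map_natCast, Nat.cast_add, Nat.cast_one, add_sub_cancel_right, pow_succ', AlgEquiv.mul_apply], hsum]
    exact Finset.sum_congr rfl fun i _ => by simp only [g]; ring
  let z := -y / t
  have hσz : σ z = z + 1 := by
    have htt : σ t = t := AlgEquiv.commutes σ _
    simp only [z, map_div₀, map_neg, hσy, htt]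
    field_simp
    ring
  refine ⟨z, ?_, ?_⟩
  · have hfix : ∀ τ : L ≃ₐ[K] L, τ (z ^ p - z) = z ^ p - z := by
      intro τ
      obtain ⟨i, hi⟩ := Submonoid.mem_powers_iff _ _ |>.1 (mem_powers_iff_mem_zpowers.2 (hσ τ))
      rw [← hi]
      clear hi
      induction i with
      | zero => rfl
      | succ i ih =>
        rw [pow_succ, AlgEquiv.mul_apply, map_sub σ, map_pow, hσz, add_pow_char, one_pow, add_sub_add_right_eq_sub, ih]
    exact (IsGalois.mem_bot_iff_fixed (F := K) (E := L) _).2 hfix
  · have hz : z ∉ (⊥ : IntermediateField K L) := by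
      intro h
      obtain ⟨c, hc⟩ := IntermediateField.mem_bot.1 h
      have := hσz
      rw [← hc, AlgEquiv.commutes] at this
      exact one_ne_zero (left_eq_add.1 this)
    have hmul := Module.finrank_mul_finrank K K⟮z⟯ L
    rw [hdeg] at hmul
    rcases hp.eq_one_or_self_of_dvd (Module.finrank K K⟮z⟯) ⟨_, hmul.symm⟩ with h | h
    · exact absurd ((IntermediateField.finrank_eq_one_iff.1 h) ▸ IntermediateField.mem_adjoin_simple_self K z) hz
    · exact IntermediateField.eq_of_le_of_finrank_eq le_top (by rw [h, IntermediateField.finrank_top', hdeg])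

end Groth.Agent.S6332
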