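import Groth.Statements.S7132
import Groth.Agent.Lib.EtRamH7.Basic
import Mathlib.RingTheory.Filtration
import Mathlib.LinearAlgebra.Dimension.Finrank
import Mathlib.RingTheory.Localization.FractionRing

set_option autoImplicit false
universe u
open EtAlg

namespace Groth.Agent.S7132

/-- For an injective local homomorphism A → B of discrete valuation rings whose fraction fields K ⊆ L
form a finite extension, the residue field of B is finite over that of A, and the ramification index
e times the residue degree f is at most [L : K]. -/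
theorem result (A B K L : Type u) [CommRing A] [IsDomain A]
    [IsDiscreteValuationRing A] [CommRing B] [IsDomain B] [IsDiscreteValuationRing B] [Algebra A B]
    (hinj : Function.Injective (algebraMap A B)) [IsLocalHom (algebraMap A B)]
    [Field K] [Field L] [Algebra A K] [IsFractionRing A K] [Algebra B L] [IsFractionRing B L]
    [Algebra K L] [Algebra A L] [IsScalarTower A K L] [IsScalarTower A B L] [FiniteDimensional K L] :
    Module.Finite (IsLocalRing.ResidueField A) (IsLocalRing.ResidueField B) ∧
      Ideal.ramificationIdx' (IsLocalRing.maximalIdeal A) (IsLocalRing.maximalIdeal B) *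
          Module.finrank (IsLocalRing.ResidueField A) (IsLocalRing.ResidueField B) ≤
        Module.finrank K L := by
  classical
  set e := Ideal.ramificationIdx' (IsLocalRing.maximalIdeal A) (IsLocalRing.maximalIdeal B) with hedef
  have hmap := Groth.Agent.EtRamH7.map_maximalIdeal_eq_pow A B hinj
  rw [← hedef] at hmap
  obtain ⟨ϖ, hϖ⟩ := IsDiscreteValuationRing.exists_irreducible B
  obtain ⟨π, hπ⟩ := IsDiscreteValuationRing.exists_irreducible A
  have he1 : 1 ≤ e := by
    by_contra h
    have h0 : e = 0 := by omega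
    rw [h0, pow_zero, Ideal.one_eq_top] at hmap
    exact (IsLocalRing.maximalIdeal.isMaximal B).ne_top (top_le_iff.1 (hmap ▸
      (((IsLocalRing.local_hom_TFAE (algebraMap A B)).out 0 2 rfl rfl).1 inferInstance)))
  have hmem : ∀ a : A, a ∈ IsLocalRing.maximalIdeal A → ϖ ^ e ∣ algebraMap A B a := fun a ha => by
    have h := Ideal.mem_map_of_mem (algebraMap A B) ha
    rw [hmap, hϖ.maximalIdeal_eq, Ideal.span_singleton_pow] at h
    exact Ideal.mem_span_singleton.1 h
  have key : ∀ s : Finset (IsLocalRing.ResidueField B),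
      LinearIndependent (IsLocalRing.ResidueField A) (fun x : s => (x : IsLocalRing.ResidueField B)) →
      e * s.card ≤ Module.finrank K L := by
    intro s hs
    choose u hu using fun x : s => IsLocalRing.residue_surjective (x : IsLocalRing.ResidueField B)
    have hall : ∀ a : s × Fin e → A,
        ∑ x, algebraMap A B (a x) * (u x.1 * ϖ ^ (x.2 : ℕ)) = 0 → ∀ x, a x ∈ IsLocalRing.maximalIdeal A := by
      intro a ha x
      by_contra hx
      let J := Finset.univ.filter fun j : Fin e => ∃ i, a (i, j) ∉ IsLocalRing.maximalIdeal A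
      have hJ : J.Nonempty := ⟨x.2, Finset.mem_filter.2 ⟨Finset.mem_univ _, x.1, hx⟩⟩
      set j₀ := J.min' hJ with hj₀
      obtain ⟨i₀, hi₀⟩ := (Finset.mem_filter.1 (J.min'_mem hJ)).2
      rw [← hj₀] at hi₀
      let r := ∑ i, algebraMap A B (a (i, j₀)) * u i
      have hr : IsUnit r := by
        by_contra hr
        have h0 : ∑ i, IsLocalRing.residue A (a (i, j₀)) • (i : IsLocalRing.ResidueField B) = 0 := by
          rw [← (IsLocalRing.residue_eq_zero_iff r).2 ((IsLocalRing.mem_maximalIdeal r).2 hr), map_sum]
          refine Finset.sum_congr rfl fun i _ => ?_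
          rw [Algebra.smul_def, IsLocalRing.ResidueField.algebraMap_residue, map_mul, hu]
        exact hi₀ ((IsLocalRing.residue_eq_zero_iff _).1 (Fintype.linearIndependent_iff.1 hs _ h0 i₀))
      have hsum : ∑ x, algebraMap A B (a x) * (u x.1 * ϖ ^ (x.2 : ℕ)) =
          ∑ j : Fin e, (∑ i, algebraMap A B (a (i, j)) * u i) * ϖ ^ (j : ℕ) := by
        rw [Fintype.sum_prod_type_right]
        refine Finset.sum_congr rfl fun j _ => ?_
        rw [Finset.sum_mul]
        exact Finset.sum_congr rfl fun i _ => by ring
      have hrest : ϖ ^ ((j₀ : ℕ) + 1) ∣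
          ∑ j ∈ Finset.univ.erase j₀, (∑ i, algebraMap A B (a (i, j)) * u i) * ϖ ^ (j : ℕ) := by
        refine Finset.dvd_sum fun j hj => ?_
        rcases lt_or_gt_of_ne (Finset.ne_of_mem_erase hj) with hlt | hgt
        · refine dvd_mul_of_dvd_left ((pow_dvd_pow ϖ j₀.isLt).trans (Finset.dvd_sum fun i _ =>
            dvd_mul_of_dvd_left (hmem _ ?_) _)) _
          by_contra h
          exact absurd (J.min'_le j (Finset.mem_filter.2 ⟨Finset.mem_univ _, i, h⟩)) (not_le.2 hlt)
        · exact dvd_mul_of_dvd_right (pow_dvd_pow ϖ (Nat.succ_le_of_lt hgt)) _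
      rw [hsum, ← Finset.add_sum_erase _ _ (Finset.mem_univ j₀)] at ha
      have hd : ϖ ^ ((j₀ : ℕ) + 1) ∣ r * ϖ ^ (j₀ : ℕ) := by
        rw [show r * ϖ ^ (j₀ : ℕ) = -(∑ j ∈ Finset.univ.erase j₀,
          (∑ i, algebraMap A B (a (i, j)) * u i) * ϖ ^ (j : ℕ)) from eq_neg_of_add_eq_zero_left ha]
        exact dvd_neg.2 hrest
      rw [pow_succ', mul_dvd_mul_iff_right (pow_ne_zero _ hϖ.ne_zero)] at hd
      exact hϖ.not_isUnit (isUnit_of_dvd_unit hd hr)
    have hzero : ∀ (k : ℕ) (a : s × Fin e → A),
        ∑ x, algebraMap A B (a x) * (u x.1 * ϖ ^ (x.2 : ℕ)) = 0 → ∀ x, π ^ k ∣ a x := by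
      intro k
      induction k with
      | zero => intro a _ x; simp
      | succ k ih =>
        intro a ha x
        have h1 := hall a ha
        have h2 : ∀ x, ∃ c, a x = π * c := fun x => by
          have := h1 x
          rw [hπ.maximalIdeal_eq] at this
          exact Ideal.mem_span_singleton.1 this
        choose c hc using h2
        have h3 : algebraMap A B π * ∑ x, algebraMap A B (c x) * (u x.1 * ϖ ^ (x.2 : ℕ)) = 0 := by
          rw [Finset.mul_sum, ← ha]
          refine Finset.sum_congr rfl fun x _ => ?_
          rw [hc x, map_mul]; ring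
        have h4 := (mul_eq_zero.1 h3).resolve_left ((map_ne_zero_iff _ hinj).2 hπ.ne_zero)
        rw [hc x, pow_succ']
        exact mul_dvd_mul_left π (ih c h4 x)
    have hA : LinearIndependent A (fun x : s × Fin e => algebraMap B L (u x.1 * ϖ ^ (x.2 : ℕ))) := by
      rw [Fintype.linearIndependent_iff]
      intro a ha x
      have ha' : ∑ x, algebraMap A B (a x) * (u x.1 * ϖ ^ (x.2 : ℕ)) = 0 := by
        apply IsFractionRing.injective B L
        rw [map_zero, map_sum, ← ha]
        refine Finset.sum_congr rfl fun x _ => ?_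
        rw [map_mul, ← IsScalarTower.algebraMap_apply, ← Algebra.smul_def]
      by_contra hx
      obtain ⟨m, v, hv⟩ := IsDiscreteValuationRing.eq_unit_mul_pow_irreducible hx hπ
      have hd := hzero (m + 1) a ha' x
      rw [hv, Units.dvd_mul_left, pow_dvd_pow_iff hπ.ne_zero hπ.not_isUnit] at hd
      omega
    have hK := (LinearIndependent.iff_fractionRing A K).1 hA
    have hc := hK.fintype_card_le_finrank
    rw [Fintype.card_prod, Fintype.card_coe, Fintype.card_fin] at hc
    rw [mul_comm]
    exact hc
  have hfin : Module.Finite (IsLocalRing.ResidueField A) (IsLocalRing.ResidueField B) := by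
    refine Module.rank_lt_aleph0_iff.1 (lt_of_le_of_lt (rank_le (n := Module.finrank K L) ?_) (Cardinal.natCast_lt_aleph0))
    intro s hs
    exact le_trans (Nat.le_mul_of_pos_left _ he1) (key s hs)
  refine ⟨hfin, ?_⟩
  obtain ⟨b⟩ : Nonempty (Module.Basis (Fin (Module.finrank (IsLocalRing.ResidueField A) (IsLocalRing.ResidueField B)))
      (IsLocalRing.ResidueField A) (IsLocalRing.ResidueField B)) := ⟨Module.finBasis _ _⟩
  have hinjb := b.injective
  have h := key (Finset.univ.map ⟨b, hinjb⟩) (by
    refine (linearIndependent_equiv' ((Equiv.ofInjective b hinjb).trans (Equiv.setCongr (by simp))) ?_).1 b.linearIndependent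
    rfl)
  simpa using h

end Groth.Agent.S7132
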