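import Groth.Statements.S2455
import Groth.Agent.Lib.CohenAlg3.Lift
import Groth.Agent.Lib.CohenAlg3.Unique

set_option autoImplicit false
universe u
open EGA41

namespace Groth.Agent.S2455

open IsLocalRing in
/-- Let A be a Noetherian local ring with residue field k and K a separable extension field of k. Then
there is a Cohen A-algebra B whose residue field is k-isomorphic to K; and two Cohen A-algebras
whose residue fields are k-isomorphic to K are isomorphic as A-algebras. -/
theorem result {A : Type u} [CommRing A] [IsLocalRing A] [IsNoetherianRing A]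
    (K : Type u) [Field K] [Algebra (ResidueField A) K] [Algebra.IsGeometricallyReduced (ResidueField A) K] :
    (∃ (B : Type u) (_ : CommRing B) (_ : IsLocalRing B) (_ : Algebra A B) (_ : IsLocalHom (algebraMap A B)),
      EGA41.IsCohenAlgebra A B ∧ Nonempty (ResidueField B ≃ₐ[ResidueField A] K)) ∧
    ∀ (B B' : Type u) [CommRing B] [IsLocalRing B] [Algebra A B] [IsLocalHom (algebraMap A B)]
      [CommRing B'] [IsLocalRing B'] [Algebra A B'] [IsLocalHom (algebraMap A B')],
      EGA41.IsCohenAlgebra A B → EGA41.IsCohenAlgebra A B' →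
      Nonempty (ResidueField B ≃ₐ[ResidueField A] K) → Nonempty (ResidueField B' ≃ₐ[ResidueField A] K) →
      Nonempty (B ≃ₐ[A] B') := by
  refine ⟨?_, fun B B' _ _ _ _ _ _ _ _ hB hB' ⟨e⟩ ⟨e'⟩ => ?_⟩
  · haveI : IsAdicComplete (maximalIdeal K) K := by
      rw [isField_iff_maximalIdeal_eq.mp (Field.toIsField K)]
      infer_instance
    obtain ⟨B, iB, iBl, iBn, iBA, iloc, π, hc, hflat, hπ, hker, hπA⟩ := Groth.Agent.CohenAlg3.exists_lift A K
    have hmax : RingHom.ker π = maximalIdeal B := eq_maximalIdeal (RingHom.ker_isMaximal_of_surjective π hπ)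
    let e : ResidueField B ≃ₐ[ResidueField A] K :=
      AlgEquiv.ofRingEquiv (f := (Ideal.quotEquivOfEq hmax.symm).trans (RingHom.quotientKerEquivOfSurjective hπ))
        (fun x => by
          obtain ⟨a, rfl⟩ := residue_surjective x
          exact hπA a)
    haveI : Algebra.IsGeometricallyReduced (ResidueField A) (ResidueField B) :=
      Algebra.IsGeometricallyReduced.of_injective e.toAlgHom e.injective
    exact ⟨B, iB, iBl, iBA, iloc, ⟨inferInstance, iBn, hc, hflat, hker.symm.trans hmax, inferInstance⟩, ⟨e⟩⟩
  · obtain ⟨-, hn, hc, hf, hm, -⟩ := id hB'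
    haveI := hn
    haveI := hf
    obtain ⟨w, -⟩ := Groth.Agent.CohenAlg3.exists_equiv hB hc hm (e.trans e'.symm).toRingEquiv
      (fun a => (e.trans e'.symm).commutes (residue A a))
    exact ⟨w⟩

end Groth.Agent.S2455
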