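import Groth.Prelude.Def_EGA41
import Mathlib.RingTheory.Smooth.Basic
import Mathlib.RingTheory.Nilpotent.GeometricallyReduced
import Mathlib.RingTheory.LocalRing.ResidueField.Basic
import Mathlib.RingTheory.AdicCompletion.Basic
import Mathlib.RingTheory.PowerSeries.Basic
import Mathlib.RingTheory.MvPowerSeries.Basic
import Mathlib.RingTheory.RegularLocalRing.Defs
import Mathlib.RingTheory.Flat.Basic
import Mathlib.RingTheory.LocalRing.ResidueField.Fiber
import Mathlib.RingTheory.AdicCompletion.Algebra
import Mathlib.RingTheory.Ideal.Quotient.Operations
import Groth.Agent.Lib.Cohen.LiftLocal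

set_option autoImplicit false
universe u
open EGA41

namespace Groth.Agent.S2456

open IsLocalRing in
/-- Let W be a Cohen ring (a field of characteristic zero, or a complete discrete valuation ring with
maximal ideal generated by the residue characteristic), C a complete Noetherian local ring and J ≠ C
an ideal of C. Then every local homomorphism u : W → C/J is induced by a local homomorphism v : W →
C. -/
theorem result {W C : Type u} [CommRing W] [IsLocalRing W] (hW : EGA41.IsCohenRingEGA W)
    [CommRing C] [IsLocalRing C] [IsNoetherianRing C] [IsAdicComplete (maximalIdeal C) C]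
    (J : Ideal C) (hJ : J ≠ ⊤) [IsLocalRing (C ⧸ J)] (u : W →+* C ⧸ J) [IsLocalHom u] :
    ∃ v : W →+* C, IsLocalHom v ∧ (Ideal.Quotient.mk J).comp v = u := by
  exact Cohen.exists_lift_quotient hW J hJ u


end Groth.Agent.S2456
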