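import Groth.Statements.S1988
import Groth.Agent.Lib.EtRamH7.Basic
import Mathlib.RingTheory.Flat.TorsionFree
import Mathlib.RingTheory.Ideal.GoingDown
import Mathlib.RingTheory.TensorProduct.Nontrivial
import Mathlib.RingTheory.Localization.FractionRing
import Mathlib.RingTheory.Algebraic.Integral
import Mathlib.RingTheory.Nilpotent.GeometricallyReduced

set_option autoImplicit false
universe u
open EtAlg

open scoped TensorProduct

namespace Groth.Agent.S1988

/-- Let A -> B -> C be extensions of discrete valuation rings (local injective maps) with fraction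
fields K ⊂ L ⊂ M₀ and K₁/K a finite extension. (The solution predicates mention only B, C and the
fields: in them the bottom ring is recovered as B ∩ K, which the hypotheses on A force to be A.) If
K₁ is a weak solution (resp. a solution) for A -> C then it is a weak solution (resp. a solution)
for A -> B. -/
theorem result (A B C K L M₀ K₁ : Type u) [CommRing A] [IsDomain A] [IsDiscreteValuationRing A]
    [CommRing B] [IsDomain B] [IsDiscreteValuationRing B] [Algebra A B] [IsLocalHom (algebraMap A B)]
    (hinjA : Function.Injective (algebraMap A B))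
    [CommRing C] [IsDomain C] [IsDiscreteValuationRing C] [Algebra B C] [IsLocalHom (algebraMap B C)]
    (hinj : Function.Injective (algebraMap B C))
    [Field K] [Field L] [Field M₀] [Field K₁] [Algebra K L] [Algebra K M₀] [Algebra L M₀] [IsScalarTower K L M₀]
    [Algebra K K₁] [FiniteDimensional K K₁] [Algebra A K] [IsFractionRing A K]
    [Algebra B L] [IsFractionRing B L] [Algebra A L] [IsScalarTower A K L] [IsScalarTower A B L]
    [Algebra C M₀] [IsFractionRing C M₀] [Algebra B M₀]
    [IsScalarTower B C M₀] [IsScalarTower B L M₀] :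
    (EtRam.IsWeakSolution C K M₀ K₁ → EtRam.IsWeakSolution B K L K₁) ∧
    (EtRam.IsSolution C K M₀ K₁ → EtRam.IsSolution B K L K₁) := by
  classical
  haveI hflat : Module.Flat B C := by
    rw [Module.Flat.flat_iff_torsion_eq_bot_of_isBezout, eq_bot_iff]
    intro x hx
    obtain ⟨a, ha⟩ := (Submodule.mem_torsion_iff x).1 hx
    rw [Submonoid.smul_def, Algebra.smul_def] at ha
    exact (Submodule.mem_bot B).2 ((mul_eq_zero.1 ha).resolve_left
      ((map_ne_zero_iff _ hinj).2 (nonZeroDivisors.ne_zero a.2)))
  have main : ∀ (M : Type u) [Field M] [Algebra K M] [Algebra L M] [Algebra K₁ M] [IsScalarTower K L M]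
      [IsScalarTower K K₁ M], Algebra.adjoin L (Set.range (algebraMap K₁ M)) = ⊤ →
      ∀ W : ValuationSubring M, EtRam.Dominates B ((algebraMap L M).comp (algebraMap B L)) W →
      ∃ (M' : Type u) (_ : Field M') (_ : Algebra K M') (_ : Algebra M₀ M') (_ : Algebra K₁ M')
        (_ : IsScalarTower K M₀ M') (_ : IsScalarTower K K₁ M') (j : M →+* M') (W' : ValuationSubring M'),
        algebraMap K₁ M' = j.comp (algebraMap K₁ M) ∧
        Algebra.adjoin M₀ (Set.range (algebraMap K₁ M')) = ⊤ ∧
        EtRam.Dominates C ((algebraMap M₀ M').comp (algebraMap C M₀)) W' ∧ W'.comap j = W := by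
    intro M _ _ _ _ _ _ hgen W hW
    let ψ₀ : L ⊗[K] K₁ →ₐ[L] M := Algebra.TensorProduct.lift (Algebra.ofId L M)
      (IsScalarTower.toAlgHom K K₁ M) (fun _ _ => Commute.all _ _)
    letI algBW : Algebra B W := (RingHom.codRestrict _ W hW.1).toAlgebra
    haveI : IsLocalHom (algebraMap B W) := Groth.Agent.EtRamH7.isLocalHom_cod hW
    let P := W ⊗[B] C
    let kB := IsLocalRing.ResidueField B
    let kW := IsLocalRing.ResidueField W
    let kC := IsLocalRing.ResidueField C
    haveI : Nontrivial (kW ⊗[kB] kC) :=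
      Algebra.TensorProduct.nontrivial_of_algebraMap_injective_of_isDomain kB kW kC
        (RingHom.injective _) (RingHom.injective _)
    obtain ⟨m, hm⟩ := Ideal.exists_maximal (kW ⊗[kB] kC)
    letI : Field ((kW ⊗[kB] kC) ⧸ m) := Ideal.Quotient.field m
    let inl : W →ₐ[B] (kW ⊗[kB] kC) ⧸ m :=
      { (Ideal.Quotient.mk m).comp ((Algebra.TensorProduct.includeLeftRingHom).comp (IsLocalRing.residue W)) with
        commutes' := fun b => by
          show Ideal.Quotient.mk m (IsLocalRing.residue W (algebraMap B W b) ⊗ₜ 1) = _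
          rfl }
    let inr : C →ₐ[B] (kW ⊗[kB] kC) ⧸ m :=
      { (Ideal.Quotient.mk m).comp ((Algebra.TensorProduct.includeRight : kC →ₐ[kB] kW ⊗[kB] kC).toRingHom.comp (IsLocalRing.residue C)) with
        commutes' := fun b => by
          show Ideal.Quotient.mk m (1 ⊗ₜ IsLocalRing.residue C (algebraMap B C b)) = _
          rw [← IsLocalRing.ResidueField.algebraMap_residue, ← Algebra.TensorProduct.algebraMap_apply']
          rfl }
    let g : P →ₐ[B] (kW ⊗[kB] kC) ⧸ m := Algebra.TensorProduct.lift inl inr (fun _ _ => Commute.all _ _)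
    let 𝔓 : Ideal P := RingHom.ker g.toRingHom
    haveI : 𝔓.IsPrime := RingHom.ker_isPrime _
    obtain ⟨𝔭, h𝔭𝔓, h𝔭, hover⟩ := Ideal.exists_ideal_le_liesOver_of_le (R := W) (S := P)
      (p := ⊥) (q := 𝔓.under W) 𝔓 bot_le
    haveI := h𝔭
    let M' := FractionRing (P ⧸ 𝔭)
    let π' : P →+* M' := (algebraMap (P ⧸ 𝔭) M').comp (Ideal.Quotient.mk 𝔭)
    have hπker : ∀ x, π' x = 0 ↔ x ∈ 𝔭 := fun x => by
      show algebraMap (P ⧸ 𝔭) M' (Ideal.Quotient.mk 𝔭 x) = 0 ↔ _
      rw [map_eq_zero_iff _ (IsFractionRing.injective (P ⧸ 𝔭) M'), Ideal.Quotient.eq_zero_iff_mem]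
    have hiW : Function.Injective (π'.comp (Algebra.TensorProduct.includeLeftRingHom : W →+* P)) := by
      rw [injective_iff_map_eq_zero]
      intro w hw
      have h1 : algebraMap W P w ∈ 𝔭 := (hπker _).1 hw
      have h2 : w ∈ 𝔭.under W := h1
      rw [← hover.over] at h2
      exact h2
    have hinlm : ∀ w : W, inl w = 0 → w ∈ IsLocalRing.maximalIdeal W := fun w hw => by
      by_contra h
      exact ((IsLocalRing.notMem_maximalIdeal.1 h).map inl).ne_zero hw
    have hbalance : ∀ b : B, (Algebra.TensorProduct.includeRight : C →ₐ[B] P) (algebraMap B C b) =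
        Algebra.TensorProduct.includeLeftRingHom (algebraMap B W b) := fun b => by
      rw [AlgHom.commutes]; rfl
    have hBW : Function.Injective (algebraMap B W) := fun a b h =>
      IsFractionRing.injective B L ((algebraMap L M).injective (congrArg Subtype.val h))
    have hiC : Function.Injective (π'.comp (Algebra.TensorProduct.includeRight : C →ₐ[B] P).toRingHom) := by
      rw [injective_iff_map_eq_zero]
      intro c hc
      by_contra hc0
      obtain ⟨ϖ, hϖ⟩ := IsDiscreteValuationRing.exists_irreducible C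
      obtain ⟨b, hb⟩ := IsDiscreteValuationRing.exists_irreducible B
      obtain ⟨n, u, rfl⟩ := IsDiscreteValuationRing.eq_unit_mul_pow_irreducible hc0 hϖ
      rw [map_mul, map_pow] at hc
      have h1 := (mul_eq_zero.1 hc).resolve_left (u.isUnit.map _).ne_zero
      have h2 := eq_zero_of_pow_eq_zero h1
      have hbC : algebraMap B C b ∈ IsLocalRing.maximalIdeal C :=
        ((IsLocalRing.local_hom_TFAE (algebraMap B C)).out 0 2 rfl rfl).1 inferInstance
          (Ideal.mem_map_of_mem _ ((IsLocalRing.mem_maximalIdeal b).2 hb.not_isUnit))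
      obtain ⟨d, hd⟩ := Ideal.mem_span_singleton.1 (hϖ.maximalIdeal_eq ▸ hbC)
      have h3 : π' ((Algebra.TensorProduct.includeRight : C →ₐ[B] P) (algebraMap B C b)) = 0 := by
        rw [hd, map_mul, map_mul]
        exact mul_eq_zero_of_left h2 _
      rw [hbalance] at h3
      exact hb.ne_zero (hBW ((hiW (h3.trans (map_zero _).symm)).trans (map_zero _).symm))
    let j : M →+* M' := IsFractionRing.lift hiW
    let j₀ : M₀ →+* M' := IsFractionRing.lift hiC
    have hj : ∀ w : W, j (w : M) = π' (Algebra.TensorProduct.includeLeftRingHom w) :=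
      fun w => IsFractionRing.lift_algebraMap hiW w
    have hj₀ : ∀ c : C, j₀ (algebraMap C M₀ c) = π' ((Algebra.TensorProduct.includeRight : C →ₐ[B] P) c) :=
      fun c => IsFractionRing.lift_algebraMap hiC c
    have hL : ∀ l : L, j₀ (algebraMap L M₀ l) = j (algebraMap L M l) := by
      intro l
      obtain ⟨b₁, b₂, -, rfl⟩ := IsFractionRing.div_surjective (A := B) l
      have hb : ∀ b : B, j₀ (algebraMap L M₀ (algebraMap B L b)) = j (algebraMap L M (algebraMap B L b)) := fun b => by
        rw [← IsScalarTower.algebraMap_apply B L M₀, IsScalarTower.algebraMap_apply B C M₀, hj₀, hbalance, ← hj]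
        rfl
      simp only [map_div₀, hb]
    letI : Algebra M₀ M' := j₀.toAlgebra
    letI : Algebra K₁ M' := (j.comp (algebraMap K₁ M)).toAlgebra
    letI : Algebra K M' := ((j.comp (algebraMap K₁ M)).comp (algebraMap K K₁)).toAlgebra
    haveI : IsScalarTower K K₁ M' := IsScalarTower.of_algebraMap_eq fun _ => rfl
    haveI : IsScalarTower K M₀ M' := IsScalarTower.of_algebraMap_eq fun x => by
      show j (algebraMap K₁ M (algebraMap K K₁ x)) = j₀ (algebraMap K M₀ x)
      rw [IsScalarTower.algebraMap_apply K L M₀, hL, ← IsScalarTower.algebraMap_apply, ← IsScalarTower.algebraMap_apply]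
    have htop : Algebra.adjoin M₀ (Set.range (algebraMap K₁ M')) = ⊤ := by
      let F := Algebra.adjoin M₀ (Set.range (algebraMap K₁ M'))
      haveI : Algebra.IsAlgebraic M₀ F := by
        rw [← Subalgebra.isAlgebraic_iff]
        intro x hx
        refine (IsIntegral.isAlgebraic ?_)
        refine Algebra.adjoin_le (S := integralClosure M₀ M') ?_ hx
        rintro _ ⟨z, rfl⟩
        exact ((IsIntegral.of_finite K z).map (IsScalarTower.toAlgHom K K₁ M')).tower_top
      have hinv : ∀ x ∈ F, x⁻¹ ∈ F := fun x hx =>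
        F.inv_mem_of_algebraic (x := ⟨x, hx⟩) (((Subalgebra.isAlgebraic_iff _).2 inferInstance x hx))
      have hM : ∀ y : M, j y ∈ F := by
        intro y
        have hy : y ∈ Algebra.adjoin L (Set.range (algebraMap K₁ M)) := by rw [hgen]; trivial
        induction hy using Algebra.adjoin_induction with
        | mem z hz => obtain ⟨k, rfl⟩ := hz; exact Algebra.subset_adjoin ⟨k, rfl⟩
        | algebraMap l => rw [← hL]; exact F.algebraMap_mem _
        | add a b _ _ ha hb => rw [map_add]; exact add_mem ha hb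
        | mul a b _ _ ha hb => rw [map_mul]; exact mul_mem ha hb
      have hP : ∀ x : P, π' x ∈ F := by
        intro x
        induction x using TensorProduct.induction_on with
        | zero => rw [map_zero]; exact zero_mem _
        | tmul w c =>
          rw [show (w ⊗ₜ[B] c : P) = Algebra.TensorProduct.includeLeftRingHom w *
              (Algebra.TensorProduct.includeRight : C →ₐ[B] P) c by simp, map_mul, ← hj, ← hj₀]
          exact mul_mem (hM _) (F.algebraMap_mem _)
        | add a b ha hb => rw [map_add]; exact add_mem ha hb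
      refine top_le_iff.1 fun x _ => ?_
      obtain ⟨a, b, -, rfl⟩ := IsFractionRing.div_surjective (A := P ⧸ 𝔭) x
      obtain ⟨a, rfl⟩ := Ideal.Quotient.mk_surjective a
      obtain ⟨b, rfl⟩ := Ideal.Quotient.mk_surjective b
      rw [div_eq_mul_inv]
      exact mul_mem (hP a) (hinv _ (hP b))
    let S : Subring M' := π'.range
    let 𝔔 : Ideal S := 𝔓.map π'.rangeRestrict
    have h𝔔 : 𝔔 ≠ ⊤ := by
      intro h
      obtain ⟨x, hx, hx1⟩ := (Ideal.mem_map_iff_of_surjective _ π'.rangeRestrict_surjective).1
        ((Ideal.eq_top_iff_one 𝔔).1 h)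
      have h1 : π' (x - 1) = 0 := by
        have h2 : π' x = 1 := congrArg Subtype.val hx1
        rw [map_sub, map_one, h2, sub_self]
      have h3 := sub_mem hx (h𝔭𝔓 ((hπker _).1 h1))
      rw [sub_sub_cancel] at h3
      exact (inferInstance : 𝔓.IsPrime).ne_top ((Ideal.eq_top_iff_one _).2 h3)
    obtain ⟨W', hSW, hW'⟩ := Ideal.image_subset_nonunits_valuationSubring 𝔔 h𝔔
    refine ⟨M', inferInstance, inferInstance, inferInstance, inferInstance, inferInstance, inferInstance, j, W',
      rfl, htop, ⟨fun c => ?_, fun c hc => ?_⟩, ?_⟩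
    · show j₀ (algebraMap C M₀ c) ∈ W'
      rw [hj₀]; exact hSW ⟨_, rfl⟩
    · show W'.valuation (j₀ (algebraMap C M₀ c)) < 1
      rw [hj₀, ← ValuationSubring.mem_nonunits_iff]
      refine hW' ⟨π'.rangeRestrict _, Ideal.mem_map_of_mem _ ?_, rfl⟩
      show g _ = 0
      refine (Algebra.TensorProduct.lift_tmul inl inr (fun _ _ => Commute.all _ _) 1 c).trans ?_
      rw [map_one, one_mul]
      show Ideal.Quotient.mk m (1 ⊗ₜ IsLocalRing.residue C c) = 0
      rw [(IsLocalRing.residue_eq_zero_iff c).2 hc, TensorProduct.tmul_zero, map_zero]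
    · ext x
      refine ⟨fun hx => ?_, fun hx => ?_⟩
      · by_contra hxW
        have hx0 : x ≠ 0 := fun h => hxW (h ▸ W.zero_mem)
        have hinv : x⁻¹ ∈ W := (W.mem_or_inv_mem x).resolve_left hxW
        have hmem : (⟨x⁻¹, hinv⟩ : W) ∈ IsLocalRing.maximalIdeal W := by
          rw [IsLocalRing.mem_maximalIdeal]
          intro hu
          obtain ⟨y, hy⟩ := hu.exists_right_inv
          have h1 : x⁻¹ * (y : M) = 1 := congrArg Subtype.val hy
          exact hxW (by rw [← eq_inv_of_mul_eq_one_right h1 |>.trans (inv_inv x)]; exact y.2)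
        have h2 : π' (Algebra.TensorProduct.includeLeftRingHom (⟨x⁻¹, hinv⟩ : W)) ∈ W'.nonunits := by
          refine hW' ⟨π'.rangeRestrict _, Ideal.mem_map_of_mem _ ?_, rfl⟩
          show g _ = 0
          refine (Algebra.TensorProduct.lift_tmul inl inr (fun _ _ => Commute.all _ _) _ 1).trans ?_
          rw [map_one, mul_one]
          show Ideal.Quotient.mk m (IsLocalRing.residue W ⟨x⁻¹, hinv⟩ ⊗ₜ 1) = 0
          rw [(IsLocalRing.residue_eq_zero_iff _).2 hmem, TensorProduct.zero_tmul, map_zero]
        rw [← hj, map_inv₀, ValuationSubring.inv_mem_nonunits_iff] at h2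
        rcases h2 with h2 | h2
        · exact hx0 ((map_eq_zero j).1 h2)
        · exact h2 hx
      · show j x ∈ W'
        rw [show j x = _ from hj ⟨x, hx⟩]
        exact hSW ⟨_, rfl⟩
  have weak : ∀ (M : Type u) [Field M] (W : ValuationSubring M) (f : K₁ →+* M) (M' : Type u) [Field M']
      (W' : ValuationSubring M') (j : M →+* M'), W'.comap j = W →
      (letI : Algebra (W'.comap (j.comp f)) W' := (EtRam.inclOfComap W' (j.comp f)).toAlgebra
       EtRam.IsWeaklyUnramified (W'.comap (j.comp f)) W') →
      (letI : Algebra (W.comap f) W := (EtRam.inclOfComap W f).toAlgebra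
       EtRam.IsWeaklyUnramified (W.comap f) W) := by
    intro M _ W f M' _ W' j hWW h
    subst hWW
    show Ideal.map (EtRam.inclOfComap (W'.comap j) f) (IsLocalRing.maximalIdeal _) = IsLocalRing.maximalIdeal _
    refine le_antisymm (((IsLocalRing.local_hom_TFAE (EtRam.inclOfComap (W'.comap j) f)).out 0 2 rfl rfl).1 inferInstance) ?_
    intro x hx
    have hx' : EtRam.inclOfComap W' j x ∈ IsLocalRing.maximalIdeal W' := by
      rw [IsLocalRing.mem_maximalIdeal] at hx ⊢
      exact fun hu => hx ((EtRam.isLocalHom_inclOfComap W' j).map_nonunit x hu)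
    rw [← h] at hx'
    have hrep : ∀ y ∈ Ideal.map (EtRam.inclOfComap W' (j.comp f)) (IsLocalRing.maximalIdeal _),
        ∃ r ∈ IsLocalRing.maximalIdeal (W'.comap (j.comp f)), ∃ e : W', y = e * EtRam.inclOfComap W' (j.comp f) r := by
      intro y hy
      induction hy using Submodule.span_induction with
      | mem y hy => obtain ⟨r, hr, rfl⟩ := hy; exact ⟨r, hr, 1, (one_mul _).symm⟩
      | zero => exact ⟨0, zero_mem _, 0, (zero_mul _).symm⟩
      | add a b _ _ ha hb =>
        obtain ⟨r₁, hr₁, e₁, rfl⟩ := ha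
        obtain ⟨r₂, hr₂, e₂, rfl⟩ := hb
        rcases ValuationRing.dvd_total (EtRam.inclOfComap W' (j.comp f) r₁) (EtRam.inclOfComap W' (j.comp f) r₂) with ⟨d, hd⟩ | ⟨d, hd⟩
        · exact ⟨r₁, hr₁, e₁ + e₂ * d, by rw [hd]; ring⟩
        · exact ⟨r₂, hr₂, e₁ * d + e₂, by rw [hd]; ring⟩
      | smul a y _ hy => obtain ⟨r, hr, e, rfl⟩ := hy; exact ⟨r, hr, a * e, by rw [smul_eq_mul, mul_assoc]⟩
    obtain ⟨r, hr, e, he⟩ := hrep _ hx'
    have he' : j (x : M) = (e : M') * j (f (r : K₁)) := congrArg Subtype.val he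
    rcases eq_or_ne (f (r : K₁)) 0 with h0 | h0
    · have hx0 : x = 0 := Subtype.ext ((map_eq_zero j).1 (by rw [he', h0, map_zero, mul_zero]))
      rw [hx0]; exact zero_mem _
    have hy : (x : M) / f (r : K₁) ∈ W'.comap j := by
      show j _ ∈ W'
      rw [map_div₀, he', mul_div_assoc, div_self (fun h1 => h0 ((map_eq_zero j).1 h1)), mul_one]
      exact e.2
    rw [show x = (⟨_, hy⟩ : W'.comap j) * EtRam.inclOfComap (W'.comap j) f r from
      Subtype.ext (by show (x : M) = _ / f (r : K₁) * f (r : K₁); rw [div_mul_cancel₀ _ h0])]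
    exact Ideal.mul_mem_left _ _ (Ideal.mem_map_of_mem _ hr)
  constructor
  · intro h M _ _ _ _ _ _ hgen W hW
    obtain ⟨M', _, _, _, _, _, _, j, W', hf, hgen', hdom, hWW⟩ := main M hgen W hW
    have h' := h M' hgen' W' hdom
    exact weak M W (algebraMap K₁ M) M' W' j hWW (hf ▸ h')
  · intro h M _ _ _ _ _ _ hgen W hW
    obtain ⟨M', _, _, _, _, _, _, j, W', hf, hgen', hdom, hWW⟩ := main M hgen W hW
    have h' := h M' hgen' W' hdom
    dsimp only at h' ⊢
    rw [hf] at h'
    refine ⟨weak M W (algebraMap K₁ M) M' W' j hWW h'.1, ?_⟩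
    subst hWW
    letI : Algebra (IsLocalRing.ResidueField ((W'.comap j).comap (algebraMap K₁ M))) (IsLocalRing.ResidueField W') :=
      (IsLocalRing.ResidueField.map (EtRam.inclOfComap W' (j.comp (algebraMap K₁ M)))).toAlgebra
    letI : Algebra (IsLocalRing.ResidueField ((W'.comap j).comap (algebraMap K₁ M))) (IsLocalRing.ResidueField (W'.comap j)) :=
      (IsLocalRing.ResidueField.map (EtRam.inclOfComap (W'.comap j) (algebraMap K₁ M))).toAlgebra
    haveI : Algebra.IsGeometricallyReduced (IsLocalRing.ResidueField ((W'.comap j).comap (algebraMap K₁ M))) (IsLocalRing.ResidueField W') := h'.2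
    exact Algebra.IsGeometricallyReduced.of_injective
      ({ IsLocalRing.ResidueField.map (EtRam.inclOfComap W' j) with
          commutes' := fun z => by
            obtain ⟨z, rfl⟩ := IsLocalRing.residue_surjective z
            rfl } :
        IsLocalRing.ResidueField (W'.comap j) →ₐ[IsLocalRing.ResidueField ((W'.comap j).comap (algebraMap K₁ M))]
          IsLocalRing.ResidueField W')
      (RingHom.injective _)

end Groth.Agent.S1988
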