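import Groth.Statements.S1979
import Groth.Agent.Lib.EppASH7.Core
import Groth.Agent.Lib.EppASH7.Kernel
import Groth.Agent.Lib.EtRamH7.Compositum
import Groth.Agent.Lib.EtRamH7.InsepPrime
import Groth.Agent.S1982
import Groth.Agent.S1988

set_option autoImplicit false
universe u
open EtAlg

open IsLocalRing Polynomial Groth.Agent Groth.Agent.EppASH7

set_option linter.style.haveILetI false

namespace Groth.Agent.S1979


/-- Residue characteristic zero: adjoin a root of a uniformizer. -/
theorem tame (A B K L : Type u) [CommRing A] [IsDomain A] [IsDiscreteValuationRing A]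
    [CommRing B] [IsDomain B] [IsDiscreteValuationRing B] [Algebra A B] [IsLocalHom (algebraMap A B)]
    (hinj : Function.Injective (algebraMap A B))
    [Field K] [Field L] [Algebra A K] [IsFractionRing A K] [Algebra B L] [IsFractionRing B L]
    [Algebra K L] [Algebra A L] [IsScalarTower A K L] [IsScalarTower A B L] [CharZero (ResidueField A)] :
    ∃ (K₁ : Type u) (_ : Field K₁) (_ : Algebra K K₁) (_ : FiniteDimensional K K₁), EtRam.IsWeakSolution B K L K₁ := by
  classical
  obtain ⟨π, hπ⟩ := IsDiscreteValuationRing.exists_irreducible A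
  set e := Ideal.ramificationIdx' (maximalIdeal A) (maximalIdeal B) with he
  have he0 : e ≠ 0 := by
    intro h0
    have h := EtRamH7.map_maximalIdeal_eq_pow A B hinj
    rw [← he, h0, pow_zero, Ideal.one_eq_top] at h
    exact (maximalIdeal.isMaximal B).ne_top (top_le_iff.1 (h ▸
      (((local_hom_TFAE (algebraMap A B)).out 0 2 rfl rfl).1 inferInstance)))
  let Kb := AlgebraicClosure K
  obtain ⟨ρ, hρ⟩ := IsAlgClosed.exists_pow_nat_eq (algebraMap K Kb (algebraMap A K π)) (Nat.pos_of_ne_zero he0)
  let K₁ := IntermediateField.adjoin K ({ρ} : Set Kb)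
  haveI : FiniteDimensional K K₁ := IntermediateField.adjoin.finiteDimensional (Algebra.IsIntegral.isIntegral ρ)
  refine ⟨K₁, inferInstance, inferInstance, inferInstance, ?_⟩
  intro M _ _ _ _ _ _ hgen W hW
  let f : K₁ →+* M := algebraMap K₁ M
  have hc : ((algebraMap L M).comp (algebraMap B L)).comp (algebraMap A B) =
      f.comp ((algebraMap K K₁).comp (algebraMap A K)) := by
    ext a
    show algebraMap L M (algebraMap B L (algebraMap A B a)) = algebraMap K₁ M (algebraMap K K₁ (algebraMap A K a))
    rw [← IsScalarTower.algebraMap_apply A B L, IsScalarTower.algebraMap_apply A K L,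
      ← IsScalarTower.algebraMap_apply K L M, ← IsScalarTower.algebraMap_apply K K₁ M]
  have hA : EtRam.Dominates A ((algebraMap K K₁).comp (algebraMap A K)) (W.comap f) :=
    EtRamH7.dominates_comap f (hc ▸ ⟨fun a => hW.1 _, fun a ha => hW.2 _
      (((local_hom_TFAE (algebraMap A B)).out 0 2 rfl rfl).1 inferInstance (Ideal.mem_map_of_mem _ ha))⟩)
  haveI := EtRamH7.dvr_of_dominates A K K₁ _ rfl _ hA
  refine ((Groth.Agent.S1982.result A B K L hinj (Or.inl inferInstance) K₁ M hgen W hW) hA.1 ?_).1
  letI : Algebra A (W.comap f) := (RingHom.codRestrict _ (W.comap f) hA.1).toAlgebra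
  have hinjV : Function.Injective (algebraMap A (W.comap f)) := EtRamH7.injective_cod A K K₁ _ rfl _ hA.1
  show e ∣ Ideal.ramificationIdx' (maximalIdeal A) (maximalIdeal (W.comap f))
  let r : K₁ := ⟨ρ, IntermediateField.mem_adjoin_simple_self K ρ⟩
  have hr : r ^ e = algebraMap K K₁ (algebraMap A K π) := Subtype.ext hρ
  have hrV : r ∈ W.comap f := by
    rw [← ValuationSubring.valuation_le_one_iff]
    refine (pow_le_one_iff he0).1 ?_
    rw [← map_pow, hr, ValuationSubring.valuation_le_one_iff]
    exact hA.1 π
  have hπV : algebraMap A (W.comap f) π = (⟨r, hrV⟩ : W.comap f) ^ e := Subtype.ext hr.symm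
  obtain ⟨ϖ, hϖ⟩ := IsDiscreteValuationRing.exists_irreducible (W.comap f)
  obtain ⟨j, u, hu⟩ := IsDiscreteValuationRing.eq_unit_mul_pow_irreducible (x := (⟨r, hrV⟩ : W.comap f))
    (fun h0 => hπ.ne_zero (hinjV (by rw [hπV, h0, zero_pow he0, map_zero]))) hϖ
  have h := EtRamH7.map_maximalIdeal_eq_pow A (W.comap f) hinjV
  rw [hπ.maximalIdeal_eq, Ideal.map_span, Set.image_singleton, hπV, hu, mul_pow, ← pow_mul, hϖ.maximalIdeal_eq,
    Ideal.span_singleton_pow, ← Units.val_pow_eq_pow_val, Ideal.span_singleton_mul_left_unit (Units.isUnit _),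
    Ideal.span_singleton_eq_span_singleton] at h
  obtain ⟨v, hv⟩ := h
  rw [← one_mul (ϖ ^ _), mul_comm _ (v : W.comap f)] at hv
  have := IsDiscreteValuationRing.unit_mul_pow_congr_pow hϖ hϖ v 1 _ _ (by simpa using hv)
  rw [hπ.maximalIdeal_eq, hϖ.maximalIdeal_eq]
  exact ⟨j, by rw [← this, mul_comm]⟩

/-- Let A -> B be an extension of discrete valuation rings (both DVRs, the map injective and local) with
fraction fields K ⊂ L. Assume that if the residue field of A has characteristic p > 0 then every
element of the residue field of B admitting p^n-th roots for all n is separable algebraic over the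
residue field of A. Then there is a finite extension K₁ of K which is a weak solution for A -> B:
for every compositum M of L and K₁ and every valuation subring W of M dominating B, the extension W
∩ K₁ -> W is weakly unramified. -/
theorem result (A B K L : Type u) [CommRing A] [IsDomain A] [IsDiscreteValuationRing A]
    [CommRing B] [IsDomain B] [IsDiscreteValuationRing B] [Algebra A B] [IsLocalHom (algebraMap A B)]
    (hinj : Function.Injective (algebraMap A B))
    [Field K] [Field L] [Algebra A K] [IsFractionRing A K] [Algebra B L] [IsFractionRing B L]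
    [Algebra K L] [Algebra A L] [IsScalarTower A K L] [IsScalarTower A B L]
    (hres : ∀ p : ℕ, p.Prime → CharP (IsLocalRing.ResidueField A) p →
      ∀ x : IsLocalRing.ResidueField B, (∀ n : ℕ, ∃ y : IsLocalRing.ResidueField B, y ^ (p ^ n) = x) →
        IsSeparable (IsLocalRing.ResidueField A) x) :
    ∃ (K₁ : Type u) (_ : Field K₁) (_ : Algebra K K₁) (_ : FiniteDimensional K K₁), EtRam.IsWeakSolution B K L K₁ := by
  classical
  obtain ⟨p, hchar⟩ := CharP.exists (ResidueField A)
  rcases CharP.char_is_prime_or_zero (ResidueField A) p with hp | rfl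
  swap
  · haveI : CharZero (ResidueField A) := CharP.charP_to_charZero _
    exact tame A B K L hinj
  haveI := hchar
  -- the residue field extension
  obtain ⟨κ, _, _, _, _, kc, hsep, hclosed, hperf, hkc⟩ :=
    exists_kernel_extension hp (ResidueField A) (ResidueField B) (hres p hp hchar)
  haveI := hsep
  haveI := EtRamH7.geomRed_of_separable (ResidueField B) κ
  obtain ⟨⟨C, iC, iCl, iBC, iloc, hC, ⟨e⟩⟩, -⟩ := Groth.Agent.S2455.result (A := B) κ
  obtain ⟨iCd, hCv, hBC⟩ := dvr_of_isCohenAlgebra hC
  haveI := iCd
  haveI : IsDiscreteValuationRing C := hCv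
  haveI : IsAdicComplete (maximalIdeal C) C := hC.2.2.1
  letI : Algebra A C := ((algebraMap B C).comp (algebraMap A B)).toAlgebra
  haveI : IsScalarTower A B C := IsScalarTower.of_algebraMap_eq fun _ => rfl
  haveI : IsLocalHom (algebraMap A C) :=
    inferInstanceAs (IsLocalHom ((algebraMap B C).comp (algebraMap A B)))
  haveI : IsScalarTower (ResidueField A) (ResidueField B) (ResidueField C) := IsScalarTower.of_algebraMap_eq fun x => by
    obtain ⟨a, rfl⟩ := residue_surjective x
    rfl
  have hAC : Function.Injective (algebraMap A C) := hBC.comp hinj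
  haveI : CharP (ResidueField C) p :=
    charP_of_injective_algebraMap (algebraMap (ResidueField A) (ResidueField C)).injective p
  let eA : ResidueField C ≃ₐ[ResidueField A] κ := e.restrictScalars (ResidueField A)
  let kc' : Subfield (ResidueField C) := kc.comap eA.toRingEquiv.toRingHom
  let ek : kc' ≃+* kc :=
    { toFun := fun x => ⟨eA x, x.2⟩
      invFun := fun x => ⟨eA.symm x, by show eA (eA.symm x) ∈ kc; rw [eA.apply_symm_apply]; exact x.2⟩
      left_inv := fun x => Subtype.ext (eA.symm_apply_apply _)
      right_inv := fun x => Subtype.ext (eA.apply_symm_apply _)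
      map_mul' := fun _ _ => Subtype.ext (map_mul eA _ _)
      map_add' := fun _ _ => Subtype.ext (map_add eA _ _) }
  haveI : IsAlgClosed kc' := IsAlgClosed.of_ringEquiv _ _ ek.symm
  have hperf' : ∀ x : ResidueField C, (∀ n : ℕ, ∃ y : ResidueField C, y ^ (p ^ n) = x) → x ∈ kc' := fun x hx =>
    hperf (eA x) fun n => (hx n).imp' eA fun y hy => by rw [← map_pow, hy]
  have hkc' : ∀ c ∈ kc', IsSeparable (ResidueField A) c ∧
      ((minpoly (ResidueField A) c).map (algebraMap (ResidueField A) (ResidueField C))).Splits := by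
    intro c hc
    obtain ⟨h1, h2⟩ := hkc (eA c) hc
    rw [minpoly.algEquiv_eq eA c] at h2
    have h3 : IsSeparable (ResidueField A) c := by
      have : (minpoly (ResidueField A) (eA c)).Separable := h1
      rwa [minpoly.algEquiv_eq eA c] at this
    refine ⟨h3, ?_⟩
    have h4 := h2.map eA.symm.toAlgHom.toRingHom
    rwa [Polynomial.map_map, show eA.symm.toAlgHom.toRingHom.comp (algebraMap (ResidueField A) κ) =
      algebraMap (ResidueField A) (ResidueField C) from eA.symm.toAlgHom.comp_algebraMap] at h4
  obtain ⟨A', iA', iA'd, iA'v, g, π₀, a₀, hA'c, hgl, hginj, hπ₀, ha₀, hres', hsurj⟩ :=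
    exists_small_dvr hp A C hAC kc'
  haveI := hA'c
  letI : Algebra A' C := g.toAlgebra
  haveI : IsLocalHom (algebraMap A' C) := hgl
  let φ : ResidueField A' →+* kc' := (ResidueField.map (algebraMap A' C)).codRestrict kc' fun x => by
    obtain ⟨a, rfl⟩ := residue_surjective x
    exact hres' a
  let eA' : ResidueField A' ≃+* kc' := RingEquiv.ofBijective φ ⟨φ.injective, fun c => by
    obtain ⟨a, ha⟩ := hsurj c c.2
    exact ⟨residue A' a, Subtype.ext ha⟩⟩
  haveI : IsAlgClosed (ResidueField A') := IsAlgClosed.of_ringEquiv _ _ eA'.symm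
  haveI : CharP (ResidueField A') p :=
    ((algebraMap (ResidueField A') (ResidueField C)).charP_iff (RingHom.injective _) p).2 inferInstance
  let LC := FractionRing C
  have hBL : Function.Injective (algebraMap C LC ∘ algebraMap B C) := (IsFractionRing.injective C LC).comp hBC
  have hBLC : Function.Injective (algebraMap B LC) := by
    rw [IsScalarTower.algebraMap_eq B C LC]
    exact hBL
  letI : Algebra L LC := (IsFractionRing.lift (K := L) hBLC).toAlgebra
  haveI : IsScalarTower B L LC := IsScalarTower.of_algebraMap_eq fun b => (IsFractionRing.lift_algebraMap hBLC b).symm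
  letI : Algebra K LC := ((algebraMap L LC).comp (algebraMap K L)).toAlgebra
  haveI : IsScalarTower K L LC := IsScalarTower.of_algebraMap_eq fun _ => rfl
  haveI : IsScalarTower A K LC := IsScalarTower.of_algebraMap_eq fun a => by
    show algebraMap A LC a = algebraMap L LC (algebraMap K L (algebraMap A K a))
    rw [← IsScalarTower.algebraMap_apply A K L, IsScalarTower.algebraMap_apply A B L,
      ← IsScalarTower.algebraMap_apply B L LC, IsScalarTower.algebraMap_apply B C LC,
      ← IsScalarTower.algebraMap_apply A B C, ← IsScalarTower.algebraMap_apply A C LC]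
  let K' := FractionRing A'
  have hA'L : Function.Injective (algebraMap A' LC) := by
    rw [IsScalarTower.algebraMap_eq A' C LC]
    exact (IsFractionRing.injective C LC).comp hginj
  letI : Algebra K' LC := (IsFractionRing.lift (K := K') hA'L).toAlgebra
  haveI : IsScalarTower A' K' LC := IsScalarTower.of_algebraMap_eq fun a => (IsFractionRing.lift_algebraMap hA'L a).symm
  let Ω := AlgebraicClosure LC
  obtain ⟨W, hWC⟩ := EtRamH7.exists_comap_eq (algebraMap LC Ω) (EtRamH7.rangeSubring C LC)
  have hW : EtRam.Dominates C (algebraMap C Ω) W := by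
    rw [IsScalarTower.algebraMap_eq C LC Ω]
    exact EtRamH7.dominates_trans (A := C) (g := algebraMap C LC) (by
      haveI : IsLocalHom (algebraMap C C) := isLocalHom_id C
      have h := EtRamH7.dominates_rangeSubring C C LC
      rwa [Algebra.algebraMap_self, RingHom.comp_id] at h) (algebraMap LC Ω)
      (hWC ▸ EtRamH7.dominates_self_comap (algebraMap LC Ω) W)
  obtain ⟨K₁, F, hI, -⟩ := exists_reach hp A' C K' LC Ω hginj hW fun x hx => by
    obtain ⟨a, ha⟩ := hsurj x (hperf' x hx)
    exact ⟨residue A' a, ha⟩
  obtain ⟨K₂, F₂, hn, hfin, hsub, hvg⟩ := exists_pair hp A A' C K K' LC Ω hginj hW π₀ hπ₀ a₀ ha₀ kc' hperf' hkc'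
    hres' hsurj K₁ F hI
  haveI := hn
  haveI := hfin
  refine ⟨K₂, inferInstance, inferInstance, hfin, ?_⟩
  exact (Groth.Agent.S1988.result A B C K L LC K₂ hinj hBC).1 (weakSolution_of_pair hW K₂ F₂ hsub hvg)

end Groth.Agent.S1979
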