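import Groth.Statements.S7140
import Mathlib.RingTheory.RootsOfUnity.Lemmas
import Mathlib.RingTheory.Polynomial.Cyclotomic.Roots
import Mathlib.NumberTheory.Wilson
import Mathlib.Data.Nat.Choose.Dvd
import Mathlib.RingTheory.AdjoinRoot
import Mathlib.Algebra.MvPolynomial.CommRing
import Mathlib.RingTheory.Polynomial.UniqueFactorization

set_option autoImplicit false
universe u
open EtAlg

namespace Groth.Agent.S7140

open Polynomial in
/-- Let p be a prime and A a ring with an element ζ satisfying 1 + ζ + ... + ζ^(p-1) = 0 (so that A is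
an algebra over the ring of integers of the p-th cyclotomic field); set w = 1 - ζ. Then the
polynomial ((1 + wz)^p - 1)/w^p makes sense in A[z]: there is P in A[z] with w^p·P = (1 + wz)^p - 1,
of the form z^p - z + Σ_{0<i<p} a_i z^i with all a_i in the ideal (w), and P(z₁ + z₂ + w z₁ z₂) =
P(z₁) + P(z₂) + w^p P(z₁)P(z₂) for all z₁, z₂ in any A-algebra. (The published statement asks only
for a primitive p-th root of unity; this row asks that ζ be a root of the p-th cyclotomic
polynomial, the case its proof treats. With ζ only of multiplicative order p the published statement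
fails, for example for ζ = (1, e^{2πi/p}) in ℂ × ℂ.) -/
theorem result (p : ℕ) (hp : p.Prime) (A : Type u) [CommRing A] (ζ : A)
    (hζ : aeval ζ (cyclotomic p ℤ) = 0) :
    ∃ P : A[X], C ((1 - ζ) ^ p) * P = (1 + C (1 - ζ) * X) ^ p - 1 ∧
      (∃ a : ℕ → A, (∀ i, a i ∈ Ideal.span {1 - ζ}) ∧
        P = X ^ p - X + (Finset.Ioo 0 p).sum (fun i => C (a i) * X ^ i)) ∧
      ∀ (S : Type u) [CommRing S] [Algebra A S] (z₁ z₂ : S),
        aeval (z₁ + z₂ + algebraMap A S (1 - ζ) * z₁ * z₂) P =
          aeval z₁ P + aeval z₂ P + algebraMap A S ((1 - ζ) ^ p) * aeval z₁ P * aeval z₂ P := by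
  classical
  haveI : Fact p.Prime := ⟨hp⟩
  let R := AdjoinRoot (cyclotomic p ℤ)
  haveI : Fact (Irreducible (cyclotomic p ℤ)) := ⟨cyclotomic.irreducible hp.pos⟩
  haveI : IsDomain R := AdjoinRoot.isDomain_of_prime (irreducible_iff_prime.1 (cyclotomic.irreducible hp.pos))
  let μ : R := AdjoinRoot.root (cyclotomic p ℤ)
  have hof : Function.Injective (AdjoinRoot.of (cyclotomic p ℤ)) :=
    AdjoinRoot.of.injective_of_degree_ne_zero (by
      rw [degree_cyclotomic]
      exact_mod_cast (Nat.totient_pos.2 hp.pos).ne')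
  haveI : CharZero R := charZero_of_injective_ringHom hof
  have hgeom : ∑ i ∈ Finset.range p, μ ^ i = 0 := by
    have key : ∀ (ψ : ℤ →+* R) (r : R),
        eval₂ ψ r (∑ i ∈ Finset.range p, X ^ i) = ∑ i ∈ Finset.range p, r ^ i := by
      intro ψ r
      simp [eval₂_finsetSum]
    rw [← key (AdjoinRoot.of (cyclotomic p ℤ)) μ, ← cyclotomic_prime]
    exact AdjoinRoot.eval₂_root _
  have hμp : μ ^ p = 1 := by
    have h := geom_sum_mul μ p
    rw [hgeom, zero_mul] at h
    exact sub_eq_zero.1 h.symm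
  have hμ1 : μ ≠ 1 := by
    intro h
    rw [h] at hgeom
    simp [hp.ne_zero] at hgeom
  have hprim : IsPrimitiveRoot μ (p - 1 + 1) := by
    have h := IsPrimitiveRoot.orderOf μ
    rw [orderOf_eq_prime hμp hμ1] at h
    rw [Nat.sub_add_cancel hp.one_le]
    exact h
  let w : R := 1 - μ
  have hw : w ≠ 0 := sub_ne_zero.2 hμ1.symm
  let U : R := ∏ k ∈ Finset.range (p - 1), ∑ a ∈ Finset.range (k + 1), μ ^ a
  have hpU : (p : R) = w ^ (p - 1) * U := by
    have h := IsPrimitiveRoot.prod_one_sub_pow_eq_order hprim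
    have h2 : (∏ k ∈ Finset.range (p - 1), (1 - μ ^ (k + 1))) = w ^ (p - 1) * U := by
      calc (∏ k ∈ Finset.range (p - 1), (1 - μ ^ (k + 1)))
          = ∏ k ∈ Finset.range (p - 1), (w * ∑ a ∈ Finset.range (k + 1), μ ^ a) :=
            Finset.prod_congr rfl fun k _ => (mul_neg_geom_sum μ (k + 1)).symm
        _ = w ^ (p - 1) * U := by
            rw [Finset.prod_mul_distrib, Finset.prod_const, Finset.card_range]
    rw [← h2, h]
    exact_mod_cast (congrArg (Nat.cast : ℕ → R) (Nat.sub_add_cancel hp.one_le)).symm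
  have hU1 : U + 1 ∈ Ideal.span {w} := by
    let q := Ideal.Quotient.mk (Ideal.span {w})
    rw [← Ideal.Quotient.eq_zero_iff_mem]
    show q (U + 1) = 0
    have hqw : q w = 0 := Ideal.Quotient.eq_zero_iff_mem.2 (Ideal.mem_span_singleton_self w)
    have hqμ : q μ = 1 := by
      rw [map_sub, map_one, sub_eq_zero] at hqw
      exact hqw.symm
    have hqp : q (p : R) = 0 := by
      rw [hpU, map_mul, map_pow, hqw, zero_pow (by have := hp.two_le; omega), zero_mul]
    obtain ⟨t, ht⟩ : p ∣ (p - 1).factorial + 1 := by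
      rw [← CharP.cast_eq_zero_iff (ZMod p) p]
      rw [Nat.cast_add, ZMod.wilsons_lemma, Nat.cast_one, neg_add_cancel]
    have hqU : q U = ((p - 1).factorial : ℕ) := by
      rw [← Finset.prod_range_add_one_eq_factorial, Nat.cast_prod, map_prod]
      refine Finset.prod_congr rfl fun k _ => ?_
      rw [map_sum]
      simp [hqμ]
    calc q (U + 1) = (((p - 1).factorial + 1 : ℕ) : R ⧸ Ideal.span {w}) := by
          rw [map_add, hqU, map_one, Nat.cast_add, Nat.cast_one]
      _ = 0 := by rw [ht, Nat.cast_mul, ← map_natCast q, hqp, zero_mul]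
  let c : ℕ → R := fun i => ((p.choose i / p : ℕ) : R) * U * w ^ (i - 1)
  have hc : ∀ i ∈ Finset.Ioo 0 p, w ^ p * c i = w ^ i * (p.choose i : R) := by
    intro i hi
    obtain ⟨hi0, hip⟩ := Finset.mem_Ioo.1 hi
    obtain ⟨d, hd⟩ := hp.dvd_choose_self hi0.ne' hip
    have hdd : p.choose i / p = d := by rw [hd, Nat.mul_div_cancel_left _ hp.pos]
    have h1 : w ^ p * w ^ (i - 1) = w ^ i * w ^ (p - 1) := by
      rw [← pow_add, ← pow_add]; congr 1; omega
    show w ^ p * (((p.choose i / p : ℕ) : R) * U * w ^ (i - 1)) = _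
    rw [hdd, hd, Nat.cast_mul, hpU]
    linear_combination ((d : R) * U) * h1
  let PR : R[X] := X ^ p + ∑ i ∈ Finset.Ioo 0 p, C (c i) * X ^ i
  have hrange : Finset.range (p + 1) = insert 0 (insert p (Finset.Ioo 0 p)) := by
    ext i
    simp only [Finset.mem_range, Finset.mem_insert, Finset.mem_Ioo]
    have := hp.pos
    omega
  have hPR : C (w ^ p) * PR = (1 + C w * X) ^ p - 1 := by
    rw [add_comm (1 : R[X]), add_pow, hrange, Finset.sum_insert (by simp [hp.ne_zero.symm]),
      Finset.sum_insert (by simp)]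
    simp only [one_pow, mul_one, pow_zero, Nat.choose_zero_right, Nat.cast_one, Nat.choose_self,
      mul_pow, ← C_pow]
    rw [mul_add, Finset.mul_sum, add_sub_cancel_left]
    congr 1
    refine Finset.sum_congr rfl fun i hi => ?_
    rw [← mul_assoc, ← C_mul, hc i hi, C_mul, map_natCast]
    ring
  let φ : R →+* A := AdjoinRoot.lift (Int.castRingHom A) ζ (by
    rw [aeval_def] at hζ
    exact hζ)
  have hφμ : φ μ = ζ := AdjoinRoot.lift_root _
  have hφw : φ w = 1 - ζ := by rw [map_sub, map_one, hφμ]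
  refine ⟨PR.map φ, ?_, ⟨fun i => φ (if i = 1 then c i + 1 else if i ∈ Finset.Ioo 0 p then c i else 0), ?_, ?_⟩, ?_⟩
  · have h := congrArg (Polynomial.map φ) hPR
    simp only [Polynomial.map_mul, Polynomial.map_C, Polynomial.map_sub, Polynomial.map_pow,
      Polynomial.map_add, Polynomial.map_one, Polynomial.map_X, map_pow, hφw] at h
    rw [C_pow]
    exact h
  · intro i
    rw [← hφw, ← Set.image_singleton, ← Ideal.map_span]
    refine Ideal.mem_map_of_mem φ ?_
    split_ifs with h1 h2
    · subst h1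
      show ((p.choose 1 / p : ℕ) : R) * U * w ^ (1 - 1) + 1 ∈ _
      rw [Nat.choose_one_right, Nat.div_self hp.pos, Nat.cast_one, one_mul, Nat.sub_self, pow_zero, mul_one]
      exact hU1
    · refine Ideal.mul_mem_left _ _ (Ideal.pow_mem_of_mem _ (Ideal.mem_span_singleton_self w) _ ?_)
      have := (Finset.mem_Ioo.1 h2).1
      omega
    · exact zero_mem _
  · have h1 : (1 : ℕ) ∈ Finset.Ioo 0 p := Finset.mem_Ioo.2 ⟨one_pos, hp.one_lt⟩
    have h2 : PR = X ^ p - X + ∑ i ∈ Finset.Ioo 0 p,
        C (if i = 1 then c i + 1 else if i ∈ Finset.Ioo 0 p then c i else 0) * X ^ i := by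
      have h3 : ∀ i ∈ Finset.Ioo 0 p,
          C (if i = 1 then c i + 1 else if i ∈ Finset.Ioo 0 p then c i else 0) * X ^ i =
            C (c i) * X ^ i + (if i = 1 then X else 0) := by
        intro i hi
        rcases eq_or_ne i 1 with rfl | hne
        · rw [if_pos rfl, if_pos rfl, C_add, C_1]; ring
        · rw [if_neg hne, if_neg hne, if_pos hi, add_zero]
      rw [Finset.sum_congr rfl h3, Finset.sum_add_distrib, Finset.sum_ite_eq' _ 1, if_pos h1]
      show X ^ p + _ = _
      ring
    conv_lhs => rw [h2]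
    simp [Polynomial.map_sum]
  · intro S _ _ z₁ z₂
    let Q := MvPolynomial (Fin 2) R
    let Z1 : Q := MvPolynomial.X 0
    let Z2 : Q := MvPolynomial.X 1
    let W : Q := MvPolynomial.C w
    have hW : W ≠ 0 := fun h => hw (MvPolynomial.C_injective _ _ (h.trans (map_zero _).symm))
    have halg : ∀ r : R, algebraMap R Q r = MvPolynomial.C r := fun r => rfl
    have hz : ∀ z : Q, W ^ p * aeval z PR = (1 + W * z) ^ p - 1 := fun z => by
      have h := congrArg (aeval z) hPR
      simpa [W, halg] using h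
    have hQ : aeval (Z1 + Z2 + W * Z1 * Z2) PR =
        aeval Z1 PR + aeval Z2 PR + W ^ p * aeval Z1 PR * aeval Z2 PR := by
      apply mul_left_cancel₀ (pow_ne_zero p hW)
      rw [mul_add, mul_add,
        show W ^ p * (W ^ p * aeval Z1 PR * aeval Z2 PR) = (W ^ p * aeval Z1 PR) * (W ^ p * aeval Z2 PR) by ring,
        hz, hz, hz, show 1 + W * (Z1 + Z2 + W * Z1 * Z2) = (1 + W * Z1) * (1 + W * Z2) by ring, mul_pow]
      ring
    let θ : R →+* S := (algebraMap A S).comp φ
    let ev : Q →+* S := MvPolynomial.eval₂Hom θ ![z₁, z₂]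
    have hev : ∀ z : Q, ev (aeval z PR) = aeval (ev z) (PR.map φ) := fun z => by
      rw [aeval_def, aeval_def, eval₂_map, hom_eval₂]
      congr 1
      exact RingHom.ext fun r => MvPolynomial.eval₂Hom_C θ _ r
    have h := congrArg ev hQ
    simp only [map_add, map_mul, map_pow, hev] at h
    have hW' : ev W = algebraMap A S (1 - ζ) :=
      (MvPolynomial.eval₂Hom_C θ _ w).trans (congrArg (algebraMap A S) hφw)
    have hZ1 : ev Z1 = z₁ := MvPolynomial.eval₂Hom_X' θ _ 0
    have hZ2 : ev Z2 = z₂ := MvPolynomial.eval₂Hom_X' θ _ 1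
    rw [hW', hZ1, hZ2, ← map_pow] at h
    exact h

end Groth.Agent.S7140
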