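import Groth.Statements.S6153
import Groth.Agent.Lib.ModFlat16.Generators

set_option autoImplicit false
universe u
open CategoryTheory
open ModSite

namespace Groth.Agent.S6153
set_option linter.style.haveILetI false
set_option backward.isDefEq.respectTransparency false
set_option backward.isDefEq.respectTransparency.types false


/-- Morphisms of ringed sites between small sites with commutative structure sheaves: for a morphism of
ringed sites f : (C, O_C) -> (D, O_D) given by a functor u : D -> C and every object X of D, the
inverse image f^*(A'_X) of the free O_D-module on X is isomorphic to the free O_C-module A_{u(X)} on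
u(X). Existence of an isomorphism of modules only (the source's isomorphism is the canonical one). -/
theorem result {C D : Type u} [SmallCategory C] [SmallCategory D] {J : GrothendieckTopology C}
    {K : GrothendieckTopology D} {O_C : Sheaf J CommRingCat.{u}} {O_D : Sheaf K CommRingCat.{u}}
    (f : ModSite.RMor O_C O_D) (X : D) :
    Nonempty (f.pull.obj (ModSite.freeOn O_D X) ≅ ModSite.freeOn O_C (f.fn.obj X)) := by
  let e : ∀ M, (f.pull.obj (ModSite.freeOn O_D X) ⟶ M) ≃ M.val.obj (Opposite.op (f.fn.obj X)) := fun M =>
    (f.adj.homEquiv _ _).trans (Groth.Agent.ModFlat16.freeOnHom O_D X (f.push.obj M))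
  have he : ∀ {M N} (h : f.pull.obj (ModSite.freeOn O_D X) ⟶ M) (g : M ⟶ N),
      e N (h ≫ g) = g.val.app (Opposite.op (f.fn.obj X)) (e M h) := fun {M N} h g => by
    show Groth.Agent.ModFlat16.freeOnHom O_D X (f.push.obj N) (f.adj.homEquiv _ _ (h ≫ g)) = _
    rw [Adjunction.homEquiv_naturality_right, Groth.Agent.ModFlat16.freeOnHom_comp]
    rfl
  refine ⟨Coyoneda.ext _ _
    (fun {M} h => (Groth.Agent.ModFlat16.freeOnHom O_C (f.fn.obj X) M).symm (e M h))
    (fun {M} h => (e M).symm (Groth.Agent.ModFlat16.freeOnHom O_C (f.fn.obj X) M h))
    (fun h => by simp) (fun h => by simp) (fun {M N} h g => ?_)⟩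
  apply (e N).injective
  rw [Equiv.apply_symm_apply, he, Groth.Agent.ModFlat16.freeOnHom_comp, Equiv.apply_symm_apply]

end Groth.Agent.S6153
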