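import Groth.Statements.S14765
import Groth.Agent.Lib.Subtr12.Basic
import Mathlib.Tactic.TFAE


set_option autoImplicit false
universe u
open CategoryTheory CategoryTheory.Limits AlgebraicGeometry
open Subtr

namespace Groth.Agent.S14765

/-- Let V be a valuation ring and f : X ⟶ Spec V any morphism of schemes. The following are equivalent:
(a) after every base change, every ordered pair of points of the target (a point and a
specialization of it) lifts to an ordered pair of points of the source; (b) every ordered pair of
points of Spec V lifts to an ordered pair of points of X; (c) every point of Spec V is the image of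
a point of X lying in the closure of the generic fibre; (d) the pair formed by the closed point and
the generic point of Spec V lifts to points x, x' of X with x a specialization of x'; (e) there are
a valuation ring W and a morphism Spec W ⟶ X whose composite with f is surjective; (f) there is a
closed subscheme Z of X such that Z ⟶ Spec V is flat and surjective. (The published list also
contains subtrusiveness and universal subtrusiveness, which add submersiveness for the constructible
topology, and the lifting of arbitrary chains of points; this row omits those items and keeps the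
lifting property alone in (a).) -/
theorem result (V : Type u) [CommRing V] [IsDomain V] [ValuationRing V]
    {X : Scheme.{u}} (f : X ⟶ Spec (CommRingCat.of V)) :
    List.TFAE [
      Subtr.UnivSSubtrusive f,
      Subtr.IsSSubtrusive f,
      ∀ y : Spec (CommRingCat.of V), ∃ x : X,
        x ∈ closure (f ⁻¹' {(⟨⊥, Ideal.isPrime_bot⟩ : PrimeSpectrum V)}) ∧ f x = y,
      ∃ x x' : X, x' ⤳ x ∧ f x = IsLocalRing.closedPoint V ∧
        f x' = (⟨⊥, Ideal.isPrime_bot⟩ : PrimeSpectrum V),
      ∃ (W : Type u) (_ : CommRing W) (_ : IsDomain W) (_ : ValuationRing W)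
        (g : Spec (CommRingCat.of W) ⟶ X), Surjective (g ≫ f),
      ∃ (Z : Scheme.{u}) (i : Z ⟶ X), IsClosedImmersion i ∧ Flat (i ≫ f) ∧ Surjective (i ≫ f)] := by
  tfae_have 1 → 2 := Subtr12.isSSubtrusive_of_univ
  tfae_have 2 → 3 := fun h y => by
    obtain ⟨x, x', hx, h1, h2⟩ := h (y := y) (y' := (⟨⊥, Ideal.isPrime_bot⟩ : PrimeSpectrum V))
      ((PrimeSpectrum.le_iff_specializes _ _).1 bot_le)
    exact ⟨x, hx.mem_closed isClosed_closure (subset_closure h2), h1⟩
  tfae_have 3 → 4 := fun h => by
    obtain ⟨x, hx, h1⟩ := h (IsLocalRing.closedPoint V)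
    obtain ⟨x', hx', h2⟩ := Subtr12.exists_generic_over f hx
    exact ⟨x, x', hx', h1, h2⟩
  tfae_have 4 → 5 := fun ⟨x, x', hx, h1, h2⟩ => Subtr12.exists_valRing_surjective f hx h1 h2
  tfae_have 5 → 6 := fun ⟨W, _, _, _, g, hg⟩ => @Subtr12.exists_flat_closed _ _ _ _ _ _ _ _ _ f g hg
  tfae_have 6 → 1 := fun ⟨Z, i, _, hfl, hs⟩ => @Subtr12.univ_of_flat_of_comp _ _ _ f i hfl hs
  tfae_finish


end Groth.Agent.S14765
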