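import Groth.Statements.S14766
import Groth.Agent.Lib.Subtr12.Basic
import Mathlib.RingTheory.DiscreteValuationRing.Basic
import Mathlib.RingTheory.Spectrum.Prime.LTSeries


set_option autoImplicit false
universe u
set_option linter.style.haveILetI false
open CategoryTheory CategoryTheory.Limits AlgebraicGeometry
open Subtr

namespace Groth.Agent.S14766

/-- Let V be a discrete valuation ring and f : X ⟶ Spec V any morphism of schemes. Then the underlying
continuous map of f is a quotient map (f is submersive) if and only if every ordered pair of points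
of Spec V lifts to an ordered pair of points of X. -/
theorem result (V : Type u) [CommRing V] [IsDomain V]
    [IsDiscreteValuationRing V] {X : Scheme.{u}} (f : X ⟶ Spec (CommRingCat.of V)) :
    Topology.IsQuotientMap f ↔ Subtr.IsSSubtrusive f := by
  have hcases : ∀ y : Spec (CommRingCat.of V), y = (⟨⊥, Ideal.isPrime_bot⟩ : PrimeSpectrum V) ∨
      y = IsLocalRing.closedPoint V := fun y => by
    rcases eq_or_ne y.asIdeal ⊥ with h | h
    · exact Or.inl (PrimeSpectrum.ext h)
    · exact Or.inr (PrimeSpectrum.ext (IsLocalRing.eq_maximalIdeal (y.isPrime.isMaximal h)))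
  have hne : (⟨⊥, Ideal.isPrime_bot⟩ : PrimeSpectrum V) ≠ IsLocalRing.closedPoint V := fun e =>
    IsDiscreteValuationRing.not_a_field V (congrArg PrimeSpectrum.asIdeal e).symm
  constructor
  · intro h y y' hy
    obtain ⟨x, rfl⟩ := h.surjective y
    rcases hcases (f x) with hx | hx
    · have : y' = f x := by
        rw [hx] at hy ⊢
        exact ValSq12.eq_generic_of_specializes hy
      exact ⟨x, x, specializes_rfl, rfl, this.symm⟩
    · rcases hcases y' with hy' | hy'
      · by_cases hmeet : ∃ z ∈ closure (f ⁻¹' {(⟨⊥, Ideal.isPrime_bot⟩ : PrimeSpectrum V)}),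
            f z = IsLocalRing.closedPoint V
        · obtain ⟨z, hz, hzc⟩ := hmeet
          obtain ⟨z', hz', h2⟩ := Subtr12.exists_generic_over f hz
          exact ⟨z, z', hz', hzc.trans hx.symm, h2.trans hy'.symm⟩
        · have hcl : IsClosed (f ⁻¹' {(⟨⊥, Ideal.isPrime_bot⟩ : PrimeSpectrum V)}) :=
            isClosed_of_closure_subset fun z hz => (hcases (f z)).resolve_right fun e => hmeet ⟨z, hz, e⟩
          exact absurd ((h.isClosed_preimage.1 hcl).closure_subset
            ((IsLocalRing.specializes_closedPoint _).mem_closure)).symm hne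
      · exact ⟨x, x, specializes_rfl, rfl, hx.trans hy'.symm⟩
  · intro h
    refine Topology.isQuotientMap_iff_isClosed.2 ⟨fun y => ?_, fun C => ⟨fun hC => hC.preimage f.continuous,
      fun hC => ?_⟩⟩
    · obtain ⟨x, -, -, h1, -⟩ := h (specializes_refl y)
      exact ⟨x, h1⟩
    have hcl : IsClosed ({IsLocalRing.closedPoint V} : Set (Spec (CommRingCat.of V))) :=
      IsLocalRing.isClosed_singleton_closedPoint V
    by_cases h0 : (⟨⊥, Ideal.isPrime_bot⟩ : PrimeSpectrum V) ∈ C
    · have hm : IsLocalRing.closedPoint V ∈ C := by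
        obtain ⟨x, x', hx, h1, h2⟩ := h (IsLocalRing.specializes_closedPoint
          ((⟨⊥, Ideal.isPrime_bot⟩ : PrimeSpectrum V) : Spec (CommRingCat.of V)))
        exact h1 ▸ hx.mem_closed hC (show f x' ∈ C from h2 ▸ h0)
      rw [show C = Set.univ from Set.eq_univ_of_forall fun y => (hcases y).elim (fun e => e ▸ h0) fun e => e ▸ hm]
      exact isClosed_univ
    · by_cases hm : IsLocalRing.closedPoint V ∈ C
      · convert hcl
        exact Set.ext fun y => ⟨fun hy => (hcases y).resolve_left fun e => h0 (e ▸ hy), fun e => e ▸ hm⟩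
      · rw [show C = ∅ from Set.eq_empty_of_forall_notMem fun y hy => (hcases y).elim (fun e => h0 (e ▸ hy)) fun e => hm (e ▸ hy)]
        exact isClosed_empty


end Groth.Agent.S14766
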