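import Groth.Statements.S14770
import Groth.Agent.Lib.Subtr12.Noeth


set_option autoImplicit false
universe u
open CategoryTheory CategoryTheory.Limits AlgebraicGeometry
open Subtr

namespace Groth.Agent.S14770

set_option backward.isDefEq.respectTransparency.types false

/-- Let Y be a locally Noetherian scheme and f : X ⟶ Y a quasi-compact morphism. Then f is universally
submersive if and only if every base change of f has the lifting property for ordered pairs of
points. (The published statement assumes f universally submersive for the constructible topologies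
rather than quasi-compact; for quasi-compact morphisms both sides force surjectivity and that
condition follows.) -/
theorem result {X Y : Scheme.{u}}
    [IsLocallyNoetherian Y] (f : X ⟶ Y) [QuasiCompact f] :
    SGA1.UnivSubmersive f ↔ Subtr.UnivSSubtrusive f := by
  refine ⟨fun hf => Groth.Agent.Subtr12.univ_of_forall_valRing f fun V _ _ _ g => ?_,
    Groth.Agent.Subtr12.univSubmersive_of_univSSubtrusive f⟩
  refine ((Groth.Agent.S14765.result V (pullback.snd f g)).out 3 1 rfl rfl).1 ?_
  obtain ⟨U, hU, hgU, -⟩ := exists_isAffineOpen_mem_and_subset (X := Y)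
    (x := g (IsLocalRing.closedPoint V)) (U := ⊤) trivial
  have : IsNoetherianRing Γ(Y, U) := IsLocallyNoetherian.component_noetherian ⟨U, hU⟩
  have hrange : Set.range g ⊆ Set.range hU.fromSpec := by
    rintro _ ⟨z, rfl⟩
    rw [hU.range_fromSpec]
    exact ((IsLocalRing.specializes_closedPoint z).map g.continuous).mem_open U.isOpen hgU
  let g' := IsOpenImmersion.lift hU.fromSpec g hrange
  let fR := pullback.snd f hU.fromSpec
  have hfR : SGA1.UnivSubmersive fR :=
    (MorphismProperty.universally_isStableUnderBaseChange _).of_isPullback
      (IsPullback.of_hasPullback f hU.fromSpec) hf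
  let ψ := Spec.preimage g'
  let : Algebra Γ(Y, U) V := ψ.hom.toAlgebra
  obtain ⟨x, x', hxx', hx, hx'⟩ :=
    Groth.Agent.Subtr12.exists_pair_of_univSubmersive (R := Γ(Y, U)) fR hfR V
  let gV := Spec.map (CommRingCat.ofHom (algebraMap Γ(Y, U) V))
  have hgV : gV ≫ hU.fromSpec = g := by
    show Spec.map ψ ≫ _ = g
    rw [Spec.map_preimage, IsOpenImmersion.lift_fac]
  let m : pullback fR gV ⟶ pullback f g :=
    pullback.lift (pullback.fst fR gV ≫ pullback.fst f hU.fromSpec) (pullback.snd fR gV) (by
      rw [Category.assoc, pullback.condition, ← Category.assoc, pullback.condition, Category.assoc,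
        hgV])
  refine ⟨m x, m x', hxx'.map m.continuous, ?_, ?_⟩
  · rw [← Scheme.Hom.comp_apply, pullback.lift_snd]
    exact hx
  · rw [← Scheme.Hom.comp_apply, pullback.lift_snd]
    exact hx'


end Groth.Agent.S14770
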