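import Groth.Statements.S14792
import Groth.Agent.Lib.SubtrDesc12.Main
import Groth.Agent.Lib.Descend.FgModel
import Groth.Agent.S14770
-- import your own Groth.Agent.* helpers here

set_option autoImplicit false
set_option backward.isDefEq.respectTransparency false
universe u
open CategoryTheory CategoryTheory.Limits AlgebraicGeometry
open Subtr

namespace Groth.Agent.S14792

/-- (i) ⇔ (iii): let A be a commutative ring and f : X ⟶ Spec A a morphism of finite presentation. Then
every base change of f has the lifting property for ordered pairs of points if and only if there are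
a finitely generated subring A₀ ⊆ A, a scheme X₀ and a universally submersive morphism f₀ : X₀ ⟶
Spec A₀ of finite presentation such that f is the base change of f₀ along Spec A ⟶ Spec A₀. -/
theorem result (A : Type u) [CommRing A]
    {X : Scheme.{u}} (f : X ⟶ Spec (CommRingCat.of A))
    [LocallyOfFinitePresentation f] [QuasiCompact f] [QuasiSeparated f] :
    Subtr.UnivSSubtrusive f ↔
      ∃ (A₀ : Subalgebra ℤ A) (_ : A₀.FG) (X₀ : Scheme.{u}) (f₀ : X₀ ⟶ Spec (CommRingCat.of A₀))
        (q : X ⟶ X₀), IsPullback q f f₀ (Spec.map (CommRingCat.ofHom A₀.val.toRingHom)) ∧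
        LocallyOfFinitePresentation f₀ ∧ QuasiCompact f₀ ∧ QuasiSeparated f₀ ∧
        SGA1.UnivSubmersive f₀ := by
  constructor
  · intro hf
    obtain ⟨A₀, hA₀, X₀, f₀, q, hf₀, hfp, hqc, hpb⟩ :=
      Descend.exists_fg_model Subtr.UnivSSubtrusive Subtr.UnivSSubtrusive f hf
        (fun {I} _ _ {S X' D t f' c q P p g} _ hc _ _ _ _ hq hP hg => by
          haveI : QuasiCompact (f' ≫ terminal.from S) :=
            (quasiCompact_iff_compactSpace _).2 inferInstance
          haveI : QuasiCompact f' := QuasiCompact.of_comp f' (terminal.from S)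
          obtain ⟨k, hk⟩ := SubtrDesc12.exists_stage_of_ultra D t c hc q hq
            (fun W _ _ _ x => SubtrDesc12.GenS (pullback.snd f' x))
            (fun ι U V _ _ _ A y σ h => SubtrDesc12.eventually_genS f' U V y σ h)
            (fun W _ _ _ x => (SubtrDesc12.genS_pullback_iff (IsPullback.of_hasPullback f' (x ≫ q))
              ((IsPullback.of_hasPullback g x).paste_horiz hP)).2
              (SubtrDesc12.genS_of_univSSubtrusive hg (IsPullback.of_hasPullback g x)))
          exact ⟨k, SubtrDesc12.univSSubtrusive_of_genS fun W _ _ _ x =>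
            (SubtrDesc12.genS_pullback_iff ((IsPullback.of_hasPullback _ x).paste_horiz
              (IsPullback.of_hasPullback f' (t.app k))) (IsPullback.of_hasPullback f' (x ≫ t.app k))).2
              (hk W x)⟩)
    haveI : Algebra.FiniteType ℤ A₀ := (Subalgebra.fg_iff_finiteType A₀).1 hA₀
    haveI : IsNoetherianRing A₀ := Algebra.FiniteType.isNoetherianRing ℤ A₀
    haveI : IsLocallyNoetherian X₀ := LocallyOfFiniteType.isLocallyNoetherian f₀
    exact ⟨A₀, hA₀, X₀, f₀, q, hpb, hfp, hqc, inferInstance,
      (Groth.Agent.S14770.result f₀).2 hf₀⟩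
  · rintro ⟨A₀, hA₀, X₀, f₀, q, hpb, hfp, hqc, hqs, hsub⟩
    haveI : Algebra.FiniteType ℤ A₀ := (Subalgebra.fg_iff_finiteType A₀).1 hA₀
    haveI : IsNoetherianRing A₀ := Algebra.FiniteType.isNoetherianRing ℤ A₀
    have h : Subtr.UnivSSubtrusive f₀ := (Groth.Agent.S14770.result f₀).1 hsub
    exact MorphismProperty.IsStableUnderBaseChange.of_isPullback
      (self := by unfold Subtr.UnivSSubtrusive; infer_instance) hpb h

end Groth.Agent.S14792
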