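import Groth.Statements.S14020
import Mathlib.RingTheory.Ideal.AssociatedPrime.Finiteness
import Mathlib.RingTheory.Jacobson.Ring
import Mathlib.RingTheory.Artinian.Module
import Mathlib.RingTheory.Artinian.Ring
import Mathlib.RingTheory.Regular.IsSMulRegular
import Mathlib.RingTheory.AdicCompletion.Basic
import Mathlib.RingTheory.IntegralDomain
import Mathlib.RingTheory.FinitePresentation
import Mathlib.RingTheory.Flat.FaithfullyFlat.Basic
import Mathlib.RingTheory.Flat.FaithfullyFlat.Algebra
import Mathlib.RingTheory.IntegralClosure.IntegrallyClosed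
import Mathlib.LinearAlgebra.Matrix.MvPolynomial
import Mathlib.RingTheory.Polynomial.Basic
import Mathlib.RingTheory.Localization.FractionRing
import Mathlib.RingTheory.IntegralClosure.IsIntegral.Basic
import Mathlib.LinearAlgebra.TensorProduct.Tower
import Mathlib.RingTheory.Ideal.Quotient.Operations
import Mathlib.RingTheory.Ideal.Colon
import Mathlib.RingTheory.Support
import Mathlib.RingTheory.Noetherian.OfPrime
import Mathlib.RingTheory.HopkinsLevitzki
import Mathlib.RingTheory.Ideal.AssociatedPrime.Localization
import Mathlib.RingTheory.Flat.FaithfullyFlat.Descent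
import Mathlib.LinearAlgebra.TensorProduct.Quotient
import Mathlib.LinearAlgebra.TensorProduct.RightExactness
import Mathlib.RingTheory.PrincipalIdealDomain
import Mathlib.LinearAlgebra.Matrix.Charpoly.Basic
import Mathlib.RingTheory.Flat.Stability
import Mathlib.RingTheory.Nilpotent.Lemmas
import Mathlib.Algebra.Module.Projective
import Mathlib.RingTheory.LocalRing.ResidueField.Basic
import Mathlib.GroupTheory.OrderOfElement
import Mathlib.Algebra.EuclideanDomain.Int
import Mathlib.RingTheory.Spectrum.Maximal.Basic

set_option autoImplicit false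
universe u
open CAlg

namespace Groth.Agent.S14020
open TensorProduct

/-- Let R be a commutative ring and I a finitely generated ideal such that the quotient ring R/I is
artinian. Then R/I^n is artinian for every n. -/
theorem result
    (R : Type u) [CommRing R] (I : Ideal R) (hI : I.FG) [IsArtinianRing (R ⧸ I)] (n : ℕ) :
    IsArtinianRing (R ⧸ I ^ n) := by
  have hle : ∀ P : Ideal (R ⧸ I ^ n), P.IsPrime → I ≤ P.comap (Ideal.Quotient.mk _) := fun P hP => by
    refine (Ideal.IsPrime.pow_le_iff (I := I) (P := P.comap (Ideal.Quotient.mk _)) (n := n) ?_).1 ?_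
    · intro hn; subst hn
      have := Ideal.Quotient.subsingleton_iff.2 (show I ^ 0 = ⊤ by simp)
      exact hP.ne_top (Subsingleton.elim _ _)
    · intro x hx; simp [Ideal.Quotient.eq_zero_iff_mem.2 hx]
  have : IsNoetherianRing (R ⧸ I ^ n) := IsNoetherianRing.of_prime fun P hP => by
    set Q := P.comap (Ideal.Quotient.mk (I ^ n))
    have hQ : Q.FG := by
      refine Submodule.fg_of_fg_map_of_fg_inf_ker (Submodule.mkQ I) ?_ ?_
      · have := IsNoetherian.noetherian (R := R ⧸ I) (Q.map (Ideal.Quotient.mk I))
        have e : Submodule.map (Submodule.mkQ I) Q = ((Q.map (Ideal.Quotient.mk I)).restrictScalars R) := by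
          ext x
          simp [Ideal.mem_map_iff_of_surjective _ Ideal.Quotient.mk_surjective]
        rw [e]
        exact Submodule.FG.restrictScalars_of_surjective this Ideal.Quotient.mk_surjective
      · rw [Submodule.ker_mkQ, inf_eq_right.2 (hle P hP)]; exact hI
    rw [show P = Q.map (Ideal.Quotient.mk (I ^ n)) from (Ideal.map_comap_of_surjective _ Ideal.Quotient.mk_surjective P).symm]
    exact hQ.map _
  rw [isArtinianRing_iff_isNoetherianRing_krullDimLE_zero]
  refine ⟨this, Ring.krullDimLE_zero_iff.2 fun P hP => ?_⟩
  set Q := P.comap (Ideal.Quotient.mk (I ^ n))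
  have : Q.IsMaximal := by
    have hp : (Q.map (Ideal.Quotient.mk I)).IsPrime := Ideal.map_isPrime_of_surjective Ideal.Quotient.mk_surjective (by simpa using hle P hP)
    have := IsArtinianRing.isMaximal_of_isPrime (Q.map (Ideal.Quotient.mk I))
    have h2 := Ideal.comap_isMaximal_of_surjective (Ideal.Quotient.mk I) Ideal.Quotient.mk_surjective (K := Q.map (Ideal.Quotient.mk I))
    rwa [Ideal.comap_map_of_surjective _ Ideal.Quotient.mk_surjective, ← RingHom.ker_eq_comap_bot, Ideal.mk_ker, sup_eq_left.2 (hle P hP)] at h2
  have h3 := Ideal.map_eq_top_or_isMaximal_of_surjective (Ideal.Quotient.mk (I ^ n)) Ideal.Quotient.mk_surjective this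
  rw [Ideal.map_comap_of_surjective _ Ideal.Quotient.mk_surjective] at h3
  exact h3.resolve_left hP.ne_top

end Groth.Agent.S14020
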