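import Groth.Statements.S13621
import Groth.Agent.Lib.ARSys.Basic

set_option autoImplicit false
open CategoryTheory CategoryTheory.Limits Opposite
universe v u
open ARSys

namespace Groth.Agent.S13621
open Groth.Agent.AR

/-- The inverse limit is a well-defined functor on projective systems up to translation. Concretely: in
an abelian category with limits of shape ℕᵒᵖ, a morphism u : X ⟶ Y of projective systems indexed by
the natural numbers whose kernel and cokernel are null up to translation induces an isomorphism lim
X ⟶ lim Y. (The published statement is the functoriality of lim on the category of systems up to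
translation; combined with the description of isomorphisms there as the morphisms with null kernel
and cokernel, this is the form stated.) -/
theorem result {C : Type u} [Category.{v} C] [Abelian C] [HasLimitsOfShape ℕᵒᵖ C]
    {X Y : ARSys.PS C} (u : X ⟶ Y) (hu : ARSys.IsARIso u) : IsIso (limMap u) := by
  obtain ⟨r, ⟨p⟩⟩ := (isARIso_iff u).1 hu
  let c : Cone X :=
    { pt := limit Y
      π :=
        { app := fun a => limit.π Y (op (a.unop + r)) ≫ p.w a.unop (a.unop + r) le_rfl
          naturality := fun a b g => by
            have hba : b.unop ≤ a.unop := leOfHom g.unop
            have := p.nat (le_refl (b.unop + r)) (le_refl (a.unop + r)) hba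
              (Nat.add_le_add_right hba r)
            change 𝟙 _ ≫ _ = (_ ≫ _) ≫ ARSys.tr X hba
            rw [Category.id_comp, Category.assoc, ← this, ← Category.assoc,
              ← limit.w Y (homOfLE (Nat.add_le_add_right hba r)).op] } }
  refine ⟨limit.lift X c, ?_, ?_⟩
  · refine limit.hom_ext fun a => ?_
    obtain ⟨n⟩ := a
    rw [Category.assoc, limit.lift_π]
    change limMap u ≫ limit.π Y (op (n + r)) ≫ p.w n (n + r) le_rfl = _
    rw [limMap_π_assoc, p.u_w, Category.id_comp]
    exact limit.w X _
  · refine limit.hom_ext fun a => ?_
    obtain ⟨n⟩ := a
    rw [Category.assoc, limMap_π, limit.lift_π_assoc]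
    change (limit.π Y (op (n + r)) ≫ p.w n (n + r) le_rfl) ≫ u.app (op n) = _
    rw [Category.assoc, p.w_u, Category.id_comp]
    exact limit.w Y _

end Groth.Agent.S13621
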