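import Groth.Statements.S17725


set_option autoImplicit false
universe u
open SpecSp

namespace Groth.Agent.S17725

open AlgebraicGeometry in
/-- In a connected Noetherian scheme any two points p, q are linked by a finite chain of points p = x₁,
…, xₙ = q such that for each i one of x_i, x_{i+1} is a specialization of the other; equivalently, p
and q are related by the equivalence relation generated by the specialization relation. -/
theorem result
    (X : Scheme.{u}) [IsNoetherian X] [ConnectedSpace X] (p q : X) :
    Relation.EqvGen (fun x y : X => x ⤳ y) p q := by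
  classical
  set S := {y : X | Relation.EqvGen (fun x y : X => x ⤳ y) p y} with hS
  have hsat : ∀ y, ∀ η : X, IsGenericPoint η (irreducibleComponent y) →
      (Relation.EqvGen (fun x y : X => x ⤳ y) η y) := fun y η hη ↦
    .rel _ _ (hη.specializes mem_irreducibleComponent)
  choose η hη using fun y : X ↦ QuasiSober.sober (irreducibleComponent_mem_irreducibleComponents y).1
    (isClosed_irreducibleComponent (x := y))
  have hfin := TopologicalSpace.NoetherianSpace.finite_irreducibleComponents (α := X)
  have hcl : ∀ T : Set X, (∀ a b : X, a ⤳ b → (a ∈ T ↔ b ∈ T)) → IsClosed T := by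
    intro T hT
    have e : T = ⋃ Z ∈ {Z ∈ irreducibleComponents X | Z ⊆ T}, Z := by
      refine subset_antisymm (fun y hy ↦ Set.mem_iUnion₂.2 ⟨_,
        ⟨irreducibleComponent_mem_irreducibleComponents y, fun z hz ↦ ?_⟩,
        mem_irreducibleComponent⟩) (Set.iUnion₂_subset fun Z hZ ↦ hZ.2)
      have h1 := (hT _ _ ((hη y).specializes mem_irreducibleComponent)).2 hy
      exact (hT _ _ ((hη y).specializes hz)).1 h1
    rw [e]
    exact (hfin.subset (Set.sep_subset _ _)).isClosed_biUnion
      fun Z hZ ↦ isClosed_of_mem_irreducibleComponents Z hZ.1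
  have hclop : IsClopen S := by
    have hh : ∀ a b : X, a ⤳ b → (a ∈ S ↔ b ∈ S) := fun a b hab ↦
      ⟨fun ha ↦ ha.trans _ _ _ (.rel _ _ hab),
        fun hb ↦ hb.trans _ _ _ (.symm _ _ (.rel _ _ hab))⟩
    refine ⟨hcl S hh, isClosed_compl_iff.1 (hcl Sᶜ fun a b hab ↦ not_congr (hh a b hab))⟩
  have : S = Set.univ := (isClopen_iff.1 hclop).resolve_left
    fun h ↦ (Set.ext_iff.1 h p).1 (.refl p)
  exact (this.symm ▸ Set.mem_univ q : q ∈ S)

end Groth.Agent.S17725
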