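import Groth.Statements.S1987
import Mathlib.RingTheory.Polynomial.Eisenstein.Basic
import Mathlib.RingTheory.AdjoinRoot
import Mathlib.RingTheory.DiscreteValuationRing.TFAE
import Mathlib.RingTheory.Polynomial.UniqueFactorization
import Mathlib.RingTheory.Ideal.GoingUp
import Mathlib.RingTheory.Valuation.ValuationSubring

set_option autoImplicit false
universe u
open Polynomial
open EtAlg

namespace Groth.Agent.S1987

/-- Let A be a discrete valuation ring with uniformizer π and n ≥ 2, and let A' = A[x]/(x^n - π). Then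
x^n - π is irreducible over A, A' is an integrally closed discrete valuation ring (so it is the
integral closure of A in its fraction field K₁ = K(π^{1/n}), of degree n over K), the maximal ideal
of A generates the n-th power of the maximal ideal of A' (ramification index n), and K₁ is totally
ramified with respect to A. -/
theorem result (A : Type u) [CommRing A] [IsDomain A] [IsDiscreteValuationRing A] (π : A)
    (hπ : Irreducible π) (n : ℕ) (hn : 2 ≤ n) :
    Irreducible (X ^ n - C π : A[X]) ∧
    ∃ (_ : IsDomain (AdjoinRoot (X ^ n - C π : A[X]))) (_ : IsDiscreteValuationRing (AdjoinRoot (X ^ n - C π : A[X]))),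
      IsIntegrallyClosed (AdjoinRoot (X ^ n - C π : A[X])) ∧
      (IsLocalRing.maximalIdeal A).map (algebraMap A (AdjoinRoot (X ^ n - C π : A[X]))) = IsLocalRing.maximalIdeal (AdjoinRoot (X ^ n - C π : A[X])) ^ n ∧
      ∀ (K₁ : Type u) [Field K₁] [Algebra (AdjoinRoot (X ^ n - C π : A[X])) K₁] [IsFractionRing (AdjoinRoot (X ^ n - C π : A[X])) K₁],
        EtRam.IsTotallyRamified A ((algebraMap (AdjoinRoot (X ^ n - C π : A[X])) K₁).comp (algebraMap A (AdjoinRoot (X ^ n - C π : A[X])))) := by
  classical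
  set f : A[X] := X ^ n - C π with hf
  have hmax : IsLocalRing.maximalIdeal A = Ideal.span {π} := hπ.maximalIdeal_eq
  have hn0 : n ≠ 0 := by omega
  have hmonic : f.Monic := monic_X_pow_sub_C π hn0
  have hdeg : f.natDegree = n := natDegree_X_pow_sub_C
  have hirr : Irreducible f := by
    refine Polynomial.IsEisensteinAt.irreducible (𝓟 := IsLocalRing.maximalIdeal A) ⟨?_, ?_, ?_⟩
      inferInstance hmonic.isPrimitive (by omega)
    · rw [hmonic.leadingCoeff]; exact (IsLocalRing.maximalIdeal.isMaximal A).isPrime.one_notMem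
    · intro k hk
      rw [hdeg] at hk
      rw [hf, coeff_sub, coeff_X_pow, if_neg (by omega), zero_sub, coeff_C, neg_mem_iff, hmax]
      split_ifs
      · exact Ideal.mem_span_singleton_self π
      · exact zero_mem _
    · rw [hf, coeff_sub, coeff_X_pow, if_neg (by omega), zero_sub, coeff_C_zero, neg_mem_iff, hmax,
        Ideal.span_singleton_pow, Ideal.mem_span_singleton]
      intro h
      obtain ⟨c, hc⟩ := h
      have h1 : π * (π * c) = π * 1 := by rw [mul_one, ← mul_assoc, ← pow_two, ← hc]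
      exact hπ.not_isUnit (IsUnit.of_mul_eq_one c (mul_left_cancel₀ hπ.ne_zero h1))
  refine ⟨hirr, ?_⟩
  haveI hdom : IsDomain (AdjoinRoot f) := AdjoinRoot.isDomain_of_prime hirr.prime
  set R := AdjoinRoot f
  set x : R := AdjoinRoot.root f with hxdef
  have hxn : x ^ n = algebraMap A R π := by
    have h := AdjoinRoot.eval₂_root f
    simp only [hf, eval₂_sub, eval₂_X_pow, eval₂_C, sub_eq_zero] at h
    exact h
  have hinj : Function.Injective (algebraMap A R) := AdjoinRoot.of.injective_of_degree_ne_zero (by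
    rw [degree_eq_natDegree hirr.ne_zero, hdeg]; exact_mod_cast hn0)
  haveI : Module.Finite A R := hmonic.finite_adjoinRoot
  haveI : IsNoetherianRing R := isNoetherianRing_of_surjective A[X] R (AdjoinRoot.mk f) AdjoinRoot.mk_surjective
  have hconst : ∀ r : R, ∃ a : A, r - algebraMap A R a ∈ Ideal.span {x} := fun r => by
    induction r using AdjoinRoot.induction_on with
    | _ p =>
      refine ⟨p.coeff 0, Ideal.mem_span_singleton'.mpr ⟨AdjoinRoot.mk f p.divX, ?_⟩⟩
      conv_rhs => arg 1; rw [← Polynomial.divX_mul_X_add p, map_add, map_mul]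
      rw [AdjoinRoot.mk_X, AdjoinRoot.mk_C]
      show _ = _ + algebraMap A R _ - algebraMap A R _
      rw [add_sub_cancel_right]
  have hmaxR : ∀ m : Ideal R, m.IsMaximal → m = Ideal.span {x} := by
    intro m hm
    have h1 : (m.comap (algebraMap A R)).IsMaximal :=
      Ideal.isMaximal_comap_of_isIntegral_of_isMaximal m
    have hπm : algebraMap A R π ∈ m := by
      have := IsLocalRing.eq_maximalIdeal h1
      exact (this.symm ▸ (hmax ▸ Ideal.mem_span_singleton_self π) : π ∈ m.comap (algebraMap A R))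
    have hxm : x ∈ m := hm.isPrime.mem_of_pow_mem n (hxn ▸ hπm)
    refine le_antisymm (fun r hr => ?_) ((Ideal.span_singleton_le_iff_mem _).mpr hxm)
    obtain ⟨a, ha⟩ := hconst r
    have ha' : algebraMap A R a ∈ m := by
      have := m.sub_mem hr (((Ideal.span_singleton_le_iff_mem _).mpr hxm : Ideal.span {x} ≤ m) ha)
      rwa [sub_sub_cancel] at this
    have haπ : a ∈ Ideal.span {π} := by
      rw [← hmax]; exact IsLocalRing.le_maximalIdeal h1.ne_top ha'
    obtain ⟨c, rfl⟩ := Ideal.mem_span_singleton'.mp haπ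
    have h2 : algebraMap A R (c * π) ∈ Ideal.span {x} := by
      rw [map_mul, ← hxn]
      exact Ideal.mul_mem_left _ _ (Ideal.pow_mem_of_mem _ (Ideal.mem_span_singleton_self x) n (by omega))
    simpa using add_mem ha h2
  obtain ⟨m0, hm0⟩ := Ideal.exists_maximal R
  haveI hloc : IsLocalRing R := IsLocalRing.of_unique_max_ideal
    ⟨m0, hm0, fun m hm => (hmaxR m hm).trans (hmaxR m0 hm0).symm⟩
  have hmR : IsLocalRing.maximalIdeal R = Ideal.span {x} := hmaxR _ (IsLocalRing.maximalIdeal.isMaximal R)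
  have hx0 : x ≠ 0 := fun h => hπ.ne_zero (hinj (by rw [← hxn, h, zero_pow hn0, map_zero]))
  have hfld : ¬ IsField R := fun h => hx0 (by
    rw [IsLocalRing.isField_iff_maximalIdeal_eq] at h
    rw [h, eq_comm, Ideal.span_singleton_eq_bot] at hmR
    exact hmR)
  haveI hdvr : IsDiscreteValuationRing R := ((IsDiscreteValuationRing.TFAE R hfld).out 0 4
    (b := (IsLocalRing.maximalIdeal R).IsPrincipal)).mpr ⟨⟨x, hmR⟩⟩
  refine ⟨hdom, hdvr, inferInstance, ?_, ?_⟩
  · show (IsLocalRing.maximalIdeal A).map _ = IsLocalRing.maximalIdeal R ^ n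
    rw [hmR, Ideal.span_singleton_pow, hxn, hmax, Ideal.map_span, Set.image_singleton]
  intro K₁ _ _ _
  have hKinj : Function.Injective (algebraMap R K₁) := IsFractionRing.injective R K₁
  let g : A →+* K₁ := (algebraMap R K₁).comp (algebraMap A R)
  show EtRam.IsTotallyRamified A g
  have key : ∀ V : ValuationSubring K₁, EtRam.Dominates A g V →
      (∀ r : R, algebraMap R K₁ r ∈ V) ∧ V.valuation (algebraMap R K₁ x) < 1 := by
    rintro V ⟨hV1, hV2⟩
    have hxV : V.valuation (algebraMap R K₁ x) < 1 := by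
      by_contra h
      have h1 : (1 : _) ≤ V.valuation (algebraMap R K₁ x) ^ n := one_le_pow₀ (not_lt.mp h)
      rw [← map_pow, ← map_pow, hxn] at h1
      exact absurd h1 (not_le.mpr (hV2 π (hmax ▸ Ideal.mem_span_singleton_self π)))
    refine ⟨fun r => ?_, hxV⟩
    induction r using AdjoinRoot.induction_on with
    | _ p =>
      induction p using Polynomial.induction_on with
      | C a => rw [AdjoinRoot.mk_C]; exact hV1 a
      | add p q hp hq => rw [map_add, map_add]; exact add_mem hp hq
      | monomial k a _ =>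
        rw [map_mul, map_mul, map_pow, map_pow, AdjoinRoot.mk_C, AdjoinRoot.mk_X]
        exact mul_mem (hV1 a) (pow_mem ((V.valuation_le_one_iff _).mp hxV.le) _)
  have hxirr : Irreducible x := (IsDiscreteValuationRing.irreducible_iff_uniformizer x).mpr hmR
  have keyeq : ∀ V : ValuationSubring K₁, EtRam.Dominates A g V →
      ∀ z : K₁, z ∈ V ↔ ∃ r : R, algebraMap R K₁ r = z := by
    intro V hV z
    obtain ⟨hR, hxV⟩ := key V hV
    refine ⟨fun hz => ?_, fun ⟨r, hr⟩ => hr ▸ hR r⟩
    obtain ⟨a, b, hb, rfl⟩ := IsFractionRing.div_surjective R (K := K₁) z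
    obtain ⟨j, v, hv⟩ := IsDiscreteValuationRing.eq_unit_mul_pow_irreducible (nonZeroDivisors.ne_zero hb) hxirr
    by_cases ha : a = 0
    · exact ⟨0, by simp [ha]⟩
    obtain ⟨i, u, hu⟩ := IsDiscreteValuationRing.eq_unit_mul_pow_irreducible ha hxirr
    have hbk : algebraMap R K₁ b ≠ 0 := fun h => nonZeroDivisors.ne_zero hb (hKinj (h.trans (map_zero _).symm))
    rcases le_or_gt j i with hij | hij
    · refine ⟨u * ((v⁻¹ : Rˣ) : R) * x ^ (i - j), ?_⟩
      rw [eq_div_iff hbk, ← map_mul, hu, hv]
      congr 1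
      calc (u : R) * ((v⁻¹ : Rˣ) : R) * x ^ (i - j) * ((v : R) * x ^ j)
          = (u : R) * (((v⁻¹ : Rˣ) : R) * v) * (x ^ (i - j) * x ^ j) := by ring
        _ = _ := by rw [Units.inv_mul, ← pow_add, Nat.sub_add_cancel hij, mul_one]
    · exfalso
      have h1 : algebraMap R K₁ (v * ((u⁻¹ : Rˣ) : R)) * (algebraMap R K₁ a / algebraMap R K₁ b) *
          algebraMap R K₁ x ^ (j - i) = 1 := by
        rw [← mul_div_assoc, div_mul_eq_mul_div, div_eq_one_iff_eq hbk, ← map_pow, ← map_mul, ← map_mul]
        congr 1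
        rw [hu, hv]
        calc (v : R) * ((u⁻¹ : Rˣ) : R) * ((u : R) * x ^ i) * x ^ (j - i)
            = (v : R) * (((u⁻¹ : Rˣ) : R) * u) * (x ^ i * x ^ (j - i)) := by ring
          _ = _ := by rw [Units.inv_mul, ← pow_add, Nat.add_sub_cancel' hij.le, mul_one]
      have h2 := congrArg V.valuation h1
      rw [map_mul, map_mul, map_one, map_pow] at h2
      refine absurd h2 (ne_of_lt ?_)
      refine lt_of_le_of_lt (mul_le_of_le_one_left' (mul_le_one'
        ((V.valuation_le_one_iff _).mpr (hR _)) ((V.valuation_le_one_iff _).mpr hz))) ?_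
      exact pow_lt_one₀ zero_le' hxV (by omega)
  let V₀ : ValuationSubring K₁ :=
    { (algebraMap R K₁).range with
      mem_or_inv_mem' := fun z => by
        obtain ⟨r, hr⟩ | ⟨r, hr⟩ := ValuationRing.isInteger_or_isInteger R z
        · exact Or.inl ⟨r, hr⟩
        · exact Or.inr ⟨r, hr⟩ }
  have hV₀ : EtRam.Dominates A g V₀ := by
    refine ⟨fun a => ⟨_, rfl⟩, fun a ha => ?_⟩
    rw [hmax] at ha
    obtain ⟨c, rfl⟩ := Ideal.mem_span_singleton'.mp ha
    have hxV : V₀.valuation (algebraMap R K₁ x) < 1 := by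
      refine (V₀.valuation_lt_one_iff ⟨_, x, rfl⟩).mp ?_
      intro hu
      obtain ⟨⟨_, y, rfl⟩, hy⟩ := hu.exists_right_inv
      have : x * y = 1 := hKinj (by rw [map_mul, map_one]; exact congrArg Subtype.val hy)
      exact hxirr.not_isUnit (IsUnit.of_mul_eq_one y this)
    simp only [g, RingHom.comp_apply, map_mul, ← hxn, map_pow]
    refine lt_of_le_of_lt (mul_le_of_le_one_left' ((V₀.valuation_le_one_iff _).mpr ⟨_, rfl⟩)) ?_
    exact pow_lt_one₀ zero_le' hxV hn0
  refine ⟨⟨V₀, hV₀⟩, fun V V' h h' => SetLike.ext fun z => (keyeq V h z).trans (keyeq V' h' z).symm, ?_⟩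
  intro V hV q
  obtain ⟨⟨z, hz⟩, rfl⟩ := IsLocalRing.residue_surjective q
  obtain ⟨r, rfl⟩ := (keyeq V hV z).mp hz
  obtain ⟨a, ha⟩ := hconst r
  refine ⟨a, ((sub_eq_zero.mp ?_) : IsLocalRing.residue V _ = _)⟩
  rw [← map_sub, IsLocalRing.residue_eq_zero_iff, V.valuation_lt_one_iff]
  obtain ⟨c, hc⟩ := Ideal.mem_span_singleton'.mp ha
  show V.valuation (algebraMap R K₁ (algebraMap A R a) - algebraMap R K₁ r) < 1
  rw [Valuation.map_sub_swap, ← map_sub, ← hc, map_mul, map_mul]
  exact lt_of_le_of_lt (mul_le_of_le_one_left' ((V.valuation_le_one_iff _).mpr ((key V hV).1 c))) (key V hV).2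

end Groth.Agent.S1987
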