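import Groth.Statements.S1153
import Groth.Agent.Lib.FpqcDesc.Basic
import Mathlib.AlgebraicGeometry.IdealSheaf.Functorial


set_option autoImplicit false
open CategoryTheory CategoryTheory.Limits AlgebraicGeometry Opposite
universe u
set_option linter.style.haveILetI false
open Desc

namespace Groth.Agent.S1153

/-- Let f : X ⟶ Y be locally of finite type, Z a closed subset of X and g : Y' ⟶ Y quasi-compact, flat
and surjective. If the preimage of Z in X ×_Y Y' is proper over Y', then Z is proper over Y. -/
theorem result {X Y Y' : Scheme.{u}} (f : X ⟶ Y) [LocallyOfFiniteType f] (Z : Set X) (hZ : IsClosed Z)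
    (g : Y' ⟶ Y) [QuasiCompact g] [Flat g] [Surjective g]
    (h : ClSub.IsProperOver (pullback.snd f g) ((pullback.fst f g).base ⁻¹' Z)) :
    ClSub.IsProperOver f Z := by
  haveI hgc : (@Surjective ⊓ @Flat ⊓ @QuasiCompact : MorphismProperty Scheme.{u}) g := ⟨⟨‹_›, ‹_›⟩, ‹_›⟩
  refine ⟨hZ, ?_⟩
  let I := Scheme.IdealSheafData.vanishingIdeal (⟨Z, hZ⟩ : TopologicalSpace.Closeds X)
  let i : I.subscheme ⟶ X := I.subschemeι
  have := Groth.Agent.FpqcDesc.descendsAlong_isProper.{u}
  refine MorphismProperty.of_pullback_snd_of_descendsAlong (P := @IsProper)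
    (Q := (@Surjective ⊓ @Flat ⊓ @QuasiCompact : MorphismProperty Scheme.{u})) (f := i ≫ f) (g := g) hgc ?_
  obtain ⟨hZ', hp⟩ := h
  let I' := Scheme.IdealSheafData.vanishingIdeal
    (⟨_, hZ'⟩ : TopologicalSpace.Closeds ↥(pullback f g))
  let q := pullback.snd (i ≫ f) g
  let j : pullback (i ≫ f) g ⟶ pullback f g :=
    pullback.lift (pullback.fst _ _ ≫ i) q (by rw [Category.assoc, pullback.condition])
  have hj : IsPullback (pullback.fst (i ≫ f) g) j i (pullback.fst f g) :=
    IsPullback.of_bot (by rw [pullback.lift_snd]; exact IsPullback.of_hasPullback _ _)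
      (pullback.lift_fst _ _ _).symm (IsPullback.of_hasPullback f g)
  haveI : IsClosedImmersion j := MorphismProperty.of_isPullback hj (inferInstanceAs (IsClosedImmersion I.subschemeι))
  have hrange : Set.range j = (pullback.fst f g) ⁻¹' Z := by
    have hrI : Set.range i = Z := by
      rw [Scheme.IdealSheafData.range_subschemeι, Scheme.IdealSheafData.coe_support_vanishingIdeal]
      rfl
    ext x
    constructor
    · rintro ⟨w, rfl⟩
      show pullback.fst f g (j w) ∈ Z
      rw [← Scheme.Hom.comp_apply, ← hj.w, Scheme.Hom.comp_apply, ← hrI]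
      exact ⟨_, rfl⟩
    · intro hx
      obtain ⟨z, hz⟩ := hrI.ge hx
      obtain ⟨w, -, hw⟩ := Scheme.Pullback.exists_preimage_pullback (f := i) (g := pullback.fst f g) z x hz
      refine ⟨hj.isoPullback.inv w, ?_⟩
      rw [← Scheme.Hom.comp_apply, hj.isoPullback_inv_snd]
      exact hw
  have hker : j.ker ≤ (I'.subschemeι).ker := by
    rw [Scheme.IdealSheafData.ker_subschemeι]
    refine Scheme.IdealSheafData.le_support_iff_le_vanishingIdeal.1 ?_
    rw [← SetLike.coe_subset_coe, Scheme.Hom.support_ker, hrange]
    exact subset_closure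
  let s := IsClosedImmersion.lift j I'.subschemeι hker
  have hsj : s ≫ j = I'.subschemeι := IsClosedImmersion.lift_fac _ _ _
  haveI : Surjective s := by
    refine ⟨fun w => ?_⟩
    have : j w ∈ Set.range I'.subschemeι := by
      rw [Scheme.IdealSheafData.range_subschemeι, Scheme.IdealSheafData.coe_support_vanishingIdeal]
      exact hrange.le ⟨w, rfl⟩
    obtain ⟨a, ha⟩ := this
    refine ⟨a, j.isEmbedding.injective ?_⟩
    rw [← Scheme.Hom.comp_apply, hsj]
    exact ha
  haveI : IsClosedImmersion (s ≫ j) := by rw [hsj]; infer_instance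
  haveI : IsClosedImmersion s := IsClosedImmersion.of_comp s j
  have hjq : j ≫ pullback.snd f g = q := pullback.lift_snd _ _ _
  haveI hsq : IsProper (s ≫ q) := by rw [← hjq, ← Category.assoc, hsj]; exact hp
  haveI : UniversallyClosed q := UniversallyClosed.of_comp_surjective s q
  haveI : LocallyOfFiniteType q := by
    haveI : IsClosedImmersion i := inferInstanceAs (IsClosedImmersion I.subschemeι)
    infer_instance
  haveI : IsSeparated q := by
    refine ⟨?_⟩
    let m := pullback.map (s ≫ q) (s ≫ q) q q s s (𝟙 _) (by simp) (by simp)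
    have hm : pullback.diagonal (s ≫ q) ≫ m = s ≫ pullback.diagonal q := by
      apply pullback.hom_ext <;> simp [m, pullback.lift_fst, pullback.lift_snd]
    haveI : IsClosedImmersion (pullback.diagonal (s ≫ q) ≫ m) := by
      haveI : MorphismProperty.IsStableUnderComposition (@IsClosedImmersion : MorphismProperty Scheme.{u}) :=
        ⟨fun a b ha hb => by
          haveI : IsClosedImmersion a := ha
          haveI : IsClosedImmersion b := hb
          infer_instance⟩
      haveI : IsClosedImmersion m := MorphismProperty.pullbackMap (P := @IsClosedImmersion)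
        inferInstance inferInstance rfl rfl
      infer_instance
    refine IsClosedImmersion.of_isPreimmersion _ ?_
    have : Set.range (pullback.diagonal q) = Set.range (pullback.diagonal (s ≫ q) ≫ m) := by
      rw [hm]
      ext y
      constructor
      · rintro ⟨w, rfl⟩
        obtain ⟨a, rfl⟩ := s.surjective w
        exact ⟨a, Scheme.Hom.comp_apply _ _ _⟩
      · rintro ⟨a, rfl⟩
        exact ⟨s a, (Scheme.Hom.comp_apply _ _ _).symm⟩
    rw [this]
    exact (pullback.diagonal (s ≫ q) ≫ m).isClosedEmbedding.isClosed_range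
  exact ⟨⟩


end Groth.Agent.S1153
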