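import Groth.Statements.S1483
import Groth.Agent.Lib.FlatH4.ModFlatAt
import Groth.Agent.Lib.FlatH4.FibreCritFT

set_option autoImplicit false
universe u
open FlatMor

namespace Groth.Agent.S1483


open Groth.Agent AlgebraicGeometry CategoryTheory TensorProduct

theorem flat_quotient_smul {R M : Type u} [CommRing R] [AddCommGroup M] [Module R M] [Module.Flat R M]
    (I : Ideal R) : Module.Flat (R ⧸ I) (M ⧸ I • (⊤ : Submodule R M)) :=
  let e : ((R ⧸ I) ⊗[R] M) ≃ₗ[R ⧸ I] M ⧸ I • (⊤ : Submodule R M) :=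
    { TensorProduct.quotTensorEquivQuotSMul M I with
      map_smul' := fun r x => by
        obtain ⟨r, rfl⟩ := Ideal.Quotient.mk_surjective r
        show TensorProduct.quotTensorEquivQuotSMul M I (Ideal.Quotient.mk I r • x) =
          Ideal.Quotient.mk I r • TensorProduct.quotTensorEquivQuotSMul M I x
        rw [← Ideal.Quotient.algebraMap_eq, algebraMap_smul, algebraMap_smul, map_smul] }
  Module.Flat.of_linearEquiv e.symm

theorem flatOverAt_comp {X Y S : Scheme.{u}} (f : X ⟶ Y) (g : Y ⟶ S) (F : X.Modules) (x : X)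
    (hg : (g.stalkMap (f x)).hom.Flat) (hf : FlatMod.IsFlatOverAt f F x) :
    FlatMod.IsFlatOverAt (f ≫ g) F x := by
  letI := FlatMod.moduleStalkOver f F x
  letI := FlatMod.moduleStalkOver (f ≫ g) F x
  letI : Algebra (S.presheaf.stalk ((f ≫ g) x)) (Y.presheaf.stalk (f x)) := (g.stalkMap (f x)).hom.toAlgebra
  haveI : Module.Flat (S.presheaf.stalk ((f ≫ g) x)) (Y.presheaf.stalk (f x)) := hg
  haveI : Module.Flat (Y.presheaf.stalk (f x)) (F.presheaf.stalk x) := hf
  haveI : IsScalarTower (S.presheaf.stalk ((f ≫ g) x)) (Y.presheaf.stalk (f x)) (F.presheaf.stalk x) := by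
    refine IsScalarTower.of_algebraMap_smul fun r a => ?_
    show f.stalkMap x (g.stalkMap (f x) r) • a = (f ≫ g).stalkMap x r • a
    rw [Scheme.Hom.stalkMap_comp]
    rfl
  exact Module.Flat.trans (S.presheaf.stalk ((f ≫ g) x)) (Y.presheaf.stalk (f x)) (F.presheaf.stalk x)


open AlgebraicGeometry CategoryTheory Limits in
/-- Fibrewise flatness criterion (critère de platitude par fibres), pointwise equivalence for a module:
let f : X → Y and g : Y → S be morphisms of schemes with X locally of finite presentation over S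
(via g ∘ f) and Y locally of finite type over S, F a finitely presented quasi-coherent O_X-module,
and x a point of X with images y = f(x) and s = g(y) at which the stalk F_x is nonzero. The
following are equivalent: (a) F is flat over S at x and F_x / 𝔪_s F_x is flat over O_{Y,y} / 𝔪_s
O_{Y,y}; (b) the morphism g is flat at the point y and F is Y-flat at x. The published statement
also asserts that the locus of such x is open in the support of F; that is not restated here (the
companion statement for F = O_X carries it). -/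
theorem result {X Y S : Scheme.{u}} (f : X ⟶ Y) (g : Y ⟶ S) [LocallyOfFinitePresentation (f ≫ g)] [LocallyOfFiniteType g]
    (F : X.Modules) (hq : Coh.IsQCoh F) (hfp : CohB1.IsFP F) (x : X) (hx : Nontrivial ↑(F.presheaf.stalk x)) :
    letI := FlatMod.moduleStalkOver f F x
    (FlatMod.IsFlatOverAt (f ≫ g) F x ∧
      Module.Flat (↑(Y.presheaf.stalk (f x)) ⧸ Ideal.map (g.stalkMap (f x)).hom (IsLocalRing.maximalIdeal ↑(S.presheaf.stalk (g (f x)))))
        (↑(F.presheaf.stalk x) ⧸ (Ideal.map (g.stalkMap (f x)).hom (IsLocalRing.maximalIdeal ↑(S.presheaf.stalk (g (f x)))) •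
          (⊤ : Submodule ↑(Y.presheaf.stalk (f x)) ↑(F.presheaf.stalk x))))) ↔
    ((g.stalkMap (f x)).hom.Flat ∧ FlatMod.IsFlatOverAt f F x) := by
  letI := FlatMod.moduleStalkOver f F x
  constructor
  swap
  · rintro ⟨hg, hf⟩
    haveI : Module.Flat (Y.presheaf.stalk (f x)) (F.presheaf.stalk x) := hf
    exact ⟨flatOverAt_comp f g F x hg hf, flat_quotient_smul _⟩
  rintro ⟨h1, h2⟩
  haveI := hq
  haveI := hx
  obtain ⟨V, hV, hsV, -⟩ :=
    exists_isAffineOpen_mem_and_subset (X := S) (x := g (f x)) (U := ⊤) trivial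
  obtain ⟨U, hU, hyU, hUV⟩ :=
    exists_isAffineOpen_mem_and_subset (X := Y) (x := f x) (U := g ⁻¹ᵁ V) hsV
  obtain ⟨W, hW, hxW, hWU⟩ :=
    exists_isAffineOpen_mem_and_subset (X := X) (x := x) (U := f ⁻¹ᵁ U) hyU
  have e : W ≤ (f ≫ g) ⁻¹ᵁ V := fun z hz => hUV (hWU hz)
  letI : Algebra Γ(S, V) Γ(X, W) := ((f ≫ g).appLE V W e).hom.toAlgebra
  letI : Algebra Γ(S, V) Γ(Y, U) := (g.appLE V U hUV).hom.toAlgebra
  letI : Algebra Γ(Y, U) Γ(X, W) := (f.appLE U W hWU).hom.toAlgebra
  letI := FlatH4.secModuleOver (f ≫ g) F V W e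
  letI := FlatH4.secModuleOver f F U W hWU
  have happ : g.appLE V U hUV ≫ f.appLE U W hWU = (f ≫ g).appLE V W e :=
    Scheme.Hom.appLE_comp_appLE ..
  haveI : IsScalarTower Γ(S, V) Γ(Y, U) Γ(X, W) := IsScalarTower.of_algebraMap_eq fun r => by
    show (f ≫ g).appLE V W e r = f.appLE U W hWU (g.appLE V U hUV r)
    rw [← happ]; rfl
  haveI : IsScalarTower Γ(S, V) Γ(X, W) Γ(F, W) := IsScalarTower.of_algebraMap_smul fun _ _ => rfl
  haveI : IsScalarTower Γ(Y, U) Γ(X, W) Γ(F, W) := IsScalarTower.of_algebraMap_smul fun _ _ => rfl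
  haveI : IsScalarTower Γ(S, V) Γ(Y, U) Γ(F, W) := IsScalarTower.of_algebraMap_smul fun r a => by
    show f.appLE U W hWU (g.appLE V U hUV r) • a = (f ≫ g).appLE V W e r • a
    rw [← happ]; rfl
  haveI : Algebra.FinitePresentation Γ(S, V) Γ(X, W) := (f ≫ g).finitePresentation_appLE hV hW e
  haveI : Algebra.FiniteType Γ(S, V) Γ(Y, U) := g.finiteType_appLE hV hU hUV
  haveI : Module.FinitePresentation Γ(X, W) Γ(F, W) := M1.finitePresentation_sections hfp hW
  let q := (hW.primeIdealOf ⟨x, hxW⟩).asIdeal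
  let r := (hU.primeIdealOf ⟨f x, hyU⟩).asIdeal
  let p := (hV.primeIdealOf ⟨g (f x), hsV⟩).asIdeal
  have hr : q.comap (algebraMap Γ(Y, U) Γ(X, W)) = r :=
    congr($(IsAffineOpen.comap_primeIdealOf_appLE U hU W hW hWU hxW).1)
  have hp : q.comap (algebraMap Γ(S, V) Γ(X, W)) = p :=
    congr($(IsAffineOpen.comap_primeIdealOf_appLE V hV W hW e hxW).1)
  letI : Algebra Γ(Y, U) (Y.presheaf.stalk (f x)) := Y.presheaf.algebra_section_stalk ⟨f x, hyU⟩
  haveI : IsLocalization.AtPrime (Y.presheaf.stalk (f x)) r := hU.isLocalization_stalk ⟨f x, hyU⟩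
  letI : Algebra Γ(S, V) (S.presheaf.stalk (g (f x))) := S.presheaf.algebra_section_stalk ⟨g (f x), hsV⟩
  haveI : IsLocalization.AtPrime (S.presheaf.stalk (g (f x))) p :=
    hV.isLocalization_stalk ⟨g (f x), hsV⟩
  haveI : Module.Flat Γ(Y, U) (Y.presheaf.stalk (f x)) := IsLocalization.flat _ r.primeCompl
  letI := M1.stalkModule F hxW
  letI : Module Γ(Y, U) (F.presheaf.stalk x) :=
    Module.compHom _ (algebraMap Γ(Y, U) (Y.presheaf.stalk (f x)))
  haveI : IsScalarTower Γ(Y, U) (Y.presheaf.stalk (f x)) (F.presheaf.stalk x) :=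
    IsScalarTower.of_algebraMap_smul fun _ _ => rfl
  haveI : IsScalarTower Γ(Y, U) Γ(X, W) (F.presheaf.stalk x) :=
    IsScalarTower.of_algebraMap_smul fun r a => by
      show X.presheaf.germ W x hxW (f.appLE U W hWU r) • a =
        f.stalkMap x (Y.presheaf.germ U (f x) hyU r) • a
      rw [Scheme.Hom.germ_stalkMap_apply]
      congr 1
      exact X.presheaf.germ_res_apply (homOfLE hWU) x hxW _
  haveI := M1.isLocalizedModule_germ F hW hxW
  haveI : Module.Flat Γ(S, V) (LocalizedModule q.primeCompl Γ(F, W)) :=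
    (FlatH4.isFlatOverAt_iff (f ≫ g) F V hV W hW e hxW).1 h1
  have hmS : (p.map (algebraMap Γ(S, V) Γ(Y, U))).map (algebraMap Γ(Y, U) (Y.presheaf.stalk (f x))) =
      Ideal.map (g.stalkMap (f x)).hom (IsLocalRing.maximalIdeal (S.presheaf.stalk (g (f x)))) := by
    rw [← IsLocalization.AtPrime.map_eq_maximalIdeal p (S.presheaf.stalk (g (f x))), Ideal.map_map,
      Ideal.map_map]
    congr 1
    ext r
    show Y.presheaf.germ U (f x) hyU (g.appLE V U hUV r) =
      g.stalkMap (f x) (S.presheaf.germ V (g (f x)) hsV r)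
    rw [Scheme.Hom.germ_stalkMap_apply]
    exact Y.presheaf.germ_res_apply (homOfLE hUV) (f x) hyU _
  have hfib : FlatH4.FibFlat Γ(Y, U) Γ(F, W) (p.map (algebraMap Γ(S, V) Γ(Y, U))) q := by
    refine FlatH4.fibFlat_of_flat_mod_localized (S' := Y.presheaf.stalk (f x)) _ q (M1.germₗ F hxW) ?_
    rw [hmS]
    exact h2
  rw [← hp] at hfib
  haveI := FlatH4.flat_localized_of_fibFlat_ft (A := Γ(S, V)) (S := Γ(Y, U)) q hfib
  refine ⟨?_, (FlatH4.isFlatOverAt_iff f F U hU W hW hWU hxW).2 this⟩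
  haveI : Nontrivial (LocalizedModule q.primeCompl Γ(F, W)) :=
    (IsLocalizedModule.iso q.primeCompl (M1.germₗ F hxW)).toEquiv.nontrivial
  haveI := FlatH4.flat_localization_of_flat_localized (A := Γ(S, V)) (M := Γ(F, W)) q r hr
  exact (FlatH4.flat_stalkMap_iff g V hV U hU hUV hyU).2
    ((FlatH4.flat_localization_iff r).2 inferInstance)

end Groth.Agent.S1483
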