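import Groth.Statements.S4637
import Groth.Agent.Lib.AssPts11.Basic
import Mathlib.RingTheory.Ideal.KrullsHeightTheorem
import Mathlib.RingTheory.FiniteLength

set_option autoImplicit false
open CategoryTheory AlgebraicGeometry
universe u
open AssSch

namespace Groth.Agent.S4637

/-- Let X be a locally Noetherian scheme, F a coherent O_X-module and x a point of X. Then x is the
generic point of an irreducible component of Supp F (F_x ≠ 0 and every point y with F_y ≠ 0 that
specialises to x equals x) if and only if F_x is a nonzero module of finite length over the local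
ring O_{X,x}. -/
theorem result {X : Scheme.{u}} [IsLocallyNoetherian X] (F : X.Modules)
    (hF : Coh.IsCoh F) (x : X) :
    (Nontrivial ↑(F.presheaf.stalk x) ∧ ∀ y : X, Nontrivial ↑(F.presheaf.stalk y) → y ⤳ x → y = x) ↔
      (Nontrivial ↑(F.presheaf.stalk x) ∧ IsFiniteLength ↑(X.presheaf.stalk x) ↑(F.presheaf.stalk x)) := by
  haveI := hF.1
  haveI hfin : Module.Finite (X.presheaf.stalk x) (F.presheaf.stalk x) := M1.finite_stalk hF.1 hF.2 x
  obtain ⟨U, hU, hxU, -⟩ := exists_isAffineOpen_mem_and_subset (X := X) (x := x) (U := ⊤) trivial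
  haveI : IsNoetherianRing (X.presheaf.stalk x) := inferInstance
  refine and_congr_right fun hnt => ⟨fun hmax => ?_, fun hfl y hy hyx => ?_⟩
  · -- every element is killed by a power of every non-unit
    have hkill : ∀ (c : X.presheaf.stalk x), ¬ IsUnit c → ∀ m : F.presheaf.stalk x, ∃ k : ℕ, c ^ k • m = 0 := by
      intro c hc m
      let := TopCat.Presheaf.algebra_section_stalk X.presheaf (⟨x, hxU⟩ : U)
      have := hU.isLocalization_stalk ⟨x, hxU⟩
      obtain ⟨⟨a, d⟩, hcd⟩ := IsLocalization.surj (hU.primeIdealOf ⟨x, hxU⟩).asIdeal.primeCompl c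
      replace hcd : c * X.presheaf.germ U x hxU d = X.presheaf.germ U x hxU a := hcd
      have hd : IsUnit (X.presheaf.germ U x hxU d) := (M1.isUnit_germ_iff hU hxU d).2 d.2
      have ha : ¬ IsUnit (X.presheaf.germ U x hxU a) := fun hu => hc (by
        rw [← hcd, IsUnit.mul_iff] at hu; exact hu.1)
      obtain ⟨r, t, hr, hrt⟩ := M1.exists_germ_smul_eq F hU hxU m
      suffices ∃ k : ℕ, F.presheaf.germ U x hxU (a ^ k • t) = 0 by
        obtain ⟨k, hk⟩ := this
        refine ⟨k, ?_⟩
        rw [M1.germ_smul, map_pow, ← hrt, ← hcd, mul_pow, ← mul_smul, mul_assoc, mul_smul, smul_comm] at hk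
        obtain ⟨w, hw⟩ := (hd.pow k).mul hr
        rwa [← hw, ← Units.smul_def, smul_eq_zero_iff_eq] at hk
      by_contra hne
      push Not at hne
      let J : Ideal Γ(X, U) := LinearMap.ker (LinearMap.toSpanSingleton Γ(X, U) Γ(F, U) t)
      let S : Submonoid Γ(X, U) := (hU.primeIdealOf ⟨x, hxU⟩).asIdeal.primeCompl ⊔ Submonoid.powers a
      have hdisj : Disjoint (J : Set Γ(X, U)) (S : Set Γ(X, U)) := by
        rw [Set.disjoint_right]
        intro e he heJ
        obtain ⟨v, hv, _, ⟨k, rfl⟩, rfl⟩ := Submonoid.mem_sup.1 he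
        have h0 : (v * a ^ k) • t = 0 := by simpa [J, LinearMap.mem_ker] using heJ
        rw [mul_smul] at h0
        exact hne k (WA.germ_zero_of_smul hxU v _ ((M1.isUnit_germ_iff hU hxU v).2 hv) h0)
      obtain ⟨q, hq, hJq, hqS⟩ := Ideal.exists_le_prime_disjoint J S hdisj
      obtain ⟨y, hyU, hyu⟩ := WA.exists_point hU q
      have hyx : y ⤳ x := WA.specializes_of_isUnit hU hxU hyU fun e he => (hyu e).2
        (Set.disjoint_right.1 hqS (Submonoid.mem_sup_left ((M1.isUnit_germ_iff hU hxU e).1 he)))
      have hy : Nontrivial (F.presheaf.stalk y) := nontrivial_of_ne (F.presheaf.germ U y hyU t) 0 fun h0 => by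
        obtain ⟨e, he, he0⟩ := M1.exists_smul_eq_zero_of_germ_eq_zero F hU hyU t h0
        exact (hyu e).1 he (hJq (by simpa [J, LinearMap.mem_ker] using he0))
      obtain rfl := hmax y hy hyx
      exact ha ((hyu a).2 (Set.disjoint_right.1 hqS (Submonoid.mem_sup_right ⟨1, pow_one a⟩)))
    let R := X.presheaf.stalk x
    let I : Ideal R := Module.annihilator R (F.presheaf.stalk x)
    obtain ⟨n, ψ, hψ⟩ := Module.Finite.exists_fin' R (F.presheaf.stalk x)
    have hI : IsLocalRing.maximalIdeal R ∈ I.minimalPrimes := by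
      refine ⟨⟨inferInstance, IsLocalRing.le_maximalIdeal fun htop => ?_⟩, fun q hq _ c hc => ?_⟩
      · exact (not_subsingleton (F.presheaf.stalk x)) ⟨fun a b => by
          have h1 : ∀ v : F.presheaf.stalk x, v = 0 := fun v => by
            have := Module.mem_annihilator.1 ((Ideal.eq_top_iff_one _).1 htop) v
            rwa [one_smul] at this
          rw [h1 a, h1 b]⟩
      · choose k hk using fun i : Fin n => hkill c ((IsLocalRing.mem_maximalIdeal _).1 hc) (ψ (Pi.single i 1))
        haveI := hq.1
        refine hq.1.mem_of_pow_mem (∑ i, k i) (hq.2 (Module.mem_annihilator.2 fun m => ?_))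
        obtain ⟨v, rfl⟩ := hψ m
        rw [pi_eq_sum_univ v, map_sum, Finset.smul_sum]
        refine Finset.sum_eq_zero fun i _ => ?_
        rw [map_smul, smul_comm, show (fun j => if i = j then (1 : R) else 0) = Pi.single i 1 from
          funext fun j => by simp [Pi.single_apply, eq_comm]]
        obtain ⟨e, he⟩ := Nat.exists_eq_add_of_le (Finset.single_le_sum (fun j _ => Nat.zero_le (k j)) (Finset.mem_univ i))
        rw [he, add_comm, pow_add, mul_smul, hk, smul_zero, smul_zero]
    haveI : IsArtinianRing (R ⧸ I) := IsLocalRing.quotient_artinian_of_mem_minimalPrimes_of_isLocalRing I hI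
    haveI : IsArtinian R (R ⧸ I) := isArtinian_of_surjective_algebraMap (R := R ⧸ I) Ideal.Quotient.mk_surjective
    let ρ : (Fin n → R ⧸ I) →ₗ[R] F.presheaf.stalk x :=
      LinearMap.lsum R (fun _ => R ⧸ I) R fun i => Submodule.liftQ I (LinearMap.toSpanSingleton R _ (ψ (Pi.single i 1)))
        fun c hc => by simp [LinearMap.mem_ker, Module.mem_annihilator.1 hc]
    haveI : IsArtinian R (F.presheaf.stalk x) := by
      refine isArtinian_of_surjective (Fin n → R ⧸ I) ρ fun m => ?_
      obtain ⟨v, rfl⟩ := hψ m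
      refine ⟨fun i => Submodule.Quotient.mk (v i), ?_⟩
      simp only [ρ, LinearMap.lsum_apply, LinearMap.sum_apply]
      conv_rhs => rw [pi_eq_sum_univ v, map_sum]
      refine Finset.sum_congr rfl fun i _ => ?_
      rw [LinearMap.comp_apply, LinearMap.proj_apply, Submodule.liftQ_apply, LinearMap.toSpanSingleton_apply, map_smul]
      exact congrArg (fun e => v i • ψ e) (funext fun j => by simp [Pi.single_apply, eq_comm])
    exact isFiniteLength_iff_isNoetherian_isArtinian.2 ⟨inferInstance, inferInstance⟩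
  · haveI := (isFiniteLength_iff_isNoetherian_isArtinian.1 hfl).2
    have hyU := hyx.mem_open U.2 hxU
    refine (hyx.antisymm (WA.specializes_of_isUnit hU hyU hxU fun a ha => ?_)).eq
    by_contra hax
    haveI := hy
    obtain ⟨m, hm⟩ := exists_ne (0 : F.presheaf.stalk y)
    obtain ⟨r, t, hr, hrt⟩ := M1.exists_germ_smul_eq F hU hyU m
    have ht : F.presheaf.germ U y hyU t ≠ 0 := fun h0 => hm (by
      obtain ⟨w, hw⟩ := hr
      rwa [h0, ← hw, ← Units.smul_def, smul_eq_zero_iff_eq] at hrt)
    let c := X.presheaf.germ U x hxU a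
    let v := F.presheaf.germ U x hxU t
    obtain ⟨k, hk⟩ := IsArtinian.monotone_stabilizes
      (⟨fun k => Submodule.span (X.presheaf.stalk x) {c ^ k • v}, fun i j hij => by
        obtain ⟨e, rfl⟩ := Nat.exists_eq_add_of_le hij
        refine Submodule.span_le.2 (Set.singleton_subset_iff.2 ?_)
        rw [add_comm, pow_add, mul_smul]
        exact Submodule.smul_mem _ _ (Submodule.subset_span rfl)⟩ :
      ℕ →o (Submodule (X.presheaf.stalk x) (F.presheaf.stalk x))ᵒᵈ)
    have hmem : c ^ k • v ∈ Submodule.span (X.presheaf.stalk x) {c ^ (k + 1) • v} :=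
      (hk (k + 1) (Nat.le_succ k)).ge (Submodule.subset_span rfl)
    obtain ⟨e, he⟩ := Submodule.mem_span_singleton.1 hmem
    have h0 : c ^ k • v = 0 := by
      obtain ⟨w, hw⟩ := IsLocalRing.isUnit_one_sub_self_of_mem_nonunits (e * c)
        (mul_mem_nonunits_right hax)
      have h1 : (1 - e * c) • (c ^ k • v) = 0 := by
        rw [sub_smul, one_smul, ← mul_smul, mul_assoc, ← pow_succ', mul_smul, he, sub_self]
      rwa [← hw, ← Units.smul_def, smul_eq_zero_iff_eq] at h1
    have h2 := WA.germ_zero_of_specializes hxU hyU hyx (a ^ k • t) (by rw [M1.germ_smul, map_pow]; exact h0)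
    rw [M1.germ_smul, map_pow] at h2
    obtain ⟨w, hw⟩ := ha.pow k
    rw [← hw, ← Units.smul_def, smul_eq_zero_iff_eq] at h2
    exact ht h2

end Groth.Agent.S4637
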