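import Groth.Statements.S13565
import Groth.Agent.Lib.FMDiag9.Basic

set_option autoImplicit false
set_option linter.style.haveILetI false
set_option backward.isDefEq.respectTransparency false
universe u
open CategoryTheory AlgebraicGeometry
attribute [local instance] HasDerivedCategory.standard
open DEquiv

namespace Groth.Agent.S13565

/-- Let X → S be a separated morphism of schemes, so that the diagonal Δ : X → X ×_S X is a closed
immersion, and let K be a complex of modules on X ×_S X whose image in D(O_{X ×_S X}) is isomorphic
to Δ_* O_X placed in degree 0. The derived functors involved are assumed to exist (instance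
binders). Then the Fourier–Mukai functor Φ_K = Rpr_{2,*}(Lpr_1^*(−) ⊗^L K) : D(O_X) ⥤ D(O_X) is
isomorphic to the identity functor (existence of an isomorphism of functors). -/
theorem result {S X : Scheme.{u}} (a : X ⟶ S) [IsSeparated a]
    (K : CochainComplex (Limits.pullback a a).Modules ℤ) (hK : Nonempty (DCoh.toD _ K ≅ FMK.diagO a))
    [DCoh.HasLpull (Limits.pullback.fst a a)] [DCoh.HasLTensorCx K] [DCoh.HasRpush (Limits.pullback.snd a a)] :
    Nonempty (FMK.phi a a K ≅ 𝟭 (DCoh.D X)) := by
  haveI := KFlat.Sch.hasLTensorCx (RHom.sg 0 (FMDiag9.dO (Limits.pullback.diagonal a)))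
  exact FMDiag9.nonempty_main (Limits.pullback.diagonal a) (Limits.pullback.fst a a) (Limits.pullback.snd a a)
    (Limits.pullback.diagonal_snd a) (Limits.pullback.diagonal_fst a) K hK

end Groth.Agent.S13565
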