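import Groth.Statements.S3637
import Groth.Agent.Lib.BC8.DlzProper
import Groth.Agent.Lib.BC8.DlzCMModule
import Groth.Agent.Lib.BC8.DlzTen
import Groth.Agent.Lib.BC8.ViaCM

set_option autoImplicit false
universe u
open CategoryTheory CategoryTheory.Limits AlgebraicGeometry
attribute [local instance] HasDerivedCategory.standard
open Dual3

namespace Groth.Agent.S3637


/-- Let X be proper over a field k, with all local rings of X Cohen–Macaulay and all irreducible
components of X of dimension d. Assume the derived pushforward Rf_* along the structure morphism f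
exists and preserves complexes with quasi-coherent cohomology (carried as hypotheses), let a be a
right adjoint to Rf_* : D_QCoh(O_X) → D_QCoh(Spec k), and let O be an object of D_QCoh(Spec k)
isomorphic to the structure sheaf placed in degree 0. Then H^i(a(O)) = 0 for i ≠ −d, so that a(O) =
ω_X[d] with ω_X = H^{−d}(a(O)); and ω_X is a coherent O_X-module whose stalk at every point x is a
nonzero Cohen–Macaulay module over O_{X,x} (in particular its support is all of X). -/
theorem result (k : Type u) [Field k] (X : Scheme.{u}) (f : X ⟶ Spec (CommRingCat.of k)) [IsProper f] (hCM : ∀ x : X, LocCoh.IsCohenMacaulayLocalRing (X.presheaf.stalk x)) (d : ℕ) (hd : ∀ Z : Set X, Z ∈ irreducibleComponents X → topologicalKrullDim ↥Z = (d : WithBot ℕ∞)) [DCoh.HasRpush f] (hf : DCoh.RpushPreservesQCoh f) (a : DCoh.DQCoh (Spec (CommRingCat.of k)) ⥤ DCoh.DQCoh X) (adj : DCoh.RpushQ f hf ⊣ a) (O : DCoh.DQCoh (Spec (CommRingCat.of k))) (hO : Nonempty (O.obj ≅ DCoh.inD (Spec (CommRingCat.of k)) (Coh.structureModule (Spec (CommRingCat.of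 k))))) : (∀ i : ℤ, i ≠ -(d : ℤ) → IsZero (DCoh.HD (a.obj O).obj i)) ∧ Coh.IsCoh (DCoh.HD (a.obj O).obj (-(d : ℤ))) ∧ ∀ x : X, Nontrivial ((DCoh.HD (a.obj O).obj (-(d : ℤ))).presheaf.stalk x) ∧ LocCoh.IsCohenMacaulayModule (X.presheaf.stalk x) ((DCoh.HD (a.obj O).obj (-(d : ℤ))).presheaf.stalk x) := by
  haveI : ∀ (U V : Scheme.{u}) (j : U ⟶ V) [IsOpenImmersion j],
      PreservesFiniteLimits (Scheme.Modules.restrictFunctor j) := fun U V j _ => inferInstance
  haveI : ∀ (R : CommRingCat.{u}), PreservesFiniteLimits (tilde.functor R) := fun R => M1.tilde_preservesFiniteLimits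
  haveI : IsLocallyNoetherian X := LocallyOfFiniteType.isLocallyNoetherian f
  haveI : CompactSpace X := QuasiCompact.compactSpace_of_compactSpace f
  obtain ⟨eO⟩ := hO
  let ω : Dual.D (CommRingCat.of k) := Dual.inD k k
  have hω : Dual.IsDualizing k ω := BC8.isDualizing_self_field k
  let eW : O.obj ≅ (DPerf.tildeDD (CommRingCat.of k)).obj ω := eO ≪≫ DGen9.KO.oneIso (R := CommRingCat.of k)
  have hK := BC8.isDualizingSch_proper hω f adj eW
  have hn := BC8.dlt_eq_zero_of_isClosed hω (BC8.isNormalized_self_field k) f adj eW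
  have h := BC8.single_of_CM_equidim hK hn hCM d hd
  have hz : ∀ i : ℤ, i ≠ -(d : ℤ) → IsZero (DCoh.HD (a.obj O).obj i) := fun i hi =>
    DPerf.isZero_of_stalks fun x => not_nontrivial_iff_subsingleton.1 fun hx => hi ((h x).2 i hx)
  exact ⟨hz, BC8.isCohD_dualizing hK _, fun x =>
    ⟨(h x).1, BC8.isCM_stalk_of_single hK _ hz x (h x).1⟩⟩


end Groth.Agent.S3637
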