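import Groth.Statements.S16380
import Groth.Agent.Lib.FMHyp13.HyperGV
import Groth.Agent.Lib.NumPoly18.TauEuler

set_option backward.isDefEq.respectTransparency false
set_option backward.isDefEq.respectTransparency.types false
set_option linter.style.haveILetI false
set_option maxHeartbeats 1600000

set_option autoImplicit false
universe u
open CategoryTheory CategoryTheory.Limits AlgebraicGeometry
attribute [local instance] HasDerivedCategory.standard
open FMK MonoidalCategory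

namespace Groth.Agent.S16380

/-- Let k be an algebraically closed field, X and Y proper schemes over k with structure morphisms a and
b, all of whose local rings are Cohen–Macaulay, X equidimensional of dimension d and Y
equidimensional of dimension g. Let Rb_* on D_QCoh have the right adjoint b^× (given as data with
its adjunction), O an object of D_QCoh(Spec k) isomorphic to the structure sheaf in degree 0, and
ω_Y = H^{−g}(b^×O) the dualizing module of Y. Let L be an ample invertible O_Y-module with an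
inverse L' (L ⊗ L' ≅ O_Y), and P a cochain complex of modules on X ×_k Y defining a perfect object.
Write Φ_P = Rpr_{Y,*}(Lpr_X^*(−) ⊗^L P), Ψ_P = Rpr_{X,*}(Lpr_Y^*(−) ⊗^L P) and R^iΦ_P = H^i ∘ Φ_P,
the derived functors involved being assumed to exist. Let k' ≥ 0 and F a cochain complex of
O_X-modules defining a perfect object. Suppose that for every sufficiently large n (all n ≥ some n₀)
the hypercohomology H^j(X, Ψ_P(L'^{⊗ n} ⊗ ω_Y) ⊗^L F) vanishes for every integer j outside [g, g +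
k']. Then F is a GV_{k'}-object with respect to P: R^iΦ_P(F) = 0 for i < 0, and for i ≥ 0 the
support of R^iΦ_P(F) has codimension at least i − k' in Y (the local ring of Y at each of its points
has Krull dimension ≥ i − k'). (The published hypothesis is H^i(F ⊗ Ψ_{P[g]}(A^{−1} ⊗ ω_Y)) = 0 for
i outside [0, k'] and A any sufficiently positive ample line bundle; the kernel shift [g] is
absorbed into the degree, and A^{−1} is rendered as the powers of the inverse of a fixed ample L.) -/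
theorem result (k : Type u) [Field k] [IsAlgClosed k]
    (X Y : Scheme.{u}) (a : X ⟶ Spec (CommRingCat.of k)) (b : Y ⟶ Spec (CommRingCat.of k)) [IsProper a] [IsProper b]
    (hXcm : ∀ x : ↥X, LocCoh.IsCohenMacaulayLocalRing ↑(X.presheaf.stalk x))
    (hYcm : ∀ y : ↥Y, LocCoh.IsCohenMacaulayLocalRing ↑(Y.presheaf.stalk y))
    (d : ℕ) (hd : topologicalKrullDim ↥X = (d : WithBot ℕ∞))
    (hXeq : ∀ Z ∈ irreducibleComponents ↥X, topologicalKrullDim ↥Z = (d : WithBot ℕ∞))
    (g : ℕ) (hg : topologicalKrullDim ↥Y = (g : WithBot ℕ∞))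
    (hYeq : ∀ Z ∈ irreducibleComponents ↥Y, topologicalKrullDim ↥Z = (g : WithBot ℕ∞))
    [DCoh.HasRpush b] (hb : DCoh.RpushPreservesQCoh b)
    (bdx : DCoh.DQCoh (Spec (CommRingCat.of k)) ⥤ DCoh.DQCoh Y) (adj : DCoh.RpushQ b hb ⊣ bdx)
    (O : DCoh.DQCoh (Spec (CommRingCat.of k)))
    (hO : Nonempty (O.obj ≅ DCoh.inD (Spec (CommRingCat.of k)) (Coh.structureModule (Spec (CommRingCat.of k)))))
    (L L' : Y.Modules) (hL : CohB1.IsAmple L) (hLL' : Nonempty (CohB1.tensorMod L L' ≅ Coh.structureModule Y))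
    (P : CochainComplex (pullback a b).Modules ℤ) (hP : DCoh.IsPerfect (DCoh.toD (pullback a b) P))
    [DCoh.HasLpull (pullback.fst a b)] [DCoh.HasLpull (pullback.snd a b)] [DCoh.HasLTensorCx P]
    [DCoh.HasRpush (pullback.fst a b)] [DCoh.HasRpush (pullback.snd a b)] [DCoh.HasRΓ X]
    (k' : ℕ) (F : CochainComplex X.Modules ℤ) (hF : DCoh.IsPerfect (DCoh.toD X F)) [DCoh.HasLTensorCx F]
    (hvan : ∃ n₀ : ℕ, ∀ n : ℕ, n₀ ≤ n → ∀ j : ℤ, j < (g : ℤ) ∨ (g : ℤ) + k' < j →
      IsZero ((DerivedCategory.homologyFunctor AddCommGrpCat.{u} j).obj ((DCoh.RΓ X).obj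
        ((DCoh.LTensorCx F).obj ((DCoh.Lpull (pullback.snd a b) ⋙ DCoh.LTensorCx P ⋙ DCoh.Rpush (pullback.fst a b)).obj
          (DCoh.inD Y (CohB1.tensorMod (CohB1.tensorPow L' n) (DCoh.HD (bdx.obj O).obj (-(g : ℤ))))))))))
    :
    (∀ i : ℤ, i < 0 → IsZero (DCoh.HD ((FMK.phi a b P).obj (DCoh.toD X F)) i)) ∧
    (∀ (i : ℕ) (y : ↥Y), y ∈ CohB1.support (DCoh.HD ((FMK.phi a b P).obj (DCoh.toD X F)) (i : ℤ)) →
      ((i - k' : ℕ) : WithBot ℕ∞) ≤ ringKrullDim ↑(Y.presheaf.stalk y)) := by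
  classical
  obtain ⟨eO⟩ := hO
  obtain ⟨eLL⟩ := hLL'
  obtain ⟨n₁, hn₁⟩ := hvan
  haveI : IsLocallyNoetherian X := LocallyOfFiniteType.isLocallyNoetherian a
  haveI : IsLocallyNoetherian Y := LocallyOfFiniteType.isLocallyNoetherian b
  haveI : CompactSpace Y := QuasiCompact.compactSpace_of_compactSpace b
  haveI : Flat a := inferInstance
  haveI : IsProper (pullback.snd a b) := inferInstance
  let p := pullback.fst a b
  let q := pullback.snd a b
  haveI : DCoh.HasRΓ Y := KInjLib.hasRightDerivedFunctor KInjLib.enoughKInj_of_grothendieck _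
  -- the transform
  let E₀ := (DCoh.LTensorCx P).obj ((DCoh.Lpull p).obj (DCoh.toD X F))
  have hE₀ : DCoh.IsPerfect E₀ := by
    obtain ⟨P₁, ⟨eP⟩, hP₁⟩ := DMon9.nonempty_ltensor_iso P
    obtain ⟨t⟩ := hP₁ ((DCoh.Lpull p).obj (DCoh.toD X F))
    haveI := KFlat.Sch.hasLTensorCx P₁.obj
    exact DGen9.isPerfect_of_iso (t ≪≫ (DMon9.theta P₁).app _).symm
      (KFlat.Sch.isPerfect_lTensor P₁.obj P₁.property (DGen9.isPerfect_of_iso eP.symm hP) _
        (KFlat.Sch.isPerfect_lpull _ hF))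
  let G : DMon9.DM Y := (DCoh.Rpush q).obj E₀
  have hG : DCoh.IsPerfect (G : DCoh.D Y) := PerfPush9.isPerfect_rpush_flat q E₀ hE₀
  obtain ⟨DG, hDG, ⟨pG⟩⟩ := Dual8.exists_pairing G hG
  haveI := pG
  -- the dualizing module
  let w := DCoh.HD (bdx.obj O).obj (-(g : ℤ))
  have hw : Coh.IsQCoh w := (bdx.obj O).property _
  have hL' : PicF.IsInvertible L' := M2.isInvertible_of_tensor_iso_unit L' L (M2.tensorComm L' L ≪≫ eLL)
  -- cohomology of the dual
  obtain ⟨c₁, hc₁⟩ := DPerf.exists_isGE_of_perfect hDG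
  obtain ⟨c₂, hc₂⟩ := DPerf.exists_isLE_of_pseudoCoherent (DGen9.isPseudoCoherentD_of_isPerfect hDG 0)
  haveI := hc₁
  haveI := hc₂
  have hDGc : DCoh.IsCohD (DG : DCoh.D Y) := fun i => DPerf.isCoh_HD_of_pseudoCoherent
    (DGen9.isPseudoCoherentD_of_isPerfect hDG i) (DGen9.isQCohD_of_isPerfect hDG i) le_rfl
  obtain ⟨n₀, hn₀⟩ := Exact8.FMVanish.exists_twist b hL (DG : DCoh.D Y) c₁ c₂ hDGc
  let n := n₀ ⊔ n₁
  have hW : ∀ l : ℤ, l < -(k' : ℤ) ∨ (0 : ℤ) < l → IsZero (DCoh.HD (DG : DCoh.D Y) l) := by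
    intro l hl
    haveI := KFlat.Sch.hasLTensorCx (Exact8.FMVanish.sgl (CohB1.tensorPow L n))
    refine (hn₀ n le_sup_left inferInstance l).1 ?_
    let A : DMon9.DM Y := TwistBC9.modM (CohB1.tensorPow L n)
    let B : DMon9.DM Y := TwistBC9.modM (CohB1.tensorPow L' n)
    have hA : DCoh.IsPerfect (A : DCoh.D Y) := DGen9.isPerfect_of_iso
      ((DerivedCategory.singleFunctorIsoCompQ Y.Modules 0).app (CohB1.tensorPow L n)).symm
      (DGen9.ResP.isPerfect_toD (DPerf.isStrictlyPerfect_single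
        (M2.isFinLocFree_of_isInvertible (Amp.isInvertible_tensorPow hL.1 n))))
    obtain ⟨DA, hDA, ⟨pA⟩⟩ := BC8.exists_pairing_left_perfect A hA
    haveI := pA
    obtain ⟨v₁⟩ := FMBase13.nonempty_modM_tensor (CohB1.tensorPow L n) (CohB1.tensorPow L' n)
      (Amp.isInvertible_tensorPow hL' n)
    let one : CohB1.tensorMod (CohB1.tensorPow L n) (CohB1.tensorPow L' n) ≅ Coh.structureModule Y :=
      (M2.tensorPowMul L L' n).symm ≪≫ M2.tensorPowIso eLL n ≪≫ NumPoly18.powUnitIso n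
    let u₁ : A ⊗ B ≅ 𝟙_ (DMon9.DM Y) := v₁ ≪≫
      ((DerivedCategory.singleFunctor Y.Modules 0).mapIso one : _) ≪≫ FMHyp13.DualPush.oneIso
    obtain ⟨cA⟩ := FMAdj9.nonempty_comm A
    obtain ⟨eB⟩ := FMHyp13.HyperGV.nonempty_dual_of_inverse A DA B u₁ ((cA.app B).symm ≪≫ u₁)
    let K : DMon9.DM Y := DG ⊗ A
    have hK : DCoh.IsPerfect (K : DCoh.D Y) := FMAdj9.isPerfect_tensor_perf hDG hA
    obtain ⟨D, hD, ⟨pK⟩⟩ := BC8.exists_pairing_left_perfect K hK
    haveI := pK
    obtain ⟨eD⟩ := FMHyp13.DualPush.nonempty_dual_tensor DG A G DA D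
    -- the hypothesis
    let N : Y.Modules := CohB1.tensorMod (CohB1.tensorPow L' n) w
    have hz : IsZero ((DerivedCategory.homologyFunctor AddCommGrpCat.{u} ((g : ℤ) - l)).obj ((DCoh.RΓ Y).obj
        ((TwistBC9.modM w ⊗ D : DMon9.DM Y) : DCoh.D Y))) := by
      have hNq : DCoh.IsQCohD ((TwistBC9.modM N : DMon9.DM Y) : DCoh.D Y) := by
        obtain ⟨v⟩ := FMBase13.nonempty_modM_tensor w (CohB1.tensorPow L' n) (Amp.isInvertible_tensorPow hL' n)
        exact DQC.isQCohD_of_iso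
          ((v ≪≫ (DerivedCategory.singleFunctor Y.Modules 0).mapIso (M2.tensorComm w (CohB1.tensorPow L' n)) :) :)
          (DMon9.isQCohD_tensor (TwistBC9.isQCohD_inD w hw 0)
            (TwistBC9.isQCohD_inD _ (Twist.isQCoh_of_isInvertible (Amp.isInvertible_tensorPow hL' n)) 0))
      haveI := KFlat.Sch.hasLTensorCx (Exact8.FMVanish.sgl N)
      let eN : DCoh.inD Y N ≅ DCoh.toD Y (Exact8.FMVanish.sgl N) :=
        (DerivedCategory.singleFunctorIsoCompQ _ 0).app _
      obtain ⟨e⟩ := FMHyp13.HyperGV.nonempty_swap_qc p q P F hF (Exact8.FMVanish.sgl N)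
        (DQC.isQCohD_of_iso eN hNq) (DGen9.isQCohD_of_isPerfect hE₀)
      obtain ⟨t⟩ := FMAdj9.nonempty_ltIso (Exact8.FMVanish.sgl N)
      obtain ⟨v⟩ := FMBase13.nonempty_modM_tensor w (CohB1.tensorPow L' n) (Amp.isInvertible_tensorPow hL' n)
      obtain ⟨cG⟩ := FMAdj9.nonempty_comm G
      let eN' : TwistBC9.modM w ⊗ B ≅ (DCoh.toD Y (Exact8.FMVanish.sgl N) : DMon9.DM Y) := v ≪≫
        ((DerivedCategory.singleFunctor Y.Modules 0).mapIso (M2.tensorComm w (CohB1.tensorPow L' n)) : _) ≪≫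
        (eN : _)
      let eM : (TwistBC9.modM w ⊗ D : DMon9.DM Y) ≅ G ⊗ (DCoh.toD Y (Exact8.FMVanish.sgl N) : DMon9.DM Y) :=
        MonoidalCategory.whiskerLeftIso _ (eD ≪≫ MonoidalCategory.whiskerRightIso eB G) ≪≫ (α_ _ _ _).symm ≪≫
          (cG.app _).symm ≪≫ MonoidalCategory.whiskerLeftIso G eN'
      refine ((hn₁ n le_sup_right ((g : ℤ) - l) (by omega)).of_iso
        ((DerivedCategory.homologyFunctor AddCommGrpCat.{u} ((g : ℤ) - l)).mapIso ?_))
      exact (DCoh.RΓ Y).mapIso ((eM :) ≪≫ (t.app (G : DCoh.D Y)).symm) ≪≫ e.symm ≪≫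
        (DCoh.RΓ X).mapIso ((DCoh.LTensorCx F).mapIso ((DCoh.Lpull q ⋙ DCoh.LTensorCx P ⋙ DCoh.Rpush p).mapIso
          eN.symm))
    have h := FMHyp13.HyperGV.isZero_rGamma_of_dual b hYcm g hYeq hb adj O eO K D hK hD l hz
    obtain ⟨tA⟩ := FMAdj9.nonempty_ltIso (Exact8.FMVanish.sgl (CohB1.tensorPow L n))
    refine h.of_iso ((DerivedCategory.homologyFunctor AddCommGrpCat.{u} l).mapIso ((DCoh.RΓ Y).mapIso ?_))
    exact tA.app (DG : DCoh.D Y) ≪≫ (MonoidalCategory.whiskerLeftIso DG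
      ((DerivedCategory.singleFunctorIsoCompQ Y.Modules 0).app (CohB1.tensorPow L n) : _).symm :)
  have key : ∀ (i : ℤ) (y : Y), y ∈ CohB1.support (DCoh.HD (G : DCoh.D Y) i) →
      0 ≤ i ∧ ∀ c : ℕ, (c : ℤ) ≤ i - k' → ((c : ℕ∞) : WithBot ℕ∞) ≤ ringKrullDim (Y.presheaf.stalk y) := by
    intro i y hy
    obtain ⟨h1, h2⟩ := FMHyp13.gv_of_dual hYcm DG G hDG hG (-(k' : ℤ)) 0 hW i y hy
    exact ⟨by omega, fun c hc => h2 c (by omega)⟩
  refine ⟨fun i hi => ?_, fun i y hy => ?_⟩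
  · exact SerreCl8.isZero_of_support_eq_empty
      (Set.eq_empty_iff_forall_notMem.2 fun y hy => absurd (key i y hy).1 (by omega))
  · by_cases hk : i ≤ k'
    · rw [Nat.sub_eq_zero_of_le hk]
      exact ringKrullDim_nonneg_of_nontrivial
    · exact (key i y hy).2 (i - k') (by omega)

end Groth.Agent.S16380
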