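import Groth.Statements.S3387
import Groth.Agent.Lib.FibGenApp4
import Groth.Agent.Lib.FibGenSch4
import Groth.Agent.Lib.FibDim14.Semicont

set_option autoImplicit false
open CategoryTheory AlgebraicGeometry
universe u
open EGA43

set_option backward.isDefEq.respectTransparency.types false

namespace Groth.Agent.S3387

/-- Let f : X ⟶ Y be locally of finite type and closed (as a map of underlying spaces). Then for every
natural number n the set of points y of Y whose fibre has dimension at least n is closed; that is,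
the dimension of the fibre is upper semicontinuous on Y. -/
theorem result {X Y : Scheme.{u}} (f : X ⟶ Y) [LocallyOfFiniteType f]
    (hf : IsClosedMap f.base) (n : ℕ) :
    IsClosed {y : Y | (n : WithBot ℕ∞) ≤ topologicalKrullDim ↥(f.fiber y)} := by
  have hset : {y : Y | (n : WithBot ℕ∞) ≤ topologicalKrullDim ↥(f.fiber y)} =
      f.base '' {x : X | (n : WithBot ℕ∞) ≤ FlatMor.fibreDimAt f x} := by
    ext y
    constructor
    · intro h
      by_contra hn
      have key : ∀ x, f x = y → ∃ b : ℕ, b < n ∧ FlatMor.fibreDimAt f x = (b : WithBot ℕ∞) := fun x hx => by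
        obtain ⟨x', -, -, hd, -⟩ := FibDim14.exists_fibreDimAt_eq f x
        exact ⟨_, lt_of_not_ge fun hle => hn ⟨x, by rw [Set.mem_setOf_eq, hd]; exact_mod_cast hle, hx⟩, hd⟩
      rcases n with _ | m
      · have h' : topologicalKrullDim ↥(f.fiber y) ≤ ⊥ := (FibGen4.dim_fiber_le_iff f y _).2 fun x hx => by
          obtain ⟨b, hb, -⟩ := key x hx
          exact absurd hb (Nat.not_lt_zero b)
        simpa using (show (((0 : ℕ) : WithBot ℕ∞)) ≤ _ from h).trans h'
      · have h' : topologicalKrullDim ↥(f.fiber y) ≤ (m : WithBot ℕ∞) := (FibGen4.dim_fiber_le_iff f y _).2 fun x hx => by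
          obtain ⟨b, hb, hd⟩ := key x hx
          rw [hd]
          exact_mod_cast Nat.lt_succ_iff.1 hb
        have : m + 1 ≤ m := by exact_mod_cast (show (((m + 1 : ℕ) : WithBot ℕ∞)) ≤ _ from h).trans h'
        omega
    · rintro ⟨x, hx, rfl⟩
      exact le_trans hx ((FibGen4.dim_fiber_le_iff f _ _).1 le_rfl x rfl)
  rw [hset]
  refine hf _ ⟨?_⟩
  rcases n with _ | m
  · convert isOpen_empty
    refine Set.eq_empty_iff_forall_notMem.2 fun x hx => hx ?_
    obtain ⟨x', -, -, hd, -⟩ := FibDim14.exists_fibreDimAt_eq f x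
    rw [Set.mem_setOf_eq, hd]
    exact_mod_cast Nat.zero_le _
  · convert FibDim14.isOpen_fibreDimAt_le f m using 1
    ext x
    obtain ⟨x', -, -, hd, -⟩ := FibDim14.exists_fibreDimAt_eq f x
    simp only [Set.mem_compl_iff, Set.mem_setOf_eq, hd, Nat.cast_le]
    omega

end Groth.Agent.S3387
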