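import Groth.Statements.S18224
import Groth.Agent.Lib.FMHyp13.TwistArith

set_option autoImplicit false
set_option backward.isDefEq.respectTransparency false
set_option backward.isDefEq.respectTransparency.types false
universe u
open CategoryTheory CategoryTheory.Limits MonoidalCategory CartesianMonoidalCategory MonObj GrpObj AlgebraicGeometry
open AbVar

namespace Groth.Agent.S18224

/-- Let k be an algebraically closed field (any characteristic), A an abelian variety over k (a proper
smooth k-group scheme with geometrically connected fibres) of dimension g, (A^t, φ) a given dual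
abelian variety of A for the fppf topology with A^t itself an abelian variety, and P an invertible
module on A ×_k A^t whose class is a Poincaré class; for a k-point α of A^t write P_α for the
restriction of P to A × {α}. Let L be an ample invertible O_A-module with an inverse L' (L ⊗ L' ≅
O_A), negative powers of L meaning powers of L', and l its class; for b ≥ 1 let b_A : A → A be
multiplication by b. For a coherent O_A-module F and a rational x = a/b (a an integer, b ≥ 1) the
Q-twisted sheaf F⟨x l⟩ stands for the module b_A^*F ⊗ L^{ab}; it is said to satisfy IT(0) when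
h^i(A, b_A^*F ⊗ L^{ab} ⊗ P_α) = 0 for every i ≥ 1 and every k-point α of A^t, and to be GV when for
every i ≥ 1 the k-points α with h^i(A, b_A^*F ⊗ L^{ab} ⊗ P_α) > 0 lie in a closed subset of A^t of
dimension less than g − i + 1 (the i-th cohomological support locus has codimension at least i). Let
F be a coherent O_A-module and x = a/b a rational with F⟨x l⟩ GV. Then F⟨(x + y) l⟩ satisfies IT(0)
for every positive rational y: for every rational c/d > a/b (d ≥ 1), h^i(A, d_A^*F ⊗ L^{cd} ⊗ P_α) =
0 for every i ≥ 1 and every k-point α of A^t. (One direction of the printed equivalence; no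
assumption on the characteristic of k.) -/
theorem result (k : Type u) [Field k] [IsAlgClosed k]
    (A At : Over (Spec (CommRingCat.of k))) [GrpObj A] [IsProper A.hom] [Smooth A.hom] [GeometricallyConnected A.hom]
    [GrpObj At] [IsProper At.hom] [Smooth At.hom] [GeometricallyConnected At.hom]
    (φ : ∀ T : Over (Spec (CommRingCat.of k)), PicF.Cl (PicF.XT A.hom T) → (T ⟶ At))
    (hφ : AbDual.IsDualAV Scheme.fppfPrecoverage A At φ)
    (P : (pullback A.hom At.hom).Modules) (hP : PicF.IsInvertible P)
    (hPξ : AbDual.IsPoincareCl A At φ (PicF.cl P))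
    (g : ℕ) (hg : topologicalKrullDim ↥A.left = g)
    (L L' : A.left.Modules) (hL : CohB1.IsAmple L) (hLL' : Nonempty (CohB1.tensorMod L L' ≅ Coh.structureModule A.left))
    (F : A.left.Modules) (hF : Coh.IsCoh F) (a : ℤ) (b : ℕ) (hb : 0 < b)
    (hGV : (∀ i : ℕ, 1 ≤ i → ∃ Z : Set ↥At.left, IsClosed Z ∧
        topologicalKrullDim ↥Z < ((g - i + 1 : ℕ) : WithBot ℕ∞) ∧
        ∀ α : 𝟙_ (Over (Spec (CommRingCat.of k))) ⟶ At, 0 < W4c5cohrankabvar.hAt k P (W4c5cohrankabvar.twist A F L L' b (a * b)) α i → Set.range α.left.base ⊆ Z))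
    (c : ℤ) (d : ℕ) (hd : 0 < d) (hlt : (a : ℚ) / (b : ℚ) < (c : ℚ) / (d : ℚ)) :
    (∀ (i : ℕ) (α : 𝟙_ (Over (Spec (CommRingCat.of k))) ⟶ At), 1 ≤ i → W4c5cohrankabvar.hAt k P (W4c5cohrankabvar.twist A F L L' d (c * d)) α i = 0) := by
  haveI : GeometricallyIntegral A.hom := AbRigid.geometricallyIntegral_of_smooth A
  haveI : IsLocallyNoetherian A.left := LocallyOfFiniteType.isLocallyNoetherian A.hom
  have he : 0 < c * b - a * d := by
    have hb' : (0 : ℚ) < b := by exact_mod_cast hb
    have hd' : (0 : ℚ) < d := by exact_mod_cast hd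
    rw [div_lt_div_iff₀ hb' hd'] at hlt
    have : a * (d : ℤ) < c * (b : ℤ) := by exact_mod_cast hlt
    omega
  obtain ⟨e, he'⟩ := Int.eq_ofNat_of_zero_le he.le
  have hO : FlatMod.IsFinLocFree (Coh.structureModule A.left) :=
    M2.isFinLocFree_of_isInvertible (PicLoc.isInvertible_structureModule A.left)
  have hOit : ∀ (i : ℕ) (α : 𝟙_ (Over (Spec (CommRingCat.of k))) ⟶ At), 1 ≤ i →
      W4c5cohrankabvar.hAt k P (W4c5cohrankabvar.twist A (Coh.structureModule A.left) L L' (b * d)
        (((e : ℤ)) * ((b * d : ℕ) : ℤ))) α i = 0 := fun i α hi => by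
    rw [show ((e : ℤ) * ((b * d : ℕ) : ℤ)) = ((e * (b * d) : ℕ) : ℤ) by push_cast; ring]
    exact FMHyp13.it0_twist_unit hφ hP hPξ hL _ _ (Nat.mul_pos (by omega) (Nat.mul_pos hb hd)) i α hi
  have h := FMHyp13.it0_twist_tensor hφ hP hPξ hg hF hO hL hLL' a (e : ℤ) b (b * d) hb (Nat.mul_pos hb hd) hGV hOit
  rw [FMHyp13.it0_rescale hφ hP hPξ hF hL hLL' d (c * d) (b * b) (Nat.mul_pos hb hb)]
  intro i α hi
  have h' := h i α hi
  rw [show b * (b * d) = d * (b * b) by ring,
    show (a * ((b * d : ℕ) : ℤ) + (b : ℤ) * (e : ℤ)) * ((d * (b * b) : ℕ) : ℤ) =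
      c * d * (((b * b) * (b * b) : ℕ) : ℤ) by push_cast; rw [show (e : ℤ) = c * b - a * d from he'.symm]; ring] at h'
  refine (FMHyp13.hAt_eq_zero_congr hP ?_ (FMHyp13.isCoh_twist
    (CohFound.isCoh_tensor hF (CohFound.isCoh_of_isFinLocFree hO)) hL.1
      (FMHyp13.isInvertible_of_ample_inverse hL.1 hLL') _ _) α i).1 h'
  exact M2.tensorIso ((Scheme.Modules.pullback _).mapIso (M2.tensorRUnit F)) (Iso.refl _)

end Groth.Agent.S18224
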