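import Groth.Statements.S5854
import Groth.Agent.Lib.ZClos5.FlatPull
import Groth.Agent.Lib.GenBound12.Descent
import Groth.Agent.Lib.CohFound.ProjQuot
import Groth.Agent.S5841
-- import your own Groth.Agent.* helpers here

set_option autoImplicit false
universe u
open ZClos

namespace Groth.Agent.S5854

open CategoryTheory CategoryTheory.Limits AlgebraicGeometry in
/-- Let f : X' → X be a flat morphism of locally Noetherian schemes, Z a subset of X stable under
specialization, Z' = f⁻¹(Z) and F a quasi-coherent O_X-module. If H⁰_{X/Z}(F) is coherent then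
H⁰_{X'/Z'}(f^* F) is coherent; the converse holds when f is moreover surjective (faithfully flat)
and quasi-compact. -/
theorem result {X X' : Scheme.{u}} [IsLocallyNoetherian X] [IsLocallyNoetherian X'] (f : X' ⟶ X) [Flat f]
    (Z : Set X) (hZ : StableUnderSpecialization Z) (F : X.Modules) (hF : Coh.IsQCoh F) :
    (Coh.IsCoh ((ZClos.H0 Z).obj F) →
      Coh.IsCoh ((ZClos.H0 (f.base ⁻¹' Z)).obj ((Scheme.Modules.pullback f).obj F))) ∧
    (Surjective f → QuasiCompact f →
      Coh.IsCoh ((ZClos.H0 (f.base ⁻¹' Z)).obj ((Scheme.Modules.pullback f).obj F)) →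
        Coh.IsCoh ((ZClos.H0 Z).obj F)) := by
  have hH := Groth.Agent.S5841.result X Z hZ F hF
  obtain ⟨i⟩ := ZClos5.nonempty_iso_pullback_H0 f Z hZ F hH
  refine ⟨fun h => CohFound.isCoh_of_iso i (M1.isCoh_pullback f h), fun hs hq h => ?_⟩
  haveI := hs
  haveI := hq
  have hf : Presieve.ofArrows (fun _ : PUnit.{u + 1} => X') (fun _ => f) ∈ Scheme.fpqcPrecoverage X := by
    rw [Presieve.ofArrows_pUnit]
    exact Scheme.Hom.singleton_mem_fpqcPrecoverage f
  haveI := hH
  exact ⟨hH, M1.isFT_of_finite_sections hH fun U hU =>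
    GenBound12.finite_sections_of_pullback hf _ (fun _ => (CohFound.isCoh_of_iso i.symm h).2) hU⟩

end Groth.Agent.S5854
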