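import Groth.Statements.S9447
import Mathlib
import Groth.Agent.Lib.CAlgLow.ProjCrit

set_option autoImplicit false
universe u
open CAlg

namespace Groth.Agent.S9447

open TensorProduct in
/-- Formal smoothness descends along faithfully flat base change: for R → S arbitrary and R → R'
faithfully flat, the R-algebra S is formally smooth exactly when the R'-algebra R' ⊗_R S is formally
smooth. No finiteness hypothesis on S. -/
theorem result (R : Type u) [CommRing R]
    (S : Type u) [CommRing S] [Algebra R S] (R' : Type u) [CommRing R'] [Algebra R R']
    [Module.FaithfullyFlat R R'] :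
    Algebra.FormallySmooth R S ↔ Algebra.FormallySmooth R' (R' ⊗[R] S) := by
  refine ⟨fun h => inferInstance, fun h => ?_⟩
  let S' := R' ⊗[R] S
  letI : Algebra S S' := Algebra.TensorProduct.rightAlgebra
  haveI : Module.FaithfullyFlat S S' :=
    Module.FaithfullyFlat.of_linearEquiv S (S ⊗[R] R')
      { (Algebra.TensorProduct.comm R R' S).toAddEquiv with
        map_smul' := fun s x => by
          rw [Algebra.smul_def, Algebra.smul_def]
          show Algebra.TensorProduct.comm R R' S (((1 : R') ⊗ₜ s) * x) =
            (s ⊗ₜ (1 : R')) * Algebra.TensorProduct.comm R R' S x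
          rw [map_mul, Algebra.TensorProduct.comm_tmul] }
  haveI : IsScalarTower R S S' := .of_algebraMap_eq fun r => by
    show algebraMap R S' r = (1 : R') ⊗ₜ algebraMap R S r
    rw [← Algebra.TensorProduct.includeRight_apply (R := R) (A := R'), AlgHom.commutes]
  haveI : Algebra.IsPushout R R' S S' := TensorProduct.isPushout
  constructor
  · haveI : Module.Projective S' (S' ⊗[S] Ω[S⁄R]) :=
      Module.Projective.of_equiv (KaehlerDifferential.tensorKaehlerEquiv R R' S S').symm
    exact CAlgLow.projective_of_faithfullyFlat (R := S) (S := S')
  · haveI : Subsingleton (R' ⊗[R] Algebra.H1Cotangent R S) :=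
      (Algebra.tensorH1CotangentOfFlat R S R').toEquiv.subsingleton
    exact Module.FaithfullyFlat.lTensor_reflects_triviality R R' _

end Groth.Agent.S9447
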