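import Groth.Statements.S2568
import Groth.Agent.Lib.Unibr4.GoDown
import Groth.Agent.Lib.FibGenApp4

set_option autoImplicit false
open CategoryTheory AlgebraicGeometry
universe u
open EGA43

set_option backward.isDefEq.respectTransparency.types false

namespace Groth.Agent.S2568

/-- Chevalley's criterion in the case of irreducible source and base: let X and Y be irreducible
schemes, all local rings of Y geometrically unibranch, and f : X ⟶ Y a dominant morphism locally of
finite type such that for every point x the local dimension at x of the fibre through x equals the
dimension of the generic fibre (the fibre over the image of the generic point of X). Then f is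
universally open. -/
theorem result {X Y : Scheme.{u}} [IrreducibleSpace X] [IrreducibleSpace Y]
    (hY : ∀ y : Y, CAlg2.IsGeomUnibranch (Y.presheaf.stalk y)) (f : X ⟶ Y) [LocallyOfFiniteType f] [IsDominant f]
    (h : ∀ x : X, FlatMor.fibreDimAt f x = topologicalKrullDim ↥(f.fiber (f.base (genericPoint X)))) :
    UniversallyOpen f := by
  refine Unibr4.universallyOpen_of_forall f fun x => ?_
  refine Unibr4.isUnivOpenAt f x (genericPoint X) (Or.inr inferInstance) (hY _) ((genericPoint_spec X).specializes trivial) ?_ ?_
  · rw [Unibr4.apply_genericPoint f f.denseRange]
    exact Unibr4.max_of_irreducible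
  · rw [h x, FibGen4.dim_fiber_le_iff]
    intro a ha
    obtain ⟨w, -, hwa, hmax, hd⟩ := FibGen4.exists_isMaxFib f a
    have hw : genericPoint X = w := hmax _ ((genericPoint_spec X).specializes trivial) (ha.symm.trans hwa.symm)
    rw [← hd, FibGen4.fibreDimAt_eq_rd_of_isMaxFib f hmax, hw]

end Groth.Agent.S2568
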