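import Groth.Statements.S1333
import Groth.Agent.Lib.FibDim4.Constr

set_option autoImplicit false
universe u
open FlatMor

set_option backward.isDefEq.respectTransparency.types false

namespace Groth.Agent.S1333

open AlgebraicGeometry CategoryTheory Limits Topology TensorProduct Groth.Agent.FibDim4

theorem isConstructible_level {D : CommRingCat.{u}} {Z : Scheme.{u}} (h : Z ⟶ Spec D)
    [LocallyOfFinitePresentation h] [QuasiCompact h] (n : WithBot ℕ∞) :
    IsConstructible {q : Spec D | topologicalKrullDim ↑(h.fiber q) = n} := by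
  classical
  have : CompactSpace Z := QuasiCompact.compactSpace_of_compactSpace h
  let 𝒰 := Z.affineCover.finiteSubcover
  have : Finite 𝒰.I₀ := inferInstance
  have hW : ∀ j, IsAffineOpen (𝒰.f j).opensRange := fun j => isAffineOpen_opensRange _
  choose B _ _ hfp hdim using fun j => exists_chart_fibre h (hW j)
  have := fun j => hfp j inferInstance
  cases nonempty_fintype 𝒰.I₀
  let d : 𝒰.I₀ → PrimeSpectrum D → WithBot ℕ∞ := fun j q => ringKrullDim (q.asIdeal.ResidueField ⊗[D] B j)
  have hsup : ∀ q : Spec D, topologicalKrullDim ↑(h.fiber q) = Finset.univ.sup fun j => d j q := fun q => by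
    refine le_antisymm ?_ (Finset.sup_le fun j _ => ?_)
    · refine dim_le_of_cover (fun j => ((h.fiberι q ⁻¹ᵁ (𝒰.f j).opensRange : (h.fiber q).Opens) : Set (h.fiber q)))
        (fun j => (h.fiberι q ⁻¹ᵁ _).2) (fun x => ?_) (fun j => ?_)
      · obtain ⟨j, y, hy⟩ := 𝒰.exists_eq (h.fiberι q x)
        exact ⟨j, y, hy⟩
      · rw [hdim]
        exact Finset.le_sup (f := fun j => d j q) (Finset.mem_univ j)
    · exact (hdim j q).symm.le.trans (topologicalKrullDim_subspace_le _ _)
  have hlev : ∀ j m, IsConstructible {q : PrimeSpectrum D | d j q = m} := fun j m =>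
    isConstructible_ringKrullDim_fibre m
  have hle : ∀ j m, IsConstructible {q : PrimeSpectrum D | d j q ≤ m} := by
    intro j m
    by_cases hfin : (Set.Iic m).Finite
    · have : {q : PrimeSpectrum D | d j q ≤ m} = ⋃ a ∈ Set.Iic m, {q | d j q = a} := by ext; simp
      rw [this]
      exact IsConstructible.biUnion hfin fun a _ => hlev j a
    · have : m = ⊤ := by
        by_contra hm
        refine hfin ?_
        obtain rfl | ⟨k, rfl⟩ : m = ⊥ ∨ ∃ k : ℕ, m = (k : WithBot ℕ∞) := by
          induction m with
          | bot => exact Or.inl rfl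
          | coe a =>
            obtain ⟨k, rfl⟩ := ENat.ne_top_iff_exists.1 (show a ≠ ⊤ from fun ha => hm (ha ▸ rfl))
            exact Or.inr ⟨k, rfl⟩
        · rw [Set.Iic_bot]; exact Set.finite_singleton _
        · refine ((Set.finite_Iic k).image (fun i : ℕ => (i : WithBot ℕ∞))).insert ⊥ |>.subset ?_
          intro x hx
          induction x with
          | bot => exact Set.mem_insert _ _
          | coe a =>
            have ha : a ≤ (k : ℕ∞) := WithBot.coe_le_coe.1 hx
            obtain ⟨i, rfl⟩ := ENat.ne_top_iff_exists.1 (ne_top_of_le_ne_top (ENat.coe_ne_top k) ha)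
            exact Set.mem_insert_of_mem _ ⟨i, Nat.cast_le.1 ha, rfl⟩
      subst this
      simp
  rcases isEmpty_or_nonempty 𝒰.I₀ with hI | hI
  · have : ∀ q : Spec D, topologicalKrullDim ↑(h.fiber q) = ⊥ := fun q => by
      rw [hsup q, Finset.univ_eq_empty, Finset.sup_empty]
    simp only [this]
    by_cases hn : ⊥ = n <;> simp [hn]
  change IsConstructible {q : PrimeSpectrum D | topologicalKrullDim ↑(h.fiber q) = n}
  have : {q : PrimeSpectrum D | topologicalKrullDim ↑(h.fiber q) = n} =
      (⋂ j, {q : PrimeSpectrum D | d j q ≤ n}) ∩ (⋃ j, {q : PrimeSpectrum D | d j q = n}) := by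
    ext q
    rw [Set.mem_inter_iff, Set.mem_iInter, Set.mem_iUnion]
    change topologicalKrullDim ↑(h.fiber q) = n ↔ (∀ j, d j q ≤ n) ∧ ∃ j, d j q = n
    rw [hsup]
    constructor
    · intro hq
      refine ⟨fun j => hq ▸ Finset.le_sup (f := fun j => d j q) (Finset.mem_univ j), ?_⟩
      obtain ⟨j, -, hj⟩ := Finset.exists_mem_eq_sup Finset.univ Finset.univ_nonempty fun j => d j q
      exact ⟨j, hj.symm.trans hq⟩
    · rintro ⟨hall, j, hj⟩
      exact le_antisymm (Finset.sup_le fun j _ => hall j) (hj ▸ Finset.le_sup (f := fun j => d j q) (Finset.mem_univ j))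
  rw [this]
  exact (IsConstructible.iInter fun j => hle j n).inter (IsConstructible.iUnion fun j => hlev j n)

open AlgebraicGeometry CategoryTheory Limits in
/-- For a morphism of finite presentation (locally of finite presentation, quasi-compact,
quasi-separated), each level set of the function sending a point of the target to the dimension of
its fibre is locally constructible. -/
theorem result {X Y : Scheme.{u}} (f : X ⟶ Y) [LocallyOfFinitePresentation f] [QuasiCompact f] [QuasiSeparated f]
    (n : WithBot ℕ∞) :
    Topology.IsLocallyConstructible {y : ↑Y | topologicalKrullDim ↑(f.fiber y) = n} := by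
  intro y
  obtain ⟨V, hV, hyV, -⟩ := exists_isAffineOpen_mem_and_subset (X := Y) (x := y) (U := ⊤) trivial
  refine ⟨V, V.2.mem_nhds hyV, V.2, ?_⟩
  let i := hV.fromSpec
  have hdimeq : ∀ q : Spec Γ(Y, V), topologicalKrullDim ↑((pullback.snd f i).fiber q) = topologicalKrullDim ↑(f.fiber (i q)) := fun q => by
    have h := AlgebraicGeometry.isPullback_fiberToSpecResidueField_of_isPullback (IsPullback.of_hasPullback f i) q
    have : LocallyOfFiniteType (f.fiberToSpecResidueField (i q)) :=
      MorphismProperty.pullback_snd (P := @LocallyOfFiniteType) _ _ inferInstance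
    exact topologicalKrullDim_eq_of_isPullback (i.residueFieldMap q)
      (Field.toIsField _) (Field.toIsField _) (f.fiberToSpecResidueField (i q)) _ _ h
  have h := (isConstructible_level (pullback.snd f i) n).preimage_of_isOpenEmbedding hV.isoSpec.hom.isOpenEmbedding
  have e : (hV.isoSpec.hom : V → Spec Γ(Y, V)) ⁻¹' {q | topologicalKrullDim ↑((pullback.snd f i).fiber q) = n} =
      (Subtype.val : V → Y) ⁻¹' {y | topologicalKrullDim ↑(f.fiber y) = n} := by
    ext z
    change topologicalKrullDim ↑((pullback.snd f i).fiber (hV.isoSpec.hom z)) = n ↔ topologicalKrullDim ↑(f.fiber z.1) = n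
    rw [hdimeq, show i (hV.isoSpec.hom z) = z.1 from hV.fromSpec_primeIdealOf z]
  rw [e] at h
  exact h

end Groth.Agent.S1333
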