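import Groth.Statements.S10461
import Groth.Agent.Lib.AlgSpDescent.AffineFpqc
import Groth.Agent.Lib.AlgSpace.QCQS
import Groth.Agent.Lib.AlgSpace.SchemeLocus
import Groth.Agent.Lib.AlgSpace.LqfScheme
import Groth.Agent.Lib.RelCyc15.PerfectPull
-- import your own Groth.Agent.* helpers here

set_option autoImplicit false
universe u
open CategoryTheory CategoryTheory.Limits AlgebraicGeometry Topology TopologicalSpace
open AlgSp

namespace Groth.Agent.S10461

open Groth.Agent.AlgSpace Groth.Agent.AlgSpDecent in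
/-- Image of a closed set under a universally closed representable morphism from a scheme. -/
theorem isClosed_image {S : Scheme.{u}} {X : Sp S} {G : Over S} {j : (yon S).obj G ⟶ X}
    (hj : RepWith @UniversallyClosed j) {K : Set ↥G.left} (hK : IsClosed K) :
    IsClosed (Points.ofPt j '' K) := by
  rw [← isOpen_compl_iff]
  refine Points.isOpen_iff.2 fun T g => ?_
  have sq := hj.1.isPullback g
  have : UniversallyClosed (hj.1.snd g).left := hj.2 g _ _ sq
  obtain ⟨f, hf⟩ := (yon S).map_surjective (hj.1.fst g)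
  rw [← hf] at sq
  have e : Points.ofPt g ⁻¹' (Points.ofPt j '' K) = (hj.1.snd g).left '' (f.left ⁻¹' K) := by
    ext t
    constructor
    · rintro ⟨z, hz, e⟩
      obtain ⟨w, hw₁, hw⟩ := exists_pt_of_isPullback sq
        (x := Points.ofScheme G z) ((Points.ofPt_eq_map_ofScheme j z).symm.trans e)
      refine ⟨w, ?_, hw⟩
      show f.left w ∈ K
      rw [ofPt_map_eq] at hw₁
      rwa [(Points.schemeEquiv G).injective hw₁]
    · rintro ⟨w, hw, rfl⟩
      refine ⟨_, hw, ?_⟩
      rw [← ofPt_map_comp, sq.w, ofPt_map_comp]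
  rw [Set.preimage_compl, e, isOpen_compl_iff]
  exact (hj.1.snd g).left.isClosedMap _ (hK.preimage f.left.continuous)

open Groth.Agent.AlgSpace Groth.Agent.AlgSpDecent in
/-- Universally injective representable morphisms from schemes are injective on points. -/
theorem injective_ofPt {S : Scheme.{u}} {X : Sp S} {G : Over S} {j : (yon S).obj G ⟶ X}
    (hj : RepWith @UniversallyInjective j) : Function.Injective (Points.ofPt j) := fun a b h => by
  obtain ⟨T, g, t, hgt⟩ := exists_ofPt_eq (Points.ofPt j a)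
  have sq := hj.1.isPullback g
  have : UniversallyInjective (hj.1.snd g).left := hj.2 g _ _ sq
  obtain ⟨v₁, h₁, h₁'⟩ := exists_pt_of_isPullback sq (x := Points.ofScheme G a)
    ((Points.ofPt_eq_map_ofScheme j a).symm.trans hgt.symm)
  obtain ⟨v₂, h₂, h₂'⟩ := exists_pt_of_isPullback sq (x := Points.ofScheme G b)
    ((Points.ofPt_eq_map_ofScheme j b).symm.trans (h.symm.trans hgt.symm))
  rw [(hj.1.snd g).left.injective (h₁'.trans h₂'.symm)] at h₁
  exact (Points.schemeEquiv G).injective (h₁.symm.trans h₂)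

/-- Let k be a field, X an algebraic space over k and k'/k a purely inseparable field extension. If
X_{k'} is a scheme, then X is a scheme. -/
theorem result (k : Type u) [Field k] (X : AlgSp.Space (Spec (CommRingCat.of k)))
    (k' : Type u) [Field k'] [Algebra k k'] [IsPurelyInseparable k k']
    (h : (X.obj ⨯ (AlgSp.yon (Spec (CommRingCat.of k))).obj (Over.mk (Spec.map (CommRingCat.ofHom (algebraMap k k'))))).obj.IsRepresentable) : X.obj.obj.IsRepresentable := by
  let Sk := Spec (CommRingCat.of k)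
  let Z : Over Sk := Over.mk (𝟙 Sk)
  let g : Spec (CommRingCat.of k') ⟶ Sk := Spec.map (CommRingCat.ofHom (algebraMap k k'))
  let V : Over Sk := Over.mk g
  let v : V ⟶ Z := Over.homMk g (Category.comp_id _)
  have hterm := Groth.Agent.AlgSpace.isTerminalBase (S := Sk)
  have : IsAffine Z.left := inferInstanceAs (IsAffine Sk)
  have : IsAffine V.left := inferInstanceAs (IsAffine (Spec (CommRingCat.of k')))
  have : Flat v.left := by
    rw [show v.left = g from rfl, HasRingHomProperty.Spec_iff (P := @Flat)]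
    exact (RingHom.flat_algebraMap_iff).2 inferInstance
  have : Surjective v.left := Groth.Agent.RelCyc15.surjective_spec k k'
  have : UniversallyInjective v.left := Groth.Agent.RelCyc15.universallyInjective_spec k k'
  have : IsIntegralHom v.left := by
    rw [show v.left = g from rfl, IsIntegralHom.SpecMap_iff]
    exact algebraMap_isIntegral_iff.2 inferInstance
  let e := AlgSp.isoOfRepresentableBy
    (F := X.obj ⨯ (AlgSp.yon Sk).obj V) (Functor.representableBy (F := (X.obj ⨯ (AlgSp.yon Sk).obj V).obj))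
  obtain ⟨G, ⟨e⟩⟩ : ∃ G : Over Sk, Nonempty ((AlgSp.yon Sk).obj G ≅ X.obj ⨯ (AlgSp.yon Sk).obj V) :=
    ⟨_, ⟨e⟩⟩
  let q : (AlgSp.yon Sk).obj G ⟶ X.obj := e.hom ≫ Limits.prod.fst
  obtain ⟨p, hp⟩ := (AlgSp.yon Sk).map_surjective (e.hom ≫ Limits.prod.snd)
  have sq : IsPullback q ((AlgSp.yon Sk).map p) (hterm.from X.obj) ((AlgSp.yon Sk).map v) := by
    rw [hp]
    have sq0 : IsPullback (Limits.prod.fst : X.obj ⨯ (AlgSp.yon Sk).obj V ⟶ _) Limits.prod.snd
        (hterm.from X.obj) ((AlgSp.yon Sk).map v) := by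
      rw [hterm.hom_ext ((AlgSp.yon Sk).map v) (hterm.from _)]
      exact IsPullback.of_is_product' (Limits.prodIsProd X.obj ((AlgSp.yon Sk).obj V)) hterm
    exact sq0.of_iso e.symm (Iso.refl _) (Iso.refl _) (Iso.refl _) (by simp [q]) (by simp [q]) (by simp) (by simp)
  have hqc : AlgSp.RepWith @UniversallyClosed q :=
    Groth.Agent.AlgSpace.repWith_of_isPullback sq.flip ((AlgSp.repWith_yon_map_iff _ _).2 inferInstance)
  have hqs : AlgSp.RepWith @Surjective q :=
    Groth.Agent.AlgSpace.repWith_of_isPullback sq.flip ((AlgSp.repWith_yon_map_iff _ _).2 inferInstance)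
  have hqi : AlgSp.RepWith @UniversallyInjective q :=
    Groth.Agent.AlgSpace.repWith_of_isPullback sq.flip ((AlgSp.repWith_yon_map_iff _ _).2 inferInstance)
  have near : ∀ y : ↥G.left, ∃ (A : Over Sk) (w : (AlgSp.yon Sk).obj A ⟶ X.obj),
      AlgSp.RepWith @IsOpenImmersion w ∧ AlgSp.Points.ofPt q y ∈ Set.range (AlgSp.Points.map w) := by
    intro y
    obtain ⟨O, hO, hyO, -⟩ := exists_isAffineOpen_mem_and_subset (X := G.left) (x := y) (U := ⊤) trivial
    let W : Set (AlgSp.Points X.obj) := (AlgSp.Points.ofPt q '' (O : Set ↥G.left)ᶜ)ᶜ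
    have hW : IsOpen W := (isClosed_image hqc O.2.isClosed_compl).isOpen_compl
    have mem : ∀ z, AlgSp.Points.ofPt q z ∈ W ↔ z ∈ O := fun z =>
      ⟨fun h => not_not.1 fun hz => h ⟨z, hz, rfl⟩,
        fun hz ⟨z', hz', e'⟩ => hz' (injective_ofPt hqi e' ▸ hz)⟩
    have hι := Groth.Agent.AlgSpace.repWith_openSubι hW
    let o : Over.mk (O.ι ≫ G.hom) ⟶ G := Over.homMk O.ι rfl
    obtain ⟨j, hj⟩ := Groth.Agent.AlgSpace.exists_factor_openSub (W := W) ((AlgSp.yon Sk).map o ≫ q) (by
      rintro _ ⟨x, rfl⟩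
      obtain ⟨z, rfl⟩ := (AlgSp.Points.schemeEquiv _).surjective x
      show AlgSp.Points.map _ (AlgSp.Points.ofScheme _ z) ∈ W
      rw [← AlgSp.Points.ofPt_eq_map_ofScheme, Groth.Agent.AlgSpDecent.ofPt_map_comp]
      exact (mem _).2 z.2)
    have : IsOpenImmersion o.left := inferInstanceAs (IsOpenImmersion O.ι)
    have : Mono o := (Over.forget Sk).mono_of_mono_map (inferInstanceAs (Mono o.left))
    have sqA : IsPullback j ((AlgSp.yon Sk).map o) (Groth.Agent.AlgSpace.openSubι W) q := by
      refine Groth.Agent.AlgSpace.isPullback_of_mono_lifts hj fun T y x w => ?_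
      obtain ⟨k₀, rfl⟩ := (AlgSp.yon Sk).map_surjective y
      have hk : Set.range k₀.left ⊆ Set.range o.left := by
        rintro _ ⟨z, rfl⟩
        show _ ∈ Set.range O.ι
        rw [Scheme.Opens.range_ι]
        refine (mem _).1 ?_
        rw [← Groth.Agent.AlgSpDecent.ofPt_map_comp, ← w]
        exact Groth.Agent.AlgSpace.ofPt_openSubι_mem x z
      refine ⟨(AlgSp.yon Sk).map (Over.homMk (IsOpenImmersion.lift o.left k₀.left hk) (by
        rw [← Over.w o, IsOpenImmersion.lift_fac_assoc, Over.w k₀])), ?_⟩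
      rw [← Functor.map_comp]
      congr 1
      exact Over.OverMorphism.ext (IsOpenImmersion.lift_fac _ _ _)
    have : IsAffine (Over.mk (O.ι ≫ G.hom)).left := hO
    have sqT : IsPullback j ((AlgSp.yon Sk).map (o ≫ p)) (Groth.Agent.AlgSpace.openSubι W ≫ hterm.from X.obj)
        ((AlgSp.yon Sk).map v) := by
      rw [Functor.map_comp]
      exact sqA.paste_vert sq
    obtain ⟨A, i, φ, hA, hφ, -⟩ := Groth.Agent.AlgSpDescent.exists_iso_affine_of_fpqc
      (Groth.Agent.AlgSpace.isAlgSpace_of_representable hι.1 X.property) _ v _ _ sqT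
    refine ⟨A, inv φ ≫ Groth.Agent.AlgSpace.openSubι W,
      (Groth.Agent.AlgSpace.repWith_respectsIso_left (inv φ)).2 hι, ?_⟩
    rw [Groth.Agent.AlgSpace.map_comp_eq, (Groth.Agent.AlgSpace.bijective_map_iso (inv φ)).2.range_comp,
      Groth.Agent.AlgSpace.range_openSubι]
    exact (mem y).2 hyO
  choose A w hw hmem using near
  obtain ⟨H, ⟨eH⟩⟩ := Groth.Agent.AlgSpace.exists_iso_yon_of_points_cover (κ := ↥G.left)
    (U := A) (w := w) hw fun x => by
    obtain ⟨z, rfl⟩ := Groth.Agent.AlgSpace.surjective_ofPt hqs x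
    exact ⟨z, hmem z⟩
  exact Groth.Agent.AlgSpace.isRepresentable_of_iso_yon eH

end Groth.Agent.S10461
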