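import Groth.Statements.S0800
import Groth.Agent.Lib.CohFound.Colim
import Groth.Agent.Lib.CohFound.RpushColim
import Groth.Agent.Lib.CohFound.ModAb
import Mathlib.AlgebraicGeometry.Morphisms.QuasiSeparated

set_option autoImplicit false
universe u
open Coherent

namespace Groth.Agent.S0800

open CategoryTheory CategoryTheory.Limits AlgebraicGeometry in
/-- Let f : X → S be quasi-compact and quasi-separated. Then for every p the higher direct image functor
R^p f_* on abelian sheaves (on the underlying spaces) preserves filtered colimits. -/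
theorem result {X S : Scheme.{u}} (f : X ⟶ S) [QuasiCompact f]
    [QuasiSeparated f] (p : ℕ) (J : Type u) [SmallCategory J] [IsFiltered J] :
    PreservesColimitsOfShape J (Coh.RpushAb f p) := by
  refine ⟨fun {F} => ?_⟩
  refine CohFound.preservesColimit_rpush _ F p ?_
  refine TopologicalSpace.Opens.isBasis_iff_nbhd.2 fun {U x} hx => ?_
  obtain ⟨V, hV, hxV, hVU⟩ := TopologicalSpace.Opens.isBasis_iff_nbhd.1 S.isBasis_affineOpens hx
  refine ⟨V, ?_, hxV, hVU⟩
  have h := CohFound.preservesColimitsOfShape_cohomology (X := CohFound.sp X) (J := J) p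
    (U := f ⁻¹ᵁ V) (f.isCompact_preimage hV.isCompact) (f.isQuasiSeparated_preimage hV.isQuasiSeparated)
  exact h.preservesColimit

end Groth.Agent.S0800
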