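import Groth.Statements.S5767
import Groth.Agent.Lib.HilbSam.Param
import Mathlib.RingTheory.Regular.RegularSequence

set_option autoImplicit false
universe u
open EGA41

namespace Groth.Agent.S5767

/-- Let A be a semi-local Noetherian ring, M a finitely generated A-module and x an element of the
Jacobson radical of A. One always has dim(M/xM) ≥ dim(M) - 1; equality dim(M/xM) = dim(M) - 1 holds
if and only if x belongs to none of the prime ideals p of Supp(M) with dim(A/p) = dim(M). Stated as:
dim(M/xM) + 1 = dim(M) iff x avoids those primes. -/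
theorem result (A : Type u) [CommRing A] [IsNoetherianRing A]
    [Finite (MaximalSpectrum A)] (M : Type u) [AddCommGroup M] [Module A M] [Module.Finite A M] (x : A)
    (hx : x ∈ Ring.jacobson A) :
    Module.supportDim A (QuotSMulTop x M) + 1 = Module.supportDim A M ↔
      ∀ p : PrimeSpectrum A, p ∈ Module.support A M →
        ringKrullDim (A ⧸ p.asIdeal) = Module.supportDim A M → x ∉ p.asIdeal := by
  classical
  have e : (QuotSMulTop x M) ≃ₗ[A] M ⧸ Ideal.ofList [x] • (⊤ : Submodule A M) :=
    Submodule.quotEquivOfEq _ _ (by rw [Ideal.ofList_singleton, Submodule.ideal_span_singleton_smul])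
  rw [Module.supportDim_eq_of_equiv e]
  rcases subsingleton_or_nontrivial M with hM | hM
  · rw [Module.supportDim_eq_bot_of_subsingleton, Module.supportDim_eq_bot_of_subsingleton]
    simp only [WithBot.bot_add, true_iff]
    intro p hp
    rw [Module.support_eq_empty] at hp
    exact hp.elim
  let Q := M ⧸ Ideal.ofList [x] • (⊤ : Submodule A M)
  have hxs : ∀ a ∈ [x], a ∈ Ring.jacobson A := by simpa using hx
  have : Nontrivial Q := Submodule.Quotient.nontrivial_iff.2 (Submodule.top_ne_ideal_smul_of_le_jacobson_annihilator
    ((Ideal.span_le.2 hxs : Ideal.ofList [x] ≤ Ring.jacobson A).trans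
      (by rw [Ideal.jacobson, ← Ideal.jacobson_bot]; exact Ideal.jacobson_mono bot_le))).symm
  obtain ⟨D, hD⟩ := Groth.Agent.HilbSam.exists_supportDim_eq_natCast (A := A) (M := M)
  obtain ⟨d, hd⟩ := Groth.Agent.HilbSam.exists_supportDim_eq_natCast (A := A) (M := Q)
  rw [hD, hd, show ((d : WithBot ℕ∞) + 1) = ((d + 1 : ℕ) : WithBot ℕ∞) by rw [Nat.cast_add, Nat.cast_one],
    Nat.cast_inj]
  have hle : D ≤ d + 1 := by
    have h := Groth.Agent.HilbSam.supportDim_le_quotient_add (M := M) [x] hxs hd.le
    rw [hD, Nat.cast_le] at h
    simpa [add_comm] using h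
  have hsub : ∀ p : PrimeSpectrum A, p ∈ Module.support A M → ∀ q : PrimeSpectrum A, p ≤ q →
      q ∈ Module.support A M := fun p hp q hpq => Module.mem_support_mono hpq hp
  constructor
  · intro h p hp htop hxp
    have h1 : Module.supportDim A (A ⧸ p.asIdeal) ≤ d := by
      refine (Groth.Agent.HilbSam.supportDim_le_iff d).2 fun l hl => ?_
      rw [Ideal.annihilator_quotient] at hl
      refine (Groth.Agent.HilbSam.supportDim_le_iff (M := Q) d).1 hd.le l ?_
      have : l.head ∈ Module.support A Q := (Groth.Agent.HilbSam.mem_support_quotient_iff _ _).2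
        ⟨hsub p hp _ hl, by rw [Ideal.ofList_singleton, Ideal.span_singleton_le_iff_mem]; exact hl hxp⟩
      exact Module.annihilator_le_of_mem_support this
    rw [Module.supportDim_quotient_eq_ringKrullDim, htop, Nat.cast_le] at h1
    omega
  · intro h
    have key : ∀ l : LTSeries (PrimeSpectrum A), Module.annihilator A Q ≤ l.head.asIdeal → l.length + 1 ≤ D := by
      intro l hl
      have hq : l.head ∈ Module.support A Q := by
        rw [Module.support_eq_zeroLocus]
        exact hl
      rw [Groth.Agent.HilbSam.mem_support_quotient_iff, Ideal.ofList_singleton, Ideal.span_singleton_le_iff_mem] at hq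
      obtain ⟨hqM, hxq⟩ := hq
      by_contra hlen
      obtain ⟨p, hp, hpl⟩ := Ideal.exists_minimalPrimes_le (J := l.head.asIdeal)
        (Module.annihilator_le_of_mem_support hqM)
      have hbound := (Groth.Agent.HilbSam.supportDim_le_iff D).1 hD.le
      rcases hpl.eq_or_lt with e | hlt
      · refine h l.head hqM (le_antisymm ?_ ?_) hxq
        · rw [← Module.supportDim_quotient_eq_ringKrullDim, Groth.Agent.HilbSam.supportDim_le_iff]
          intro l' hl'
          rw [Ideal.annihilator_quotient] at hl'
          exact hbound l' ((Module.annihilator_le_of_mem_support hqM).trans hl')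
        · rw [← Module.supportDim_quotient_eq_ringKrullDim]
          let l' : LTSeries (Module.support A (A ⧸ l.head.asIdeal)) :=
            { length := l.length
              toFun := fun i => ⟨l i, by
                rw [Module.support_eq_zeroLocus, Ideal.annihilator_quotient]
                exact l.head_le i⟩
              step := fun i => l.step i }
          refine le_trans ?_ (Order.LTSeries.length_le_krullDim l')
          exact Nat.cast_le.2 (by change D ≤ l.length; omega)
      · have := hbound (l.cons ⟨p, hp.1.1⟩ ((PrimeSpectrum.asIdeal_lt_asIdeal _ _).1 hlt)) (by simpa using hp.1.2)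
        simp only [RelSeries.cons_length] at this
        omega
    have hD1 : 1 ≤ D := by
      obtain ⟨q, hq⟩ := Module.nonempty_support_of_nontrivial (R := A) (M := Q)
      have := key (RelSeries.singleton _ q) (Module.annihilator_le_of_mem_support hq)
      omega
    have hd' : Module.supportDim A Q ≤ ((D - 1 : ℕ) : WithBot ℕ∞) :=
      (Groth.Agent.HilbSam.supportDim_le_iff (D - 1)).2 fun l hl => by have := key l hl; omega
    rw [hd, Nat.cast_le] at hd'
    omega

end Groth.Agent.S5767
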