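import Groth.Statements.S5758
import Groth.Agent.Lib.Depth.CM
import Groth.Agent.Lib.HilbSam.Param
import Groth.Agent.S5767

set_option autoImplicit false
universe u
open EGA41

namespace Groth.Agent.S5758

theorem congr_cm {A : Type u} [CommRing A] [IsLocalRing A] {M N : Type u} [AddCommGroup M] [Module A M]
    [AddCommGroup N] [Module A N] (e : M ≃ₗ[A] N) (h : LocCoh.IsCohenMacaulayModule A N) :
    LocCoh.IsCohenMacaulayModule A M := by
  unfold LocCoh.IsCohenMacaulayModule LocCoh.depth at h ⊢
  rw [Module.supportDim_eq_of_equiv e, Groth.Agent.DepthLib.idealDepth_congr e, h]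

/-- Let A be a Noetherian local ring, M a nonzero finitely generated Cohen-Macaulay A-module and x_1,
..., x_r elements of the maximal ideal. The sequence (x_i) is M-regular if and only if dim(M/(x_1 M
+ ... + x_r M)) = dim(M) - r, i.e. if and only if the x_i are part of a system of parameters for M;
and when this holds the quotient M/(x_1 M + ... + x_r M) is again a Cohen-Macaulay module. -/
theorem result (A : Type u) [CommRing A]
    [IsLocalRing A] [IsNoetherianRing A] (M : Type u) [AddCommGroup M] [Module A M] [Module.Finite A M]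
    (hM : LocCoh.IsCohenMacaulayModule A M) (xs : List A) (hxs : ∀ x ∈ xs, x ∈ IsLocalRing.maximalIdeal A) :
    (RingTheory.Sequence.IsWeaklyRegular M xs ↔
        Module.supportDim A (M ⧸ (Ideal.ofList xs • (⊤ : Submodule A M))) + xs.length =
          Module.supportDim A M) ∧
      (RingTheory.Sequence.IsWeaklyRegular M xs →
        LocCoh.IsCohenMacaulayModule A (M ⧸ (Ideal.ofList xs • (⊤ : Submodule A M)))) := by
  induction xs generalizing M with
  | nil =>
    let e : (M ⧸ (Ideal.ofList ([] : List A) • (⊤ : Submodule A M))) ≃ₗ[A] M :=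
      Submodule.quotEquivOfEqBot _ (by rw [Ideal.ofList_nil, Submodule.bot_smul])
    exact ⟨iff_of_true (RingTheory.Sequence.IsWeaklyRegular.nil A M)
      (by rw [Module.supportDim_eq_of_equiv e]; simp), fun _ => congr_cm e hM⟩
  | cons x rs ih =>
    have hx : x ∈ IsLocalRing.maximalIdeal A := hxs x (List.mem_cons_self ..)
    have hrs : ∀ y ∈ rs, y ∈ IsLocalRing.maximalIdeal A := fun y hy => hxs y (List.mem_cons_of_mem _ hy)
    have hjac : ∀ y ∈ IsLocalRing.maximalIdeal A, y ∈ Ring.jacobson A := fun y hy => by
      rwa [IsLocalRing.ringJacobson_eq_maximalIdeal]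
    have := Groth.Agent.DepthLib.nontrivial_of_isCohenMacaulayModule hM
    let M' := QuotSMulTop x M
    let Q := M' ⧸ Ideal.ofList rs • (⊤ : Submodule A M')
    let e : (M ⧸ (Ideal.ofList (x :: rs) • (⊤ : Submodule A M))) ≃ₗ[A] Q :=
      Submodule.quotOfListConsSMulTopEquivQuotSMulTopInner M x rs
    have hne : ∀ (N : Type u) [AddCommGroup N] [Module A N] [Module.Finite A N] [Nontrivial N] (I : Ideal A),
        I ≤ IsLocalRing.maximalIdeal A → Nontrivial (N ⧸ I • (⊤ : Submodule A N)) := fun N _ _ _ _ I hI =>
      Submodule.Quotient.nontrivial_iff.2 (Submodule.top_ne_ideal_smul_of_le_jacobson_annihilator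
        (hI.trans (IsLocalRing.maximalIdeal_le_jacobson _))).symm
    have : Nontrivial (M ⧸ Ideal.ofList (x :: rs) • (⊤ : Submodule A M)) :=
      hne M _ (Ideal.span_le.2 hxs)
    have : Nontrivial Q := e.symm.toEquiv.nontrivial
    have : Nontrivial M' := (Submodule.Quotient.mk_surjective (Ideal.ofList rs • (⊤ : Submodule A M'))).nontrivial
    obtain ⟨D, hD⟩ := Groth.Agent.DepthLib.exists_supportDim_eq_natCast (R := A) (M := M)
    obtain ⟨d1, hd1⟩ := Groth.Agent.DepthLib.exists_supportDim_eq_natCast (R := A) (M := M')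
    obtain ⟨d, hd⟩ := Groth.Agent.DepthLib.exists_supportDim_eq_natCast (R := A) (M := Q)
    rw [RingTheory.Sequence.isWeaklyRegular_cons_iff, Module.supportDim_eq_of_equiv e, hd, hD, List.length_cons,
      ← Nat.cast_add, Nat.cast_inj]
    by_cases hreg : IsSMulRegular M x
    · have hM' := (Groth.Agent.DepthLib.isCohenMacaulayModule_quotSMulTop_iff hx hreg).2 hM
      obtain ⟨hiff, hcm⟩ := ih M' hM' hrs
      rw [hd, hd1, ← Nat.cast_add, Nat.cast_inj] at hiff
      have h1 := Module.supportDim_quotSMulTop_succ_eq_supportDim hreg hx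
      rw [hd1, hD, ← Nat.cast_one, ← Nat.cast_add, Nat.cast_inj] at h1
      refine ⟨⟨fun h => ?_, fun h => ⟨hreg, hiff.2 (by omega)⟩⟩, fun h => congr_cm e (hcm h.2)⟩
      have := hiff.1 h.2
      omega
    · refine ⟨iff_of_false (fun h => hreg h.1) fun h => hreg ?_, fun h => (hreg h.1).elim⟩
      have hA : Finite (MaximalSpectrum A) := inferInstance
      have h2 : d1 ≤ rs.length + d := by
        have := Groth.Agent.HilbSam.supportDim_le_quotient_add (M := M') rs (fun y hy => hjac y (hrs y hy)) hd.le
        rwa [hd1, Nat.cast_le] at this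
      have h3 : D ≤ d1 + 1 := by
        have h4 := Module.supportDim_le_supportDim_quotSMulTop_succ (M := M) hx
        rwa [hd1, hD, ← Nat.cast_one, ← Nat.cast_add, Nat.cast_le] at h4
      have htop : ∀ p : PrimeSpectrum A, p ∈ Module.support A M →
          ringKrullDim (A ⧸ p.asIdeal) = Module.supportDim A M → x ∉ p.asIdeal :=
        (Groth.Agent.S5767.result A M x (hjac x hx)).1 (by
          rw [hd1, hD, ← Nat.cast_one, ← Nat.cast_add, Nat.cast_inj]
          omega)
      by_contra hne'
      have hxm : x ∈ ⋃ p ∈ associatedPrimes A M, (p : Set A) := by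
        rw [biUnion_associatedPrimes_eq_compl_regular]
        exact hne'
      simp only [Set.mem_iUnion] at hxm
      obtain ⟨p, hp, hxp⟩ := hxm
      have := IsAssociatedPrime.isPrime hp
      exact htop ⟨p, inferInstance⟩ (Groth.Agent.DepthLib.mem_support_of_mem_associatedPrimes hp)
        (Groth.Agent.DepthLib.ringKrullDim_quotient_eq_of_mem_associatedPrimes hM hp) hxp

end Groth.Agent.S5758
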