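import Groth.Statements.S1240
import Groth.Agent.Lib.FibVal4
import Groth.Agent.Lib.FibGenSch4
import Mathlib.AlgebraicGeometry.Morphisms.UniversallyOpen

set_option autoImplicit false
universe u
open FlatMor

set_option backward.isDefEq.respectTransparency.types false

namespace Groth.Agent.S1240


open AlgebraicGeometry CategoryTheory TopologicalSpace in
theorem mem_of_minimal {S : Scheme.{u}} (U : S.Opens) (hU : Dense (U : Set S))
    (hr : IsRetrocompact (U : Set S)) (η : S) (hmin : ∀ y, y ⤳ η → y = η) : η ∈ U := by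
  obtain ⟨V, hV, hηV, -⟩ := exists_isAffineOpen_mem_and_subset (U := (⊤ : S.Opens)) (x := η) trivial
  obtain ⟨q, rfl⟩ : ∃ q, hV.fromSpec q = η := ⟨_, hV.fromSpec_primeIdealOf ⟨η, hηV⟩⟩
  by_contra hq
  have hc : IsCompact (hV.fromSpec ⁻¹' (U : Set S)) := by
    have h1 := hr hV.isCompact V.2
    have h2 := hV.fromSpec.isOpenEmbedding.isInducing.isCompact_iff (s := hV.fromSpec ⁻¹' (U : Set S))
    rw [h2, Set.image_preimage_eq_inter_range, hV.range_fromSpec]
    exact h1
  obtain ⟨J, hJfg, hJ⟩ := (PrimeSpectrum.isCompact_isOpen_iff_ideal).1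
    ⟨hc, U.2.preimage hV.fromSpec.continuous⟩
  haveI := q.2
  have hJq : J ≤ q.asIdeal := by
    intro a ha
    by_contra haq
    refine hq (show q ∈ hV.fromSpec ⁻¹' (U : Set S) from hJ ▸ ?_)
    exact fun h => haq (h ha)
  have hmin' : ∀ Q : Ideal Γ(S, V), Q.IsPrime → Q ≤ q.asIdeal → Q = q.asIdeal := fun Q hQ hQq => by
    let Q' : Spec Γ(S, V) := ⟨Q, hQ⟩
    exact congrArg PrimeSpectrum.asIdeal (hV.fromSpec.isOpenEmbedding.injective
      (hmin _ (((PrimeSpectrum.le_iff_specializes Q' q).1 hQq).map hV.fromSpec.continuous)))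
  obtain ⟨G, hG⟩ := hJfg
  have key : ∀ a ∈ G, ∃ g ∉ q.asIdeal, ∀ P : Ideal Γ(S, V), P.IsPrime → g ∉ P → a ∈ P := by
    intro a ha
    by_contra hcon
    push Not at hcon
    let M : Submonoid Γ(S, V) := q.asIdeal.primeCompl ⊔ Submonoid.powers a
    have hdisj : Disjoint ((⊥ : Ideal Γ(S, V)) : Set Γ(S, V)) (M : Set Γ(S, V)) := by
      rw [Set.disjoint_left]
      intro z hz hzM
      rw [SetLike.mem_coe, Ideal.mem_bot] at hz
      subst hz
      obtain ⟨g, hg, w, ⟨k, rfl⟩, hgw⟩ := Submonoid.mem_sup.1 hzM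
      obtain ⟨P, hP, hgP, haP⟩ := hcon g hg
      have h0 : g * a ^ k ∈ P := hgw ▸ P.zero_mem
      rcases hP.mem_or_mem h0 with h | h
      · exact hgP h
      · exact haP (hP.mem_of_pow_mem _ h)
    obtain ⟨P, hP, -, hPM⟩ := Ideal.exists_le_prime_disjoint ⊥ M hdisj
    have hPq : P ≤ q.asIdeal := fun z hz => by
      by_contra hzq
      exact Set.disjoint_left.1 hPM hz (Submonoid.mem_sup_left hzq)
    have : a ∈ P := (hmin' P hP hPq).symm ▸ hJq (hG ▸ Submodule.subset_span ha)
    exact Set.disjoint_left.1 hPM this (Submonoid.mem_sup_right (Submonoid.mem_powers a))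
  choose g hg hgP using key
  let h := ∏ a ∈ G.attach, g a a.2
  have hh : h ∉ q.asIdeal := fun hmem => by
    obtain ⟨a, -, ha⟩ := (Ideal.IsPrime.prod_mem_iff (p := q.asIdeal)).1 hmem
    exact hg a a.2 ha
  let O : Set S := hV.fromSpec '' (PrimeSpectrum.basicOpen h : Set (PrimeSpectrum Γ(S, V)))
  obtain ⟨_, ⟨t, ht, rfl⟩, htU⟩ := hU.inter_open_nonempty O
    (hV.fromSpec.isOpenEmbedding.isOpenMap _ (PrimeSpectrum.basicOpen h).2) ⟨_, q, hh, rfl⟩
  have : t ∈ hV.fromSpec ⁻¹' (U : Set S) := htU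
  rw [← hJ] at this
  refine this fun a ha => ?_
  rw [← hG] at ha
  refine (Submodule.span_le (p := t.asIdeal)).2 (fun b hb => hgP b hb t.asIdeal t.2 fun hgb => ?_) ha
  exact ht (Ideal.prod_mem (I := t.asIdeal) (Finset.mem_attach _ ⟨b, hb⟩) hgb)

open AlgebraicGeometry CategoryTheory in
/-- Let f : X → S be flat and locally of finite type and U ⊆ S a dense open such that the fibres of f at
points over U have local dimension at most e everywhere. If f is locally of finite presentation, or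
U is retrocompact in S, then every fibre of f has local dimension at most e at every point. -/
theorem result {X S : Scheme.{u}} (f : X ⟶ S) [Flat f] [LocallyOfFiniteType f]
    (U : S.Opens) (hU : Dense (U : Set S)) (e : ℕ)
    (hle : ∀ x : X, f.base x ∈ U → FlatMor.fibreDimAt f x ≤ e)
    (h : LocallyOfFinitePresentation f ∨ IsRetrocompact (U : Set S)) (x : X) :
    FlatMor.fibreDimAt f x ≤ e := by
  rcases h with hfp | hr
  · obtain ⟨x', -, -, hmax, hd⟩ := FibGen4.exists_isMaxFib f x
    obtain ⟨W, hxW, hW⟩ := FibGen4.exists_nhd_fibreDimAt_eq f hmax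
    obtain ⟨_, ⟨y, hy, rfl⟩, hyU⟩ := hU.inter_open_nonempty _ (f.isOpenMap _ W.2) ⟨_, x', hxW, rfl⟩
    rw [← hd, ← hW y hy]
    exact hle y hyU
  · obtain ⟨Z, hZ, hs⟩ : ∃ Z ∈ irreducibleComponents S, f x ∈ Z :=
      ⟨irreducibleComponent (f x), irreducibleComponent_mem_irreducibleComponents _, mem_irreducibleComponent⟩
    have hcl := isClosed_of_mem_irreducibleComponents Z hZ
    obtain ⟨η, hη⟩ := QuasiSober.sober hZ.1 hcl
    have hηU : η ∈ U := mem_of_minimal U hU hr η fun y hy => by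
      have h1 : Z ⊆ closure {y} := by
        rw [← hη.def]
        exact closure_minimal (Set.singleton_subset_iff.2 hy.mem_closure) isClosed_closure
      have h2 := hZ.2 isIrreducible_singleton.closure h1
      refine (hy.antisymm (specializes_iff_mem_closure.2 ?_)).eq
      rw [hη.def]
      exact h2 (subset_closure rfl)
    obtain ⟨x', hx', hle'⟩ := FibGen4.exists_fibreDimAt_le f x (s' := η) (hη.specializes hs)
    exact hle'.trans (hle x' (hx' ▸ hηU))

end Groth.Agent.S1240
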