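import Groth.Statements.S6883
import Groth.Agent.Lib.CAlgLow.FerrandFlat

set_option autoImplicit false
universe u
open TensorProduct
open CAlg

namespace Groth.Agent.S6883




/-- For an injective ring map `R → S` between Noetherian rings making `S` a finite `R`-module, and an
`R`-module `M`, flatness of `S ⊗_R M` over `S` implies flatness of `M` over `R`. -/
theorem result (R S : Type u) [CommRing R] [IsNoetherianRing R]
    [CommRing S] [IsNoetherianRing S] [Algebra R S] [Module.Finite R S] (hinj : Function.Injective (algebraMap R S))
    (M : Type u) [AddCommGroup M] [Module R M] [Module.Flat S (S ⊗[R] M)] : Module.Flat R M := by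
  exact Groth.Agent.CAlgLow.Ferrand.flat_descent (S := S) hinj inferInstance

end Groth.Agent.S6883
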