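import Groth.Statements.S4900
import Groth.Agent.Lib.SchDom.FlatStage

set_option autoImplicit false
universe u
open CategoryTheory AlgebraicGeometry
open EGA43

namespace Groth.Agent.S4900

open Groth.Agent CategoryTheory.Limits

/-- Let S be the limit of a cofiltered system (S_i) of schemes with affine transition morphisms, S_{i₀}
a quasi-compact stage, f₀ : X₀ ⟶ Y₀ an S_{i₀}-morphism between schemes of finite presentation over
S_{i₀}, F₀ a quasi-coherent O_{X₀}-module of finite presentation, f : X ⟶ Y and F the base changes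
to S, and x a point of X. Then F is f-flat at x if and only if there are an index i over i₀ and base
changes f_i : X_i ⟶ Y_i, F_i of f₀, F₀ to S_i (pullback squares, with the induced compatible
morphisms X ⟶ X_i, Y ⟶ Y_i) such that F_i is f_i-flat at the image x_i of x in X_i. -/
theorem result {I : Type u} [SmallCategory I] [IsCofiltered I]
    (D : I ⥤ Scheme.{u}) (c : Limits.Cone D) (hc : Limits.IsLimit c)
    [∀ (i j : I) (φ : i ⟶ j), IsAffineHom (D.map φ)] (i₀ : I) [CompactSpace (D.obj i₀)]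
    {X₀ Y₀ : Scheme.{u}} (f₀ : X₀ ⟶ Y₀) (g₀ : Y₀ ⟶ D.obj i₀)
    [LocallyOfFinitePresentation g₀] [QuasiCompact g₀] [QuasiSeparated g₀]
    [LocallyOfFinitePresentation (f₀ ≫ g₀)] [QuasiCompact (f₀ ≫ g₀)] [QuasiSeparated (f₀ ≫ g₀)]
    (F₀ : X₀.Modules) [Coh.IsQCoh F₀] (hF₀ : CohB1.IsFP F₀)
    {X Y : Scheme.{u}} (f : X ⟶ Y) (g : Y ⟶ c.pt) (qY : Y ⟶ Y₀) (qX : X ⟶ X₀)
    (hY : IsPullback qY g g₀ (c.π.app i₀)) (hX : IsPullback qX f f₀ qY) (x : X) :
    FlatMod.IsFlatOverAt f ((Scheme.Modules.pullback qX).obj F₀) x ↔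
      ∃ (i : I) (φ : i ⟶ i₀) (Xi Yi : Scheme.{u}) (fi : Xi ⟶ Yi) (gi : Yi ⟶ D.obj i)
        (pY : Yi ⟶ Y₀) (pX : Xi ⟶ X₀) (vY : Y ⟶ Yi) (vX : X ⟶ Xi),
        IsPullback pY gi g₀ (D.map φ) ∧ IsPullback pX fi f₀ pY ∧
          vY ≫ pY = qY ∧ vY ≫ gi = g ≫ c.π.app i ∧ vX ≫ pX = qX ∧ vX ≫ fi = f ≫ vY ∧
          FlatMod.IsFlatOverAt fi ((Scheme.Modules.pullback pX).obj F₀) (vX x) := by
  haveI : LocallyOfFinitePresentation f₀ := SchBasic.locallyOfFinitePresentation_of_comp f₀ g₀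
  haveI : ∀ {i j : I} (a : i ⟶ j), IsAffineHom (D.map a) := fun a => inferInstance
  haveI : IsAffineHom (c.π.app i₀) := isAffineHom_π_app D c hc i₀
  haveI : IsAffineHom qY := MorphismProperty.of_isPullback (P := @IsAffineHom) hY.flip ‹_›
  have hZ : IsZero (kernel (𝟙 F₀)) := isZero_kernel_of_mono _
  haveI : Coh.IsQCoh (kernel (𝟙 F₀)) := M1.isQCoh_isZero hZ
  let h₀ : kernel (𝟙 F₀) ⟶ F₀ := 0
  rw [← SchDom.good_iff_of_isZero hZ h₀ qX f x]
  constructor
  · intro h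
    obtain ⟨k, vY, vX, h1, h2, h3, h4, hgood⟩ :=
      SchDom.exists_stage_good D c hc i₀ f₀ g₀ _ F₀ (SchDom.isFP_of_isZero hZ) hF₀ h₀ f g qY qX hY hX x h
    exact ⟨k.left, k.hom, _, _, pullback.snd f₀ _, pullback.snd g₀ (D.map k.hom), pullback.fst g₀ (D.map k.hom),
      pullback.fst f₀ _, vY, vX, IsPullback.of_hasPullback _ _, IsPullback.of_hasPullback _ _, h1, h2, h3, h4,
      (SchDom.good_iff_of_isZero hZ h₀ _ _ _).1 hgood⟩
  · rintro ⟨i, φ, Xi, Yi, fi, gi, pY, pX, vY, vX, hYi, hXi, h1, -, h3, h4, hflat⟩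
    haveI : IsAffineHom pY := MorphismProperty.of_isPullback (P := @IsAffineHom) hYi.flip inferInstance
    exact SchDom.good_of_stage f₀ _ F₀ h₀ f qY qX hX x fi pY pX hXi vY vX h1 h3 h4
      ((SchDom.good_iff_of_isZero hZ h₀ _ _ _).2 hflat)

end Groth.Agent.S4900
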