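import Groth.Statements.S1575
import Groth.Agent.Lib.WeakAss18.Iso
import Groth.Agent.Lib.WeakAss18.Push

set_option autoImplicit false
universe u
open CategoryTheory CategoryTheory.Limits AlgebraicGeometry
open Divisors

namespace Groth.Agent.S1575

/-- Let X be locally Noetherian, F coherent, and U open such that at every point outside U the stalk of
F has depth at least two over the local ring. Then F → j_*(F|_U) is an isomorphism: for every open
V, restriction of sections Γ(V, F) → Γ(V ∩ U, F) is a bijection. -/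
theorem result (X : Scheme.{u}) [IsLocallyNoetherian X]
    (F : X.Modules) (hF : Coh.IsCoh F) (U : X.Opens)
    (hdepth : ∀ x : X, x ∉ U → 2 ≤ LocCoh.depth (X.presheaf.stalk x) (F.presheaf.stalk x)) (V : X.Opens) :
    Function.Bijective (F.val.presheaf.map (homOfLE (inf_le_left : V ⊓ U ≤ V)).op) := by
  haveI := hF.1
  haveI : Coh.IsQCoh ((Scheme.Modules.restrictFunctor U.ι).obj F) := Groth.Agent.M1.isQCoh_restrict hF.1 U.ι
  let G := (Scheme.Modules.pushforward U.ι).obj ((Scheme.Modules.restrictFunctor U.ι).obj F)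
  let φ : F ⟶ G := (Scheme.Modules.restrictAdjunction U.ι).unit.app F
  have hG : Coh.IsQCoh G := Groth.Agent.M1.isQCoh_push U.ι (F := (Scheme.Modules.restrictFunctor U.ι).obj F) inferInstance
  have hloc : ∀ W : X.Opens, W ≤ U → Function.Bijective (φ.app W) := by
    intro W hW
    have e : U.ι ''ᵁ (U.ι ⁻¹ᵁ W) = W := by
      rw [Scheme.Hom.image_preimage_eq_opensRange_inf, Scheme.Opens.opensRange_ι, inf_eq_right.mpr hW]
    haveI : IsIso (homOfLE (U.ι.image_preimage_le W)) := ⟨homOfLE e.ge, Subsingleton.elim _ _, Subsingleton.elim _ _⟩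
    exact ConcreteCategory.bijective_of_isIso (F.presheaf.map (homOfLE (U.ι.image_preimage_le W)).op)
  haveI : IsIso φ := by
    refine Groth.Agent.WA.isIso_of_depth φ hF hG fun x => ?_
    by_cases hx : x ∈ U
    · refine Or.inl ⟨fun a b hab => ?_, fun g => ?_⟩
      · obtain ⟨W₁, hxW₁, a, rfl⟩ := F.presheaf.exists_germ_eq a
        obtain ⟨W₂, hxW₂, b, rfl⟩ := F.presheaf.exists_germ_eq b
        let W := W₁ ⊓ W₂ ⊓ U
        have hxW : x ∈ W := ⟨⟨hxW₁, hxW₂⟩, hx⟩
        rw [← F.presheaf.germ_res_apply (homOfLE (inf_le_left.trans inf_le_left : W ≤ W₁)) x hxW a,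
          ← F.presheaf.germ_res_apply (homOfLE (inf_le_left.trans inf_le_right : W ≤ W₂)) x hxW b] at hab ⊢
        erw [TopCat.Presheaf.stalkFunctor_map_germ_apply, TopCat.Presheaf.stalkFunctor_map_germ_apply] at hab
        obtain ⟨O, hxO, i, i', e⟩ := G.presheaf.germ_eq x hxW hxW _ _ hab
        rw [← F.presheaf.germ_res_apply i x hxO, ← F.presheaf.germ_res_apply i' x hxO]
        refine congrArg (F.presheaf.germ O x hxO) ((hloc O (i.le.trans inf_le_right)).1 ?_)
        exact (Groth.Agent.M1.map_app_eq φ i.le _).trans (e.trans (Groth.Agent.M1.map_app_eq φ i'.le _).symm)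
      · obtain ⟨W₁, hxW₁, g, rfl⟩ := G.presheaf.exists_germ_eq g
        let W := W₁ ⊓ U
        obtain ⟨a, ha⟩ := (hloc W inf_le_right).2 (G.presheaf.map (homOfLE (inf_le_left : W ≤ W₁)).op g)
        refine ⟨F.presheaf.germ W x ⟨hxW₁, hx⟩ a, ?_⟩
        erw [TopCat.Presheaf.stalkFunctor_map_germ_apply, ← G.presheaf.germ_res_apply (homOfLE (inf_le_left : W ≤ W₁)) x ⟨hxW₁, hx⟩ g]
        exact congrArg (G.presheaf.germ W x ⟨hxW₁, hx⟩) ha
    · refine Or.inr ⟨hdepth x hx, fun hwa => ?_⟩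
      obtain ⟨y, hy, -⟩ := Groth.Agent.WA.exists_weakAss_of_push U.ι (F := (Scheme.Modules.restrictFunctor U.ι).obj F) x hwa
      exact hx (hy ▸ y.2)
  have h1 : Function.Bijective (φ.app V) := ConcreteCategory.bijective_of_isIso (φ.app V)
  have e : U.ι ''ᵁ (U.ι ⁻¹ᵁ V) = V ⊓ U := by
    rw [Scheme.Hom.image_preimage_eq_opensRange_inf, Scheme.Opens.opensRange_ι, inf_comm]
  haveI : IsIso (homOfLE e.ge : V ⊓ U ⟶ U.ι ''ᵁ (U.ι ⁻¹ᵁ V)) :=
    ⟨homOfLE e.le, Subsingleton.elim _ _, Subsingleton.elim _ _⟩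
  have h2 := (ConcreteCategory.bijective_of_isIso (F.presheaf.map (homOfLE e.ge : V ⊓ U ⟶ U.ι ''ᵁ (U.ι ⁻¹ᵁ V)).op)).comp h1
  have h3 : Function.Bijective (F.presheaf.map (homOfLE (inf_le_left : V ⊓ U ≤ V)).op) := by
    rw [show (homOfLE (inf_le_left : V ⊓ U ≤ V)).op =
      (homOfLE (U.ι.image_preimage_le V)).op ≫ (homOfLE e.ge : V ⊓ U ⟶ U.ι ''ᵁ (U.ι ⁻¹ᵁ V)).op from Subsingleton.elim _ _,
      F.presheaf.map_comp]
    exact h2
  exact h3

end Groth.Agent.S1575
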