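import Groth.Statements.S0796
import Groth.Agent.Lib.ClSub24.Proper
import Groth.Agent.Lib.CohGab13.Basic
import Groth.Agent.Lib.ModM1.Coh

set_option autoImplicit false
universe u
open Coherent

namespace Groth.Agent.S0796

open CategoryTheory AlgebraicGeometry in
/-- Part (2), through the usual criterion for Serre subcategories. Let S be locally Noetherian and f : X
→ S locally of finite type. For a short exact sequence 0 → F₁ → F₂ → F₃ → 0 of coherent O_X-modules,
the support of F₂ is proper over S if and only if the supports of F₁ and F₃ are. -/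
theorem result {X S : Scheme.{u}} (f : X ⟶ S) [LocallyOfFiniteType f]
    [IsLocallyNoetherian S] (E : ShortComplex X.Modules) (hE : E.ShortExact)
    (h₁ : Coh.IsCoh E.X₁) (h₂ : Coh.IsCoh E.X₂) (h₃ : Coh.IsCoh E.X₃) :
    ClSub.IsProperOver f (CohB1.support E.X₂) ↔
      ClSub.IsProperOver f (CohB1.support E.X₁) ∧ ClSub.IsProperOver f (CohB1.support E.X₃) := by
  have hu : CohB1.support E.X₂ = CohB1.support E.X₁ ∪ CohB1.support E.X₃ := CohGab13.support_mid hE
  haveI : IsLocallyNoetherian X := LocallyOfFiniteType.isLocallyNoetherian f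
  constructor
  · intro h
    exact ⟨ClSub24.isProperOver_subset f (hu ▸ Set.subset_union_left) (M1.isClosed_support h₁.2) h,
      ClSub24.isProperOver_subset f (hu ▸ Set.subset_union_right) (M1.isClosed_support h₃.2) h⟩
  · rintro ⟨h1, h3⟩
    rw [hu, Set.union_eq_iUnion]
    exact ClSub24.isProperOver_iUnion f _ fun b => by cases b <;> assumption

end Groth.Agent.S0796
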