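import Groth.Statements.S0335
import Groth.Agent.Lib.Depth.More
import Groth.Agent.Lib.Depth.CM
import Mathlib.RingTheory.Ideal.MinimalPrime.Basic
import Mathlib.RingTheory.Spectrum.Prime.Topology
-- import your own Groth.Agent.* helpers here

set_option autoImplicit false
universe u v
open LocCoh

open scoped Pointwise
namespace Groth.Agent.S0335

/-- For the ring itself; Hartshorne's connectedness: if a Noetherian local ring has depth at least 2
then its punctured spectrum is connected. -/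
theorem result (R : Type u) [CommRing R] [IsLocalRing R] [IsNoetherianRing R] (h : 2 ≤ LocCoh.depth R R) : IsConnected {x : PrimeSpectrum R | x.asIdeal ≠ IsLocalRing.maximalIdeal R} := by
  obtain ⟨rs, hreg, hmem, hlen⟩ := Groth.Agent.DepthLib.exists_isWeaklyRegular_of_le_idealDepth (R := R) (M := R)
    (Groth.Agent.DepthLib.smul_top_ne_top (IsLocalRing.maximalIdeal.isMaximal R).ne_top) (n := 2) h
  obtain ⟨x₀, y₀, rfl⟩ := List.length_eq_two.1 hlen
  rw [RingTheory.Sequence.isWeaklyRegular_cons_iff, RingTheory.Sequence.isWeaklyRegular_singleton_iff] at hreg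
  obtain ⟨hx₀, hy₀⟩ := hreg
  have hy₀' : ∀ z, x₀ ∣ y₀ * z → x₀ ∣ z := fun z ⟨c, hc⟩ => by
    have : Submodule.Quotient.mk (p := x₀ • (⊤ : Submodule R R)) z = 0 := hy₀ <| by
      simp only [smul_zero]
      rw [← Submodule.Quotient.mk_smul, Submodule.Quotient.mk_eq_zero, smul_eq_mul, hc]
      exact Submodule.smul_mem_pointwise_smul c x₀ ⊤ Submodule.mem_top
    rw [Submodule.Quotient.mk_eq_zero, Submodule.mem_smul_pointwise_iff_exists] at this
    obtain ⟨w, -, hw⟩ := this
    exact ⟨w, hw.symm⟩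
  have hx₀m : x₀ ∈ IsLocalRing.maximalIdeal R := hmem x₀ List.mem_cons_self
  have hy₀m : y₀ ∈ IsLocalRing.maximalIdeal R := hmem y₀ (by simp)
  have hy₁ : ∀ b z, x₀ ∣ y₀ ^ b * z → x₀ ∣ z := by
    intro b
    induction b with
    | zero => intro z hz; simpa using hz
    | succ b ih => intro z hz; exact ih z (hy₀' _ (by rwa [← mul_assoc, ← pow_succ']))
  have hy₂ : ∀ a b z, x₀ ^ a ∣ y₀ ^ b * z → x₀ ^ a ∣ z := by
    intro a b
    induction a with
    | zero => intro z _; simp
    | succ a ih =>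
      intro z hz
      obtain ⟨w, rfl⟩ := hy₁ b z ((dvd_pow_self x₀ a.succ_ne_zero).trans hz)
      obtain ⟨c, hc⟩ := hz
      rw [pow_succ']
      exact mul_dvd_mul_left x₀ (ih w ⟨c, hx₀ <| by simp only [smul_eq_mul]; linear_combination hc⟩)
  refine ⟨?_, isPreconnected_closed_iff.2 fun t t' ht ht' hcov hne hne' => ?_⟩
  · obtain ⟨p, hp⟩ := (Ideal.nonempty_minimalPrimes (I := (⊥ : Ideal R)) bot_ne_top)
    refine ⟨⟨p, hp.1.1⟩, fun (e : p = _) => ?_⟩
    have : x₀ ∈ nonZeroDivisors R := mem_nonZeroDivisors_iff_right.2 fun z hz =>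
      hx₀ (show x₀ * z = x₀ * 0 by rw [mul_zero, mul_comm, hz])
    exact Set.disjoint_left.1 (Ideal.disjoint_nonZeroDivisors_of_mem_minimalPrimes hp) (e ▸ hx₀m) this
  · rw [PrimeSpectrum.isClosed_iff_zeroLocus_ideal] at ht ht'
    obtain ⟨I₀, rfl⟩ := ht
    obtain ⟨J₀, rfl⟩ := ht'
    by_contra hemp
    have hm : ∀ {K : Ideal R} {p : PrimeSpectrum R}, p ∈ PrimeSpectrum.zeroLocus (K : Set R) →
        K ≤ IsLocalRing.maximalIdeal R := fun hp => hp.trans (IsLocalRing.le_maximalIdeal_of_isPrime _)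
    have hnil : I₀ * J₀ ≤ nilradical R := by
      intro z hz
      rw [nilradical_eq_sInf]
      refine Submodule.mem_sInf.2 fun (p : Ideal R) (hp : p.IsPrime) => ?_
      have hI : z ∈ I₀ := (Ideal.mul_le_left : I₀ * J₀ ≤ I₀) hz
      have hJ : z ∈ J₀ := (Ideal.mul_le_right : I₀ * J₀ ≤ J₀) hz
      by_cases e : p = IsLocalRing.maximalIdeal R
      · subst e
        obtain ⟨q, _, hq⟩ := hne
        exact (hm (K := I₀) (p := q) hq) hI
      · rcases hcov (show (⟨p, hp⟩ : PrimeSpectrum R).asIdeal ≠ _ from e) with hq | hq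
        · exact hq hI
        · exact hq hJ
    obtain ⟨N, hN⟩ := (IsNoetherianRing.isNilpotent_nilradical R)
    have hIJ : I₀ ^ N * J₀ ^ N = ⊥ := by
      rw [← mul_pow]
      exact le_bot_iff.1 ((Ideal.pow_right_mono hnil N).trans hN.le)
    have hrad : IsLocalRing.maximalIdeal R ≤ (I₀ ^ N ⊔ J₀ ^ N).radical := by
      rw [Ideal.radical_eq_sInf]
      refine le_sInf fun p ⟨hp, hpp⟩ => ?_
      by_contra e
      have hne : p ≠ IsLocalRing.maximalIdeal R := fun e' => e e'.ge
      exact hemp ⟨⟨p, hpp⟩, hne,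
        hpp.le_of_pow_le (le_sup_left.trans hp), hpp.le_of_pow_le (le_sup_right.trans hp)⟩
    obtain ⟨a, ha⟩ := hrad hx₀m
    obtain ⟨b, hb⟩ := hrad hy₀m
    obtain ⟨i, hi, j, hj, hij⟩ := Submodule.mem_sup.1 ha
    obtain ⟨i', hi', j', hj', hij'⟩ := Submodule.mem_sup.1 hb
    have h0 : ∀ {u v}, u ∈ I₀ ^ N → v ∈ J₀ ^ N → u * v = 0 := fun hu hv => by
      simpa [hIJ] using Ideal.mul_mem_mul hu hv
    have hrel : x₀ ^ a * i' = y₀ ^ b * i := by
      rw [← hij, ← hij']
      linear_combination (h0 hi' hj) - (h0 hi hj')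
    obtain ⟨c, hc⟩ := hy₂ a b i ⟨i', hrel.symm⟩
    have hxa : IsSMulRegular R (x₀ ^ a) := hx₀.pow a
    have hcc : c * (1 - c) = 0 := hxa <| hxa <| by
      simp only [smul_eq_mul, mul_zero]
      have := h0 hi hj
      rw [hc, show j = x₀ ^ a * (1 - c) by linear_combination hij + (-1 : R) * hc] at this
      linear_combination this
    have hzero : ∀ {u}, x₀ ^ a * u = 0 → u = 0 := fun hu => hxa (hu.trans (smul_zero _).symm)
    rcases IsLocalRing.isUnit_or_isUnit_one_sub_self c with hu | hu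
    · have hc1 : 1 - c = 0 := hu.mul_right_eq_zero.1 hcc
      have hJ : J₀ ^ N = ⊥ := le_bot_iff.1 fun v hv => hzero <| by
        have := h0 hi hv
        rw [hc, show c = 1 by linear_combination -hc1, mul_one] at this
        exact this
      obtain ⟨q, hq, hq'⟩ := hne
      exact hemp ⟨q, hq, hq', q.2.le_of_pow_le (hJ ▸ bot_le)⟩
    · have hc0 : c = 0 := hu.mul_left_eq_zero.1 hcc
      have hI : I₀ ^ N = ⊥ := le_bot_iff.1 fun v hv => hzero <| by
        have := h0 hv hj
        rw [show j = x₀ ^ a by rw [hc, hc0, mul_zero, zero_add] at hij; exact hij, mul_comm] at this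
        exact this
      obtain ⟨q, hq, hq'⟩ := hne'
      exact hemp ⟨q, hq, q.2.le_of_pow_le (hI ▸ bot_le), hq'⟩

end Groth.Agent.S0335
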