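import Groth.Statements.S12220
import Groth.Agent.Lib.ProZero27.Main
-- import your own Groth.Agent.* helpers here

set_option autoImplicit false
universe u
open CategoryTheory
open Dual2

namespace Groth.Agent.S12220

/-- Let A be a Noetherian ring with a dualizing complex, I an ideal with cd(A, I) ≤ d, M a finite
A-module, T ⊆ V(I) a subset stable under specialization, and s ≥ 0, subject to two depth conditions
— (4) for primes p ⊆ r ⊆ q with p ∉ V(I), r ∈ V(I) ∖ T, q ∈ T, either depth(M_p) ≥ s or depth(M_p) +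
dim((A/p)_q) > d + s; (6) for q ∈ T and the I-adic completions A', M' of A_q, M_q, depth(M'_{p'}) >
s for every prime p' of A' not containing IA' with V(p') ∩ V(IA') the closed point. Then for every i
≤ s the inverse system (H^i_T(M/I^nM))_n of local cohomology modules with supports in T satisfies
the Mittag-Leffler condition: for each n the images of H^i_T(M/I^lM) → H^i_T(M/I^nM) are the same
for all large l. -/
theorem result (A : Type u) [CommRing A] [IsNoetherianRing A] (hdc : ∃ ω : Dual.D A, Dual.IsDualizing A ω) (I : Ideal A) (d : ℕ) (hcd : LocCoh.CdLE A I d) (M : Type u) [AddCommGroup M] [Module A M] [Module.Finite A M] (T : Set (PrimeSpectrum A)) (hTI : T ⊆ PrimeSpectrum.zeroLocus (I : Set A)) (hT : StableUnderSpecialization T) (s : ℕ) (h4 : ∀ p r q : PrimeSpectrum A, p ≤ r → r ≤ q → ¬ I ≤ p.asIdeal → I ≤ r.asIdeal → r ∉ T → q ∈ T → (s : ℕ∞) ≤ LocCoh.depth (Localization.AtPrime p.asIdeal) (LocalizedModule p.asIdeal.primeCompl M) ∨ ((d + s : ℕ) : WithBot ℕ∞) < (LocCoh.depth (Localization.AtPrime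 p.asIdeal) (LocalizedModule p.asIdeal.primeCompl M) : WithBot ℕ∞) + Formal2.dimBetween A p.asIdeal q.asIdeal) (h6 : ∀ q : PrimeSpectrum A, q ∈ T → ∀ p' : PrimeSpectrum (AdicCompletion (I.map (algebraMap A (Localization.AtPrime q.asIdeal))) (Localization.AtPrime q.asIdeal)), ¬ (I.map (algebraMap A (AdicCompletion (I.map (algebraMap A (Localization.AtPrime q.asIdeal))) (Localization.AtPrime q.asIdeal)))) ≤ p'.asIdeal → (∀ q' : PrimeSpectrum (AdicCompletion (I.map (algebraMap A (Localization.AtPrime q.asIdeal))) (Localization.AtPrime q.asIdeal)), p' ≤ q' → (I.map (algebraMap A (AdicCompletion (I.map (algebraMap A (Localization.AtPrime q.asIdeal))) (Localization.AtPrime q.asIdeal)))) ≤ q'.asIdeal → q'.asIdeal.IsMaximal) → (s : ℕ∞) < LocCoh.depth (Localization.AtPrime p'.asIdeal) (LocalizedModule p'.asIdeal.primeCompl (AdicCompletion (I.map (algebraMap A (Localization.AtPrime q.asIdeal))) (LocalizedModule q.asIdeal.primeCompl M)))) (i : ℕ) (hi : i ≤ s) (n : ℕ) :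
    ∃ (k : ℕ) (hk : n ≤ k), ∀ (l : ℕ) (hl : k ≤ l),
      Set.range ((localCohomology.ofDiagram (Dual2.idealsInDiagram T) i).map (ModuleCat.ofHom (AdicCompletion.transitionMap I M (hk.trans hl : n ≤ l)))).hom =
        Set.range ((localCohomology.ofDiagram (Dual2.idealsInDiagram T) i).map (ModuleCat.ofHom (AdicCompletion.transitionMap I M hk))).hom := by
  obtain ⟨ω, hω⟩ := hdc
  obtain ⟨N, hnN, h⟩ := Groth.Agent.ProZero27.hincl_eq_zero I M T hω d hcd hTI hT s h4 h6 n
  refine ⟨N, hnN, fun l hl => ?_⟩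
  have key : ∀ (m : ℕ) (hm : n ≤ m), N ≤ m →
      Set.range ((localCohomology.ofDiagram (Dual2.idealsInDiagram T) i).map (ModuleCat.ofHom (AdicCompletion.transitionMap I M hm))).hom =
        Set.range ((localCohomology.ofDiagram (Dual2.idealsInDiagram T) i).map (ModuleCat.ofHom (Groth.Agent.ProZero27.PM I M n).mkQ)).hom := by
    intro m hm hNm
    refine Set.Subset.antisymm ?_ ?_
    · rintro _ ⟨y, rfl⟩
      obtain ⟨x, hx⟩ := Groth.Agent.ProZero27.exists_lift I M T i hm (h (i + 1) (by omega) m hm hNm) y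
      exact ⟨x, hx⟩
    · rintro _ ⟨x, rfl⟩
      refine ⟨((localCohomology.ofDiagram (Dual2.idealsInDiagram T) i).map (ModuleCat.ofHom (Groth.Agent.ProZero27.PM I M m).mkQ)).hom x, ?_⟩
      have he : (ModuleCat.ofHom (Groth.Agent.ProZero27.PM I M m).mkQ ≫ ModuleCat.ofHom (AdicCompletion.transitionMap I M hm)) =
          ModuleCat.ofHom (Groth.Agent.ProZero27.PM I M n).mkQ := ModuleCat.hom_ext (LinearMap.ext fun _ => rfl)
      rw [← he, Functor.map_comp]
      rfl
  rw [key l (hnN.trans hl) hl, key N hnN le_rfl]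


end Groth.Agent.S12220
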