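import Groth.Statements.S3384
import Groth.Agent.Lib.ProZero27.Limit
-- import your own Groth.Agent.* helpers here

set_option autoImplicit false
universe u
open CategoryTheory
open Dual2

namespace Groth.Agent.S3384

/-- Let A be a Noetherian ring with a dualizing complex, I an ideal with cd(A, I) ≤ d, M a finite
A-module, T ⊆ V(I) a subset stable under specialization, and s ≥ 0. Assume: (a) for primes 𝔭 ⊆ 𝔯 ⊆ 𝔮
with 𝔭 ∉ V(I), 𝔯 ∈ V(I) − T and 𝔮 ∈ T, either depth(M_𝔭) ≥ s or depth(M_𝔭) + dim((A/𝔭)_𝔮) > d + s;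
(b) for 𝔮 ∈ T, writing A', I', M' for the I-adic completions of A_𝔮, IA_𝔮, M_𝔮, one has
depth(M'_{𝔭'}) > s for every prime 𝔭' of A' not containing I' such that the only primes containing
both 𝔭' and I' are maximal. Then for every i ≤ s the map H^i_T(M) → lim_n H^i_T(M/I^{n+1}M) is
bijective (injective, and every compatible family lifts) and H^i_T(M) is annihilated by some power
of I. (The published statement also asserts the Mittag-Leffler condition for the system
(H^i_T(M/IⁿM))_n, which is not asserted here.) -/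
theorem result (A : Type u) [CommRing A] [IsNoetherianRing A] (hdc : ∃ ω : Dual.D A, Dual.IsDualizing A ω) (I : Ideal A) (d : ℕ) (hcd : LocCoh.CdLE A I d) (M : Type u) [AddCommGroup M] [Module A M] [Module.Finite A M] (T : Set (PrimeSpectrum A)) (hTI : T ⊆ PrimeSpectrum.zeroLocus (I : Set A)) (hT : StableUnderSpecialization T) (s : ℕ) (h4 : ∀ p r q : PrimeSpectrum A, p ≤ r → r ≤ q → ¬ I ≤ p.asIdeal → I ≤ r.asIdeal → r ∉ T → q ∈ T → (s : ℕ∞) ≤ LocCoh.depth (Localization.AtPrime p.asIdeal) (LocalizedModule p.asIdeal.primeCompl M) ∨ ((d + s : ℕ) : WithBot ℕ∞) < (LocCoh.depth (Localization.AtPrime p.asIdeal) (LocalizedModule p.asIdeal.primeCompl M) : WithBot ℕ∞) + Formal2.dimBetween A p.asIdeal q.asIdeal) (h6 : ∀ q : PrimeSpectrum A, q ∈ T → ∀ p' : PrimeSpectrum (AdicCompletion (I.map (algebraMap A (Localization.AtPrime q.asIdeal))) (Localization.AtPrime q.asIdeal)), ¬ (I.map (algebraMap A (AdicCompletion (I.map (algebraMap A (Localization.AtPrime q.asIdeal))) (Localization.AtPrime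 q.asIdeal)))) ≤ p'.asIdeal → (∀ q' : PrimeSpectrum (AdicCompletion (I.map (algebraMap A (Localization.AtPrime q.asIdeal))) (Localization.AtPrime q.asIdeal)), p' ≤ q' → (I.map (algebraMap A (AdicCompletion (I.map (algebraMap A (Localization.AtPrime q.asIdeal))) (Localization.AtPrime q.asIdeal)))) ≤ q'.asIdeal → q'.asIdeal.IsMaximal) → (s : ℕ∞) < LocCoh.depth (Localization.AtPrime p'.asIdeal) (LocalizedModule p'.asIdeal.primeCompl (AdicCompletion (I.map (algebraMap A (Localization.AtPrime q.asIdeal))) (LocalizedModule q.asIdeal.primeCompl M)))) (i : ℕ) (hi : i ≤ s) : ((∀ x : Dual2.HT T i M, (∀ n : ℕ, (localCohomology.ofDiagram (Dual2.idealsInDiagram T) i).map (ModuleCat.ofHom (Formal2.quotPowπ A I M n)) x = 0) → x = 0) ∧ (∀ y : (∀ n : ℕ, Dual2.HT T i (Formal2.quotPow A I M n)), (∀ n : ℕ, (localCohomology.ofDiagram (Dual2.idealsInDiagram T) i).map (ModuleCat.ofHom (Formal2.quotPowTrans A I M n)) (y (n + 1)) = y n) → ∃ x : Dual2.HT T i M, ∀ n : ℕ, (localCohomology.ofDiagram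 (Dual2.idealsInDiagram T) i).map (ModuleCat.ofHom (Formal2.quotPowπ A I M n)) x = y n)) ∧ ∃ n : ℕ, ∀ a ∈ I ^ n, ∀ x : Dual2.HT T i M, a • x = 0 := by
  obtain ⟨ω, hω⟩ := hdc
  exact Groth.Agent.ProZero27.bijective_to_limit I M T hω d hcd hTI hT s h4 h6 i hi


end Groth.Agent.S3384
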