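import Groth.Statements.S6185
import Groth.Agent.Lib.BigSite16.Coh

set_option autoImplicit false
open CategoryTheory CategoryTheory.Limits AlgebraicGeometry Opposite
universe u
open BigSite

namespace Groth.Agent.S6185
set_option linter.style.haveILetI false
set_option backward.isDefEq.respectTransparency false
set_option backward.isDefEq.respectTransparency.types false


/-- For a scheme X and an abelian sheaf F on the big etale site of X, the cohomology groups H^p(X_et,
F|) of the restriction of F to the small etale site and H^p of F on the big etale site are
isomorphic for every p. Existence of an additive isomorphism only (the published statement asserts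
that the canonical comparison homomorphism is an isomorphism; that map is not named here). -/
theorem result (X : Scheme.{u})
    (F : BigSite.Ab Scheme.etalePrecoverage X) (p : ℕ) :
    Nonempty (EtCoh.H X ((BigSite.resEt Scheme.etalePrecoverage X).obj F) p ≃+
      BigSite.H Scheme.etalePrecoverage X F p) := by
  exact Groth.Agent.BigSite16.nonempty_H_push_equiv (EtFppf.a X) (J := X.smallEtaleTopology)
    (K := QuotSh.J Scheme.etalePrecoverage X)
    (MorphismProperty.Over.mkIdTerminal EtCoh.etaleMP X) Over.mkIdTerminal
    (fun I hI => haveI := hI; Groth.Agent.BigSite16.injective_resEt Scheme.etalePrecoverage I) F p

end Groth.Agent.S6185
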