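import Groth.Statements.S6687
import Groth.Agent.Lib.BigSite16.BaseChange
import Groth.Agent.S6185
import Groth.Agent.S6184

set_option autoImplicit false
universe u
open CategoryTheory CategoryTheory.Limits AlgebraicGeometry Opposite
open BigSite

namespace Groth.Agent.S6687
set_option linter.style.haveILetI false
set_option backward.isDefEq.respectTransparency false
set_option backward.isDefEq.respectTransparency.types false


/-- Let f : T → S be a morphism of schemes, F an abelian sheaf on the small etale site of S and n ≥ 0.
Write π_S⁻¹ F for the pullback of F to the big etale site of S. Then the cohomology of π_S⁻¹ F over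
the object (T → S) of the big site is isomorphic to H^n(T_et, f⁻¹ F). (Existence of an isomorphism
of abelian groups only; the published statement identifies the two through the restriction of π_S⁻¹
F to the small etale site of T, which is f⁻¹ F.) -/
theorem result {T S : Scheme.{u}} (f : T ⟶ S) (n : ℕ) (F : EtCoh.Ab S) :
    Nonempty (BigSite.HU Scheme.etalePrecoverage ((BigSite.piEtPull Scheme.etalePrecoverage S).obj F) n (Over.mk f) ≃+
      EtCoh.H T ((EtCoh.pull f).obj F) n) := by
  let e1 : BigSite.pushBig Scheme.etalePrecoverage f AddCommGrpCat.{u + 1} ⋙ BigSite.resEt Scheme.etalePrecoverage S ≅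
      BigSite.resEt Scheme.etalePrecoverage T ⋙ EtCoh.push f :=
    Groth.Agent.BigSite16.pushCompIso (EtFppf.a S) (Over.pullback f) (EtCoh.bc f) (EtFppf.a T)
      (Groth.Agent.BigSite16.bcForgetIso f).symm AddCommGrpCat.{u + 1} S.smallEtaleTopology T.smallEtaleTopology
      (QuotSh.J Scheme.etalePrecoverage S) (QuotSh.J Scheme.etalePrecoverage T)
  let e2 := Adjunction.leftAdjointUniq
    ((BigSite.piEtAdj Scheme.etalePrecoverage S).comp (BigSite.bigAdj Scheme.etalePrecoverage f AddCommGrpCat.{u + 1}))
    (((EtCoh.pullPushAdj f).comp (BigSite.piEtAdj Scheme.etalePrecoverage T)).ofNatIsoRight e1.symm)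
  haveI := (Groth.Agent.S6184.result T).2 ((EtCoh.pull f).obj F)
  let e3 := (BigSite.resEt Scheme.etalePrecoverage T).mapIso (e2.app F) ≪≫
    (asIso ((BigSite.piEtAdj Scheme.etalePrecoverage T).unit.app ((EtCoh.pull f).obj F))).symm
  obtain ⟨h⟩ := Groth.Agent.S6185.result T
    ((BigSite.pullBig Scheme.etalePrecoverage f AddCommGrpCat.{u + 1}).obj
      ((BigSite.piEtPull Scheme.etalePrecoverage S).obj F)) n
  exact ⟨h.symm.trans (
    AddMonoidHom.toAddEquiv (Sheaf.H.map e3.hom n) (Sheaf.H.map e3.inv n)
      (by ext x; simp [Sheaf.H.map])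
      (by ext x; simp [Sheaf.H.map]))⟩

end Groth.Agent.S6687
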