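import Groth.Statements.S6895
import Groth.Agent.Lib.Fitting.Local
-- import your own Groth.Agent.* helpers here

set_option autoImplicit false
universe u
open Fitt

namespace Groth.Agent.S6895

/-- (1) ⇔ (3): let `M` be a finite `R`-module and `r ≥ 0`. Then `M` is finite locally free of rank `r`
(every prime has a basic open neighbourhood `D(f)` with `M_f` free of rank `r` over `R_f`) if and
only if `Fit_k(M) = 0` for `k < r` and `Fit_k(M) = R` for `k ≥ r`. -/
theorem result {R : Type u} [CommRing R] (M : Type u) [AddCommGroup M] [Module R M]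
    [Module.Finite R M] (r : ℕ) :
    (∀ (p : Ideal R) [p.IsPrime], ∃ f : R, f ∉ p ∧
      Module.Free (Localization.Away f) (LocalizedModule (Submonoid.powers f) M) ∧
        Module.finrank (Localization.Away f) (LocalizedModule (Submonoid.powers f) M) = r) ↔
    ((∀ k, k < r → Fitt.ideal R M k = ⊥) ∧ (∀ k, r ≤ k → Fitt.ideal R M k = ⊤)) := by
  classical
  constructor
  · intro h
    have key : ∀ (p : Ideal R) [p.IsPrime], ∃ f : R, f ∉ p ∧
        (∀ k, k < r → (Fitt.ideal R M k).map (algebraMap R (Localization.Away f)) = ⊥) ∧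
        (∀ k, r ≤ k → (Fitt.ideal R M k).map (algebraMap R (Localization.Away f)) = ⊤) := by
      intro p hp
      obtain ⟨f, hf, hfree, hrk⟩ := h p
      have : Nontrivial (Localization.Away f) := by
        refine nontrivial_of_ne 1 0 fun e => hf ?_
        rw [← map_one (algebraMap R (Localization.Away f)), IsLocalization.map_eq_zero_iff (Submonoid.powers f)] at e
        obtain ⟨⟨_, N, rfl⟩, hN⟩ := e
        exact hp.mem_of_pow_mem N (by simp only [mul_one] at hN; rw [hN]; exact p.zero_mem)
      let e := (IsLocalizedModule.isBaseChange (Submonoid.powers f) (Localization.Away f)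
        (LocalizedModule.mkLinearMap (Submonoid.powers f) M)).equiv
      have := Module.Free.of_equiv e.symm
      have hrk' : Module.finrank (Localization.Away f) (TensorProduct R (Localization.Away f) M) = r :=
        e.finrank_eq.trans hrk
      refine ⟨f, hf, fun k hk => ?_, fun k hk => ?_⟩
      · rw [← Groth.Agent.FittingLib.ideal_baseChange]
        refine Groth.Agent.FittingLib.ideal_eq_bot_of_basis (Module.Free.chooseBasis _ _) ?_
        rwa [← Module.finrank_eq_card_basis (Module.Free.chooseBasis _ _), hrk']
      · rw [← Groth.Agent.FittingLib.ideal_baseChange, Groth.Agent.FittingLib.ideal_eq_top_iff_finrank, hrk']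
        exact hk
    refine ⟨fun k hk => (Submodule.eq_bot_iff _).2 fun a ha => ?_, fun k hk => ?_⟩
    · have htop : LinearMap.ker (LinearMap.toSpanSingleton R R a) = ⊤ := by
        by_contra hne
        obtain ⟨m, hm, hle⟩ := Ideal.exists_le_maximal _ hne
        obtain ⟨f, hf, hb, -⟩ := key m
        have h1 := (Ideal.map_eq_bot_iff_le_ker _).1 (hb k hk) ha
        rw [RingHom.mem_ker, IsLocalization.map_eq_zero_iff (Submonoid.powers f)] at h1
        obtain ⟨⟨_, N, rfl⟩, hN⟩ := h1
        exact hf (hm.isPrime.mem_of_pow_mem N (hle (by simpa using hN)))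
      simpa using htop.ge (Submodule.mem_top (x := (1 : R)))
    · by_contra hne
      obtain ⟨m, hm, hle⟩ := Ideal.exists_le_maximal _ hne
      obtain ⟨f, hf, -, ht⟩ := key m
      have h1 := (ht k hk).ge.trans (Ideal.map_mono (f := algebraMap R (Localization.Away f)) hle)
      have h2 := IsLocalization.map_algebraMap_ne_top_iff_disjoint (Submonoid.powers f) (Localization.Away f) m
      refine h2.2 ?_ (top_le_iff.1 h1)
      rw [Set.disjoint_left]
      rintro _ ⟨N, rfl⟩ hN
      exact hf (hm.isPrime.mem_of_pow_mem N hN)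
  · rintro ⟨h0, h1⟩ p hp
    obtain ⟨u, g, hu, hg⟩ := Groth.Agent.FittingLib.exists_minor_notMem r p (by
      rw [h1 r le_rfl, top_le_iff]; exact hp.ne_top)
    obtain ⟨n, x, hx⟩ := Groth.Agent.FittingLib.exists_generators (R := R) (M := M)
    refine ⟨u, hu, ?_⟩
    refine Groth.Agent.FittingLib.free_of_smul_mem_span u g hg (fun c hc i => ⟨n, ?_⟩) ?_
    · rw [mul_comm]
      exact Groth.Agent.FittingLib.coeff_mul_pow_eq_zero g hx (h0 _ (by have := i.2; omega)) (fun j => hg _) hc i
    · refine nontrivial_of_ne 1 0 fun e => hu ?_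
      rw [← map_one (algebraMap R (Localization.Away u)), IsLocalization.map_eq_zero_iff (Submonoid.powers u)] at e
      obtain ⟨⟨_, N, rfl⟩, hN⟩ := e
      exact hp.mem_of_pow_mem N (by simp only [mul_one] at hN; rw [hN]; exact p.zero_mem)

end Groth.Agent.S6895
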