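import Groth.Statements.S15524
import Groth.Agent.S7825
import Mathlib.Analysis.SpecialFunctions.Pow.Real
import Mathlib.Algebra.BigOperators.Field

set_option autoImplicit false
open Finset
open Zeta

namespace Groth.Agent.S15524

/-- Let q ≥ 1 and let α_1, …, α_{2g} be complex numbers permuted by α ↦ q/α, i.e. α_{σ(i)} α_i = q for a
permutation σ of the indices; these play the role of the inverse roots of the numerator of the zeta
function of a curve over a field with q elements, for which #X(F_{q^N}) = q^N + 1 − Σ_i α_i^N. If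
for some d ≥ 1 and real C one has |Σ_i α_i^{dN}| ≤ C q^{dN/2} for every N ≥ 1, then |α_i|^2 = q for
every i (the Riemann hypothesis for the curve). -/
theorem result {g : ℕ} (q : ℕ) (hq : 0 < q)
    (α : Fin (2 * g) → ℂ) (σ : Equiv.Perm (Fin (2 * g))) (hσ : ∀ i, α (σ i) * α i = q)
    (d : ℕ) (hd : 0 < d) (C : ℝ)
    (hC : ∀ N : ℕ, 1 ≤ N → ‖∑ i, α i ^ (d * N)‖ ≤ C * (q : ℝ) ^ ((d : ℝ) * N / 2))
    (i : Fin (2 * g)) : ‖α i‖ ^ 2 = q := by
  have hq0 : (0 : ℝ) < q := Nat.cast_pos.mpr hq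
  have hs : (0 : ℝ) < (q : ℝ) ^ ((d : ℝ) / 2) := Real.rpow_pos_of_pos hq0 _
  have hbound : ∀ j, ‖α j‖ ≤ (q : ℝ) ^ ((1 : ℝ) / 2) := by
    intro j
    have h := Groth.Agent.S7825.result (fun j => α j ^ d / (((q : ℝ) ^ ((d : ℝ) / 2) : ℝ) : ℂ)) C (fun N hN => by
      simp_rw [div_pow, ← pow_mul, ← Finset.sum_div]
      rw [norm_div, norm_pow, Complex.norm_real, Real.norm_of_nonneg hs.le, div_le_iff₀ (pow_pos hs N),
        ← Real.rpow_natCast ((q : ℝ) ^ ((d : ℝ) / 2)) N, ← Real.rpow_mul hq0.le]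
      refine (hC N hN).trans_eq ?_
      congr 2; ring) j
    rw [norm_div, norm_pow, Complex.norm_real, Real.norm_of_nonneg hs.le, div_le_one hs,
      show ((d : ℝ) / 2) = (1 / 2) * (d : ℝ) by ring, Real.rpow_mul hq0.le, Real.rpow_natCast] at h
    exact (pow_le_pow_iff_left₀ (norm_nonneg _) (Real.rpow_nonneg hq0.le _) hd.ne').mp h
  have hprod : ‖α (σ i)‖ * ‖α i‖ = q := by rw [← norm_mul, hσ i, Complex.norm_natCast]
  have hsq : ((q : ℝ) ^ ((1 : ℝ) / 2)) * ((q : ℝ) ^ ((1 : ℝ) / 2)) = q := by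
    rw [← Real.rpow_add hq0]; norm_num
  have h1 := hbound i
  have h2 := hbound (σ i)
  have h3 : (0 : ℝ) ≤ ‖α i‖ := norm_nonneg _
  apply le_antisymm
  · nlinarith
  · nlinarith

end Groth.Agent.S15524
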