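import Groth.Statements.S19603
import Groth.Agent.Lib.Comodule.CoactAlg

set_option autoImplicit false
universe u
open GIT

namespace Groth.Agent.S19603

/-- For the whole projective space U = P(V), let k be an algebraically closed field of arbitrary
characteristic and G = Spec A a linearly reductive affine algebraic group acting linearly on affine
ι-space, and let v be a vector. Then some invariant homogeneous polynomial of positive degree is
non-zero at v (the point of v is semistable) if and only if the origin is not in the closure of the
orbit of v. -/
theorem result (k : Type u) [Field k] [IsAlgClosed k]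
    (A : Type u) [CommRing A] [HopfAlgebra k A] [Algebra.FiniteType k A] (hG : HopfRep.IsLinearlyReductive k A)
    (ι : Type u) [Fintype ι] [HopfRep.Comod k A (MvPolynomial ι k)] [GLin.IsCoactAlg k A (MvPolynomial ι k)]
    (hlin : GLin.IsLinear k A ι) (v : ι → k) :
    GLin.IsSemistableVec k A v ↔
      ¬ GLin.InOrbitClosure k A (GLin.vecPt k ι v) (GLin.vecPt k ι (fun _ => (0 : k))) := by
  constructor
  · intro hss hcl
    refine hss fun F hF d hd hhom => ?_
    have := Comodule.eq_of_inOrbitClosure hcl hF
    have h0 : MvPolynomial.aeval (fun _ : ι => (0 : k)) F = 0 := by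
      show MvPolynomial.aeval (0 : ι → k) F = 0
      rw [MvPolynomial.aeval_zero, MvPolynomial.constantCoeff_eq, hhom.coeff_eq_zero (by simp; omega)]
      simp
    rw [← MvPolynomial.aeval_eq_eval]
    exact this.symm.trans h0
  · intro hcl hnull
    apply hcl
    have key : ∀ f ∈ GLin.invariants k A (MvPolynomial ι k),
        GLin.vecPt k ι v f = GLin.vecPt k ι (fun _ => (0 : k)) f := by
      intro f hf
      rw [← MvPolynomial.sum_homogeneousComponent f, map_sum, map_sum]
      refine Finset.sum_congr rfl fun d _ => ?_
      have hd : MvPolynomial.homogeneousComponent d f ∈ GLin.invariants k A (MvPolynomial ι k) := by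
        rw [GLin.mem_invariants_iff, Comodule.comodHom_apply (Comodule.rTensor_homogeneousComponent_coact hlin d),
          (GLin.mem_invariants_iff k A _ f).mp hf]
        rfl
      rcases Nat.eq_zero_or_pos d with rfl | hpos
      · simp [MvPolynomial.homogeneousComponent_zero]
      · have e1 := hnull _ hd d hpos (MvPolynomial.homogeneousComponent_isHomogeneous d f)
        have e2 : MvPolynomial.aeval (0 : ι → k) (MvPolynomial.homogeneousComponent d f) = 0 := by
          rw [MvPolynomial.aeval_zero, MvPolynomial.constantCoeff_eq,
            (MvPolynomial.homogeneousComponent_isHomogeneous d f).coeff_eq_zero (by simp; omega)]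
          simp
        show MvPolynomial.aeval v _ = MvPolynomial.aeval (0 : ι → k) _
        rw [e2]; simpa [MvPolynomial.aeval_eq_eval] using e1
    obtain ⟨z, hz, hz0⟩ := Comodule.exists_inOrbitClosure_both hG key
    have hfix : z = GLin.vecPt k ι (fun _ => (0 : k)) := by
      refine MvPolynomial.algHom_ext fun i => ?_
      have : MvPolynomial.X i ∈ RingHom.ker (GLin.orbitHom k A (GLin.vecPt k ι (fun _ => (0 : k)))) := by
        obtain ⟨m, hm⟩ := hlin i
        rw [RingHom.mem_ker, Comodule.orbitHom_apply, hm]
        simp
      have hzi : z (MvPolynomial.X i) = 0 := hz0 this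
      simp [hzi]
    exact hfix ▸ hz

end Groth.Agent.S19603
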