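import Groth.Statements.S6485
import Groth.Agent.Lib.H2Alg.GLUnits
import Mathlib
-- import your own Groth.Agent.* helpers here

set_option autoImplicit false
universe u
open IntMult

namespace Groth.Agent.S6485

/-- Let k be a field and n ≥ 1. Then the determinant of the generic matrix (x_{ij})_{1 ≤ i, j ≤ n} is an
irreducible element of the polynomial ring k[x_{ij}] (Mathlib's Matrix.mvPolynomialX is the generic
matrix over MvPolynomial (Fin n × Fin n) k). -/
theorem result (k : Type u) [Field k] (n : ℕ) (hn : 1 ≤ n) : Irreducible (Matrix.mvPolynomialX (Fin n) (Fin n) k).det := by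
  classical
  let K' := AlgebraicClosure k
  let D := (Matrix.mvPolynomialX (Fin n) (Fin n) k).det
  let φ := MvPolynomial.map (σ := Fin n × Fin n) (algebraMap k K')
  have hφinj : Function.Injective φ := MvPolynomial.map_injective _ (algebraMap k K').injective
  have hφD : φ D = (Matrix.mvPolynomialX (Fin n) (Fin n) K').det := by
    show φ (Matrix.det _) = _
    rw [RingHom.map_det]
    congr 1
    ext i j
    simp [φ]
  have hD0 : D ≠ 0 := Matrix.det_mvPolynomialX_ne_zero (Fin n) k
  refine ⟨fun hu => ?_, fun a b hab => ?_⟩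
  · have h0 := hu.map (MvPolynomial.eval (fun ij : Fin n × Fin n => (0 : Matrix (Fin n) (Fin n) k) ij.1 ij.2))
    haveI : Nonempty (Fin n) := ⟨⟨0, hn⟩⟩
    have h1 := H2Alg.GLUnits.ν_det (0 : Matrix (Fin n) (Fin n) k)
    rw [Matrix.det_zero] at h1
    unfold H2Alg.GLUnits.ν at h1
    rw [h1] at h0
    exact not_isUnit_zero h0
  · have e1 : φ a * φ b = (Matrix.mvPolynomialX (Fin n) (Fin n) K').det ^ 1 := by
      rw [pow_one, ← map_mul, ← hab, hφD]
    have e2 : φ b * φ a = (Matrix.mvPolynomialX (Fin n) (Fin n) K').det ^ 1 := by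
      rw [mul_comm, e1]
    obtain ⟨i, hi⟩ := H2Alg.GLUnits.eq_of_mul_eq_det_pow (φ a) (φ b) 1 e1
    obtain ⟨j, hj⟩ := H2Alg.GLUnits.eq_of_mul_eq_det_pow (φ b) (φ a) 1 e2
    have hunit : ∀ c : MvPolynomial (Fin n × Fin n) k, ∀ r : K', φ c = MvPolynomial.C r → c ≠ 0 → IsUnit c := by
      intro c r hc hc0
      have hd : c.totalDegree = 0 := by
        have : c.support = (φ c).support := (MvPolynomial.support_map_of_injective _ (algebraMap k K').injective).symm
        rw [MvPolynomial.totalDegree, this, hc]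
        exact (MvPolynomial.totalDegree_C r)
      rw [MvPolynomial.totalDegree_eq_zero_iff_eq_C] at hd
      rw [hd]
      refine (IsUnit.mk0 _ fun h => hc0 ?_).map MvPolynomial.C
      rw [hd, h, map_zero]
    have ha0 : a ≠ 0 := by rintro rfl; exact hD0 (by rw [zero_mul] at hab; exact hab)
    have hb0 : b ≠ 0 := by rintro rfl; exact hD0 (by rw [mul_zero] at hab; exact hab)
    rcases Nat.eq_zero_or_pos i with rfl | hipos
    · left
      exact hunit a _ (by rw [hi, pow_zero, mul_one]) ha0
    rcases Nat.eq_zero_or_pos j with rfl | hjpos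
    · right
      exact hunit b _ (by rw [hj, pow_zero, mul_one]) hb0
    exfalso
    have hν := congrArg (MvPolynomial.totalDegree) e1
    rw [hi, hj, pow_one] at hν
    have hD' : (Matrix.mvPolynomialX (Fin n) (Fin n) K').det ≠ 0 := Matrix.det_mvPolynomialX_ne_zero (Fin n) K'
    have hca : H2Alg.GLUnits.ν (φ a) 1 ≠ 0 := fun h => ha0 (hφinj (by rw [hi, h, map_zero, zero_mul, map_zero]))
    have hcb : H2Alg.GLUnits.ν (φ b) 1 ≠ 0 := fun h => hb0 (hφinj (by rw [hj, h, map_zero, zero_mul, map_zero]))
    rw [MvPolynomial.totalDegree_mul_of_isDomain (mul_ne_zero (by simpa using hca) (pow_ne_zero _ hD')) (mul_ne_zero (by simpa using hcb) (pow_ne_zero _ hD')),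
      MvPolynomial.totalDegree_mul_of_isDomain (by simpa using hca) (pow_ne_zero _ hD'), MvPolynomial.totalDegree_mul_of_isDomain (by simpa using hcb) (pow_ne_zero _ hD'),
      MvPolynomial.totalDegree_C, MvPolynomial.totalDegree_C, zero_add, zero_add] at hν
    have hpow : ∀ m : ℕ, ((Matrix.mvPolynomialX (Fin n) (Fin n) K').det ^ m).totalDegree = m * (Matrix.mvPolynomialX (Fin n) (Fin n) K').det.totalDegree := by
      intro m
      induction m with
      | zero => simp
      | succ m ih => rw [pow_succ, MvPolynomial.totalDegree_mul_of_isDomain (pow_ne_zero _ hD') hD', ih, Nat.succ_mul]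
    rw [hpow, hpow, ← Nat.add_mul] at hν
    have hpos : 0 < (Matrix.mvPolynomialX (Fin n) (Fin n) K').det.totalDegree := by
      refine Nat.pos_of_ne_zero fun h => ?_
      rw [MvPolynomial.totalDegree_eq_zero_iff_eq_C] at h
      have h1 := H2Alg.GLUnits.ν_det (1 : Matrix (Fin n) (Fin n) K')
      have h2 := H2Alg.GLUnits.ν_det (0 : Matrix (Fin n) (Fin n) K')
      haveI : Nonempty (Fin n) := ⟨⟨0, hn⟩⟩
      rw [h, Matrix.det_one, H2Alg.GLUnits.ν, MvPolynomial.eval_C] at h1
      rw [h, Matrix.det_zero, H2Alg.GLUnits.ν, MvPolynomial.eval_C] at h2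
      exact one_ne_zero (h1.symm.trans h2)
    nlinarith

end Groth.Agent.S6485
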