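import Groth.Statements.S0571
import Groth.Agent.Lib.CAlgLow.N1Crit

set_option autoImplicit false
universe u
open CAlg

namespace Groth.Agent.S0571

/-- A Noetherian domain `R` is N-1 exactly when (a) `R_f` is integrally closed for some nonzero `f`, and
(b) the localization of `R` at every maximal ideal is N-1. -/
theorem result (R : Type u) [CommRing R] [IsDomain R]
    [IsNoetherianRing R] :
    CAlg.IsN1 R ↔ ((∃ f : R, f ≠ 0 ∧ IsIntegrallyClosed (Localization.Away f)) ∧
      ∀ (m : Ideal R) [m.IsMaximal], CAlg.IsN1 (Localization.AtPrime m)) := by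
  classical
  refine ⟨fun h => ⟨?_, fun m _ => CAlgLow.isN1_of_isLocalization m.primeCompl h⟩,
    fun ⟨⟨f, hf, hn⟩, hloc⟩ => CAlgLow.isN1_of_exists_normal_localization R f hf hn hloc⟩
  obtain ⟨G, hG⟩ := (h : Module.Finite R (integralClosure R (FractionRing R))).fg_top
  choose a s hs has using fun g : G => IsFractionRing.div_surjective (A := R) ((g.1 : integralClosure R (FractionRing R)) : FractionRing R)
  have hf0 : ∏ g, s g ≠ 0 := Finset.prod_ne_zero_iff.mpr fun g _ => nonZeroDivisors.ne_zero (hs g)
  refine ⟨∏ g, s g, hf0, ?_⟩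
  have key : ∀ z : integralClosure R (FractionRing R), ∃ b : R, algebraMap R (FractionRing R) b =
      algebraMap R (FractionRing R) (∏ g, s g) * z := by
    intro z
    have hz : z ∈ Submodule.span R (G : Set (integralClosure R (FractionRing R))) := hG ▸ Submodule.mem_top
    induction hz using Submodule.span_induction with
    | mem g hg =>
      refine ⟨a ⟨g, hg⟩ * ∏ i ∈ Finset.univ.erase (⟨g, hg⟩ : G), s i, ?_⟩
      rw [← has ⟨g, hg⟩, ← Finset.mul_prod_erase Finset.univ s (Finset.mem_univ (⟨g, hg⟩ : G)), map_mul, map_mul,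
        mul_comm (algebraMap R (FractionRing R) (s ⟨g, hg⟩)), mul_assoc,
        mul_div_cancel₀ _ (IsFractionRing.to_map_ne_zero_of_mem_nonZeroDivisors (hs _)), mul_comm]
    | zero => exact ⟨0, by simp⟩
    | add x y _ _ hx hy =>
      obtain ⟨b, hb⟩ := hx
      obtain ⟨c, hc⟩ := hy
      exact ⟨b + c, by rw [map_add, hb, hc, Subalgebra.coe_add, mul_add]⟩
    | smul r x _ hx =>
      obtain ⟨b, hb⟩ := hx
      exact ⟨r * b, by rw [map_mul, hb, Subalgebra.coe_smul, Algebra.smul_def, mul_left_comm]⟩
  haveI : IsDomain (Localization.Away (∏ g, s g)) :=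
    IsLocalization.isDomain_localization (powers_le_nonZeroDivisors_of_noZeroDivisors hf0)
  obtain ⟨_, _, _⟩ := CAlgLow.exists_lift_fractionRing (R := R) (S := Localization.Away (∏ g, s g)) (Submonoid.powers (∏ g, s g))
  refine (isIntegrallyClosed_iff (FractionRing R)).mpr fun {x} hx => ?_
  obtain ⟨m, hm⟩ := IsIntegral.exists_multiple_integral_of_isLocalization (Submonoid.powers (∏ g, s g)) x hx
  obtain ⟨b, hb⟩ := key ⟨_, hm⟩
  have hu : IsUnit (algebraMap R (Localization.Away (∏ g, s g)) ((∏ g, s g) * m)) := by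
    rw [map_mul]
    exact (IsLocalization.map_units (Localization.Away (∏ g, s g)) (⟨_, Submonoid.mem_powers _⟩ : Submonoid.powers (∏ g, s g))).mul
      (IsLocalization.map_units _ m)
  refine ⟨algebraMap R (Localization.Away (∏ g, s g)) b * ↑hu.unit⁻¹, ?_⟩
  apply mul_right_cancel₀ ((hu.map (algebraMap (Localization.Away (∏ g, s g)) (FractionRing R))).ne_zero)
  rw [← map_mul, mul_assoc, IsUnit.val_inv_mul, mul_one, ← IsScalarTower.algebraMap_apply, hb,
    ← IsScalarTower.algebraMap_apply, map_mul]
  show algebraMap R (FractionRing R) (∏ g, s g) * ((m : R) • x) = _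
  rw [Algebra.smul_def]
  ring

end Groth.Agent.S0571
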