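import Groth.Statements.S3444
import Mathlib.AlgebraicGeometry.PullbackCarrier
import Mathlib.AlgebraicGeometry.Morphisms.UniversallyInjective
import Mathlib.AlgebraicGeometry.Morphisms.FinitePresentation
import Groth.Agent.Lib.SchBasic.Basic

set_option autoImplicit false
open CategoryTheory AlgebraicGeometry
universe u
open EGA43

namespace Groth.Agent.S3444

theorem isLocallyConstructible_compl {X : Type*} [TopologicalSpace X] {s : Set X}
    (hs : Topology.IsLocallyConstructible s) : Topology.IsLocallyConstructible sᶜ := fun x => by
  obtain ⟨U, hU, hUo, h⟩ := hs x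
  exact ⟨U, hU, hUo, h.compl⟩

set_option backward.isDefEq.respectTransparency false in
open CategoryTheory.Limits in
theorem fibre_universallyInjective_iff {X Y S : Scheme.{u}} (f : X ⟶ Y) (g : Y ⟶ S) (s : S) :
    UniversallyInjective (pullback.lift (pullback.fst (f ≫ g) (S.fromSpecResidueField s) ≫ f)
      (pullback.snd (f ≫ g) (S.fromSpecResidueField s))
      ((Category.assoc _ _ _).trans pullback.condition) :
        pullback (f ≫ g) (S.fromSpecResidueField s) ⟶ pullback g (S.fromSpecResidueField s)) ↔
      (pullback.fst f f ≫ f ≫ g) ⁻¹' {s} ⊆ Set.range (pullback.diagonal f) := by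
  rw [UniversallyInjective.iff_diagonal, surjective_iff]
  let c := S.fromSpecResidueField s
  set F : pullback (f ≫ g) (S.fromSpecResidueField s) ⟶ pullback g (S.fromSpecResidueField s) :=
    pullback.lift _ _ _ with hF
  let h := pullback.fst f f ≫ f ≫ g
  let e₁ : pullback h c ⟶ pullback (f ≫ g) c :=
    pullback.lift (pullback.fst h c ≫ pullback.fst f f) (pullback.snd h c)
      (by rw [Category.assoc]; exact pullback.condition)
  let e₂ : pullback h c ⟶ pullback (f ≫ g) c :=
    pullback.lift (pullback.fst h c ≫ pullback.snd f f) (pullback.snd h c)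
      (by rw [Category.assoc, ← pullback.condition_assoc]; exact pullback.condition)
  let ν : pullback h c ⟶ pullback F F := pullback.lift e₁ e₂ (by
    rw [hF]
    apply pullback.hom_ext
    · simp [e₁, e₂, c, pullback.condition]
    · simp [e₁, e₂, c])
  let κ : pullback F F ⟶ pullback f f :=
    pullback.lift (pullback.fst F F ≫ pullback.fst (f ≫ g) c) (pullback.snd F F ≫ pullback.fst (f ≫ g) c)
      (by
        have := congrArg (· ≫ pullback.fst g c) (pullback.condition (f := F) (g := F))
        simpa [F, c] using this)
  let κ' : pullback F F ⟶ pullback h c :=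
    pullback.lift κ (pullback.fst F F ≫ pullback.snd (f ≫ g) c) (by simp [h, κ, c, pullback.condition])
  have hνκ : ν ≫ κ = pullback.fst h c := by
    apply pullback.hom_ext <;> simp [ν, κ, e₁, e₂]
  have hκν : κ' ≫ ν = 𝟙 _ := by
    apply pullback.hom_ext
    · apply pullback.hom_ext <;> simp [κ', κ, ν, e₁, e₂, c]
    · apply pullback.hom_ext
      · simp [κ', κ, ν, e₁, e₂, c]
      · have := congrArg (· ≫ pullback.snd g c) (pullback.condition (f := F) (g := F))
        simp [κ', κ, ν, e₁, e₂, c]
        simpa [F, c] using this
  have hδ : pullback.diagonal F ≫ κ = pullback.fst (f ≫ g) c ≫ pullback.diagonal f := by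
    apply pullback.hom_ext <;> simp [κ]
  constructor
  · intro H w hw
    obtain ⟨u, rfl⟩ := (Scheme.Hom.range_fiberι h s).ge hw
    obtain ⟨x, hx⟩ := H (ν u)
    refine ⟨pullback.fst (f ≫ g) c x, ?_⟩
    rw [← Scheme.Hom.comp_apply, ← hδ, Scheme.Hom.comp_apply, hx, ← Scheme.Hom.comp_apply, hνκ]
    rfl
  · intro H v
    obtain ⟨x, hx⟩ := H ((Scheme.Hom.range_fiberι h s).le ⟨κ' v, rfl⟩)
    have hs : (f ≫ g) x = s := by
      have h1 : h (pullback.diagonal f x) = s := by
        rw [hx]; exact (Scheme.Hom.range_fiberι h s).le ⟨κ' v, rfl⟩
      have h2 : pullback.diagonal f ≫ h = f ≫ g := by simp [h]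
      rwa [← Scheme.Hom.comp_apply, h2] at h1
    obtain ⟨x', rfl⟩ := (Scheme.Hom.range_fiberι (f ≫ g) s).ge hs
    refine ⟨x', ?_⟩
    have h1 : κ' (pullback.diagonal F x') = κ' v := by
      apply (pullback.fst h c).isEmbedding.injective
      refine Eq.trans ?_ hx
      rw [← Scheme.Hom.comp_apply, ← Scheme.Hom.comp_apply]
      simp only [κ', pullback.lift_fst, hδ]
      rfl
    calc pullback.diagonal F x' = (κ' ≫ ν) (pullback.diagonal F x') := by rw [hκν]; rfl
      _ = (κ' ≫ ν) v := by rw [Scheme.Hom.comp_apply, Scheme.Hom.comp_apply, h1]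
      _ = v := by rw [hκν]; rfl

open CategoryTheory.Limits in
/-- Let g : Y ⟶ S and f : X ⟶ Y be such that X and Y are of finite presentation over S (locally of
finite presentation, quasi-compact and quasi-separated). For each point s of S let f_s be the
induced morphism from the fibre of f ≫ g over s to the fibre of g over s. Then the set of s for
which f_s is radicial (universally injective) is locally constructible in S. -/
theorem result {X Y S : Scheme.{u}} (f : X ⟶ Y) (g : Y ⟶ S)
    [LocallyOfFinitePresentation g] [QuasiCompact g] [QuasiSeparated g]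
    [LocallyOfFinitePresentation (f ≫ g)] [QuasiCompact (f ≫ g)] [QuasiSeparated (f ≫ g)] :
    Topology.IsLocallyConstructible {s : S |
      UniversallyInjective (pullback.lift (pullback.fst (f ≫ g) (S.fromSpecResidueField s) ≫ f) (pullback.snd (f ≫ g) (S.fromSpecResidueField s))
          ((Category.assoc _ _ _).trans pullback.condition) :
        pullback (f ≫ g) (S.fromSpecResidueField s) ⟶ pullback g (S.fromSpecResidueField s))} := by
  haveI : QuasiCompact f := QuasiCompact.of_comp f g
  haveI : QuasiSeparated f := QuasiSeparated.of_comp f g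
  haveI : LocallyOfFinitePresentation f := SchBasic.locallyOfFinitePresentation_of_comp f g
  haveI : LocallyOfFinitePresentation (pullback.diagonal f) := by
    haveI : LocallyOfFinitePresentation (pullback.diagonal f ≫ pullback.fst f f) := by
      rw [pullback.diagonal_fst]; infer_instance
    exact SchBasic.locallyOfFinitePresentation_of_comp (pullback.diagonal f) (pullback.fst f f)
  convert! isLocallyConstructible_compl ((pullback.fst f f ≫ f ≫ g).isLocallyConstructible_image
    (isLocallyConstructible_compl ((pullback.diagonal f).isLocallyConstructible_image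
    Topology.IsLocallyConstructible.univ))) using 1
  ext s
  refine (fibre_universallyInjective_iff f g s).trans ?_
  simp [Set.subset_def]
  grind

end Groth.Agent.S3444
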