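import Groth.Statements.S0092
import Groth.Agent.Lib.TorsorRep24.Main
import Groth.Agent.Lib.NormSep24.Closed
import Groth.Agent.Lib.LocConst24.Const
import Groth.Agent.Lib.LocAcycBC6.Vanish

set_option autoImplicit false
open CategoryTheory CategoryTheory.Limits AlgebraicGeometry Opposite
universe u
open EtBase

namespace Groth.Agent.S0092

/-- The degree-one case — for X affine, integral and normal with separably closed function field, the
constant sheaf on a finite abelian group has vanishing first étale cohomology on every closed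
subscheme of X. -/
theorem result {Z X : Scheme.{u}} [IsAffine X] [IsIntegral X]
    (hN : ∀ x : X, IsIntegrallyClosed (X.presheaf.stalk x)) [IsSepClosed X.functionField]
    (i : Z ⟶ X) [IsClosedImmersion i] (M : Type) [AddCommGroup M] [Finite M] :
    Subsingleton (EtCoh.H Z (EtCoh.const Z M) 1) := by
  refine subsingleton_of_forall_eq 0 fun ζ => ?_
  obtain ⟨W, hfin, hsurj, h⟩ :=
    Groth.Agent.TorsorRep24.exists_finite_etale_kills (Groth.Agent.LocConst24.flc_const Z M) ζ
  haveI := hfin
  haveI := hsurj
  haveI : AlgebraicGeometry.Etale W.hom := W.prop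
  obtain ⟨s, hs⟩ := Groth.Agent.NormSep24.exists_section_closed ⟨hN, inferInstance⟩ i W.hom
  haveI := Groth.Agent.EtStalk.preservesFiniteLimits_pull (𝟙 Z)
  have h1 : EtCore.Hpull (𝟙 Z) (EtCoh.const Z M) 1 ζ = 0 :=
    (Groth.Agent.LocAcycBC6.Hpull_comp_eq_zero_iff s W.hom (𝟙 Z) hs _ 1 ζ).2 (by rw [h, map_zero])
  exact (Groth.Agent.LocAcyc24.bijective_Hpull_of_isIso (𝟙 Z) _ 1).1 (h1.trans (map_zero _).symm)

end Groth.Agent.S0092
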