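import Groth.Statements.S0646
import Groth.Agent.Lib.EtLim24.Base

set_option autoImplicit false
open CategoryTheory CategoryTheory.Limits AlgebraicGeometry Opposite
universe u
open EtCore

namespace Groth.Agent.S0646

/-- For systems of sheaves pulled back from one stage: let ι be a directed preordered set, (X_i) an
inverse system of quasi-compact quasi-separated schemes indexed by ι with affine transition
morphisms, X a limit with projections f_i, i₀ an index and F₀ an abelian sheaf on the small etale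
site of X_{i₀}. Then H^p(X, f_{i₀}^{-1} F₀) is the colimit of the groups H^p(X_j, F₀|_{X_j}) over j
≥ i₀, in the concrete sense: every class on X is pulled back from some X_j, and a class on X_j that
pulls back to zero on X already pulls back to zero on some X_k, k ≥ j. (The source allows general
systems of sheaves (F_i, φ_{i'i}); only systems pulled back from a single stage are stated.)
(Exactness of pullback of abelian sheaves, which always holds, is carried as an instance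
hypothesis.) -/
theorem result {ι : Type u} [Preorder ι] [IsDirected ι (· ≤ ·)] (Xs : ιᵒᵖ ⥤ Scheme.{u})
    (haff : ∀ ⦃a b : ιᵒᵖ⦄ (h : a ⟶ b), IsAffineHom (Xs.map h))
    (hqc : ∀ a, CompactSpace ↥(Xs.obj a)) (hqs : ∀ a, QuasiSeparatedSpace ↥(Xs.obj a))
    (c : Cone Xs) (hc : IsLimit c) (i₀ : ι) (F₀ : EtCoh.Ab (Xs.obj (op i₀))) (p : ℕ)
    [∀ a, PreservesFiniteLimits (EtCoh.pull (c.π.app a))]
    [∀ ⦃a b : ιᵒᵖ⦄ (h : a ⟶ b), PreservesFiniteLimits (EtCoh.pull (Xs.map h))] :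
    (∀ ξ : EtCoh.H c.pt ((EtCoh.pull (c.π.app (op i₀))).obj F₀) p,
      ∃ (j : ι) (hj : i₀ ≤ j) (ξj : EtCoh.H (Xs.obj (op j)) ((EtCoh.pull (Xs.map (homOfLE hj).op)).obj F₀) p),
        EtCore.HpullVia (c.π.app (op j)) (Xs.map (homOfLE hj).op) (c.π.app (op i₀)) (c.w (homOfLE hj).op) F₀ p ξj = ξ) ∧
    (∀ (j : ι) (hj : i₀ ≤ j) (ξj : EtCoh.H (Xs.obj (op j)) ((EtCoh.pull (Xs.map (homOfLE hj).op)).obj F₀) p),
      EtCore.HpullVia (c.π.app (op j)) (Xs.map (homOfLE hj).op) (c.π.app (op i₀)) (c.w (homOfLE hj).op) F₀ p ξj = 0 →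
        ∃ (k : ι) (hk : j ≤ k), EtCore.Hpull (Xs.map (homOfLE hk).op) _ p ξj = 0) := by
  haveI : Nonempty ι := ⟨i₀⟩
  let f : EtLim24.After i₀ → ι := fun j => j.1
  have hf : Monotone f := fun a b h => h
  haveI : IsFiltered (EtLim24.After i₀) := inferInstance
  haveI : hf.functor.Final := (Monotone.final_functor_iff hf).2 fun d => by
    obtain ⟨k, h₁, h₂⟩ := directed_of (· ≤ ·) i₀ d
    exact ⟨⟨k, h₁⟩, h₂⟩
  let Xs' : (EtLim24.After i₀)ᵒᵖ ⥤ Scheme.{u} := hf.functor.op ⋙ Xs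
  let c' : Cone Xs' := c.whisker hf.functor.op
  have hc' : IsLimit c' := (Functor.Initial.isLimitWhiskerEquiv hf.functor.op c).symm hc
  haveI : ∀ i : EtLim24.After i₀, CompactSpace ↥(Xs'.obj (op i)) := fun i => hqc _
  haveI : ∀ i : EtLim24.After i₀, QuasiSeparatedSpace ↥(Xs'.obj (op i)) := fun i => hqs _
  haveI : ∀ a, PreservesFiniteLimits (EtCoh.pull (c'.π.app a)) := fun a =>
    show PreservesFiniteLimits (EtCoh.pull (c.π.app (hf.functor.op.obj a))) from inferInstance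
  haveI : ∀ ⦃a b⦄ (h : a ⟶ b), PreservesFiniteLimits (EtCoh.pull (Xs'.map h)) := fun a b h =>
    show PreservesFiniteLimits (EtCoh.pull (Xs.map (hf.functor.op.map h))) from inferInstance
  let b : ∀ i : EtLim24.After i₀, Xs'.obj (op i) ⟶ Xs.obj (op i₀) := fun i => Xs.map (homOfLE i.2).op
  have hb : ∀ ⦃i j : EtLim24.After i₀⦄ (h : i ≤ j), EtLim24.uM Xs' h ≫ b i = b j :=
    fun i j h => EtLim24.uM_comp (Xs := Xs) i.2 h
  obtain ⟨h₁, h₂⟩ := EtLim24.limit_base b hb (c.π.app (op i₀)) (fun i => c.w (homOfLE i.2).op) F₀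
    (fun a b h => haff (hf.functor.op.map h)) hc' p
  refine ⟨fun ξ => ?_, fun j hj x hx => ?_⟩
  · obtain ⟨i, x, hx⟩ := h₁ ξ
    exact ⟨i.1, i.2, x, hx⟩
  · obtain ⟨k, hk, h0⟩ := h₂ ⟨j, hj⟩ x hx
    have hk' : j ≤ k.1 := hk
    refine ⟨k.1, hk', ?_⟩
    exact EtLim24.eq_zero_of_HpullVia (Xs.map (homOfLE hk').op) (Xs.map (homOfLE hj).op)
      (Xs.map (homOfLE k.2).op) (EtLim24.uM_comp (Xs := Xs) hj hk') F₀ p x h0

end Groth.Agent.S0646
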