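import Groth.Statements.S0153
import Groth.Agent.Lib.SpectralSec.Stalk
import Groth.Agent.Lib.SpectralSec.Glue

set_option autoImplicit false
universe u
open CategoryTheory CategoryTheory.Limits AlgebraicGeometry Opposite
open EtPBC

namespace Groth.Agent.S0153

/-- Let X be a spectral space and Z ⊆ X closed such that Z ∩ closure{x} is connected (nonempty) for
every x. Then for every sheaf of sets F on X restriction Gamma(X, F) -> Gamma(Z, F|_Z) is bijective;
written as the global-sections component of the unit F -> i_* i^* F for the inclusion i : Z -> X. -/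
theorem result (X : TopCat.{u}) [SpectralSpace X]
    (Z : Set X) (hZ : IsClosed Z)
    (hconn : ∀ x : X, IsConnected (Z ∩ closure {x}))
    (F : TopCat.Sheaf (Type u) X) :
    Function.Bijective
      (((TopCat.Sheaf.pullbackPushforwardAdjunction (Type u)
        (TopCat.ofHom ⟨(Subtype.val : Z → X), continuous_subtype_val⟩)).unit.app F).hom.app (op ⊤)) := by
  let i : TopCat.of Z ⟶ X := TopCat.ofHom ⟨(Subtype.val : Z → X), continuous_subtype_val⟩
  show Function.Bijective ((SpectralSec.unitHom i F).app (op ⊤))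
  refine ⟨fun s t h => ?_, fun σ => ?_⟩
  · refine TopCat.Presheaf.section_ext F _ _ _ fun x hx => ?_
    obtain ⟨z, hzZ, hxz⟩ := (hconn x).nonempty
    have e : F.presheaf.germ ⊤ z trivial s = F.presheaf.germ ⊤ z trivial t := by
      apply (SpectralSec.stalkUnit_bijective i F ⟨z, hzZ⟩).1
      exact (SpectralSec.stalkUnit_germ i F ⟨z, hzZ⟩ ⊤ trivial s).trans ((congrArg _ h).trans (SpectralSec.stalkUnit_germ i F ⟨z, hzZ⟩ ⊤ trivial t).symm)
    have hsp := F.presheaf.germ_stalkSpecializes (U := ⊤) (y := z) trivial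
      (specializes_iff_mem_closure.mpr hxz)
    exact (congr($hsp s)).symm.trans ((congrArg (F.presheaf.stalkSpecializes _) e).trans congr($hsp t))
  · let P := ((TopCat.Sheaf.pullback (Type u) i).obj F)
    let a : ∀ z ∈ Z, F.presheaf.stalk z := fun z hz =>
      ((SpectralSec.stalkUnit_bijective i F ⟨z, hz⟩).2 (P.presheaf.germ ((TopologicalSpace.Opens.map i).obj ⊤) ⟨z, hz⟩ trivial σ)).choose
    have ha : ∀ z (hz : z ∈ Z), SpectralSec.stalkUnit i F ⟨z, hz⟩ (a z hz) =
        P.presheaf.germ ((TopologicalSpace.Opens.map i).obj ⊤) ⟨z, hz⟩ trivial σ := fun z hz =>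
      ((SpectralSec.stalkUnit_bijective i F ⟨z, hz⟩).2 _).choose_spec
    obtain ⟨t, ht⟩ := SpectralSec.exists_section_of_germs F Z hZ hconn a (fun z hz => by
      obtain ⟨U, hzU, s, hs⟩ := F.presheaf.exists_germ_eq (a z hz)
      have e := (SpectralSec.stalkUnit_germ i F ⟨z, hz⟩ U hzU s).symm.trans
        ((congrArg (SpectralSec.stalkUnit i F ⟨z, hz⟩) hs).trans (ha z hz))
      obtain ⟨W, hzW, iU, iT, e'⟩ := P.presheaf.germ_eq _ _ _ _ _ e
      obtain ⟨W', hW', hWW'⟩ := isOpen_induced_iff.mp W.isOpen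
      let V : TopologicalSpace.Opens X := U ⊓ ⟨W', hW'⟩
      refine ⟨V, ⟨hzU, (Set.ext_iff.mp hWW' ⟨z, hz⟩).mpr hzW⟩,
        F.presheaf.map (homOfLE (inf_le_left : V ≤ U)).op s, fun z' hz' hV => ?_⟩
      rw [TopCat.Presheaf.germ_res_apply]
      apply (SpectralSec.stalkUnit_bijective i F ⟨z', hz'⟩).1
      have hW : (⟨z', hz'⟩ : Z) ∈ W := (Set.ext_iff.mp hWW' ⟨z', hz'⟩).mp hV.2
      erw [ha z' hz', SpectralSec.stalkUnit_germ i F ⟨z', hz'⟩ U hV.1]
      exact (P.presheaf.germ_res_apply iU _ hW _).symm.trans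
        ((congrArg (P.presheaf.germ W _ hW) e').trans (P.presheaf.germ_res_apply iT _ hW _)))
    refine ⟨t, TopCat.Presheaf.section_ext P _ _ _ fun z hz => ?_⟩
    exact (SpectralSec.stalkUnit_germ i F z ⊤ trivial t).symm.trans
      ((congrArg (SpectralSec.stalkUnit i F z) (ht z.1 z.2)).trans (ha z.1 z.2))

end Groth.Agent.S0153
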