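import Mathlib.AlgebraicGeometry.Geometrically.Reduced
import Mathlib.AlgebraicGeometry.Fiber
import Mathlib.AlgebraicGeometry.Morphisms.FiniteType
import Groth.Agent.Lib.Stein6.Spread

set_option autoImplicit false
universe u
namespace FlatMor
end FlatMor
open FlatMor

namespace Groth.Agent.S0434

open AlgebraicGeometry CategoryTheory Limits in
/-- For a morphism of finite type to an irreducible scheme whose generic fibre is geometrically reduced,
all fibres over some nonempty open of the target are geometrically reduced. -/
theorem result {X Y : Scheme.{u}} (f : X ⟶ Y) [IrreducibleSpace ↑Y] [LocallyOfFiniteType f] [QuasiCompact f]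
    (h : GeometricallyReduced (f.fiberToSpecResidueField (genericPoint ↑Y))) :
    ∃ V : Y.Opens, (V : Set ↑Y).Nonempty ∧ GeometricallyReduced (f ∣_ V) := by
  obtain ⟨V, hV, hVi⟩ := Stein6.geometricallyReduced_near_generic f
  refine ⟨V, ⟨_, hV⟩, Stein6.geometricallyReduced_of_fibres _ fun y => ?_⟩
  exact (ZConn5.geometricallyReduced_fibre_iff (isPullback_morphismRestrict f V).flip y).2 ((hVi _ y.2).2 h)

end Groth.Agent.S0434
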