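import Groth.Statements.S1358
import Groth.Agent.Lib.Spread4.Gen
import Groth.Agent.Lib.Spread4.QS
import Groth.Agent.S1629
import Groth.Agent.S0414
import Groth.Agent.Lib.Modif26.Main
import Groth.Agent.Lib.RedSep.Basic
import Groth.Agent.Lib.UnivHomeo.Basic
-- import your own Groth.Agent.* helpers here

set_option autoImplicit false
universe u
open FlatMor

namespace Groth.Agent.S1358

open AlgebraicGeometry CategoryTheory Limits in
/-- Let f be of finite type with irreducible target Y. Then there are a nonempty open V of Y, a finite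
universal homeomorphism g from an integral affine scheme Y' to V, and a reduced scheme X' with a
surjective closed immersion into the base change of X to Y' (so X' is the reduction of that base
change), such that X' → Y' is flat and of finite presentation and its generic fibre is geometrically
reduced. -/
theorem result {X Y : Scheme.{u}} (f : X ⟶ Y) [IrreducibleSpace ↑Y] [LocallyOfFiniteType f] [QuasiCompact f] :
    ∃ (V : Y.Opens) (Y' : Scheme.{u}) (g : Y' ⟶ (V : Scheme.{u})) (X' : Scheme.{u}) (r : X' ⟶ pullback f (g ≫ V.ι)) (hY' : IsIntegral Y'),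
      (V : Set ↑Y).Nonempty ∧ IsAffine Y' ∧ IsFinite g ∧ FlatMor.IsUnivHomeo g ∧ IsClosedImmersion r ∧ Surjective r ∧ IsReduced X' ∧
      Flat (r ≫ pullback.snd f (g ≫ V.ι)) ∧ LocallyOfFinitePresentation (r ≫ pullback.snd f (g ≫ V.ι)) ∧
      QuasiCompact (r ≫ pullback.snd f (g ≫ V.ι)) ∧ QuasiSeparated (r ≫ pullback.snd f (g ≫ V.ι)) ∧
      GeometricallyReduced ((r ≫ pullback.snd f (g ≫ V.ι)).fiberToSpecResidueField (genericPoint ↑Y')) := by
  classical
  obtain ⟨A, j, K, _, φ, hj, hker, hfr⟩ := Spread4.exists_chart Y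
  let p : Spec (CommRingCat.of K) ⟶ Y := Spec.map (CommRingCat.ofHom φ) ≫ j
  letI : (pullback f p).Over (Spec (CommRingCat.of K)) := ⟨pullback.snd f p⟩
  haveI : LocallyOfFiniteType (pullback f p ↘ Spec (CommRingCat.of K)) :=
    inferInstanceAs (LocallyOfFiniteType (pullback.snd f p))
  haveI : IsLocallyNoetherian (pullback f p) := LocallyOfFiniteType.isLocallyNoetherian (pullback.snd f p)
  haveI : CompactSpace ↥(pullback f p) := QuasiCompact.compactSpace_of_compactSpace (pullback.snd f p)
  haveI : IsNoetherian (pullback f p) := {}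
  obtain ⟨L, _, _, hfin, hins, hL⟩ := S1629.result K (pullback f p)
    TopologicalSpace.NoetherianSpace.finite_irreducibleComponents
  haveI := hfin
  haveI := hins
  obtain ⟨B, _, _, _, χ, hBfin, huh, hχ, hinj, hBfr⟩ :=
    Spread4.exists_finite_univHomeo (L := L) φ hker hfr
  have hkerB : RingHom.ker χ ≤ nilradical B := by
    rw [(RingHom.injective_iff_ker_eq_bot χ).1 hinj]; exact bot_le
  let g₀ : Spec (CommRingCat.of B) ⟶ Spec A := Spec.map (CommRingCat.ofHom (algebraMap A B))
  have huh' : FlatMor.IsUnivHomeo g₀ := huh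
  haveI : IsFinite g₀ := (IsFinite.SpecMap_iff _).2 (RingHom.finite_algebraMap.2 hBfin)
  obtain ⟨σ, hσ, hσχ⟩ := Spread4.exists_iso_generic χ hkerB hBfr
  haveI := hσ
  let P₁ := pullback f (g₀ ≫ j)
  let i₁ : P₁.nilradical.subscheme ⟶ P₁ := P₁.nilradical.subschemeι
  haveI : IsReduced P₁.nilradical.subscheme := by
    rw [← Scheme.IdealSheafData.vanishingIdeal_top]
    exact RedSepLib.isReduced_vanishingIdeal_subscheme _
  haveI : Surjective i₁ := ⟨by
    rw [← Set.range_eq_univ, Scheme.IdealSheafData.range_subschemeι, Scheme.support_nilradical]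
    rfl⟩
  let q : P₁.nilradical.subscheme ⟶ Spec (CommRingCat.of B) := i₁ ≫ pullback.snd f (g₀ ≫ j)
  obtain ⟨W, hW, hWflat, hWfp⟩ := S0414.result q
  obtain ⟨W₂, hW₂, hWqs⟩ := Spread4.exists_quasiSeparated_open q
  have hhomeo := UH.isHomeomorph_of_isUnivHomeo huh'
  obtain ⟨w, hw, hw₂⟩ := hW.inter_open_nonempty _ W₂.isOpen hW₂
  obtain ⟨_, ⟨c, rfl⟩, hcw, hcW⟩ := PrimeSpectrum.isTopologicalBasis_basic_opens.exists_subset_of_mem_open
    (show g₀ w ∈ g₀ '' ((W ⊓ W₂ : Scheme.Opens _) : Set _) from ⟨w, ⟨hw₂, hw⟩, rfl⟩)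
    (hhomeo.isOpenMap _ (W ⊓ W₂).isOpen)
  let O : (Spec A).Opens := PrimeSpectrum.basicOpen c
  have hO : IsAffineOpen O := IsAffineOpen.Spec_basicOpen c
  let O' : (Spec (CommRingCat.of B)).Opens := g₀ ⁻¹ᵁ O
  haveI : IsAffine O' := hO.preimage g₀
  have hwO : w ∈ O' := hcw
  have hO'W₀ : O' ≤ W ⊓ W₂ := fun z hz => by
    obtain ⟨z', hz', e⟩ := hcW (show g₀ z ∈ (O : Set _) from hz)
    exact hhomeo.injective e ▸ hz'
  have hO'W : O' ≤ W := hO'W₀.trans inf_le_left
  haveI : Nonempty O' := ⟨⟨w, hwO⟩⟩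
  haveI : IsIntegral (Spec (CommRingCat.of B)) := inferInstance
  haveI hY' : IsIntegral (O' : Scheme.{u}) := isIntegral_of_isOpenImmersion O'.ι
  let j' : (O : Scheme.{u}) ⟶ Y := O.ι ≫ j
  let g : (O' : Scheme.{u}) ⟶ (j'.opensRange : Scheme.{u}) := (g₀ ∣_ O) ≫ j'.isoOpensRange.hom
  haveI : IsFinite (g₀ ∣_ O) := IsZariskiLocalAtTarget.restrict (P := @IsFinite) inferInstance O
  have huh₂ : FlatMor.IsUnivHomeo g := by
    haveI : FlatMor.IsUnivHomeo.IsStableUnderBaseChange :=
      MorphismProperty.universally_isStableUnderBaseChange _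
    haveI : FlatMor.IsUnivHomeo.{u}.RespectsIso := MorphismProperty.universally_respectsIso _
    exact (MorphismProperty.cancel_right_of_respectsIso (P := FlatMor.IsUnivHomeo) (g₀ ∣_ O) _).2
      (MorphismProperty.of_isPullback (isPullback_morphismRestrict g₀ O).flip huh')
  have hg : g ≫ j'.opensRange.ι = O'.ι ≫ g₀ ≫ j := by
    simp only [g, Category.assoc]
    rw [Scheme.Hom.isoOpensRange_hom_ι, morphismRestrict_ι_assoc]
  let Pb := pullback f (g ≫ j'.opensRange.ι)
  let m : Pb ⟶ P₁ := pullback.lift (pullback.fst _ _) (pullback.snd _ _ ≫ O'.ι) (by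
    exact pullback.condition.trans ((congrArg (pullback.snd f _ ≫ ·) hg).trans (Category.assoc _ _ _).symm))
  have hm : IsPullback m (pullback.snd f (g ≫ j'.opensRange.ι)) (pullback.snd f (g₀ ≫ j)) O'.ι := by
    refine IsPullback.of_right ?_ (pullback.lift_snd _ _ _) (IsPullback.of_hasPullback f (g₀ ≫ j))
    rw [pullback.lift_fst, ← hg]
    exact IsPullback.of_hasPullback _ _
  have hq : IsPullback (q ⁻¹ᵁ O').ι (q ∣_ O') q O'.ι := (isPullback_morphismRestrict q O').flip
  let r : ((q ⁻¹ᵁ O') : Scheme.{u}) ⟶ Pb := hm.lift ((q ⁻¹ᵁ O').ι ≫ i₁) (q ∣_ O') (by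
    rw [Category.assoc]; exact hq.w)
  have hr : IsPullback (q ⁻¹ᵁ O').ι r i₁ m := by
    refine IsPullback.of_bot ?_ (hm.lift_fst _ _ _).symm hm
    rw [hm.lift_snd]
    exact hq
  haveI : IsClosedImmersion r := MorphismProperty.of_isPullback hr inferInstance
  haveI : Surjective r := MorphismProperty.of_isPullback hr inferInstance
  haveI : IsReduced (q ⁻¹ᵁ O' : Scheme.{u}) := isReduced_of_isOpenImmersion (q ⁻¹ᵁ O').ι
  have hrs : r ≫ pullback.snd f (g ≫ j'.opensRange.ι) = q ∣_ O' := hm.lift_snd _ _ _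
  have hres : IsPullback (P₁.nilradical.subscheme.homOfLE (q.preimage_mono hO'W)) (q ∣_ O') (q ∣_ W)
      ((Spec (CommRingCat.of B)).homOfLE hO'W) := by
    refine IsPullback.of_right ?_ ?_ (isPullback_morphismRestrict q W).flip
    · rw [Scheme.homOfLE_ι, Scheme.homOfLE_ι]
      exact hq
    · rw [← cancel_mono W.ι, Category.assoc, morphismRestrict_ι, Scheme.homOfLE_ι_assoc, Category.assoc,
        Scheme.homOfLE_ι]
      exact hq.w
  obtain ⟨σ', hσ', hσ'χ⟩ := Spread4.exists_iso_generic_open O'.ι σ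
  haveI := hσ'
  obtain ⟨a, ha⟩ := Spread4.exists_fibre_comparison f (g ≫ j'.opensRange.ι) _ p
    (Spec.map (CommRingCat.ofHom (algebraMap K L))) σ' (by
      rw [hg, reassoc_of% hσ'χ, reassoc_of% hσχ]
      simp only [g₀, p, ← Category.assoc]
      congr 1
      simp only [← Spec.map_comp, ← CommRingCat.ofHom_comp]
      exact congrArg (fun t => Spec.map (CommRingCat.ofHom t)) hχ)
  haveI : IsIso a := MorphismProperty.of_isPullback (P := MorphismProperty.isomorphisms Scheme) ha.flip
    (inferInstanceAs (IsIso σ'))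
  haveI : GeometricallyReduced ((r ≫ pullback.snd f (g ≫ j'.opensRange.ι)).fiberToSpecResidueField
      (genericPoint ↑(O' : Scheme.{u}))) := by
    let η := genericPoint ↑(O' : Scheme.{u})
    let F := pullback.snd f (g ≫ j'.opensRange.ι)
    let T := (r ≫ F).fiber η
    haveI : IsReduced T := Spread4.isReduced_genericFibre _
    let ρ : T ⟶ F.fiber η := pullback.lift ((r ≫ F).fiberι η ≫ r) ((r ≫ F).fiberToSpecResidueField η) (by
      rw [Category.assoc]; exact pullback.condition)
    have hρ : IsPullback ((r ≫ F).fiberι η) ρ r (F.fiberι η) := by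
      refine IsPullback.of_bot ?_ (pullback.lift_fst _ _ _).symm (IsPullback.of_hasPullback F _)
      rw [show ρ ≫ pullback.snd F _ = _ from pullback.lift_snd _ _ _]
      exact IsPullback.of_hasPullback (r ≫ F) _
    haveI : IsClosedImmersion ρ := MorphismProperty.of_isPullback hρ inferInstance
    haveI : Surjective ρ := MorphismProperty.of_isPullback hρ inferInstance
    let N := pullback (pullback.snd f p) (Spec.map (CommRingCat.ofHom (algebraMap K L)))
    let ρ' : T ⟶ N := ρ ≫ inv a
    haveI : IsReduced N.nilradical.subscheme := by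
      rw [← Scheme.IdealSheafData.vanishingIdeal_top]
      exact RedSepLib.isReduced_vanishingIdeal_subscheme _
    let l : T ⟶ N.nilradical.subscheme := IsClosedImmersion.lift N.nilradical.subschemeι ρ' (by
      rw [Scheme.IdealSheafData.ker_subschemeι, ← Scheme.IdealSheafData.vanishingIdeal_top]
      exact Modif26.vanishingIdeal_le_ker _ _ fun _ _ => trivial)
    have hl : l ≫ N.nilradical.subschemeι = ρ' := IsClosedImmersion.lift_fac _ _ _
    haveI : IsClosedImmersion (l ≫ N.nilradical.subschemeι) := by rw [hl]; infer_instance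
    haveI : IsClosedImmersion l := IsClosedImmersion.of_comp l N.nilradical.subschemeι
    haveI : Surjective l := ⟨fun z => by
      obtain ⟨t, ht⟩ := (ρ').surjective (N.nilradical.subschemeι z)
      exact ⟨t, N.nilradical.subschemeι.isClosedEmbedding.injective (by rw [← Scheme.Hom.comp_apply, hl, ht])⟩⟩
    haveI := isIso_of_isClosedImmersion_of_surjective l
    have hL' : GeometricallyReduced (N.nilradical.subschemeι ≫
        pullback.snd (pullback.snd f p) (Spec.map (CommRingCat.ofHom (algebraMap K L)))) := hL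
    have h1 : GeometricallyReduced (l ≫ (N.nilradical.subschemeι ≫ pullback.snd (pullback.snd f p) (Spec.map (CommRingCat.ofHom (algebraMap K L)))) ≫ σ') :=
      (MorphismProperty.cancel_left_of_respectsIso (P := @GeometricallyReduced) l _).2
        ((MorphismProperty.cancel_right_of_respectsIso (P := @GeometricallyReduced) _ σ').2 hL')
    have e : l ≫ (N.nilradical.subschemeι ≫ pullback.snd (pullback.snd f p) (Spec.map (CommRingCat.ofHom (algebraMap K L)))) ≫ σ' =
        (r ≫ F).fiberToSpecResidueField η := by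
      rw [← Category.assoc, ← Category.assoc, hl, Category.assoc]
      rw [show pullback.snd (pullback.snd f p) (Spec.map (CommRingCat.ofHom (algebraMap K L))) ≫ σ' = a ≫ F.fiberToSpecResidueField η from ha.w.symm]
      simp only [ρ', Category.assoc, IsIso.inv_hom_id_assoc]
      exact pullback.lift_snd _ _ _
    rwa [e] at h1
  refine ⟨j'.opensRange, O', g, (q ⁻¹ᵁ O'), r, hY', ⟨_, ⟨(g₀ ∣_ O) ⟨w, hwO⟩, rfl⟩⟩, inferInstance,
    inferInstance, huh₂, inferInstance, inferInstance, inferInstance, ?_, ?_, ?_, ?_, inferInstance⟩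
  · rw [hrs]; exact MorphismProperty.of_isPullback (P := @Flat) hres hWflat
  · rw [hrs]; exact MorphismProperty.of_isPullback (P := @LocallyOfFinitePresentation) hres hWfp
  · infer_instance
  · rw [hrs]; exact hWqs O' (hO'W₀.trans inf_le_right) (hO.preimage g₀)

end Groth.Agent.S1358
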