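import Groth.Statements.S6664
import Groth.Agent.Lib.BCField24.NormalReduce

set_option autoImplicit false
universe u
open CategoryTheory CategoryTheory.Limits AlgebraicGeometry Opposite
open EtBC

namespace Groth.Agent.S6664

/-- Let f : X → S be a morphism of schemes and n ≥ 1, q ≥ 1 integers such that BC(f, n, q − 1) holds and
BC(f, n, q) fails. Here BC(f, n, q − 1) means: for every base change f₁ : X₁ → S₁ of f along a
morphism S₁ → S, every cartesian square Y₁ = X₁ ×_{S₁} T₁ over a quasi-compact quasi-separated g₁ :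
T₁ → S₁ (with h₁ : Y₁ → X₁, e₁ : Y₁ → T₁), and every abelian sheaf G on the small etale site of T₁
killed by n, the base change map f₁⁻¹ R^a g₁,_* G → R^a h₁,_* e₁⁻¹ G is an isomorphism for all a ≤ q
− 1. (BC(f, n, q) is the same with a ≤ q.) Then there exist an affine integral scheme S' over S all
of whose local rings are integrally closed and whose function field is algebraically closed, the
base change f' : X' = X ×_S S' → S', an algebraically closed field K with a dominant morphism g :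
Spec K → S', the cartesian square Y = X' ×_{S'} Spec K with projection h : Y → X', and a natural
number d dividing n such that the higher direct image R^q h_* of the constant sheaf with value ℤ/d
on Y is nonzero. (The published statement allows n = 0, where its proof's splitting of a ℤ/n-module
into cyclic summands does not apply; this row assumes n ≥ 1.) -/
theorem result {X S : Scheme.{u}} (f : X ⟶ S) (n q : ℕ) (hq : 1 ≤ q)
    (hn : 0 < n)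
    (hBC : (∀ ⦃S₁ X₁ T₁ Y₁ : Scheme.{u}⦄ (p₁ : S₁ ⟶ S) (f₁ : X₁ ⟶ S₁) (r₁ : X₁ ⟶ X),
        IsPullback r₁ f₁ f p₁ →
        ∀ (g₁ : T₁ ⟶ S₁) (h₁ : Y₁ ⟶ X₁) (e₁ : Y₁ ⟶ T₁) (c₁ : IsPullback e₁ h₁ g₁ f₁)
          [QuasiCompact g₁] [QuasiSeparated g₁] [PreservesFiniteLimits (EtCoh.pull e₁)]
          (G₁ : EtCoh.Ab T₁), EtCoh.KilledBy n G₁ →
          ∀ q₁ : ℕ, q₁ ≤ q - 1 → IsIso (EtBC.bcQ g₁ f₁ h₁ e₁ c₁.w q₁ G₁)))
    (hnot : ¬ (∀ ⦃S₂ X₂ T₂ Y₂ : Scheme.{u}⦄ (p₂ : S₂ ⟶ S) (f₂ : X₂ ⟶ S₂) (r₂ : X₂ ⟶ X),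
        IsPullback r₂ f₂ f p₂ →
        ∀ (g₂ : T₂ ⟶ S₂) (h₂ : Y₂ ⟶ X₂) (e₂ : Y₂ ⟶ T₂) (c₂ : IsPullback e₂ h₂ g₂ f₂)
          [QuasiCompact g₂] [QuasiSeparated g₂] [PreservesFiniteLimits (EtCoh.pull e₂)]
          (G₂ : EtCoh.Ab T₂), EtCoh.KilledBy n G₂ →
          ∀ q₂ : ℕ, q₂ ≤ q → IsIso (EtBC.bcQ g₂ f₂ h₂ e₂ c₂.w q₂ G₂))) :
    ∃ (S' X' Y : Scheme.{u}) (_ : IsAffine S') (_ : IsIntegral S')
      (_ : ∀ s : S', IsIntegrallyClosed (S'.presheaf.stalk s)) (_ : IsAlgClosed S'.functionField)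
      (p : S' ⟶ S) (f' : X' ⟶ S') (r : X' ⟶ X) (_ : IsPullback r f' f p)
      (K : Type u) (_ : Field K) (_ : IsAlgClosed K) (g : Spec (CommRingCat.of K) ⟶ S') (_ : IsDominant g)
      (h : Y ⟶ X') (e : Y ⟶ Spec (CommRingCat.of K)) (_ : IsPullback e h g f') (d : ℕ) (_ : d ∣ n),
      ¬ IsZero ((EtCoh.Rpush h q).obj (EtCoh.const Y (ZMod d))) := by
  obtain ⟨m, rfl⟩ : ∃ m, q = m + 1 := ⟨q - 1, by omega⟩
  by_contra hne
  refine hnot fun S₂ X₂ T₂ Y₂ p₂ f₂ r₂ hX g₂ h₂ e₂ c₂ _ _ _ G₂ hG q₂ hq₂ => ?_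
  have H : ∀ a ≤ m, BCField24.BCAt f n a := fun a ha S₁ X₁ T₁ Y₁ p₁ f₁ r₁ h₁ g₁ k₁ e₁ c₁ _ _ _ G₁ hG₁ =>
    hBC p₁ f₁ r₁ h₁ g₁ k₁ e₁ c₁ G₁ hG₁ a (by omega)
  rcases Nat.lt_or_ge q₂ (m + 1) with hlt | hge
  · exact hBC p₂ f₂ r₂ hX g₂ h₂ e₂ c₂ G₂ hG q₂ (by omega)
  obtain rfl : q₂ = m + 1 := by omega
  refine BCField24.bcAt_succ f n m H (BCField24.ptVanish_of_normal f n (m + 1) hn ?_) p₂ f₂ r₂ hX g₂ h₂ e₂ c₂ G₂ hG
  intro S' X' Y hA hI hN hK p f' r hX' K _ hKa g hg h e c d hd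
  by_contra hz
  exact hne ⟨S', X', Y, hA, hI, hN, hK, p, f', r, hX', K, inferInstance, hKa, g, hg, h, e, c, d, hd, hz⟩

end Groth.Agent.S6664
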