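import Groth.Statements.S10193
import Groth.Agent.Lib.AlgSpDescent.MonoLft
import Groth.Agent.Lib.AlgSpDecent.Basic
import Groth.Agent.Lib.AlgSpace.Base
import Groth.Agent.Lib.AlgSpace.Points

set_option autoImplicit false
universe u
open CategoryTheory CategoryTheory.Limits AlgebraicGeometry Topology TopologicalSpace
open AlgSp

set_option backward.isDefEq.respectTransparency.types false

namespace Groth.Agent.S10193
open Groth.Agent.AlgSpace Groth.Agent.AlgSpDecent

/-- Let X, Y be algebraic spaces over a scheme S, i : Z ⟶ X a closed subspace (a morphism representable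
by closed immersions) and assume Y is reduced. Then a morphism f : Y ⟶ X factors through Z if and
only if |f|(|Y|) is contained in |Z|. -/
theorem result {S : Scheme.{u}} {X Y Z : AlgSp.Space S}
    (i : Z ⟶ X) (hi : AlgSp.RepWith @IsClosedImmersion i.hom) (hY : AlgSp.IsReducedSp Y.obj) (f : Y ⟶ X) :
    (∃ g : Y ⟶ Z, g ≫ i = f) ↔
      Set.range (AlgSp.Points.map f.hom) ⊆ Set.range (AlgSp.Points.map i.hom) := by
  refine ⟨?_, fun h => ?_⟩
  · rintro ⟨g, rfl⟩
    rintro _ ⟨y, rfl⟩
    exact ⟨Points.map g.hom y, (Points.map_comp _ _ _).symm⟩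
  · have := Groth.Agent.AlgSpDescent.mono_of_repWith_closedImmersion hi
    obtain ⟨V, a, hae, has, hV⟩ := hY
    have : IsReduced V.left := hV
    have sq := hi.1.isPullback (a ≫ f.hom)
    have : IsClosedImmersion (hi.1.snd (a ≫ f.hom)).left := hi.2 _ _ _ sq
    have : Surjective (hi.1.snd (a ≫ f.hom)).left := ⟨fun v => by
      obtain ⟨x, hx⟩ := h ⟨Points.ofPt a v, rfl⟩
      obtain ⟨w, -, hw⟩ := exists_pt_of_isPullback sq (hx.trans (Points.map_ofPt a f.hom v))
      exact ⟨w, hw⟩⟩
    have : IsIso ((Over.forget S).map (hi.1.snd (a ≫ f.hom))) :=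
      isIso_of_isClosedImmersion_of_surjective (hi.1.snd (a ≫ f.hom)).left
    have : IsIso (hi.1.snd (a ≫ f.hom)) := isIso_of_reflects_iso _ (Over.forget S)
    let b : (AlgSp.yon S).obj V ⟶ Z.obj := inv ((AlgSp.yon S).map (hi.1.snd (a ≫ f.hom))) ≫ hi.1.fst (a ≫ f.hom)
    have hb : b ≫ i.hom = a ≫ f.hom := by
      simp only [b, Category.assoc, sq.w, IsIso.inv_hom_id_assoc]
    let l := pullback.lift b a hb
    have hsurj : Sheaf.IsLocallySurjective (pullback.snd i.hom f.hom) := by
      have := isLocallySurjective_of_etale hae has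
      exact Presheaf.isLocallySurjective_of_isLocallySurjective_fac (AlgSp.J S)
        (f₁ := l.hom) (f₃ := a.hom) (congrArg (fun q => q.hom) (pullback.lift_snd b a hb))
    have : Epi (pullback.snd i.hom f.hom) := Sheaf.epi_of_isLocallySurjective' _
    have : IsIso (pullback.snd i.hom f.hom) := isIso_of_mono_of_epi _
    refine ⟨ObjectProperty.homMk (inv (pullback.snd i.hom f.hom) ≫ pullback.fst i.hom f.hom), ?_⟩
    ext1
    show (inv (pullback.snd i.hom f.hom) ≫ pullback.fst i.hom f.hom) ≫ i.hom = f.hom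
    rw [Category.assoc, pullback.condition, IsIso.inv_hom_id_assoc]

end Groth.Agent.S10193
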