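import Groth.Statements.S4418
import Groth.Agent.Lib.VeryAmple11.ProjCrit

set_option autoImplicit false
universe u
open CategoryTheory CategoryTheory.Limits AlgebraicGeometry
open EGA2

namespace Groth.Agent.S4418

/-- Every projective morphism f : X → Y is quasi-projective (of finite type with an f-ample module) and
proper. -/
theorem result {X Y : Scheme.{u}} (f : X ⟶ Y) (hf : RelProj.IsProjective f) :
    RelProj.IsQuasiProjective f ∧ IsProper f := by
  obtain ⟨L, hL, hva⟩ := Groth.Agent.VA11.isRelVeryAmple_of_isProjective hf
  haveI := Groth.Agent.QuotProj11.isProper_of_isProjective hf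
  exact ⟨⟨inferInstance, inferInstance, L, Groth.Agent.VA11.isRelAmple_of_isRelVeryAmple hva⟩, inferInstance⟩

end Groth.Agent.S4418
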