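import Groth.Statements.S9441
import Groth.Agent.Lib.LeftInv.Jacobian
import Groth.Agent.Lib.CI2.Gci
import Groth.Prelude

set_option autoImplicit false
universe u
open Synt

namespace Groth.Agent.S9441

open TensorProduct KaehlerDifferential Groth.Agent.LeftInv

variable {A B C : Type u} [CommRing A] [CommRing B] [CommRing C]
    [Algebra A B] [Algebra B C] [Algebra A C] [IsScalarTower A B C]

theorem lInv_of_jacobian' (hsurj : Function.Surjective (algebraMap B C)) (p : Ideal C) [p.IsPrime]
    [Module.Finite C (extOfSurj A B C hsurj).Cotangent]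
    {m : ℕ} (f : Fin m → B) (D : Fin m → Derivation A B B) (hf : ∀ i, f i ∈ RingHom.ker (algebraMap B C))
    (hgen : ∀ x ∈ RingHom.ker (algebraMap B C), ∃ s, algebraMap B C s ∉ p ∧ s * x ∈ Ideal.span (Set.range f))
    (hdet : algebraMap B C (Matrix.det (Matrix.of fun i j => D j (f i))) ∉ p) :
    LInv p.primeCompl (extOfSurj A B C hsurj).cotangentComplex := by
  classical
  let P : Algebra.Extension.{u} A C := extOfSurj A B C hsurj
  let M : Matrix (Fin m) (Fin m) B := Matrix.of fun i j => D j (f i)
  let φ : Fin m → (C ⊗[B] Ω[B⁄A] →ₗ[C] C) := fun j =>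
    ((Algebra.linearMap B C).comp (D j).liftKaehlerDifferential).liftBaseChange C
  have hφ : ∀ j (x : B), φ j (1 ⊗ₜ[B] KaehlerDifferential.D A B x) = algebraMap B C (D j x) := by
    intro j x
    simp [φ]
  let g : Fin m → P.Cotangent := fun i => Algebra.Extension.Cotangent.mk ⟨f i, hf i⟩
  let w : P.CotangentSpace →ₗ[C] P.Cotangent :=
    ∑ i, (∑ j, algebraMap B C (M.adjugate j i) • φ j).smulRight (g i)
  have hw : ∀ k, w (P.cotangentComplex (g k)) = algebraMap B C M.det • g k := by
    intro k
    have h1 : P.cotangentComplex (g k) = (1 : C) ⊗ₜ[B] KaehlerDifferential.D A B (f k) :=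
      rfl
    have h2 : ∀ i, (∑ j, algebraMap B C (M.adjugate j i) • φ j) ((1 : C) ⊗ₜ[B] KaehlerDifferential.D A B (f k))
        = if k = i then algebraMap B C M.det else 0 := by
      intro i
      rw [LinearMap.sum_apply]
      simp only [LinearMap.smul_apply, hφ, smul_eq_mul, ← map_mul, ← map_sum]
      have h3 := congrFun (congrFun (Matrix.mul_adjugate M) k) i
      rw [Matrix.mul_apply, Matrix.smul_apply, Matrix.one_apply] at h3
      rw [Finset.sum_congr rfl (fun j _ => mul_comm (M.adjugate j i) (D j (f k)))]
      rw [show (∑ j, D j (f k) * M.adjugate j i) = M.det • (if k = i then (1 : B) else 0) from h3]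
      split_ifs <;> simp
    rw [h1]
    change (∑ i, (∑ j, algebraMap B C (M.adjugate j i) • φ j).smulRight (g i))
      ((1 : C) ⊗ₜ[B] KaehlerDifferential.D A B (f k)) = _
    rw [LinearMap.sum_apply]
    simp only [LinearMap.smulRight_apply, h2]
    rw [Finset.sum_eq_single k (fun i _ hi => by rw [if_neg (Ne.symm hi), zero_smul])
      (by simp), if_pos rfl]
  let d : P.Cotangent →ₗ[C] P.Cotangent := w ∘ₗ P.cotangentComplex - algebraMap B C M.det • LinearMap.id
  have hd : ∀ z (hz : z ∈ Ideal.span (Set.range f)),
      d (Algebra.Extension.Cotangent.mk ⟨z, Ideal.span_le.mpr (Set.range_subset_iff.mpr hf) hz⟩) = 0 := by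
    intro z hz
    induction hz using Submodule.span_induction with
    | mem z hz =>
      obtain ⟨i, rfl⟩ := hz
      show w (P.cotangentComplex (g i)) - algebraMap B C M.det • g i = 0
      rw [hw, sub_self]
    | zero =>
      rw [show (⟨0, _⟩ : P.ker) = 0 from rfl, map_zero, map_zero]
    | add a b ha hb ha' hb' =>
      rw [show (⟨a + b, _⟩ : P.ker) = (⟨a, Ideal.span_le.mpr (Set.range_subset_iff.mpr hf) ha⟩ : P.ker) +
        ⟨b, Ideal.span_le.mpr (Set.range_subset_iff.mpr hf) hb⟩ from rfl, map_add, map_add, ha', hb', add_zero]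
    | smul c a ha ha' =>
      let m₀ : P.Ring := c
      rw [show (⟨c • a, _⟩ : P.ker) = m₀ • (⟨a, Ideal.span_le.mpr (Set.range_subset_iff.mpr hf) ha⟩ : P.ker) from rfl,
        map_smul, ← algebraMap_smul C m₀, map_smul, ha', smul_zero]
  have key : ∀ y, ∃ s ∈ p.primeCompl, s • d y ∈ (⊥ : Submodule C P.Cotangent) := by
    intro y
    obtain ⟨⟨x, hx⟩, rfl⟩ := Algebra.Extension.Cotangent.mk_surjective y
    obtain ⟨s, hs, hsx⟩ := hgen x hx
    let s₀ : P.Ring := s
    refine ⟨algebraMap B C s, hs, (Submodule.mem_bot C).mpr ?_⟩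
    have h4 : algebraMap B C s • (Algebra.Extension.Cotangent.mk (⟨x, hx⟩ : P.ker) : P.Cotangent) =
        Algebra.Extension.Cotangent.mk (s₀ • (⟨x, hx⟩ : P.ker)) := by
      rw [map_smul]
      exact algebraMap_smul C s₀ _
    rw [← map_smul, h4]
    exact hd (s * x) hsx
  obtain ⟨t, ht, hd'⟩ := Groth.Agent.LeftInv.exists_common p.primeCompl ⊥ d key
  refine ⟨t • w, t * algebraMap B C M.det, p.primeCompl.mul_mem ht hdet, LinearMap.ext fun y => ?_⟩
  have h := (Submodule.mem_bot C).1 (hd' y)
  simp only [d, LinearMap.sub_apply, LinearMap.comp_apply, LinearMap.smul_apply, LinearMap.id_apply,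
    smul_sub, sub_eq_zero] at h ⊢
  rw [mul_smul]
  exact h

/-- For a relative global complete intersection S = R[x_1, …, x_n]/(f_1, …, f_c) and a prime q of S, the
map R → S is smooth at q if and only if some c × c minor of the Jacobian matrix (∂f_j/∂x_i), taken
on c distinct variables, has image outside q. -/
theorem result (R : Type u) [CommRing R] (n c : ℕ)
    (F : Fin c → MvPolynomial (Fin n) R) (hF : Synt.IsRelGCI R n c F)
    (q : Ideal (Synt.RelGCIRing R n c F)) [q.IsPrime] :
    Algebra.IsSmoothAt R q ↔ ∃ I : Fin c ↪ Fin n,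
      Ideal.Quotient.mk (Ideal.span (Set.range F))
        (Matrix.det (Matrix.of fun j i => MvPolynomial.pderiv (I i) (F j))) ∉ q := by
  classical
  let B := MvPolynomial (Fin n) R
  let C := Synt.RelGCIRing R n c F
  have hsurj : Function.Surjective (algebraMap B C) := Ideal.Quotient.mk_surjective
  have hker : RingHom.ker (algebraMap B C) = Ideal.span (Set.range F) := Ideal.mk_ker
  haveI : Module.Finite B (RingHom.ker (algebraMap B C)) := Module.Finite.of_fg (by
    rw [hker]; exact Submodule.fg_span (Set.finite_range _))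
  haveI : Module.Finite B (RingHom.ker (algebraMap B C)).Cotangent :=
    Module.Finite.of_surjective _ (RingHom.ker (algebraMap B C)).toCotangent_surjective
  haveI := finite_cotangent_extOfSurj R B C hsurj
  haveI : Algebra.FormallySmooth R (extOfSurj R B C hsurj).Ring := (inferInstance : Algebra.FormallySmooth R B)
  show Algebra.FormallySmooth R (Localization.AtPrime q) ↔ _
  rw [lInv_cotangentComplex_iff (extOfSurj R B C hsurj) q.primeCompl]
  have hFmem : ∀ i, F i ∈ RingHom.ker (algebraMap B C) := fun i => hker.ge (Ideal.subset_span ⟨i, rfl⟩)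
  constructor
  · rintro ⟨w, t, ht, hw⟩
    let P := extOfSurj R B C hsurj
    let g : Fin c → P.Cotangent := fun i => Algebra.Extension.Cotangent.mk ⟨F i, hFmem i⟩
    have hg : ∀ y : P.Cotangent, ∃ (a : Fin c → B) (h : (∑ j, a j * F j : B) ∈ RingHom.ker (algebraMap B C)),
        y = Algebra.Extension.Cotangent.mk (P := P) ⟨∑ j, a j * F j, h⟩ := by
      intro y
      obtain ⟨⟨x, hx⟩, rfl⟩ := Algebra.Extension.Cotangent.mk_surjective y
      obtain ⟨a, ha⟩ := (Submodule.mem_span_range_iff_exists_fun B).mp (hker.le hx)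
      have hx' : (∑ j, a j * F j : B) = x := ha
      subst hx'
      exact ⟨a, hx, rfl⟩
    let d : Fin n → P.CotangentSpace := fun i => (1 : C) ⊗ₜ[B] KaehlerDifferential.D R B (MvPolynomial.X i)
    choose a hak ha using fun i => hg (w (d i))
    obtain ⟨t₀, rfl⟩ := hsurj t
    have hcc : ∀ k, P.cotangentComplex (g k) = ∑ i, algebraMap B C (MvPolynomial.pderiv i (F k)) • d i := by
      intro k
      rw [show P.cotangentComplex (g k) = (1 : C) ⊗ₜ[B] KaehlerDifferential.D R B (F k) from rfl,
        ← (KaehlerDifferential.mvPolynomialBasis R (Fin n)).sum_repr (KaehlerDifferential.D R B (F k)),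
        TensorProduct.tmul_sum]
      refine Finset.sum_congr rfl fun i _ => ?_
      rw [KaehlerDifferential.mvPolynomialBasis_repr_apply, KaehlerDifferential.mvPolynomialBasis_apply,
        TensorProduct.tmul_smul, algebraMap_smul]
    have key : ∀ k j, ∑ i, MvPolynomial.pderiv i (F k) * a i j - (if k = j then t₀ else 0) ∈ Ideal.span (Set.range F) := by
      intro k j
      refine Groth.Agent.CI2.mem_of_sq_relation (Groth.Agent.CI2.ex_of_isRelGCI hF)
        (fun j => ∑ i, MvPolynomial.pderiv i (F k) * a i j - (if k = j then t₀ else 0)) ?_ j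
      have h := LinearMap.congr_fun hw (g k)
      rw [LinearMap.comp_apply, hcc, map_sum] at h
      simp only [map_smul, ha, LinearMap.smul_apply, LinearMap.id_apply] at h
      let e : ↥P.ker := ∑ i, (show P.Ring from MvPolynomial.pderiv i (F k)) • (⟨∑ j, a i j * F j, hak i⟩ : P.ker)
      have h' : Algebra.Extension.Cotangent.mk e =
          Algebra.Extension.Cotangent.mk ((show P.Ring from t₀) • (⟨F k, hFmem k⟩ : P.ker)) := by
        rw [map_sum, map_smul]
        simp only [map_smul]
        have e1 : ∀ (b : B) (y : P.Cotangent), algebraMap B C b • y = (show P.Ring from b) • y :=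
          fun b y => algebraMap_smul C (show P.Ring from b) y
        simp only [e1] at h
        exact h
      have h2 := Algebra.Extension.Cotangent.mk_eq_mk_iff_sub_mem _ _ |>.mp h'
      change ((e : P.ker) : B) - t₀ * F k ∈ (RingHom.ker (algebraMap B C)) ^ 2 at h2
      rw [hker] at h2
      have he : ((e : P.ker) : B) = ∑ i, MvPolynomial.pderiv i (F k) * ∑ j, a i j * F j := by
        simp only [e, AddSubmonoidClass.coe_finsetSum]; rfl
      rw [he] at h2
      convert h2 using 1
      simp only [sub_mul, Finset.sum_sub_distrib, Finset.sum_mul, Finset.mul_sum]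
      rw [Finset.sum_comm]
      simp [mul_assoc]
    let K := q.ResidueField
    let κ : B →+* K := (algebraMap C K).comp (algebraMap B C)
    have hκI : ∀ x ∈ Ideal.span (Set.range F), κ x = 0 := fun x hx => by
      show algebraMap C K (algebraMap B C x) = 0
      rw [RingHom.mem_ker.mp (hker.ge hx), map_zero]
    have hκt : κ t₀ ≠ 0 := fun h => ht (Ideal.algebraMap_residueField_eq_zero.mp h)
    let v : Fin c → Fin n → K := fun k i => κ (MvPolynomial.pderiv i (F k))
    have hv : LinearIndependent K v := by
      rw [Fintype.linearIndependent_iff]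
      intro z hz j
      have h1 : ∀ k, ∑ i, v k i * κ (a i j) = if k = j then κ t₀ else 0 := fun k => by
        have := hκI _ (key k j)
        rw [map_sub, map_sum, sub_eq_zero] at this
        simp only [map_mul] at this
        rw [this]; split_ifs <;> simp
      have h2 : ∑ k, z k * ∑ i, v k i * κ (a i j) = 0 := by
        rw [Finset.sum_congr rfl fun k _ => Finset.mul_sum _ _ _, Finset.sum_comm]
        refine Finset.sum_eq_zero fun i _ => ?_
        simp only [← mul_assoc, ← Finset.sum_mul]
        have := congrFun hz i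
        simp only [Finset.sum_apply, Pi.smul_apply, smul_eq_mul, Pi.zero_apply] at this
        rw [this, zero_mul]
      simp only [h1, mul_ite, mul_zero, Finset.sum_ite_eq', Finset.mem_univ, if_true] at h2
      exact (mul_eq_zero.mp h2).resolve_right hκt
    obtain ⟨s, hs⟩ := exists_columns_det_ne_zero v hv
    have hinj : Function.Injective s := fun x y hxy => by
      by_contra hne
      exact hs (Matrix.det_zero_of_column_eq hne fun i => by simp [hxy])
    refine ⟨⟨s, hinj⟩, fun hbad => hs ?_⟩
    have e : (Matrix.of fun k i => v k (s i)) = κ.mapMatrix (Matrix.of fun k i => MvPolynomial.pderiv (s i) (F k)) := rfl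
    rw [e, ← RingHom.map_det]
    exact Ideal.algebraMap_residueField_eq_zero.mpr hbad
  · rintro ⟨I, hI⟩
    refine lInv_of_jacobian' hsurj q F (fun i => MvPolynomial.pderiv (I i)) hFmem (fun x hx => ⟨1, ?_, ?_⟩) hI
    · rw [map_one]; exact q.ne_top_iff_one.mp (Ideal.IsPrime.ne_top ‹_›)
    · rw [one_mul]; exact hker.le hx

end Groth.Agent.S9441
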