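import Mathlib.RingTheory.Henselian
import Mathlib.RingTheory.Ideal.Quotient.Operations
import Mathlib.RingTheory.Jacobson.Ideal
import Mathlib.RingTheory.Smooth.Basic
import Groth.Agent.Lib.Hens.SmoothLift

set_option autoImplicit false
universe u
namespace Hensel
end Hensel
open Hensel

namespace Groth.Agent.S0536

/-- Let `S` be a smooth `R`-algebra and `A` an `R`-algebra Henselian at an ideal `I`. Every `R`-algebra
map `S → A/I` lifts to an `R`-algebra map `S → A`. -/
theorem result (R : Type u) [CommRing R] (S : Type u) [CommRing S]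
    [Algebra R S] [Algebra.Smooth R S] (A : Type u) [CommRing A] [Algebra R A] (I : Ideal A)
    [HenselianRing A I] (σ : S →ₐ[R] A ⧸ I) :
    ∃ τ : S →ₐ[R] A, (Ideal.Quotient.mkₐ R I).comp τ = σ := by
  exact Hens.exists_smooth_lift_of_henselianRing ‹HenselianRing A I› σ

end Groth.Agent.S0536
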