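import Groth.Statements.S13624
import Groth.Agent.Lib.GorOpen27.Global
-- import your own Groth.Agent.* helpers here

set_option autoImplicit false
universe u
open CategoryTheory CategoryTheory.Limits AlgebraicGeometry Opposite
open Goren

namespace Groth.Agent.S13624

/-- Let f : X → Y be a proper, flat morphism of schemes which is locally of finite presentation. Then
the set of points y of Y whose scheme-theoretic fibre X_y = X ×_Y Spec κ(y) is a Gorenstein scheme
(every local ring of X_y is a Gorenstein local ring) is open in Y. -/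
theorem result (X Y : Scheme.{u}) (f : X ⟶ Y)
    [IsProper f] [Flat f] [LocallyOfFinitePresentation f] :
    IsOpen {y : Y | ∀ x : ↥(f.fiber y), LocCoh.IsGorensteinLocalRing ((f.fiber y).presheaf.stalk x)} := by
  have h : {y : Y | ∀ x : ↥(f.fiber y), LocCoh.IsGorensteinLocalRing ((f.fiber y).presheaf.stalk x)} =
      (f '' {x : X | Dual3.IsGorensteinAt f x}ᶜ)ᶜ := by
    ext y
    simp only [Set.mem_setOf_eq, Set.mem_compl_iff, Set.mem_image]
    constructor
    · rintro H ⟨x, hx, rfl⟩
      exact hx ⟨Flat.stalkMap f x, H (f.asFiber x)⟩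
    · intro H z
      obtain ⟨e⟩ := Groth.Agent.Goren15.nonempty_fibreStalkEquiv f z
      have hz : Dual3.IsGorensteinAt f (f.fiberι y z) := by
        by_contra hn
        exact H ⟨_, hn, Groth.Agent.RelCyc15.fiberι_apply f z⟩
      rw [Groth.Agent.Goren15.isGorensteinAt_iff] at hz
      exact (Groth.Agent.Goren15.isGorensteinLocalRing_iff_of_ringEquiv e).1 hz.2
  rw [h, isOpen_compl_iff]
  exact f.isClosedMap _ (Groth.Agent.GorOpen27.isOpen_gorensteinLocus f).isClosed_compl


end Groth.Agent.S13624
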