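import Groth.Statements.S4626
import Groth.Agent.Lib.GeomRed18.Apps

set_option autoImplicit false
open CategoryTheory AlgebraicGeometry
universe u
open FBase

namespace Groth.Agent.S4626

/-- Let X be a scheme over a field k and K an extension field of k. Then X is geometrically reduced over
k if and only if X ⊗_k K, with its structure of K-scheme, is geometrically reduced over K. -/
theorem result {k K : Type u} [Field k] [Field K] [Algebra k K]
    {X : Scheme.{u}} (f : X ⟶ Spec (CommRingCat.of k)) :
    GeometricallyReduced f ↔ GeometricallyReduced (FBase.bcStr f K) := by
  let g := Spec.map (CommRingCat.ofHom (algebraMap k K))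
  constructor
  · intro h
    haveI := h
    exact inferInstanceAs (GeometricallyReduced (Limits.pullback.snd f g))
  · intro h
    haveI : GeometricallyReduced (Limits.pullback.snd f g) := h
    letI : X.Over (Spec (CommRingCat.of k)) := ⟨f⟩
    let Ω := AlgebraicClosure K
    haveI : AlgebraicGeometry.IsReduced (Curv2.bc k X Ω) :=
      GeometricallyReduced.geometrically_isReduced (f := Limits.pullback.snd f g) _ _ _ (GeomRed.isPullback_trans f K Ω)
    exact GeomRed.geometricallyReduced_of_perfect (k := k) (X := X) Ω

end Groth.Agent.S4626
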