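import Groth.Statements.S4627
import Groth.Agent.Lib.GeomRed18.PtInt
import Groth.Agent.S4626
import Groth.Agent.Lib.GeomIrr18.Scheme
import Mathlib.AlgebraicGeometry.Geometrically.Integral

set_option autoImplicit false
open CategoryTheory AlgebraicGeometry
universe u
open FBase

namespace Groth.Agent.S4627

/-- Let X be a scheme over a field k and K an extension field of k. Then X is geometrically integral
over k if and only if X ⊗_k K, with its structure of K-scheme, is geometrically integral over K. -/
theorem result {k K : Type u} [Field k] [Field K] [Algebra k K]
    {X : Scheme.{u}} (f : X ⟶ Spec (CommRingCat.of k)) :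
    GeometricallyIntegral f ↔ GeometricallyIntegral (FBase.bcStr f K) := by
  constructor
  · intro h
    haveI := h
    exact inferInstanceAs (GeometricallyIntegral (Limits.pullback.snd f (Spec.map (CommRingCat.ofHom (algebraMap k K)))))
  · intro h
    haveI : GeometricallyIntegral (Limits.pullback.snd f (Spec.map (CommRingCat.ofHom (algebraMap k K)))) := h
    haveI : GeometricallyReduced f := (S4626.result (K := K) f).mpr
      (inferInstanceAs (GeometricallyReduced (Limits.pullback.snd f (Spec.map (CommRingCat.ofHom (algebraMap k K))))))
    haveI := GeomIrr.surjective_specMap k K
    haveI : GeometricallyIrreducible f := GeomIrr.geometricallyIrreducible_of_pullback f (Spec.map (CommRingCat.ofHom (algebraMap k K)))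
    exact GeometricallyIntegral.of_geometricallyReduced_of_geometricallyIrreducible f

end Groth.Agent.S4627
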