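import Groth.Statements.S15018
import Groth.Agent.Lib.NumSemigroup.Basic
-- import your own Groth.Agent.* helpers here

set_option autoImplicit false
open TFCurv

namespace Groth.Agent.S15018
open Groth.Agent

/-- Let Γ be a numerical semigroup (a submonoid of (ℕ, +) with finite complement), Γ ≠ ℕ, with conductor
c (every n ≥ c lies in Γ, c − 1 does not). Then Γ is symmetric (for x < c, x is a gap exactly when c
− 1 − x ∈ Γ) if and only if there is exactly one gap n of Γ such that Γ ∪ {n} is again stable under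
adding elements of Γ, i.e. n + γ ∈ Γ for every nonzero γ ∈ Γ. -/
theorem result (Γ : AddSubmonoid ℕ) (c : ℕ) (hc : ∀ n : ℕ, c ≤ n → n ∈ Γ) (hc0 : c ≠ 0) (hc1 : c - 1 ∉ Γ) : (∀ x : ℕ, x < c → (x ∉ Γ ↔ c - 1 - x ∈ Γ)) ↔ ∃! n : ℕ, n ∉ Γ ∧ ∀ γ : ℕ, γ ∈ Γ → γ ≠ 0 → n + γ ∈ Γ := by
  constructor
  · intro hsymm
    refine ⟨c - 1, ⟨hc1, fun γ hγ hγ0 => hc _ (by omega)⟩, ?_⟩
    rintro n ⟨hn, hn'⟩
    have hnc : n < c := not_le.1 fun h => hn (hc n h)
    by_contra hne
    exact hc1 (by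
      have := hn' _ ((hsymm n hnc).1 hn) (by omega)
      rwa [show n + (c - 1 - n) = c - 1 by omega] at this)
  · rintro ⟨n₀, -, huniq⟩ x hx
    have hc' : c - 1 = n₀ := huniq (c - 1) ⟨hc1, fun γ hγ hγ0 => hc _ (by omega)⟩
    refine ⟨fun hxΓ => ?_, fun h hxΓ => NumSemigroup.gap_of_mem hc0 hc1 hxΓ hx h⟩
    classical
    let T := (Finset.range c).filter fun y => y ∉ Γ ∧ x ≤ y ∧ y - x ∈ Γ
    have hT : T.Nonempty := ⟨x, by simp [T, hx, hxΓ]⟩
    have hy := T.max'_mem hT
    set y := T.max' hT with hydef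
    simp only [T, Finset.mem_filter, Finset.mem_range] at hy
    have hy' : ∀ γ, γ ∈ Γ → γ ≠ 0 → y + γ ∈ Γ := by
      intro γ hγ hγ0
      by_contra hcon
      have hlt : y + γ < c := not_le.1 fun h => hcon (hc _ h)
      have hmem : y + γ ∈ T := by
        simp only [T, Finset.mem_filter, Finset.mem_range]
        refine ⟨hlt, hcon, by omega, ?_⟩
        rw [show y + γ - x = (y - x) + γ by omega]
        exact add_mem hy.2.2.2 hγ
      have := T.le_max' _ hmem
      omega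
    have hyc : y = c - 1 := (huniq y ⟨hy.2.1, hy'⟩).trans hc'.symm
    rw [← hyc]
    exact hy.2.2.2

end Groth.Agent.S15018
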