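import Groth.Statements.S0219
import Groth.Agent.Lib.Curve17.Basic
import Groth.Agent.Lib.VarDim.Irred
import Mathlib.AlgebraicGeometry.ZariskisMainTheorem
-- import your own Groth.Agent.* helpers here

set_option autoImplicit false
universe u
open CategoryTheory CategoryTheory.Limits AlgebraicGeometry TopologicalSpace
open Curves

namespace Groth.Agent.S0219
open Groth.Agent
set_option linter.style.haveILetI false

/-- A morphism over a field from a proper scheme of dimension at most one to a separated scheme, which
does not contract any one-dimensional irreducible component to a point, is finite. -/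
theorem result (k : Type u) [Field k] (X Y : Scheme.{u}) (p : X ⟶ Spec (CommRingCat.of k)) (q : Y ⟶ Spec (CommRingCat.of k))
    [IsProper p] [IsSeparated q] (f : X ⟶ Y) (hf : f ≫ q = p) (hdim : topologicalKrullDim X ≤ 1)
    (h : ∀ Z ∈ irreducibleComponents (X : Type u), topologicalKrullDim Z = 1 → (f.base '' Z).Nontrivial) :
    IsFinite f := by
  haveI : IsProper (f ≫ q) := hf ▸ inferInstance
  haveI : IsProper f := IsProper.of_comp f q
  haveI : NoetherianSpace X := VarDim.noetherianSpace_of_finiteType p
  haveI : LocallyOfFiniteType (f ≫ q) := hf ▸ inferInstance
  have hcomp : ∀ g : X, ¬ IsClosed ({g} : Set X) →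
      closure ({g} : Set X) ∈ irreducibleComponents (X : Type u) := by
    intro g hg
    refine ⟨isIrreducible_singleton.closure, fun W hW hle => ?_⟩
    obtain ⟨w, hw⟩ := QuasiSober.sober hW.closure isClosed_closure
    have hwg : w ⤳ g := hw.specializes (subset_closure (hle (subset_closure rfl)))
    have := Curve17.eq_of_specializes hdim hg hwg
    subst this
    rw [hw.def]
    exact subset_closure
  haveI : LocallyQuasiFinite f := by
    refine LocallyQuasiFinite.of_finite_preimage_singleton f fun y => ?_
    by_cases hy : IsClosed ({y} : Set Y)
    · obtain ⟨S, hfin, hclosed, hirr, hS⟩ :=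
        NoetherianSpace.exists_finite_set_isClosed_irreducible (hy.preimage f.continuous)
      rw [hS]
      refine hfin.sUnion fun W hW => ?_
      obtain ⟨g, hg⟩ := QuasiSober.sober (hirr W hW) (hclosed W hW)
      by_cases hgc : IsClosed ({g} : Set X)
      · rw [← hg.def, hgc.closure_eq]; exact Set.finite_singleton g
      · exfalso
        have hd1 : topologicalKrullDim (closure ({g} : Set X)) = 1 := by
          rw [VarDim.topologicalKrullDim_closure_singleton]
          have h1 := Curve17.height_le_one hdim g
          have h2 : Order.height g ≠ 0 := by
            intro h0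
            rw [Order.height_eq_zero] at h0
            apply hgc
            rw [← closure_eq_iff_isClosed]
            refine Set.Subset.antisymm (fun z hz => ?_) subset_closure
            have h3 : g ⤳ z := specializes_iff_mem_closure.2 hz
            exact (Specializes.antisymm (show z ⤳ g from h0 (show z ≤ g from h3)) h3).eq
          have : Order.height g = 1 := le_antisymm h1 (Order.one_le_iff_pos.2 (pos_of_ne_zero h2))
          rw [this]; rfl
        obtain ⟨a, ⟨x, hx, rfl⟩, b, ⟨x', hx', rfl⟩, hab⟩ := h _ (hcomp g hgc) hd1
        have hmem : ∀ z ∈ closure ({g} : Set X), f z = y := fun z hz => by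
          have : z ∈ f ⁻¹' {y} := hS ▸ Set.mem_sUnion.2 ⟨W, hW, hg.def ▸ hz⟩
          exact this
        exact hab ((hmem x hx).trans (hmem x' hx').symm)
    · have hnc : ∀ x ∈ f ⁻¹' {y}, ¬ IsClosed ({x} : Set X) := fun x hx hc => hy (by
        have := f.isClosedMap _ hc
        rwa [Set.image_singleton, show f x = y from hx] at this)
      have hfin : (irreducibleComponents (X : Type u)).Finite := NoetherianSpace.finite_irreducibleComponents
      refine Set.Finite.of_finite_image (f := fun x => closure ({x} : Set X))
        (hfin.subset ?_) ?_
      · rintro _ ⟨x, hx, rfl⟩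
        exact hcomp x (hnc x hx)
      · intro x _ x' _ he
        simp only at he
        exact (isGenericPoint_closure (x := x)).eq (by rw [he]; exact isGenericPoint_closure)
  exact IsFinite.of_isProper_of_locallyQuasiFinite f

end Groth.Agent.S0219
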