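import Groth.Statements.S2168
import Groth.Agent.Lib.CI2.AvramovCI

set_option autoImplicit false
universe u
open LCI

namespace Groth.Agent.S2168

theorem ci_localization_quotient {P C : Type u} [CommRing P] [IsRegularLocalRing P] [CommRing C]
    [IsNoetherianRing C] (f : P →+* C) (hf : Function.Surjective f) (rs : List P)
    (hreg : RingTheory.Sequence.IsRegular P rs) (hker : RingHom.ker f = Ideal.ofList rs)
    (q : Ideal C) [q.IsPrime] : Pi1.IsCompleteIntersection (Localization.AtPrime q) := by
  let Q := q.comap f
  haveI := Groth.Agent.RegLoc.isRegularLocalRing_localization P Q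
  let g := Localization.localRingHom Q q f rfl
  have hmap : Q.primeCompl.map (f : P →* C) = q.primeCompl := by
    ext y
    constructor
    · rintro ⟨x, hx, rfl⟩; exact hx
    · intro hy
      obtain ⟨x, rfl⟩ := hf y
      exact ⟨x, hy, rfl⟩
  have hgs : Function.Surjective g := fun y => by
    obtain ⟨c, s, rfl⟩ := IsLocalization.exists_mk'_eq q.primeCompl y
    obtain ⟨x, rfl⟩ := hf c
    obtain ⟨t, ht, hts⟩ := (hmap.ge s.2 : (s : C) ∈ Q.primeCompl.map (f : P →* C))
    exact ⟨IsLocalization.mk' _ x ⟨t, ht⟩, by rw [Localization.localRingHom_mk']; congr 1; exact Subtype.ext hts⟩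
  have hk : RingHom.ker g = Ideal.ofList (rs.map (algebraMap P (Localization.AtPrime Q))) := by
    rw [← Ideal.map_ofList, ← hker]
    exact IsLocalization.ker_map (T := q.primeCompl) (Localization.AtPrime q) f hmap
  rw [Groth.Agent.CI2.ci_iff_ker g hgs, hk]
  refine ⟨_, Groth.Agent.DepthLib.isRegular_of_isWeaklyRegular (I := IsLocalRing.maximalIdeal _)
    (RingTheory.Sequence.IsWeaklyRegular.of_flat hreg.toIsWeaklyRegular) (fun x hx => ?_)
    (by rw [smul_eq_mul, Ideal.mul_top]; exact (IsLocalRing.maximalIdeal.isMaximal _).ne_top), rfl⟩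
  exact IsLocalRing.le_maximalIdeal (hk ▸ RingHom.ker_ne_top g) (Ideal.subset_span hx)

/-- Let A be a Noetherian local ring which is a complete intersection (its completion is a regular local
ring modulo a regular sequence) and let p be a prime ideal of A. Then the localization A_p is a
complete intersection as well. -/
theorem result {A : Type u} [CommRing A] [IsNoetherianRing A]
    [IsLocalRing A] (hA : Pi1.IsCompleteIntersection A) (p : Ideal A) [p.IsPrime] :
    Pi1.IsCompleteIntersection (Localization.AtPrime p) := by
  haveI := Groth.Agent.CplLocH7.faithfullyFlat_cpl A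
  obtain ⟨⟨q, hq⟩, hqp⟩ := PrimeSpectrum.comap_surjective_of_faithfullyFlat (A := A) (B := EGA4.Cpl A) ⟨p, inferInstance⟩
  haveI := hq
  have hpq : p = q.comap (algebraMap A (EGA4.Cpl A)) := (congrArg PrimeSpectrum.asIdeal hqp).symm
  let ψ := Localization.localRingHom p q (algebraMap A (EGA4.Cpl A)) hpq
  letI : Algebra (Localization.AtPrime p) (Localization.AtPrime q) := ψ.toAlgebra
  haveI : IsLocalHom (algebraMap (Localization.AtPrime p) (Localization.AtPrime q)) :=
    Localization.isLocalHom_localRingHom p q _ hpq
  haveI : Module.Flat (Localization.AtPrime p) (Localization.AtPrime q) :=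
    RingHom.flat_algebraMap_iff.1 (RingHom.Flat.localRingHom
      (RingHom.flat_algebraMap_iff.2 (inferInstance : Module.Flat A (EGA4.Cpl A))) q p hpq)
  haveI : IsLocalRing (Localization.AtPrime q ⧸
      (IsLocalRing.maximalIdeal (Localization.AtPrime p)).map (algebraMap (Localization.AtPrime p) (Localization.AtPrime q))) :=
    Groth.Agent.RegLoc.isLocalRing_quotient (ne_top_of_le_ne_top (IsLocalRing.maximalIdeal.isMaximal _).ne_top
      (IsLocalRing.map_maximalIdeal_le _))
  obtain ⟨P, _, _, rs, hm, hr, ⟨e⟩⟩ := hA
  haveI : IsNoetherianRing (P ⧸ Ideal.span {r | r ∈ rs}) := inferInstance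
  have hC : Pi1.IsCompleteIntersection (Localization.AtPrime q) := by
    refine ci_localization_quotient (e.symm.toRingHom.comp (Ideal.Quotient.mk (Ideal.span {r | r ∈ rs})))
      (e.symm.surjective.comp Ideal.Quotient.mk_surjective) rs hr ?_ q
    rw [RingHom.ker_comp_of_injective _ e.symm.injective, Ideal.mk_ker]
  exact ((Groth.Agent.CI2.avramov (A := Localization.AtPrime p) (B := Localization.AtPrime q)).1 hC).1

end Groth.Agent.S2168
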