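import Groth.Statements.S9758
import Groth.Agent.Lib.KoszulBridge4

set_option autoImplicit false
universe u
open FlatMor

set_option backward.isDefEq.respectTransparency.types false

namespace Groth.Agent.S9758

open AlgebraicGeometry CategoryTheory Limits in
/-- A morphism of schemes f : X ⟶ S is flat and a local complete intersection morphism (Koszul at every
point) if and only if it is syntomic. -/
theorem result {X S : Scheme.{u}} (f : X ⟶ S) :
    (Flat f ∧ ∀ x : X, Synt.IsKoszulAt f x) ↔ Synt.IsSyntomicMor f := by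
  constructor
  · rintro ⟨hflat, hk⟩ x
    obtain ⟨V, hV, hxV, -⟩ := exists_isAffineOpen_mem_and_subset (X := S) (U := ⊤) (x := f x) trivial
    obtain ⟨U, hU, hxU, hUV⟩ := exists_isAffineOpen_mem_and_subset (U := f ⁻¹ᵁ V) (show x ∈ f ⁻¹ᵁ V from hxV)
    refine ⟨⟨U, hU⟩, ⟨V, hV⟩, hUV, hxU, ?_⟩
    letI : Algebra Γ(S, V) Γ(X, U) := (f.appLE V U hUV).hom.toAlgebra
    haveI : Module.Flat Γ(S, V) Γ(X, U) := Scheme.Hom.flat_appLE f hV hU hUV
    exact Groth.Agent.CI2.isSyntomic_of_flat_of_isLCI (Groth.Agent.CI2.isLCI_appLE_of_isKoszulAt f hk hU hV hUV)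
  · intro h
    refine ⟨?_, fun x => ?_⟩
    · choose U V e hxU hs using h
      refine (IsZariskiLocalAtSource.iff_of_iSup_eq_top (P := @Flat) (fun x => (U x).1)
        (top_le_iff.1 fun x _ => TopologicalSpace.Opens.mem_iSup.2 ⟨x, hxU x⟩)).2 fun x => ?_
      have h1 : (f.appLE (V x).1 (U x).1 (e x)).hom.Flat := (hs x).1
      rw [show (U x).1.ι ≫ f = (U x).2.isoSpec.hom ≫ (U x).2.fromSpec ≫ f by
        rw [← (U x).2.isoSpec_inv_ι]; simp, ← IsAffineOpen.SpecMap_appLE_fromSpec f (V x).2 (U x).2 (e x)]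
      haveI : Flat (Spec.map (f.appLE (V x).1 (U x).1 (e x))) := Flat.SpecMap_iff.2 h1
      infer_instance
    · obtain ⟨U, V, e, hxU, hs⟩ := h x
      exact Groth.Agent.CI2.isKoszulAt_of_isLCI f U.2 V.2 e hxU (letI := (f.appLE V.1 U.1 e).hom.toAlgebra; Groth.Agent.CI2.isLCI_of_isSyntomic hs)

end Groth.Agent.S9758
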