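import Groth.Statements.S7610
import Groth.Agent.Lib.DimF18.Prod

set_option autoImplicit false
universe u
open CategoryTheory CategoryTheory.Limits AlgebraicGeometry
open Variety

namespace Groth.Agent.S7610

/-- Let X and Y be schemes locally of finite type over a field k and z a point of X ×_k Y lying over x
in X and y in Y. Then dim_z(X ×_k Y) = dim_x X + dim_y Y (local dimensions of the underlying
topological spaces, in WithBot ℕ∞). -/
theorem result (k : Type u) [Field k] (X : Scheme.{u}) [X.Over (Spec (CommRingCat.of k))] [LocallyOfFiniteType (X ↘ (Spec (CommRingCat.of k)))]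
    (Y : Scheme.{u}) [Y.Over (Spec (CommRingCat.of k))] [LocallyOfFiniteType (Y ↘ (Spec (CommRingCat.of k)))]
    (z : ↥(pullback (X ↘ (Spec (CommRingCat.of k))) (Y ↘ (Spec (CommRingCat.of k))))) :
    FlatMor.localDim ↥(pullback (X ↘ (Spec (CommRingCat.of k))) (Y ↘ (Spec (CommRingCat.of k)))) z =
      FlatMor.localDim ↥X (pullback.fst (X ↘ (Spec (CommRingCat.of k))) (Y ↘ (Spec (CommRingCat.of k))) z) +
        FlatMor.localDim ↥Y (pullback.snd (X ↘ (Spec (CommRingCat.of k))) (Y ↘ (Spec (CommRingCat.of k))) z) := by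
  revert z
  generalize X ↘ Spec (CommRingCat.of k) = f at *
  generalize Y ↘ Spec (CommRingCat.of k) = g at *
  intro z
  let h : (pullback f g : Scheme.{u}) ⟶ Spec (CommRingCat.of k) := pullback.fst f g ≫ f
  obtain ⟨ζ, hζz, hζmax, hζ, hζall⟩ := DimF18.exists_localDim_eq_sdim h z
  obtain ⟨ξ, hξx, hξmax, hξ, hξall⟩ := DimF18.exists_localDim_eq_sdim f (pullback.fst f g z)
  obtain ⟨η, hηy, hηmax, hη, hηall⟩ := DimF18.exists_localDim_eq_sdim g (pullback.snd f g z)
  rw [hζ, hξ, hη]
  have e : VarDim.sdim h ζ = VarDim.sdim f ξ + VarDim.sdim g η := by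
    refine le_antisymm ?_ ?_
    · exact (DimF18.sdim_prod f g ζ).1.trans (add_le_add (hξall _ (hζz.map (pullback.fst f g).continuous))
        (hηall _ (hζz.map (pullback.snd f g).continuous)))
    · obtain ⟨w, hw, h1, h2⟩ := DimF18.exists_prod_generization f g z hξx hηy hηmax
      obtain ⟨m, hm, -, -, hdim⟩ := (DimF18.sdim_prod f g w).2
      rw [h1, h2] at hdim
      exact hdim ▸ hζall m (hm.trans hw)
  rw [e]
  push_cast
  rfl

end Groth.Agent.S7610
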