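import Groth.Statements.S4955
import Groth.Agent.Lib.SectionCompModel4
import Groth.Agent.Lib.Descend.PointLocal
import Groth.Agent.Lib.FlatH4.FlatComp

set_option autoImplicit false
open CategoryTheory AlgebraicGeometry
universe u v w
open EGA43

set_option backward.isDefEq.respectTransparency.types false

namespace Groth.Agent.S4955

/-- Let f : X ⟶ Y be a morphism of finite presentation with a section g, X_y^0 the connected component
of f⁻¹(y) containing g y, X^0 their union, and suppose every X_y^0 is geometrically irreducible over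
κ(y). Let x₀ be a point of X^0 and y₀ = f x₀, and suppose y ↦ dim X_y^0 is constant on a
neighbourhood of y₀. Then there is an open neighbourhood U of y₀ such that f is universally open at
every point of X^0 lying over U; and if moreover Y is reduced and the fibre over y₀ is geometrically
reduced at x₀, then f is flat at x₀. -/
theorem result {X Y : Scheme.{u}} (f : X ⟶ Y)
    [LocallyOfFinitePresentation f] [QuasiCompact f] [QuasiSeparated f] (g : Y ⟶ X) (hg : g ≫ f = 𝟙 Y)
    (hirr : ∀ y : Y, (∀ (K : Type u) [Field K] [Algebra (IsLocalRing.ResidueField (Y.presheaf.stalk y)) K],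
        IsIrreducible ((FBase.bcπ (f.fiberToSpecResidueField y) K ≫ f.fiberι y).base ⁻¹' connectedComponentIn (f.base ⁻¹' {y}) (g.base y))))
    (x₀ : X) (hx₀ : x₀ ∈ MoreMor.sectionComponents f g)
    (hconst : ∃ V ∈ nhds (f.base x₀), ∀ z ∈ V, topologicalKrullDim ↥(connectedComponentIn (f.base ⁻¹' {z}) (g.base z)) = topologicalKrullDim ↥(connectedComponentIn (f.base ⁻¹' {(f.base x₀)}) (g.base (f.base x₀)))) :
    (∃ U : Y.Opens, f.base x₀ ∈ U ∧ ∀ x ∈ MoreMor.sectionComponents f g, f.base x ∈ U → EGA43.IsUnivOpenAt f x) ∧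
      (IsReduced Y → FBase.IsGeomReducedAt (f.fiberToSpecResidueField (f.base x₀)) (f.asFiber x₀) →
        (f.stalkMap x₀).hom.Flat) := by
  obtain ⟨V, hV, hVc⟩ := hconst
  refine ⟨⟨⟨interior V, isOpen_interior⟩, mem_interior_iff_mem_nhds.2 hV, fun x hx hxU => ?_⟩, fun hY hred => ?_⟩
  · exact Groth.Agent.SectionCompIrr4.isUnivOpenAt_of_const f g hg hirr
      ⟨V, mem_interior_iff_mem_nhds.1 hxU, fun z hz =>
        (hVc z hz).trans (hVc _ (interior_subset hxU)).symm⟩ x hx
  obtain ⟨O, hyO, hOc, A, R, hR, σ, hσ, P, X₁, p, u, t, q, u₁, s₁, π, hrange, hsq, ht, htp, sq₁, hs₁, htq, hu₁, -,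
    hgi₁, hc₁, hredR⟩ := Groth.Agent.SectionCompModel4.exists_model f g hg hirr ⟨V, hV, hVc⟩
  haveI := hσ; haveI := hR; haveI := hu₁
  haveI : IsReduced (Spec R) := hredR hY
  haveI : IsOpenImmersion p := MorphismProperty.of_isPullback hsq.flip hσ
  obtain ⟨b, hb⟩ : f x₀ ∈ Set.range σ := hrange.ge hyO
  obtain ⟨a, ha, -⟩ := Scheme.exists_preimage_of_isPullback hsq x₀ b hb.symm
  subst ha
  have hS := Groth.Agent.SectionCompConn4.sectionComponents_baseChange hg hsq ht htp
  have hS₁ := Groth.Agent.SectionCompConn4.sectionComponents_baseChange hs₁ sq₁ ht htq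
  have hqa : q a ∈ MoreMor.sectionComponents u₁ s₁ := (hS₁.symm.trans hS).ge hx₀
  have h1 : (u₁.stalkMap (q a)).hom.Flat := by
    refine Groth.Agent.FlatUnivOpen4.flat_stalkMap u₁ (q a) (fun z hz hfz _ => ?_)
      (Groth.Agent.SectionCompFlat4.isGeomReducedAt_of_baseChange u₁ sq₁ a
        (Groth.Agent.FlatUnivOpen4.isGeomReducedAt_baseChange f hsq a hred)) inferInstance
    refine Groth.Agent.SectionCompIrr4.isUnivOpenAt_of_const u₁ s₁ hs₁ hgi₁ (y := u₁ (q a))
      ⟨Set.univ, Filter.univ_mem, fun z _ => hc₁ _ _⟩ z ?_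
    exact Groth.Agent.SectionComp4.mem_comp_of_specializes u₁
      (show q a ∈ Groth.Agent.SectionCompIrr4.comp u₁ s₁ (u₁ (q a)) from hqa) hz hfz
  have h2 : (u.stalkMap a).hom.Flat := Groth.Agent.FlatH4.flat_stalkMap_baseChange sq₁.flip a h1
  refine Groth.Agent.Descend.flat_stalkMap_of_comp p f a (Flat.stalkMap p a) ?_
  rw [show p ≫ f = u ≫ σ from hsq.w, Scheme.Hom.stalkMap_comp]
  exact RingHom.Flat.comp (Flat.stalkMap σ _) h2

end Groth.Agent.S4955
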