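import Groth.Statements.S3399
import Groth.Agent.Lib.ConsTop3.Scheme

set_option autoImplicit false
open CategoryTheory AlgebraicGeometry
universe u
open EGA41

namespace Groth.Agent.S3399

/-- Let f : X' ⟶ X be a morphism locally of finite presentation and E' an ind-constructible subset of
X'. Then f(E') is ind-constructible in X; in particular f(X') is ind-constructible. -/
theorem result {X' X : Scheme.{u}} (f : X' ⟶ X)
    [LocallyOfFinitePresentation f] (E' : Set X') (hE' : ProCons.IsIndConstructible E') :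
    ProCons.IsIndConstructible (f.base '' E') := by
  refine ConsTop3.isIndConstructible_of_forall_affine fun V hV => ?_
  refine ConsTop3.isIndConstructible_of_forall_exists fun p hp => ?_
  obtain ⟨x, hxE, hx⟩ := hp
  have hxV : x ∈ f ⁻¹ᵁ V := by
    change f x ∈ (V : Set X)
    rw [show f x = hV.fromSpec p from hx, ← hV.range_fromSpec]
    exact ⟨p, rfl⟩
  obtain ⟨W, hW, hxW, -⟩ := exists_isAffineOpen_mem_and_subset (X := (f ⁻¹ᵁ V).toScheme) (x := (⟨x, hxV⟩ : (f ⁻¹ᵁ V : X'.Opens))) (U := ⊤) trivial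
  let g := hW.fromSpec ≫ (f ∣_ V) ≫ hV.isoSpec.hom
  obtain ⟨q, hq⟩ : (⟨x, hxV⟩ : (f ⁻¹ᵁ V : X'.Opens)) ∈ Set.range hW.fromSpec := by
    rw [hW.range_fromSpec]; exact hxW
  let j := hW.fromSpec ≫ (f ⁻¹ᵁ V).ι
  have hj : j q = x := by
    change (f ⁻¹ᵁ V).ι (hW.fromSpec q) = x
    rw [hq]; rfl
  obtain ⟨C, hC, hqC, hCE⟩ := ConsH13.exists_constructible_of_isIndConstructible
    (ConsH13.isIndConstructible_preimage j hE') (p := q) (show j q ∈ E' from hj ▸ hxE)
  have hg : ∀ z, hV.fromSpec (g z) = f (j z) := fun z => by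
    change hV.fromSpec (hV.isoSpec.hom ((f ∣_ V) (hW.fromSpec z))) = _
    rw [ConsH13.fromSpec_isoSpec_hom, ConsH13.restrict_apply]
    rfl
  refine ⟨g '' C, (g.isLocallyConstructible_image hC.isLocallyConstructible).isConstructible,
    ⟨q, hqC, hV.fromSpec.isOpenEmbedding.injective (by rw [hg, hj]; exact hx)⟩, ?_⟩
  rintro _ ⟨z, hz, rfl⟩
  exact ⟨j z, hCE hz, (hg z).symm⟩

end Groth.Agent.S3399
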