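import Groth.Statements.S3403
import Groth.Agent.Lib.FibreTop.Strata
-- import your own Groth.Agent.* helpers here

set_option autoImplicit false
open CategoryTheory AlgebraicGeometry
universe u
open EGA41

namespace Groth.Agent.S3403

/-- Let X be a scheme, E an ind-constructible subset of X and x a point of X. Then x is an interior
point of E if and only if every generization of x belongs to E. -/
theorem result (X : Scheme.{u}) (E : Set X)
    (hE : ProCons.IsIndConstructible E) (x : X) :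
    x ∈ interior E ↔ ∀ x' : X, x' ⤳ x → x' ∈ E := by
  refine ⟨fun hx x' hx' => interior_subset (hx'.mem_open isOpen_interior hx), fun h => ?_⟩
  classical
  obtain ⟨U, hU, hxU, S, hS, hES⟩ := hE x
  obtain ⟨V, hV, hxV, hVU⟩ := exists_isAffineOpen_mem_and_subset (X := X) (x := x) (U := ⟨U, hU⟩) hxU
  obtain ⟨q, hq⟩ : x ∈ Set.range hV.fromSpec := by rw [hV.range_fromSpec]; exact hxV
  let j : Spec Γ(X, V) → ↥U := fun p => ⟨hV.fromSpec p, hVU (hV.range_fromSpec.le ⟨p, rfl⟩)⟩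
  have hj : Topology.IsOpenEmbedding j :=
    Topology.IsOpenEmbedding.of_comp _ hU.isOpenEmbedding_subtypeVal hV.fromSpec.isOpenEmbedding
  have hT : ∀ T ∈ S, Topology.IsConstructible (j ⁻¹' T) := fun T hT' =>
    ((hS T hT').preimage_of_isOpenEmbedding hj).isConstructible
  have key : ∀ p : PrimeSpectrum Γ(X, V), ∃ d : PrimeSpectrum.BasicConstructibleSetData Γ(X, V),
      p ∈ d.toSet ∧ ((∀ p' ∈ d.toSet, hV.fromSpec p' ∈ E) ∨
        (∃ a : Γ(X, V), a ∉ q.asIdeal ∧ ∀ p' ∈ d.toSet, a ∈ p'.asIdeal)) := by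
    intro p
    by_cases hp : (p : PrimeSpectrum Γ(X, V)).asIdeal ≤ q.asIdeal
    · have hpE : hV.fromSpec p ∈ E := h _ (hq ▸ ((PrimeSpectrum.le_iff_specializes p q).1 hp).map
        hV.fromSpec.continuous)
      obtain ⟨T, hTS, hpT⟩ : j p ∈ ⋃₀ S := hES ▸ hpE
      obtain ⟨D, hD⟩ := PrimeSpectrum.exists_constructibleSetData_iff.2 (hT T hTS)
      obtain ⟨d, hdD, hpd⟩ := Set.mem_iUnion₂.1 (show p ∈ D.toSet from hD.symm ▸ hpT)
      refine ⟨d, hpd, Or.inl fun p' hp' => ?_⟩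
      have h1 : j p' ∈ ⋃₀ S := ⟨T, hTS, (hD ▸ (Set.mem_iUnion₂.2 ⟨d, hdD, hp'⟩ : p' ∈ D.toSet) : p' ∈ j ⁻¹' T)⟩
      rw [← hES] at h1
      exact h1
    · obtain ⟨a, hap, haq⟩ := SetLike.not_le_iff_exists.1 hp
      have hmem : p ∈ (⟨1, 1, fun _ => a⟩ : PrimeSpectrum.BasicConstructibleSetData Γ(X, V)).toSet := by
        refine ⟨?_, fun h1 => p.2.ne_top ((Ideal.eq_top_iff_one _).2 (h1 (Set.mem_singleton _)))⟩
        rintro _ ⟨_, rfl⟩
        exact hap
      refine ⟨_, hmem, Or.inr ⟨a, haq, fun p' hp' => ?_⟩⟩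
      exact hp'.1 ⟨0, rfl⟩
  choose d hd hd' using key
  obtain ⟨t, ht⟩ := Groth.Agent.FibreTop.exists_finite_cover_of_toSet d hd
  let a : PrimeSpectrum Γ(X, V) → Γ(X, V) := fun p =>
    if h' : ∃ a : Γ(X, V), a ∉ q.asIdeal ∧ ∀ p' ∈ (d p).toSet, a ∈ p'.asIdeal then h'.choose else 1
  have ha : ∀ p, a p ∉ q.asIdeal := fun p => by
    simp only [a]
    split_ifs with h'
    · exact h'.choose_spec.1
    · exact fun h1 => q.2.ne_top ((Ideal.eq_top_iff_one _).2 h1)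
  refine mem_interior.2 ⟨hV.fromSpec '' ((PrimeSpectrum.basicOpen (∏ p ∈ t, a p) : TopologicalSpace.Opens (PrimeSpectrum Γ(X, V))) : Set (PrimeSpectrum Γ(X, V))), ?_,
    hV.fromSpec.isOpenEmbedding.isOpenMap _ (PrimeSpectrum.basicOpen _).2, ⟨q, ?_, hq⟩⟩
  · rintro _ ⟨p', hp', rfl⟩
    change p' ∈ (PrimeSpectrum.basicOpen _ : TopologicalSpace.Opens _) at hp'
    obtain ⟨p, hpt, hp''⟩ := ht p'
    rcases hd' p with hE' | hA
    · exact hE' p' hp''
    · refine absurd ?_ hp'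
      refine Ideal.mem_of_dvd _ (Finset.dvd_prod_of_mem _ hpt) ?_
      simp only [a, dif_pos hA]
      exact hA.choose_spec.2 p' hp''
  · show (∏ p ∈ t, a p) ∉ q.asIdeal
    intro hmem
    obtain ⟨p, -, hp⟩ := (q.2.prod_mem_iff).1 hmem
    exact ha p hp

end Groth.Agent.S3403
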