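import Groth.Statements.S7614
import Groth.Agent.Lib.QADesc18.Basic

set_option autoImplicit false
universe u
open CategoryTheory CategoryTheory.Limits AlgebraicGeometry
open Variety

namespace Groth.Agent.S7614

/-- Let X be a scheme over a field k and K an extension field of k. If X_K is quasi-affine, then X is
quasi-affine. -/
theorem result (k : Type u) [Field k] (X : Scheme.{u}) [X.Over (Spec (CommRingCat.of k))] (K : Type u) [Field K] [Algebra k K]
    [(Curv2.bc k X K).IsQuasiAffine] : X.IsQuasiAffine := by
  let u := Spec.map (CommRingCat.ofHom (algebraMap k K))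
  haveI : Flat u := by
    rw [HasRingHomProperty.Spec_iff (P := @Flat), CommRingCat.hom_ofHom]
    exact RingHom.flat_algebraMap_iff.2 inferInstance
  haveI : Subsingleton ↥(Spec (CommRingCat.of k)) := inferInstanceAs (Subsingleton (PrimeSpectrum k))
  haveI : Surjective u := ⟨fun x => ⟨IsLocalRing.closedPoint K, Subsingleton.elim _ _⟩⟩
  haveI : Subsingleton ↥(Spec (CommRingCat.of K)) := inferInstanceAs (Subsingleton (PrimeSpectrum K))
  haveI : QuasiCompact (Curv2.bcSnd k X K) := quasiCompact_of_compactSpace _
  have hfst : Mor2.IsQuasiAffine (Curv2.bcSnd k X K) := by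
    refine ⟨inferInstance, fun V hV => ?_⟩
    haveI : Scheme.IsQuasiAffine (⊤ : (Curv2.bc k X K).Opens).toScheme :=
      Groth.Agent.QA11.isQuasiAffine_of_iso (Scheme.topIso _).hom
    exact Groth.Agent.QA11.isQuasiAffine_of_le (V := ⊤) le_top ((Curv2.bcSnd k X K).isCompact_preimage hV.isCompact)
  have h := Groth.Agent.QADesc18.isQuasiAffineHom_of_isPullback (f := u) (IsPullback.of_hasPullback (X ↘ Spec (CommRingCat.of k)) u).flip hfst
  haveI : Scheme.IsQuasiAffine (⊤ : X.Opens).toScheme := h.2 ⊤ (isAffineOpen_top _)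
  exact Groth.Agent.QA11.isQuasiAffine_of_iso (Scheme.topIso X).inv

end Groth.Agent.S7614
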