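import Groth.Statements.S9203
import Groth.Agent.Lib.HTop25.Basic
import Groth.Agent.Lib.ChevAff4.Main

set_option autoImplicit false
universe u v
open CategoryTheory AlgebraicGeometry
open Lim

namespace Groth.Agent.S9203

/-- Suppose a scheme X is covered, as a topological space, by finitely many closed subschemes each of
which is affine: there are closed immersions Z_k → X, indexed by a finite type, with each Z_k affine
and whose images cover X. Then X is affine. -/
theorem result (X : Scheme.{u}) {κ : Type v} [Finite κ]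
    (Z : κ → Scheme.{u}) (ι : ∀ k, Z k ⟶ X) [∀ k, IsClosedImmersion (ι k)] [∀ k, IsAffine (Z k)]
    (hcov : ∀ x : X, ∃ k, x ∈ Set.range (ι k).base) : IsAffine X := by
  obtain ⟨n, ⟨e⟩⟩ := Finite.exists_equiv_fin κ
  let Z' : ULift.{u} (Fin n) → Scheme.{u} := fun i => Z (e.symm i.down)
  let ι' : ∀ i, Z' i ⟶ X := fun i => ι (e.symm i.down)
  haveI : ∀ i, IsFinite (ι' i) := fun i => inferInstanceAs (IsFinite (ι (e.symm i.down)))
  haveI := Groth.Agent.HTop25.isFinite_sigmaDesc ι'
  haveI : Surjective (CategoryTheory.Limits.Sigma.desc ι') := ⟨fun x => by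
    obtain ⟨k, hk⟩ := hcov x
    have h2 : x ∈ Set.range (CategoryTheory.Limits.Sigma.desc ι') := by
      rw [Groth.Agent.HTop25.range_sigmaDesc]
      refine Set.mem_iUnion.2 ⟨⟨e k⟩, ?_⟩
      have : e.symm (e k) = k := e.symm_apply_apply k
      have h3 : ∀ j, j = k → x ∈ Set.range (ι j).base := by rintro j rfl; exact hk
      exact h3 _ this
    exact h2⟩
  haveI : ∀ i, IsAffine (Z' i) := fun i => inferInstanceAs (IsAffine (Z (e.symm i.down)))
  exact Groth.Agent.ChevAff4.isAffine_of_surjective (CategoryTheory.Limits.Sigma.desc ι')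

end Groth.Agent.S9203
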