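import Groth.Statements.S4091
import Groth.Agent.Lib.FppfSource.Scheme
import Groth.Agent.Lib.SchBasic.Basic

set_option autoImplicit false
universe u
open CategoryTheory MonoidalCategory CartesianMonoidalCategory MonObj GrpObj AlgebraicGeometry CategoryTheory.Limits
open GrpQ

namespace Groth.Agent.S4091

/-- Let p : X → Y and q : Y → S be morphisms of schemes with p surjective, flat and of finite
presentation. If p ≫ q is of finite type then q is of finite type; if p ≫ q is of finite
presentation then q is of finite presentation. -/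
theorem result {X Y S : Scheme.{u}} (p : X ⟶ Y) (q : Y ⟶ S)
    [Surjective p] [Flat p] [LocallyOfFinitePresentation p] [QuasiCompact p] [QuasiSeparated p] :
    ((LocallyOfFiniteType (p ≫ q) ∧ QuasiCompact (p ≫ q)) → (LocallyOfFiniteType q ∧ QuasiCompact q)) ∧
    ((LocallyOfFinitePresentation (p ≫ q) ∧ QuasiCompact (p ≫ q) ∧ QuasiSeparated (p ≫ q)) →
      (LocallyOfFinitePresentation q ∧ QuasiCompact q ∧ QuasiSeparated q)) := by
  have hft : LocallyOfFiniteType (p ≫ q) → LocallyOfFiniteType q := fun h =>
    FppfSource.descends_fppf_surjective_of_ring @LocallyOfFiniteType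
      (fun A B C _ _ _ _ _ _ _ _ _ h => by
        rw [RingHom.finiteType_algebraMap] at h ⊢
        exact FppfSource.finiteType_of_fppf A B C) p q inferInstance inferInstance inferInstance h
  refine ⟨fun ⟨h1, h2⟩ => ⟨hft h1, SchBasic.quasiCompact_of_comp_surjective p q⟩, fun ⟨h1, h2, h3⟩ =>
    ⟨FppfSource.locallyOfFinitePresentation_of_fppf_comp p q, SchBasic.quasiCompact_of_comp_surjective p q, ?_⟩⟩
  have hmap : QuasiCompact (pullback.map (p ≫ q) (p ≫ q) q q p p (𝟙 _) (by simp) (by simp)) :=
    MorphismProperty.pullbackMap (P := @QuasiCompact) (f := p ≫ q) (g := p ≫ q) ‹QuasiCompact p› ‹QuasiCompact p› rfl rfl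
  have e : p ≫ pullback.diagonal q =
      pullback.diagonal (p ≫ q) ≫ pullback.map (p ≫ q) (p ≫ q) q q p p (𝟙 _) (by simp) (by simp) := by
    apply pullback.hom_ext <;> simp [pullback.lift_fst, pullback.lift_snd, pullback.map]
  have : QuasiCompact (p ≫ pullback.diagonal q) := by rw [e]; infer_instance
  exact ⟨SchBasic.quasiCompact_of_comp_surjective p _⟩

end Groth.Agent.S4091
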