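import Groth.Statements.S7653
import Mathlib.RingTheory.DedekindDomain.Dvr

set_option autoImplicit false
universe u
open CategoryTheory CategoryTheory.Limits AlgebraicGeometry
open Variety

namespace Groth.Agent.S7653

/-- For a reduced local Nagata ring A of Krull dimension one, the δ-invariant of A is zero exactly when
A is a DVR (in particular a domain). -/
theorem result (A : Type u) [CommRing A] [IsLocalRing A]
    [IsReduced A] (hN : CAlg.IsNagata A) (hdim : ringKrullDim A = 1) :
    Curv2.deltaInv A = 0 ↔ ∃ _ : IsDomain A, IsDiscreteValuationRing A := by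
  classical
  haveI := hN.1
  set Q := FractionRing A
  have hiff : Curv2.deltaInv A = 0 ↔ ∀ z : Q, IsIntegral A z → z ∈ (algebraMap A Q).range := by
    rw [Curv2.deltaInv, Module.length_eq_zero_iff, Submodule.Quotient.subsingleton_iff, LinearMap.range_eq_top]
    constructor
    · intro h z hz
      obtain ⟨a, ha⟩ := h ⟨z, hz⟩
      exact ⟨a, congrArg Subtype.val ha⟩
    · intro h z
      obtain ⟨a, ha⟩ := h z.1 z.2
      exact ⟨a, Subtype.ext ha⟩
  rw [hiff]
  constructor
  · intro h
    haveI hdom : IsDomain A := by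
      suffices H : ∀ p ∈ minimalPrimes A, ∀ q ∈ minimalPrimes A, p = q by
        obtain ⟨p, hp⟩ := (inferInstance : Nonempty (PrimeSpectrum A))
        obtain ⟨p₀, hp₀, -⟩ := Ideal.exists_minimalPrimes_le (bot_le : (⊥ : Ideal A) ≤ p)
        haveI : p₀.IsPrime := hp₀.1.1
        have hbot : p₀ = ⊥ := by
          rw [← (Submodule.eq_bot_iff (nilradical A)).2 fun x hx => IsNilpotent.eq_zero hx, nilradical,
            ← Ideal.sInf_minimalPrimes]
          exact le_antisymm (le_sInf fun q hq => (H p₀ hp₀ q hq).le) (sInf_le hp₀)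
        haveI : (⊥ : Ideal A).IsPrime := hbot ▸ hp₀.1.1
        exact IsDomain.of_bot_isPrime A
      intro p hp q hq
      by_contra hne
      have hfin := minimalPrimes.finite_of_isNoetherianRing A
      let S : Finset (Ideal A) := hfin.toFinset.erase p
      have hS : ∀ r, r ∈ S ↔ r ≠ p ∧ r ∈ minimalPrimes A := fun r => by simp [S]
      obtain ⟨a, haS, hap⟩ : ∃ a, (∀ r ∈ S, a ∈ r) ∧ a ∉ p := by
        by_contra hc
        push Not at hc
        haveI := hp.1.1
        obtain ⟨r, hr, hle⟩ := (Ideal.IsPrime.inf_le' (s := S) (f := id) ‹p.IsPrime›).1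
          (fun x hx => hc x fun r hr => (Submodule.mem_finsetInf.1 hx) r hr)
        exact ((hS r).1 hr).1 (le_antisymm hle (hp.2 ⟨((hS r).1 hr).2.1.1, bot_le⟩ hle))
      obtain ⟨b, hbp, hbS⟩ : ∃ b ∈ p, ∀ r ∈ S, b ∉ r := by
        by_contra hc
        push Not at hc
        have hsub : (p : Set A) ⊆ ⋃ r ∈ (↑S : Set (Ideal A)), (r : Set A) := fun x hx => by
          obtain ⟨r, hr, hxr⟩ := hc x hx
          exact Set.mem_biUnion (Finset.mem_coe.2 hr) hxr
        obtain ⟨r, hr, hle⟩ := (Ideal.subset_union_prime q q fun r hr _ _ => ((hS r).1 hr).2.1.1).1 hsub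
        exact ((hS r).1 hr).1 (le_antisymm (((hS r).1 hr).2.2 ⟨hp.1.1, bot_le⟩ hle) hle)
      have hmem0 : ∀ x : A, (∀ r ∈ minimalPrimes A, x ∈ r) → x = 0 := fun x hx => by
        refine IsNilpotent.eq_zero ((mem_nilradical (R := A)).1 ?_)
        rw [nilradical, ← Ideal.sInf_minimalPrimes, Submodule.mem_sInf]
        exact hx
      have hab : a * b = 0 := hmem0 _ fun r hr => by
        rcases eq_or_ne r p with rfl | hrp
        · exact Ideal.mul_mem_left _ _ hbp
        · exact Ideal.mul_mem_right _ _ (haS r ((hS r).2 ⟨hrp, hr⟩))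
      have hsum : ∀ r ∈ minimalPrimes A, a + b ∉ r := fun r hr hm => by
        rcases eq_or_ne r p with rfl | hrp
        · exact hap ((Ideal.add_mem_iff_left _ hbp).1 hm)
        · exact hbS r ((hS r).2 ⟨hrp, hr⟩) ((Ideal.add_mem_iff_right _ (haS r ((hS r).2 ⟨hrp, hr⟩))).1 hm)
      have hnzd : a + b ∈ nonZeroDivisors A := mem_nonZeroDivisors_iff_right.2 fun c hc => hmem0 c fun r hr =>
        (hr.1.1.mem_or_mem (hc ▸ r.zero_mem : c * (a + b) ∈ r)).resolve_right (hsum r hr)
      set e : Q := IsLocalization.mk' Q a ⟨a + b, hnzd⟩ with he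
      have hspec : e * algebraMap A Q (a + b) = algebraMap A Q a := IsLocalization.mk'_spec Q a ⟨a + b, hnzd⟩
      have hidem : e * e = e := by
        rw [he, ← IsLocalization.mk'_mul]
        refine IsLocalization.mk'_eq_of_eq ?_
        show ((a + b) * (a + b)) * a = (a + b) * (a * a)
        linear_combination (a + b) * hab
      obtain ⟨c, hc⟩ := h e ⟨Polynomial.X ^ 2 - Polynomial.X, by
        apply Polynomial.monic_X_pow_sub; simp, by simp [sq, hidem]⟩
      have hcc : IsIdempotentElem c := IsFractionRing.injective A Q (by rw [map_mul, hc, hidem])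
      have hca : c * (a + b) = a := IsFractionRing.injective A Q (by rw [map_mul, hc, hspec])
      rcases IsLocalRing.isUnit_or_isUnit_one_sub_self c with hu | hu
      · rw [(IsIdempotentElem.iff_eq_one_of_isUnit hu).1 hcc, one_mul] at hca
        have hb0 : b = 0 := by simpa using hca
        exact hbS q ((hS q).2 ⟨Ne.symm hne, hq⟩) (hb0 ▸ q.zero_mem)
      · have h1 := (IsIdempotentElem.iff_eq_one_of_isUnit hu).1 hcc.one_sub
        rw [sub_eq_self] at h1
        rw [h1, zero_mul] at hca
        exact hap (hca ▸ p.zero_mem)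
    refine ⟨hdom, ?_⟩
    haveI : IsIntegrallyClosed A := (isIntegrallyClosed_iff Q).2 fun {z} hz => h z hz
    haveI : Ring.KrullDimLE 1 A := Ring.krullDimLE_iff.2 hdim.le
    haveI : Ring.DimensionLEOne A := ⟨fun {p} hp0 hp => hp.isMaximal_of_ne_bot hp0⟩
    haveI : IsDedekindDomain A := { }
    have hnf : ¬ IsField A := fun hf => by
      have := ringKrullDim_eq_zero_of_isField hf
      rw [hdim] at this
      exact one_ne_zero this
    exact ((IsDiscreteValuationRing.TFAE A hnf).out 0 2).2 ‹IsDedekindDomain A›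
  · rintro ⟨hd, hv⟩ z hz
    exact (isIntegrallyClosed_iff Q).1 inferInstance hz

end Groth.Agent.S7653
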