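import Groth.Prelude.Def_Coh
import Groth.Prelude.Def_Pic
import Groth.Prelude.Def_CohB1
import Groth.Prelude.Def_Curv2
import Mathlib.AlgebraicGeometry.Morphisms.Proper
import Mathlib.Topology.KrullDimension
import Mathlib.LinearAlgebra.Dimension.Finrank
import Groth.Prelude.Def_Found
import Groth.Prelude.Def_Hensel
import Mathlib.RingTheory.KrullDimension.Basic
import Groth.Agent.Lib.DeltaBC3
import Groth.Agent.Lib.Compl.Noetherian
import Groth.Agent.S0507
import Groth.Agent.S0508
import Groth.Agent.S0509
import Groth.Agent.S0511
import Groth.Agent.S0538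
import Groth.Agent.S0539
import Groth.Agent.S0540
import Mathlib.RingTheory.AdicCompletion.LocalRing
-- import your own Groth.Agent.* helpers here

namespace Variety
end Variety

set_option autoImplicit false
universe u
open CategoryTheory CategoryTheory.Limits AlgebraicGeometry
open Variety

namespace Groth.Agent.S7654

/-- For a reduced local Nagata ring A of Krull dimension one, the δ-invariant does not change on passing
to a henselization of A, to a strict henselization of A, or to the completion of A. -/
theorem result (A : Type u) [CommRing A] [IsLocalRing A]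
    [IsReduced A] (hN : CAlg.IsNagata A) (hdim : ringKrullDim A = 1) :
    (∀ (B : Type u) [CommRing B] [IsLocalRing B] [Algebra A B] [IsLocalHom (algebraMap A B)],
        Hensel.IsHenselization A B → Curv2.deltaInv B = Curv2.deltaInv A) ∧
      (∀ (B : Type u) [CommRing B] [IsLocalRing B] [Algebra A B] [IsLocalHom (algebraMap A B)],
        Hensel.IsStrictHenselization A B → Curv2.deltaInv B = Curv2.deltaInv A) ∧
      Curv2.deltaInv (Curv2.cpl A) = Curv2.deltaInv A := by
  haveI : IsNoetherianRing A := hN.1
  refine ⟨fun B _ _ _ _ hB => ?_, fun B _ _ _ _ hB => ?_, ?_⟩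
  · haveI := hB
    haveI := Groth.Agent.S0509.result A B
    haveI : IsNoetherianRing B := (Groth.Agent.S0511.result A B).1 inferInstance
    haveI : Algebra.IsSeparable (IsLocalRing.ResidueField A) (IsLocalRing.ResidueField B) := ⟨fun x => by
      obtain ⟨c, rfl⟩ := (Groth.Agent.S0508.result A B).2 x
      exact isSeparable_algebraMap c⟩
    exact Groth.Agent.DeltaBC3.deltaInv_eq A B hN hdim (Groth.Agent.S0507.result A B)
  · haveI := hB
    haveI := Groth.Agent.S0539.result A B
    haveI : IsNoetherianRing B := (Groth.Agent.S0540.result A B).1 inferInstance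
    haveI : Algebra.IsSeparable (IsLocalRing.ResidueField A) (IsLocalRing.ResidueField B) := hB.isSepClosure.separable
    exact Groth.Agent.DeltaBC3.deltaInv_eq A B hN hdim (Groth.Agent.S0538.result A B)
  · haveI : IsNoetherianRing (Curv2.cpl A) :=
      Groth.Agent.Compl.isNoetherianRing_adicCompletion _ (IsNoetherian.noetherian (IsLocalRing.maximalIdeal A))
    haveI : Algebra.IsSeparable (IsLocalRing.ResidueField A) (IsLocalRing.ResidueField (Curv2.cpl A)) := ⟨fun x => by
      obtain ⟨c, rfl⟩ := (AdicCompletion.residueField_map_bijective (R := A)).2 x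
      exact isSeparable_algebraMap c⟩
    exact Groth.Agent.DeltaBC3.deltaInv_eq A (Curv2.cpl A) hN hdim AdicCompletion.maximalIdeal_eq_map.symm

end Groth.Agent.S7654
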