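import Groth.Statements.S9241
import Groth.Agent.Lib.Branch14.Completion
import Groth.Agent.S0547

set_option autoImplicit false
universe u
open Brnch

namespace Groth.Agent.S9241

set_option maxSynthPendingDepth 3
set_option backward.isDefEq.respectTransparency.types false

/-- For a Noetherian local ring A of dimension 1, A and its completion A^ have the same number of
branches and the same number of geometric branches. -/
theorem result (A : Type u) [CommRing A] [IsLocalRing A]
    [IsNoetherianRing A] (hA : ringKrullDim A = 1) :
    Brnch.numBranches (AdicCompletion (IsLocalRing.maximalIdeal A) A) = Brnch.numBranches A ∧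
      Brnch.numGeomBranches (AdicCompletion (IsLocalRing.maximalIdeal A) A) =
        Brnch.numGeomBranches A := by
  have := Groth.Agent.CplLocH7.isNoetherianRing_cpl A
  have hm := (AdicCompletion.maximalIdeal_eq_map (R := A)).symm
  have hd : ringKrullDim (AdicCompletion (IsLocalRing.maximalIdeal A) A) ≤ 1 :=
    le_of_eq ((Groth.Agent.S0547.result A).trans hA)
  exact ⟨Groth.Agent.Branch14.numBranches_eq_of_dim_le_one A _ hm (Groth.Agent.Branch14.exists_cpl_approx A) hd,
    Groth.Agent.Branch14.numGeomBranches_eq_of_dim_le_one A _ hm (Groth.Agent.Branch14.exists_cpl_approx A) hd⟩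

end Groth.Agent.S9241
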