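import Groth.Statements.S7652
import Groth.Agent.Lib.NormRed18.Basic

set_option autoImplicit false
universe u
open CategoryTheory CategoryTheory.Limits AlgebraicGeometry
open Variety

namespace Groth.Agent.S7652

/-- For a reduced local Nagata ring (A, m) of Krull dimension one, write A' for the integral closure of
A in its total fraction ring. Then A' is a finite A-module, every localization of A' at a prime is
an integrally closed domain, and the quotient A'/A is an A-module of finite length. (The published
statement also says that A' is Nagata, which follows from the finiteness of A' over A; this row does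
not restate it.) -/
theorem result (A : Type u) [CommRing A] [IsLocalRing A]
    [IsReduced A] (hN : CAlg.IsNagata A) (hdim : ringKrullDim A = 1) :
    Module.Finite A (integralClosure A (FractionRing A)) ∧
      (∀ p : PrimeSpectrum (integralClosure A (FractionRing A)),
        IsDomain (Localization.AtPrime p.asIdeal) ∧ IsIntegrallyClosed (Localization.AtPrime p.asIdeal)) ∧
      Curv2.deltaInv A < ⊤ := by
  haveI : IsNoetherianRing A := hN.1
  haveI := Groth.Agent.NormRed18.isArtinianRing_fractionRing A
  have hfinQ : ∀ Q : MaximalSpectrum (FractionRing A),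
      Module.Finite A (integralClosure A (FractionRing A ⧸ Q.asIdeal)) := by
    intro Q
    let p := Groth.Agent.NormRed18.factorPrime A Q
    haveI := Groth.Agent.NormRed18.isFractionRing_factor A Q
    let L := FractionRing A ⧸ Q.asIdeal
    let φ : FractionRing (A ⧸ p) ≃ₐ[A ⧸ p] L := FractionRing.algEquiv (A ⧸ p) L
    letI : Algebra (FractionRing (A ⧸ p)) L := φ.toRingEquiv.toRingHom.toAlgebra
    haveI : IsScalarTower (A ⧸ p) (FractionRing (A ⧸ p)) L :=
      IsScalarTower.of_algebraMap_eq fun x => (φ.commutes x).symm
    haveI : FiniteDimensional (FractionRing (A ⧸ p)) L :=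
      Module.Finite.of_surjective (Algebra.linearMap (FractionRing (A ⧸ p)) L) φ.surjective
    haveI : Module.Finite (A ⧸ p) (integralClosure (A ⧸ p) L) := hN.2 p L inferInstance
    haveI : Module.Finite A (integralClosure (A ⧸ p) L) := Module.Finite.trans (A ⧸ p) _
    let f : integralClosure (A ⧸ p) L →ₗ[A] integralClosure A L :=
      { toFun := fun c => ⟨c.1, (Groth.Agent.NormRed18.mem_integralClosure_factor A Q).2 c.2⟩
        map_add' := fun _ _ => rfl
        map_smul' := fun _ _ => rfl }
    exact Module.Finite.of_surjective f fun c =>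
      ⟨⟨c.1, (Groth.Agent.NormRed18.mem_integralClosure_factor A Q).1 c.2⟩, rfl⟩
  have hfin := Groth.Agent.NormRed18.finite_integralClosure A hfinQ
  refine ⟨hfin, fun p => Groth.Agent.NormRed18.localization_normal A p.asIdeal, ?_⟩
  haveI : Ring.KrullDimLE 1 A := Ring.krullDimLE_iff.2 (by rw [hdim]; simp)
  set B := integralClosure A (FractionRing A)
  obtain ⟨S, hS⟩ := hfin.fg_top
  obtain ⟨⟨s, hs⟩, hsS⟩ := IsLocalization.exist_integer_multiples (nonZeroDivisors A) S (fun b : B => (b : FractionRing A))
  let M : Submodule A B := LinearMap.range (Algebra.linearMap A B)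
  have hkill : ∀ x : B ⧸ M, s • x = 0 := by
    intro x
    obtain ⟨x, rfl⟩ := Submodule.Quotient.mk_surjective _ x
    rw [← Submodule.Quotient.mk_smul, Submodule.Quotient.mk_eq_zero]
    have hx : x ∈ Submodule.span A (S : Set B) := hS ▸ Submodule.mem_top
    refine (Submodule.span_le (p := M.comap (LinearMap.lsmul A B s))).2 (fun b hb => ?_) hx
    obtain ⟨a, ha⟩ := hsS b hb
    exact ⟨a, Subtype.ext ha⟩
  haveI : Ring.KrullDimLE 0 (A ⧸ Ideal.span {s}) := by
    rw [Ring.krullDimLE_zero_iff]
    intro P hP
    haveI : (P.comap (Ideal.Quotient.mk (Ideal.span {s}))).IsPrime := inferInstance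
    have hsP : s ∈ P.comap (Ideal.Quotient.mk (Ideal.span {s})) := by
      simp [Ideal.Quotient.eq_zero_iff_mem.2 (Ideal.mem_span_singleton_self s)]
    have hm : (P.comap (Ideal.Quotient.mk (Ideal.span {s}))).IsMaximal := by
      rcases Ring.krullDimLE_one_iff.1 ‹_› (P.comap (Ideal.Quotient.mk (Ideal.span {s}))) inferInstance with h | h
      · exact absurd hs fun hs' => Set.disjoint_left.1 (Ideal.disjoint_nonZeroDivisors_of_mem_minimalPrimes h) hsP hs'
      · exact h
    have hm' := Ideal.map_eq_top_or_isMaximal_of_surjective (Ideal.Quotient.mk (Ideal.span {s}))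
      Ideal.Quotient.mk_surjective hm
    rw [Ideal.map_comap_of_surjective _ Ideal.Quotient.mk_surjective] at hm'
    exact hm'.resolve_left hP.ne_top
  haveI : IsArtinianRing (A ⧸ Ideal.span {s}) := isArtinianRing_iff_krullDimLE_zero.2 inferInstance
  have htor : Module.IsTorsionBySet A (B ⧸ M) (Ideal.span {s} : Ideal A) := by
    intro x ⟨a, ha⟩
    obtain ⟨c, rfl⟩ := Ideal.mem_span_singleton'.1 ha
    show (c * s) • x = 0
    rw [mul_smul, hkill, smul_zero]
  letI := htor.module
  haveI : IsScalarTower A (A ⧸ Ideal.span {s}) (B ⧸ M) := htor.isScalarTower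
  haveI : Module.Finite (A ⧸ Ideal.span {s}) (B ⧸ M) := Module.Finite.of_restrictScalars_finite A _ _
  show Module.length A (B ⧸ M) < ⊤
  rw [Module.length_eq_of_surjective (S := A) (R := A ⧸ Ideal.span {s}) (M := B ⧸ M) Ideal.Quotient.mk_surjective]
  exact lt_top_iff_ne_top.2 Module.length_ne_top

end Groth.Agent.S7652
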