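import Groth.Statements.S7655
import Groth.Agent.S7652
import Groth.Agent.Lib.NormRed18.Branch
import Mathlib.RingTheory.QuasiFinite.Basic
import Mathlib.LinearAlgebra.FreeModule.Finite.Matrix

set_option autoImplicit false
universe u
open CategoryTheory CategoryTheory.Limits AlgebraicGeometry
open Variety

namespace Groth.Agent.S7655

/-- Let (A, m) be a reduced Nagata local ring of dimension one. Then the δ-invariant of A is at least
the number of geometric branches of A minus one. -/
theorem result (A : Type u) [CommRing A] [IsLocalRing A]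
    [IsReduced A] (hN : CAlg.IsNagata A) (hdim : ringKrullDim A = 1) :
    Brnch.numGeomBranches A ≤ Curv2.deltaInv A + 1 := by
  classical
  haveI : IsNoetherianRing A := hN.1
  have hfin := (Groth.Agent.S7652.result A hN hdim).1
  let B := integralClosure A (FractionRing A)
  haveI : Module.Finite A B := hfin
  haveI : Algebra.IsIntegral A B := inferInstance
  have hred : nilradical A = ⊥ := nilradical_eq_zero A
  let r : A ≃+* CAlg2.red A := (RingEquiv.quotientBot A).symm.trans (Ideal.quotEquivOfEq hred.symm)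
  have hr : ∀ a, r a = Ideal.Quotient.mk (nilradical A) a := fun a => rfl
  let e : FractionRing A ≃+* FractionRing (CAlg2.red A) :=
    IsFractionRing.ringEquivOfRingEquiv r
  have he : ∀ a, e (algebraMap A _ a) = algebraMap _ _ (Ideal.Quotient.mk (nilradical A) a) := fun a =>
    (IsFractionRing.ringEquivOfRingEquiv_algebraMap r a).trans (congrArg _ (hr a))
  have hcomp : e.toRingHom.comp (algebraMap A (FractionRing A)) =
      (algebraMap (CAlg2.red A) (FractionRing (CAlg2.red A))).comp (Ideal.Quotient.mk (nilradical A)) :=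
    RingHom.ext he
  have hmem : ∀ b : FractionRing A, IsIntegral A b ↔ IsIntegral (CAlg2.red A) (e b) := by
    intro b
    constructor
    · rintro ⟨p, hp, hpb⟩
      refine ⟨p.map (Ideal.Quotient.mk (nilradical A)), hp.map _, ?_⟩
      rw [Polynomial.eval₂_map, ← hcomp, show e b = e.toRingHom b from rfl, ← Polynomial.hom_eval₂, hpb, map_zero]
    · rintro ⟨p, hp, hpb⟩
      refine ⟨p.map r.symm.toRingHom, hp.map _, e.injective ?_⟩
      rw [map_zero, Polynomial.eval₂_map]
      show e.toRingHom _ = 0
      rw [Polynomial.hom_eval₂, ← RingHom.comp_assoc, hcomp,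
        show ((algebraMap (CAlg2.red A) (FractionRing (CAlg2.red A))).comp (Ideal.Quotient.mk (nilradical A))).comp r.symm.toRingHom =
          algebraMap _ _ from RingHom.ext fun x => congrArg (algebraMap _ _) (r.apply_symm_apply x)]
      exact hpb
  let ε : B ≃+* CAlg2.normRed A := RingEquiv.ofRingHom
    ((e.toRingHom.comp (Subalgebra.val B).toRingHom).codRestrict (integralClosure (CAlg2.red A) (FractionRing (CAlg2.red A))) fun b => (hmem b).1 b.2)
    ((e.symm.toRingHom.comp (Subalgebra.val _).toRingHom).codRestrict B fun c => (hmem (e.symm c.1)).2 (by rw [e.apply_symm_apply]; exact c.2))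
    (RingHom.ext fun c => Subtype.ext (e.apply_symm_apply c.1)) (RingHom.ext fun b => Subtype.ext (e.symm_apply_apply b.1))
  have hε : ∀ a, ε (algebraMap A B a) = algebraMap _ _ (Ideal.Quotient.mk (nilradical A) a) := fun a => Subtype.ext (he a)
  have hfinM : Finite (MaximalSpectrum B) := by
    haveI : Algebra.QuasiFinite A B := inferInstance
    have h := Algebra.QuasiFinite.finite_primesOver (S := B) (IsLocalRing.maximalIdeal A)
    haveI := h.to_subtype
    exact Finite.of_injective (fun M => (⟨M.asIdeal, M.isMaximal.isPrime,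
      ⟨(IsLocalRing.eq_maximalIdeal (Ideal.isMaximal_comap_of_isIntegral_of_isMaximal M.asIdeal)).symm⟩⟩ :
        (IsLocalRing.maximalIdeal A).primesOver B)) fun M N h => MaximalSpectrum.ext (congrArg Subtype.val h)
  haveI : Fintype (MaximalSpectrum B) := Fintype.ofFinite _
  let κ := IsLocalRing.ResidueField A
  have hlie : ∀ (M : MaximalSpectrum B), IsLocalRing.maximalIdeal A ≤
      RingHom.ker ((Ideal.Quotient.mk M.asIdeal).comp (algebraMap A B)) := fun M a ha => by
    rw [RingHom.mem_ker, RingHom.comp_apply, Ideal.Quotient.eq_zero_iff_mem]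
    rw [← IsLocalRing.eq_maximalIdeal (Ideal.isMaximal_comap_of_isIntegral_of_isMaximal (R := A) M.asIdeal)] at ha
    exact ha
  letI alg : ∀ M : MaximalSpectrum B, Algebra κ (B ⧸ M.asIdeal) := fun M =>
    RingHom.toAlgebra (R := κ) (S := B ⧸ M.asIdeal)
      (Ideal.Quotient.lift (IsLocalRing.maximalIdeal A) ((Ideal.Quotient.mk M.asIdeal).comp (algebraMap A B)) (fun a ha => RingHom.mem_ker.1 (hlie M ha)))
  haveI tow : ∀ M : MaximalSpectrum B, IsScalarTower A κ (B ⧸ M.asIdeal) := fun M =>
    IsScalarTower.of_algebraMap_eq fun a => rfl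
  haveI hfd : ∀ M : MaximalSpectrum B, FiniteDimensional κ (B ⧸ M.asIdeal) := fun M =>
    Module.Finite.of_restrictScalars_finite A κ _
  have hlen : ∀ M : MaximalSpectrum B, Module.length A (B ⧸ M.asIdeal) = Module.finrank κ (B ⧸ M.asIdeal) := fun M => by
    rw [Module.length_eq_of_surjective (S := A) (R := κ) (M := B ⧸ M.asIdeal) IsLocalRing.residue_surjective,
      Module.length_eq_finrank]
  let Ψ : B →ₗ[A] ∀ M : MaximalSpectrum B, B ⧸ M.asIdeal := LinearMap.pi fun M => (Ideal.Quotient.mkₐ A M.asIdeal).toLinearMap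
  have hΨ : Function.Surjective Ψ := by
    intro y
    obtain ⟨b, hb⟩ := Ideal.pi_quotient_surjective (I := fun M : MaximalSpectrum B => M.asIdeal)
      (fun M N hne => Ideal.isCoprime_of_isMaximal fun h => hne (MaximalSpectrum.ext h)) y
    exact ⟨b, funext hb⟩
  have hsum : (∑ M : MaximalSpectrum B, (Module.finrank κ (B ⧸ M.asIdeal) : ℕ∞)) ≤ Curv2.deltaInv A + 1 := by
    rw [← Finset.sum_congr rfl (fun M _ => hlen M), ← Module.length_pi_of_fintype]
    let N : Submodule A (∀ M : MaximalSpectrum B, B ⧸ M.asIdeal) := LinearMap.range (Ψ ∘ₗ Algebra.linearMap A B)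
    have hex : Module.length A (∀ M : MaximalSpectrum B, B ⧸ M.asIdeal) = Module.length A N + Module.length A ((∀ M : MaximalSpectrum B, B ⧸ M.asIdeal) ⧸ N) :=
      Module.length_eq_add_of_exact _ _ N.injective_subtype N.mkQ_surjective (LinearMap.exact_subtype_mkQ N)
    rw [hex, add_comm]
    refine add_le_add ?_ ?_
    · refine Module.length_le_of_surjective
        (Submodule.mapQ (LinearMap.range (Algebra.linearMap A B)) N Ψ ?_) ?_
      · rintro _ ⟨a, rfl⟩; exact ⟨a, rfl⟩
      · intro z
        obtain ⟨z, rfl⟩ := Submodule.Quotient.mk_surjective _ z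
        obtain ⟨b, rfl⟩ := hΨ z
        exact ⟨Submodule.Quotient.mk b, rfl⟩
    · let φ : A →ₗ[A] N := (Ψ ∘ₗ Algebra.linearMap A B).rangeRestrict
      letI : AddCommGroup N := Submodule.addCommGroup N
      let f := Submodule.liftQ (M₂ := N) (IsLocalRing.maximalIdeal A) φ
        (fun a ha => LinearMap.mem_ker.2 (Subtype.ext (funext fun M => RingHom.mem_ker.1 (hlie M ha))))
      refine le_trans (Module.length_le_of_surjective f fun z => ?_) ?_
      · obtain ⟨a, ha⟩ := (Ψ ∘ₗ Algebra.linearMap A B).surjective_rangeRestrict z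
        exact ⟨Submodule.Quotient.mk a, ha⟩
      · haveI : IsSimpleModule A (A ⧸ IsLocalRing.maximalIdeal A) :=
          isSimpleModule_iff_isCoatom.2 (IsLocalRing.maximalIdeal.isMaximal A).out
        rw [Module.length_eq_one]
  unfold Brnch.numGeomBranches
  rw [if_pos (minimalPrimes.finite_of_isNoetherianRing A)]
  let Ω := AlgebraicClosure κ
  letI : Algebra κ Ω := AlgebraicClosure.instAlgebra κ
  haveI : ∀ M : MaximalSpectrum B, IsDomain (B ⧸ M.asIdeal) := fun M => inferInstance
  let χ : ∀ M : MaximalSpectrum B, B ⧸ M.asIdeal ≃+* CAlg2.normRed A ⧸ M.asIdeal.map ε.toRingHom := fun M =>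
    Ideal.quotientEquiv _ _ ε rfl
  let eM : MaximalSpectrum (CAlg2.normRed A) ≃ MaximalSpectrum B :=
    { toFun := fun m => ⟨m.asIdeal.comap ε.toRingHom, Ideal.comap_isMaximal_of_surjective _ ε.surjective⟩
      invFun := fun M => ⟨M.asIdeal.map ε.toRingHom, Ideal.map_isMaximal_of_equiv ε⟩
      left_inv := fun m => MaximalSpectrum.ext (Ideal.map_comap_of_surjective _ ε.surjective _)
      right_inv := fun M => MaximalSpectrum.ext (Ideal.comap_map_of_bijective _ ε.bijective) }
  have hcard : ∀ M : MaximalSpectrum B, ENat.card (Brnch.Emb A (eM.symm M)) ≤ (Module.finrank κ (B ⧸ M.asIdeal) : ℕ∞) := by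
    intro M
    let τ : Brnch.Emb A (eM.symm M) → ((B ⧸ M.asIdeal) →ₐ[κ] Ω) := fun σ =>
      { toRingHom := σ.1.comp (χ M).toRingHom
        commutes' := fun z => by
          obtain ⟨a, rfl⟩ := Ideal.Quotient.mk_surjective z
          have h : σ.1 ((χ M) (Ideal.Quotient.mk M.asIdeal (algebraMap A B a))) = Brnch.toClosure A a := by
            rw [show (χ M) (Ideal.Quotient.mk M.asIdeal (algebraMap A B a)) = Brnch.toResidue A (eM.symm M) a from
              (Ideal.quotientEquiv_mk _ _ ε rfl _).trans (congrArg (Ideal.Quotient.mk _) (hε a))]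
            exact RingHom.congr_fun σ.2 a
          exact h }
    have hτ : Function.Injective τ := fun σ σ' h => Subtype.ext (RingHom.ext fun z => by
      obtain ⟨w, rfl⟩ := (χ M).surjective z
      exact DFunLike.congr_fun h w)
    calc ENat.card (Brnch.Emb A (eM.symm M)) ≤ ENat.card ((B ⧸ M.asIdeal) →ₐ[κ] Ω) := ENat.card_le_card_of_injective hτ
      _ = (Nat.card ((B ⧸ M.asIdeal) →ₐ[κ] Ω) : ℕ∞) := ENat.card_eq_coe_natCard _
      _ ≤ _ := by exact_mod_cast card_algHom_le_finrank κ (B ⧸ M.asIdeal) Ω
  rw [ENat.card_congr (Equiv.sigmaCongrLeft eM.symm).symm, Groth.Agent.NormRed18.enat_card_sigma, tsum_fintype]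
  exact (Finset.sum_le_sum fun M _ => hcard M).trans hsum

end Groth.Agent.S7655
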