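import Groth.Statements.S17540
import Groth.Prelude.Def_W4c5adicflatcomplDec
import Groth.Agent.Lib.H2Alg.Decaying
import Mathlib.RingTheory.Flat.EquationalCriterion
import Mathlib.LinearAlgebra.TensorProduct.Pi
import Mathlib.RingTheory.TensorProduct.Finite
import Mathlib.LinearAlgebra.TensorProduct.Tower

set_option autoImplicit false
universe u v w
open W4c5adicflatcompl
open CAlg

namespace Groth.Agent.S17540
open W4c5adicflatcompl TensorProduct Groth.Agent.H2Alg

/-- Let A be I-adically complete, M an I-adically complete A-module and m : Z → M a family. The images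
of the m z generate M/IM (the span of the family together with IM is all of M) if and only if the
family I-adically generates M: every x in M is the I-adically convergent sum of g z • m z for some
I-adically decaying function g : Z → A. -/
theorem result {A : Type u} [CommRing A] (I : Ideal A) [IsAdicComplete I A]
    (M : Type v) [AddCommGroup M] [Module A M] [IsAdicComplete I M] (Z : Type w) (m : Z → M) :
    Submodule.span A (Set.range m) ⊔ I • ⊤ = ⊤ ↔
      ∀ x : M, ∃ g : Z → A, g ∈ decaying I Z A ∧
        ∀ n : ℕ, ∃ S : Finset Z,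
          (∀ z, z ∉ S → g z • m z ∈ (I ^ n • ⊤ : Submodule A M)) ∧
          x - (∑ z ∈ S, g z • m z) ∈ (I ^ n • ⊤ : Submodule A M) := by
  classical
  constructor
  · intro h x
    have step : ∀ (k : ℕ) (y : M), y ∈ (I ^ k • ⊤ : Submodule A M) → ∃ a : Z →₀ A, (∀ z, a z ∈ I ^ k) ∧
        y - a.sum (fun z c => c • m z) ∈ (I ^ (k + 1) • ⊤ : Submodule A M) := by
      intro k y hy
      rw [← h, Submodule.smul_sup, ← Submodule.mul_smul, ← pow_succ] at hy
      obtain ⟨p, hp, q, hq, rfl⟩ := Submodule.mem_sup.1 hy
      obtain ⟨a, ha, rfl⟩ := (Submodule.mem_ideal_smul_span_iff_exists_sum _ m p).1 hp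
      exact ⟨a, ha, by simpa using hq⟩
    choose! a ha ha' using step
    let y : ℕ → M := fun k => Nat.rec x (fun i w => w - (a i w).sum (fun z c => c • m z)) k
    have hy : ∀ k, y k ∈ (I ^ k • ⊤ : Submodule A M) := fun k => by
      induction k with
      | zero => simp
      | succ k ih => exact ha' k (y k) ih
    let c : Z → ℕ → A := fun z k => ∑ i ∈ Finset.range k, a i (y i) z
    have hc : ∀ z, ∃ L, ∀ k, c z k ≡ L [SMOD (I ^ k • ⊤ : Submodule A A)] := fun z =>
      IsPrecomplete.prec' (c z) fun {p q} hpq => SModEq.sub_mem.2 (by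
        rw [← neg_mem_iff, neg_sub, smul_eq_mul, Ideal.mul_top, show c z q - c z p = ∑ i ∈ Finset.Ico p q, a i (y i) z from (Finset.sum_Ico_eq_sub _ hpq).symm]
        exact sum_mem fun i hi => Ideal.pow_le_pow_right (Finset.mem_Ico.1 hi).1 (ha i _ (hy i) z))
    choose g hg using hc
    let T : ℕ → Finset Z := fun n => (Finset.range n).biUnion fun i => (a i (y i)).support
    have hgT : ∀ n z, z ∉ T n → g z ∈ (I ^ n • ⊤ : Submodule A A) := fun n z hz => by
      have h0 : c z n = 0 := Finset.sum_eq_zero fun i hi => by
        simp only [T, Finset.mem_biUnion, not_exists, not_and] at hz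
        exact Finsupp.notMem_support_iff.1 (hz i hi)
      have := SModEq.sub_mem.1 (hg z n)
      rwa [h0, zero_sub, neg_mem_iff] at this
    refine ⟨g, fun n => (T n).finite_toSet.subset fun z hz => by
      by_contra h; exact hz (hgT n z h), fun n => ⟨T n, fun z hz => ?_, ?_⟩⟩
    · exact Submodule.smul_mem_smul (by simpa using hgT n z hz) Submodule.mem_top
    · have e : ∀ k ≤ n, x - y k = ∑ z ∈ T n, c z k • m z := by
        intro k hk
        induction k with
        | zero => simp [y, c]
        | succ k ih =>
          have hs : (a k (y k)).sum (fun z c => c • m z) = ∑ z ∈ T n, a k (y k) z • m z :=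
            Finsupp.sum_of_support_subset _ (Finset.subset_biUnion_of_mem (fun i => (a i (y i)).support) (Finset.mem_range.2 hk)) _ (by simp)
          show x - (y k - (a k (y k)).sum _) = _
          simp only [c, Finset.sum_range_succ, add_smul, Finset.sum_add_distrib]
          rw [hs, ← sub_add, ih (Nat.le_of_succ_le hk)]
      have : x - ∑ z ∈ T n, g z • m z = y n + ∑ z ∈ T n, (c z n - g z) • m z := by
        simp only [sub_smul, Finset.sum_sub_distrib, ← e n le_rfl]; abel
      rw [this]
      exact add_mem (hy n) (sum_mem fun z _ => Submodule.smul_mem_smul (by simpa using SModEq.sub_mem.1 (hg z n)) Submodule.mem_top)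
  · intro h
    rw [eq_top_iff]
    intro x _
    obtain ⟨g, -, hg⟩ := h x
    obtain ⟨S, -, hS⟩ := hg 1
    rw [pow_one] at hS
    rw [← add_sub_cancel (∑ z ∈ S, g z • m z) x]
    exact Submodule.add_mem_sup (sum_mem fun z _ => Submodule.smul_mem _ _ (Submodule.subset_span ⟨z, rfl⟩)) hS

end Groth.Agent.S17540
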