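import Groth.Statements.S17545
import Groth.Prelude.Def_W4c5adicflatcomplDec
import Groth.Agent.Lib.H2Alg.Decaying
import Mathlib.RingTheory.Flat.EquationalCriterion
import Mathlib.LinearAlgebra.TensorProduct.Pi
import Mathlib.RingTheory.TensorProduct.Finite
import Mathlib.LinearAlgebra.TensorProduct.Tower

set_option autoImplicit false
universe u v w
open W4c5adicflatcompl
open CAlg

namespace Groth.Agent.S17545
open W4c5adicflatcompl TensorProduct Groth.Agent.H2Alg

/-- For a Noetherian ring A which is I-adically complete and any set Z, the A-module of I-adically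
decaying functions Z → A is flat. -/
theorem result {A : Type u} [CommRing A] [IsNoetherianRing A]
    (I : Ideal A) [IsAdicComplete I A] (Z : Type v) :
    Module.Flat A (decaying I Z A) := by
  classical
  refine Module.Flat.of_forall_isTrivialRelation fun {l r x} hrel => ?_
  let π : (Fin l → A) →ₗ[A] A := Fintype.linearCombination A r
  obtain ⟨p, ρ', hρ'⟩ := Module.Finite.exists_fin' A (LinearMap.ker π)
  let ρ := (LinearMap.ker π).subtype ∘ₗ ρ'
  have := Dec.isHausdorff_of_isAdicComplete (I := I) (N := Fin l → A)
  have hF : (fun z i => (x i : Z → A) z) ∈ decaying I Z (Fin l → A) :=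
    Dec.pi_comp_mem LinearMap.id fun i => (x i).2
  obtain ⟨h, hh, hh'⟩ := Dec.exists_decaying_lift ρ hF fun z => by
    obtain ⟨w, hw⟩ := hρ' ⟨fun i => (x i : Z → A) z, LinearMap.mem_ker.2 (by
      have := congrArg (fun g : decaying I Z A => (g : Z → A) z) hrel
      simp only [Submodule.coe_sum, Submodule.coe_smul, Finset.sum_apply, Pi.smul_apply, ZeroMemClass.coe_zero, Pi.zero_apply] at this
      rw [← this]
      simp [π, Fintype.linearCombination_apply, mul_comm])⟩
    exact ⟨w, congrArg Subtype.val hw⟩
  refine ⟨p, fun i j => ρ (Pi.single j 1) i, fun j => ⟨fun z => h z j, hh j⟩, fun i => ?_, fun j => ?_⟩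
  · refine Subtype.ext (funext fun z => ?_)
    simp only [Submodule.coe_sum, Submodule.coe_smul, Finset.sum_apply, Pi.smul_apply]
    have := congrFun (hh' z) i
    conv_lhs at this => rw [pi_eq_sum_univ' (h z), map_sum, Finset.sum_apply]
    rw [← this]
    exact Finset.sum_congr rfl fun j _ => by rw [map_smul, Pi.smul_apply, smul_eq_mul, smul_eq_mul, mul_comm]
  · have := LinearMap.mem_ker.1 (ρ' (Pi.single j 1)).2
    have h2 : π (ρ (Pi.single j 1)) = 0 := this
    simp only [π, Fintype.linearCombination_apply, smul_eq_mul] at h2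
    rw [← h2]
    exact Finset.sum_congr rfl fun i _ => mul_comm _ _

end Groth.Agent.S17545
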