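import Groth.Statements.S7476
import Groth.Agent.Lib.HTop26.VCover
-- import your own Groth.Agent.* helpers here

set_option autoImplicit false
universe w u
open HTop

namespace Groth.Agent.S7476

open CategoryTheory CategoryTheory.Limits AlgebraicGeometry in
/-- Let f : X -> Y be a quasi-compact morphism of schemes. Then the one-member family of f is a V
covering if and only if every morphism from the spectrum of a valuation ring to Y lifts to X after
an extension of valuation rings; and the latter holds if and only if for every morphism Z -> Y and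
every specialization z' ⤳ z of points of Z there is a specialization w' ⤳ w of points of Z x_Y X
mapping to z' ⤳ z. -/
theorem result {X Y : Scheme.{u}} (f : X ⟶ Y) [QuasiCompact f] : (HTop.IsVCover (PreZeroHypercover.singleton f) ↔ HTop.HasValLift (PreZeroHypercover.singleton f)) ∧ (HTop.HasValLift (PreZeroHypercover.singleton f) ↔ ∀ (Z : Scheme.{u}) (g : Z ⟶ Y) (z' z : Z), z' ⤳ z → ∃ w' w : ↑(pullback g f), w' ⤳ w ∧ pullback.fst g f w' = z' ∧ pullback.fst g f w = z) := by
  refine ⟨⟨fun h => HTop26.HasValLift.of_refines (HTop26.IsVCover.hasValLift h) (fun _ => ⟨PUnit.unit, 𝟙 _, (Category.id_comp _).trans (Category.comp_id _).symm⟩), fun h U => ?_⟩, ⟨fun h Z g z' z hz => ?_, fun h => ?_⟩⟩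
  · have : IsAffine ((U : Y.Opens) : Scheme.{u}) := U.2
    have hc : IsCompact (f ⁻¹ᵁ (U : Y.Opens) : Set X) := f.isCompact_preimage U.2.isCompact
    obtain ⟨s, hs, hsU⟩ := isCompact_iff_finite_and_eq_biUnion_affineOpens.mp hc
    have := hs.fintype
    let e := (Fintype.equivFin s).symm
    have hle : ∀ k, (e k).1.1 ≤ f ⁻¹ᵁ (U : Y.Opens) := fun k => by
      rw [hsU]; exact le_iSup₂ (f := fun (i : X.affineOpens) _ => (i : X.Opens)) (e k).1 (e k).2
    let F : PreZeroHypercover.{0} ((U : Y.Opens) : Scheme.{u}) :=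
      { I₀ := Fin (Fintype.card s)
        X := fun k => ((e k).1.1 : Scheme.{u})
        f := fun k => f.resLE U (e k).1.1 (hle k) }
    refine ⟨F, ⟨U.2, inferInstanceAs (Finite (Fin _)), fun k => (e k).1.2, ?_⟩,
      fun k => ⟨PUnit.unit, (e k).1.1.ι, (Scheme.Hom.resLE_comp_ι _ _).symm⟩⟩
    intro V _ _ g
    obtain ⟨W, hW1, hW2, φ, hφ, j, g₀, hg₀⟩ := h V (g ≫ (U : Y.Opens).ι)
    let g' : Spec W ⟶ X := g₀
    have hg' : g' ≫ f = Spec.map φ ≫ g ≫ (U : Y.Opens).ι := hg₀
    have hmem : g' (IsLocalRing.closedPoint W) ∈ f ⁻¹ᵁ (U : Y.Opens) := by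
      show f (g' (IsLocalRing.closedPoint W)) ∈ (U : Y.Opens)
      rw [← Scheme.Hom.comp_apply, hg', ← Category.assoc, Scheme.Hom.comp_apply]
      exact Subtype.mem _
    rw [hsU] at hmem
    simp only [TopologicalSpace.Opens.mem_iSup] at hmem
    obtain ⟨A, hA, hxA⟩ := hmem
    obtain ⟨k, hk⟩ := e.surjective ⟨A, hA⟩
    have hAk : (e k).1.1 = A.1 := by rw [hk]
    have hr : Set.range g' ⊆ Set.range (e k).1.1.ι := by
      rw [Scheme.Opens.range_ι]
      rintro _ ⟨x, rfl⟩
      exact ((HTop26.specializes_closed x).map g'.continuous).mem_open (e k).1.1.2 (hAk ▸ hxA)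
    refine ⟨W, hW1, hW2, φ, hφ, k, IsOpenImmersion.lift (e k).1.1.ι g' hr, ?_⟩
    rw [← cancel_mono (U : Y.Opens).ι]
    show (_ ≫ f.resLE U (e k).1.1 (hle k)) ≫ _ = _
    rw [Category.assoc, Scheme.Hom.resLE_comp_ι, IsOpenImmersion.lift_fac_assoc, hg', Category.assoc]
  · obtain ⟨V, _, _, m, hm0, hm1⟩ := HTop26.exists_valuation_of_specializes hz
    obtain ⟨j, p₀, p, hsp, h₀, h₁⟩ := (HTop26.hasValLift_iff _).mp h V (m ≫ g)
    let c : pullback (m ≫ g) f ⟶ pullback g f := pullback.map (m ≫ g) f g f m (𝟙 X) (𝟙 Y) (by simp) (by simp)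
    have hc : c ≫ pullback.fst g f = pullback.fst (m ≫ g) f ≫ m := pullback.lift_fst _ _ _
    refine ⟨c p₀, c p, hsp.map c.continuous, ?_, ?_⟩
    · rw [← Scheme.Hom.comp_apply, hc]; exact (congrArg m h₀).trans hm0
    · rw [← Scheme.Hom.comp_apply, hc]; exact (congrArg m h₁).trans hm1
  · rw [HTop26.hasValLift_iff]
    intro V _ _ g
    obtain ⟨w', w, hw, h0, h1⟩ := h _ g _ _ (HTop26.gen_specializes (IsLocalRing.closedPoint V))
    exact ⟨PUnit.unit, w', w, hw, h0, h1⟩

end Groth.Agent.S7476
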