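import Groth.Statements.S0315
import Groth.Agent.Lib.InjHull.Socle

set_option autoImplicit false
universe u v
open Matlis

namespace Groth.Agent.S0315

/-- Over a Noetherian local ring a module has the descending chain condition exactly when it is killed
elementwise by powers of the maximal ideal and its socle is finite-dimensional over the residue
field. -/
theorem result (R : Type u) [CommRing R] [IsLocalRing R] [IsNoetherianRing R] (M : Type u) [AddCommGroup M] [Module R M] : IsArtinian R M ↔ (LocCoh.IsPowerTorsion (IsLocalRing.maximalIdeal R) M ∧ Module.Finite (R ⧸ IsLocalRing.maximalIdeal R) ↥(LocCoh.torsionBy (IsLocalRing.maximalIdeal R) M)) := by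
  let k := R ⧸ IsLocalRing.maximalIdeal R
  let _ := Ideal.Quotient.field (IsLocalRing.maximalIdeal R)
  constructor
  · intro hA
    refine ⟨fun x => ?_, ?_⟩
    · set m := IsLocalRing.maximalIdeal R
      let N := Submodule.span R {x}
      obtain ⟨n, hn⟩ := IsArtinian.monotone_stabilizes (R := R) (M := M)
        ⟨fun n => OrderDual.toDual (m ^ n • N), fun a b h => Submodule.smul_mono_left (Ideal.pow_le_pow_right h)⟩
      have h1 : m ^ n • N = m • (m ^ n • N) := by
        rw [← Submodule.mul_smul, ← pow_succ']; exact hn (n + 1) (Nat.le_succ n)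
      have h2 := Submodule.eq_bot_of_le_smul_of_le_jacobson_bot m (m ^ n • N)
        (Submodule.FG.smul (IsNoetherian.noetherian (m ^ n)) (Submodule.fg_span_singleton x)) h1.le
        (IsLocalRing.maximalIdeal_le_jacobson _)
      exact ⟨n, fun a ha => (Submodule.eq_bot_iff _).1 h2 _ (Submodule.smul_mem_smul ha (Submodule.mem_span_singleton_self x))⟩
    · have : IsArtinian k (LocCoh.torsionBy (IsLocalRing.maximalIdeal R) M) := isArtinian_of_tower R inferInstance
      exact ((IsSemisimpleModule.finite_tfae (R := k)).out 0 2).2 this
  · rintro ⟨hM, hfin⟩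
    refine Groth.Agent.InjHullLib.isArtinian_of_fg_torsion (IsNoetherian.noetherian _) M hM ?_
    have : IsArtinian k (LocCoh.torsionBy (IsLocalRing.maximalIdeal R) M) := inferInstance
    exact isArtinian_of_surjective_algebraMap (R := k) (S := R) Ideal.Quotient.mk_surjective

end Groth.Agent.S0315
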