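import Groth.Statements.S0317
import Groth.Agent.Lib.InjHull.Duality
-- import your own Groth.Agent.* helpers here

set_option autoImplicit false
universe u v
open Matlis

namespace Groth.Agent.S0317

/-- Over a complete Noetherian local ring with E an injective hull of the residue field, the E-dual of
an Artinian module is a finite module and the evaluation map into the double E-dual is bijective. -/
theorem result (R : Type u) [CommRing R] [IsLocalRing R] [IsNoetherianRing R] [IsAdicComplete (IsLocalRing.maximalIdeal R) R] (E : Type u) [AddCommGroup E] [Module R E] (f : IsLocalRing.ResidueField R →ₗ[R] E) (hf : InjHull.IsInjectiveHull f) (M : Type u) [AddCommGroup M] [Module R M] [IsArtinian R M] : Module.Finite R (M →ₗ[R] E) ∧ Function.Bijective (LinearMap.applyₗ : M →ₗ[R] (M →ₗ[R] E) →ₗ[R] E) := by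
  classical
  have htors : LocCoh.IsPowerTorsion (IsLocalRing.maximalIdeal R) M := by
    intro x
    let N := LinearMap.range (LinearMap.toSpanSingleton R M x)
    have hfl : IsFiniteLength R N := isFiniteLength_iff_isNoetherian_isArtinian.2 ⟨inferInstance, inferInstance⟩
    obtain ⟨k, hk⟩ := (IsArtinian.monotone_stabilizes
      { toFun := fun k => OrderDual.toDual ((IsLocalRing.maximalIdeal R ^ k) • (⊤ : Submodule R N))
        monotone' := fun a b h => Submodule.smul_mono (Ideal.pow_le_pow_right h) le_rfl } :)
    refine ⟨k, fun r hr => ?_⟩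
    have h1 := hk (k + 1) (Nat.le_succ k)
    have h2 : (IsLocalRing.maximalIdeal R ^ k) • (⊤ : Submodule R N) = ⊥ := by
      refine Submodule.eq_bot_of_le_smul_of_le_jacobson_bot (IsLocalRing.maximalIdeal R) _
        (IsNoetherian.noetherian _) ?_ (IsLocalRing.maximalIdeal_le_jacobson _)
      rw [← Submodule.mul_smul, ← pow_succ']
      exact (OrderDual.toDual.injective h1).le
    have h3 : r • (⟨x, 1, one_smul R x⟩ : N) ∈ (IsLocalRing.maximalIdeal R ^ k) • (⊤ : Submodule R N) :=
      Submodule.smul_mem_smul hr trivial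
    rw [h2, Submodule.mem_bot] at h3
    exact congrArg Subtype.val h3
  let S := Submodule.torsionBySet R M (IsLocalRing.maximalIdeal R : Set R)
  have : Module.Finite R S := by
    let k := R ⧸ IsLocalRing.maximalIdeal R
    have h1 : IsArtinian k S := isArtinian_of_tower R (inferInstance : IsArtinian R S)
    let _ := Ideal.Quotient.field (IsLocalRing.maximalIdeal R)
    have h2 : Module.Finite k S := (IsSemisimpleModule.finite_tfae (R := k) (M := S)).out 2 0 |>.1 h1
    exact Module.Finite.trans k S
  obtain ⟨l, s, hs⟩ := Module.Finite.exists_fin (R := R) (M := S →ₗ[R] IsLocalRing.ResidueField R)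
  let i : S →ₗ[R] (Fin l → E) := LinearMap.pi fun j => f ∘ₗ s j
  obtain ⟨γ, hγ⟩ := (Module.Baer.iff_injective.2 (@Module.Injective.pi R _ (Fin l) (fun _ => E) _ _ _ fun _ => hf.isInjective)).extension_property S.subtype S.injective_subtype i
  have hγinj : Function.Injective γ := by
    refine Groth.Agent.InjHullLib.injective_of_injOn_torsion htors γ fun x hx h0 => ?_
    by_contra hx0
    obtain ⟨φ, hφ⟩ := Groth.Agent.InjHullLib.exists_dual_ne_zero hf (M := S) (x := ⟨x, hx⟩)
      (fun h => hx0 (congrArg Subtype.val h))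
    have hsoc : ∀ z : S, φ z ∈ LinearMap.range f := fun z => by
      refine (Groth.Agent.InjHullLib.torsion_eq_range (m := IsLocalRing.maximalIdeal R) (f := f) hf.toIsEssentialInj).le ?_
      refine Groth.Agent.InjHullLib.mem_torsion_iff.2 fun r hr => ?_
      rw [← map_smul, show r • z = 0 from Subtype.ext (Groth.Agent.InjHullLib.mem_torsion_iff.1 z.2 r hr), map_zero]
    let φ' : S →ₗ[R] IsLocalRing.ResidueField R :=
      (LinearEquiv.ofInjective f hf.injective).symm.toLinearMap ∘ₗ φ.codRestrict (LinearMap.range f) hsoc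
    have hall : ∀ ψ ∈ Submodule.span R (Set.range s), f (ψ ⟨x, hx⟩) = 0 := by
      intro ψ hψ
      induction hψ using Submodule.span_induction with
      | mem ψ hψ =>
        obtain ⟨j, rfl⟩ := hψ
        have h1 := congrFun (LinearMap.congr_fun hγ ⟨x, hx⟩) j
        rw [LinearMap.comp_apply, Submodule.subtype_apply, h0] at h1
        exact h1.symm
      | zero => simp
      | add a b _ _ ha hb => rw [LinearMap.add_apply, map_add, ha, hb, add_zero]
      | smul c a _ ha => rw [LinearMap.smul_apply, map_smul, ha, smul_zero]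
    have h2 := hall φ' (hs.ge trivial)
    refine hφ ?_
    rw [← h2]
    exact (congrArg Subtype.val ((LinearEquiv.ofInjective f hf.injective).apply_symm_apply
      (φ.codRestrict (LinearMap.range f) hsoc ⟨x, hx⟩))).symm
  let res := LinearMap.lcomp R E γ
  have hres : Function.Surjective res := fun φ =>
    (Module.Baer.iff_injective.2 hf.isInjective).extension_property γ hγinj φ
  let E2 : (Fin l → R) →ₗ[R] ((Fin l → E) →ₗ[R] E) :=
    Fintype.linearCombination R fun j => LinearMap.proj j
  have hE2 : Function.Surjective E2 := by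
    intro φ
    choose r hr using fun j => Groth.Agent.InjHullLib.exists_eq_smul_id hf (φ ∘ₗ LinearMap.single R (fun _ : Fin l => E) j)
    refine ⟨r, LinearMap.ext fun v => ?_⟩
    conv_rhs => rw [← Finset.univ_sum_single v, map_sum]
    rw [Fintype.linearCombination_apply, LinearMap.sum_apply]
    refine Finset.sum_congr rfl fun j _ => ?_
    exact (LinearMap.congr_fun (hr j) (v j)).symm
  refine ⟨Module.Finite.of_surjective (res ∘ₗ E2) (hres.comp hE2), Groth.Agent.InjHullLib.applyₗ_injective hf, fun ψ => ?_⟩
  let pr : Fin l → ((Fin l → E) →ₗ[R] E) := fun j => LinearMap.proj j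
  let e : Fin l → E := fun j => ψ (res (pr j))
  have hψ : ∀ φ : (Fin l → E) →ₗ[R] E, ψ (res φ) = φ e := by
    intro φ
    obtain ⟨r, rfl⟩ := hE2 φ
    rw [Fintype.linearCombination_apply, map_sum, map_sum, LinearMap.sum_apply]
    exact Finset.sum_congr rfl fun j _ => by rw [map_smul, map_smul]; rfl
  have hmem : e ∈ LinearMap.range γ := by
    by_contra hne
    obtain ⟨φ, hφ⟩ := Groth.Agent.InjHullLib.exists_dual_ne_zero hf (M := (Fin l → E) ⧸ LinearMap.range γ)
      (x := Submodule.Quotient.mk e) (fun h => hne ((Submodule.Quotient.mk_eq_zero _).1 h))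
    refine hφ ?_
    have h1 := hψ (φ ∘ₗ (LinearMap.range γ).mkQ)
    have h2 : res (φ ∘ₗ (LinearMap.range γ).mkQ) = 0 := LinearMap.ext fun z => by
      show φ (Submodule.Quotient.mk (γ z)) = 0
      rw [(Submodule.Quotient.mk_eq_zero _).2 (LinearMap.mem_range_self γ z), map_zero]
    rw [h2, map_zero] at h1
    exact h1.symm
  obtain ⟨x, hx⟩ := hmem
  refine ⟨x, LinearMap.ext fun φ => ?_⟩
  obtain ⟨φ', rfl⟩ := hres φ
  rw [hψ φ', ← hx]
  rfl

end Groth.Agent.S0317
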