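import Groth.Statements.S0328
import Groth.Agent.Lib.LocCoh.Nonvanish
-- import your own Groth.Agent.* helpers here

set_option autoImplicit false
universe u v
open LocCoh

namespace Groth.Agent.S0328

/-- In a Noetherian local ring, if a prime p and a proper ideal I together have radical the maximal
ideal and dim R/p = d ≥ 1, then local cohomology with support in I does not vanish in all degrees ≥
d. -/
theorem result (R : Type u) [CommRing R] [IsLocalRing R] [IsNoetherianRing R] (I : Ideal R) (hI : I ≠ ⊤) (p : Ideal R) [p.IsPrime] (hpI : (p ⊔ I).radical = IsLocalRing.maximalIdeal R) (d : ℕ) (hd : ringKrullDim (R ⧸ p) = d) (hd1 : 1 ≤ d) : ¬ LocCoh.CdLE R I (d - 1) := by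
  intro hcd
  have hdim : Module.supportDim R (R ⧸ p) = d := (Module.supportDim_quotient_eq_ringKrullDim p).trans hd
  obtain ⟨hne, -⟩ := Groth.Agent.LocCohLib.nontrivial_and_not_finite d (R ⧸ p) hdim
  have h0 : Subsingleton (LocCoh.H I d (R ⧸ p)) := hcd (R ⧸ p) d (by omega)
  have htors : LocCoh.IsPowerTorsion p (R ⧸ p) := fun z => ⟨1, fun a ha => by
    obtain ⟨b, rfl⟩ := Ideal.Quotient.mk_surjective z
    rw [pow_one] at ha
    exact Ideal.Quotient.eq_zero_iff_mem.2 (p.mul_mem_right _ ha)⟩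
  obtain ⟨e₁⟩ := Groth.Agent.LocCohLib.nonempty_congr_sup I p d (R ⧸ p) htors
  have hrad : (I ⊔ p).radical = IsLocalRing.maximalIdeal R := by rw [sup_comm]; exact hpI
  obtain ⟨e₂⟩ := Groth.Agent.LocCohLib.nonempty_congr_radical (I := IsLocalRing.maximalIdeal R) (J := I ⊔ p)
    hrad.ge ((hrad ▸ Ideal.le_radical : I ⊔ p ≤ IsLocalRing.maximalIdeal R).trans Ideal.le_radical) d (R ⧸ p)
  have : Subsingleton (LocCoh.H (IsLocalRing.maximalIdeal R) d (R ⧸ p)) :=
    e₂.toEquiv.subsingleton_congr.2 (e₁.toEquiv.subsingleton_congr.2 h0)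
  exact not_subsingleton _ this


end Groth.Agent.S0328
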