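import Groth.Statements.S0379
import Groth.Agent.Lib.LocCoh.Restrict
-- import your own Groth.Agent.* helpers here

set_option autoImplicit false
universe u v
open LocCoh

namespace Groth.Agent.S0379

/-- For a homomorphism of Noetherian rings A → B, if local cohomology with support in I vanishes above
degree d on all A-modules then local cohomology with support in IB vanishes above degree d on all
B-modules; if B is faithfully flat over A the converse holds too. -/
theorem result (A : Type u) [CommRing A] [IsNoetherianRing A] (B : Type u) [CommRing B] [IsNoetherianRing B] [Algebra A B] (I : Ideal A) (d : ℕ) : (LocCoh.CdLE A I d → LocCoh.CdLE B (I.map (algebraMap A B)) d) ∧ (Module.FaithfullyFlat A B → LocCoh.CdLE B (I.map (algebraMap A B)) d → LocCoh.CdLE A I d) := by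
  refine ⟨fun h => ?_, fun hff h => (Groth.Agent.LocCohLib.cdLE_iff_self I d).1 fun i hi => ?_⟩
  · intro M _ _ i hi
    let _ : Module A M := Module.compHom M (algebraMap A B)
    have : IsScalarTower A B M := ⟨fun a b x => by
      change (a • b) • x = algebraMap A B a • b • x
      rw [Algebra.smul_def, mul_smul]⟩
    exact (Groth.Agent.LocCohLib.subsingleton_restrictScalars_iff B I M i).2 (h M i hi)
  · exact Groth.Agent.LocCohLib.subsingleton_of_faithfullyFlat B I i
      ((Groth.Agent.LocCohLib.subsingleton_restrictScalars_iff B I B i).1 (h B i hi))


end Groth.Agent.S0379
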