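import Groth.Statements.S1450
import Groth.Agent.Lib.Branch14.UnrEtaleGlobal
import Groth.Agent.S2787

set_option autoImplicit false
universe u
open FlatMor

namespace Groth.Agent.S1450

set_option backward.isDefEq.respectTransparency.types false
open AlgebraicGeometry

open AlgebraicGeometry CategoryTheory Limits in
/-- Let Y be integral with all local rings geometrically unibranch, X connected, and f : X → Y
unramified (formally unramified and locally of finite type) such that some point of X maps to the
generic point of Y. Then f is étale and X is irreducible. -/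
theorem result {X Y : Scheme.{u}} (f : X ⟶ Y) [IsIntegral Y] (hY : ∀ y : Y, CAlg2.IsGeomUnibranch (Y.presheaf.stalk y))
    [ConnectedSpace ↑X] [FormallyUnramified f] [LocallyOfFiniteType f] (hdom : genericPoint ↑Y ∈ Set.range ⇑f) :
    Etale f ∧ IrreducibleSpace ↑X := by
  obtain ⟨x₀, hx₀⟩ := hdom
  have hE := Groth.Agent.Branch14.etale_of_unramified_dominant f hY ⟨x₀, hx₀⟩
  obtain ⟨h1, h2⟩ := Groth.Agent.S2787.result f hY
  obtain ⟨Z, ⟨hZ, hxZ⟩, -⟩ := h1 x₀
  have hu : Z = Set.univ := (isClopen_iff.1 ⟨isClosed_of_mem_irreducibleComponents Z hZ, (h2 Z hZ).1⟩).resolve_left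
    (Set.Nonempty.ne_empty ⟨x₀, hxZ⟩)
  exact ⟨hE, { isPreirreducible_univ := hu ▸ hZ.1.2, toNonempty := ⟨x₀⟩ }⟩

end Groth.Agent.S1450
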