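import Groth.Statements.S2045
import Groth.Agent.Lib.GRing6.HensExc

set_option autoImplicit false
universe u
open CAlg

namespace Groth.Agent.S2045

/-- If `R` is a Noetherian local G-ring then its henselization is a G-ring. -/
theorem result {R S : Type u} [CommRing R] [IsLocalRing R] [IsNoetherianRing R]
    (hR : CAlg.IsGRing R) [CommRing S] [IsLocalRing S] [Algebra R S] [IsLocalHom (algebraMap R S)]
    [Hensel.IsHenselization R S] : CAlg.IsGRing S := by
  haveI : IsNoetherianRing S := Hens.henselization_isNoetherianRing R S
  exact GRing6.isGRing_of_local S
    ((GRing6.henselization_regular_formalFibres_iff R S).2 (GRing6.regularProp.hom_cpl_of_gAll R hR.2))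

end Groth.Agent.S2045
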