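import Mathlib.RingTheory.Henselian
import Mathlib.RingTheory.Ideal.Quotient.Operations
import Mathlib.RingTheory.Jacobson.Ideal
import Mathlib.RingTheory.Etale.Basic
import Mathlib.RingTheory.TensorProduct.Basic
import Mathlib.RingTheory.Finiteness.Defs
import Groth.Agent.Lib.Hens.EtaleLift

set_option autoImplicit false
universe u
namespace Hensel
end Hensel
open Hensel

namespace Groth.Agent.S0532

/-- If `A` is Henselian at `I`, every finite étale `A/I`-algebra is the base change of a finite étale
`A`-algebra. -/
theorem result (A : Type u) [CommRing A] (I : Ideal A) [HenselianRing A I]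
    (C : Type u) [CommRing C] [Algebra (A ⧸ I) C] [Module.Finite (A ⧸ I) C] [Algebra.Etale (A ⧸ I) C] :
    ∃ (B : Type u) (_ : CommRing B) (_ : Algebra A B), Module.Finite A B ∧ Algebra.Etale A B ∧
      Nonempty (TensorProduct A (A ⧸ I) B ≃ₐ[A ⧸ I] C) := by
  exact Hens.exists_finite_etale_lift ‹HenselianRing A I› C

end Groth.Agent.S0532
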