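import Groth.Statements.S0239
import Groth.Agent.Lib.FEtEq25.Graph
import Groth.Agent.S17971
import Groth.Agent.S0532

set_option autoImplicit false
universe u
open Pi1

namespace Groth.Agent.S0239

open AlgebraicGeometry CategoryTheory CategoryTheory.Limits in
/-- For a henselian pair (A, I) in Mathlib's sense, restricting finite etale covers from Spec A to the
closed subscheme Spec (A/I) is an equivalence of categories. -/
theorem result (A : Type u) [CommRing A] (I : Ideal A) [HenselianRing A I] :
    (FEt.restrict (Spec.map (CommRingCat.ofHom (Ideal.Quotient.mk I)))).IsEquivalence := by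
  have hcl := (Groth.Agent.S17971.result A I).1 inferInstance
  have hT : ∀ S : Set ↥(Spec (CommRingCat.of A)), IsClopen S → S.Nonempty →
      (S ∩ Set.range (Spec.map (CommRingCat.ofHom (Ideal.Quotient.mk I)))).Nonempty := by
    intro S hS hne
    by_contra hh
    rw [Set.not_nonempty_iff_eq_empty] at hh
    obtain ⟨U, -, hU⟩ := hcl _ (𝟙 _) inferInstance ∅ isClopen_empty
    have h1 := hU S ⟨hS, Set.eq_empty_iff_forall_notMem.2 fun p hp => by
      refine Set.eq_empty_iff_forall_notMem.1 hh
        (Spec.map (CommRingCat.ofHom (Ideal.Quotient.mk I))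
          ((pullback.snd (𝟙 (Spec (CommRingCat.of A))) (Spec.map (CommRingCat.ofHom (Ideal.Quotient.mk I)))) p))
        ⟨?_, _, rfl⟩
      rw [← Scheme.Hom.comp_apply, ← pullback.condition, Category.comp_id]
      exact hp⟩
    have h2 := hU ∅ ⟨isClopen_empty, Set.preimage_empty⟩
    exact hne.ne_empty (h1.trans h2.symm)
  refine { full := Groth.Agent.FEtEq25.full_restrict _ hT ?_,
           faithful := Groth.Agent.FEtEq25.faithful_restrict _ hT, essSurj := ⟨fun V => ?_⟩ }
  · intro Z h hh C hC
    obtain ⟨D, hD, -⟩ := hcl Z h hh.1 C hC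
    exact ⟨D, hD⟩
  · suffices key : ∀ {T : Scheme.{u}} (t : T ⟶ Spec (CommRingCat.of (A ⧸ I))) [IsFinite t] [Etale t],
        ∃ (Y : Scheme.{u}) (b : Y ⟶ Spec (CommRingCat.of A)) (_ : FEt.prop b)
          (e : pullback b (Spec.map (CommRingCat.ofHom (Ideal.Quotient.mk I))) ≅ T),
          e.hom ≫ t = pullback.snd _ _ by
      have : IsFinite V.hom := V.prop.1
      have : Etale V.hom := V.prop.2
      obtain ⟨Y, b, hb, e, he⟩ := key V.hom
      exact ⟨MorphismProperty.Over.mk ⊤ b hb, ⟨MorphismProperty.Over.isoMk e he⟩⟩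
    intro T t _ _
    have : IsAffine T := isAffine_of_isAffineHom t
    let ψ : CommRingCat.of (A ⧸ I) ⟶ Γ(T, ⊤) :=
      (Scheme.ΓSpecIso (CommRingCat.of (A ⧸ I))).inv ≫ t.appTop
    have hψ : T.isoSpec.hom ≫ Spec.map ψ = t := by
      simp [ψ, Scheme.isoSpec_hom_naturality_assoc]
    have hfin : ψ.hom.Finite := by
      change RingHom.toMorphismProperty RingHom.Finite _
      haveI := RingHom.toMorphismProperty_respectsIso_iff.mp RingHom.finite_respectsIso
      exact (MorphismProperty.cancel_left_of_respectsIso (RingHom.toMorphismProperty RingHom.Finite) _ _).2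
        t.finite_appTop
    have het : ψ.hom.Etale := by
      change RingHom.toMorphismProperty RingHom.Etale _
      haveI := RingHom.toMorphismProperty_respectsIso_iff.mp RingHom.Etale.respectsIso
      exact (MorphismProperty.cancel_left_of_respectsIso (RingHom.toMorphismProperty RingHom.Etale) _ _).2
        ((HasRingHomProperty.iff_of_isAffine (P := @Etale)).1 ‹_›)
    algebraize [ψ.hom]
    obtain ⟨B, _, _, hB1, hB2, ⟨e⟩⟩ := Groth.Agent.S0532.result A I Γ(T, ⊤)
    let b := Spec.map (CommRingCat.ofHom (algebraMap A B))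
    have hb : FEt.prop b := ⟨(IsFinite.SpecMap_iff _).2 (RingHom.finite_algebraMap.2 hB1),
      (HasRingHomProperty.Spec_iff (P := @Etale)).2 (RingHom.etale_algebraMap.2 hB2)⟩
    let e1 := pullbackSymmetry b (Spec.map (CommRingCat.ofHom (Ideal.Quotient.mk I)))
    let e2 := pullbackSpecIso A (A ⧸ I) B
    let e3 : Spec (CommRingCat.of (TensorProduct A (A ⧸ I) B)) ≅ Spec Γ(T, ⊤) :=
      Scheme.Spec.mapIso e.symm.toRingEquiv.toCommRingCatIso.op
    refine ⟨_, b, hb, e1 ≪≫ e2 ≪≫ e3 ≪≫ T.isoSpec.symm, ?_⟩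
    have h3 : e3.hom ≫ Spec.map ψ = Spec.map (CommRingCat.ofHom
        (algebraMap (A ⧸ I) (TensorProduct A (A ⧸ I) B))) := by
      show Spec.map _ ≫ Spec.map ψ = _
      rw [← Spec.map_comp]
      congr 1
      ext x
      exact e.symm.commutes (Ideal.Quotient.mk I x)
    show (e1.hom ≫ e2.hom ≫ e3.hom ≫ T.isoSpec.inv) ≫ t = pullback.snd b _
    rw [Category.assoc, Category.assoc, Category.assoc, ← hψ, Iso.inv_hom_id_assoc, h3]
    erw [pullbackSpecIso_hom_fst']
    exact pullbackSymmetry_hom_comp_fst _ _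
end Groth.Agent.S0239
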