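import Groth.Prelude.Def_Hens2
import Mathlib.RingTheory.Ideal.Over
import Mathlib.RingTheory.Ideal.Quotient.Operations
import Mathlib.RingTheory.FinitePresentation
import Mathlib.Algebra.Colimit.DirectLimit
import Mathlib.Order.DirectedInverseSystem
import Groth.Agent.Lib.HfpH6.Limits

set_option autoImplicit false
universe u
open Hensel

namespace Groth.Agent.S17613

/-- Let (A, I) be a Henselian pair and let B be a Henselization of the pair (R₀, IR₀) for a finitely
presented A-algebra R₀ (so A → B is Henselian finitely presented). Let (R_a) be a directed system of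
A-algebras with A-compatible transition maps such that each (R_a, IR_a) is a Henselian pair, and let
L be its direct limit with the induced A-algebra structure. Then the canonical map from the colimit
of the Hom_A(B, R_a) to Hom_A(B, L) is bijective: every A-algebra map B → L factors through some
R_a, and two A-algebra maps B → R_a whose composites with R_a → L agree become equal after passing
to some R_b. (Index set in the universe of the rings.) -/
theorem result (A : Type u) [CommRing A] (I : Ideal A)
    [HenselianRing A I] (R₀ : Type u) [CommRing R₀] [Algebra A R₀] [Algebra.FinitePresentation A R₀]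
    (B : Type u) [CommRing B] [Algebra R₀ B] [Algebra A B] [IsScalarTower A R₀ B]
    (hB : Hens2.IsPairHenselization R₀ (I.map (algebraMap A R₀)) B)
    {κ : Type u} [Preorder κ] [IsDirectedOrder κ] [Nonempty κ]
    (Ra : κ → Type u) [∀ a, CommRing (Ra a)] [∀ a, Algebra A (Ra a)]
    [∀ a, HenselianRing (Ra a) (I.map (algebraMap A (Ra a)))]
    (t : ∀ a b : κ, a ≤ b → (Ra a →+* Ra b)) [DirectedSystem Ra (fun a b h => t a b h)]
    (ht : ∀ (a b : κ) (h : a ≤ b), (t a b h).comp (algebraMap A (Ra a)) = algebraMap A (Ra b))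
    [Algebra A (DirectLimit Ra t)]
    (halg : ∀ (a : κ) (x : A), algebraMap A (DirectLimit Ra t) x =
      DirectLimit.Ring.of Ra t a (algebraMap A (Ra a) x)) :
    (∀ χ : B →ₐ[A] DirectLimit Ra t, ∃ (a : κ) (φ : B →ₐ[A] Ra a),
        ∀ x : B, DirectLimit.Ring.of Ra t a (φ x) = χ x) ∧
    ∀ (a : κ) (φ ψ : B →ₐ[A] Ra a),
      (∀ x : B, DirectLimit.Ring.of Ra t a (φ x) = DirectLimit.Ring.of Ra t a (ψ x)) →
      ∃ (b : κ) (h : a ≤ b), ∀ x : B, t a b h (φ x) = t a b h (ψ x) := by
  classical
  refine ⟨fun χ => ?_, fun a φ ψ h => ?_⟩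
  · obtain ⟨a, g, hg⟩ := HfpH6.exists_algHom_factor Ra t ht halg R₀ (χ.comp (IsScalarTower.toAlgHom A R₀ B))
    obtain ⟨φ, hφ, -⟩ := hB.2 (Ra a) _ g.toRingHom inferInstance (HfpH6.map_map_algHom I g).le
    have hc : ∀ x, φ (algebraMap A B x) = algebraMap A (Ra a) x := fun x => by
      rw [IsScalarTower.algebraMap_apply A R₀ B]
      exact (congr($hφ _)).trans (g.commutes x)
    refine ⟨a, { φ with commutes' := hc }, fun x => ?_⟩
    let fL : R₀ →ₐ[A] DirectLimit Ra t := χ.comp (IsScalarTower.toAlgHom A R₀ B)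
    let _ : Algebra R₀ (DirectLimit Ra t) := fL.toRingHom.toAlgebra
    let χ' : B →ₐ[R₀] DirectLimit Ra t := { χ.toRingHom with commutes' := fun r => rfl }
    let ψ' : B →ₐ[R₀] DirectLimit Ra t := { (DirectLimit.Ring.of Ra t a).comp φ with
      commutes' := fun r => (congrArg (DirectLimit.Ring.of Ra t a) congr($hφ r)).trans (hg r) }
    have hJ : (I.map (algebraMap A R₀)).map (algebraMap R₀ (DirectLimit Ra t)) ≤ Ideal.jacobson ⊥ := by
      refine (HfpH6.map_map_algHom I fL).le.trans ?_
      exact HfpH6.map_le_jacobson_directLimit Ra t ht halg I fun b =>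
        (inferInstance : HenselianRing (Ra b) (I.map (algebraMap A (Ra b)))).jac
    exact congr($(HfpH6.algHom_eq_of_jac hB hJ ψ' χ') x)
  · obtain ⟨n, π, hπ, -⟩ := Algebra.FinitePresentation.out (R := A) (A := R₀)
    obtain ⟨b, hab, hb⟩ := HfpH6.exists_map_eq_finset Ra t Finset.univ
      (fun k : Fin n => φ (algebraMap R₀ B (π (MvPolynomial.X k))))
      (fun k => ψ (algebraMap R₀ B (π (MvPolynomial.X k)))) fun k _ => h _
    let tb : Ra a →ₐ[A] Ra b := { t a b hab with commutes' := fun x => congr($(ht a b hab) x) }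
    refine ⟨b, hab, fun x => ?_⟩
    have hR : (tb.comp φ).comp (IsScalarTower.toAlgHom A R₀ B) = (tb.comp ψ).comp (IsScalarTower.toAlgHom A R₀ B) := by
      have h2 : ((tb.comp φ).comp (IsScalarTower.toAlgHom A R₀ B)).comp π =
          ((tb.comp ψ).comp (IsScalarTower.toAlgHom A R₀ B)).comp π :=
        MvPolynomial.algHom_ext fun k => hb k (Finset.mem_univ k)
      refine AlgHom.ext fun r => ?_
      obtain ⟨p, rfl⟩ := hπ r
      exact congr($h2 p)
    have h3 := (hB.2 (Ra b) _ ((tb.comp φ).comp (IsScalarTower.toAlgHom A R₀ B)).toRingHom inferInstance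
      (HfpH6.map_map_algHom I ((tb.comp φ).comp (IsScalarTower.toAlgHom A R₀ B))).le).unique
      (y₁ := (tb.comp φ).toRingHom) (y₂ := (tb.comp ψ).toRingHom) rfl (congrArg AlgHom.toRingHom hR).symm
    exact congr($h3 x)

end Groth.Agent.S17613
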