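import Groth.Prelude.Def_Hens2
import Mathlib.Algebra.Colimit.DirectLimit
import Mathlib.Order.DirectedInverseSystem
import Mathlib.RingTheory.Henselian
import Groth.Agent.Lib.Hens.PairApi

set_option autoImplicit false
universe u
namespace Hensel
end Hensel
open Hensel

namespace Groth.Agent.S9330

/-- Let `(A_i, I_i)` be a directed system of pairs (rings `A_i` with ideals `I_i`, the transition maps
sending `I_i` into `I_j`), with colimit ring `A` and `I ⊆ A` the ideal generated by (equivalently,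
the union of) the images of the `I_i`. For each `i` let `B_i` be a henselization of the pair `(A_i,
I_i)`, with the compatible transition maps `B_i → B_j` over `A_i → A_j` (these are the induced ones,
being unique), and give the colimit of the `B_i` the `A`-algebra structure induced by the maps `A_i
→ B_i`. Then `colim B_i`, with the extension of `I`, is a henselization of the pair `(A, I)`. (The
index set is taken in the universe of the rings; the statement fails for non-filtered colimits.) -/
theorem result {ι : Type u} [Preorder ι] [IsDirectedOrder ι] [Nonempty ι]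
    (G : ι → Type u) [∀ i, CommRing (G i)] (f : ∀ i j : ι, i ≤ j → (G i →+* G j))
    [DirectedSystem G (fun i j h => f i j h)] (I : ∀ i, Ideal (G i))
    (hI : ∀ (i j : ι) (h : i ≤ j), (I i).map (f i j h) ≤ I j)
    (B : ι → Type u) [∀ i, CommRing (B i)] [∀ i, Algebra (G i) (B i)]
    (hB : ∀ i, Hens2.IsPairHenselization (G i) (I i) (B i))
    (g : ∀ i j : ι, i ≤ j → (B i →+* B j)) [DirectedSystem B (fun i j h => g i j h)]
    (hg : ∀ (i j : ι) (h : i ≤ j), (g i j h).comp (algebraMap (G i) (B i)) = (algebraMap (G j) (B j)).comp (f i j h))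
    [Algebra (DirectLimit G f) (DirectLimit B g)]
    (halg : ∀ (i : ι) (x : G i), algebraMap (DirectLimit G f) (DirectLimit B g) (DirectLimit.Ring.of G f i x) =
      DirectLimit.Ring.of B g i (algebraMap (G i) (B i) x)) :
    Hens2.IsPairHenselization (DirectLimit G f) (⨆ i, (I i).map (DirectLimit.Ring.of G f i))
      (DirectLimit B g) := by
  let L := DirectLimit B g
  let oB := DirectLimit.Ring.of B g
  let oG := DirectLimit.Ring.of G f
  let J : ∀ i, Ideal (B i) := fun i => (I i).map (algebraMap (G i) (B i))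
  set K : Ideal L := (⨆ i, (I i).map (oG i)).map (algebraMap (DirectLimit G f) L) with hKdef
  have hJ : ∀ (i j : ι) (h : i ≤ j), (J i).map (g i j h) ≤ J j := fun i j h => by
    rw [Ideal.map_map, hg i j h, ← Ideal.map_map]
    exact Ideal.map_mono (hI i j h)
  have hof : ∀ (i j : ι) (h : i ≤ j) (x : B i), oB j (g i j h x) = oB i x := fun i j h x =>
    DirectLimit.Ring.of_f h x
  have hgu : ∀ (i j : ι) (h : i ≤ j) (x : B i), x ∈ J i → g i j h x ∈ J j := fun i j h x hx =>
    hJ i j h (Ideal.mem_map_of_mem _ hx)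
  have hex : ∀ x : L, ∃ i, ∃ y, oB i y = x := fun x => by
    obtain ⟨i, y, rfl⟩ := DirectLimit.exists_eq_mk _ x
    exact ⟨i, y, rfl⟩
  have heq : ∀ {i j : ι} (x : B i) (y : B j), oB i x = oB j y →
      ∃ k, ∃ (hik : i ≤ k) (hjk : j ≤ k), g i k hik x = g j k hjk y := fun x y h => Quotient.exact h
  have hK : ∀ i, (J i).map (oB i) ≤ K := fun i => by
    rw [Ideal.map_map, show (oB i).comp (algebraMap (G i) (B i)) =
      (algebraMap (DirectLimit G f) L).comp (oG i) from RingHom.ext fun x => (halg i x).symm,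
      ← Ideal.map_map]
    exact Ideal.map_mono (le_iSup (fun i => (I i).map (oG i)) i)
  have hmem : ∀ x, x ∈ K → ∃ i, ∃ y ∈ J i, oB i y = x := by
    let K' : Ideal L :=
      { carrier := {x | ∃ i, ∃ y ∈ J i, oB i y = x}
        zero_mem' := ⟨Classical.arbitrary ι, 0, zero_mem _, map_zero _⟩
        add_mem' := fun {a b} ⟨i, x, hx, hxa⟩ ⟨j, y, hy, hyb⟩ => by
          obtain ⟨k, hik, hjk⟩ := exists_ge_ge i j
          exact ⟨k, g i k hik x + g j k hjk y, add_mem (hgu i k hik x hx) (hgu j k hjk y hy),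
            by rw [map_add, hof, hof, hxa, hyb]⟩
        smul_mem' := fun c a ⟨i, x, hx, hxa⟩ => by
          obtain ⟨j, d, rfl⟩ := hex c
          obtain ⟨k, hik, hjk⟩ := exists_ge_ge i j
          exact ⟨k, g j k hjk d * g i k hik x, Ideal.mul_mem_left _ _ (hgu i k hik x hx),
            by rw [map_mul, hof, hof, hxa]; rfl⟩ }
    have : K ≤ K' := Ideal.map_le_iff_le_comap.mpr (iSup_le fun i =>
      Ideal.map_le_iff_le_comap.mpr fun x hx =>
        ⟨i, algebraMap (G i) (B i) x, Ideal.mem_map_of_mem _ hx, (halg i x).symm⟩)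
    exact fun x hx => this hx
  have hjac : K ≤ Ideal.jacobson ⊥ := fun x hx => by
    obtain ⟨i, a, ha, rfl⟩ := hmem x hx
    refine Ideal.mem_jacobson_bot.mpr fun y => ?_
    obtain ⟨j, b, rfl⟩ := hex y
    obtain ⟨k, hik, hjk⟩ := exists_ge_ge i j
    have := (Ideal.mem_jacobson_bot.mp ((hB k).1.jac (hgu i k hik a ha)) (g j k hjk b)).map (oB k)
    rwa [map_add, map_mul, map_one, hof, hof] at this
  refine ⟨⟨hjac, fun p hp a₀ h₀ h₁ => ?_⟩, fun C _ JC φ hC hφ => ?_⟩
  · classical
    cases subsingleton_or_nontrivial L with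
    | inl hs => exact ⟨a₀, Subsingleton.elim _ _, by simp⟩
    | inr hn =>
    have hfin : ∀ s : Finset ℕ, ∃ i, ∀ n ∈ s, ∃ y, oB i y = p.coeff n := by
      intro s
      induction s using Finset.induction with
      | empty => exact ⟨Classical.arbitrary ι, by simp⟩
      | insert n s _ ih =>
        obtain ⟨i, hi⟩ := ih
        obtain ⟨j, y, hy⟩ := hex (p.coeff n)
        obtain ⟨k, hik, hjk⟩ := exists_ge_ge i j
        refine ⟨k, fun m hm => ?_⟩
        rcases Finset.mem_insert.mp hm with rfl | hm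
        · exact ⟨g j k hjk y, by rw [hof, hy]⟩
        · obtain ⟨z, hz⟩ := hi m hm
          exact ⟨g i k hik z, by rw [hof, hz]⟩
    obtain ⟨i, hi⟩ := hfin p.support
    have hl : p ∈ Polynomial.lifts (oB i) := (Polynomial.lifts_iff_coeff_lifts p).mpr fun n => by
      by_cases hn : n ∈ p.support
      · exact hi n hn
      · exact ⟨0, by rw [map_zero, Polynomial.notMem_support_iff.mp hn]⟩
    obtain ⟨q, hqp, -, hq⟩ := Polynomial.lifts_and_degree_eq_and_monic hl hp
    obtain ⟨u, hu⟩ := h₁.exists_right_inv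
    obtain ⟨u, rfl⟩ := Ideal.Quotient.mk_surjective u
    rw [← map_mul, ← map_one (Ideal.Quotient.mk K), Ideal.Quotient.eq] at hu
    obtain ⟨j₁, b₁, hb₁, hb₁'⟩ := hmem _ h₀
    obtain ⟨j₂, b₂, hb₂, hb₂'⟩ := hmem _ hu
    obtain ⟨j₃, a, rfl⟩ := hex a₀
    obtain ⟨j₄, v, rfl⟩ := hex u
    obtain ⟨m₁, him, h1m⟩ := exists_ge_ge i j₁
    obtain ⟨m₂, h2m, h3m⟩ := exists_ge_ge j₂ j₃
    obtain ⟨m₃, hm₁, hm₂⟩ := exists_ge_ge m₁ m₂
    obtain ⟨m, hm₃, h4m⟩ := exists_ge_ge m₃ j₄
    replace him := him.trans (hm₁.trans hm₃)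
    replace h1m := h1m.trans (hm₁.trans hm₃)
    replace h2m := h2m.trans (hm₂.trans hm₃)
    replace h3m := h3m.trans (hm₂.trans hm₃)
    let qm := q.map (g i m him)
    have hqm : qm.map (oB m) = p := by
      rw [Polynomial.map_map, show (oB m).comp (g i m him) = oB i from RingHom.ext (hof i m him), hqp]
    have hev : ∀ (n : ι) (P : Polynomial (B n)) (y : B n),
        oB n (P.eval y) = (P.map (oB n)).eval (oB n y) := fun n P y =>
      (by rw [Polynomial.eval_map, Polynomial.eval₂_at_apply])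
    let am := g j₃ m h3m a
    have e1 : oB m (qm.eval am) = oB m (g j₁ m h1m b₁) := by
      rw [hev, hqm, hof, hof, hb₁']
    have e2 : oB m (qm.derivative.eval am * g j₄ m h4m v - 1) = oB m (g j₂ m h2m b₂) := by
      rw [map_sub, map_mul, map_one, hev, ← Polynomial.derivative_map, hqm, hof, hof, hof, hb₂']
    obtain ⟨k₁, hk, hk', hk₁⟩ := heq _ _ e1
    obtain ⟨k₂, hl', hl'', hk₂⟩ := heq _ _ e2
    obtain ⟨k, h1k, h2k⟩ := exists_ge_ge k₁ k₂
    have hmk : m ≤ k := hk.trans h1k
    have hgg : ∀ (a b c : ι) (hab : a ≤ b) (hbc : b ≤ c) (x : B a),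
        g b c hbc (g a b hab x) = g a c (hab.trans hbc) x := fun a b c hab hbc x =>
      DirectedSystem.map_map (f := fun i j h => g i j h) hab hbc x
    have hm1 : g m k hmk (qm.eval am) ∈ J k := by
      rw [← hgg m k₁ k hk h1k, hk₁, hgg, hgg]
      exact hgu _ _ _ _ hb₁
    have hm2 : g m k hmk (qm.derivative.eval am * g j₄ m h4m v - 1) ∈ J k := by
      rw [← hgg m k₂ k hl' h2k, hk₂, hgg, hgg]
      exact hgu _ _ _ _ hb₂
    obtain ⟨r, hr, hr'⟩ := (hB k).1.is_henselian (qm.map (g m k hmk)) ((hq.map _).map _)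
      (g m k hmk am) (by rwa [Polynomial.eval_map, Polynomial.eval₂_at_apply]) (by
        rw [Polynomial.derivative_map, Polynomial.eval_map, Polynomial.eval₂_at_apply]
        refine IsUnit.of_mul_eq_one (Ideal.Quotient.mk _ (g m k hmk (g j₄ m h4m v))) ?_
        rw [← map_mul, ← map_one (Ideal.Quotient.mk (J k)), Ideal.Quotient.eq, ← map_mul,
          ← map_one (g m k hmk), ← map_sub]
        exact hm2)
    refine ⟨oB k r, ?_, ?_⟩
    · have := congrArg (oB k) (show (qm.map (g m k hmk)).eval r = 0 from hr)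
      rw [hev, Polynomial.map_map, show (oB k).comp (g m k hmk) = oB m from
        RingHom.ext (hof m k hmk), hqm, map_zero] at this
      exact this
    · have := hK k (Ideal.mem_map_of_mem (oB k) hr')
      rwa [map_sub, hof, hof] at this
  · have key : ∀ i, ∃! ψ : B i →+* C, ψ.comp (algebraMap (G i) (B i)) = φ.comp (oG i) := fun i =>
      (hB i).2 C JC _ hC (le_trans (by
        rw [← Ideal.map_map]
        exact Ideal.map_mono (le_iSup (fun i => (I i).map (oG i)) i)) hφ)
    choose ψ hψ hψu using key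
    let Φ : L →+* C := DirectLimit.Ring.lift B g C ψ fun i j h x => by
      refine congr($(hψu i ((ψ j).comp (g i j h)) ?_) x)
      show ((ψ j).comp (g i j h)).comp _ = _
      rw [RingHom.comp_assoc, hg i j h, ← RingHom.comp_assoc, hψ j, RingHom.comp_assoc]
      exact RingHom.ext fun x => congrArg φ (DirectLimit.Ring.of_f h x)
    refine ⟨Φ, RingHom.ext fun x => ?_, fun Φ' hΦ' => RingHom.ext fun x => ?_⟩
    · obtain ⟨i, y, rfl⟩ := DirectLimit.exists_eq_mk _ x
      show Φ (algebraMap (DirectLimit G f) L (oG i y)) = φ (oG i y)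
      rw [halg]
      exact congr($(hψ i) y)
    · obtain ⟨i, y, rfl⟩ := hex x
      refine congr($(hψu i (Φ'.comp (oB i)) ?_) y)
      show (Φ'.comp (oB i)).comp _ = _
      refine RingHom.ext fun z => ?_
      show Φ' (oB i (algebraMap (G i) (B i) z)) = φ (oG i z)
      rw [← halg]
      exact congr($hΦ' (oG i z))

end Groth.Agent.S9330
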