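import Groth.Statements.S1998
import Groth.Agent.Lib.Hens.PairOps
import Mathlib.Algebra.Colimit.Ring

set_option autoImplicit false
universe u
open EtAlg

namespace Groth.Agent.S1998

/-- Let (A_j, I_j) be a directed system of henselian pairs (ring maps A_j -> A_k for j ≤ k carrying I_j
into I_k). Then the direct limit A of the A_j together with the ideal generated by the images of the
I_j is a henselian pair. -/
theorem result {ι : Type u} [Preorder ι] [IsDirected ι (· ≤ ·)] [Nonempty ι]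
    (G : ι → Type u) [∀ i, CommRing (G i)] (f : ∀ i j, i ≤ j → G i →+* G j)
    [DirectedSystem G fun i j h => f i j h] (I : ∀ i, Ideal (G i))
    (hI : ∀ i j (h : i ≤ j), (I i).map (f i j h) ≤ I j) (hh : ∀ i, HenselianRing (G i) (I i)) :
    HenselianRing (Ring.DirectLimit G fun i j h => f i j h)
      (⨆ i, (I i).map (Ring.DirectLimit.of G (fun i j h => f i j h) i)) := by
  classical
  let ofi := fun i => Ring.DirectLimit.of G (fun i j h => f i j h) i
  have hmem : ∀ x ∈ ⨆ i, (I i).map (ofi i), ∃ i, ∃ z ∈ I i, ofi i z = x := by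
    intro x hx
    induction hx using Submodule.iSup_induction' with
    | mem i x hx =>
      induction hx using Submodule.span_induction with
      | mem x hx => obtain ⟨z, hz, rfl⟩ := hx; exact ⟨i, z, hz, rfl⟩
      | zero => exact ⟨i, 0, zero_mem _, map_zero _⟩
      | add x y _ _ hx hy =>
        obtain ⟨a, u, hu, rfl⟩ := hx
        obtain ⟨b, v, hv, rfl⟩ := hy
        obtain ⟨c, hac, hbc⟩ := directed_of (· ≤ ·) a b
        refine ⟨c, f a c hac u + f b c hbc v, add_mem (hI a c hac (Ideal.mem_map_of_mem _ hu))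
          (hI b c hbc (Ideal.mem_map_of_mem _ hv)), ?_⟩
        rw [map_add]
        congr 1 <;> exact Ring.DirectLimit.of_f _ _
      | smul r x _ hx =>
        obtain ⟨a, u, hu, rfl⟩ := hx
        obtain ⟨b, r, rfl⟩ := Ring.DirectLimit.exists_of r
        obtain ⟨c, hac, hbc⟩ := directed_of (· ≤ ·) a b
        refine ⟨c, f b c hbc r * f a c hac u, Ideal.mul_mem_left _ _ (hI a c hac (Ideal.mem_map_of_mem _ hu)), ?_⟩
        rw [map_mul, smul_eq_mul]
        congr 1 <;> exact Ring.DirectLimit.of_f _ _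
    | zero => obtain ⟨i⟩ := ‹Nonempty ι›; exact ⟨i, 0, zero_mem _, map_zero _⟩
    | add x y _ _ hx hy =>
      obtain ⟨a, u, hu, rfl⟩ := hx
      obtain ⟨b, v, hv, rfl⟩ := hy
      obtain ⟨c, hac, hbc⟩ := directed_of (· ≤ ·) a b
      refine ⟨c, f a c hac u + f b c hbc v, add_mem (hI a c hac (Ideal.mem_map_of_mem _ hu))
        (hI b c hbc (Ideal.mem_map_of_mem _ hv)), ?_⟩
      rw [map_add]
      congr 1 <;> exact Ring.DirectLimit.of_f _ _
  have hof : ∀ {i j : ι} (h : i ≤ j) (x : G i), ofi j (f i j h x) = ofi i x := fun h x =>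
    Ring.DirectLimit.of_f h x
  refine ⟨fun x hx => ?_, fun P hP a₀ h₀ h₁ => ?_⟩
  · rw [Ideal.mem_jacobson_bot]
    intro y
    obtain ⟨i, z, hz, rfl⟩ := hmem x hx
    obtain ⟨j, y, rfl⟩ := Ring.DirectLimit.exists_of y
    obtain ⟨c, hic, hjc⟩ := directed_of (· ≤ ·) i j
    have := (Ideal.mem_jacobson_bot.1 ((hh c).jac (hI i c hic (Ideal.mem_map_of_mem _ hz)))) (f j c hjc y)
    have h2 := this.map (ofi c)
    rwa [map_add, map_mul, map_one, hof, hof] at h2
  · obtain ⟨i₁, q, hq⟩ := Ring.DirectLimit.Polynomial.exists_of P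
    obtain ⟨i₂, b, rfl⟩ := Ring.DirectLimit.exists_of a₀
    obtain ⟨i₃, z, hz, hze⟩ := hmem _ h₀
    obtain ⟨w, hw⟩ := h₁.exists_right_inv
    obtain ⟨w, rfl⟩ := Ideal.Quotient.mk_surjective w
    rw [← map_mul, ← map_one (Ideal.Quotient.mk _), Ideal.Quotient.eq] at hw
    obtain ⟨i₄, w, rfl⟩ := Ring.DirectLimit.exists_of w
    obtain ⟨i₅, z', hz', hze'⟩ := hmem _ hw
    obtain ⟨c, hc⟩ := Finite.exists_le (![i₁, i₂, i₃, i₄, i₅])
    have h1 : i₁ ≤ c := hc 0
    have h2 : i₂ ≤ c := hc 1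
    have h3 : i₃ ≤ c := hc 2
    have h4 : i₄ ≤ c := hc 3
    have h5 : i₅ ≤ c := hc 4
    let q' : Polynomial (G c) := q.map (f i₁ c h1)
    have hq' : q'.map (ofi c) = P := by
      rw [Polynomial.map_map, ← hq]
      congr 1
      exact RingHom.ext (hof h1)
    have hev : ∀ R : Polynomial (G c), ofi c (R.eval (f i₂ c h2 b)) = (R.map (ofi c)).eval (ofi i₂ b) := fun R => by
      rw [← Polynomial.eval_map_apply, hof]
    -- move to a stage where the data hold exactly
    obtain ⟨d, hcd, e1, e2, e3⟩ : ∃ (d : ι) (hcd : c ≤ d), (q'.map (f c d hcd)).Monic ∧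
        f c d hcd (q'.eval (f i₂ c h2 b)) = f c d hcd (f i₃ c h3 z) ∧
        f c d hcd (q'.derivative.eval (f i₂ c h2 b) * f i₄ c h4 w - 1) = f c d hcd (f i₅ c h5 z') := by
      have z1 : ofi c (q'.eval (f i₂ c h2 b) - f i₃ c h3 z) = 0 := by
        rw [map_sub, hev, hq', hof, sub_eq_zero]
        exact hze.symm
      have z2 : ofi c (q'.derivative.eval (f i₂ c h2 b) * f i₄ c h4 w - 1 - f i₅ c h5 z') = 0 := by
        rw [map_sub, map_sub, map_mul, hev, ← Polynomial.derivative_map, hq', hof, hof, map_one, sub_eq_zero]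
        exact hze'.symm
      have z3 : ofi c (q'.coeff P.natDegree - 1) = 0 := by
        rw [map_sub, map_one, ← Polynomial.coeff_map, hq', hP.coeff_natDegree, sub_self]
      obtain ⟨d₁, hd₁, e1⟩ := Ring.DirectLimit.of.zero_exact z1
      obtain ⟨d₂, hd₂, e2⟩ := Ring.DirectLimit.of.zero_exact z2
      obtain ⟨d₃, hd₃, e3⟩ := Ring.DirectLimit.of.zero_exact z3
      have hco : ∀ n, P.natDegree < n → ∃ (d : ι) (h : c ≤ d), f c d h (q'.coeff n) = 0 := fun n hn => by
        obtain ⟨d, hd, e⟩ := Ring.DirectLimit.of.zero_exact (G := G) (f' := fun i j h => f i j h) (i := c)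
          (x := q'.coeff n)
          (show ofi c (q'.coeff n) = 0 by
            rw [← Polynomial.coeff_map, hq', Polynomial.coeff_eq_zero_of_natDegree_lt hn])
        exact ⟨d, hd, e⟩
      choose! dd hdd hdde using hco
      obtain ⟨d, hd⟩ := Finset.exists_le (({c, d₁, d₂, d₃} : Finset ι) ∪ (Finset.Ioc P.natDegree q'.natDegree).image dd)
      have hcd : c ≤ d := hd c (by simp)
      have push : ∀ (j : ι) (hj : c ≤ j) (hjd : j ≤ d) (x : G c), f c j hj x = 0 → f c d hcd x = 0 := fun j hj hjd x hx => by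
        rw [← DirectedSystem.map_map (f := fun i j h => f i j h) hj hjd x, hx, map_zero]
      refine ⟨d, hcd, Polynomial.monic_of_natDegree_le_of_coeff_eq_one P.natDegree ?_ ?_, ?_, ?_⟩
      · refine Polynomial.natDegree_le_iff_coeff_eq_zero.2 fun n hn => ?_
        rw [Polynomial.coeff_map]
        by_cases hn' : n ≤ q'.natDegree
        · exact push _ (hdd n hn) (hd _ (Finset.mem_union_right _ (Finset.mem_image_of_mem _ (Finset.mem_Ioc.2 ⟨hn, hn'⟩)))) _
            (hdde n hn)
        · rw [Polynomial.coeff_eq_zero_of_natDegree_lt (not_le.1 hn'), map_zero]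
      · rw [Polynomial.coeff_map, ← sub_eq_zero, ← map_one (f c d hcd), ← map_sub]
        exact push d₃ hd₃ (hd _ (by simp)) _ e3
      · rw [← sub_eq_zero, ← map_sub]
        exact push d₁ hd₁ (hd _ (by simp)) _ e1
      · rw [← sub_eq_zero, ← map_sub]
        exact push d₂ hd₂ (hd _ (by simp)) _ e2
    have hzI : f c d hcd (f i₃ c h3 z) ∈ I d := hI c d hcd (Ideal.mem_map_of_mem _ (hI i₃ c h3 (Ideal.mem_map_of_mem _ hz)))
    have hzI' : f c d hcd (f i₅ c h5 z') ∈ I d := hI c d hcd (Ideal.mem_map_of_mem _ (hI i₅ c h5 (Ideal.mem_map_of_mem _ hz')))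
    obtain ⟨a, ha, haI⟩ := (hh d).is_henselian (q'.map (f c d hcd)) e1 (f c d hcd (f i₂ c h2 b))
      (by rw [Polynomial.eval_map_apply, e2]; exact hzI)
      (by
        refine IsUnit.of_mul_eq_one (Ideal.Quotient.mk _ (f c d hcd (f i₄ c h4 w))) ?_
        rw [← map_mul, ← map_one (Ideal.Quotient.mk _), Ideal.Quotient.eq, Polynomial.derivative_map,
          Polynomial.eval_map_apply, ← map_mul, ← map_one (f c d hcd), ← map_sub, e3]
        exact hzI')
    refine ⟨ofi d a, ?_, ?_⟩
    · rw [← hq', show (q'.map (ofi c)).IsRoot (ofi d a) ↔ (q'.map (ofi c)).eval (ofi d a) = 0 from Iff.rfl]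
      have := congrArg (ofi d) ha.eq_zero
      rw [map_zero, ← Polynomial.eval_map_apply, Polynomial.map_map] at this
      rwa [show (ofi d).comp (f c d hcd) = ofi c from RingHom.ext (hof hcd)] at this
    · rw [← hof h2 b, ← hof hcd (f i₂ c h2 b), ← map_sub]
      exact le_iSup (fun i => (I i).map (ofi i)) d (Ideal.mem_map_of_mem _ haI)

end Groth.Agent.S1998
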