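import Groth.Statements.S11449
import Groth.Agent.Lib.AB5.Basic
import Groth.Agent.Lib.McCoy3.HilbertBurchConverse

set_option autoImplicit false
universe u
open DefT

namespace Groth.Agent.S11449

open Groth.Agent in
theorem fin (A : Type u) [CommRing A] [IsRegularLocalRing A] (I : Ideal A) (n m : ℕ) (hnm : n = m + 1)
    (Ψ : Matrix (Fin n) (Fin m) A) (π : (Fin n → A) →ₗ[A] A) (hinj : Function.Injective Ψ.mulVecLin)
    (hex : LinearMap.ker π = LinearMap.range Ψ.mulVecLin) (hπ : LinearMap.range π = I) (hn : I.spanFinrank = n)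
    {t d : ℕ} (htd : t = d + 2) (ht : ringKrullDim A = t) (hdd : ringKrullDim (A ⧸ I) = (d : WithBot ℕ∞)) :
    ∃ (r : ℕ) (φ : Matrix (Fin (r + 1)) (Fin r) A),
      Ideal.span (Set.range (fun i : Fin (r + 1) => (-1 : A) ^ (i : ℕ) * (φ.submatrix i.succAbove id).det)) = I ∧
      I.spanFinrank = r + 1 ∧
      Function.Injective φ.mulVecLin ∧
      LinearMap.range φ.mulVecLin =
        LinearMap.ker (Fintype.linearCombination A (fun i : Fin (r + 1) => (-1 : A) ^ (i : ℕ) * (φ.submatrix i.succAbove id).det)) := by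
  subst hnm
  obtain ⟨a, ha, haI⟩ := McCoy3.exists_factor hinj hex
  rw [hπ] at haI
  have hau : IsUnit a := by
    by_contra hau
    have h1 := ringKrullDim_quotient_span_singleton_succ_eq_ringKrullDim_of_mem_nonZeroDivisors ha
      ((IsLocalRing.mem_maximalIdeal a).2 hau)
    have h2 : ringKrullDim (A ⧸ Ideal.span {a}) ≤ ringKrullDim (A ⧸ I) :=
      ringKrullDim_le_of_surjective (Ideal.Quotient.factor (haI.le.trans Ideal.mul_le_left))
        (Ideal.Quotient.factor_surjective _)
    rw [hdd] at h2
    have h3 : (t : WithBot ℕ∞) ≤ (d : WithBot ℕ∞) + 1 := by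
      rw [← ht, ← h1]
      exact add_le_add_left h2 1
    have : t ≤ d + 1 := by exact_mod_cast h3
    omega
  have hIm : CAlgX.minorIdeal Ψ m = I := by
    rw [haI, Ideal.span_singleton_eq_top.2 hau, Ideal.top_mul]
  refine ⟨m, Ψ, ?_, hn, hinj, ?_⟩
  · exact (McCoy3.minorIdeal_eq_span Ψ).symm.trans hIm
  · obtain ⟨x, y, hx, hy, hxr, hy'⟩ := McCoy3.exists_pair Ψ π hinj hex
    have h := McCoy3.ker_eq_range_of_regular Ψ hx hy
      (fun p q e => sub_eq_zero.1 (mem_nonZeroDivisors_iff_right.1 hxr _ (by
        have e' : x * p = x * q := e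
        linear_combination e'))) hy' (one_mem (nonZeroDivisors A))
    simp only [one_mul] at h
    exact h.symm

/-- Let A be a regular local ring and I an ideal such that A/I is a Cohen–Macaulay local ring whose
Krull dimension is dim A − 2. Then for some r there is an (r+1) × r matrix φ with entries in A such
that, writing f_i for (−1)^i times the determinant of φ with its i-th row removed (i = 0, …, r), the
elements f_0, …, f_r generate I, no family of fewer than r + 1 elements generates I, multiplication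
by φ is an injective map A^r → A^{r+1}, and the image of that map is exactly the kernel of the map
A^{r+1} → A sending v to Σ_i v_i f_i; together with A → A/I this is a free resolution 0 → A^r →
A^{r+1} → A → A/I → 0. -/
theorem result
    (A : Type u) [CommRing A] [IsRegularLocalRing A] (I : Ideal A)
    [LocCoh.IsCohenMacaulayLocalRing (A ⧸ I)]
    (hcodim : ringKrullDim (A ⧸ I) + 2 = ringKrullDim A) :
    ∃ (r : ℕ) (φ : Matrix (Fin (r + 1)) (Fin r) A),
      Ideal.span (Set.range (fun i : Fin (r + 1) => (-1 : A) ^ (i : ℕ) * (φ.submatrix i.succAbove id).det)) = I ∧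
      I.spanFinrank = r + 1 ∧
      Function.Injective φ.mulVecLin ∧
      LinearMap.range φ.mulVecLin =
        LinearMap.ker (Fintype.linearCombination A (fun i : Fin (r + 1) => (-1 : A) ^ (i : ℕ) * (φ.submatrix i.succAbove id).det)) := by
  classical
  open Groth.Agent RegLoc in
  haveI : Nontrivial (A ⧸ I) := inferInstance
  have hI0 : I ≠ ⊤ := Ideal.Quotient.nontrivial_iff.1 inferInstance
  haveI : FiniteRingKrullDim A := inferInstance
  obtain ⟨d, hd⟩ := DepthLib.exists_depth_eq_natCast (R := A) (M := A ⧸ I)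
  obtain ⟨t, ht⟩ : ∃ t : ℕ, ringKrullDim A = t := ⟨_, IsRegularLocalRing.spanFinrank_maximalIdeal.symm⟩
  have hdd : ringKrullDim (A ⧸ I) = (d : WithBot ℕ∞) := by
    have h : Module.supportDim (A ⧸ I) (A ⧸ I) = ((LocCoh.depth (A ⧸ I) (A ⧸ I) : ℕ∞) : WithBot ℕ∞) :=
      LocCoh.IsCohenMacaulayLocalRing.supportDim_eq_depth
    rw [Module.supportDim_self_eq_ringKrullDim,
      ← FlatDepth.depth_eq_of_surjective (A := A) (B := A ⧸ I) (M := A ⧸ I) Ideal.Quotient.mk_surjective, hd] at h
    exact h
  have htd : t = d + 2 := by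
    rw [hdd, ht] at hcodim
    exact_mod_cast hcodim.symm
  have hpd : RegLoc.PD A (A ⧸ I) 2 := (AB5.pd_iff_of_regular (M := A ⧸ I) ht hd 2).2 htd.le
  have hpdI : RegLoc.PD A ↥I 1 :=
    ((RegLoc.pd_succ_iff I.mkQ I.mkQ_surjective).1 hpd).congr (LinearEquiv.ofEq _ _ I.ker_mkQ)
  have hIfg : I.FG := IsNoetherian.noetherian I
  haveI : Fintype (Submodule.generators I) := (Submodule.FG.finite_generators hIfg).fintype
  let n := Fintype.card (Submodule.generators I)
  let eg := (Fintype.equivFin (Submodule.generators I)).symm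
  let π : (Fin n → A) →ₗ[A] A := Fintype.linearCombination A (fun i => ((eg i : Submodule.generators I) : A))
  have hn : I.spanFinrank = n := by
    rw [← Submodule.FG.generators_ncard hIfg, Set.ncard_eq_toFinset_card', Set.toFinset_card]
  have hπ : LinearMap.range π = I := by
    conv_rhs => rw [← Submodule.span_generators I]
    rw [Fintype.range_linearCombination]
    exact congrArg _ ((eg.surjective.range_comp Subtype.val).trans Subtype.range_coe)
  let f : (Fin n → A) →ₗ[A] ↥I := π.codRestrict I fun v => hπ.le ⟨v, rfl⟩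
  have hf : Function.Surjective f := fun ⟨x, hx⟩ => by
    rw [← hπ] at hx
    obtain ⟨v, hv⟩ := hx
    exact ⟨v, Subtype.ext hv⟩
  haveI : Module.Projective A (LinearMap.ker f) := RegLoc.pd_zero_iff.1 ((RegLoc.pd_succ_iff f hf).1 hpdI)
  haveI : Module.Finite A (LinearMap.ker f) := Module.Finite.iff_fg.2 (IsNoetherian.noetherian _)
  haveI : Module.Free A (LinearMap.ker f) := Module.free_of_flat_of_isLocalRing
  let b := Module.finBasis A (LinearMap.ker f)
  let L : (Fin (Module.finrank A (LinearMap.ker f)) → A) →ₗ[A] (Fin n → A) :=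
    (LinearMap.ker f).subtype ∘ₗ b.equivFun.symm.toLinearMap
  let Ψ := LinearMap.toMatrix' L
  have hΨL : Ψ.mulVecLin = L := (Matrix.toLin'_apply' Ψ).symm.trans (Matrix.toLin'_toMatrix' L)
  have hinj : Function.Injective Ψ.mulVecLin := by
    rw [hΨL]; exact (LinearMap.ker f).injective_subtype.comp b.equivFun.symm.injective
  have hex : LinearMap.ker π = LinearMap.range Ψ.mulVecLin := by
    rw [hΨL, LinearMap.range_comp, LinearEquiv.range, Submodule.map_top, Submodule.range_subtype]
    exact (LinearMap.ker_codRestrict _ _ _).symm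
  have hbot : I ≠ ⊥ := by
    rintro rfl
    rw [ringKrullDim_eq_of_ringEquiv (RingEquiv.quotientBot A), ht] at hdd
    have : t = d := by exact_mod_cast hdd
    omega
  have hnm := McCoy3.rank_eq_succ Ψ π hinj hex (hπ ▸ hbot)
  exact fin A I n _ hnm Ψ π hinj hex hπ hn htd ht hdd

end Groth.Agent.S11449
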