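import Groth.Statements.S11460
import Groth.Agent.S11449
import Groth.Agent.Lib.SMT.CMBasic
import Groth.Agent.Lib.CenterCoh13.Basic
import Groth.Agent.Lib.SmoothReg17.Basic
import Groth.Agent.Lib.McCoy3.HilbertBurch

set_option autoImplicit false
universe u
open CategoryTheory AlgebraicGeometry
open DefT

namespace Groth.Agent.S11460

open Groth.Agent Matrix

section
variable {A B : Type*} [CommRing A] [CommRing B] {r : ℕ}

/-- the signed minors -/
noncomputable def mnr (φ : Matrix (Fin (r + 1)) (Fin r) A) (i : Fin (r + 1)) : A :=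
  (-1 : A) ^ (i : ℕ) * (φ.submatrix i.succAbove id).det

theorem mnr_map (f : A →+* B) (φ : Matrix (Fin (r + 1)) (Fin r) A) (i) : mnr (φ.map f) i = f (mnr φ i) := by
  simp [mnr, Matrix.submatrix_map, RingHom.map_det]

theorem mnr_smul (u : A) (φ : Matrix (Fin (r + 1)) (Fin r) A) (i) : mnr (u • φ) i = u ^ r * mnr φ i := by
  simp [mnr, Matrix.submatrix_smul, Matrix.det_smul]; ring

theorem span_mul_isUnit {u : A} (hu : IsUnit u) (v : Fin (r + 1) → A) :
    Ideal.span (Set.range fun i => u * v i) = Ideal.span (Set.range v) := by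
  refine le_antisymm (Ideal.span_le.2 ?_) (Ideal.span_le.2 ?_)
  · rintro _ ⟨i, rfl⟩; exact Ideal.mul_mem_left _ _ (Ideal.subset_span ⟨i, rfl⟩)
  · rintro _ ⟨i, rfl⟩; exact (Ideal.unit_mul_mem_iff_mem _ hu).1 (Ideal.subset_span ⟨i, rfl⟩)

theorem mapMulVec (f : A →+* B) (φ : Matrix (Fin (r + 1)) (Fin r) A) (v : Fin r → A) :
    f ∘ (φ *ᵥ v) = φ.map f *ᵥ (f ∘ v) := funext fun i => RingHom.map_mulVec f φ v i

/-- The three conditions. -/
def Good (I : Ideal A) (φ : Matrix (Fin (r + 1)) (Fin r) A) : Prop :=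
  Ideal.span (Set.range (mnr φ)) = I ∧ (∀ v, φ *ᵥ v = 0 → v = 0) ∧
    ∀ z : Fin (r + 1) → A, ∑ i, z i * mnr φ i = 0 → ∃ v, φ *ᵥ v = z

theorem Good.smul {I : Ideal A} {φ : Matrix (Fin (r + 1)) (Fin r) A} (h : Good I φ) {u : A} (hu : IsUnit u) :
    Good I (u • φ) := by
  refine ⟨?_, fun v hv => ?_, fun z hz => ?_⟩
  · rw [funext (mnr_smul u φ), span_mul_isUnit (hu.pow r)]; exact h.1
  · rw [Matrix.smul_mulVec] at hv
    exact h.2.1 v ((hu.smul_eq_zero).1 hv)
  · simp only [mnr_smul] at hz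
    have h0 : u ^ r * ∑ i, z i * mnr φ i = 0 := by
      rw [Finset.mul_sum, ← hz]; exact Finset.sum_congr rfl fun i _ => by ring
    obtain ⟨v, hv⟩ := h.2.2 z (((hu.pow r).mul_right_eq_zero).1 h0)
    obtain ⟨u, rfl⟩ := hu
    exact ⟨(↑u⁻¹ : A) • v, by rw [Matrix.smul_mulVec, Matrix.mulVec_smul, hv, smul_smul, Units.mul_inv, one_smul]⟩

end

theorem exists_kill {A : Type*} [CommRing A] {M : Type*} [AddCommGroup M] [Module A M] (S : Submonoid A)
    {N : Submodule A M} (hN : N.FG) (T : Submodule A M) (h : ∀ x ∈ N, ∃ s ∈ S, s • x ∈ T) :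
    ∃ s ∈ S, ∀ x ∈ N, s • x ∈ T := by
  classical
  obtain ⟨t, rfl⟩ := hN
  choose! s hs hs' using h
  refine ⟨∏ x ∈ t, s x, prod_mem fun x hx => hs x (Submodule.subset_span hx), fun x hx => ?_⟩
  induction hx using Submodule.span_induction with
  | mem y hy => rw [← Finset.prod_erase_mul _ _ hy, mul_smul]; exact T.smul_mem _ (hs' y (Submodule.subset_span hy))
  | zero => rw [smul_zero]; exact T.zero_mem
  | add a b _ _ ha hb => rw [smul_add]; exact T.add_mem ha hb
  | smul c a _ ha => rw [smul_comm]; exact T.smul_mem _ ha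

theorem spread {A : Type u} [CommRing A] [IsNoetherianRing A] (S : Submonoid A) (R : Type u) [CommRing R]
    [Algebra A R] [IsLocalization S R] (I : Ideal A) {r : ℕ} (φ : Matrix (Fin (r + 1)) (Fin r) R)
    (hφ : Good (I.map (algebraMap A R)) φ) :
    ∃ g ∈ S, ∃ φ₀ : Matrix (Fin (r + 1)) (Fin r) A,
      ∀ (B : Type u) [CommRing B] [Algebra A B] [IsLocalization.Away g B],
        Good (I.map (algebraMap A B)) (φ₀.map (algebraMap A B)) := by
  classical
  obtain ⟨u, hu⟩ := IsLocalization.exist_integer_multiples S Finset.univ fun p : Fin (r + 1) × Fin r => φ p.1 p.2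
  choose a ha using fun p => hu p (Finset.mem_univ p)
  let φ₀ : Matrix (Fin (r + 1)) (Fin r) A := Matrix.of fun i j => a (i, j)
  let al := algebraMap A R
  have hφ₀ : Good (I.map al) (φ₀.map al) := by
    have e : φ₀.map al = al u • φ := by
      ext i j
      exact (ha (i, j)).trans (Algebra.smul_def _ _)
    rw [e]
    exact hφ.smul (IsLocalization.map_units R u)
  obtain ⟨hs, hi, he⟩ := hφ₀
  rw [funext (mnr_map al φ₀), show (Set.range fun i => al (mnr φ₀ i)) = al '' Set.range (mnr φ₀) from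
    Set.range_comp al (mnr φ₀), ← Ideal.map_span] at hs
  let J := Ideal.span (Set.range (mnr φ₀))
  have hmem : ∀ (K L : Ideal A), K.map al ≤ L.map al → ∀ x ∈ K, ∃ s ∈ S, s • x ∈ L := fun K L h x hx =>
    (IsLocalization.algebraMap_mem_map_algebraMap_iff S R L x).1 (h (Ideal.mem_map_of_mem al hx))
  obtain ⟨g₁, hg₁, hg₁'⟩ := exists_kill S (IsNoetherian.noetherian I) J (hmem I J hs.ge)
  obtain ⟨g₂, hg₂, hg₂'⟩ := exists_kill S (IsNoetherian.noetherian J) I (hmem J I hs.le)
  obtain ⟨g₃, hg₃, hg₃'⟩ := exists_kill S (IsNoetherian.noetherian (LinearMap.ker φ₀.mulVecLin)) ⊥ fun v hv => by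
    have h1 := hi (al ∘ v) (by
      rw [← mapMulVec al, show φ₀ *ᵥ v = 0 from hv]
      exact funext fun _ => map_zero al)
    choose t ht using fun j => (IsLocalization.map_eq_zero_iff S R (v j)).1 (congrFun h1 j)
    refine ⟨_, (∏ j, t j).2, (Submodule.mem_bot A).2 (funext fun j => ?_)⟩
    rw [Pi.smul_apply, smul_eq_mul, Submonoid.coe_finsetProd, ← Finset.prod_erase_mul _ _ (Finset.mem_univ j),
      mul_assoc, ht, mul_zero]
    rfl
  obtain ⟨g₄, hg₄, hg₄'⟩ := exists_kill S
    (IsNoetherian.noetherian (LinearMap.ker (Fintype.linearCombination A (mnr φ₀))))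
    (LinearMap.range φ₀.mulVecLin) fun z hz => by
      rw [LinearMap.mem_ker, Fintype.linearCombination_apply] at hz
      obtain ⟨w, hw⟩ := he (al ∘ z) (by
        have := congrArg al hz
        simpa [mnr_map, map_sum, al] using this)
      obtain ⟨t, ht⟩ := IsLocalization.exist_integer_multiples S Finset.univ w
      choose w₀ hw₀ using fun j => ht j (Finset.mem_univ j)
      have h1 : ∀ i, al ((φ₀ *ᵥ w₀) i) = al ((t : A) * z i) := fun i => by
        rw [RingHom.map_mulVec al φ₀ w₀ i, map_mul]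
        have : al ∘ w₀ = al t • w := funext fun j => (hw₀ j).trans (Algebra.smul_def _ _)
        rw [this, Matrix.mulVec_smul, hw]
        rfl
      choose v hv using fun i => (IsLocalization.eq_iff_exists S R).1 (h1 i)
      refine ⟨_, (t * ∏ i, v i).2, ((∏ i, v i : S) : A) • w₀, ?_⟩
      rw [map_smul]
      funext i
      rw [Pi.smul_apply, Pi.smul_apply, Matrix.mulVecLin_apply, smul_eq_mul, smul_eq_mul, Submonoid.coe_mul,
        Submonoid.coe_finsetProd, ← Finset.prod_erase_mul _ _ (Finset.mem_univ i), mul_assoc, hv]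
      ring
  refine ⟨g₁ * g₂ * g₃ * g₄, mul_mem (mul_mem (mul_mem hg₁ hg₂) hg₃) hg₄, φ₀, fun B _ _ _ => ?_⟩
  set g := g₁ * g₂ * g₃ * g₄
  let β := algebraMap A B
  have hgu : IsUnit (β g) := IsLocalization.Away.algebraMap_isUnit g
  refine ⟨?_, fun v hv => ?_, fun z hz => ?_⟩
  · rw [funext (mnr_map β φ₀), show (Set.range fun i => β (mnr φ₀ i)) = β '' Set.range (mnr φ₀) from
      Set.range_comp β (mnr φ₀), ← Ideal.map_span]
    refine le_antisymm (Ideal.map_le_iff_le_comap.2 fun x hx => ?_) (Ideal.map_le_iff_le_comap.2 fun x hx => ?_)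
    · rw [Ideal.mem_comap]
      refine (Ideal.unit_mul_mem_iff_mem _ hgu).1 ?_
      rw [← map_mul, show g * x = (g₁ * g₃ * g₄) * (g₂ • x) by rw [smul_eq_mul]; ring]
      exact Ideal.mem_map_of_mem β (Ideal.mul_mem_left _ _ (hg₂' x hx))
    · rw [Ideal.mem_comap]
      refine (Ideal.unit_mul_mem_iff_mem _ hgu).1 ?_
      rw [← map_mul, show g * x = (g₂ * g₃ * g₄) * (g₁ • x) by rw [smul_eq_mul]; ring]
      exact Ideal.mem_map_of_mem β (Ideal.mul_mem_left _ _ (hg₁' x hx))
  · obtain ⟨t, ht⟩ := IsLocalization.exist_integer_multiples (Submonoid.powers g) Finset.univ v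
    choose v₀ hv₀ using fun j => ht j (Finset.mem_univ j)
    have e : β ∘ v₀ = β t • v := funext fun j => (hv₀ j).trans (Algebra.smul_def _ _)
    have h1 : ∀ i, β ((φ₀ *ᵥ v₀) i) = 0 := fun i => by
      rw [show β ((φ₀ *ᵥ v₀) i) = (φ₀.map β *ᵥ (β ∘ v₀)) i from RingHom.map_mulVec β φ₀ v₀ i, e, Matrix.mulVec_smul, hv,
        smul_zero]
      rfl
    choose m hm using fun i => (IsLocalization.map_eq_zero_iff (Submonoid.powers g) B _).1 (h1 i)
    have hk : ((∏ i, m i : Submonoid.powers g) : A) • v₀ ∈ LinearMap.ker φ₀.mulVecLin := by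
      rw [LinearMap.mem_ker, map_smul]
      funext i
      rw [Pi.smul_apply, Matrix.mulVecLin_apply, smul_eq_mul, Submonoid.coe_finsetProd,
        ← Finset.prod_erase_mul _ _ (Finset.mem_univ i), mul_assoc, hm, mul_zero]
      rfl
    have h2 := (Submodule.mem_bot A).1 (hg₃' _ hk)
    funext j
    have h3 := congrArg β (congrFun h2 j)
    simp only [Pi.smul_apply, smul_eq_mul, Pi.zero_apply, map_zero, map_mul] at h3
    rw [← Function.comp_apply (f := β) (g := v₀) (x := j), e, Pi.smul_apply, smul_eq_mul] at h3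
    have hg₃u : IsUnit (β g₃) := by
      refine isUnit_of_dvd_unit ?_ hgu
      exact map_dvd β ⟨g₁ * g₂ * g₄, by ring⟩
    exact ((IsLocalization.map_units B t).mul_right_eq_zero).1
      (((IsLocalization.map_units B (∏ i, m i)).mul_right_eq_zero).1 ((hg₃u.mul_right_eq_zero).1 h3))
  · obtain ⟨t, ht⟩ := IsLocalization.exist_integer_multiples (Submonoid.powers g) Finset.univ z
    choose z₀ hz₀ using fun j => ht j (Finset.mem_univ j)
    have h1 : β (∑ i, z₀ i * mnr φ₀ i) = 0 := by
      rw [map_sum]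
      simp only [map_mul, ← mnr_map, β, hz₀, Algebra.smul_def, mul_assoc, ← Finset.mul_sum, hz, mul_zero]
    obtain ⟨m, hm⟩ := (IsLocalization.map_eq_zero_iff (Submonoid.powers g) B _).1 h1
    have hk : (m : A) • z₀ ∈ LinearMap.ker (Fintype.linearCombination A (mnr φ₀)) := by
      rw [LinearMap.mem_ker, map_smul, Fintype.linearCombination_apply]
      exact hm
    obtain ⟨w, hw⟩ := hg₄' _ hk
    have hg₄u : IsUnit (β g₄) := by
      refine isUnit_of_dvd_unit ?_ hgu
      exact map_dvd β ⟨g₁ * g₂ * g₃, by ring⟩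
    obtain ⟨c, hc⟩ := hg₄u.mul ((IsLocalization.map_units B m).mul (IsLocalization.map_units B t))
    refine ⟨(↑c⁻¹ : B) • (β ∘ w), funext fun i => ?_⟩
    rw [Matrix.mulVec_smul, Pi.smul_apply, ← mapMulVec β, Function.comp_apply,
      show (φ₀ *ᵥ w) i = g₄ * ((m : A) * z₀ i) from congrFun hw i, map_mul, map_mul, smul_eq_mul,
      show β (z₀ i) = β t * z i from (hz₀ i).trans (Algebra.smul_def _ _)]
    change (↑c⁻¹ : B) * (β g₄ * (β m * (β t * z i))) = z i
    rw [show β g₄ * (β m * (β t * z i)) = (c : B) * z i by rw [hc]; ring, Units.inv_mul_cancel_left]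

/-- Let X be smooth over a field k and Y ⊆ X a closed subscheme which is Cohen–Macaulay of codimension 2
(all local rings of Y Cohen–Macaulay, and dim O_{X,y} = dim O_{Y,y} + 2 at every point y of Y). Then
each point of Y has an affine open neighbourhood U in X and an (r+1) × r matrix φ of functions on U
whose signed maximal minors f_i generate the ideal of Y ∩ U and give an exact sequence 0 → O(U)^r →
O(U)^{r+1} → O(U), hence a resolution of O_{Y ∩ U} on the affine U. -/
theorem result (k : Type u) [Field k]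
    (X Y : Scheme.{u}) (f : X ⟶ Spec (CommRingCat.of k)) [Smooth f] (ι : Y ⟶ X) [IsClosedImmersion ι]
    (hCM : ∀ y : Y, LocCoh.IsCohenMacaulayLocalRing (Y.presheaf.stalk y))
    (hcodim : ∀ y : Y, ringKrullDim (Y.presheaf.stalk y) + 2 = ringKrullDim (X.presheaf.stalk (ι.base y)))
    (y : Y) :
    ∃ U : X.affineOpens, ι.base y ∈ (U : X.Opens) ∧ ∃ (r : ℕ) (φ : Matrix (Fin (r + 1)) (Fin r) Γ(X, U)),
      (Ideal.span (Set.range (fun i : Fin (r + 1) => (-1 : Γ(X, U)) ^ (i : ℕ) * ((φ).submatrix i.succAbove id).det)) = ι.ker.ideal U ∧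
        Function.Injective (φ).mulVecLin ∧
        LinearMap.range (φ).mulVecLin = LinearMap.ker (Fintype.linearCombination Γ(X, U) (fun i : Fin (r + 1) => (-1 : Γ(X, U)) ^ (i : ℕ) * ((φ).submatrix i.succAbove id).det))) := by
  classical
  obtain ⟨V, hV, hyV, -⟩ := exists_isAffineOpen_mem_and_subset (x := ι.base y) (U := ⊤) trivial
  haveI : IsLocallyNoetherian X := LocallyOfFiniteType.isLocallyNoetherian f
  haveI : IsNoetherianRing Γ(X, V) := IsLocallyNoetherian.component_noetherian ⟨V, hV⟩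
  letI := TopCat.Presheaf.algebra_section_stalk X.presheaf (⟨ι.base y, hyV⟩ : V)
  haveI := hV.isLocalization_stalk ⟨ι.base y, hyV⟩
  let R := X.presheaf.stalk (ι.base y)
  haveI : IsRegularLocalRing R := SmoothReg17.isRegularLocalRing_stalk f _
  let I := ι.ker.ideal ⟨V, hV⟩
  let al : Γ(X, V) →+* R := algebraMap Γ(X, V) R
  have hsurj : Function.Surjective (ι.stalkMap y).hom := ι.stalkMap_surjective y
  have hker : RingHom.ker (ι.stalkMap y).hom = I.map al := by
    refine le_antisymm (fun a ha => CenterCoh13.ker_stalkMap_le ι y (I.map al) (fun U' hU' b hb => ?_) a ha) ?_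
    · -- compare two charts on a common basic open
      obtain ⟨f₁, g₁, e, hx⟩ := exists_basicOpen_le_affine_inter U'.2 hV (ι.base y) ⟨hU', hyV⟩
      have h1 : X.presheaf.map (homOfLE (X.basicOpen_le f₁)).op b ∈ ι.ker.ideal (X.affineBasicOpen f₁) := by
        rw [← ι.ker.map_ideal_basicOpen U' f₁]
        exact Ideal.mem_map_of_mem _ hb
      have h2 : ∀ (W W' : X.affineOpens) (hWW : W = W') (hW : ι.base y ∈ (W : X.Opens)) (c : Γ(X, W)),
          c ∈ ι.ker.ideal W → ∀ K : Ideal R,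
          (∀ c' ∈ ι.ker.ideal W', X.presheaf.germ (W' : X.Opens) (ι.base y) (hWW ▸ hW) c' ∈ K) →
          X.presheaf.germ (W : X.Opens) (ι.base y) hW c ∈ K := by
        rintro W _ rfl hW c hc K hK
        exact hK c hc
      rw [← X.presheaf.germ_res_apply (homOfLE (X.basicOpen_le f₁)) (ι.base y) hx b]
      refine h2 (X.affineBasicOpen f₁) (X.affineBasicOpen (U := ⟨V, hV⟩) g₁) (Subtype.ext e) hx _ h1 _ fun c hc => ?_
      rw [← ι.ker.map_ideal_basicOpen ⟨V, hV⟩ g₁] at hc
      have h3 := Ideal.mem_map_of_mem (X.presheaf.germ (X.basicOpen g₁) (ι.base y) (e ▸ hx)).hom hc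
      rw [Ideal.map_map, ← CommRingCat.hom_comp] at h3
      have h4 : X.presheaf.map (homOfLE (X.basicOpen_le g₁)).op ≫
          X.presheaf.germ (X.basicOpen g₁) (ι.base y) (e ▸ hx) = X.presheaf.germ V (ι.base y) hyV :=
        X.presheaf.germ_res (homOfLE (X.basicOpen_le g₁)) _ _
      rw [h4] at h3
      exact h3
    · rw [Ideal.map_le_iff_le_comap]
      intro b hb
      change (ι.stalkMap y).hom (X.presheaf.germ V _ hyV b) = 0
      have hb' : ι.app V b = 0 := by
        have := hb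
        change b ∈ ι.ker.ideal ⟨V, hV⟩ at this
        rwa [Scheme.Hom.ker_apply, RingHom.mem_ker] at this
      rw [Scheme.Hom.germ_stalkMap_apply, hb', map_zero]
  let e : (R ⧸ I.map al) ≃+* Y.presheaf.stalk y :=
    (Ideal.quotEquivOfEq hker.symm).trans (RingHom.quotientKerEquivOfSurjective hsurj)
  haveI := hCM y
  haveI : LocCoh.IsCohenMacaulayLocalRing (R ⧸ I.map al) :=
    SMT.isCM_of_ringEquiv e.symm (hCM y)
  obtain ⟨r, φ, h1, -, h2, h3⟩ := Groth.Agent.S11449.result R (I.map al) (by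
    rw [ringKrullDim_eq_of_ringEquiv e]; exact hcodim y)
  have hgood : Good (I.map al) φ := ⟨h1, fun v hv => h2 (hv.trans (Matrix.mulVec_zero φ).symm), fun z hz => by
    have : z ∈ LinearMap.ker (Fintype.linearCombination R (mnr φ)) := by
      rw [LinearMap.mem_ker, Fintype.linearCombination_apply]; simpa using hz
    rw [show LinearMap.ker (Fintype.linearCombination R (mnr φ)) = LinearMap.range φ.mulVecLin from h3.symm] at this
    exact this⟩
  obtain ⟨g, hg, φ₀, hφ₀⟩ := spread (hV.primeIdealOf ⟨ι.base y, hyV⟩).asIdeal.primeCompl R I φ hgood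
  have hyg : ι.base y ∈ X.basicOpen g := by
    rw [X.mem_basicOpen g _ hyV]
    exact IsLocalization.map_units R ⟨g, hg⟩
  letI : Algebra Γ(X, V) Γ(X, X.basicOpen g) := (X.presheaf.map (homOfLE (X.basicOpen_le g)).op).hom.toAlgebra
  haveI : IsLocalization.Away g Γ(X, X.basicOpen g) := hV.isLocalization_basicOpen g
  obtain ⟨g1, g2, g3⟩ := hφ₀ Γ(X, X.basicOpen g)
  refine ⟨X.affineBasicOpen (U := ⟨V, hV⟩) g, hyg, r, φ₀.map (algebraMap Γ(X, V) Γ(X, X.basicOpen g)), ?_, ?_, ?_⟩
  · refine g1.trans ?_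
    exact ι.ker.map_ideal_basicOpen ⟨V, hV⟩ g
  · exact (injective_iff_map_eq_zero _).2 fun v hv => g2 v hv
  · refine le_antisymm ?_ fun z hz => ?_
    · rintro _ ⟨v, rfl⟩
      rw [LinearMap.mem_ker, Fintype.linearCombination_apply]
      refine Eq.trans (Finset.sum_congr rfl fun i _ => ?_) (McCoy3.sum_signedMinor_mulVec (φ₀.map (algebraMap Γ(X, V) Γ(X, X.basicOpen g))) v)
      rw [smul_eq_mul, mul_comm]
      rfl
    · rw [LinearMap.mem_ker, Fintype.linearCombination_apply] at hz
      exact g3 z hz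

end Groth.Agent.S11460
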