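import Groth.Statements.S14585
import Groth.Agent.Lib.AffLine15.Main
-- import your own Groth.Agent.* helpers here

set_option autoImplicit false
set_option backward.isDefEq.respectTransparency false
set_option backward.isDefEq.respectTransparency.types false
set_option maxSynthPendingDepth 3
set_option synthInstance.maxHeartbeats 400000
universe u
open CategoryTheory MonoidalCategory CartesianMonoidalCategory MonObj GrpObj AlgebraicGeometry CategoryTheory.Limits
open AlgGrp

namespace Groth.Agent.S14585

/-- Let k be an algebraically closed field and G a smooth connected k-group scheme of finite type. Then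
G is a semi-abelian variety, i.e. an extension of an abelian variety by a torus (there are a closed
subgroup scheme i : T → G with T a torus and a flat surjective homomorphism q : G → A with kernel T
onto a proper smooth connected k-group scheme), if and only if every k-morphism from the affine line
to G is constant. (The published statement is over a perfect field with constancy asked of morphisms
defined over k only; over the real numbers the group of quaternions of norm one receives only
constant morphisms from the affine line, by comparing leading coefficients in a sum of four squares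
equal to 1, yet it is non-commutative, so not such an extension; the published proof uses root
subgroups, available over an algebraic closure, so k is taken algebraically closed here.) -/
theorem result (k : Type u) [Field k] [IsAlgClosed k]
    (G : Over (Spec (CommRingCat.of k))) [GrpObj G] [Smooth G.hom] [QuasiCompact G.hom] [ConnectedSpace ↥G.left] :
    (∃ (T : Over (Spec (CommRingCat.of k))) (_ : GrpObj T) (i : T ⟶ G) (A : Over (Spec (CommRingCat.of k))) (_ : GrpObj A) (q : G ⟶ A),
        IsMonHom i ∧ IsClosedImmersion i.left ∧ Red.IsTorus T ∧ IsMonHom q ∧ Surjective q.left ∧ Flat q.left ∧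
        AlgGrp.IsKernel i q ∧ IsProper A.hom ∧ Smooth A.hom ∧ ConnectedSpace ↥A.left) ↔
    ∀ f : Over.mk (𝔸(PUnit.{u + 1}; Spec (CommRingCat.of k)) ↘ Spec (CommRingCat.of k)) ⟶ G, ∃ g : 𝟙_ (Over (Spec (CommRingCat.of k))) ⟶ G, f = toUnit _ ≫ g := by
  constructor
  · rintro ⟨T, hTg, i, A, hAg, q, hi, -, hT, hq, -, -, hker, hAp, hAs, hAc⟩ f
    haveI := hi; haveI := hq; haveI := hAp; haveI := hAs; haveI := hAc
    let e := AffLine15.lineIso (Spec (CommRingCat.of k))
    refine ⟨η[Red.Ga (Spec (CommRingCat.of k))] ≫ e.inv ≫ f, ?_⟩
    rw [← cancel_epi e.inv, ← Category.assoc, comp_toUnit]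
    exact AffLine15.const_to_semiabelian i hT q hker (e.inv ≫ f)
  · intro h
    obtain ⟨N, hNg, i, A, hAg, q, hi, hic, hNa, hNs, hNc, hNn, hq, hqs, hqf, hker, hAp, hAs, hAc⟩ :=
      AffPart25.exists_chevalley_perfect G
    haveI := hi; haveI := hic; haveI := hNa; haveI := hNs; haveI := hNc
    haveI : Mono i.left := AffLine15.mono_of_preimmersion _ hic
    haveI : Mono i := Over.mono_of_mono_left i
    refine ⟨N, hNg, i, A, hAg, q, hi, hic, AffLine15.isTorus_of_const N fun f => ?_, hq, hqs, hqf, hker, hAp, hAs, hAc⟩
    let e := AffLine15.lineIso (Spec (CommRingCat.of k))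
    obtain ⟨g, hg⟩ := h (e.hom ≫ f ≫ i)
    have h1 : f ≫ i = toUnit _ ≫ g := by
      rw [← cancel_epi e.hom, hg, ← Category.assoc, comp_toUnit]
    rw [← cancel_mono i, Category.assoc, Category.assoc, h1, ← Category.assoc η[_],
      toUnit_unique (η[_] ≫ toUnit _) (𝟙 _), Category.id_comp]


end Groth.Agent.S14585
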