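import Groth.Statements.S7624
import Groth.Agent.Lib.FibVal4
import Groth.Agent.Lib.FibGenApp4
import Groth.Agent.Lib.VarDim.Scheme

set_option autoImplicit false
universe u
open CategoryTheory CategoryTheory.Limits AlgebraicGeometry
open Variety

namespace Groth.Agent.S7624

/-- Let R be a valuation ring, X an irreducible scheme and f : X → Spec R a surjective morphism locally
of finite type. Then each irreducible component of the fibre of f over the closed point of Spec R
has Krull dimension equal to that of the fibre of f over the generic point. -/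
theorem result (R : Type u) [CommRing R] [IsDomain R] [ValuationRing R]
    (X : Scheme.{u}) [IrreducibleSpace ↥X] (f : X ⟶ Spec (CommRingCat.of R)) [LocallyOfFiniteType f] [Surjective f]
    (Z : Set ↥(f.fiber (IsLocalRing.closedPoint R))) (hZ : Z ∈ irreducibleComponents ↥(f.fiber (IsLocalRing.closedPoint R))) :
    topologicalKrullDim ↥Z = topologicalKrullDim ↥(f.fiber (⟨⊥, Ideal.bot_prime⟩ : PrimeSpectrum R)) := by
  let γ : Spec (CommRingCat.of R) := (⟨⊥, Ideal.bot_prime⟩ : PrimeSpectrum R)
  let c : Spec (CommRingCat.of R) := IsLocalRing.closedPoint R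
  let η : X := genericPoint X
  have hη : f η = γ := by
    obtain ⟨y, hy⟩ := f.surjective γ
    have h1 : f η ⤳ γ := hy ▸ ((genericPoint_spec X).specializes trivial).map f.continuous
    have h2 : γ ⤳ f η := (PrimeSpectrum.le_iff_specializes γ _).1 bot_le
    exact (h1.antisymm h2).eq
  have hall : ∀ y : X, η ⤳ y := fun y => (genericPoint_spec X).specializes trivial
  -- the generic fibre
  have hgen : topologicalKrullDim ↥(f.fiber γ) = (Groth.Agent.FibDim14.rd f η : WithBot ℕ∞) := by
    have hat : ∀ y : X, f y = γ → FlatMor.fibreDimAt f y = (Groth.Agent.FibDim14.rd f η : WithBot ℕ∞) := by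
      intro y hy
      obtain ⟨x', h1, h2, h3, h4⟩ := Groth.Agent.FibGen4.exists_isMaxFib f y
      have e : η = x' := h3 η (hall x') (by rw [hη, h2, hy])
      rw [← h4, Groth.Agent.FibGen4.fibreDimAt_eq_rd_of_isMaxFib f h3, e]
    refine le_antisymm ((Groth.Agent.FibGen4.dim_fiber_le_iff f γ _).2 fun y hy => (hat y hy).le) ?_
    exact hat η hη ▸ (Groth.Agent.FibGen4.dim_fiber_le_iff f γ _).1 le_rfl η hη
  -- the component
  have hZc : IsClosed Z := isClosed_of_mem_irreducibleComponents Z hZ
  have hz := hZ.1.isGenericPoint_genericPoint hZc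
  let x : X := f.fiberι c hZ.1.genericPoint
  have hfx : f x = c := (Set.ext_iff.1 (f.range_fiberι c) x).1 ⟨_, rfl⟩
  have hmax : Groth.Agent.FibDim14.IsMaxFib f x := by
    intro y hy he
    obtain ⟨w, rfl⟩ : y ∈ Set.range (f.fiberι c) := by
      rw [f.range_fiberι]; exact he.trans hfx
    have hw : w ⤳ hZ.1.genericPoint := (f.fiberι c).isEmbedding.isInducing.specializes_iff.1 hy
    have hsub : Z ⊆ closure {w} := fun v hv =>
      specializes_iff_mem_closure.1 (hw.trans (hz.specializes hv))
    have hZw : closure {w} = Z := le_antisymm (hZ.2 isIrreducible_singleton.closure hsub) hsub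
    have hww : IsGenericPoint w Z := hZw
    exact congrArg (f.fiberι c) (hww.eq hz)
  obtain ⟨e1, -⟩ := Groth.Agent.FibGen4.fibreDimAt_eq_of_valuationRing f hmax (hall x)
    (congrArg PrimeSpectrum.asIdeal hη)
  rw [hgen, ← e1, Groth.Agent.FibGen4.fibreDimAt_eq_rd_of_isMaxFib f hmax,
    Groth.Agent.FibDim14.rd_fiberι f c,
    Groth.Agent.VarDim.dim_irreducible_isClosed (Groth.Agent.FibDim14.toPt f c) hZc hZ.1]

end Groth.Agent.S7624
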