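import Groth.Statements.S6554
import Groth.Agent.Lib.EtaleNhd17.Basic
import Groth.Agent.Lib.Curve17.Birat
import Groth.Agent.Lib.VarDim.Irred
import Mathlib.RingTheory.Unramified.Field

set_option autoImplicit false
universe u
open CategoryTheory CategoryTheory.Limits AlgebraicGeometry
open Curves

namespace Groth.Agent.S6554
open Groth.Agent TopologicalSpace
set_option linter.style.haveILetI false

/-- (3) ⇔ (4) ⇔ (5): let k be a field and f : X → Y a morphism over k of smooth curves over k (integral,
separated, of finite type and smooth over k, of dimension one) which is nonconstant: f(ξ_X) = ξ_Y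
for the generic points ξ_X of X and ξ_Y of Y (hypothesis e), so that the function field k(Y) maps
into k(X). Then: some nonempty open U ⊆ X has f|_U unramified if and only if some nonempty open U ⊆
X has f|_U étale; and the latter holds if and only if k(X)/k(Y) is a finite separable extension.
(The published statement also lists two further equivalent conditions, that df : f^*Ω_{Y/k} →
Ω_{X/k} is nonzero and that Ω_{X/Y} is supported on a proper closed subset; this row omits them. For
a constant f every condition stated here fails, so assuming f nonconstant loses nothing.) -/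
theorem result (k : Type u) [Field k]
    (X Y : Scheme.{u}) [X.Over (Spec (CommRingCat.of k))] [Y.Over (Spec (CommRingCat.of k))]
    [IsIntegral X] [IsSeparated (X ↘ (Spec (CommRingCat.of k)))] [LocallyOfFiniteType (X ↘ (Spec (CommRingCat.of k)))] [QuasiCompact (X ↘ (Spec (CommRingCat.of k)))] (hdX : topologicalKrullDim X = 1) [Smooth (X ↘ (Spec (CommRingCat.of k)))]
    [IsIntegral Y] [IsSeparated (Y ↘ (Spec (CommRingCat.of k)))] [LocallyOfFiniteType (Y ↘ (Spec (CommRingCat.of k)))] [QuasiCompact (Y ↘ (Spec (CommRingCat.of k)))] (hdY : topologicalKrullDim Y = 1) [Smooth (Y ↘ (Spec (CommRingCat.of k)))]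
    (f : X ⟶ Y) (hf : f ≫ (Y ↘ (Spec (CommRingCat.of k))) = X ↘ (Spec (CommRingCat.of k))) (e : f (genericPoint X) = genericPoint Y) :
    letI := ((Y.presheaf.stalkSpecializes (specializes_of_eq e) ≫ f.stalkMap (genericPoint X)).hom).toAlgebra
    ((∃ U : X.Opens, (U : Set X).Nonempty ∧ FormallyUnramified (U.ι ≫ f)) ↔
      (∃ U : X.Opens, (U : Set X).Nonempty ∧ Etale (U.ι ≫ f))) ∧
    ((∃ U : X.Opens, (U : Set X).Nonempty ∧ Etale (U.ι ≫ f)) ↔
      (FiniteDimensional Y.functionField X.functionField ∧ Algebra.IsSeparable Y.functionField X.functionField)) := by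
  letI := ((Y.presheaf.stalkSpecializes (specializes_of_eq e) ≫ f.stalkMap (genericPoint X)).hom).toAlgebra
  set pX := X ↘ (Spec (CommRingCat.of k))
  set pY := Y ↘ (Spec (CommRingCat.of k))
  haveI : LocallyOfFiniteType (f ≫ pY) := hf ▸ inferInstance
  haveI : LocallyOfFiniteType f := locallyOfFiniteType_of_comp f pY
  haveI : IsLocallyNoetherian Y := LocallyOfFiniteType.isLocallyNoetherian pY
  haveI : LocallyOfFinitePresentation f := inferInstance
  letI : Field (Y.presheaf.stalk (genericPoint Y)) := inferInstanceAs (Field Y.functionField)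
  haveI : IsIso (Y.presheaf.stalkSpecializes (specializes_of_eq e)) :=
    ⟨Y.presheaf.stalkSpecializes (specializes_of_eq e.symm), by simp, by simp⟩
  have hloc : (f.stalkMap (genericPoint X)).hom.FormallyUnramified ↔
      Algebra.FormallyUnramified Y.functionField X.functionField := by
    rw [← RingHom.formallyUnramified_algebraMap]
    exact (RingHom.FormallyUnramified.respectsIso.cancel_left_isIso
      (Y.presheaf.stalkSpecializes (specializes_of_eq e)) (f.stalkMap (genericPoint X))).symm
  have hfield : IsField (Y.presheaf.stalk (f (genericPoint X))) :=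
    (asIso (Y.presheaf.stalkSpecializes (specializes_of_eq e))).commRingCatIsoToRingEquiv.symm.isField
      (Field.toIsField _)
  have hflat : (f.stalkMap (genericPoint X)).hom.Flat := by
    letI := hfield.toField
    letI := (f.stalkMap (genericPoint X)).hom.toAlgebra
    exact (inferInstance : Module.Flat (Y.presheaf.stalk (f (genericPoint X))) (X.presheaf.stalk (genericPoint X)))
  have hmem : ∀ U : X.Opens, (U : Set X).Nonempty → genericPoint X ∈ U := fun U ⟨y, hy⟩ =>
    (genericPoint_specializes y).mem_open U.2 hy
  haveI : Algebra.EssFiniteType Y.functionField X.functionField := by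
    refine RingHom.essFiniteType_algebraMap.1 ?_
    exact (RingHom.EssFiniteType.respectsIso.cancel_left_isIso
      (Y.presheaf.stalkSpecializes (specializes_of_eq e)) (f.stalkMap (genericPoint X))).2
      (LocallyOfFiniteType.stalkMap f (genericPoint X))
  refine ⟨⟨fun ⟨U, hU, hUu⟩ => ?_, fun ⟨U, hU, hUe⟩ => ⟨U, hU, inferInstance⟩⟩,
    ⟨fun ⟨U, hU, hUe⟩ => ?_, fun ⟨_, hsep⟩ => ?_⟩⟩
  · obtain ⟨V, hV, hVe⟩ := EtaleNhd17.exists_etale_of_stalk f (genericPoint X) hflat
      (EtaleNhd17.formallyUnramified_stalkMap_of_nhd f (genericPoint X) (hmem U hU))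
    exact ⟨V, ⟨_, hV⟩, hVe⟩
  · haveI := hloc.1 (EtaleNhd17.formallyUnramified_stalkMap_of_nhd f (genericPoint X) (hmem U hU))
    exact ⟨Algebra.FormallyUnramified.finite_of_free _ _,
      (Algebra.FormallyUnramified.iff_isSeparable _ _).1 ‹_›⟩
  · obtain ⟨V, hV, hVe⟩ := EtaleNhd17.exists_etale_of_stalk f (genericPoint X) hflat
      (hloc.2 ((Algebra.FormallyUnramified.iff_isSeparable _ _).2 hsep))
    exact ⟨V, ⟨_, hV⟩, hVe⟩

end Groth.Agent.S6554
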