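import Groth.Statements.S14340
-- import your own Groth.Agent.* helpers here
import Groth.Agent.Lib.CurveOm17.PowP1
import Groth.Agent.Lib.CurveOm17.Apps
import Groth.Agent.Lib.CurveCoh17.Hyper
import Groth.Agent.Lib.AmpleFin18.PushEuler
import Groth.Agent.Lib.CurveCoh17.DegTwo
import Groth.Agent.S1536
import Groth.Agent.S7812
import Groth.Agent.S7640
import Groth.Agent.S10829

set_option autoImplicit false
universe u
open CategoryTheory CategoryTheory.Limits AlgebraicGeometry
open Curves

namespace Groth.Agent.S14340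

/-- Let k be a field and C a smooth proper geometrically connected curve over k (of dimension one) of
genus g = dim_k H^1(C, O_C) ≥ 2 which is hyperelliptic: there is a morphism f : C → P^1_k over k,
finite and flat of constant rank 2; let L = f^*O(1) be its g^1_2. Then for every r with 0 ≤ r ≤ g −
1 the k-vector space H^0(C, L^{⊗r}) has dimension r + 1. (The published statement asserts that the
pullback of sections H^0(P^1_k, O(r)) → H^0(C, L^{⊗r}) is an isomorphism and takes C projective;
this row states the equivalent dimension count, that map being injective for the dominant f with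
source of dimension r + 1, and takes C proper, which for curves over a field is the same.) -/
theorem result (k : Type u) [Field k] (C : Scheme.{u}) [C.Over (Spec (CommRingCat.of k))] [IsProper (C ↘ Spec (CommRingCat.of k))] [Smooth (C ↘ Spec (CommRingCat.of k))] [GeometricallyConnected (C ↘ Spec (CommRingCat.of k))] (hC : topologicalKrullDim C = 1) (g : ℕ) (hg2 : 2 ≤ g) (hg : Curv2.genus k C = g) (f : C ⟶ CohB1.ProjSpace 1 k) (hf : f ≫ CohB1.ProjSpace.toSpec 1 k = C ↘ Spec (CommRingCat.of k)) [IsFinite f] [Flat f] (hrk : ∀ y : ↥(CohB1.ProjSpace 1 k), Scheme.Hom.finrank f y = 2) (r : ℕ) (hr : r + 1 ≤ g) : Module.finrank k (Coh.HH C (CohB1.tensorPow ((Scheme.Modules.pullback f).obj (Twist.twistProjSpace 1 k 1)) r) 0) = r + 1 := by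
  classical
  letI : (CohB1.ProjSpace 1 k).Over (Spec (CommRingCat.of k)) := ⟨CohB1.ProjSpace.toSpec 1 k⟩
  haveI : IsIntegral C := Groth.Agent.VB17.isIntegral_of_smooth (k := k)
  haveI := Groth.Agent.RegExt.isIntegral_projSpace 1 k
  haveI : IsProper ((CohB1.ProjSpace 1 k) ↘ Spec (CommRingCat.of k)) := Groth.Agent.ProjSpace.isProper_toSpec 1 k
  haveI : Smooth ((CohB1.ProjSpace 1 k) ↘ Spec (CommRingCat.of k)) := Groth.Agent.ProjSpace.smooth_toSpec 1 k
  have hdimY : topologicalKrullDim (CohB1.ProjSpace 1 k) = 1 := by rw [Groth.Agent.S10829.result k 1]; rfl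
  haveI : GeometricallyReduced (C ↘ Spec (CommRingCat.of k)) := Groth.Agent.GeomRed.geometricallyReduced_of_smooth
  have h0 : Module.finrank k (Coh.HH C (Coh.structureModule C) 0) = 1 := Groth.Agent.S1536.result k C
  haveI : JacobsonSpace C := LocallyOfFiniteType.jacobsonSpace (C ↘ Spec (CommRingCat.of k))
  haveI : IsNoetherian (CohB1.ProjSpace 1 k) := Groth.Agent.VB17.isNoetherian_of_over (k := k)
  haveI : LocallyOfFinitePresentation f := inferInstance
  have hξ := Groth.Agent.CurveOm17.map_genericPoint_of_isFinite hdimY.le hC f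
  have hd2 : f.residueDegree (genericPoint C) = 2 := by
    rw [← Groth.Agent.CurveCoh17.finrank_genericPoint_eq_residueDegree f hξ
      (fun x hx => Groth.Agent.AmpleFin18.preimage_genericPoint hC.le hdimY f hx)]
    exact hrk _
  obtain ⟨hX, hbig, -, -, lam, hW⟩ := Groth.Agent.CurveOm17.exists_isDualizing_omega' hC h0
    (Groth.Agent.Omega12.isUniversal_dOmega (f := C ↘ Spec (CommRingCat.of k)))
  have hO := Twist.isInvertible_twistProjSpace 1 k 1
  have hL := Groth.Agent.Twist.isInvertible_pullback f hO
  have hdeg := Groth.Agent.S7640.result k C (CohB1.ProjSpace 1 k) hC hdimY f hf hξ 1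
    (Twist.twistProjSpace 1 k 1) ((Groth.Agent.M2.isInvertible_iff_isFinLocFreeOfRank_one _).1 hO)
  rw [hd2, Groth.Agent.CurveCoh17.deg_twistP1] at hdeg
  norm_num at hdeg
  obtain ⟨j, rfl⟩ : ∃ j, g = j + 1 := ⟨g - 1, by omega⟩
  have hgen : Curv2.genus k C = j + 1 := hg
  have hpos : (0 : ℤ) < Curv2.deg k C ((Scheme.Modules.pullback f).obj (Twist.twistProjSpace 1 k 1)) 1 := by
    rw [hdeg]; norm_num
  set L := (Scheme.Modules.pullback f).obj (Twist.twistProjSpace 1 k 1) with hLdef
  have hLj := Groth.Agent.M2.isInvertible_tensorPow hL j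
  have htop : Module.finrank k (Coh.HH C (CohB1.tensorPow L j) 0) ≤ j + 1 := by
    obtain ⟨M', hM', ⟨e⟩⟩ := Groth.Agent.M2.exists_inverse hLj
    have h1 := hW.finrank_h1 hX h0 hbig hLj hM' (Groth.Agent.M2.tensorComm _ _ ≪≫ e)
    have hrr := hX.like.rr (Groth.Agent.CurveCoh17.isCoh_of_ofRank
      ((Groth.Agent.M2.isInvertible_iff_isFinLocFreeOfRank_one _).1 hLj))
    rw [h0, h1, hX.like.deg_tensorPow hL, hdeg, hgen] at hrr
    have hWL := Groth.Agent.M2.isInvertible_tensor hW.inv hM'
    haveI := hX.like.noetherian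
    have hRk := Groth.Agent.CurveCoh17.rkOne_of_invertible hX.like.dim hWL
    have hle1 : Module.finrank k (Coh.HH C (CohB1.tensorMod (Omega.sheaf (C ↘ Spec (CommRingCat.of k))) M') 0) ≤ 1 := by
      by_contra hlt
      haveI := hX.like.fin _ hRk.coh 0
      have hnt := Module.finrank_pos_iff.1 (show 0 < Module.finrank k
        (Coh.HH C (CohB1.tensorMod (Omega.sheaf (C ↘ Spec (CommRingCat.of k))) M') 0) by omega)
      have h2 := hX.like.h0_le_deg_add hRk hnt
      rw [h0, hX.like.deg_tensor_invertible hW.inv hM', (hW.invariants hX h0 hbig).2.2,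
        hX.like.deg_of_tensor_iso hLj hM' e, hX.like.deg_tensorPow hL, hdeg, hgen] at h2
      push_cast at h2
      omega
    push_cast at hrr
    omega
  have hup : ∀ d, d ≤ j → Module.finrank k (Coh.HH C (CohB1.tensorPow L (j - d)) 0) ≤ j - d + 1 := fun d => by
    induction d with
    | zero => exact fun _ => htop
    | succ d ih =>
      intro hd
      have h1 := ih (by omega)
      have h2 := Groth.Agent.CurveOm17.h0_pow_pullback_lt hX.like f hf hξ hpos (j - (d + 1))
      rw [show j - (d + 1) + 1 = j - d by omega] at h2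
      change Module.finrank k (Coh.HH C (CohB1.tensorPow L (j - (d + 1))) 0) <
        Module.finrank k (Coh.HH C (CohB1.tensorPow L (j - d)) 0) at h2
      omega
  have hlow := Groth.Agent.CurveOm17.succ_le_h0_pow_pullback hX.like h0 f hf hξ hpos r
  have h3 := hup (j - r) (by omega)
  rw [show j - (j - r) = r by omega] at h3
  change r + 1 ≤ Module.finrank k (Coh.HH C (CohB1.tensorPow L r) 0) at hlow
  omega

end Groth.Agent.S14340
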