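import Groth.Statements.S2484
import Groth.Agent.Lib.Sep.Basic

set_option autoImplicit false
universe u
open EGA41

namespace Groth.Agent.S2484

/-- Let K ⊆ E ⊆ F be fields. (i) If F is a separable extension of E, then Υ_{F/E/K} = 0, i.e. the
canonical map Ω_{E/K} ⊗_E F → Ω_{F/K} is injective. (ii) Conversely, if F is separable over K and
this map is injective, then F is separable over E. (Separable means geometrically reduced.) -/
theorem result {K E F : Type u} [Field K] [Field E] [Field F] [Algebra K E] [Algebra E F] [Algebra K F] [IsScalarTower K E F] :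
    (Algebra.IsGeometricallyReduced E F → Function.Injective (KaehlerDifferential.mapBaseChange K E F)) ∧
    (Algebra.IsGeometricallyReduced K F → Function.Injective (KaehlerDifferential.mapBaseChange K E F) → Algebra.IsGeometricallyReduced E F) := by
  have h1 := Algebra.H1Cotangent.exact_map_δ K E F
  have h2 := Algebra.H1Cotangent.exact_δ_mapBaseChange K E F
  refine ⟨fun h => (injective_iff_map_eq_zero _).mpr fun w hw => ?_, fun h hinj => ?_⟩
  · haveI : Algebra.FormallySmooth E F := (Sep.formallySmooth_iff_isGeometricallyReduced E F).mpr h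
    obtain ⟨x, rfl⟩ := (h2 w).mp hw
    rw [Subsingleton.elim x 0, map_zero]
  · haveI : Algebra.FormallySmooth K F := (Sep.formallySmooth_iff_isGeometricallyReduced K F).mpr h
    refine (Sep.formallySmooth_iff_isGeometricallyReduced E F).mp ((Algebra.formallySmooth_iff E F).mpr ⟨inferInstance, ?_⟩)
    refine subsingleton_of_forall_eq 0 fun x => ?_
    obtain ⟨y, rfl⟩ := (h1 x).mp (hinj (((h2 _).mpr ⟨x, rfl⟩).trans (map_zero _).symm))
    rw [Subsingleton.elim y 0, map_zero]

end Groth.Agent.S2484
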