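import Groth.Statements.S18265
import Mathlib.RingTheory.IntegralClosure.IntegrallyClosed
import Mathlib.RingTheory.Polynomial.UniqueFactorization
import Mathlib.RingTheory.Localization.FractionRing
import Mathlib.RingTheory.UniqueFactorizationDomain.GCDMonoid
import Mathlib.RingTheory.Polynomial.RationalRoot

set_option autoImplicit false
universe u
open InvQ

namespace Groth.Agent.S18265

theorem isIntegrallyClosed_of_div_closed {R T : Type*} [CommRing R] [IsDomain R] [CommRing T] [IsDomain T]
    [IsIntegrallyClosed T] (i : R →+* T) (hi : Function.Injective i)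
    (h : ∀ a b : R, ∀ c : T, b ≠ 0 → c * i b = i a → ∃ r, i r = c) : IsIntegrallyClosed R := by
  rw [isIntegrallyClosed_iff (FractionRing R)]
  intro x hx
  obtain ⟨a, b, hb, rfl⟩ := IsFractionRing.div_surjective R x
  have hinjT : Function.Injective (algebraMap T (FractionRing T)) := IsFractionRing.injective T _
  have hb0 : i b ≠ 0 := (map_ne_zero_iff _ hi).mpr (nonZeroDivisors.ne_zero hb)
  have hf : Function.Injective ((algebraMap T (FractionRing T)).comp i) := hinjT.comp hi
  have hcomp : (IsFractionRing.lift (K := FractionRing R) hf).comp (algebraMap R (FractionRing R)) =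
      (algebraMap T (FractionRing T)).comp i :=
    RingHom.ext fun r => by rw [RingHom.comp_apply]; exact IsFractionRing.lift_algebraMap (A := R) (K := FractionRing R) hf r
  have hint : IsIntegral T (algebraMap T (FractionRing T) (i a) / algebraMap T (FractionRing T) (i b)) := by
    obtain ⟨p, hp, hpx⟩ := hx
    refine ⟨p.map i, hp.map _, ?_⟩
    have := congrArg (IsFractionRing.lift (K := FractionRing R) hf) hpx
    rw [Polynomial.hom_eval₂, hcomp, map_div₀, IsFractionRing.lift_algebraMap,
      IsFractionRing.lift_algebraMap, map_zero] at this
    rw [Polynomial.eval₂_map]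
    exact this
  obtain ⟨c, hc⟩ := IsIntegrallyClosed.isIntegral_iff.mp hint
  have hmul : c * i b = i a := hinjT (by
    rw [map_mul, hc, div_mul_cancel₀ _ ((map_ne_zero_iff _ hinjT).mpr hb0)])
  obtain ⟨r, hr⟩ := h a b c (nonZeroDivisors.ne_zero hb) hmul
  refine ⟨r, ?_⟩
  rw [eq_div_iff ((map_ne_zero_iff _ (IsFractionRing.injective R (FractionRing R))).mpr
    (nonZeroDivisors.ne_zero hb)), ← map_mul]
  exact congrArg _ (hi (by rw [map_mul, hr, hmul]))


/-- Let k be an algebraically closed field and n, m natural numbers, and let R be the ring of polynomial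
functions of m vectors of k^(n+1) invariant under the special linear group SL(n+1, k) acting on all
the vectors at once and under the rescalings of the individual vectors by units with product 1
(equivalently: invariant and homogeneous of one and the same degree in each vector) — the graded
ring of invariant sections whose Proj is the quotient variety of ordered m-point sets in projective
n-space. Then R is integrally closed in its field of fractions; hence that quotient variety is
normal. (Only the normality assertion of the source's statement is given here; its dimension,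
rationality and singular-locus assertions are not.) -/
theorem result (k : Type u) [Field k] [IsAlgClosed k] (n m : ℕ) :
    IsIntegrallyClosed (W4c5pointsetsdelpezzo.invRing k n m) := by
  haveI : IsIntegrallyClosed (W4c5pointsetsdelpezzo.TupleRing k n m) :=
    UniqueFactorizationMonoid.instIsIntegrallyClosed
  refine isIntegrallyClosed_of_div_closed (W4c5pointsetsdelpezzo.invRing k n m).val.toRingHom
    Subtype.val_injective fun a b c hb0 hmul => ?_
  have hb0' : (b : W4c5pointsetsdelpezzo.TupleRing k n m) ≠ 0 := fun e => hb0 (Subtype.ext e)
  have ha := a.2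
  have hb := b.2
  simp only [W4c5pointsetsdelpezzo.invRing, Algebra.mem_inf, Algebra.mem_iInf, AlgHom.mem_equalizer,
    AlgHom.id_apply] at ha hb
  have hfix : ∀ σ : W4c5pointsetsdelpezzo.TupleRing k n m →ₐ[k] W4c5pointsetsdelpezzo.TupleRing k n m,
      σ a = a → σ b = b → σ c = c := fun σ ha hb' =>
    mul_right_cancel₀ hb0' (by
      have hm : c * (b : W4c5pointsetsdelpezzo.TupleRing k n m) = a := hmul
      rw [hm]; conv_rhs => rw [← ha, ← hm, map_mul, hb'])
  refine ⟨⟨c, ?_⟩, rfl⟩
  simp only [W4c5pointsetsdelpezzo.invRing, Algebra.mem_inf, Algebra.mem_iInf, AlgHom.mem_equalizer,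
    AlgHom.id_apply]
  exact ⟨fun g => hfix _ (ha.1 g) (hb.1 g), fun s => hfix _ (ha.2 s) (hb.2 s)⟩

end Groth.Agent.S18265
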