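import Groth.Statements.S3200
import Mathlib.CategoryTheory.Abelian.Refinements
import Mathlib.CategoryTheory.Preadditive.Biproducts
import Mathlib.Algebra.Homology.ShortComplex.Abelian
import Mathlib.Algebra.Homology.ShortComplex.HomologicalComplex

set_option autoImplicit false
universe v u
open CategoryTheory CategoryTheory.Limits
open SGA6

namespace Groth.Agent.S3200


noncomputable section

open ZeroObject

structure Res0 {C : Type u} [Category.{v} C] [Abelian C] (P₀ P₁ : ObjectProperty C) : Prop where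
  le : ∀ X, P₀ X → P₁ X
  ext₀ : ∀ S : ShortComplex C, S.ShortExact → P₀ S.X₁ → P₀ S.X₃ → P₀ S.X₂
  ker₀ : ∀ S : ShortComplex C, S.ShortExact → P₀ S.X₂ → P₀ S.X₃ → P₀ S.X₁
  ker₁ : ∀ S : ShortComplex C, S.ShortExact → P₁ S.X₂ → P₁ S.X₃ → P₁ S.X₁
  cover : ∀ (A B D : C) (u : A ⟶ B) (v : D ⟶ B), Epi u → P₁ A → P₁ B → P₁ D →
      ∃ (L : C) (u' : L ⟶ D) (v' : L ⟶ A), P₀ L ∧ Epi u' ∧ u' ≫ v = v' ≫ u

section

variable {C : Type u} [Category.{v} C] [Abelian C] {P₀ P₁ : ObjectProperty C}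

lemma kerSES {L A : C} (p : L ⟶ A) [Epi p] :
    (ShortComplex.mk (kernel.ι p) p (kernel.condition p)).ShortExact :=
  .mk' (ShortComplex.exact_of_f_is_kernel _ (kernelIsKernel p)) inferInstance inferInstance

lemma P_zero (h : Res0 P₀ P₁) {A : C} (hA : P₀ A) {Z : C} (hZ : IsZero Z) : P₀ Z := by
  refine h.ker₀ (ShortComplex.mk (0 : Z ⟶ A) (𝟙 A) zero_comp) ?_ hA hA
  have : Mono (0 : Z ⟶ A) := ⟨fun _ _ _ => hZ.eq_of_tgt _ _⟩
  refine .mk' ?_ inferInstance inferInstance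
  exact (ShortComplex.exact_iff_mono _ rfl).mpr (inferInstance : Mono (𝟙 A)) |> fun e => e

def cls (P : ObjectProperty C) (A : C) : KZero.K0sub P := KZero.clSub P A

lemma cls_add (S : ShortComplex C) (hS : S.ShortExact) (h₁ : P₀ S.X₁) (h₂ : P₀ S.X₂) (h₃ : P₀ S.X₃) :
    cls P₀ S.X₂ = cls P₀ S.X₁ + cls P₀ S.X₃ := by
  simp only [cls, KZero.clSub, dif_pos h₁, dif_pos h₂, dif_pos h₃]
  rw [← QuotientAddGroup.mk_add, QuotientAddGroup.eq_iff_sub_mem]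
  refine AddSubgroup.subset_closure ⟨S, h₁, h₂, h₃, hS, ?_⟩
  abel

variable (P₀ P₁) in
def Res : ℕ → C → Prop
  | 0, A => P₁ A ∧ P₀ A
  | (n + 1), A => P₁ A ∧ ∀ S : ShortComplex C, S.ShortExact → (S.X₃ = A) → P₀ S.X₂ → Res n S.X₁

lemma Res.P1 : ∀ {n : ℕ} {A : C}, Res P₀ P₁ n A → P₁ A
  | 0, _, h => h.1
  | _ + 1, _, h => h.1

lemma Res.succ (h : Res0 P₀ P₁) : ∀ {n : ℕ} {A : C}, Res P₀ P₁ n A → Res P₀ P₁ (n + 1) A
  | 0, A, hA => ⟨hA.1, fun S hS e hL => by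
      subst e
      exact ⟨h.le _ (h.ker₀ S hS hL hA.2), h.ker₀ S hS hL hA.2⟩⟩
  | n + 1, A, hA => ⟨hA.1, fun S hS e hL => Res.succ h (hA.2 S hS e hL)⟩

lemma Res.mono (h : Res0 P₀ P₁) {n m : ℕ} (hnm : n ≤ m) {A : C} (hA : Res P₀ P₁ n A) :
    Res P₀ P₁ m A := by
  induction hnm with
  | refl => exact hA
  | step _ ih => exact ih.succ h

lemma Res.of_P0 (h : Res0 P₀ P₁) (n : ℕ) {A : C} (hA : P₀ A) : Res P₀ P₁ n A :=
  Res.mono h (Nat.zero_le n) (show Res P₀ P₁ 0 A from ⟨h.le _ hA, hA⟩)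

lemma Res.ker {n : ℕ} {A L : C} (hA : Res P₀ P₁ (n + 1) A) (p : L ⟶ A) [Epi p] (hL : P₀ L) :
    Res P₀ P₁ n (kernel p) :=
  hA.2 _ (kerSES p) rfl hL

lemma exists_cover (h : Res0 P₀ P₁) {A : C} (hA : P₁ A) :
    ∃ (L : C) (p : L ⟶ A), P₀ L ∧ Epi p := by
  obtain ⟨L, u', -, hL, hu', -⟩ := h.cover A A A (𝟙 A) (𝟙 A) inferInstance hA hA hA
  exact ⟨L, u', hL, hu'⟩

lemma P_biprod (h : Res0 P₀ P₁) {L L' : C} (hL : P₀ L) (hL' : P₀ L') : P₀ (L ⊞ L') :=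
  h.ext₀ _ (ShortComplex.Splitting.ofHasBinaryBiproduct L L').shortExact hL hL'

variable {A' A A'' L' L : C} (f : A' ⟶ A) (g : A ⟶ A'') (w : f ≫ g = 0)
  (u' : L' ⟶ A') (t : L ⟶ A)

abbrev hs : L' ⊞ L ⟶ A := biprod.desc (u' ≫ f) t

include w in
lemma hs_g : hs f u' t ≫ g = biprod.snd ≫ t ≫ g := by
  ext <;> simp [hs, w]

lemma horseshoe (hS : (ShortComplex.mk f g w).ShortExact) [Epi u'] :
    ∃ (a : kernel u' ⟶ kernel (hs f u' t)) (b : kernel (hs f u' t) ⟶ kernel (t ≫ g))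
      (z : a ≫ b = 0), (ShortComplex.mk a b z).ShortExact := by
  have := hS.mono_f
  let a : kernel u' ⟶ kernel (hs f u' t) := kernel.lift _ (kernel.ι u' ≫ biprod.inl) (by simp [hs])
  let b : kernel (hs f u' t) ⟶ kernel (t ≫ g) := kernel.lift _ (kernel.ι (hs f u' t) ≫ biprod.snd)
    (by rw [Category.assoc, ← hs_g f g w u' t, kernel.condition_assoc, zero_comp])
  have z : a ≫ b = 0 := by
    rw [← cancel_mono (kernel.ι _)]
    simp [a, b]
  have : Mono a := by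
    have : Mono (a ≫ kernel.ι (hs f u' t)) := by
      simp only [a, kernel.lift_ι]; exact mono_comp _ _
    exact mono_of_mono a (kernel.ι (hs f u' t))
  have : Epi b := by
    rw [epi_iff_surjective_up_to_refinements]
    intro T x
    let s : T ⟶ A' := hS.exact.lift (x ≫ kernel.ι (t ≫ g) ≫ t)
      (show (x ≫ kernel.ι (t ≫ g) ≫ t) ≫ g = 0 by simp)
    have hs' : s ≫ f = x ≫ kernel.ι (t ≫ g) ≫ t := hS.exact.lift_f _ _
    obtain ⟨T', π, hπ, y, hy⟩ := surjective_up_to_refinements_of_epi u' s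
    refine ⟨T', π, hπ, kernel.lift _ (biprod.lift (-y) (π ≫ x ≫ kernel.ι (t ≫ g))) ?_, ?_⟩
    · simp only [hs, biprod.lift_desc, Preadditive.neg_comp, ← reassoc_of% hy, hs', Category.assoc]
      simp
    · rw [← cancel_mono (kernel.ι _)]
      simp [b]
  refine ⟨a, b, z, .mk' ?_ ‹_› ‹_›⟩
  rw [ShortComplex.exact_iff_exact_up_to_refinements]
  intro T x hx
  have h2 : x ≫ kernel.ι (hs f u' t) ≫ biprod.snd = 0 := by
    have := congrArg (· ≫ kernel.ι (t ≫ g)) hx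
    simpa [b] using this
  have h4 : x ≫ kernel.ι (hs f u' t) = (x ≫ kernel.ι (hs f u' t) ≫ biprod.fst) ≫ biprod.inl := by
    apply biprod.hom_ext <;> simp [h2]
  have h3 : (x ≫ kernel.ι (hs f u' t) ≫ biprod.fst) ≫ u' = 0 := by
    rw [← cancel_mono f, zero_comp, Category.assoc]
    have := congrArg (· ≫ hs f u' t) h4
    simp only [Category.assoc, kernel.condition, comp_zero] at this
    rw [this]
    simp [hs]
  exact ⟨T, 𝟙 T, inferInstance, kernel.lift u' _ h3, by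
    rw [← cancel_mono (kernel.ι _)]; simpa [a] using h4⟩

end

section

variable {C : Type u} [Category.{v} C] [Abelian C] {P₀ P₁ : ObjectProperty C}

structure Euler (P₀ P₁ : ObjectProperty C) (n : ℕ) (χ : C → KZero.K0sub P₀) : Prop where
  eq_cls : ∀ A, P₀ A → χ A = cls P₀ A
  add : ∀ S : ShortComplex C, S.ShortExact → Res P₀ P₁ n S.X₁ → Res P₀ P₁ n S.X₂ →
    Res P₀ P₁ n S.X₃ → χ S.X₂ = χ S.X₁ + χ S.X₃

lemma cls_zero (h : Res0 P₀ P₁) {Z : C} (hZ : IsZero Z) (hP : P₀ Z) : cls P₀ Z = 0 := by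
  have hS : (ShortComplex.mk (𝟙 Z) (𝟙 Z) (hZ.eq_of_src _ _)).ShortExact :=
    .mk' (ShortComplex.exact_of_isZero_X₂ _ hZ) inferInstance inferInstance
  simpa using cls_add _ hS hP hP hP

lemma Euler.iso (h : Res0 P₀ P₁) {n : ℕ} {χ : C → KZero.K0sub P₀} (hχ : Euler P₀ P₁ n χ)
    {A B : C} (e : A ≅ B) (hA : Res P₀ P₁ n A) (hB : Res P₀ P₁ n B) : χ A = χ B := by
  obtain ⟨L, -, hL, -⟩ := exists_cover h hA.P1
  have hz := P_zero h hL (isZero_zero C)
  have hS : (ShortComplex.mk e.hom (0 : B ⟶ 0) comp_zero).ShortExact :=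
    .mk' ((ShortComplex.exact_iff_epi _ rfl).mpr (inferInstance : Epi e.hom)) inferInstance
      ⟨fun _ _ _ => (isZero_zero C).eq_of_src _ _⟩
  have := hχ.add _ hS hA hB (Res.of_P0 h n hz)
  rw [hχ.eq_cls _ hz, cls_zero h (isZero_zero C) hz, add_zero] at this
  exact this.symm

lemma Euler.formula (h : Res0 P₀ P₁) {n : ℕ} {χ : C → KZero.K0sub P₀}
    (hχ : Euler P₀ P₁ (n + 1) χ) {A L : C} (hA : Res P₀ P₁ (n + 1) A) (p : L ⟶ A) [Epi p] (hL : P₀ L) :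
    χ A = cls P₀ L - χ (kernel p) := by
  have := hχ.add _ (kerSES p) ((hA.ker p hL).succ h) (Res.of_P0 h _ hL) hA
  dsimp at this
  rw [← hχ.eq_cls L hL, this]
  abel

lemma Euler.restrict (h : Res0 P₀ P₁) {n : ℕ} {χ : C → KZero.K0sub P₀}
    (hχ : Euler P₀ P₁ (n + 1) χ) : Euler P₀ P₁ n χ :=
  ⟨hχ.eq_cls, fun S hS h₁ h₂ h₃ => hχ.add S hS (h₁.succ h) (h₂.succ h) (h₃.succ h)⟩

lemma Euler.unique (h : Res0 P₀ P₁) : ∀ {n : ℕ} {χ χ' : C → KZero.K0sub P₀}, Euler P₀ P₁ n χ →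
    Euler P₀ P₁ n χ' → ∀ A, Res P₀ P₁ n A → χ A = χ' A
  | 0, _, _, hχ, hχ', A, hA => by rw [hχ.eq_cls A hA.2, hχ'.eq_cls A hA.2]
  | n + 1, χ, χ', hχ, hχ', A, hA => by
    obtain ⟨L, p, hL, hp⟩ := exists_cover h hA.P1
    rw [hχ.formula h hA p hL, hχ'.formula h hA p hL,
      Euler.unique h (hχ.restrict h) (hχ'.restrict h) _ (hA.ker p hL)]

lemma Euler.step [P₀.IsClosedUnderIsomorphisms] (h : Res0 P₀ P₁) {n : ℕ} {χ : C → KZero.K0sub P₀} (hχ : Euler P₀ P₁ n χ) :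
    ∃ χ', Euler P₀ P₁ (n + 1) χ' := by
  classical
  -- comparison of a cover with the sum of two covers
  have cmp : ∀ {A L₁ L₂ : C}, Res P₀ P₁ (n + 1) A → ∀ (p₁ : L₁ ⟶ A) (p₂ : L₂ ⟶ A), Epi p₁ →
      P₀ L₁ → P₀ L₂ →
      cls P₀ (L₁ ⊞ L₂) - χ (kernel (biprod.desc p₁ p₂)) = cls P₀ L₁ - χ (kernel p₁) := by
    intro A L₁ L₂ hA p₁ p₂ hp₁ h₁ h₂
    have hS : (ShortComplex.mk (𝟙 A) (0 : A ⟶ 0) comp_zero).ShortExact :=
      .mk' ((ShortComplex.exact_iff_epi _ rfl).mpr (inferInstance : Epi (𝟙 A))) inferInstance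
        ⟨fun _ _ _ => (isZero_zero C).eq_of_src _ _⟩
    obtain ⟨a, b, z, hK⟩ := horseshoe (𝟙 A) (0 : A ⟶ 0) comp_zero p₁ p₂ hS
    have e₁ : kernel (hs (𝟙 A) p₁ p₂) ≅ kernel (biprod.desc p₁ p₂) :=
      kernelIsoOfEq (by simp [hs])
    have : IsIso (kernel.ι (p₂ ≫ (0 : A ⟶ 0))) :=
      ⟨kernel.lift _ (𝟙 _) (by simp), by rw [← cancel_mono (kernel.ι _)]; simp, by simp⟩
    have e₂ : kernel (p₂ ≫ (0 : A ⟶ 0)) ≅ L₂ := asIso (kernel.ι (p₂ ≫ (0 : A ⟶ 0)))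
    have hp : Epi (biprod.desc p₁ p₂) := by
      have : Epi (biprod.inl ≫ biprod.desc p₁ p₂) := by rw [biprod.inl_desc]; exact hp₁
      exact epi_of_epi biprod.inl _
    have hsum := P_biprod h h₁ h₂
    have r₂ : P₀ (kernel (p₂ ≫ (0 : A ⟶ 0))) := P₀.prop_of_iso e₂.symm h₂
    have hp' : Epi (hs (𝟙 A) p₁ p₂) := by simpa [hs] using hp
    have := hχ.add _ hK (hA.ker p₁ h₁) (hA.ker _ hsum) (Res.of_P0 h n r₂)
    dsimp at this
    rw [← hχ.iso h e₁ (hA.ker _ hsum) (hA.ker _ hsum), this,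
      hχ.iso h e₂ (Res.of_P0 h n r₂) (Res.of_P0 h n h₂), hχ.eq_cls _ h₂,
      cls_add _ (ShortComplex.Splitting.ofHasBinaryBiproduct L₁ L₂).shortExact h₁ hsum h₂]
    abel
  have wd : ∀ {A L₁ L₂ : C}, Res P₀ P₁ (n + 1) A → ∀ (p₁ : L₁ ⟶ A) (p₂ : L₂ ⟶ A), Epi p₁ →
      Epi p₂ → P₀ L₁ → P₀ L₂ → cls P₀ L₁ - χ (kernel p₁) = cls P₀ L₂ - χ (kernel p₂) := by
    intro A L₁ L₂ hA p₁ p₂ hp₁ hp₂ h₁ h₂
    rw [← cmp hA p₁ p₂ hp₁ h₁ h₂, ← cmp hA p₂ p₁ hp₂ h₂ h₁]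
    have hd : ∀ {M₁ M₂ : C} (q₁ : M₁ ⟶ A) (q₂ : M₂ ⟶ A), Epi q₁ → Epi (biprod.desc q₁ q₂) := by
      intro M₁ M₂ q₁ q₂ hq
      have : Epi (biprod.inl ≫ biprod.desc q₁ q₂) := by rw [biprod.inl_desc]; exact hq
      exact epi_of_epi biprod.inl _
    have i₁ := hd p₁ p₂ hp₁
    have i₂ := hd p₂ p₁ hp₂
    let e : kernel (biprod.desc p₁ p₂) ≅ kernel (biprod.desc p₂ p₁) :=
      kernel.mapIso _ _ (biprod.braiding L₁ L₂) (Iso.refl _) (by ext <;> simp)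
    have hs12 := P_biprod h h₁ h₂
    have hs21 := P_biprod h h₂ h₁
    rw [hχ.iso h e (hA.ker _ hs12) (hA.ker _ hs21),
      cls_add _ (ShortComplex.Splitting.ofHasBinaryBiproduct L₁ L₂).shortExact h₁ hs12 h₂,
      cls_add _ (ShortComplex.Splitting.ofHasBinaryBiproduct L₂ L₁).shortExact h₂ hs21 h₁]
    dsimp
    abel
  let χ' : C → KZero.K0sub P₀ := fun A =>
    if hA : P₁ A then cls P₀ (exists_cover h hA).choose -
      χ (kernel (exists_cover h hA).choose_spec.choose) else 0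
  have formula : ∀ {A L : C}, Res P₀ P₁ (n + 1) A → ∀ (p : L ⟶ A), Epi p → P₀ L →
      χ' A = cls P₀ L - χ (kernel p) := by
    intro A L hA p hp hL
    simp only [χ', dif_pos hA.P1]
    exact wd hA _ p (exists_cover h hA.P1).choose_spec.choose_spec.2 hp
      (exists_cover h hA.P1).choose_spec.choose_spec.1 hL
  refine ⟨χ', ⟨fun A hA => ?_, fun S hS r₁ r₂ r₃ => ?_⟩⟩
  · obtain ⟨L, p, hL, hp⟩ := exists_cover h (h.le _ hA)
    have hk := h.ker₀ _ (kerSES p) hL hA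
    rw [formula (Res.of_P0 h _ hA) p hp hL, hχ.eq_cls _ hk, cls_add _ (kerSES p) hk hL hA]
    dsimp
    abel
  · obtain ⟨L₃, q, hL₃, hq⟩ := exists_cover h r₃.P1
    obtain ⟨L, u, t, hL, hu, ht⟩ := h.cover S.X₂ S.X₃ L₃ S.g q hS.epi_g r₂.P1 r₃.P1 (h.le _ hL₃)
    obtain ⟨L₁, u₁, hL₁, hu₁⟩ := exists_cover h r₁.P1
    have htg : Epi (t ≫ S.g) := ht ▸ epi_comp u q
    have hd : Epi (hs S.f u₁ t) := by
      rw [epi_iff_surjective_up_to_refinements]
      intro T x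
      obtain ⟨T₁, π₁, hπ₁, l, hl⟩ := surjective_up_to_refinements_of_epi (t ≫ S.g) (x ≫ S.g)
      have := hS.mono_f
      let s : T₁ ⟶ S.X₁ := hS.exact.lift (π₁ ≫ x - l ≫ t)
        (by simp [Preadditive.sub_comp, hl])
      obtain ⟨T₂, π₂, hπ₂, m, hm⟩ := surjective_up_to_refinements_of_epi u₁ s
      refine ⟨T₂, π₂ ≫ π₁, inferInstance, biprod.lift m (π₂ ≫ l), ?_⟩
      simp only [hs, biprod.lift_desc, ← reassoc_of% hm, s, ShortComplex.Exact.lift_f,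
        Preadditive.comp_sub, Category.assoc]
      abel
    obtain ⟨a, b, z, hK⟩ := horseshoe S.f S.g S.zero u₁ t hS
    have hsum := P_biprod h hL₁ hL
    rw [formula r₂ _ hd hsum, formula r₁ u₁ hu₁ hL₁, formula r₃ _ htg hL]
    have := hχ.add _ hK (r₁.ker u₁ hL₁) (r₂.ker _ hsum) (r₃.ker _ hL)
    dsimp at this
    rw [this, cls_add _ (ShortComplex.Splitting.ofHasBinaryBiproduct L₁ L).shortExact hL₁ hsum hL]
    dsimp
    abel

lemma exists_euler [P₀.IsClosedUnderIsomorphisms] (h : Res0 P₀ P₁) : ∀ n, ∃ χ, Euler P₀ P₁ n χ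
  | 0 => ⟨cls P₀, fun _ _ => rfl, fun S hS h₁ h₂ h₃ => cls_add S hS h₁.2 h₂.2 h₃.2⟩
  | n + 1 => by
    obtain ⟨χ, hχ⟩ := exists_euler h n
    exact hχ.step h

theorem bijective_of_res [P₀.IsClosedUnderIsomorphisms] (h : Res0 P₀ P₁) (hle : ∀ X, P₀ X → P₁ X)
    (hres : ∀ A, P₁ A → ∃ n, Res P₀ P₁ n A) : Function.Bijective (SGA6.mapSub (𝟭 C) P₀ P₁ hle) := by
  classical
  choose χ hχ using exists_euler h
  let N : Subtype P₁ → ℕ := fun A => (hres A.1 A.2).choose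
  have hN : ∀ A : Subtype P₁, Res P₀ P₁ (N A) A.1 := fun A => (hres A.1 A.2).choose_spec
  have stable : ∀ {n m : ℕ}, n ≤ m → ∀ A, Res P₀ P₁ n A → χ m A = χ n A := by
    intro n m hnm A hA
    have : Euler P₀ P₁ n (χ m) := by
      clear hA
      revert hnm
      suffices ∀ d, ∀ m, ∀ φ, Euler P₀ P₁ m φ → m = n + d → Euler P₀ P₁ n φ from
        fun hnm => this (m - n) m _ (hχ m) (by omega)
      intro d
      induction d with
      | zero => intro m φ hφ e; subst e; exact hφ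
      | succ d ih => intro m φ hφ e; subst e; exact ih _ φ (hφ.restrict h) rfl
    exact Euler.unique h this (hχ n) A hA
  let F : FreeAbelianGroup (Subtype P₁) →+ KZero.K0sub P₀ :=
    FreeAbelianGroup.lift fun A => χ (N A) A.1
  have hF : KZero.relSub P₁ ≤ F.ker := by
    rw [KZero.relSub, AddSubgroup.closure_le]
    rintro x ⟨S, h₁, h₂, h₃, hS, rfl⟩
    let m := max (N ⟨_, h₁⟩) (max (N ⟨_, h₂⟩) (N ⟨_, h₃⟩))
    have l₁ : N ⟨_, h₁⟩ ≤ m := le_max_left _ _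
    have l₂ : N ⟨_, h₂⟩ ≤ m := (le_max_left _ _).trans (le_max_right _ _)
    have l₃ : N ⟨_, h₃⟩ ≤ m := (le_max_right _ _).trans (le_max_right _ _)
    have := (hχ m).add S hS ((hN ⟨_, h₁⟩).mono h l₁) ((hN ⟨_, h₂⟩).mono h l₂) ((hN ⟨_, h₃⟩).mono h l₃)
    rw [stable l₁ _ (hN ⟨_, h₁⟩), stable l₂ _ (hN ⟨_, h₂⟩), stable l₃ _ (hN ⟨_, h₃⟩)] at this
    simp only [SetLike.mem_coe, AddMonoidHom.mem_ker, map_sub, F, FreeAbelianGroup.lift_apply_of]
    rw [this]; abel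
  let G : KZero.K0sub P₁ →+ KZero.K0sub P₀ := QuotientAddGroup.lift _ F hF
  have hG : ∀ A (hA : P₁ A), G (cls P₁ A) = χ (N ⟨A, hA⟩) A := by
    intro A hA
    simp [cls, KZero.clSub, dif_pos hA, G, F]
  have hι : ∀ A (hA : P₀ A), SGA6.mapSub (𝟭 C) P₀ P₁ hle (cls P₀ A) = cls P₁ A := by
    intro A hA
    simp [cls, KZero.clSub, dif_pos hA, dif_pos (hle A hA), SGA6.mapSub, SGA6.objMap]
  refine ⟨Function.LeftInverse.injective (g := G) ?_, ?_⟩
  · intro x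
    induction x using QuotientAddGroup.induction_on with
    | H z =>
      induction z using FreeAbelianGroup.induction_on with
      | zero => simp
      | of A =>
        have hA : (QuotientAddGroup.mk (FreeAbelianGroup.of A) : KZero.K0sub P₀) = cls P₀ A.1 := by
          simp [cls, KZero.clSub, dif_pos A.2]
        rw [hA, hι _ A.2, hG _ (hle _ A.2), (hχ _).eq_cls _ A.2]
      | neg A hA => rw [QuotientAddGroup.mk_neg, map_neg, map_neg, hA]
      | add a b ha hb => rw [QuotientAddGroup.mk_add, map_add, map_add, ha, hb]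
  · have key : ∀ n A, Res P₀ P₁ n A → cls P₁ A ∈ (SGA6.mapSub (𝟭 C) P₀ P₁ hle).range := by
      intro n
      induction n with
      | zero => exact fun A hA => ⟨_, hι A hA.2⟩
      | succ n ih =>
        intro A hA
        obtain ⟨L, p, hL, hp⟩ := exists_cover h hA.P1
        have := cls_add (P₀ := P₁) _ (kerSES p) (hA.ker p hL).P1 (hle _ hL) hA.P1
        dsimp at this
        rw [show cls P₁ A = cls P₁ L - cls P₁ (kernel p) by rw [this]; abel]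
        exact sub_mem ⟨_, hι L hL⟩ (ih _ (hA.ker p hL))
    intro x
    induction x using QuotientAddGroup.induction_on with
    | H z =>
      induction z using FreeAbelianGroup.induction_on with
      | zero => exact ⟨0, by simp⟩
      | of A =>
        obtain ⟨y, hy⟩ := key _ A.1 (hN A)
        exact ⟨y, by rw [hy]; simp [cls, KZero.clSub, dif_pos A.2]⟩
      | neg A hA => obtain ⟨y, hy⟩ := hA; exact ⟨-y, by rw [map_neg, hy, QuotientAddGroup.mk_neg]⟩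
      | add a b ha hb =>
        obtain ⟨y, hy⟩ := ha; obtain ⟨y', hy'⟩ := hb
        exact ⟨y + y', by rw [map_add, hy, hy', QuotientAddGroup.mk_add]⟩

structure Tower (P₀ P₁ : ObjectProperty C) (A : C) where
  S : ℕ → ShortComplex C
  exact : ∀ i, (S i).ShortExact
  memL : ∀ i, P₀ (S i).X₂
  glue : ∀ i, (S (i + 1)).X₃ ≅ (S i).X₁
  base : (S 0).X₃ ≅ A

lemma exists_tower (h : Res0 P₀ P₁) {A : C} (hA : P₁ A) : Nonempty (Tower P₀ P₁ A) := by
  have next' : ∀ B : Subtype P₁, ∃ S : ShortComplex C, S.ShortExact ∧ P₀ S.X₂ ∧ S.X₃ = B.1 := by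
    intro B
    obtain ⟨L, p, hL, hp⟩ := exists_cover h B.2
    exact ⟨_, kerSES p, hL, rfl⟩
  choose S hS hL he using next'
  let B : ℕ → Subtype P₁ := fun i => i.rec ⟨A, hA⟩ (fun _ b =>
    ⟨(S b).X₁, h.ker₁ _ (hS b) (h.le _ (hL b)) ((he b).symm ▸ b.2)⟩)
  exact ⟨{ S := fun i => S (B i), exact := fun i => hS _, memL := fun i => hL _,
           glue := fun i => eqToIso (he (B (i + 1))), base := eqToIso (he (B 0)) }⟩

def Tower.cons {A : C} {S₀ : ShortComplex C} (hS : S₀.ShortExact) (hL : P₀ S₀.X₂)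
    (e : S₀.X₃ ≅ A) (T : Tower P₀ P₁ S₀.X₁) : Tower P₀ P₁ A where
  S := fun i => match i with | 0 => S₀ | i + 1 => T.S i
  exact := fun i => match i with | 0 => hS | i + 1 => T.exact i
  memL := fun i => match i with | 0 => hL | i + 1 => T.memL i
  glue := fun i => match i with | 0 => T.base | i + 1 => T.glue i
  base := e

lemma Res.of_tower [P₀.IsClosedUnderIsomorphisms] (h : Res0 P₀ P₁) :
    ∀ (n : ℕ) {A : C}, P₁ A → (∀ T : Tower P₀ P₁ A, P₀ (T.S n).X₁) → Res P₀ P₁ (n + 1) A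
  | 0, A, hA, H => ⟨hA, fun S hS e hL => by
      subst e
      have k₁ := h.ker₁ _ hS (h.le _ hL) hA
      obtain ⟨T⟩ := exists_tower h k₁
      exact ⟨k₁, H (Tower.cons hS hL (Iso.refl _) T)⟩⟩
  | n + 1, A, hA, H => ⟨hA, fun S hS e hL => by
      subst e
      exact Res.of_tower h n (h.ker₁ _ hS (h.le _ hL) hA)
        (fun T => H (Tower.cons hS hL (Iso.refl _) T))⟩

def Tower.cx {A : C} (T : Tower P₀ P₁ A) : ChainComplex C ℕ :=
  ChainComplex.of (fun i => (T.S i).X₂) (fun i => (T.S (i + 1)).g ≫ (T.glue i).hom ≫ (T.S i).f)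
    (fun i => by simp [ShortComplex.zero_assoc])

lemma Tower.cx_d {A : C} (T : Tower P₀ P₁ A) (i : ℕ) :
    T.cx.d (i + 1) i = (T.S (i + 1)).g ≫ (T.glue i).hom ≫ (T.S i).f :=
  by simp [Tower.cx]

lemma Tower.exactAt {A : C} (T : Tower P₀ P₁ A) (i : ℕ) : T.cx.ExactAt (i + 1) := by
  rw [HomologicalComplex.exactAt_iff' _ (i + 1 + 1) (i + 1) i (by simp) (by simp)]
  rw [ShortComplex.exact_iff_exact_up_to_refinements]
  intro X
  change ∀ x : X ⟶ (T.S (i + 1)).X₂, x ≫ T.cx.d (i + 1) i = 0 → _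
  intro x hx
  rw [T.cx_d] at hx
  have := (T.exact (i + 1)).mono_f
  have := (T.exact (i + 1 + 1)).epi_g
  have := (T.exact i).mono_f
  have hx' : x ≫ (T.S (i + 1)).g = 0 := by
    rw [← cancel_mono ((T.glue i).hom ≫ (T.S i).f)]
    simp only [Category.assoc, zero_comp]
    exact hx
  obtain ⟨X', π, hπ, y, hy⟩ := surjective_up_to_refinements_of_epi
    ((T.S (i + 1 + 1)).g ≫ (T.glue (i + 1)).hom) ((T.exact (i + 1)).exact.lift x hx')
  refine ⟨X', π, hπ, y, ?_⟩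
  change π ≫ x = y ≫ T.cx.d (i + 1 + 1) (i + 1)
  rw [T.cx_d]
  have := congrArg (· ≫ (T.S (i + 1)).f) hy
  simp only [Category.assoc, ShortComplex.Exact.lift_f] at this
  exact this

lemma Tower.homology_iso {A : C} (T : Tower P₀ P₁ A) : Nonempty (T.cx.homology 0 ≅ A) := by
  have hd : T.cx.d 1 0 = (T.S 1).g ≫ (T.glue 0).hom ≫ (T.S 0).f := T.cx_d _
  let h₁ := T.cx.opcyclesIsCokernel 1 0 (by simp)
  have := (T.exact 1).epi_g
  have he : Epi ((T.S 1).g ≫ (T.glue 0).hom) := epi_comp _ _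
  have h₂ := isCokernelEpiComp (T.exact 0).gIsCokernel ((T.S 1).g ≫ (T.glue 0).hom)
    (h := T.cx.d 1 0) (by rw [hd, Category.assoc])
  exact ⟨T.cx.isoHomologyι₀ ≪≫ h₁.coconePointUniqueUpToIso h₂ ≪≫ T.base⟩

lemma Tower.cycles_iso {A : C} (T : Tower P₀ P₁ A) (i : ℕ) :
    Nonempty (T.cx.cycles (i + 1) ≅ (T.S (i + 1)).X₁) := by
  have hd : T.cx.d (i + 1) i = (T.S (i + 1)).g ≫ (T.glue i).hom ≫ (T.S i).f := T.cx_d _
  let h₁ := T.cx.cyclesIsKernel (i + 1) i (by simp)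
  have := (T.exact i).mono_f
  have hm : Mono ((T.glue i).hom ≫ (T.S i).f) := mono_comp _ _
  have h₂ := isKernelCompMono (T.exact (i + 1)).fIsKernel ((T.glue i).hom ≫ (T.S i).f)
    (h := T.cx.d (i + 1) i) hd
  exact ⟨h₁.conePointUniqueUpToIso h₂⟩

end

end

/-- Let C be an abelian category and P₀ ≤ P₁ two isomorphism-closed classes of objects, both stable
under extensions, such that: (i) for every short exact sequence 0 → A' → A → A'' → 0 with A, A'' in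
P₀ (resp. P₁), A' is in P₀ (resp. P₁); (ii) for u : A ⟶ B an epimorphism and v : D ⟶ B with A, B, D
in P₁ there are L in P₀, an epimorphism u' : L ⟶ D and v' : L ⟶ A with u' ≫ v = v' ≫ u; (iii) for
every A in P₁ there is d such that for every resolution L of A by objects of P₀ (a chain complex of
objects of P₀, exact in positive degrees, with H₀(L) ≅ A) the object of cycles Z_{d+1}(L) =
ker(L_{d+1} → L_d) is in P₀. Then the homomorphism K₀(P₀) ⟶ K₀(P₁) induced by the inclusion is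
bijective. (Two deviations from the published statement. Stability of P₀ and P₁ under extensions is
assumed here in addition to (i)–(iii); without it the conclusion can fail. In (iii) the published
statement asks that Z_d(L) be in P₀; asking it of Z_{d+1}(L) is equivalent given (i), and avoids
degree 0, where the cycles of the complex L in Mathlib's sense are L₀ itself rather than the kernel
of the augmentation L₀ → A.) -/
theorem result {C : Type u} [Category.{v} C] [Abelian C]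
    (P₀ P₁ : ObjectProperty C) [P₀.IsClosedUnderIsomorphisms] [P₁.IsClosedUnderIsomorphisms] (hle : ∀ X, P₀ X → P₁ X)
    (hext₀ : ∀ S : ShortComplex C, S.ShortExact → P₀ S.X₁ → P₀ S.X₃ → P₀ S.X₂)
    (hext₁ : ∀ S : ShortComplex C, S.ShortExact → P₁ S.X₁ → P₁ S.X₃ → P₁ S.X₂)
    (h1₀ : ∀ S : ShortComplex C, S.ShortExact → P₀ S.X₂ → P₀ S.X₃ → P₀ S.X₁)
    (h1₁ : ∀ S : ShortComplex C, S.ShortExact → P₁ S.X₂ → P₁ S.X₃ → P₁ S.X₁)
    (h2 : ∀ (A B D : C) (u : A ⟶ B) (v : D ⟶ B), Epi u → P₁ A → P₁ B → P₁ D →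
      ∃ (L : C) (u' : L ⟶ D) (v' : L ⟶ A), P₀ L ∧ Epi u' ∧ u' ≫ v = v' ≫ u)
    (h3 : ∀ A : C, P₁ A → ∃ d : ℕ, ∀ L : ChainComplex C ℕ, (∀ i, P₀ (L.X i)) → (∀ i, 1 ≤ i → L.ExactAt i) →
      Nonempty (L.homology 0 ≅ A) → P₀ (L.cycles (d + 1))) :
    Function.Bijective (SGA6.mapSub (𝟭 C) P₀ P₁ hle) := by
  refine bijective_of_res ⟨hle, hext₀, h1₀, h1₁, h2⟩ hle fun A hA => ?_
  obtain ⟨d, hd⟩ := h3 A hA
  refine ⟨d + 2, Res.of_tower ⟨hle, hext₀, h1₀, h1₁, h2⟩ (d + 1) hA fun T => ?_⟩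
  obtain ⟨e⟩ := T.cycles_iso d
  refine P₀.prop_of_iso e (hd T.cx (fun i => T.memL i) ?_ T.homology_iso)
  intro i hi
  obtain ⟨j, rfl⟩ : ∃ j, i = j + 1 := ⟨i - 1, by omega⟩
  exact T.exactAt j

end Groth.Agent.S3200
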