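import Groth.Statements.S16492
import Groth.Agent.Lib.CohMop.DualTensor
import Groth.Agent.Lib.Hurwitz17.DualDeg
import Groth.Agent.Lib.RefHull26.Hom
import Groth.Agent.Lib.KS17.Bundle
import Groth.Prelude.Def_RefFun
import Groth.Prelude.Def_DefoSh
-- import your own Groth.Agent.* helpers here

set_option autoImplicit false
universe u
open CategoryTheory CategoryTheory.Limits AlgebraicGeometry
open VBCurve

namespace Groth.Agent.S16492

namespace Aux

open Groth.Agent Groth.Agent.M1 Groth.Agent.M2 Groth.Agent.CurveCoh17 KFlat KFlat.Sch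
open scoped Groth.Agent.DMon9

set_option maxHeartbeats 1600000

variable {X : Scheme.{u}} [IsLocallyNoetherian X]

/-- Evaluation on the sheaf-Hom dual. -/
noncomputable def evBi (A : X.Modules) : BiMap (RefHull.dual A) A (Coh.structureModule X) where
  f U θ s := (RH26.exists_app (le_refl U) θ s).choose
  add_left U θ θ' s := M1.section_ext _ _ fun y hy => by
    rw [map_add, (RH26.exists_app (le_refl U) θ s).choose_spec.1 y hy, (RH26.exists_app (le_refl U) θ' s).choose_spec.1 y hy,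
      (RH26.exists_app (le_refl U) (θ + θ') s).choose_spec.1 y hy]
    rfl
  smul_left U r θ s := M1.section_ext _ _ fun y hy => by
    rw [M1.germ_smul, (RH26.exists_app (le_refl U) θ s).choose_spec.1 y hy,
      (RH26.exists_app (le_refl U) (r • θ) s).choose_spec.1 y hy]
    rfl
  add_right U θ s s' := M1.section_ext _ _ fun y hy => by
    rw [map_add, (RH26.exists_app (le_refl U) θ s).choose_spec.1 y hy, (RH26.exists_app (le_refl U) θ s').choose_spec.1 y hy,
      (RH26.exists_app (le_refl U) θ (s + s')).choose_spec.1 y hy, map_add, map_add]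
  smul_right U r θ s := M1.section_ext _ _ fun y hy => by
    rw [M1.germ_smul, (RH26.exists_app (le_refl U) θ s).choose_spec.1 y hy,
      (RH26.exists_app (le_refl U) θ (r • s)).choose_spec.1 y hy, M1.germ_smul, map_smul]
  compat {U V} h θ s := M1.section_ext _ _ fun y hy => by
    rw [(RH26.exists_app (le_refl V) _ _).choose_spec.1 y hy, germ_mres A h hy s]
    refine Eq.trans ?_ (germ_mres (Coh.structureModule X) h hy _).symm
    exact ((RH26.exists_app (le_refl U) θ s).choose_spec.1 y (h hy)).symm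

theorem bil_ev {A : X.Modules} (hA : Coh.IsCoh A) (x : X) (θ : (RefHull.dual A).presheaf.stalk x) (a : A.presheaf.stalk x) :
    bil (mkHom (evBi A)) x θ a = RH26.str x (RH26.dualEquiv hA x θ a) := by
  obtain ⟨U, hx, g, s, rfl, rfl⟩ := exists_germ_germ x θ a
  rw [bil_apply, (LinearEquiv.symm_apply_eq _).2 (stalkEquiv_tsec (RefHull.dual A) A x hx g s).symm, stalkLin_apply,
    germ_naturality, mkHom_tsec, RH26.dualEquiv_apply, LinearEquiv.apply_symm_apply]
  refine ((RH26.exists_app (le_refl U) g s).choose_spec.1 x hx).trans ?_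
  exact (LinearMap.congr_fun (RefHull.evalStalk_germ A (Coh.structureModule X) x hx g) _).symm

theorem bil_comm {A B N : X.Modules} (γ : CohB1.tensorMod A B ⟶ N) (x : X) (b : B.presheaf.stalk x) (a : A.presheaf.stalk x) :
    bil ((tensorComm B A).hom ≫ γ) x b a = bil γ x a b := by
  rw [bil_apply, stalkLin_comp, ← bil_apply (tensorComm B A).hom, stalkLin_tensorComm_symm, bil_apply]

theorem ext_bil {A B N : X.Modules} {γ δ : CohB1.tensorMod A B ⟶ N} (h : ∀ x a b, bil γ x a b = bil δ x a b) : γ = δ :=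
  LefFEt11.hom_ext_stalkMapₗ fun x => LinearMap.ext fun z => by
    obtain ⟨w, rfl⟩ := (stalkEquiv A B x).symm.surjective z
    show stalkLin γ x _ = stalkLin δ x _
    induction w using TensorProduct.induction_on with
    | zero => simp
    | tmul a b => exact h x a b
    | add a b ha hb => simp only [map_add, ha, hb]

/-- The adjoint dual and the sheaf-Hom dual agree. -/
theorem dual_iso {A : X.Modules} (hA : Coh.IsCoh A) : Nonempty (CohMop.dual A ≅ RefHull.dual A) := by
  let ε : CohB1.tensorMod (CohMop.dual A) A ⟶ Coh.structureModule X :=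
    (CohMop.ihomAdj A).counit.app (Coh.structureModule X)
  let φ : RefHull.dual A ⟶ CohMop.dual A := (CohMop.ihomAdj A).homEquiv _ _ (mkHom (evBi A))
  let ψ : CohMop.dual A ⟶ RefHull.dual A := Hurwitz17.pairDual ((tensorComm A (CohMop.dual A)).hom ≫ ε)
  have hφ : tensorMap φ (𝟙 A) ≫ ε = mkHom (evBi A) := by
    show (CohMop.tenR A).map φ ≫ _ = _
    exact ((CohMop.ihomAdj A).homEquiv_counit (g := φ)).symm.trans (Equiv.symm_apply_apply _ _)
  have hψ : ∀ x b a, RH26.dualEquiv hA x (stalkLin ψ x b) a = (RH26.str x).symm (bil ε x b a) := fun x b a => by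
    rw [Hurwitz17.dualEquiv_pairDual, bil_comm]
  have h1 : φ ≫ ψ = 𝟙 _ := LefFEt11.hom_ext_stalkMapₗ fun x => LinearMap.ext fun θ => by
    show stalkLin (φ ≫ ψ) x θ = stalkLin (𝟙 _) x θ
    refine (RH26.dualEquiv hA x).injective (LinearMap.ext fun a => ?_)
    rw [stalkLin_comp, hψ]
    have h := bil_tensorMap φ (𝟙 A) ε x θ a
    rw [hφ, bil_ev hA, show stalkLin (𝟙 A) x a = a from DefoSh.stalkMapₗ_id_apply x a] at h
    rw [← h, LinearEquiv.symm_apply_apply, show stalkLin (𝟙 (RefHull.dual A)) x θ = θ from DefoSh.stalkMapₗ_id_apply x θ]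
  have h2 : ψ ≫ φ = 𝟙 _ := by
    refine ((CohMop.ihomAdj A).homEquiv _ _).symm.injective ?_
    rw [(CohMop.ihomAdj A).homEquiv_naturality_left_symm, Adjunction.homEquiv_counit, Adjunction.homEquiv_counit,
      CategoryTheory.Functor.map_id, Category.id_comp]
    show tensorMap ψ (𝟙 A) ≫ (tensorMap φ (𝟙 A) ≫ ε) = ε
    rw [hφ]
    refine ext_bil fun x b a => ?_
    rw [bil_tensorMap, bil_ev hA, show stalkLin (𝟙 A) x a = a from DefoSh.stalkMapₗ_id_apply x a, hψ,
      LinearEquiv.apply_symm_apply]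
  exact ⟨⟨ψ, φ, h2, h1⟩⟩

theorem dual_tensor {A B : X.Modules} (hA : FlatMod.IsFinLocFree A) (hB : FlatMod.IsFinLocFree B)
    (cAB : Coh.IsCoh (CohB1.tensorMod A B)) (cA : Coh.IsCoh A) (cB : Coh.IsCoh B) :
    Nonempty (RefHull.dual (CohB1.tensorMod A B) ≅ CohB1.tensorMod (RefHull.dual A) (RefHull.dual B)) := by
  obtain ⟨eAB⟩ := dual_iso cAB
  obtain ⟨eA⟩ := dual_iso cA
  obtain ⟨eB⟩ := dual_iso cB
  haveI : ModSite.HasSheafHom (O := X.sheaf) A := CohMop.isLeftAdjoint_tenR A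
  haveI : ModSite.HasSheafHom (O := X.sheaf) B := CohMop.isLeftAdjoint_tenR B
  let θ : CohMop.ihom (CohB1.tensorMod A B) ≅ CohMop.ihom B ⋙ CohMop.ihom A :=
    (CohMop.ihomAdj (CohB1.tensorMod A B)).rightAdjointUniq
      (((CohMop.ihomAdj A).comp (CohMop.ihomAdj B)).ofNatIsoLeft (MonoidalCategory.tensorRightTensor A B).symm)
  haveI := CohMop.isIso_dualMap (CohMop.dual B) hA
  exact ⟨eAB.symm ≪≫ θ.app _ ≪≫ (asIso (CohMop.dualMap (CohMop.dual B) A)).symm ≪≫ tensorComm _ _ ≪≫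
    tensorIso eA eB⟩

theorem dual_unit : Nonempty (RefHull.dual (Coh.structureModule X) ≅ Coh.structureModule X) := by
  obtain ⟨e⟩ := dual_iso (M1.isCoh_structureModule X)
  let i : CohMop.tenR (Coh.structureModule X) ≅ 𝟭 X.Modules := MonoidalCategory.rightUnitorNatIso X.Modules
  exact ⟨e.symm ≪≫ ((CohMop.ihomAdj (Coh.structureModule X)).rightAdjointUniq
    (Adjunction.id.ofNatIsoLeft i.symm)).app _⟩

variable [IsIntegral X]

theorem dual_tensorPow {r : ℕ} {E : X.Modules} (hE : FlatMod.IsFinLocFreeOfRank r E) :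
    ∀ n, Nonempty (RefHull.dual (CohB1.tensorPow E n) ≅ CohB1.tensorPow (RefHull.dual E) n)
  | 0 => dual_unit
  | n + 1 => by
    obtain ⟨e⟩ := dual_tensorPow hE n
    have h1 := KS17.isFinLocFreeOfRank_tensorPow hE n
    have h2 := KS17.isFinLocFreeOfRank_tensorPow hE (n + 1)
    obtain ⟨i⟩ := dual_tensor (isFinLocFree_of_ofRank h1) (isFinLocFree_of_ofRank hE)
      (isCoh_of_ofRank h2) (isCoh_of_ofRank h1) (isCoh_of_ofRank hE)
    exact ⟨i ≪≫ tensorIso e (Iso.refl _)⟩

theorem dual_ddual {r : ℕ} {E : X.Modules} (hE : FlatMod.IsFinLocFreeOfRank r E) :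
    Nonempty (RefHull.dual (RefHull.dual E) ≅ E) := by
  haveI : IsIso (RefHull.bidualMap E) := (RH26.isReflexive_iff_stalks (isCoh_of_ofRank hE)).2
    fun x => LefFEt11.isReflexiveAt_of_isFinLocFree (isFinLocFree_of_ofRank hE) x
  exact ⟨(asIso (RefHull.bidualMap E)).symm⟩

omit [IsLocallyNoetherian X] [IsIntegral X] in
theorem dual_coprod {ι : Type} [Finite ι] (N : ι → X.Modules) :
    Nonempty (RefHull.dual (∐ N) ≅ ∐ fun i => RefHull.dual (N i)) := by
  haveI : (RefFun.dualFunctor X).Additive := ⟨by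
    intro F G φ ψ
    refine Scheme.Modules.hom_ext _ _ fun U => ?_
    ext g
    refine Subtype.ext (funext fun y => LinearMap.ext fun a => ?_)
    exact (congrArg (g.1 y) (DefoSh.stalkMapₗ_add_apply y.1 φ.unop ψ.unop a)).trans (map_add _ _ _)⟩
  haveI : PreservesFiniteProducts (RefFun.dualFunctor X) := inferInstance
  let i₁ : (RefFun.dualFunctor X).obj (Opposite.op (∐ N)) ≅ (RefFun.dualFunctor X).obj (∏ᶜ fun i => Opposite.op (N i)) :=
    (RefFun.dualFunctor X).mapIso (opCoproductIsoProduct N)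
  let i₂ := PreservesProduct.iso (RefFun.dualFunctor X) (fun i => Opposite.op (N i))
  let i₃ : (∏ᶜ fun i => RefHull.dual (N i)) ≅ ∐ fun i => RefHull.dual (N i) :=
    (biproduct.isoProduct _).symm ≪≫ biproduct.isoCoproduct _
  exact ⟨i₁ ≪≫ i₂ ≪≫ i₃⟩

theorem expr_dual {r : ℕ} {E : X.Modules} (hE : FlatMod.IsFinLocFreeOfRank r E) (P : Polynomial ℕ) :
    Nonempty (RefHull.dual (∐ fun i : Fin (P.natDegree + 1) => ∐ fun _ : Fin (P.coeff ↑i) => CohB1.tensorPow E ↑i) ≅
      ∐ fun i : Fin (P.natDegree + 1) => ∐ fun _ : Fin (P.coeff ↑i) => CohB1.tensorPow (RefHull.dual E) ↑i) := by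
  obtain ⟨e⟩ := dual_coprod (fun i : Fin (P.natDegree + 1) => ∐ fun _ : Fin (P.coeff ↑i) => CohB1.tensorPow E ↑i)
  exact ⟨e ≪≫ Sigma.mapIso fun i => (dual_coprod _).some ≪≫ Sigma.mapIso fun _ => (dual_tensorPow hE i).some⟩

theorem weil_dual {r : ℕ} {E : X.Modules} (hE : FlatMod.IsFinLocFreeOfRank r E)
    (h : ∃ P Q : Polynomial ℕ, P ≠ Q ∧ Nonempty ((∐ fun i : Fin (P.natDegree + 1) => ∐ fun _ : Fin (P.coeff ↑i) => CohB1.tensorPow E ↑i) ≅
        (∐ fun i : Fin (Q.natDegree + 1) => ∐ fun _ : Fin (Q.coeff ↑i) => CohB1.tensorPow E ↑i))) :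
    ∃ P Q : Polynomial ℕ, P ≠ Q ∧ Nonempty ((∐ fun i : Fin (P.natDegree + 1) => ∐ fun _ : Fin (P.coeff ↑i) => CohB1.tensorPow (RefHull.dual E) ↑i) ≅
        (∐ fun i : Fin (Q.natDegree + 1) => ∐ fun _ : Fin (Q.coeff ↑i) => CohB1.tensorPow (RefHull.dual E) ↑i)) := by
  obtain ⟨P, Q, hne, ⟨e⟩⟩ := h
  exact ⟨P, Q, hne, ⟨(expr_dual hE P).some.symm ≪≫ RefFun.dualIso e ≪≫ (expr_dual hE Q).some⟩⟩

theorem weil_congr {E E' : X.Modules} (i : E ≅ E')
    (h : ∃ P Q : Polynomial ℕ, P ≠ Q ∧ Nonempty ((∐ fun i : Fin (P.natDegree + 1) => ∐ fun _ : Fin (P.coeff ↑i) => CohB1.tensorPow E ↑i) ≅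
        (∐ fun i : Fin (Q.natDegree + 1) => ∐ fun _ : Fin (Q.coeff ↑i) => CohB1.tensorPow E ↑i))) :
    ∃ P Q : Polynomial ℕ, P ≠ Q ∧ Nonempty ((∐ fun i : Fin (P.natDegree + 1) => ∐ fun _ : Fin (P.coeff ↑i) => CohB1.tensorPow E' ↑i) ≅
        (∐ fun i : Fin (Q.natDegree + 1) => ∐ fun _ : Fin (Q.coeff ↑i) => CohB1.tensorPow E' ↑i)) := by
  obtain ⟨P, Q, hne, ⟨e⟩⟩ := h
  have t : ∀ n, Nonempty (CohB1.tensorPow E n ≅ CohB1.tensorPow E' n) := by
    intro n
    induction n with
    | zero => exact ⟨Iso.refl _⟩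
    | succ n ih => exact ⟨tensorIso ih.some i⟩
  exact ⟨P, Q, hne, ⟨(Sigma.mapIso fun i : Fin (P.natDegree + 1) => Sigma.mapIso fun _ : Fin (P.coeff ↑i) => (t i).some).symm ≪≫ e ≪≫
    Sigma.mapIso fun i : Fin (Q.natDegree + 1) => Sigma.mapIso fun _ : Fin (Q.coeff ↑i) => (t i).some⟩⟩

end Aux

/-- Let X be a smooth proper integral curve (integral, smooth and proper of dimension one) over an
algebraically closed field k, and E a finite locally free O_X-module of rank r. Say that a module M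
is finite in the sense of Weil when there are distinct polynomials P ≠ Q with natural-number
coefficients and an isomorphism P(M) ≅ Q(M), where P(M) is the direct sum over i of P_i copies of
the i-th tensor power of M (the 0-th power being O_X). Then E is finite in this sense if and only if
its dual E^* = 𝓗om_{O_X}(E, O_X) is. -/
theorem result (k : Type u) [Field k] [IsAlgClosed k] (X : Scheme.{u}) [X.Over (Spec (CommRingCat.of k))]
    [IsIntegral X] [IsProper (X ↘ Spec (CommRingCat.of k))] [Smooth (X ↘ Spec (CommRingCat.of k))]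
    (hdim : topologicalKrullDim X = 1)
    (r : ℕ) (E : X.Modules) (hE : FlatMod.IsFinLocFreeOfRank r E) :
    (∃ P Q : Polynomial ℕ, P ≠ Q ∧ Nonempty ((∐ fun i : Fin (P.natDegree + 1) => ∐ fun _ : Fin (P.coeff ↑i) => CohB1.tensorPow E ↑i) ≅
        (∐ fun i : Fin (Q.natDegree + 1) => ∐ fun _ : Fin (Q.coeff ↑i) => CohB1.tensorPow E ↑i))) ↔
      (∃ P Q : Polynomial ℕ, P ≠ Q ∧ Nonempty ((∐ fun i : Fin (P.natDegree + 1) => ∐ fun _ : Fin (P.coeff ↑i) => CohB1.tensorPow (RefHull.dual E) ↑i) ≅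
        (∐ fun i : Fin (Q.natDegree + 1) => ∐ fun _ : Fin (Q.coeff ↑i) => CohB1.tensorPow (RefHull.dual E) ↑i))) := by
  haveI : IsLocallyNoetherian X := LocallyOfFiniteType.isLocallyNoetherian (X ↘ Spec (CommRingCat.of k))
  exact ⟨Aux.weil_dual hE, fun h => Aux.weil_congr (Aux.dual_ddual hE).some
    (Aux.weil_dual (Hurwitz17.isFinLocFreeOfRank_dual hE) h)⟩

end Groth.Agent.S16492
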