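import Groth.Statements.S1108
import Groth.Agent.Lib.RelAmple18.Generation
import Groth.Agent.Lib.GrMod11.TwistEpi
import Groth.Agent.Lib.CohFound.ModQuot
import Groth.Agent.Lib.KFlat.FinLocFree
import Groth.Agent.Lib.TensorMod.QCohTensor
-- import your own Groth.Agent.* helpers here

set_option autoImplicit false
universe u
open CategoryTheory AlgebraicGeometry
open Perf

namespace Groth.Agent.S1108

/-- A scheme X admitting an ample invertible O_X-module has the resolution property: every
quasi-coherent O_X-module of finite type is a quotient of a finite locally free O_X-module. -/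
theorem result (X : Scheme.{u}) (L : X.Modules) (hL : CohB1.IsAmple L) : PerfAux.HasResolutionProperty X := by
  have := hL.2.1
  intro M hM hMf
  obtain ⟨n₀, hn₀⟩ := RA.exists_globallyGenerated hL M hM hMf
  let P := CohB1.tensorPow L n₀
  have hP : PicF.IsInvertible P := M2.isInvertible_tensorPow hL.1 n₀
  have hfp := M2.isFinLocFree_of_isInvertible hP
  have hPq : Coh.IsQCoh P := M2.isQCoh_of_isFinLocFree hfp
  obtain ⟨k, p, hp⟩ := GrMod11.exists_epi_freeMod (M2.isQCoh_tensor hM hPq)
    (M2.isFT_tensor hM hPq hMf (M1.isFP_isFT (M1.isFP_of_isFinLocFree hfp))) (hn₀ n₀ le_rfl)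
  have := hp
  have := CohFound.epi_tensorMap p (M2.dualMod P)
  exact ⟨_, M2.tensorMap p (𝟙 (M2.dualMod P)) ≫
      (M2.tensorAssoc M P (M2.dualMod P) ≪≫
        M2.tensorIso (Iso.refl M) (M2.tensorComm _ _ ≪≫ M2.dualTensorIso hP) ≪≫ M2.tensorRUnit M).hom,
    M2.isFinLocFree_tensor (KFlat.Sch.isFinLocFree_freeMod X k)
      (M2.isFinLocFree_of_isInvertible (M2.isInvertible_dualMod hP)), inferInstance⟩

end Groth.Agent.S1108
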