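import Groth.Statements.S4380
import Groth.Agent.Lib.RelAmple18.Ops

set_option autoImplicit false
universe u
open CategoryTheory CategoryTheory.Limits AlgebraicGeometry
open EGA2

namespace Groth.Agent.S4380

/-- Let f : X → Y be a quasi-compact morphism, L an O_X-module and (U_i) a cover of Y by open subsets.
Then L is ample relative to f if and only if, for every i, the restriction of L to f⁻¹(U_i) is ample
relative to the restriction f⁻¹(U_i) → U_i of f. -/
theorem result {X Y : Scheme.{u}} (f : X ⟶ Y) [QuasiCompact f] (L : X.Modules)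
    {ι : Type u} (U : ι → Y.Opens) (hU : ⨆ i, U i = ⊤) :
    RelAmple.IsRelAmple f L ↔ ∀ i, RelAmple.IsRelAmple (f ∣_ (U i)) (L.restrict (f ⁻¹ᵁ (U i)).ι) := by
  constructor
  · intro h i
    haveI : QuasiCompact (f ∣_ U i) := inferInstance
    refine (Groth.Agent.RA.isRelAmple_def _).mpr fun V hV => ?_
    rw [Groth.Agent.RA.ampleOn_restrict_iff, image_morphismRestrict_preimage]
    exact h.2 ⟨_, hV.image_of_isOpenImmersion (U i).ι⟩
  · intro h
    refine Groth.Agent.RA.isRelAmple_of_local f fun y => ?_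
    obtain ⟨i, hi⟩ := TopologicalSpace.Opens.mem_iSup.mp (hU.ge (trivial : y ∈ (⊤ : Y.Opens)))
    obtain ⟨V, hV, hyV, -⟩ := exists_isAffineOpen_mem_and_subset (U := (⊤ : (U i : Scheme.{u}).Opens)) (x := (⟨y, hi⟩ : U i)) trivial
    refine ⟨(U i).ι ''ᵁ V, hV.image_of_isOpenImmersion _, ⟨⟨y, hi⟩, hyV, rfl⟩, ?_⟩
    have := (h i).2 ⟨V, hV⟩
    rw [show CohB1.IsAmple _ ↔ Groth.Agent.RA.AmpleOn (L.restrict (f ⁻¹ᵁ U i).ι) ((f ∣_ U i) ⁻¹ᵁ V) from Iff.rfl,
      Groth.Agent.RA.ampleOn_restrict_iff, image_morphismRestrict_preimage] at this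
    exact this

end Groth.Agent.S4380
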