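import Groth.Statements.S4887
import Groth.Agent.Lib.FibDepth5.Data
import Groth.Agent.Lib.ModM1.Coh
import Groth.Agent.Lib.FlatSyz.Kernel

set_option autoImplicit false
universe u
open EGA43

namespace Groth.Agent.S4887

open AlgebraicGeometry CategoryTheory Limits in
/-- Let f : X ⟶ Y be locally of finite presentation, G and H quasi-coherent O_X-modules of finite
presentation with H f-flat, and p : G ⟶ H an epimorphism. Then Ker p is an O_X-module of finite
presentation. -/
theorem result {X Y : Scheme.{u}} (f : X ⟶ Y) [LocallyOfFinitePresentation f]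
    (G H : X.Modules) [Coh.IsQCoh G] [Coh.IsQCoh H] (hG : CohB1.IsFP G) (hH : CohB1.IsFP H)
    (hflat : FlatMod.IsFlatOver f H) (p : G ⟶ H) [Epi p] :
    CohB1.IsFP (kernel p) := by
  have hK : Coh.IsQCoh (kernel p) := Groth.Agent.M1.isQCoh_kernel inferInstance inferInstance p
  let J := {U : X.Opens // IsAffineOpen U ∧ ∃ V : Y.Opens, IsAffineOpen V ∧ U ≤ f ⁻¹ᵁ V}
  refine Groth.Agent.M1.isFP_of_openImmersion_cover (fun U : J => U.2.1.fromSpec) (fun x => ?_) fun U => ?_
  · obtain ⟨V, hV, hxV, -⟩ := exists_isAffineOpen_mem_and_subset (X := Y) (x := f x) (U := ⊤) trivial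
    obtain ⟨U, hU, hxU, e⟩ := exists_isAffineOpen_mem_and_subset (X := X) (x := x) (U := f ⁻¹ᵁ V) hxV
    exact ⟨⟨U, hU, V, hV, e⟩, hU.range_fromSpec.ge hxU⟩
  obtain ⟨U, hU, V, hV, e⟩ := U
  letI := (f.appLE V U e).hom.toAlgebra
  letI := Groth.Agent.FlatH4.secModuleOver f H V U e
  haveI : IsScalarTower Γ(Y, V) Γ(X, U) Γ(H, U) := IsScalarTower.of_algebraMap_smul fun _ _ => rfl
  haveI : Algebra.FinitePresentation Γ(Y, V) Γ(X, U) := f.finitePresentation_appLE hV hU e
  haveI := Groth.Agent.M1.finitePresentation_sections hG hU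
  haveI := Groth.Agent.M1.finitePresentation_sections hH hU
  haveI : Module.Flat Γ(Y, V) Γ(H, U) := Groth.Agent.FibDepth5.flat_sections f H hflat hV hU e
  let π : Γ(G, U) →ₗ[Γ(X, U)] Γ(H, U) :=
    { toFun := p.app U, map_add' := map_add (p.app U).hom, map_smul' := p.app_smul }
  have hπ : Function.Surjective π := Groth.Agent.M1.app_surjective_affine p hK hU
  haveI := Groth.Agent.FlatSyz.finitePresentation_ker (A := Γ(Y, V)) π hπ
  let ι : Γ(kernel p, U) →ₗ[Γ(X, U)] Γ(G, U) :=
    { toFun := (kernel.ι p).app U, map_add' := map_add ((kernel.ι p).app U).hom, map_smul' := (kernel.ι p).app_smul }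
  have hι : Function.Injective ι := Groth.Agent.M1.app_injective (kernel.ι p) U
  have hrange : LinearMap.range ι = LinearMap.ker π := by
    refine le_antisymm ?_ fun b hb => ?_
    · rintro _ ⟨a, rfl⟩
      show p.app U ((kernel.ι p).app U a) = 0
      have h0 : (kernel.ι p ≫ p).app U a = 0 := by rw [kernel.condition]; rfl
      exact h0
    · exact Groth.Agent.M1.sections_exact (ShortComplex.exact_of_f_is_kernel
        (ShortComplex.mk (kernel.ι p) p (kernel.condition p)) (kernelIsKernel p)) U b hb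
  haveI : Module.FinitePresentation Γ(X, U) Γ(kernel p, U) := Groth.Agent.M1.finitePresentation_of_linearEquiv
    ((LinearEquiv.ofInjective ι hι).trans (LinearEquiv.ofEq _ _ hrange)).symm
  exact (Groth.Agent.M1.isFP_iff_finitePresentation_spec _ (Groth.Agent.M1.isQCoh_fromSpec hK hU)).mpr
    (Groth.Agent.M1.finitePresentation_of_linearEquiv (Groth.Agent.M1.affineSecEquiv (kernel p) hU).symm)

end Groth.Agent.S4887
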