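import Groth.Statements.S1167
import Groth.Agent.Lib.HilbBC25.Incl

set_option autoImplicit false
open CategoryTheory CategoryTheory.Limits AlgebraicGeometry
universe u
open HilbD

namespace Groth.Agent.S1167

/-- Let f : X → S be a separated morphism of schemes and let (H, Z) represent the Hilbert functor of
points of degree d of X over S (Z the universal object on H). Then H → S is separated. -/
theorem result {X S : Scheme.{u}} (f : X ⟶ S) [IsSeparated f] (d : ℕ)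
    (H : Over S) (Z : HilbD.Obj f d H) (hZ : HilbD.IsUniversal f d H Z) : IsSeparated H.hom := by
  let T₀ : Over S := Over.mk (pullback.fst H.hom H.hom ≫ H.hom)
  let p₁ : T₀ ⟶ H := Over.homMk (pullback.fst H.hom H.hom) rfl
  let p₂ : T₀ ⟶ H := Over.homMk (pullback.snd H.hom H.hom) pullback.condition.symm
  let I₁ := HilbD.pull f p₁ Z.1
  let I₂ := HilbD.pull f p₂ Z.1
  obtain ⟨V₁, i₁, hi₁, h₁⟩ := HilbBC25.exists_closed_pull_le f (d := d) T₀ I₁ I₂
    (HilbBC25.isFinLocFreeOfDeg_pull f d p₂ Z.1 Z.2)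
  obtain ⟨V₂, i₂, hi₂, h₂⟩ := HilbBC25.exists_closed_pull_le f (d := d) T₀ I₂ I₁
    (HilbBC25.isFinLocFreeOfDeg_pull f d p₁ Z.1 Z.2)
  haveI := hi₁
  haveI := hi₂
  let i : pullback i₁ i₂ ⟶ T₀.left := pullback.fst i₁ i₂ ≫ i₁
  haveI : IsClosedImmersion i := inferInstanceAs (IsClosedImmersion (pullback.fst i₁ i₂ ≫ i₁))
  have key : ∀ {T' : Over S} (g : T' ⟶ T₀), (∃ z, z ≫ i = g.left) ↔ g ≫ p₁ = g ≫ p₂ := by
    intro T' g
    have e : g ≫ p₁ = g ≫ p₂ ↔ HilbD.pull f g I₁ = HilbD.pull f g I₂ := by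
      rw [← HilbBC25.pull_comp, ← HilbBC25.pull_comp]
      exact ⟨fun h => by rw [h], fun h => (hZ T' ⟨_, HilbBC25.isFinLocFreeOfDeg_pull f d (g ≫ p₂) Z.1 Z.2⟩).unique h rfl⟩
    rw [e, le_antisymm_iff, ← h₁ g, ← h₂ g]
    refine ⟨fun ⟨z, hz⟩ => ⟨⟨z ≫ pullback.fst _ _, by rw [Category.assoc]; exact hz⟩,
      ⟨z ≫ pullback.snd _ _, by rw [Category.assoc, ← pullback.condition]; exact hz⟩⟩,
      fun ⟨⟨a, ha⟩, ⟨b, hb⟩⟩ => ⟨pullback.lift a b (ha.trans hb.symm), ?_⟩⟩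
    show pullback.lift a b _ ≫ pullback.fst i₁ i₂ ≫ i₁ = _
    rw [pullback.lift_fst_assoc, ha]
  let δ : H ⟶ T₀ := Over.homMk (pullback.diagonal H.hom) (by simp [T₀])
  obtain ⟨z, hz⟩ : ∃ z, z ≫ i = δ.left := (key δ).2 (by
    refine Over.OverMorphism.ext ?_
    simp [δ, p₁, p₂])
  let ι : Over.mk (i ≫ T₀.hom) ⟶ T₀ := Over.homMk i rfl
  have hι : ι ≫ p₁ = ι ≫ p₂ := (key ι).1 ⟨𝟙 _, Category.id_comp _⟩
  have hw : i ≫ pullback.fst H.hom H.hom = i ≫ pullback.snd H.hom H.hom := congrArg (fun q => q.left) hι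
  have h1 : (i ≫ pullback.fst H.hom H.hom) ≫ pullback.diagonal H.hom = i := by
    refine pullback.hom_ext ?_ ?_
    · rw [Category.assoc, pullback.diagonal_fst, Category.comp_id]
    · rw [Category.assoc, pullback.diagonal_snd, Category.comp_id, hw]
  have h2 : z ≫ i = pullback.diagonal H.hom := hz
  haveI : IsIso z := ⟨i ≫ pullback.fst H.hom H.hom, by rw [reassoc_of% h2, pullback.diagonal_fst],
    by rw [← cancel_mono i, Category.assoc, h2, Category.id_comp, h1]⟩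
  refine ⟨?_⟩
  rw [← h2]
  infer_instance

end Groth.Agent.S1167
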