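import Groth.Statements.S1170
import Groth.Agent.Lib.HilbRep25.Cover
import Groth.Agent.Lib.CurveCartier25.Proper
import Groth.Agent.Lib.CurveCartier25.RelDim
import Groth.Agent.S1167
import Groth.Agent.Lib.PoleOne18.Affine
import Groth.Agent.Lib.VB17.Setup

set_option autoImplicit false
open CategoryTheory CategoryTheory.Limits AlgebraicGeometry
universe u
open HilbD

namespace Groth.Agent.S1170

/-- Let X be a smooth proper curve over a field k which stays irreducible after every extension of the
base field. Then for every d the degree-d Hilbert functor of points of X over k is represented by a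
scheme which is proper and smooth over k. The published statement has projective in place of proper
(the two agree for curves over a field) and also asserts that the representing scheme is irreducible
of dimension d, which is not asserted here. -/
theorem result (k : Type u) [Field k] (X : Scheme.{u}) (f : X ⟶ Spec (CommRingCat.of k))
    (hX : Curve.IsSmoothProperCurve k X f) [GeometricallyIrreducible f] (d : ℕ) :
    ∃ (H : Over (Spec (CommRingCat.of k))) (Z : HilbD.Obj f d H), HilbD.IsUniversal f d H Z ∧ IsProper H.hom ∧ Smooth H.hom := by
  obtain ⟨hp, hsm, hint, hdim⟩ := hX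
  haveI := hp
  haveI := hsm
  haveI := hint
  haveI : IsNoetherian X := by
    have := LocallyOfFiniteType.isLocallyNoetherian f
    have : CompactSpace X := QuasiCompact.compactSpace_of_compactSpace f
    exact ⟨⟩
  haveI : X.IsSeparated := ⟨by
    have : terminal.from X = f ≫ terminal.from _ := Subsingleton.elim _ _
    rw [this]; infer_instance⟩
  have hd : ∀ y : X, ringKrullDim (X.presheaf.stalk y) ≤ 1 := fun y =>
    (VB17.ringKrullDim_stalk_le_topologicalKrullDim y).trans hdim.le
  have hrep : ∀ e : ℕ, HilbD.Representable f e := fun e =>
    HilbRep25.representable_of_fibre_points e fun _ x _ => by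
      obtain ⟨U, hU, hxU, -⟩ := PoleOne18.exists_affine_finite hd (Set.range x) (Set.finite_range x)
      exact ⟨U, hU, fun i => hxU ⟨i, rfl⟩⟩
  haveI := CurveCartier25.smoothOfRelativeDimension_one f hdim
  obtain ⟨H, Z, hZ⟩ := hrep d
  haveI : Smooth H.hom := CurveCartier25.smooth_hilb f hrep d H Z hZ
  haveI : UniversallyClosed H.hom := CurveCartier25.universallyClosed_hilb f hrep d H Z hZ
  haveI : IsSeparated H.hom := S1167.result f d H Z hZ
  exact ⟨H, Z, hZ, ⟨⟩, inferInstance⟩

end Groth.Agent.S1170
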