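import Groth.Prelude.Def_Coh
import Mathlib.AlgebraicGeometry.Morphisms.Proper
import Mathlib.AlgebraicGeometry.Morphisms.Smooth
import Mathlib.AlgebraicGeometry.Geometrically.Connected
import Mathlib.AlgebraicGeometry.Geometrically.Integral
import Mathlib.Topology.KrullDimension
import Mathlib.LinearAlgebra.Dimension.Finrank
import Mathlib
import Groth.Agent.Lib.Stein6.Core
import Groth.Agent.Lib.RigidRel.H0
import Groth.Agent.Lib.RigidRel.Global
import Groth.Agent.Lib.AbRigid.HZero
import Groth.Agent.Lib.AbRigid.SmoothGI
import Groth.Agent.Lib.SmoothReg17.Basic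
import Groth.Agent.Lib.VB17.Setup
import Groth.Agent.Lib.GeomIrr18.Scheme

set_option autoImplicit false
universe u
namespace CurvSt
end CurvSt
open CurvSt

namespace Groth.Agent.S16754

open CategoryTheory CategoryTheory.Limits AlgebraicGeometry in
/-- Let k be a field and X a scheme which is proper and smooth over k and of dimension one. Then the
following are equivalent: dim_k H^0(X, O_X) = 1 (the ground field is the ring of global functions);
X is geometrically connected over k; X is geometrically integral over k. (The remaining conditions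
of the source concern membership in an open substack of the stack of curves and are not stated.) -/
theorem result (k : Type u) [Field k]
    (X : Scheme.{u}) [X.Over (Spec (CommRingCat.of k))] [IsProper (X ↘ Spec (CommRingCat.of k))]
    [Smooth (X ↘ Spec (CommRingCat.of k))] (hdim : topologicalKrullDim ↥X = 1) :
    (Module.finrank k (Coh.HH X (Coh.structureModule X) 0) = 1 ↔ GeometricallyConnected (X ↘ Spec (CommRingCat.of k))) ∧
      (GeometricallyConnected (X ↘ Spec (CommRingCat.of k)) ↔ GeometricallyIntegral (X ↘ Spec (CommRingCat.of k))) := by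
  let f := X ↘ Spec (CommRingCat.of k)
  haveI : GeometricallyReduced f := AbRigid.geometricallyReduced_of_smooth f
  let φ := ((Scheme.ΓSpecIso (CommRingCat.of k)).inv ≫ f.appTop).hom
  have hφiff : Function.Bijective φ ↔ Function.Bijective f.appTop.hom :=
    Function.Bijective.of_comp_iff _ (Scheme.ΓSpecIso (CommRingCat.of k)).symm.commRingCatIsoToRingEquiv.bijective
  refine ⟨⟨fun h1 => ?_, fun hc => ?_⟩, ⟨fun hc => ?_, fun hi => ?_⟩⟩
  · have hb := hφiff.mp (AbRigid.bijective_appTop_of_finrank_hZero_eq_one k X h1)
    refine Stein6.geometricallyConnected_of_app_bijective f fun U => ?_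
    obtain rfl | rfl : U = ⊤ ∨ U = ⊥ := by
      rcases Set.eq_empty_or_nonempty (U : Set (Spec (CommRingCat.of k))) with h | ⟨p, hp⟩
      · exact Or.inr (TopologicalSpace.Opens.ext h)
      · haveI : Subsingleton (Spec (CommRingCat.of k)) := inferInstanceAs (Subsingleton (PrimeSpectrum k))
        exact Or.inl (TopologicalSpace.Opens.ext (Set.eq_univ_of_forall fun q => Subsingleton.elim p q ▸ hp))
    · exact hb
    · haveI : Subsingleton Γ(X, f ⁻¹ᵁ ⊥) := CommRingCat.subsingleton_of_isTerminal X.sheaf.isTerminalOfEmpty
      haveI : Subsingleton Γ(Spec (CommRingCat.of k), ⊥) :=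
        CommRingCat.subsingleton_of_isTerminal (Spec (CommRingCat.of k)).sheaf.isTerminalOfEmpty
      exact ⟨fun a b _ => Subsingleton.elim a b, fun b => ⟨0, Subsingleton.elim _ _⟩⟩
  · haveI : GeometricallyConnected f := hc
    have hs : Function.Surjective f.appTop.hom := RigidRel.surjective_appTop f
    haveI : Nonempty ↥X := by
      by_contra hne
      rw [not_nonempty_iff] at hne
      haveI : IsEmpty (TopologicalSpace.IrreducibleCloseds ↥X) := ⟨fun Z => hne.false Z.isIrreducible.nonempty.some⟩
      simp [topologicalKrullDim, Order.krullDim_eq_bot] at hdim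
    haveI : Nonempty (⊤ : X.Opens) := ⟨⟨Classical.arbitrary _, trivial⟩⟩
    haveI : Nontrivial Γ(X, (⊤ : X.Opens)) := inferInstance
    have hb : Function.Bijective φ :=
      ⟨φ.injective, hs.comp (Scheme.ΓSpecIso (CommRingCat.of k)).symm.commRingCatIsoToRingEquiv.surjective⟩
    letI : Algebra k Γ(X, (⊤ : X.Opens)) := φ.toAlgebra
    let e : Coh.HH X (Coh.structureModule X) 0 ≃+ Γ(X, (⊤ : X.Opens)) :=
      Sheaf.H.equiv₀ (Coh.toAb (Coh.structureModule X)) (isTerminalTop (α := X.Opens))
    have he : ∀ (c : k) x, e (c • x) = φ c * e x := by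
      intro c x
      refine ((Sheaf.H.equiv₀_naturality (isTerminalTop (α := X.Opens))
        (Coh.smulAb (Coh.structureModule X) (Coh.toGlobal f c)) x).symm).trans ?_
      refine (Coh.smulAb_app _ _ _ _).trans ?_
      show Coh.resTop X (Opposite.op ⊤) _ * _ = _
      simp [φ, Coh.resTop, Coh.toGlobal]
      rfl
    let el : Coh.HH X (Coh.structureModule X) 0 ≃ₗ[k] Γ(X, (⊤ : X.Opens)) :=
      { e with map_smul' := fun c x => he c x }
    rw [el.finrank_eq, ← (LinearEquiv.ofBijective (Algebra.linearMap k Γ(X, (⊤ : X.Opens))) hb).finrank_eq,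
      Module.finrank_self]
  · haveI : GeometricallyConnected f := hc
    refine ⟨fun K _ y W p₁ p₂ hW => ?_⟩
    haveI : Smooth p₂ := MorphismProperty.of_isPullback hW ‹Smooth f›
    haveI : IsProper p₂ := MorphismProperty.of_isPullback hW ‹IsProper f›
    haveI : ConnectedSpace ↥W := GeometricallyConnected.geometrically_connectedSpace (f := f) y p₁ p₂ hW
    haveI : CompactSpace ↥W := QuasiCompact.compactSpace_of_compactSpace p₂
    haveI : IsLocallyNoetherian W := LocallyOfFiniteType.isLocallyNoetherian p₂
    haveI : IsNoetherian W := ⟨⟩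
    exact VB17.isIntegral_of_connected fun x => SmoothReg17.isDomain_stalk p₂ x
  · haveI : GeometricallyIntegral f := hi
    refine ⟨fun K _ y W a b hW => ?_⟩
    haveI : IsIntegral W := GeometricallyIntegral.geometrically_isIntegral (f := f) y a b hW
    exact GeomIrr.connectedSpace_of_irreducibleSpace _

end Groth.Agent.S16754
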