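import Groth.Statements.S1036
import Groth.Agent.Lib.DGen9.ResCluster

set_option autoImplicit false
set_option linter.style.haveILetI false
set_option backward.isDefEq.respectTransparency false
universe u
open CategoryTheory CategoryTheory.Limits AlgebraicGeometry
attribute [local instance] HasDerivedCategory.standard
open Perf

namespace Groth.Agent.S1036

/-- Let the scheme X be quasi-compact, quasi-separated and have the resolution property. Every perfect
object of D(O_X) is isomorphic in D(O_X) to (the image of) a strictly perfect complex, i.e. a
bounded complex of finite locally free O_X-modules. -/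
theorem result (X : Scheme.{u}) [CompactSpace ↥X] [QuasiSeparatedSpace ↥X] (hX : PerfAux.HasResolutionProperty X) (K : DCoh.D X) (hK : DCoh.IsPerfect K) :
    ∃ E : CochainComplex X.Modules ℤ, DCoh.IsStrictlyPerfect E ∧ Nonempty (DCoh.toD X E ≅ K) := by
  exact Groth.Agent.DGen9.ResP.exists_strictlyPerfect hX hK

end Groth.Agent.S1036
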