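import Groth.Statements.S3791
import Groth.Agent.Lib.Lambda.KRRAlg

set_option autoImplicit false
universe v u
open CategoryTheory CategoryTheory.Limits AlgebraicGeometry
attribute [local instance] HasDerivedCategory.standard
open KRR

namespace Groth.Agent.S3791

/-- Let K be a λ-ring with positive structure P and u an ample line element (for every x, u^n x is a
positive element minus a natural number for all large n). Then for every line element v, the element
v - 1 is nilpotent. -/
theorem result (K : Type v) [CommRing K] [LambdaRing.LambdaOps K] (P : LambdaRing.PosStructure K)
    (u : K) (hu : KRR.IsAmpleElt P u) (w : K) (hw : P.IsLine w) : IsNilpotent (w - 1) := by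
  exact Groth.Agent.Lambda.isNilpotent_line_sub_one u hu w hw

end Groth.Agent.S3791
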