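import Groth.Statements.S2148
import Groth.Agent.Lib.AVPRank22.Field
import Mathlib

set_option autoImplicit false
universe u
open CAlg

namespace Groth.Agent.S2148

/-- Let `k` be a perfect field of characteristic `p > 0` and `K` an extension field of `k`. For `a ∈ K`,
the differential `da` vanishes in `Ω_{K/k}` if and only if `a` is a `p`-th power in `K`. -/
theorem result {k K : Type u} [Field k] [Field K] [Algebra k K] (p : ℕ) [Fact p.Prime]
    [CharP k p] [PerfectRing k p] (a : K) :
    KaehlerDifferential.D k K a = 0 ↔ ∃ b : K, b ^ p = a := by
  haveI : CharP K p := charP_of_injective_algebraMap (algebraMap k K).injective p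
  constructor
  · intro h
    by_contra hne
    push Not at hne
    obtain ⟨D, hD⟩ := Groth.Agent.AVPRank22.exists_derivation_ne_zero (k := k) p hne
    apply hD
    rw [← D.liftKaehlerDifferential_comp_D, h, map_zero]
  · rintro ⟨b, rfl⟩
    rw [Derivation.leibniz_pow, ← Nat.cast_smul_eq_nsmul K, CharP.cast_eq_zero, zero_smul]

end Groth.Agent.S2148
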