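import Groth.Statements.S0011
import Groth.Agent.Lib.CohFound.Chevalley
import Groth.Agent.Lib.AffStratVan4.Support
import Groth.Agent.Lib.ModM1.FibreProd
-- import your own Groth.Agent.* helpers here

set_option autoImplicit false
set_option linter.style.haveILetI false
set_option backward.isDefEq.respectTransparency false
set_option backward.isDefEq.respectTransparency.types false
universe u
open Coherent

namespace Groth.Agent.S0011

open AlgebraicGeometry CategoryTheory in
/-- On a quasi-compact scheme in which affine opens have affine intersections, every quasi-coherent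
module admits a monomorphism into a quasi-coherent module whose cohomology vanishes in all positive
degrees. (Part (2), universality of the delta-functor, is not stated.) -/
theorem result (X : Scheme.{u}) [CompactSpace X]
    (hd : ∀ V W : X.Opens, IsAffineOpen V → IsAffineOpen W → IsAffineOpen (V ⊓ W))
    (M : X.Modules) [Coh.IsQCoh M] :
    ∃ (M' : X.Modules) (i : M ⟶ M'), Mono i ∧ Coh.IsQCoh M' ∧
      ∀ p : ℕ, 0 < p → Subsingleton (Coh.HH X M' p) := by
  classical
  open CategoryTheory.Limits TopologicalSpace Groth.Agent in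
  have hcov : ∀ x : X, ∃ U : X.Opens, IsAffineOpen U ∧ x ∈ U := fun x => by
    obtain ⟨U, hU, hx, -⟩ := exists_isAffineOpen_mem_and_subset (U := (⊤ : X.Opens)) (x := x) trivial
    exact ⟨U, hU, hx⟩
  choose U hU hxU using hcov
  obtain ⟨t, ht⟩ := isCompact_univ.elim_finite_subcover (fun x => ((U x : X.Opens) : Set X)) (fun x => (U x).isOpen)
    (fun x _ => Set.mem_iUnion.2 ⟨x, hxU x⟩)
  have hs : ∀ s : Finset X, ∃ (M' : X.Modules) (ψ : M ⟶ M'), Coh.IsQCoh M' ∧ Groth.Agent.CohFound.Acyclic M' ∧
      ∀ x ∈ s, ∀ (V : X.Opens) (m : Γ(M, V)), ψ.app V m = 0 →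
        Groth.Agent.M1.mres M (inf_le_left : V ⊓ U x ≤ V) m = 0 := by
    intro s
    induction s using Finset.induction with
    | empty =>
      have hz : CategoryTheory.Limits.IsZero (CategoryTheory.Limits.kernel (𝟙 M)) :=
        CategoryTheory.Limits.isZero_kernel_of_mono _
      exact ⟨_, 0, Groth.Agent.M1.isQCoh_isZero hz, .of_isZero hz, fun x hx => absurd hx (Finset.notMem_empty x)⟩
    | @insert a s _ ih =>
      obtain ⟨M', ψ, hq, hA, hinj⟩ := ih
      haveI : IsAffine (U a) := hU a
      haveI : IsAffineHom (U a).ι := by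
        refine isAffineHom_of_forall_exists_isAffineOpen _ fun x => ?_
        obtain ⟨V, hV, hxV, -⟩ := exists_isAffineOpen_mem_and_subset (U := (⊤ : X.Opens)) (x := x) trivial
        refine ⟨V, hxV, hV, (U a).ι.isAffineOpen_iff_of_isOpenImmersion.mp ?_⟩
        rw [Scheme.Hom.image_preimage_eq_opensRange_inf, Scheme.Opens.opensRange_ι]
        exact hd (U a) V (hU a) hV
      let N := (Scheme.Modules.pushforward (U a).ι).obj (M.restrict (U a).ι)
      have hN : Coh.IsQCoh (M.restrict (U a).ι) := Groth.Agent.M1.isQCoh_restrict inferInstance _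
      let η : M ⟶ N := (Scheme.Modules.restrictAdjunction (U a).ι).unit.app M
      refine ⟨N ⊞ M', CategoryTheory.Limits.biprod.lift η ψ,
        Groth.Agent.M1.isQCoh_biprod (Groth.Agent.M1.isQCoh_push _ hN) hq,
        Groth.Agent.CohFound.Acyclic.mid (CategoryTheory.ShortComplex.Splitting.ofHasBinaryBiproduct N M').shortExact
          (Groth.Agent.CohFound.acyclic_push_of_isAffine _ _ hN) hA, fun x hx V m hm => ?_⟩
      rcases Finset.mem_insert.1 hx with rfl | hx
      · have h1 : η.app V m = 0 := by
          have h2 := congrArg ((CategoryTheory.Limits.biprod.fst : N ⊞ M' ⟶ N).app V) hm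
          rwa [map_zero, ← CategoryTheory.comp_apply, ← Scheme.Modules.Hom.comp_app, CategoryTheory.Limits.biprod.lift_fst] at h2
        have e : (U x).ι ''ᵁ ((U x).ι ⁻¹ᵁ V) = V ⊓ U x := by
          rw [Scheme.Hom.image_preimage_eq_opensRange_inf, Scheme.Opens.opensRange_ι, inf_comm]
        rw [← Groth.Agent.M1.mres_mres M ((U x).ι.image_preimage_le V) e.ge]
        exact (congrArg _ h1).trans (map_zero _)
      · refine hinj x hx V m ?_
        have h2 := congrArg ((CategoryTheory.Limits.biprod.snd : N ⊞ M' ⟶ M').app V) hm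
        rwa [map_zero, ← CategoryTheory.comp_apply, ← Scheme.Modules.Hom.comp_app, CategoryTheory.Limits.biprod.lift_snd] at h2
  obtain ⟨M', ψ, hq, hA, hinj⟩ := hs t
  refine ⟨M', ψ, (Groth.Agent.M1.mono_iff_app _).2 fun V => (injective_iff_map_eq_zero _).2 fun m hm => ?_, hq,
    fun p hp => (Groth.Agent.CohFound.subsingleton_HH_iff M' p).2 (hA p hp)⟩
  refine TopCat.Sheaf.eq_of_locally_eq' (F := ⟨M.presheaf, M.isSheaf⟩) (fun x : {x // x ∈ t} => V ⊓ U x.1) V
    (fun x => homOfLE inf_le_left) (fun y hy => ?_) _ _ fun x => (hinj x.1 x.2 V m hm).trans (map_zero _).symm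
  obtain ⟨x, hx, hyx⟩ := Set.mem_iUnion₂.1 (ht (Set.mem_univ y))
  exact TopologicalSpace.Opens.mem_iSup.2 ⟨⟨x, hx⟩, hy, hyx⟩

end Groth.Agent.S0011
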