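import Groth.Statements.S15848
import Groth.Agent.Lib.AB5.Basic
import Groth.Agent.Lib.RefHull26.Free
import Groth.Agent.Lib.ModM1.ClosedImm
import Groth.Agent.Lib.VB17.Setup
import Groth.Agent.Lib.CohFound.ClosedImmPush
import Groth.Agent.Lib.SmoothReg17.Basic
import Groth.Agent.Lib.Cyc26.Stalk

set_option autoImplicit false
set_option backward.isDefEq.respectTransparency false
universe u
open CategoryTheory CategoryTheory.Limits AlgebraicGeometry
open Surf

namespace Groth.Agent.S15848

theorem isSMulRegular_stalk_push {S C : Scheme.{u}} (j : C ⟶ S) [IsClosedImmersion j] [IsIntegral C]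
    (M : C.Modules) (hM : TorSh.IsTorsionFree M) (c : C) (a : S.presheaf.stalk (j c))
    (ha : j.stalkMap c a ≠ 0) : IsSMulRegular (((Scheme.Modules.pushforward j).obj M).presheaf.stalk (j c)) a := by
  haveI := hM c
  rw [isSMulRegular_iff_right_eq_zero_of_smul]
  intro t ht
  obtain ⟨W, hW, α, rfl⟩ := S.presheaf.exists_germ_eq a
  obtain ⟨W', hW', s, rfl⟩ := ((Scheme.Modules.pushforward j).obj M).presheaf.exists_germ_eq t
  let W₀ := W ⊓ W'
  have hx : j c ∈ W₀ := ⟨hW, hW'⟩
  rw [← TopCat.Presheaf.germ_res_apply S.presheaf (homOfLE (inf_le_left : W₀ ≤ W)) _ hx,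
    ← M1.germ_mres _ (inf_le_right : W₀ ≤ W') hx, ← M1.germ_smul,
    ← map_zero (((Scheme.Modules.pushforward j).obj M).presheaf.germ W₀ (j c) hx).hom] at ht
  obtain ⟨V, hxV, i₁, i₂, he⟩ := TopCat.Presheaf.germ_eq _ _ hx hx _ _ ht
  let s₀ : Γ(M, j ⁻¹ᵁ W₀) := M1.mres ((Scheme.Modules.pushforward j).obj M) (inf_le_right : W₀ ≤ W') s
  have h2 : M.presheaf.germ (j ⁻¹ᵁ W₀) c hx ((j.app W₀) (S.presheaf.map (homOfLE inf_le_left).op α) • s₀) = 0 := by
    have hcV : c ∈ j ⁻¹ᵁ V := hxV
    have hle : j ⁻¹ᵁ V ≤ j ⁻¹ᵁ W₀ := fun y hy => i₁.le hy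
    rw [← M1.germ_mres M hle hcV]
    have he' : M1.mres M hle ((j.app W₀) (S.presheaf.map (homOfLE inf_le_left).op α) • s₀) = 0 := by
      rw [map_zero] at he
      exact he
    rw [he', map_zero]
  rw [M1.germ_smul] at h2
  have h3 : M.presheaf.germ (j ⁻¹ᵁ W₀) c hx s₀ = 0 := by
    refine (Module.IsTorsionFree.isSMulRegular (isRegular_iff_mem_nonZeroDivisors.2
      (mem_nonZeroDivisors_of_ne_zero ?_))).right_eq_zero_of_smul h2
    rw [← Scheme.Hom.germ_stalkMap_apply j W₀ c hx, TopCat.Presheaf.germ_res_apply]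
    exact ha
  obtain ⟨O, hcO, k₁, k₂, hk⟩ := M.presheaf.germ_eq c (show c ∈ j ⁻¹ᵁ W₀ from hx) (show c ∈ j ⁻¹ᵁ W₀ from hx) s₀ 0 (by rw [h3, map_zero])
  obtain ⟨O', hO', hOeq⟩ := j.isClosedEmbedding.isInducing.isOpen_iff.1 O.2
  let W₁ : S.Opens := ⟨O', hO'⟩ ⊓ W₀
  have hx1 : j c ∈ W₁ := ⟨hOeq.ge hcO, hx⟩
  have hle1 : j ⁻¹ᵁ W₁ ≤ O := fun y hy => hOeq.le hy.1
  rw [← M1.germ_mres _ (inf_le_right : W₀ ≤ W') hx s,
    ← M1.germ_mres _ (inf_le_right : W₁ ≤ W₀) hx1]
  have h4 : M1.mres ((Scheme.Modules.pushforward j).obj M) (inf_le_right : W₁ ≤ W₀)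
      (M1.mres ((Scheme.Modules.pushforward j).obj M) (inf_le_right : W₀ ≤ W') s) = 0 := by
    show M1.mres M (fun y hy => hy.2 : j ⁻¹ᵁ W₁ ≤ j ⁻¹ᵁ W₀) s₀ = (0 : Γ(M, j ⁻¹ᵁ W₁))
    rw [← M1.mres_mres M k₁.le hle1]
    refine (congrArg (M1.mres M hle1) hk).trans ?_
    rw [map_zero, map_zero]
  rw [h4, map_zero]

theorem exists_ne_zero_mem_maximal {S C : Scheme.{u}} (j : C ⟶ S) [IsClosedImmersion j] [IsIntegral C]
    (hC : topologicalKrullDim C = 1) (hS : topologicalKrullDim S = 2) {c : C}
    (hd : ringKrullDim (S.presheaf.stalk (j c)) = (2 : ℕ)) :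
    ∃ γ : C.presheaf.stalk c, ¬ IsUnit γ ∧ γ ≠ 0 := by
  by_contra! hc
  have hF : IsField (C.presheaf.stalk c) := IsLocalRing.isField_iff_maximalIdeal_eq.2
    ((Submodule.eq_bot_iff _).2 fun γ hγ => hc γ ((IsLocalRing.mem_maximalIdeal γ).1 hγ))
  have h0 := ringKrullDim_eq_zero_of_isField hF
  rw [ringKrullDim_stalk_eq_coheight] at h0
  have hmax : IsMax c := Order.coheight_eq_zero.1 (WithBot.coe_eq_zero.1 h0)
  obtain ⟨c', hne⟩ : ∃ c' : C, c' ≠ c := by
    by_contra! hall
    haveI : Subsingleton C := ⟨fun p q => (hall p).trans (hall q).symm⟩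
    haveI : DiscreteTopology C := Subsingleton.discreteTopology
    have h1 := topologicalKrullDim_zero_of_discreteTopology C
    rw [hC] at h1
    exact absurd h1 (by decide)
  have hgen : c = genericPoint C :=
    (Specializes.antisymm (hmax (genericPoint_specializes c)) (genericPoint_specializes c)).eq
  have hsp : j c ⤳ j c' := (hgen ▸ genericPoint_specializes c').map j.continuous
  have hlt : j c' < j c := lt_iff_le_not_ge.2 ⟨hsp, fun h => hne
    (j.isClosedEmbedding.injective (Specializes.antisymm h hsp).eq)⟩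
  have h3 := Order.coheight_add_one_le hlt
  have h4 := VB17.ringKrullDim_stalk_le_topologicalKrullDim (j c')
  rw [ringKrullDim_stalk_eq_coheight] at hd h4
  rw [hS] at h4
  have h5 : Order.coheight (j c) = 2 := WithBot.coe_inj.1 hd
  rw [h5] at h3
  exact absurd (le_trans h3 (WithBot.coe_le_coe.1 h4)) (by decide)


/-- Let k be an algebraically closed field of characteristic zero and S a smooth surface over k (an
integral k-scheme, smooth over k, of dimension two). Let j : C → S be a closed immersion with C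
integral of dimension one, M a coherent O_C-module whose stalks are torsion-free modules over the
local rings of C, F a finite locally free O_S-module and f : F → j_*M an epimorphism of O_S-modules.
Then the kernel of f, the elementary transformation of F along f, is a finite locally free
O_S-module. (The published setting takes S projective; the argument is local on S and projectivity
is not assumed here.) -/
theorem result
    (k : Type u) [Field k] [IsAlgClosed k] [CharZero k]
    (S : Scheme.{u}) [S.Over (Spec (CommRingCat.of k))] [IsIntegral S]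
    [Smooth (S ↘ Spec (CommRingCat.of k))] (hdim : topologicalKrullDim S = 2)
    (C : Scheme.{u}) (j : C ⟶ S) [IsClosedImmersion j] [IsIntegral C]
    (hC : topologicalKrullDim C = 1)
    (M : C.Modules) (hM : Coh.IsCoh M) (hMtf : TorSh.IsTorsionFree M)
    (F : S.Modules) (hF : FlatMod.IsFinLocFree F)
    (f : F ⟶ (Coh.push j).obj M) [Epi f] :
    FlatMod.IsFinLocFree (kernel f) := by
  haveI : IsLocallyNoetherian S := LocallyOfFiniteType.isLocallyNoetherian (S ↘ Spec (CommRingCat.of k))
  have hFc : Coh.IsCoh F := ⟨M1.isFP_isQCoh (M1.isFP_of_isFinLocFree hF), M1.isFP_isFT (M1.isFP_of_isFinLocFree hF)⟩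
  have hMc := CohFound.isCoh_push_closedImm j hM
  have hKc : Coh.IsCoh (kernel f) := M1.isCoh_kernel hFc hMc.1 f
  refine RH26.isFinLocFree_of_stalks hKc fun x => ?_
  haveI : IsRegularLocalRing (S.presheaf.stalk x) :=
    SmoothReg17.isRegularLocalRing_stalk (S ↘ Spec (CommRingCat.of k)) x
  haveI := M1.finite_stalk hKc.1 hKc.2 x
  haveI := M1.finite_stalk hFc.1 hFc.2 x
  haveI := M1.finite_stalk hMc.1 hMc.2 x
  haveI : Module.Free (S.presheaf.stalk x) (F.presheaf.stalk x) := ((M1.isFinLocFree_iff F).1 hF).2 x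
  let u := Cyc26.stalkLin (kernel.ι f) x
  let v := Cyc26.stalkLin f x
  have hu : Function.Injective u := (M1.mono_iff_stalk (kernel.ι f)).1 inferInstance x
  have hv : Function.Surjective v := (M1.epi_iff_stalk f).1 inferInstance x
  have huv : Function.Exact u v := fun b => by
    refine ⟨fun hb => (M1.exact_iff_stalk_eq_zero (ShortComplex.mk (kernel.ι f) f (kernel.condition f))).1
      (ShortComplex.exact_kernel f) x b hb, ?_⟩
    rintro ⟨a, rfl⟩
    show (M1.stalkAb x).map f ((M1.stalkAb x).map (kernel.ι f) a) = 0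
    rw [← CategoryTheory.comp_apply, ← Functor.map_comp, kernel.condition, Functor.map_zero]
    rfl
  have hdimS := hdim
  have hdim : ringKrullDim (S.presheaf.stalk x) ≤ ((2 : ℕ) : WithBot ℕ∞) := by
    have := VB17.ringKrullDim_stalk_le_topologicalKrullDim x
    rw [hdim] at this
    exact this
  obtain ⟨d, hd⟩ : ∃ d : ℕ, ringKrullDim (S.presheaf.stalk x) = d :=
    ⟨_, (IsRegularLocalRing.spanFinrank_maximalIdeal (R := S.presheaf.stalk x)).symm⟩
  have hd2 : d ≤ 2 := by
    rw [hd] at hdim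
    exact_mod_cast hdim
  have hdep : LocCoh.depth (S.presheaf.stalk x) (S.presheaf.stalk x) = d := by
    have h := (DepthLib.isCohenMacaulayLocalRing_of_isRegularLocalRing (R := S.presheaf.stalk x)).supportDim_eq_depth
    rw [Module.supportDim_self_eq_ringKrullDim, hd] at h
    exact (WithBot.coe_inj.1 h).symm
  have hreg : ∀ a : S.presheaf.stalk x, a ≠ 0 → IsSMulRegular (F.presheaf.stalk x) a := fun a ha =>
    Module.IsTorsionFree.isSMulRegular (isRegular_iff_mem_nonZeroDivisors.2 (mem_nonZeroDivisors_of_ne_zero ha))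
  have hK : (d : ℕ∞) ≤ LocCoh.depth (S.presheaf.stalk x) ((kernel f).presheaf.stalk x) := by
    rcases Nat.eq_zero_or_pos d with rfl | hd0
    · simp
    obtain ⟨a, ham, ha0⟩ : ∃ a ∈ IsLocalRing.maximalIdeal (S.presheaf.stalk x), a ≠ 0 := by
      by_contra! hc
      rw [ringKrullDim_eq_zero_of_isField (IsLocalRing.isField_iff_maximalIdeal_eq.2 ((Submodule.eq_bot_iff _).2 hc))] at hd
      exact absurd (show (0 : ℕ) = d from by exact_mod_cast hd) (by omega)
    have h1K : (1 : ℕ∞) ≤ LocCoh.depth (S.presheaf.stalk x) ((kernel f).presheaf.stalk x) :=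
      DepthLib.one_le_idealDepth_of_regular ham fun p q e => hu (hreg a ha0 (by
        show a • u p = a • u q
        rw [← map_smul, ← map_smul]; exact congrArg u e))
    obtain rfl | rfl : d = 1 ∨ d = 2 := by omega
    · exact h1K
    refine le_trans (le_min ?_ ?_) (DepthLib.idealDepth_shortExact
      (DepthLib.shortExact_of_linearMap hu hv huv)).2.2
    · change ((2 : ℕ) : ℕ∞) ≤ LocCoh.depth (S.presheaf.stalk x) (F.presheaf.stalk x)
      rcases subsingleton_or_nontrivial (F.presheaf.stalk x) with hs | hs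
      · simp [LocCoh.depth, LocCoh.idealDepth, Subsingleton.elim (_ : Submodule (S.presheaf.stalk x) (F.presheaf.stalk x)) ⊤]
      · rw [AB5.depth_of_projective, hdep]
    · have hQ : (1 : ℕ∞) ≤ LocCoh.depth (S.presheaf.stalk x) (((Coh.push j).obj M).presheaf.stalk x) := by
        by_cases hx : x ∈ Set.range j
        · obtain ⟨c, rfl⟩ := hx
          obtain ⟨γ, hγm, hγ⟩ := exists_ne_zero_mem_maximal j hC hdimS hd
          obtain ⟨a', rfl⟩ := j.stalkMap_surjective c γ
          refine DepthLib.one_le_idealDepth_of_regular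
            ((IsLocalRing.mem_maximalIdeal a').2 fun hu' => hγm (hu'.map _))
            (isSMulRegular_stalk_push j M hMtf c a' hγ)
        · exact DepthLib.one_le_idealDepth_of_regular (x := a) ham fun p q _ =>
            (M1.eq_zero_stalk_push j M hx p).trans (M1.eq_zero_stalk_push j M hx q).symm
      calc ((2 : ℕ) : ℕ∞) = 1 + 1 := by rw [one_add_one_eq_two]; rfl
        _ ≤ _ := add_le_add hQ le_rfl
  haveI := AB5.projective_of_depth_ge d (S.presheaf.stalk x) hdep ((kernel f).presheaf.stalk x)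
    ⟨_, RegLoc.pd_le_spanFinrank _ _ rfl _⟩ hK
  exact Module.free_of_flat_of_isLocalRing


end Groth.Agent.S15848
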