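import Groth.Statements.S0384
import Groth.Agent.Lib.Nagata4.Nagata

set_option autoImplicit false
universe u
open FlatMor

namespace Groth.Agent.S0384

open AlgebraicGeometry CategoryTheory Limits in
/-- Nagata compactification: a separated morphism of finite type to a quasi-compact quasi-separated
scheme factors as a quasi-compact open immersion followed by a proper morphism. -/
theorem result {X S : Scheme.{u}} (f : X ⟶ S) [CompactSpace S] [QuasiSeparatedSpace S] [IsSeparated f] [QuasiCompact f] [LocallyOfFiniteType f] :
    ∃ (Xc : Scheme.{u}) (j : X ⟶ Xc) (g : Xc ⟶ S), IsOpenImmersion j ∧ QuasiCompact j ∧ IsProper g ∧ j ≫ g = f := by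
  exact Nagata4.exists_compactification f

end Groth.Agent.S0384
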