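import Groth.Statements.S2103
import Groth.Agent.Lib.QReg.Basic

set_option autoImplicit false
universe u
open CAlg

namespace Groth.Agent.S2103

/-- Case `M = R`: an `H_1`-regular sequence in a ring (first Koszul homology zero) is quasi-regular (the
associated graded of the ideal it generates is a polynomial ring over the quotient). -/
theorem result {R : Type u} [CommRing R] {c : ℕ} (f : Fin c → R) (hf : CAlgX.IsH1Regular f) :
    CAlgX.IsQuasiRegular f := by
  exact QReg.isQuasiRegular_of_isH1Regular hf

end Groth.Agent.S2103
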