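import Groth.Statements.S9773
import Groth.Agent.Lib.CI2.RImmSmooth
import Groth.Agent.Lib.CI2.KoszulComp
import Groth.Agent.Lib.CI2.Ops

set_option autoImplicit false
universe u
open FlatMor

namespace Groth.Agent.S9773

attribute [local instance] HasDerivedCategory.standard
open AlgebraicGeometry CategoryTheory

open AlgebraicGeometry CategoryTheory Limits in
/-- A regular immersion of schemes, and likewise a Koszul-regular immersion, is a local complete
intersection morphism (Koszul at every point). -/
theorem result {Z X : Scheme.{u}} (i : Z ⟶ X) (k : RegImm.Kind)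
    (hk : k = RegImm.Kind.regular ∨ k = RegImm.Kind.koszul) (hi : RegImm.IsRegularImmersion k i) (z : Z) :
    Synt.IsKoszulAt i z := by
  have hik : RegImm.IsRegularImmersion .koszul i := by
    rcases hk with rfl | rfl
    · refine ⟨hi.1, fun z => ?_⟩
      obtain ⟨U, hzU, hcl, rs, hrs, hker⟩ := hi.2 z
      exact ⟨U, hzU, hcl, rs, (CI2.isKoszulRegularSeq_iff_ex rs).2
        (CI2.ex_of_isWeaklyRegular rs _ hrs.toIsWeaklyRegular), hker⟩
    · exact hi
  haveI := hi.1
  refine ⟨⊤, X, (⊤ : Z.Opens).ι ≫ i, 𝟙 X, trivial, inferInstance,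
    CI2.isRegularImmersion_comp_open i hik _, inferInstance, Category.comp_id _⟩

end Groth.Agent.S9773
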