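import Groth.Statements.S9729
import Groth.Agent.Lib.CI2.RImmSmooth
import Mathlib

set_option autoImplicit false
universe u
open FlatMor

set_option backward.isDefEq.respectTransparency.types false

namespace Groth.Agent.S9729

open AlgebraicGeometry CategoryTheory Limits in
/-- Let f : X ⟶ Y and g : Y ⟶ S be morphisms with g smooth. If f ≫ g is a local complete intersection
morphism (Koszul at every point of X) then f is a local complete intersection morphism. -/
theorem result {X Y S : Scheme.{u}} (f : X ⟶ Y) (g : Y ⟶ S) [Smooth g]
    (h : ∀ x : X, Synt.IsKoszulAt (f ≫ g) x) (x : X) : Synt.IsKoszulAt f x := by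
  obtain ⟨O, P, i, π, hxO, hft, hi, hπ, hiπ⟩ := h x
  haveI := hft
  haveI := hπ
  haveI := hi.1
  haveI : LocallyOfFiniteType (O.ι ≫ f) := by
    haveI : LocallyOfFiniteType ((O.ι ≫ f) ≫ g) := by rw [Category.assoc]; exact hft
    exact locallyOfFiniteType_of_comp (O.ι ≫ f) g
  let k := pullback.lift i (O.ι ≫ f) (by rw [hiπ, Category.assoc])
  haveI : IsImmersion k := by
    haveI : IsImmersion (k ≫ pullback.fst π g) := by rw [pullback.lift_fst]; exact hi.1
    exact IsImmersion.of_comp k (pullback.fst π g)
  haveI : Smooth (pullback.fst π g) := inferInstance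
  haveI : Smooth (pullback.snd π g) := inferInstance
  exact ⟨O, pullback π g, k, pullback.snd π g, hxO, inferInstance,
    (CI2.koszul_iff_of_smooth_comp i k (pullback.fst π g) (pullback.lift_fst _ _ _)).1 hi, inferInstance,
    pullback.lift_snd _ _ _⟩

end Groth.Agent.S9729
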