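import Groth.Statements.S9730
import Groth.Agent.Lib.KoszulDescSynt4

set_option autoImplicit false
universe u
open FlatMor

set_option backward.isDefEq.respectTransparency.types false

namespace Groth.Agent.S9730

open AlgebraicGeometry CategoryTheory Limits in
/-- For g : X' ⟶ X surjective and syntomic and any morphism f : X ⟶ Y, the composite g ≫ f is Koszul at
every point of X' (a local complete intersection morphism) if and only if f is Koszul at every point
of X. The published statement is phrased for syntomic coverings; this row takes a single surjective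
syntomic morphism, to which a covering reduces by passing to the disjoint union of its members. -/
theorem result {X' X Y : Scheme.{u}} (g : X' ⟶ X) (hg : Synt.IsSyntomicMor g) [Surjective g]
    (f : X ⟶ Y) : (∀ x' : X', Synt.IsKoszulAt (g ≫ f) x') ↔ (∀ x : X, Synt.IsKoszulAt f x) := by
  refine ⟨fun h x => Groth.Agent.KoszulDescSynt4.isKoszulAt_of_comp g hg f h x, fun h x' =>
    Groth.Agent.CI2.isKoszulAt_comp g f (fun z => ?_) h x'⟩
  obtain ⟨U, V, e, hzU, hs⟩ := hg z
  exact Groth.Agent.CI2.isKoszulAt_of_isLCI g U.2 V.2 e hzU
    (letI := (g.appLE V.1 U.1 e).hom.toAlgebra; Groth.Agent.CI2.isLCI_of_isSyntomic hs)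

end Groth.Agent.S9730
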