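import Groth.Statements.S0247
import Groth.Agent.Lib.Pur25.Regular

set_option autoImplicit false
universe u
open Pi1

namespace Groth.Agent.S0247

open AlgebraicGeometry CategoryTheory CategoryTheory.Limits in
/-- For a regular local ring A of Krull dimension at least 2, every finite etale cover of the punctured
spectrum of A extends to a finite etale cover of Spec A. -/
theorem result (A : Type u) [CommRing A] [IsRegularLocalRing A] (h : (2 : WithBot ℕ∞) ≤ ringKrullDim A) :
    FEt.PurityHolds A := by
  obtain ⟨d, hd⟩ : ∃ d, (IsLocalRing.maximalIdeal A).spanFinrank = d := ⟨_, rfl⟩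
  refine Groth.Agent.Pur25.purity_regular d A hd ?_
  rw [← IsRegularLocalRing.spanFinrank_maximalIdeal, hd] at h
  exact_mod_cast h

end Groth.Agent.S0247
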