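import Groth.Statements.S5826
-- import your own Groth.Agent.* helpers here

set_option autoImplicit false
universe u v w
open EGA41

namespace Groth.Agent.S5826

/-- Let A be a topological ring, M, N topological A-modules with the topologies deduced from that of A,
u : M → N a continuous linear map. Then u is formally left invertible if and only if, for every open
ideal J of A, the induced map M/JM → N/JN is left invertible, i.e. some linear map N → M/JM composes
with u to the projection M → M/JM. -/
theorem result {A : Type u} {M : Type v} {N : Type w}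
    [CommRing A] [TopologicalSpace A] [AddCommGroup M] [Module A M] [TopologicalSpace M] [AddCommGroup N]
    [Module A N] [TopologicalSpace N] (hM : TopMod.IsDeduced A M) (hN : TopMod.IsDeduced A N)
    (u : M →L[A] N) :
    TopMod.IsFormallyLeftInvertible u ↔
      ∀ J : Ideal A, IsOpen (J : Set A) →
        ∃ w : N →ₗ[A] M ⧸ (J • ⊤ : Submodule A M), ∀ x : M, w (u x) = Submodule.Quotient.mk x := by
  haveI := hM.1
  haveI := hN.1
  constructor
  · intro h J hJ
    letI : TopologicalSpace (M ⧸ (J • ⊤ : Submodule A M)) := ⊥
    haveI : DiscreteTopology (M ⧸ (J • ⊤ : Submodule A M)) := ⟨rfl⟩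
    let v : M →L[A] M ⧸ (J • ⊤ : Submodule A M) :=
      { Submodule.mkQ _ with
        cont := continuous_of_continuousAt_zero (Submodule.mkQ (J • ⊤ : Submodule A M)) (by
          rw [ContinuousAt, map_zero, nhds_discrete (M ⧸ (J • ⊤ : Submodule A M)), Filter.tendsto_pure]
          exact Filter.mem_of_superset (hM.2.mem_of_mem hJ) fun x hx => (Submodule.Quotient.mk_eq_zero _).mpr hx) }
    obtain ⟨w, hw⟩ := h _ v
    exact ⟨w.toLinearMap, hw⟩
  · intro h E _ _ _ _ v
    have hv : ∀ᶠ x in nhds (0 : M), v x = 0 := by
      have := (map_continuous v).continuousAt (x := (0 : M))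
      rwa [ContinuousAt, map_zero, nhds_discrete E, Filter.tendsto_pure] at this
    obtain ⟨J, hJ, hsub⟩ := hM.2.mem_iff.mp hv
    obtain ⟨w, hw⟩ := h J hJ
    have hker : (J • ⊤ : Submodule A M) ≤ LinearMap.ker v.toLinearMap := fun x hx => hsub hx
    let w' : N →ₗ[A] E := (Submodule.liftQ _ v.toLinearMap hker).comp w
    have hw' : ∀ y ∈ (J • ⊤ : Submodule A N), w' y = 0 := fun y hy =>
      Submodule.smul_induction_on hy (fun j hj n _ => by
        obtain ⟨m, hm⟩ := Submodule.Quotient.mk_surjective _ (w n)
        show Submodule.liftQ _ v.toLinearMap hker (w (j • n)) = 0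
        rw [map_smul, ← hm, ← Submodule.Quotient.mk_smul, Submodule.liftQ_apply]
        exact hsub (Submodule.smul_mem_smul hj trivial)) fun a b ha hb => by rw [map_add, ha, hb, add_zero]
    refine ⟨{ w' with cont := continuous_of_continuousAt_zero w' ?_ }, fun x => ?_⟩
    · rw [ContinuousAt, map_zero, nhds_discrete E, Filter.tendsto_pure]
      exact Filter.mem_of_superset (hN.2.mem_of_mem hJ) hw'
    · show Submodule.liftQ _ v.toLinearMap hker (w (u x)) = v x
      rw [hw, Submodule.liftQ_apply]
      rfl

end Groth.Agent.S5826
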