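import Groth.Statements.S6004
import Groth.Agent.Lib.TorsorSch25.Transfer

set_option autoImplicit false
universe u
open CategoryTheory AlgebraicGeometry
open SGA1

namespace Groth.Agent.S6004

/-- Let G be an S-group scheme which is affine and flat over S. Then every principal homogeneous bundle
under G (a pseudo-torsor which acquires sections on the members of some fpqc covering family of S)
is affine and flat over S. -/
theorem result {S : Scheme.{u}}
    (G X : Over S) [GrpObj G] [IsAffineHom G.hom] [Flat G.hom] (a : AlgGrp.Action G X)
    (h : NonAbH1.IsTorsorFor Scheme.fpqcPrecoverage a) :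
    IsAffineHom X.hom ∧ Flat X.hom := by
  haveI := TorsorSch25.flat_descendsAlong.{u}
  haveI := FpqcDesc.descendsAlong_isAffineHom.{u}
  exact ⟨TorsorSch25.prop_of_isTorsorFor @IsAffineHom h inferInstance,
    TorsorSch25.prop_of_isTorsorFor @Flat h inferInstance⟩

end Groth.Agent.S6004
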