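import Groth.Statements.S15600
import Groth.Agent.Lib.Derived21.ConjClosure
import Groth.Agent.Lib.TorPts21.RadicalChar
import Groth.Agent.Lib.TorPts21.UnipRadical
import Groth.Agent.Lib.UnipBC21.Fields
-- import your own Groth.Agent.* helpers here

set_option autoImplicit false
universe u
open CategoryTheory MonoidalCategory CartesianMonoidalCategory MonObj GrpObj AlgebraicGeometry
open AGF

namespace Groth.Agent.S15600

/-- Let k be a field, G a smooth affine k-group scheme and G⁰ ⟶ G its identity component, that is, an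
open subgroup scheme whose underlying space is connected. If U ⟶ G⁰ is the k-unipotent radical of G⁰
(the largest normal closed subgroup scheme of G⁰, smooth and quasi-compact over k, with connected
geometric fibre containing no non-trivial subtorus), then the composite U ⟶ G⁰ ⟶ G is the
k-unipotent radical of G. -/
theorem result (k : Type u) [Field k]
    (G G₀ U : Over (Spec (CommRingCat.of k))) [GrpObj G] [GrpObj G₀] [GrpObj U] [IsAffine G.left] [Smooth G.hom]
    (j : G₀ ⟶ G) [IsMonHom j] [IsOpenImmersion j.left] [ConnectedSpace ↥G₀.left]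
    (u : U ⟶ G₀) (hu : Par.IsUnipotentRadical u) : Par.IsUnipotentRadical (u ≫ j) := by
  obtain ⟨hum, huc, hun, hus, huq, hufib, huniv⟩ := hu
  haveI := hum
  haveI := huc
  haveI := hus
  haveI : IsClosedImmersion j.left := Groth.Agent.AbRigid.isClosedImmersion_of_isImmersion j
  haveI : IsAffine G₀.left := isAffine_of_isAffineHom j.left
  haveI : Smooth G₀.hom := by rw [← Over.w j]; infer_instance
  haveI : IsAffine U.left := isAffine_of_isAffineHom u.left
  haveI : Mono j := Over.mono_of_mono_left j
  haveI : Mono u := Over.mono_of_mono_left u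
  haveI : ConnectedSpace U.left := by
    obtain ⟨h1, -⟩ := hufib (IsLocalRing.closedPoint k)
    haveI := h1
    haveI : Surjective (Red.geomPt (S := Spec (CommRingCat.of k)) (IsLocalRing.closedPoint k)) :=
      ⟨fun p => ⟨IsLocalRing.closedPoint _, Subsingleton.elim (α := PrimeSpectrum k) _ _⟩⟩
    haveI : Surjective (Limits.pullback.fst U.hom (Red.geomPt (S := Spec (CommRingCat.of k)) (IsLocalRing.closedPoint k))) :=
      inferInstance
    haveI : ConnectedSpace ↥(Limits.pullback U.hom (Red.geomPt (S := Spec (CommRingCat.of k)) (IsLocalRing.closedPoint k))) := h1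
    exact (Limits.pullback.fst U.hom (Red.geomPt (S := Spec (CommRingCat.of k)) (IsLocalRing.closedPoint k))).surjective.connectedSpace
      (Scheme.Hom.continuous _)
  have hrestr : ∀ {V : Over (Spec (CommRingCat.of k))} [GrpObj V] (v : V ⟶ G) (v' : V ⟶ G₀), v' ≫ j = v →
      AlgGrp.IsNormalHom v → AlgGrp.IsNormalHom v' := by
    intro V _ v v' hv hn T g n
    obtain ⟨n', hn'⟩ := hn T (g ≫ j) n
    refine ⟨n', (cancel_mono j).1 ?_⟩
    rw [Category.assoc, hv, ← hn', MonObj.mul_comp, MonObj.mul_comp, GrpObj.inv_comp, Category.assoc, hv]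
  obtain ⟨N, _, i, _, hic, hNs, hNn, hNnorm, hNconj, hNuniv⟩ :=
    Groth.Agent.Derived21.exists_conj_closure G (u ≫ j)
  haveI := hic
  haveI := hNs
  haveI := hNn
  obtain ⟨i', hi'⟩ := Groth.Agent.TorPts21.exists_lift_open j i
  haveI : IsMonHom i' := Groth.Agent.BorelFix21.isMonHom_of_comp j i' (hi' ▸ inferInstance)
  haveI : IsClosedImmersion i'.left := by
    haveI : IsClosedImmersion (i'.left ≫ j.left) := by rw [← Over.comp_left, hi']; infer_instance
    exact IsClosedImmersion.of_comp i'.left j.left
  haveI : IsAffine N.left := isAffine_of_isAffineHom i.left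
  have hfib : ∀ s : ↥(Spec (CommRingCat.of k)), ConnectedSpace (Red.geomFibre s N).left ∧
      Red.HasNoSubtorus (AlgebraicClosure ((Spec (CommRingCat.of k)).residueField s)) (Red.geomFibre s N) := by
    intro s
    let σ := Red.geomPt s
    refine ⟨Groth.Agent.BorelFix21.connectedSpace_bc σ N, ?_⟩
    let F := Over.pullback σ
    haveI : IsAffine (Red.bc σ G).left := Groth.Agent.BorelFix21.isAffine_bc σ G
    haveI : Smooth (Red.bc σ G).hom := Groth.Agent.BorelFix21.smooth_bc σ G
    haveI : IsAffine (Red.bc σ G₀).left := Groth.Agent.BorelFix21.isAffine_bc σ G₀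
    haveI : Smooth (Red.bc σ G₀).hom := Groth.Agent.BorelFix21.smooth_bc σ G₀
    haveI : ConnectedSpace (Red.bc σ G₀).left := Groth.Agent.BorelFix21.connectedSpace_bc σ G₀
    haveI hjc : IsClosedImmersion (F.map j).left := Groth.Agent.BorelFix21.isClosedImmersion_bc σ j
    haveI hjo : IsOpenImmersion (F.map j).left :=
      MorphismProperty.of_isPullback (P := @IsOpenImmersion) (Groth.Agent.BorelFix21.isPullback_bc_map σ j) inferInstance
    haveI : Mono (F.map j) := Over.mono_of_mono_left _
    obtain ⟨R, _, r, hR, hRuniv⟩ := Groth.Agent.TorPts21.exists_unipotentRadical_connected (Red.bc σ G₀)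
    obtain ⟨hrm, hrc, hrn, hrs, -, hrcon, hrns, -⟩ := (Groth.Agent.TorPts21.isUnipotentRadical_iff r).1 hR
    haveI := hrm
    haveI := hrc
    haveI := hrs
    haveI := hrcon
    haveI : IsClosedImmersion (r ≫ F.map j).left := by rw [Over.comp_left]; infer_instance
    haveI : Mono r := Over.mono_of_mono_left r
    have hnorm : AlgGrp.IsNormalHom (r ≫ F.map j) := by
      refine Groth.Agent.TorPts21.isNormalHom_of_pts _ fun g x => ?_
      obtain ⟨g₀, hg₀⟩ := Groth.Agent.TorPts21.exists_gpt g
      haveI := Groth.Agent.TorPts21.isMonHom_conjBy g₀ (r ≫ F.map j)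
      haveI := Groth.Agent.TorPts21.isClosedImmersion_conjBy g₀ (r ≫ F.map j)
      obtain ⟨c, hc⟩ := Groth.Agent.TorPts21.exists_lift_open (F.map j) (AGF.conjBy g₀ (r ≫ F.map j))
      haveI : IsMonHom c := Groth.Agent.BorelFix21.isMonHom_of_comp (F.map j) c (hc ▸ inferInstance)
      haveI : IsClosedImmersion c.left := by
        haveI : IsClosedImmersion (c.left ≫ (F.map j).left) := by rw [← Over.comp_left, hc]; infer_instance
        exact IsClosedImmersion.of_comp c.left (F.map j).left
      haveI : IsAffine R.left := isAffine_of_isAffineHom r.left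
      haveI := Groth.Agent.TorPts21.isMonHom_conjBy g₀⁻¹ (F.map j)
      obtain ⟨d, hd⟩ := Groth.Agent.TorPts21.exists_lift_open (F.map j) (AGF.conjBy g₀⁻¹ (F.map j))
      have hcn : AlgGrp.IsNormalHom c := by
        refine Groth.Agent.TorPts21.isNormalHom_of_pts c fun a b => ?_
        obtain ⟨y, hy⟩ := hrn _ (a ≫ d) b
        refine ⟨y, (cancel_mono (F.map j)).1 ?_⟩
        simp only [MonObj.mul_comp, GrpObj.inv_comp, Category.assoc, hc, Groth.Agent.TorPts21.comp_conjBy]
        rw [← Category.assoc y r, ← hy]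
        simp only [MonObj.mul_comp, GrpObj.inv_comp, Category.assoc, hd, Groth.Agent.TorPts21.comp_conjBy]
        rw [GrpObj.comp_inv]
        group
      obtain ⟨f, hf⟩ := hRuniv R c inferInstance hrs hrcon hcn hrns
      refine ⟨x ≫ f, ?_⟩
      rw [Category.assoc, ← Category.assoc f, hf, hc, Groth.Agent.TorPts21.comp_conjBy,
        show toUnit _ ≫ g₀ = g from hg₀]
    obtain ⟨t, ht⟩ := hRuniv (Red.bc σ U) (F.map u) (Groth.Agent.BorelFix21.isClosedImmersion_bc σ u)
      (Groth.Agent.BorelFix21.smooth_bc σ U) (hufib s).1 (Groth.Agent.TorPts21.isNormalHom_bc σ hun) (hufib s).2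
    obtain ⟨m, hm⟩ := hNuniv σ R (r ≫ F.map j) hnorm ⟨t, by rw [← Category.assoc, ht, ← Functor.map_comp]⟩
    haveI : IsClosedImmersion (F.map i).left := Groth.Agent.BorelFix21.isClosedImmersion_bc σ i
    haveI : Mono (F.map i) := Over.mono_of_mono_left _
    haveI : Mono (r ≫ F.map j) := CategoryTheory.mono_comp _ _
    haveI : IsMonHom m := Groth.Agent.BorelFix21.isMonHom_of_comp (r ≫ F.map j) m (hm ▸ inferInstance)
    haveI : Mono m := CategoryTheory.mono_of_mono_fac hm
    exact Groth.Agent.UnipBC21.hasNoSubtorus_of_mono m hrns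
  haveI : QuasiCompact N.hom := Groth.Agent.GrpGen20.quasiCompact_of_connected N
  obtain ⟨f, hf⟩ := huniv N i' inferInstance (hrestr i i' hi' hNnorm) hNs inferInstance hfib
  refine ⟨inferInstance, by rw [Over.comp_left]; infer_instance, fun T g n => ?_, hus, huq, hufib, ?_⟩
  · obtain ⟨z, hz⟩ := hNconj T g n
    refine ⟨z ≫ f, ?_⟩
    rw [← hz, ← hi', Category.assoc, ← Category.assoc f, hf]
  · intro U' _ u' _ hc' hn' hs' hq' hfib'
    haveI := hc'
    haveI : ConnectedSpace U'.left := by
      obtain ⟨h1, -⟩ := hfib' (IsLocalRing.closedPoint k)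
      let p := Red.geomPt (S := Spec (CommRingCat.of k)) (IsLocalRing.closedPoint k)
      haveI : Surjective p := ⟨fun q => ⟨IsLocalRing.closedPoint _, Subsingleton.elim (α := PrimeSpectrum k) _ _⟩⟩
      haveI : Surjective (Limits.pullback.fst U'.hom p) := inferInstance
      haveI : ConnectedSpace ↥(Limits.pullback U'.hom p) := h1
      exact (Limits.pullback.fst U'.hom p).surjective.connectedSpace (Scheme.Hom.continuous _)
    obtain ⟨v, hv⟩ := Groth.Agent.TorPts21.exists_lift_open j u'
    haveI : IsMonHom v := Groth.Agent.BorelFix21.isMonHom_of_comp j v (hv ▸ inferInstance)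
    haveI : IsClosedImmersion (v.left ≫ j.left) := by rw [← Over.comp_left, hv]; infer_instance
    obtain ⟨w, hw⟩ := huniv U' v (IsClosedImmersion.of_comp v.left j.left) (hrestr u' v hv hn') hs' hq' hfib'
    exact ⟨w, by rw [← Category.assoc, hw, hv]⟩

end Groth.Agent.S15600
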