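import Groth.Statements.S10056
import Groth.Agent.Lib.LimSys14.Basic
import Groth.Agent.Lib.AlgSpDescent.RedNoeth
import Mathlib.AlgebraicGeometry.AffineTransitionLimit

set_option autoImplicit false
universe u
open CategoryTheory CategoryTheory.Limits AlgebraicGeometry
open AlgSp

namespace Groth.Agent.S10056

set_option backward.isDefEq.respectTransparency.types false
open Groth.Agent.LimSys14 Groth.Agent.AlgSpace in
theorem isReduced_limit_affine {I : Type u} [SmallCategory I] [IsCofiltered I] {D : I ⥤ Scheme.{u}}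
    {c : Cone D} (hc : IsLimit c) [∀ i, IsAffine (D.obj i)] [IsAffine c.pt]
    [∀ i, IsReduced (D.obj i)] : IsReduced c.pt := by
  have : _root_.IsReduced Γ(c.pt, ⊤) := ⟨fun x hx => by
    obtain ⟨n, hn⟩ := hx
    obtain ⟨i, t, rfl⟩ := exists_appTop_π_eq_of_isAffine_of_isLimit D c hc x
    obtain ⟨j, f, hj⟩ := exists_appTop_map_eq_zero_of_isAffine_of_isLimit D c hc i (t ^ n)
      (by rw [map_pow]; exact hn)
    rw [map_pow] at hj
    have : (D.map f).appTop t = 0 := IsNilpotent.eq_zero ⟨n, hj⟩
    have h2 : (c.π.app i).appTop t = (c.π.app j).appTop ((D.map f).appTop t) := by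
      rw [← c.w f, Scheme.Hom.comp_appTop]; rfl
    rw [h2, this, map_zero]⟩
  exact isReduced_of_isOpenImmersion c.pt.isoSpec.hom

theorem isReduced_limit {I : Type u} [SmallCategory I] [IsCofiltered I] {D : I ⥤ Scheme.{u}}
    {c : Cone D} (hc : IsLimit c) [∀ {i j} (f : i ⟶ j), IsAffineHom (D.map f)]
    [∀ i, IsReduced (D.obj i)] : IsReduced c.pt := by
  obtain ⟨i⟩ := IsCofiltered.nonempty (C := I)
  have := isAffineHom_π_app D c hc i
  have key : ∀ x : c.pt, ∃ U : c.pt.Opens, x ∈ U ∧ IsReduced U.toScheme := by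
    intro x
    obtain ⟨U, hU, hx, -⟩ := exists_isAffineOpen_mem_and_subset (X := D.obj i) (x := c.π.app i x) (U := ⊤) trivial
    refine ⟨c.π.app i ⁻¹ᵁ U, hx, ?_⟩
    have : ∀ j : Over i, IsAffine ((opensDiagram D i U).obj j) := fun j => hU.preimage (D.map j.hom)
    have : IsAffine (opensCone D c i U).pt := hU.preimage (c.π.app i)
    have : ∀ j : Over i, IsReduced ((opensDiagram D i U).obj j) := fun j =>
      haveI : IsReduced (D.obj j.left) := inferInstance
      inferInstanceAs (IsReduced (D.map j.hom ⁻¹ᵁ U : (D.obj j.left).Opens).toScheme)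
    exact isReduced_limit_affine (isLimitOpensCone D c hc i U)
  choose U hxU hred using key
  have : ∀ x, _root_.IsReduced (c.pt.presheaf.stalk x) := fun x => by
    have := hred x
    have : _root_.IsReduced ((U x).toScheme.presheaf.stalk ⟨x, hxU x⟩) := inferInstance
    exact isReduced_of_injective ((U x).stalkIso ⟨x, hxU x⟩).inv.hom
      ((U x).stalkIso ⟨x, hxU x⟩).symm.commRingCatIsoToRingEquiv.injective
  exact isReduced_of_isReduced_stalk c.pt

open Groth.Agent.LimSys14 Groth.Agent.AlgSpace in
theorem main (S : Scheme.{u}) {I : Type u} [SmallCategory I] [IsCofiltered I]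
    (D : I ⥤ AlgSp.Sp S) (hDa : ∀ (i j : I) (φ : i ⟶ j), AlgSp.IsAffineMor (D.map φ))
    (c : Cone D) (hc : IsLimit c)
    (hred : ∀ i, AlgSp.IsReducedSp (D.obj i)) : AlgSp.IsReducedSp c.pt := by
  obtain ⟨i₀⟩ := IsCofiltered.nonempty (C := I)
  obtain ⟨W, q, hqe, hqs, -⟩ := hred i₀
  haveI : ∀ {j k} (φ : j ⟶ k), IsAffineHom ((chartSys hDa q ⋙ Over.forget S).map φ) :=
    fun φ => isAffineHom_chartMap hDa q φ
  haveI : ∀ j, IsReduced ((chartSys hDa q ⋙ Over.forget S).obj j) := fun j =>
    Groth.Agent.AlgSpDescent.prop_of_etale_chart Groth.Agent.AlgSpDescent.isReduced_up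
      Groth.Agent.AlgSpDescent.isReduced_down (hred j.left)
      (repWith_of_isPullback (chart_sq hDa q j).flip hqe)
  exact ⟨_, chartPtFst hDa q c hc, repWith_of_isPullback (chartPt_sq hDa q c hc).flip hqe,
    repWith_of_isPullback (chartPt_sq hDa q c hc).flip hqs,
    isReduced_limit (chartIsLimitScheme hDa q c hc)⟩

/-- Let `X` be the limit, in fppf sheaves over `S`, of a cofiltered system `(X_i)` of algebraic spaces
over `S` whose transition maps are affine. If each `X_i` is reduced, then `X` is reduced. (The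
published statement does not restate that the transition morphisms are affine; the limit it refers
to is formed under that assumption, which this row states.) -/
theorem result (S : Scheme.{u}) {I : Type u} [SmallCategory I] [IsCofiltered I]
    (D : I ⥤ AlgSp.Sp S) (hD : ∀ i, AlgSp.IsAlgSpace (D.obj i))
    (hDa : ∀ (i j : I) (φ : i ⟶ j), AlgSp.IsAffineMor (D.map φ))
    (c : Cone D) (hc : IsLimit c)
    (hred : ∀ i, AlgSp.IsReducedSp (D.obj i)) : AlgSp.IsReducedSp c.pt := by
  exact main S D hDa c hc hred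

end Groth.Agent.S10056
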