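import Groth.Statements.S9267
import Groth.Agent.Lib.CI2.KoszulInv
import Groth.Agent.Lib.KoszulH13.KoszulLim

set_option autoImplicit false
universe u
attribute [local instance] HasDerivedCategory.standard
open CategoryTheory
open DerCA

namespace Groth.Agent.S9267

open CategoryTheory CategoryTheory.Limits Groth.Agent.CI2
open Groth.Agent.CanElt (KObj kd)

variable {R : Type u} [CommRing R] {M : Type u} [AddCommGroup M] [Module R M]

theorem headCond_pow {f : R} {l : List R} (h : HeadCond M f l) :
    ∀ n : ℕ, HeadCond M (f ^ (n + 1)) l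
  | 0 => by rwa [pow_one]
  | n + 1 => by
    obtain ⟨h1, h2⟩ := headCond_pow h n
    refine ⟨fun m z hz => ?_, fun m b hb ⟨w, hw⟩ => ?_⟩
    · obtain ⟨w, c, hc, rfl⟩ := h.1 m z hz
      obtain ⟨v, d, hd, rfl⟩ := h1 m c hc
      refine ⟨w + f • v, d, hd, ?_⟩
      rw [smul_add, ← map_smul, pow_succ' f (n + 1), mul_smul, map_add]
      exact (add_assoc _ _ _).symm
    · refine h.2 m b hb (h2 m (f • b) ?_ ⟨w, by rw [hw, pow_succ, mul_smul]⟩)
      cases m with
      | zero => trivial
      | succ m => show kd R M l m (f • b) = 0; rw [map_smul, (show kd R M l m b = 0 from hb), smul_zero]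

/-- Powers of a Koszul regular sequence are Koszul regular. -/
theorem ex_pow (n : ℕ) : ∀ (todo done : List R), Ex R M (todo ++ done) →
    Ex R M (todo.map (· ^ (n + 1)) ++ done)
  | [], _, h => h
  | f :: todo, done, h => by
    have h1 : Ex R M (f ^ (n + 1) :: (todo ++ done)) :=
      (ex_cons_iff _ _).2 (headCond_pow ((ex_cons_iff _ _).1 h) n)
    have h2 := ex_pow n todo (f ^ (n + 1) :: done) (ex_of_perm List.perm_middle.symm h1)
    exact ex_of_perm List.perm_middle h2

theorem koszulCx_eq : ∀ l : List R, CohIII.koszulCx (ModuleCat.of R R) l = Koszul.koszul R l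
  | [] => rfl
  | f :: l => by
    show CochainComplex.mappingCone (f • 𝟙 (CohIII.koszulCx (ModuleCat.of R R) l)) = _
    rw [koszulCx_eq l]
    rfl


/-- For a Koszul-regular sequence f_1, ..., f_r in a ring R, the extended alternating Cech complex R → ⊕
R_{f_i} → ... → R_{f_1 ... f_r} has cohomology only in degree r. -/
theorem result (R : Type u) [CommRing R] (fs : List R)
    (hfs : LCI.IsKoszulRegularSeq R fs) (q : ℤ) (hq : q ≠ (fs.length : ℤ)) :
    Limits.IsZero (DerCA.extCechH fs (ModuleCat.of R R) q) := by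
  by_cases hr : q < 0
  · exact Groth.Agent.ExtCechLib.isZero_extCechH_range _ fs q (Or.inl hr)
  obtain ⟨p, rfl⟩ : ∃ p : ℕ, (p : ℤ) = q := ⟨q.toNat, Int.toNat_of_nonneg (not_lt.1 hr)⟩
  obtain ⟨e⟩ := KoszulH13.nonempty_koszulHLim_equiv (ModuleCat.of R R) fs p
  have hp : (p : ℤ) - fs.length ≠ 0 := sub_ne_zero.2 hq
  have hz : ∀ (n : ℕ) (x : CohIII.koszulHPow fs (ModuleCat.of R R) p (n + 1)), x = 0 := fun n x => by
    have hex : Ex R R (fs.map (· ^ (n + 1))) := by
      simpa using ex_pow n fs [] (by simpa using (isKoszulRegularSeq_iff_ex fs).1 hfs)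
    have h : IsZero ((CohIII.koszulCx (ModuleCat.of R R) (fs.map (· ^ (n + 1)))).homology ((p : ℤ) - fs.length)) := by
      rw [koszulCx_eq]
      exact (isKoszulRegularSeq_iff_ex _).2 hex _ hp
    have hl : (fs.map (· ^ (n + 1))).length = fs.length := List.length_map _
    haveI : Subsingleton (CohIII.koszulHPow fs (ModuleCat.of R R) p (n + 1)) := by
      refine ModuleCat.subsingleton_of_isZero ?_
      first
        | exact h
        | (unfold CohIII.koszulHPow CohIII.koszulH; rw [hl]; exact h)
    exact Subsingleton.elim _ _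
  haveI : Subsingleton (DerCA.extCechH fs (ModuleCat.of R R) p) := by
    refine subsingleton_of_forall_eq 0 fun y => ?_
    obtain ⟨w, rfl⟩ := e.surjective y
    refine (congrArg e ?_).trans (map_zero e)
    obtain ⟨n, x, rfl⟩ := Module.DirectLimit.exists_of w
    refine (Module.DirectLimit.of_f (hij := n.le_succ)).symm.trans ?_
    exact (congrArg _ (hz n _)).trans (map_zero _)
  exact ModuleCat.isZero_of_subsingleton _


end Groth.Agent.S9267
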