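import Groth.Statements.S18202
import Groth.Agent.Lib.LocImm12.LocHom
import Mathlib.AlgebraicGeometry.Morphisms.Flat

open Groth.Agent.LocImm12
set_option backward.isDefEq.respectTransparency.types false

set_option autoImplicit false
universe u
open LocImm

namespace Groth.Agent.S18202

open CategoryTheory AlgebraicGeometry Limits in
/-- Let `f : X ⟶ Y` be a localizing immersion (localizing and injective on points) of Noetherian schemes
and `g : Y' ⟶ Y` a morphism with `Y'` Noetherian. Then the base change `X ×_Y Y' ⟶ Y'` is a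
localizing immersion. -/
theorem result {X Y Y' : Scheme.{u}} [IsNoetherian X] [IsNoetherian Y] [IsNoetherian Y']
    (f : X ⟶ Y) (g : Y' ⟶ Y) (hf : LocImm.IsLocImmersion f) : LocImm.IsLocImmersion (pullback.snd f g) := by
  have := isPreimmersion_of_isLocImmersion hf
  refine ⟨fun z => ?_, (pullback.snd f g).isEmbedding.injective⟩
  obtain ⟨V, hxV, -, hV, hP, hl⟩ := exists_affine_preimage hf.1 f.isEmbedding
    (pullback.fst f g z) ⊤ trivial
  have hy : g (pullback.snd f g z) ∈ V := by
    rw [← Scheme.Hom.comp_apply, ← pullback.condition, Scheme.Hom.comp_apply]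
    exact hxV
  obtain ⟨U', hU', hzU', hU'V⟩ := exists_isAffineOpen_mem_and_subset
    (x := pullback.snd f g z) (U := g ⁻¹ᵁ V) hy
  have hUV : U' ≤ g ⁻¹ᵁ V := hU'V
  let O := pullback.fst f g ⁻¹ᵁ (f ⁻¹ᵁ V) ⊓ pullback.snd f g ⁻¹ᵁ U'
  have H := IsPullback.of_hasPullback f g
  have hO : IsAffineOpen O := by
    have : IsAffine _ := hV
    have : IsAffine _ := hP
    have : IsAffine _ := hU'
    exact .of_isIso (Scheme.Hom.isPullback_resLE H hUV le_rfl rfl).isoPullback.hom
  refine ⟨⟨U', hU'⟩, ⟨O, hO⟩, ⟨hxV, hzU'⟩, inf_le_right, ?_⟩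
  have hpo := (isIso_pushoutSection_iff H hUV le_rfl (UY := O) rfl).1
    (isIso_pushoutSection_of_isAffineOpen H hUV le_rfl rfl hV hU' hP)
  refine isLocHom_of_isPushout hpo ?_
  rwa [← Scheme.Hom.app_eq_appLE]

end Groth.Agent.S18202
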