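import Groth.Statements.S14359
import Mathlib.RingTheory.Ideal.AssociatedPrime.Finiteness
import Mathlib.RingTheory.Ideal.AssociatedPrime.Localization
import Mathlib.RingTheory.Regular.IsSMulRegular
import Mathlib.RingTheory.DiscreteValuationRing.TFAE
import Mathlib.RingTheory.Localization.FractionRing
import Mathlib.RingTheory.IntegralClosure.IntegrallyClosed
import Mathlib.RingTheory.Ideal.Height
import Mathlib.RingTheory.Ideal.KrullsHeightTheorem
import Mathlib.RingTheory.KrullDimension.Basic
import Mathlib.RingTheory.Localization.Integral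
import Mathlib.RingTheory.IntegralClosure.Algebra.Basic
import Mathlib.RingTheory.Localization.LocalizationLocalization
import Groth.Agent.Lib.H2Alg.NormalAss

set_option autoImplicit false
universe u
open CAlg

namespace Groth.Agent.S14359

/-- Let A be a Noetherian integrally closed integral domain and b a nonzero element of A. Then every
associated prime of the A-module A/(b) has height one, so that A/(b) has no embedded associated
primes. -/
theorem result
    (A : Type u) [CommRing A] [IsDomain A] [IsNoetherianRing A] [IsIntegrallyClosed A]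
    (b : A) (hb : b ≠ 0) (p : Ideal A) (hp : p ∈ associatedPrimes A (A ⧸ Ideal.span {b})) :
    p.height = 1 := by
  obtain ⟨hpp, q, hq⟩ := isAssociatedPrime_iff.1 hp
  obtain ⟨x, rfl⟩ := Ideal.Quotient.mk_surjective q
  have hmem : ∀ z, z ∈ p ↔ b ∣ x * z := fun z => by
    rw [hq, Groth.Agent.H2Alg.mem_colon_bot_singleton, ← Ideal.mem_span_singleton, mul_comm, ← Ideal.Quotient.eq_zero_iff_mem]; rfl
  let L := Localization.AtPrime p
  have hL : Function.Injective (algebraMap A L) :=
    IsLocalization.injective L p.primeCompl_le_nonZeroDivisors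
  have : IsIntegrallyClosed L := isIntegrallyClosed_of_isLocalization L p.primeCompl p.primeCompl_le_nonZeroDivisors
  have : IsNoetherianRing L := IsLocalization.isNoetherianRing p.primeCompl _ inferInstance
  have : IsDiscreteValuationRing L := by
    refine Groth.Agent.H2Alg.isDVR_of_dvd_mul_maximalIdeal (algebraMap A L b) ((map_ne_zero_iff _ hL).2 hb) (algebraMap A L x) ?_ ?_ ?_
    · rintro ⟨c, hc⟩
      obtain ⟨⟨c', s⟩, rfl⟩ := IsLocalization.mk'_surjective p.primeCompl c
      rw [IsLocalization.mul_mk'_eq_mk'_of_mul, IsLocalization.eq_mk'_iff_mul_eq, ← map_mul] at hc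
      exact s.2 ((hmem _).2 ⟨c', hL hc⟩)
    · rw [IsLocalization.AtPrime.to_map_mem_maximal_iff L p]; exact (hmem b).2 (dvd_mul_left b x)
    · intro z hz
      obtain ⟨⟨z', s⟩, rfl⟩ := IsLocalization.mk'_surjective p.primeCompl z
      obtain ⟨c, hc⟩ := (hmem z').1 ((IsLocalization.AtPrime.mk'_mem_maximal_iff L p z' s).1 hz)
      exact ⟨IsLocalization.mk' L c s, by rw [IsLocalization.mul_mk'_eq_mk'_of_mul, IsLocalization.mul_mk'_eq_mk'_of_mul, hc]⟩
  have h := IsLocalization.AtPrime.ringKrullDim_eq_height p L
  rw [IsDiscreteValuationRing.ringKrullDim_eq_one] at h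
  exact_mod_cast h.symm

end Groth.Agent.S14359
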