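import Groth.Statements.S0346
import Groth.Agent.Lib.AbRigid.Shear

set_option autoImplicit false
universe u v
open CategoryTheory MonoidalCategory CartesianMonoidalCategory MonObj GrpObj AlgebraicGeometry
open GrpSch

namespace Groth.Agent.S0346

/-- A group scheme over any base scheme is separated over the base exactly when its unit section is a
closed immersion, and quasi-separated exactly when the unit section is quasi-compact. -/
theorem result (S : Scheme.{u}) (G : Over S) [GrpObj G] : (IsSeparated G.hom ↔ IsClosedImmersion η[G].left) ∧ (QuasiSeparated G.hom ↔ QuasiCompact η[G].left) := by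
  have sq : IsPullback (lift (𝟙 G) (𝟙 G)) (toUnit G) (fst G G * (snd G G)⁻¹) η[G] := by
    refine ⟨⟨by rw [comp_mul, GrpObj.comp_inv, lift_fst, lift_snd, mul_inv_cancel, one_eq_one, comp_one]⟩,
      ⟨Limits.PullbackCone.IsLimit.mk _ (fun s => s.fst ≫ fst G G) (fun s => ?_) (fun s => toUnit_unique _ _)
        (fun s m hm _ => ?_)⟩⟩
    · have h := s.condition
      rw [comp_mul, GrpObj.comp_inv, toUnit_unique s.snd (toUnit _), show toUnit s.pt ≫ η[G] = 1 from rfl, mul_inv_eq_one] at h
      rw [comp_lift, Category.comp_id]
      conv_rhs => rw [← lift_comp_fst_snd s.fst]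
      rw [h]
    · rw [← hm, Category.assoc, lift_fst, Category.comp_id]
  have sq' := sq.map (Over.forget S)
  have hd : (lift (𝟙 G) (𝟙 G)).left = Limits.pullback.diagonal G.hom := rfl
  have key : ∀ (P : MorphismProperty Scheme.{u}) [P.IsStableUnderBaseChange],
      P η[G].left → P (lift (𝟙 G) (𝟙 G)).left := fun P _ h => MorphismProperty.of_isPullback sq'.flip h
  refine ⟨⟨fun h => ?_, fun h => ⟨key @IsClosedImmersion h⟩⟩, ⟨fun h => ?_, fun h => ⟨key @QuasiCompact h⟩⟩⟩
  · haveI : IsSeparated G.hom := h
    have : IsClosedImmersion (η[G].left ≫ G.hom) := by rw [Over.w]; dsimp; infer_instance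
    exact .of_comp _ (g := G.hom)
  · haveI : QuasiSeparated G.hom := h
    have : QuasiCompact (η[G].left ≫ G.hom) := by rw [Over.w]; dsimp; infer_instance
    exact .of_comp _ G.hom

end Groth.Agent.S0346
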