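import Groth.Statements.S2974
import Groth.Agent.Lib.MultType.PairIso
import Mathlib.RingTheory.Henselian
import Mathlib.RingTheory.LocalRing.ResidueField.Basic

set_option autoImplicit false
universe u
open TensorProduct SGA3b
open SGA3b

namespace Groth.Agent.S2974

/-- Let R be a henselian local ring and H = Spec A an R-group of multiplicative type and of finite type.
Then H is isotrivial: split by a finite etale faithfully flat R-algebra. (Affine group schemes over
an affine base are taken in Hopf-algebra form; base change is the tensor product.) -/
theorem result (R : Type u) [CommRing R] (A : Type u) [CommRing A] [HopfAlgebra R A] [HenselianLocalRing R] (hft : Algebra.FiniteType R A) (h : IsMultType R A) :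
    IsIsotrivial R A := by
  letI : Field (R ⧸ IsLocalRing.maximalIdeal R) := Ideal.Quotient.field _
  exact MultTypeLib.isIsotrivial_of_henselianPair hft h (I := IsLocalRing.maximalIdeal R) inferInstance
    (MultTypeLib.isIsotrivial_of_field inferInstance
      (MultTypeLib.isMultType_baseChange (R ⧸ IsLocalRing.maximalIdeal R) h))

end Groth.Agent.S2974
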