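import Groth.Statements.S6061
import Groth.Agent.Lib.MTRigid29.HomCases

set_option autoImplicit false
open CategoryTheory MonoidalCategory CartesianMonoidalCategory MonObj GrpObj AlgebraicGeometry
universe u
open SGA3x

namespace Groth.Agent.S6061

set_option backward.isDefEq.respectTransparency false
set_option backward.isDefEq.respectTransparency.types false
set_option maxSynthPendingDepth 3
open CategoryTheory.Limits Groth.Agent.MTRigid29 Groth.Agent.DiagGL

/-- Representability; the twisted-constant structure is asserted at the level of S-schemes: Let H and G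
be quasi-isotrivial S-groups of multiplicative type — etale-locally on S isomorphic, as group
schemes, to diagonalisable groups D(M), with M finitely generated in the case of G (G of finite
type). Then the functor of group homomorphisms from H to G is representable, by an S-scheme which is
a quasi-isotrivial twisted constant S-scheme (etale-locally constant). The character groups M range
over Type 0, as in the prelude's D_S(M). (The published statement also asserts that the representing
object is a twisted constant group of type Hom(M, N), M and N the types of G and H respectively;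
this row asserts only the scheme-level twisted constant structure, without the group structure or
the type.) -/
theorem result {S : Scheme.{u}} (H G : Over S) [GrpObj H] [GrpObj G]
    (hH : TwC.Locally S TwC.Topology.etale (fun S' f => ∃ (M : Type) (_ : AddCommGroup M),
      Nonempty (Grp.mk (Red.bc f H) ≅ Grp.mk (Red.DS S' M))))
    (hG : TwC.Locally S TwC.Topology.etale (fun S' f => ∃ (M : Type) (_ : AddCommGroup M),
      AddGroup.FG M ∧ Nonempty (Grp.mk (Red.bc f G) ≅ Grp.mk (Red.DS S' M)))) :
    ∃ (A : Over S) (υ : H ⊗ A ⟶ G), AutFam.RepresentsHom H G A υ ∧ TwC.IsTwConst TwC.Topology.etale A := by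
  have h : TwC.Locally S TwC.Topology.etale (fun S' φ => ∃ (M : Type) (_ : AddCommGroup M) (N : Type)
      (_ : AddCommGroup N), AddGroup.FG N ∧ Nonempty (Chars M (Red.bc φ H)) ∧ Nonempty (Chars N (Red.bc φ G))) := by
    intro s
    obtain ⟨V₁, f₁, hf₁, ⟨v₁, hv₁⟩, M, _, ⟨e₁⟩⟩ := hH s
    obtain ⟨V₂, f₂, hf₂, ⟨v₂, hv₂⟩, N, _, hN, ⟨e₂⟩⟩ := hG s
    obtain ⟨v, hv, -⟩ := Scheme.Pullback.exists_preimage_pullback (f := f₁) (g := f₂) v₁ v₂ (hv₁.trans hv₂.symm)
    refine ⟨pullback f₁ f₂, pullback.fst f₁ f₂ ≫ f₁, inferInstance,
      ⟨v, by rw [Scheme.Hom.comp_apply, hv]; exact hv₁⟩, M, inferInstance, N, inferInstance, hN,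
      ⟨charsComp f₁ (pullback.fst f₁ f₂) H (((charsDS V₁ M).transport e₁).baseChange _ _)⟩, ?_⟩
    rw [pullback.condition]
    exact ⟨charsComp f₂ (pullback.snd f₁ f₂) G (((charsDS V₂ N).transport e₂).baseChange _ _)⟩
  obtain ⟨V, f, hf, hV, hLoc⟩ := exists_cover_of_etale h
  have hEt : ∀ k, Etale (f k) := fun k => (hV k).1
  choose M _ N _ hN CM CN using fun k => (hV k).2.2
  have key : ∀ k, ∃ υ, AutFam.RepresentsHom (Red.bc (f k) H) (Red.bc (f k) G)
      (TwC.const (V k) (N k →+ M k)) υ := fun k => by
    haveI := hN k
    obtain ⟨υ, hυ, -⟩ := exists_representsHom_split (CM k).some (CN k).some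
    exact ⟨υ, hυ⟩
  choose υ hυ using key
  obtain ⟨A, U, hA, -⟩ := exists_representsHom_of_cover f hf H G (@Etale ⊓ @IsSeparated)
    (fun k => ⟨_, υ k, hυ k, etale_const, isSeparated_const⟩)
    (fun E hE => SchDesc12.isEffective_of_lqf hf (fun k => by haveI := hEt k; infer_instance) (fun k => (hE k).2)
      (fun k => haveI := (hE k).1; SchDesc12.locallyQuasiFinite_of_etale _)
      (fun k => haveI := (hE k).1; inferInstance))
  refine ⟨A, U, hA, hLoc _ fun k => ?_⟩
  obtain ⟨w, -⟩ := representsHom_iso (representsHom_bc (f k) hA) (hυ k)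
  exact ⟨ULift.{u} (N k →+ M k), ⟨w ≪≫ constEquiv Equiv.ulift.symm⟩⟩

end Groth.Agent.S6061
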