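import Groth.Statements.S18294
import Mathlib.AlgebraicGeometry.Sites.Fpqc
import Mathlib.CategoryTheory.Sites.SubcanonicalOver

set_option autoImplicit false
universe u
open CategoryTheory MonoidalCategory CartesianMonoidalCategory MonObj AlgebraicGeometry Opposite
open Magnet

namespace Groth.Agent.S18294
set_option linter.style.haveILetI false


/-- Let A be a monoid object in schemes over S acting on S-schemes B and X (in the source A is the
diagonalizable monoid scheme A(M)_S and B = A(N)_S for a magnet N, so that the functor below is the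
attractor X^N). Then the functor on S-schemes T ↦ (morphisms B ×_S T → X over S equivariant for A
acting on the first factor) is a sheaf for the fppf topology. -/
theorem result (S : Scheme.{u}) (A B X : Over S) [MonObj A] (ρ : Magnet.MonAct A B)
    (a : Magnet.MonAct A X) :
    Presheaf.IsSheaf (QuotSh.J Scheme.fppfPrecoverage S) (Magnet.MonAct.eqvHom ρ a) := by
  haveI : (QuotSh.J Scheme.fppfPrecoverage.{u} S).Subcanonical :=
    inferInstanceAs ((Scheme.fppfTopology.over S).Subcanonical)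
  have hX : Presieve.IsSheaf (QuotSh.J Scheme.fppfPrecoverage.{u} S) (yoneda.obj X) :=
    GrothendieckTopology.Subcanonical.isSheaf_of_isRepresentable (yoneda.obj X)
  rw [isSheaf_iff_isSheaf_of_type]
  intro T R hR x hx
  have hR' := (QuotSh.J Scheme.fppfPrecoverage.{u} S).pullback_stable (snd B T) hR
  let y : Presieve.FamilyOfElements (yoneda.obj X) (R.pullback (snd B T)).arrows :=
    fun W h hh => lift (h ≫ fst B T) (𝟙 W) ≫ (x (h ≫ snd B T) hh).1
  have hres : ∀ {W W' : Over S} (g : W' ⟶ W) (f : W ⟶ T) (hf : R f) (hgf : R (g ≫ f)),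
      (x (g ≫ f) hgf).1 = (B ◁ g) ≫ (x f hf).1 := by
    intro W W' g f hf hgf
    have h := hx (𝟙 W') g hgf hf (Category.id_comp _)
    have h' := congrArg Subtype.val h
    simpa using h'
  have hy : y.Compatible := by
    intro W₁ W₂ V g₁ g₂ h₁ h₂ hh₁ hh₂ he
    change g₁ ≫ lift (h₁ ≫ fst B T) (𝟙 W₁) ≫ _ = g₂ ≫ lift (h₂ ≫ fst B T) (𝟙 W₂) ≫ _
    rw [comp_lift_assoc, comp_lift_assoc, Category.comp_id, Category.comp_id, reassoc_of% he]
    have e₁ : R (g₁ ≫ h₁ ≫ snd B T) := R.downward_closed hh₁ g₁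
    have e₂ := hx g₁ g₂ hh₁ hh₂ (by rw [← Category.assoc, he, Category.assoc])
    have e₃ : (B ◁ g₁) ≫ (x (h₁ ≫ snd B T) hh₁).1 = (B ◁ g₂) ≫ (x (h₂ ≫ snd B T) hh₂).1 :=
      congrArg Subtype.val e₂
    have := congrArg (fun m => lift (g₂ ≫ h₂ ≫ fst B T) (𝟙 V) ≫ m) e₃
    simpa only [lift_whiskerLeft_assoc, Category.id_comp] using this
  obtain ⟨φ, hφ, hu⟩ := hX _ hR' y hy
  have hamal : ∀ {W : Over S} (f : W ⟶ T) (hf : R f), (B ◁ f) ≫ φ = (x f hf).1 := by
    intro W f hf
    have hh : R ((B ◁ f) ≫ snd B T) := by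
      rw [whiskerLeft_snd]
      exact R.downward_closed hf _
    have h := hφ (B ◁ f) hh
    change (B ◁ f) ≫ φ = lift ((B ◁ f) ≫ fst B T) (𝟙 _) ≫ (x ((B ◁ f) ≫ snd B T) hh).1 at h
    have h2 : (x ((B ◁ f) ≫ snd B T) hh).1 = (x (snd B W ≫ f) (R.downward_closed hf _)).1 := by
      congr 1
      congr 1
      exact whiskerLeft_snd _ _
    rw [h, h2, hres (snd B W) f hf, lift_whiskerLeft_assoc, Category.id_comp, whiskerLeft_fst, lift_fst_snd,
      Category.id_comp]
  have hφe : Magnet.MonAct.IsEquivariant (ρ.prod (Magnet.MonAct.trivial A T)) a φ := by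
    rw [Magnet.MonAct.mem_eqvHom_iff]
    intro T' g b t
    refine (hX _ ((QuotSh.J Scheme.fppfPrecoverage.{u} S).pullback_stable t hR)).isSeparatedFor.ext
      fun U s hs => ?_
    change s ≫ _ = s ≫ _
    have hst : R (s ≫ t) := hs
    have h := (Magnet.MonAct.mem_eqvHom_iff _).1 (x (s ≫ t) hst).2 U (s ≫ g) (s ≫ b) (𝟙 U)
    rw [← hamal (s ≫ t) hst] at h
    simp only [lift_whiskerLeft_assoc, Category.id_comp] at h
    simpa only [comp_lift_assoc] using h
  refine ⟨⟨φ, hφe⟩, fun W f hf => Subtype.ext (hamal f hf), fun ψ hψ => Subtype.ext (hu ψ.1 fun W h hh => ?_)⟩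
  have h' : (B ◁ (h ≫ snd B T)) ≫ ψ.1 = (x (h ≫ snd B T) hh).1 := congrArg Subtype.val (hψ (h ≫ snd B T) hh)
  change h ≫ ψ.1 = lift (h ≫ fst B T) (𝟙 W) ≫ (x (h ≫ snd B T) hh).1
  rw [← h', lift_whiskerLeft_assoc, Category.id_comp, ← comp_lift, lift_fst_snd, Category.comp_id]

end Groth.Agent.S18294
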