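import Groth.Statements.S18302
import Groth.Agent.Lib.MagFace16.Exist
import Groth.Agent.Lib.MagFace16.Stage
import Groth.Agent.Lib.MagFace16.Local
import Groth.Agent.S18294

set_option autoImplicit false
universe u
open CategoryTheory MonoidalCategory CartesianMonoidalCategory MonObj AlgebraicGeometry Opposite
open Magnet

namespace Groth.Agent.S18302
set_option linter.style.haveILetI false

open Groth.Agent.MagFace16 in
theorem fg_case {S : Scheme.{u}} {R : Type u} [CommRing R] (str : Spec (CommRingCat.of R) ⟶ S) {M : Type}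
    [AddCommGroup M] [AddGroup.FG M] {X U : Over S} (aU : Magnet.MonAct (Magnet.AMonS S M) U)
    (aX : Magnet.MonAct (Magnet.AMonS S M) X) [IsAffineHom U.hom] (f : U ⟶ X) [Etale f.left]
    (hf : Magnet.MonAct.IsEquivariant aU aX f) {N Q : AddSubmonoid M} (hQ : Magnet.IsFace N Q) (hN : N.FG) :
    (∀ p q : (Magnet.attr aU N).obj (op (spT str R)), p.1 ≫ f = q.1 ≫ f →
      (Magnet.attrFace aU hQ).app (op (spT str R)) p = (Magnet.attrFace aU hQ).app (op (spT str R)) q → p = q) ∧
    (∀ (y : (Magnet.attr aX N).obj (op (spT str R))) (v : (Magnet.attr aU Q).obj (op (spT str R))),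
      ((Magnet.attrFace aX hQ).app (op (spT str R)) y).1 = v.1 ≫ f →
      ∃ p : (Magnet.attr aU N).obj (op (spT str R)), p.1 ≫ f = y.1 ∧
        (Magnet.attrFace aU hQ).app (op (spT str R)) p = v) := by
  let D := model str U
  refine ⟨fun p q h₁ h₂ => ?_, fun y v hyv => ?_⟩
  · obtain ⟨u, hu, hup⟩ := exists_alg str D aU p
    obtain ⟨u', hu', hup'⟩ := exists_alg str D aU q
    let y₀ := chart str R N ≫ p.1 ≫ f
    have hy₀ : spHom str (theta (R := R) N) ≫ y₀ =
        lift (bpt str (RN R N) M) (proj str (RN R N) M ≫ y₀) ≫ aX.act := by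
      have h := equivariant_chart str N aU p.2
      rw [show y₀ = (chart str R N ≫ p.1) ≫ f from (Category.assoc _ _ _).symm, ← Category.assoc, h, Category.assoc,
        hf, lift_whiskerLeft_assoc, Category.assoc]
    have huu : u = u' := by
      refine face_lift_unique str hQ D aU aX f hf y₀ hy₀ hN u u' ?_ ?_ ?_
      · rw [hup, Category.assoc]
      · rw [hup', Category.assoc, ← h₁]
      · apply D.pt_inj
        have h₃ : (Magnet.AMonS.faceMap S hQ ▷ spT str R) ≫ p.1 = (Magnet.AMonS.faceMap S hQ ▷ spT str R) ≫ q.1 :=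
          congrArg Subtype.val h₂
        rw [← D.spHom_pt, ← D.spHom_pt, hup, hup', ← Category.assoc, ← Category.assoc (spHom str _),
          ← chart_faceMap, Category.assoc, Category.assoc, h₃]
    subst huu
    exact Subtype.ext ((cancel_epi (chart str R N)).1 (hup.symm.trans hup'))
  · obtain ⟨cQ, hcQ, hcv⟩ := exists_alg str D aU v
    have hyQ : D.pt cQ ≫ f = spHom str (Magnet.faceAlgHom R hQ) ≫ chart str R N ≫ y.1 := by
      rw [hcv, Category.assoc, ← hyv, ← Category.assoc (spHom str _), ← chart_faceMap, Category.assoc]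
      rfl
    obtain ⟨u, hu, huQ, huy⟩ := exists_face_lift str hQ D aU aX f hf (chart str R N ≫ y.1)
      (equivariant_chart str N aX y.2) cQ hcQ hyQ hN
    refine ⟨ofAlg str D aU u hu, ?_, Subtype.ext ?_⟩
    · rw [← cancel_epi (chart str R N), ← Category.assoc, chart_ofAlg, huy]
    · show (Magnet.AMonS.faceMap S hQ ▷ spT str R) ≫ (ofAlg str D aU u hu).1 = v.1
      rw [← cancel_epi (chart str R Q), ← Category.assoc, chart_faceMap, Category.assoc, chart_ofAlg, D.spHom_pt,
        huQ, hcv]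


theorem sq_apply {S : Scheme.{u}} {M : Type} [AddCommMonoid M] {X : Over S} (a : Magnet.MonAct (Magnet.AMonS S M) X)
    {N Q : AddSubmonoid M} (hQ : Magnet.IsFace N Q) {L : AddSubmonoid M} (hL : L ≤ N)
    (hQl : Magnet.IsFace L (Q ⊓ L)) (T : Over S) (p : (Magnet.attr a L).obj (op T)) :
    (Magnet.attrFace a hQ).app (op T) ((Magnet.attrMap a hL).app (op T) p) =
      (Magnet.attrMap a (inf_le_left : Q ⊓ L ≤ Q)).app (op T) ((Magnet.attrFace a hQl).app (op T) p) := by
  rw [← NatTrans.comp_app_apply, MagFace16.attrMap_attrFace a hQ hQl hL inf_le_left (fun x hx hx' => ⟨hx', hx⟩),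
    NatTrans.comp_app_apply]

theorem map_map_apply {S : Scheme.{u}} {M : Type} [AddCommMonoid M] {X : Over S}
    (a : Magnet.MonAct (Magnet.AMonS S M) X) {A B C : AddSubmonoid M} (h : A ≤ B) (h' : B ≤ C) (T : Over S)
    (p : (Magnet.attr a A).obj (op T)) :
    (Magnet.attrMap a h').app (op T) ((Magnet.attrMap a h).app (op T) p) = (Magnet.attrMap a (h.trans h')).app (op T) p := by
  apply Subtype.ext
  show _ ≫ _ ≫ p.1 = _ ≫ p.1
  rw [← comp_whiskerRight_assoc, ← Magnet.AMonS.map_comp]
  rfl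

section Sep

variable {S : Scheme.{u}} {R : Type u} [CommRing R] (str : Spec (CommRingCat.of R) ⟶ S) {M : Type}
  [AddCommGroup M] [AddGroup.FG M] {X U : Over S} (aU : Magnet.MonAct (Magnet.AMonS S M) U)
  (aX : Magnet.MonAct (Magnet.AMonS S M) X) [IsAffineHom U.hom] (f : U ⟶ X) [Etale f.left]
  (hf : Magnet.MonAct.IsEquivariant aU aX f) {N Q : AddSubmonoid M} (hQ : Magnet.IsFace N Q)
  [IsSeparated X.hom] [LocallyOfFinitePresentation X.hom]

theorem directed_fg (N : AddSubmonoid M) : Nonempty {L : AddSubmonoid M // L.FG ∧ L ≤ N} ∧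
    IsDirected {L : AddSubmonoid M // L.FG ∧ L ≤ N} (· ≤ ·) ∧
    ∀ x ∈ N, ∃ L : {L : AddSubmonoid M // L.FG ∧ L ≤ N}, x ∈ L.1 :=
  ⟨⟨⟨⊥, AddSubmonoid.FG.bot, bot_le⟩⟩,
    ⟨fun L L' => ⟨⟨L.1 ⊔ L'.1, L.2.1.sup L'.2.1, sup_le L.2.2 L'.2.2⟩, le_sup_left (a := L.1), le_sup_right (a := L.1)⟩⟩,
    fun x hx => ⟨⟨AddSubmonoid.closure {x}, ⟨{x}, by simp⟩, by simpa using hx⟩, AddSubmonoid.subset_closure rfl⟩⟩

theorem face_inf {L : AddSubmonoid M} (hQ : Magnet.IsFace N Q) (hL : L ≤ N) : Magnet.IsFace L (Q ⊓ L) :=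
  ⟨inf_le_right, fun x hx y hy hxy =>
    ⟨⟨(hQ.mem_of_add_mem x (hL hx) y (hL hy) hxy.1).1, hx⟩,
      ⟨(hQ.mem_of_add_mem x (hL hx) y (hL hy) hxy.1).2, hy⟩⟩⟩

include hf in
theorem sep_inj (p q : (Magnet.attr aU N).obj (op (MagFace16.spT str R))) (h₁ : p.1 ≫ f = q.1 ≫ f)
    (h₂ : (Magnet.attrFace aU hQ).app (op (MagFace16.spT str R)) p =
      (Magnet.attrFace aU hQ).app (op (MagFace16.spT str R)) q) : p = q := by
  haveI : LocallyOfFinitePresentation U.hom := by rw [← Over.w f]; infer_instance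
  obtain ⟨hne, hdir, hun⟩ := directed_fg N
  haveI := hne
  haveI := hdir
  let J := {L : AddSubmonoid M // L.FG ∧ L ≤ N}
  obtain ⟨i, p', rfl⟩ := MagFace16.exists_stage_spT str aU (fun L : J => L.1) (fun _ _ h => h) N (fun L => L.2.2) hun p
  obtain ⟨j, q', rfl⟩ := MagFace16.exists_stage_spT str aU (fun L : J => L.1) (fun _ _ h => h) N (fun L => L.2.2) hun q
  obtain ⟨l, hil, hjl⟩ := exists_ge_ge i j
  rw [← map_map_apply aU (show i.1 ≤ l.1 from hil) l.2.2, ← map_map_apply aU (show j.1 ≤ l.1 from hjl) l.2.2] at h₁ h₂ ⊢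
  refine congrArg _ ((fg_case str aU aX f hf (face_inf hQ l.2.2) l.2.1).1 _ _ ?_ ?_)
  · exact Magnet16.hom_ext_of_injective (AddSubmonoid.inclusion l.2.2) (AddSubmonoid.inclusion_injective _) _ X _ _
      ((Category.assoc _ _ _).symm.trans (h₁.trans (Category.assoc _ _ _)))
  · refine MagFace16.attrMap_injective aU (inf_le_left : Q ⊓ l.1 ≤ Q) _ ?_
    rw [← sq_apply aU hQ l.2.2, ← sq_apply aU hQ l.2.2]
    exact h₂

include hf in
theorem sep_surj (y : (Magnet.attr aX N).obj (op (MagFace16.spT str R)))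
    (v : (Magnet.attr aU Q).obj (op (MagFace16.spT str R)))
    (hyv : ((Magnet.attrFace aX hQ).app (op (MagFace16.spT str R)) y).1 = v.1 ≫ f) :
    ∃ p : (Magnet.attr aU N).obj (op (MagFace16.spT str R)), p.1 ≫ f = y.1 ∧
      (Magnet.attrFace aU hQ).app (op (MagFace16.spT str R)) p = v := by
  haveI : LocallyOfFinitePresentation U.hom := by rw [← Over.w f]; infer_instance
  obtain ⟨hne, hdir, hun⟩ := directed_fg N
  haveI := hne
  haveI := hdir
  let J := {L : AddSubmonoid M // L.FG ∧ L ≤ N}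
  obtain ⟨i, y', rfl⟩ := MagFace16.exists_stage_spT str aX (fun L : J => L.1) (fun _ _ h => h) N (fun L => L.2.2) hun y
  obtain ⟨j, v', rfl⟩ := MagFace16.exists_stage_spT str aU (fun L : J => Q ⊓ L.1)
    (fun _ _ h => inf_le_inf_left Q h) Q (fun L => inf_le_left)
    (fun x hx => (hun x (hQ.le hx)).imp fun L hL => ⟨hx, hL⟩) v
  obtain ⟨l, hil, hjl⟩ := exists_ge_ge i j
  rw [← map_map_apply aX (show i.1 ≤ l.1 from hil) l.2.2,
    ← map_map_apply aU (show Q ⊓ j.1 ≤ Q ⊓ l.1 from inf_le_inf_left Q hjl) (inf_le_left : Q ⊓ l.1 ≤ Q)] at hyv ⊢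
  rw [sq_apply aX hQ l.2.2 (face_inf hQ l.2.2)] at hyv
  obtain ⟨p, hp₁, hp₂⟩ := (fg_case str aU aX f hf (face_inf hQ l.2.2) l.2.1).2 _ _
    (Magnet16.hom_ext_of_injective (AddSubmonoid.inclusion (inf_le_left : Q ⊓ l.1 ≤ Q))
      (AddSubmonoid.inclusion_injective _) _ X _ _ (hyv.trans (Category.assoc _ _ _)))
  refine ⟨(Magnet.attrMap aU l.2.2).app _ p, ?_, ?_⟩
  · exact (Category.assoc _ _ _).trans (congrArg _ hp₁)
  · rw [sq_apply aU hQ l.2.2 (face_inf hQ l.2.2), hp₂]

end Sep

/-- Let M be a finitely generated commutative group, X an S-scheme with an action of the diagonalizable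
group scheme D(M)_S, U an S-scheme affine over S with a D(M)_S-action and f : U → X an étale
equivariant morphism; let N be a submonoid (magnet) of M and Q a face of N. Assume that N is
finitely generated as a monoid, or that X is locally of finite presentation and separated over S.
Then the natural map U^N → X^N ×_{X^Q} U^Q is an isomorphism: the square of functors formed by f^N :
U^N → X^N, the face projections U^N → U^Q and X^N → X^Q, and f^Q : U^Q → X^Q is cartesian. (The
published alternative to finite generation is only 'X separated'; its argument passes through the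
directed-union description of X^N on T-points, which is established for X locally of finite
presentation and separated, and T affine, so finite presentation is assumed here in that case; X may
be an algebraic space in the source, here it is a scheme.) -/
theorem result (S : Scheme.{u}) (M : Type) [AddCommGroup M]
    [AddGroup.FG M] (X U : Over S) (aX : AlgGrp.Action (Red.DS S M) X) (aU : AlgGrp.Action (Red.DS S M) U)
    [IsAffineHom U.hom] (f : U ⟶ X) [Etale f.left]
    (hf : Magnet.MonAct.IsEquivariant (Magnet.MonAct.ofAction aU) (Magnet.MonAct.ofAction aX) f)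
    (N Q : AddSubmonoid M) (hQ : Magnet.IsFace N Q)
    (h : N.FG ∨ (IsSeparated X.hom ∧ LocallyOfFinitePresentation X.hom)) :
    IsPullback (Magnet.MonAct.eqvHom.postcomp (Magnet.subAct S M N) f hf)
      (Magnet.attrFace (Magnet.MonAct.ofAction aU) hQ) (Magnet.attrFace (Magnet.MonAct.ofAction aX) hQ)
      (Magnet.MonAct.eqvHom.postcomp (Magnet.subAct S M Q) f hf) := by
  refine MagFace16.isPullback_of_affine (S18294.result S _ _ U _ _) (S18294.result S _ _ X _ _)
    (S18294.result S _ _ U _ _) ?_ ?_ ?_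
  · ext T p
    apply Subtype.ext
    exact (Category.assoc _ _ _).symm
  · intro R str p q h₁ h₂
    replace h₁ : p.1 ≫ f = q.1 ≫ f := congrArg Subtype.val h₁
    rcases h with hN | ⟨hs, hl⟩
    · exact (fg_case str _ _ f hf hQ hN).1 p q h₁ h₂
    · haveI := hs
      haveI := hl
      exact sep_inj str _ _ f hf hQ p q h₁ h₂
  · intro R str y v hyv
    replace hyv : ((Magnet.attrFace (Magnet.MonAct.ofAction aX) hQ).app _ y).1 = v.1 ≫ f := congrArg Subtype.val hyv
    rcases h with hN | ⟨hs, hl⟩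
    · obtain ⟨p, hp₁, hp₂⟩ := (fg_case str _ _ f hf hQ hN).2 y v hyv
      exact ⟨p, Subtype.ext hp₁, hp₂⟩
    · haveI := hs
      haveI := hl
      obtain ⟨p, hp₁, hp₂⟩ := sep_surj str _ _ f hf hQ y v hyv
      exact ⟨p, Subtype.ext hp₁, hp₂⟩

end Groth.Agent.S18302
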