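import Groth.Statements.S18299
import Groth.Agent.Lib.IdealDesc12.Sheaf
import Mathlib.AlgebraicGeometry.Morphisms.Etale
import Mathlib.AlgebraicGeometry.Morphisms.Flat

set_option autoImplicit false
universe u
open CategoryTheory MonoidalCategory CartesianMonoidalCategory MonObj AlgebraicGeometry Opposite
open Magnet
open CategoryTheory.Limits

namespace Groth.Agent.S18299
set_option linter.style.haveILetI false

section Aux

open CategoryTheory CategoryTheory.Limits MonoidalCategory CartesianMonoidalCategory MonObj AlgebraicGeometry Opposite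

variable {S : Scheme.{u}} {A X U : Over S} [MonObj A]

/-- A point is fixed. -/
abbrev Fixed (a : Magnet.MonAct A X) {T : Over S} (x : T ⟶ X) : Prop :=
  ∀ (T' : Over S) (t : T' ⟶ T) (g : T' ⟶ A), lift g (t ≫ x) ≫ a.act = t ≫ x

/-- Being fixed is local for flat surjective covers. -/
lemma fixed_of_cover (a : Magnet.MonAct A X) {T T' : Over S} (p : T' ⟶ T) [Flat p.left] [Surjective p.left]
    (x : T ⟶ X) (h : Fixed a (p ≫ x)) : Fixed a x := by
  intro T'' t g
  let Q : Over S := Over.mk (pullback.fst t.left p.left ≫ T''.hom)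
  let q : Q ⟶ T'' := Over.homMk (pullback.fst t.left p.left) rfl
  let s : Q ⟶ T' := Over.homMk (pullback.snd t.left p.left) (by
    show pullback.snd t.left p.left ≫ T'.hom = pullback.fst t.left p.left ≫ T''.hom
    rw [← Over.w p, ← Over.w t, ← Category.assoc, ← pullback.condition, Category.assoc])
  have e : s ≫ p = q ≫ t := Over.OverMorphism.ext pullback.condition.symm
  have key : q ≫ (lift g (t ≫ x) ≫ a.act) = q ≫ (t ≫ x) := by
    have h' := h Q s (q ≫ g)
    rw [← Category.assoc s p x, e, Category.assoc] at h'
    rw [← Category.assoc, comp_lift]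
    exact h'
  haveI : Surjective (pullback.fst t.left p.left) := inferInstance
  haveI : Flat (pullback.fst t.left p.left) := inferInstance
  haveI : Epi q.left := Flat.epi_of_flat_of_surjective (pullback.fst t.left p.left)
  apply Over.OverMorphism.ext
  exact (cancel_epi q.left).1 (congrArg CommaMorphism.left key)

lemma le_ker_iff_comap_eq_bot {P Y : Scheme.{u}} (J : Y.IdealSheafData) (g : P ⟶ Y) :
    J ≤ g.ker ↔ J.comap g = ⊥ := by
  rw [← Scheme.IdealSheafData.map_bot, Scheme.IdealSheafData.le_map_iff_comap_le, le_bot_iff]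

lemma comap_injective_of_cover {P Y : Scheme.{u}} (p : P ⟶ Y) [Flat p] [Surjective p]
    [LocallyOfFinitePresentation p] {J J' : Y.IdealSheafData} (h : J.comap p = J'.comap p) : J = J' := by
  have hg : Presieve.ofArrows (fun _ : PUnit.{u + 1} => P) (fun _ => p) ∈ Scheme.fpqcPrecoverage Y := by
    rw [Presieve.ofArrows_pUnit]
    exact Scheme.fppfPrecoverage_le_fpqcPrecoverage Y p.singleton_mem_fppfPrecoverage
  refine (Groth.Agent.IdealDesc12.existsUnique_of_fpqc (fun _ : PUnit.{u + 1} => p) (fun _ => J.comap p)
    (fun i j => ?_) hg).unique (fun _ => rfl) (fun _ => h.symm)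
  rw [← Scheme.IdealSheafData.comap_comp, ← Scheme.IdealSheafData.comap_comp, pullback.condition]

end Aux


/-- Let Q be a commutative group, X and U S-schemes with actions of the diagonalizable group scheme
D(Q)_S, and f : U → X an equivariant morphism over S which is étale and surjective and fixed-point
reflecting: the square formed by the fixed-point functors U^{D(Q)} → X^{D(Q)} over U → X is
cartesian (an FPR atlas). If the fixed-point functor of U is represented by a closed subscheme of U
— which holds when U is a disjoint union of D(Q)_S-stable S-affine schemes, by the affine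
representability of attractors — then the fixed-point functor of X is represented by a closed
subscheme of X, compatibly with its inclusion into X. (In the source Q = M/Z for a subgroup Z of a
commutative group M acting through D(M)_S, the fixed points of D(M/Z)_S being the attractor X^Z, and
X may be an algebraic space; here X is a scheme.) -/
theorem result (S : Scheme.{u}) (Q : Type)
    [AddCommGroup Q] (X U : Over S) (aX : AlgGrp.Action (Red.DS S Q) X) (aU : AlgGrp.Action (Red.DS S Q) U)
    (f : U ⟶ X) [Etale f.left] [Surjective f.left]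
    (hf : Magnet.MonAct.IsEquivariant (Magnet.MonAct.ofAction aU) (Magnet.MonAct.ofAction aX) f)
    (hfpr : IsPullback (Magnet.MonAct.fixedPsh.map f hf) (Magnet.MonAct.fixedPshι (Magnet.MonAct.ofAction aU))
      (Magnet.MonAct.fixedPshι (Magnet.MonAct.ofAction aX)) (yoneda.map f))
    (hU : ∃ (W' : Over S) (i' : W' ⟶ U) (e' : (Magnet.MonAct.fixedPsh (Magnet.MonAct.ofAction aU)).RepresentableBy W'),
      IsClosedImmersion i'.left ∧ ∀ (T : Over S) (w : T ⟶ W'),
        (Magnet.MonAct.fixedPshι (Magnet.MonAct.ofAction aU)).app (op T) (e'.homEquiv w) = w ≫ i') :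
    ∃ (W : Over S) (i : W ⟶ X) (e : (Magnet.MonAct.fixedPsh (Magnet.MonAct.ofAction aX)).RepresentableBy W),
      IsClosedImmersion i.left ∧ ∀ (T : Over S) (w : T ⟶ W),
        (Magnet.MonAct.fixedPshι (Magnet.MonAct.ofAction aX)).app (op T) (e.homEquiv w) = w ≫ i := by
  classical
  obtain ⟨W', i', e', hi', he'⟩ := hU
  haveI := hi'
  let I : U.left.IdealSheafData := i'.left.ker
  have hfix : ∀ {T : Over S} (x : T ⟶ U),
      Fixed (Magnet.MonAct.ofAction aU) x ↔ I ≤ x.left.ker := by
    intro T x
    constructor
    · intro hx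
      obtain ⟨w, hw⟩ := e'.homEquiv.surjective (⟨x, hx⟩ : (Magnet.MonAct.fixedPsh (Magnet.MonAct.ofAction aU)).obj (op T))
      have h1 : x = w ≫ i' := by
        rw [← he' T w, hw]
        rfl
      rw [h1, Over.comp_left]
      exact Scheme.Hom.le_ker_comp _ _
    · intro hx
      let w : T ⟶ W' := Over.homMk (IsClosedImmersion.lift i'.left x.left hx) (by
        rw [← Over.w i', ← Category.assoc, IsClosedImmersion.lift_fac]
        exact Over.w x)
      have h1 : x = w ≫ i' := Over.OverMorphism.ext (IsClosedImmersion.lift_fac _ _ _).symm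
      rw [h1, ← he' T w]
      exact (e'.homEquiv w).2
  have hcart : ∀ {T : Over S} (x : T ⟶ U),
      Fixed (Magnet.MonAct.ofAction aX) (x ≫ f) ↔ Fixed (Magnet.MonAct.ofAction aU) x := by
    intro T x
    constructor
    · intro hx
      obtain ⟨z, -, hz⟩ := Limits.Types.exists_of_isPullback
        (hfpr.map ((evaluation (Over S)ᵒᵖ (Type u)).obj (op T)))
        (⟨x ≫ f, hx⟩ : (Magnet.MonAct.fixedPsh (Magnet.MonAct.ofAction aX)).obj (op T)) x rfl
      have h1 : z.1 = x := hz
      rw [← h1]
      exact z.2
    · intro hx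
      exact ((Magnet.MonAct.fixedPsh.map f hf).app (op T) ⟨x, hx⟩).2
  -- agreement on the overlap
  let P := pullback f.left f.left
  let p₁ : P ⟶ U.left := pullback.fst f.left f.left
  let p₂ : P ⟶ U.left := pullback.snd f.left f.left
  have hle : ∀ (K : P.IdealSheafData) (a b : P ⟶ U.left), a ≫ f.left = b ≫ f.left →
      I.comap b ≤ K → I.comap a ≤ K := by
    intro K a b hab hb
    let T : Over S := Over.mk ((K.subschemeι ≫ a) ≫ U.hom)
    let x : T ⟶ U := Over.homMk (K.subschemeι ≫ a) rfl
    let y : T ⟶ U := Over.homMk (K.subschemeι ≫ b) (by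
      show (K.subschemeι ≫ b) ≫ U.hom = (K.subschemeι ≫ a) ≫ U.hom
      simp only [Category.assoc, ← Over.w f]
      rw [reassoc_of% hab])
    have hxy : x ≫ f = y ≫ f := Over.OverMorphism.ext (by
      show (K.subschemeι ≫ a) ≫ f.left = (K.subschemeι ≫ b) ≫ f.left
      rw [Category.assoc, Category.assoc, hab])
    have hy : I ≤ y.left.ker := Scheme.IdealSheafData.le_map_iff_comap_le.2 hb
    have hx : I ≤ x.left.ker := (hfix x).1 ((hcart x).1 (hxy ▸ (hcart y).2 ((hfix y).2 hy)))
    exact Scheme.IdealSheafData.le_map_iff_comap_le.1 hx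
  have hagree : I.comap p₁ = I.comap p₂ :=
    le_antisymm (hle _ p₁ p₂ pullback.condition le_rfl) (hle _ p₂ p₁ pullback.condition.symm le_rfl)
  have hg : Presieve.ofArrows (fun _ : PUnit.{u + 1} => U.left) (fun _ => f.left) ∈
      Scheme.fpqcPrecoverage X.left := by
    rw [Presieve.ofArrows_pUnit]
    exact Scheme.fppfPrecoverage_le_fpqcPrecoverage _ f.left.singleton_mem_fppfPrecoverage
  obtain ⟨J, hJ, -⟩ := Groth.Agent.IdealDesc12.existsUnique_of_fpqc (fun _ : PUnit.{u + 1} => f.left)
    (fun _ => I) (fun _ _ => hagree) hg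
  have hJf : J.comap f.left = I := hJ PUnit.unit
  have hfixX : ∀ {T : Over S} (x : T ⟶ X),
      Fixed (Magnet.MonAct.ofAction aX) x ↔ J ≤ x.left.ker := by
    intro T x
    let T' : Over S := Over.mk (pullback.fst x.left f.left ≫ T.hom)
    let p : T' ⟶ T := Over.homMk (pullback.fst x.left f.left) rfl
    let y : T' ⟶ U := Over.homMk (pullback.snd x.left f.left) (by
      show pullback.snd x.left f.left ≫ U.hom = pullback.fst x.left f.left ≫ T.hom
      rw [← Over.w f, ← Over.w x, ← Category.assoc, ← pullback.condition, Category.assoc])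
    have hpy : p ≫ x = y ≫ f := Over.OverMorphism.ext pullback.condition
    haveI : Etale p.left := MorphismProperty.pullback_fst (P := @Etale) x.left f.left inferInstance
    haveI : Surjective p.left := MorphismProperty.pullback_fst (P := @Surjective) x.left f.left inferInstance
    have e1 : (J.comap x.left).comap p.left = I.comap y.left := by
      rw [← Scheme.IdealSheafData.comap_comp, ← hJf, ← Scheme.IdealSheafData.comap_comp]
      exact congrArg J.comap pullback.condition
    constructor
    · intro hx
      have h1 : Fixed (Magnet.MonAct.ofAction aX) (p ≫ x) := by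
        intro T'' t g
        have := hx T'' (t ≫ p) g
        simpa only [Category.assoc] using this
      have h2 : I.comap y.left = ⊥ :=
        (le_ker_iff_comap_eq_bot _ _).1 ((hfix y).1 ((hcart y).1 (hpy ▸ h1)))
      refine (le_ker_iff_comap_eq_bot _ _).2 (comap_injective_of_cover p.left ?_)
      rw [e1, h2, Scheme.IdealSheafData.comap_bot]
    · intro hx
      refine fixed_of_cover _ p x ?_
      rw [hpy]
      refine (hcart y).2 ((hfix y).2 ((le_ker_iff_comap_eq_bot _ _).2 ?_))
      rw [← e1, (le_ker_iff_comap_eq_bot _ _).1 hx, Scheme.IdealSheafData.comap_bot]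
  let W : Over S := Over.mk (J.subschemeι ≫ X.hom)
  let i : W ⟶ X := Over.homMk J.subschemeι rfl
  have hker : i.left.ker = J := J.ker_subschemeι
  haveI : IsClosedImmersion i.left := inferInstanceAs (IsClosedImmersion J.subschemeι)
  haveI : Mono i := by
    refine ⟨fun {Z} g h hgh => Over.OverMorphism.ext ?_⟩
    exact (cancel_mono i.left).1 (congrArg CommaMorphism.left hgh)
  let fwd : ∀ T : Over S, (T ⟶ W) → (Magnet.MonAct.fixedPsh (Magnet.MonAct.ofAction aX)).obj (op T) :=
    fun T w => ⟨w ≫ i, (hfixX (w ≫ i)).2 (hker ▸ Scheme.Hom.le_ker_comp w.left i.left)⟩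
  have hbij : ∀ T : Over S, Function.Bijective (fwd T) := by
    intro T
    refine ⟨fun w w' hww => (cancel_mono i).1 (congrArg Subtype.val hww), fun x => ?_⟩
    have hx : i.left.ker ≤ x.1.left.ker := hker.symm ▸ (hfixX x.1).1 x.2
    refine ⟨Over.homMk (IsClosedImmersion.lift i.left x.1.left hx) ?_, Subtype.ext ?_⟩
    · rw [← Over.w i, ← Category.assoc, IsClosedImmersion.lift_fac]
      exact Over.w x.1
    · exact Over.OverMorphism.ext (IsClosedImmersion.lift_fac _ _ _)
  refine ⟨W, i, ⟨fun {T} => Equiv.ofBijective _ (hbij T), fun {T T'} t w => Subtype.ext ?_⟩,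
    inferInstance, fun T w => rfl⟩
  exact Category.assoc _ _ _

end Groth.Agent.S18299
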