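import Groth.Statements.S18304
import Groth.Agent.Lib.MagFace16.Rep
import Groth.Agent.Lib.MagFace16.Sub
import Groth.Agent.S18294
import Groth.Agent.S18299
import Groth.Agent.S18302
import Groth.Agent.Lib.SchDesc12.SheafDesc
import Groth.Agent.Lib.SchDesc12.Effective
import Groth.Agent.Lib.Quot16.Local

set_option autoImplicit false
universe u
open CategoryTheory MonoidalCategory CartesianMonoidalCategory MonObj AlgebraicGeometry Opposite
open Magnet

namespace Groth.Agent.S18304
set_option linter.style.haveILetI false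
set_option backward.isDefEq.respectTransparency.types false

open CategoryTheory.Limits

section
variable {S : Scheme.{u}} {M : Type} [AddCommGroup M] (Z : AddSubgroup M) {F : AddSubmonoid M}
  (hF : Z.toAddSubmonoid = F) {X : Over S} (a : Magnet.MonAct (Magnet.AMonS S M) X)

/-- The point of a family as a fixed point. -/
noncomputable def toFix {T : Over S} (φ : (Magnet.attr a F).obj (op T)) :
    (Magnet.MonAct.fixedPsh (MagFace16.resQ Z a)).obj (op T) :=
  ⟨(Magnet.attrToX a F).app (op T) φ, MagFace16.isFix_of_inAttr Z F hF a (MagFace16.eval_inAttr a F φ)⟩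

include hF in
theorem bijective_toFix (T : Over S) : Function.Bijective (toFix Z hF a (T := T)) := by
  refine ⟨fun φ ψ h => MagFace16.attrToX_injective' a F (MagFace16.det_subgroup Z F hF X) T (congrArg Subtype.val h),
    fun x => ?_⟩
  obtain ⟨φ, hφ⟩ := MagFace16.exists_of_inAttr' a F (MagFace16.det_subgroup Z F hF X)
    (MagFace16.inAttr_of_isFix Z F hF a x.2)
  exact ⟨φ, Subtype.ext hφ⟩

/-- Attractors of a subgroup are fixed points. -/
noncomputable def isoFix : Magnet.attr a F ≅ Magnet.MonAct.fixedPsh (MagFace16.resQ Z a) :=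
  NatIso.ofComponents (fun T => (Equiv.ofBijective _ (bijective_toFix Z hF a (unop T))).toIso)
    fun {T T'} t => ConcreteCategory.hom_ext _ _ fun φ => Subtype.ext
      (NatTrans.naturality_apply (Magnet.attrToX a F) t φ)

theorem isoFix_inv (T : Over S) (x : (Magnet.MonAct.fixedPsh (MagFace16.resQ Z a)).obj (op T)) :
    (Magnet.attrToX a F).app (op T) ((isoFix Z hF a).inv.app (op T) x) = x.1 :=
  by
  obtain ⟨φ, rfl⟩ := (bijective_toFix Z hF a T).2 x
  rw [show (isoFix Z hF a).inv.app (op T) (toFix Z hF a φ) = φ from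
    (Equiv.ofBijective _ (bijective_toFix Z hF a T)).symm_apply_apply φ]
  rfl

end

theorem mono_of_left {S : Scheme.{u}} {X Y : Over S} (i : X ⟶ Y) [IsClosedImmersion i.left] : Mono i :=
  ⟨fun g h e => Over.OverMorphism.ext ((cancel_mono i.left).1 (congrArg CommaMorphism.left e))⟩


theorem rep_of_descent {S : Scheme.{u}} {PN PF UN UF : (Over S)ᵒᵖ ⥤ Type u}
    (hPN : Presheaf.IsSheaf (QuotSh.J Scheme.fppfPrecoverage.{u} S) PN) (r : PN ⟶ PF) (r' : UN ⟶ UF)
    (fN : UN ⟶ PN) (fF : UF ⟶ PF) (hsq : IsPullback fN r' r fF) {Zs V W : Over S}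
    (es : PF.RepresentableBy Zs) (eV : UF.RepresentableBy V) (eW : UN.RepresentableBy W) (v : V ⟶ Zs)
    (hv : ∀ {T : Over S} (z : T ⟶ V), es.homEquiv (z ≫ v) = fF.app (op T) (eV.homEquiv z))
    [Etale v.left] [Surjective v.left] (p : W ⟶ V)
    (hp : ∀ {T : Over S} (w : T ⟶ W), eV.homEquiv (w ≫ p) = r'.app (op T) (eW.homEquiv w)) [IsAffineHom p.left] :
    ∃ (A : Over S) (eN : PN.RepresentableBy A) (i : A ⟶ Zs), IsAffineHom i.left ∧
      ∀ (T : Over S) (z : T ⟶ A), es.homEquiv (z ≫ i) = r.app (op T) (eN.homEquiv z) := by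
  let G : AlgSp.Sp S :=
    (sheafCompose (QuotSh.J Scheme.fppfPrecoverage.{u} S) (uliftFunctor.{u + 1, u})).obj ⟨PN, hPN⟩
  let π : G ⟶ (AlgSp.yon S).obj Zs :=
    ⟨{ app := fun T => TypeCat.ofHom fun (φ : ULift.{u + 1} (PN.obj T)) =>
        (ULift.up (es.homEquiv.symm (r.app T φ.down)) : ULift.{u + 1} (unop T ⟶ Zs))
       naturality := fun T T' t => by
         ext φ
         change ULift.{u + 1} (PN.obj T) at φ
         refine ULift.ext _ _ (es.homEquiv.injective ?_)
         show es.homEquiv (es.homEquiv.symm (r.app T' (PN.map t φ.down))) =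
           es.homEquiv (t.unop ≫ es.homEquiv.symm (r.app T φ.down))
         rw [es.homEquiv_comp, Equiv.apply_symm_apply, Equiv.apply_symm_apply, NatTrans.naturality_apply]
         rfl }⟩
  let m : (AlgSp.yon S).obj W ⟶ G :=
    ⟨{ app := fun T => TypeCat.ofHom fun (w : ULift.{u + 1} (unop T ⟶ W)) =>
        (ULift.up (fN.app T (eW.homEquiv w.down)) : ULift.{u + 1} (PN.obj T))
       naturality := fun T T' t => by
         ext w
         change ULift.{u + 1} (unop T ⟶ W) at w
         refine ULift.ext _ _ ?_
         show fN.app T' (eW.homEquiv (t.unop ≫ w.down)) = PN.map t (fN.app T (eW.homEquiv w.down))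
         rw [eW.homEquiv_comp, NatTrans.naturality_apply]
         rfl }⟩
  have sq : IsPullback m ((AlgSp.yon S).map p) π ((AlgSp.yon S).map v) := by
    refine IsPullback.of_map_of_faithful (sheafToPresheaf _ _) (IsPullback.of_forall_isPullback_app fun T => ?_)
    · obtain ⟨T, rfl⟩ : ∃ U, op U = T := ⟨T.unop, rfl⟩
      refine (Limits.Types.isPullback_iff _ _ _ _).2 ⟨?_, ?_, ?_⟩
      · ext w
        change ULift.{u + 1} (T ⟶ W) at w
        refine (ULift.down_injective : Function.Injective (ULift.down : ULift.{u + 1} (T ⟶ Zs) → _))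
          (es.homEquiv.injective ?_)
        show es.homEquiv (es.homEquiv.symm (r.app (op T) (fN.app (op T) (eW.homEquiv w.down)))) =
          es.homEquiv ((w.down ≫ p) ≫ v)
        rw [Equiv.apply_symm_apply, hv, hp, ← NatTrans.comp_app_apply, ← NatTrans.comp_app_apply, hsq.w]
      · rintro w w' ⟨h₁, h₂⟩
        change ULift.{u + 1} (T ⟶ W) at w w'
        have hi := (hsq.map ((evaluation (Over S)ᵒᵖ (Type u)).obj (op T)))
        refine ULift.ext _ _ (eW.homEquiv.injective (((Limits.Types.isPullback_iff _ _ _ _).1 hi).2.1 _ _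
          ⟨congrArg ULift.down h₁, ?_⟩))
        show r'.app _ _ = r'.app _ _
        rw [← hp, ← hp]
        exact congrArg eV.homEquiv (congrArg ULift.down h₂)
      · intro φ t hφt
        change ULift.{u + 1} (PN.obj (op T)) at φ
        change ULift.{u + 1} (T ⟶ V) at t
        have hi := (hsq.map ((evaluation (Over S)ᵒᵖ (Type u)).obj (op T)))
        obtain ⟨x, hx₁, hx₂⟩ := ((Limits.Types.isPullback_iff _ _ _ _).1 hi).2.2 φ.down (eV.homEquiv t.down) (by
          have h1 : es.homEquiv.symm (r.app (op T) φ.down) = t.down ≫ v :=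
            congrArg ULift.down hφt
          show r.app (op T) φ.down = fF.app (op T) (eV.homEquiv t.down)
          rw [← hv, ← h1, Equiv.apply_symm_apply])
        refine ⟨(ULift.up (eW.homEquiv.symm x) : ULift.{u + 1} (T ⟶ W)),
          (ULift.down_injective : Function.Injective (ULift.down : ULift.{u + 1} (PN.obj (op T)) → _)) ?_,
          (ULift.down_injective : Function.Injective (ULift.down : ULift.{u + 1} (T ⟶ V) → _))
            (eV.homEquiv.injective ?_)⟩
        · show fN.app (op T) (eW.homEquiv (eW.homEquiv.symm x)) = φ.down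
          rw [Equiv.apply_symm_apply]
          exact hx₁
        · show eV.homEquiv (eW.homEquiv.symm x ≫ p) = eV.homEquiv t.down
          rw [hp, Equiv.apply_symm_apply]
          exact hx₂
  have heff : (Desc.toDD v.left).essImage (SchDesc12.sheafDatum sq) := by
    obtain ⟨U', ⟨e⟩⟩ := SchDesc12.exists_iso_of_isEffective (SchDesc12.sheafDatum sq)
      (SchDesc12.isEffective_of_isAffineHom (by
        rw [Presieve.ofArrows_pUnit]
        exact Scheme.fppfPrecoverage_le_fpqcPrecoverage _ v.left.singleton_mem_fppfPrecoverage)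
        (fun _ => ‹IsAffineHom p.left›))
    exact ⟨U', ⟨e⟩⟩
  obtain ⟨A, i, e, hA, he, hei, sqh⟩ := SchDesc12.exists_square_of_effective sq heff
  have hbij : ∀ T : Over S, Function.Bijective fun z : T ⟶ A => (e.hom.app (op T) (ULift.up.{u + 1} z)).down := by
    intro T
    have : IsIso (e.hom.app (op T)) := by
      haveI := he
      haveI : IsIso e.hom := inferInstanceAs (IsIso ((sheafToPresheaf _ _).map e))
      infer_instance
    exact Equiv.ulift.bijective.comp (((isIso_iff_bijective _).1 this).comp Equiv.ulift.symm.bijective)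
  refine ⟨A, ⟨fun {T} => Equiv.ofBijective _ (hbij T), fun {T T'} t z => ?_⟩, i, ?_, fun T z => ?_⟩
  · let zz : ULift.{u + 1} (T' ⟶ A) := ⟨z⟩
    exact congrArg ULift.down (e.hom.naturality_apply t.op zz)
  · haveI : Flat v.left := inferInstance
    haveI : LocallyOfFinitePresentation v.left := inferInstance
    refine MorphismProperty.of_isPullback_of_descendsAlong
      (P := @IsAffineHom) (Q := @Surjective ⊓ @Flat ⊓ @LocallyOfFinitePresentation)
      (sqh.map (Over.forget S)).flip ⟨⟨‹Surjective v.left›, ‹Flat v.left›⟩, ‹LocallyOfFinitePresentation v.left›⟩ ‹IsAffineHom p.left›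
  · have h1 := congrArg (fun q => (q.hom.app (op T) (ULift.up.{u + 1} z)).down) hei
    change es.homEquiv.symm (r.app (op T) (e.hom.app (op T) (ULift.up.{u + 1} z)).down) = z ≫ i at h1
    rw [← h1, Equiv.apply_symm_apply]
    rfl


set_option maxHeartbeats 400000 in
/-- Let M be a finitely generated commutative group, X an S-scheme with an action of the diagonalizable
group scheme D(M)_S, N a submonoid (magnet) of M and Z the subgroup of M underlying the face N* of
invertible elements of N. Suppose given an S-affine N*-FPR atlas: an S-scheme U affine over S with a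
D(M)_S-action and an equivariant morphism f : U → X over S which is étale and surjective and
fixed-point reflecting for the induced actions of D(M/Z)_S (the square of D(M/Z)_S-fixed-point
functors over U → X is cartesian). Assume that N is finitely generated as a monoid, or that X is
locally of finite presentation and separated over S. Then the attractors X^N and X^{N*} are
representable by S-schemes Z_N and Z_*, and the face projection X^N → X^{N*} corresponds to an
affine morphism Z_N → Z_*. (The published statement allows any commutative group M, X an algebraic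
space and an atlas that is a disjoint union of S-affine schemes each stable under D(M)_S, assumes in
its first alternative only that X is separated, and lists further permanence properties of X^N —
quasi-separated, separated, locally of finite presentation, quasi-compact, of finite presentation —
which are not restated here. Its argument uses the base change of étale equivariant maps along faces
and the identification of attractors of subgroups with fixed points, both established for M finitely
generated, so M is taken finitely generated here; and finite presentation is assumed with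
separatedness because the directed-union step used in that case needs it.) -/
theorem result (S : Scheme.{u}) (M : Type) [AddCommGroup M]
    [AddGroup.FG M] (X U : Over S) (aX : AlgGrp.Action (Red.DS S M) X) (aU : AlgGrp.Action (Red.DS S M) U)
    [IsAffineHom U.hom] (f : U ⟶ X) [Etale f.left] [Surjective f.left]
    (hf : Magnet.MonAct.IsEquivariant (Magnet.MonAct.ofAction aU) (Magnet.MonAct.ofAction aX) f)
    (N : AddSubmonoid M) (Z : AddSubgroup M) (hZ : Z.toAddSubmonoid = Magnet.unitFace N)
    (hfZ : Magnet.MonAct.IsEquivariant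
      ((Magnet.MonAct.ofAction aU).restrict (Magnet.AMonS.map S (QuotientAddGroup.mk' Z)))
      ((Magnet.MonAct.ofAction aX).restrict (Magnet.AMonS.map S (QuotientAddGroup.mk' Z))) f)
    (hfpr : IsPullback (Magnet.MonAct.fixedPsh.map f hfZ)
      (Magnet.MonAct.fixedPshι ((Magnet.MonAct.ofAction aU).restrict (Magnet.AMonS.map S (QuotientAddGroup.mk' Z))))
      (Magnet.MonAct.fixedPshι ((Magnet.MonAct.ofAction aX).restrict (Magnet.AMonS.map S (QuotientAddGroup.mk' Z))))
      (yoneda.map f))
    (h : N.FG ∨ (IsSeparated X.hom ∧ LocallyOfFinitePresentation X.hom)) :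
    ∃ (ZN Zs : Over S) (eN : (Magnet.attr (Magnet.MonAct.ofAction aX) N).RepresentableBy ZN)
      (es : (Magnet.attr (Magnet.MonAct.ofAction aX) (Magnet.unitFace N)).RepresentableBy Zs) (j : ZN ⟶ Zs),
      IsAffineHom j.left ∧ ∀ (T : Over S) (z : T ⟶ ZN),
        es.homEquiv (z ≫ j) = (Magnet.attrFace (Magnet.MonAct.ofAction aX) (Magnet.isFace_unitFace N)).app (op T)
          (eN.homEquiv z) := by
  obtain ⟨F, hF⟩ : ∃ F : AddSubmonoid M, F = Magnet.unitFace N := ⟨_, rfl⟩
  rw [← hF] at hZ
  let hNF : Magnet.IsFace N F := hF ▸ Magnet.isFace_unitFace N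
  suffices hmain : ∃ (ZN Zs : Over S) (eN : (Magnet.attr (Magnet.MonAct.ofAction aX) N).RepresentableBy ZN)
      (es : (Magnet.attr (Magnet.MonAct.ofAction aX) F).RepresentableBy Zs) (j : ZN ⟶ Zs),
      IsAffineHom j.left ∧ ∀ (T : Over S) (z : T ⟶ ZN),
        es.homEquiv (z ≫ j) = (Magnet.attrFace (Magnet.MonAct.ofAction aX) hNF).app (op T) (eN.homEquiv z) by
    subst hF
    exact hmain
  let bX := Magnet.MonAct.ofAction aX
  let bU := Magnet.MonAct.ofAction aU
  have hdX := MagFace16.det_subgroup Z F hZ X
  have hdU := MagFace16.det_subgroup Z F hZ U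
  -- fixed points of the atlas and of `X`
  obtain ⟨V, iV, eV, hiV, heV⟩ := MagFace16.exists_closed S F U bU
  let cX : AlgGrp.Action (Red.DS S (M ⧸ Z)) X :=
    Magnet.MonAct.toAction (G := Red.DS S (M ⧸ Z)) (MagFace16.resQ Z bX)
  let cU : AlgGrp.Action (Red.DS S (M ⧸ Z)) U :=
    Magnet.MonAct.toAction (G := Red.DS S (M ⧸ Z)) (MagFace16.resQ Z bU)
  obtain ⟨Zs, iZ, eZ, hiZ, heZ⟩ := S18299.result S (M ⧸ Z) X U cX cU f hfZ hfpr
    ⟨V, iV, eV.ofIso (isoFix Z hZ bU), hiV, fun T w => heV T w⟩
  let es : (Magnet.attr bX F).RepresentableBy Zs := eZ.ofIso (isoFix Z hZ bX).symm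
  have hes : ∀ (T : Over S) (z : T ⟶ Zs), (Magnet.attrToX bX F).app (op T) (es.homEquiv z) = z ≫ iZ := by
    intro T z
    exact (isoFix_inv Z hZ bX T (eZ.homEquiv z)).trans (heZ T z)
  haveI := hiV
  haveI := hiZ
  haveI : Mono iV := mono_of_left iV
  haveI : Mono iZ := mono_of_left iZ
  have hcart : ∀ {T : Over S} (x : T ⟶ U), MagFace16.IsFix Z bX (x ≫ f) → MagFace16.IsFix Z bU x := by
    intro T x hx
    obtain ⟨z, -, hz⟩ := Limits.Types.exists_of_isPullback
      (hfpr.map ((evaluation (Over S)ᵒᵖ (Type u)).obj (op T)))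
      (⟨x ≫ f, hx⟩ : (Magnet.MonAct.fixedPsh (MagFace16.resQ Z bX)).obj (op T)) x rfl
    have h1 : z.1 = x := hz
    rw [← h1]
    exact z.2
  let fF := Magnet.MonAct.eqvHom.postcomp (Magnet.subAct S M F) f hf
  let fN := Magnet.MonAct.eqvHom.postcomp (Magnet.subAct S M N) f hf
  let v : V ⟶ Zs := es.homEquiv.symm (fF.app (op V) (eV.homEquiv (𝟙 V)))
  have hv : ∀ {T : Over S} (z : T ⟶ V), es.homEquiv (z ≫ v) = fF.app (op T) (eV.homEquiv z) := by
    intro T z
    rw [es.homEquiv_comp, Equiv.apply_symm_apply, ← NatTrans.naturality_apply, ← eV.homEquiv_comp, Category.comp_id]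
  have hev : ∀ {T : Over S} (φ : (Magnet.attr bU F).obj (op T)),
      (Magnet.attrToX bX F).app (op T) (fF.app (op T) φ) = (Magnet.attrToX bU F).app (op T) φ ≫ f :=
    fun {T} φ => (Category.assoc (lift (toUnit T ≫ η[Magnet.AMonS S F]) (𝟙 T)) φ.1 f).symm
  have hvi : v ≫ iZ = iV ≫ f := by
    rw [← hes, ← Category.id_comp v, hv, hev, heV, Category.id_comp]
  have sqV : IsPullback v iV iZ f := by
    have hIn : ∀ s : PullbackCone iZ f, MagFace16.InAttr bU F s.snd := fun s =>
      MagFace16.inAttr_of_isFix Z F hZ bU (hcart s.snd (s.condition ▸ (hes _ s.fst ▸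
        MagFace16.isFix_of_inAttr Z F hZ bX (MagFace16.eval_inAttr bX F (es.homEquiv s.fst)))))
    refine IsPullback.of_isLimit' ⟨hvi⟩ (PullbackCone.IsLimit.mk _
      (fun s => eV.homEquiv.symm (MagFace16.exists_of_inAttr' bU F hdU (hIn s)).choose) (fun s => ?_) (fun s => ?_)
      (fun s m _ hm => ?_))
    · rw [← cancel_mono iZ, Category.assoc, hvi, ← Category.assoc, ← heV, Equiv.apply_symm_apply,
        Exists.choose_spec (MagFace16.exists_of_inAttr' bU F hdU (hIn s))]
      exact s.condition.symm
    · rw [← heV, Equiv.apply_symm_apply, Exists.choose_spec (MagFace16.exists_of_inAttr' bU F hdU (hIn s))]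
    · rw [← cancel_mono iV, hm, ← heV, Equiv.apply_symm_apply,
        Exists.choose_spec (MagFace16.exists_of_inAttr' bU F hdU (hIn s))]
  haveI : Etale v.left := MorphismProperty.of_isPullback (P := @Etale) (sqV.map (Over.forget S)).flip ‹_›
  haveI : Surjective v.left := MorphismProperty.of_isPullback (P := @Surjective) (sqV.map (Over.forget S)).flip ‹_›
  -- the attractor of the atlas over its fixed points
  obtain ⟨W, iW, eW, hiW, heW⟩ := MagFace16.exists_closed S N U bU
  haveI := hiW
  let p : W ⟶ V := eV.homEquiv.symm ((Magnet.attrFace bU hNF).app (op W) (eW.homEquiv (𝟙 W)))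
  have hp : ∀ {T : Over S} (w : T ⟶ W),
      eV.homEquiv (w ≫ p) = (Magnet.attrFace bU hNF).app (op T) (eW.homEquiv w) := by
    intro T w
    rw [eV.homEquiv_comp, Equiv.apply_symm_apply, ← NatTrans.naturality_apply, ← eW.homEquiv_comp, Category.comp_id]
  haveI : IsAffineHom V.hom := by rw [← Over.w iV]; infer_instance
  haveI : IsAffineHom W.hom := by rw [← Over.w iW]; infer_instance
  haveI : IsAffineHom p.left := by
    haveI : IsAffineHom (p.left ≫ V.hom) := by rw [Over.w p]; infer_instance
    exact IsAffineHom.of_comp p.left V.hom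
  obtain ⟨A, eN, i, hi, hiz⟩ := rep_of_descent
    (S18294.result S (Magnet.AMonS S M) (Magnet.AMonS S N) X (Magnet.subAct S M N) bX) (Magnet.attrFace bX hNF)
    (Magnet.attrFace bU hNF) fN fF (S18302.result S M X U aX aU f hf N F hNF h) es eV eW v hv p hp
  exact ⟨A, Zs, eN, es, i, hi, hiz⟩

end Groth.Agent.S18304
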