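import Groth.Statements.S12460
import Mathlib.AlgebraicGeometry.AffineScheme
import Mathlib.AlgebraicGeometry.Morphisms.FiniteType

set_option autoImplicit false
set_option backward.isDefEq.respectTransparency.types false
universe u
open CategoryTheory AlgebraicGeometry
open Props

namespace Groth.Agent.S12460

/-- (1) ⇔ (3) ⇔ (4): let X be a locally Noetherian scheme. Then X is J-2 — for every morphism Y → X
locally of finite type the set of points y with O_{Y,y} a regular local ring is open in Y — if and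
only if for every affine open U of X the ring Γ(X, U) is J-2 (every finite type algebra over it has
open regular locus), if and only if every point of X lies in such an affine open. (Schemes Y over X
are taken in the universe of X.) -/
theorem result (X : Scheme.{u}) [IsLocallyNoetherian X] :
    ((∀ (Y : Scheme.{u}) (g : Y ⟶ X), LocallyOfFiniteType g →
        IsOpen {y : Y | IsRegularLocalRing (Y.presheaf.stalk y)}) ↔
      ∀ U : X.affineOpens, EGA4.IsJ2 Γ(X, U)) ∧
    ((∀ (Y : Scheme.{u}) (g : Y ⟶ X), LocallyOfFiniteType g →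
        IsOpen {y : Y | IsRegularLocalRing (Y.presheaf.stalk y)}) ↔
      ∀ x : X, ∃ U : X.affineOpens, x ∈ (U : X.Opens) ∧ EGA4.IsJ2 Γ(X, U)) := by
  have h1 : (∀ (Y : Scheme.{u}) (g : Y ⟶ X), LocallyOfFiniteType g →
        IsOpen {y : Y | IsRegularLocalRing (Y.presheaf.stalk y)}) →
      ∀ U : X.affineOpens, EGA4.IsJ2 Γ(X, U) := by
    intro h U B _ _ hB
    let g : Spec (CommRingCat.of B) ⟶ X :=
      Spec.map (CommRingCat.ofHom (algebraMap Γ(X, U) B)) ≫ U.2.fromSpec
    haveI : LocallyOfFiniteType (Spec.map (CommRingCat.ofHom (algebraMap Γ(X, U) B))) :=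
      (HasRingHomProperty.Spec_iff (P := @LocallyOfFiniteType)).2
        (RingHom.finiteType_algebraMap.2 hB)
    have ho := h _ g inferInstance
    refine (congrArg IsOpen (Set.ext fun (p : PrimeSpectrum B) => ?_)).mpr ho
    let e : Localization.AtPrime p.asIdeal ≃+* (Spec (CommRingCat.of B)).presheaf.stalk p :=
      (IsLocalization.algEquiv p.asIdeal.primeCompl (Localization.AtPrime p.asIdeal)
        ((Spec.structureSheaf B).presheaf.stalk p)).toRingEquiv
    exact ⟨fun hh => (show IsRegularLocalRing (Localization.AtPrime p.asIdeal) from hh).of_ringEquiv e,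
      fun hh => (show IsRegularLocalRing ((Spec (CommRingCat.of B)).presheaf.stalk p) from hh).of_ringEquiv e.symm⟩
  have h2 : (∀ U : X.affineOpens, EGA4.IsJ2 Γ(X, U)) →
      ∀ x : X, ∃ U : X.affineOpens, x ∈ (U : X.Opens) ∧ EGA4.IsJ2 Γ(X, U) := fun h x => by
    obtain ⟨U, hU, hxU, -⟩ := exists_isAffineOpen_mem_and_subset (x := x) (U := ⊤) trivial
    exact ⟨⟨U, hU⟩, hxU, h ⟨U, hU⟩⟩
  have h3 : (∀ x : X, ∃ U : X.affineOpens, x ∈ (U : X.Opens) ∧ EGA4.IsJ2 Γ(X, U)) →
      ∀ (Y : Scheme.{u}) (g : Y ⟶ X), LocallyOfFiniteType g →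
        IsOpen {y : Y | IsRegularLocalRing (Y.presheaf.stalk y)} := by
    intro h Y g hg
    rw [isOpen_iff_forall_mem_open]
    intro y hy
    obtain ⟨⟨U, hU⟩, hyU, hJ⟩ := h (g y)
    obtain ⟨V, hV, hyV, hVU⟩ := exists_isAffineOpen_mem_and_subset (x := y) (U := g ⁻¹ᵁ U) hyU
    have hft := g.finiteType_appLE hU hV hVU
    algebraize [(g.appLE U V hVU).hom]
    have key : ∀ p : PrimeSpectrum Γ(Y, V),
        p ∈ EGA4.regLocus Γ(Y, V) ↔ IsRegularLocalRing (Y.presheaf.stalk (hV.fromSpec p)) := by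
      intro p
      have hp : hV.fromSpec p ∈ V := by
        rw [← SetLike.mem_coe, ← hV.range_fromSpec]
        exact ⟨p, rfl⟩
      letI := Y.presheaf.algebra_section_stalk (U := V) ⟨hV.fromSpec p, hp⟩
      haveI : IsLocalization.AtPrime (Y.presheaf.stalk (hV.fromSpec p)) p.asIdeal :=
        hV.isLocalization_stalk' p hp
      let e : Localization.AtPrime p.asIdeal ≃+* Y.presheaf.stalk (hV.fromSpec p) :=
        (IsLocalization.algEquiv p.asIdeal.primeCompl (Localization.AtPrime p.asIdeal)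
          (Y.presheaf.stalk (hV.fromSpec p))).toRingEquiv
      exact ⟨fun hh => (show IsRegularLocalRing (Localization.AtPrime p.asIdeal) from hh).of_ringEquiv e,
        fun hh => hh.of_ringEquiv e.symm⟩
    refine ⟨hV.fromSpec '' EGA4.regLocus Γ(Y, V), ?_,
      hV.fromSpec.isOpenEmbedding.isOpenMap _ (hJ _ inferInstance), hV.primeIdealOf ⟨y, hyV⟩, ?_, hV.fromSpec_primeIdealOf ⟨y, hyV⟩⟩
    · rintro _ ⟨p, hp, rfl⟩
      exact (key p).1 hp
    · exact (key _).2 (by rw [hV.fromSpec_primeIdealOf]; exact hy)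
  exact ⟨⟨h1, fun h => h3 (h2 h)⟩, ⟨fun h => h2 (h1 h), h3⟩⟩

end Groth.Agent.S12460
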