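import Groth.Statements.S18735
import Groth.Agent.Lib.EffCartier.Dense

set_option autoImplicit false
universe u
open CategoryTheory CategoryTheory.Limits AlgebraicGeometry TopologicalSpace
open ModPair

namespace Groth.Agent.S18735

/-- Let (S, I_S), (T, I_T), (X, I_X) be schemes equipped with quasi-coherent ideal sheaves of effective
Cartier divisors, g : T ⟶ S a morphism satisfying the modulus condition I_T ≤ I_S.comap g, and s : X
⟶ S an abstract admissible blow-up (I_X = I_S.comap s, s proper and an isomorphism over the open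
complement of the support of I_S). Let Y be the scheme-theoretic image in X ×_S T of the open
pr₁⁻¹(X°) ∩ pr₂⁻¹(T°), where X°, T° are the open complements of the supports of I_X, I_T, with
projections q : Y ⟶ T and r : Y ⟶ X. Then I_T.comap q is the ideal sheaf of an effective Cartier
divisor on Y, q is an abstract admissible blow-up from (Y, I_T.comap q) to (T, I_T), and r satisfies
the modulus condition from (Y, I_T.comap q) to (X, I_X). -/
theorem result {S T X : Scheme.{u}} (IS : S.IdealSheafData)
    (IT : T.IdealSheafData) (IX : X.IdealSheafData) (hS : BlowUp.IsEffCartierIdeal IS)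
    (hT : BlowUp.IsEffCartierIdeal IT) (hX : BlowUp.IsEffCartierIdeal IX)
    (g : T ⟶ S) (hg : ModPair.IsAmbient IT IS g) (s : X ⟶ S) (hs : ModPair.IsAdmBlowup IX IS s) :
    BlowUp.IsEffCartierIdeal (IT.comap (ModPair.mprodι s g IX IT ≫ pullback.snd s g)) ∧
      ModPair.IsAdmBlowup (IT.comap (ModPair.mprodι s g IX IT ≫ pullback.snd s g)) IT
        (ModPair.mprodι s g IX IT ≫ pullback.snd s g) ∧
      ModPair.IsAmbient (IT.comap (ModPair.mprodι s g IX IT ≫ pullback.snd s g)) IX
        (ModPair.mprodι s g IX IT ≫ pullback.fst s g) := by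
  obtain ⟨hmin, hproper, hiso⟩ := hs
  set U := ModPair.prodInterior s g IX IT
  set m := ModPair.mprodι s g IX IT
  have hsub : pullback.snd s g ⁻¹ᵁ ModPair.interior IT ≤ pullback.fst s g ⁻¹ᵁ ModPair.interior IX := by
    intro x hx h
    refine hx (Scheme.IdealSheafData.support_antitone hg ?_)
    have h' : pullback.fst s g x ∈ IX.support := h
    rw [hmin, Scheme.IdealSheafData.support_comap] at h'
    rw [Scheme.IdealSheafData.support_comap]
    show g (pullback.snd s g x) ∈ IS.support
    rw [← Scheme.Hom.comp_apply, ← pullback.condition, Scheme.Hom.comp_apply]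
    exact h'
  have := EffCartier.quasiCompact_preimage_interior hX (pullback.fst s g)
  have := EffCartier.quasiCompact_preimage_interior hT (pullback.snd s g)
  have hqc : QuasiCompact U.ι :=
    EffCartier.quasiCompact_inf (pullback.fst s g ⁻¹ᵁ EffCartier.cmpl IX) (pullback.snd s g ⁻¹ᵁ EffCartier.cmpl IT)
  have hd : IsSchemeTheoreticallyDominant ((m ≫ pullback.snd s g) ⁻¹ᵁ EffCartier.cmpl IT).ι :=
    EffCartier.dominant_preimage_imageι U.ι (pullback.snd s g ⁻¹ᵁ EffCartier.cmpl IT) fun x => x.2.2
  refine ⟨EffCartier.comap_of_dominant hT _, ⟨rfl, inferInstance, ?_⟩, ?_⟩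
  · rw [morphismRestrict_comp]
    have h1 : IsIso (m ∣_ pullback.snd s g ⁻¹ᵁ ModPair.interior IT) := by
      set W := pullback.snd s g ⁻¹ᵁ ModPair.interior IT
      have hWU : W ≤ U := fun x hx => ⟨hsub hx, hx⟩
      have hr : Set.range ((pullback s g).homOfLE hWU ≫ U.ι.toImage) ⊆ Set.range (m ⁻¹ᵁ W).ι := by
        rintro _ ⟨x, rfl⟩
        rw [Scheme.Opens.range_ι]
        show (((pullback s g).homOfLE hWU ≫ U.ι.toImage) ≫ U.ι.imageι) x ∈ W
        rw [Category.assoc, U.ι.toImage_imageι, Scheme.homOfLE_ι]
        exact x.2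
      have : IsSplitEpi (m ∣_ W) := by
        refine IsSplitEpi.mk' ⟨IsOpenImmersion.lift (m ⁻¹ᵁ W).ι _ hr, ?_⟩
        rw [← cancel_mono W.ι, Category.assoc, morphismRestrict_ι, IsOpenImmersion.lift_fac_assoc, Category.assoc,
          show U.ι.toImage ≫ m = U.ι from U.ι.toImage_imageι, Scheme.homOfLE_ι, Category.id_comp]
      exact isIso_of_mono_of_isSplitEpi _
    have h2 : IsIso (pullback.snd s g ∣_ ModPair.interior IT) := by
      set W := ModPair.interior IT
      have hle : W ≤ g ⁻¹ᵁ ModPair.interior IS := by
        intro x hx h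
        refine hx (Scheme.IdealSheafData.support_antitone hg ?_)
        rw [Scheme.IdealSheafData.support_comap]; exact h
      have hbig : IsPullback ((pullback.snd s g ⁻¹ᵁ W).ι ≫ pullback.fst s g) (pullback.snd s g ∣_ W) s
          (g.resLE _ W hle ≫ (ModPair.interior IS).ι) := by
        rw [Scheme.Hom.resLE_comp_ι]
        exact IsPullback.paste_horiz (isPullback_morphismRestrict (pullback.snd s g) W).flip
          (IsPullback.of_hasPullback s g)
      have hsq := (isPullback_morphismRestrict s (ModPair.interior IS)).flip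
      have hr : ((pullback.snd s g ∣_ W) ≫ g.resLE _ W hle) ≫ (ModPair.interior IS).ι =
          ((pullback.snd s g ⁻¹ᵁ W).ι ≫ pullback.fst s g) ≫ s := by
        rw [Category.assoc]; exact hbig.w.symm
      have key : IsPullback (hsq.lift _ _ hr.symm) (pullback.snd s g ∣_ W) (s ∣_ ModPair.interior IS)
          (g.resLE _ W hle) :=
        IsPullback.of_right (by rw [IsPullback.lift_fst]; exact hbig) (IsPullback.lift_snd _ _ _ _) hsq
      exact MorphismProperty.of_isPullback (P := MorphismProperty.isomorphisms Scheme) key hiso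
    exact @IsIso.comp_isIso _ _ _ _ _ _ _ h1 h2
  · have hgoal : IT.comap (m ≫ pullback.snd s g) ≤ IX.comap (m ≫ pullback.fst s g) := by
      calc IT.comap (m ≫ pullback.snd s g) ≤ (IS.comap g).comap (m ≫ pullback.snd s g) :=
            Scheme.IdealSheafData.comap_mono _ hg
        _ = (IS.comap s).comap (m ≫ pullback.fst s g) := by
            rw [← Scheme.IdealSheafData.comap_comp, ← Scheme.IdealSheafData.comap_comp, Category.assoc,
              Category.assoc, pullback.condition]
        _ = IX.comap (m ≫ pullback.fst s g) :=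
            congrArg (fun A : X.IdealSheafData => A.comap (m ≫ pullback.fst s g)) hmin.symm
    exact hgoal

end Groth.Agent.S18735
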