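import Groth.Statements.S18738
import Groth.Agent.S18735
import Mathlib.CategoryTheory.Localization.CalculusOfFractions

set_option autoImplicit false
universe u
open CategoryTheory CategoryTheory.Limits AlgebraicGeometry TopologicalSpace
open ModPair

namespace Groth.Agent.S18738


lemma admBlowup_comp {P Q R : Pair.{u}} {f : P ⟶ Q} {g : Q ⟶ R} (hf : Pair.admBlowup f) (hg : Pair.admBlowup g) :
    Pair.admBlowup (f ≫ g) := by
  obtain ⟨hf₁, hf₂, hf₃⟩ := hf
  obtain ⟨hg₁, hg₂, hg₃⟩ := hg
  refine ⟨?_, ?_, ?_⟩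
  · show P.mod = R.mod.comap (f.hom ≫ g.hom)
    rw [Scheme.IdealSheafData.comap_comp, ← show Q.mod = R.mod.comap g.hom from hg₁]; exact hf₁
  · show IsProper (f.hom ≫ g.hom)
    infer_instance
  · show IsIso ((f.hom ≫ g.hom) ∣_ ModPair.interior R.mod)
    rw [morphismRestrict_comp]
    have e : g.hom ⁻¹ᵁ ModPair.interior R.mod = ModPair.interior Q.mod := by
      ext x
      show g.hom x ∉ R.mod.support ↔ x ∉ Q.mod.support
      rw [show Q.mod = R.mod.comap g.hom from hg₁, Scheme.IdealSheafData.support_comap]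
      exact Iff.rfl
    have h1 : IsIso (f.hom ∣_ g.hom ⁻¹ᵁ ModPair.interior R.mod) := by rw [e]; exact hf₃
    exact @IsIso.comp_isIso _ _ _ _ _ _ _ h1 hg₃

lemma admBlowup_id (P : Pair.{u}) : Pair.admBlowup (𝟙 P) :=
  ⟨(Scheme.IdealSheafData.comap_id P.mod).symm, show IsProper (𝟙 P.total) from inferInstance,
    show IsIso (𝟙 P.total ∣_ ModPair.interior P.mod) from inferInstance⟩

lemma admBlowup_cancel {X Y Y' : Pair.{u}} {f₁ f₂ : X ⟶ Y} {s : Y ⟶ Y'} (hs : Pair.admBlowup s)
    (h : f₁ ≫ s = f₂ ≫ s) : f₁ = f₂ := by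
  obtain ⟨hs₁, hs₂, hs₃⟩ := hs
  have := EffCartier.dominant_cmpl X.isEffCartier
  have := EffCartier.quasiCompact_interior X.isEffCartier
  set U := EffCartier.cmpl X.mod
  have hr : ∀ k : X ⟶ Y, Set.range (U.ι ≫ k.hom) ⊆ Set.range (s.hom ⁻¹ᵁ ModPair.interior Y'.mod).ι := by
    rintro k _ ⟨x, rfl⟩
    rw [Scheme.Opens.range_ι]
    intro hx
    refine x.2 (Scheme.IdealSheafData.support_antitone k.cond ?_)
    rw [Scheme.IdealSheafData.support_comap]
    show k.hom x.1 ∈ Y.mod.support
    rw [show Y.mod = Y'.mod.comap s.hom from hs₁, Scheme.IdealSheafData.support_comap]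
    exact hx
  have h' : f₁.hom ≫ s.hom = f₂.hom ≫ s.hom := congrArg Pair.Hom.hom h
  have heq : U.ι ≫ f₁.hom = U.ι ≫ f₂.hom := by
    rw [← IsOpenImmersion.lift_fac _ _ (hr f₁), ← IsOpenImmersion.lift_fac _ _ (hr f₂)]
    congr 1
    have : Mono (s.hom ∣_ ModPair.interior Y'.mod) := by infer_instance
    rw [← cancel_mono (s.hom ∣_ ModPair.interior Y'.mod), ← cancel_mono (ModPair.interior Y'.mod).ι,
      Category.assoc, Category.assoc, morphismRestrict_ι, IsOpenImmersion.lift_fac_assoc,
      IsOpenImmersion.lift_fac_assoc, Category.assoc, Category.assoc, h']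
  let l : X.total ⟶ pullback s.hom s.hom := pullback.lift f₁.hom f₂.hom h'
  have hd : U.ι ≫ l = (U.ι ≫ f₁.hom) ≫ pullback.diagonal s.hom := by
    apply pullback.hom_ext
    · rw [Category.assoc, show l ≫ pullback.fst s.hom s.hom = f₁.hom from pullback.lift_fst _ _ _, Category.assoc,
        pullback.diagonal_fst, Category.comp_id]
    · rw [Category.assoc, show l ≫ pullback.snd s.hom s.hom = f₂.hom from pullback.lift_snd _ _ _, Category.assoc,
        pullback.diagonal_snd, Category.comp_id, heq]
  have hker : (pullback.diagonal s.hom).ker ≤ l.ker := by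
    have h1 := Scheme.Hom.le_ker_comp (U.ι ≫ f₁.hom) (pullback.diagonal s.hom)
    rw [← hd, Scheme.Hom.ker_comp, U.ι.ker_eq_bot, Scheme.IdealSheafData.map_bot] at h1
    exact h1
  have hl := IsClosedImmersion.lift_fac (pullback.diagonal s.hom) l hker
  have e₁ := congrArg (· ≫ pullback.fst s.hom s.hom) hl
  have e₂ := congrArg (· ≫ pullback.snd s.hom s.hom) hl
  simp only [Category.assoc, pullback.diagonal_fst, pullback.diagonal_snd, l, pullback.lift_fst,
    pullback.lift_snd] at e₁ e₂
  exact Pair.Hom.ext (e₁.symm.trans e₂)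


/-- In the category of modulus pairs and ambient morphisms, the class Σ of abstract admissible blow-ups
(minimal, proper, an isomorphism over the interior of the target) admits a calculus of right
fractions: it contains the identities and is stable under composition; every pair X' ⟶ X ⟵ Y with X'
⟶ X in Σ can be completed to a commutative square with a morphism Y' ⟶ Y in Σ; and two ambient
morphisms f, g : X ⟶ Y equalized by some Y ⟶ Z in Σ are equalized by some X' ⟶ X in Σ. -/
theorem result :
    (ModPair.Pair.admBlowup.{u}).HasRightCalculusOfFractions := by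
  exact
    { id_mem := admBlowup_id
      comp_mem := fun _ _ hf hg => admBlowup_comp hf hg
      exists_rightFraction := fun X Y φ => by
        obtain ⟨hEC, hadm, hamb⟩ := Groth.Agent.S18735.result φ.Y'.mod X.mod Y.mod φ.Y'.isEffCartier X.isEffCartier
          Y.isEffCartier φ.f.hom φ.f.cond φ.s.hom φ.hs
        exact ⟨{ X' := ⟨_, _, hEC⟩
                 s := ⟨_, le_of_eq hadm.1⟩
                 hs := hadm
                 f := ⟨_, hamb⟩ }, Pair.Hom.ext (by
                  show (_ ≫ _) ≫ φ.f.hom = (_ ≫ _) ≫ φ.s.hom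
                  rw [Category.assoc, Category.assoc, pullback.condition])⟩
      ext := fun X _ _ f₁ f₂ s hs h => ⟨X, 𝟙 X, admBlowup_id X, by rw [admBlowup_cancel hs h]⟩ }

end Groth.Agent.S18738
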