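import Groth.Statements.S18745
import Groth.Agent.Lib.Descend19.HomDominant
import Groth.Agent.Lib.EffCartier.Basic
import Mathlib.CategoryTheory.Limits.Constructions.Over.Connected

set_option autoImplicit false
universe u
open CategoryTheory CategoryTheory.Limits AlgebraicGeometry TopologicalSpace
open ModPair

namespace Groth.Agent.S18745

open Groth.Agent

set_option backward.isDefEq.respectTransparency false in
theorem descend_mem {I : Type u} [SmallCategory I] [IsCofiltered I] (D : I ⥤ Scheme.{u}) (c : Cone D)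
    (hc : IsLimit c) [∀ {i j : I} (t : i ⟶ j), IsAffineHom (D.map t)] {i : I} (U : (D.obj i).affineOpens)
    (a b : Γ(D.obj i, U.1))
    (h : (c.π.app i).app U.1 a ∈ Ideal.span {(c.π.app i).app U.1 b}) :
    ∃ (k : I) (φ : k ⟶ i), (D.map φ).app U.1 a ∈ Ideal.span {(D.map φ).app U.1 b} := by
  have := isAffineHom_π_app D c hc i
  obtain ⟨z, hz⟩ := Ideal.mem_span_singleton'.mp h
  have (j : Over i) : IsAffine ((opensDiagram D i U.1).obj j) := U.2.preimage (D.map j.hom)
  obtain ⟨j, t₀, ht₀⟩ := exists_appTop_π_eq_of_isAffine_of_isLimit _ _ (isLimitOpensCone D c hc i U.1)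
    ((c.π.app i ⁻¹ᵁ U.1).topIso.inv z)
  let t : Γ(D.obj j.left, D.map j.hom ⁻¹ᵁ U.1) := (D.map j.hom ⁻¹ᵁ U.1).topIso.hom t₀
  have he : c.π.app i ⁻¹ᵁ U.1 ≤ c.π.app j.left ⁻¹ᵁ (D.map j.hom ⁻¹ᵁ U.1) := by
    rw [← Scheme.Hom.comp_preimage, c.w]
  have ht : (c.π.app j.left).appLE _ _ he t = z := by
    have h := congrArg (fun w => (c.π.app i ⁻¹ᵁ U.1).topIso.hom w) ht₀
    simp only [Iso.inv_hom_id_apply] at h
    refine Eq.trans ?_ h
    show _ = ((((c.π.app j.left).resLE _ _ he).appTop ≫ (c.π.app i ⁻¹ᵁ U.1).topIso.hom) t₀)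
    rw [Scheme.Hom.appTop, Scheme.Hom.resLE_app_top]
    simp only [Category.assoc, Iso.inv_hom_id, Category.comp_id]
    rfl
  let aj : Γ(D.obj j.left, D.map j.hom ⁻¹ᵁ U.1) := (D.map j.hom).app U.1 a
  let bj : Γ(D.obj j.left, D.map j.hom ⁻¹ᵁ U.1) := (D.map j.hom).app U.1 b
  have happ : ∀ w : Γ(D.obj i, U.1),
      (c.π.app j.left).appLE _ _ he ((D.map j.hom).app U.1 w) = (c.π.app i).app U.1 w := by
    intro w
    show (((D.map j.hom).app U.1) ≫ (c.π.app j.left).appLE _ _ he) w = _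
    rw [Scheme.Hom.app_eq_appLE, Scheme.Hom.appLE_comp_appLE]
    simp only [c.w]
    rw [Scheme.Hom.app_eq_appLE]
    rfl
  have heq : c.π.app j.left ⁻¹ᵁ (D.map j.hom ⁻¹ᵁ U.1) = c.π.app i ⁻¹ᵁ U.1 := by
    rw [← Scheme.Hom.comp_preimage, c.w]
  have h0 : (c.π.app j.left).app (D.map j.hom ⁻¹ᵁ U.1) (t * bj - aj) = 0 := by
    apply (ConcreteCategory.bijective_of_isIso (c.pt.presheaf.map (eqToHom heq.symm).op)).1
    rw [map_zero]
    show (c.π.app j.left).appLE _ _ he (t * bj - aj) = _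
    rw [map_sub, map_mul, ht, happ, happ, hz, sub_self]
  obtain ⟨k, φ, hk⟩ := exists_app_map_eq_zero_of_isLimit D c hc
    ((U.2.preimage (D.map j.hom)).isCompact) (t * bj - aj) h0
  rw [map_sub, map_mul, sub_eq_zero] at hk
  refine ⟨k, φ ≫ j.hom, ?_⟩
  have hW : D.map φ ⁻¹ᵁ (D.map j.hom ⁻¹ᵁ U.1) = D.map (φ ≫ j.hom) ⁻¹ᵁ U.1 := by
    rw [← Scheme.Hom.comp_preimage, ← D.map_comp]
  have key : ∀ w : Γ(D.obj i, U.1), (D.map (φ ≫ j.hom)).app U.1 w =
      (D.obj k).presheaf.map (eqToHom hW.symm).op ((D.map φ).app _ ((D.map j.hom).app U.1 w)) := by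
    intro w
    suffices h6 : (D.map (φ ≫ j.hom)).app U.1 = (D.map j.hom).app U.1 ≫ (D.map φ).app _ ≫
        (D.obj k).presheaf.map (eqToHom hW.symm).op by rw [h6]; rfl
    simp only [Scheme.Hom.app_eq_appLE, Scheme.Hom.appLE_map, Scheme.Hom.appLE_comp_appLE_assoc,
      Scheme.Hom.appLE_comp_appLE, Functor.map_comp]
  rw [key a, key b]
  exact Ideal.mem_span_singleton'.mpr ⟨(D.obj k).presheaf.map (eqToHom hW.symm).op ((D.map φ).app _ t), by
    rw [← map_mul, hk]⟩

set_option backward.isDefEq.respectTransparency false in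
theorem exists_isAmbient {I : Type u} [SmallCategory I] [IsCofiltered I] (D : I ⥤ Scheme.{u}) (c : Cone D)
    (hc : IsLimit c) [∀ {i j : I} (t : i ⟶ j), IsAffineHom (D.map t)]
    [∀ i, CompactSpace (D.obj i)]
    (J : ∀ i, (D.obj i).IdealSheafData) (hJ : ∀ i, BlowUp.IsEffCartierIdeal (J i))
    (hmin : ∀ (i j : I) (t : i ⟶ j), J i = (J j).comap (D.map t))
    {Y : Scheme.{u}} (IY : Y.IdealSheafData) (hY : BlowUp.IsEffCartierIdeal IY)
    (i : I) (ψ : D.obj i ⟶ Y) (h : (J i).comap (c.π.app i) ≤ IY.comap (c.π.app i ≫ ψ)) :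
    ∃ (k : I) (t : k ⟶ i), J k ≤ IY.comap (D.map t ≫ ψ) := by
  classical
  have := isAffineHom_π_app D c hc i
  have hpt : ∀ x : D.obj i, ∃ (W : Y.affineOpens) (U : (D.obj i).affineOpens) (_ : U.1 ≤ ψ ⁻¹ᵁ W.1)
      (g : Γ(Y, W.1)) (a : Γ(D.obj i, U.1)),
      x ∈ U.1 ∧ EffCartier.IsEqn IY W g ∧ EffCartier.IsEqn (J i) U a := by
    intro x
    obtain ⟨W, hxW, g, hg⟩ := EffCartier.isEffCartierIdeal_iff.mp hY (ψ x)
    obtain ⟨U, hxU, hU, a, ha⟩ := EffCartier.exists_isEqn (hJ i) (W := ψ ⁻¹ᵁ W.1) hxW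
    exact ⟨W, U, hU, g, a, hxU, hg, ha⟩
  choose W U hUW g a hxU hg ha using hpt
  obtain ⟨s, hs⟩ := isCompact_univ.elim_finite_subcover (fun x => ((U x).1 : Set (D.obj i)))
    (fun x => (U x).1.2) (fun x _ => Set.mem_iUnion.2 ⟨x, hxU x⟩)
  have key : ∀ x : s, ∃ (k : I) (φ : k ⟶ i), (D.map φ).app (U x).1 (a x) ∈
      Ideal.span {(D.map φ).app (U x).1 (ψ.appLE (W x).1 (U x).1 (hUW x) (g x))} := by
    intro x
    refine descend_mem D c hc (U x) _ _ ?_
    let V : c.pt.affineOpens := ⟨c.π.app i ⁻¹ᵁ (U x).1, (U x).2.preimage _⟩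
    have hV : V.1 ≤ (c.π.app i ≫ ψ) ⁻¹ᵁ (W x).1 := fun y hy => hUW x hy
    have h2 := Scheme.IdealSheafData.le_def.mp h V
    rw [EffCartier.comap_ideal_eq_span (ha x) _ V le_rfl, EffCartier.comap_ideal_eq_span (hg x) _ V hV] at h2
    have h3 := h2 (Ideal.mem_span_singleton_self _)
    rw [Scheme.Hom.app_eq_appLE]
    have h6 : (c.π.app i).appLE (U x).1 V.1 le_rfl (ψ.appLE (W x).1 (U x).1 (hUW x) (g x)) =
        (c.π.app i ≫ ψ).appLE (W x).1 V.1 hV (g x) := by
      show (ψ.appLE (W x).1 (U x).1 (hUW x) ≫ (c.π.app i).appLE (U x).1 V.1 le_rfl) (g x) = _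
      rw [Scheme.Hom.appLE_comp_appLE]
    exact (show Ideal.span _ = Ideal.span _ from congrArg (fun v => Ideal.span {v}) h6.symm) ▸ h3
  choose k φ hk using key
  obtain ⟨l, t, e, he⟩ := IsCofiltered.wideCospan φ
  refine ⟨l, t, ?_⟩
  refine Scheme.IdealSheafData.le_of_iSup_eq_top
    (fun x : s => (⟨D.map t ⁻¹ᵁ (U x).1, (U x).2.preimage _⟩ : (D.obj l).affineOpens)) ?_ fun x => ?_
  · rw [eq_top_iff]
    intro y _
    obtain ⟨x, hx, hy⟩ := Set.mem_iUnion₂.1 (hs (Set.mem_univ (D.map t y)))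
    exact Opens.mem_iSup.2 ⟨⟨x, hx⟩, hy⟩
  · rw [hmin l i t, EffCartier.comap_ideal_eq_span (ha x) (D.map t) _ le_rfl,
      EffCartier.comap_ideal_eq_span (hg x) (D.map t ≫ ψ) _ (fun y hy => hUW x hy),
      Ideal.span_singleton_le_iff_mem]
    obtain ⟨w, hw⟩ := Ideal.mem_span_singleton'.mp (hk x)
    have hle : D.map t ⁻¹ᵁ (U x).1 ≤ D.map (e x) ⁻¹ᵁ (D.map (φ x) ⁻¹ᵁ (U x).1) := by
      rw [← Scheme.Hom.comp_preimage, ← D.map_comp, he]
    have h4 := congrArg ((D.map (e x)).appLE _ _ hle) hw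
    rw [map_mul] at h4
    have h5 : ∀ v : Γ(D.obj i, (U x).1), (D.map (e x)).appLE _ _ hle ((D.map (φ x)).app (U x).1 v) =
        (D.map t).appLE (U x).1 _ le_rfl v := by
      intro v
      show (((D.map (φ x)).app (U x).1) ≫ (D.map (e x)).appLE _ _ hle) v = _
      rw [Scheme.Hom.app_eq_appLE, Scheme.Hom.appLE_comp_appLE]
      simp only [← D.map_comp, he]
    rw [h5, h5] at h4
    rw [← h4]
    refine Ideal.mem_span_singleton'.mpr ⟨(D.map (e x)).appLE _ _ hle w, congrArg _ ?_⟩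
    show _ = (ψ.appLE (W x).1 (U x).1 (hUW x) ≫ (D.map t).appLE (U x).1 _ le_rfl) (g x)
    rw [Scheme.Hom.appLE_comp_appLE]

/-- Let S be a quasi-compact quasi-separated scheme, (X_i, I_i) a cofiltered system of S-schemes, all
quasi-compact and quasi-separated, carrying quasi-coherent ideal sheaves of effective Cartier
divisors, with affine and minimal transition morphisms, and let X be its limit (as an S-scheme) with
projections π_i and modulus I = I_i.comap π_i for every i. Let Y ⟶ S be locally of finite type with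
Y quasi-compact and quasi-separated, carrying the ideal sheaf I_Y of an effective Cartier divisor.
Assume that either every transition morphism is scheme-theoretically dominant, or Y ⟶ S is locally
of finite presentation. Then every S-morphism φ : X ⟶ Y satisfying the modulus condition I ≤
I_Y.comap φ descends: for some i there is an S-morphism φ_i : X_i ⟶ Y satisfying the modulus
condition I_i ≤ I_Y.comap φ_i with π_i ≫ φ_i = φ. (The base is taken to be a scheme, that is the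
base modulus pair with empty modulus; morphisms over an arbitrary base modulus pair are among
these.) -/
theorem result {S : Scheme.{u}}
    [CompactSpace S] [QuasiSeparatedSpace S] {I : Type u} [SmallCategory I] [IsCofiltered I]
    (D : I ⥤ Over S) (c : Cone D) (hc : IsLimit c)
    [∀ (i j : I) (t : i ⟶ j), IsAffineHom (D.map t).left]
    [∀ i, CompactSpace (D.obj i).left] [∀ i, QuasiSeparatedSpace (D.obj i).left]
    (J : ∀ i, (D.obj i).left.IdealSheafData) (hJ : ∀ i, BlowUp.IsEffCartierIdeal (J i))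
    (hmin : ∀ (i j : I) (t : i ⟶ j), ModPair.IsMinimal (J i) (J j) (D.map t).left)
    (IX : c.pt.left.IdealSheafData) (hIX : ∀ i, IX = (J i).comap (c.π.app i).left)
    (Y : Over S) [CompactSpace Y.left] [QuasiSeparatedSpace Y.left] [LocallyOfFiniteType Y.hom]
    (IY : Y.left.IdealSheafData) (hY : BlowUp.IsEffCartierIdeal IY)
    (h : (∀ (i j : I) (t : i ⟶ j), IsSchemeTheoreticallyDominant (D.map t).left) ∨
      LocallyOfFinitePresentation Y.hom)
    (φ : c.pt ⟶ Y) (hφ : ModPair.IsAmbient IX IY φ.left) :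
    ∃ (i : I) (φi : D.obj i ⟶ Y), ModPair.IsAmbient (J i) IY φi.left ∧ c.π.app i ≫ φi = φ := by
  haveI := IsCofiltered.isConnected I
  let D' : I ⥤ Scheme.{u} := D ⋙ Over.forget S
  let c' : Cone D' := (Over.forget S).mapCone c
  have hc' : IsLimit c' := isLimitOfPreserves (Over.forget S) hc
  let t : D' ⟶ (Functor.const I).obj S :=
    { app := fun i => (D.obj i).hom, naturality := fun i j a => (Over.w (D.map a)).trans (Category.comp_id _).symm }
  haveI : ∀ {i j : I} (a : i ⟶ j), IsAffineHom (D'.map a) := fun {i j} a =>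
    inferInstanceAs (IsAffineHom (D.map a).left)
  haveI : ∀ i, CompactSpace ↥(D'.obj i) := fun i => inferInstanceAs (CompactSpace ↥(D.obj i).left)
  haveI : ∀ i, QuasiSeparatedSpace ↥(D'.obj i) := fun i =>
    inferInstanceAs (QuasiSeparatedSpace ↥(D.obj i).left)
  have ha : c'.π ≫ t = (Functor.const _).map (φ.left ≫ Y.hom) := by
    ext i
    show (c.π.app i).left ≫ (D.obj i).hom = φ.left ≫ Y.hom
    rw [Over.w (c.π.app i), Over.w φ]
    rfl
  obtain ⟨i, ψ, hψ, hψ'⟩ : ∃ (i : I) (ψ : (D.obj i).left ⟶ Y.left),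
      c'.π.app i ≫ ψ = φ.left ∧ ψ ≫ Y.hom = t.app i := by
    rcases h with h | h
    · haveI : ∀ {i j : I} (a : i ⟶ j), IsSchemeTheoreticallyDominant (D'.map a) := fun {i j} a => h i j a
      exact Groth.Agent.Descend19.exists_π_app_comp_eq_of_dominant D' t Y.hom c' hc' φ.left ha
    · haveI := h
      exact Scheme.exists_π_app_comp_eq_of_locallyOfFinitePresentation D' t Y.hom c' hc' φ.left ha
  obtain ⟨k, a, hk⟩ := exists_isAmbient D' c' hc' J hJ hmin IY hY i ψ (by
    rw [hψ]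
    exact (le_of_eq (hIX i).symm).trans hφ)
  refine ⟨k, D.map a ≫ Over.homMk ψ hψ', hk, ?_⟩
  rw [← Category.assoc, c.w]
  exact Over.OverMorphism.ext hψ

end Groth.Agent.S18745
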