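import Groth.Statements.S18759
import Groth.Agent.S2079
import Groth.Agent.Lib.LimH13.ClosedStage
import Groth.Agent.Lib.ModApprox2.Closed
import Groth.Agent.Lib.SchBasic.Basic

set_option autoImplicit false
set_option maxHeartbeats 1000000
set_option backward.isDefEq.respectTransparency false
set_option backward.isDefEq.respectTransparency.types false
set_option linter.style.haveILetI false
universe u
open CategoryTheory CategoryTheory.Limits AlgebraicGeometry TopologicalSpace
open ModPair

namespace Groth.Agent.S18759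

/-- Let (X, I_X) and (Y, I_Y) be modulus pairs with X, Y quasi-compact and quasi-separated, and f : X ⟶
Y an ambient morphism (modulus condition I_X ≤ I_Y.comap f) which is locally of finite type. Then X
⟶ Y is a cofiltered limit of Y-schemes X_i such that: (1) every X_i ⟶ Y is of finite presentation
and all transition maps X_i ⟶ X_j and projections X ⟶ X_i are closed immersions; (2) every X_i
carries a locally principal quasi-coherent ideal sheaf J_i whose pull-back to X is I_X and whose
pull-back along each transition map X_i ⟶ X_j of J_j is J_i; (3) every X_i ⟶ Y satisfies the modulus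
condition for J_i, and if f is minimal all X_i ⟶ Y are minimal; (4) if f is proper all X_i ⟶ Y are
proper; (5) if f is minimal and an isomorphism over the interior of Y, every X_i ⟶ Y is an
isomorphism over the interior of Y. (Part (5) is given here in the minimal case, where the interior
of (X_i, J_i) is the preimage of the interior of Y.) -/
theorem result {X Y : Scheme.{u}}
    [CompactSpace X] [QuasiSeparatedSpace X] [CompactSpace Y] [QuasiSeparatedSpace Y]
    (IX : X.IdealSheafData) (IY : Y.IdealSheafData) (hX : BlowUp.IsEffCartierIdeal IX)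
    (hY : BlowUp.IsEffCartierIdeal IY) (f : X ⟶ Y) (hf : ModPair.IsAmbient IX IY f)
    [LocallyOfFiniteType f] :
    ∃ (I : Type u) (_ : SmallCategory I) (_ : IsCofiltered I) (D : I ⥤ Over Y) (c : Cone D)
      (_ : IsLimit c) (e : c.pt ≅ Over.mk f) (J : ∀ i, (D.obj i).left.IdealSheafData),
      (∀ i, LocallyOfFinitePresentation (D.obj i).hom ∧ QuasiCompact (D.obj i).hom ∧
          QuasiSeparated (D.obj i).hom) ∧
        (∀ (i j : I) (t : i ⟶ j), IsClosedImmersion (D.map t).left) ∧
        (∀ i, IsClosedImmersion (c.π.app i).left) ∧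
        (∀ i, Curv2.IsLocPrincipal (J i)) ∧
        (∀ i, IX = (J i).comap (e.inv.left ≫ (c.π.app i).left)) ∧
        (∀ (i j : I) (t : i ⟶ j), J i = (J j).comap (D.map t).left) ∧
        (∀ i, ModPair.IsAmbient (J i) IY (D.obj i).hom) ∧
        (ModPair.IsMinimal IX IY f → ∀ i, ModPair.IsMinimal (J i) IY (D.obj i).hom) ∧
        (IsProper f → ∀ i, IsProper (D.obj i).hom) ∧
        (ModPair.IsMinimal IX IY f → IsIso (f ∣_ ModPair.interior IY) →
          ∀ i, IsIso ((D.obj i).hom ∣_ ModPair.interior IY)) := by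
  classical
  obtain ⟨X', f', j, h1, h2, h3, h4, h5, h6, h7, h8⟩ := Groth.Agent.LimH13.exists_closed_stage f
  haveI := h1; haveI := h2; haveI := h3; haveI := h4; haveI := h5; haveI := h6
  obtain ⟨T, hT, hTj⟩ := Groth.Agent.ModApprox2.exists_extension j IX
    (fun V => Groth.Agent.EffCartier.fg_ideal hX V)
  -- conditions
  have hIY : Groth.Agent.LimH13.IFG (IY.comap f') := Groth.Agent.ModApprox2.ifg_comap (fun V => Groth.Agent.EffCartier.fg_ideal hY V) f'
  have hcomp : (IY.comap f').comap j = IY.comap f := by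
    rw [← Scheme.IdealSheafData.comap_comp, h7]
  have hA : Groth.Agent.ModApprox2.Ev j.ker (fun a => T ≤ IY.comap f' ⊔ a) :=
    Groth.Agent.ModApprox2.ev_of_isAmbient j hT _ (by rw [hTj, hcomp]; exact hf)
  have hP := Groth.Agent.ModApprox2.ev_isLocPrincipal j T hT (hTj.symm ▸ hX)
  have hM : Groth.Agent.ModApprox2.Ev j.ker (fun a => ModPair.IsMinimal IX IY f → IY.comap f' ≤ T ⊔ a) := by
    by_cases hm : ModPair.IsMinimal IX IY f
    · exact (Groth.Agent.ModApprox2.ev_of_isAmbient j hIY T (by rw [hTj, hcomp]; exact hm.ge)).mono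
        fun a ha _ => ha
    · exact Groth.Agent.ModApprox2.Ev.of_forall fun a h => absurd h hm
  let W : X'.Opens := f' ⁻¹ᵁ ModPair.interior IY
  have hI : Groth.Agent.ModApprox2.Ev j.ker (fun a => IsIso (f ∣_ ModPair.interior IY) →
      a.comap W.ι = j.ker.comap W.ι) := by
    by_cases hi : IsIso (f ∣_ ModPair.interior IY)
    · have hW : IsCompact (W : Set X') := by
        haveI : QuasiCompact W.ι := Groth.Agent.EffCartier.quasiCompact_preimage_interior hY f'
        haveI : CompactSpace W.toScheme := QuasiCompact.compactSpace_of_compactSpace W.ι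
        exact isCompact_iff_compactSpace.2 this
      haveI : LocallyOfFinitePresentation (j ∣_ W) := by
        have e : (j ∣_ W) ≫ (f' ∣_ ModPair.interior IY) = (j ≫ f') ∣_ ModPair.interior IY :=
          (morphismRestrict_comp _ _ _).symm
        haveI : LocallyOfFinitePresentation ((j ∣_ W) ≫ (f' ∣_ ModPair.interior IY)) := by
          rw [e]
          subst h7
          haveI := hi
          infer_instance
        exact Groth.Agent.SchBasic.locallyOfFinitePresentation_of_comp (j ∣_ W) (f' ∣_ ModPair.interior IY)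
      exact (Groth.Agent.ModApprox2.ev_comap_eq j W hW).mono fun a ha _ => ha
    · exact Groth.Agent.ModApprox2.Ev.of_forall fun a h => absurd h hi
  -- properness
  haveI : IsFiltered (Groth.Agent.LimH13.FGIdx j.ker) :=
    haveI := Groth.Agent.LimH13.isDirected_fgIdx j.ker
    isFiltered_of_directed_le_nonempty _
  haveI : IsConnected (Groth.Agent.LimH13.FGIdx j.ker)ᵒᵖ := IsCofiltered.isConnected _
  have hQ : Groth.Agent.ModApprox2.Ev j.ker (fun a => IsProper f → IsProper (a.subschemeι ≫ f')) := by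
    by_cases hp : IsProper f
    · haveI := hp
      haveI hs' : IsSeparated f' := h8 inferInstance
      let E := Groth.Agent.LimH13.fgDiag j.ker ⋙ Over.forget X'
      let cX := (Over.forget X').mapCone (Groth.Agent.LimH13.fgCone j)
      have hcX : IsLimit cX := isLimitOfPreserves (Over.forget X') (Groth.Agent.LimH13.isLimitFGCone j)
      let h : E ⟶ (Functor.const (Groth.Agent.LimH13.FGIdx j.ker)ᵒᵖ).obj Y :=
        { app := fun a => a.unop.1.subschemeι ≫ f'
          naturality := fun a b φ => by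
            change ((Groth.Agent.LimH13.fgDiag j.ker).map φ).left ≫
              ((Groth.Agent.LimH13.fgDiag j.ker).obj b).hom ≫ f' =
              (((Groth.Agent.LimH13.fgDiag j.ker).obj a).hom ≫ f') ≫ 𝟙 Y
            rw [Category.comp_id, Over.w_assoc] }
      haveI : ∀ {a b} (φ : a ⟶ b), IsClosedImmersion (E.map φ) := fun φ =>
        Groth.Agent.LimH13.isClosedImmersion_fgDiag_map _ φ
      haveI hEc : ∀ a, CompactSpace (E.obj a) := fun a =>
        QuasiCompact.compactSpace_of_compactSpace a.unop.1.subschemeι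
      haveI hEq : ∀ a, QuasiSeparatedSpace (E.obj a) := fun a =>
        quasiSeparatedSpace_of_quasiSeparated a.unop.1.subschemeι
      haveI : ∀ a, LocallyOfFiniteType (h.app a) := fun a =>
        inferInstanceAs (LocallyOfFiniteType (a.unop.1.subschemeι ≫ f'))
      have hcl : ∀ {a b} (φ : a ⟶ b), IsClosedImmersion (Groth.Agent.LimH13.graphMap h φ) := fun {a b} φ => by
        haveI : IsClosedImmersion (Groth.Agent.LimH13.graphMap h φ ≫ pullback.fst _ _) := by
          rw [Groth.Agent.LimH13.graphMap_fst]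
          infer_instance
        haveI : IsSeparated
            (pullback.fst (h.app b) (((Functor.const (Groth.Agent.LimH13.FGIdx j.ker)ᵒᵖ).obj Y).map φ)) :=
          MorphismProperty.pullback_fst _ _ (inferInstanceAs (IsSeparated (𝟙 Y)))
        exact IsClosedImmersion.of_comp (Groth.Agent.LimH13.graphMap h φ) (pullback.fst _ _)
      obtain ⟨a₀⟩ : Nonempty (Groth.Agent.LimH13.FGIdx j.ker)ᵒᵖ := ⟨Opposite.op (Classical.arbitrary _)⟩
      haveI : IsSeparated (h.app a₀) := inferInstanceAs (IsSeparated (a₀.unop.1.subschemeι ≫ f'))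
      haveI : ∀ a, IsAffineHom ((𝟙 _ : (Functor.const (Groth.Agent.LimH13.FGIdx j.ker)ᵒᵖ).obj Y ⟶ _).app a) :=
        fun a => inferInstanceAs (IsAffineHom (𝟙 Y))
      haveI : ∀ {a b : (Groth.Agent.LimH13.FGIdx j.ker)ᵒᵖ} (φ : a ⟶ b),
          IsAffineHom (((Functor.const (Groth.Agent.LimH13.FGIdx j.ker)ᵒᵖ).obj Y).map φ) := fun φ =>
        inferInstanceAs (IsAffineHom (𝟙 Y))
      haveI : IsProper (f : cX.pt ⟶ (Groth.Agent.LimH13.constCone (I := (Groth.Agent.LimH13.FGIdx j.ker)ᵒᵖ) Y).pt) :=
        hp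
      obtain ⟨a₁, -, ha₁⟩ := Groth.Agent.LimH13.exists_isProper_app h (𝟙 _) hcX
        (Groth.Agent.LimH13.isLimitConstCone Y) hcl a₀ f fun a => by
          change f ≫ 𝟙 Y = IsClosedImmersion.lift a.unop.1.subschemeι j _ ≫ a.unop.1.subschemeι ≫ f'
          rw [Category.comp_id, IsClosedImmersion.lift_fac_assoc, h7]
      exact ⟨a₁.unop.1, a₁.unop.2.1, a₁.unop.2.2,
        fun a ha hle hak _ => ha₁ (Opposite.op ⟨a, ha, hak⟩) (homOfLE (show a₁.unop ≤ (⟨a, ha, hak⟩ : Groth.Agent.LimH13.FGIdx j.ker) from hle)).op⟩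
    · exact Groth.Agent.ModApprox2.Ev.of_forall fun a h => absurd h hp
  obtain ⟨b, hb1, hb2, hb⟩ := hA.and (hP.and (hM.and (hI.and hQ)))
  let b' : Groth.Agent.LimH13.FGIdx j.ker := ⟨b, hb1, hb2⟩
  let K := {a : Groth.Agent.LimH13.FGIdx j.ker // b' ≤ a}
  haveI hdir : IsDirectedOrder K := ⟨fun a c => ⟨⟨⟨a.1.1 ⊔ c.1.1, a.1.2.1.sup c.1.2.1,
    sup_le a.1.2.2 c.1.2.2⟩, le_trans a.2 (le_sup_left : a.1.1 ≤ a.1.1 ⊔ c.1.1)⟩,
    (le_sup_left : a.1.1 ≤ a.1.1 ⊔ c.1.1), (le_sup_right : c.1.1 ≤ a.1.1 ⊔ c.1.1)⟩⟩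
  haveI : Nonempty K := ⟨⟨b', le_rfl⟩⟩
  have hmono : Monotone (fun a : K => a.1) := fun a c h => h
  haveI : hmono.functor.Final := hmono.final_functor_iff.mpr fun a =>
    ⟨⟨⟨a.1 ⊔ b, a.2.1.sup hb1, sup_le a.2.2 hb2⟩, (le_sup_right : b ≤ a.1 ⊔ b)⟩,
      (le_sup_left : a.1 ≤ a.1 ⊔ b)⟩
  haveI : IsFiltered K := isFiltered_of_directed_le_nonempty K
  haveI : IsConnected Kᵒᵖ := IsCofiltered.isConnected _
  let c₀ := (Groth.Agent.LimH13.fgCone j).whisker hmono.functor.op
  have hc₀ : IsLimit c₀ := (Functor.Initial.isLimitWhiskerEquiv _ _).symm (Groth.Agent.LimH13.isLimitFGCone j)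
  have hgood := fun a : Kᵒᵖ => hb a.unop.1.1 a.unop.1.2.1 a.unop.2 a.unop.1.2.2
  have hker : ∀ a : X'.IdealSheafData, a.comap a.subschemeι = ⊥ := fun a => by
    have := Groth.Agent.ModApprox2.comap_ker_self a.subschemeι
    rwa [Scheme.IdealSheafData.ker_subschemeι] at this
  refine ⟨Kᵒᵖ, inferInstance, inferInstance, (hmono.functor.op ⋙ Groth.Agent.LimH13.fgDiag j.ker) ⋙ Over.map f',
    (Over.map f').mapCone c₀, ?_,
    Over.isoMk (Iso.refl X) (by change 𝟙 X ≫ f = j ≫ f'; rw [Category.id_comp, h7]),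
    fun a => T.comap a.unop.1.1.subschemeι, fun a => ?_,
    fun a c φ => Groth.Agent.LimH13.isClosedImmersion_fgDiag_map _ (hmono.functor.op.map φ),
    fun a => Groth.Agent.LimH13.isClosedImmersion_fgCone_π j (hmono.functor.op.obj a),
    fun a => (hgood a).2.1, fun a => ?_, fun a c φ => ?_, fun a => ?_, fun hm a => ?_, fun hp a => ?_,
    fun hm hi a => ?_⟩
  · refine isLimitOfReflects (Over.forget Y) ?_
    exact isLimitOfPreserves (Over.forget X') hc₀
  · haveI := Groth.Agent.LimH13.locallyOfFinitePresentation_subschemeι a.unop.1.2.1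
    exact ⟨inferInstanceAs (LocallyOfFinitePresentation (a.unop.1.1.subschemeι ≫ f')),
      inferInstanceAs (QuasiCompact (a.unop.1.1.subschemeι ≫ f')),
      inferInstanceAs (QuasiSeparated (a.unop.1.1.subschemeι ≫ f'))⟩
  · change IX = (T.comap a.unop.1.1.subschemeι).comap (𝟙 X ≫ IsClosedImmersion.lift a.unop.1.1.subschemeι j _)
    rw [Category.id_comp, ← Scheme.IdealSheafData.comap_comp, IsClosedImmersion.lift_fac, hTj]
  · change T.comap a.unop.1.1.subschemeι = (T.comap c.unop.1.1.subschemeι).comap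
      (Scheme.IdealSheafData.inclusion (φ.unop.le : c.unop.1.1 ≤ a.unop.1.1))
    rw [← Scheme.IdealSheafData.comap_comp, Scheme.IdealSheafData.inclusion_subschemeι]
  · change T.comap a.unop.1.1.subschemeι ≤ IY.comap (a.unop.1.1.subschemeι ≫ f')
    have := Scheme.IdealSheafData.comap_mono a.unop.1.1.subschemeι (hgood a).1
    simp only [Scheme.IdealSheafData.comap_sup, hker, sup_bot_eq] at this
    rwa [Scheme.IdealSheafData.comap_comp]
  · change T.comap a.unop.1.1.subschemeι = IY.comap (a.unop.1.1.subschemeι ≫ f')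
    have h' := Scheme.IdealSheafData.comap_mono a.unop.1.1.subschemeι (hgood a).1
    have h'' := Scheme.IdealSheafData.comap_mono a.unop.1.1.subschemeι ((hgood a).2.2.1 hm)
    simp only [Scheme.IdealSheafData.comap_sup, hker, sup_bot_eq] at h' h''
    rw [Scheme.IdealSheafData.comap_comp]
    exact le_antisymm h' h''
  · exact (hgood a).2.2.2.2 hp
  · change IsIso ((a.unop.1.1.subschemeι ≫ f') ∣_ ModPair.interior IY)
    have he := (hgood a).2.2.2.1 hi
    have hk : (a.unop.1.1.subschemeι ∣_ W).ker = (j ∣_ W).ker := by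
      rw [← Groth.Agent.LimH13.ker_eq_of_isPullback (isPullback_morphismRestrict j W),
        ← Groth.Agent.LimH13.ker_eq_of_isPullback (isPullback_morphismRestrict a.unop.1.1.subschemeι W),
        Scheme.IdealSheafData.ker_subschemeι]
      exact he
    haveI := IsClosedImmersion.isIso_lift (a.unop.1.1.subschemeι ∣_ W) (j ∣_ W) hk
    rw [morphismRestrict_comp]
    have e : IsClosedImmersion.lift (a.unop.1.1.subschemeι ∣_ W) (j ∣_ W) hk.le ≫
        (a.unop.1.1.subschemeι ∣_ W) ≫ (f' ∣_ ModPair.interior IY) = (j ≫ f') ∣_ ModPair.interior IY := by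
      rw [IsClosedImmersion.lift_fac_assoc, morphismRestrict_comp]
    haveI : IsIso (IsClosedImmersion.lift (a.unop.1.1.subschemeι ∣_ W) (j ∣_ W) hk.le ≫
        (a.unop.1.1.subschemeι ∣_ W) ≫ (f' ∣_ ModPair.interior IY)) := by
      rw [e]
      subst h7
      exact hi
    exact IsIso.of_isIso_comp_left (IsClosedImmersion.lift (a.unop.1.1.subschemeι ∣_ W) (j ∣_ W) hk.le) _

end Groth.Agent.S18759
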