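import Groth.Statements.S18744
import Groth.Agent.Lib.EffCartier.Mul
import Mathlib.AlgebraicGeometry.AffineTransitionLimit

set_option autoImplicit false
universe u
open CategoryTheory CategoryTheory.Limits AlgebraicGeometry TopologicalSpace
open ModPair

namespace Groth.Agent.S18744

/-- Let (X_i, I_i) be a cofiltered system of schemes equipped with quasi-coherent ideal sheaves of
effective Cartier divisors, with affine and minimal transition morphisms (the modulus of X_i is the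
pull-back of the modulus of X_j along each transition morphism X_i ⟶ X_j), and let X be its limit
with projections π_i. Then the pulled-back ideal I_i.comap π_i is the ideal sheaf of an effective
Cartier divisor on X for every i; with this modulus X is a modulus pair mapping minimally to each
(X_i, I_i). (The source allows the conditions on the transition morphisms to hold only beyond some
index; here they are assumed throughout.) -/
theorem result {I : Type u}
    [SmallCategory I] [IsCofiltered I] (D : I ⥤ Scheme.{u}) (c : Cone D) (hc : IsLimit c)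
    [∀ (i j : I) (t : i ⟶ j), IsAffineHom (D.map t)]
    (J : ∀ i, (D.obj i).IdealSheafData) (hJ : ∀ i, BlowUp.IsEffCartierIdeal (J i))
    (hmin : ∀ (i j : I) (t : i ⟶ j), ModPair.IsMinimal (J i) (J j) (D.map t)) (i : I) :
    BlowUp.IsEffCartierIdeal ((J i).comap (c.π.app i)) := by
  have haff : ∀ {a b : I} (t : a ⟶ b), IsAffineHom (D.map t) := fun t => inferInstance
  have := isAffineHom_π_app D c hc i
  refine EffCartier.isEffCartierIdeal_iff.mpr fun x => ?_
  obtain ⟨U, hxU, f, hf⟩ := EffCartier.isEffCartierIdeal_iff.mp (hJ i) (c.π.app i x)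
  let V : c.pt.affineOpens := ⟨c.π.app i ⁻¹ᵁ U.1, U.2.preimage _⟩
  refine ⟨V, hxU, (c.π.app i).appLE U.1 V.1 le_rfl f, ?_, EffCartier.comap_ideal_eq_span hf _ V le_rfl⟩
  rw [mem_nonZeroDivisors_iff_right]
  intro z hz
  have (j : Over i) : IsAffine ((opensDiagram D i U.1).obj j) := U.2.preimage (D.map j.hom)
  obtain ⟨j, t₀, ht₀⟩ := exists_appTop_π_eq_of_isAffine_of_isLimit _ _ (isLimitOpensCone D c hc i U.1)
    ((c.π.app i ⁻¹ᵁ U.1).topIso.inv z)
  let t : Γ(D.obj j.left, D.map j.hom ⁻¹ᵁ U.1) := (D.map j.hom ⁻¹ᵁ U.1).topIso.hom t₀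
  have he : c.π.app i ⁻¹ᵁ U.1 ≤ c.π.app j.left ⁻¹ᵁ (D.map j.hom ⁻¹ᵁ U.1) := by
    rw [← Scheme.Hom.comp_preimage, c.w]
  have ht : (c.π.app j.left).appLE _ _ he t = z := by
    have h := congrArg (fun w => (c.π.app i ⁻¹ᵁ U.1).topIso.hom w) ht₀
    simp only [Iso.inv_hom_id_apply] at h
    refine Eq.trans ?_ h
    show _ = ((((c.π.app j.left).resLE _ _ he).appTop ≫ (c.π.app i ⁻¹ᵁ U.1).topIso.hom) t₀)
    rw [Scheme.Hom.appTop, Scheme.Hom.resLE_app_top]
    simp only [Category.assoc, Iso.inv_hom_id, Category.comp_id]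
    rfl
  let fj : Γ(D.obj j.left, D.map j.hom ⁻¹ᵁ U.1) := (D.map j.hom).app U.1 f
  have h0 : (c.π.app j.left).app (D.map j.hom ⁻¹ᵁ U.1) (t * fj) = 0 := by
    have heq : c.π.app j.left ⁻¹ᵁ (D.map j.hom ⁻¹ᵁ U.1) = c.π.app i ⁻¹ᵁ U.1 := by
      rw [← Scheme.Hom.comp_preimage, c.w]
    apply (ConcreteCategory.bijective_of_isIso (c.pt.presheaf.map (eqToHom heq.symm).op)).1
    rw [map_zero]
    refine Eq.trans ?_ hz
    show (c.π.app j.left).appLE _ _ he (t * fj) = _
    rw [map_mul, ht]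
    congr 1
    show (((D.map j.hom).app U.1) ≫ (c.π.app j.left).appLE _ _ he) f = _
    rw [Scheme.Hom.app_eq_appLE, Scheme.Hom.appLE_comp_appLE]
    simp only [c.w]
    rfl
  obtain ⟨k, φ, hk⟩ := exists_app_map_eq_zero_of_isLimit D c hc
    ((U.2.preimage (D.map j.hom)).isCompact) (t * fj) h0
  let W : (D.obj k).affineOpens := ⟨D.map φ ⁻¹ᵁ (D.map j.hom ⁻¹ᵁ U.1), (U.2.preimage (D.map j.hom)).preimage _⟩
  have hWU : W.1 ≤ D.map (φ ≫ j.hom) ⁻¹ᵁ U.1 := by rw [Functor.map_comp, Scheme.Hom.comp_preimage]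
  have hgen : (J k).ideal W = Ideal.span {(D.map φ).app (D.map j.hom ⁻¹ᵁ U.1) fj} := by
    rw [show J k = (J i).comap (D.map (φ ≫ j.hom)) from hmin k i _, EffCartier.comap_ideal_eq_span hf _ W hWU]
    congr 2
    have key : (D.map (φ ≫ j.hom)).appLE U.1 W.1 hWU =
        (D.map j.hom).app U.1 ≫ (D.map φ).app (D.map j.hom ⁻¹ᵁ U.1) := by
      rw [Scheme.Hom.app_eq_appLE, Scheme.Hom.app_eq_appLE, Scheme.Hom.appLE_comp_appLE]
      simp only [Functor.map_comp]
      rfl
    rw [key]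
    rfl
  have hzero : (D.map φ).app (D.map j.hom ⁻¹ᵁ U.1) t = 0 := by
    refine (mem_nonZeroDivisors_iff_right.mp
      (EffCartier.mem_nonZeroDivisors_of_ideal_eq (hJ k) W _ hgen)) _ ?_
    rw [← map_mul]; exact hk
  have hle : c.π.app i ⁻¹ᵁ U.1 ≤ c.π.app k ⁻¹ᵁ W.1 := by
    show _ ≤ c.π.app k ⁻¹ᵁ (D.map φ ⁻¹ᵁ (D.map j.hom ⁻¹ᵁ U.1))
    rw [← Scheme.Hom.comp_preimage, c.w]; exact he
  rw [← ht]
  have key : (D.map φ).app (D.map j.hom ⁻¹ᵁ U.1) ≫ (c.π.app k).appLE W.1 _ hle =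
      (c.π.app j.left).appLE _ _ he := by
    rw [Scheme.Hom.app_eq_appLE, Scheme.Hom.appLE_comp_appLE]
    simp only [c.w]
  rw [← key]
  show (c.π.app k).appLE W.1 _ hle ((D.map φ).app _ t) = 0
  rw [hzero]
  exact map_zero _

end Groth.Agent.S18744
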