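import Groth.Statements.S15345
import Groth.Agent.Lib.SpecLimit12.Basic

open CategoryTheory Limits AlgebraicGeometry
set_option backward.isDefEq.respectTransparency.types false

set_option autoImplicit false
universe u
open CategoryTheory CategoryTheory.Limits AlgebraicGeometry
open Mor

namespace Groth.Agent.S15345

/-- Let f : Y ⟶ X be a morphism of schemes, X quasi-separated. If for every morphism X' ⟶ X locally of
finite type the projection Y ×_X X' ⟶ X' reflects specializations (the image of y₁ specializing to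
the image of y₀ forces y₁ to specialize to y₀), then the same holds for every morphism X' ⟶ X. (The
published statement assumes moreover that f is a monomorphism; this row does not.) -/
theorem result {X Y : Scheme.{u}} [QuasiSeparatedSpace ↥X]
    (f : Y ⟶ X)
    (h : ∀ (X' : Scheme.{u}) (g : X' ⟶ X) [LocallyOfFiniteType g] (y₀ y₁ : ↥(pullback f g)),
      (pullback.snd f g).base y₁ ⤳ (pullback.snd f g).base y₀ → y₁ ⤳ y₀) :
    ∀ (X' : Scheme.{u}) (g : X' ⟶ X) (y₀ y₁ : ↥(pullback f g)),
        (pullback.snd f g).base y₁ ⤳ (pullback.snd f g).base y₀ → y₁ ⤳ y₀ := by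
  intro X' g y₀ y₁ hy
  obtain ⟨U, hU, hxU, -⟩ := exists_isAffineOpen_mem_and_subset
    (x := g (pullback.snd f g y₀)) (U := ⊤) trivial
  obtain ⟨U', hU', hxU', hU'le⟩ := exists_isAffineOpen_mem_and_subset
    (x := pullback.snd f g y₀) (U := g ⁻¹ᵁ U) hxU
  have e' : U' ≤ g ⁻¹ᵁ U := hU'le
  obtain ⟨W, hW, hyW, hWle⟩ := exists_isAffineOpen_mem_and_subset
    (x := pullback.fst f g y₀) (U := f ⁻¹ᵁ U) (by
      show f (pullback.fst f g y₀) ∈ U
      rw [← Scheme.Hom.comp_apply, pullback.condition]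
      exact hxU)
  have e : W ≤ f ⁻¹ᵁ U := hWle
  let c := hU'.fromSpec
  let M : pullback f (c ≫ g) ⟶ pullback f g :=
    pullback.map _ _ _ _ (𝟙 _) c (𝟙 _) (by simp) (by simp)
  have hM1 : M ≫ pullback.fst f g = pullback.fst _ _ ≫ 𝟙 _ := pullback.lift_fst ..
  have hM2 : M ≫ pullback.snd f g = pullback.snd _ _ ≫ c := pullback.lift_snd ..
  have : IsOpenImmersion M := MorphismProperty.pullbackMap (P := @IsOpenImmersion)
    (inferInstance : IsOpenImmersion (𝟙 _)) (inferInstance : IsOpenImmersion c)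
    (Category.id_comp _).symm rfl
  have hMr : Set.range M = pullback.snd f g ⁻¹' U' := by
    show Set.range (pullback.map (C := Scheme) _ _ _ _ _ _ _ _ _) = _
    rw [Scheme.Pullback.range_map, show Set.range c = U' from hU'.range_fromSpec]
    simp
  obtain ⟨z₀, rfl⟩ : y₀ ∈ Set.range M := hMr ▸ hxU'
  obtain ⟨z₁, rfl⟩ : y₁ ∈ Set.range M := hMr ▸ hy.mem_open U'.isOpen hxU'
  refine Specializes.map ?_ M.continuous
  algebraize [(f.appLE U W e).hom, (g.appLE U U' e').hom]
  refine SpecLimit12.specializes_of_forall_fg (B := Γ(X, U)) (C := Γ(Y, W)) (R := Γ(X', U')) f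
    hU.fromSpec hW.fromSpec ?_ (c ≫ g) ?_ h z₀ z₁ ?_ ?_
  · exact (IsAffineOpen.SpecMap_appLE_fromSpec f hU hW e).symm
  · exact (IsAffineOpen.SpecMap_appLE_fromSpec g hU hU' e').symm
  · rw [hW.range_fromSpec]
    rw [← Scheme.Hom.comp_apply, hM1, Category.comp_id] at hyW
    exact hyW
  · refine c.isEmbedding.isInducing.specializes_iff.1 ?_
    have h1 : ∀ z, c (pullback.snd f (c ≫ g) z) = pullback.snd f g (M z) := fun z => by
      rw [← Scheme.Hom.comp_apply, ← hM2, Scheme.Hom.comp_apply]
    rw [h1, h1]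
    exact hy

end Groth.Agent.S15345
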