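import Groth.Statements.S15349
import Mathlib.AlgebraicGeometry.Noetherian
import Mathlib.AlgebraicGeometry.Morphisms.FlatMono
import Mathlib.AlgebraicGeometry.Morphisms.UniversallyInjective
import Mathlib.AlgebraicGeometry.ResidueField
import Mathlib.RingTheory.Spectrum.Prime.Noetherian
import Mathlib.RingTheory.Spectrum.Prime.RingHom

open CategoryTheory Limits AlgebraicGeometry
set_option backward.isDefEq.respectTransparency.types false

set_option autoImplicit false
universe u
open CategoryTheory CategoryTheory.Limits AlgebraicGeometry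
open Mor

namespace Groth.Agent.S15349

/-- Let X be a locally Noetherian scheme and f : Y ⟶ X a monomorphism locally of finite presentation
such that, for every integral domain A and every morphism s : Spec A ⟶ X for which the points of a
dense subset of Spec A lift to Y (the residue field of each such point maps to Y over s), some
nonempty open subscheme of Spec A maps to Y over s. Then f is quasi-compact. (The published remark
is for a representable morphism of algebraic stacks; this row is the case of schemes.) -/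
theorem result {X Y : Scheme.{u}} [IsLocallyNoetherian X]
    (f : Y ⟶ X) [LocallyOfFinitePresentation f] [Mono f]
    (hc : ∀ (A : Type u) [CommRing A] [IsDomain A] (s : Spec (CommRingCat.of A) ⟶ X) (D : Set ↥(Spec (CommRingCat.of A))),
        Dense D →
        (∀ p ∈ D, ∃ l : Spec ((Spec (CommRingCat.of A)).residueField p) ⟶ Y,
            l ≫ f = (Spec (CommRingCat.of A)).fromSpecResidueField p ≫ s) →
          ∃ U : (Spec (CommRingCat.of A)).Opens, (U : Set ↥(Spec (CommRingCat.of A))).Nonempty ∧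
            ∃ l : (U : Scheme.{u}) ⟶ Y, l ≫ f = U.ι ≫ s) :
    QuasiCompact f := by
  refine ⟨fun W hWo hWc => ?_⟩
  obtain ⟨t, ht, hWt⟩ : ∃ t : Set X.affineOpens, t.Finite ∧ W = ⋃ U ∈ t, (U.1 : Set X) :=
    isCompact_and_isOpen_iff_finite_and_eq_biUnion_affineOpens.1 ⟨hWc, hWo⟩
  rw [hWt, Set.preimage_iUnion₂]
  refine ht.isCompact_biUnion fun U _ => ?_
  have hU := U.2
  have : IsNoetherianRing Γ(X, U.1) := IsLocallyNoetherian.component_noetherian U
  let j := hU.fromSpec
  suffices h : ∀ I : Ideal Γ(X, U.1), IsCompact (f ⁻¹' (j '' PrimeSpectrum.zeroLocus I)) by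
    have h0 := h ⊥
    rw [Submodule.bot_coe, PrimeSpectrum.zeroLocus_singleton_zero] at h0
    erw [Set.image_univ, hU.range_fromSpec] at h0
    exact h0
  intro I
  induction I using IsWellFounded.induction (α := Ideal Γ(X, U.1)) (· > ·) with
  | ind I ih =>
  have hsup : ∀ a ∉ I, IsCompact (f ⁻¹' (j '' PrimeSpectrum.zeroLocus
      ((I ⊔ Ideal.span {a} : Ideal Γ(X, U.1)) : Set Γ(X, U.1)))) :=
    fun a ha => ih _ (lt_of_le_of_ne le_sup_left fun e =>
      ha (e.symm ▸ Ideal.mem_sup_right (Ideal.mem_span_singleton_self a)))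
  by_cases htop : I = ⊤
  · subst htop
    rw [Submodule.top_coe, PrimeSpectrum.zeroLocus_univ]
    erw [Set.image_empty]
    rw [Set.preimage_empty]
    exact isCompact_empty
  by_cases hP : I.IsPrime
  swap
  · obtain ⟨a, ha, b, hb, hab⟩ := ((Ideal.not_isPrime_iff).1 hP).resolve_left htop
    have : PrimeSpectrum.zeroLocus (I : Set Γ(X, U.1)) =
        PrimeSpectrum.zeroLocus ((I ⊔ Ideal.span {a} : Ideal Γ(X, U.1)) : Set Γ(X, U.1)) ∪
          PrimeSpectrum.zeroLocus ((I ⊔ Ideal.span {b} : Ideal Γ(X, U.1)) : Set Γ(X, U.1)) := by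
      ext p
      simp only [PrimeSpectrum.mem_zeroLocus, Set.mem_union, SetLike.coe_subset_coe, sup_le_iff,
        Ideal.span_le, Set.singleton_subset_iff]
      exact ⟨fun h => (p.isPrime.mem_or_mem (h hab)).imp (fun h' => ⟨h, h'⟩) (fun h' => ⟨h, h'⟩),
        fun h => h.elim (·.1) (·.1)⟩
    rw [this]
    erw [Set.image_union]
    rw [Set.preimage_union]
    exact (hsup a ha).union (hsup b hb)
  let A : Type u := Γ(X, U.1) ⧸ I
  have : IsDomain A := (Ideal.Quotient.isDomain_iff_prime I).2 hP
  let s : Spec (CommRingCat.of A) ⟶ X :=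
    Spec.map (CommRingCat.ofHom (Ideal.Quotient.mk I)) ≫ j
  have hrs : Set.range s = j '' PrimeSpectrum.zeroLocus (I : Set Γ(X, U.1)) := by
    rw [Scheme.Hom.comp_base, TopCat.coe_comp, Set.range_comp]
    congr 1
    exact (range_comap_of_surjective _ _ Ideal.Quotient.mk_surjective).trans
      (by rw [Ideal.mk_ker])
  let D : Set ↥(Spec (CommRingCat.of A)) := s ⁻¹' Set.range f
  -- a nonzero element outside whose zero locus the preimage is compact
  suffices h : ∃ a ∉ I, ∃ C : Set Y, IsCompact C ∧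
      f ⁻¹' (j '' PrimeSpectrum.zeroLocus (I : Set Γ(X, U.1))) =
        C ∪ f ⁻¹' (j '' PrimeSpectrum.zeroLocus
          ((I ⊔ Ideal.span {a} : Ideal Γ(X, U.1)) : Set Γ(X, U.1))) by
    obtain ⟨a, ha, C, hC, he⟩ := h
    rw [he]
    exact hC.union (hsup a ha)
  have hzero : ∀ (a : Γ(X, U.1)) (p : ↥(Spec (CommRingCat.of A))),
      p ∈ PrimeSpectrum.zeroLocus {Ideal.Quotient.mk I a} →
      s p ∈ j '' PrimeSpectrum.zeroLocus
        ((I ⊔ Ideal.span {a} : Ideal Γ(X, U.1)) : Set Γ(X, U.1)) := by
    intro a p hp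
    refine ⟨Spec.map (CommRingCat.ofHom (Ideal.Quotient.mk I)) p, ?_, rfl⟩
    have hp' : Ideal.Quotient.mk I a ∈ p.asIdeal := Set.singleton_subset_iff.1 hp
    refine SetLike.coe_subset_coe.2 (sup_le (fun x hx => ?_)
      (Ideal.span_le.2 (Set.singleton_subset_iff.2 hp')))
    show Ideal.Quotient.mk I x ∈ p.asIdeal
    rw [Ideal.Quotient.eq_zero_iff_mem.2 hx]
    exact p.asIdeal.zero_mem
  have hsub : ∀ a : Γ(X, U.1), f ⁻¹' (j '' PrimeSpectrum.zeroLocus
      ((I ⊔ Ideal.span {a} : Ideal Γ(X, U.1)) : Set Γ(X, U.1))) ⊆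
        f ⁻¹' (j '' PrimeSpectrum.zeroLocus (I : Set Γ(X, U.1))) := fun a =>
    Set.preimage_mono (Set.image_mono (PrimeSpectrum.zeroLocus_anti_mono (SetLike.coe_subset_coe.2
      le_sup_left)))
  by_cases hD : Dense D
  · have hlift : ∀ p ∈ D, ∃ l : Spec ((Spec (CommRingCat.of A)).residueField p) ⟶ Y,
        l ≫ f = (Spec (CommRingCat.of A)).fromSpecResidueField p ≫ s := by
      rintro p ⟨y, hy⟩
      let g := (Spec (CommRingCat.of A)).fromSpecResidueField p ≫ s
      have hne : Surjective (pullback.snd f g) := by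
        refine ⟨fun q => ?_⟩
        have hq : f y = g q := by
          rw [Scheme.Hom.comp_apply, Scheme.fromSpecResidueField_apply, hy]
        obtain ⟨z, -, hz⟩ := Scheme.Pullback.exists_preimage_pullback (f := f) (g := g) y q hq
        exact ⟨z, hz⟩
      have : IsOpenImmersion (pullback.snd f g) := IsOpenImmersion.of_flat_of_mono _
      have : IsIso (pullback.snd f g) :=
        isIso_of_isOpenImmersion_of_opensRange_eq_top _ (TopologicalSpace.Opens.ext
          (Set.range_eq_univ.2 hne.1))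
      exact ⟨inv (pullback.snd f g) ≫ pullback.fst f g, by
        rw [Category.assoc, pullback.condition, IsIso.inv_hom_id_assoc]⟩
    obtain ⟨O, hOne, l, hl⟩ := hc A s D hD hlift
    obtain ⟨q, hq⟩ := hOne
    obtain ⟨_, ⟨b, rfl⟩, hqb, hbO⟩ :=
      PrimeSpectrum.isTopologicalBasis_basic_opens.exists_subset_of_mem_open hq O.isOpen
    obtain ⟨a, rfl⟩ := Ideal.Quotient.mk_surjective b
    have : CompactSpace O.toScheme := isCompact_iff_compactSpace.1
      (haveI : IsNoetherianRing A := Ideal.Quotient.isNoetherianRing I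
       TopologicalSpace.NoetherianSpace.isCompact (α := PrimeSpectrum A) _)
    refine ⟨a, fun ha => hqb ?_, Set.range l, isCompact_range l.continuous, ?_⟩
    · show Ideal.Quotient.mk I a ∈ q.asIdeal
      rw [Ideal.Quotient.eq_zero_iff_mem.2 ha]
      exact q.asIdeal.zero_mem
    refine subset_antisymm (fun y hy => ?_) (Set.union_subset ?_ (hsub a))
    · have hy' := hy
      rw [← hrs] at hy'
      obtain ⟨p, hp⟩ := hy'
      by_cases hpb : p ∈ PrimeSpectrum.zeroLocus {Ideal.Quotient.mk I a}
      · exact Or.inr (show f y ∈ _ from hp ▸ hzero a p hpb)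
      · have hpO : p ∈ O := hbO (fun h => hpb (Set.singleton_subset_iff.2 h))
        refine Or.inl ⟨⟨p, hpO⟩, f.injective ?_⟩
        rw [← Scheme.Hom.comp_apply, hl, Scheme.Hom.comp_apply, ← hp]
        rfl
    · rintro _ ⟨o, rfl⟩
      rw [← hrs, Set.mem_preimage, ← Scheme.Hom.comp_apply, hl]
      exact ⟨_, rfl⟩
  · rw [dense_iff_closure_eq, Set.eq_univ_iff_forall] at hD
    push Not at hD
    obtain ⟨q, hq⟩ := hD
    obtain ⟨_, ⟨b, rfl⟩, hqb, hbD⟩ :=
      PrimeSpectrum.isTopologicalBasis_basic_opens.exists_subset_of_mem_open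
        (Set.mem_compl hq) isClosed_closure.isOpen_compl
    obtain ⟨a, rfl⟩ := Ideal.Quotient.mk_surjective b
    refine ⟨a, fun ha => hqb ?_, ∅, isCompact_empty, ?_⟩
    · show Ideal.Quotient.mk I a ∈ q.asIdeal
      rw [Ideal.Quotient.eq_zero_iff_mem.2 ha]
      exact q.asIdeal.zero_mem
    rw [Set.empty_union]
    refine subset_antisymm (fun y hy => ?_) (hsub a)
    rw [← hrs] at hy
    obtain ⟨p, hp⟩ := hy
    refine (hp ▸ hzero a p ?_ : f y ∈ _)
    by_contra hpb
    exact hbD (fun h => hpb (Set.singleton_subset_iff.2 h))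
      (subset_closure (show p ∈ D from ⟨y, hp.symm⟩))

end Groth.Agent.S15349
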