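import Groth.Statements.S7194
import Groth.Agent.Lib.MTRigid29.MorScheme

set_option autoImplicit false
universe u
open CategoryTheory AlgebraicGeometry
open FlatMor

namespace Groth.Agent.S7194


open Limits MonoidalCategory CartesianMonoidalCategory Opposite in
set_option backward.isDefEq.respectTransparency false in
set_option backward.isDefEq.respectTransparency.types false in
theorem aux {Z X S : Scheme.{u}} (g : Z ⟶ S) (f : X ⟶ S) [IsFinite g] [Flat g]
    [LocallyOfFinitePresentation g] [IsAffineHom f] :
    ∃ W : Over S, IsAffineHom W.hom ∧ Nonempty ((Flatn.morS g f).RepresentableBy W) := by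
  let A : Over S := Over.mk g
  let B : Over S := Over.mk f
  haveI : IsFinite A.hom := ‹IsFinite g›
  haveI : Flat A.hom := ‹Flat g›
  haveI : LocallyOfFinitePresentation A.hom := ‹LocallyOfFinitePresentation g›
  haveI : IsAffineHom B.hom := ‹IsAffineHom f›
  obtain ⟨M, ev, hM, -, -, hu⟩ := Groth.Agent.MTRigid29.exists_morScheme A B
  let σ : ∀ T : Over S, (Over.map g).obj ((Over.pullback g).obj T) ≅ A ⊗ T := fun T =>
    { hom := lift (Over.homMk (pullback.snd T.hom g) rfl : (Over.map g).obj ((Over.pullback g).obj T) ⟶ A)
        (Over.homMk (pullback.fst T.hom g) pullback.condition)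
      inv := Over.homMk (pullback.lift (snd A T).left (fst A T).left
        ((Over.w (snd A T)).trans (Over.w (fst A T)).symm)) (by
          show pullback.lift _ _ _ ≫ pullback.snd T.hom g ≫ g = _
          rw [pullback.lift_snd_assoc]; exact Over.w (fst A T))
      hom_inv_id := by
        apply Over.OverMorphism.ext
        apply pullback.hom_ext
        · simp only [Over.comp_left, Over.homMk_left, Category.assoc, pullback.lift_fst, Over.id_left]
          rw [← Over.comp_left, lift_snd]; simp
        · simp only [Over.comp_left, Over.homMk_left, Category.assoc, pullback.lift_snd, Over.id_left]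
          rw [← Over.comp_left, lift_fst]; simp
      inv_hom_id := by
        ext1
        · rw [Category.assoc, lift_fst]
          apply Over.OverMorphism.ext
          simp
        · rw [Category.assoc, lift_snd]
          apply Over.OverMorphism.ext
          simp }
  have hσ : ∀ {T T' : Over S} (w : T' ⟶ T), (Over.map g).map ((Over.pullback g).map w) ≫ (σ T).hom =
      (σ T').hom ≫ (A ◁ w) := by
    intro T T' w
    apply CartesianMonoidalCategory.hom_ext
    · simp only [σ, Category.assoc, lift_fst, whiskerLeft_fst]
      apply Over.OverMorphism.ext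
      simp
    · simp only [σ, Category.assoc, lift_snd, whiskerLeft_snd, lift_snd_assoc]
      apply Over.OverMorphism.ext
      simp
  let E : ∀ T : Over S, (T ⟶ M) → (Flatn.morS g f).obj (op T) := fun T w => (σ T).hom ≫ (A ◁ w) ≫ ev
  have hE : ∀ T, Function.Bijective (E T) := by
    intro T
    refine ⟨fun w w' h => ?_, fun b => ?_⟩
    · exact (hu T _).unique ((Iso.cancel_iso_hom_left (σ T) _ _).1 h) rfl
    · obtain ⟨v, hv, -⟩ := hu T ((σ T).inv ≫ b)
      exact ⟨v, by show (σ T).hom ≫ (A ◁ v) ≫ ev = b; rw [hv, Iso.hom_inv_id_assoc]⟩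
  refine ⟨M, hM, ⟨{ homEquiv := fun {T} => Equiv.ofBijective _ (hE T), homEquiv_comp := fun {T T'} w w' => ?_ }⟩⟩
  show (σ T).hom ≫ (A ◁ (w ≫ w')) ≫ ev = (Over.map g).map ((Over.pullback g).map w) ≫ (σ T').hom ≫ (A ◁ w') ≫ ev
  rw [reassoc_of% (hσ w), whiskerLeft_comp, Category.assoc]



/-- For a finite locally free morphism Z → S and an affine morphism X → S, the functor on S-schemes
sending T to the set of S-morphisms T ×_S Z → X is represented by an S-scheme W whose structure
morphism W → S is affine. -/
theorem result {Z X S : Scheme.{u}} (g : Z ⟶ S) (f : X ⟶ S) (hg : Mor2.IsFinLocFree g) [IsAffineHom f] :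
    ∃ W : Over S, IsAffineHom W.hom ∧ Nonempty ((Flatn.morS g f).RepresentableBy W) := by
  haveI : IsFinite g := hg.1
  haveI : Flat g := hg.2.1
  haveI : LocallyOfFinitePresentation g := hg.2.2
  exact aux g f

end Groth.Agent.S7194
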