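import Groth.Statements.S4568
import Mathlib

set_option autoImplicit false
universe u
open CAlg

namespace Groth.Agent.S4568

open Polynomial TensorProduct in
theorem integral_of_mem_adjoin_inv {A K : Type u} [CommRing A] [Field K] [Algebra A K] {x : K} (hx0 : x ≠ 0)
    (h : x ∈ Algebra.adjoin A {x⁻¹}) : IsIntegral A x := by
  rw [Algebra.adjoin_singleton_eq_range_aeval] at h
  obtain ⟨p, hp⟩ := h
  let n := p.natDegree
  let g : A[X] := ∑ i ∈ Finset.range (n + 1), C (p.coeff i) * X ^ (n - i)
  refine ⟨X ^ (n + 1) - g, monic_X_pow_sub (lt_of_le_of_lt (degree_le_natDegree) (by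
    have : g.natDegree ≤ n := natDegree_sum_le_of_forall_le _ _ fun i _ =>
      (natDegree_C_mul_X_pow_le _ _).trans (Nat.sub_le _ _)
    exact_mod_cast Nat.lt_succ_of_le this)), ?_⟩
  have hp' : (∑ i ∈ Finset.range (n + 1), algebraMap A K (p.coeff i) * x⁻¹ ^ i) = x := by
    have := hp
    change aeval x⁻¹ p = x at this
    rw [aeval_eq_sum_range] at this
    simpa [Algebra.smul_def, n] using this
  show aeval x (X ^ (n + 1) - g) = 0
  rw [map_sub, map_pow, aeval_X, sub_eq_zero, pow_succ']
  nth_rw 1 [← hp']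
  rw [Finset.sum_mul, show aeval x g = _ from map_sum _ _ _]
  refine Finset.sum_congr rfl fun i hi => ?_
  rw [map_mul, map_pow, aeval_X, aeval_C, mul_assoc]
  congr 1
  have : x ^ n = x ^ i * x ^ (n - i) := by
    rw [← pow_add, Nat.add_sub_cancel' (by simpa [Nat.lt_succ_iff] using hi)]
  rw [this, ← mul_assoc, ← mul_pow, inv_mul_cancel₀ hx0, one_pow, one_mul]

open Polynomial TensorProduct in
theorem quasiFiniteAt_of_root {A D : Type u} [CommRing A] [CommRing D] [Algebra A D] [Algebra.FiniteType A D]
    (y : D) (hgen : Algebra.adjoin A {y} = ⊤) (P : Ideal D) [P.IsPrime] (q : Ideal A) [q.IsPrime] [P.LiesOver q]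
    (g : A[X]) (hg : aeval y g = 0) (hgq : g.map (algebraMap A q.ResidueField) ≠ 0) :
    Algebra.QuasiFiniteAt A P := by
  let z : q.Fiber D := 1 ⊗ₜ y
  haveI : Algebra.IsIntegral q.ResidueField (q.Fiber D) := by
    have hz : IsIntegral q.ResidueField z := by
      refine IsAlgebraic.isIntegral ⟨_, hgq, ?_⟩
      rw [aeval_map_algebraMap]
      show aeval (Algebra.TensorProduct.includeRight y : q.Fiber D) g = 0
      rw [aeval_algHom_apply, hg, map_zero]
    refine ⟨fun w => ?_⟩
    induction w using TensorProduct.induction_on with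
    | zero => exact isIntegral_zero
    | add a b ha hb => exact ha.add hb
    | tmul c d =>
      have hd : d ∈ Algebra.adjoin A {y} := hgen ▸ trivial
      rw [Algebra.adjoin_singleton_eq_range_aeval] at hd
      obtain ⟨p, rfl⟩ := hd
      have e : c ⊗ₜ[A] aeval y p = c • aeval z (p.map (algebraMap A q.ResidueField)) := by
        rw [aeval_map_algebraMap]
        show _ = c • aeval (Algebra.TensorProduct.includeRight y : q.Fiber D) p
        rw [aeval_algHom_apply, Algebra.TensorProduct.includeRight_apply, TensorProduct.smul_tmul', smul_eq_mul, mul_one]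
      show IsIntegral q.ResidueField (c ⊗ₜ[A] aeval y p)
      rw [e]
      exact (show IsIntegral q.ResidueField _ from Algebra.adjoin_le (Set.singleton_subset_iff.2 (show z ∈ integralClosure q.ResidueField (q.Fiber D) from hz)) (aeval_mem_adjoin_singleton _ _)).smul c
  haveI : Algebra.FiniteType q.ResidueField (q.Fiber D) := inferInstance
  haveI : Module.Finite q.ResidueField (q.Fiber D) := Algebra.IsIntegral.finite
  haveI : Algebra.QuasiFinite q.ResidueField (q.Fiber D) := inferInstance
  have hPq : (⟨P, ‹_›⟩ : PrimeSpectrum D).comap (algebraMap A D) = ⟨q, ‹_›⟩ := PrimeSpectrum.ext (P.over_def q).symm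
  let e := PrimeSpectrum.preimageHomeomorphFiber A D ⟨q, ‹_›⟩
  let Q := e ⟨⟨P, ‹_›⟩, hPq⟩
  exact Algebra.QuasiFiniteAt.of_quasiFiniteAt_residueField q P Q.asIdeal
    congr($(e.symm_apply_apply ⟨⟨P, ‹_›⟩, hPq⟩).1.asIdeal)

open Polynomial in
theorem exists_root {A D : Type u} [CommRing A] [CommRing D] [IsDomain D] [Algebra A D]
    (y : D) (hgen : Algebra.adjoin A {y} = ⊤) (P : Ideal D) [P.IsPrime] (hyP : y ∈ P) (hy0 : y ≠ 0)
    (hP : P.height = 1) (hnz : ∃ a : A, algebraMap A D a ≠ 0 ∧ algebraMap A D a ∈ P)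
    (q : Ideal A) [q.IsPrime] (hq : q = P.comap (algebraMap A D)) :
    ∃ g : A[X], aeval y g = 0 ∧ g.map (algebraMap A q.ResidueField) ≠ 0 := by
  by_contra hno
  push Not at hno
  let φ : A[X] →+* D := (aeval y).toRingHom
  have hsurj : Function.Surjective φ := fun d => by
    have hd : d ∈ Algebra.adjoin A {y} := hgen ▸ trivial
    rw [Algebra.adjoin_singleton_eq_range_aeval] at hd
    exact hd
  let I : Ideal A[X] := RingHom.ker (mapRingHom (algebraMap A q.ResidueField))
  haveI : I.IsPrime := RingHom.ker_isPrime _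
  have hker : RingHom.ker φ ≤ I := fun g hg => hno g hg
  haveI : (I.map φ).IsPrime := Ideal.map_isPrime_of_surjective hsurj hker
  have hle : I.map φ ≤ P := Ideal.map_le_iff_le_comap.2 fun g hg => by
    have h0 : algebraMap A q.ResidueField (g.coeff 0) = 0 := by
      rw [← coeff_map, show g.map (algebraMap A q.ResidueField) = 0 from hg, coeff_zero]
    rw [Ideal.algebraMap_residueField_eq_zero, hq] at h0
    show aeval y g ∈ P
    rw [← X_mul_divX_add g, map_add, map_mul, aeval_X, aeval_C]
    exact add_mem (P.mul_mem_right _ hyP) h0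
  have hne : I.map φ ≠ P := fun heq => by
    obtain ⟨g, hg, hgy⟩ := (Ideal.mem_map_iff_of_surjective φ hsurj).1 (heq ▸ hyP : y ∈ I.map φ)
    have hX : g - X ∈ I := hker (by
      rw [RingHom.mem_ker, map_sub, hgy]
      show y - aeval y (X : A[X]) = 0
      rw [aeval_X, sub_self])
    have : (X : A[X]) ∈ I := (I.sub_mem hg hX) |> fun h => by rwa [sub_sub_cancel] at h
    exact X_ne_zero (R := q.ResidueField) ((map_X (algebraMap A q.ResidueField)).symm.trans this)
  have h0 : (⊥ : Ideal D) < I.map φ := by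
    obtain ⟨a, ha, haP⟩ := hnz
    refine lt_of_le_of_ne bot_le fun h => ha ?_
    have : φ (C a) ∈ I.map φ := Ideal.mem_map_of_mem _ (by
      show (C a).map (algebraMap A q.ResidueField) = 0
      rw [map_C, Ideal.algebraMap_residueField_eq_zero.2 (hq ▸ haP : a ∈ q), C_0])
    rw [← h, Ideal.mem_bot] at this
    exact (aeval_C y a).symm.trans this
  have h1 := Ideal.height_add_one_le_of_lt_of_isPrime h0
  have h2 := Ideal.height_add_one_le_of_lt_of_isPrime (lt_of_le_of_ne hle hne)
  rw [hP] at h2
  have h3 : (1 : ℕ∞) + 1 ≤ 1 := le_trans (add_le_add_left (le_trans le_add_self h1) 1) h2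
  exact absurd h3 (by decide)

theorem exists_finite_heightOne {A D : Type u} [CommRing A] [CommRing D] [Algebra A D] [Algebra.FiniteType A D]
    (P : Ideal D) [P.IsPrime] [Algebra.QuasiFiniteAt A P] :
    ∃ S' : Subalgebra A D, Module.Finite A S' ∧ (P.comap S'.val.toRingHom).height = P.height := by
  obtain ⟨S', hfg, r, hr, hbij⟩ :=
    Algebra.QuasiFiniteAt.exists_fg_and_exists_notMem_and_awayMap_bijective (R := A) P
  refine ⟨S', ⟨(Submodule.fg_top _).mpr hfg⟩, ?_⟩
  let Sr := Localization.Away r
  let Dr := Localization.Away (S'.val.toRingHom r)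
  let e : Sr ≃+* Dr := RingEquiv.ofBijective _ hbij
  let J := P.map (algebraMap D Dr)
  have hd : Disjoint ((Submonoid.powers (S'.val.toRingHom r) : Submonoid D) : Set D) (P : Set D) := by
    rw [Set.disjoint_left]
    rintro x ⟨i, rfl⟩ hx
    exact hr (Ideal.IsPrime.mem_of_pow_mem ‹_› i hx)
  haveI : J.IsPrime := IsLocalization.isPrime_of_isPrime_disjoint _ Dr P ‹_› hd
  have hJ : J.comap (algebraMap D Dr) = P := IsLocalization.comap_map_of_isPrime_disjoint _ Dr ‹_› hd
  have hJ' : (J.comap (e : Sr →+* Dr)).comap (algebraMap S' Sr) = P.comap S'.val.toRingHom := by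
    conv_rhs => rw [← hJ]
    rw [Ideal.comap_comap, Ideal.comap_comap]
    congr 1
    refine RingHom.ext fun s => ?_
    exact IsLocalization.map_eq (M := Submonoid.powers r) (S := Sr) (T := Submonoid.powers (S'.val.toRingHom r)) (Q := Dr) (by rintro _ ⟨i, rfl⟩; exact ⟨i, (map_pow _ _ _).symm⟩) s
  have hd' : Disjoint ((Submonoid.powers r : Submonoid S') : Set S') (P.comap S'.val.toRingHom : Set S') := by
    rw [Set.disjoint_left]
    rintro x ⟨i, rfl⟩ hx
    rw [SetLike.mem_coe, Ideal.mem_comap, map_pow] at hx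
    exact hr (Ideal.IsPrime.mem_of_pow_mem ‹_› i hx)
  calc (P.comap S'.val.toRingHom).height
      = ((P.comap S'.val.toRingHom).map (algebraMap S' Sr)).height :=
        (IsLocalization.height_map_of_disjoint (Submonoid.powers r) _ hd').symm
    _ = (J.comap (e : Sr →+* Dr)).height := by
        rw [← hJ', IsLocalization.map_comap (Submonoid.powers r)]
    _ = J.height := e.height_comap J
    _ = P.height := IsLocalization.height_map_of_disjoint _ _ hd
open Polynomial in
theorem mem_prime_of_integral {A D K : Type u} [CommRing A] [CommRing D] [Field K] [Algebra A D] [Algebra A K]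
    (ι : D →ₐ[A] K) (hι : Function.Injective ι) (P : Ideal D) [P.IsPrime] (y : D) (hyP : y ∈ P) (x : K) (hx0 : x ≠ 0)
    (hy : ι y = x⁻¹) (s : A) (h : IsIntegral A (algebraMap A K s * x)) : algebraMap A D s ∈ P := by
  obtain ⟨p₀, hm, hp₀⟩ := h
  have hmon : (p₀.map (algebraMap A D)).Monic := hm.map _
  have hroot : eval (algebraMap A D s) ((p₀.map (algebraMap A D)).scaleRoots y) = 0 := by
    apply hι
    show ι.toRingHom _ = ι.toRingHom 0
    rw [map_zero, ← eval₂_at_apply]
    have h2 := scaleRoots_eval₂_eq_zero (p := p₀.map (algebraMap A D)) ι.toRingHom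
      (r := algebraMap A K s * x) (s := y) (by rw [eval₂_map, show ι.toRingHom.comp (algebraMap A D) = algebraMap A K from ι.comp_algebraMap]; exact hp₀)
    have hv : ι.toRingHom y * (algebraMap A K s * x) = ι.toRingHom (algebraMap A D s) := by
      show ι y * _ = ι _
      rw [ι.commutes, hy, mul_left_comm, inv_mul_cancel₀ hx0, mul_one]
    rwa [hv] at h2
  have h3 := congrArg (Ideal.Quotient.mk P) hroot
  rw [← eval₂_at_apply, ← eval_map,
    map_scaleRoots _ _ _ (by rw [hmon.leadingCoeff, map_one]; exact one_ne_zero),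
    Ideal.Quotient.eq_zero_iff_mem.2 hyP, scaleRoots_zero, (hmon.map _).leadingCoeff, one_smul,
    eval_pow, eval_X, map_zero] at h3
  exact Ideal.Quotient.eq_zero_iff_mem.1 (eq_zero_of_pow_eq_zero h3)
theorem transport {A S₁ S₂ : Type u} [CommRing A] [CommRing S₁] [CommRing S₂] [Algebra A S₁] [Algebra A S₂]
    (e : S₁ ≃ₐ[A] S₂) (I : Ideal S₁) [hI : I.IsPrime] :
    ∃ J : Ideal S₂, J.IsPrime ∧ J.height = I.height ∧ J.comap (algebraMap A S₂) = I.comap (algebraMap A S₁) := by
  refine ⟨I.comap e.symm.toRingEquiv, Ideal.comap_isPrime _ _, e.symm.toRingEquiv.height_comap I, ?_⟩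
  ext a
  show e.symm (algebraMap A S₂ a) ∈ I ↔ _
  rw [e.symm.commutes]
  rfl
theorem height_under {A D K : Type u} [CommRing A] [CommRing D] [CommRing K] [Algebra A D] [Algebra A K]
    [Algebra.FiniteType A D] (ι : D →ₐ[A] K) (hι : Function.Injective ι)
    (h : ∀ C : Subalgebra A K, C ≤ integralClosure A K → Module.Finite A C →
      ∀ (q : Ideal C) [q.IsPrime], q.height = 1 → (q.comap (algebraMap A C)).height = 1)
    (P : Ideal D) [P.IsPrime] [Algebra.QuasiFiniteAt A P] (hP : P.height = 1) :
    (P.comap (algebraMap A D)).height = 1 := by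
  obtain ⟨S', hfin, hht⟩ := exists_finite_heightOne (A := A) P
  let e : S' ≃ₐ[A] S'.map ι := S'.equivMapOfInjective ι hι
  haveI : Module.Finite A (S'.map ι) := Module.Finite.equiv e.toLinearEquiv
  obtain ⟨qC, hqp, hqh, hqu⟩ := transport e (P.comap S'.val.toRingHom)
  have h1 := @h (S'.map ι) (fun c hc => (IsIntegral.of_finite A (⟨c, hc⟩ : S'.map ι)).map (S'.map ι).val)
    inferInstance qC hqp ((hqh.trans hht).trans hP)
  rw [hqu, Ideal.comap_comap] at h1
  rwa [show S'.val.toRingHom.comp (algebraMap A S') = algebraMap A D from S'.val.comp_algebraMap] at h1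


/-- Let A be a Noetherian domain with fraction field K and A' its integral closure in K. Assume that for
every sub-A-algebra C of A' which is finite over A, every height-one prime of C lies over a
height-one prime of A. Then A' is the intersection in K of the localizations A'_p over the
height-one primes p of A. -/
theorem result {A : Type u} [CommRing A] [IsDomain A] [IsNoetherianRing A]
    (h : ∀ C : Subalgebra A (FractionRing A), C ≤ integralClosure A (FractionRing A) → Module.Finite A C →
      ∀ (q : Ideal C) [q.IsPrime], q.height = 1 → (q.comap (algebraMap A C)).height = 1) :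
    (integralClosure A (FractionRing A) : Set (FractionRing A)) =
      ⋂ (p : PrimeSpectrum A) (_ : p.asIdeal.height = 1),
        {x : FractionRing A | ∃ s : A, s ∉ p.asIdeal ∧
          algebraMap A (FractionRing A) s * x ∈ integralClosure A (FractionRing A)} := by
  classical
  ext x
  simp only [Set.mem_iInter, Set.mem_setOf_eq, SetLike.mem_coe]
  refine ⟨fun hx p _ => ⟨1, fun h1 => p.isPrime.ne_top ((Ideal.eq_top_iff_one _).2 h1), by simpa using hx⟩, fun hx => ?_⟩
  by_contra hint
  let K := FractionRing A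
  have hx0 : x ≠ 0 := fun h0 => hint (h0 ▸ zero_mem _)
  let D : Subalgebra A K := Algebra.adjoin A {x⁻¹}
  let y : D := ⟨x⁻¹, Algebra.subset_adjoin rfl⟩
  haveI : Algebra.FiniteType A D := ((Subalgebra.fg_iff_finiteType D).1 (Subalgebra.fg_def.2 ⟨{x⁻¹}, Set.finite_singleton _, rfl⟩))
  haveI : IsNoetherianRing D := Algebra.FiniteType.isNoetherianRing A D
  have hgen : Algebra.adjoin A {y} = ⊤ := by
    apply Subalgebra.map_injective (f := D.val) Subtype.val_injective
    rw [Algebra.map_top, Subalgebra.range_val, AlgHom.map_adjoin, Set.image_singleton]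
    rfl
  have hyu : ¬ IsUnit y := by
    intro hu
    refine hint (integral_of_mem_adjoin_inv hx0 ?_)
    obtain ⟨w, hw⟩ := hu.exists_right_inv
    have hwv : x⁻¹ * (w : K) = 1 := congrArg Subtype.val hw
    have : (w : K) = x := by
      have := congrArg (x * ·) hwv
      simpa [← mul_assoc, hx0] using this
    exact (congrArg (· ∈ D) this).mp w.2
  have hy0 : y ≠ 0 := fun h0 => inv_ne_zero hx0 (congrArg Subtype.val h0)
  obtain ⟨P, hP⟩ := Ideal.nonempty_minimalPrimes (I := Ideal.span {y}) (fun h => hyu (Ideal.span_singleton_eq_top.1 h))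
  haveI hPp : P.IsPrime := hP.1.1
  have hyP : y ∈ P := hP.1.2 (Ideal.subset_span rfl)
  have hPh : P.height = 1 := by
    refine le_antisymm (Ideal.height_le_one_of_isPrincipal_of_mem_minimalPrimes _ P hP) ?_
    have hlt : (⊥ : Ideal D) < P := lt_of_le_of_ne bot_le fun h => hy0 (by rwa [← h, Ideal.mem_bot] at hyP)
    exact le_trans le_add_self (Ideal.height_add_one_le_of_lt_of_isPrime hlt)
  let q := P.comap (algebraMap A D)
  haveI : P.LiesOver q := ⟨rfl⟩
  have hnz : ∃ a : A, algebraMap A D a ≠ 0 ∧ algebraMap A D a ∈ P := by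
    obtain ⟨a, b, hb, hab⟩ := IsFractionRing.div_surjective (A := A) (x⁻¹ : K)
    have hb0 : algebraMap A K b ≠ 0 := IsFractionRing.to_map_ne_zero_of_mem_nonZeroDivisors hb
    have he : algebraMap A D a = y * algebraMap A D b := Subtype.ext (by
      show algebraMap A K a = x⁻¹ * algebraMap A K b
      rw [← hab, div_mul_cancel₀ _ hb0])
    refine ⟨a, fun h0 => ?_, he ▸ P.mul_mem_right _ hyP⟩
    have h0' : algebraMap A K a = 0 := congrArg Subtype.val h0
    rw [h0', zero_div] at hab
    exact inv_ne_zero hx0 hab.symm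
  obtain ⟨g, hg, hgq⟩ := exists_root y hgen P hyP hy0 hPh hnz q rfl
  haveI := quasiFiniteAt_of_root y hgen P q g hg hgq
  have hq1 : q.height = 1 := height_under D.val Subtype.val_injective h P hPh
  obtain ⟨s, hs, hsx⟩ := hx ⟨q, inferInstance⟩ hq1
  exact hs (mem_prime_of_integral (K := K) D.val Subtype.val_injective P y hyP x hx0 rfl s hsx)

end Groth.Agent.S4568
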