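import Groth.Statements.S2978
import Mathlib.RingTheory.Finiteness.Basic
import Mathlib.Algebra.Module.Submodule.Pointwise
import Mathlib.RingTheory.Noetherian.Basic

-- import your own Groth.Agent.* helpers here

set_option autoImplicit false
universe u
open SGA3b

namespace Groth.Agent.S2978

/-- Let A be a Noetherian ring, M a set and a : M × M → A a family vanishing off the diagonal which is a
finite sum of decomposable families: a(m, m') = Σ_i b_i(m) c_i(m') for finitely many b_i, c_i : M →
A. Then a has finite support. -/
theorem result (A : Type u) [CommRing A] [IsNoetherianRing A] (M : Type u)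
    (a : M × M → A) (hdiag : ∀ m m', m ≠ m' → a (m, m') = 0)
    (ι : Type u) [Fintype ι] (b c : ι → M → A) (hdec : ∀ m m', a (m, m') = ∑ i, b i m * c i m') :
    Set.Finite {p : M × M | a p ≠ 0} := by
  classical
  let v : M → (ι → A) := fun m i => c i m
  obtain ⟨t, ht, hspan⟩ := Submodule.fg_span_iff_fg_span_finset_subset (Set.range v) |>.1
    (IsNoetherian.noetherian (Submodule.span A (Set.range v)))
  choose f hf using fun x : t => ht x.2
  refine Set.Finite.subset ((Set.finite_range f).prod (Set.finite_range f)) ?_
  rintro ⟨m, m'⟩ hm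
  have hmm : m = m' := by
    by_contra h
    exact hm (hdiag m m' h)
  subst hmm
  by_contra hmem
  have hm' : ∀ x : t, m ≠ f x := fun x h => hmem ⟨⟨x, h.symm⟩, ⟨x, h.symm⟩⟩
  have hzero : ∀ y ∈ Submodule.span A (Set.range v), ∑ i, b i m * y i = 0 := by
    intro y hy
    rw [hspan] at hy
    induction hy using Submodule.span_induction with
    | mem z hz =>
      obtain ⟨x, rfl⟩ : ∃ x : t, v (f x) = z := ⟨⟨z, hz⟩, hf ⟨z, hz⟩⟩
      change ∑ i, b i m * c i (f x) = 0
      rw [← hdec]
      exact hdiag _ _ (hm' x)
    | zero => simp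
    | add y z _ _ hy hz =>
      simp only [Pi.add_apply, mul_add, Finset.sum_add_distrib, hy, hz, add_zero]
    | smul r y _ hy =>
      simp only [Pi.smul_apply, smul_eq_mul, mul_left_comm, ← Finset.mul_sum, hy, mul_zero]
  exact hm (by rw [hdec]; exact hzero _ (Submodule.subset_span ⟨m, rfl⟩))

end Groth.Agent.S2978
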