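import Groth.Statements.S19569
import Mathlib.RingTheory.Smooth.NoetherianDescent
import Mathlib.RingTheory.Etale.Basic
import Mathlib.RingTheory.TensorProduct.Basic

set_option autoImplicit false
universe u
open CAlg

namespace Groth.Agent.S19569

open TensorProduct in
/-- Let A be the colimit of a directed system of rings (A_i), given by compatible ring maps A_i → A
which are jointly surjective and such that an element of some A_i mapping to zero in A already maps
to zero in some later A_j, and let B be an étale A-algebra. Then for some index i there is an étale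
A_i-algebra B_i such that B is isomorphic, as an A-algebra, to the base change A ⊗_{A_i} B_i
(existence of an isomorphism). (Stated for a system indexed by a directed preordered set.) -/
theorem result {ι : Type u} [Preorder ι] [IsDirected ι (· ≤ ·)] [Nonempty ι]
    (G : ι → Type u) [∀ i, CommRing (G i)] (f : ∀ i j, i ≤ j → (G i →+* G j))
    (A : Type u) [CommRing A] (g : ∀ i, G i →+* A) (hg : ∀ i j (h : i ≤ j), (g j).comp (f i j h) = g i)
    (hsurj : ∀ a : A, ∃ i, ∃ x : G i, g i x = a)
    (hker : ∀ i (x : G i), g i x = 0 → ∃ j, ∃ h : i ≤ j, f i j h x = 0)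
    (B : Type u) [CommRing B] [Algebra A B] [Algebra.Etale A B] :
    ∃ (i : ι) (Bi : Type u) (_ : CommRing Bi) (_ : Algebra (G i) Bi), Algebra.Etale (G i) Bi ∧
      letI : Algebra (G i) A := (g i).toAlgebra
      Nonempty (B ≃ₐ[A] A ⊗[G i] Bi) := by
  classical
  obtain ⟨A₀, B₀, _, _, hA₀, hB₀, ⟨e⟩⟩ := Algebra.Etale.exists_subalgebra_fg ℤ A B
  haveI : Algebra.FiniteType ℤ A₀ := (Subalgebra.fg_iff_finiteType A₀).mp hA₀
  obtain ⟨n, φ, hφ⟩ := Algebra.FiniteType.iff_quotient_mvPolynomial''.1 ‹Algebra.FiniteType ℤ A₀›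
  have hup : ∀ i j (h : i ≤ j) (x : G i), g j (f i j h x) = g i x := fun i j h x => RingHom.congr_fun (hg i j h) x
  have key1 : ∀ s : Finset (Fin n), ∃ (i : ι) (x : Fin n → G i), ∀ a ∈ s, g i (x a) = φ (MvPolynomial.X a) := by
    intro s
    induction s using Finset.induction with
    | empty => exact ⟨Classical.arbitrary ι, 0, by simp⟩
    | insert a s ha ih =>
      obtain ⟨i, x, hx⟩ := ih
      obtain ⟨i', y, hy⟩ := hsurj (φ (MvPolynomial.X a) : A)
      obtain ⟨j, hij, hi'j⟩ := directed_of (· ≤ ·) i i'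
      refine ⟨j, fun b => if b = a then f i' j hi'j y else f i j hij (x b), fun b hb => ?_⟩
      by_cases hba : b = a
      · simp [hba, hup, hy]
      · simp only [hba, if_false, hup]
        exact hx b ((Finset.mem_insert.1 hb).resolve_left hba)
  obtain ⟨i₀, x₀, hx₀⟩ := key1 Finset.univ
  have hev : ∀ (i : ι) (x : Fin n → G i), (∀ a, g i (x a) = φ (MvPolynomial.X a)) → ∀ P : MvPolynomial (Fin n) ℤ,
      g i (MvPolynomial.eval₂ (Int.castRingHom (G i)) x P) = φ P := by
    intro i x hx P
    refine RingHom.congr_fun (MvPolynomial.ringHom_ext (f := (g i).comp (MvPolynomial.eval₂Hom (Int.castRingHom (G i)) x))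
      (g := (A₀.val : A₀ →+* A).comp (φ : MvPolynomial (Fin n) ℤ →+* A₀)) (fun c => ?_) fun a => ?_) P
    · simp
    · simp [hx a]
  have key2 : ∀ s : Finset (MvPolynomial (Fin n) ℤ), (∀ P ∈ s, φ P = 0) →
      ∃ (i : ι) (x : Fin n → G i), (∀ a, g i (x a) = φ (MvPolynomial.X a)) ∧
        ∀ P ∈ s, MvPolynomial.eval₂ (Int.castRingHom (G i)) x P = 0 := by
    intro s
    induction s using Finset.induction with
    | empty => exact fun _ => ⟨i₀, x₀, fun a => hx₀ a (Finset.mem_univ a), by simp⟩
    | insert P s hP ih =>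
      intro hs
      obtain ⟨i, x, hx, hxs⟩ := ih fun Q hQ => hs Q (Finset.mem_insert_of_mem hQ)
      obtain ⟨j, hij, hj⟩ := hker i (MvPolynomial.eval₂ (Int.castRingHom (G i)) x P)
        (by rw [hev i x hx, hs P (Finset.mem_insert_self P s)]; rfl)
      have hc : ∀ Q, f i j hij (MvPolynomial.eval₂ (Int.castRingHom (G i)) x Q) =
          MvPolynomial.eval₂ (Int.castRingHom (G j)) (fun a => f i j hij (x a)) Q := fun Q => by
        rw [MvPolynomial.eval₂_comp_left, RingHom.ext_int ((f i j hij).comp _) (Int.castRingHom (G j))]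
        rfl
      refine ⟨j, fun a => f i j hij (x a), fun a => by rw [hup, hx], fun Q hQ => ?_⟩
      rcases Finset.mem_insert.1 hQ with rfl | hQ
      · rw [← hc, hj]
      · rw [← hc, hxs Q hQ, map_zero]
  obtain ⟨s, hs⟩ := IsNoetherian.noetherian (RingHom.ker φ)
  obtain ⟨i, x, hx, hxs⟩ := key2 s fun P hP => by
    have : P ∈ RingHom.ker φ := hs ▸ Submodule.subset_span hP
    exact this
  let ψ0 := MvPolynomial.eval₂Hom (Int.castRingHom (G i)) x
  have hψ0 : RingHom.ker (φ : MvPolynomial (Fin n) ℤ →+* A₀) ≤ RingHom.ker ψ0 := by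
    show RingHom.ker φ ≤ _
    rw [← hs, Submodule.span_le]
    exact fun P hP => hxs P hP
  let ψ : A₀ →+* G i := RingHom.liftOfSurjective (φ : MvPolynomial (Fin n) ℤ →+* A₀) hφ ⟨ψ0, hψ0⟩
  have hψ : ∀ a : A₀, g i (ψ a) = (a : A) := by
    intro a
    obtain ⟨P, rfl⟩ := hφ a
    rw [show ψ (φ P) = ψ0 P from RingHom.liftOfSurjective_comp_apply (φ : MvPolynomial (Fin n) ℤ →+* A₀) hφ ⟨ψ0, hψ0⟩ P]
    exact hev i x hx P
  letI : Algebra A₀ (G i) := ψ.toAlgebra
  refine ⟨i, G i ⊗[A₀] B₀, inferInstance, inferInstance, inferInstance, ?_⟩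
  letI : Algebra (G i) A := (g i).toAlgebra
  haveI : IsScalarTower A₀ (G i) A := IsScalarTower.of_algebraMap_eq fun a => (hψ a).symm
  exact ⟨e.trans (Algebra.TensorProduct.cancelBaseChange A₀ (G i) A A B₀).symm⟩

end Groth.Agent.S19569
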