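import Groth.Statements.S1146
import Groth.Agent.Lib.AlgSpDecent.FiniteNhd
import Groth.Agent.Lib.H12.Dim
import Groth.Agent.Lib.AlgSpDecent.MonoPoint
import Mathlib.AlgebraicGeometry.Morphisms.UniversallyOpen


set_option autoImplicit false
open CategoryTheory CategoryTheory.Limits AlgebraicGeometry Opposite
universe u
open Desc Topology

namespace Groth.Agent.S1146

/-- Let f : U ⟶ V be an etale morphism of schemes and u a point of U. Then the local dimension of U at u
(the infimum of the Krull dimensions of open neighbourhoods) equals the local dimension of V at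
f(u). -/
theorem result {U V : Scheme.{u}} (f : U ⟶ V) [Etale f] (u : U) :
    FlatMor.localDim U u = FlatMor.localDim V (f.base u) := by
  have hlqf : LocallyQuasiFinite f := Groth.Agent.AlgSpDecent.locallyQuasiFinite_of_etale f
  have heq : ∀ a b : U, a ⤳ b → f a = f b → a = b := fun a b hab he => by
    obtain ⟨O, hO, hbO, h⟩ := Groth.Agent.AlgSpDecent.isoIn_of_lqf f b
    exact h a (hab.mem_open hO hbO) he
  have hgen : GeneralizingMap f.base := Flat.generalizingMap f
  have key : ∀ O : U.Opens,
      topologicalKrullDim (O : Set U) = topologicalKrullDim (f.base '' (O : Set U)) := by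
    intro O
    have hO : IsOpen (f.base '' (O : Set U)) := f.isOpenMap _ O.isOpen
    have : QuasiSober (f.base '' (O : Set U)) := hO.isOpenEmbedding_subtypeVal.quasiSober
    have : QuasiSober (O : Set U) := O.isOpen.isOpenEmbedding_subtypeVal.quasiSober
    let g : ↥(O : Set U) → ↥(f.base '' (O : Set U)) := fun a => ⟨f.base a.1, a.1, a.2, rfl⟩
    refine le_antisymm (Groth.Agent.H12.topologicalKrullDim_le_of_eq_of_specializes g
      ((f.base.hom.continuous.comp continuous_subtype_val).subtype_mk _) fun a b hab he => ?_)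
      (Groth.Agent.H12.topologicalKrullDim_le_of_surjective_of_lift g
        (fun ⟨y, a, ha, e⟩ => ⟨⟨a, ha⟩, Subtype.ext e⟩) (Or.inr fun a b hb => ?_))
    · exact Subtype.ext (heq _ _ ((subtype_specializes_iff _ _).1 hab) (congrArg Subtype.val he))
    · obtain ⟨a', ha', ha''⟩ := hgen (a := a.1) (b := b.1) ((subtype_specializes_iff _ _).1 hb)
      exact ⟨⟨a', ha'.mem_open O.isOpen a.2⟩, (subtype_specializes_iff _ _).2 ha', Subtype.ext ha''⟩
  refine le_antisymm (le_iInf fun W => ?_) (le_iInf fun O => ?_)
  · refine (iInf_le _ ⟨⟨_, W.1.isOpen.preimage f.base.hom.continuous⟩, W.2⟩).trans ?_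
    refine (key _).le.trans ?_
    exact (IsEmbedding.inclusion (Set.image_preimage_subset _ _)).isInducing.topologicalKrullDim_le
  · exact (iInf_le _ ⟨⟨_, f.isOpenMap _ O.1.isOpen⟩, u, O.2, rfl⟩).trans (key O.1).ge


end Groth.Agent.S1146
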