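import Groth.Statements.S9367
import Groth.Agent.Lib.CI2.StdNhd
import Groth.Agent.Lib.CI2.Smooth
import Groth.Agent.Lib.FibDim14.Comp
import Groth.Prelude.Def_RegImm
import Mathlib

set_option autoImplicit false
universe u
open Synt

namespace Groth.Agent.S9367
open Groth.Agent AlgebraicGeometry CategoryTheory

theorem le_ringKrullDim_away {k : Type u} [Field k] {n c : ℕ} (r : Fin c → MvPolynomial (Fin n) k)
    (h : MvPolynomial (Fin n) k) [Nontrivial (Localization.Away (Ideal.Quotient.mk (Ideal.span (Set.range r)) h))] :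
    ((n - c : ℕ) : WithBot ℕ∞) ≤ ringKrullDim (Localization.Away (Ideal.Quotient.mk (Ideal.span (Set.range r)) h)) := by
  obtain ⟨e⟩ := Groth.Agent.CI2.nonempty_awayEquiv r h
  let I := Ideal.span (Set.range (Groth.Agent.CI2.awayRel r h))
  let T := MvPolynomial (Fin (n + 1)) k ⧸ I
  haveI : Nontrivial T := e.symm.toEquiv.nontrivial
  obtain ⟨M, hM⟩ := Ideal.exists_maximal T
  rw [ringKrullDim_eq_of_ringEquiv e.toRingEquiv]
  refine le_trans ?_ (Ideal.height_le_ringKrullDim_of_ne_top hM.ne_top)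
  rw [show n - c = n + 1 - (c + 1) by omega]
  exact WithBot.coe_le_coe.mpr
    (Groth.Agent.CI2.le_height_maximal (Ideal.Quotient.mkₐ k I) Ideal.Quotient.mk_surjective _ Ideal.mk_ker M)

theorem le_localDim {k : Type u} [Field k] {n c : ℕ} (r : Fin c → MvPolynomial (Fin n) k)
    (w : PrimeSpectrum (MvPolynomial (Fin n) k ⧸ Ideal.span (Set.range r))) :
    ((n - c : ℕ) : WithBot ℕ∞) ≤ FlatMor.localDim _ w := by
  refine le_iInf fun U => ?_
  obtain ⟨V, ⟨t, rfl⟩, hwt, htU⟩ :=
    PrimeSpectrum.isTopologicalBasis_basic_opens.exists_subset_of_mem_open U.2 U.1.isOpen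
  obtain ⟨h, rfl⟩ := Ideal.Quotient.mk_surjective t
  let t := Ideal.Quotient.mk (Ideal.span (Set.range r)) h
  let j := PrimeSpectrum.comap (algebraMap (MvPolynomial (Fin n) k ⧸ Ideal.span (Set.range r)) (Localization.Away t))
  have hj := PrimeSpectrum.localization_away_isOpenEmbedding (Localization.Away t) t
  have hr := PrimeSpectrum.localization_away_comap_range (Localization.Away t) t
  haveI : Nontrivial (Localization.Away t) := by
    obtain ⟨v, -⟩ := hr.ge hwt
    exact PrimeSpectrum.nonempty_iff_nontrivial.1 ⟨v⟩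
  refine (le_ringKrullDim_away r h).trans ?_
  rw [← PrimeSpectrum.topologicalKrullDim_eq_ringKrullDim]
  have hmem : ∀ v, PrimeSpectrum.comap (algebraMap _ (Localization.Away t)) v ∈ U.1 :=
    fun v => htU (hr.le ⟨v, rfl⟩)
  let g : PrimeSpectrum (Localization.Away t) → (U.1 : Set _) := fun v => ⟨j v, hmem v⟩
  exact Topology.IsInducing.topologicalKrullDim_le (f := g)
    (Topology.IsInducing.of_comp (Continuous.subtype_mk hj.continuous _) continuous_subtype_val
      (show Topology.IsInducing (Subtype.val ∘ g) from hj.isInducing))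

theorem fibreDimAt_relGCI {R : Type u} [CommRing R] {n c : ℕ} {F : Fin c → MvPolynomial (Fin n) R}
    (hF : Synt.IsRelGCI R n c F) (z : PrimeSpectrum (Synt.RelGCIRing R n c F)) :
    FlatMor.fibreDimAt (Spec.map (CommRingCat.ofHom (algebraMap R (Synt.RelGCIRing R n c F)))) z =
      ((n - c : ℕ) : WithBot ℕ∞) := by
  let p := PrimeSpectrum.comap (algebraMap R (Synt.RelGCIRing R n c F)) z
  let e := PrimeSpectrum.preimageHomeomorphFiber R (Synt.RelGCIRing R n c F) p
  haveI hnt : Nontrivial (p.asIdeal.Fiber (Synt.RelGCIRing R n c F)) :=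
    PrimeSpectrum.nonempty_iff_nontrivial.1 ⟨e ⟨z, rfl⟩⟩
  have h := Groth.Agent.CI2.localDim_fibre_eq R _ p (e ⟨z, rfl⟩)
  rw [show PrimeSpectrum.comap _ (e ⟨z, rfl⟩) = z from congrArg Subtype.val (e.symm_apply_apply ⟨z, rfl⟩)] at h
  rw [← h]
  refine le_antisymm ?_ ?_
  · refine (TopDimLib.localDim_le _).trans ?_
    rw [PrimeSpectrum.topologicalKrullDim_eq_ringKrullDim, (hF p hnt).2]
  · let κ := p.asIdeal.ResidueField
    have hmap : (Ideal.span (Set.range F)).map (Groth.Agent.CI2.red p.asIdeal) =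
        Ideal.span (Set.range fun i => Groth.Agent.CI2.red p.asIdeal (F i)) := by
      rw [Ideal.map_span, ← Set.range_comp]; rfl
    let E := (Groth.Agent.CI2.fibreEquiv p.asIdeal (Ideal.span (Set.range F))).trans (Ideal.quotEquivOfEq hmap)
    let eh := @PrimeSpectrum.homeomorphOfRingEquiv (p.asIdeal.Fiber (Synt.RelGCIRing R n c F))
      (MvPolynomial (Fin n) κ ⧸ Ideal.span (Set.range fun i => Groth.Agent.CI2.red p.asIdeal (F i))) _ _ E
    exact (le_localDim _ (eh (e ⟨z, rfl⟩))).trans_eq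
      (FibDim14.localDim_of_isOpenEmbedding eh.isOpenEmbedding _).symm

open AlgebraicGeometry CategoryTheory in
/-- If f : X → S is syntomic, then x ↦ dim_x(X_{f x}) is locally constant on X. -/
theorem result {X S : Scheme.{u}} (f : X ⟶ S) (hf : Synt.IsSyntomicMor f) :
    IsLocallyConstant (fun x : ↑X => FlatMor.fibreDimAt f x) := by
  haveI : LocallyOfFiniteType f := by
    refine (HasRingHomProperty.iff_appLE (P := @LocallyOfFiniteType)).mpr fun U V e => ?_
    have h := (Groth.Agent.CI2.isSyntomicMor_iff_appLE f).mp hf U V e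
    algebraize [(f.appLE U.1 V.1 e).hom]
    haveI := (Groth.Agent.CI2.syntHom_algebraMap.mp h).2.1
    exact RingHom.finiteType_algebraMap.mpr inferInstance
  refine (IsLocallyConstant.iff_exists_open _).mpr fun x => ?_
  obtain ⟨V, hV, hxV, -⟩ := exists_isAffineOpen_mem_and_subset (X := S) (U := ⊤) (x := f x) trivial
  obtain ⟨U, e, hxU, R, _, n, c, F, hF, e₁, e₂, he⟩ :=
    (Groth.Agent.CI2.isSyntomicAt_iff_exists_standard f x ⟨V, hV⟩ hxV).mp (hf x)
  refine ⟨U.1, U.1.isOpen, hxU, fun y hy => ?_⟩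
  let φ : Spec (CommRingCat.of (Synt.RelGCIRing R n c F)) ⟶ Spec (CommRingCat.of R) :=
    Spec.map (CommRingCat.ofHom (algebraMap R (Synt.RelGCIRing R n c F)))
  haveI : LocallyOfFiniteType φ := (HasRingHomProperty.Spec_iff (P := @LocallyOfFiniteType)).2
    (RingHom.finiteType_algebraMap.2
      (Algebra.FiniteType.of_surjective (Ideal.Quotient.mkₐ R _) Ideal.Quotient.mk_surjective))
  have key : ∀ (z : U.1.toScheme), FlatMor.fibreDimAt f (U.1.ι z) = ((n - c : ℕ) : WithBot ℕ∞) := by
    intro z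
    rw [← FibDim14.fibreDimAt_etale_comp U.1.ι f, ← Scheme.Hom.resLE_comp_ι f e,
      FibDim14.fibreDimAt_comp_lqf (f.resLE V U.1 e) V.ι,
      show f.resLE V U.1 e = (e₁.hom ≫ φ) ≫ e₂.inv by rw [he, Category.assoc, e₂.hom_inv_id, Category.comp_id],
      FibDim14.fibreDimAt_comp_lqf, FibDim14.fibreDimAt_etale_comp]
    exact fibreDimAt_relGCI hF _
  show FlatMor.fibreDimAt f y = FlatMor.fibreDimAt f x
  exact (key ⟨y, hy⟩).trans (key ⟨x, hxU⟩).symm

end Groth.Agent.S9367
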