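import Groth.Statements.S6570
import Groth.Agent.Lib.NodalCrit14.Geom
import Groth.Agent.S9758
import Groth.Agent.S8660

set_option autoImplicit false
universe u
open CategoryTheory CategoryTheory.Limits AlgebraicGeometry
attribute [local instance] HasDerivedCategory.standard
open Curves

namespace Groth.Agent.S6570

/-- Let f : X → S be a quasi-separated morphism of schemes (so that Ω_{X/S} can be taken as the conormal
sheaf of the diagonal). The following are equivalent: (1) f is flat, locally of finite presentation,
and every nonempty fibre is equidimensional of dimension 1 with at-worst-nodal singularities; (2) f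
is syntomic of relative dimension 1, and Sing(f) → S is unramified, where Sing(f) ⊆ X denotes the
closed subscheme whose ideal sheaf is the first Fitting ideal of Ω_{X/S}. (The published statement
does not assume f quasi-separated; this row does.) -/
theorem result {X S : Scheme.{u}} (f : X ⟶ S) [QuasiSeparated f] :
    Curv2.IsNodalFamily f ↔
      (Synt.IsSyntomicMor f ∧ (∀ x : X, Dual3.localFibreDim f x = 1) ∧
        FormallyUnramified ((Fitt.sheafIdeal (Omega.sheaf f) 1).subschemeι ≫ f)) := by
  have lfd : ∀ x : X, Dual3.localFibreDim f x = FlatMor.fibreDimAt f x := fun x => iInf_subtype'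
  constructor
  · intro hf
    obtain ⟨hflat, hlfp, hfib⟩ := id hf
    haveI := hflat
    haveI := hlfp
    have hdim := NodalCrit14.fibreDimAt_eq_one f fun s => (hfib s).1
    have hFG := Nodal27.famGood_of_isNodalFamily f hf
    refine ⟨(S9758.result f).1 ⟨hflat, (S8660.result f).2 ⟨hflat, hlfp, fun p => ?_⟩⟩,
      fun x => (lfd x).trans (hdim x), NodalSing14.formallyUnramified_of_famGood f hFG⟩
    exact NodalCrit14.ci_of_goodPt f hdim
      ((NodalCrit14.good_iff_forall_goodPt f hdim (f p)).1 (hFG _ _) p rfl)
  · rintro ⟨hsyn, hd, hunr⟩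
    haveI := NodalCrit14.lfp_of_isSyntomicMor f hsyn
    obtain ⟨hflat, hk⟩ := (S9758.result f).2 hsyn
    haveI := hflat
    obtain ⟨-, -, hci⟩ := (S8660.result f).1 hk
    have hdim : ∀ p, FlatMor.fibreDimAt f p = 1 := fun p => (lfd p).symm.trans (hd p)
    have hsu := (NodalCrit14.formallyUnramified_iff_singUnr f).1 hunr
    refine ⟨hflat, inferInstance, fun s => (Nodal27.fibre_iff f s).2
      ((NodalCrit14.good_iff_forall_goodPt f hdim s).2 fun p _ => ?_)⟩
    exact (NodalCrit14.goodPt_iff f hdim p).2 (Or.inr ⟨hci p, hsu p⟩)

end Groth.Agent.S6570
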