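import Groth.Statements.S2227
import Groth.Agent.Lib.NodalEtale14.Main

set_option autoImplicit false
universe u
open CategoryTheory AlgebraicGeometry
open Models

namespace Groth.Agent.S2227

/-- Let R be a discrete valuation ring with uniformizer ϖ and X → Spec R an at-worst-nodal family of
relative dimension one. For every point x of X lying over the closed point of Spec R there are: a
discrete valuation ring R' with an étale ring map R → R' sending ϖ to a uniformizer of R', an
element h of R'[u, v] which is either 0 or the constant ϖⁿ for some n (via R → R'), a scheme U with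
an étale morphism e : U → X whose image contains x, and an étale morphism g : U → Spec(R'[u, v]/(uv
− h)), such that the two composites U → Spec R (through g and through e) agree. (The étaleness of g
is part of the statement here; the published display leaves it implicit.) -/
theorem result (R : Type u) [CommRing R] [IsDomain R]
    [IsDiscreteValuationRing R] (ϖ : R) (hϖ : Irreducible ϖ) (X : Scheme.{u})
    (p : X ⟶ Spec (CommRingCat.of R)) (hp : Curv2.IsNodalFamily p) (x : X)
    (hx : p.base x = IsLocalRing.closedPoint R) :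
    ∃ (R' : Type u) (_ : CommRing R') (_ : IsDomain R') (_ : IsDiscreteValuationRing R')
      (_ : Algebra R R') (_ : Algebra.Etale R R') (_ : Irreducible (algebraMap R R' ϖ))
      (h : MvPolynomial (Fin 2) R') (_ : h = 0 ∨ ∃ n : ℕ, h = MvPolynomial.C (algebraMap R R' ϖ ^ n))
      (U : Scheme.{u}) (e : U ⟶ X) (_ : Etale e) (x' : U) (_ : e.base x' = x)
      (g : U ⟶ Spec (CommRingCat.of (MvPolynomial (Fin 2) R' ⧸
        Ideal.span {MvPolynomial.X 0 * MvPolynomial.X 1 - h}))) (_ : Etale g),
      g ≫ Spec.map (CommRingCat.ofHom ((Ideal.Quotient.mk _).comp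
          (MvPolynomial.C.comp (algebraMap R R')))) = e ≫ p := by
  obtain ⟨A, U, _, _, i, a, ψ, gV, gU, hψ, hψi, hgV, hgU, hcomm, ⟨u, hu⟩⟩ := NodalEtale14.exists_local_structure p hp x
  letI : Algebra R A := (Spec.preimage gV).hom.toAlgebra
  have hgVeq : Spec.map (CommRingCat.ofHom (algebraMap R A)) = gV := Spec.map_preimage gV
  haveI : Algebra.Etale R A := by
    rw [← hgVeq] at hgV
    exact RingHom.etale_algebraMap.1 ((HasRingHomProperty.Spec_iff (P := @Etale)).1 hgV)
  let P : PrimeSpectrum A := PrimeSpectrum.comap i u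
  have hP : P.asIdeal.comap (algebraMap R A) = IsLocalRing.maximalIdeal R := by
    have h : p.base (gU.base u) = IsLocalRing.closedPoint R := by rw [hu]; exact hx
    rw [← Scheme.Hom.comp_apply, hcomm, Scheme.Hom.comp_apply, ← hgVeq] at h
    exact congrArg PrimeSpectrum.asIdeal h
  obtain ⟨g, hg, hdom, hdvr, hirr, hdec⟩ := NodalEtale14.exists_away_dvr hϖ P.asIdeal hP
  haveI : Algebra.Etale A (Localization.Away g) := Algebra.Etale.of_isLocalizationAway g
  haveI : Algebra.Etale R (Localization.Away g) := Algebra.Etale.comp R A (Localization.Away g)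
  obtain ⟨i', ψ', hi', hψ', hψi'⟩ := NodalEtale14.exists_away_model i a ψ hψ hψi g
  let R' := Localization.Away g
  obtain ⟨h0, hh0, φ, hφ, hφC⟩ : ∃ (h0 : R'), (h0 = 0 ∨ ∃ n : ℕ, h0 = algebraMap R R' ϖ ^ n) ∧
      ∃ φ : NodalEtale14.Node R' h0 →+* Localization.Away (i g), φ.Etale ∧
        φ.comp ((Ideal.Quotient.mk _).comp MvPolynomial.C) = i' := by
    obtain ⟨a', ha', ψ'', hψ'', hψi''⟩ : ∃ a', algebraMap A R' a = a' ∧ ∃ ψ'' : NodalEtale14.Node R' a' →+* _,
        ψ''.Etale ∧ ψ''.comp ((Ideal.Quotient.mk _).comp MvPolynomial.C) = i' := ⟨_, rfl, ψ', hψ', hψi'⟩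
    rcases hdec a' with h | ⟨w, n, h⟩
    · exact ⟨a', Or.inl h, ψ'', hψ'', hψi''⟩
    · subst h
      obtain ⟨τ, hτ, hτC⟩ := NodalEtale14.exists_unit_twist w (algebraMap R R' ϖ ^ n)
      exact ⟨_, Or.inr ⟨n, rfl⟩, ψ''.comp τ, RingHom.Etale.stableUnderComposition _ _ hτ hψ'', by
        rw [RingHom.comp_assoc, hτC, hψi'']⟩
  let sU : Spec (CommRingCat.of (Localization.Away (i g))) ⟶ Spec (CommRingCat.of U) :=
    Spec.map (CommRingCat.ofHom (algebraMap U (Localization.Away (i g))))
  haveI : Etale sU := (HasRingHomProperty.Spec_iff (P := @Etale)).2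
    (RingHom.etale_algebraMap.2 (Algebra.Etale.of_isLocalizationAway (i g)))
  have hmem : u ∈ Set.range (PrimeSpectrum.comap (algebraMap U (Localization.Away (i g)))) := by
    rw [PrimeSpectrum.localization_away_comap_range (Localization.Away (i g)) (i g)]
    exact hg
  obtain ⟨x', hx'⟩ := hmem
  refine ⟨R', inferInstance, hdom, hdvr, inferInstance, inferInstance, hirr, MvPolynomial.C h0, ?_, _, sU ≫ gU,
    inferInstance, x', ?_, Spec.map (CommRingCat.ofHom φ), (HasRingHomProperty.Spec_iff (P := @Etale)).2 hφ, ?_⟩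
  · rcases hh0 with h | ⟨n, h⟩
    · exact Or.inl (by rw [h, map_zero])
    · exact Or.inr ⟨n, by rw [h]⟩
  · rw [Scheme.Hom.comp_apply, ← hu]
    exact congrArg gU hx'
  · rw [Category.assoc, hcomm, ← hgVeq, ← Spec.map_comp, ← Spec.map_comp, ← Spec.map_comp, ← CommRingCat.ofHom_comp,
      ← CommRingCat.ofHom_comp, ← CommRingCat.ofHom_comp]
    refine congrArg (fun k => Spec.map (CommRingCat.ofHom k)) ?_
    simp only [← RingHom.comp_assoc] at hφC ⊢
    rw [hφC, IsScalarTower.algebraMap_eq R A R', ← RingHom.comp_assoc, hi']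

end Groth.Agent.S2227
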