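import Groth.Statements.S1695
import Groth.Agent.Lib.BlowUpExist.Proper

set_option autoImplicit false
universe u
open CategoryTheory CategoryTheory.Limits AlgebraicGeometry TopologicalSpace
open SDiv

namespace Groth.Agent.S1695

open Groth.Agent Groth.Agent.BlowUpExist

lemma exists_affineAlgebra_equiv {A B : Type u} [CommRing A] [CommRing B] (ψ : A ≃+* B) {I : Ideal A} {a : A}
    {J : Ideal B} {c : B} (h : J = I.map ψ.toRingHom) (hc : c = ψ a) :
    ∃ Ψ : BlowUp.affineAlgebra A I a ≃+* BlowUp.affineAlgebra B J c,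
      ∀ x, Ψ (algebraMap A _ x) = algebraMap B _ (ψ x) := by
  subst hc
  have hM : (Submonoid.powers a).map ψ.toMonoidHom = Submonoid.powers (ψ a) := Submonoid.map_powers _ _
  let E : Localization.Away a ≃+* Localization.Away (ψ a) :=
    IsLocalization.ringEquivOfRingEquiv _ _ ψ hM
  have hE : ∀ x, E (algebraMap A _ x) = algebraMap B _ (ψ x) := fun x =>
    IsLocalization.ringEquivOfRingEquiv_eq hM x
  have hmk : ∀ x : A, E (IsLocalization.mk' (Localization.Away a) x ⟨a, Submonoid.mem_powers a⟩) =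
      IsLocalization.mk' (Localization.Away (ψ a)) (ψ x) ⟨ψ a, Submonoid.mem_powers (ψ a)⟩ := fun x =>
    IsLocalization.ringEquivOfRingEquiv_mk' hM x _
  have hmap : (BlowUp.affineAlgebra A I a).toSubring.map E.toRingHom = (BlowUp.affineAlgebra B J (ψ a)).toSubring := by
    simp only [BlowUp.affineAlgebra, Algebra.adjoin_eq_ring_closure, RingHom.map_closure]
    congr 1
    rw [Set.image_union]
    congr 1
    · rw [← Set.range_comp]
      exact (congrArg Set.range (funext hE : _ = _ ∘ _)).trans (ψ.surjective.range_comp _)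
    · ext q
      constructor
      · rintro ⟨_, ⟨x, hx, rfl⟩, rfl⟩
        exact ⟨ψ x, h ▸ Ideal.mem_map_of_mem _ hx, hmk x⟩
      · rintro ⟨y, hy, rfl⟩
        rw [h, Ideal.mem_map_iff_of_surjective ψ.toRingHom ψ.surjective] at hy
        obtain ⟨x, hx, rfl⟩ := hy
        exact ⟨_, ⟨x, hx, rfl⟩, hmk x⟩
  exact ⟨(RingEquiv.subringMap E).trans (RingEquiv.subringCongr hmap), fun x => Subtype.ext (hE x)⟩

lemma ofIdealTop_ideal_top {X : Scheme.{u}} [IsAffine X] (I : Ideal Γ(X, ⊤)) :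
    (Scheme.IdealSheafData.ofIdealTop I).ideal ⟨⊤, isAffineOpen_top X⟩ = I := by
  simp only [Scheme.IdealSheafData.ofIdealTop_ideal]
  erw [CategoryTheory.Functor.map_id]
  rw [CommRingCat.hom_id, Ideal.map_id]

/-- Global sections of `⊤ : Opens (Spec A)`. -/
noncomputable def topRing (A : Type u) [CommRing A] :
    CommRingCat.of A ≅ Γ((⊤ : (Spec (CommRingCat.of A)).Opens).toScheme, ⊤) :=
  (Scheme.ΓSpecIso (CommRingCat.of A)).symm ≪≫ (⊤ : (Spec (CommRingCat.of A)).Opens).topIso.symm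

lemma SpecMap_topRing (A : Type u) [CommRing A] [IsAffine (⊤ : (Spec (CommRingCat.of A)).Opens).toScheme] :
    Spec.map (topRing A).hom =
      (⊤ : (Spec (CommRingCat.of A)).Opens).toScheme.isoSpec.inv ≫ (⊤ : (Spec (CommRingCat.of A)).Opens).ι := by
  rw [Iso.eq_inv_comp]
  refine ext_of_isAffine ?_
  rw [← cancel_epi (Scheme.ΓSpecIso (CommRingCat.of A)).inv, Scheme.Hom.comp_appTop]
  simp [Scheme.isoSpec, topRing, Scheme.Opens.topIso_inv, Scheme.Opens.ι_appTop]
  rfl

lemma spec_square {A : Type u} [CommRing A] {R : CommRingCat.{u}} {B B' : Type u} [CommRing B] [CommRing B']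
    (f : A →+* B) (g : R →+* B') (t : CommRingCat.of A ⟶ R) (Ψ : B →+* B') (h : ∀ x, Ψ (f x) = g (t x)) :
    Spec.map (CommRingCat.ofHom f ≫ CommRingCat.ofHom Ψ) = Spec.map (CommRingCat.ofHom g) ≫ Spec.map t := by
  rw [← Spec.map_comp]
  exact congrArg Spec.map (CommRingCat.hom_ext (RingHom.ext h))

/-- Let A be a ring, I an ideal, and b : X' ⟶ Spec A a blowing-up of Spec A along the ideal sheaf of I.
Then every point of X' has an open neighbourhood which is isomorphic, over Spec A, to the spectrum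
of an affine blow-up algebra A[I/a] for some a ∈ I. -/
theorem result (A : Type u) [CommRing A] (I : Ideal A) {X' : Scheme.{u}}
    (b : X' ⟶ Spec (CommRingCat.of A)) (hb : BlowUp.IsBlowUp b (Scheme.IdealSheafData.ofIdealTop (I.map (Scheme.ΓSpecIso (CommRingCat.of A)).inv.hom))) (x' : ↥X') :
    ∃ (a : A) (_ : a ∈ I) (V : X'.Opens) (e : (V : Scheme.{u}) ≅ Spec (CommRingCat.of ↥(BlowUp.affineAlgebra A I a))),
      x' ∈ V ∧ e.hom ≫ Spec.map (CommRingCat.ofHom (algebraMap A ↥(BlowUp.affineAlgebra A I a))) = V.ι ≫ b := by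
  set C := Scheme.IdealSheafData.ofIdealTop (I.map (Scheme.ΓSpecIso (CommRingCat.of A)).inv.hom) with hC
  let T : (Spec (CommRingCat.of A)).affineOpens := ⟨⊤, isAffineOpen_top _⟩
  obtain ⟨O, i, hU, hn, hxO, hO⟩ := ChartIdx.exists_mem_of hb.1 T.2 (y := x') trivial
  obtain ⟨U, n, c, hcmem⟩ := i
  dsimp only at hU hn
  subst hn hU
  let a : A := (Scheme.ΓSpecIso (CommRingCat.of A)).hom c
  have hideal : (C ^ (0 + 1)).ideal T = I.map (Scheme.ΓSpecIso (CommRingCat.of A)).inv.hom := by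
    rw [zero_add, pow_one]; exact ofIdealTop_ideal_top _
  have ha : a ∈ I := by
    have h1 := Ideal.mem_map_of_mem (Scheme.ΓSpecIso (CommRingCat.of A)).hom.hom (hideal.le hcmem)
    rwa [Ideal.map_map, ← CommRingCat.hom_comp, Iso.inv_hom_id, CommRingCat.hom_id, Ideal.map_id] at h1
  let i : ChartIdx C := ⟨T, 0, c, hcmem⟩
  have : IsAffine (i.U.1.toScheme) := T.2
  have : IsAffine (⊤ : (Spec (CommRingCat.of A)).Opens).toScheme := T.2
  obtain ⟨e, he⟩ := ChartIdx.exists_locus_iso hb i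
  obtain ⟨Ψ, hΨ⟩ := exists_affineAlgebra_equiv (topRing A).commRingCatIsoToRingEquiv (I := I) (a := a)
    (J := i.J.ideal ⟨⊤, isAffineOpen_top _⟩) (c := i.sec) (by
      rw [ChartIdx.J_ideal_top, hideal, Ideal.map_map]; rfl)
    (by
      show _ = (⊤ : (Spec (CommRingCat.of A)).Opens).topIso.inv ((Scheme.ΓSpecIso (CommRingCat.of A)).inv _)
      rw [Iso.hom_inv_id_apply])
  refine ⟨a, ha, i.locus b, e ≪≫ Scheme.Spec.mapIso Ψ.toCommRingCatIso.op, ChartIdx.le_locus hO hxO, ?_⟩
  show (e.hom ≫ Spec.map (CommRingCat.ofHom Ψ.toRingHom)) ≫ _ = _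
  rw [Category.assoc, ← Spec.map_comp, ← he]
  congr 1
  refine (spec_square (algebraMap A (BlowUp.affineAlgebra A I a)) _ (topRing A).hom Ψ.toRingHom hΨ).trans ?_
  rw [SpecMap_topRing]
  exact (Category.assoc _ _ _).symm

end Groth.Agent.S1695
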