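import Groth.Statements.S1262
import Groth.Agent.Lib.Dev4.FlatAssoc
import Groth.Agent.Lib.RG4.LocFlat

set_option autoImplicit false
universe u
open FlatMor

set_option backward.isDefEq.respectTransparency.types false

attribute [local instance] Algebra.TensorProduct.rightAlgebra
open TensorProduct
namespace Groth.Agent.S1262

/-- Ring form, X = Spec S affine: let S be a finite type R-algebra, N a finite S-module and p a prime of
R. Then the set of points x of the fibre Spec(κ(p) ⊗ S) such that N is flat over R at the prime of S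
under x is open in the fibre. -/
theorem result {R S : Type u} [CommRing R] [CommRing S] [Algebra R S] [Algebra.FiniteType R S]
    (N : Type u) [AddCommGroup N] [Module S N] [Module R N] [IsScalarTower R S N] [Module.Finite S N]
    (p : Ideal R) [p.IsPrime] :
    IsOpen {x : PrimeSpectrum (p.Fiber S) |
      FlatCA.FlatAt R (x.asIdeal.comap (Algebra.TensorProduct.includeRight (R := R) (A := p.ResidueField) (B := S)).toRingHom) N} := by
  haveI : IsNoetherianRing (p.Fiber S) := Algebra.FiniteType.isNoetherianRing p.ResidueField (p.Fiber S)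
  haveI : Module.Finite (p.Fiber S) (FlatCA.fiberMod p S N) :=
    inferInstanceAs (Module.Finite (p.Fiber S) (p.Fiber S ⊗[S] N))
  have hover : ∀ x : PrimeSpectrum (p.Fiber S), (x.asIdeal.comap (algebraMap S (p.Fiber S))).LiesOver p := fun x => ⟨by
    show p = (x.asIdeal.comap _).comap (algebraMap R S)
    rw [Ideal.comap_comap, ← IsScalarTower.algebraMap_eq, IsScalarTower.algebraMap_eq R p.ResidueField (p.Fiber S),
      ← Ideal.comap_comap, show x.asIdeal.comap (algebraMap p.ResidueField (p.Fiber S)) = ⊥ from
        (Ideal.eq_bot_or_top _).resolve_right (Ideal.IsPrime.comap _).ne_top, ← RingHom.ker_eq_comap_bot,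
      Ideal.ker_algebraMap_residueField]⟩
  let Z : Set (PrimeSpectrum (p.Fiber S)) := {x | x.asIdeal ∈ associatedPrimes (p.Fiber S) (FlatCA.fiberMod p S N) ∧
    ¬ FlatCA.FlatAt R (x.asIdeal.comap (algebraMap S (p.Fiber S))) N}
  have hfin : Z.Finite :=
    ((associatedPrimes.finite (p.Fiber S) (FlatCA.fiberMod p S N)).preimage
      (Function.Injective.injOn fun a b h => PrimeSpectrum.ext h)).subset fun x hx => hx.1
  have hset : {x : PrimeSpectrum (p.Fiber S) | FlatCA.FlatAt R (x.asIdeal.comap
      (Algebra.TensorProduct.includeRight (R := R) (A := p.ResidueField) (B := S)).toRingHom) N} =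
      (⋃ z ∈ Z, PrimeSpectrum.zeroLocus (z.asIdeal : Set (p.Fiber S)))ᶜ := by
    ext x
    simp only [Set.mem_compl_iff, Set.mem_iUnion, PrimeSpectrum.mem_zeroLocus, SetLike.coe_subset_coe, not_exists]
    show FlatCA.FlatAt R (x.asIdeal.comap (algebraMap S (p.Fiber S))) N ↔ _
    haveI := hover x
    refine ⟨fun h z hz hzx => hz.2 (RG4.flatAt_of_le (Ideal.comap_mono hzx) h), fun h => ?_⟩
    refine Dev4.flatAt_of_assoc N p _ fun q' _ hle hq' hass => ?_
    haveI := hq'
    obtain ⟨z, hz⟩ := RG4.exists_fiber_point p q'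
    have hzf := Dev4.eq_fiberIdeal p q' z hz
    have hzx : z.asIdeal ≤ x.asIdeal := by
      rw [hzf]; exact Ideal.map_le_iff_le_comap.2 hle
    by_contra hn
    refine h z ⟨by rw [hzf]; exact hass, fun hflat => hn ?_⟩ hzx
    have key : ∀ (a b : Ideal S) [a.IsPrime] [b.IsPrime], a = b → FlatCA.FlatAt R a N → FlatCA.FlatAt R b N :=
      fun a b _ _ hab hh => by subst hab; exact hh
    exact key _ q' hz hflat
  rw [hset]
  exact (hfin.isClosed_biUnion fun z _ => PrimeSpectrum.isClosed_zeroLocus _).isOpen_compl

end Groth.Agent.S1262
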