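import Groth.Statements.S13532
import Groth.Agent.Lib.DimFormula14.Scheme
import Groth.Agent.Lib.FlatH4.GenPt

set_option autoImplicit false
universe u
open CategoryTheory CategoryTheory.Limits AlgebraicGeometry
open ResProp

set_option backward.isDefEq.respectTransparency.types false

namespace Groth.Agent.S13532

/-- A morphism of finite type between locally Noetherian schemes which is birational (an isomorphism
over a dense open of the target whose preimage is dense in the source) has finite fibres over all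
points of the target of codimension at most 1, i.e. whose local ring has Krull dimension at most 1. -/
theorem result {X Y : Scheme.{u}}
    [IsLocallyNoetherian X] [IsLocallyNoetherian Y] (f : Y ⟶ X) [LocallyOfFiniteType f] [QuasiCompact f]
    (U : X.Opens) (hU : Dense (U : Set X)) (hU' : Dense ((f ⁻¹ᵁ U : Y.Opens) : Set Y)) (hiso : IsIso (f ∣_ U))
    (x : X) (hx : ringKrullDim (X.presheaf.stalk x) ≤ 1) :
    (f.base ⁻¹' {x}).Finite := by
  have hU0 : ∀ y : Y, f y ∈ U → FibDim14.rd f y = 0 := fun y hy => by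
    have e1 := FibDim14.rd_comp (f ⁻¹ᵁ U).ι f ⟨y, hy⟩
    have e2 := FibDim14.rd_comp (f ∣_ U) U.ι ⟨y, hy⟩
    rw [FibDim14.rd_of_surjectiveOnStalks (f ⁻¹ᵁ U).ι] at e1
    rw [FibDim14.rd_of_surjectiveOnStalks (f ∣_ U), FibDim14.rd_of_surjectiveOnStalks U.ι] at e2
    simp only [morphismRestrict_ι] at e2
    rw [e2, add_zero, add_zero] at e1
    exact e1.symm
  have hrd : ∀ y : Y, f y = x → FibDim14.rd f y = 0 := by
    intro y hy
    by_cases hyU : f y ∈ U
    · exact hU0 y hyU
    obtain ⟨ξ, hξ, h0, hle⟩ := DimFormula14.exists_stalkDim_add_rd_le f y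
    have hmax : FlatH4.IsMaxPt ξ := fun z hz => by
      rw [ringKrullDim_stalk_eq_coheight] at h0
      have hm : IsMax ξ := Order.coheight_eq_zero.1 (by exact_mod_cast h0)
      exact hz.antisymm (hm hz) |>.eq
    have hξU : f ξ ∈ U := hmax.mem_of_dense (f ⁻¹ᵁ U).isOpen hU'
    rw [hU0 ξ hξU, hy, Nat.cast_zero, add_zero] at hle
    have h1 : (1 : WithBot ℕ∞) ≤ ringKrullDim (Y.presheaf.stalk y) := by
      have hne : Order.coheight y ≠ 0 := fun h => by
        have hm : IsMax y := Order.coheight_eq_zero.1 h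
        have e : ξ = y := (hξ.antisymm (hm hξ)).eq
        exact hyU (e ▸ hξU)
      rw [ringKrullDim_stalk_eq_coheight]
      exact WithBot.coe_le_coe.2 (Order.one_le_iff_ne_zero.2 hne)
    have h2 : ((1 : ℕ) : WithBot ℕ∞) + (FibDim14.rd f y : WithBot ℕ∞) ≤ ((1 : ℕ) : WithBot ℕ∞) :=
      (add_le_add (by exact_mod_cast h1) le_rfl).trans (hle.trans (by exact_mod_cast hx))
    have h3 : 1 + FibDim14.rd f y ≤ 1 := by exact_mod_cast h2
    omega
  have aux : ∀ (x' : X) (z : f.fiber x') (w : Y), f w = x' → f.fiberι x' z = w →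
      IsOpen ({f.asFiber w} : Set (f.fiber (f w))) → IsOpen ({z} : Set (f.fiber x')) := by
    intro x' z w e hw h1
    subst e
    rwa [(f.fiberι (f w)).isEmbedding.injective (hw.trans (f.fiberι_asFiber w).symm)]
  have hopen : ∀ z : f.fiber x, IsOpen ({z} : Set (f.fiber x)) := by
    intro z
    have hz : f (f.fiberι x z) = x := (Scheme.Hom.range_fiberι f x).le ⟨z, rfl⟩
    have h0 : FlatMor.fibreDimAt f (f.fiberι x z) ≤ ((0 : ℕ) : WithBot ℕ∞) :=
      (FibDim14.fibreDimAt_le_iff f).2 fun y _ hy => (hrd y (hy.trans hz)).le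
    obtain ⟨q, -, -, hd, -⟩ := FibDim14.exists_fibreDimAt_eq f (f.fiberι x z)
    have h1 : FlatMor.fibreDimAt f (f.fiberι x z) = 0 := by
      rw [hd] at h0 ⊢
      have : FibDim14.rd f q ≤ 0 := by exact_mod_cast h0
      rw [Nat.le_zero.1 this]; rfl
    rw [FibDim14.fibreDimAt_eq_zero_iff, Scheme.Hom.quasiFiniteAt_iff_isOpen_singleton_asFiber] at h1
    exact aux x z _ hz rfl h1
  haveI : DiscreteTopology (f.fiber x) := discreteTopology_iff_isOpen_singleton.2 hopen
  haveI : Finite (f.fiber x) := finite_of_compact_of_discrete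
  exact (Scheme.Hom.range_fiberι f x) ▸ Set.finite_range (f.fiberι x)

end Groth.Agent.S13532
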