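import Groth.Statements.S9687
import Groth.Agent.Lib.DimFormula14.Scheme
import Mathlib.AlgebraicGeometry.Properties

set_option autoImplicit false
universe u
open CategoryTheory CategoryTheory.Limits AlgebraicGeometry
open Mor

namespace Groth.Agent.S9687

/-- Let S be locally Noetherian, f : X ⟶ S locally of finite type and x a point of X with image s. Let n
be the transcendence degree of κ(x) over κ(s) and let E bound the transcendence degree of κ(ξ) over
κ(f ξ) for every generic point ξ of an irreducible component of X passing through x. Then dim
O_{X,x} + n ≤ dim O_{S,s} + E. (The published statement takes E to be the maximum of these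
transcendence degrees; the statement with any upper bound E is equivalent.) -/
theorem result {X S : Scheme.{u}} [IsLocallyNoetherian S]
    (f : X ⟶ S) [LocallyOfFiniteType f] (x : X) (n E : ℕ)
    (hn : letI := (f.residueFieldMap x).hom.toAlgebra
      Algebra.trdeg (S.residueField (f.base x)) (X.residueField x) = n)
    (hE : ∀ ξ : X, closure {ξ} ∈ irreducibleComponents ↥X → ξ ⤳ x →
      letI := (f.residueFieldMap ξ).hom.toAlgebra
      Algebra.trdeg (S.residueField (f.base ξ)) (X.residueField ξ) ≤ E) :
    ringKrullDim (X.presheaf.stalk x) + n ≤ ringKrullDim (S.presheaf.stalk (f.base x)) + E := by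
  obtain ⟨ξ, hξx, hξ0, hle⟩ := Groth.Agent.DimFormula14.exists_stalkDim_add_rd_le f x
  have hcomp : closure {ξ} ∈ irreducibleComponents ↥X := by
    refine ⟨isIrreducible_singleton.closure, fun t ht hle' => ?_⟩
    have h := isGenericPoint_closure (x := ξ)
    have hg := (ht.closure).isGenericPoint_genericPoint isClosed_closure
    have hmax : IsMax ξ := by
      rw [ringKrullDim_stalk_eq_coheight] at hξ0
      exact Order.coheight_eq_zero.1 (by exact_mod_cast hξ0)
    have h2 : ht.closure.genericPoint ⤳ ξ := hg.specializes (subset_closure (hle' (subset_closure rfl)))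
    have h3 : ξ ⤳ ht.closure.genericPoint := hmax h2
    exact fun z hz => specializes_iff_mem_closure.1 (h3.trans (hg.specializes (subset_closure hz)))
  have e1 : (Groth.Agent.FibDim14.rd f x) = n := by
    have e := Groth.Agent.FibDim14.rdeg_eq_rd f x
    unfold Groth.Agent.FibDim14.rdeg at e
    rw [hn] at e
    exact_mod_cast e.symm
  have e2 : (Groth.Agent.FibDim14.rd f ξ) ≤ E := by
    have e := Groth.Agent.FibDim14.rdeg_eq_rd f ξ
    have h := hE ξ hcomp hξx
    unfold Groth.Agent.FibDim14.rdeg at e
    rw [e] at h
    exact_mod_cast h
  rw [e1] at hle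
  exact hle.trans (add_le_add le_rfl (by exact_mod_cast e2))

end Groth.Agent.S9687
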