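import Groth.Statements.S1997
import Mathlib.Algebra.Category.Ring.Epi
import Mathlib.RingTheory.Flat.Tensor
import Mathlib.RingTheory.IntegralClosure.IntegrallyClosed
import Mathlib.RingTheory.IntegralClosure.Algebra.Basic

set_option autoImplicit false
universe u
open CategoryTheory
open EtAlg

namespace Groth.Agent.S1997

/-- Let A be a ring all of whose ideals are flat (weak dimension at most one) and A -> B a flat,
injective ring map which is an epimorphism in the category of commutative rings. Then A is
integrally closed in B. -/
theorem result (A B : Type u) [CommRing A] [CommRing B] [Algebra A B]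
    (hA : ∀ I : Ideal A, Module.Flat A I) [Module.Flat A B] (hinj : Function.Injective (algebraMap A B))
    (hepi : Epi (CommRingCat.ofHom (algebraMap A B))) : IsIntegrallyClosedIn A B := by
  classical
  haveI : Algebra.IsEpi A B := CommRingCat.epi_iff_epi.mp hepi
  refine isIntegrallyClosedIn_iff.2 ⟨hinj, fun {b} hb => ?_⟩
  let C := Algebra.adjoin A ({b} : Set B)
  haveI : Module.Finite A C := Module.Finite.iff_fg.2 hb.fg_adjoin_singleton
  let i : C →ₗ[A] B := C.val.toLinearMap
  have hi : Function.Injective i := Subtype.val_injective
  haveI : Module.Flat A C := by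
    refine Module.Flat.iff_lTensor_injective'.2 fun I => ?_
    have h1 : Function.Injective (I.subtype.lTensor B) := Module.Flat.lTensor_preserves_injective_linearMap _ Subtype.val_injective
    haveI := hA I
    have h2 : Function.Injective (i.rTensor I) := Module.Flat.rTensor_preserves_injective_linearMap _ hi
    refine Function.Injective.of_comp (f := i.rTensor A) ?_
    rw [← LinearMap.coe_comp, LinearMap.rTensor_comp_lTensor, ← LinearMap.lTensor_comp_rTensor, LinearMap.coe_comp]
    exact h1.comp h2
  haveI : Algebra.IsEpi A C := by
    refine (Algebra.isEpi_iff_forall_one_tmul_eq A C).2 fun c => ?_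
    have h3 : Function.Injective (TensorProduct.map i i) := by
      rw [← LinearMap.rTensor_comp_lTensor, LinearMap.coe_comp]
      exact (Module.Flat.rTensor_preserves_injective_linearMap i hi).comp
        (Module.Flat.lTensor_preserves_injective_linearMap i hi)
    exact h3 ((Algebra.isEpi_iff_forall_one_tmul_eq A B).1 inferInstance (c : B))
  obtain ⟨a, ha⟩ := (Algebra.isEpi_iff_surjective_algebraMap_of_finite (R := A) (A := C)).1 inferInstance
    ⟨b, Algebra.subset_adjoin rfl⟩
  exact ⟨a, congrArg Subtype.val ha⟩

end Groth.Agent.S1997
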