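import Groth.Statements.S4228
import Groth.Agent.Lib.BertiniAff5.Basic
-- import your own Groth.Agent.* helpers here

set_option autoImplicit false
open CategoryTheory AlgebraicGeometry
universe u
open An

namespace Groth.Agent.S4228

/-- In the affine hyperplane case to which the proof reduces (the published statement is for a
projective scheme V ⊆ P^n_k of pure dimension r and a general linear subspace of any dimension,
parametrised by a dense open subset of the Grassmannian; part (ii), hypersurfaces of degree ≥ 2
through a point, is not stated here): let k be an infinite field (for a finite field the condition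
below on coefficient vectors could hold at no rational point, so the dense-open formulation is
rendered only for infinite k) and A = k[x_1, …, x_n]/I a quotient of the polynomial ring (V = Spec A
⊆ A^n_k) such that every irreducible component of V has dimension r. Then there is a nonzero
polynomial g in the n + 1 coefficients such that for every a = (a_0, …, a_n) with g(a) ≠ 0 the
hyperplane a_0 + Σ a_i x_i = 0 cuts V transversally at every point of the hyperplane section where V
is smooth over k: the section Spec (A/(a_0 + Σ a_i x_i)) is smooth over k of relative dimension r −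
1 on a neighbourhood of each such point. -/
theorem result (k : Type u) [Field k] [Infinite k] (n r : ℕ) (A : Type u) [CommRing A]
    [Algebra k A] (x : Fin n → A)
    (hx : Function.Surjective (MvPolynomial.aeval x : MvPolynomial (Fin n) k →ₐ[k] A))
    (hdim : ∀ P ∈ minimalPrimes A, ringKrullDim (A ⧸ P) = r) :
    ∃ g : MvPolynomial (Fin (n + 1)) k, g ≠ 0 ∧
      ∀ a : Fin (n + 1) → k, MvPolynomial.eval a g ≠ 0 →
        ∀ (q : Ideal (A ⧸ Ideal.span {algebraMap k A (a 0) + ∑ i : Fin n, algebraMap k A (a i.succ) * x i}))
          (_ : q.IsPrime),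
          (∃ f : A, f ∉ q.comap (Ideal.Quotient.mk _) ∧
            Smooth (Spec.map (CommRingCat.ofHom (algebraMap k (Localization.Away f))))) →
          ∃ f : A ⧸ Ideal.span {algebraMap k A (a 0) + ∑ i : Fin n, algebraMap k A (a i.succ) * x i},
            f ∉ q ∧ SmoothOfRelativeDimension (r - 1)
              (Spec.map (CommRingCat.ofHom (algebraMap k (Localization.Away f)))) := by
  classical
  haveI : Algebra.FiniteType k A := Algebra.FiniteType.of_surjective (MvPolynomial.aeval x) hx
  haveI : Algebra.FinitePresentation k A := Algebra.FinitePresentation.of_finiteType.1 inferInstance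
  haveI : IsNoetherianRing A := Algebra.FiniteType.isNoetherianRing k A
  let Good : A → Prop := fun g => ∃ (B : Type u) (_ : CommRing B) (_ : Algebra k B) (_ : Algebra A B)
      (_ : IsScalarTower k A B) (_ : IsLocalization.Away g B) (κ : Type) (_ : Fintype κ) (a : κ → Fin n)
      (b : Module.Basis κ B Ω[B⁄k]),
      Algebra.Smooth k B ∧ Nontrivial B ∧
      ∀ l, b l = KaehlerDifferential.D k B (algebraMap A B (x (a l)))
  let U : Set (PrimeSpectrum A) := ⋃ g : {g : A // Good g}, (PrimeSpectrum.basicOpen g.1 : Set (PrimeSpectrum A))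
  obtain ⟨t, ht⟩ := (TopologicalSpace.NoetherianSpace.isCompact U).elim_finite_subcover
    (fun g : {g : A // Good g} => (PrimeSpectrum.basicOpen g.1 : Set (PrimeSpectrum A)))
    (fun g => (PrimeSpectrum.basicOpen g.1).2) subset_rfl
  -- one polynomial for each chart
  have key : ∀ g : {g : A // Good g}, ∃ G : MvPolynomial (Fin (n + 1)) k, G ≠ 0 ∧
      ∀ α : Fin (n + 1) → k, MvPolynomial.eval α G ≠ 0 →
      ∀ p : Ideal A, p.IsPrime → g.1 ∉ p → algebraMap k A (α 0) + ∑ i, algebraMap k A (α i.succ) * x i ∈ p →
        ∃ f : A, f ∉ p ∧ Algebra.IsStandardSmoothOfRelativeDimension (r - 1) k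
          (Localization.Away (Ideal.Quotient.mk
            (Ideal.span {algebraMap k A (α 0) + ∑ i, algebraMap k A (α i.succ) * x i}) f)) := by
    rintro ⟨g, B, _, _, _, _, _, κ, _, a, b, hsm, hnt, hb⟩
    haveI := hsm
    haveI := hnt
    let xB : Fin n → B := fun i => algebraMap A B (x i)
    let c : Fin n → κ → B := fun i l => b.repr (KaehlerDifferential.D k B (xB i)) l
    have ha : Function.Injective a := fun l l' h => b.injective (by rw [hb, hb, h])
    have hc : ∀ l l', c (a l') l = if l' = l then 1 else 0 := fun l l' => by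
      simp only [c, xB]
      rw [← hb, Module.Basis.repr_self, Finsupp.single_apply]
    haveI : Algebra.IsStandardSmooth k B := Algebra.IsStandardSmooth.of_basis_kaehlerDifferential b (by
      rintro _ ⟨l, rfl⟩; exact ⟨_, (hb l).symm⟩)
    haveI : Algebra.IsStandardSmoothOfRelativeDimension (Fintype.card κ) k B := by
      rw [Algebra.IsStandardSmoothOfRelativeDimension.iff_of_isStandardSmooth, rank_eq_card_basis b]
    have hκ : Fintype.card κ = r := BertiniAff5.chart_dim (k := k) hdim g (Fintype.card κ) (B := B)
    have hB : ringKrullDim B ≤ r := by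
      rw [ringKrullDim_le_iff_isMaximal_height_le]
      intro M hM
      rw [← IsLocalization.height_under (Submonoid.powers g) M]
      exact (Ideal.height_le_ringKrullDim_of_ne_top (Ideal.IsPrime.ne_top inferInstance)).trans
        (BertiniAff5.ringKrullDim_le hdim)
    haveI : Algebra.FiniteType k B := inferInstance
    obtain ⟨G, hG0, hG⟩ := BertiniAff5.exists_good_poly (k := k) hB xB hκ a ha c (fun l => by simp [hc])
      (fun l l' h => by simp [hc, h])
    refine ⟨G, hG0, fun α hα p hp hgp hhp => ?_⟩
    let h : A := algebraMap k A (α 0) + ∑ i, algebraMap k A (α i.succ) * x i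
    let h' : B := algebraMap A B h
    have hh' : h' = algebraMap k B (α 0) + ∑ i, algebraMap k B (α i.succ) * xB i := by
      simp only [h', h, map_add, map_sum, map_mul, ← IsScalarTower.algebraMap_apply k A B, xB]
    have hdh : ∀ l, b.repr (KaehlerDifferential.D k B h') l = ∑ i, algebraMap k B (α i.succ) * c i l := by
      intro l
      rw [hh', map_add, Derivation.map_algebraMap, zero_add, map_sum, map_sum, Finsupp.finsetSum_apply]
      refine Finset.sum_congr rfl fun i _ => ?_
      rw [Derivation.leibniz, Derivation.map_algebraMap, smul_zero, add_zero, map_smul, Finsupp.smul_apply,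
        smul_eq_mul]
    let p' : Ideal B := p.map (algebraMap A B)
    have hdis : Disjoint ((Submonoid.powers g : Submonoid A) : Set A) (p : Set A) :=
      (Ideal.disjoint_powers_iff_notMem_of_isPrime _).2 hgp
    haveI hp' : p'.IsPrime := IsLocalization.isPrime_of_isPrime_disjoint (Submonoid.powers g) B p hp hdis
    have hpc : p'.comap (algebraMap A B) = p :=
      IsLocalization.under_map_of_isPrime_disjoint (Submonoid.powers g) B hp hdis
    obtain ⟨l₀, hl₀⟩ : ∃ l, b.repr (KaehlerDifferential.D k B h') l ∉ p' := by
      by_contra hcon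
      push Not at hcon
      refine hp'.ne_top (top_le_iff.1 ((hG α hα).ge.trans (Ideal.span_le.2 ?_)))
      rintro _ (⟨l, rfl⟩ | rfl)
      · show ∑ i, algebraMap k B (α i.succ) * c i l ∈ p'
        rw [← hdh l]; exact hcon l
      · show algebraMap k B (α 0) + ∑ i, algebraMap k B (α i.succ) * xB i ∈ p'
        rw [← hh']; exact Ideal.mem_map_of_mem _ hhp
    let β := b.repr (KaehlerDifferential.D k B h') l₀
    obtain ⟨⟨f₀, s⟩, hfs⟩ := IsLocalization.surj (Submonoid.powers g) β
    let C := Localization.Away (algebraMap A B f₀)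
    haveI : IsLocalization.Away (g * f₀) C := IsLocalization.Away.mul' B C g f₀
    have hu : IsUnit (algebraMap B C β) := by
      have := IsLocalization.Away.algebraMap_isUnit (S := C) (algebraMap A B f₀)
      have h2 : algebraMap B C (algebraMap A B f₀) = algebraMap B C β * algebraMap B C (algebraMap A B s.1) := by
        rw [← map_mul, hfs]
      exact isUnit_of_mul_isUnit_left (h2 ▸ this)
    have hf₀ : f₀ ∉ p := by
      intro hf
      refine hl₀ ((hp'.mem_or_mem (x := β) (y := algebraMap A B s.1) ?_).resolve_right fun hs => ?_)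
      · rw [hfs]; exact Ideal.mem_map_of_mem _ hf
      · have hs' : (s : A) ∈ p := hpc ▸ (hs : (s : A) ∈ p'.comap (algebraMap A B))
        obtain ⟨N, hN⟩ := s.2
        exact hgp (hp.mem_of_pow_mem (r := g) N (by rw [show g ^ N = (s : A) from hN]; exact hs'))
    refine ⟨g * f₀, fun hm => (hp.mem_or_mem hm).elim hgp hf₀, ?_⟩
    haveI : Algebra.Smooth k C := Algebra.Smooth.comp k B C
    let bC := b.ofIsLocalizedModule C (Submonoid.powers (algebraMap A B f₀)) (KaehlerDifferential.map k k B C)
    have hbC : ∀ l, bC l = KaehlerDifferential.D k C (algebraMap A C (x (a l))) := fun l => by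
      rw [Module.Basis.ofIsLocalizedModule_apply, hb, KaehlerDifferential.map_D,
        ← IsScalarTower.algebraMap_apply A B C]
    have hu' : IsUnit (bC.repr (KaehlerDifferential.D k C (algebraMap A C h)) l₀) := by
      have : KaehlerDifferential.D k C (algebraMap A C h) =
          KaehlerDifferential.map k k B C (KaehlerDifferential.D k B h') := by
        rw [KaehlerDifferential.map_D, ← IsScalarTower.algebraMap_apply A B C]
      rw [this, Module.Basis.ofIsLocalizedModule_repr_apply]
      exact hu
    let S := A ⧸ Ideal.span {h}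
    let f : S := Ideal.Quotient.mk _ (g * f₀)
    let Q := C ⧸ (Ideal.span {h}).map (algebraMap A C)
    haveI : IsLocalization.Away f Q := by
      have := (inferInstance : IsLocalization (Algebra.algebraMapSubmonoid S (Submonoid.powers (g * f₀))) Q)
      rwa [Algebra.algebraMapSubmonoid, Submonoid.map_powers] at this
    let e : Localization.Away f ≃ₐ[S] Q := Localization.algEquiv _ _
    haveI : Nontrivial Q := by
      refine Ideal.Quotient.nontrivial_iff.2 fun htop => ?_
      have hdis' : Disjoint ((Submonoid.powers (g * f₀) : Submonoid A) : Set A) (p : Set A) :=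
        (Ideal.disjoint_powers_iff_notMem_of_isPrime _).2 fun hm => (hp.mem_or_mem hm).elim hgp hf₀
      refine (IsLocalization.isPrime_of_isPrime_disjoint (Submonoid.powers (g * f₀)) C p hp hdis').ne_top
        (top_le_iff.1 (htop.symm.le.trans (Ideal.map_mono ?_)))
      exact (Ideal.span_singleton_le_iff_mem _).2 hhp
    have hspan : Ideal.span {algebraMap A C h} = (Ideal.span {h}).map (algebraMap A C) := by
      rw [Ideal.map_span, Set.image_singleton]
    let e' : (C ⧸ Ideal.span {algebraMap A C h}) ≃ₐ[k] Q := Ideal.quotientEquivAlgOfEq k hspan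
    haveI : Nontrivial (C ⧸ Ideal.span {algebraMap A C h}) := e'.toRingEquiv.toEquiv.nontrivial
    haveI := BertiniAff5.hypersurface bC (fun l => algebraMap A C (x (a l))) hbC (algebraMap A C h) l₀ hu'
    rw [← hκ]
    haveI : IsScalarTower k S Q := IsScalarTower.of_algebraMap_eq fun z => by
      show Ideal.Quotient.mk _ (algebraMap k C z) = Ideal.Quotient.mk _ (algebraMap A C (algebraMap k A z))
      rw [← IsScalarTower.algebraMap_apply k A C]
    exact Algebra.IsStandardSmoothOfRelativeDimension.of_algEquiv _ (e'.trans (e.restrictScalars k).symm)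
  choose G hG0 hG using key
  refine ⟨∏ g ∈ t, G g, Finset.prod_ne_zero_iff.2 fun g _ => hG0 g, fun α hα q hq hsm => ?_⟩
  obtain ⟨f₁, hf₁, hsm⟩ := hsm
  haveI := hq
  let p : Ideal A := q.comap (Ideal.Quotient.mk _)
  haveI : p.IsPrime := Ideal.IsPrime.comap _
  rw [HasRingHomProperty.Spec_iff (P := @Smooth), CommRingCat.hom_ofHom, RingHom.smooth_algebraMap] at hsm
  haveI : Algebra.IsSmoothAt k p :=
    (Algebra.basicOpen_subset_smoothLocus_iff (f := f₁)).2 inferInstance
      (show (⟨p, inferInstance⟩ : PrimeSpectrum A) ∈ PrimeSpectrum.basicOpen f₁ from hf₁)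
  obtain ⟨g₀, hg₀, hsm₀⟩ := Algebra.IsSmoothAt.exists_notMem_smooth k p
  obtain ⟨g₁, hg₁, κ, _, a, b, hb⟩ := BertiniAff5.exists_chart x hx p
  have hgood : ∃ g : {g : A // Good g}, g.1 ∉ p := by
    let B₁ := Localization.Away g₁
    let C := Localization.Away (algebraMap A B₁ g₀)
    haveI : IsLocalization.Away (g₁ * g₀) C := IsLocalization.Away.mul' B₁ C g₁ g₀
    let E := Localization.Away (algebraMap A (Localization.Away g₀) g₁)
    haveI : IsLocalization.Away (g₁ * g₀) E := IsLocalization.Away.mul (Localization.Away g₀) E g₀ g₁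
    haveI := hsm₀
    haveI : Algebra.Smooth k E := Algebra.Smooth.comp k (Localization.Away g₀) E
    let e : E ≃ₐ[A] C := IsLocalization.algEquiv (Submonoid.powers (g₁ * g₀)) E C
    haveI hC : Algebra.Smooth k C := Algebra.Smooth.of_equiv (e.restrictScalars k)
    have hmem : g₁ * g₀ ∉ p := fun hm => (Ideal.IsPrime.mem_or_mem inferInstance hm).elim hg₁ hg₀
    refine ⟨⟨g₁ * g₀, C, inferInstance, inferInstance, inferInstance, inferInstance, inferInstance, κ, inferInstance, a,
      b.ofIsLocalizedModule C (Submonoid.powers (algebraMap A B₁ g₀)) (KaehlerDifferential.map k k B₁ C), hC, ?_, fun l => ?_⟩,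
      hmem⟩
    · exact ⟨⟨0, 1, fun h01 => (IsLocalization.isPrime_of_isPrime_disjoint (Submonoid.powers (g₁ * g₀)) C p inferInstance
        ((Ideal.disjoint_powers_iff_notMem_of_isPrime _).2 hmem)).ne_top (Ideal.eq_top_iff_one _ |>.2 (h01 ▸ Submodule.zero_mem _))⟩⟩
    · rw [Module.Basis.ofIsLocalizedModule_apply, hb, KaehlerDifferential.map_D,
        ← IsScalarTower.algebraMap_apply A B₁ C]
  obtain ⟨g, hg⟩ := hgood
  obtain ⟨g', hg't, hg'⟩ : ∃ g' ∈ t, g'.1 ∉ p := by
    have := ht (Set.mem_iUnion.2 ⟨g, (show (⟨p, inferInstance⟩ : PrimeSpectrum A) ∈ PrimeSpectrum.basicOpen g.1 from hg)⟩)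
    obtain ⟨g', hg', h⟩ := Set.mem_iUnion₂.1 this
    exact ⟨g', hg', h⟩
  have hα' : MvPolynomial.eval α (G g') ≠ 0 := by
    rw [map_prod] at hα
    exact Finset.prod_ne_zero_iff.1 hα g' hg't
  obtain ⟨f, hf, hfs⟩ := hG g' α hα' p inferInstance hg' (by
    refine Ideal.mem_comap.2 ?_
    rw [Ideal.Quotient.eq_zero_iff_mem.2 (Ideal.mem_span_singleton_self _)]
    exact q.zero_mem)
  refine ⟨Ideal.Quotient.mk _ f, hf, ?_⟩
  rw [HasRingHomProperty.Spec_iff (P := @SmoothOfRelativeDimension (r - 1)), CommRingCat.hom_ofHom]
  exact RingHom.locally_of RingHom.isStandardSmoothOfRelativeDimension_respectsIso _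
    ((RingHom.isStandardSmoothOfRelativeDimension_algebraMap _).2 hfs)

end Groth.Agent.S4228
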