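import Groth.Statements.S15554
import Groth.Agent.Lib.Bertini13.Section
import Groth.Agent.S4228
import Groth.Agent.Lib.VarDim.Alg

set_option autoImplicit false
universe u
open CategoryTheory CategoryTheory.Limits AlgebraicGeometry
open SmVar

set_option backward.isDefEq.respectTransparency false
set_option backward.isDefEq.respectTransparency.types false

set_option maxHeartbeats 2000000

namespace Groth.Agent.S15554

/-- Let k be an infinite field and X ⊆ P^n_k a smooth projective variety, given as an integral scheme X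
with a closed immersion ι into projective n-space over k through which X is smooth over k. Then X
has a smooth hyperplane section defined over k: there is a global section s of the twisting sheaf
O(1) on P^n_k whose zero scheme H, a hyperplane defined over k, does not contain X and for which the
scheme-theoretic intersection X ∩ H = X ×_{P^n_k} H is smooth over k. (The published statement also
records that X ∩ H has dimension dim X − 1; that is automatic once X is integral and not contained
in H, so this row states smoothness together with X ⊄ H.) -/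
theorem result (k : Type u) [Field k] [Infinite k] (n : ℕ)
    (X : Scheme.{u}) [IsIntegral X] (ι : X ⟶ CohB1.ProjSpace n k) [IsClosedImmersion ι]
    [Smooth (ι ≫ CohB1.ProjSpace.toSpec n k)] :
    ∃ s : Coh.structureModule (CohB1.ProjSpace n k) ⟶ Twist.twistProjSpace n k 1,
      (∃ x : ↥X, ι.base x ∉ (PicF2.zeroScheme (Twist.twistProjSpace n k 1) s).support) ∧
      Smooth (pullback.fst ι (PicF2.zeroScheme (Twist.twistProjSpace n k 1) s).subschemeι ≫ ι ≫
        CohB1.ProjSpace.toSpec n k) := by
  classical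
  letI := MvPolynomial.gradedAlgebra (σ := Fin (n + 1)) (R := k)
  obtain ⟨j₀, hj₀⟩ : ∃ j, genericPoint X ∈ ι ⁻¹ᵁ Bertini13.V k n j := by
    have : ι (genericPoint X) ∈ (⨆ i : Fin (n + 1), Proj.basicOpen (CohB1.polyGrading n k) (MvPolynomial.X i)) := by
      rw [ProjSpace.iSup_basicOpen]; trivial
    obtain ⟨j, hj⟩ := TopologicalSpace.Opens.mem_iSup.1 this
    exact ⟨j, hj⟩
  have key : ∀ j : Fin (n + 1), ∃ G : MvPolynomial (Fin (n + 1)) k, G ≠ 0 ∧
      ∀ c : Fin (n + 1) → k, MvPolynomial.eval c G ≠ 0 →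
        ((Ideal.Quotient.mk (Ideal.span {(ι.app (Bertini13.V k n j)).hom (Bertini13.coordV k n j (Bertini13.lin j c))})).comp
          ((ι.app (Bertini13.V k n j)).hom.comp ((Bertini13.coordV k n j).comp MvPolynomial.C))).Smooth := by
    intro j
    let W : X.Opens := ι ⁻¹ᵁ Bertini13.V k n j
    let A : Type u := Γ(X, W)
    let ψ : MvPolynomial {l : Fin (n + 1) // l ≠ j} k →+* A :=
      (ι.app (Bertini13.V k n j)).hom.comp (Bertini13.coordV k n j)
    have hψ : Function.Surjective ψ :=
      (ι.app_surjective _ (Bertini13.isAffineOpen_V j)).comp (Bertini13.coordV_surjective j)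
    letI : Algebra k A := (ψ.comp MvPolynomial.C).toAlgebra
    haveI hsmA : Algebra.Smooth k A := Bertini13.isIntegral_smooth_chart ι j
    let x : Fin n → A := fun i => ψ (MvPolynomial.X ⟨j.succAbove i, Fin.succAbove_ne j i⟩)
    have hx : Function.Surjective (MvPolynomial.aeval x : MvPolynomial (Fin n) k →ₐ[k] A) := by
      intro a
      obtain ⟨p, rfl⟩ := hψ a
      induction p using MvPolynomial.induction_on with
      | C c => exact ⟨MvPolynomial.C c, by rw [MvPolynomial.aeval_C]; rfl⟩
      | add p q hp hq =>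
        obtain ⟨a, ha⟩ := hp
        obtain ⟨b, hb⟩ := hq
        exact ⟨a + b, by rw [map_add, map_add, ha, hb]⟩
      | mul_X p l hp =>
        obtain ⟨a, ha⟩ := hp
        obtain ⟨i, hi⟩ := Fin.exists_succAbove_eq l.2
        refine ⟨a * MvPolynomial.X i, ?_⟩
        rw [map_mul, map_mul, ha, MvPolynomial.aeval_X]
        exact congrArg (fun z => ψ p * ψ (MvPolynomial.X z)) (Subtype.ext hi)
    rcases subsingleton_or_nontrivial A with hs | hnt
    · refine ⟨1, one_ne_zero, fun c _ => ?_⟩
      haveI : Subsingleton (A ⧸ Ideal.span {ψ (Bertini13.lin j c)}) := Ideal.Quotient.mk_surjective.subsingleton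
      change Algebra.Smooth k (A ⧸ Ideal.span {ψ (Bertini13.lin j c)})
      exact Algebra.Smooth.of_equiv (R := k) (A := A)
        (AlgEquiv.ofBijective (Ideal.Quotient.mkₐ k (Ideal.span {ψ (Bertini13.lin j c)}))
          ⟨fun _ _ _ => Subsingleton.elim _ _, Ideal.Quotient.mk_surjective⟩)
    haveI : Nonempty W := by
      by_contra hne
      rw [not_nonempty_iff] at hne
      have hW : W = ⊥ := TopologicalSpace.Opens.ext (Set.eq_empty_of_forall_notMem fun y hy => hne.false ⟨y, hy⟩)
      haveI : Subsingleton Γ(X, W) := by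
        rw [hW]
        exact CommRingCat.subsingleton_of_isTerminal X.sheaf.isTerminalOfEmpty
      exact false_of_nontrivial_of_subsingleton A
    haveI : IsDomain A := inferInstanceAs (IsDomain Γ(X, W))
    haveI : Algebra.FiniteType k A := Algebra.FiniteType.of_surjective (MvPolynomial.aeval x) hx
    obtain ⟨r, hr⟩ : ∃ r : ℕ, ringKrullDim A = r := ⟨_, VarDim.ringKrullDim_eq_tdeg k A⟩
    have hdim : ∀ P ∈ minimalPrimes A, ringKrullDim (A ⧸ P) = r := by
      intro P hP
      rw [IsDomain.minimalPrimes_eq_singleton_bot] at hP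
      rw [Set.mem_singleton_iff.1 hP, ← hr]
      exact ringKrullDim_eq_of_ringEquiv (RingEquiv.quotientBot A)
    obtain ⟨g, hg, hgood⟩ := Groth.Agent.S4228.result k n r A x hx hdim
    let σ : Fin (n + 1) → Fin (n + 1) := Fin.cases j j.succAbove
    have hσ : Function.Injective σ := by
      intro a b
      refine Fin.cases ?_ (fun a => ?_) a <;> refine Fin.cases ?_ (fun b => ?_) b <;>
        simp [σ, Fin.succAbove_ne, (Fin.succAbove_ne j _).symm]
    refine ⟨MvPolynomial.rename σ g, fun h0 => hg (MvPolynomial.rename_injective σ hσ (by rw [h0, map_zero])),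
      fun c hc => ?_⟩
    rw [MvPolynomial.eval_rename] at hc
    let e : A := algebraMap k A (c (σ 0)) + ∑ i : Fin n, algebraMap k A (c (σ i.succ)) * x i
    have he : e = ψ (Bertini13.lin j c) := by
      simp only [e, Bertini13.lin, map_add, map_sum, map_mul, σ, Fin.cases_zero, Fin.cases_succ]
      rfl
    change Algebra.Smooth k (A ⧸ Ideal.span {ψ (Bertini13.lin j c)})
    rw [← he]
    let S := A ⧸ Ideal.span {e}
    have hloc : ∀ q : PrimeSpectrum S, ∃ f : S, f ∉ q.asIdeal ∧ Algebra.Smooth k (Localization.Away f) := by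
      intro q
      obtain ⟨f, hf, hfs⟩ := hgood (c ∘ σ) hc q.asIdeal q.2 ⟨1, fun h1 => q.2.ne_top ((Ideal.eq_top_iff_one _).2
        (by simpa using h1)), by
          rw [HasRingHomProperty.Spec_iff (P := @Smooth), CommRingCat.hom_ofHom, RingHom.smooth_algebraMap]
          haveI : Algebra.Smooth A (Localization.Away (1 : A)) := inferInstance
          exact Algebra.Smooth.comp k A (Localization.Away (1 : A))⟩
      haveI := hfs
      have hsm' : Smooth (Spec.map (CommRingCat.ofHom (algebraMap k (Localization.Away f)))) :=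
        SmoothOfRelativeDimension.smooth (n := r - 1) _
      rw [HasRingHomProperty.Spec_iff (P := @Smooth), CommRingCat.hom_ofHom, RingHom.smooth_algebraMap] at hsm'
      exact ⟨f, hf, hsm'⟩
    choose f hf hfs using hloc
    have hspan : Ideal.span (Set.range f) = ⊤ := by
      by_contra hne
      obtain ⟨M, hM, hle⟩ := Ideal.exists_le_maximal _ hne
      exact hf ⟨M, hM.isPrime⟩ (hle (Ideal.subset_span ⟨_, rfl⟩))
    have hS : (algebraMap k S).Smooth := RingHom.Smooth.ofLocalizationSpanTarget _ (Set.range f) hspan fun r => by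
      obtain ⟨q, hq⟩ := r.2
      rw [← IsScalarTower.algebraMap_eq, RingHom.smooth_algebraMap, ← hq]
      exact hfs q
    exact RingHom.smooth_algebraMap.1 hS
  choose G hG0 hG using key
  let Wo : X.Opens := ι ⁻¹ᵁ Bertini13.V k n j₀
  haveI : Nonempty Wo := ⟨⟨genericPoint X, hj₀⟩⟩
  let ψ₀ : MvPolynomial {l : Fin (n + 1) // l ≠ j₀} k →+* Γ(X, Wo) :=
    (ι.app (Bertini13.V k n j₀)).hom.comp (Bertini13.coordV k n j₀)
  letI : Algebra k Γ(X, Wo) := (ψ₀.comp MvPolynomial.C).toAlgebra
  obtain ⟨φ, hφ⟩ : ∃ φ : Γ(X, Wo) →ₗ[k] k, φ 1 = 1 := by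
    obtain ⟨φ, hφ⟩ := LinearMap.exists_extend (p := k ∙ (1 : Γ(X, Wo)))
      ((LinearEquiv.toSpanNonzeroSingleton k _ (1 : Γ(X, Wo)) one_ne_zero).symm.toLinearMap)
    refine ⟨φ, ?_⟩
    have := DFunLike.congr_fun hφ ⟨1, Submodule.mem_span_singleton_self _⟩
    rw [LinearMap.comp_apply, Submodule.subtype_apply] at this
    rw [this]
    exact (LinearEquiv.symm_apply_eq _).2 (Subtype.ext (one_smul k (1 : Γ(X, Wo))).symm)
  let g₀ : MvPolynomial (Fin (n + 1)) k :=
    MvPolynomial.X j₀ + ∑ i : Fin n, MvPolynomial.C (φ (ψ₀ (MvPolynomial.X ⟨j₀.succAbove i, Fin.succAbove_ne j₀ i⟩))) *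
      MvPolynomial.X (j₀.succAbove i)
  have hg₀ : g₀ ≠ 0 := fun h0 => by
    have := congrArg (MvPolynomial.eval (Pi.single j₀ (1 : k))) h0
    simp [g₀, Pi.single_eq_of_ne (Fin.succAbove_ne j₀ _)] at this
  obtain ⟨c, hc⟩ : ∃ c : Fin (n + 1) → k, MvPolynomial.eval c (g₀ * ∏ j, G j) ≠ 0 := by
    by_contra hall
    push Not at hall
    exact mul_ne_zero hg₀ (Finset.prod_ne_zero_iff.2 fun j _ => hG0 j) (MvPolynomial.funext fun c => by
      rw [hall c, map_zero])
  rw [map_mul, map_prod, mul_ne_zero_iff, Finset.prod_ne_zero_iff] at hc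
  have hψ₀ : ψ₀ (Bertini13.lin j₀ c) ≠ 0 := fun h0 => hc.1 (by
    have h1 := congrArg φ h0
    have hC : ∀ a : k, ψ₀ (MvPolynomial.C a) = algebraMap k Γ(X, Wo) a := fun a => rfl
    simp only [Bertini13.lin, map_add, map_sum, map_mul, hC, ← Algebra.smul_def, map_smul, Algebra.algebraMap_eq_smul_one,
      map_zero, hφ, smul_eq_mul, mul_one] at h1
    simp only [g₀, map_add, map_sum, map_mul, MvPolynomial.eval_X, MvPolynomial.eval_C]
    rw [← h1]
    simp [mul_comm])
  let h : MvPolynomial (Fin (n + 1)) k := ∑ i, MvPolynomial.C (c i) * MvPolynomial.X i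
  have hh : h ∈ CohB1.polyGrading n k 1 :=
    MvPolynomial.IsHomogeneous.sum _ _ _ fun i _ => MvPolynomial.IsHomogeneous.C_mul (MvPolynomial.isHomogeneous_X k i) _
  have hcoeff : (fun i => h.coeff (Finsupp.single i 1)) = c := funext fun i => by
    simp [h, MvPolynomial.coeff_sum, MvPolynomial.coeff_X, Pi.single_apply, MvPolynomial.coeff_C_mul,
      Finsupp.single_left_inj]
  have h0 : h ≠ 0 := fun e0 => hψ₀ (by
    have : c = 0 := by rw [← hcoeff, e0]; rfl
    simp [this, Bertini13.lin])
  obtain ⟨s, hs⟩ := Bertini13.exists_section hh h0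
  simp only [hcoeff] at hs
  refine ⟨s, ⟨genericPoint X, fun hmem => hψ₀ ?_⟩, ?_⟩
  · let U : (CohB1.ProjSpace n k).affineOpens := ⟨Bertini13.V k n j₀, Bertini13.isAffineOpen_V j₀⟩
    have h1 : ι.base (genericPoint X) ∈ (CohB1.ProjSpace n k).zeroLocus (U := U.1)
        ((PicF2.zeroScheme (Twist.twistProjSpace n k 1) s).ideal U : Set _) :=
      ((Scheme.IdealSheafData.coe_support_inter _ U).le ⟨hmem, hj₀⟩).1
    rw [Scheme.mem_zeroLocus_iff] at h1
    have h2 : ι.base (genericPoint X) ∉ (CohB1.ProjSpace n k).basicOpen (U := U.1)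
        (Bertini13.coordV k n j₀ (Bertini13.lin j₀ c)) := by
      refine h1 _ ?_
      rw [hs j₀]
      exact Ideal.mem_span_singleton_self _
    by_contra hne
    apply h2
    have h3 : X.basicOpen (ψ₀ (Bertini13.lin j₀ c)) ≠ ⊥ := fun e0 => hne ((basicOpen_eq_bot_iff _).1 e0)
    have h4 : genericPoint X ∈ X.basicOpen (ψ₀ (Bertini13.lin j₀ c)) := by
      refine ((genericPoint_spec X).mem_open_set_iff (X.basicOpen _).2).2 ?_
      obtain ⟨y, hy⟩ := Set.nonempty_iff_ne_empty.2 (fun e0 => h3 (TopologicalSpace.Opens.ext e0))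
      exact ⟨y, trivial, hy⟩
    exact (Scheme.preimage_basicOpen ι (Bertini13.coordV k n j₀ (Bertini13.lin j₀ c))).ge h4
  · let J := (PicF2.zeroScheme (Twist.twistProjSpace n k 1) s).comap ι
    have hJ : Smooth (J.subschemeι ≫ ι ≫ CohB1.ProjSpace.toSpec n k) := by
      refine Bertini13.smooth_subscheme ι J fun j => ?_
      have e : J.ideal ⟨_, (Bertini13.isAffineOpen_V (k := k) j).preimage ι⟩ =
          Ideal.span {(ι.app (Bertini13.V k n j)).hom (Bertini13.coordV k n j (Bertini13.lin j c))} := by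
        rw [EffCartier.comap_ideal _ ι ⟨_, Bertini13.isAffineOpen_V j⟩ _ le_rfl, hs j, Ideal.map_span,
          Set.image_singleton, ← Scheme.Hom.app_eq_appLE]
      rw [e]
      exact hG j c (hc.2 j (Finset.mem_univ j))
    rw [← Scheme.IdealSheafData.comapIso_inv_subschemeι, Category.assoc]
    exact (MorphismProperty.cancel_left_of_respectsIso @Smooth _ _).2 hJ

end Groth.Agent.S15554
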