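import Groth.Statements.S4386
import Groth.Agent.Lib.AmpleImm18.General
import Groth.Agent.Lib.RelAmple18.Ops

set_option autoImplicit false
universe u
open CategoryTheory CategoryTheory.Limits AlgebraicGeometry
open EGA2

namespace Groth.Agent.S4386

/-- Let Y be an affine scheme, q : X → Y a separated morphism of finite type, L an ample O_X-module and
L' an invertible O_X-module. Then there is n₀ such that for every n ≥ n₀ the module L^{⊗n} ⊗ L' is
very ample relative to q: it is isomorphic to the inverse image of O(1) along some immersion of X
into a projective space P^m_Y over Y. (The published statement means very ample through the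
projective bundle P(E) of a quasi-coherent module E on Y; for a morphism of finite type to an affine
base this is equivalent to the form with an immersion into P^m_Y used in this row.) -/
theorem result {X Y : Scheme.{u}} [IsAffine Y] (q : X ⟶ Y) [IsSeparated q]
    [QuasiCompact q] [LocallyOfFiniteType q] (L L' : X.Modules) (hL : CohB1.IsAmple L) (hL' : PicF.IsInvertible L') :
    ∃ n₀ : ℕ, ∀ n : ℕ, n₀ ≤ n → RelAmple.IsRelVeryAmplePn q (CohB1.tensorMod (CohB1.tensorPow L n) L') := by
  obtain ⟨m₀, hm₀⟩ := Groth.Agent.AmpleImm18.exists_immersion_over q hL hL'
  exact ⟨m₀, hm₀⟩

end Groth.Agent.S4386
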