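import Groth.Statements.S3388
import Groth.Agent.Lib.EquidimStalk4
import Groth.Agent.Lib.Unibr4.GoDown

set_option autoImplicit false
open CategoryTheory AlgebraicGeometry
universe u
open EGA43

set_option backward.isDefEq.respectTransparency.types false

namespace Groth.Agent.S3388

/-- Let X and Y be irreducible schemes and f : X ⟶ Y a dominant morphism locally of finite type; let e
be the dimension of the fibre over the generic point of Y. Then for every point x of X the local
dimension at x of the fibre through x is at least e. -/
theorem result {X Y : Scheme.{u}} [IrreducibleSpace X] [IrreducibleSpace Y]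
    (f : X ⟶ Y) [LocallyOfFiniteType f] [IsDominant f] (x : X) :
    topologicalKrullDim ↥(f.fiber (genericPoint Y)) ≤ FlatMor.fibreDimAt f x := by
  rw [← Unibr4.apply_genericPoint f f.denseRange,
    FibSub4.dim_fiber_eq_rd f fun a _ => (genericPoint_spec X).specializes trivial]
  obtain ⟨b, -, -, hbmax, hbd⟩ := FibGen4.exists_isMaxFib f x
  have h := (FibDim14.fibreDimAt_le_iff f).1
    (((genericPoint_spec X).specializes trivial).mem_open (FibDim14.isOpen_fibreDimAt_le f (FibDim14.rd f b))
      (FibGen4.fibreDimAt_eq_rd_of_isMaxFib f hbmax).le) (genericPoint X) specializes_rfl rfl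
  rw [← hbd, FibGen4.fibreDimAt_eq_rd_of_isMaxFib f hbmax]
  exact_mod_cast h

end Groth.Agent.S3388
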