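import Groth.Statements.S10888
-- import your own Groth.Agent.* helpers here
import Groth.Agent.Lib.FibIso5.Basic

set_option autoImplicit false
universe u
open CategoryTheory AlgebraicGeometry
open FlatMor

open CategoryTheory CategoryTheory.Limits AlgebraicGeometry

namespace Groth.Agent.S10888

/-- Let g : X → S and h : Y → S be proper and of finite presentation with g flat, and f : X → Y a
morphism over S. Then the locus U of points of S over which the fibre morphism X_s → Y_s is an
isomorphism is an open subset of S, and f restricts to an isomorphism over U. -/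
theorem result {X Y S : Scheme.{u}} (g : X ⟶ S) (h : Y ⟶ S)
    [IsProper g] [LocallyOfFinitePresentation g] [Flat g] [IsProper h] [LocallyOfFinitePresentation h]
    (f : X ⟶ Y) (w : f ≫ h = g) :
    ∃ U : S.Opens, (∀ s : S, s ∈ U ↔ ∃ e : g.fiber s ≅ h.fiber s, e.hom ≫ h.fiberι s = g.fiberι s ≫ f) ∧
      IsIso (f ∣_ (h ⁻¹ᵁ U)) := by
  subst w
  obtain ⟨U, hU, hiso⟩ := Groth.Agent.FibIso5.exists_open_locus f h
  refine ⟨U, fun s => (hU s).trans ⟨fun hs => ?_, fun ⟨e, he⟩ => ?_⟩, hiso⟩
  · exact ⟨@asIso _ _ _ _ (CohIII.fiberMapOver f (f ≫ h) h rfl s) hs, pullback.lift_fst _ _ _⟩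
  · have hm : CohIII.fiberMapOver f (f ≫ h) h rfl s = e.hom := by
      apply pullback.hom_ext
      · exact (pullback.lift_fst _ _ _).trans he.symm
      · refine (cancel_mono (S.fromSpecResidueField s)).1 ?_
        rw [Category.assoc, Category.assoc, ← pullback.condition]
        have h1 : CohIII.fiberMapOver f (f ≫ h) h rfl s ≫ pullback.fst h (S.fromSpecResidueField s) =
            e.hom ≫ pullback.fst h (S.fromSpecResidueField s) := (pullback.lift_fst _ _ _).trans he.symm
        erw [← Category.assoc, h1, Category.assoc]
    rw [hm]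
    infer_instance

end Groth.Agent.S10888
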