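import Groth.Statements.S0682
import Groth.Agent.Lib.EtShriek24.Coprod

set_option autoImplicit false
open CategoryTheory CategoryTheory.Limits AlgebraicGeometry Opposite
universe u
open EtShriek

namespace Groth.Agent.S0682
open Groth.Agent

/-- For f : X -> Y separated and locally of finite type, the functor f_! on abelian etale sheaves
commutes with direct sums (coproducts indexed by any small type). -/
theorem result {X Y : Scheme.{u}} (f : X ⟶ Y) [IsSeparated f]
    [LocallyOfFiniteType f] (ι : Type u) :
    PreservesColimitsOfShape (Discrete ι) (EtShriek.lowerShriek f) := by
  haveI := EtShriek24.preservesFilteredColimits_shFunctor f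
  haveI := EtShriek24.preservesCoproducts_of_finite_and_filtered.{u} (EtShriek24.shFunctor f) ι
  exact preservesColimitsOfShape_of_natIso (EtShriek24.shIso f).symm

end Groth.Agent.S0682
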