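import Groth.Statements.S0685
import Groth.Agent.Lib.EtShriek24.Comp

set_option autoImplicit false
open CategoryTheory CategoryTheory.Limits AlgebraicGeometry Opposite
universe u
open EtShriek

namespace Groth.Agent.S0685

/-- Direct images with proper support compose: for morphisms of schemes f : X → Y and g : Y → Z, both
separated and locally of finite type, there is an isomorphism of functors (g ∘ f)_! ≅ g_! ∘ f_! on
abelian étale sheaves. (The published statement identifies the two as subsheaves of (g ∘ f)_*; only
the existence of a natural isomorphism is asserted here.) -/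
theorem result {X Y Z : Scheme.{u}} (f : X ⟶ Y) (g : Y ⟶ Z) [IsSeparated f]
    [LocallyOfFiniteType f] [IsSeparated g] [LocallyOfFiniteType g] :
    Nonempty (EtShriek.lowerShriek (f ≫ g) ≅ EtShriek.lowerShriek f ⋙ EtShriek.lowerShriek g) := by
  obtain ⟨φ, -⟩ := Groth.Agent.EtShriek24.existsUnique_lowerShriek_comp f g
  exact ⟨φ⟩

end Groth.Agent.S0685
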