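import Groth.Statements.S7175
import Groth.Agent.Lib.RelPCS8.Koszul
import Groth.Agent.Lib.PCMor4.Finite
import Groth.Agent.Lib.PCMor4.Local

set_option autoImplicit false
universe u
attribute [local instance] HasDerivedCategory.standard
open FlatMor

set_option backward.isDefEq.respectTransparency.types false

attribute [-instance] CategoryTheory.catToReflQuiver

namespace Groth.Agent.S7175


set_option backward.isDefEq.respectTransparency false
open CategoryTheory Limits AlgebraicGeometry PCMor4 RelPCS8 in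
theorem isPerfect_push {Z X : Scheme.{u}} (i : Z ⟶ X) [IsClosedImmersion i] (hi : MoreMor.IsPerfectMor i) :
    DCoh.IsPerfect (DCoh.inD X ((Scheme.Modules.pushforward i).obj (Coh.structureModule Z))) := by
  let F := (Scheme.Modules.pushforward i).obj (Coh.structureModule Z)
  rw [DPerf.isPerfect_iff_approx]
  refine approx_of_cover fun x => ?_
  obtain ⟨U, hU, hxU, -⟩ := exists_isAffineOpen_mem_and_subset (x := x) (U := ⊤) trivial
  have hW : IsAffineOpen (i ⁻¹ᵁ U) := hU.preimage i
  have hs : Function.Surjective (i.app U).hom := i.app_surjective U hU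
  have h0 : PFH (i.app U).hom := by
    rw [Scheme.Hom.app_eq_appLE]
    exact (isPerfectHom_iff _).1 (hi _ U hW hU le_rfl)
  have hpc : PCR (i.app U).hom := (pch_iff_pcr_of_finite _ (RingHom.Finite.of_surjective _ hs)).1 h0.1
  letI := (i.app U).hom.toAlgebra
  let F' := F.restrict hU.fromSpec
  have hq : Coh.IsQCoh F' := M1.isQCoh_restrict (M1.isQCoh_push i (M1.isQCoh_structureModule Z)) _
  haveI : F'.IsQuasicoherent := hq
  let M : ModuleCat.{u} Γ(X, U) := (moduleSpecΓFunctor (R := Γ(X, U))).obj F'
  let e : Γ(Z, i ⁻¹ᵁ U) ≃ₗ[Γ(X, U)] M := (M1.affineSecEquiv F hU).symm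
  obtain ⟨d, hd⟩ := h0.2
  have hP : DRing.IsPerfectModule Γ(X, U) M :=
    isPerfectModule_iff.2 ⟨fun k => pcn_equiv e (hpc k), d, td_equiv e hd⟩
  refine ⟨_, hU.fromSpec, inferInstance, hU.range_fromSpec.ge hxU, ?_⟩
  exact (DPerf.approx_tilde_of_perfect hP).of_iso
    (((tilde.functor Γ(X, U)).mapDerivedCategorySingleFunctor 0).app _ ≪≫
      (DerivedCategory.singleFunctor (Spec Γ(X, U)).Modules 0).mapIso
        (@asIso _ _ _ _ F'.fromTildeΓ (Scheme.Modules.isIso_fromTildeΓ_of_isQuasicoherent (R := Γ(X, U)) F')) ≪≫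
      (((Scheme.Modules.restrictFunctor hU.fromSpec).mapDerivedCategorySingleFunctor 0).app F).symm)

open AlgebraicGeometry CategoryTheory Limits in
/-- For a perfect closed immersion i : Z → X, the O_X-module i_* O_Z is a perfect object of D(O_X). -/
theorem result {Z X : Scheme.{u}} (i : Z ⟶ X) [IsClosedImmersion i]
    (hi : MoreMor.IsPerfectMor i) :
    DCoh.IsPerfect (DCoh.inD X ((Coh.push i).obj (Coh.structureModule Z))) := by
  exact isPerfect_push i hi

end Groth.Agent.S7175
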