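import Groth.Statements.S4993
import Groth.Agent.Lib.StdSmooth5.Basic
import Groth.Agent.Lib.TowerSmooth5.Basic
import Mathlib.AlgebraicGeometry.Morphisms.FlatMono
-- import your own Groth.Agent.* helpers here

set_option autoImplicit false
universe u
open CategoryTheory CategoryTheory.Limits AlgebraicGeometry TopologicalSpace
open Unram17

set_option backward.isDefEq.respectTransparency.types false

namespace Groth.Agent.S4993

open TensorProduct KaehlerDifferential in
theorem etale_alg (A B T : Type u) [CommRing A] [CommRing B] [CommRing T] [Algebra A B] [Algebra B T] [Algebra A T]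
    [IsScalarTower A B T] [Nontrivial T] {n : ℕ} [Algebra.IsStandardSmoothOfRelativeDimension n A B]
    [Algebra.IsStandardSmoothOfRelativeDimension n A T] [Algebra.FormallyUnramified B T] :
    Algebra.Etale B T := by
  haveI : Nontrivial B := (algebraMap B T).domain_nontrivial
  haveI : Algebra.IsStandardSmooth A B := Algebra.IsStandardSmoothOfRelativeDimension.isStandardSmooth n
  haveI : Algebra.IsStandardSmooth A T := Algebra.IsStandardSmoothOfRelativeDimension.isStandardSmooth n
  have hsurj : Function.Surjective (mapBaseChange A B T) := fun z =>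
    ((exact_mapBaseChange_map A B T) z).1 (Subsingleton.elim _ _)
  have hrB : Module.finrank B Ω[B⁄A] = n :=
    Module.finrank_eq_of_rank_eq (Algebra.IsStandardSmoothOfRelativeDimension.rank_kaehlerDifferential n)
  have hrT : Module.finrank T Ω[T⁄A] = n :=
    Module.finrank_eq_of_rank_eq (Algebra.IsStandardSmoothOfRelativeDimension.rank_kaehlerDifferential n)
  let e : (T ⊗[B] Ω[B⁄A]) ≃ₗ[T] Ω[T⁄A] := LinearEquiv.ofFinrankEq _ _ (by
    rw [Module.finrank_baseChange, hrB, hrT])
  have hbij : Function.Bijective (mapBaseChange A B T) := by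
    refine ⟨fun a b h => ?_, hsurj⟩
    exact OrzechProperty.injective_of_surjective_endomorphism (e.symm.toLinearMap ∘ₗ mapBaseChange A B T)
      (e.symm.surjective.comp hsurj) (congrArg e.symm h)
  haveI : Algebra.FinitePresentation B T := Algebra.FinitePresentation.of_restrict_scalars_finitePresentation A B T
  exact ⟨(TowerSmooth5.formallyEtale_iff A B T).2 hbij, inferInstance⟩

/-- Let f : Y ⟶ S and h : X ⟶ S be smooth and let g : X ⟶ Y satisfy g ≫ f = h. Then g is an open
immersion if and only if g is a monomorphism and, for every point x of X, the local dimension at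
g(x) of the fibre of f through g(x) equals the local dimension at x of the fibre of h through x. -/
theorem result {X Y S : Scheme.{u}} (f : Y ⟶ S) (h : X ⟶ S)
    [Smooth f] [Smooth h] (g : X ⟶ Y) (w : g ≫ f = h) :
    IsOpenImmersion g ↔ Mono g ∧ ∀ x : ↥X, FlatMor.fibreDimAt f (g.base x) = FlatMor.fibreDimAt h x := by
  constructor
  · intro _
    refine ⟨inferInstance, fun x => ?_⟩
    subst w
    exact (FibDim14.fibreDimAt_etale_comp g f x).symm
  · rintro ⟨hm, hdim⟩
    haveI := hm
    haveI : FormallyUnramified g := inferInstance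
    have hloc : ∀ x : X, ∃ (U : Y.affineOpens) (V : X.affineOpens) (_ : x ∈ V.1) (e : V.1 ≤ g ⁻¹ᵁ U.1),
        (g.appLE U V e).hom.Etale := by
      intro x
      obtain ⟨W, hW, hxW, -⟩ := exists_isAffineOpen_mem_and_subset (x := h.base x) (U := ⊤) trivial
      have hgx : f.base (g.base x) ∈ W := by rw [← Scheme.Hom.comp_apply, w]; exact hxW
      obtain ⟨V₀, hV₀, hgV₀, -⟩ := exists_isAffineOpen_mem_and_subset (x := g.base x) (U := ⊤) trivial
      obtain ⟨m, V, hV, -, hgV, eV, hm'⟩ := StdSmooth5.exists_chart f (g.base x) hW hgx hV₀ hgV₀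
      obtain ⟨U₀, hU₀, hxU₀, hU₀V⟩ := exists_isAffineOpen_mem_and_subset (x := x) (U := g ⁻¹ᵁ V) hgV
      obtain ⟨n, U, hU, hUU₀, hxU, eU, hn'⟩ := StdSmooth5.exists_chart h x hW hxW hU₀ hxU₀
      have hmn : m = n := by
        have := hdim x
        rw [StdSmooth5.fibreDimAt_eq f _ hW hV hgV eV hm', StdSmooth5.fibreDimAt_eq h _ hW hU hxU eU hn'] at this
        exact_mod_cast this
      subst hmn
      have eg : U ≤ g ⁻¹ᵁ V := hUU₀.trans hU₀V
      refine ⟨⟨V, hV⟩, ⟨U, hU⟩, hxU, eg, ?_⟩
      have hc : f.appLE W V eV ≫ g.appLE V U eg = h.appLE W U eU := by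
        subst w
        rw [Scheme.Hom.appLE_comp_appLE]
      have hu : (g.appLE V U eg).hom.FormallyUnramified := g.formallyUnramified_appLE hV hU eg
      rw [← hc] at hn'
      letI := (f.appLE W V eV).hom.toAlgebra
      letI := (g.appLE V U eg).hom.toAlgebra
      letI := (f.appLE W V eV ≫ g.appLE V U eg).hom.toAlgebra
      haveI : IsScalarTower Γ(S, W) Γ(Y, V) Γ(X, U) := IsScalarTower.of_algebraMap_eq fun _ => rfl
      haveI : Algebra.IsStandardSmoothOfRelativeDimension m Γ(S, W) Γ(Y, V) := hm'
      haveI : Algebra.IsStandardSmoothOfRelativeDimension m Γ(S, W) Γ(X, U) := hn'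
      haveI : Algebra.FormallyUnramified Γ(Y, V) Γ(X, U) := hu
      haveI : Nonempty U := ⟨⟨x, hxU⟩⟩
      exact etale_alg Γ(S, W) Γ(Y, V) Γ(X, U) (n := m)
    haveI : Etale g := (HasRingHomProperty.iff_exists_appLE (P := @Etale)
      (RingHom.Etale.stableUnderComposition.stableUnderCompositionWithLocalizationAway
        fun R _ _ _ _ r _ => RingHom.etale_algebraMap.2 (Algebra.Etale.of_isLocalizationAway r)).left).2 hloc
    exact IsOpenImmersion.of_flat_of_mono g

end Groth.Agent.S4993
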