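import Groth.Statements.S2962
import Groth.Agent.Lib.RedCell16.Centre
import Groth.Agent.Lib.RedCell16.BaseExists

set_option linter.style.haveILetI false
set_option backward.isDefEq.respectTransparency false
set_option backward.isDefEq.respectTransparency.types false
-- import your own Groth.Agent.* helpers here

set_option autoImplicit false
open CategoryTheory MonoidalCategory CartesianMonoidalCategory MonObj GrpObj AlgebraicGeometry
universe u
open RedX

namespace Groth.Agent.S2962

/-- Let G be a split reductive group scheme over S with splitting D (maximal torus T = D(M), roots in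
M). A point g of G with values in X is central (commutes with every point of G after every base
change X' -> X) if and only if it factors through T and every root, viewed as a character T -> G_m,
is trivial on it; i.e. the centre of G is the intersection of the kernels of the roots. -/
theorem result {S : Scheme.{u}} {G : Over S} [GrpObj G] (D : Red.SplitRed G)
    (X : Over S) (g : X ⟶ G) :
    (∀ (X' : Over S) (x : X' ⟶ X) (h : X' ⟶ G), (x ≫ g) * h = h * (x ≫ g)) ↔
      ∃ t : X ⟶ D.T, t ≫ D.i = g ∧ ∀ a : D.idx, t ≫ D.split.hom.hom.hom ≫ Red.chi S (D.P.root a) = 1 := by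
  classical
  rcases isEmpty_or_nonempty S with hS | ⟨⟨s⟩⟩
  · haveI := fun Y Z : Over S => (RedCell16.hom_subsingleton Y Z).2
    exact ⟨fun _ => ⟨(RedCell16.hom_subsingleton X D.T).1.some, Subsingleton.elim _ _,
      fun a => Subsingleton.elim _ _⟩, fun _ X' x h => Subsingleton.elim _ _⟩
  obtain ⟨b⟩ : Nonempty D.P.Base := RedCell16.nonempty_base D s
  obtain ⟨n, m, eneg, epos, hneg, hpos⟩ := RedCell16.exists_enum D b
  have hrt : ∀ (t : X ⟶ D.T) (a : D.idx),
      t ≫ D.split.hom.hom.hom ≫ Red.chi S (D.P.root a) = 1 ↔ RedCell16.rt D t a = 1 := fun t a => by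
    constructor
    · intro h
      rw [RedCell16.rt, h, GmPts.gmFn_one]
    · intro h
      refine GmPts.gmFn_injective (h.trans ?_)
      exact GmPts.gmFn_one.symm
  constructor
  · intro hg
    obtain ⟨t, ht⟩ := RedCell16.exists_torus_of_commute D eneg epos hneg hpos g fun X' e s => hg X' e _
    refine ⟨t, ht, fun a => (hrt t a).2 ?_⟩
    haveI := (D.rootHom a).2.1
    haveI : Mono (D.u a) := Over.mono_of_mono_left _
    have h1 := RedCell16.conj_P D t a 1
    have h2 := hg X (𝟙 X) (Groth.Agent.RankOne.P (D.u a) 1)
    rw [Category.id_comp, ← ht] at h2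
    rw [h2, mul_inv_cancel_right, _root_.mul_one] at h1
    have h3 := congrArg Red.gaFn ((cancel_mono (D.u a)).1 h1)
    simp only [GaPts.gaFn_ptOfFn] at h3
    exact h3.symm
  · rintro ⟨t, rfl, ht⟩ X' x h
    exact RedCell16.commute_of_rt_eq_one D eneg epos hneg hpos t (fun a => (hrt t a).1 (ht a)) X' x h

end Groth.Agent.S2962
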