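import Groth.Statements.S5778
import Groth.Agent.Lib.RegLoc.Sop
import Groth.Agent.Lib.QReg.Basic
import Groth.Agent.Lib.HilbSam.Dim
import Mathlib.RingTheory.Length
import Mathlib.Data.Sym.Card
import Mathlib.RingTheory.Ideal.KrullsHeightTheorem
import Mathlib.RingTheory.Polynomial.Pochhammer

set_option autoImplicit false
universe u
open EGA41

namespace Groth.Agent.S5778

theorem sum_multichoose (r s : ℕ) : ∑ i ∈ Finset.range (s + 1), r.multichoose i = (s + r).choose s := by
  induction s with
  | zero => simp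
  | succ s ih =>
    rw [Finset.sum_range_succ, ih]
    have h1 := Nat.multichoose_eq (r + 1) s
    have h2 := Nat.multichoose_eq (r + 1) (s + 1)
    rw [Nat.multichoose_succ_succ] at h2
    rw [show r + 1 + s - 1 = s + r by omega] at h1
    rw [show r + 1 + (s + 1) - 1 = s + 1 + r by omega, h1] at h2
    omega

abbrev Mon (r t : ℕ) : Type := {P : Fin r → ℕ // ∑ i, P i = t}

noncomputable instance (r t : ℕ) : Fintype (Mon r t) := Fintype.ofEquiv _ (Sym.equivNatSumOfFintype (Fin r) t)

theorem card_mon (r t : ℕ) : Fintype.card (Mon r t) = r.multichoose t := by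
  rw [← Fintype.card_congr (Sym.equivNatSumOfFintype (Fin r) t), Sym.card_sym_eq_multichoose, Fintype.card_fin]

open IsLocalRing in
/-- The layer `m^t / m^(t+1)`. -/
noncomputable abbrev layer (A : Type u) [CommRing A] [IsLocalRing A] (t : ℕ) : Submodule A (A ⧸ maximalIdeal A ^ (t + 1)) :=
  Submodule.map (Submodule.mkQ (maximalIdeal A ^ (t + 1))) (maximalIdeal A ^ t : Submodule A A)

open IsLocalRing MvPolynomial in
theorem layer_le_aux (A : Type u) [CommRing A] [IsLocalRing A] {r : ℕ} (x : Fin r → A)
    (hx : Ideal.span (Set.range x) = maximalIdeal A) (t : ℕ) :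
    ∃ Φ : (Mon r t → A ⧸ maximalIdeal A) →ₗ[A] A ⧸ maximalIdeal A ^ (t + 1),
      LinearMap.range Φ = layer A t ∧ (CAlgX.IsQuasiRegular x → Function.Injective Φ) := by
  classical
  let Ψ₀ : (Mon r t → A) →ₗ[A] A := Fintype.linearCombination A fun P : Mon r t => ∏ i, x i ^ P.1 i
  let Ψ : (Mon r t → A) →ₗ[A] A ⧸ maximalIdeal A ^ (t + 1) := (Submodule.mkQ _) ∘ₗ Ψ₀
  let π : (Mon r t → A) →ₗ[A] (Mon r t → A ⧸ maximalIdeal A) := (Submodule.mkQ (maximalIdeal A)).compLeft _
  have hπ : Function.Surjective π := fun c => by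
    choose d hd using fun P => Submodule.mkQ_surjective (maximalIdeal A) (c P)
    exact ⟨d, funext hd⟩
  have hmon : ∀ P : Mon r t, ∏ i, x i ^ P.1 i ∈ maximalIdeal A ^ t := fun P => by
    have e : maximalIdeal A ^ t = ∏ i, maximalIdeal A ^ P.1 i := by rw [Finset.prod_pow_eq_pow_sum, P.2]
    rw [e]
    exact Ideal.prod_mem_prod fun i _ => Ideal.pow_mem_pow (I := maximalIdeal A) (hx ▸ Ideal.subset_span ⟨i, rfl⟩) _
  have hle : LinearMap.ker π ≤ LinearMap.ker Ψ := by
    intro c hc
    show (Submodule.mkQ _) (Ψ₀ c) = 0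
    rw [Submodule.mkQ_apply, Submodule.Quotient.mk_eq_zero, Fintype.linearCombination_apply, pow_succ']
    exact Ideal.sum_mem _ fun P _ => Ideal.mul_mem_mul ((Submodule.Quotient.mk_eq_zero _).1 (congrFun hc P)) (hmon P)
  let Φ := (LinearMap.ker π).liftQ Ψ hle ∘ₗ (π.quotKerEquivOfSurjective hπ).symm.toLinearMap
  have hΦ : ∀ c, Φ (π c) = Ψ c := fun c => by
    have : (π.quotKerEquivOfSurjective hπ).symm (π c) = Submodule.Quotient.mk c := by
      rw [LinearEquiv.symm_apply_eq]; rfl
    simp [Φ, this]
  let toF : Mon r t → (Fin r →₀ ℕ) := fun P => Finsupp.equivFunOnFinite.symm P.1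
  have htoF : Function.Injective toF := fun P Q h => Subtype.ext (Finsupp.equivFunOnFinite.symm.injective h)
  have hev : ∀ c : Mon r t → A, eval x (∑ P, monomial (toF P) (c P)) = Ψ₀ c := fun c => by
    simp only [map_sum, eval_monomial, Ψ₀, Fintype.linearCombination_apply, smul_eq_mul]
    refine Finset.sum_congr rfl fun P _ => ?_
    rw [Finsupp.prod_fintype _ _ (by simp)]
    rfl
  refine ⟨Φ, le_antisymm ?_ ?_, fun hq => ?_⟩
  · rintro _ ⟨c, rfl⟩
    obtain ⟨c, rfl⟩ := hπ c
    rw [hΦ]
    exact Submodule.mem_map_of_mem (f := Submodule.mkQ _) (by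
      rw [Fintype.linearCombination_apply]; exact Ideal.sum_mem _ fun P _ => Ideal.mul_mem_left _ _ (hmon P))
  · rintro _ ⟨a, ha, rfl⟩
    rw [← hx] at ha
    obtain ⟨Q, hQ, rfl⟩ := QReg.exists_homogeneous_of_mem_pow ha
    refine ⟨π (fun P => Q.coeff (toF P)), ?_⟩
    rw [hΦ]
    refine congrArg (Submodule.mkQ _) ?_
    rw [← hev]
    refine congrArg (eval x) (MvPolynomial.ext _ _ fun d => ?_)
    rw [coeff_sum]
    simp only [coeff_monomial]
    by_cases hd : d.degree = t
    · have hP : ∑ i, (d : Fin r → ℕ) i = t := by rw [← Finsupp.degree_eq_sum]; exact hd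
      rw [Finset.sum_eq_single (⟨⇑d, hP⟩ : Mon r t)]
      · have : toF ⟨⇑d, hP⟩ = d := Finsupp.equivFunOnFinite.symm_apply_apply d
        rw [if_pos this, this]
      · intro P _ hne
        rw [if_neg]
        intro he
        exact hne (htoF (he.trans (Finsupp.equivFunOnFinite.symm_apply_apply d).symm))
      · simp
    · rw [hQ.coeff_eq_zero hd]
      refine Finset.sum_eq_zero fun P _ => if_neg fun he => hd ?_
      rw [← he, Finsupp.degree_eq_sum]
      exact P.2
  · rw [injective_iff_map_eq_zero]
    intro c hc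
    obtain ⟨c, rfl⟩ := hπ c
    rw [hΦ] at hc
    have hmem : eval x (∑ P, monomial (toF P) (c P)) ∈ Ideal.span (Set.range x) ^ (t + 1) := by
      rw [hev, hx]; exact (Submodule.Quotient.mk_eq_zero _).1 hc
    have hhom : (∑ P, monomial (toF P) (c P)).IsHomogeneous t :=
      IsHomogeneous.sum _ _ _ fun P _ => isHomogeneous_monomial _ (by rw [Finsupp.degree_eq_sum]; exact P.2)
    funext P
    have := hq t _ hhom hmem (toF P)
    rw [coeff_sum, Finset.sum_eq_single P (fun Q _ hne => by rw [coeff_monomial, if_neg (htoF.ne hne)]) (by simp),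
      coeff_monomial, if_pos rfl, hx] at this
    exact (Submodule.Quotient.mk_eq_zero _).2 this

open IsLocalRing in
theorem length_pi_res (A : Type u) [CommRing A] [IsLocalRing A] (r t : ℕ) :
    Module.length A (Mon r t → A ⧸ maximalIdeal A) = (r.multichoose t : ℕ∞) := by
  haveI : IsSimpleModule A (A ⧸ maximalIdeal A) := isSimpleModule_iff_quot_maximal.2 ⟨_, inferInstance, ⟨LinearEquiv.refl A _⟩⟩
  rw [Module.length_pi, Module.length_eq_one, ← card_mon r t]
  simp [ENat.card_eq_coe_fintype_card]

open IsLocalRing in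
theorem layer_le (A : Type u) [CommRing A] [IsLocalRing A] {r : ℕ} (x : Fin r → A)
    (hx : Ideal.span (Set.range x) = maximalIdeal A) (t : ℕ) : Module.length A (layer A t) ≤ (r.multichoose t : ℕ∞) := by
  obtain ⟨Φ, hr, -⟩ := layer_le_aux A x hx t
  rw [← hr, ← length_pi_res A r t]
  exact Module.length_le_of_surjective Φ.rangeRestrict Φ.surjective_rangeRestrict

open IsLocalRing in
theorem layer_eq (A : Type u) [CommRing A] [IsLocalRing A] {r : ℕ} (x : Fin r → A)
    (hx : Ideal.span (Set.range x) = maximalIdeal A) (hq : CAlgX.IsQuasiRegular x) (t : ℕ) :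
    Module.length A (layer A t) = (r.multichoose t : ℕ∞) := by
  obtain ⟨Φ, hr, hi⟩ := layer_le_aux A x hx t
  rw [← hr, ← length_pi_res A r t]
  exact (LinearEquiv.ofInjective Φ (hi hq)).length_eq.symm

open IsLocalRing in
theorem len_quot (A : Type u) [CommRing A] [IsLocalRing A] {r : ℕ} (x : Fin r → A)
    (hx : Ideal.span (Set.range x) = maximalIdeal A) (h : ∀ t, Module.length A (layer A t) = (r.multichoose t : ℕ∞)) :
    ∀ s : ℕ, Module.length A (A ⧸ maximalIdeal A ^ s) = ∑ i ∈ Finset.range s, (r.multichoose i : ℕ∞) := by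
  intro s
  induction s with
  | zero =>
    haveI : Subsingleton (A ⧸ maximalIdeal A ^ 0) := Ideal.Quotient.subsingleton_iff.2 (by simp [Ideal.one_eq_top])
    simp [Module.length_eq_zero]
  | succ s ih =>
    have hle : maximalIdeal A ^ (s + 1) ≤ maximalIdeal A ^ s := Ideal.pow_le_pow_right (Nat.le_succ s)
    rw [Module.length_eq_add_of_exact (layer A s).subtype (Submodule.factor hle) (Submodule.injective_subtype _)
      (Submodule.factor_surjective hle) (LinearMap.exact_iff.2 (by
        rw [Submodule.range_subtype, Submodule.factor, Submodule.mapQ, Submodule.ker_liftQ, LinearMap.ker_comp,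
          Submodule.ker_mkQ, Submodule.comap_id])), ih, h, Finset.sum_range_succ, add_comm]

open IsLocalRing Filter in
theorem regular_of_len (A : Type u) [CommRing A] [IsLocalRing A] [IsNoetherianRing A]
    (h : ∀ s : ℕ, Module.length A (A ⧸ maximalIdeal A ^ (s + 1)) =
        ((s + (maximalIdeal A).spanFinrank).choose s : ℕ∞)) : IsRegularLocalRing A := by
  obtain ⟨S, hmin, hcard⟩ := (maximalIdeal A).exists_finset_card_eq_height_of_isNoetherianRing
  refine IsRegularLocalRing.of_spanFinrank_maximalIdeal_le _ ?_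
  rw [← maximalIdeal_height_eq_ringKrullDim, ← hcard]
  suffices (maximalIdeal A).spanFinrank ≤ S.card by exact_mod_cast this
  let x : Fin S.card → A := fun i => (S.equivFin.symm i : A)
  have hx : Ideal.span (Set.range x) = Ideal.span (S : Set A) := by
    congr 1
    ext a
    exact ⟨fun ⟨i, hi⟩ => hi ▸ (S.equivFin.symm i).2, fun ha => ⟨S.equivFin ⟨a, ha⟩, by simp [x]⟩⟩
  have hfin : IsFiniteLength A (A ⧸ Ideal.span (Set.range x) • (⊤ : Submodule A A)) :=
    Groth.Agent.HilbSam.isFiniteLength_of_support fun p hp => by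
      rw [Module.support_quotient] at hp
      have hle : Ideal.span (S : Set A) ≤ p.asIdeal := hx ▸ hp.2
      have : p.asIdeal = maximalIdeal A :=
        le_antisymm (le_maximalIdeal p.2.ne_top) (hmin.2 ⟨p.2, hle⟩ (le_maximalIdeal p.2.ne_top))
      rw [this]; exact maximalIdeal.isMaximal A
  obtain ⟨q, hq, N, hN⟩ := Groth.Agent.HilbSam.polyLT_hs (M := A) x hfin
  have hb : ∀ n, ((n + (maximalIdeal A).spanFinrank).choose n : ℕ∞) ≤
      Module.length A (A ⧸ Ideal.span (Set.range x) ^ (n + 1) • (⊤ : Submodule A A)) := fun n => by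
    rw [← h n]
    have hle : Ideal.span (Set.range x) ^ (n + 1) • (⊤ : Submodule A A) ≤ maximalIdeal A ^ (n + 1) := by
      rw [smul_eq_mul, Ideal.mul_top]
      refine Ideal.pow_right_mono ?_ _
      rw [hx]; exact hmin.1.2
    exact Module.length_le_of_surjective (Submodule.factor hle) (Submodule.factor_surjective hle)
  set r := (maximalIdeal A).spanFinrank
  set d := S.card
  let p : Polynomial ℚ := (ascPochhammer ℚ r)
  have hp : p ∈ Polynomial.degreeLT ℚ (d + 1) := by
    refine Groth.Agent.HilbSam.degreeLT_of_abs_le (q := Polynomial.C (r.factorial : ℚ) * q) ?_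
      (Filter.eventually_atTop.2 ⟨N + 1, fun n hn => ?_⟩)
    · exact Polynomial.smul_eq_C_mul (r.factorial : ℚ) (p := q) ▸ Submodule.smul_mem _ _ hq
    · obtain ⟨m, rfl⟩ : ∃ m, n = m + 1 := ⟨n - 1, by omega⟩
      have h1 : p.eval ((m + 1 : ℕ) : ℚ) = ((r.factorial * (m + r).choose m : ℕ) : ℚ) := by
        rw [Nat.choose_symm_add, ← Nat.ascFactorial_eq_factorial_mul_choose, ← ascPochhammer_nat_eq_ascFactorial]
        exact (ascPochhammer_eval_cast (S := ℚ) r (m + 1)).symm
      have h2 : (((m + r).choose m : ℕ) : ℚ) ≤ q.eval ((m + 1 : ℕ) : ℚ) := by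
        rw [← hN (m + 1) (by omega)]
        have hne := Groth.Agent.HilbSam.length_quotient_pow_ne_top (M := A) hfin (m + 1)
        refine Nat.cast_le.2 ?_
        have := ENat.toNat_le_toNat (hb m) hne
        simpa [Groth.Agent.HilbSam.hs] using this
      rw [h1, Polynomial.eval_mul, Polynomial.eval_C, abs_mul, Nat.cast_mul, abs_mul]
      refine mul_le_mul_of_nonneg_left ?_ (abs_nonneg _)
      rw [abs_of_nonneg (by positivity)]
      exact h2.trans (le_abs_self _)
  rw [Polynomial.mem_degreeLT, Polynomial.degree_eq_natDegree (monic_ascPochhammer ℚ r).ne_zero, ascPochhammer_natDegree] at hp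
  have : r < d + 1 := by exact_mod_cast hp
  omega

/-- Let A be a Noetherian local ring with maximal ideal m, residue field k, and let r be the dimension
of the k-vector space m/m². Then A is regular if and only if the canonical surjection of graded
k-algebras from the symmetric algebra of m/m² onto the associated graded ring of A for the m-adic
filtration is bijective. Since that surjection is bijective exactly when source and target have the
same length in every degree, the condition is expressed here as: length_A(A/m^(s+1)) equals the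
binomial coefficient C(s+r, r) for every s ≥ 0. -/
theorem result (A : Type u) [CommRing A] [IsLocalRing A]
    [IsNoetherianRing A] :
    IsRegularLocalRing A ↔
      ∀ s : ℕ, Module.length A (A ⧸ IsLocalRing.maximalIdeal A ^ (s + 1)) =
        ((s + Module.finrank (IsLocalRing.ResidueField A) (IsLocalRing.CotangentSpace A)).choose s : ℕ∞) := by
  rw [← IsLocalRing.spanFinrank_maximalIdeal_eq_finrank_cotangentSpace]
  constructor
  · intro hreg s
    obtain ⟨x, hx⟩ := Groth.Agent.RegLoc.exists_fin_generators A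
    have hq : CAlgX.IsQuasiRegular x := QReg.isQuasiRegular_of_isH1Regular (QReg.isH1Regular_of_isWeaklyRegular x
      (Groth.Agent.RegLoc.isRegular_of_span_range _ A x hx rfl).toIsWeaklyRegular)
    rw [len_quot A x hx (fun t => layer_eq A x hx hq t) (s + 1)]
    exact_mod_cast sum_multichoose _ s
  · intro h
    exact regular_of_len A h

end Groth.Agent.S5778
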