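import Groth.Statements.S7190
import Groth.Agent.Lib.FinRefine4.Affine

set_option autoImplicit false
universe w u
open FlatMor

set_option backward.isDefEq.respectTransparency.types false

namespace Groth.Agent.S7190


set_option backward.isDefEq.respectTransparency.types false in
open AlgebraicGeometry CategoryTheory Limits in
theorem exists_std {T : Scheme.{u}} (E : PreZeroHypercover.{w} T)
    (hflat : ∀ i, Flat (E.f i)) (hfp : ∀ i, LocallyOfFinitePresentation (E.f i))
    (hsurj : ∀ t : T, ∃ (i : E.I₀) (x : E.X i), E.f i x = t) (U : T.affineOpens) :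
    ∃ F : PreZeroHypercover.{0} ((U : T.Opens) : Scheme.{u}),
      HTop.IsStandardPh F ∧ HTop.RefinesOver (U : T.Opens).ι F E := by
  haveI : IsAffine ((U : T.Opens) : Scheme.{u}) := U.2
  let U' : Scheme.{u} := (U : T.Opens)
  let κ : Spec Γ(U', ⊤) ⟶ T := U'.isoSpec.inv ≫ (U : T.Opens).ι
  let J : Type u := Spec Γ(U', ⊤)
  choose it xt hxt using fun p : J => hsurj (κ p)
  haveI := hflat; haveI := hfp
  let P : J → Scheme.{u} := fun p => pullback (E.f (it p)) κ
  let g : ∐ P ⟶ Spec Γ(U', ⊤) := Sigma.desc fun p => pullback.snd (E.f (it p)) κ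
  haveI : Flat g := IsZariskiLocalAtSource.sigmaDesc fun p => inferInstance
  haveI : LocallyOfFinitePresentation g := IsZariskiLocalAtSource.sigmaDesc fun p => inferInstance
  haveI : Surjective g := by
    refine ⟨fun p => ?_⟩
    obtain ⟨z, -, hz⟩ := Scheme.Pullback.exists_preimage_pullback (f := E.f (it p)) (g := κ) (xt p) p (hxt p)
    refine ⟨Sigma.ι P p z, ?_⟩
    rw [← Scheme.Hom.comp_apply, Sigma.ι_desc, hz]
  obtain ⟨C, π, hfin, hπs, m, D, j, r, hj, hcov, hr⟩ :=
    Groth.Agent.FinRefine4.exists_refine g (fun p : J => (Sigma.ι P p).opensRange)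
      (fun z => ⟨((sigmaOpenCover P).idx z), (sigmaOpenCover P).covers z⟩)
  refine ⟨⟨Fin m, fun k => Spec (D k), fun k => j k ≫ π ≫ U'.isoSpec.inv⟩,
    ⟨U.2, inferInstanceAs (Finite (Fin m)), fun k => inferInstanceAs (IsAffine (Spec (D k))),
      Spec C, π ≫ U'.isoSpec.inv, j, inferInstance, inferInstance, hj, fun k => rfl, hcov⟩, fun k => ?_⟩
  obtain ⟨hk, p, hp⟩ := hr k
  refine ⟨it p, IsOpenImmersion.lift (Sigma.ι P p) (r k) hp ≫ pullback.fst (E.f (it p)) κ, ?_⟩
  have hl := IsOpenImmersion.lift_fac (Sigma.ι P p) (r k) hp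
  show (_ ≫ _) ≫ E.f (it p) = (j k ≫ π ≫ U'.isoSpec.inv) ≫ (U : T.Opens).ι
  rw [Category.assoc, pullback.condition, show pullback.snd (E.f (it p)) κ = Sigma.ι P p ≫ g from
    (Sigma.ι_desc (fun p => pullback.snd (E.f (it p)) κ) p).symm, Category.assoc, reassoc_of% hl,
    reassoc_of% hk]
  simp [κ, U']

open AlgebraicGeometry CategoryTheory Limits in
/-- An fppf covering {T_i → T} of schemes (flat, locally of finite presentation, jointly surjective) is
a ph covering. -/
theorem result {T : Scheme.{u}} (E : PreZeroHypercover.{w} T)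
    (hflat : ∀ i, Flat (E.f i)) (hfp : ∀ i, LocallyOfFinitePresentation (E.f i))
    (hsurj : ∀ t : T, ∃ (i : E.I₀) (x : E.X i), E.f i x = t) : HTop.IsPhCover E := by
  haveI := hfp
  exact ⟨fun i => inferInstance, exists_std E hflat hfp hsurj⟩

end Groth.Agent.S7190
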