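import Groth.Statements.S17862
import Groth.Agent.Lib.PiHom27.Main
import Groth.Agent.Lib.AlgSpace.Diag
-- import your own Groth.Agent.* helpers here

set_option autoImplicit false
open CategoryTheory AlgebraicGeometry
universe u
open Algz

namespace Groth.Agent.S17862

/-- Let `S` be an affine scheme, `X` a quasi-compact and quasi-separated algebraic space over `S`, and
`A i` a family of commutative rings indexed by an arbitrary type, with a morphism `h` from the
spectrum of the product ring to `S`. Two `S`-morphisms `Spec (Π i, A i) ⟶ X` that agree after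
composition with every `Spec (A i) ⟶ Spec (Π i, A i)` are equal. (For schemes this is the
injectivity half of the corresponding bijection; the algebraic-space case is the one stated here.
Over an affine base, relative and absolute quasi-separatedness agree.) -/
theorem result (S : Scheme.{u}) [IsAffine S]
    (X : AlgSp.Space S) (hqc : AlgSp.IsQuasiCompactSp X.obj) (hqs : AlgSp.IsQuasiSeparatedSp X.obj)
    {ι : Type u} (A : ι → CommRingCat.{u}) (h : Spec (CommRingCat.of (∀ i, A i)) ⟶ S) :
    Function.Injective (fun g : (AlgSp.ofScheme S).obj (Over.mk h) ⟶ X => fun i : ι =>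
      (AlgSp.ofScheme S).map (Over.homMk
        (Spec.map (CommRingCat.ofHom (Pi.evalRingHom (fun j => (A j : Type u)) i)))
        rfl : Over.mk (Spec.map (CommRingCat.ofHom (Pi.evalRingHom (fun j => (A j : Type u)) i)) ≫ h) ⟶
          Over.mk h) ≫ g) := by
  intro g₁ g₂ heq
  let T : Over S := Over.mk h
  let o : ∀ i, Over.mk (Spec.map (CommRingCat.ofHom (Pi.evalRingHom (fun j => (A j : Type u)) i)) ≫ h) ⟶ T :=
    fun i => Over.homMk (Spec.map (CommRingCat.ofHom (Pi.evalRingHom (fun j => (A j : Type u)) i))) rfl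
  let a₁ : (AlgSp.yon S).obj T ⟶ X.obj := g₁.hom
  let a₂ : (AlgSp.yon S).obj T ⟶ X.obj := g₂.hom
  have h12 : ∀ i, (AlgSp.yon S).map (o i) ≫ a₁ = (AlgSp.yon S).map (o i) ≫ a₂ := fun i =>
    congrArg InducedCategory.Hom.hom (congrFun heq i)
  let g : (AlgSp.yon S).obj T ⟶ X.obj ⨯ X.obj := Limits.prod.lift a₁ a₂
  have sq := hqs.1.isPullback g
  have hm : Mono (hqs.1.snd g).left := (AlgSpace.repWith_diag_mono hqs.1).2 g _ _ sq
  have hc : QuasiCompact (hqs.1.snd g).left := hqs.2 g _ _ sq
  have : IsAffine T.left := inferInstanceAs (IsAffine (Spec (CommRingCat.of (∀ i, A i))))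
  have : CompactSpace (hqs.1.pullback g).left := QuasiCompact.compactSpace_of_compactSpace (hqs.1.snd g).left
  have : QuasiSeparatedSpace (hqs.1.pullback g).left :=
    quasiSeparatedSpace_of_quasiSeparated (hqs.1.snd g).left
  have hl : ∀ i, ((AlgSp.yon S).map (o i) ≫ a₁) ≫ Limits.diag X.obj = (AlgSp.yon S).map (o i) ≫ g := by
    intro i
    apply Limits.prod.hom_ext <;> simp [g, Limits.diag, h12]
  choose l hl' using fun i => (AlgSp.yon S).map_surjective (sq.lift _ _ (hl i))
  have hw : ∀ i, l i ≫ hqs.1.snd g = o i := fun i =>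
    (AlgSp.yon S).map_injective (by rw [Functor.map_comp, hl', sq.lift_snd])
  obtain ⟨s, hs⟩ := PiHom27.pointsPi_surjective_of_qcqs (hqs.1.pullback g).left A (fun i => (l i).left)
  have hs1 : s ≫ (hqs.1.snd g).left = 𝟙 _ := by
    apply AlgebraicGeometry.pointsPi_injective (R := A)
    funext i
    have h1 := congrFun hs i
    simp only [AlgebraicGeometry.pointsPi] at h1 ⊢
    rw [← Category.assoc, h1, Category.comp_id, ← Over.comp_left, hw]
    rfl
  let σ : T ⟶ hqs.1.pullback g := Over.homMk s (by
    rw [← Over.w (hqs.1.snd g), ← Category.assoc, hs1]; exact Category.id_comp _)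
  have hσ : σ ≫ hqs.1.snd g = 𝟙 T := Over.OverMorphism.ext hs1
  have h3 := congrArg ((AlgSp.yon S).map σ ≫ ·) sq.w
  simp only [← Category.assoc] at h3
  rw [← (AlgSp.yon S).map_comp, hσ, (AlgSp.yon S).map_id, Category.id_comp] at h3
  have h4 := congrArg (· ≫ Limits.prod.fst) h3
  have h5 := congrArg (· ≫ Limits.prod.snd) h3
  simp only [g, Limits.diag, Category.assoc, Limits.prod.lift_fst, Limits.prod.lift_snd, Category.comp_id] at h4 h5
  exact InducedCategory.Hom.ext (h4.symm.trans h5)

end Groth.Agent.S17862
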