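import Mathlib.AlgebraicGeometry.Morphisms.Smooth
import Mathlib.RingTheory.Henselian
import Mathlib.RingTheory.LocalRing.ResidueField.Basic
import Mathlib
import Groth.Agent.Lib.Hens.SmoothLift
import Groth.Agent.Lib.Hens.Local

set_option autoImplicit false
open CategoryTheory AlgebraicGeometry
universe u
namespace Hensel
end Hensel
open Hensel

namespace Groth.Agent.S5038

/-- Let A be a henselian local ring with residue field k, S = Spec A, and f : X ⟶ S a smooth morphism.
Then the map from sections of f to k-points of the closed fibre is surjective: every u₀ : Spec k ⟶ X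
lying over the closed point extends to a section u of f. -/
theorem result (A : Type u) [CommRing A] [HenselianLocalRing A]
    {X : Scheme.{u}} (f : X ⟶ Spec (CommRingCat.of A)) [Smooth f]
    (u₀ : Spec (CommRingCat.of (IsLocalRing.ResidueField A)) ⟶ X)
    (h₀ : u₀ ≫ f = Spec.map (CommRingCat.ofHom (IsLocalRing.residue A))) :
    ∃ u : Spec (CommRingCat.of A) ⟶ X, u ≫ f = 𝟙 _ ∧
      Spec.map (CommRingCat.ofHom (IsLocalRing.residue A)) ≫ u = u₀ := by
  obtain ⟨W, hW, hxW, -⟩ := exists_isAffineOpen_mem_and_subset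
    (x := u₀.base (IsLocalRing.closedPoint (IsLocalRing.ResidueField A))) (U := (⊤ : X.Opens)) trivial
  have hsub : Set.range u₀.base ⊆ Set.range hW.fromSpec.base := by
    rw [hW.range_fromSpec]
    rintro _ ⟨y, rfl⟩
    rwa [Subsingleton.elim y (IsLocalRing.closedPoint (IsLocalRing.ResidueField A))]
  let v₀ := IsOpenImmersion.lift hW.fromSpec u₀ hsub
  obtain ⟨ψ, hψ⟩ : ∃ ψ, Spec.map ψ = hW.fromSpec ≫ f := ⟨_, Spec.map_preimage _⟩
  obtain ⟨β, hβ⟩ : ∃ β, Spec.map β = v₀ := ⟨_, Spec.map_preimage _⟩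
  have hsm : ψ.hom.Smooth := by
    rw [← HasRingHomProperty.Spec_iff (P := @Smooth), hψ]
    infer_instance
  have hcomp : ψ ≫ β = CommRingCat.ofHom (IsLocalRing.residue A) := by
    apply Spec.map_injective
    rw [Spec.map_comp, hβ, hψ, IsOpenImmersion.lift_fac_assoc, h₀]
  letI := ψ.hom.toAlgebra
  have : Algebra.Smooth A Γ(X, W) := RingHom.smooth_algebraMap.mp hsm
  let σ : Γ(X, W) →ₐ[A] A ⧸ IsLocalRing.maximalIdeal A :=
    { β.hom with commutes' := fun r => congr($(hcomp).hom r) }
  obtain ⟨τ, hτ⟩ := Hens.exists_smooth_lift_of_henselianRing (Hens.henselianRing_maximalIdeal A) σ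
  refine ⟨Spec.map (CommRingCat.ofHom τ.toRingHom) ≫ hW.fromSpec, ?_, ?_⟩
  · rw [Category.assoc, ← hψ, ← Spec.map_comp,
      show ψ ≫ CommRingCat.ofHom τ.toRingHom = 𝟙 (CommRingCat.of A) from
        CommRingCat.hom_ext (RingHom.ext fun r => τ.commutes r), Spec.map_id]
  · rw [← Spec.map_comp_assoc,
      show CommRingCat.ofHom τ.toRingHom ≫ CommRingCat.ofHom (IsLocalRing.residue A) = β from
        CommRingCat.hom_ext (RingHom.ext fun s => congr($hτ s)), hβ]
    exact IsOpenImmersion.lift_fac _ _ _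

end Groth.Agent.S5038
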