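import Mathlib.RingTheory.Henselian
import Mathlib.RingTheory.Ideal.Quotient.Operations
import Mathlib.RingTheory.Jacobson.Ideal
import Mathlib.RingTheory.TensorProduct.Basic
import Mathlib.Algebra.Module.Projective
import Mathlib.RingTheory.Finiteness.Defs
import Groth.Agent.Lib.Hens.Pair
import Mathlib.LinearAlgebra.Matrix.Charpoly.Basic
import Mathlib.LinearAlgebra.TensorProduct.RightExactness
import Mathlib.RingTheory.Finiteness.Projective
import Mathlib.LinearAlgebra.Matrix.ToLin
import Mathlib.LinearAlgebra.Matrix.Charpoly.Coeff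

set_option autoImplicit false
universe u
namespace Hensel
end Hensel
open Hensel

namespace Groth.Agent.S0534

/-- If `R` is Henselian at `I`, every finitely generated projective `R/I`-module is the base change of a
finitely generated projective `R`-module. -/
theorem result (R : Type u) [CommRing R] (I : Ideal R)
    [HenselianRing R I] (Q : Type u) [AddCommGroup Q] [Module (R ⧸ I) Q] [Module.Finite (R ⧸ I) Q]
    [Module.Projective (R ⧸ I) Q] :
    ∃ (P : Type u) (_ : AddCommGroup P) (_ : Module R P), Module.Finite R P ∧ Module.Projective R P ∧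
      Nonempty (TensorProduct R (R ⧸ I) P ≃ₗ[R ⧸ I] Q) := by
  obtain ⟨n, π₀, hπ₀⟩ := Module.Finite.exists_fin' (R ⧸ I) Q
  let π := π₀.comp (LinearMap.funLeft (R ⧸ I) (R ⧸ I) (Fin.castSucc (n := n)))
  have hπ : Function.Surjective π := hπ₀.comp
    (LinearMap.funLeft_surjective_of_injective (R ⧸ I) (R ⧸ I) _ (Fin.castSucc_injective n))
  obtain ⟨s, hs⟩ := Module.projective_lifting_property π LinearMap.id hπ
  let mk := Ideal.Quotient.mk I
  let Mb : Matrix (Fin (n + 1)) (Fin (n + 1)) (R ⧸ I) := LinearMap.toMatrix' (s.comp π)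
  have hMb : Mb * Mb = Mb := by
    rw [← LinearMap.toMatrix'_comp, LinearMap.comp_assoc, ← LinearMap.comp_assoc π, hs,
      LinearMap.id_comp]
  choose M hM using fun i j => Ideal.Quotient.mk_surjective (Mb i j)
  let M : Matrix (Fin (n + 1)) (Fin (n + 1)) R := Matrix.of M
  have hMm : M.map mk = Mb := Matrix.ext hM
  obtain ⟨e, he, hem⟩ : ∃ e : Matrix (Fin (n + 1)) (Fin (n + 1)) R, e * e = e ∧ e.map mk = Mb := by
    let N := n + 1
    let q := (M * M - M).charpoly
    have hq : q.map mk = Polynomial.X ^ N := by
      rw [← Matrix.charpoly_map]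
      have : (M * M - M).map mk = 0 := by
        rw [Matrix.map_sub _ (map_sub mk), Matrix.map_mul, hMm, hMb, sub_self]
      rw [this, Matrix.charpoly_zero, Fintype.card_fin]
    cases subsingleton_or_nontrivial (R ⧸ I) with
    | inl hs' => exact ⟨0, by simp, Matrix.ext fun _ _ => Subsingleton.elim _ _⟩
    | inr hn =>
    have : Nontrivial R := mk.domain_nontrivial
    have hdeg : (Polynomial.X * Polynomial.X - Polynomial.X : Polynomial R).natDegree = 2 := by
      compute_degree!
    have hp : (q.comp (Polynomial.X * Polynomial.X - Polynomial.X)).Monic :=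
      (Matrix.charpoly_monic _).comp (by monicity!) (by omega)
    obtain ⟨g, h, -, -, hgh, hc, hg, hh⟩ := Hens.exists_factor_lift ‹_› _ hp (Polynomial.X ^ N)
      ((Polynomial.X - 1) ^ N) (Polynomial.monic_X_pow N) ((Polynomial.monic_X_sub_C 1).pow N)
      (IsCoprime.pow ⟨1, -1, by ring⟩) (by
        rw [Polynomial.map_comp, hq, Polynomial.X_pow_comp]
        simp only [Polynomial.map_sub, Polynomial.map_mul, Polynomial.map_X]
        rw [← mul_pow, mul_sub, mul_one])
    obtain ⟨u, v, huv⟩ := hc
    let φ : Polynomial R →ₐ[R] Matrix (Fin (n + 1)) (Fin (n + 1)) R := Polynomial.aeval M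
    have hp0 : φ (q.comp (Polynomial.X * Polynomial.X - Polynomial.X)) = 0 := by
      show Polynomial.aeval M _ = 0
      rw [Polynomial.aeval_comp, map_sub, map_mul, Polynomial.aeval_X]
      exact Matrix.aeval_self_charpoly _
    refine ⟨φ (u * g), ?_, ?_⟩
    · rw [← sub_eq_zero, ← map_mul, ← map_sub,
        show u * g * (u * g) - u * g = (-u * v) * (g * h) by linear_combination (u * g) * huv,
        map_mul, ← hgh, hp0, mul_zero]
    · let Φ := (Polynomial.aeval Mb : Polynomial (R ⧸ I) →ₐ[R ⧸ I] _)
      have hmap : (φ (u * g)).map mk = Φ ((u * g).map mk) := by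
        show mk.mapMatrix (Polynomial.aeval M (u * g)) = _
        rw [Polynomial.aeval_def, Polynomial.hom_eval₂]
        show _ = Polynomial.aeval Mb ((u * g).map mk)
        rw [Polynomial.aeval_def, Polynomial.eval₂_map]
        congr 1
        refine RingHom.ext fun r => Matrix.ext fun i j => ?_
        by_cases hij : i = j
        · subst hij; simp [Matrix.algebraMap_matrix_apply]
        · simp [Matrix.algebraMap_matrix_apply, hij]
      have h2 : ∀ k, Φ (Polynomial.X ^ (k + 1)) = Mb := fun k => by
        induction k with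
        | zero => simp [Φ]
        | succ k ih => rw [pow_succ, map_mul, ih]; simpa [Φ] using hMb
      have h3 : Φ (Polynomial.X * (Polynomial.X - 1) ^ N) = 0 := by
        rw [pow_succ', ← mul_assoc, map_mul, show Φ (Polynomial.X * (Polynomial.X - 1)) = 0 by
          simp [Φ, mul_sub, hMb], zero_mul]
      have hg' : g.map mk = Polynomial.X ^ N := hg
      have hh' : h.map mk = (Polynomial.X - 1) ^ N := hh
      have huv' : u.map mk * Polynomial.X ^ N + v.map mk * (Polynomial.X - 1) ^ N = 1 := by
        rw [← hg', ← hh', ← Polynomial.map_mul, ← Polynomial.map_mul, ← Polynomial.map_add, huv,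
          Polynomial.map_one]
      have h1 : Φ (u.map mk) * Φ (Polynomial.X ^ (N + 1)) = Φ Polynomial.X := by
        have h4 := congrArg (fun p => Φ (Polynomial.X * p)) huv'
        simp only [mul_one, mul_add, map_add] at h4
        rw [mul_left_comm Polynomial.X (v.map mk), map_mul Φ (v.map mk), h3, mul_zero, add_zero,
          mul_left_comm Polynomial.X, map_mul, ← pow_succ'] at h4
        exact h4
      rw [h2, show Φ Polynomial.X = Mb from Polynomial.aeval_X _] at h1
      rw [hmap, Polynomial.map_mul, hg', map_mul, show N = n + 1 from rfl, h2, h1]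
  let E : (Fin (n + 1) → R) →ₗ[R] (Fin (n + 1) → R) := Matrix.toLin' e
  have hE : ∀ x, E (E x) = E x := fun x => by
    show (E.comp E) x = E x
    rw [← Matrix.toLin'_mul, he]
  let P := LinearMap.range E
  have hPe : ∀ x : P, E x = x := fun ⟨_, y, rfl⟩ => hE y
  have : Module.Projective R P := Module.Projective.of_split P.subtype E.rangeRestrict
    (LinearMap.ext fun x => Subtype.ext (hPe x))
  let red : (Fin (n + 1) → R) →ₗ[R] (Fin (n + 1) → R ⧸ I) :=
    LinearMap.pi fun i => (Algebra.linearMap R (R ⧸ I)).comp (LinearMap.proj i)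
  have hred : ∀ x, red (E x) = s (π (red x)) := fun x => by
    have : s (π (red x)) = Mb.mulVec (red x) := by
      rw [← Matrix.toLin'_apply, Matrix.toLin'_toMatrix']; rfl
    rw [this, ← hem]
    funext i
    exact RingHom.map_mulVec mk e x i
  let _ : Module R Q := Module.compHom Q mk
  have : IsScalarTower R (R ⧸ I) Q := IsScalarTower.of_algebraMap_smul fun _ _ => rfl
  let ψ : P →ₗ[R] Q := (π.restrictScalars R).comp (red.comp P.subtype)
  have hψ : Function.Surjective ψ := fun y => by
    choose x hx using fun i => Ideal.Quotient.mk_surjective (s y i)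
    refine ⟨⟨E x, x, rfl⟩, ?_⟩
    show π (red (E x)) = y
    rw [hred, show red x = s y from funext hx]
    simp only [show ∀ z, π (s z) = z from fun z => congr($hs z)]
  have hker : LinearMap.ker ψ = I • (⊤ : Submodule R P) := by
    refine le_antisymm (fun x hx => ?_) (Submodule.smul_le.mpr fun r hr x _ => ?_)
    · have h0 : red x = 0 := by
        rw [← hPe x, hred, show π (red x) = 0 from hx, map_zero]
      have hx' : x = ∑ i, (x : Fin (n + 1) → R) i • E.rangeRestrict (Pi.single i 1) := by
        refine Subtype.ext ((hPe x).symm.trans ?_)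
        conv_lhs => rw [pi_eq_sum_univ' (x : Fin (n + 1) → R)]
        simp
      rw [hx']
      exact Submodule.sum_mem _ fun i _ => Submodule.smul_mem_smul
        (Ideal.Quotient.eq_zero_iff_mem.mp (congrFun h0 i)) Submodule.mem_top
    · rw [LinearMap.mem_ker, map_smul, ← algebraMap_smul (R ⧸ I) r,
        show algebraMap R (R ⧸ I) r = 0 from Ideal.Quotient.eq_zero_iff_mem.mpr hr, zero_smul]
  refine ⟨P, inferInstance, inferInstance, inferInstance, inferInstance, ⟨?_⟩⟩
  let f := (TensorProduct.quotTensorEquivQuotSMul P I).trans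
    ((Submodule.quotEquivOfEq _ _ hker.symm).trans (ψ.quotKerEquivOfSurjective hψ))
  exact f.extendScalarsOfSurjective Ideal.Quotient.mk_surjective

end Groth.Agent.S0534
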