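import Mathlib.RingTheory.Henselian
import Mathlib.RingTheory.Ideal.Quotient.Operations
import Mathlib.RingTheory.Jacobson.Ideal
import Mathlib.RingTheory.TensorProduct.Basic
import Mathlib.Algebra.Module.Projective
import Mathlib.RingTheory.Finiteness.Defs
import Groth.Agent.Lib.Hens.Pair
import Mathlib.RingTheory.Nakayama
import Mathlib.RingTheory.FiniteType
import Mathlib.LinearAlgebra.TensorProduct.RightExactness

set_option autoImplicit false
universe u
namespace Hensel
end Hensel
open Hensel

namespace Groth.Agent.S0535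

/-- If `R` is Henselian at `I` and two finitely generated projective `R`-modules become isomorphic after
base change to `R/I`, then they are isomorphic. -/
theorem result (R : Type u) [CommRing R] (I : Ideal R)
    [HenselianRing R I] (P₁ P₂ : Type u) [AddCommGroup P₁] [Module R P₁] [AddCommGroup P₂]
    [Module R P₂] [Module.Finite R P₁] [Module.Projective R P₁] [Module.Finite R P₂]
    [Module.Projective R P₂]
    (e : TensorProduct R (R ⧸ I) P₁ ≃ₗ[R ⧸ I] TensorProduct R (R ⧸ I) P₂) :
    Nonempty (P₁ ≃ₗ[R] P₂) := by
  have hjac := (inferInstance : HenselianRing R I).jac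
  have key : ∀ (P Q : Type u) [AddCommGroup P] [Module R P] [AddCommGroup Q] [Module R Q]
      [Module.Projective R P] [Module.Finite R Q]
      (e : TensorProduct R (R ⧸ I) P ≃ₗ[R ⧸ I] TensorProduct R (R ⧸ I) Q),
      ∃ f : P →ₗ[R] Q, Function.Surjective f := by
    intro P Q _ _ _ _ _ _ e
    let π : Q →ₗ[R] TensorProduct R (R ⧸ I) Q := TensorProduct.mk R (R ⧸ I) Q 1
    have hπ : Function.Surjective π :=
      TensorProduct.mk_surjective R Q (R ⧸ I) Ideal.Quotient.mk_surjective
    obtain ⟨f, hf⟩ := Module.projective_lifting_property π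
      ((e.toLinearMap.restrictScalars R).comp (TensorProduct.mk R (R ⧸ I) P 1)) hπ
    refine ⟨f, LinearMap.range_eq_top.mp (top_le_iff.mp
      (Submodule.le_of_le_smul_of_le_jacobson_bot Module.Finite.fg_top hjac fun q _ => ?_))⟩
    obtain ⟨p, hp⟩ := TensorProduct.mk_surjective R P (R ⧸ I) Ideal.Quotient.mk_surjective
      (e.symm (π q))
    have h1 : π (f p) = π q := by
      refine (congr($hf p)).trans ?_
      show e ((TensorProduct.mk R (R ⧸ I) P 1) p) = π q
      rw [hp, e.apply_symm_apply]
    have h2 : q - f p ∈ I • (⊤ : Submodule R Q) := by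
      rw [← Submodule.Quotient.mk_eq_zero]
      refine (TensorProduct.quotTensorEquivQuotSMul Q I).symm.injective ?_
      simp [π] at h1 ⊢
      rw [h1, sub_self]
    rw [← sub_add_cancel q (f p)]
    exact add_mem (Submodule.mem_sup_right h2)
      (Submodule.mem_sup_left (LinearMap.mem_range_self f p))
  obtain ⟨f, hf⟩ := key P₁ P₂ e
  obtain ⟨g, hg⟩ := key P₂ P₁ e.symm
  have hgf : Function.Injective (g.comp f) :=
    OrzechProperty.injective_of_surjective_endomorphism _ (hg.comp hf)
  exact ⟨LinearEquiv.ofBijective f ⟨fun a b h => hgf (congrArg g h), hf⟩⟩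

end Groth.Agent.S0535
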