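import Groth.Statements.S3348
import Groth.Agent.Lib.ArInter.Tw

set_option autoImplicit false
universe u
open CategoryTheory CategoryTheory.Limits AlgebraicGeometry
open Models

namespace Groth.Agent.S3348

/-- In the following situation (R a discrete valuation ring with residue field k, C a smooth proper
curve over its fraction field K with H^0(C, O_C) = K, X a regular proper model with generic-fibre
inclusion g, Γ_1, …, Γ_n the irreducible components of the closed fibre, L_j ⊗ I(Γ_j) ≅ O_X, a_ij =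
deg_k(L_j|Γ_i), w_i = dim_k H^0(Γ_i, O)) let N be an invertible O_C-module and M an invertible
O_X-module restricting to N. Then the degree vector (deg_k(M|Γ_i))_i is of the form (Σ_j a_ij v_j)_i
for an integer vector v (the class (deg_k(M|Γ_i)/w_i)_i vanishes in the Picard group of the
numerical type, which does not depend on the choice of M) if and only if N is the restriction of an
invertible O_X-module M' with deg_k(M'|Γ_i) = 0 for all i. -/
theorem result (R : Type u) [CommRing R] [IsDomain R] [IsDiscreteValuationRing R]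
    (C X : Scheme.{u}) (f : C ⟶ Spec (CommRingCat.of (FractionRing R))) (p : X ⟶ Spec (CommRingCat.of R))
    (hC : Curve.IsSmoothProperCurve (FractionRing R) C f) (hH0 : IsIso f.appTop)
    (hX : Models.IsRegularProperModel R X p C f)
    {n : ℕ} (Γ : Fin n → ArSurf.VertComp R (Over.mk p)) (hΓ : Models.IsComponentList R (Over.mk p) Γ)
    (g : C ⟶ X) (hg : IsPullback g f p (Spec.map (CommRingCat.ofHom (algebraMap R (FractionRing R))))) (L : Fin n → X.Modules) (hL : ∀ i, ClSub.IsInverseOf (L i) (ClSub.idealMod (Γ i).ι.ker))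
    (N : C.Modules) (hN : PicF.IsInvertible N)
    (M : X.Modules) (hM : PicF.IsInvertible M) (hMN : Nonempty ((Scheme.Modules.pullback g).obj M ≅ N)) :
    (∃ v : Fin n → ℤ, ∀ i, ArSurf.inter R (Over.mk p) M (Γ i) = ∑ j, ArSurf.inter R (Over.mk p) (L j) (Γ i) * v j) ↔
      ∃ M' : X.Modules, PicF.IsInvertible M' ∧ Nonempty ((Scheme.Modules.pullback g).obj M' ≅ N) ∧
        ∀ i, ArSurf.inter R (Over.mk p) M' (Γ i) = 0 := by
  have c : Groth.Agent.ArInter.Ctx R C X f p Γ L := ⟨hC, hH0, hX, hΓ, hL⟩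
  constructor
  · rintro ⟨v, hv⟩
    obtain ⟨T, hT, hTv⟩ := c.exists_rep fun i => -v i
    obtain ⟨eT⟩ := c.pullback_rep hg hTv
    refine ⟨CohB1.tensorMod M T, Groth.Agent.M2.isInvertible_tensor hM hT, ?_, fun i => ?_⟩
    · obtain ⟨eN⟩ := hMN
      exact ⟨Groth.Agent.M2.pullTensorIso g M T ≪≫ Groth.Agent.M2.tensorIso eN eT ≪≫ Groth.Agent.M2.tensorRUnit _⟩
    · rw [c.inter_tensor (Γ i) hM hT, c.inter_rep (Γ i) hT hTv, hv i, ← Finset.sum_add_distrib]
      exact Finset.sum_eq_zero fun j _ => by ring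
  · rintro ⟨M', hM', ⟨eN'⟩, hdeg⟩
    obtain ⟨eN⟩ := hMN
    obtain ⟨v, T, hT, hTv, ⟨e⟩⟩ := c.exists_rep_quot hg hM hM' ⟨eN' ≪≫ eN.symm⟩
    refine ⟨fun j => -v j, fun i => ?_⟩
    have h := hdeg i
    rw [c.inter_iso (Γ i) hM' e, c.inter_tensor (Γ i) hM hT, c.inter_rep (Γ i) hT hTv] at h
    rw [← sub_eq_zero, ← h, sub_eq_add_neg, ← Finset.sum_neg_distrib]
    congr 1
    exact Finset.sum_congr rfl fun j _ => by ring

end Groth.Agent.S3348
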