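import Groth.Statements.S15954
import Groth.Agent.Lib.Pinch4.Std
import Groth.Agent.Lib.Pinch4.BaseChange

set_option autoImplicit false
universe u
open Pinch

set_option backward.isDefEq.respectTransparency.types false

namespace Groth.Agent.S15954

open CategoryTheory AlgebraicGeometry in
/-- Let Y be a scheme, f : X → Y a morphism, t : T → Y a scheme affine over Y, ξ : Z → T a morphism with
Z affine over Y via ξ followed by t, and ι : Z → X a closed immersion over Y; assume every point of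
Y has an affine open neighbourhood U together with an affine open V of X inside the preimage of U
containing the image under ι of the part of Z over U; assume moreover that Y is locally Noetherian,
f and t are of finite type and ξ is finite, and let X → P ← T be a push-out of ι and ξ in the
category of schemes; assume finally that ξ is faithfully flat and that over every affine open U of Y
the cokernel of the map from functions on t⁻¹(U) to functions on the part of Z over U is a
projective module over the functions on U. Let p : P → Y be the induced morphism. Then the push-out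
commutes with every base change: for every morphism Y' → Y the square obtained by pulling back Z →
X, Z → T, X → P and T → P along Y' → Y is a push-out square in the category of schemes. -/
theorem result {X Y T Z : Scheme.{u}} (f : X ⟶ Y) (t : T ⟶ Y) (ξ : Z ⟶ T) (ι : Z ⟶ X)
    [IsAffineHom t] [IsAffineHom (ξ ≫ t)] [IsClosedImmersion ι] (hsq : ι ≫ f = ξ ≫ t)
    (hstd : ∀ y : Y, ∃ U : Y.Opens, IsAffineOpen U ∧ y ∈ U ∧ ∃ V : X.Opens, IsAffineOpen V ∧
      V ≤ f ⁻¹ᵁ U ∧ ∀ z : Z, (ξ ≫ t).base z ∈ U → ι.base z ∈ V)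
    [IsLocallyNoetherian Y] [LocallyOfFiniteType f] [QuasiCompact f] [LocallyOfFiniteType t] [QuasiCompact t]
    [IsFinite ξ] {P : Scheme.{u}} (a : X ⟶ P) (b : T ⟶ P) (hP : IsPushout ι ξ a b)
    [Flat ξ] [Surjective ξ]
    (hv : ∀ U : Y.affineOpens, @Pinch.CokerProjective Γ(Y, U) Γ(Z, (ξ ≫ t) ⁻¹ᵁ U) Γ(T, t ⁻¹ᵁ U) _ _ _
      ((ξ ≫ t).app U).hom.toAlgebra (ξ.app (t ⁻¹ᵁ U)).hom)
    (p : P ⟶ Y) (hap : a ≫ p = f) (hbp : b ≫ p = t) {Y' : Scheme.{u}} (g : Y' ⟶ Y) :
    IsPushout ((Over.pullback g).map (Over.homMk ι hsq : Over.mk (ξ ≫ t) ⟶ Over.mk f)).left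
      ((Over.pullback g).map (Over.homMk ξ rfl : Over.mk (ξ ≫ t) ⟶ Over.mk t)).left
      ((Over.pullback g).map (Over.homMk a hap : Over.mk f ⟶ Over.mk p)).left
      ((Over.pullback g).map (Over.homMk b hbp : Over.mk t ⟶ Over.mk p)).left := by
  have H := Groth.Agent.Pinch4.isPinch_of_cond (Groth.Agent.Pinch4.cond_of_std hsq hstd) hP
  let mι := ((Over.pullback g).map (Over.homMk ι hsq : Over.mk (ξ ≫ t) ⟶ Over.mk f)).left
  let mξ := ((Over.pullback g).map (Over.homMk ξ rfl : Over.mk (ξ ≫ t) ⟶ Over.mk t)).left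
  let ma := ((Over.pullback g).map (Over.homMk a hap : Over.mk f ⟶ Over.mk p)).left
  let mb := ((Over.pullback g).map (Over.homMk b hbp : Over.mk t ⟶ Over.mk p)).left
  have h1 : mι ≫ Limits.pullback.fst f g = Limits.pullback.fst (ξ ≫ t) g ≫ ι := Limits.pullback.lift_fst ..
  have h2 : mι ≫ Limits.pullback.snd f g = Limits.pullback.snd (ξ ≫ t) g := Limits.pullback.lift_snd ..
  have h3 : mξ ≫ Limits.pullback.fst t g = Limits.pullback.fst (ξ ≫ t) g ≫ ξ := Limits.pullback.lift_fst ..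
  have h4 : mξ ≫ Limits.pullback.snd t g = Limits.pullback.snd (ξ ≫ t) g := Limits.pullback.lift_snd ..
  have a1 : ma ≫ Limits.pullback.fst p g = Limits.pullback.fst f g ≫ a := Limits.pullback.lift_fst ..
  have a2 : ma ≫ Limits.pullback.snd p g = Limits.pullback.snd f g := Limits.pullback.lift_snd ..
  have b1 : mb ≫ Limits.pullback.fst p g = Limits.pullback.fst t g ≫ b := Limits.pullback.lift_fst ..
  have b2 : mb ≫ Limits.pullback.snd p g = Limits.pullback.snd t g := Limits.pullback.lift_snd ..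
  have hw : mι ≫ ma = mξ ≫ mb := by
    refine Limits.pullback.hom_ext (f := p) (g := g) ?_ ?_
    · erw [Category.assoc, Category.assoc, a1, b1, ← Category.assoc, ← Category.assoc, h1, h3, Category.assoc,
        Category.assoc, hP.w]
    · erw [Category.assoc, Category.assoc, a2, b2, h2, h4]
  refine (⟨hw, fun x' => ?_⟩ : Groth.Agent.Pinch4.IsPinch mι mξ ma mb).isPushout
  have hPb := IsPullback.of_hasPullback p g
  have hX := Groth.Agent.Pinch4.isPullback_map a p g f hap ma a1 a2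
  have hY := Groth.Agent.Pinch4.isPullback_map b p g t hbp mb b1 b2
  have hZ := Groth.Agent.Pinch4.isPullback_map ι f g (ξ ≫ t) hsq mι h1 h2
  let π := Limits.pullback.fst p g
  have base : ∀ (U : Y.Opens) (hU : IsAffineOpen U) (S : P.Opens), π x' ∈ S → S ≤ p ⁻¹ᵁ U →
      ∃ V', IsAffineOpen V' ∧ Limits.pullback.snd p g x' ∈ V' ∧ V' ≤ g ⁻¹ᵁ U := by
    intro U hU S hxS hSU
    obtain ⟨V', hV', hx, hle⟩ := exists_isAffineOpen_mem_and_subset (X := Y') (x := Limits.pullback.snd p g x')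
      (U := g ⁻¹ᵁ U) (by
        show g (Limits.pullback.snd p g x') ∈ U
        rw [← Scheme.Hom.comp_apply, ← Limits.pullback.condition, Scheme.Hom.comp_apply]
        exact hSU hxS)
    exact ⟨V', hV', hx, hle⟩
  haveI := H.isClosedImmersion_b
  by_cases hb : π x' ∈ Set.range b
  · obtain ⟨w, hw'⟩ := hb
    obtain ⟨U, hU, hwU, V, hV, hVU, h⟩ := hstd (t w)
    obtain ⟨S, c, hSX, hSY⟩ := H.exists_affineChart (Groth.Agent.Pinch4.stdPair hsq hU hV hVU h)
    simp only [Groth.Agent.Pinch4.stdPair] at hSX hSY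
    have hxS : π x' ∈ S := by rw [← hw']; exact hSY.ge hwU
    have hSU : S ≤ p ⁻¹ᵁ U := fun s hs => by
      rcases H.covers s with ⟨z, rfl⟩ | ⟨z, rfl⟩
      · show p (a z) ∈ U
        rw [← Scheme.Hom.comp_apply, hap]
        exact hVU (hSX.le hs)
      · show p (b z) ∈ U
        rw [← Scheme.Hom.comp_apply, hbp]
        exact hSY.le hs
    obtain ⟨V', hV', hx, hV'U⟩ := base U hU S hxS hSU
    refine ⟨π ⁻¹ᵁ S ⊓ Limits.pullback.snd p g ⁻¹ᵁ V', ⟨hxS, hx⟩, c.baseChange H.w hPb hX hY hZ h3 hw hU hV' hV'U hSU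
      (Or.inr (Or.inr (Or.inr fun _ _ q halg hq => ?_)))⟩
    refine Groth.Agent.Pinch4.split_of_coker ξ t hU (hv ⟨U, hU⟩) _ ?_ _ _ c.le _ hSY ?_ q halg hq
    · rw [hap, hsq]
    · rw [hSX, Groth.Agent.Pinch4.preimage_eq_of_std hsq hVU h, hSY]
  · obtain ⟨U, hU, hxU, -⟩ := exists_isAffineOpen_mem_and_subset (X := Y) (x := p (π x')) (U := ⊤) trivial
    let R : P.Opens := p ⁻¹ᵁ U ⊓ ⟨(Set.range b)ᶜ, b.isClosedEmbedding.isClosed_range.isOpen_compl⟩
    obtain ⟨O, hxO, hOR, c⟩ := H.exists_chart_le (π x') R ⟨hxU, hb⟩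
    have hOU : O ≤ p ⁻¹ᵁ U := hOR.trans inf_le_left
    obtain ⟨V', hV', hx, hV'U⟩ := base U hU O hxO hOU
    have hbot : ι ⁻¹ᵁ a ⁻¹ᵁ O = ⊥ := by
      refine le_bot_iff.1 fun z hz => ?_
      have h' : (ι ≫ a) z ∈ O := hz
      rw [hP.w] at h'
      exact ((hOR h').2 ⟨ξ z, rfl⟩).elim
    refine ⟨π ⁻¹ᵁ O ⊓ Limits.pullback.snd p g ⁻¹ᵁ V', ⟨hxO, hx⟩, c.baseChange H.w hPb hX hY hZ h3 hw hU hV' hV'U hOU
      (Or.inr (Or.inr (Or.inl ?_)))⟩
    rw [hbot]
    infer_instance

end Groth.Agent.S15954
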