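import Groth.Statements.S16558
import Groth.Agent.Lib.SurfRR10.Curves
import Groth.Agent.Lib.SurfRR10.Proj
import Groth.Agent.Lib.CMReg18.Proj
import Groth.Agent.Lib.Abel10.AlgEquiv

set_option autoImplicit false
set_option maxHeartbeats 1000000
set_option linter.style.haveILetI false
set_option backward.isDefEq.respectTransparency false
set_option backward.isDefEq.respectTransparency.types false
universe u
open CategoryTheory CategoryTheory.Limits AlgebraicGeometry TopologicalSpace
open Surf

namespace Groth.Agent.S16558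

open Groth.Agent

noncomputable local instance instLawPlane (Y : Scheme.{u}) : PicGrp.Law Y := M2.law Y

/-- Let k be an algebraically closed field, p_1, …, p_r distinct closed points of the projective plane
P²_k and σ : X → P²_k the blow-up of P²_k in the ideal of the reduced finite set {p_1, …, p_r}
(universal property), X being regarded over k through σ; X is then an integral smooth proper surface
(carried as hypotheses). Write H = σ^*O(1), (L·M) = χ(O_X) − χ(L) − χ(M) + χ(L ⊗ M) for the
intersection number of invertible modules L, M, and for a closed subscheme C ⊆ X with ideal I_C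
write (L·C) = χ(O_C ⊗ L) − χ(O_C) and C² = (I_C·I_C). If L is an invertible O_X-module with (L·H) <
0, then H⁰(X, L) = 0. (The source takes the points in general position; that assumption plays no
role here.) -/
theorem result (k : Type u) [Field k] [IsAlgClosed k]
    (r : ℕ) (P : Fin r → ↥(CohB1.ProjSpace 2 k)) (hP : Function.Injective P)
    (hPc : ∀ i, IsClosed ({P i} : Set ↥(CohB1.ProjSpace 2 k))) (hZ : IsClosed (Set.range P))
    (X : Scheme.{u}) [X.Over (Spec (CommRingCat.of k))] (σ : X ⟶ CohB1.ProjSpace 2 k)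
    (hσk : σ ≫ CohB1.ProjSpace.toSpec 2 k = X ↘ (Spec (CommRingCat.of k)))
    (hσ : BlowUp.IsBlowUp σ (Scheme.IdealSheafData.vanishingIdeal ⟨Set.range P, hZ⟩))
    [IsIntegral X] [IsProper (X ↘ (Spec (CommRingCat.of k)))] [Smooth (X ↘ (Spec (CommRingCat.of k)))] (hdim : topologicalKrullDim X = 2)
    (L : X.Modules) (hL : PicF.IsInvertible L) (hLH : FGA.intNum k X 2 ![L, ((Scheme.Modules.pullback σ).obj (Twist.twistProjSpace 2 k 1))] (Coh.structureModule X) < 0) :
    Subsingleton (Coh.HH X L 0) := by
  refine not_nontrivial_iff_subsingleton.1 fun hn => ?_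
  let N := Twist.twistProjSpace 2 k 1
  have hN : CohB1.IsAmple N := Groth.Agent.CMReg18.isAmple_twistOne k
  have hpb := PicLoc.isInvertible_pullback σ hN.1
  obtain ⟨A, hA⟩ := SurfRR10.exists_ample (k := k) hdim
  have hd := SurfRR10.dim_eq (k := k) hdim
  have hreg := SurfRR10.regular (k := k) (X := X)
  have hnef : NumPoly18.Nef k ((Scheme.Modules.pullback σ).obj N) := fun η hη => by
    obtain ⟨n, s, hs, -⟩ := hN.2.2 (σ η)
    have hNn := M2.isInvertible_tensorPow hN.1 (n + 1)
    have hpn := Twist.isInvertible_pullback σ hNn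
    let ψ := (Twist.pullbackUnitIso σ).symm.hom ≫ (Scheme.Modules.pullback σ).map s
    have hψ : CohB1.genLocus _ ψ = σ ⁻¹ᵁ CohB1.genLocus _ s := Amp.genLocus_pullback σ hNn s _
    have h := (Goodman10.sdot_of_section (k := k) hreg hd hη hpn ψ (by rw [hψ]; exact hs)).1
    have hcls : PicGrp.cls _ hpn = PicGrp.cls _ hpb ^ (n + 1) := by
      have h1 := PicGrp.pullHom_cls σ (M2.pullMul σ) (CohB1.tensorPow N (n + 1)) hNn
      rw [HypSq10.cls_pow_eq hN.1, map_pow, PicGrp.pullHom_cls] at h1
      exact h1.symm
    rw [hcls, SymSq10.sdot_comm, SurfRR10.sdot_pow_left (k := k) hdim] at h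
    rw [show NumPoly18.ptMod η = ClSub.quotMod (NumPoly18.ptIdeal η) from rfl,
      Goodman10.cdeg_eq_sdot (k := k) hreg hd hη hpb, SymSq10.sdot_comm]
    exact Int.cast_nonneg (nonneg_of_mul_nonneg_right h (by omega))
  have h := NumPoly18.dot_nonneg_of_hasMonoSec (k := k) hd.le hA hL (NumPoly18.hasMonoSec_of_nontrivial k hL hn) hpb hnef
  rw [SurfRR10.dot_eq_sdot (k := k) hdim hL hpb] at h
  have h' : 0 ≤ SymSq10.sdot k (PicGrp.cls L hL) (PicGrp.cls _ hpb) := by exact_mod_cast h
  rw [SymSq10.intNum_eq' (k := k) hd.le hL hpb] at hLH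
  omega

end Groth.Agent.S16558
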