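import Groth.Statements.S16559
import Groth.Agent.Lib.ExcTwist10.Basic
import Groth.Agent.Lib.PlaneBlow10.Basic
import Groth.Agent.S16558
import Groth.Agent.Lib.CMReg18.Proj

set_option autoImplicit false
set_option maxHeartbeats 1000000
set_option linter.style.haveILetI false
set_option backward.isDefEq.respectTransparency false
set_option backward.isDefEq.respectTransparency.types false
universe u
open CategoryTheory CategoryTheory.Limits AlgebraicGeometry TopologicalSpace
open Surf

namespace Groth.Agent.S16559

open TopologicalSpace Groth.Agent Groth.Agent.ExcTwist10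
open Groth.Agent.SymSq10 (sdot)
open Groth.Agent.SurfRR10 (ncl)
open Groth.Agent.HypSq10 (chi rep rep_inv cls_rep hh)

noncomputable local instance instLawPlane (Y : Scheme.{u}) : PicGrp.Law Y := M2.law Y

/-- Let k be an algebraically closed field, p_1, …, p_r distinct closed points of the projective plane
P²_k and σ : X → P²_k the blow-up of P²_k in the ideal of the reduced finite set {p_1, …, p_r}
(universal property), X being regarded over k through σ; X is then an integral smooth proper surface
(carried as hypotheses). Write H = σ^*O(1), (L·M) = χ(O_X) − χ(L) − χ(M) + χ(L ⊗ M) for the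
intersection number of invertible modules L, M, and for a closed subscheme C ⊆ X with ideal I_C
write (L·C) = χ(O_C ⊗ L) − χ(O_C) and C² = (I_C·I_C). If L is an invertible O_X-module with (L·H) ≥
−2, then H²(X, L) = 0. (The source takes the points in general position; that assumption plays no
role here.) -/
theorem result (k : Type u) [Field k] [IsAlgClosed k]
    (r : ℕ) (P : Fin r → ↥(CohB1.ProjSpace 2 k)) (hP : Function.Injective P)
    (hPc : ∀ i, IsClosed ({P i} : Set ↥(CohB1.ProjSpace 2 k))) (hZ : IsClosed (Set.range P))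
    (X : Scheme.{u}) [X.Over (Spec (CommRingCat.of k))] (σ : X ⟶ CohB1.ProjSpace 2 k)
    (hσk : σ ≫ CohB1.ProjSpace.toSpec 2 k = X ↘ (Spec (CommRingCat.of k)))
    (hσ : BlowUp.IsBlowUp σ (Scheme.IdealSheafData.vanishingIdeal ⟨Set.range P, hZ⟩))
    [IsIntegral X] [IsProper (X ↘ (Spec (CommRingCat.of k)))] [Smooth (X ↘ (Spec (CommRingCat.of k)))] (hdim : topologicalKrullDim X = 2)
    (L : X.Modules) (hL : PicF.IsInvertible L) (hLH : -2 ≤ FGA.intNum k X 2 ![L, ((Scheme.Modules.pullback σ).obj (Twist.twistProjSpace 2 k 1))] (Coh.structureModule X)) :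
    Subsingleton (Coh.HH X L 2) := by
  have hd := SurfRR10.dim_eq (k := k) (X := X) hdim
  have hH := Twist.isInvertible_pullback σ (CMReg18.isAmple_twistOne (n := 2) k).1
  obtain ⟨W, hW⟩ := NumConn10.exists_canonical (k := k) hdim
  have hWi := SurfRR10.isInvertible_canonical hdim hW
  obtain ⟨-, hK⟩ := PlaneBlow10.line_numbers (k := k) hdim hPc hZ σ hσk hσ hW hWi hH
  rw [SymSq10.intNum_eq' (k := k) hd.le hL hH] at hLH
  change (-2 : ℤ) ≤ sdot k _ _ at hLH
  set c := (PicGrp.cls L hL)⁻¹ * PicGrp.cls W hWi with hc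
  haveI := Groth.Agent.S16558.result k r P hP hPc hZ X σ hσk hσ hdim (rep c) (rep_inv _) (by
    rw [SymSq10.intNum_eq' (k := k) hd.le (rep_inv _) hH]
    show sdot k _ _ < 0
    rw [cls_rep, hc, SymSq10.sdot_mul (k := k) hd.le, SurfRR10.sdot_inv_left (k := k) hdim,
      SymSq10.sdot_comm (PicGrp.cls W hWi), hK]
    omega)
  have h := SurfRR10.finrank_duality hdim hW hWi (PicGrp.cls L hL) (p := 2) le_rfl
  rw [← hc, show (2 - 2 : ℕ) = 0 from rfl] at h
  rw [Module.finrank_zero_of_subsingleton (M := Coh.HH X (rep c) 0)] at h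
  obtain ⟨b⟩ := (PicGrp.cls_eq_cls_iff (rep_inv (PicGrp.cls L hL)) hL).1 (cls_rep _)
  rw [(CurveCoh17.hequiv k b 2).finrank_eq] at h
  haveI : IsNoetherian X := CohFound.isNoetherian_of_isProper (X ↘ Spec (CommRingCat.of k))
  haveI : Module.Finite k (Coh.HH X L 2) := CohFound.finite_HH_of_isProper _ (Snapper.isCoh_of_isInvertible hL) 2
  exact Module.finrank_zero_iff.1 h

end Groth.Agent.S16559
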