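import Groth.Statements.S2348
import Groth.Agent.S1681
import Groth.Agent.S1682
import Groth.Agent.S8851
-- import your own Groth.Agent.* helpers here

set_option autoImplicit false
universe u
open CategoryTheory CategoryTheory.Limits AlgebraicGeometry
open EGA2

set_option backward.isDefEq.respectTransparency false
set_option linter.style.haveILetI false

namespace Groth.Agent.S2348

/-- For an ideal of O_Y: let Y be an integral scheme, I a nonzero quasi-coherent ideal sheaf and b : X →
Y a blowing up of Y in I (characterised by its universal property). Then X is integral, b sends the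
generic point of X to that of Y and induces a bijection on their residue fields (b is birational).
The printed statement also asserts that b is surjective; the proof does not show this and it fails
when I is not of finite type, so it is left out. -/
theorem result {X Y : Scheme.{u}} [IsIntegral Y] (I : Y.IdealSheafData) (hI : I ≠ ⊥)
    (b : X ⟶ Y) (hb : BlowUp.IsBlowUp b I) :
    ∃ (_ : IsIntegral X), ∃ hgen : b.base (genericPoint X) = genericPoint Y,
      Function.Bijective (b.residueFieldMap (genericPoint X)).hom := by
  haveI : IsReduced X := Groth.Agent.S8851.result I b hb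
  have bij := Groth.Agent.S1681.result I b hb
  have hηI : genericPoint Y ∉ I.support := by
    intro h
    refine hI (Scheme.IdealSheafData.support_eq_top_iff.1 (TopologicalSpace.Closeds.ext ?_))
    refine Set.eq_univ_of_univ_subset ?_
    rw [← genericPoint_closure (α := ↥Y)]
    exact closure_minimal (Set.singleton_subset_iff.2 h) I.support.isClosed
  have huniq : ∀ y : ↥Y, (∀ z : ↥Y, z ⤳ y → z = y) → y = genericPoint Y := fun y hy =>
    (hy _ (genericPoint_specializes y)).symm
  obtain ⟨ξ, hξ, hξb⟩ := bij.2.2 (show genericPoint Y ∈ _ from
    ⟨fun z hz => (hz.antisymm (genericPoint_specializes z)).eq, hηI⟩)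
  have hall : ∀ x : ↥X, ξ ⤳ x := by
    intro x
    obtain ⟨ζ, hζ⟩ := QuasiSober.sober (isIrreducible_irreducibleComponent (x := x))
      isClosed_irreducibleComponent
    have hζmax : ∀ z : ↥X, z ⤳ ζ → z = ζ := by
      intro z hz
      have hsub : irreducibleComponent x ⊆ closure {z} := by
        rw [← hζ.def]; exact closure_minimal (Set.singleton_subset_iff.2 hz.mem_closure) isClosed_closure
      have := eq_irreducibleComponent isIrreducible_singleton.closure.2 hsub
      exact (hz.antisymm (specializes_iff_mem_closure.2 (by rw [hζ.def, ← this]; exact subset_closure rfl))).eq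
    have : ζ = ξ := bij.2.1 hζmax hξ (((huniq _ (bij.1 hζmax).1).trans hξb.symm))
    rw [← this]
    exact hζ.specializes mem_irreducibleComponent
  haveI : IrreducibleSpace X := by
    have h : IsIrreducible (Set.univ : Set ↥X) := by
      have : (Set.univ : Set ↥X) = closure {ξ} :=
        (Set.eq_univ_of_forall fun x => (hall x).mem_closure).symm
      rw [this]; exact isIrreducible_singleton.closure
    exact (irreducibleSpace_def _).2 h
  haveI : IsIntegral X := isIntegral_of_irreducibleSpace_of_isReduced _
  have hg : genericPoint X = ξ := hξ _ (genericPoint_specializes ξ)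
  refine ⟨inferInstance, by rw [hg]; exact hξb, ?_⟩
  haveI := Groth.Agent.S1682.result I b hb
  have hbξ : b ξ = genericPoint Y := hξb
  have hmem : genericPoint X ∈ b ⁻¹ᵁ I.support.compl := by
    show b (genericPoint X) ∈ I.support.compl
    rw [hg, hbξ]; exact hηI
  let xV : ↥(b ⁻¹ᵁ I.support.compl : Scheme.{u}) := ⟨genericPoint X, hmem⟩
  have h1 := Scheme.Hom.residueFieldMap_congr (morphismRestrict_ι b I.support.compl).symm xV
  rw [Scheme.residueFieldMap_comp, Scheme.residueFieldMap_comp] at h1
  haveI hi1 : ∀ (A B : Scheme.{u}) (f : A ⟶ B) (_ : IsOpenImmersion f) (a : A), IsIso (f.residueFieldMap a) :=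
    fun _ _ f _ a => inferInstance
  haveI := hi1 _ _ (Scheme.Opens.ι I.support.compl) inferInstance ((b ∣_ I.support.compl) xV)
  haveI := hi1 _ _ (b ⁻¹ᵁ I.support.compl).ι inferInstance xV
  haveI := hi1 _ _ (b ∣_ I.support.compl) inferInstance xV
  have h2 : IsIso (b.residueFieldMap ((b ⁻¹ᵁ I.support.compl).ι xV) ≫ (b ⁻¹ᵁ I.support.compl).ι.residueFieldMap xV) := by
    rw [h1]; infer_instance
  haveI h2i : IsIso (b.residueFieldMap (genericPoint X) ≫ (b ⁻¹ᵁ I.support.compl).ι.residueFieldMap xV) := h2
  haveI h3 : IsIso (b.residueFieldMap (genericPoint X)) := IsIso.of_isIso_comp_right _ ((b ⁻¹ᵁ I.support.compl).ι.residueFieldMap xV)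
  exact ConcreteCategory.bijective_of_isIso (b.residueFieldMap (genericPoint X))

end Groth.Agent.S2348
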