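import Groth.Statements.S3829
import Groth.Agent.Lib.RegDown5.Affine
import Groth.Agent.Lib.Descend.BaseChangeAt

set_option autoImplicit false
universe u
open CategoryTheory CategoryTheory.Limits AlgebraicGeometry TopologicalSpace
open Unram17

set_option backward.isDefEq.respectTransparency.types false

namespace Groth.Agent.S3829

/-- c) implies a) (case of a closed immersion): let f : X → S and h : Y → S be locally of finite
presentation, j : Y → X a closed immersion over S and y a point of Y. If h is smooth on a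
neighbourhood of y and, on some affine open neighbourhood of j(y) in X, the ideal of j is generated
by a regular sequence (j is a regular immersion near y), then f is smooth on an open neighbourhood
of j(y). -/
theorem result {X Y S : Scheme.{u}} (f : X ⟶ S) (h : Y ⟶ S)
    [LocallyOfFinitePresentation f] [LocallyOfFinitePresentation h] (j : Y ⟶ X) [IsClosedImmersion j]
    (hj : j ≫ f = h) (y : ↥Y) (hy : ∃ V : Y.Opens, y ∈ V ∧ Smooth (V.ι ≫ h))
    (hreg : ∃ (U : X.Opens) (hU : IsAffineOpen U), j y ∈ U ∧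
      ∃ rs : List Γ(X, U), RingTheory.Sequence.IsRegular Γ(X, U) rs ∧ j.ker.ideal ⟨U, hU⟩ = Ideal.ofList rs) :
    ∃ U : X.Opens, j y ∈ U ∧ Smooth (U.ι ≫ f) := by
  obtain ⟨W0, hyW0, hW0⟩ := hy
  subst hj
  haveI := hW0
  have hys : y ∈ (j ≫ f).smoothLocus :=
    (Groth.Agent.Descend.smooth_nhd_iff_mem_smoothLocus (j ≫ f) y).1 ⟨W0, hyW0, hW0⟩
  rw [Groth.Agent.Descend.smooth_nhd_iff_mem_smoothLocus f (j y)]
  obtain ⟨U, hU, hxU, rs, hrs, hker⟩ := hreg
  obtain ⟨U₀, hU₀, hxU₀, -⟩ := exists_isAffineOpen_mem_and_subset (X := S) (x := f (j y)) (U := ⊤) trivial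
  obtain ⟨r, hrle, hxr⟩ := hU.exists_basicOpen_le (V := f ⁻¹ᵁ U₀) ⟨j y, hxU₀⟩ hxU
  let V := X.basicOpen r
  have hV : IsAffineOpen V := hU.basicOpen r
  have hVU : V ≤ f ⁻¹ᵁ U₀ := hrle
  have hxV : j y ∈ V := hxr
  let W := j ⁻¹ᵁ V
  have hW : IsAffineOpen W := hV.preimage j
  have hWU : W ≤ (j ≫ f) ⁻¹ᵁ U₀ := fun z hz => hVU hz
  letI : Algebra Γ(S, U₀) Γ(X, V) := (f.appLE U₀ V hVU).hom.toAlgebra
  letI : Algebra Γ(S, U₀) Γ(Y, W) := ((j ≫ f).appLE U₀ W hWU).hom.toAlgebra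
  letI : Algebra Γ(X, V) Γ(Y, W) := (j.appLE V W le_rfl).hom.toAlgebra
  haveI : IsScalarTower Γ(S, U₀) Γ(X, V) Γ(Y, W) := IsScalarTower.of_algebraMap_eq fun r =>
    (ConcreteCategory.congr_hom (Scheme.Hom.appLE_comp_appLE j f U₀ V W hVU le_rfl) r).symm
  haveI : Algebra.FinitePresentation Γ(S, U₀) Γ(X, V) := f.finitePresentation_appLE hU₀ hV hVU
  have halg : algebraMap Γ(X, V) Γ(Y, W) = (j.app V).hom := by
    show (j.appLE V W le_rfl).hom = _
    rw [← Scheme.Hom.app_eq_appLE]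
  have hsurj : Function.Surjective (algebraMap Γ(X, V) Γ(Y, W)) := halg ▸ j.app_surjective V hV
  rw [Scheme.Hom.mem_smoothLocus, formallySmooth_stalkMap_iff U₀ hU₀ V hV hVU hxV]
  have h2 := (formallySmooth_stalkMap_iff (f := j ≫ f) (x := y) U₀ hU₀ W hW hWU hxV).mp hys
  haveI : Algebra.IsSmoothAt Γ(S, U₀) (hW.primeIdealOf ⟨y, hxV⟩).asIdeal := h2
  let q := (hV.primeIdealOf ⟨j y, hxV⟩).asIdeal
  have hq : q = (hW.primeIdealOf ⟨y, hxV⟩).asIdeal.comap (algebraMap Γ(X, V) Γ(Y, W)) :=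
    congr($(IsAffineOpen.comap_primeIdealOf_appLE V hV W hW (f := j) (x := y) le_rfl hxV).1).symm
  letI : Algebra Γ(X, U) Γ(X, V) := (X.presheaf.map (homOfLE (X.basicOpen_le r)).op).hom.toAlgebra
  haveI : IsLocalization.Away r Γ(X, V) := hU.isLocalization_basicOpen r
  haveI : Module.Flat Γ(X, U) Γ(X, V) := IsLocalization.flat _ (Submonoid.powers r)
  haveI : Module.Flat Γ(X, V) (Localization.AtPrime q) := IsLocalization.flat _ q.primeCompl
  haveI : Module.Flat Γ(X, U) (Localization.AtPrime q) := .trans Γ(X, U) Γ(X, V) _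
  let g : Fin rs.length → Localization.AtPrime q := fun i => algebraMap Γ(X, U) _ rs[i]
  have hg : List.ofFn g = rs.map (algebraMap Γ(X, U) (Localization.AtPrime q)) := by
    apply List.ext_getElem <;> simp [g]
  refine Groth.Agent.RegDown5.isSmoothAt_of_regular Γ(S, U₀) Γ(X, V) Γ(Y, W) hsurj q _ hq g ?_ ?_
  · rw [hg]
    exact hrs.toIsWeaklyRegular.of_flat
  · have hVker : RingHom.ker (algebraMap Γ(X, V) Γ(Y, W)) =
        (j.ker.ideal ⟨U, hU⟩).map (algebraMap Γ(X, U) Γ(X, V)) := by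
      rw [halg, ← Scheme.Hom.ker_apply j ⟨V, hV⟩]
      exact (j.ker.map_ideal (U := ⟨V, hV⟩) (V := ⟨U, hU⟩) (X.basicOpen_le r)).symm
    rw [hVker, Ideal.map_map, hker, Ideal.map_ofList, ← IsScalarTower.algebraMap_eq, ← hg, Ideal.ofList]
    congr 1
    ext z
    simp [List.mem_ofFn', eq_comm]

end Groth.Agent.S3829
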