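import Groth.Statements.S9787
import Groth.Agent.Lib.SmBlow4.Fp
import Groth.Agent.Lib.RegImm26.CIFibres
import Groth.Agent.S3829
-- import your own Groth.Agent.* helpers here

set_option autoImplicit false
universe u
open CategoryTheory CategoryTheory.Limits AlgebraicGeometry TopologicalSpace
open FlatMor

namespace Groth.Agent.S9787

/-- For a smooth q : X ⟶ S and a closed immersion i : Z ⟶ X whose composite with q is smooth, any
blowing up b : X' ⟶ X of the ideal sheaf of Z (given by its universal property) is smooth over S,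
and so is its exceptional divisor. The published statement also identifies the exceptional divisor
over Z with the projective bundle of the conormal sheaf, with O(1) the restriction of O_{X'}(−E);
this row proves only the two smoothness claims. -/
theorem result {Z X X' S : Scheme.{u}} (q : X ⟶ S) [Smooth q] (i : Z ⟶ X) [IsClosedImmersion i]
    [Smooth (i ≫ q)] (b : X' ⟶ X) (hb : BlowUp.IsBlowUp b i.ker) :
    Smooth (b ≫ q) ∧ Smooth ((BlowUp.exceptional b i.ker).subschemeι ≫ b ≫ q) := by
  have hci : CInt.IsCIMorphism (i ≫ q) := by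
    refine ⟨inferInstance, inferInstance, fun z => ?_⟩
    let s := (i ≫ q) z
    haveI : Smooth ((i ≫ q).fiberToSpecResidueField s) := MorphismProperty.pullback_snd (P := @Smooth) _ _ inferInstance
    haveI : IsRegularLocalRing (((i ≫ q).fiber s).presheaf.stalk ((i ≫ q).asFiber z)) :=
      Groth.Agent.WeilExt.isRegularLocalRing_of_smooth ((i ≫ q).fiberToSpecResidueField s)
        (Groth.Agent.RegImm26.isRegularLocalRing_stalk_spec_field (S.residueField s)) _
    show Pi1.IsCompleteIntersection (((i ≫ q).fiber s).presheaf.stalk ((i ≫ q).asFiber z))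
    refine (Groth.Agent.CI2.ci_iff_ker (RingHom.id _) Function.surjective_id).2 ⟨[], RingTheory.Sequence.IsRegular.nil _ _, ?_⟩
    rw [Ideal.ofList_nil, eq_comm, ← RingHom.injective_iff_ker_eq_bot]
    exact Function.injective_id
  have hi : Mor2.IsRegularClosedImmersion i := Groth.Agent.RegImm26.regular_of_ci_fibres q i hci
  haveI : LocallyOfFinitePresentation b := Groth.Agent.SmBlow4.lfp_blowUp i hi b hb
  let E := BlowUp.exceptional b i.ker
  have hle : i.ker ≤ (E.subschemeι ≫ b).ker := by
    rw [← Scheme.IdealSheafData.map_ker, Scheme.IdealSheafData.ker_subschemeι]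
    exact Scheme.IdealSheafData.le_map_comap _ _
  let g : E.subscheme ⟶ Z := IsClosedImmersion.lift i (E.subschemeι ≫ b) hle
  have hg : g ≫ i = E.subschemeι ≫ b := IsClosedImmersion.lift_fac _ _ _
  haveI : Smooth g := Groth.Agent.S2894.result i hi b hb g hg
  haveI hE : Smooth (E.subschemeι ≫ b ≫ q) := by
    rw [← reassoc_of% hg]
    infer_instance
  refine ⟨?_, hE⟩
  have key : ∀ x' : X', ∃ O : X'.Opens, x' ∈ O ∧ Smooth (O.ι ≫ b ≫ q) := by
    intro x'
    by_cases hx : x' ∈ (E.support : Set X')
    · rw [← Scheme.IdealSheafData.range_subschemeι] at hx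
      obtain ⟨y, rfl⟩ := hx
      obtain ⟨V, hyV, f, hf⟩ := Groth.Agent.EffCartier.isEffCartierIdeal_iff.mp hb.1 (E.subschemeι y)
      refine Groth.Agent.S3829.result (b ≫ q) (E.subschemeι ≫ b ≫ q) E.subschemeι rfl y
        ⟨⊤, trivial, MorphismProperty.comp_mem @Smooth _ _ inferInstance hE⟩ ⟨V.1, V.2, hyV, [f], ?_, ?_⟩
      · refine ⟨(RingTheory.Sequence.isWeaklyRegular_cons_iff _ f []).2
          ⟨isSMulRegular_iff_mem_nonZeroSMulDivisors.2 ?_, RingTheory.Sequence.IsWeaklyRegular.nil _ _⟩, ?_⟩
        · intro a ha
          exact (mem_nonZeroDivisors_iff.1 hf.mem).1 a ha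
        · intro htop
          have hmem : E.subschemeι y ∈ (E.support : Set X') := by
            rw [← Scheme.IdealSheafData.range_subschemeι]; exact ⟨y, rfl⟩
          have h1 : E.ideal V = ⊤ := by
            show (i.ker.comap b).ideal V = ⊤
            rw [hf.ideal_eq, ← Ideal.ofList_singleton]
            simpa using htop.symm
          rw [SetLike.mem_coe, Scheme.IdealSheafData.mem_support_iff_of_mem hyV, h1, Scheme.mem_zeroLocus_iff] at hmem
          exact hmem 1 trivial (by rw [Scheme.basicOpen_of_isUnit _ isUnit_one]; exact hyV)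
      · rw [Scheme.IdealSheafData.ker_subschemeι, Ideal.ofList_singleton]
        exact hf.ideal_eq
    · let V : X.Opens := Groth.Agent.EffCartier.cmpl i.ker
      haveI : IsIso (b ∣_ V) := Groth.Agent.EffCartier.isIso_blowUp_restrict hb
      refine ⟨b ⁻¹ᵁ V, ?_, ?_⟩
      · show b x' ∉ (i.ker.support : Set X)
        intro h
        apply hx
        show x' ∈ ((i.ker.comap b).support : Set X')
        rw [Scheme.IdealSheafData.support_comap]
        exact h
      · rw [← morphismRestrict_ι_assoc]
        infer_instance
  choose O hxO hO using key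
  exact IsZariskiLocalAtSource.of_openCover (X'.openCoverOfIsOpenCover O (by
    rw [TopologicalSpace.IsOpenCover, eq_top_iff]
    exact fun x _ => TopologicalSpace.Opens.mem_iSup.2 ⟨x, hxO x⟩)) fun x => hO x

end Groth.Agent.S9787
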