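import Groth.Statements.S0516
import Groth.Agent.Lib.Hens.FiniteType
-- import your own Groth.Agent.* helpers here

set_option autoImplicit false
universe u
open Hensel

namespace Groth.Agent.S0516

open IsLocalRing

theorem surjective_algebraMap_of_local (R : Type u) [CommRing R] [IsLocalRing R]
    [IsSepClosed (IsLocalRing.ResidueField R)] (A : Type u) [CommRing A] [Algebra R A]
    [IsLocalRing A] [Module.Finite R A] [Algebra.FormallyUnramified R A] :
    Function.Surjective (algebraMap R A) := by
  have hloc : IsLocalHom (algebraMap R A) := by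
    refine ((local_hom_TFAE (algebraMap R A)).out 0 4).mpr ?_
    exact IsLocalRing.eq_maximalIdeal
      (Ideal.isMaximal_comap_of_isIntegral_of_isMaximal (maximalIdeal A))
  have hk : Function.Surjective (algebraMap (ResidueField R) (ResidueField A)) :=
    IsSepClosed.algebraMap_surjective _ _
  have hm := Algebra.FormallyUnramified.map_maximalIdeal (R := R) (S := A)
  have hfg : (⊤ : Submodule R A).FG := Module.Finite.fg_top
  have key : (⊤ : Submodule R A) ≤ LinearMap.range (Algebra.linearMap R A) := by
    refine Submodule.le_of_le_smul_of_le_jacobson_bot hfg (maximalIdeal_le_jacobson ⊥) ?_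
    intro x _
    obtain ⟨c, hc⟩ := hk (residue A x)
    obtain ⟨r, rfl⟩ := residue_surjective c
    rw [Ideal.smul_top_eq_map]
    refine Submodule.mem_sup.mpr ⟨algebraMap R A r, ⟨r, rfl⟩, x - algebraMap R A r, ?_,
      add_sub_cancel _ _⟩
    rw [Submodule.restrictScalars_mem, hm, ← residue_eq_zero_iff, map_sub, ← hc,
      ← ResidueField.algebraMap_residue, sub_self]
  intro x
  exact key Submodule.mem_top

/-- An unramified algebra `S` (formally unramified of finite type) over a strictly henselian local ring
`R` is isomorphic over `R` to a product of finitely many quotient rings of `R` and an `R`-algebra in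
which the maximal ideal of `R` generates the unit ideal. -/
theorem result (R : Type u) [CommRing R]
    [HenselianLocalRing R] [IsSepClosed (IsLocalRing.ResidueField R)] (S : Type u) [CommRing S] [Algebra R S]
    [Algebra.Unramified R S] :
    ∃ (ι : Type u) (_ : Fintype ι) (A : ι → Type u) (_ : ∀ i, CommRing (A i))
      (_ : ∀ i, Algebra R (A i)) (B : Type u) (_ : CommRing B) (_ : Algebra R B),
      (∀ i, Function.Surjective (algebraMap R (A i))) ∧
      Ideal.map (algebraMap R B) (IsLocalRing.maximalIdeal R) = ⊤ ∧
      Nonempty (S ≃ₐ[R] ((∀ i, A i) × B)) := by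
  obtain ⟨e, he, hfin, hne⟩ := Hens.exists_finite_split R S
  have hfu : Algebra.FormallyUnramified R (S ⧸ Ideal.span ({1 - e} : Set S)) :=
    Algebra.FormallyUnramified.comp R S _
  let C := S ⧸ Ideal.span ({1 - e} : Set S)
  have hb := Hens.bijective_pi_localization_of_surjOn
    (Hens.surjOn_idempotents_of_henselian (A := R) (B := C))
  have : Finite (MaximalSpectrum C) := Hens.finite_maximalSpectrum (A := R) (B := C)
  let A : MaximalSpectrum C → Type u := fun n => Localization.AtPrime n.asIdeal
  let f : C →ₐ[R] ∀ n, A n :=
    { RingHom.pi (fun n : MaximalSpectrum C => algebraMap C (Localization.AtPrime n.asIdeal)) with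
      commutes' := fun r => funext fun n =>
        (IsScalarTower.algebraMap_apply R C (Localization.AtPrime n.asIdeal) r).symm }
  let ef : C ≃ₐ[R] ∀ n, A n := AlgEquiv.ofBijective f hb
  refine ⟨MaximalSpectrum C, Fintype.ofFinite _, A, fun _ => inferInstance, fun _ => inferInstance,
    S ⧸ Ideal.span ({e} : Set S), inferInstance, inferInstance, ?_, ?_, ?_⟩
  · intro n
    have hs : Function.Surjective (IsScalarTower.toAlgHom R C (Localization.AtPrime n.asIdeal)) := by
      intro y
      classical
      obtain ⟨c, hc⟩ := hb.2
        (Function.update (0 : ∀ m : MaximalSpectrum C, Localization.AtPrime m.asIdeal) n y)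
      refine ⟨c, (congrFun hc n).trans ?_⟩
      exact Function.update_self (β := fun m : MaximalSpectrum C => Localization.AtPrime m.asIdeal) n y 0
    have : Module.Finite R (Localization.AtPrime n.asIdeal) :=
      Module.Finite.of_surjective
        (IsScalarTower.toAlgHom R C (Localization.AtPrime n.asIdeal)).toLinearMap hs
    have : Algebra.FormallyUnramified C (Localization.AtPrime n.asIdeal) :=
      Algebra.FormallyUnramified.of_isLocalization n.asIdeal.primeCompl
    have : Algebra.FormallyUnramified R (Localization.AtPrime n.asIdeal) :=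
      Algebra.FormallyUnramified.comp R C _
    exact surjective_algebraMap_of_local R _
  · by_contra h
    obtain ⟨M, hM, hle⟩ := Ideal.exists_le_maximal _ h
    refine hne (M.comap (Ideal.Quotient.mk _)) ⟨(le_antisymm
      (IsLocalRing.le_maximalIdeal (Ideal.IsPrime.ne_top inferInstance)) ?_).symm⟩ inferInstance ?_
    · intro r hr
      exact hle (Ideal.mem_map_of_mem _ hr)
    · rw [Ideal.mem_comap, Ideal.Quotient.eq_zero_iff_mem.mpr (Ideal.mem_span_singleton_self _)]
      exact zero_mem _
  · exact ⟨((AlgEquiv.prodQuotientOfIsIdempotentElem R he.one_sub he (sub_add_cancel 1 e)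
      (by rw [sub_mul, one_mul, he.eq, sub_self])).trans (AlgEquiv.prodCongr ef AlgEquiv.refl))⟩

end Groth.Agent.S0516
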