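import Groth.Statements.S0263
import Groth.Agent.Lib.FEtEq25.DepthTwo

set_option autoImplicit false
universe u
open Pi1

namespace Groth.Agent.S0263

open AlgebraicGeometry CategoryTheory CategoryTheory.Limits in
/-- Let A be a Noetherian local ring of depth at least 2 and V a finite étale cover of the punctured
spectrum of A which is isomorphic to the restriction of some finite étale cover of Spec A. Then the
ring of global sections Γ(V, O_V) is finite and étale over A, via the ring map A → Γ(V, O_V) induced
by the composite V → Spec A. (Only this implication of the published statement is asserted here; its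
converse is not.) -/
theorem result (A : Type u) [CommRing A] [IsNoetherianRing A] [IsLocalRing A] (hA : (2 : ℕ∞) ≤ LocCoh.depth A A)
    (V : FEt.Cat (FEt.puncturedSpec A : Scheme.{u}))
    (hV : ∃ Y : FEt.Cat (Spec (CommRingCat.of A)),
      Nonempty ((FEt.restrict (FEt.puncturedSpec A).ι).obj Y ≅ V)) :
    ((Scheme.ΓSpecIso (CommRingCat.of A)).inv ≫ (V.hom ≫ (FEt.puncturedSpec A).ι).appTop).hom.Finite ∧
    ((Scheme.ΓSpecIso (CommRingCat.of A)).inv ≫ (V.hom ≫ (FEt.puncturedSpec A).ι).appTop).hom.Etale := by
  obtain ⟨Y, ⟨e⟩⟩ := hV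
  have key : ∀ {T W : Scheme.{u}} (g : T ⟶ Spec (CommRingCat.of A)) [IsFinite g] [Etale g]
      (c : W ⟶ (FEt.puncturedSpec A : Scheme.{u}))
      (ε : W ≅ pullback g (FEt.puncturedSpec A).ι) (_ : ε.hom ≫ pullback.snd _ _ = c),
      ((Scheme.ΓSpecIso (CommRingCat.of A)).inv ≫ (c ≫ (FEt.puncturedSpec A).ι).appTop).hom.Finite ∧
      ((Scheme.ΓSpecIso (CommRingCat.of A)).inv ≫ (c ≫ (FEt.puncturedSpec A).ι).appTop).hom.Etale := by
    intro T W g _ _ c ε hε
    have : IsLocallyNoetherian T := LocallyOfFiniteType.isLocallyNoetherian g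
    have : IsAffine T := isAffine_of_isAffineHom g
    have hb : Function.Bijective (pullback.fst g (FEt.puncturedSpec A).ι).appTop := by
      refine Groth.Agent.FEtEq25.bijective_appTop_of_depth_two _ fun z hz => ?_
      rw [Scheme.Pullback.range_fst, Set.mem_preimage, Scheme.Opens.range_ι] at hz
      refine le_trans ?_ (Groth.Agent.FEtEq25.depth_le_of_flat_local (g.stalkMap z).hom (Flat.stalkMap g z))
      have hx' : g z = IsLocalRing.closedPoint A := not_not.1 hz
      have e0 : ((Spec (CommRingCat.of A)).presheaf.stalk (g z)) ≃+* Localization.AtPrime (g z).asIdeal :=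
        (StructureSheaf.stalkIso A (g z)).symm.toRingEquiv
      have hm : IsLocalRing.maximalIdeal A = (g z).asIdeal := by rw [hx']; rfl
      have hu : (g z).asIdeal.primeCompl ≤ IsUnit.submonoid A := fun a ha => by
        by_contra hn
        exact ha (hm ▸ (IsLocalRing.mem_maximalIdeal a).2 hn)
      let e' : A ≃+* Localization.AtPrime (g z).asIdeal :=
        (IsLocalization.atUnits A (g z).asIdeal.primeCompl hu).toRingEquiv
      rw [Groth.Agent.SMT.depth_eq_of_ringEquiv (e'.trans e0.symm)]
      exact hA
    have : IsIso (pullback.fst g (FEt.puncturedSpec A).ι).appTop :=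
      (ConcreteCategory.isIso_iff_bijective _).2 hb
    have : IsIso ε.hom.appTop := inferInstanceAs (IsIso (Scheme.Γ.map ε.hom.op))
    have hc : c ≫ (FEt.puncturedSpec A).ι = (ε.hom ≫ pullback.fst g (FEt.puncturedSpec A).ι) ≫ g := by
      rw [← hε, Category.assoc, Category.assoc, pullback.condition]
    rw [hc, Scheme.Hom.comp_appTop, Scheme.Hom.comp_appTop, ← Category.assoc]
    refine ⟨?_, ?_⟩
    · change RingHom.toMorphismProperty RingHom.Finite _
      haveI := RingHom.toMorphismProperty_respectsIso_iff.mp RingHom.finite_respectsIso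
      refine (MorphismProperty.cancel_right_of_respectsIso (RingHom.toMorphismProperty RingHom.Finite) _ _).2
        ((MorphismProperty.cancel_left_of_respectsIso (RingHom.toMorphismProperty RingHom.Finite) _ _).2 ?_)
      exact g.finite_appTop
    · change RingHom.toMorphismProperty RingHom.Etale _
      haveI := RingHom.toMorphismProperty_respectsIso_iff.mp RingHom.Etale.respectsIso
      refine (MorphismProperty.cancel_right_of_respectsIso (RingHom.toMorphismProperty RingHom.Etale) _ _).2
        ((MorphismProperty.cancel_left_of_respectsIso (RingHom.toMorphismProperty RingHom.Etale) _ _).2 ?_)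
      exact (HasRingHomProperty.iff_of_isAffine (P := @Etale)).1 ‹_›
  have : IsFinite Y.hom := Y.prop.1
  have : Etale Y.hom := Y.prop.2
  exact key Y.hom V.hom ((Over.forget _).mapIso ((MorphismProperty.Over.forget _ _ _).mapIso e.symm))
    (Over.w ((MorphismProperty.Over.forget _ _ _).map e.inv))
end Groth.Agent.S0263
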