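import Groth.Statements.S1135
import Groth.Agent.Lib.Pur25.Completion
import Groth.Agent.Lib.Pur25.LocCohKill

set_option autoImplicit false
universe u
open Pi1

namespace Groth.Agent.S1135

open AlgebraicGeometry CategoryTheory CategoryTheory.Limits in
/-- Let A be a Noetherian local ring and f a member of the maximal ideal with the property that some
power of f kills both local cohomology modules H^1_m(A), H^2_m(A), and for which (A, (f)) is a
henselian pair. Then restricting finite etale covers from the punctured spectrum of A to the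
punctured spectrum of A/fA is fully faithful. -/
theorem result (A : Type u) [CommRing A] [IsNoetherianRing A] [IsLocalRing A] (f : A) (hf : f ∈ IsLocalRing.maximalIdeal A)
    (h1 : (∃ n : ℕ, ∀ x : LocCoh.H (IsLocalRing.maximalIdeal A) 1 A, (f ^ n) • x = 0)) (h2 : (∃ n : ℕ, ∀ x : LocCoh.H (IsLocalRing.maximalIdeal A) 2 A, (f ^ n) • x = 0)) [HenselianRing A (Ideal.span {f})] :
    (FEt.restrict (pullback.fst (FEt.puncturedSpec A).ι (Spec.map (CommRingCat.ofHom (Ideal.Quotient.mk (Ideal.span {f})))))).Full ∧ (FEt.restrict (pullback.fst (FEt.puncturedSpec A).ι (Spec.map (CommRingCat.ofHom (Ideal.Quotient.mk (Ideal.span {f})))))).Faithful := by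
  obtain ⟨n, x, hx⟩ := Groth.Agent.Pur25.exists_generators A
  obtain ⟨a, ha⟩ := h1
  obtain ⟨b, hb⟩ := h2
  rw [← hx] at ha hb
  refine Groth.Agent.Pur25.fullFaithful_hypersurface (x := x) (N := a + b) (Groth.Agent.Pur25.mem_puncturedSpec_iff hx) f
    (Groth.Agent.Pur25.mem_radical_span hx hf) ?_ ?_
  · rw [pow_add, mul_comm]; exact (Groth.Agent.Pur25.kill0_of_H_one ha).mul (f ^ b)
  · rw [pow_add]; exact (Groth.Agent.Pur25.kill1_of_H_two hb).mul (f ^ a)

end Groth.Agent.S1135
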