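import Groth.Statements.S1256
import Groth.Agent.Lib.Dev4.CoverDevissage
import Groth.Agent.Lib.RG4.Generic
import Groth.Agent.Lib.Dev4.Refine

set_option autoImplicit false
universe u
open FlatMor TensorProduct

set_option backward.isDefEq.respectTransparency.types false

attribute [local instance] Algebra.TensorProduct.rightAlgebra

namespace Groth.Agent.S1256

/-- Ring form, X = Spec B and S = Spec A affine: let B be a finite type A-algebra, N a finite B-module
and p a prime of A. Then there is an étale A-algebra A' with a prime p' over p having the same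
residue field such that, for the base changes B_{A'}, N_{A'} (any models), there are finitely many
étale B_{A'}-algebras C_i with base changes N_i of N_{A'}, each N_i/C_i/A' admitting a complete
dévissage over p', such that every prime of B_{A'} over p' is the contraction of a prime of some
C_i. -/
theorem result {A B : Type u} [CommRing A] [CommRing B] [Algebra A B] [Algebra.FiniteType A B]
    (N : Type u) [AddCommGroup N] [Module B N] [Module.Finite B N] (p : Ideal A) [p.IsPrime] :
    ∃ (A' : Type u) (_ : CommRing A') (_ : Algebra A A') (p' : Ideal A') (_ : p'.IsPrime), FlatCA.IsEtaleNhd A A' p p' ∧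
      ∀ (BA NA : Type u) [CommRing BA] [Algebra B BA] [Algebra A' BA] [Algebra A BA] [IsScalarTower A B BA] [IsScalarTower A A' BA]
        [Algebra.IsPushout A B A' BA]
        [AddCommGroup NA] [Module BA NA] [Module B NA] [IsScalarTower B BA NA]
        (fA : N →ₗ[B] NA), IsBaseChange BA fA →
        ∃ (k : ℕ) (C : Fin k → Type u) (_ : ∀ i, CommRing (C i)) (_ : ∀ i, Algebra BA (C i)) (_ : ∀ i, Algebra A' (C i))
          (_ : ∀ i, IsScalarTower A' BA (C i))
          (Nc : Fin k → Type u) (_ : ∀ i, AddCommGroup (Nc i)) (_ : ∀ i, Module (C i) (Nc i)) (_ : ∀ i, Module BA (Nc i))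
          (_ : ∀ i, IsScalarTower BA (C i) (Nc i)) (g : ∀ i, NA →ₗ[BA] Nc i),
          (∀ i, Algebra.Etale BA (C i) ∧ IsBaseChange (C i) (g i) ∧ Nonempty (FlatCA.CompleteDevissage A' (C i) (Nc i) p')) ∧
          ∀ (Q : Ideal BA) [Q.IsPrime], Q.LiesOver p' → ∃ (i : Fin k) (Q' : Ideal (C i)), Q'.IsPrime ∧ Q'.comap (algebraMap BA (C i)) = Q := by
  classical
  have h0 : ∀ y : PrimeSpectrum (p.Fiber B), ∃ (Ri Si : Type u) (_ : CommRing Ri) (_ : CommRing Si) (_ : Algebra A Ri)
      (_ : Algebra B Si) (_ : Algebra Ri Si) (_ : Algebra A Si) (_ : IsScalarTower A Ri Si) (_ : IsScalarTower A B Si)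
      (_ : Algebra.Etale B Si)
      (pi : Ideal Ri) (qi : Ideal Si) (_ : pi.IsPrime) (_ : qi.IsPrime) (_ : qi.LiesOver pi)
      (W : Set (PrimeSpectrum (p.Fiber B))), FlatCA.IsEtaleNhd A Ri p pi ∧ IsOpen W ∧ y ∈ W ∧
      (Subsingleton (Si ⊗[B] N) ∨ FlatCA.HasCompleteDevissageAt Ri Si (Si ⊗[B] N) pi qi) ∧
      ∀ (R'' : Type u) [CommRing R''] [Algebra A R''] [Algebra Ri R''] [IsScalarTower A Ri R'']
        (p'' : Ideal R'') [p''.IsPrime] [p''.LiesOver pi] (_ : FlatCA.IsEtaleNhd A R'' p p''),
        ∀ y ∈ W, ∃ Q : Ideal (R'' ⊗[Ri] Si), Q.IsPrime ∧ Q.LiesOver p'' ∧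
          Q.comap ((Algebra.TensorProduct.includeRight : Si →ₐ[Ri] R'' ⊗[Ri] Si).toRingHom.comp (algebraMap B Si)) =
            y.asIdeal.comap (algebraMap B (p.Fiber B)) := fun y => by
    let q := y.asIdeal.comap (algebraMap B (p.Fiber B))
    haveI hqp : q.LiesOver p := by
      obtain ⟨-, hr⟩ := Dev4.isEmbedding_fiber (B := B) p
      have : PrimeSpectrum.comap (algebraMap B (p.Fiber B)) y ∈ Set.range (PrimeSpectrum.comap (algebraMap B (p.Fiber B))) :=
        ⟨_, rfl⟩
      rw [hr] at this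
      exact ⟨this.symm⟩
    obtain ⟨Ri, Si, _, _, _, _, _, _, _, _, pi, qi, _, _, hR, hS, hqp', hP⟩ :=
      Dev4.exists_devissage_piece (A := A) N p q
    haveI := hS.1
    haveI := hqp'
    obtain ⟨W, hW, hmem, hlift⟩ := Dev4.exists_piece_open (S := B) (S' := Si) p pi hR qi
    obtain ⟨-, hqi, -⟩ := hS
    exact ⟨Ri, Si, inferInstance, inferInstance, inferInstance, inferInstance, inferInstance, inferInstance,
      inferInstance, inferInstance, inferInstance, pi, qi, inferInstance, inferInstance, hqp', W, hR, hW,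
      hmem y hqi.over, hP, hlift⟩
  choose Ry Sy i1 i2 i3 i4 i5 i6 i7 i8 i9 py qy i10 i11 i12 W hR hW hmem hdev hlift using h0
  obtain ⟨t, ht⟩ := (isCompact_univ (X := PrimeSpectrum (p.Fiber B))).elim_finite_subcover W hW
    fun y _ => Set.mem_iUnion.2 ⟨y, hmem y⟩
  let e : Fin t.card ≃ {y // y ∈ t} := t.equivFin.symm
  obtain ⟨R'', _, _, p'', _, φ, hR'', hφ⟩ :=
    Dev4.exists_refinement p t.card (fun i => Ry (e i).1) (fun i => py (e i).1) fun i => hR (e i).1
  haveI := hR''.1
  have hκ'' := hR''.2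
  obtain ⟨hl'', hκ''⟩ := hκ''
  haveI := hl''
  refine ⟨R'', inferInstance, inferInstance, p'', inferInstance, hR'', ?_⟩
  intro BA NA _ _ _ _ _ _ _ _ _ _ _ fA hfA
  haveI hpush : Algebra.IsPushout A R'' B BA := Algebra.IsPushout.symm inferInstance
  have hT : ∀ i : Fin t.card, ∃ (T : Type u) (_ : CommRing T) (_ : Algebra R'' T) (_ : Algebra BA T) (_ : Algebra B T)
      (_ : IsScalarTower B BA T) (_ : IsScalarTower R'' BA T),
      Algebra.Etale BA T ∧ Nonempty (FlatCA.CompleteDevissage R'' T (T ⊗[B] N) p'') ∧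
      ∀ y ∈ W (e i).1, ∃ Q : Ideal T, Q.IsPrime ∧ Q.LiesOver p'' ∧
        Q.comap (algebraMap B T) = y.asIdeal.comap (algebraMap B (p.Fiber B)) := fun i => by
    letI : Algebra (Ry (e i).1) R'' := (φ i).toRingHom.toAlgebra
    haveI : IsScalarTower A (Ry (e i).1) R'' := IsScalarTower.of_algebraMap_eq fun r => ((φ i).commutes r).symm
    haveI : p''.LiesOver (py (e i).1) := ⟨(hφ i).symm⟩
    obtain ⟨heti, hli, hκi⟩ := id (hR (e i).1)
    haveI := heti
    haveI := hli
    obtain ⟨T, _, _, _, _, _, _, _, _, _, _, _, _, het, hQ⟩ :=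
      Dev4.exists_bc_piece (R := A) (S := B) (R' := Ry (e i).1) (S' := Sy (e i).1) R''
    haveI := het
    let ψ : BA →ₐ[A] T := Algebra.pushoutDesc BA (IsScalarTower.toAlgHom A R'' T) (IsScalarTower.toAlgHom A B T)
      fun _ _ => Commute.all _ _
    letI : Algebra BA T := ψ.toRingHom.toAlgebra
    haveI : IsScalarTower B BA T := IsScalarTower.of_algebraMap_eq fun b =>
      (Algebra.pushoutDesc_right BA (IsScalarTower.toAlgHom A R'' T) (IsScalarTower.toAlgHom A B T) (fun _ _ => Commute.all _ _) b).symm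
    haveI : IsScalarTower R'' BA T := IsScalarTower.of_algebraMap_eq fun r =>
      (Algebra.pushoutDesc_left BA (IsScalarTower.toAlgHom A R'' T) (IsScalarTower.toAlgHom A B T) (fun _ _ => Commute.all _ _) r).symm
    haveI : Algebra.Etale B (B ⊗[A] R'') := inferInstance
    haveI : Algebra.Etale B BA := Algebra.Etale.of_equiv (Algebra.IsPushout.equiv A B R'' BA)
    haveI : Algebra.Etale BA T := Algebra.Etale.of_restrictScalars B BA T
    exact ⟨T, inferInstance, inferInstance, inferInstance, inferInstance, inferInstance, inferInstance, inferInstance,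
      Dev4.exists_devissage_moved (A := A) (R' := Ry (e i).1) (S' := Sy (e i).1) N (py (e i).1) (qy (e i).1) p''
        (Dev4.bijective_residue_cancel p (py (e i).1) p'' hκ'') (hdev (e i).1),
      fun y hy => hQ p'' _ (hlift (e i).1 R'' p'' hR'' y hy)⟩
  choose T j1 j2 j3 j4 j5 j6 het hD hQ using hT
  refine ⟨t.card, T, inferInstance, inferInstance, inferInstance, inferInstance, fun i => T i ⊗[B] N,
    inferInstance, inferInstance, inferInstance, inferInstance,
    fun i => hfA.lift (TensorProduct.mk B (T i) N 1), fun i => ⟨het i, ?_, hD i⟩, fun Q _ hQp => ?_⟩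
  · refine IsBaseChange.of_comp hfA ?_
    rw [hfA.lift_comp]
    exact TensorProduct.isBaseChange B N (T i)
  · haveI := hQp
    let q := Q.comap (algebraMap B BA)
    haveI : q.LiesOver p := ⟨by
      show p = (Q.comap (algebraMap B BA)).comap (algebraMap A B)
      rw [Ideal.comap_comap, ← IsScalarTower.algebraMap_eq, IsScalarTower.algebraMap_eq A R'' BA, ← Ideal.comap_comap,
        show Q.comap (algebraMap R'' BA) = p'' from hQp.over.symm]
      exact hl''.over⟩
    obtain ⟨y, hy⟩ := RG4.exists_fiber_point p q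
    obtain ⟨z, hz, hyz⟩ := Set.mem_iUnion₂.1 (ht (Set.mem_univ y))
    obtain ⟨i, rfl⟩ : ∃ i, (e i).1 = z := ⟨e.symm ⟨z, hz⟩, by rw [Equiv.apply_symm_apply]⟩
    obtain ⟨x', hx', hxp, hxq⟩ := hQ i y hyz
    refine ⟨i, x', hx', ?_⟩
    haveI := hx'
    haveI := hxp
    haveI : (x'.comap (algebraMap BA (T i))).LiesOver p'' := ⟨by
      show p'' = (x'.comap (algebraMap BA (T i))).comap (algebraMap R'' BA)
      rw [Ideal.comap_comap, ← IsScalarTower.algebraMap_eq]
      exact hxp.over⟩
    refine Dev4.prime_ext (R := A) (R' := R'') (B := B) hκ'' (x'.comap (algebraMap BA (T i))) Q ?_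
    rw [Ideal.comap_comap, ← IsScalarTower.algebraMap_eq, hxq]
    exact hy

end Groth.Agent.S1256
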