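import Groth.Statements.S12243
import Groth.Agent.Lib.Dev4.Bundle

set_option autoImplicit false
universe u
open FlatMor

set_option backward.isDefEq.respectTransparency.types false

namespace Groth.Agent.S12243

open TensorProduct in
/-- All schemes are affine; the base-changed complete dévissage is asserted to exist with its pieces
pinned as base changes. Let R → S be of finite type, N a finite S-module, p a prime of R and 𝒟 a
complete dévissage of N/S/R over p in the prelude's algebraic form (rings A_i, smooth R-algebras B_i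
with pB_i prime and geometrically irreducible fibres, finite A_i-modules M_i with N ≅ M_0, maps α_i
from finite free B_i-modules, bijective on the fibre at pB_i, whose cokernels are the next modules,
the last one surjective; steps indexed by i below the length). Let R → R' be a ring map, p' a prime
of R' over p, S' the base change of S and N' = N ⊗_S S'. Then N'/S'/R' has a complete dévissage 𝒟'
over p' of the same length and the same ranks whose pieces are base changes of those of 𝒟: for the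
steps i below the length there are algebra structures making A'_i and B'_i the base changes of A_i
and B_i along R → R', compatibly with B_i → A_i, with B_i → A_{i+1}, with S → A_0 and with S' →
A'_0, and A_i-linear base-change maps M_i → M'_i (M'_i ≅ M_i ⊗_{A_i} A'_i) carrying N ≅ M_0 to N' ≅
M'_0 and the image of α_i onto a generating set of the image of α'_i. (The published statement
base-changes all the data functorially; here the identifications of cokernels inside 𝒟' are not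
required to be the base-changed ones.) -/
theorem result
    (R S : Type u) [CommRing R] [CommRing S] [Algebra R S] [Algebra.FiniteType R S]
    (N : Type u) [AddCommGroup N] [Module S N] [Module.Finite S N]
    (p : Ideal R) [p.IsPrime] (𝒟 : FlatCA.CompleteDevissage R S N p)
    (R' : Type u) [CommRing R'] [Algebra R R'] (p' : Ideal R') [p'.IsPrime] [p'.LiesOver p]
    (S' : Type u) [CommRing S'] [Algebra R' S'] [Algebra R S'] [Algebra S S'] [IsScalarTower R R' S']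
    [IsScalarTower R S S'] [Algebra.IsPushout R R' S S']
    (N' : Type u) [AddCommGroup N'] [Module S' N'] [Module S N'] [IsScalarTower S S' N']
    (f : N →ₗ[S] N') (hf : IsBaseChange S' f) :
    ∃ (𝒟' : FlatCA.CompleteDevissage R' S' N' p')
      (aA : ∀ i : Fin 𝒟.n, Algebra (𝒟.A i) (𝒟'.A i)) (rA : ∀ i : Fin 𝒟.n, Algebra R (𝒟'.A i))
      (_t1 : ∀ i : Fin 𝒟.n, IsScalarTower R (R') (𝒟'.A i)) (_t2 : ∀ i : Fin 𝒟.n, IsScalarTower R (𝒟.A i) (𝒟'.A i))
      (aB : ∀ i : Fin 𝒟.n, Algebra (𝒟.B i) (𝒟'.B i)) (rB : ∀ i : Fin 𝒟.n, Algebra R (𝒟'.B i))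
      (_t3 : ∀ i : Fin 𝒟.n, IsScalarTower R (R') (𝒟'.B i)) (_t4 : ∀ i : Fin 𝒟.n, IsScalarTower R (𝒟.B i) (𝒟'.B i))
      (bA : ∀ i : Fin 𝒟.n, Algebra (𝒟.B i) (𝒟'.A i)) (_t5 : ∀ i : Fin 𝒟.n, IsScalarTower (𝒟.B i) (𝒟.A i) (𝒟'.A i))
      (_t6 : ∀ i : Fin 𝒟.n, IsScalarTower (𝒟.B i) (𝒟'.B i) (𝒟'.A i))
      (bA' : ∀ i : Fin 𝒟.n, Algebra (𝒟.B i) (𝒟'.A (i + 1)))
      (_t7 : ∀ i : Fin 𝒟.n, IsScalarTower (𝒟.B i) (𝒟'.B i) (𝒟'.A (i + 1)))
      (sA : Algebra S (𝒟'.A 0)) (_t8 : IsScalarTower S (S') (𝒟'.A 0))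
      (mA : ∀ i : Fin 𝒟.n, Module (𝒟.A i) (𝒟'.M i)) (_t9 : ∀ i : Fin 𝒟.n, IsScalarTower (𝒟.A i) (𝒟'.A i) (𝒟'.M i))
      (gM : ∀ i : Fin 𝒟.n, 𝒟.M i →ₗ[𝒟.A i] 𝒟'.M i),
      𝒟'.n = 𝒟.n ∧ 𝒟'.r = 𝒟.r ∧
      (letI := aA ⟨0, 𝒟.pos⟩; IsScalarTower S (𝒟.A 0) (𝒟'.A 0)) ∧
      (∀ x : N, 𝒟'.isoN (f x) = gM ⟨0, 𝒟.pos⟩ (𝒟.isoN x)) ∧
      (∀ (i : Fin 𝒟.n) (h : (i : ℕ) + 1 < 𝒟.n),
        letI := aA ⟨i + 1, h⟩; IsScalarTower (𝒟.B i) (𝒟.A (i + 1)) (𝒟'.A (i + 1))) ∧
      ∀ i : Fin 𝒟.n,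
        Algebra.IsPushout R R' (𝒟.A i) (𝒟'.A i) ∧ Algebra.IsPushout R R' (𝒟.B i) (𝒟'.B i) ∧
        IsBaseChange (𝒟'.A i) (gM i) ∧
        LinearMap.range (𝒟'.α i) =
          Submodule.span (𝒟'.B i) ((gM i) '' (LinearMap.range (𝒟.α i) : Set (𝒟.M i))) := by
  obtain ⟨𝒟', ⟨E⟩⟩ := Dev4.exists_bcData (𝒟.n - 1) 𝒟 (Nat.sub_add_cancel 𝒟.pos).symm R' p' S' f hf
  refine ⟨𝒟', E.aA, E.rA, E.t1, E.t2, E.aB, E.rB, E.t3, E.t4,
    fun i => letI := E.aA i; Algebra.compHom _ (algebraMap (𝒟.B i) (𝒟.A i)),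
    fun i => letI := E.aA i; letI : Algebra (𝒟.B i) (𝒟'.A i) := Algebra.compHom _ (algebraMap (𝒟.B i) (𝒟.A i));
      IsScalarTower.of_algebraMap_eq fun _ => rfl,
    fun i => letI := E.aA i; letI := E.aB i;
      letI : Algebra (𝒟.B i) (𝒟'.A i) := Algebra.compHom _ (algebraMap (𝒟.B i) (𝒟.A i));
      IsScalarTower.of_algebraMap_eq fun b => (E.commBA i b).symm,
    fun i => letI := E.aB i; Algebra.compHom _ (algebraMap (𝒟.B i) (𝒟'.B i)),
    fun i => letI := E.aB i; letI : Algebra (𝒟.B i) (𝒟'.A (i + 1)) := Algebra.compHom _ (algebraMap (𝒟.B i) (𝒟'.B i));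
      IsScalarTower.of_algebraMap_eq fun _ => rfl,
    Algebra.compHom _ (algebraMap S S'),
    letI : Algebra S (𝒟'.A 0) := Algebra.compHom _ (algebraMap S S'); IsScalarTower.of_algebraMap_eq fun _ => rfl,
    E.mA, E.t9, E.gM, E.n_eq, E.r_eq, ?_, E.isoN_eq, ?_,
    fun i => ⟨E.pushA i, E.pushB i, E.bc i, E.range i⟩⟩
  · letI : Algebra S (𝒟'.A 0) := Algebra.compHom _ (algebraMap S S')
    letI := E.aA ⟨0, 𝒟.pos⟩
    exact IsScalarTower.of_algebraMap_eq fun s => E.commS s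
  · intro i h
    letI := E.aB i
    letI := E.aA ⟨i + 1, h⟩
    letI : Algebra (𝒟.B i) (𝒟'.A (i + 1)) := Algebra.compHom _ (algebraMap (𝒟.B i) (𝒟'.B i))
    exact IsScalarTower.of_algebraMap_eq fun b => E.commBA' i h b

end Groth.Agent.S12243
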