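import Groth.Statements.S0287
import Groth.Agent.Lib.PurityExt25.CodimOne
-- import your own Groth.Agent.* helpers here

set_option autoImplicit false
universe u
open Pi1

namespace Groth.Agent.S0287

open AlgebraicGeometry CategoryTheory CategoryTheory.Limits in
/-- Let X be locally Noetherian, U a dense open, Y a finite etale cover of U such that the local rings
of X at points outside U are regular and, at each such point of dimension one, the restriction of Y
to the punctured local scheme extends over the local scheme (Y is unramified over X in codimension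
1). Then Y extends to a finite etale cover of X. -/
theorem result {X : Scheme.{u}} [IsLocallyNoetherian X] (U : X.Opens) (hU : Dense (U : Set X))
    (Y : FEt.Cat (U : Scheme.{u}))
    (hreg : ∀ x : X, x ∉ U → IsRegularLocalRing (X.presheaf.stalk x))
    (hunr : ∀ ξ : X, ξ ∉ U → ringKrullDim (X.presheaf.stalk ξ) = 1 →
      ∃ Yξ : FEt.Cat (Spec (X.presheaf.stalk ξ)),
        Nonempty ((FEt.restrict (pullback.snd U.ι (X.fromSpecStalk ξ))).obj Yξ ≅
          (FEt.restrict (pullback.fst U.ι (X.fromSpecStalk ξ))).obj Y)) :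
    ∃ Y' : FEt.Cat X, Nonempty ((FEt.restrict U.ι).obj Y' ≅ Y) := by
  open Groth.Agent in
  refine RelPure25.exists_extension_of_basis U (fun V => IsAffineOpen V) X.isBasis_affineOpens
    (fun V => ?_) Y fun V hV => ?_
  · refine PurityExt25.fullFaithful_of_regular (X := (V : Scheme.{u})) (V.ι ⁻¹ᵁ U) (hU.preimage V.ι.isOpenEmbedding.isOpenMap) fun v hv => ?_
    haveI := hreg (V.ι v) hv
    exact IsRegularLocalRing.of_ringEquiv (asIso (V.ι.stalkMap v)).commRingCatIsoToRingEquiv
  · haveI : IsAffine (V : Scheme.{u}) := hV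
    haveI : CompactSpace (V : Scheme.{u}) := inferInstance
    haveI : AlgebraicGeometry.IsNoetherian (V : Scheme.{u}) := {}
    refine PurityExt25.exists_extension_of_codim_one (X := (V : Scheme.{u})) (V.ι ⁻¹ᵁ U) (hU.preimage V.ι.isOpenEmbedding.isOpenMap) _
      (fun v hv => ?_) fun v hv hd => ?_
    · haveI := hreg (V.ι v) hv
      exact IsRegularLocalRing.of_ringEquiv (asIso (V.ι.stalkMap v)).commRingCatIsoToRingEquiv
    · obtain ⟨Yξ, ⟨eξ⟩⟩ := hunr (V.ι v) hv (by
        rw [ringKrullDim_eq_of_ringEquiv (asIso (V.ι.stalkMap v)).commRingCatIsoToRingEquiv, hd])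
      let σ := Spec.map (V.ι.stalkMap v)
      refine ⟨(FEt.restrict σ).obj Yξ, fun ρ hρ => ?_⟩
      let k := V.ι ∣_ U
      let P₀ := FEt.puncturedSpec ((V : Scheme.{u}).presheaf.stalk v)
      have hw : (ρ ≫ k) ≫ U.ι = (P₀.ι ≫ σ) ≫ X.fromSpecStalk (V.ι v) := by
        rw [Category.assoc, Category.assoc, morphismRestrict_ι, ← Category.assoc, hρ, Category.assoc,
          Scheme.SpecMap_stalkMap_fromSpecStalk]
      let q := pullback.lift (ρ ≫ k) (P₀.ι ≫ σ) hw
      have h1 : q ≫ pullback.snd U.ι (X.fromSpecStalk (V.ι v)) = P₀.ι ≫ σ := pullback.lift_snd _ _ _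
      have h2 : q ≫ pullback.fst U.ι (X.fromSpecStalk (V.ι v)) = ρ ≫ k := pullback.lift_fst _ _ _
      exact ⟨(Pur25.restrictComp P₀.ι σ).symm.app Yξ ≪≫
        (MorphismProperty.Over.pullbackCongr h1.symm).app Yξ ≪≫
        (Pur25.restrictComp q _).app Yξ ≪≫ (FEt.restrict q).mapIso eξ ≪≫
        (Pur25.restrictComp q _).symm.app Y ≪≫ (MorphismProperty.Over.pullbackCongr h2).app Y ≪≫
        (Pur25.restrictComp ρ k).app Y⟩

end Groth.Agent.S0287
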