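import Groth.Statements.S2351
import Groth.Agent.Lib.CurveNF.Basic

set_option autoImplicit false
universe u
open CategoryTheory CategoryTheory.Limits AlgebraicGeometry
open EGA2

namespace Groth.Agent.S2351

/-- Let X be an integral scheme and X' → X its normalization (integral closure of X in its function
field). Then X' is integral with integrally closed local rings, the morphism X' → X is surjective,
maps the generic point to the generic point and induces a bijection between the residue fields of
the generic points. (The quasi-compactness/quasi-separatedness binders on Spec K(X) → X always hold;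
they are only needed to form Mathlib's relative normalization.) -/
theorem result (X : Scheme.{u}) [IsIntegral X]
    [QuasiCompact (X.fromSpecStalk (genericPoint X))] [QuasiSeparated (X.fromSpecStalk (genericPoint X))] :
    ∃ (_ : IsIntegral (Curv2.normalization X)), Pi1.IsNormalScheme (Curv2.normalization X) ∧ Surjective (Curv2.normalizationι X) ∧
      ∃ hgen : (Curv2.normalizationι X).base (genericPoint (Curv2.normalization X)) = genericPoint X,
        Function.Bijective ((Curv2.normalizationι X).residueFieldMap (genericPoint (Curv2.normalization X))).hom := by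
  have hg : X.fromSpecStalk (genericPoint X) =
      Spec.map (CommRingCat.ofHom (RingHom.id X.functionField)) ≫ X.fromSpecStalk (genericPoint X) := by
    erw [Spec.map_id, Category.id_comp]
  obtain ⟨hI, hN⟩ := Groth.Agent.CurveNF.isIntegral_and_normal (g := X.fromSpecStalk (genericPoint X)) hg
  haveI : IsIntegral (Curv2.normalization X) := hI
  refine ⟨hI, hN, Groth.Agent.CurveNF.surjective_fromNormalization hg,
    Groth.Agent.CurveNF.fromNormalization_genericPoint hg, ⟨RingHom.injective _, fun z => ?_⟩⟩
  let g := X.fromSpecStalk (genericPoint X)
  obtain ⟨w, rfl⟩ := Scheme.residue_surjective _ _ z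
  suffices h : ∃ v, (Curv2.normalizationι X).stalkMap (genericPoint (Curv2.normalization X)) v = w by
    obtain ⟨v, rfl⟩ := h
    exact ⟨X.residue _ v, ConcreteCategory.congr_hom (Scheme.residue_residueFieldMap (Curv2.normalizationι X) _) v⟩
  have key : ∀ (p : g.normalization) (hp : g.toNormalization (IsLocalRing.closedPoint _) = p)
      (w : g.normalization.presheaf.stalk p), ∃ v, g.fromNormalization.stalkMap p v = w := by
    rintro _ rfl w
    obtain ⟨U, hU, hx, -⟩ := exists_isAffineOpen_mem_and_subset (U := (⊤ : X.Opens)) (x := genericPoint X) trivial
    haveI : Nonempty U := ⟨⟨_, hx⟩⟩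
    haveI := functionField_isFractionRing_of_isAffineOpen X U hU
    obtain ⟨⟨a, s⟩, hc⟩ := IsLocalization.surj (nonZeroDivisors Γ(X, U))
      ((Scheme.stalkClosedPointTo g.toNormalization).hom w : X.functionField)
    have hm := Groth.Agent.CurveNF.toNormalization_mem hg (V := U) ⟨_, hx⟩
    have hfield : IsField (X.presheaf.stalk (g.fromNormalization (g.toNormalization (IsLocalRing.closedPoint _)))) := by
      rw [Groth.Agent.CurveNF.toNormalization_closedPoint, Groth.Agent.CurveNF.fromNormalization_genericPoint hg]
      exact Field.toIsField X.functionField
    letI := hfield.toField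
    have e : ∀ c : Γ(X, U), (Scheme.stalkClosedPointTo g.toNormalization).hom
        (g.fromNormalization.stalkMap _ (X.presheaf.germ U _ hm c)) = X.presheaf.germ U (genericPoint X) hx c := by
      intro c
      rw [Scheme.Hom.germ_stalkMap_apply]
      exact Groth.Agent.CurveNF.toK_app hg ⟨_, hx⟩ c
    have hs : (algebraMap Γ(X, U) X.functionField (s : Γ(X, U))) ≠ 0 :=
      (IsLocalization.map_units X.functionField s).ne_zero
    refine ⟨X.presheaf.germ U _ hm a / X.presheaf.germ U _ hm (s : Γ(X, U)),
      Groth.Agent.CurveNF.stalkClosedPointTo_injective (g := g) ?_⟩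
    show ((Scheme.stalkClosedPointTo g.toNormalization).hom.comp (g.fromNormalization.stalkMap _).hom) _ = _
    rw [map_div₀]
    show (Scheme.stalkClosedPointTo g.toNormalization).hom _ / (Scheme.stalkClosedPointTo g.toNormalization).hom _ = _
    erw [e, e]
    exact (div_eq_iff hs).2 hc.symm
  exact key _ (Groth.Agent.CurveNF.toNormalization_closedPoint (g := g)) w

end Groth.Agent.S2351
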