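import Groth.Statements.S9688
import Groth.Agent.Lib.NormFin18.Generic

set_option autoImplicit false
universe u
open CategoryTheory CategoryTheory.Limits AlgebraicGeometry
open Mor

namespace Groth.Agent.S9688

/-- Let X be an integral Japanese scheme (every nonempty affine open has Japanese, i.e. N-2, coordinate
ring). Then the normalization morphism X^ν ⟶ X is finite. (The quasi-compactness and
quasi-separatedness binders on Spec K(X) ⟶ X always hold; they are only needed to form the
normalization.) -/
theorem result (X : Scheme.{u}) [IsIntegral X] [QuasiCompact (X.fromSpecStalk (genericPoint ↥X))] [QuasiSeparated (X.fromSpecStalk (genericPoint ↥X))]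
    (hJ : ∀ (U : X.Opens), IsAffineOpen U → ∀ (hne : Nonempty ↥U),
      @CAlg.IsN2 ↑Γ(X, U) _ (@IsIntegral.component_integral X _ U hne)) :
    IsFinite (Curv2.normalizationι X) := by
  have hg : X.fromSpecStalk (genericPoint X) =
      Spec.map (CommRingCat.ofHom (RingHom.id X.functionField)) ≫ X.fromSpecStalk (genericPoint X) := by
    rw [CommRingCat.ofHom_id, Spec.map_id]; exact (Category.id_comp _).symm
  let g : Spec (CommRingCat.of X.functionField) ⟶ X := X.fromSpecStalk (genericPoint X)
  haveI : QuasiCompact g := ‹QuasiCompact (X.fromSpecStalk (genericPoint X))›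
  haveI : QuasiSeparated g := ‹QuasiSeparated (X.fromSpecStalk (genericPoint X))›
  refine Groth.Agent.NormFin18.isFinite_fromNormalization_of_finite (g := g) hg fun V hV hA => ?_
  haveI hne : Nonempty V := ⟨⟨_, Groth.Agent.CurveNF.generic_mem hV⟩⟩
  haveI := functionField_isFractionRing_of_isAffineOpen X V hA
  let e := FractionRing.algEquiv Γ(X, V) X.functionField
  letI : Algebra (FractionRing Γ(X, V)) X.functionField := e.toAlgHom.toRingHom.toAlgebra
  haveI : IsScalarTower Γ(X, V) (FractionRing Γ(X, V)) X.functionField :=
    IsScalarTower.of_algebraMap_eq fun a => (e.commutes a).symm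
  haveI : FiniteDimensional (FractionRing Γ(X, V)) X.functionField :=
    Module.Finite.of_surjective (Algebra.linearMap (FractionRing Γ(X, V)) X.functionField) e.surjective
  exact hJ V hA hne X.functionField inferInstance

end Groth.Agent.S9688
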