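import Groth.Statements.S9834
import Groth.Agent.Lib.PropsNagata1.Basic

set_option autoImplicit false
universe u
open CategoryTheory AlgebraicGeometry TopologicalSpace
open Props

namespace Groth.Agent.S9834

/-- If a scheme has an affine open covering by spectra of universally Japanese rings, then the
coordinate ring of every affine open is universally Japanese. -/
theorem result (X : Scheme.{u}) {ι : Type u} (U : ι → X.Opens)
    (hU : iSup U = ⊤) (haff : ∀ i, IsAffineOpen (U i)) (hJ : ∀ i, CAlg.IsUniversallyJapanese Γ(X, U i))
    (V : X.Opens) (hV : IsAffineOpen V) : CAlg.IsUniversallyJapanese Γ(X, V) := by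
  let U' : ι → X.affineOpens := fun i => ⟨U i, haff i⟩
  refine of_affine_open_cover (P := fun W : X.affineOpens => CAlg.IsUniversallyJapanese Γ(X, W)) U' hU ⟨V, hV⟩ ?_ ?_ hJ
  · intro W f h
    haveI := W.2.isLocalization_basicOpen f
    haveI : Algebra.FiniteType Γ(X, W) Γ(X, X.basicOpen f) :=
      IsLocalization.finiteType_of_monoid_fg (Submonoid.powers f) _
    exact Groth.Agent.PropsNagata1.isUniversallyJapanese_of_algebra (R := Γ(X, W)) (S := Γ(X, X.basicOpen f)) h
  · intro W s hs h
    refine Groth.Agent.PropsNagata1.isUniversallyJapanese_of_span s hs fun f hf => ?_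
    haveI := W.2.isLocalization_basicOpen f
    let e := IsLocalization.algEquiv (Submonoid.powers f) Γ(X, X.basicOpen f) (Localization.Away f)
    letI : Algebra Γ(X, X.basicOpen f) (Localization.Away f) := e.toRingEquiv.toRingHom.toAlgebra
    haveI : Algebra.FiniteType Γ(X, X.basicOpen f) (Localization.Away f) :=
      RingHom.FiniteType.of_surjective e.toRingEquiv.toRingHom e.surjective
    exact Groth.Agent.PropsNagata1.isUniversallyJapanese_of_algebra (R := Γ(X, X.basicOpen f)) (S := Localization.Away f) (h ⟨f, hf⟩)

end Groth.Agent.S9834
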