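import Groth.Statements.S6531
import Mathlib
import Groth.Agent.Lib.CechRes8.Contract
import Groth.Agent.Lib.ModM1.Exact

set_option autoImplicit false
universe u
open CategoryTheory
open CechOX

namespace Groth.Agent.S6531

open AlgebraicGeometry CategoryTheory.Limits Opposite

set_option backward.isDefEq.respectTransparency false
set_option maxHeartbeats 800000

noncomputable section
variable {X : Scheme.{u}} {ι : Type u} (𝒰 : ι → X.Opens) (F : X.Modules)

/-- sections over an open. -/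
abbrev ev (V : X.Opens) : X.Modules ⥤ AddCommGrpCat.{u} :=
  Scheme.Modules.toPresheaf X ⋙ (evaluation _ _).obj (op V)

instance (V : X.Opens) : (ev V).Additive := ⟨fun {_ _ _ _} => rfl⟩

instance (V : X.Opens) (β : Type u) : PreservesLimitsOfShape (Discrete β) (ev V) := by
  haveI : PreservesLimitsOfShape (Discrete β) (Scheme.Modules.toPresheaf X) :=
    inferInstanceAs (PreservesLimitsOfShape (Discrete β) (SheafOfModules.forget X.ringCatSheaf ⋙ PresheafOfModules.toPresheaf _))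
  haveI : PreservesLimitsOfShape (Discrete β) ((evaluation (X.Opens)ᵒᵖ AddCommGrpCat.{u}).obj (op V)) :=
    evaluation_preservesLimitsOfShape _
  exact Limits.comp_preservesLimitsOfShape _ _

abbrev PF : (X.Opens)ᵒᵖ ⥤ X.Modules := pushRestrFam.flip.obj F

theorem bij_presheaf {A B : X.Opens} (h : B ≤ A) (h' : A ≤ B) :
    Function.Bijective (F.presheaf.map (homOfLE h).op) := by
  obtain rfl := le_antisymm h h'
  rw [show (homOfLE h).op = 𝟙 (op B) from rfl, F.presheaf.map_id]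
  exact Function.bijective_id

theorem inter_eq (W V : X.Opens) : W.ι ''ᵁ (W.ι ⁻¹ᵁ V) = W ⊓ V := by
  rw [Scheme.Hom.image_preimage_eq_opensRange_inf, Scheme.Opens.opensRange_ι]

theorem ev_bij {V W W' : X.Opens} (f : W' ⟶ W) (h : W ⊓ V ≤ W') :
    Function.Bijective ((ev V).map ((PF F).map f.op)) := by
  show Function.Bijective (F.presheaf.map (homOfLE (image_preimage_mono (leOfHom f) V)).op)
  exact bij_presheaf F _ (by rw [inter_eq, inter_eq]; exact le_inf h inf_le_right)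

theorem hinv (c : ι) (V : X.Opens) (hV : V ≤ 𝒰 c) {n : ℕ} (J : Fin (n + 1) → ι) :
    Function.Bijective (CechRes8.res (ev V) 𝒰 (PF F) (CechRes8.proj 𝒰 c J)) :=
  ev_bij F _ (le_of_eq_of_le rfl (leOfHom (Pi.lift (fun k => Fin.cases (homOfLE (inf_le_right.trans hV))
    (fun k => homOfLE inf_le_left ≫ Pi.π (𝒰 ∘ J) k) k))))

/-- unit into the restriction to an open. -/
def unitW (W : X.Opens) : F ⟶ (PF F).obj (op W) := (Scheme.Modules.restrictAdjunction W.ι).unit.app F

theorem unitW_app (W V : X.Opens) :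
    (ev V).map (unitW F W) = F.presheaf.map (homOfLE (W.ι.image_preimage_le V)).op := rfl

theorem unitW_res {W W' : X.Opens} (f : W' ⟶ W) : unitW F W ≫ (PF F).map f.op = unitW F W' := by
  apply Scheme.Modules.hom_ext
  intro V
  rw [Scheme.Modules.Hom.comp_app]
  exact (F.presheaf.map_comp (homOfLE (W.ι.image_preimage_le V)).op
    (homOfLE (image_preimage_mono (leOfHom f) V)).op).symm

theorem unitW_bij {W V : X.Opens} (hV : V ≤ W) : Function.Bijective ((ev V).map (unitW F W)) := by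
  rw [unitW_app]
  exact bij_presheaf F _ (by rw [inter_eq]; exact le_inf hV le_rfl)

abbrev aug (J : Fin 1 → ι) : F ⟶ CechRes8.fam 𝒰 (PF F) 0 J := unitW F (CechRes8.tm 𝒰 J)

theorem aug_res {K : Fin 2 → ι} {J : Fin 1 → ι} (f : CechRes8.tm 𝒰 K ⟶ CechRes8.tm 𝒰 J) :
    aug 𝒰 F J ≫ (PF F).map f.op = unitW F (CechRes8.tm 𝒰 K) := unitW_res F f

theorem aug_bij (c : ι) (V : X.Opens) (hV : V ≤ 𝒰 c) :
    Function.Bijective ((ev V).map (aug 𝒰 F fun _ => c)) :=
  unitW_bij F (leOfHom (Pi.lift fun _ => homOfLE hV))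

theorem comp_aug (V : X.Opens) (J : Fin 1 → ι) (y : (ev V).obj F) :
    CechRes8.comp (ev V) 𝒰 (PF F) J ((ev V).map (cechShAug 𝒰 F) y) = (ev V).map (aug 𝒰 F J) y := by
  have e : cechShAug 𝒰 F ≫ CechRes8.cp 𝒰 (PF F) J = aug 𝒰 F J := Pi.lift_π _ _
  have := ConcreteCategory.congr_hom (congrArg (ev V).map e) y
  rw [Functor.map_comp, ConcreteCategory.comp_apply] at this
  exact this

theorem aug_d : cechShAug 𝒰 F ≫ ((cechSh 𝒰).obj F).d 0 1 = 0 := by
  apply Scheme.Modules.hom_ext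
  intro V
  refine ConcreteCategory.hom_ext _ _ fun y => ?_
  refine CechRes8.comp_ext (ev V) 𝒰 (PF F) fun K => ?_
  show CechRes8.comp (ev V) 𝒰 (PF F) K ((ev V).map ((CechRes8.cx 𝒰 (PF F)).d 0 1) ((ev V).map (cechShAug 𝒰 F) y)) =
    CechRes8.comp (ev V) 𝒰 (PF F) K 0
  rw [CechRes8.comp_d, Fin.sum_univ_two]
  simp only [comp_aug, Fin.val_zero, Fin.val_one, pow_zero, pow_one, one_smul, neg_smul]
  refine Eq.trans ?_ (map_zero ((ev V).map (CechRes8.cp 𝒰 (PF F) K)).hom).symm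
  rw [← sub_eq_add_neg, sub_eq_zero]
  have := ConcreteCategory.congr_hom (congrArg (ev V).map
    ((aug_res 𝒰 F (CechRes8.face 𝒰 K 0)).trans (aug_res 𝒰 F (CechRes8.face 𝒰 K 1)).symm)) y
  simpa only [Functor.map_comp, ConcreteCategory.comp_apply] using this

theorem exists_small (h𝒰 : ⨆ i, 𝒰 i = ⊤) (U : X.Opens) (x : X) (hx : x ∈ U) :
    ∃ (c : ι) (V : X.Opens), V ≤ U ∧ V ≤ 𝒰 c ∧ x ∈ V := by
  obtain ⟨c, hc⟩ := TopologicalSpace.Opens.mem_iSup.1 (show x ∈ ⨆ i, 𝒰 i by rw [h𝒰]; trivial)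
  exact ⟨c, U ⊓ 𝒰 c, inf_le_left, inf_le_right, hx, hc⟩

theorem exact_local {S : ShortComplex X.Modules} (h𝒰 : ⨆ i, 𝒰 i = ⊤)
    (h : ∀ (c : ι) (V : X.Opens), V ≤ 𝒰 c → ∀ b : (ev V).obj S.X₂, (ev V).map S.g b = 0 →
      ∃ a, (ev V).map S.f a = b) : S.Exact := by
  rw [Groth.Agent.M1.exact_iff_stalk_eq_zero]
  intro x b hb
  obtain ⟨U, hxU, t, rfl⟩ := S.X₂.presheaf.exists_germ_eq b
  rw [Groth.Agent.M1.germ_naturality] at hb
  obtain ⟨W, hxW, i₁, i₂, he⟩ := S.X₃.presheaf.germ_eq x hxU hxU (S.g.app U t) 0 (hb.trans (map_zero _).symm)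
  obtain ⟨c, V, hVW, hVc, hxV⟩ := exists_small 𝒰 h𝒰 W x hxW
  have h0 : S.g.app V (S.X₂.presheaf.map (homOfLE (hVW.trans i₁.le)).op t) = 0 := by
    rw [Groth.Agent.M1.map_app_eq]
    have := congrArg (S.X₃.presheaf.map (homOfLE hVW).op) he
    rw [map_zero, map_zero, ← ConcreteCategory.comp_apply, ← Functor.map_comp] at this
    exact this
  obtain ⟨a, ha⟩ := h c V hVc _ h0
  refine ⟨S.X₁.presheaf.germ V x hxV a, ?_⟩
  refine (Groth.Agent.M1.germ_naturality S.f V x hxV a).trans ?_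
  refine (congrArg (S.X₂.presheaf.germ V x hxV) ha).trans ?_
  exact S.X₂.presheaf.germ_res_apply _ x hxV t

end


open AlgebraicGeometry CategoryTheory.Limits in
/-- Let X be a scheme, X = ⋃ U_i an open covering and F an O_X-module. The Čech complex of sheaves 𝔠(𝒰,
F), with 𝔠^p the product over (p+1)-tuples of the direct images of the restrictions of F to U_{i_0}
∩ … ∩ U_{i_p}, together with the canonical coaugmentation F → 𝔠^0, is a resolution of F: the
coaugmentation is a monomorphism, its composite with the first differential is zero, it is a kernel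
of that differential (every map into 𝔠^0 killed by the differential factors uniquely through it),
and the cohomology sheaves of 𝔠(𝒰, F) vanish in all positive degrees. (The published statement is
for ringed spaces; this row is for schemes.) -/
theorem result {X : Scheme.{u}} {ι : Type u} (𝒰 : ι → X.Opens) (h𝒰 : ⨆ i, 𝒰 i = ⊤)
    (F : X.Modules) :
    Mono (CechOX.cechShAug 𝒰 F) ∧
    CechOX.cechShAug 𝒰 F ≫ ((CechOX.cechSh 𝒰).obj F).d 0 1 = 0 ∧
    (∀ (G : X.Modules) (g : G ⟶ ((CechOX.cechSh 𝒰).obj F).X 0), g ≫ ((CechOX.cechSh 𝒰).obj F).d 0 1 = 0 →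
      ∃! g' : G ⟶ F, g' ≫ CechOX.cechShAug 𝒰 F = g) ∧
    ∀ p : ℕ, IsZero (((CechOX.cechSh 𝒰).obj F).homology (p + 1)) := by
  haveI hm : Mono (cechShAug 𝒰 F) := by
    rw [Groth.Agent.M1.mono_iff_app]
    intro U s t hst
    refine Groth.Agent.M1.section_ext s t fun x hx => ?_
    obtain ⟨c, V, hVU, hVc, hxV⟩ := exists_small 𝒰 h𝒰 U x hx
    have e : F.presheaf.map (homOfLE hVU).op s = F.presheaf.map (homOfLE hVU).op t := by
      apply (aug_bij 𝒰 F c V hVc).1
      refine ((comp_aug 𝒰 F V (fun _ => c) _).symm.trans (congrArg (CechRes8.comp (ev V) 𝒰 (PF F) fun _ => c) ?_)).trans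
        (comp_aug 𝒰 F V (fun _ => c) _)
      exact ((Groth.Agent.M1.map_app_eq (cechShAug 𝒰 F) hVU s).trans (congrArg _ hst)).trans
        (Groth.Agent.M1.map_app_eq (cechShAug 𝒰 F) hVU t).symm
    have := congrArg (F.presheaf.germ V x hxV) e
    simpa using this
  have h0 : (ShortComplex.mk _ _ (aug_d 𝒰 F)).Exact := exact_local 𝒰 h𝒰 fun c V hV b hb => by
    obtain ⟨y, hy⟩ := CechRes8.exact_zero (ev V) 𝒰 (PF F) c (hinv 𝒰 F c V hV) (aug 𝒰 F)
      (fun K i j => (aug_res 𝒰 F _).trans (aug_res 𝒰 F _).symm) (aug_bij 𝒰 F c V hV) b hb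
    exact ⟨y, CechRes8.comp_ext (ev V) 𝒰 (PF F) fun J => (comp_aug 𝒰 F V J y).trans (hy J)⟩
  refine ⟨hm, aug_d 𝒰 F, fun G g hg => ?_, fun p => ?_⟩
  · haveI : Mono (ShortComplex.mk _ _ (aug_d 𝒰 F)).f := hm
    exact ⟨h0.lift g hg, h0.lift_f g hg, fun g' hg' => (cancel_mono (cechShAug 𝒰 F)).1 (hg'.trans (h0.lift_f g hg).symm)⟩
  · rw [← HomologicalComplex.exactAt_iff_isZero_homology,
      HomologicalComplex.exactAt_iff' _ p (p + 1) (p + 2) (by simp) (by simp)]
    exact exact_local 𝒰 h𝒰 fun c V hV b hb => CechRes8.exact_pos (ev V) 𝒰 (PF F) c (hinv 𝒰 F c V hV) p b hb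


end Groth.Agent.S6531
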