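import Groth.Statements.S0393
import Groth.Agent.Lib.FlatH4.InjCrit
import Mathlib.RingTheory.Flat.Stability

set_option autoImplicit false
universe u
open FlatMor

namespace Groth.Agent.S0393

open TensorProduct in
/-- For a local homomorphism of local rings R → S with S Noetherian, an R-linear map u from a finite
S-module N to a flat R-module M whose reduction modulo the maximal ideal of R is injective is itself
injective, and its cokernel is flat over R. -/
theorem result {R S M N : Type u} [CommRing R] [CommRing S] [IsLocalRing R] [IsLocalRing S] [IsNoetherianRing S] [Algebra R S] [IsLocalHom (algebraMap R S)]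
    [AddCommGroup M] [Module R M] [Module.Flat R M]
    [AddCommGroup N] [Module R N] [Module S N] [IsScalarTower R S N] [Module.Finite S N]
    (u : N →ₗ[R] M) (h : Function.Injective (LinearMap.lTensor (IsLocalRing.ResidueField R) u)) :
    Function.Injective u ∧ Module.Flat R (M ⧸ LinearMap.range u) := by
  let 𝔪 := IsLocalRing.maximalIdeal R
  have hloc : 𝔪.map (algebraMap R S) ≤ IsLocalRing.maximalIdeal S :=
    ((IsLocalRing.local_hom_TFAE (algebraMap R S)).out 0 2).1 ‹_›
  have hsep : ∀ (I : Ideal R) (x : N), (∀ n : ℕ, x ∈ (I ⊔ 𝔪 ^ n) • (⊤ : Submodule R N)) →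
      x ∈ I • (⊤ : Submodule R N) := by
    intro I x hx
    let P : Submodule S N := I.map (algebraMap R S) • ⊤
    have hP : P.restrictScalars R = I • (⊤ : Submodule R N) := by
      simp only [P]
      rw [Ideal.smul_restrictScalars, Submodule.restrictScalars_top]
    have h1 : ∀ n : ℕ, P.mkQ x ∈ IsLocalRing.maximalIdeal S ^ n • (⊤ : Submodule S (N ⧸ P)) := by
      intro n
      have := hx n
      rw [Submodule.sup_smul] at this
      obtain ⟨a, ha, b, hb, rfl⟩ := Submodule.mem_sup.1 this
      rw [map_add, Submodule.mkQ_apply P a, (Submodule.Quotient.mk_eq_zero P).2 (hP.symm ▸ ha : a ∈ P.restrictScalars R), zero_add]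
      refine Submodule.smul_induction_on hb (fun r hr z _ => ?_)
        fun a b ha hb => by rw [map_add]; exact add_mem ha hb
      rw [← algebraMap_smul S r z, map_smul]
      exact Submodule.smul_mem_smul (Ideal.pow_right_mono hloc n
        (Ideal.map_pow (algebraMap R S) 𝔪 n ▸ Ideal.mem_map_of_mem _ hr)) trivial
    have : P.mkQ x ∈ (⊥ : Submodule S (N ⧸ P)) := by
      rw [← Ideal.iInf_pow_smul_eq_bot_of_le_jacobson (IsLocalRing.maximalIdeal S)
        (IsLocalRing.jacobson_eq_maximalIdeal (⊥ : Ideal S) bot_ne_top).ge, Submodule.mem_iInf]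
      exact h1
    rw [← hP]
    exact (Submodule.Quotient.mk_eq_zero P).1 ((Submodule.mem_bot S).1 this)
  have hmem := fun I => Groth.Agent.FlatH4.mem_smul_of_map_mem_smul_of_separated 𝔪 u
    (fun V _ _ hV => Groth.Agent.FlatH4.lTensor_injective_of_isMaximal 𝔪 u h V hV) I (hsep I)
  exact ⟨Groth.Agent.FlatH4.injective_of_map_mem_smul u hmem,
    Groth.Agent.FlatH4.flat_quotient_range u hmem⟩

end Groth.Agent.S0393
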