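import Groth.Statements.S0394
import Groth.Agent.Lib.FlatH4.ModMax
import Groth.Agent.S0393
import Mathlib.RingTheory.Nakayama
import Mathlib.RingTheory.Flat.Stability

set_option autoImplicit false
universe u
open FlatMor

namespace Groth.Agent.S0394

open TensorProduct in
/-- For a local homomorphism R → S of Noetherian local rings and a nonzero finite S-module M flat over R
whose fibre M/mM is free over S/mS (m the maximal ideal of R), M is free over S and S is flat over
R. -/
theorem result {R S M : Type u} [CommRing R] [CommRing S] [IsLocalRing R] [IsLocalRing S] [IsNoetherianRing R] [IsNoetherianRing S] [Algebra R S] [IsLocalHom (algebraMap R S)]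
    [AddCommGroup M] [Module R M] [Module S M] [IsScalarTower R S M] [Module.Finite S M] [Nontrivial M] [Module.Flat R M]
    (h : Module.Free (S ⧸ ((IsLocalRing.maximalIdeal R).map (algebraMap R S))) ((S ⧸ ((IsLocalRing.maximalIdeal R).map (algebraMap R S))) ⊗[S] M)) :
    Module.Free S M ∧ Module.Flat R S := by
  let 𝔪 := IsLocalRing.maximalIdeal R
  set J := 𝔪.map (algebraMap R S) with hJ
  have hloc : J ≤ IsLocalRing.maximalIdeal S :=
    ((IsLocalRing.local_hom_TFAE (algebraMap R S)).out 0 2).1 ‹_›
  have : Nontrivial (S ⧸ J) := Ideal.Quotient.nontrivial_iff.2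
    (ne_top_of_le_ne_top (IsLocalRing.maximalIdeal.isMaximal S).ne_top hloc)
  let e := TensorProduct.quotTensorEquivQuotSMul M J
  let b := Module.Free.chooseBasis (S ⧸ J) ((S ⧸ J) ⊗[S] M)
  have : Finite (Module.Free.ChooseBasisIndex (S ⧸ J) ((S ⧸ J) ⊗[S] M)) :=
    Finite.of_fintype _
  choose m hm using fun i => Groth.Agent.FlatH4.exists_one_tmul_eq J (b i)
  let u := Finsupp.linearCombination S m
  have hsurj : Function.Surjective u := by
    rw [← LinearMap.range_eq_top]
    refine top_unique (Submodule.le_of_le_smul_of_le_jacobson_bot Module.Finite.fg_top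
      (I := J) (by rw [IsLocalRing.jacobson_eq_maximalIdeal ⊥ bot_ne_top]; exact hloc) ?_)
    intro x _
    have hx : (1 : S ⧸ J) ⊗ₜ[S] x ∈ Submodule.span S (Set.range b) := by
      have := congrArg (Submodule.restrictScalars S) b.span_eq
      rw [Submodule.restrictScalars_span S (S ⧸ J) Ideal.Quotient.mk_surjective,
        Submodule.restrictScalars_top] at this
      rw [this]; trivial
    have hspan : Submodule.span S (Set.range b) ≤
        (LinearMap.range u).map (TensorProduct.mk S (S ⧸ J) M 1) := by
      rw [Submodule.span_le]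
      rintro _ ⟨i, rfl⟩
      exact ⟨m i, ⟨Finsupp.single i 1, by simp [u]⟩, hm i⟩
    obtain ⟨y, hy, hyx⟩ := hspan hx
    have : x - y ∈ J • (⊤ : Submodule S M) := by
      rw [← Groth.Agent.FlatH4.one_tmul_eq_zero_iff, TensorProduct.tmul_sub, sub_eq_zero]
      exact hyx.symm
    simpa using Submodule.add_mem_sup hy this
  obtain ⟨hinj, -⟩ := Groth.Agent.S0393.result (S := S) (u.restrictScalars R)
    (Groth.Agent.FlatH4.lTensor_quotient_injective 𝔪 _ fun c hc => by
      rw [← Groth.Agent.FlatH4.map_smul_top_restrictScalars (S := S) 𝔪] at hc ⊢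
      simp only [Submodule.restrictScalars_mem, LinearMap.coe_restrictScalars] at hc ⊢
      rw [← Groth.Agent.FlatH4.one_tmul_eq_zero_iff] at hc
      have hc' : ∀ i, c i ∈ J := fun i => by
        have h0 : Finsupp.linearCombination (S ⧸ J) b
            (c.mapRange (Ideal.Quotient.mk J) (map_zero _)) = 0 := by
          rw [← hc]
          simp only [u, Finsupp.linearCombination_apply]
          rw [Finsupp.sum_mapRange_index (h0 := fun i => zero_smul (S ⧸ J) (b i)),
            ← TensorProduct.mk_apply, map_finsuppSum]
          refine Finsupp.sum_congr fun i _ => ?_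
          rw [map_smul, TensorProduct.mk_apply, hm i]
          exact algebraMap_smul (S ⧸ J) (c i) (b i)
        have := DFunLike.congr_fun (b.linearIndependent.finsuppLinearCombination_injective
          (h0.trans (map_zero _).symm)) i
        simpa [Ideal.Quotient.eq_zero_iff_mem] using this
      rw [← Finsupp.sum_single c]
      exact Submodule.sum_mem _ fun i _ => by
        rw [← mul_one (c i), ← smul_eq_mul, ← Finsupp.smul_single]
        exact Submodule.smul_mem_smul (hc' i) trivial)
  let eM := LinearEquiv.ofBijective u ⟨hinj, hsurj⟩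
  have hfree : Module.Free S M := Module.Free.of_equiv eM
  refine ⟨hfree, ?_⟩
  have hflat : Module.Flat R (Module.Free.ChooseBasisIndex (S ⧸ J) ((S ⧸ J) ⊗[S] M) →₀ S) :=
    Module.Flat.of_linearEquiv (eM.restrictScalars R)
  have hne : Nonempty (Module.Free.ChooseBasisIndex (S ⧸ J) ((S ⧸ J) ⊗[S] M)) := by
    by_contra h0
    rw [not_nonempty_iff] at h0
    exact not_subsingleton M eM.symm.toEquiv.subsingleton
  obtain ⟨i⟩ := hne
  exact Module.Flat.of_retract (Finsupp.lsingle i : S →ₗ[R] _) (Finsupp.lapply i)
    (LinearMap.ext fun s => by simp)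

end Groth.Agent.S0394
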