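import Groth.Statements.S8586


set_option autoImplicit false
universe u
open CAlg

namespace Groth.Agent.S8586

/-- A system modulo `J`. -/
def Sop {A : Type u} [CommRing A] [IsLocalRing A] (J : Ideal A) {d : ℕ} (u : Fin d → A) : Prop :=
  (∀ i, u i ∈ IsLocalRing.maximalIdeal A) ∧ IsLocalRing.maximalIdeal A ≤ (J ⊔ Ideal.span (Set.range u)).radical

/-- One step. -/
def Step {A : Type u} [CommRing A] [IsLocalRing A] (J : Ideal A) {d : ℕ} (u v : Fin d → A) : Prop :=
  Sop J u ∧ Sop J v ∧ ∃ i : Fin d, ∀ i' : Fin d, i' ≠ i → u i' = v i'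

theorem span_snoc {A : Type u} [CommRing A] {d : ℕ} (t : Fin d → A) (w : A) :
    Ideal.span (Set.range (Fin.snoc t w : Fin (d + 1) → A)) = Ideal.span {w} ⊔ Ideal.span (Set.range t) := by
  rw [Fin.range_snoc, Ideal.span_insert]

theorem connected {A : Type u} [CommRing A] [IsLocalRing A] [IsNoetherianRing A] : ∀ (d : ℕ) (J : Ideal A)
    (u v : Fin d → A), Sop J u → Sop J v → Relation.ReflTransGen (Step J) u v := by
  intro d
  induction d with
  | zero => intro J u v _ _; rw [Subsingleton.elim u v]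
  | succ d ih =>
    intro J u v hu hv
    let m := IsLocalRing.maximalIdeal A
    let I (u : Fin (d + 1) → A) : Ideal A := J ⊔ Ideal.span (Set.range (Fin.init u))
    have hfin : (((I u).minimalPrimes ∪ (I v).minimalPrimes) \ {m}).Finite :=
      ((Ideal.finite_minimalPrimes_of_isNoetherianRing A (I u)).union
        (Ideal.finite_minimalPrimes_of_isNoetherianRing A (I v))).sdiff
    obtain ⟨w, hwm, hw⟩ : ∃ w ∈ m, ∀ P ∈ ((I u).minimalPrimes ∪ (I v).minimalPrimes) \ {m}, w ∉ P := by
      by_contra hcon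
      push Not at hcon
      have hprime : ∀ P ∈ hfin.toFinset, P ≠ m → P ≠ m → P.IsPrime := fun P hP _ _ => by
        rw [Set.Finite.mem_toFinset] at hP
        exact hP.1.elim (fun h => h.1.1) fun h => h.1.1
      obtain ⟨P, hP, hle⟩ := (Ideal.subset_union_prime (f := id) m m hprime).1 (fun w hw => by
        obtain ⟨P, hP, hwP⟩ := hcon w hw
        exact Set.mem_biUnion (hfin.mem_toFinset.2 hP) hwP)
      rw [Set.Finite.mem_toFinset] at hP
      refine hP.2 (le_antisymm ?_ hle)
      exact IsLocalRing.le_maximalIdeal (hP.1.elim (fun h => h.1.1.ne_top) fun h => h.1.1.ne_top)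
    have key : ∀ u : Fin (d + 1) → A, Sop J u → (∀ P ∈ (I u).minimalPrimes, P ≠ m → w ∉ P) →
        Sop J (Fin.snoc (Fin.init u) w) := by
      intro u hu hav
      refine ⟨fun i => ?_, ?_⟩
      · refine Fin.lastCases ?_ (fun j => ?_) i
        · rw [Fin.snoc_last]; exact hwm
        · rw [Fin.snoc_castSucc]; exact hu.1 _
      rw [Ideal.radical_eq_sInf, span_snoc]
      refine le_sInf fun Q ⟨hQ, hQp⟩ => ?_
      haveI := hQp
      have hIQ : I u ≤ Q := le_trans (sup_le_sup_left le_sup_right _) hQ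
      obtain ⟨P, hP, hPQ⟩ := Ideal.exists_minimalPrimes_le hIQ
      haveI : P.IsPrime := hP.1.1
      by_cases hPm : P = m
      · exact le_trans (le_of_eq hPm.symm) hPQ
      have hwQ : w ∈ Q := hQ (le_sup_right (a := J) (le_sup_left (a := Ideal.span {w}) (Ideal.subset_span rfl)))
      have hlt : P < Q := lt_of_le_of_ne hPQ fun h => hav P hP hPm (h ▸ hwQ)
      by_contra hmQ
      have hQm : Q < m := lt_of_le_of_ne (IsLocalRing.le_maximalIdeal hQp.ne_top) fun h => hmQ h.ge
      have hle1 : m ≤ (P ⊔ Ideal.span {u (Fin.last d)}).radical := by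
        refine hu.2.trans (Ideal.radical_mono (sup_le (le_trans (le_trans le_sup_left hP.1.2) le_sup_left) ?_))
        rw [← Fin.snoc_init_self u, span_snoc, Fin.snoc_last]
        exact sup_le le_sup_right (le_trans (le_trans le_sup_right hP.1.2) le_sup_left)
      let q := Ideal.Quotient.mk P
      haveI hmp : (m.map q).IsPrime := Ideal.map_isPrime_of_surjective Ideal.Quotient.mk_surjective (by
        rw [Ideal.mk_ker]; exact IsLocalRing.le_maximalIdeal (Ideal.IsPrime.ne_top inferInstance))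
      haveI hQp' : (Q.map q).IsPrime := Ideal.map_isPrime_of_surjective Ideal.Quotient.mk_surjective (by
        rw [Ideal.mk_ker]; exact hPQ)
      have hcomap : ∀ K : Ideal A, P ≤ K → (K.map q).comap q = K := fun K hK => by
        rw [Ideal.comap_map_of_surjective _ Ideal.Quotient.mk_surjective, ← RingHom.ker_eq_comap_bot, Ideal.mk_ker,
          sup_eq_left.2 hK]
      have hmin : m.map q ∈ (Ideal.span {q (u (Fin.last d))}).minimalPrimes := by
        refine ⟨⟨hmp, (Ideal.span_singleton_le_iff_mem _).2 (Ideal.mem_map_of_mem q (hu.1 _))⟩, ?_⟩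
        intro K hK _
        haveI := hK.1
        have h1 : P ⊔ Ideal.span {u (Fin.last d)} ≤ K.comap q := sup_le
          (fun x hx => by
            show q x ∈ K
            rw [show q x = 0 from Ideal.Quotient.eq_zero_iff_mem.2 hx]; exact zero_mem _)
          ((Ideal.span_singleton_le_iff_mem _).2 (hK.2 (Ideal.subset_span rfl)))
        refine Ideal.map_le_iff_le_comap.2 (hle1.trans ?_)
        exact ((Ideal.IsPrime.comap q).radical_le_iff).2 h1
      have hh := Ideal.height_le_one_of_isPrincipal_of_mem_minimalPrimes _ _ hmin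
      have hlt' : Q.map q < m.map q := by
        refine lt_of_le_of_ne (Ideal.map_mono hQm.le) fun h => hQm.ne ?_
        rw [← hcomap Q hPQ, h, hcomap m (hP.1.1.ne_top |> IsLocalRing.le_maximalIdeal)]
      have h0 : (⊥ : Ideal (A ⧸ P)) < Q.map q := by
        refine bot_lt_iff_ne_bot.2 fun h => hlt.ne ?_
        rw [← hcomap Q hPQ, h, ← RingHom.ker_eq_comap_bot, Ideal.mk_ker]
      have h1 : (1 : ℕ∞) ≤ (Q.map q).height := Order.one_le_iff_pos.2 (pos_of_ne_zero fun h =>
        h0.ne' (Ideal.height_eq_zero_iff_eq_bot.1 h))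
      have h2 : (Q.map q).height < (m.map q).height :=
        Ideal.height_strict_mono_of_isPrime hlt'
      exact absurd (lt_of_le_of_lt h1 (lt_of_lt_of_le h2 hh)) (lt_irrefl _)
    have hu' := key u hu fun P hP hPm => hw P ⟨Or.inl hP, hPm⟩
    have hv' := key v hv fun P hP hPm => hw P ⟨Or.inr hP, hPm⟩
    have hstep : ∀ u : Fin (d + 1) → A, Sop J u → Sop J (Fin.snoc (Fin.init u) w) →
        Step J u (Fin.snoc (Fin.init u) w) ∧ Step J (Fin.snoc (Fin.init u) w) u := by
      intro u h1 h2
      have : ∀ i, i ≠ Fin.last d → u i = (Fin.snoc (Fin.init u) w : Fin (d + 1) → A) i := fun i hi => by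
        obtain ⟨j, rfl⟩ := Fin.exists_castSucc_eq.2 hi
        rw [Fin.snoc_castSucc]; rfl
      exact ⟨⟨h1, h2, _, this⟩, h2, h1, _, fun i hi => (this i hi).symm⟩
    have hsop : ∀ t : Fin d → A, (∀ i, t i ∈ m) → (Sop (J ⊔ Ideal.span {w}) t ↔ Sop J (Fin.snoc t w)) := by
      intro t ht
      refine ⟨fun h => ⟨fun i => ?_, ?_⟩, fun h => ⟨ht, ?_⟩⟩
      · refine Fin.lastCases ?_ (fun j => ?_) i
        · rw [Fin.snoc_last]; exact hwm
        · rw [Fin.snoc_castSucc]; exact ht j
      · rw [span_snoc, ← sup_assoc]; exact h.2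
      · rw [sup_assoc, ← span_snoc]; exact h.2
    have hlift := ih (J ⊔ Ideal.span {w}) (Fin.init u) (Fin.init v)
      ((hsop _ fun i => hu.1 _).2 hu') ((hsop _ fun i => hv.1 _).2 hv')
    have hmid : Relation.ReflTransGen (Step J) (Fin.snoc (Fin.init u) w) (Fin.snoc (Fin.init v) w) :=
      hlift.lift (fun t => (Fin.snoc t w : Fin (d + 1) → A)) fun a b ⟨ha, hb, i, hi⟩ => by
        refine ⟨(hsop a ha.1).1 ha, (hsop b hb.1).1 hb, i.castSucc, fun i' hi' => ?_⟩
        refine Fin.lastCases (motive := fun i' => i' ≠ i.castSucc → (Fin.snoc a w : Fin (d+1) → A) i' = (Fin.snoc b w : Fin (d+1) → A) i')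
          (fun _ => by rw [Fin.snoc_last, Fin.snoc_last]) (fun j hj => ?_) i' hi'
        rw [Fin.snoc_castSucc, Fin.snoc_castSucc]
        exact hi j fun h => hj (congrArg Fin.castSucc h)
    exact (Relation.ReflTransGen.head (hstep u hu hu').1 hmid).tail (hstep v hv hv').2

theorem exists_seq {α : Type u} {r : α → α → Prop} {a b : α} (h : Relation.ReflTransGen r a b) :
    ∃ (m : ℕ) (w : Fin (m + 1) → α), w 0 = a ∧ w (Fin.last m) = b ∧ ∀ k : Fin m, r (w k.castSucc) (w k.succ) := by
  induction h using Relation.ReflTransGen.head_induction_on with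
  | refl => exact ⟨0, fun _ => b, rfl, rfl, fun k => k.elim0⟩
  | @head a c hac _ ih =>
    obtain ⟨m, w, h0, hl, hr⟩ := ih
    refine ⟨m + 1, Fin.cons a w, rfl, ?_, Fin.cases ?_ fun k => ?_⟩
    · rw [← Fin.succ_last, Fin.cons_succ, hl]
    · rw [Fin.castSucc_zero, Fin.cons_zero, Fin.cons_succ, h0]; exact hac
    · rw [Fin.cons_succ, ← Fin.succ_castSucc, Fin.cons_succ]; exact hr k



/-- Suppose A is a Cohen–Macaulay local ring whose Krull dimension is d, and consider two systems of
parameters u = (u_1, ..., u_d) and v = (v_1, ..., v_d) of A (that is, d-tuples of elements of the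
maximal ideal m such that the ideal they generate has radical m). Then one can find a finite
sequence w_0 = u, w_1, ..., w_m = v, each term a system of parameters of A, where w_{k+1} arises
from w_k by altering just one coordinate. -/
theorem result (A : Type u) [CommRing A] [LocCoh.IsCohenMacaulayLocalRing A]
    (d : ℕ) (hd : ringKrullDim A = d) (u v : Fin d → A)
    (hu : ∀ i, u i ∈ IsLocalRing.maximalIdeal A) (hu' : IsLocalRing.maximalIdeal A ≤ (Ideal.span (Set.range u)).radical)
    (hv : ∀ i, v i ∈ IsLocalRing.maximalIdeal A) (hv' : IsLocalRing.maximalIdeal A ≤ (Ideal.span (Set.range v)).radical) :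
    ∃ (m : ℕ) (w : Fin (m + 1) → Fin d → A), w 0 = u ∧ w (Fin.last m) = v ∧
      (∀ k : Fin (m + 1), (∀ i, w k i ∈ IsLocalRing.maximalIdeal A) ∧
        IsLocalRing.maximalIdeal A ≤ (Ideal.span (Set.range (w k))).radical) ∧
      (∀ k : Fin m, ∃ i : Fin d, ∀ i' : Fin d, i' ≠ i → w k.castSucc i' = w k.succ i') := by
  have hu0 : Sop (⊥ : Ideal A) u := ⟨hu, by rwa [bot_sup_eq]⟩
  have hv0 : Sop (⊥ : Ideal A) v := ⟨hv, by rwa [bot_sup_eq]⟩
  obtain ⟨m, w, h0, hl, hr⟩ := exists_seq (connected d ⊥ u v hu0 hv0)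
  refine ⟨m, w, h0, hl, ?_, fun k => (hr k).2.2⟩
  refine Fin.cases ⟨h0 ▸ hu, h0 ▸ hu'⟩ fun k => ?_
  have := (hr k).2.1
  exact ⟨this.1, by simpa using this.2⟩

end Groth.Agent.S8586
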