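import Groth.Statements.S18702
import Mathlib
import Groth.Agent.Lib.Depth.SkOps
-- import your own Groth.Agent.* helpers here

set_option autoImplicit false
universe u
open QGor

namespace Groth.Agent.S18702

theorem exists_ker_of_isReflexive (A : Type u) [CommRing A] [IsNoetherianRing A]
    (G : Type u) [AddCommGroup G] [Module A G] [Module.Finite A G] [Module.IsReflexive A G] :
    ∃ (a b : ℕ) (u : (Fin a → A) →ₗ[A] (Fin (b + 1) → A)), Nonempty (LinearMap.ker u ≃ₗ[A] G) := by
  haveI : Module.Finite A (Module.Dual A G) := Module.Finite.equiv (LinearEquiv.refl A _)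
  obtain ⟨a, q, hq⟩ := Module.Finite.exists_fin' A (Module.Dual A G)
  obtain ⟨b, r, hr⟩ := Module.Finite.exists_fin' A (LinearMap.ker q)
  let φ : (Fin (b + 1) → A) →ₗ[A] (Fin a → A) :=
    (LinearMap.ker q).subtype ∘ₗ r ∘ₗ LinearMap.funLeft A A Fin.castSucc
  have hex : Function.Exact φ q := by
    rw [LinearMap.exact_iff]
    have hs : Function.Surjective (r ∘ₗ LinearMap.funLeft A A (Fin.castSucc : Fin b → Fin (b + 1))) :=
      hr.comp (LinearMap.funLeft_surjective_of_injective _ _ _ (Fin.castSucc_injective b))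
    rw [LinearMap.range_comp, LinearMap.range_eq_top.mpr hs, Submodule.map_top, Submodule.range_subtype]
  let eq : ∀ n, ((Fin n → A) →ₗ[A] A) ≃ₗ[A] (Fin n → A) := fun n =>
    (Module.piEquiv (Fin n) A A).symm
  let q' : Module.Dual A (Module.Dual A G) →ₗ[A] (Fin a → A) := (eq a).toLinearMap ∘ₗ q.dualMap
  let u : (Fin a → A) →ₗ[A] (Fin (b + 1) → A) :=
    (eq (b + 1)).toLinearMap ∘ₗ φ.dualMap ∘ₗ (eq a).symm.toLinearMap
  have hinj : Function.Injective q' :=
    (eq a).injective.comp (LinearMap.dualMap_injective_of_surjective hq)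
  have hrange : LinearMap.range q' = LinearMap.ker u := by
    ext v
    constructor
    · rintro ⟨ψ, rfl⟩
      have : φ.dualMap (q.dualMap ψ) = 0 := LinearMap.ext fun z => by
        show ψ (q (φ z)) = 0
        rw [hex.apply_apply_eq_zero, map_zero]
      simp [u, q', this]
    · intro hv
      have h0 : φ.dualMap ((eq a).symm v) = 0 := (eq (b + 1)).injective (hv.trans (map_zero _).symm)
      have hle : LinearMap.ker q ≤ LinearMap.ker ((eq a).symm v) := fun z hz => by
        obtain ⟨w, rfl⟩ := (hex z).mp hz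
        exact LinearMap.congr_fun h0 w
      refine ⟨(LinearMap.ker q).liftQ ((eq a).symm v) hle ∘ₗ
        (q.quotKerEquivOfSurjective hq).symm.toLinearMap, ?_⟩
      show eq a (q.dualMap _) = v
      refine (congrArg (eq a) ?_).trans ((eq a).apply_symm_apply v)
      refine LinearMap.ext fun z => ?_
      simp [LinearMap.dualMap_apply]
  exact ⟨a, b, u, ⟨((Module.evalEquiv A G).trans
    ((LinearEquiv.ofInjective q' hinj).trans (LinearEquiv.ofEq _ _ hrange))).symm⟩⟩

/-- Affine form, for an arbitrary Noetherian ring A (not assumed to be a domain). Let I be an ideal and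
G a finite reflexive A-module (the evaluation map into the double dual is bijective). For k = 1 and
k = 2: if depth_I A ≥ k then depth_I G ≥ k; and if A satisfies (S_k) then G satisfies (S_k). -/
theorem result (A : Type u) [CommRing A] [IsNoetherianRing A] (I : Ideal A)
    (G : Type u) [AddCommGroup G] [Module A G] [Module.Finite A G] [Module.IsReflexive A G] :
    (1 ≤ LocCoh.idealDepth I A → 1 ≤ LocCoh.idealDepth I G) ∧
    (2 ≤ LocCoh.idealDepth I A → 2 ≤ LocCoh.idealDepth I G) ∧
    (LocCoh.HasSk 1 A A → LocCoh.HasSk 1 A G) ∧ (LocCoh.HasSk 2 A A → LocCoh.HasSk 2 A G) := by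
  obtain ⟨a, b, u, ⟨e⟩⟩ := exists_ker_of_isReflexive A G
  have hA1 : LocCoh.HasSk 2 A A → LocCoh.HasSk 1 A A := fun h p _ =>
    (min_le_min (by exact_mod_cast (show 1 ≤ 2 by omega)) le_rfl).trans (h p)
  refine ⟨fun h => ?_, fun h => ?_, fun h => ?_, fun h => ?_⟩
  · rw [← DepthLib.idealDepth_congr e]
    exact DepthLib.one_le_idealDepth_of_injective I _ (LinearMap.ker u).injective_subtype
      (h.trans (DepthLib.idealDepth_le_pi I a))
  · rw [← DepthLib.idealDepth_congr e]
    exact DepthLib.two_le_idealDepth_ker I u (h.trans (DepthLib.idealDepth_le_pi I a))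
      ((le_trans one_le_two h).trans (DepthLib.idealDepth_le_pi I (b + 1)))
  · exact DepthLib.hasSk_congr e (DepthLib.hasSk_one_ker u (DepthLib.hasSk_pi h a))
  · refine DepthLib.hasSk_congr e (DepthLib.hasSk_two_ker u ?_ (DepthLib.hasSk_pi (hA1 h) (b + 1))
      (DepthLib.hasSk_pi h a))
    intro p _
    rw [Module.mem_support_iff_of_finite]
    intro x hx
    rw [Module.mem_annihilator] at hx
    have := congrFun (hx (fun _ => 1)) 0
    simp at this
    simp [this]

end Groth.Agent.S18702
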