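import Groth.Statements.S18703
import Mathlib
import Groth.Agent.Lib.Depth.ReflexiveLoc
-- import your own Groth.Agent.* helpers here

set_option autoImplicit false
universe u
open QGor

namespace Groth.Agent.S18703

/-- Affine form. Let A be a Noetherian ring and I an ideal with depth_I A ≥ 1. Let G be a finite
A-module such that G_p is a reflexive A_p-module for every prime p not containing I (G is reflexive
off V(I)). If depth_I G ≥ 2, then G is reflexive. -/
theorem result (A : Type u) [CommRing A] [IsNoetherianRing A] (I : Ideal A)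
    (hA : 1 ≤ LocCoh.idealDepth I A)
    (G : Type u) [AddCommGroup G] [Module A G] [Module.Finite A G]
    (hU : ∀ p : PrimeSpectrum A, ¬ I ≤ p.asIdeal →
      Module.IsReflexive (Localization.AtPrime p.asIdeal) (LocalizedModule p.asIdeal.primeCompl G))
    (hG : 2 ≤ LocCoh.idealDepth I G) : Module.IsReflexive A G := by
  classical
  haveI : Module.Finite A (Module.Dual A G) := Module.Finite.equiv (LinearEquiv.refl A _)
  haveI : Module.Finite A (Module.Dual A (Module.Dual A G)) :=
    Module.Finite.equiv (LinearEquiv.refl A _)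
  let ev := Module.Dual.eval A G
  have hker : Function.Injective ev := by
    have hsupp : Module.support A (LinearMap.ker ev) ⊆ PrimeSpectrum.zeroLocus I := by
      intro p hp r hr
      by_contra hrp
      obtain ⟨m, hm⟩ := Module.mem_support_iff'.1 hp
      obtain ⟨s, hs, hs0⟩ := (DepthLib.eval_locally_bijective p.asIdeal.primeCompl
        (hU p fun hle => hrp (hle hr))).1 m m.2
      exact hm s hs (Subtype.ext hs0)
    have h0 := DepthLib.subsingleton_ext_of_le_idealDepth (M := G) (n := 1)
      (by exact_mod_cast le_trans one_le_two hG) (ModuleCat.of A (LinearMap.ker ev)) hsupp Nat.one_pos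
    have h00 : ModuleCat.ofHom (LinearMap.ker ev).subtype = 0 :=
      (CategoryTheory.Abelian.Ext.mk₀_bijective _ _).1 (@Subsingleton.elim _ h0 _ _)
    intro x y hxy
    have hmem : x - y ∈ LinearMap.ker ev := by simp [hxy]
    exact sub_eq_zero.1 (congr(($h00).hom ⟨x - y, hmem⟩))
  refine ⟨⟨hker, ?_⟩⟩
  obtain ⟨a, q, hq⟩ := Module.Finite.exists_fin' A (Module.Dual A G)
  have hG'' : 1 ≤ LocCoh.idealDepth I (Module.Dual A (Module.Dual A G)) :=
    DepthLib.one_le_idealDepth_of_injective I
      ((Module.piEquiv (Fin a) A A).symm.toLinearMap ∘ₗ q.dualMap)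
      ((Module.piEquiv (Fin a) A A).symm.injective.comp
        (LinearMap.dualMap_injective_of_surjective hq))
      (hA.trans (DepthLib.idealDepth_le_pi I a))
  have hS := DepthLib.shortExact_of_linearMap hker (LinearMap.range ev).mkQ_surjective
    (LinearMap.exact_map_mkQ_range ev)
  have hC : 1 ≤ LocCoh.idealDepth I (Module.Dual A (Module.Dual A G) ⧸ LinearMap.range ev) :=
    le_trans (le_min hG'' (ENat.le_sub_of_add_le_right (by simp) (by rwa [one_add_one_eq_two])))
      (DepthLib.idealDepth_shortExact (I := I) hS).2.1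
  have hsupp : Module.support A (Module.Dual A (Module.Dual A G) ⧸ LinearMap.range ev) ⊆
      PrimeSpectrum.zeroLocus I := by
    intro p hp r hr
    by_contra hrp
    obtain ⟨m, hm⟩ := Module.mem_support_iff'.1 hp
    obtain ⟨φ, rfl⟩ := Submodule.Quotient.mk_surjective _ m
    obtain ⟨s, hs, hs0⟩ := (DepthLib.eval_locally_bijective p.asIdeal.primeCompl
      (hU p fun hle => hrp (hle hr))).2 φ
    exact hm s hs (by rw [← Submodule.Quotient.mk_smul]; exact (Submodule.Quotient.mk_eq_zero _).2 hs0)
  have h0 := DepthLib.subsingleton_ext_of_le_idealDepth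
    (M := Module.Dual A (Module.Dual A G) ⧸ LinearMap.range ev) (n := 1)
    (by exact_mod_cast hC) (ModuleCat.of A _) hsupp Nat.one_pos
  have h00 : CategoryTheory.CategoryStruct.id
      (ModuleCat.of A (Module.Dual A (Module.Dual A G) ⧸ LinearMap.range ev)) = 0 :=
    (CategoryTheory.Abelian.Ext.mk₀_bijective _ _).1 (@Subsingleton.elim _ h0 _ _)
  intro φ
  exact (Submodule.Quotient.mk_eq_zero _).1
    (congr(($h00).hom (Submodule.Quotient.mk (p := LinearMap.range ev) φ)))

end Groth.Agent.S18703
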