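import Groth.Statements.S3822
import Groth.Agent.Lib.SymGr.DiffSmoothBC
import Mathlib.RingTheory.Finiteness.Descent
import Mathlib.RingTheory.Flat.FaithfullyFlat.Descent
import Mathlib.RingTheory.Flat.EquationalCriterion
import Mathlib.RingTheory.Flat.Stability
import Mathlib.Algebra.Module.FinitePresentation
import Mathlib.RingTheory.Flat.FaithfullyFlat.Algebra

set_option autoImplicit false
universe u
open scoped TensorProduct
open PP16

namespace Groth.Agent.S3822

theorem projective_descent {R R' M : Type u} [CommRing R] [CommRing R'] [Algebra R R'] [AddCommGroup M]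
    [Module R M] [Module.FaithfullyFlat R R'] [Module.Finite R' (R' ⊗[R] M)]
    [Module.Projective R' (R' ⊗[R] M)] : Module.Finite R M ∧ Module.Projective R M := by
  haveI hfin : Module.Finite R M := Module.Finite.of_finite_tensorProduct_of_faithfullyFlat (T := R')
  refine ⟨hfin, ?_⟩
  haveI : Module.Flat R M := by
    rw [Module.Flat.iff_lTensor_preserves_injective_linearMap]
    intro N N' _ _ _ _ g hg
    haveI : Module.Flat R (R' ⊗[R] M) := Module.Flat.trans R R' _
    have h1 : Function.Injective (g.lTensor (R' ⊗[R] M)) := Module.Flat.lTensor_preserves_injective_linearMap g hg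
    rw [← Module.FaithfullyFlat.lTensor_injective_iff_injective R R']
    have h2 : (g.lTensor M).lTensor R' = (TensorProduct.assoc R R' M N').toLinearMap ∘ₗ g.lTensor (R' ⊗[R] M) ∘ₗ
        (TensorProduct.assoc R R' M N).symm.toLinearMap := by
      refine TensorProduct.ext' fun a x => ?_
      induction x using TensorProduct.induction_on with
      | zero => simp
      | tmul m n => simp
      | add x y hx hy => simp only [TensorProduct.tmul_add, map_add, hx, hy]
    rw [h2]
    exact (TensorProduct.assoc R R' M N').injective.comp
      (h1.comp (TensorProduct.assoc R R' M N).symm.injective)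
  haveI : Module.FinitePresentation R M := by
    obtain ⟨n, f, hf⟩ := Module.Finite.exists_fin' R M
    haveI : Module.FinitePresentation R' (R' ⊗[R] M) := Module.finitePresentation_of_projective _ _
    have hker : (LinearMap.ker (f.baseChange R')).FG :=
      Module.FinitePresentation.fg_ker _ (LinearMap.lTensor_surjective R' hf)
    refine Module.finitePresentation_of_surjective f hf ?_
    let K := LinearMap.ker f
    have hex : Function.Exact (K.subtype.baseChange R') (f.baseChange R') :=
      lTensor_exact R' (LinearMap.exact_subtype_ker_map f) hf
    have hinj : Function.Injective (K.subtype.baseChange R') :=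
      Module.Flat.lTensor_preserves_injective_linearMap (M := R') K.subtype K.subtype_injective
    have hr : LinearMap.range (K.subtype.baseChange R') = LinearMap.ker (f.baseChange R') :=
      (LinearMap.exact_iff.mp hex).symm
    haveI : Module.Finite R' (LinearMap.range (K.subtype.baseChange R')) := by
      rw [hr]; exact Module.Finite.iff_fg.mpr hker
    haveI : Module.Finite R' (R' ⊗[R] K) := Module.Finite.equiv (LinearEquiv.ofInjective _ hinj).symm
    exact Module.Finite.iff_fg.mp (Module.Finite.of_finite_tensorProduct_of_faithfullyFlat (T := R'))
  exact Module.Flat.projective_of_finitePresentation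

theorem descend (A B A' B' : Type u) [CommRing A] [CommRing B] [Algebra A B]
    [CommRing A'] [CommRing B'] [Algebra A' B'] [Algebra A A'] [Algebra B B'] [Algebra A B']
    [IsScalarTower A A' B'] [IsScalarTower A B B'] [Algebra.IsPushout A A' B B'] [Module.FaithfullyFlat A A']
    (h : PP16.IsDiffSmooth A' B') (hfin : Module.Finite B' (KaehlerDifferential A' B')) :
    PP16.IsDiffSmooth A B ∧ Module.Finite B (KaehlerDifferential A B) := by
  rw [SymGr.isDiffSmooth_iff] at h ⊢
  obtain ⟨hproj, hc⟩ := h
  have hβ := SymGr.isBaseChange_kaehlerMap A B A' B'
  haveI : Module.FaithfullyFlat B B' := by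
    haveI : Algebra.IsPushout A B A' B' := Algebra.IsPushout.symm inferInstance
    exact Module.FaithfullyFlat.of_linearEquiv B (B ⊗[A] A') (Algebra.IsPushout.equiv A B A' B').symm.toLinearEquiv
  haveI : Module.Finite B' (B' ⊗[B] KaehlerDifferential A B) := Module.Finite.equiv hβ.equiv.symm
  haveI : Module.Projective B' (B' ⊗[B] KaehlerDifferential A B) := Module.Projective.of_equiv hβ.equiv.symm
  obtain ⟨hf, hp⟩ := projective_descent (R := B) (R' := B') (M := KaehlerDifferential A B)
  refine ⟨⟨hp, fun ι _ => ?_⟩, hf⟩
  haveI : Module.Projective B (KaehlerDifferential.ideal A B).Cotangent := hp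
  obtain ⟨gm, hgm⟩ := SymGr.exists_grMap A B A' B' (Fintype.card ι)
  let β : (KaehlerDifferential.ideal A B).Cotangent →ₗ[B] (KaehlerDifferential.ideal A' B').Cotangent :=
    KaehlerDifferential.map A A' B B'
  have hcm := SymGr.canon_comm A B A' B' ι gm hgm
  exact SymGr.injective_descend (M := (KaehlerDifferential.ideal A B).Cotangent) (M' := (KaehlerDifferential.ideal A' B').Cotangent)
    (R' := B') β (SymGr.canon B (KaehlerDifferential.ideal A B) ι)
    (SymGr.canon B' (KaehlerDifferential.ideal A' B') ι) gm hcm hβ (hc ι)

/-- Let B be an A-algebra, A → A' a faithfully flat ring map and B' = B ⊗_A A'. If B' is differentially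
smooth over A' and its module of differentials is finitely generated, then B is differentially
smooth over A and its module of differentials is finitely generated. -/
theorem result (A B A' B' : Type u) [CommRing A] [CommRing B] [Algebra A B]
    [CommRing A'] [CommRing B'] [Algebra A' B'] [Algebra A A'] [Algebra B B'] [Algebra A B']
    [IsScalarTower A A' B'] [IsScalarTower A B B'] [Algebra.IsPushout A B A' B'] [Module.FaithfullyFlat A A']
    (h : PP16.IsDiffSmooth A' B') (hfin : Module.Finite B' (KaehlerDifferential A' B')) :
    PP16.IsDiffSmooth A B ∧ Module.Finite B (KaehlerDifferential A B) := by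
  haveI : Algebra.IsPushout A A' B B' := Algebra.IsPushout.symm inferInstance
  exact descend A B A' B' h hfin

end Groth.Agent.S3822
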