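import Groth.Statements.S9582
import Groth.Prelude.Def_FlatCA
import Groth.Agent.Lib.H2Alg.WeakAss

set_option autoImplicit false
universe u
open CAlg

namespace Groth.Agent.S9582
open Groth.Agent.H2Alg

/-- For a reduced ring R, the primes weakly associated to the R-module R (primes minimal over the
annihilator of some element) are exactly the minimal primes of R. -/
theorem result {R : Type u} [CommRing R] [IsReduced R] :
    FlatCA.weakAss R R = minimalPrimes R := by
  refine Set.Subset.antisymm ?_ ?_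
  · rintro p ⟨m, hm⟩
    have := hm.isPrime
    obtain ⟨hle, h⟩ := mem_minimalPrimes_iff_exists_mul_pow_mem.1 hm
    have key : ∀ a ∈ p, ∃ u, u ∉ p ∧ u * a * m = 0 := fun a ha => by
      obtain ⟨n, u, hu, h'⟩ := h a ha
      rw [mem_annEl, smul_eq_mul] at h'
      refine ⟨u, hu, IsReduced.eq_zero _ ⟨n + 1, ?_⟩⟩
      rw [show (u * a * m) ^ (n + 1) = u * a ^ n * m * (u ^ n * a * m ^ n) by ring, h', zero_mul]
    have hm' : m ∉ p := fun hmp => by
      obtain ⟨u, hu, h'⟩ := key m hmp
      have hz : u * m = 0 := IsReduced.eq_zero _ ⟨2, by rw [show (u * m) ^ 2 = u * (u * m * m) by ring, h', mul_zero]⟩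
      exact hu (hle (mem_annEl.2 hz))
    rw [show minimalPrimes R = (⊥ : Ideal R).minimalPrimes from rfl, mem_minimalPrimes_iff_exists_mul_pow_mem]
    refine ⟨bot_le, fun a ha => ?_⟩
    obtain ⟨u, hu, h'⟩ := key a ha
    exact ⟨1, u * m, fun hum => (Ideal.IsPrime.mem_or_mem ‹_› hum).elim hu hm', by rw [Ideal.mem_bot, ← h']; ring⟩
  · intro p hp
    refine ⟨1, ?_⟩
    have : annEl R (1 : R) = ⊥ := by ext r; simp [mem_annEl]
    change p ∈ (annEl R (1 : R)).minimalPrimes
    rw [this]; exact hp

end Groth.Agent.S9582
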