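import Groth.Statements.S3215
import Groth.Agent.Lib.QuadH13.EvenSplitEtale28

set_option autoImplicit false
universe u
open SGA7II Groth.Agent.QuadH13 QuadraticMap

namespace Groth.Agent.S3215

/-- Let A be a commutative ring and Q(x) = sum over pairs i <= j of a_{ij} x_i x_j a quadratic form in
2m variables on the free module A^{2m} (the source allows a locally free module, which is free
Zariski-locally; the variables indexed by two copies of Fin m, ordered first copy then second),
whose polar bilinear form (matrix entries 2a_{ii} on the diagonal, a_{ij} for i < j) has invertible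
determinant (Q is ordinary). Then there are finitely many etale A-algebras B_t whose spectra jointly
cover Spec A and, over each B_t, an invertible matrix g with Q(g x) = sum_j x_j x_{m+j}, the split
form. -/
theorem result (A : Type u) [CommRing A] (m : ℕ)
    (a : (Fin m ⊕ Fin m) → (Fin m ⊕ Fin m) → A) :
    let rk : Fin m ⊕ Fin m → ℕ := Sum.elim Fin.val (fun k => m + k.val)
    let QB : ∀ (B : Type u) [CommRing B] [Algebra A B], ((Fin m ⊕ Fin m) → B) → B :=
      fun B _ _ x => ∑ i, ∑ j, if rk i ≤ rk j then algebraMap A B (a i j) * x i * x j else 0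
    IsUnit (Matrix.det (Matrix.of fun i j : Fin m ⊕ Fin m =>
      if i = j then a i i + a i i else if rk i ≤ rk j then a i j else a j i)) →
    ∃ (n : ℕ) (B : Fin n → Type u) (_ : ∀ t, CommRing (B t)) (_ : ∀ t, Algebra A (B t)),
      (∀ t, Algebra.Etale A (B t)) ∧
      (∀ p : PrimeSpectrum A, ∃ (t : Fin n) (q : PrimeSpectrum (B t)),
        q.asIdeal.comap (algebraMap A (B t)) = p.asIdeal) ∧
      ∀ t, ∃ g : Matrix (Fin m ⊕ Fin m) (Fin m ⊕ Fin m) (B t), IsUnit g.det ∧
        ∀ x : Fin m ⊕ Fin m → B t, QB (B t) (g.mulVec x) = ∑ j : Fin m, x (Sum.inl j) * x (Sum.inr j) := by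
  intro rk QB hdet
  classical
  let e : Fin m ⊕ Fin m ≃ Fin (m + m) := finSumFinEquiv
  let lift' : ((Fin m ⊕ Fin m) → (Fin m ⊕ Fin m) → A) → Sym2 (Fin (m + m)) → A := fun c ↦
    Sym2.lift ⟨fun i j ↦ c (e.symm (min i j)) (e.symm (max i j)), fun i j ↦ by dsimp only; rw [min_comm, max_comm]⟩
  have hrk : ∀ i, rk i = (e i).val := fun i ↦ by rcases i with k | k <;> simp [rk, e] <;> omega
  have hlift : ∀ c i j, i ≤ j → lift' c s(i, j) = c (e.symm i) (e.symm j) := fun c i j hij ↦ by
    simp [lift', min_eq_left hij, max_eq_right hij]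
  have happly : ∀ (c : (Fin m ⊕ Fin m) → (Fin m ⊕ Fin m) → A) (B : Type u) [CommRing B] [Algebra A B]
      (x : Fin m ⊕ Fin m → B),
      ofCoeffs (algebraMap A B ∘ lift' c) (x ∘ e.symm) =
        ∑ i, ∑ j, if rk i ≤ rk j then algebraMap A B (c i j) * x i * x j else 0 := by
    intro c B _ _ x
    conv_lhs => rw [← (Pi.basisFun B (Fin (m + m))).sum_repr (x ∘ e.symm), apply_eq_triSum, coeffs_ofCoeffs]
    simp only [triSum, Pi.basisFun_repr]
    rw [← e.sum_comp]
    refine Finset.sum_congr rfl fun i _ ↦ ?_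
    rw [← e.sum_comp]
    refine Finset.sum_congr rfl fun j _ ↦ ?_
    simp only [hrk, Function.comp_apply, Equiv.symm_apply_apply, Fin.val_fin_le]
    split_ifs with h
    · rw [hlift c _ _ h, Equiv.symm_apply_apply, Equiv.symm_apply_apply, mul_assoc]
    · rfl
  let M : (Fin m ⊕ Fin m) → (Fin m ⊕ Fin m) → A := Matrix.fromBlocks 0 1 0 0
  have hsplit : ∀ (B : Type u) [CommRing B] [Algebra A B] (x : Fin m ⊕ Fin m → B),
      ofCoeffs (algebraMap A B ∘ lift' M) (x ∘ e.symm) = ∑ k : Fin m, x (Sum.inl k) * x (Sum.inr k) := by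
    intro B _ _ x
    rw [happly, Fintype.sum_sum_type]
    have h : ∀ k l : Fin m, k.val ≤ m + l.val := fun k l ↦ by omega
    simp [M, rk, Fintype.sum_sum_type, Matrix.one_apply, h, apply_ite (algebraMap A B), ite_mul]
  have hPa : ∀ c, Matrix.submatrix (polarMat (Pi.basisFun A (Fin (m + m))) (ofCoeffs (lift' c))) e e =
      Matrix.of fun i j ↦ if i = j then c i i + c i i else if rk i ≤ rk j then c i j else c j i := by
    intro c
    refine Matrix.ext fun i j ↦ ?_
    rw [Matrix.submatrix_apply, polarMat_eq_coeffs, coeffs_ofCoeffs, Matrix.of_apply]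
    simp only [e.injective.eq_iff, hrk, Fin.val_fin_le]
    rcases eq_or_ne i j with rfl | hne
    · rw [if_pos rfl, if_pos rfl, hlift c _ _ le_rfl, Equiv.symm_apply_apply, two_mul]
    · rw [if_neg hne, if_neg hne]
      split_ifs with h
      · rw [hlift c _ _ h, Equiv.symm_apply_apply, Equiv.symm_apply_apply]
      · rw [Sym2.eq_swap, hlift c _ _ (le_of_not_ge h), Equiv.symm_apply_apply, Equiv.symm_apply_apply]
  have hs : IsUnit (polarMat (Pi.basisFun A (Fin (m + m))) (ofCoeffs (lift' M))).det := by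
    rw [← Matrix.det_submatrix_equiv_self e, hPa]
    have hW : (Matrix.of fun i j ↦ if i = j then M i i + M i i else if rk i ≤ rk j then M i j else M j i) =
        Matrix.fromBlocks 0 1 1 0 := by
      refine Matrix.ext fun i j ↦ ?_
      have h : ∀ k l : Fin m, ¬ m + k.val ≤ l.val := fun k l ↦ by omega
      rcases i with i | i <;> rcases j with j | j <;>
        simp [M, rk, h, Matrix.one_apply, eq_comm, (by omega : ∀ k l : Fin m, k.val ≤ m + l.val)]
    rw [hW]
    refine Matrix.isUnit_det_of_left_inverse (B := Matrix.fromBlocks 0 1 1 0) ?_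
    simp [Matrix.fromBlocks_multiply, Matrix.fromBlocks_one]
  have ha : IsUnit (polarMat (Pi.basisFun A (Fin (m + m))) (ofCoeffs (lift' a))).det := by
    rw [← Matrix.det_submatrix_equiv_self e, hPa]; exact hdet
  obtain ⟨N, B, iR, iA, het, hcov, hg⟩ := exists_etale_isometry (lift' a) (lift' M) hs fun p ↦ by
    set K := AlgebraicClosure p.asIdeal.ResidueField
    let Q : QuadraticForm K (Fin (m + m) → K) := ofCoeffs (algebraMap A K ∘ lift' a)
    obtain ⟨f, hf⟩ := exists_hyperbolic m Q (by rw [Module.finrank_fintype_fun_eq_card, Fintype.card_fin, mul_two])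
      fun x hx ↦ by
        have hu : IsUnit (polarMat (Pi.basisFun K (Fin (m + m))) Q).det := by
          rw [polarMat_map, ← RingHom.map_det]; exact ha.map _
        have h0 : Matrix.vecMul x (polarMat (Pi.basisFun K (Fin (m + m))) Q) = 0 := funext fun j ↦ by
          rw [Pi.zero_apply, ← hx (Pi.basisFun K _ j)]
          conv_rhs => rw [← (Pi.basisFun K (Fin (m + m))).sum_repr x, ← polarBilin_apply_apply, LinearMap.map_sum₂]
          simp [Matrix.vecMul, dotProduct, polarMat_apply, smul_eq_mul]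
        exact Matrix.vecMul_injective_of_isUnit ((Matrix.isUnit_iff_isUnit_det _).2 hu)
          (h0.trans (Matrix.zero_vecMul _).symm)
    let L : (Fin (m + m) → K) →ₗ[K] (Fin m → Fin 2 → K) :=
      LinearMap.pi fun k ↦ LinearMap.pi fun r ↦
        LinearMap.proj (e ((![Sum.inl k, Sum.inr k] : Fin 2 → Fin m ⊕ Fin m) r))
    refine ⟨fun ij ↦ LinearMap.toMatrix (Pi.basisFun K _) (Pi.basisFun K _) (f ∘ₗ L) ij.1 ij.2,
      QuadraticMap.ext fun y ↦ ?_⟩
    rw [QuadraticMap.comp_apply, show y = (y ∘ e) ∘ e.symm by funext i; simp, hsplit,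
      show ((y ∘ e) ∘ e.symm) = y by funext i; simp]
    change Q (Matrix.toLin _ _ (LinearMap.toMatrix _ _ (f ∘ₗ L)) y) = _
    rw [Matrix.toLin_toMatrix, LinearMap.comp_apply, hf]
    simp [L]
  refine ⟨N, B, iR, iA, het, hcov, fun t ↦ ?_⟩
  obtain ⟨v, hv, h⟩ := hg t
  refine ⟨(Matrix.of fun i j ↦ v (i, j)).submatrix e e, ?_, fun x ↦ ?_⟩
  · rwa [Matrix.det_submatrix_equiv_self]
  · change ∑ i, ∑ j, (if rk i ≤ rk j then algebraMap A (B t) (a i j) * _ * _ else 0) = _
    rw [← happly, ← hsplit, ← h, QuadraticMap.comp_apply]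
    congr 1
    simp only [gPair, Matrix.toLin_eq_toLin', Matrix.toLin'_apply]
    funext i
    simp only [Function.comp_apply, Matrix.mulVec, dotProduct, Matrix.submatrix_apply, Equiv.apply_symm_apply]
    rw [← e.sum_comp (fun j ↦ Matrix.of (fun i j ↦ v (i, j)) i j * x (e.symm j))]
    simp

end Groth.Agent.S3215
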