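import Groth.Statements.S10869
import Groth.Agent.Lib.GGen15.Counit
import Groth.Agent.Lib.VeryAmple11.RelCrit
-- import your own Groth.Agent.* helpers here

set_option autoImplicit false
universe u
open Coh

namespace Groth.Agent.S10869

open CategoryTheory AlgebraicGeometry in
/-- For f : X → S quasi-compact and quasi-separated and F a quasi-coherent O_X-module, the counit
f^*f_*F → F is an epimorphism iff F is a quotient of f^*G for some quasi-coherent O_S-module G, iff
the restriction of F to the inverse image of every affine open of S is globally generated. -/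
theorem result {X S : Scheme.{u}} (f : X ⟶ S) [QuasiCompact f] [QuasiSeparated f]
    (F : X.Modules) (hF : Coh.IsQCoh F) :
    (Epi ((Scheme.Modules.pullbackPushforwardAdjunction f).counit.app F) ↔
      ∃ G : S.Modules, Coh.IsQCoh G ∧ ∃ φ : (Scheme.Modules.pullback f).obj G ⟶ F, Epi φ) ∧
    (Epi ((Scheme.Modules.pullbackPushforwardAdjunction f).counit.app F) ↔
      ∀ U : S.Opens, IsAffineOpen U → Curv2.IsGloballyGenerated (F.restrict (f ⁻¹ᵁ U).ι)) := by
  refine ⟨⟨fun h => ⟨_, Groth.Agent.M1.isQCoh_push f hF, _, h⟩, fun ⟨G, _, φ, hφ⟩ => ?_⟩,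
    ⟨fun h U hU => ?_, fun h => ?_⟩⟩
  · haveI := hφ
    let adj := Scheme.Modules.pullbackPushforwardAdjunction f
    haveI : Epi ((Scheme.Modules.pullback f).map (adj.homEquiv _ _ φ) ≫ adj.counit.app F) := by
      rw [(adj.homEquiv_counit _ _ _).symm.trans ((adj.homEquiv G F).symm_apply_apply φ)]
      exact hφ
    exact epi_of_epi ((Scheme.Modules.pullback f).map (adj.homEquiv _ _ φ)) (adj.counit.app F)
  · haveI := h
    exact Groth.Agent.GGen15.isGloballyGenerated_of_epi_counit f hF hU
  · refine Groth.Agent.VA11.epi_counit_of_cover f F (fun V : S.affineOpens => V.1) (fun x => ?_) fun V => h V.1 V.2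
    obtain ⟨V, hV, hxV, -⟩ := exists_isAffineOpen_mem_and_subset (x := f x) (U := ⊤) trivial
    exact ⟨⟨V, hV⟩, hxV⟩

end Groth.Agent.S10869
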