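import Groth.Statements.S13895
import Groth.Agent.Lib.RHomRel9.Assemble

set_option autoImplicit false
set_option linter.style.haveILetI false
set_option backward.isDefEq.respectTransparency false
universe u
open CategoryTheory CategoryTheory.Limits MonoidalCategory
attribute [local instance] HasDerivedCategory.standard
open DTen

namespace Groth.Agent.S13895

/-- For a map of commutative rings `φ : R → A` with `A` perfect as an `R`-module (its image `A[0]` in
`D(R)` is isomorphic to a bounded complex of finite projective modules), the right adjoint `RHom(A,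
-) : D(R) ⥤ D(A)` of restriction is isomorphic, as a functor, to `K ↦ K ⊗^L_R M` where `M = RHom(A,
R) ∈ D(A)` and `⊗^L_R` is the mixed derived tensor product `D(R) × D(A) ⥤ D(A)`. Existence of an
isomorphism of functors only: the published statement names no map. (Existence of the right adjoint
and of the mixed derived tensor product is assumed as hypotheses.) -/
theorem result (R A : Type u) [CommRing R] [CommRing A]
    (φ : R →+* A) [DTen.HasRHomRel φ] [DTen.HasLTenMix φ]
    (hA : DRing.IsPerfect R ((DRing.restrictD φ).obj (DTen.unit A))) :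
    Nonempty (DTen.RHomRel φ ≅
      (Functor.curry.obj (DTen.LTenMix φ)).flip.obj ((DTen.RHomRel φ).obj (DTen.unit R))) := by
  haveI := KFlat.DT.hasLTen (R := R)
  haveI := KFlat.HomD.hasRHom R
  haveI := KFlat.DT.hasLTen₃ (R := R)
  haveI := KFlat.DT.isSymMonoidal (R := R)
  obtain ⟨E, a, b, hb, hE, hP, ⟨eE⟩⟩ := KFlat.HomD.exists_strictlyPerfect_rep hA
  haveI := hP
  obtain ⟨q, hq⟩ := DMod.exists_map_eq (P := E)
    (eE.hom ≫ (DTen.resFactors φ).hom.app (𝟙_ (DRing.Cx A)))
  haveI : IsIso (DerivedCategory.Q.map q) := by rw [hq]; infer_instance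
  obtain ⟨W, j, hW, hj, -, -⟩ := KInjLib.exists_resolution (𝟙_ (DRing.Cx R))
  haveI := hW
  haveI := hj
  let C := (DCpl.coextC φ).obj W
  let N := (KFlat.DT.res A).obj C
  let ν := (KFlat.DT.aug A).app C
  haveI : QuasiIso ν := KFlat.DT.qis_aug C
  haveI := RHomRel9.isIso_eta φ N ν j (KFlat.DT.isKFlat_res C) q a b hb hE
  haveI := RHomRel9.isIso_cT φ W
  let eM : DerivedCategory.Q.obj N ≅ (DTen.RHomRel φ).obj (DTen.unit R) :=
    asIso (DerivedCategory.Q.map ν) ≪≫ asIso (RHomRel9.cT φ W) ≪≫
      (DTen.RHomRel φ).mapIso (asIso (DerivedCategory.Q.map j)).symm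
  exact ⟨(asIso (RHomRel9.eta φ N ν j)).symm ≪≫ (Functor.curry.obj (DTen.LTenMix φ)).flip.mapIso eM⟩

end Groth.Agent.S13895
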