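import Groth.Statements.S19945
import Groth.Agent.Lib.ThetaGrp19.AV
import Groth.Agent.Lib.AbDual21.PicZero

set_option autoImplicit false
universe u
open CategoryTheory MonoidalCategory CartesianMonoidalCategory MonObj GrpObj AlgebraicGeometry
open ThetaGrp

namespace Groth.Agent.S19945

set_option backward.isDefEq.respectTransparency.types false
open CategoryTheory.Limits CategoryTheory.Pseudofunctor Groth.Agent.ThetaGrp19 Groth.Agent.PicDesc21


/-- Let X be an abelian variety over a field k (a proper, geometrically integral, commutative k-group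
scheme), L an invertible O_X-module and i : K → X a closed immersion exhibiting K as K(L), the
maximal closed subscheme of X over which the Mumford bundle m^*L ⊗ p_1^*L⁻¹ ⊗ p_2^*L⁻¹, restricted
to X ×_k K, is the inverse image of an invertible module on K, with its universal property for
morphisms T → X. For a k-scheme T and a T-valued point x of X, the following are equivalent: x
factors through i; every point of T has an open neighbourhood U over which some point of the theta
group G(L)(U) lies over the restriction of x, that is, there is an isomorphism L_U ≅ t_x^*L_U of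
modules on X ×_k U. In other words the map G(L) → X, (x, φ) ↦ x, has image the subfunctor K(L),
surjectively for the Zariski topology. -/
theorem result (k : Type u) [Field k]
    (A : Over (Spec (CommRingCat.of k))) [GrpObj A] [IsCommMonObj A] [IsProper A.hom] [GeometricallyIntegral A.hom]
    (L : A.left.Modules) (hL : PicF.IsInvertible L)
    (K : Over (Spec (CommRingCat.of k))) (iK : K ⟶ A) (hK : ThetaGrp.IsKL A L iK)
    (T : Over (Spec (CommRingCat.of k))) (x : T ⟶ A) :
    (∃ y : T ⟶ K, y ≫ iK = x) ↔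
      ∀ t : ↥T.left, ∃ U : T.left.Opens, t ∈ U ∧
        ∃ β : ThetaGrp.thetaPts A L (Over.mk (U.ι ≫ T.hom)),
          ThetaGrp.IsOverPt β ((Over.homMk U.ι rfl : Over.mk (U.ι ≫ T.hom) ⟶ T) ≫ x) := by
  have hA := hzero_of_field A
  constructor
  · intro hy t
    exact exists_pt_of_mumfordTriv hL ((hK.univ T x).2 hy) t
  · intro h
    refine (hK.univ T x).1 ?_
    have hσ : η[A].left ≫ A.hom = 𝟙 _ := Over.w η[A]
    have hl : PicF.IsInvertibleCl (PicF.cl L) := ⟨L, rfl, hL⟩
    let c := PicF.pullCl (transl A x ≫ fst A T).left (PicF.cl L)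
    let c' := PicGrp.mulCl (PicF.pullCl (fst A T).left (PicF.cl L))
      (PicF.pullCl ((snd A T).left ≫ x.left) (PicF.cl L))
    have hc : PicF.IsInvertibleCl c := isInvertibleCl_pull _ hl
    have hc' : PicF.IsInvertibleCl c' :=
      Groth.Agent.M2.isInvertibleCl_mulCl (isInvertibleCl_pull _ hl) (isInvertibleCl_pull _ hl)
    have hloc : ∀ t : T.left, ∃ U : T.left.Opens, t ∈ U ∧
        PicF.pullCl (A ◁ (Over.homMk U.ι rfl : Over.mk (U.ι ≫ T.hom) ⟶ T)).left c =
          PicF.pullCl (A ◁ (Over.homMk U.ι rfl : Over.mk (U.ι ≫ T.hom) ⟶ T)).left c' := by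
      intro t
      obtain ⟨U₁, htU₁, γ, hγ⟩ := h t
      obtain ⟨U₂, htU₂, ⟨i⟩⟩ := PicLoc.isInvertible_pullback x.left hL t
      refine ⟨U₁ ⊓ U₂, ⟨htU₁, htU₂⟩, ?_⟩
      obtain ⟨i'⟩ := Groth.Agent.M2.nonempty_trivial_mono (inf_le_right : U₁ ⊓ U₂ ≤ U₂) i
      let g : Over.mk ((U₁ ⊓ U₂).ι ≫ T.hom) ⟶ T := Over.homMk (U₁ ⊓ U₂).ι rfl
      let a : Over.mk ((U₁ ⊓ U₂).ι ≫ T.hom) ⟶ Over.mk (U₁.ι ≫ T.hom) :=
        Over.homMk (T.left.homOfLE inf_le_left) (by simp)
      have ea : a ≫ Over.homMk U₁.ι rfl = g := Over.OverMorphism.ext (by simp [a, g])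
      obtain ⟨δ, hδ, -⟩ := exists_restrictPt a γ hγ
      rw [← Category.assoc, ea] at hδ
      have h1 : (A ◁ g).left ≫ (transl A x ≫ fst A T).left = (transl A (g ≫ x) ≫ fst A _).left := by
        rw [← Over.comp_left, ← whiskerLeft_mul, ← whiskerLeft_mul, ← Category.assoc,
          ← MonoidalCategory.whiskerLeft_comp]
      have h2 : (A ◁ g).left ≫ (fst A T).left = (fst A _).left := by rw [← Over.comp_left, whiskerLeft_fst]
      have h3 : (A ◁ g).left ≫ (snd A T).left ≫ x.left =
          (snd A (Over.mk ((U₁ ⊓ U₂).ι ≫ T.hom))).left ≫ (U₁ ⊓ U₂).ι ≫ x.left := by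
        rw [← Over.comp_left_assoc, whiskerLeft_snd, Over.comp_left, Category.assoc]; rfl
      show PicF.pullCl (A ◁ g).left c = PicF.pullCl (A ◁ g).left c'
      rw [pullCl_mulCl, pullCl_pullCl, pullCl_pullCl, pullCl_pullCl, h1, h2, h3, ← pullCl_of_pt hδ,
        ← pullCl_pullCl _ ((U₁ ⊓ U₂).ι ≫ x.left), ← pullCl_pullCl (U₁ ⊓ U₂).ι x.left, PicLoc.pullCl_cl x.left,
        pullCl_ι_of_trivial i', pullCl_structure, mulCl_one]
    choose U htU hU using hloc
    have hcc : c = c' := by
      refine cl_eq_of_local (f := A.hom) hA η[A].left hσ (T := T) hc hc' ?_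
        (R := Presieve.ofArrows (fun t => (U t : Scheme.{u})) fun t => (U t).ι) ?_ ?_
      · rw [Groth.Agent.AbDual21.secT_eq (X := A) η[A] hσ T]
        show PicF.pullCl (lift (toUnit T ≫ η[A]) (𝟙 T)).left (PicF.pullCl _ _) =
          PicF.pullCl _ (PicGrp.mulCl (PicF.pullCl _ _) (PicF.pullCl _ _))
        have e1 : (lift (toUnit T ≫ η[A]) (𝟙 T)).left ≫ (transl A x ≫ fst A T).left = x.left := by
          rw [← Over.comp_left, transl_fst, comp_mul, lift_fst, lift_snd_assoc, Category.id_comp,
            ← Hom.one_def, _root_.one_mul]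
        have e2 : (lift (toUnit T ≫ η[A]) (𝟙 T)).left ≫ (fst A T).left = (toUnit T).left ≫ η[A].left := by
          rw [← Over.comp_left, lift_fst, Over.comp_left]
        have e3 : (lift (toUnit T ≫ η[A]) (𝟙 T)).left ≫ (snd A T).left ≫ x.left = x.left := by
          rw [← Over.comp_left_assoc, lift_snd, Over.id_left, Category.id_comp]
        have e4 : PicF.IsTrivialCl (PicF.pullCl η[A].left (PicF.cl L)) :=
          Groth.Agent.AbDual21.isTrivialCl_spec_field (Ω := k) (isInvertibleCl_pull _ hl)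
        rw [pullCl_mulCl, pullCl_pullCl, pullCl_pullCl, pullCl_pullCl, e1, e2, e3, ← pullCl_pullCl _ η[A].left,
          show PicF.pullCl (toUnit T).left (PicF.pullCl η[A].left (PicF.cl L)) = _ from
            pullCl_trivial (toUnit T).left e4, Groth.Agent.M2.one_mulCl]
      · refine Scheme.zariskiPrecoverage_le_fppfPrecoverage _ ?_
        rw [Scheme.zariskiPrecoverage, Scheme.ofArrows_mem_precoverage_iff]
        exact ⟨fun t => ⟨t, ⟨t, htU t⟩, rfl⟩, fun t => inferInstance⟩
      · rintro _ _ ⟨t⟩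
        rw [Groth.Agent.AbDual21.XTmap_eq (X := A)]
        exact hU t
    refine ⟨Coh.structureModule T.left, PicLoc.isInvertible_structureModule _, ?_⟩
    refine (PicGrp.cl_eq_cl_iff _ _).1 ?_
    rw [← PicGrp.mulCl_cl, ← PicGrp.mulCl_cl, ← PicLoc.pullCl_cl, ← PicLoc.pullCl_cl, ← PicLoc.pullCl_cl,
      ← PicLoc.pullCl_cl, pullCl_structure, Groth.Agent.M2.one_mulCl, show (snd A T ≫ x).left = (snd A T).left ≫ x.left from rfl,
      whiskerLeft_mul]
    exact hcc.symm

end Groth.Agent.S19945
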