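import Groth.Statements.S19949
import Groth.Agent.Lib.ThetaGrp19.Kernel
import Groth.Agent.S19945

set_option autoImplicit false
universe u
open CategoryTheory MonoidalCategory CartesianMonoidalCategory MonObj GrpObj AlgebraicGeometry
open ThetaGrp

namespace Groth.Agent.S19949

set_option backward.isDefEq.respectTransparency.types false
open CategoryTheory.Limits CategoryTheory.Pseudofunctor Groth.Agent.ThetaGrp19


/-- Let f : X → Y be a surjective homomorphism of abelian varieties over a field k (proper,
geometrically integral, commutative k-group schemes), i : N → X its kernel (a homomorphism forming a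
cartesian square with the unit section of Y), M an invertible O_Y-module and L = f^*M. Let i_L : K_L
→ X and i_M : K_M → Y be closed immersions exhibiting K_L as K(L) and K_M as K(M): the maximal
closed subschemes over which the Mumford bundles of L, resp. M, restricted to X ×_k K_L, resp. Y ×_k
K_M, are inverse images of invertible modules on K_L, resp. K_M, with their universal properties.
Then f⁻¹(K(M)) = Ker(f)^⊥ inside K(L): for a k-scheme T and a T-valued point x of X, the point f(x)
factors through i_M if and only if x factors through i_L and x is orthogonal to N for the commutator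
pairing e_L, meaning that after every base change T' → T every point of G(L)(T') lying over the
translation by x commutes with every point lying over the translation by a point of N. (In
particular every point x with f(x) in K(M) lies in K(f^*M). The source's further identifications of
G(M) with the centralizer of the level subgroup modulo it, and of K(M) with Ker(f)^⊥/Ker(f), are not
part of this statement.) -/
theorem result (k : Type u) [Field k]
    (A : Over (Spec (CommRingCat.of k))) [GrpObj A] [IsCommMonObj A] [IsProper A.hom] [GeometricallyIntegral A.hom]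
    (B : Over (Spec (CommRingCat.of k))) [GrpObj B] [IsCommMonObj B] [IsProper B.hom] [GeometricallyIntegral B.hom]
    (f : A ⟶ B) [IsMonHom f] (hf : Surjective f.left)
    (N : Over (Spec (CommRingCat.of k))) [GrpObj N] (i : N ⟶ A) [IsMonHom i] (hN : AlgGrp.IsKernel i f)
    (M : B.left.Modules) (hM : PicF.IsInvertible M)
    (KL : Over (Spec (CommRingCat.of k))) (iL : KL ⟶ A)
    (hKL : ThetaGrp.IsKL A ((Scheme.Modules.pullback f.left).obj M) iL)
    (KM : Over (Spec (CommRingCat.of k))) (iM : KM ⟶ B) (hKM : ThetaGrp.IsKL B M iM)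
    (T : Over (Spec (CommRingCat.of k))) (x : T ⟶ A) :
    (∃ y : T ⟶ KM, y ≫ iM = x ≫ f) ↔
      ((∃ y : T ⟶ KL, y ≫ iL = x) ∧ ThetaGrp.IsPerpPt ((Scheme.Modules.pullback f.left).obj M) i x) := by
  have hA := hzero_of_field A
  have hL : PicF.IsInvertible ((Scheme.Modules.pullback f.left).obj M) := PicLoc.isInvertible_pullback _ hM
  have hi : i ≫ f = 1 := by rw [hN.w, Hom.one_def]
  constructor
  · intro hKM'
    have hloc := (Groth.Agent.S19945.result k B M hM KM iM hKM T (x ≫ f)).1 hKM'
    refine ⟨(Groth.Agent.S19945.result k A _ hL KL iL hKL T x).2 fun t => ?_, fun T' φ y β₁ β₂ h₁ h₂ => ?_⟩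
    · obtain ⟨U, htU, γ, hγ⟩ := hloc t
      obtain ⟨π, hπ, -⟩ := exists_mapPt f M ((Over.homMk U.ι rfl : Over.mk (U.ι ≫ T.hom) ⟶ T) ≫ x) γ
        (by rw [Category.assoc]; exact hγ)
      exact ⟨U, htU, π, hπ⟩
    · have hloc' : ∃ y' : T' ⟶ KM, y' ≫ iM = (φ ≫ x) ≫ f := by
        obtain ⟨y', hy'⟩ := hKM'
        exact ⟨φ ≫ y', by rw [Category.assoc, hy', Category.assoc]⟩
      refine commute_kernel f hA hM (by rw [Category.assoc, hi, MonObj.comp_one]) (fun t => ?_) h₁ h₂
      exact (Groth.Agent.S19945.result k B M hM KM iM hKM T' ((φ ≫ x) ≫ f)).1 hloc' t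
  · rintro ⟨hx, hperp⟩
    refine (Groth.Agent.S19945.result k B M hM KM iM hKM T (x ≫ f)).2 fun t => ?_
    obtain ⟨U, htU, β, hβ⟩ := (Groth.Agent.S19945.result k A _ hL KL iL hKL T x).1 hx t
    let g : Over.mk (U.ι ≫ T.hom) ⟶ T := Over.homMk U.ι rfl
    have := hf
    obtain ⟨γ, hγ⟩ := exists_descPt f hM i hN hβ fun β' b h₁ h₂ =>
      hperp _ (snd N _ ≫ g) (fst N _) β' b (by rw [Category.assoc]; exact h₁) h₂
    exact ⟨U, htU, γ, by rw [← Category.assoc]; exact hγ⟩

end Groth.Agent.S19949
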