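import Groth.Statements.S18070
import Groth.Agent.Lib.AffGrp19.AntiAff

set_option autoImplicit false
universe u
open CategoryTheory MonoidalCategory CartesianMonoidalCategory MonObj GrpObj AlgebraicGeometry CategoryTheory.Limits
open AlgGrp

namespace Groth.Agent.S18070

/-- Let k be a field and 1 → G₁ → G → G₂ → 1 an exact sequence of k-group schemes of finite type with
G₁, G₂ connected (i : G₁ → G a homomorphism and closed immersion which is the kernel of the flat
surjective homomorphism q : G → G₂). Anti-affineness passes from G to the quotient G₂; in the other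
direction, G is anti-affine whenever G₁ and G₂ both are. -/
theorem result (k : Type u) [Field k]
    (G₁ G G₂ : Over (Spec (CommRingCat.of k))) [GrpObj G₁] [LocallyOfFiniteType G₁.hom] [QuasiCompact G₁.hom] [ConnectedSpace ↥G₁.left]
    [GrpObj G] [LocallyOfFiniteType G.hom] [QuasiCompact G.hom]
    [GrpObj G₂] [LocallyOfFiniteType G₂.hom] [QuasiCompact G₂.hom] [ConnectedSpace ↥G₂.left]
    (i : G₁ ⟶ G) [IsMonHom i] [IsClosedImmersion i.left] (q : G ⟶ G₂) [IsMonHom q] [Surjective q.left] [Flat q.left]
    (hex : AlgGrp.IsKernel i q) :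
    (Function.Bijective ((Scheme.ΓSpecIso (CommRingCat.of k)).inv ≫ G.hom.appTop).hom → Function.Bijective ((Scheme.ΓSpecIso (CommRingCat.of k)).inv ≫ G₂.hom.appTop).hom) ∧
    (Function.Bijective ((Scheme.ΓSpecIso (CommRingCat.of k)).inv ≫ G₁.hom.appTop).hom → Function.Bijective ((Scheme.ΓSpecIso (CommRingCat.of k)).inv ≫ G₂.hom.appTop).hom → Function.Bijective ((Scheme.ΓSpecIso (CommRingCat.of k)).inv ≫ G.hom.appTop).hom) := by
  refine ⟨fun h => ?_, fun h₁ h₂ => ⟨?_, Groth.Agent.AffGrp19.surjective_struct_of_extension i q hex h₁ h₂⟩⟩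
  · haveI : QuasiCompact q.left := Groth.Agent.AlgGrpBasic19.quasiCompact_left q
    haveI : Epi q.left := inferInstance
    have hinj : Function.Injective q.left.appTop := Groth.Agent.GITQuot.appTop_injective_of_epi q.left
    have e : ∀ x, q.left.appTop (((Scheme.ΓSpecIso (CommRingCat.of k)).inv ≫ G₂.hom.appTop) x) =
        ((Scheme.ΓSpecIso (CommRingCat.of k)).inv ≫ G.hom.appTop) x := fun x => by
      rw [← CommRingCat.comp_apply, Category.assoc, ← Scheme.Hom.comp_appTop, Over.w q]
    refine ⟨fun a b hab => h.1 ?_, fun s => ?_⟩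
    · rw [← e, ← e]
      exact congrArg _ hab
    · obtain ⟨c, hc⟩ := h.2 (q.left.appTop s)
      exact ⟨c, hinj ((e c).trans hc)⟩
  · intro a b hab
    have := congrArg η[G].left.appTop hab
    rw [← CommRingCat.comp_apply, ← CommRingCat.comp_apply, Category.assoc, ← Scheme.Hom.comp_appTop,
      Over.w η[G]] at this
    exact (Scheme.ΓSpecIso (CommRingCat.of k)).commRingCatIsoToRingEquiv.symm.injective this

end Groth.Agent.S18070
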