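import Groth.Statements.S17098
-- import your own Groth.Agent.* helpers here
import Groth.Agent.Lib.Derived21.Basic
import Groth.Agent.Lib.Derived21.Field
import Groth.Agent.Lib.AffPart25.Smallest
import Groth.Agent.Lib.TorPts21.SemisimpleField

set_option autoImplicit false
universe u
open CategoryTheory MonoidalCategory CartesianMonoidalCategory MonObj GrpObj AlgebraicGeometry
open AGF

namespace Groth.Agent.S17098

open TorPts21 Limits
open scoped commutatorElement

set_option backward.isDefEq.respectTransparency false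
set_option backward.isDefEq.respectTransparency.types false
set_option linter.style.haveILetI false

variable {k : Type u} [Field k]

/-- A group whose commutator morphism generates it has, geometrically, only commutators as points. -/
theorem commutator_bc_eq_top (G : Over (Spec (CommRingCat.of k))) [GrpObj G] [IsAffine G.left] [Smooth G.hom]
    [ConnectedSpace G.left] {N : Over (Spec (CommRingCat.of k))} [GrpObj N] (i : N ⟶ G) [IsMonHom i] [IsIso i]
    (f' : G ⊗ G ⟶ N) (hf' : f' ≫ i = GrpGen20.commHom (𝟙 G) (𝟙 G))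
    (hgen : ∀ (D : Over (Spec (CommRingCat.of k))) (_ : GrpObj D) (c : D ⟶ N), IsMonHom c → IsClosedImmersion c.left →
      (∃ f'' : G ⊗ G ⟶ D, f'' ≫ c = f') → ∀ (T : Over (Spec (CommRingCat.of k))) (g : T ⟶ N), ∃ z, z ≫ c = g)
    {K : Type u} [Field K] [IsAlgClosed K] (σ : Spec (CommRingCat.of K) ⟶ Spec (CommRingCat.of k)) :
    commutator (VecGrp.pt K K ⟶ Red.bc σ G) = ⊤ := by
  let F := Over.pullback σ
  haveI : IsAffine (Red.bc σ G).left := BorelFix21.isAffine_bc σ G
  haveI : Smooth (Red.bc σ G).hom := BorelFix21.smooth_bc σ G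
  haveI : ConnectedSpace (Red.bc σ G).left := BorelFix21.connectedSpace_bc σ G
  obtain ⟨R, _, ρ, hrm, hρc, -, -, hpts⟩ := Derived21.exists_derived (G := Red.bc σ G)
  haveI := hrm
  haveI := hρc
  let GK := Red.bc σ G
  let ev : (𝟙_ (Over (Spec (CommRingCat.of K))) ⟶ GK) →* (VecGrp.pt K K ⟶ GK) :=
    MonoidHom.mk' (fun g => gpt g) fun a b => MonObj.comp_mul _ a b
  have hsurj : Function.Surjective ev := fun y => exists_gpt y
  have htop : Subgroup.map ev (⊤ : Subgroup _) = ⊤ := Subgroup.map_top_of_surjective ev hsurj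
  have hmap : (commutator (𝟙_ (Over (Spec (CommRingCat.of K))) ⟶ GK)).map ev = commutator (VecGrp.pt K K ⟶ GK) := by
    rw [commutator_def, Subgroup.map_commutator, htop, commutator_def]
  let ψ : GK ⊗ GK ⟶ GK := GrpGen20.commHom (𝟙 _) (𝟙 _)
  haveI : Smooth (GK ⊗ GK).hom :=
    inferInstanceAs (Smooth (pullback.fst (Red.bc σ G).hom (Red.bc σ G).hom ≫ (Red.bc σ G).hom))
  haveI : IsAffine (GK ⊗ GK).left :=
    inferInstanceAs (IsAffine (pullback (Red.bc σ G).hom (Red.bc σ G).hom))
  obtain ⟨g, hg⟩ := exists_lift_of_pts ρ ψ fun x => by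
    have hx : x ≫ ψ ∈ commutator (VecGrp.pt K K ⟶ GK) := by
      show x ≫ GrpGen20.commHom (𝟙 GK) (𝟙 GK) ∈ _
      rw [GrpGen20.comp_commHom]
      exact Subgroup.commutator_mem_commutator (Subgroup.mem_top _) (Subgroup.mem_top _)
    rw [← hmap] at hx
    obtain ⟨y, hy, hxy⟩ := hx
    obtain ⟨d, rfl⟩ := hpts.symm.subset hy
    exact ⟨gpt d, by rw [← hxy]; exact Category.assoc _ _ _⟩
  haveI : Mono ρ := Over.mono_of_mono_left ρ
  obtain ⟨j, hj⟩ := GrpGen20.exists_factor_bc f' hgen i σ R ρ ⟨Functor.OplaxMonoidal.δ F G G ≫ g, by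
    rw [Category.assoc, hg, hf', show ψ = Functor.LaxMonoidal.μ F G G ≫ F.map (GrpGen20.commHom (𝟙 G) (𝟙 G)) by
      rw [GrpGen20.map_commHom]; simp [ψ, F, GK], Functor.Monoidal.δ_μ_assoc]⟩
  refine eq_top_iff.2 fun x _ => ?_
  obtain ⟨y, rfl⟩ := hsurj x
  rw [← hmap]
  refine ⟨y, ?_, rfl⟩
  have he : (y ≫ inv (F.map i) ≫ j) ≫ ρ = y := by
    simp only [Category.assoc, hj]
    exact (congrArg (y ≫ ·) (IsIso.inv_hom_id (F.map i))).trans (Category.comp_id y)
  exact hpts.subset ⟨_, he⟩

/-- A group scheme whose quotient by a subgroup containing all commutators is abelian. -/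
theorem isCommMonObj_quotient {G Q N : Over (Spec (CommRingCat.of k))} [GrpObj G] [GrpObj Q] (i : N ⟶ G)
    (q : G ⟶ Q) [IsMonHom q] [Flat q.left] [Surjective q.left] [QuasiCompact q.left] (hk : AlgGrp.IsKernel i q)
    (hc : ∀ (T : Over (Spec (CommRingCat.of k))) (a b : T ⟶ G), ∃ z : T ⟶ N, z ≫ i = ⁅a, b⁆) : IsCommMonObj Q := by
  have hcomm : ∀ {T : Over (Spec (CommRingCat.of k))} (a b : T ⟶ G), (a * b) ≫ q = (b * a) ≫ q := fun a b => by
    obtain ⟨z, hz⟩ := hc _ a b
    have h1 : ⁅a, b⁆ ≫ q = 1 := by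
      rw [← hz, Category.assoc, hk.w, ← Category.assoc, comp_toUnit, ← Hom.one_def]
    rw [show a * b = ⁅a, b⁆ * (b * a) by simp only [commutatorElement_def]; group, MonObj.mul_comp, h1, _root_.one_mul]
  haveI : Flat (q ⊗ₘ q).left ∧ Surjective (q ⊗ₘ q).left ∧ QuasiCompact (q ⊗ₘ q).left := by
    rw [MonoidalCategory.tensorHom_def, Over.comp_left]
    have h1 := (AbRigid.isPullback_whiskerRight q G).map (Over.forget _)
    have h2 := (AbRigid.isPullback_whiskerLeft q Q).map (Over.forget _)
    haveI : Surjective (q ▷ G).left := MorphismProperty.of_isPullback h1 ‹Surjective q.left›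
    haveI : Flat (q ▷ G).left := MorphismProperty.of_isPullback h1 ‹Flat q.left›
    haveI : QuasiCompact (q ▷ G).left := MorphismProperty.of_isPullback h1 ‹QuasiCompact q.left›
    haveI : Surjective (Q ◁ q).left := MorphismProperty.of_isPullback h2 ‹Surjective q.left›
    haveI : Flat (Q ◁ q).left := MorphismProperty.of_isPullback h2 ‹Flat q.left›
    haveI : QuasiCompact (Q ◁ q).left := MorphismProperty.of_isPullback h2 ‹QuasiCompact q.left›
    exact ⟨inferInstance, inferInstance, inferInstance⟩
  obtain ⟨hf, hs, hq⟩ := this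
  haveI := hf; haveI := hs; haveI := hq
  haveI := AlgGrpBasic19.epi_of_cover (q ⊗ₘ q)
  refine ⟨(cancel_epi (q ⊗ₘ q)).1 ?_⟩
  have e1 : (q ⊗ₘ q) ≫ μ[Q] = (fst G G * snd G G) ≫ q := by
    rw [← IsMonHom.mul_hom (f := q), Hom.mul_def, lift_fst_snd, Category.id_comp]
  have e2 : (q ⊗ₘ q) ≫ (BraidedCategory.braiding Q Q).hom ≫ μ[Q] = (snd G G * fst G G) ≫ q := by
    rw [BraidedCategory.braiding_naturality_assoc, ← IsMonHom.mul_hom (f := q), ← Category.assoc,
      show (BraidedCategory.braiding G G).hom = lift (snd G G) (fst G G) from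
        CartesianMonoidalCategory.hom_ext _ _ (by simp) (by simp), Hom.mul_def]
  rw [e2, hcomm, e1]

theorem isIso_of_exists_lift {N G : Over (Spec (CommRingCat.of k))} (i : N ⟶ G) [Mono i] (r : G ⟶ N)
    (hr : r ≫ i = 𝟙 G) : IsIso i :=
  ⟨r, (cancel_mono i).1 (by rw [Category.assoc, hr, Category.comp_id, Category.id_comp]), hr⟩

set_option maxHeartbeats 1000000 in
/-- Perfect for homomorphisms to commutative groups implies perfect geometric points. -/
theorem commutator_eq_top_of_hom_to_comm_trivial (G : Over (Spec (CommRingCat.of k))) [GrpObj G] [IsAffine G.left]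
    [Smooth G.hom] [ConnectedSpace G.left]
    (hperf : ∀ (H : Over (Spec (CommRingCat.of k))) [GrpObj H] [IsCommMonObj H] (f : G ⟶ H) [IsMonHom f],
      f = toUnit G ≫ η[H]) {K : Type u} [Field K] [IsAlgClosed K]
    (σ : Spec (CommRingCat.of K) ⟶ Spec (CommRingCat.of k)) :
    commutator (VecGrp.pt K K ⟶ Red.bc σ G) = ⊤ := by
  haveI : QuasiCompact G.hom := GrpGen20.quasiCompact_of_connected G
  haveI : GeometricallyReduced G.hom := AbRigid.geometricallyReduced_of_smooth G.hom
  haveI : GeometricallyReduced (G ⊗ G).hom := GrpGen20.geometricallyReduced_tensorObj _ _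
  haveI : GeometricallyConnected G.hom := GrpGen20.geometricallyConnected_of_connected G
  haveI : ConnectedSpace (G ⊗ G).left := inferInstanceAs (ConnectedSpace ↥(Limits.pullback G.hom G.hom))
  let φ : G ⊗ G ⟶ G := GrpGen20.commHom (𝟙 G) (𝟙 G)
  obtain ⟨N, _, i, him, hic, ⟨f', hf'⟩, -, -, hmin⟩ := GrpGen20.exists_generated φ
  haveI := him
  haveI := hic
  haveI : Mono i := Over.mono_of_mono_left i
  have hgen : ∀ (D : Over (Spec (CommRingCat.of k))) (_ : GrpObj D) (c : D ⟶ N), IsMonHom c → IsClosedImmersion c.left →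
      (∃ f'' : G ⊗ G ⟶ D, f'' ≫ c = f') → ∀ (T : Over (Spec (CommRingCat.of k))) (g : T ⟶ N), ∃ z, z ≫ c = g := by
    intro D hD c hc1 hc2 hc3 T g
    obtain ⟨d, hd⟩ := hc3
    haveI := hc2
    haveI : IsClosedImmersion (c ≫ i).left := by rw [Over.comp_left]; infer_instance
    obtain ⟨l, hl⟩ := hmin D hD (c ≫ i) inferInstance inferInstance
      ⟨d, by rw [← Category.assoc, hd, hf']⟩
    exact ⟨g ≫ l, by rw [← cancel_mono i, Category.assoc, Category.assoc, hl]⟩
  have hφ : ∀ {T : Over (Spec (CommRingCat.of k))} (a b : T ⟶ G), lift a b ≫ φ = ⁅a, b⁆ := fun a b => by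
    show lift a b ≫ GrpGen20.commHom (𝟙 G) (𝟙 G) = _
    rw [GrpGen20.comp_commHom, lift_fst, lift_snd, Category.comp_id, Category.comp_id]
  have hnorm : AlgGrp.IsNormalHom i := Derived21.isNormalHom_of_generated i f' hgen fun T x g => by
    refine ⟨lift (g * (x ≫ fst G G) * g⁻¹) (g * (x ≫ snd G G) * g⁻¹) ≫ f', ?_⟩
    rw [Category.assoc, hf', hφ, Category.assoc, hf',
      show x = lift (x ≫ fst G G) (x ≫ snd G G) by simp [← comp_lift], hφ, lift_fst, lift_snd]
    simp only [commutatorElement_def]
    group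
  obtain ⟨Q, _, q, hqm, hqf, hqs, hqc, -, hk, -, -⟩ := AffPart25.exists_quotient_any i hnorm
  haveI := hqm; haveI := hqf; haveI := hqs; haveI := hqc
  haveI : IsCommMonObj Q := isCommMonObj_quotient i q hk fun T a b => ⟨lift a b ≫ f', by
    rw [Category.assoc, hf', hφ]⟩
  haveI := isIso_of_exists_lift i (hk.lift (𝟙 G) (toUnit G) (by rw [Category.id_comp]; exact hperf Q q))
    (hk.lift_fst _ _ _)
  exact commutator_bc_eq_top G i f' hf' hgen σ

/-- Let k be a field and G a reductive k-group scheme (affine, smooth, with connected reductive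
geometric fibre). If G is perfect, i.e. every homomorphism from G to a commutative k-group scheme is
trivial, then G is semisimple. (The published equivalence of the three conditions 'the geometric
radical is trivial', 'reductive with finite centre', 'reductive with perfect identity component' is
asserted for smooth affine groups that need not be connected; the orthogonal group O_2 in
characteristic different from 2 has finite centre and unipotent radical 1 while its identity
component SO_2 is a non-trivial torus, so the equivalence holds only for connected G, where the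
other implications are the finite-centre criterion and the perfectness of semisimple groups.) -/
theorem result (k : Type u) [Field k]
    (G : Over (Spec (CommRingCat.of k))) [GrpObj G] (hG : Red.IsReductive G)
    (hperf : ∀ (H : Over (Spec (CommRingCat.of k))) [GrpObj H] [IsCommMonObj H] (f : G ⟶ H) [IsMonHom f], f = toUnit G ≫ η[H]) :
    Red.IsSemisimple G := by
  obtain ⟨hGa, hGs, hGc⟩ := TorPts21.props_of_isReductive hG
  haveI := hGa
  haveI := hGs
  haveI := hGc
  refine ⟨hG.1, hG.2.1, fun s => ?_⟩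
  haveI : IsAffine (Red.geomFibre s G).left := BorelFix21.isAffine_bc _ G
  haveI : Smooth (Red.geomFibre s G).hom := BorelFix21.smooth_bc _ G
  haveI : ConnectedSpace (Red.geomFibre s G).left := BorelFix21.connectedSpace_bc _ G
  exact TorPts21.isSemisimpleOver_of_perfect (hG.2.2 s)
    (commutator_eq_top_of_hom_to_comm_trivial G hperf (Red.geomPt s))

end Groth.Agent.S17098
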