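import Groth.Statements.S5770
import Groth.Agent.Lib.HilbSam.Param
import Mathlib.RingTheory.Regular.RegularSequence
import Mathlib.RingTheory.LocalRing.MaximalIdeal.Basic

set_option autoImplicit false
universe u
open EGA41

namespace Groth.Agent.S5770

open TensorProduct in
/-- Let φ : A → B be a local homomorphism of Noetherian local rings, m the maximal ideal of A, k = A/m,
M a finitely generated A-module and N a finitely generated B-module. Then dim_B(M ⊗_A N) ≤ dim_A(M)
+ dim(N ⊗_A k), the last dimension being that of N/mN (over B ⊗_A k or, equivalently by finiteness,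
over B). -/
theorem result (A B : Type u) [CommRing A] [CommRing B] [IsLocalRing A]
    [IsLocalRing B] [IsNoetherianRing A] [IsNoetherianRing B] [Algebra A B] [IsLocalHom (algebraMap A B)]
    (M : Type u) [AddCommGroup M] [Module A M] [Module.Finite A M] (N : Type u) [AddCommGroup N] [Module B N]
    [Module A N] [IsScalarTower A B N] [Module.Finite B N] :
    Module.supportDim B (N ⊗[A] M) ≤ Module.supportDim A M +
      Module.supportDim B (N ⧸ ((IsLocalRing.maximalIdeal A).map (algebraMap A B) • (⊤ : Submodule B N))) := by
  classical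
  rcases subsingleton_or_nontrivial M with hM | hM
  · rw [Module.supportDim_eq_bot_of_subsingleton]
    exact bot_le
  rcases subsingleton_or_nontrivial N with hN | hN
  · rw [Module.supportDim_eq_bot_of_subsingleton]
    exact bot_le
  have hmB : (IsLocalRing.maximalIdeal A).map (algebraMap A B) ≤ IsLocalRing.maximalIdeal B :=
    Ideal.map_le_iff_le_comap.2 fun a ha => map_nonunit (algebraMap A B) a ha
  have : Module.Finite B (N ⊗[A] M) := by
    obtain ⟨a, n, hn⟩ := Submodule.fg_iff_exists_fin_generating_family.1 (Module.Finite.fg_top (R := B) (M := N))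
    obtain ⟨b, m, hm⟩ := Submodule.fg_iff_exists_fin_generating_family.1 (Module.Finite.fg_top (R := A) (M := M))
    refine ⟨Submodule.fg_def.2 ⟨Set.range fun ij : Fin a × Fin b => n ij.1 ⊗ₜ[A] m ij.2, Set.finite_range _,
      eq_top_iff.2 fun z hz0 => ?_⟩⟩
    clear hz0
    induction z with
    | zero => exact zero_mem _
    | add y z hy hz => exact add_mem hy hz
    | tmul y z =>
      have hy : y ∈ Submodule.span B (Set.range n) := hn ▸ Submodule.mem_top
      induction hy using Submodule.span_induction with
      | zero => rw [TensorProduct.zero_tmul]; exact zero_mem _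
      | add p q _ _ h1 h2 => rw [TensorProduct.add_tmul]; exact add_mem h1 h2
      | smul c p _ h1 => rw [← TensorProduct.smul_tmul']; exact Submodule.smul_mem _ c h1
      | mem p hp =>
        obtain ⟨i, rfl⟩ := hp
        have hz : z ∈ Submodule.span A (Set.range m) := hm ▸ Submodule.mem_top
        induction hz using Submodule.span_induction with
        | zero => rw [TensorProduct.tmul_zero]; exact zero_mem _
        | add p q _ _ h1 h2 => rw [TensorProduct.tmul_add]; exact add_mem h1 h2
        | smul c p _ h1 => rw [TensorProduct.tmul_smul]; exact Submodule.smul_of_tower_mem _ c h1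
        | mem p hp =>
          obtain ⟨j, rfl⟩ := hp
          exact Submodule.subset_span ⟨(i, j), rfl⟩
  let Q := N ⧸ (IsLocalRing.maximalIdeal A).map (algebraMap A B) • (⊤ : Submodule B N)
  have : Nontrivial Q := Submodule.Quotient.nontrivial_iff.2 (Submodule.top_ne_ideal_smul_of_le_jacobson_annihilator
    (hmB.trans (IsLocalRing.maximalIdeal_le_jacobson _))).symm
  obtain ⟨d, hd⟩ := Groth.Agent.HilbSam.exists_supportDim_eq_natCast (A := A) (M := M)
  obtain ⟨e, he⟩ := Groth.Agent.HilbSam.exists_supportDim_eq_natCast (A := B) (M := Q)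
  obtain ⟨xs, hxs, hx, hfx⟩ := Groth.Agent.HilbSam.exists_parameters_list hd.le
  obtain ⟨ys, hys, hy, hfy⟩ := Groth.Agent.HilbSam.exists_parameters_list he.le
  rw [hd, he, ← Nat.cast_add]
  refine (Groth.Agent.HilbSam.supportDim_le_of_list (xs.map (algebraMap A B) ++ ys) ?_ ?_).trans_eq
    (by rw [List.length_append, List.length_map, hxs, hys])
  · intro b hb
    rcases List.mem_append.1 hb with hb | hb
    · obtain ⟨a, ha, rfl⟩ := List.mem_map.1 hb
      rw [IsLocalRing.ringJacobson_eq_maximalIdeal]
      refine hmB (Ideal.mem_map_of_mem _ ?_)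
      rw [← IsLocalRing.ringJacobson_eq_maximalIdeal]
      exact hx a ha
    · exact hy b hb
  · refine Groth.Agent.HilbSam.isFiniteLength_of_support fun P hP => ?_
    rw [Groth.Agent.HilbSam.mem_support_quotient_iff, Ideal.ofList_append, sup_le_iff, ← Ideal.map_ofList,
      Ideal.map_le_iff_le_comap, Module.mem_support_iff_of_finite] at hP
    obtain ⟨hann, hPx, hPy⟩ := hP
    have hPN : P ∈ Module.support B N := by
      rw [Module.mem_support_iff_of_finite]
      refine fun b hb => hann (Module.mem_annihilator.2 fun z => ?_)
      induction z with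
      | zero => rw [smul_zero]
      | add y z hy hz => rw [smul_add, hy, hz, add_zero]
      | tmul y z => rw [TensorProduct.smul_tmul', Module.mem_annihilator.1 hb, TensorProduct.zero_tmul]
    have hPM : (⟨P.asIdeal.comap (algebraMap A B), inferInstance⟩ : PrimeSpectrum A) ∈ Module.support A M := by
      rw [Module.mem_support_iff_of_finite]
      refine fun a ha => hann (Module.mem_annihilator.2 fun z => ?_)
      rw [algebraMap_smul]
      induction z with
      | zero => rw [smul_zero]
      | add y z hy hz => rw [smul_add, hy, hz, add_zero]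
      | tmul y z => rw [← TensorProduct.tmul_smul, Module.mem_annihilator.1 ha, TensorProduct.tmul_zero]
    have hmax : (P.asIdeal.comap (algebraMap A B)).IsMaximal :=
      Groth.Agent.HilbSam.isMaximal_of_mem_support hfx
        (p := ⟨P.asIdeal.comap (algebraMap A B), inferInstance⟩)
        ((Groth.Agent.HilbSam.mem_support_quotient_iff _ _).2 ⟨hPM, hPx⟩)
    refine Groth.Agent.HilbSam.isMaximal_of_mem_support hfy ((Groth.Agent.HilbSam.mem_support_quotient_iff _ _).2
      ⟨(Groth.Agent.HilbSam.mem_support_quotient_iff _ _).2 ⟨hPN, Ideal.map_le_iff_le_comap.2 ?_⟩, hPy⟩)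
    exact (IsLocalRing.eq_maximalIdeal hmax).ge

end Groth.Agent.S5770
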