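import Groth.Statements.S2461
import Groth.Agent.Lib.RegCpl3.Basic
import Groth.Agent.Lib.AdicSmooth.Basic

set_option autoImplicit false
universe u
open EGA41

namespace Groth.Agent.S2461

theorem dense_pow {B : Type u} [CommRing B] (𝔟 : Ideal B) (hb : 𝔟.FG) (n : ℕ) (y : AdicCompletion 𝔟 B) :
    ∃ a : B, y - algebraMap B _ a ∈ (𝔟.map (algebraMap B (AdicCompletion 𝔟 B))) ^ n := by
  induction n generalizing y with
  | zero => exact ⟨0, by simp⟩
  | succ n ih =>
    obtain ⟨a, ha⟩ := ih y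
    suffices ∀ z ∈ (𝔟 ^ n).map (algebraMap B (AdicCompletion 𝔟 B)),
        ∃ c : B, z - algebraMap B _ c ∈ (𝔟.map (algebraMap B (AdicCompletion 𝔟 B))) ^ (n + 1) by
      obtain ⟨c, hc⟩ := this _ (by rw [Ideal.map_pow]; exact ha)
      exact ⟨a + c, by rwa [map_add, ← sub_sub]⟩
    intro z hz
    induction hz using Submodule.span_induction with
    | mem z hz =>
      obtain ⟨c, _, rfl⟩ := hz
      exact ⟨c, by simp⟩
    | zero => exact ⟨0, by simp⟩
    | add x z _ _ hx hz' =>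
      obtain ⟨c, hc⟩ := hx
      obtain ⟨d, hd⟩ := hz'
      exact ⟨c + d, by rw [map_add, add_sub_add_comm]; exact add_mem hc hd⟩
    | smul r x hx' hx =>
      obtain ⟨c, hc⟩ := hx
      obtain ⟨e, he⟩ := (RegCpl3.adicCompletion_data 𝔟 hb).2 r
      have hx'' : x ∈ (𝔟.map (algebraMap B (AdicCompletion 𝔟 B))) ^ n := by
        rw [← Ideal.map_pow]; exact hx'
      refine ⟨e * c, ?_⟩
      have : r • x - algebraMap B _ (e * c) =
          (r - algebraMap B _ e) * x + algebraMap B _ e * (x - algebraMap B _ c) := by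
        rw [map_mul, smul_eq_mul]; ring
      rw [this]
      refine add_mem ?_ (Ideal.mul_mem_left _ _ hc)
      rw [pow_succ']
      exact Ideal.mul_mem_mul he hx''

/-- Let A carry the 𝔞-adic topology and let B be a Noetherian A-algebra with the 𝔟-adic topology. Then B
is formally smooth over A if and only if the 𝔟-adic completion of B, with the adic topology of the
extended ideal, is formally smooth over A. -/
theorem result {A B : Type u} [CommRing A] (𝔞 : Ideal A) [CommRing B] [IsNoetherianRing B] [Algebra A B] (𝔟 : Ideal B) :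
    EGA41.IsFormallySmoothAdic A 𝔞 B 𝔟 ↔
      EGA41.IsFormallySmoothAdic A 𝔞 (AdicCompletion 𝔟 B) (𝔟.map (algebraMap B (AdicCompletion 𝔟 B))) := by
  have hb : 𝔟.FG := IsNoetherian.noetherian 𝔟
  let bh := 𝔟.map (algebraMap B (AdicCompletion 𝔟 B))
  constructor
  · intro h C _ _ J hJ hC u hu
    obtain ⟨k, hk⟩ := hu
    let u₀ : B →ₐ[A] C ⧸ J := u.comp (IsScalarTower.toAlgHom A B (AdicCompletion 𝔟 B))
    have hu₀ : ∃ j : ℕ, ∀ x ∈ 𝔟 ^ j, u₀ x = 0 :=
      ⟨k, fun x hx => hk _ (by rw [← Ideal.map_pow]; exact Ideal.mem_map_of_mem _ hx)⟩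
    obtain ⟨v, hv⟩ := h C J hJ hC u₀ hu₀
    obtain ⟨m, hm⟩ := AdicSmooth.continuous_lift 𝔟 J hJ u₀ hu₀ v hv
    let w : AdicCompletion 𝔟 B →ₐ[A] C :=
      (Ideal.Quotient.liftₐ (𝔟 ^ m) v hm).comp ((AdicCompletion.evalₐ 𝔟 m).restrictScalars A)
    have hw : ∀ x : B, w (algebraMap B (AdicCompletion 𝔟 B) x) = v x := fun x => by
      change Ideal.Quotient.liftₐ (𝔟 ^ m) v hm (AdicCompletion.evalₐ 𝔟 m (algebraMap B _ x)) = _
      rw [AlgHom.commutes]; rfl
    refine ⟨w, AlgHom.ext fun y => ?_⟩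
    obtain ⟨a, ha⟩ := dense_pow 𝔟 hb (max m k) y
    obtain ⟨z, hz, rfl⟩ : ∃ z ∈ bh ^ (max m k), y = algebraMap B _ a + z := ⟨_, ha, by ring⟩
    have h1 : w z = 0 := by
      have : (bh ^ m).map w.toRingHom ≤ ⊥ := by
        rw [← Ideal.map_pow, Ideal.map_map, Ideal.map_le_iff_le_comap]
        intro x hx
        rw [Ideal.mem_comap, Ideal.mem_bot]
        exact (hw x).trans (hm x hx)
      exact (Submodule.mem_bot C).1 (this (Ideal.mem_map_of_mem _ (Ideal.pow_le_pow_right (le_max_left m k) hz)))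
    show Ideal.Quotient.mk J (w (algebraMap B _ a + z)) = u (algebraMap B _ a + z)
    rw [map_add w, map_add u, hk z (Ideal.pow_le_pow_right (le_max_right m k) hz), h1, add_zero,
      add_zero, hw]
    exact AlgHom.congr_fun hv a
  · intro h C _ _ J hJ hC u hu
    obtain ⟨k, hk⟩ := hu
    let u' : AdicCompletion 𝔟 B →ₐ[A] C ⧸ J :=
      (Ideal.Quotient.liftₐ (𝔟 ^ k) u hk).comp ((AdicCompletion.evalₐ 𝔟 k).restrictScalars A)
    have hu'ι : ∀ x : B, u' (algebraMap B (AdicCompletion 𝔟 B) x) = u x := fun x => by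
      change Ideal.Quotient.liftₐ (𝔟 ^ k) u hk (AdicCompletion.evalₐ 𝔟 k (algebraMap B _ x)) = _
      rw [AlgHom.commutes]; rfl
    have hu' : ∀ x ∈ bh ^ k, u' x = 0 := fun x hx => by
      have : (bh ^ k).map u'.toRingHom ≤ ⊥ := by
        rw [← Ideal.map_pow, Ideal.map_map, Ideal.map_le_iff_le_comap]
        intro x hx
        rw [Ideal.mem_comap, Ideal.mem_bot]
        exact (hu'ι x).trans (hk x hx)
      exact (Submodule.mem_bot (C ⧸ J)).1 (this (Ideal.mem_map_of_mem _ hx))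
    obtain ⟨v, hv⟩ := h C J hJ hC u' ⟨k, hu'⟩
    exact ⟨v.comp (IsScalarTower.toAlgHom A B _), AlgHom.ext fun x =>
      (AlgHom.congr_fun hv _).trans (hu'ι x)⟩

end Groth.Agent.S2461
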