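import Groth.Statements.S7676
import Groth.Agent.Lib.Hyperplane18.Zero
import Groth.Agent.Lib.Hyperplane18.Pullback
import Groth.Agent.Lib.Hyperplane18.Subst
import Groth.Agent.Lib.Twist.ProjSpace

set_option autoImplicit false
universe u
open CategoryTheory CategoryTheory.Limits AlgebraicGeometry
open Variety

namespace Groth.Agent.S7676

/-- Let k be a field, n ≥ 1 and i : H → P^n_k a hyperplane, the zero scheme of a nonzero section of
O(1). Then there is an isomorphism φ : P^{n-1}_k → H under which i^*O(1) pulls back to O(1).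
(Indexed here with P^{n+1} and P^n.) -/
theorem result (k : Type u) [Field k] (n : ℕ)
    (s : Coh.structureModule (CohB1.ProjSpace (n + 1) k) ⟶ Twist.twistProjSpace (n + 1) k 1) (hs : s ≠ 0) :
    ∃ φ : CohB1.ProjSpace n k ≅ (PicF2.zeroScheme _ s).subscheme,
      Nonempty ((Scheme.Modules.pullback (φ.hom ≫ (PicF2.zeroScheme _ s).subschemeι)).obj
          (Twist.twistProjSpace (n + 1) k 1) ≅ Twist.twistProjSpace n k 1) := by
  change Coh.structureModule (Proj (CohB1.polyGrading (n + 1) k)) ⟶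
    Twist.twist (CohB1.polyGrading (n + 1) k) 1 at s
  obtain ⟨ℓ, hℓ, hℓ0, hval⟩ := Groth.Agent.Hyperplane18.exists_linearForm k (n + 1) s hs
  obtain ⟨φ, hsurj, hker, hX⟩ := Groth.Agent.Hyperplane18.exists_subst k n ℓ hℓ hℓ0
  have hφ : HomogeneousIdeal.irrelevant (CohB1.polyGrading n k) ≤
      (HomogeneousIdeal.irrelevant (CohB1.polyGrading (n + 1) k)).map φ := by
    rw [← toIdeal_le_toIdeal_iff, HomogeneousIdeal.toIdeal_map]
    refine (Groth.Agent.ProjSpace.irrelevant_le_span n k).trans (Ideal.span_le.2 ?_)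
    rintro _ ⟨i, rfl⟩
    obtain ⟨m, hm⟩ := hX i
    show MvPolynomial.X i ∈ Ideal.map φ _
    rw [← show φ (MvPolynomial.X m) = MvPolynomial.X i from hm]
    refine Ideal.mem_map_of_mem _ ?_
    exact HomogeneousIdeal.mem_irrelevant_of_mem _ Nat.one_pos (Groth.Agent.ProjSpace.X_mem' (n + 1) k m)
  haveI : IsClosedImmersion (Proj.map φ hφ) := by
    classical
    refine Groth.Agent.EGA2.map_of_forall_away φ hφ @IsClosedImmersion fun d hd t ht => ?_
    refine IsClosedImmersion.spec_of_surjective _ (Groth.Agent.EGA2.away_map_surjective φ ?_ hd ht)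
    intro m hm b hb
    obtain ⟨a, rfl⟩ := hsurj b
    refine ⟨(DirectSum.decompose (CohB1.polyGrading (n + 1) k) a m : MvPolynomial (Fin (n + 1 + 1)) k),
      SetLike.coe_mem _, ?_⟩
    rw [GradedRingHom.map_directSumDecompose, DirectSum.decompose_of_mem_same _ hb]
  have hz := Groth.Agent.Hyperplane18.ker_eq_zeroScheme k (n + 1) hℓ φ hφ hker s hℓ0 hval
  obtain ⟨τ⟩ := Groth.Agent.Hyperplane18.nonempty_pullback_twist_one φ hφ
    (Groth.Agent.Twist.iSup_basicOpen_one (n + 1) k)
  let I : (Proj (CohB1.polyGrading (n + 1) k)).IdealSheafData := PicF2.zeroScheme _ s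
  haveI : IsClosedImmersion I.subschemeι := inferInstance
  haveI := IsClosedImmersion.isIso_lift I.subschemeι (Proj.map φ hφ)
    ((Scheme.IdealSheafData.ker_subschemeι _).trans hz.symm)
  let e := asIso (IsClosedImmersion.lift I.subschemeι (Proj.map φ hφ)
    ((Scheme.IdealSheafData.ker_subschemeι _).trans hz.symm).le)
  refine ⟨e, ⟨(Scheme.Modules.pullbackCongr ?_).app _ ≪≫ τ⟩⟩
  exact IsClosedImmersion.lift_fac I.subschemeι _ _

end Groth.Agent.S7676
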