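import Groth.Statements.S4888
import Groth.Agent.Lib.JacobsonDim4

set_option autoImplicit false
universe u
open CategoryTheory AlgebraicGeometry
open EGA43

set_option backward.isDefEq.respectTransparency.types false

namespace Groth.Agent.S4888


open Topology TopologicalSpace Order Groth.Agent.EquidimStalk4 in
theorem dim_open_le {W : Scheme.{u}} {O : Set W} (hO : IsOpen O) {c : WithBot ℕ∞}
    (h : ∀ g, (∀ y, y ⤳ g → y = g) → g ∈ O → topologicalKrullDim ↥(closure {g} : Set W) ≤ c) :
    topologicalKrullDim ↥O ≤ c := by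
  let O' : W.Opens := ⟨O, hO⟩
  show topologicalKrullDim (O' : Scheme.{u}) ≤ c
  rw [VarDim.scheme_dim_eq_iSup_height]
  refine iSup_le fun a => ?_
  obtain ⟨g, hga, hgmax⟩ := EquidimAt4.exists_max_specializes (O'.ι a)
  refine le_trans ?_ (h g hgmax (hga.mem_open hO a.2))
  rw [VarDim.topologicalKrullDim_closure_singleton]
  refine WithBot.coe_le_coe.mpr (le_trans ?_ (height_mono (show O'.ι a ≤ g from hga)))
  refine height_le_height_apply_of_strictMono _ ?_ a
  intro b c hbc
  refine lt_of_le_not_ge (Scheme.le_iff_specializes.2 ((Scheme.le_iff_specializes.1 hbc.le).map O'.ι.continuous))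
    fun hle => hbc.not_ge (Scheme.le_iff_specializes.2 ?_)
  exact O'.ι.isEmbedding.isInducing.specializes_iff.1 (Scheme.le_iff_specializes.1 hle)

open Topology TopologicalSpace Order Groth.Agent.EquidimStalk4 in
theorem key {X W : Scheme.{u}} [IsLocallyNoetherian X] [JacobsonSpace X]
    (h2 : ∀ x : X, CAlg.IsUniversallyCatenary (X.presheaf.stalk x))
    (h3 : ∀ X' ∈ irreducibleComponents (X : Type u), ∀ x ∈ X', IsClosed ({x} : Set X) →
      topologicalKrullDim (↥X' : Type u) = topologicalKrullDim ↥{t : X | t ∈ X' ∧ t ⤳ x})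
    (j : W ⟶ X) [IsImmersion j] (x : W) : ∃ M : WithBot ℕ∞,
      M = topologicalKrullDim ↥(closure {x} : Set W) + ringKrullDim (W.presheaf.stalk x) ∧
      FlatMor.localDim ↥W x = M ∧
      (⨆ C ∈ {C : Set ↥W | C ∈ irreducibleComponents ↥W ∧ x ∈ C}, topologicalKrullDim ↥C) = M ∧
      ∀ O : Set W, IsOpen O → x ∈ O → (∀ C ∈ irreducibleComponents ↥W, x ∉ C → Disjoint O C) →
        topologicalKrullDim ↥O = M := by
  haveI : IsLocallyNoetherian W := LocallyOfFiniteType.isLocallyNoetherian j
  refine ⟨topologicalKrullDim ↥(closure {x} : Set W) + ringKrullDim (W.presheaf.stalk x), rfl, ?_⟩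
  obtain ⟨g₀, hg₀x, hg₀max, hg₀⟩ := exists_cl_dim_eq x
  have e₀ : topologicalKrullDim ↥(closure {g₀} : Set W) =
      topologicalKrullDim ↥(closure {x} : Set W) + ringKrullDim (W.presheaf.stalk x) := by
    obtain ⟨w, hw⟩ := exists_preimage hg₀x
    rw [JacobsonDim4.dim_closure_add h2 h3 j hg₀x w hw, hg₀ w hw]
  have hle : ∀ g, g ⤳ x → topologicalKrullDim ↥(closure {g} : Set W) ≤
      topologicalKrullDim ↥(closure {x} : Set W) + ringKrullDim (W.presheaf.stalk x) := fun g hg => by
    obtain ⟨w, rfl⟩ := exists_preimage hg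
    rw [JacobsonDim4.dim_closure_add h2 h3 j hg w rfl]
    exact add_le_add le_rfl
      (ringKrullDim_le_of_surjective ((clι g).stalkMap w).hom (Scheme.Hom.stalkMap_surjective (clι g) w))
  have hge : ∀ O : Set W, IsOpen O → x ∈ O →
      topologicalKrullDim ↥(closure {g₀} : Set W) ≤ topologicalKrullDim ↥O := fun O hO hxO => by
    obtain ⟨n, hn, hOn, -⟩ := JacobsonDim4.exists_subscheme_dim h2 h3 j g₀
    rw [hn, ← hOn O hO (hg₀x.mem_open hO hxO)]
    exact (IsEmbedding.inclusion Set.inter_subset_left).isInducing.topologicalKrullDim_le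
  refine ⟨?_, ?_, fun O hO hxO hdis => ?_⟩
  · obtain ⟨V, hxV, hV⟩ := FibSub4.exists_opens_max_specializes x
    refine le_antisymm (iInf_le_of_le ⟨V, hxV⟩ ?_) (le_iInf fun U => e₀ ▸ hge _ U.1.2 U.2)
    exact dim_open_le V.2 fun g hgmax hg => hle g (hV g hg hgmax)
  · refine le_antisymm (iSup₂_le fun C hC => ?_) ?_
    · obtain ⟨g, rfl, -⟩ := VarDim.exists_generic_of_mem_irreducibleComponents hC.1
      exact hle g (specializes_iff_mem_closure.2 hC.2)
    · rw [← e₀]
      exact le_iSup₂_of_le (closure {g₀}) ⟨(VarDim.maximal_iff_mem_irreducibleComponents (X := W) g₀).1 hg₀max,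
        specializes_iff_mem_closure.1 hg₀x⟩ le_rfl
  · refine le_antisymm (dim_open_le hO fun g hgmax hg => hle g ?_) (e₀ ▸ hge O hO hxO)
    by_contra hn
    exact Set.disjoint_left.1 (hdis _ ((VarDim.maximal_iff_mem_irreducibleComponents (X := W) g).1 hgmax)
      fun h => hn (specializes_iff_mem_closure.2 h)) hg (subset_closure rfl)


/-- Let X be a locally Noetherian Jacobson scheme whose local rings are universally catenary and whose
irreducible components are equidimensional (for every irreducible component X' and closed point x of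
X', dim X' equals the dimension of the space of generizations of x in X'); let Y be a closed subset
of X and x a point of Y. Then dim_x(Y) = dim(U ∩ Y) = dim cl{x} + codim(cl{x}, Y) = sup_i dim(Y_i);
that is, the local dimension of Y at x equals the dimension of the closure of x plus the codimension
of that closure in Y (the Krull dimension of the space of generizations of x in Y), equals the
supremum of the dimensions of the irreducible components Y_i of Y through x, and equals dim(U ∩ Y)
for every open neighbourhood U of x meeting no irreducible component of Y that avoids x. (The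
published statement assumes only the Jacobson and universally-catenary conditions; its proof applies
the dimension formula for dense opens to the irreducible components, which needs their
equidimensionality, and for an irreducible Noetherian Jacobson scheme with universally catenary
local rings having two closed points with local rings of different dimensions n − 1 and n — such
schemes exist — the two sides differ at the first of these points; so equidimensionality of the
components is assumed here.) -/
theorem result (X : Scheme.{u}) [IsLocallyNoetherian X] [JacobsonSpace X]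
    (h2 : ∀ x : X, CAlg.IsUniversallyCatenary (X.presheaf.stalk x))
    (h3 : ∀ X' ∈ irreducibleComponents (X : Type u), ∀ x ∈ X', IsClosed ({x} : Set X) →
      topologicalKrullDim (↥X' : Type u) = topologicalKrullDim ↥{t : X | t ∈ X' ∧ t ⤳ x})
    (Y : Set X) (hY : IsClosed Y) (x : X) (hx : x ∈ Y) :
    FlatMor.localDim ↥Y ⟨x, hx⟩ =
        topologicalKrullDim ↥(closure ({x} : Set X)) + topologicalKrullDim ↥{t : X | t ∈ Y ∧ t ⤳ x} ∧
      FlatMor.localDim ↥Y ⟨x, hx⟩ =
        ⨆ C ∈ {C : Set ↥Y | C ∈ irreducibleComponents ↥Y ∧ (⟨x, hx⟩ : ↥Y) ∈ C}, topologicalKrullDim ↥C ∧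
      ∀ U : Set X, IsOpen U → x ∈ U →
        (∀ C ∈ irreducibleComponents ↥Y, (⟨x, hx⟩ : ↥Y) ∉ C → Disjoint (Subtype.val ⁻¹' U) C) →
        topologicalKrullDim ↥(U ∩ Y) = FlatMor.localDim ↥Y ⟨x, hx⟩ := by
  let C : TopologicalSpace.Closeds X := ⟨Y, hY⟩
  let j := (Scheme.IdealSheafData.vanishingIdeal C).subschemeι
  have hrange : Set.range j = Y := by
    rw [Scheme.IdealSheafData.range_subschemeι, Scheme.IdealSheafData.coe_support_vanishingIdeal]
    rfl
  let e := j.isEmbedding.toHomeomorph.trans (Homeomorph.setCongr hrange)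
  obtain ⟨w, hw⟩ := hrange.ge hx
  have hew : e w = ⟨x, hx⟩ := Subtype.ext hw
  obtain ⟨M, hM, hloc, hsup, hopen⟩ := key h2 h3 j w
  have hl : FlatMor.localDim ↥Y ⟨x, hx⟩ = M := by
    rw [← hloc]
    exact (FibDim14.localDim_of_range j.isEmbedding hrange w hw hx).symm
  have himg : ∀ S : Set ↥((Scheme.IdealSheafData.vanishingIdeal C).subscheme),
      topologicalKrullDim ↥S = topologicalKrullDim ↥(j '' S) := fun S =>
    IsHomeomorph.topologicalKrullDim_eq _ (j.isEmbedding.homeomorphImage S).isHomeomorph
  refine ⟨?_, ?_, fun U hU hxU hdis => ?_⟩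
  · rw [hl, hM]
    congr 1
    · rw [himg]
      have : j '' closure {w} = closure ({x} : Set X) := by
        rw [← (Scheme.Hom.isClosedEmbedding j).closure_image_eq, Set.image_singleton, hw]
      rw [this]
    · rw [← PrimeSpectrum.topologicalKrullDim_eq_ringKrullDim]
      let W := (Scheme.IdealSheafData.vanishingIdeal C).subscheme
      let e₁ : PrimeSpectrum (W.presheaf.stalk w) → X := fun q => j (W.fromSpecStalk w (q : Spec _))
      have h₁ : Topology.IsEmbedding e₁ := j.isEmbedding.comp (W.fromSpecStalk w).isEmbedding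
      have hr₁ : Set.range e₁ = {t : X | t ∈ Y ∧ t ⤳ x} := by
        ext a
        constructor
        · rintro ⟨q, rfl⟩
          exact ⟨hrange.le ⟨_, rfl⟩, hw ▸ ((Scheme.range_fromSpecStalk (X := W) (x := w)).le ⟨_, rfl⟩).map
            j.continuous⟩
        · rintro ⟨ha, hax⟩
          obtain ⟨b, rfl⟩ := hrange.ge ha
          rw [← hw, j.isEmbedding.isInducing.specializes_iff] at hax
          obtain ⟨q, rfl⟩ := (Scheme.range_fromSpecStalk (X := W) (x := w)).ge hax
          exact ⟨q, rfl⟩
      exact IsHomeomorph.topologicalKrullDim_eq _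
        (h₁.toHomeomorph.trans (Homeomorph.setCongr hr₁)).isHomeomorph
  · rw [hl, ← hsup]
    have hco : ∀ S, S ∈ irreducibleComponents ↥Y ↔ e ⁻¹' S ∈ irreducibleComponents _ := fun S => by
      rw [irreducibleComponents_eq_maximals_closed, irreducibleComponents_eq_maximals_closed]
      constructor
      · rintro ⟨⟨h1, h1'⟩, h2'⟩
        refine ⟨⟨h1.preimage e.continuous, ?_⟩, fun T hT hle => ?_⟩
        · rw [← e.image_symm]
          exact h1'.image _ e.symm.continuous.continuousOn
        · have := h2' (y := e '' T) ⟨e.isClosed_image.2 hT.1, hT.2.image _ e.continuous.continuousOn⟩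
            fun a ha => ⟨e.symm a, hle (by rw [Set.mem_preimage, e.apply_symm_apply]; exact ha), e.apply_symm_apply a⟩
          exact fun a ha => this ⟨a, ha, rfl⟩
      · rintro ⟨⟨h1, h1'⟩, h2'⟩
        refine ⟨⟨e.isClosed_preimage.1 h1, ?_⟩, fun T hT hle => ?_⟩
        · rw [← e.image_preimage S]
          exact h1'.image _ e.continuous.continuousOn
        · have := h2' (y := e ⁻¹' T) ⟨hT.1.preimage e.continuous, by
            rw [← e.image_symm]; exact hT.2.image _ e.symm.continuous.continuousOn⟩ (Set.preimage_mono hle)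
          intro a ha
          obtain ⟨b, rfl⟩ := e.surjective a
          exact this ha
    have hdim : ∀ S, topologicalKrullDim ↥(e ⁻¹' S) = topologicalKrullDim ↥S := fun S =>
      (IsHomeomorph.topologicalKrullDim_eq _ ((e.image (e ⁻¹' S)).trans
        (Homeomorph.setCongr (e.image_preimage S))).isHomeomorph)
    refine le_antisymm (iSup₂_le fun S hS => ?_) (iSup₂_le fun S hS => ?_)
    · rw [← e.preimage_image S] at hS
      refine le_iSup₂_of_le (e '' S) ⟨(hco _).2 hS.1, ?_⟩ (by rw [← hdim, e.preimage_image])
      rw [← hew]; exact ⟨w, by simpa using hS.2, rfl⟩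
    · refine le_iSup₂_of_le (e ⁻¹' S) ⟨(hco _).1 hS.1, ?_⟩ (hdim S).ge
      show e w ∈ S
      rw [hew]; exact hS.2
  · rw [hl]
    have hUY : U ∩ Y = j '' (j ⁻¹' U) := by rw [Set.image_preimage_eq_inter_range, hrange]
    rw [hUY, ← himg]
    refine hopen _ (hU.preimage j.continuous) (show j w ∈ U by rw [hw]; exact hxU) fun S hS hwS => ?_
    obtain ⟨g, rfl, hgmax⟩ := VarDim.exists_generic_of_mem_irreducibleComponents hS
    refine Set.disjoint_left.2 fun a haU haS => ?_
    let T : Set ↥Y := e '' closure {g}
    have hTe : T ∈ irreducibleComponents ↥Y := by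
      show T ∈ _
      have hpre : e ⁻¹' T = closure {g} := e.preimage_image _
      rw [irreducibleComponents_eq_maximals_closed]
      refine ⟨⟨e.isClosed_image.2 isClosed_closure, hS.1.image _ e.continuous.continuousOn⟩, fun T' hT' hle => ?_⟩
      have := hS.2 (y := e ⁻¹' T') (by rw [← e.image_symm]; exact hT'.2.image _ e.symm.continuous.continuousOn)
        (hpre ▸ Set.preimage_mono hle)
      intro b hb
      obtain ⟨c, rfl⟩ := e.surjective b
      exact ⟨c, this hb, rfl⟩
    have hxT : (⟨x, hx⟩ : ↥Y) ∉ T := fun h => by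
      obtain ⟨c, hc, hce⟩ := h
      exact hwS (e.injective (hce.trans hew.symm) ▸ hc)
    exact Set.disjoint_left.1 (hdis T hTe hxT) (show (e a).1 ∈ U from haU) ⟨a, haS, rfl⟩

end Groth.Agent.S4888
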