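import Groth.Statements.S4889
import Groth.Agent.S4888
import Groth.Agent.Lib.ModM1.Ann
import Groth.Agent.Lib.UCat.Universal

set_option autoImplicit false
universe u
open CategoryTheory AlgebraicGeometry
open EGA43

set_option backward.isDefEq.respectTransparency.types false

namespace Groth.Agent.S4889


open Topology TopologicalSpace Groth.Agent.EquidimStalk4 Groth.Agent.FibDim14 in
theorem base_up {X S : Scheme.{u}} [IsLocallyNoetherian S] [JacobsonSpace S]
    (h2 : ∀ s : S, CAlg.IsUniversallyCatenary (S.presheaf.stalk s))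
    (h3 : ∀ S' ∈ irreducibleComponents (S : Type u), ∀ s ∈ S', IsClosed ({s} : Set S) →
      topologicalKrullDim (↥S' : Type u) = topologicalKrullDim ↥{t : S | t ∈ S' ∧ t ⤳ s})
    (g : X ⟶ S) [LocallyOfFiniteType g] :
    (∀ x : X, CAlg.IsUniversallyCatenary (X.presheaf.stalk x)) ∧
    ∀ X' ∈ irreducibleComponents (X : Type u), ∀ x ∈ X', IsClosed ({x} : Set X) →
      topologicalKrullDim (↥X' : Type u) = topologicalKrullDim ↥{t : X | t ∈ X' ∧ t ⤳ x} := by
  refine ⟨fun x => ?_, fun X' hX' x hx hcl => ?_⟩
  · letI := (g.stalkMap x).hom.toAlgebra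
    haveI : Algebra.EssFiniteType (S.presheaf.stalk (g x)) (X.presheaf.stalk x) :=
      LocallyOfFiniteType.stalkMap g x
    exact UCat.isUniversallyCatenary_of_essFiniteType (S.presheaf.stalk (g x)) _ (h2 _)
  · obtain ⟨t, rfl, -⟩ := VarDim.exists_generic_of_mem_irreducibleComponents hX'
    obtain ⟨_, hgen⟩ := JacobsonDim4.genericPoint_cl t
    obtain ⟨N, hN⟩ := JacobsonDim4.exists_stalk_dim_eq h2 h3 (g t)
    haveI : JacobsonSpace (Cl t) := LocallyOfFiniteType.jacobsonSpace (clι t ≫ g)
    have hp : (clι t ≫ g) (genericPoint (Cl t)) = g t := by rw [Scheme.Hom.comp_apply, hgen]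
    obtain ⟨w, hw⟩ := exists_preimage (specializes_iff_mem_closure.2 hx)
    have hwcl : IsClosed ({w} : Set (Cl t)) := by
      have h1 : ({w} : Set (Cl t)) = (clι t) ⁻¹' {x} := by
        ext a
        exact ⟨fun ha => by rw [Set.mem_singleton_iff.1 ha]; exact hw,
          fun ha => (clι t).isEmbedding.injective ((ha : clι t a = x).trans hw.symm)⟩
      rw [h1]
      exact hcl.preimage (clι t).continuous
    have h1 := JacobsonDim4.dim_eq_of_closed_points (X := Cl t) fun a ha => hN (Cl t) (clι t ≫ g) hp a ha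
    have h2' := hN (Cl t) (clι t ≫ g) hp w hwcl
    rw [← h1, JacobsonDim4.dim_interval w hw] at h2'
    have hset : {a : X | t ⤳ a ∧ a ⤳ x} = {a : X | a ∈ closure {t} ∧ a ⤳ x} :=
      Set.ext fun a => and_congr_left' specializes_iff_mem_closure
    rw [hset] at h2'
    refine Eq.trans ?_ h2'.symm
    exact (IsHomeomorph.topologicalKrullDim_eq _
      ((clι t).isEmbedding.toHomeomorph.trans (Homeomorph.setCongr (range_clι t))).isHomeomorph).symm

open Topology in
theorem mem_support_stalk {X : Scheme.{u}} (F : X.Modules) [Coh.IsQCoh F] (x : X)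
    (q : PrimeSpectrum (X.presheaf.stalk x)) :
    q ∈ Module.support (X.presheaf.stalk x) (F.presheaf.stalk x) ↔
      X.fromSpecStalk x (q : Spec (X.presheaf.stalk x)) ∈ CohB1.support F := by
  obtain ⟨U, hU, hxU, -⟩ := exists_isAffineOpen_mem_and_subset (x := x) (U := (⊤ : X.Opens)) trivial
  let y := X.fromSpecStalk x (q : Spec (X.presheaf.stalk x))
  have hy : y = hU.fromSpec (Spec.map (X.presheaf.germ U x hxU) (q : Spec (X.presheaf.stalk x))) := by
    show X.fromSpecStalk x _ = _
    rw [← IsAffineOpen.fromSpecStalk_eq_fromSpecStalk hU hxU, IsAffineOpen.fromSpecStalk, Scheme.Hom.comp_apply]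
  have hyU : y ∈ U := by
    rw [hy]
    exact VarDim.fromSpec_mem hU _
  have hprime : (hU.primeIdealOf ⟨y, hyU⟩).asIdeal = q.asIdeal.comap (X.presheaf.germ U x hxU).hom := by
    have e : (⟨y, hyU⟩ : U) = ⟨hU.fromSpec (Spec.map (X.presheaf.germ U x hxU) (q : Spec (X.presheaf.stalk x))),
      hy ▸ hyU⟩ := Subtype.ext hy
    rw [e, VarDim.primeIdealOf_fromSpec]
    rfl
  letI := M1.stalkModule F hyU
  haveI := M1.isLocalizedModule_germ F hU hyU
  have e := (IsLocalizedModule.iso (hU.primeIdealOf ⟨y, hyU⟩).asIdeal.primeCompl (M1.germₗ F hyU)).toEquiv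
  have h1 : hU.primeIdealOf ⟨y, hyU⟩ ∈ Module.support Γ(X, U) Γ(F, U) ↔ y ∈ CohB1.support F := by
    rw [Module.mem_support_iff, ← not_subsingleton_iff_nontrivial]
    exact not_congr ⟨fun h => @Equiv.subsingleton _ _ e.symm h, fun h => @Equiv.subsingleton _ _ e h⟩
  refine Iff.trans ?_ h1
  rw [Module.mem_support_iff', Module.mem_support_iff', hprime]
  constructor
  · rintro ⟨μ, hμ⟩
    obtain ⟨t, m, ht, hm⟩ := M1.exists_germ_smul_eq F hU hxU μ
    refine ⟨m, fun r hr h0 => hμ (X.presheaf.germ U x hxU r * X.presheaf.germ U x hxU t) (fun hmem => hr ?_) ?_⟩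
    · exact (q.2.mem_or_mem hmem).resolve_right fun h => q.2.ne_top (Ideal.eq_top_of_isUnit_mem _ h ht)
    · rw [mul_smul, hm, ← M1.germ_smul, h0, map_zero]
  · rintro ⟨m, hm⟩
    refine ⟨F.presheaf.germ U x hxU m, fun ρ hρ h0 => ?_⟩
    letI := TopCat.Presheaf.algebra_section_stalk X.presheaf (⟨x, hxU⟩ : U)
    haveI := hU.isLocalization_stalk ⟨x, hxU⟩
    obtain ⟨⟨a, s⟩, has⟩ := IsLocalization.surj (hU.primeIdealOf ⟨x, hxU⟩).asIdeal.primeCompl ρ
    have has' : ρ * X.presheaf.germ U x hxU s.1 = X.presheaf.germ U x hxU a := has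
    have hs := (M1.isUnit_germ_iff hU hxU s.1).2 s.2
    have h2 : F.presheaf.germ U x hxU (a • m) = 0 := by
      rw [M1.germ_smul, ← has', mul_comm, mul_smul, h0, smul_zero]
    obtain ⟨t, ht, hta⟩ := M1.exists_smul_eq_zero_of_germ_eq_zero F hU hxU (a • m) h2
    refine hm (t * a) (fun hmem => ?_) (by rw [mul_smul, hta])
    rw [Ideal.mem_comap, map_mul] at hmem
    rcases q.2.mem_or_mem hmem with h | h
    · exact q.2.ne_top (Ideal.eq_top_of_isUnit_mem _ h ht)
    · rw [show (X.presheaf.germ U x hxU).hom a = ρ * X.presheaf.germ U x hxU s.1 from has'.symm] at h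
      exact (q.2.mem_or_mem h).elim hρ fun h => q.2.ne_top (Ideal.eq_top_of_isUnit_mem _ h hs)


/-- Stated as the dimension equality to which its two-line proof reduces it: let S be a locally
Noetherian Jacobson scheme whose local rings are universally catenary and whose irreducible
components are equidimensional (for every irreducible component S' and every closed point s of S',
dim S' equals the dimension of the space of generizations of s in S'); let g : X ⟶ S be a morphism
locally of finite type, F a coherent O_X-module, Y its support and x a point of Y. Then dim(cl{x}) +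
dim(F_x) = dim_x(Y), where dim(F_x) is the Krull dimension of the O_{X,x}-module F_x (the Krull
dimension of its support in Spec O_{X,x}) and dim_x(Y) is the local dimension of Y at x. (The
published statement reads prof*_x(F) = dim_x(Y) − coprof(F_x), with the rectified depth prof*_x(F) =
prof(F_x) + dim cl{x} and the codepth coprof(F_x) = dim(F_x) − prof(F_x); for the nonzero finitely
generated module F_x this is the equality stated here. The published form of the special case in
which the base is X itself assumes only the Jacobson and universally-catenary conditions; this row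
keeps the equidimensionality of the irreducible components of the base, which the proof uses and
without which the formula fails.) -/
theorem result {X S : Scheme.{u}} [IsLocallyNoetherian S]
    [JacobsonSpace S] (h2 : ∀ s : S, CAlg.IsUniversallyCatenary (S.presheaf.stalk s))
    (h3 : ∀ S' ∈ irreducibleComponents (S : Type u), ∀ s ∈ S', IsClosed ({s} : Set S) →
      topologicalKrullDim (↥S' : Type u) = topologicalKrullDim ↥{t : S | t ∈ S' ∧ t ⤳ s})
    (g : X ⟶ S) [LocallyOfFiniteType g] (F : X.Modules) (hF : Coh.IsCoh F) (x : X) (hx : x ∈ CohB1.support F) :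
    topologicalKrullDim ↥(closure ({x} : Set X)) + Module.supportDim ↑(X.presheaf.stalk x) ↑(F.presheaf.stalk x) =
      FlatMor.localDim ↥(CohB1.support F) ⟨x, hx⟩ := by
  haveI : IsLocallyNoetherian X := LocallyOfFiniteType.isLocallyNoetherian g
  haveI : JacobsonSpace X := LocallyOfFiniteType.jacobsonSpace g
  obtain ⟨g2, g3⟩ := base_up h2 h3 g
  haveI := hF.1
  have hFT : CohB1.IsFT F := hF.2
  haveI := M1.finite_stalk hF.1 hFT x
  obtain ⟨h, -, -⟩ := S4888.result X g2 g3 (CohB1.support F) (M1.isClosed_support hFT) x hx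
  rw [h]
  congr 1
  rw [Module.supportDim_eq_ringKrullDim_quotient_annihilator, ← PrimeSpectrum.topologicalKrullDim_eq_ringKrullDim]
  let I := Module.annihilator (X.presheaf.stalk x) (F.presheaf.stalk x)
  let e₂ : PrimeSpectrum (X.presheaf.stalk x ⧸ I) → X := fun q =>
    X.fromSpecStalk x ((PrimeSpectrum.comap (Ideal.Quotient.mk I) q : PrimeSpectrum (X.presheaf.stalk x)) :
      Spec (X.presheaf.stalk x))
  have h₂ : Topology.IsEmbedding e₂ := (X.fromSpecStalk x).isEmbedding.comp
    (PrimeSpectrum.isClosedEmbedding_comap_of_surjective _ _ Ideal.Quotient.mk_surjective).isEmbedding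
  have hr : Set.range e₂ = {t : X | t ∈ CohB1.support F ∧ t ⤳ x} := by
    ext a
    constructor
    · rintro ⟨q, rfl⟩
      refine ⟨(mem_support_stalk F x _).1 ?_, (Scheme.range_fromSpecStalk (X := X) (x := x)).le ⟨_, rfl⟩⟩
      rw [Module.support_eq_zeroLocus]
      exact Ideal.mk_ker.ge.trans (Ideal.ker_le_comap _)
    · rintro ⟨ha, hax⟩
      obtain ⟨q, rfl⟩ := (Scheme.range_fromSpecStalk (X := X) (x := x)).ge hax
      have hq : (q : PrimeSpectrum (X.presheaf.stalk x)) ∈ PrimeSpectrum.zeroLocus (I : Set (X.presheaf.stalk x)) := by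
        rw [← Module.support_eq_zeroLocus]
        exact (mem_support_stalk F x q).2 ha
      obtain ⟨r, hr⟩ : (q : PrimeSpectrum (X.presheaf.stalk x)) ∈
          Set.range (PrimeSpectrum.comap (Ideal.Quotient.mk I)) := by
        rw [range_comap_of_surjective _ _ Ideal.Quotient.mk_surjective, Ideal.mk_ker]
        exact hq
      exact ⟨r, congrArg (X.fromSpecStalk x) hr⟩
  exact IsHomeomorph.topologicalKrullDim_eq _ (h₂.toHomeomorph.trans (Homeomorph.setCongr hr)).isHomeomorph

end Groth.Agent.S4889
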