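import Groth.Statements.S8446
import Groth.Agent.Lib.RankOne16.GaFibre

set_option linter.style.haveILetI false
set_option backward.isDefEq.respectTransparency false
set_option backward.isDefEq.respectTransparency.types false
-- import your own Groth.Agent.* helpers here

set_option autoImplicit false
universe u
open CategoryTheory MonoidalCategory CartesianMonoidalCategory MonObj GrpObj AlgebraicGeometry CategoryTheory.Limits
open Red

namespace Groth.Agent.S8446

/-- Let G be a reductive S-group, i : T ⟶ G a maximal torus, α a character of T non-trivial on every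
geometric fibre, and p₊, p₋ : 𝔾_a ⟶ G monomorphisms of groups normalised by T with multipliers α and
α⁻¹ such that 𝔾_a ×_S T ×_S 𝔾_a ⟶ G, (y, t, x) ↦ p₋(y) i(t) p₊(x), is an open immersion (a rank-one
system: G has semisimple rank 1 and p₊, p₋ trivialise the root groups of α and -α). Then on no
geometric fibre of S do the images of p₊ and p₋ commute: for every s there are points x, y of 𝔾_a
with values in some scheme over the geometric point at s such that p₊(x) p₋(y) ≠ p₋(y) p₊(x). -/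
theorem result (S : Scheme.{u}) (G T : Over S) [GrpObj G] [GrpObj T] (i : T ⟶ G) [IsMonHom i] [Mono i] (hG : Red.IsReductive G) (hTm : Red.IsMaximalTorus i)
    (α : T ⟶ Red.Gm S) [IsMonHom α] (hα : ∀ s : S, (Over.pullback (Red.geomPt s)).map α ≠ 1)
    (pp pm : Red.Ga S ⟶ G) [IsMonHom pp] [Mono pp] [IsMonHom pm] [Mono pm]
    (hpp : ∀ (X : Over S) (t : X ⟶ T) (x : X ⟶ Red.Ga S), ∃ x' : X ⟶ Red.Ga S,
      x' ≫ pp = (t ≫ i) * (x ≫ pp) * (t ≫ i)⁻¹ ∧ Red.gaFn x' = Red.gmFn (t ≫ α) * Red.gaFn x)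
    (hpm : ∀ (X : Over S) (t : X ⟶ T) (y : X ⟶ Red.Ga S), ∃ y' : X ⟶ Red.Ga S,
      y' ≫ pm = (t ≫ i) * (y ≫ pm) * (t ≫ i)⁻¹ ∧ Red.gaFn y' * Red.gmFn (t ≫ α) = Red.gaFn y)
    (hΩ : IsOpenImmersion (((pm ⊗ₘ i) ⊗ₘ pp) ≫ (μ[G] ▷ G) ≫ μ[G]).left) (s : S) :
    ∃ (X : Over (Spec (CommRingCat.of (AlgebraicClosure (S.residueField s)))))
      (x y : X ⟶ Red.bc (Red.geomPt s) (Red.Ga S)),
      (x ≫ (Over.pullback (Red.geomPt s)).map pp) * (y ≫ (Over.pullback (Red.geomPt s)).map pm) ≠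
        (y ≫ (Over.pullback (Red.geomPt s)).map pm) * (x ≫ (Over.pullback (Red.geomPt s)).map pp) := by
  have hT : Red.IsTorus T := hTm.2.2.1
  have hR : RankOne16.Rig G := RankOne16.Rig.of_isReductive hG
  by_contra hne
  push_neg at hne
  let K := AlgebraicClosure (S.residueField s)
  let ψ := Red.geomPt s
  let adj := Over.mapPullbackAdj ψ
  let F := Over.pullback ψ
  have hcomm : ∀ (X : Over S) (σ : X.left ⟶ Spec (CommRingCat.of K)) (_ : σ ≫ ψ = X.hom) (a b : Γ(X.left, ⊤)),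
      RankOne.P pp a * RankOne.P pm b = RankOne.P pm b * RankOne.P pp a := by
    intro X σ hσ a b
    let A : Over (Spec (CommRingCat.of K)) := Over.mk σ
    let e : X ⟶ (Over.map ψ).obj A := Over.homMk (𝟙 X.left) (by
      show 𝟙 X.left ≫ σ ≫ ψ = X.hom
      rw [Category.id_comp, hσ])
    let e' : (Over.map ψ).obj A ⟶ X := Over.homMk (𝟙 X.left) (by
      show 𝟙 X.left ≫ X.hom = σ ≫ ψ
      rw [Category.id_comp, hσ])
    have hee : e ≫ e' = 𝟙 X := Over.OverMorphism.ext (Category.id_comp _)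
    have hkey : ∀ a b : Γ(((Over.map ψ).obj A).left, ⊤),
        RankOne.P pp a * RankOne.P pm b = RankOne.P pm b * RankOne.P pp a := fun a b => by
      apply (RankOne16.bcHom_bijective ψ G A).injective
      rw [MonoidHom.map_mul, MonoidHom.map_mul]
      have h := hne A (adj.homEquiv A (Red.Ga S) (GaPts.ptOfFn a)) (adj.homEquiv A (Red.Ga S) (GaPts.ptOfFn b))
      rw [← adj.homEquiv_naturality_right, ← adj.homEquiv_naturality_right] at h
      exact h
    have h := congrArg (e ≫ ·) (hkey (e'.left.appTop a) (e'.left.appTop b))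
    simp only [MonObj.comp_mul, RankOne.comp_P] at h
    have hid : ∀ z : Γ(X.left, ⊤), e.left.appTop (e'.left.appTop z) = z := fun z => by
      rw [← CommRingCat.comp_apply, ← Scheme.Hom.comp_appTop, ← Over.comp_left, hee]
      simp
    rwa [hid, hid] at h
  -- every point over the geometric fibre lies in the cell
  have hcell : ∀ (X : Over S) (σ : X.left ⟶ Spec (CommRingCat.of K)) (_ : σ ≫ ψ = X.hom) (g : X ⟶ G),
      ∃ a t b, g = RankOne16.cell i pp pm a t b := by
    intro X σ hσ g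
    refine RankOne16.exists_cell hΩ g (RankOne16.inCell_of_geom g fun p => ?_)
    obtain ⟨a, b, a', b', t, t', h⟩ := RankOne16.exists_pt_cells hΩ hR (RankOne16.geomHom p ≫ g)
    let Y := RankOne16.kPt (Red.geomPt p ≫ X.hom)
    have hY : ∀ a b : Γ(Y.left, ⊤), RankOne.P pp a * RankOne.P pm b = RankOne.P pm b * RankOne.P pp a :=
      hcomm Y (Red.geomPt p ≫ σ) (by rw [Category.assoc, hσ]; rfl)
    have hPT : ∀ (u : Y ⟶ T) (z : Γ(Y.left, ⊤)), ∃ z', RankOne.P pp z * (u ≫ i) = (u ≫ i) * RankOne.P pp z' :=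
      fun u z => ⟨_, by
        rw [← RankOne16.conjP hpp (u⁻¹) z, GrpObj.inv_comp]
        simp [_root_.mul_assoc]⟩
    have hTM : ∀ (u : Y ⟶ T) (z : Γ(Y.left, ⊤)), ∃ z', (u ≫ i) * RankOne.P pm z = RankOne.P pm z' * (u ≫ i) :=
      fun u z => ⟨_, by
        rw [← RankOne16.conjM hpm u z, inv_mul_cancel_right]⟩
    obtain ⟨e, he⟩ := hTM t'⁻¹ (-a')
    obtain ⟨e', he'⟩ := hTM t e
    obtain ⟨c, hc⟩ := hPT t'⁻¹ (b + -b')
    have key : RankOne16.geomHom p ≫ g = RankOne16.cell i pp pm (a + e') (t * t'⁻¹) c := by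
      rw [h, RankOne16.cell, RankOne16.cell, RankOne16.cell, _root_.mul_inv_rev, _root_.mul_inv_rev, ← RankOne.P_neg, ← RankOne.P_neg,
        ← GrpObj.inv_comp]
      calc _ = RankOne.P pm a * (t ≫ i) * RankOne.P pp (b + -b') * ((t'⁻¹ ≫ i) * RankOne.P pm (-a')) := by
            rw [RankOne.P_add]; simp only [_root_.mul_assoc]
        _ = RankOne.P pm a * (t ≫ i) * (RankOne.P pp (b + -b') * RankOne.P pm e) * (t'⁻¹ ≫ i) := by
            rw [he]; simp only [_root_.mul_assoc]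
        _ = RankOne.P pm a * ((t ≫ i) * RankOne.P pm e) * (RankOne.P pp (b + -b') * (t'⁻¹ ≫ i)) := by
            rw [hY]; simp only [_root_.mul_assoc]
        _ = _ := by
            rw [he', hc, RankOne.P_add, MonObj.mul_comp]; simp only [_root_.mul_assoc]
    rw [key]
    exact RankOne16.inCell_cell _ _ _
  -- the positive root group of the fibre is a normal subgroup
  obtain ⟨hGa, hGs, hGc, hGu⟩ := hG.2.2 s
  haveI := hGa
  let p : Red.bc ψ (Red.Ga S) ⟶ Red.bc ψ G := F.map pp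
  haveI : IsMonHom p := inferInstanceAs (IsMonHom (F.map pp))
  have hnat : ∀ (A : Over (Spec (CommRingCat.of K))) (z : (Over.map ψ).obj A ⟶ Red.Ga S),
      adj.homEquiv A G (z ≫ pp) = adj.homEquiv A (Red.Ga S) z ≫ p := fun A z => adj.homEquiv_naturality_right z pp
  have hn : AlgGrp.IsNormalHom p := fun A g n => by
    obtain ⟨g₀, rfl⟩ := (RankOne16.bcHom_bijective ψ G A).surjective g
    obtain ⟨a, t, b, rfl⟩ := hcell ((Over.map ψ).obj A) A.hom rfl g₀
    set v := Red.gaFn ((adj.homEquiv A (Red.Ga S)).symm n)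
    have hn' : n ≫ p = RankOne16.bcHom ψ G A (RankOne.P pp v) := by
      show _ = adj.homEquiv A G (GaPts.ptOfFn v ≫ pp)
      rw [hnat, GaPts.gaFn_injective (show Red.gaFn (GaPts.ptOfFn v) = Red.gaFn ((adj.homEquiv A (Red.Ga S)).symm n)
        from GaPts.gaFn_ptOfFn v), Equiv.apply_symm_apply]
    refine ⟨adj.homEquiv A (Red.Ga S) (GaPts.ptOfFn ((GmPts.unitOfPt (t ≫ α) : Γ(((Over.map ψ).obj A).left, ⊤)) * v)), ?_⟩
    rw [← hnat, hn', ← MonoidHom.map_inv, ← MonoidHom.map_mul, ← MonoidHom.map_mul]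
    show adj.homEquiv A G _ = _
    congr 1
    have hPv : ∀ z, RankOne.P pm z * RankOne.P pp ((GmPts.unitOfPt (t ≫ α) : Γ(((Over.map ψ).obj A).left, ⊤)) * v) =
        RankOne.P pp ((GmPts.unitOfPt (t ≫ α) : Γ(((Over.map ψ).obj A).left, ⊤)) * v) * RankOne.P pm z :=
      fun z => (hcomm _ A.hom rfl _ _).symm
    calc RankOne16.cell i pp pm a t b * RankOne.P pp v * (RankOne16.cell i pp pm a t b)⁻¹
        = RankOne.P pm a * ((t ≫ i) * (RankOne.P pp b * RankOne.P pp v * (RankOne.P pp b)⁻¹) * (t ≫ i)⁻¹) *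
            (RankOne.P pm a)⁻¹ := by simp [RankOne16.cell, _root_.mul_assoc]
      _ = RankOne.P pm a * ((t ≫ i) * RankOne.P pp v * (t ≫ i)⁻¹) * (RankOne.P pm a)⁻¹ := by
          rw [← RankOne.P_add, _root_.add_comm, RankOne.P_add, mul_inv_cancel_right]
      _ = _ := by rw [RankOne16.conjP hpp, hPv, mul_inv_cancel_right]; rfl
  obtain ⟨hUa, hUs, hUc⟩ := RankOne16.props_bc_Ga (S := S) ψ
  haveI := hUa
  -- a retraction onto the root group
  have hclosed : IsClosedImmersion p.left := by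
    let A := Red.bc ψ G
    obtain ⟨a, t, b, hid⟩ := hcell ((Over.map ψ).obj A) A.hom rfl ((adj.homEquiv A G).symm (𝟙 _))
    let r : A ⟶ Red.bc ψ (Red.Ga S) := adj.homEquiv A (Red.Ga S) (GaPts.ptOfFn b)
    let B := Red.bc ψ (Red.Ga S)
    let z : (Over.map ψ).obj B ⟶ Red.Ga S := (adj.homEquiv B (Red.Ga S)).symm (𝟙 _)
    have h1 := congrArg ((Over.map ψ).map p ≫ ·) hid
    simp only [RankOne16.comp_cell, ← adj.homEquiv_naturality_left_symm, Category.comp_id] at h1
    have h2 : (adj.homEquiv B G).symm p = z ≫ pp := by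
      rw [Equiv.symm_apply_eq, hnat]; simp [z]
    have h4 : (Over.map ψ).map p ≫ (adj.homEquiv A G).symm (𝟙 _) = (adj.homEquiv B G).symm p := by
      rw [← adj.homEquiv_naturality_left_symm]
      exact congrArg _ (Category.comp_id p)
    erw [h4] at h1
    rw [h2, RankOne.comp_eq_P pp z, show RankOne.P pp (Red.gaFn z) =
      RankOne16.cell i pp pm 0 1 (Red.gaFn z) by
        simp [RankOne16.cell, RankOne.P_zero, MonObj.one_comp]] at h1
    obtain ⟨-, -, h3⟩ := RankOne16.cell_inj hΩ h1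
    have hr : p ≫ r = 𝟙 B := by
      show p ≫ adj.homEquiv A (Red.Ga S) (GaPts.ptOfFn b) = _
      rw [← adj.homEquiv_naturality_left, ← (Equiv.apply_symm_apply (adj.homEquiv B (Red.Ga S)) (𝟙 B))]
      congr 1
      rw [GaPts.ptOfFn_comp, ← h3]
      exact GaPts.gaFn_injective (GaPts.gaFn_ptOfFn _)
    haveI : IsClosedImmersion (p.left ≫ r.left) := by
      rw [← Over.comp_left, hr]; exact inferInstanceAs (IsClosedImmersion (𝟙 _))
    exact IsClosedImmersion.of_comp p.left r.left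
  have htriv := hGu (Red.bc ψ (Red.Ga S)) p hclosed hUs hUc hn (RankOne16.hasNoSubtorus_Ga ψ)
  haveI : IsIso (Red.bc ψ (Red.Ga S)).hom := htriv
  let A : Over (Spec (CommRingCat.of K)) := Over.mk (𝟙 _)
  have h01 : adj.homEquiv A (Red.Ga S) (GaPts.ptOfFn 1) = adj.homEquiv A (Red.Ga S) (GaPts.ptOfFn 0) :=
    Over.OverMorphism.ext (by rw [← cancel_mono (Red.bc ψ (Red.Ga S)).hom, Over.w, Over.w])
  have h02 := congrArg Red.gaFn ((adj.homEquiv A (Red.Ga S)).injective h01)
  rw [GaPts.gaFn_ptOfFn, GaPts.gaFn_ptOfFn] at h02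
  haveI := subsingleton_of_zero_eq_one h02.symm
  obtain ⟨v, hv⟩ := RankOne16.exists_zpow_ne_one (K := K) (𝟙 _ ≫ ψ) 1 one_ne_zero
  exact hv (Units.ext (@Subsingleton.elim Γ(((Over.map ψ).obj A).left, ⊤) _ _ _))

end Groth.Agent.S8446
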