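import Groth.Statements.S3006
import Groth.Agent.Lib.TorusCentr19.Norm
import Groth.Agent.Lib.MTRigid29.HomLocus
-- import your own Groth.Agent.* helpers here

set_option autoImplicit false
universe u
open CategoryTheory MonoidalCategory CartesianMonoidalCategory MonObj GrpObj AlgebraicGeometry
open Red

namespace Groth.Agent.S3006

set_option linter.style.haveILetI false
set_option backward.isDefEq.respectTransparency.types false


/-- Let S be a scheme, G an S-group scheme smooth and of finite presentation over S, and q : Q → G a
closed subgroup scheme which is a torus. Then the centralizer and the normalizer of Q in G exist as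
closed subgroup schemes of G (characterized on points as in `Red.IsCentralizerOf` /
`Red.IsNormalizerOf`) and are smooth over S. -/
theorem result (S : Scheme.{u}) (G Q : Over S) [GrpObj G] [GrpObj Q] [Smooth G.hom] [LocallyOfFinitePresentation G.hom] [QuasiCompact G.hom] [QuasiSeparated G.hom] (q : Q ⟶ G) [IsMonHom q] (hq : IsClosedImmersion q.left) (hQ : Red.IsTorus Q) : (∃ (Z : Over S) (_ : GrpObj Z) (z : Z ⟶ G), Red.IsCentralizerOf q z ∧ IsClosedImmersion z.left ∧ Smooth Z.hom) ∧ ∃ (N : Over S) (_ : GrpObj N) (n : N ⟶ G), Red.IsNormalizerOf q n ∧ IsClosedImmersion n.left ∧ Smooth N.hom := by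
  classical
  haveI := hq
  have hmt : SGA3x.IsMultTypeFT Q := MTRigid29.isMultTypeFT_of_torus hQ
  haveI : IsSeparated G.hom :=
    TorusCentr19.isSeparated_of_closed_affine_subgroup (MTRigid29.isAffineHom_of_isMultTypeFT hmt) q
  haveI : Mono q := Over.mono_of_mono_left q
  exact ⟨TorusCentr19.exists_centralizer' (MTRigid29.isMT_of_ft hmt) ‹Smooth G.hom› q,
    TorusCentr19.exists_normalizer' hmt ‹Smooth G.hom› q⟩

end Groth.Agent.S3006
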