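import Groth.Statements.S8459
import Groth.Agent.Lib.RedCell16.Coxeter

set_option linter.style.haveILetI false
set_option backward.isDefEq.respectTransparency false
set_option backward.isDefEq.respectTransparency.types false
-- import your own Groth.Agent.* helpers here

set_option autoImplicit false
universe u
open CategoryTheory MonoidalCategory CartesianMonoidalCategory MonObj GrpObj AlgebraicGeometry CategoryTheory.Limits
open Red

namespace Groth.Agent.S8459

/-- Let G be a pinned reductive S-group: a splitting D (maximal torus T ≅ D_S(M), root datum with root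
homomorphisms u_c : 𝔾_a ⟶ G for all roots c, system of simple roots Δ) such that for every simple
root a the root homomorphisms of a and -a are dual to each other: u_a(x) u_{-a}(y) =
u_{-a}(y/(1+xy)) · a^∨(1+xy) · u_a(x/(1+xy)) whenever 1 + xy is invertible, where a^∨ : 𝔾_m ⟶ T is
the coroot of a read through the splitting. For a root a put w_a = u_a(1) u_{-a}(-1) u_a(1) (an
S-point of G). Let a ≠ b be simple roots with ⟨b, a^∨⟩ = 0 and ⟨a, b^∨⟩ = 0 (the pair spans a system
of type A₁ × A₁). Then t_{ab} = (w_a w_b)^2 = a^∨(-1) · b^∨(-1) = (w_b w_a)^2. (The published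
statement is for a pinned group whose simple roots are exactly a and b; this row states it for two
simple roots a ≠ b of any pinned group.) -/
theorem result (S : Scheme.{u}) (e₁ : 𝟙_ (Over S) ⟶ Red.Ga S) (he₁ : Red.gaFn e₁ = 1)
    (G : Over S) [GrpObj G] (D : Red.Pinning G)
    (avc : D.idx → (Red.Gm S ⟶ D.T))
    (havc : ∀ a, avc a = Red.DSmap S (D.P.coroot a).toAddMonoidHom ≫ D.split.inv.hom.hom)
    (hpair : ∀ a ∈ D.base.support, ∀ (X : Over S) (x y : X ⟶ Red.Ga S), IsUnit (1 + Red.gaFn x * Red.gaFn y) →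
        ∃ (x' y' : X ⟶ Red.Ga S) (z : X ⟶ Red.Gm S), Red.gmFn z = 1 + Red.gaFn x * Red.gaFn y ∧
          Red.gaFn x' * Red.gmFn z = Red.gaFn x ∧ Red.gaFn y' * Red.gmFn z = Red.gaFn y ∧
          (x ≫ D.u a) * (y ≫ D.u (D.P.reflectionPerm a a)) = (y' ≫ D.u (D.P.reflectionPerm a a)) * (z ≫ avc a ≫ D.i) * (x' ≫ D.u a))
    (w : D.idx → (𝟙_ (Over S) ⟶ G))
    (hw : ∀ a, w a = (e₁ ≫ D.u a) * (e₁ ≫ D.u (D.P.reflectionPerm a a))⁻¹ * (e₁ ≫ D.u a))
    (m₁ : 𝟙_ (Over S) ⟶ Red.Gm S) (hm₁ : Red.gmFn m₁ = -1)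
    (a b : D.idx) (ha : a ∈ D.base.support) (hb : b ∈ D.base.support) (hne : a ≠ b)
    (hba : D.P.pairing b a = 0) (hab : D.P.pairing a b = 0) :
    (w a * w b) ^ 2 = (m₁ ≫ avc a ≫ D.i) * (m₁ ≫ avc b ≫ D.i) ∧ (w b * w a) ^ 2 = (m₁ ≫ avc a ≫ D.i) * (m₁ ≫ avc b ≫ D.i) := by
  rcases isEmpty_or_nonempty S with hS | ⟨⟨s⟩⟩
  · have := (RedCell16.hom_subsingleton (𝟙_ (Over S)) G).2
    exact ⟨Subsingleton.elim _ _, Subsingleton.elim _ _⟩
  haveI : D.P.IsReduced := RedCell16.isReduced D.toSplitRed s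
  haveI := fun c => (D.rootHom c).1
  haveI := D.fintypeIdx
  have Ea := RedCell16.pinned_dualPair D avc havc hpair ha
  have Eb := RedCell16.pinned_dualPair D avc havc hpair hb
  let D' := D.toSplitRed
  have hW := RedCell16.pinned_Wy D e₁ he₁ w hw
  have hw0 : ∀ c, w c = RedCell16.Wy D' c (𝟙_ (Over S)) := fun c => by
    rw [← hW c, show toUnit (𝟙_ (Over S)) = 𝟙 _ from Subsingleton.elim _ _, Category.id_comp]
  have hm : ∀ c, m₁ ≫ avc c ≫ D.i = RedCell16.Ac D' c (-1) := fun c => by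
    rw [RankOne.comp_eq_A, show GmPts.unitOfPt m₁ = -1 from Units.ext (by rw [GmPts.val_unitOfPt, hm₁]; simp), havc]
  have n1 : D.P.root a + D.P.root b ≠ 0 := fun e => by
    have := congrArg (D.P.coroot' a) e
    simp [hba] at this
  have n2 : D.P.root b - D.P.root a ≠ 0 := fun e => hne (D.P.root.injective (sub_eq_zero.1 e)).symm
  have n3 := D.base.sub_notMem_range_root hb ha
  have n4 : D.P.root a + D.P.root b ∉ Set.range D.P.root := fun ⟨c, hc⟩ => n3 ⟨D.P.reflectionPerm a c, by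
    rw [RedCell16.root_refl, show D.P.pairing c a = 2 by
      rw [← RootPairing.root_coroot'_eq_pairing, hc, map_add, RootPairing.root_coroot'_eq_pairing,
        RootPairing.root_coroot'_eq_pairing, RootPairing.pairing_same, hba, add_zero], hc, two_smul]
    abel⟩
  have hcomm : RedCell16.cj (toUnit (𝟙_ (Over S)) ≫ w a) (RedCell16.Wy D' b (𝟙_ (Over S))) =
      RedCell16.Wy D' b (𝟙_ (Over S)) := by
    refine (RedCell16.cj_Wy_of D' Eb Eb (w a) 1 (Or.inl rfl) (fun X x => ?_) (fun X v => ?_) _).trans (if_pos rfl)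
    · rw [hW, RedCell16.commute_Wy D' D.base n4 n3 n1 n2, Int.cast_one, _root_.one_mul]
    · rw [hW, RedCell16.cj_Ac D' Ea, hab, neg_zero, zpow_zero, RedCell16.Ac_one, _root_.one_mul]
  rw [hW, RedCell16.cj, mul_inv_eq_iff_eq_mul] at hcomm
  simp only [hm, hw0, pow_two]
  set A := RedCell16.Wy D' a (𝟙_ (Over S)) with hA
  set B := RedCell16.Wy D' b (𝟙_ (Over S)) with hB
  have hA2 : A * A = RedCell16.Ac D' a (-1) := RankOne16.W_mul_W Ea
  have hB2 : B * B = RedCell16.Ac D' b (-1) := RankOne16.W_mul_W Eb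
  constructor
  · calc A * B * (A * B) = A * (B * A) * B := by group
      _ = (A * A) * (B * B) := by rw [← hcomm]; group
      _ = _ := by rw [hA2, hB2]
  · calc B * A * (B * A) = B * (A * B) * A := by group
      _ = (B * B) * (A * A) := by rw [hcomm]; group
      _ = _ := by rw [hA2, hB2, RedCell16.Ac_comm]

end Groth.Agent.S8459
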