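import Groth.Statements.S8460
import Groth.Agent.Lib.RedCell16.Coxeter
import Groth.Agent.Lib.RedCell16.Pinned

set_option linter.style.haveILetI false
set_option backward.isDefEq.respectTransparency false
set_option backward.isDefEq.respectTransparency.types false
-- import your own Groth.Agent.* helpers here

set_option autoImplicit false
universe u
open CategoryTheory MonoidalCategory CartesianMonoidalCategory MonObj GrpObj AlgebraicGeometry CategoryTheory.Limits
open Red

namespace Groth.Agent.S8460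

/-- Let G be a pinned reductive S-group: a splitting D (maximal torus T ≅ D_S(M), root datum with root
homomorphisms u_c : 𝔾_a ⟶ G for all roots c, system of simple roots Δ) such that for every simple
root a the root homomorphisms of a and -a are dual to each other: u_a(x) u_{-a}(y) =
u_{-a}(y/(1+xy)) · a^∨(1+xy) · u_a(x/(1+xy)) whenever 1 + xy is invertible, where a^∨ : 𝔾_m ⟶ T is
the coroot of a read through the splitting. For a root a put w_a = u_a(1) u_{-a}(-1) u_a(1) (an
S-point of G). Let a ≠ b be simple roots with ⟨b, a^∨⟩ = -1 and ⟨a, b^∨⟩ = -1 (the pair spans a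
system of type A₂). Then t_{ab} = (w_a w_b)^3 = e = (w_b w_a)^3. (The published statement is for a
pinned group whose simple roots are exactly a and b; this row states it for two simple roots a ≠ b
of any pinned group.) -/
theorem result (S : Scheme.{u}) (e₁ : 𝟙_ (Over S) ⟶ Red.Ga S) (he₁ : Red.gaFn e₁ = 1)
    (G : Over S) [GrpObj G] (D : Red.Pinning G)
    (avc : D.idx → (Red.Gm S ⟶ D.T))
    (havc : ∀ a, avc a = Red.DSmap S (D.P.coroot a).toAddMonoidHom ≫ D.split.inv.hom.hom)
    (hpair : ∀ a ∈ D.base.support, ∀ (X : Over S) (x y : X ⟶ Red.Ga S), IsUnit (1 + Red.gaFn x * Red.gaFn y) →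
        ∃ (x' y' : X ⟶ Red.Ga S) (z : X ⟶ Red.Gm S), Red.gmFn z = 1 + Red.gaFn x * Red.gaFn y ∧
          Red.gaFn x' * Red.gmFn z = Red.gaFn x ∧ Red.gaFn y' * Red.gmFn z = Red.gaFn y ∧
          (x ≫ D.u a) * (y ≫ D.u (D.P.reflectionPerm a a)) = (y' ≫ D.u (D.P.reflectionPerm a a)) * (z ≫ avc a ≫ D.i) * (x' ≫ D.u a))
    (w : D.idx → (𝟙_ (Over S) ⟶ G))
    (hw : ∀ a, w a = (e₁ ≫ D.u a) * (e₁ ≫ D.u (D.P.reflectionPerm a a))⁻¹ * (e₁ ≫ D.u a))
    (a b : D.idx) (ha : a ∈ D.base.support) (hb : b ∈ D.base.support) (hne : a ≠ b)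
    (hba : D.P.pairing b a = -1) (hab : D.P.pairing a b = -1) :
    (w a * w b) ^ 3 = 1 ∧ (w b * w a) ^ 3 = 1 := by
  rcases isEmpty_or_nonempty S with hS | ⟨⟨s⟩⟩
  · have := (RedCell16.hom_subsingleton (𝟙_ (Over S)) G).2
    exact ⟨Subsingleton.elim _ _, Subsingleton.elim _ _⟩
  haveI : D.P.IsReduced := RedCell16.isReduced D.toSplitRed s
  haveI := fun c => (D.rootHom c).1
  haveI := D.fintypeIdx
  have Ea := RedCell16.pinned_dualPair D avc havc hpair ha
  have Eb := RedCell16.pinned_dualPair D avc havc hpair hb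
  let D' := D.toSplitRed
  have hW := RedCell16.pinned_Wy D e₁ he₁ w hw
  have hw0 : ∀ c, w c = RedCell16.Wy D' c (𝟙_ (Over S)) := fun c => by
    rw [← hW c, show toUnit (𝟙_ (Over S)) = 𝟙 _ from Subsingleton.elim _ _, Category.id_comp]
  have h := RedCell16.pinned_pairSys D a b ha hb (p := 1) (Or.inl rfl) hba hab
  have hbraid : RedCell16.cj (toUnit (𝟙_ (Over S)) ≫ (w a * w b)) (RedCell16.Wy D' a (𝟙_ (Over S))) =
      RedCell16.Wy D' b (𝟙_ (Over S)) := by
    refine (RedCell16.cj_Wy_of D' Ea Eb (w a * w b) 1 (Or.inl rfl) (fun X x => ?_) (fun X v => ?_) _).trans (if_pos rfl)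
    · rw [MonObj.comp_mul, hW, hW, ← RedCell16.cj_cj]
      have := RedCell16.A2_cj_a h D.base Ea Eb X (-x)
      rw [neg_neg] at this
      rw [← this, RedCell16.cj_Wy_Wy D' Ea b X _ (-1) hba]
      congr 1
      simp
    · rw [MonObj.comp_mul, hW, hW, ← RedCell16.cj_cj,
        show RedCell16.Ac D' a v = RedCell16.Ac D' a (v ^ (1 : ℤ)) * RedCell16.Ac D' b (v ^ (0 : ℤ)) by
          rw [zpow_one, zpow_zero, RedCell16.Ac_one, _root_.mul_one],
        RedCell16.cj_pair_right D' Eb v 1 0 1 hba, RedCell16.cj_pair_left D' Ea v 1 _ 1 hab]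
      norm_num [RedCell16.Ac_one]
  rw [MonObj.comp_mul, hW, hW, RedCell16.cj, mul_inv_eq_iff_eq_mul] at hbraid
  simp only [hw0]
  set A := RedCell16.Wy D' a (𝟙_ (Over S)) with hA
  set B := RedCell16.Wy D' b (𝟙_ (Over S)) with hB
  have hb' : A * B * A = B * A * B := by rw [hbraid]; group
  have hsq : A * B * A * (A * B * A) = 1 := by
    rw [show A * B * A * (A * B * A) = A * (B * (A * A) * B) * A by group, RankOne16.W_mul_W Ea]
    show A * (B * RedCell16.Ac D' a (-1) * B) * A = 1
    rw [← RedCell16.Tm_left D' a b, hB, RedCell16.step_right D' Eb _ 1 0 1 hba, hA,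
      RedCell16.step_left D' Ea _ 1 _ 1 hab]
    exact RedCell16.Tm_even D' a b _ 1 1
  constructor
  · calc (A * B) ^ 3 = (A * B * A) * (B * A * B) := by simp only [pow_succ, pow_zero]; group
      _ = 1 := by rw [← hb', hsq]
  · calc (B * A) ^ 3 = (B * A * B) * (A * B * A) := by simp only [pow_succ, pow_zero]; group
      _ = 1 := by rw [← hb', hsq]

end Groth.Agent.S8460
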