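import Groth.Statements.S8462
import Groth.Agent.Lib.RedCell16.Coxeter
import Groth.Agent.Lib.RedCell16.Pinned

set_option linter.style.haveILetI false
set_option backward.isDefEq.respectTransparency false
set_option backward.isDefEq.respectTransparency.types false
-- import your own Groth.Agent.* helpers here

set_option autoImplicit false
universe u
open CategoryTheory MonoidalCategory CartesianMonoidalCategory MonObj GrpObj AlgebraicGeometry CategoryTheory.Limits
open Red

namespace Groth.Agent.S8462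

/-- Let G be a pinned reductive S-group: a splitting D (maximal torus T ≅ D_S(M), root datum with root
homomorphisms u_c : 𝔾_a ⟶ G for all roots c, system of simple roots Δ) such that for every simple
root a the root homomorphisms of a and -a are dual to each other: u_a(x) u_{-a}(y) =
u_{-a}(y/(1+xy)) · a^∨(1+xy) · u_a(x/(1+xy)) whenever 1 + xy is invertible, where a^∨ : 𝔾_m ⟶ T is
the coroot of a read through the splitting. For a root a put w_a = u_a(1) u_{-a}(-1) u_a(1) (an
S-point of G). Let a ≠ b be simple roots with ⟨b, a^∨⟩ = -3 and ⟨a, b^∨⟩ = -1 (the pair spans a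
system of type G₂). Then t_{ab} = (w_a w_b)^6 = e = (w_b w_a)^6. (The published statement is for a
pinned group whose simple roots are exactly a and b; this row states it for two simple roots a ≠ b
of any pinned group.) -/
theorem result (S : Scheme.{u}) (e₁ : 𝟙_ (Over S) ⟶ Red.Ga S) (he₁ : Red.gaFn e₁ = 1)
    (G : Over S) [GrpObj G] (D : Red.Pinning G)
    (avc : D.idx → (Red.Gm S ⟶ D.T))
    (havc : ∀ a, avc a = Red.DSmap S (D.P.coroot a).toAddMonoidHom ≫ D.split.inv.hom.hom)
    (hpair : ∀ a ∈ D.base.support, ∀ (X : Over S) (x y : X ⟶ Red.Ga S), IsUnit (1 + Red.gaFn x * Red.gaFn y) →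
        ∃ (x' y' : X ⟶ Red.Ga S) (z : X ⟶ Red.Gm S), Red.gmFn z = 1 + Red.gaFn x * Red.gaFn y ∧
          Red.gaFn x' * Red.gmFn z = Red.gaFn x ∧ Red.gaFn y' * Red.gmFn z = Red.gaFn y ∧
          (x ≫ D.u a) * (y ≫ D.u (D.P.reflectionPerm a a)) = (y' ≫ D.u (D.P.reflectionPerm a a)) * (z ≫ avc a ≫ D.i) * (x' ≫ D.u a))
    (w : D.idx → (𝟙_ (Over S) ⟶ G))
    (hw : ∀ a, w a = (e₁ ≫ D.u a) * (e₁ ≫ D.u (D.P.reflectionPerm a a))⁻¹ * (e₁ ≫ D.u a))
    (a b : D.idx) (ha : a ∈ D.base.support) (hb : b ∈ D.base.support) (hne : a ≠ b)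
    (hba : D.P.pairing b a = -3) (hab : D.P.pairing a b = -1) :
    (w a * w b) ^ 6 = 1 ∧ (w b * w a) ^ 6 = 1 := by
  rcases isEmpty_or_nonempty S with hS | ⟨⟨s⟩⟩
  · have := (RedCell16.hom_subsingleton (𝟙_ (Over S)) G).2
    exact ⟨Subsingleton.elim _ _, Subsingleton.elim _ _⟩
  haveI : D.P.IsReduced := RedCell16.isReduced D.toSplitRed s
  haveI := fun c => (D.rootHom c).1
  haveI := D.fintypeIdx
  have Ea := RedCell16.pinned_dualPair D avc havc hpair ha
  have Eb := RedCell16.pinned_dualPair D avc havc hpair hb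
  let D' := D.toSplitRed
  have hW := RedCell16.pinned_Wy D e₁ he₁ w hw
  have hw0 : ∀ c, w c = RedCell16.Wy D' c (𝟙_ (Over S)) := fun c => by
    rw [← hW c, show toUnit (𝟙_ (Over S)) = 𝟙 _ from Subsingleton.elim _ _, Category.id_comp]
  have h := RedCell16.pinned_pairSys D a b ha hb (p := 3) (Or.inr (Or.inr rfl)) hba hab
  set d := D.P.reflectionPerm a b with hd
  set f := D.P.reflectionPerm b d with hf
  have rd : D.P.root d = (3 : ℤ) • D.P.root a + (1 : ℤ) • D.P.root b :=
    (h.root_refl_a (RedCell16.root_coords_b a b)).trans (by norm_num)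
  have rf : D.P.root f = (3 : ℤ) • D.P.root a + (2 : ℤ) • D.P.root b := (h.root_refl_b rd).trans (by norm_num)
  obtain ⟨ρ, -, hρ⟩ := RedCell16.exists_cj_coeff D' D.base Ea b d hd.symm
  obtain ⟨l4, -, hl4⟩ := RedCell16.exists_cj_coeff D' D.base Eb d f hf.symm
  have hbraid : RedCell16.cj (toUnit (𝟙_ (Over S)) ≫ (w a * w b * w a * w b * w a)) (RedCell16.Wy D' b (𝟙_ (Over S))) =
      RedCell16.Wy D' b (𝟙_ (Over S)) := by
    refine (RedCell16.cj_Wy_of D' Eb Eb _ 1 (Or.inl rfl) (fun X x => ?_) (fun X v => ?_) _).trans (if_pos rfl)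
    · simp only [MonObj.comp_mul, hW, ← RedCell16.cj_cj]
      rw [hρ, hl4, RedCell16.commute_Wy D' D.base ?_ ?_ ?_ ?_, ← hl4,
        RedCell16.cj_Wy_Wy D' Eb d X _ (-1) (by
          rw [← RootPairing.root_coroot'_eq_pairing, rd, (h.coroot_eval 3 1).2]; norm_num),
        ← mul_left_comm (ρ X), ← hρ, RedCell16.cj_Wy_Wy D' Ea b X _ (-3) hba]
      · congr 1; simp [zpow_neg, pow_succ]
      all_goals rw [rf]
      · rw [show D.P.root a + ((3 : ℤ) • D.P.root a + (2 : ℤ) • D.P.root b) =
          (4 : ℤ) • D.P.root a + (2 : ℤ) • D.P.root b by rw [show (4 : ℤ) = 3 + 1 from rfl, add_smul (3 : ℤ) 1, one_smul]; abel]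
        exact h.notMem (by decide)
      · rw [show (3 : ℤ) • D.P.root a + (2 : ℤ) • D.P.root b - D.P.root a =
          (2 : ℤ) • D.P.root a + (2 : ℤ) • D.P.root b by rw [show (3 : ℤ) = 2 + 1 from rfl, add_smul (2 : ℤ) 1, one_smul]; abel]
        exact h.notMem (by decide)
      · intro he
        have := h.coords_inj (i := 4) (j := 2) (by rw [← he, show (4 : ℤ) = 3 + 1 from rfl, add_smul (3 : ℤ) 1, one_smul]; abel)
        omega
      · intro he
        have := h.coords_inj (i := 2) (j := 2) (by rw [← he, show (3 : ℤ) = 2 + 1 from rfl, add_smul (2 : ℤ) 1, one_smul]; abel)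
        omega
    · simp only [MonObj.comp_mul, hW, ← RedCell16.cj_cj]
      rw [show RedCell16.Ac D' b v = RedCell16.Ac D' a (v ^ (0 : ℤ)) * RedCell16.Ac D' b (v ^ (1 : ℤ)) by
          rw [zpow_one, zpow_zero, RedCell16.Ac_one, _root_.one_mul],
        RedCell16.cj_pair_left D' Ea v 0 1 1 hab, RedCell16.cj_pair_right D' Eb v _ 1 3 hba,
        RedCell16.cj_pair_left D' Ea v _ _ 1 hab, RedCell16.cj_pair_right D' Eb v _ _ 3 hba,
        RedCell16.cj_pair_left D' Ea v _ _ 1 hab]
      norm_num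
  simp only [MonObj.comp_mul, hW, RedCell16.cj, mul_inv_eq_iff_eq_mul] at hbraid
  simp only [hw0]
  set A := RedCell16.Wy D' a (𝟙_ (Over S)) with hA
  set B := RedCell16.Wy D' b (𝟙_ (Over S)) with hB
  have hmid : A * B * A * B * A * (B * B) * (A * B * A * B * A) = 1 := by
    rw [show A * B * A * B * A * (B * B) * (A * B * A * B * A) = A * (B * (A * (B * (A * (B * B) * A) * B) * A) * B) * A by
      group, RankOne16.W_mul_W Eb]
    show A * (B * (A * (B * (A * RedCell16.Ac D' b (-1) * A) * B) * A) * B) * A = _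
    rw [← RedCell16.Tm_right D' a b, hA, RedCell16.step_left D' Ea _ 0 1 1 hab, hB,
      RedCell16.step_right D' Eb _ _ 1 3 hba, RedCell16.step_left D' Ea _ _ _ 1 hab,
      RedCell16.step_right D' Eb _ _ _ 3 hba, RedCell16.step_left D' Ea _ _ _ 1 hab]
    exact RedCell16.Tm_even D' a b _ 3 5
  constructor
  · calc (A * B) ^ 6 = (A * B * A * B * A * B) * (A * B * A * B * A * B) := by simp only [pow_succ, pow_zero]; group
      _ = (A * B * A * B * A * B) * (B * (A * B * A * B * A)) := by rw [← hbraid]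
      _ = _ := by rw [← hmid]; group
  · calc (B * A) ^ 6 = (B * (A * B * A * B * A)) * (B * (A * B * A * B * A)) := by simp only [pow_succ, pow_zero]; group
      _ = (A * B * A * B * A * B) * (B * (A * B * A * B * A)) := by rw [← hbraid]
      _ = _ := by rw [← hmid]; group

end Groth.Agent.S8462
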