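import Groth.Statements.S7146
import Mathlib.RingTheory.Length
import Mathlib.Data.Sym.Card
import Mathlib.Data.Nat.Choose.Multinomial
import Mathlib

set_option autoImplicit false
universe u
open Filter
open CAlg

namespace Groth.Agent.S7146


open Finset

theorem pow_span_eq {R : Type u} [CommRing R] {d : ℕ} (g : Fin d → R) (n : ℕ) :
    Ideal.span (Set.range g) ^ n =
      Ideal.span (Set.range fun s : Sym (Fin d) n => ((s : Multiset (Fin d)).map g).prod) := by
  induction n with
  | zero =>
    rw [pow_zero, Ideal.one_eq_top, eq_comm, Ideal.eq_top_iff_one]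
    exact Ideal.subset_span ⟨Sym.nil, by simp⟩
  | succ n ih =>
    rw [pow_succ, ih, Ideal.span_mul_span']
    congr 1
    ext x
    simp only [Set.mem_mul, Set.mem_range]
    constructor
    · rintro ⟨_, ⟨s, rfl⟩, _, ⟨i, rfl⟩, rfl⟩
      exact ⟨i ::ₛ s, by rw [Sym.coe_cons, Multiset.map_cons, Multiset.prod_cons, mul_comm]⟩
    · rintro ⟨s, rfl⟩
      obtain ⟨i, t, rfl⟩ := Sym.exists_eq_cons_of_succ s
      exact ⟨_, ⟨t, rfl⟩, _, ⟨i, rfl⟩, by rw [Sym.coe_cons, Multiset.map_cons, Multiset.prod_cons, mul_comm]⟩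

theorem length_quot_pow_le {R : Type u} [CommRing R] {d : ℕ} (g : Fin d → R) (n : ℕ) :
    Module.length R (R ⧸ Ideal.span (Set.range g) ^ (n + 1)) ≤
      (Nat.multichoose (d + 1) n : ℕ) * Module.length R (R ⧸ Ideal.span (Set.range g)) := by
  set I := Ideal.span (Set.range g)
  induction n with
  | zero => rw [pow_one, Nat.multichoose_zero_right, Nat.cast_one, one_mul]
  | succ n ih =>
    let P : Submodule R (R ⧸ I ^ (n + 2)) :=
      Submodule.map (Submodule.mkQ (I ^ (n + 2))) (I ^ (n + 1) : Ideal R)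
    let π : (R ⧸ I ^ (n + 2)) →ₗ[R] (R ⧸ I ^ (n + 1)) :=
      Submodule.mapQ (I ^ (n + 2)) (I ^ (n + 1)) LinearMap.id (Ideal.pow_le_pow_right (m := n + 1) (n := n + 2) (by omega))
    have hπ : Function.Surjective π := fun z => by
      obtain ⟨r, rfl⟩ := Submodule.Quotient.mk_surjective _ z
      exact ⟨Submodule.Quotient.mk r, rfl⟩
    have hex : Function.Exact P.subtype π := by
      intro z
      obtain ⟨r, rfl⟩ := Submodule.Quotient.mk_surjective _ z
      refine ⟨fun h => ⟨⟨_, r, ?_, rfl⟩, rfl⟩, ?_⟩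
      · exact (Submodule.Quotient.mk_eq_zero (I ^ (n + 1))).1 h
      · rintro ⟨⟨_, s, hs, rfl⟩, h⟩
        have h' : (Submodule.Quotient.mk s : R ⧸ I ^ (n + 2)) = Submodule.Quotient.mk r := h
        rw [← h']
        exact (Submodule.Quotient.mk_eq_zero (I ^ (n + 1))).2 hs
    rw [Module.length_eq_add_of_exact P.subtype π P.injective_subtype hπ hex]
    have hP : Module.length R P ≤ (Nat.multichoose d (n + 1) : ℕ) * Module.length R (R ⧸ I) := by
      let gen : Sym (Fin d) (n + 1) → P := fun s =>
        ⟨Submodule.Quotient.mk ((s : Multiset (Fin d)).map g).prod, _, by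
          rw [SetLike.mem_coe, pow_span_eq]; exact Ideal.subset_span ⟨s, rfl⟩, rfl⟩
      let one : Sym (Fin d) (n + 1) → ((R ⧸ I) →ₗ[R] P) := fun s =>
        Submodule.liftQ I (LinearMap.toSpanSingleton R P (gen s)) fun a ha => by
          apply Subtype.ext
          show a • (Submodule.Quotient.mk _ : R ⧸ I ^ (n + 2)) = 0
          rw [← Submodule.Quotient.mk_smul, Submodule.Quotient.mk_eq_zero, smul_eq_mul,
            pow_succ' I (n + 1)]
          refine Ideal.mul_mem_mul ha ?_
          rw [pow_span_eq]; exact Ideal.subset_span ⟨s, rfl⟩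
      let Φ : (Sym (Fin d) (n + 1) → R ⧸ I) →ₗ[R] P := ∑ s, (one s).comp (LinearMap.proj s)
      have hΦ : Function.Surjective Φ := by
        rintro ⟨_, r, hr, rfl⟩
        rw [SetLike.mem_coe, pow_span_eq, Ideal.span, Submodule.mem_span_range_iff_exists_fun] at hr
        obtain ⟨c, hc⟩ := hr
        refine ⟨fun s => Submodule.Quotient.mk (c s), Subtype.ext ?_⟩
        simp only [Φ, LinearMap.sum_apply, LinearMap.comp_apply, LinearMap.proj_apply, one,
          Submodule.liftQ_apply, LinearMap.toSpanSingleton_apply, Submodule.coe_sum,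
          Submodule.coe_smul, gen]
        rw [← hc, map_sum]
        simp [Algebra.smul_def]
      refine (Module.length_le_of_surjective Φ hΦ).trans (le_of_eq ?_)
      rw [Module.length_pi_of_fintype, Finset.sum_const, nsmul_eq_mul, Finset.card_univ,
        Sym.card_sym_eq_multichoose, Fintype.card_fin]
    refine (add_le_add hP ih).trans (le_of_eq ?_)
    rw [← add_mul, ← Nat.cast_add, Nat.multichoose_succ_succ]



/-- Let R be a Noetherian local ring of Krull dimension d and I the ideal generated by a system of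
parameters g_1, ..., g_d (d elements of the maximal ideal generating an ideal with radical the
maximal ideal); let e_I be the multiplicity of I, i.e. d! times the top coefficient of the numerical
polynomial n ↦ length(R/I^(n+1)), equivalently the limit of d!·length(R/Iⁿ)/n^d. Then e_I ≤
length(R/I). (Stated for a natural number e equal to that limit.) -/
theorem result (R : Type u) [CommRing R] [IsNoetherianRing R] [IsLocalRing R]
    (d : ℕ) (hd : ringKrullDim R = d) (g : Fin d → R) (hg : ∀ i, g i ∈ IsLocalRing.maximalIdeal R)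
    (hsop : IsLocalRing.maximalIdeal R ≤ (Ideal.span (Set.range g)).radical) (e : ℕ)
    (he : Tendsto (fun n : ℕ => (d.factorial : ℝ) * ((Module.length R (R ⧸ Ideal.span (Set.range g) ^ n)).toNat : ℝ) / (n : ℝ) ^ d)
      atTop (nhds (e : ℝ))) :
    (e : ℕ∞) ≤ Module.length R (R ⧸ Ideal.span (Set.range g)) := by
  set I := Ideal.span (Set.range g)
  by_cases hL : Module.length R (R ⧸ I) = ⊤
  · rw [hL]; exact le_top
  obtain ⟨L, hL⟩ := ENat.ne_top_iff_exists.1 hL
  rw [← hL, Nat.cast_le]
  have hb : ∀ m : ℕ, 1 ≤ m → (d.factorial : ℝ) * ((Module.length R (R ⧸ I ^ m)).toNat : ℝ) / (m : ℝ) ^ d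
      ≤ (L : ℝ) * (1 + (d : ℝ) / m) ^ d := fun m hm => by
    obtain ⟨n, rfl⟩ : ∃ n, m = n + 1 := ⟨m - 1, by omega⟩
    have h0 := length_quot_pow_le g n
    rw [← hL, ← Nat.cast_mul] at h0
    have h1 : (Module.length R (R ⧸ I ^ (n + 1))).toNat ≤ Nat.multichoose (d + 1) n * L :=
      ENat.toNat_le_of_le_coe h0
    have h2 : d.factorial * Nat.multichoose (d + 1) n ≤ (n + 1 + d) ^ d := by
      rw [Nat.multichoose_eq, show d + 1 + n - 1 = n + d by omega, Nat.choose_symm_add,
        ← Nat.ascFactorial_eq_factorial_mul_choose]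
      exact (Nat.ascFactorial_le_pow_add n d).trans (Nat.pow_le_pow_left (by omega) d)
    have h3 : d.factorial * (Module.length R (R ⧸ I ^ (n + 1))).toNat ≤ (n + 1 + d) ^ d * L :=
      (Nat.mul_le_mul_left _ h1).trans (by rw [← mul_assoc]; exact Nat.mul_le_mul_right _ h2)
    have hpos : (0 : ℝ) < ((n + 1 : ℕ) : ℝ) := by positivity
    rw [div_le_iff₀ (pow_pos hpos d)]
    calc (d.factorial : ℝ) * ((Module.length R (R ⧸ I ^ (n + 1))).toNat : ℝ)
        ≤ ((n + 1 + d : ℕ) : ℝ) ^ d * L := by exact_mod_cast h3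
      _ = _ := by
        rw [mul_assoc, ← mul_pow, mul_comm]
        congr 2
        rw [add_mul, one_mul, div_mul_cancel₀ _ hpos.ne']
        push_cast
        ring
  have hlim : Tendsto (fun m : ℕ => (L : ℝ) * (1 + (d : ℝ) / m) ^ d) atTop (nhds (L : ℝ)) := by
    have := ((tendsto_const_div_atTop_nhds_zero_nat (d : ℝ)).const_add 1).pow d |>.const_mul (L : ℝ)
    simpa using this
  exact_mod_cast le_of_tendsto_of_tendsto he hlim (eventually_atTop.2 ⟨1, hb⟩)

end Groth.Agent.S7146
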