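import Groth.Statements.S17932
import Groth.Agent.Lib.RefCh12.Index
import Groth.Agent.Lib.CMReg18.GG
import Groth.Agent.Lib.CMReg18.Proj
import Groth.Agent.Lib.RelAmple18.Ops
import Groth.Agent.Lib.CohFound.ProjQuot
import Groth.Agent.Lib.NumPoly18.TauEuler
-- import your own Groth.Agent.* helpers here

set_option autoImplicit false
set_option backward.isDefEq.respectTransparency false
set_option backward.isDefEq.respectTransparency.types false
set_option backward.isDefEq.respectTransparency false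
universe u
open CategoryTheory CategoryTheory.Limits AlgebraicGeometry
open RefCh Groth.Agent

namespace Groth.Agent.S17932

/-- Let k be an algebraically closed field, X an integral normal scheme of dimension n = s + 2 admitting
a closed immersion into some P^N_k over k, δ a dimension function on X (Cyc.IsSetup) with δ(generic
point) = n, and ℒ_1, ℒ_2 coherent reflexive O_X-modules of rank one (ℒ_j = O_X(-D_j) for Weil
divisors D_j); write ℒ_1 ⊗̂ ℒ_2 for the reflexive hull of ℒ_1 ⊗ ℒ_2, which is O_X(-D_1 - D_2). With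
K_m(X) ⊆ K(X) = K_0(Coh(X)) generated by the coherent modules with support of dimension at most m
and [O_D] = [O_X] - [O_X(-D)], one has [ℒ_1 ⊗̂ ℒ_2] + [O_X] = [ℒ_1] + [ℒ_2] in K(X) / K_{n-2}(X)
(Cyc.toK0CohQuot δ n (n - 2)); that is, [O_{D_1 + D_2}] - [O_{D_1}] - [O_{D_2}] ∈ K_{n-2}(X), and
hence [O_D] - Σ a_i [O_{D_i}] ∈ K_{n-2}(X) whenever D = Σ a_i D_i. -/
theorem result (k : Type u) [Field k] [IsAlgClosed k] (X : Scheme.{u}) [X.Over (Spec (CommRingCat.of k))]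
    [AlgebraicGeometry.IsIntegral X] (hnorm : Pi1.IsNormalScheme X) (s : ℕ) (hdim : topologicalKrullDim X = (s + 2 : ℕ))
    (hproj : ∃ (N : ℕ) (ι : X ⟶ CohB1.ProjSpace N k), IsClosedImmersion ι ∧ ι ≫ CohB1.ProjSpace.toSpec N k = X ↘ Spec (CommRingCat.of k))
    (δ : X → ℤ) (hδ : Cyc.IsSetup X δ) (hδη : δ (genericPoint X) = (s + 2 : ℕ))
    (ℒ₁ ℒ₂ : X.Modules) (h₁ : RefHull.IsRef1 ℒ₁) (h₂ : RefHull.IsRef1 ℒ₂) :
    Cyc.toK0CohQuot δ (s + 2 : ℕ) (s : ℕ) (RefPow.refTensor ℒ₁ ℒ₂) +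
        Cyc.toK0CohQuot δ (s + 2 : ℕ) (s : ℕ) (Coh.structureModule X) =
      Cyc.toK0CohQuot δ (s + 2 : ℕ) (s : ℕ) ℒ₁ + Cyc.toK0CohQuot δ (s + 2 : ℕ) (s : ℕ) ℒ₂ := by
  haveI := hδ.1
  have hd := hδ.2.2
  obtain ⟨N, ι, hι, hιk⟩ := hproj
  haveI := hι
  haveI := (CMReg18.isAmple_twistOne k (n := N)).2.1
  let H := (Scheme.Modules.pullback ι).obj (Twist.twistProjSpace N k 1)
  have hH : CohB1.IsAmple H := RA.isAmple_pullback_of_quasiAffine ι (fun V hV => by haveI : IsAffine (ι ⁻¹ᵁ V : Scheme.{u}) := hV.preimage ι; infer_instance) (CMReg18.isAmple_twistOne k)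
  have r1 := RH26.R1.of_ref1 hnorm h₁
  have r2 := RH26.R1.of_ref1 hnorm h₂
  have rO := RH26.R1.structureModule hnorm
  have rT := r1.tensorHull r2
  have hO : Coh.IsCoh (Coh.structureModule X) := M1.isCoh_structureModule X
  obtain ⟨n₁, hn₁⟩ := RefCh12.exists_source hH hO rO.gen
  obtain ⟨n₂, hn₂⟩ := RefCh12.exists_source hH r2.coh r2.gen
  obtain ⟨a, ha⟩ := hn₁ (max n₁ n₂) (le_max_left _ _)
  obtain ⟨b, hb⟩ := hn₂ (max n₁ n₂) (le_max_right _ _)
  let J := CohB1.tensorMod (Coh.structureModule X) (M2.dualMod (CohB1.tensorPow H (max n₁ n₂)))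
  have hJi : PicF.IsInvertible J := M2.isInvertible_tensor (PicLoc.isInvertible_structureModule X)
    (M2.isInvertible_dualMod (M2.isInvertible_tensorPow hH.1 _))
  have hJ : Coh.IsCoh J := Snapper.isCoh_of_isInvertible hJi
  let c : CohB1.tensorMod ℒ₁ J ⟶ ℒ₁ := M2.tensorMap (𝟙 ℒ₁) a ≫ (M2.tensorRUnit ℒ₁).hom
  let d : CohB1.tensorMod ℒ₁ J ⟶ RefPow.refTensor ℒ₁ ℒ₂ :=
    M2.tensorMap (𝟙 ℒ₁) b ≫ RefPow.toRefTensor ℒ₁ ℒ₂
  have hW : Coh.IsCoh (CohB1.tensorMod ℒ₁ J) := CohFound.isCoh_tensor r1.coh hJ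
  have hT2 := CohFound.isCoh_tensor r1.coh r2.coh
  -- formulas on generators
  have formula : ∀ (x : X) (l : ℒ₁.presheaf.stalk x) (j : J.presheaf.stalk x) (u : (Coh.structureModule X).presheaf.stalk x)
      (v : ℒ₂.presheaf.stalk x) (α β : X.presheaf.stalk x), CurveCoh17.stalkLin a x j = α • u →
      CurveCoh17.stalkLin b x j = β • v →
      CurveCoh17.stalkLin c x (Cyc26.tstalk ℒ₁ J x l j) =
        α • CurveCoh17.stalkLin (M2.tensorRUnit ℒ₁).hom x (Cyc26.tstalk _ _ x l u) ∧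
      CurveCoh17.stalkLin d x (Cyc26.tstalk ℒ₁ J x l j) =
        β • CurveCoh17.stalkLin (RefPow.toRefTensor ℒ₁ ℒ₂) x (Cyc26.tstalk _ _ x l v) := by
    intro x l j u v α β e1 e2
    constructor
    · rw [CurveCoh17.stalkLin_comp, RefCh12.stalkLin_tensorMap_tstalk, CurveCoh17.stalkLin_id', e1,
        ← one_smul (X.presheaf.stalk x) l, Cyc26.tstalk_smul, one_mul, map_smul, one_smul]
    · rw [CurveCoh17.stalkLin_comp, RefCh12.stalkLin_tensorMap_tstalk, CurveCoh17.stalkLin_id', e2,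
        ← one_smul (X.presheaf.stalk x) l, Cyc26.tstalk_smul, one_mul, map_smul, one_smul]
  have hbid : ∀ (x : X) {w : (CohB1.tensorMod ℒ₁ ℒ₂).presheaf.stalk x}, Amp.Gen w →
      Amp.Gen (CurveCoh17.stalkLin (RefPow.toRefTensor ℒ₁ ℒ₂) x w) := fun x w hw => RH26.gen_bidual hT2 hw
  -- the generic point
  obtain ⟨j₀, hj₀⟩ := Cyc26.exists_gen hJi (genericPoint X)
  obtain ⟨l₀, hl₀⟩ := r1.gen
  obtain ⟨v₀, hv₀⟩ := r2.gen
  obtain ⟨u₀, hu₀⟩ := rO.gen
  obtain ⟨α₀, hα₀⟩ := hu₀.2 (CurveCoh17.stalkLin a _ j₀)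
  obtain ⟨β₀, hβ₀⟩ := hv₀.2 (CurveCoh17.stalkLin b _ j₀)
  simp only at hα₀ hβ₀
  obtain ⟨fc, fd⟩ := formula _ l₀ j₀ u₀ v₀ α₀ β₀ hα₀.symm hβ₀.symm
  have hα₀0 : α₀ ≠ 0 := fun h => ha j₀ hj₀ (by rw [← hα₀, h, zero_smul])
  have hβ₀0 : β₀ ≠ 0 := fun h => hb j₀ hj₀ (by rw [← hβ₀, h, zero_smul])
  have gU := RefCh12.gen_map (M2.tensorRUnit ℒ₁).hom (RH26.gen_tstalk' hl₀ hu₀)
  have gD := hbid _ (RH26.gen_tstalk' hl₀ hv₀)
  have ba := RefCh12.bijective_generic a hj₀ hu₀ (ha j₀ hj₀)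
  have bb := RefCh12.bijective_generic b hj₀ hv₀ (hb j₀ hj₀)
  have gW := RH26.gen_tstalk' hl₀ hj₀
  have bc := RefCh12.bijective_generic c gW gU (fun h => by
    rw [fc] at h
    exact hα₀0 (gU.1 (h.trans (zero_smul (X.presheaf.stalk (genericPoint X)) _).symm)))
  have bd := RefCh12.bijective_generic d gW gD (fun h => by
    rw [fd] at h
    exact hβ₀0 (gD.1 (h.trans (zero_smul (X.presheaf.stalk (genericPoint X)) _).symm)))
  -- codimension one
  have hk1 : ((s + 2 : ℕ) : ℤ) = ((s : ℤ) + 1) + 1 := by push_cast; ring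
  have hk2 : ((s : ℕ) : ℤ) = ((s : ℤ) + 1) - 1 := by ring
  have hη : δ (genericPoint X) = ((s : ℤ) + 1) + 1 := hδη.trans hk1
  have loc : ∀ x, δ x = (s : ℤ) + 1 →
      Function.Injective (CurveCoh17.stalkLin a x) ∧ Function.Injective (CurveCoh17.stalkLin b x) ∧
      Function.Injective (CurveCoh17.stalkLin c x) ∧ Function.Injective (CurveCoh17.stalkLin d x) ∧
      Module.length (X.presheaf.stalk x) ((cokernel a).presheaf.stalk x) =
        Module.length (X.presheaf.stalk x) ((cokernel c).presheaf.stalk x) ∧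
      Module.length (X.presheaf.stalk x) ((cokernel b).presheaf.stalk x) =
        Module.length (X.presheaf.stalk x) ((cokernel d).presheaf.stalk x) := by
    intro x hx
    haveI := (hnorm x).1
    have hc1 : Order.coheight x = 1 := RefCh12.coheight_eq_one hd hη (by omega)
    obtain ⟨l, hl, -⟩ := r1.gen_one hc1
    obtain ⟨v, hv, hvη⟩ := r2.gen_one hc1
    obtain ⟨u, hu, huη⟩ := rO.gen_one hc1
    obtain ⟨j, hj⟩ := Cyc26.exists_gen hJi x
    have hjη := RH26.gen_sp (RH26.injective_sp_of_isReflexiveAt hJ (RH26.isReflexiveAt_of_gen hj)) hj₀ hj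
    obtain ⟨α, hα⟩ := hu.2 (CurveCoh17.stalkLin a x j)
    obtain ⟨β, hβ⟩ := hv.2 (CurveCoh17.stalkLin b x j)
    simp only at hα hβ
    have hα0 : α ≠ 0 := fun h => ha _ hjη (by
      show RefHull.stalkMapₗ a _ (J.presheaf.stalkSpecializes (RH26.gsp x) j) = 0
      rw [← RH26.stalkMapₗ_stalkSpecializes, show RefHull.stalkMapₗ a x j = α • u from hα.symm, h, zero_smul, map_zero])
    have hβ0 : β ≠ 0 := fun h => hb _ hjη (by
      show RefHull.stalkMapₗ b _ (J.presheaf.stalkSpecializes (RH26.gsp x) j) = 0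
      rw [← RH26.stalkMapₗ_stalkSpecializes, show RefHull.stalkMapₗ b x j = β • v from hβ.symm, h, zero_smul, map_zero])
    obtain ⟨gc, gd⟩ := formula x l j u v α β hα.symm hβ.symm
    have gU := RefCh12.gen_map (M2.tensorRUnit ℒ₁).hom (RH26.gen_tstalk' hl hu)
    have gD := hbid _ (RH26.gen_tstalk' hl hv)
    have gW := RH26.gen_tstalk' hl hj
    obtain ⟨ea⟩ := RefCh12.nonempty_coker_equiv a hj hu hα.symm
    obtain ⟨eb⟩ := RefCh12.nonempty_coker_equiv b hj hv hβ.symm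
    obtain ⟨ec⟩ := RefCh12.nonempty_coker_equiv c gW gU gc
    obtain ⟨ed⟩ := RefCh12.nonempty_coker_equiv d gW gD gd
    exact ⟨RefCh12.injective_of_gen a hj hu hα0 hα.symm, RefCh12.injective_of_gen b hj hv hβ0 hβ.symm,
      RefCh12.injective_of_gen c gW gU hα0 gc, RefCh12.injective_of_gen d gW gD hβ0 gd,
      by rw [← ea.length_eq, ← ec.length_eq], by rw [← eb.length_eq, ← ed.length_eq]⟩
  obtain ⟨la, ea⟩ := RefCh12.class_eq hd hη a hJ hO ba fun x hx => (loc x hx).1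
  obtain ⟨lb, eb⟩ := RefCh12.class_eq hd hη b hJ r2.coh bb fun x hx => (loc x hx).2.1
  obtain ⟨lc, ec⟩ := RefCh12.class_eq hd hη c hW r1.coh bc fun x hx => (loc x hx).2.2.1
  obtain ⟨ld, ed⟩ := RefCh12.class_eq hd hη d hW rT.coh bd fun x hx => (loc x hx).2.2.2.1
  have hchar := Vol26.isChar_toK0 (δ := δ) (k := (s : ℤ) + 1) (a := (s : ℤ) + 1 + 1) (b := (s : ℤ) + 1 - 1)
    (by omega) le_rfl
  have eac := hchar.congr hd la lc (funext fun x => by
    unfold Cyc.sheafFun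
    split_ifs with h
    · rw [(loc x h).2.2.2.2.1]
    · rfl)
  have ebd := hchar.congr hd lb ld (funext fun x => by
    unfold Cyc.sheafFun
    split_ifs with h
    · rw [(loc x h).2.2.2.2.2]
    · rfl)
  have e : Cyc.toK0CohQuot δ ((s : ℤ) + 1 + 1) ((s : ℤ) + 1 - 1) (RefPow.refTensor ℒ₁ ℒ₂) +
      Cyc.toK0CohQuot δ ((s : ℤ) + 1 + 1) ((s : ℤ) + 1 - 1) (Coh.structureModule X) =
      Cyc.toK0CohQuot δ ((s : ℤ) + 1 + 1) ((s : ℤ) + 1 - 1) ℒ₁ + Cyc.toK0CohQuot δ ((s : ℤ) + 1 + 1) ((s : ℤ) + 1 - 1) ℒ₂ := by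
    rw [ea, eb, ec, ed, eac, ebd]
    abel
  revert e
  generalize ha' : (s : ℤ) + 1 + 1 = A
  generalize hb' : (s : ℤ) + 1 - 1 = B
  obtain rfl : ((s + 2 : ℕ) : ℤ) = A := by omega
  obtain rfl : (s : ℤ) = B := by omega
  exact fun e => e

end Groth.Agent.S17932
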