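import Groth.Statements.S2105


set_option autoImplicit false
universe u
open CAlg

namespace Groth.Agent.S2105

abbrev kz {R : Type u} [CommRing R] {c : ℕ} (f : Fin c → R) : Submodule R (Fin c → R) :=
  Submodule.span R {v : Fin c → R | ∃ i j : Fin c, v = Pi.single i (f j) - Pi.single j (f i)}

lemma kz_dot {R : Type u} [CommRing R] {c : ℕ} (f : Fin c → R) {v : Fin c → R} (hv : v ∈ kz f) :
    ∑ i, v i * f i = 0 := by
  induction hv using Submodule.span_induction with
  | mem v h =>
    obtain ⟨i, j, rfl⟩ := h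
    simp [sub_mul, Finset.sum_sub_distrib, Pi.single_apply, ite_mul]
    ring
  | zero => simp
  | add v w _ _ hv hw => simp [add_mul, Finset.sum_add_distrib, hv, hw]
  | smul r v _ hv => simp [mul_assoc, ← Finset.mul_sum, hv]

lemma kz_lift {R S : Type u} [CommRing R] [CommRing S] (π : R →+* S) (hπ : Function.Surjective π)
    {c : ℕ} (g : Fin c → R) {v : Fin c → S} (hv : v ∈ kz (fun j => π (g j))) :
    ∃ w ∈ kz g, (fun j => π (w j)) = v := by
  induction hv using Submodule.span_induction with
  | mem v h =>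
    obtain ⟨i, j, rfl⟩ := h
    refine ⟨_, Submodule.subset_span ⟨i, j, rfl⟩, funext fun k => ?_⟩
    simp [Pi.single_apply, apply_ite π]
  | zero => exact ⟨0, zero_mem _, funext fun k => map_zero π⟩
  | add v w _ _ hv hw =>
    obtain ⟨a, ha, rfl⟩ := hv
    obtain ⟨b, hb, rfl⟩ := hw
    exact ⟨a + b, add_mem ha hb, funext fun k => map_add π _ _⟩
  | smul r v _ hv =>
    obtain ⟨a, ha, rfl⟩ := hv
    obtain ⟨r, rfl⟩ := hπ r
    exact ⟨r • a, Submodule.smul_mem _ r ha, funext fun k => map_mul π r (a k)⟩

def extL (A : Type u) [CommRing A] (n m : ℕ) : (Fin n → A) →ₗ[A] (Fin (n + m) → A) where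
  toFun x := Fin.append x 0
  map_add' x y := by funext k; refine Fin.addCases ?_ ?_ k <;> intro i <;> simp
  map_smul' r x := by funext k; refine Fin.addCases ?_ ?_ k <;> intro i <;> simp

def extR (A : Type u) [CommRing A] (n m : ℕ) : (Fin m → A) →ₗ[A] (Fin (n + m) → A) where
  toFun x := Fin.append 0 x
  map_add' x y := by funext k; refine Fin.addCases ?_ ?_ k <;> intro i <;> simp
  map_smul' r x := by funext k; refine Fin.addCases ?_ ?_ k <;> intro i <;> simp

lemma extL_single {A : Type u} [CommRing A] {n m : ℕ} (i : Fin n) (x : A) :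
    extL A n m (Pi.single i x) = Pi.single (Fin.castAdd m i) x := by
  funext k
  refine Fin.addCases (fun l => ?_) (fun l => ?_) k
  · simp [extL, Pi.single_apply, (Fin.castAdd_injective n m).eq_iff]
  · simp [extL, Pi.single_apply, Fin.ext_iff, show ¬ (n + (l : ℕ) = (i : ℕ)) by omega]

lemma extR_single {A : Type u} [CommRing A] {n m : ℕ} (i : Fin m) (x : A) :
    extR A n m (Pi.single i x) = Pi.single (Fin.natAdd n i) x := by
  funext k
  refine Fin.addCases (fun l => ?_) (fun l => ?_) k
  · simp [extR, Pi.single_apply, Fin.ext_iff, show ¬ ((l : ℕ) = n + (i : ℕ)) by omega]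
  · simp [extR, Pi.single_apply, Fin.ext_iff]



/-- Appending to an `H_1`-regular sequence `f` a sequence `g` whose image modulo the ideal `(f)` is
`H_1`-regular yields an `H_1`-regular sequence. -/
theorem result {A : Type u} [CommRing A] {n m : ℕ} (f : Fin n → A)
    (g : Fin m → A) (hf : CAlgX.IsH1Regular f)
    (hg : CAlgX.IsH1Regular (fun j => Ideal.Quotient.mk (Ideal.span (Set.range f)) (g j))) :
    CAlgX.IsH1Regular (Fin.append f g) := by
  intro a ha
  change a ∈ kz (Fin.append f g)
  set K := kz (Fin.append f g) with hK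
  let π := Ideal.Quotient.mk (Ideal.span (Set.range f))
  have hl : (kz f).map (extL A n m) ≤ K := by
    rw [Submodule.map_span, Submodule.span_le]
    rintro _ ⟨_, ⟨i, j, rfl⟩, rfl⟩
    exact Submodule.subset_span ⟨Fin.castAdd m i, Fin.castAdd m j, by
      simp [map_sub, extL_single, Fin.append_left]⟩
  have hr : (kz g).map (extR A n m) ≤ K := by
    rw [Submodule.map_span, Submodule.span_le]
    rintro _ ⟨_, ⟨i, j, rfl⟩, rfl⟩
    exact Submodule.subset_span ⟨Fin.natAdd n i, Fin.natAdd n j, by
      simp [map_sub, extR_single, Fin.append_right]⟩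
  let T := LinearMap.range (extL A n m) ⊔ K
  have hJ : ∀ (j : Fin m), ∀ x ∈ Ideal.span (Set.range f), extR A n m (Pi.single j x) ∈ T := by
    intro j x hx
    induction hx using Submodule.span_induction with
    | mem x h =>
      obtain ⟨i, rfl⟩ := h
      rw [extR_single]
      refine Submodule.mem_sup.2 ⟨Pi.single (Fin.castAdd m i) (g j),
        ⟨Pi.single i (g j), extL_single i (g j)⟩,
        Pi.single (Fin.natAdd n j) (f i) - Pi.single (Fin.castAdd m i) (g j),
        Submodule.subset_span ⟨Fin.natAdd n j, Fin.castAdd m i, by simp⟩, add_sub_cancel _ _⟩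
    | zero => simp
    | add x y _ _ hx hy => rw [Pi.single_add, map_add]; exact add_mem hx hy
    | smul r x _ hx => rw [Pi.single_smul, map_smul]; exact T.smul_mem r hx
  have hdec : a = extL A n m (fun i => a (Fin.castAdd m i)) + extR A n m (fun j => a (Fin.natAdd n j)) := by
    funext k
    refine Fin.addCases (fun l => ?_) (fun l => ?_) k <;> simp [extL, extR]
  rw [Fin.sum_univ_add] at ha
  simp only [Fin.append_left, Fin.append_right] at ha
  have hgrel : (fun j => π (a (Fin.natAdd n j))) ∈ kz (fun j => π (g j)) := by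
    refine hg _ ?_
    have h0 : π (∑ i, a (Fin.castAdd m i) * f i) = 0 := Ideal.Quotient.eq_zero_iff_mem.2
      (Ideal.sum_mem _ fun i _ => Ideal.mul_mem_left _ _ (Ideal.subset_span ⟨i, rfl⟩))
    have h1 := congrArg π ha
    rw [map_add, h0, zero_add, map_zero, map_sum] at h1
    rw [← h1]
    exact Finset.sum_congr rfl fun j _ => (map_mul π _ _).symm
  obtain ⟨w, hw, hwa⟩ := kz_lift π Ideal.Quotient.mk_surjective g hgrel
  have hT : extR A n m (fun j => a (Fin.natAdd n j)) ∈ T := by
    have e : (fun j => a (Fin.natAdd n j)) = w + ∑ j, Pi.single j (a (Fin.natAdd n j) - w j) := by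
      rw [Finset.univ_sum_single (fun j => a (Fin.natAdd n j) - w j)]
      funext j; simp
    rw [e, map_add, map_sum]
    refine add_mem (Submodule.mem_sup_right (hr (Submodule.mem_map_of_mem hw))) (sum_mem fun j _ => hJ j _ ?_)
    exact Ideal.Quotient.eq.1 (congrFun hwa j).symm
  have haT : a ∈ T := hdec ▸ add_mem (Submodule.mem_sup_left ⟨_, rfl⟩) hT
  obtain ⟨_, ⟨x, rfl⟩, k, hk, rfl⟩ := Submodule.mem_sup.1 haT
  refine add_mem (hl (Submodule.mem_map_of_mem (hf x ?_))) hk
  have hkd := kz_dot _ hk
  rw [Fin.sum_univ_add] at hkd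
  simp only [Fin.append_left, Fin.append_right] at hkd
  simp only [Pi.add_apply, add_mul, Finset.sum_add_distrib] at ha
  have : ∑ j, extL A n m x (Fin.natAdd n j) * g j = 0 := by simp [extL]
  have h2 : ∑ i, extL A n m x (Fin.castAdd m i) * f i = ∑ i, x i * f i := by simp [extL]
  linear_combination ha - hkd - this - h2

end Groth.Agent.S2105
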