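import Groth.Statements.S9849
import Groth.Agent.Lib.RegDesc11.Scheme

set_option autoImplicit false
open CategoryTheory CategoryTheory.Limits AlgebraicGeometry Opposite
universe u
open RegImm

namespace Groth.Agent.S9849

/-- Being a Koszul-regular, H_1-regular or quasi-regular immersion is fpqc local on the base; the
descent direction for a single flat surjective quasi-compact base change g : X' ⟶ X: if i : Z ⟶ X is
an immersion whose base change Z ×_X X' ⟶ X' is a regular immersion of kind k (k Koszul, H_1 or
quasi, not the plain regular-sequence kind), then i is a regular immersion of kind k. (This row
assumes from the start that i is an immersion and descends only the regularity of the defining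
ideal; descent of the immersion property itself along such a base change is known for quasi-compact
immersions and is not asserted here.) -/
theorem result {Z X X' : Scheme.{u}} (i : Z ⟶ X) [IsImmersion i] (g : X' ⟶ X)
    [Flat g] [Surjective g] [QuasiCompact g] (k : RegImm.Kind) (hk : k ≠ RegImm.Kind.regular)
    (h : RegImm.IsRegularImmersion k (pullback.snd i g)) :
    RegImm.IsRegularImmersion k i := by
  have hsq := IsPullback.of_hasPullback i g
  cases k with
  | regular => exact absurd rfl hk
  | koszul => exact CI2.isRegularImmersion_descent i g _ _ hsq h
  | h1 => exact RegDesc11.isRegularImmersion_descent (Or.inl rfl) i g _ _ hsq h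
  | quasi => exact RegDesc11.isRegularImmersion_descent (Or.inr rfl) i g _ _ hsq h

end Groth.Agent.S9849
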