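import Groth.Statements.S1390
import Mathlib

set_option autoImplicit false
universe u
open FlatMor

set_option backward.isDefEq.respectTransparency.types false

namespace Groth.Agent.S1390


open AlgebraicGeometry CategoryTheory Limits Polynomial

theorem exists_splitting {A B : Type u} [CommRing A] [CommRing B] [Algebra A B]
    [Algebra.IsStandardEtale A B] (q : Ideal B) [q.IsPrime] :
    ∃ (T : Type u) (_ : CommRing T) (_ : Algebra A T) (_ : Module.Finite A T) (_ : Module.Free A T)
      (_ : Nontrivial T), ∀ t : Ideal T, t.IsPrime →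
        t.comap (algebraMap A T) = q.comap (algebraMap A B) →
        ∃ g : T, g ∉ t ∧ ∃ ψ : B →ₐ[A] Localization.Away g,
          (t.map (algebraMap T (Localization.Away g))).comap ψ = q := by
  classical
  obtain ⟨P⟩ := Algebra.IsStandardEtale.nonempty_standardEtalePresentation (R := A) (S := B)
  let p := q.comap (algebraMap A B)
  haveI : Nontrivial A :=
    ⟨⟨0, 1, fun h => (inferInstance : p.IsPrime).ne_top
      ((Ideal.eq_top_iff_one _).mpr (h ▸ p.zero_mem))⟩⟩
  obtain ⟨T, i1, i2, i3, i4, i5, hsplit⟩ := P.monic_f.exists_splits_map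
  refine ⟨T, i1, i2, i3, i4, i5, fun t ht htp => ?_⟩
  haveI := ht
  obtain ⟨m, hm⟩ := splits_iff_exists_multiset'.mp hsplit
  haveI : q.LiesOver p := ⟨rfl⟩
  haveI : t.LiesOver p := ⟨htp.symm⟩
  letI := Localization.AtPrime.algebraOfLiesOver p q
  letI := Localization.AtPrime.algebraOfLiesOver p t
  let K := p.ResidueField
  let xq : q.ResidueField := algebraMap B _ P.x
  have hev : ∀ r : A[X], aeval xq (r.map (algebraMap A K)) = algebraMap B _ (aeval P.x r) := by
    intro r
    rw [aeval_map_algebraMap, ← aeval_algebraMap_apply]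
  have hfx : aeval xq (P.f.map (algebraMap A K)) = 0 := by
    rw [hev, P.hasMap.1, map_zero]
  have hint : IsIntegral K xq := ⟨_, P.monic_f.map _, by rwa [← aeval_def]⟩
  let μ := minpoly K xq
  have hμ : μ ∣ P.f.map (algebraMap A K) := minpoly.dvd K xq hfx
  have hft : (P.f.map (algebraMap A K)).map (algebraMap K t.ResidueField) =
      (P.f.map (algebraMap A T)).map (algebraMap T t.ResidueField) := by
    rw [Polynomial.map_map, Polynomial.map_map, ← IsScalarTower.algebraMap_eq,
      ← IsScalarTower.algebraMap_eq]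
  have hfne : (P.f.map (algebraMap A K)).map (algebraMap K t.ResidueField) ≠ 0 :=
    ((P.monic_f.map _).map _).ne_zero
  obtain ⟨α, hα⟩ := (Splits.of_dvd (hft ▸ hsplit.map (algebraMap T t.ResidueField)) hfne
    (Polynomial.map_dvd _ hμ)).exists_eval_eq_zero
      (by rw [degree_map]; exact (minpoly.degree_pos hint).ne')
  have hα0 : ((P.f.map (algebraMap A T)).map (algebraMap T t.ResidueField)).eval α = 0 := by
    rw [← hft]
    exact Polynomial.eval_eq_zero_of_dvd_of_eval_eq_zero (Polynomial.map_dvd _ hμ) hα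
  have hlead : (P.f.map (algebraMap A T)).leadingCoeff = 1 := (P.monic_f.map _).leadingCoeff
  obtain ⟨a, ha, ha'⟩ : ∃ a ∈ m, algebraMap T t.ResidueField a = -α := by
    rw [hm, hlead, map_one, one_mul, Polynomial.map_multiset_prod, Multiset.map_map,
      eval_multiset_prod, Multiset.map_map, Multiset.prod_eq_zero_iff, Multiset.mem_map] at hα0
    obtain ⟨a, ha, h0⟩ := hα0
    refine ⟨a, ha, eq_neg_of_add_eq_zero_right ?_⟩
    simpa using h0
  let b : T := -a
  have hb : algebraMap T t.ResidueField b = α := by simp [b, ha']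
  have hfb : aeval b P.f = 0 := by
    rw [aeval_def, ← Polynomial.eval_map, hm, hlead, map_one, one_mul, eval_multiset_prod, Multiset.map_map]
    exact Multiset.prod_eq_zero (Multiset.mem_map.mpr ⟨a, ha, by simp [b]⟩)
  clear_value b
  have key : ∀ r : A[X], algebraMap B q.ResidueField (aeval P.x r) = 0 ↔
      algebraMap T t.ResidueField (aeval b r) = 0 := by
    intro r
    have h1 : minpoly K α = μ := (minpoly.eq_of_irreducible_of_monic (minpoly.irreducible hint)
      (by rw [aeval_def, ← Polynomial.eval_map]; exact hα) (minpoly.monic hint)).symm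
    rw [← hev, ← aeval_algebraMap_apply, hb, ← aeval_map_algebraMap K α r, ← minpoly.dvd_iff,
      ← minpoly.dvd_iff, h1]
  have hg : aeval b P.g ∉ t := by
    rw [← Ideal.algebraMap_residueField_eq_zero, ← key, Ideal.algebraMap_residueField_eq_zero]
    exact fun h => (inferInstance : q.IsPrime).ne_top (Ideal.eq_top_of_isUnit_mem _ h P.hasMap.2)
  let g := aeval b P.g
  let L := Localization.Away g
  have hmap : P.P.HasMap (algebraMap T L b) := by
    refine ⟨?_, ?_⟩
    · rw [aeval_algebraMap_apply, hfb, map_zero]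
    · rw [aeval_algebraMap_apply]; exact IsLocalization.Away.algebraMap_isUnit g
  let ψ : B →ₐ[A] L := (P.P.lift _ hmap).comp P.equivRing.toAlgHom
  have hψ : ψ P.x = algebraMap T L b := by
    change P.P.lift _ hmap (P.equivRing P.x) = _
    rw [P.equivRing_x, P.P.lift_X]
  have hd : Disjoint (Submonoid.powers g : Set T) t :=
    Set.disjoint_left.mpr fun y ⟨k, hk⟩ hy =>
      hg (ht.mem_of_pow_mem k (by simpa [← hk] using hy))
  haveI : (t.map (algebraMap T L)).IsPrime :=
    IsLocalization.isPrime_of_isPrime_disjoint (.powers g) L t ht hd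
  have hcm : Ideal.comap (algebraMap T L) (t.map (algebraMap T L)) = t :=
    IsLocalization.comap_map_of_isPrime_disjoint (.powers g) L ht hd
  refine ⟨g, hg, ψ, ?_⟩
  ext y
  obtain ⟨r, n, hr⟩ := P.exists_mul_aeval_x_g_pow_eq_aeval_x y
  have hu : IsUnit (aeval P.x P.g ^ n) := P.hasMap.2.pow n
  rw [Ideal.mem_comap, ← Ideal.mul_unit_mem_iff_mem _ (hu.map ψ), ← map_mul, hr,
    ← Ideal.mul_unit_mem_iff_mem q hu, hr, ← aeval_algHom_apply, hψ, aeval_algebraMap_apply,
    ← Ideal.mem_comap, hcm, ← Ideal.algebraMap_residueField_eq_zero, ← key,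
    Ideal.algebraMap_residueField_eq_zero]

open AlgebraicGeometry CategoryTheory Limits in
/-- Let (U, u) be an étale neighbourhood of (S, s), i.e. U → S étale with u over s. Then there are an
affine open neighbourhood V of s and a surjective, finite, flat morphism of finite presentation π :
T → V such that every point t of T over s has an open neighbourhood W_t with an S-morphism W_t → U
sending t to u. -/
theorem result {U S : Scheme.{u}} (e : U ⟶ S) [Etale e] (u : U) (s : S) (hu : e u = s) :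
    ∃ (V : S.Opens) (T : Scheme.{u}) (π : T ⟶ (V : Scheme.{u})), s ∈ V ∧ IsAffineOpen V ∧ Surjective π ∧ IsFinite π ∧ Flat π ∧ LocallyOfFinitePresentation π ∧
      ∀ t : T, V.ι (π t) = s → ∃ (W : T.Opens) (h : (W : Scheme.{u}) ⟶ U), t ∈ W ∧ h ≫ e = W.ι ≫ π ≫ V.ι ∧ ∀ ht : t ∈ W, h ⟨t, ht⟩ = u := by
  subst hu
  obtain ⟨_, ⟨V, hV, rfl⟩, hyV, -⟩ :=
    S.isBasis_affineOpens.exists_subset_of_mem_open (Set.mem_univ (e u)) isOpen_univ
  obtain ⟨_, ⟨U0, hU0, rfl⟩, hxU, hUV⟩ :=
    U.isBasis_affineOpens.exists_subset_of_mem_open (show u ∈ e ⁻¹ᵁ V from hyV) (e ⁻¹ᵁ V).2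
  have hle : U0 ≤ e ⁻¹ᵁ V := hUV
  have hφ : (e.appLE V U0 hle).hom.Etale :=
    HasRingHomProperty.appLE (P := @Etale) e inferInstance ⟨V, hV⟩ ⟨U0, hU0⟩ hle
  algebraize [(e.appLE V U0 hle).hom]
  let q := (hU0.primeIdealOf ⟨u, hxU⟩).asIdeal
  haveI : Algebra.IsEtaleAt Γ(S, V) q :=
    Algebra.FormallyEtale.comp Γ(S, V) Γ(U, U0) (Localization.AtPrime q)
  obtain ⟨f, hf, hstd⟩ := Algebra.IsEtaleAt.exists_isStandardEtale (R := Γ(S, V)) q
  haveI := hstd
  let B := Localization.Away f
  have hd : Disjoint (Submonoid.powers f : Set Γ(U, U0)) q :=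
    Set.disjoint_left.mpr fun y ⟨k, hk⟩ hy =>
      hf (Ideal.IsPrime.mem_of_pow_mem inferInstance k (by simpa [← hk] using hy))
  haveI hqB : (q.map (algebraMap _ B)).IsPrime :=
    IsLocalization.isPrime_of_isPrime_disjoint (.powers f) B q inferInstance hd
  obtain ⟨T, i1, i2, i3, i4, i5, hT⟩ := exists_splitting (A := Γ(S, V)) (q.map (algebraMap _ B))
  let φ : Γ(S, V) ⟶ CommRingCat.of T := CommRingCat.ofHom (algebraMap _ T)
  haveI : IsFinite (Spec.map φ) :=
    (IsFinite.SpecMap_iff _).mpr (RingHom.finite_algebraMap.mpr i3)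
  haveI : Flat (Spec.map φ) :=
    (HasRingHomProperty.Spec_iff (P := @Flat)).mpr (RingHom.flat_algebraMap_iff.mpr inferInstance)
  haveI : Module.FinitePresentation Γ(S, V) T := Module.finitePresentation_of_projective _ _
  haveI : LocallyOfFinitePresentation (Spec.map φ) :=
    (HasRingHomProperty.Spec_iff (P := @LocallyOfFinitePresentation)).mpr
      (RingHom.finitePresentation_algebraMap.mpr inferInstance)
  haveI : Surjective (Spec.map φ) := ⟨PrimeSpectrum.comap_surjective_of_faithfullyFlat⟩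
  refine ⟨V, Spec (CommRingCat.of T), Spec.map φ ≫ hV.isoSpec.inv, hyV, hV, inferInstance,
    inferInstance, inferInstance, inferInstance, fun t ht => ?_⟩
  have ht' : Spec.map φ t = hV.primeIdealOf ⟨e u, hyV⟩ := by
    refine hV.fromSpec.isOpenEmbedding.injective ?_
    rw [hV.fromSpec_primeIdealOf, ← hV.isoSpec_inv_ι, Scheme.Hom.comp_apply]
    rw [Scheme.Hom.comp_apply] at ht
    exact ht
  have hqp : Spec.map (e.appLE V U0 hle) (hU0.primeIdealOf ⟨u, hxU⟩) = hV.primeIdealOf ⟨e u, hyV⟩ := by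
    refine hV.fromSpec.isOpenEmbedding.injective ?_
    rw [hV.fromSpec_primeIdealOf, ← Scheme.Hom.comp_apply, hV.SpecMap_appLE_fromSpec e hU0 hle,
      Scheme.Hom.comp_apply, hU0.fromSpec_primeIdealOf]
  have hcm : Ideal.comap (algebraMap Γ(U, U0) B) (q.map (algebraMap _ B)) = q :=
    IsLocalization.comap_map_of_isPrime_disjoint (.powers f) B inferInstance hd
  obtain ⟨g, hg, ψ, hψ⟩ := hT t.asIdeal t.2 (by
    rw [IsScalarTower.algebraMap_eq Γ(S, V) Γ(U, U0) B, ← Ideal.comap_comap, hcm]
    exact (congr_arg PrimeSpectrum.asIdeal ht').trans (congr_arg PrimeSpectrum.asIdeal hqp).symm)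
  let L := Localization.Away g
  let ρ : CommRingCat.of T ⟶ CommRingCat.of L := CommRingCat.ofHom (algebraMap T L)
  haveI : IsOpenImmersion (Spec.map ρ) := IsOpenImmersion.of_isLocalization (S := L) g
  let σ : Γ(U, U0) ⟶ CommRingCat.of L :=
    CommRingCat.ofHom (ψ.toRingHom.comp (algebraMap Γ(U, U0) B))
  have hdt : Disjoint (Submonoid.powers g : Set T) t.asIdeal :=
    Set.disjoint_left.mpr fun y ⟨k, hk⟩ hy =>
      hg (t.2.mem_of_pow_mem k (by simpa [← hk] using hy))
  let tg : Spec (CommRingCat.of L) := ⟨t.asIdeal.map (algebraMap T L),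
    IsLocalization.isPrime_of_isPrime_disjoint (.powers g) L _ t.2 hdt⟩
  have htg : Spec.map ρ tg = t := PrimeSpectrum.ext
    (IsLocalization.comap_map_of_isPrime_disjoint (.powers g) L t.2 hdt)
  refine ⟨(Spec.map ρ).opensRange,
    (Spec.map ρ).isoOpensRange.inv ≫ Spec.map σ ≫ hU0.fromSpec, ⟨tg, htg⟩, ?_, fun h => ?_⟩
  · have hcomm : e.appLE V U0 hle ≫ σ = φ ≫ ρ := by
      ext a
      change ψ (algebraMap Γ(U, U0) B (algebraMap Γ(S, V) Γ(U, U0) a)) =
        algebraMap T L (algebraMap Γ(S, V) T a)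
      rw [← IsScalarTower.algebraMap_apply, ψ.commutes, ← IsScalarTower.algebraMap_apply]
    rw [Category.assoc, Category.assoc, ← hV.SpecMap_appLE_fromSpec e hU0 hle,
      ← Category.assoc (Spec.map σ), ← Spec.map_comp, hcomm, Spec.map_comp, Category.assoc,
      ← Category.assoc (Spec.map ρ).isoOpensRange.inv, Scheme.Hom.isoOpensRange_inv_comp,
      Category.assoc, hV.isoSpec_inv_ι]
  · have h1 : (Spec.map ρ).isoOpensRange.inv ⟨t, h⟩ = tg := by
      refine (Spec.map ρ).isOpenEmbedding.injective ?_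
      rw [htg, ← Scheme.Hom.comp_apply, Scheme.Hom.isoOpensRange_inv_comp]
      rfl
    rw [Scheme.Hom.comp_apply, Scheme.Hom.comp_apply, h1]
    refine Eq.trans (congr_arg hU0.fromSpec (PrimeSpectrum.ext ?_)) (hU0.fromSpec_primeIdealOf ⟨u, hxU⟩)
    change (t.asIdeal.map (algebraMap T L)).comap (ψ.toRingHom.comp (algebraMap Γ(U, U0) B)) = q
    rw [← Ideal.comap_comap, ← hcm]
    exact congr_arg (Ideal.comap (algebraMap Γ(U, U0) B)) hψ

end Groth.Agent.S1390
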