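import Groth.Statements.S7198
import Groth.Agent.S1375
import Groth.Agent.S1390
import Groth.Agent.Lib.SchBasic.Basic
import Mathlib.AlgebraicGeometry.ZariskisMainTheorem

set_option autoImplicit false
universe w u
open FlatMor

set_option backward.isDefEq.respectTransparency.types false

namespace Groth.Agent.S7198


open AlgebraicGeometry CategoryTheory Limits

theorem etale_local_global {S₁ S : Scheme.{u}} (g : S₁ ⟶ S) [Flat g] [LocallyOfFinitePresentation g]
    [Surjective g] (s : S) :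
    ∃ (S' V : Scheme.{u}) (e : S' ⟶ S) (π : V ⟶ S'), Etale e ∧ s ∈ Set.range ⇑e ∧ Surjective π ∧
      IsFinite π ∧ Flat π ∧ LocallyOfFinitePresentation π ∧ ∃ r : V ⟶ S₁, r ≫ g = π ≫ e := by
  obtain ⟨T, h, _, _, _, _, href⟩ := Groth.Agent.S1375.result g
  obtain ⟨t, rfl⟩ := (inferInstance : Surjective h).surj s
  obtain ⟨A, hA, htA, -⟩ := exists_isAffineOpen_mem_and_subset (X := S) (x := h t) (U := ⊤) trivial
  obtain ⟨W, r, htW, hr⟩ := href t
  obtain ⟨B, hB, htB, hBsub⟩ :=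
    exists_isAffineOpen_mem_and_subset (X := T) (x := t) (U := h ⁻¹ᵁ A ⊓ W) ⟨htA, htW⟩
  have hBA : B ≤ h ⁻¹ᵁ A := fun x hx => (hBsub hx).1
  have hBW : B ≤ W := fun x hx => (hBsub hx).2
  have : IsAffine (B : Scheme.{u}) := hB
  have : IsAffine (A : Scheme.{u}) := hA
  have : IsSeparated (B.ι ≫ h) := by
    rw [← Scheme.Hom.resLE_comp_ι h hBA]
    infer_instance
  obtain ⟨U, e, _, -, V, -, v, -, hfin, hv⟩ := exists_etale_isCompl_of_quasiFiniteAt (B.ι ≫ h)
    (x := (⟨t, htB⟩ : B)) (s := h t) rfl (Scheme.Hom.quasiFiniteAt _ _)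
  let q := V.ι ≫ pullback.snd (B.ι ≫ h) e
  have : IsFinite q := hfin
  let O : U.Opens := ⟨Set.range q, q.isOpenMap.isOpen_range⟩
  let π : (V : Scheme.{u}) ⟶ (O : Scheme.{u}) := IsOpenImmersion.lift O.ι q (by rw [O.range_ι]; rfl)
  have hπ : π ≫ O.ι = q := IsOpenImmersion.lift_fac _ _ _
  have : IsFinite (π ≫ O.ι) := hπ ▸ inferInstance
  have : Flat (π ≫ O.ι) := hπ ▸ inferInstance
  have : LocallyOfFinitePresentation (π ≫ O.ι) := hπ ▸ inferInstance
  refine ⟨O, V, O.ι ≫ e, π, inferInstance, ⟨π v, ?_⟩, ⟨fun o => ?_⟩, IsFinite.of_comp π O.ι,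
    MorphismProperty.of_postcomp (W := @Flat) (W' := @IsOpenImmersion) π O.ι inferInstance inferInstance,
    Groth.Agent.SchBasic.locallyOfFinitePresentation_of_comp π O.ι,
    V.ι ≫ pullback.fst (B.ι ≫ h) e ≫ T.homOfLE hBW ≫ r, ?_⟩
  · rw [← Scheme.Hom.comp_apply, ← Category.assoc, hπ]
    change (q ≫ e) v = _
    simp only [q, Category.assoc, ← pullback.condition]
    simp only [Scheme.Hom.comp_apply]
    change h (B.ι (pullback.fst (B.ι ≫ h) e v.1)) = h t
    rw [hv]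
    rfl
  · obtain ⟨a, ha⟩ := o.2
    refine ⟨a, Subtype.ext ?_⟩
    rw [← hπ] at ha
    exact ha
  · simp only [Category.assoc, hr, reassoc_of% hπ, q, Scheme.homOfLE_ι_assoc, pullback.condition]

open AlgebraicGeometry CategoryTheory Limits in
/-- Any fppf covering {S_i → S} is refined by a family built in four steps — cover S by Zariski opens
U_j; over each U_j take a surjective finite locally free W_j → U_j; cover each W_j by Zariski opens
W_{j,k}; over each of those take a surjective finite locally free T_{j,k} → W_{j,k} — where every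
composite T_{j,k} → S factors through some S_i. Stated pointwise: around every point of S, and then
around every point of the finite locally free cover, such data exist. -/
theorem result {S : Scheme.{u}} (E : PreZeroHypercover.{w} S)
    (hflat : ∀ i, Flat (E.f i)) (hfp : ∀ i, LocallyOfFinitePresentation (E.f i))
    (hsurj : ∀ s : S, ∃ (i : E.I₀) (x : E.X i), E.f i x = s) (s : S) :
    ∃ (U : S.Opens) (W : Scheme.{u}) (π : W ⟶ U.toScheme), s ∈ U ∧ Mor2.IsFinLocFree π ∧ Surjective π ∧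
      ∀ w : W, ∃ (W' : W.Opens) (T : Scheme.{u}) (ρ : T ⟶ W'.toScheme) (i : E.I₀) (r : T ⟶ E.X i),
        w ∈ W' ∧ Mor2.IsFinLocFree ρ ∧ Surjective ρ ∧ r ≫ E.f i = ρ ≫ W'.ι ≫ π ≫ U.ι := by
  obtain ⟨i, x, hx⟩ := hsurj s
  haveI := hflat i
  haveI := hfp i
  let O : S.Opens := ⟨Set.range (E.f i), (E.f i).isOpenMap.isOpen_range⟩
  let g' : E.X i ⟶ (O : Scheme.{u}) :=
    IsOpenImmersion.lift O.ι (E.f i) (by rw [O.range_ι]; rfl)
  have hg : g' ≫ O.ι = E.f i := IsOpenImmersion.lift_fac _ _ _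
  haveI : Flat (g' ≫ O.ι) := hg ▸ inferInstance
  haveI : LocallyOfFinitePresentation (g' ≫ O.ι) := hg ▸ inferInstance
  haveI : Flat g' :=
    MorphismProperty.of_postcomp (W := @Flat) (W' := @IsOpenImmersion) g' O.ι inferInstance inferInstance
  haveI : LocallyOfFinitePresentation g' :=
    Groth.Agent.SchBasic.locallyOfFinitePresentation_of_comp g' O.ι
  haveI : Surjective g' := ⟨fun o => by
    obtain ⟨a, ha⟩ := o.2
    refine ⟨a, Subtype.ext ?_⟩
    rw [← hg] at ha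
    exact ha⟩
  obtain ⟨S', V, e, πV, he, ⟨u, hu⟩, hsV, hfV, hflV, hpV, r, hr⟩ :=
    etale_local_global g' ⟨s, x, hx⟩
  haveI : Etale (e ≫ O.ι) := MorphismProperty.comp_mem _ _ _ he inferInstance
  obtain ⟨U0, W0, π0, hsU0, -, hs0, hf0, hfl0, hp0, hW0⟩ :=
    Groth.Agent.S1390.result (e ≫ O.ι) u s (by rw [Scheme.Hom.comp_apply, hu]; rfl)
  let G : Set W0 := {w | ∃ (W : W0.Opens) (h : (W : Scheme.{u}) ⟶ S'), w ∈ W ∧
    h ≫ e ≫ O.ι = W.ι ≫ π0 ≫ U0.ι}
  have hG : IsOpen G := isOpen_iff_forall_mem_open.mpr fun w ⟨W, h, hw, hh⟩ =>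
    ⟨W, fun v hv => ⟨W, h, hv, hh⟩, W.2, hw⟩
  have hcl : IsClosed (π0 '' Gᶜ) := π0.isClosedMap _ hG.isClosed_compl
  let U : S.Opens := U0.ι ''ᵁ ⟨(π0 '' Gᶜ)ᶜ, hcl.isOpen_compl⟩
  have hUle : U ≤ U0 := by
    rintro _ ⟨y, -, rfl⟩
    exact y.2
  have hsU : s ∈ U := by
    refine ⟨⟨s, hsU0⟩, ?_, rfl⟩
    rintro ⟨w, hw, hws⟩
    obtain ⟨W, h, hwW, hh, -⟩ := hW0 w (by rw [hws]; rfl)
    exact hw ⟨W, h, hwW, hh⟩
  refine ⟨U, pullback π0 (S.homOfLE hUle), pullback.snd _ _, hsU,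
    ⟨inferInstance, inferInstance, inferInstance⟩, inferInstance, fun w => ?_⟩
  have hgood : pullback.fst π0 (S.homOfLE hUle) w ∈ G := by
    by_contra hbad
    obtain ⟨y, hy, hyeq⟩ := (pullback.snd π0 (S.homOfLE hUle) w).2
    refine hy ⟨_, hbad, Subtype.ext ?_⟩
    rw [← Scheme.Hom.comp_apply, pullback.condition]
    change (((pullback.snd π0 (S.homOfLE hUle)) ≫ S.homOfLE hUle) ≫ U0.ι) w = U0.ι y
    rw [Category.assoc, Scheme.homOfLE_ι, Scheme.Hom.comp_apply]
    exact hyeq.symm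
  obtain ⟨W, h, hwW, hh⟩ := hgood
  let W' := pullback.fst π0 (S.homOfLE hUle) ⁻¹ᵁ W
  let h' : (W' : Scheme.{u}) ⟶ S' := (pullback.fst π0 (S.homOfLE hUle) ∣_ W) ≫ h
  refine ⟨W', pullback πV h', pullback.snd _ _, i, pullback.fst _ _ ≫ r, hwW,
    ⟨inferInstance, inferInstance, inferInstance⟩, inferInstance, ?_⟩
  calc (pullback.fst πV h' ≫ r) ≫ E.f i = pullback.fst πV h' ≫ (r ≫ g') ≫ O.ι := by
        rw [Category.assoc, Category.assoc, hg]
    _ = (pullback.fst πV h' ≫ πV) ≫ e ≫ O.ι := by rw [hr]; simp only [Category.assoc]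
    _ = pullback.snd πV h' ≫ h' ≫ e ≫ O.ι := by rw [pullback.condition, Category.assoc]
    _ = _ := by
        simp only [h', W', Category.assoc, hh]
        rw [morphismRestrict_ι_assoc, pullback.condition_assoc, Scheme.homOfLE_ι]

end Groth.Agent.S7198
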