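import Groth.Statements.S12088
import Groth.Agent.Lib.RelPCS8.Closed

set_option autoImplicit false
universe u
open CategoryTheory CategoryTheory.Limits AlgebraicGeometry
attribute [local instance] HasDerivedCategory.standard
open FlatMor

set_option backward.isDefEq.respectTransparency.types false

namespace Groth.Agent.S12088



open Groth.Agent Groth.Agent.RelPCS8 in
theorem good_comp_iff {X Y S : Scheme.{u}} {f : X ⟶ Y} {g : Y ⟶ S}
    [LocallyOfFiniteType f] [LocallyOfFiniteType g] (hg : ∀ n : ℤ, DerSch.IsNPseudoCoherent g n)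
    {U : X.Opens} {V : Y.Opens} {W : S.Opens} (hU : IsAffineOpen U) (hV : IsAffineOpen V) (hW : IsAffineOpen W)
    (h : U ≤ f ⁻¹ᵁ V) (h' : V ≤ g ⁻¹ᵁ W) (m : ℤ) (E : DCoh.D X) :
    Good f m E U V ↔ Good (f ≫ g) m E U W := by
  obtain ⟨n, φ, hφ⟩ := exists_chart_of_lft (f := g) hV hW h'
  obtain ⟨k, θ, hθ⟩ := exists_chart_of_lft (f := f) hU hV h
  have hpc : PCMor4.PCR φ := fun j =>
    (test_unit_iff hV φ hφ.1 j).1 ((good_unit_of_nPseudoCoherent hg hV hW h' _).test hφ)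
  let σ : MvPolynomial (Fin (k + n)) Γ(S, W) →+* MvPolynomial (Fin k) Γ(Y, V) :=
    (MvPolynomial.map φ).comp (PCMor4.blockEquiv Γ(S, W) k n).toRingEquiv.toRingHom
  have hσ : Function.Surjective σ :=
    (MvPolynomial.map_surjective φ hφ.1).comp (PCMor4.blockEquiv Γ(S, W) k n).surjective
  have hσpc : PCMor4.PCR σ := PCMor4.pcr_comp
    (PCMor4.pcr_of_bijective _ (PCMor4.blockEquiv Γ(S, W) k n).bijective) (PCMor4.pcr_map hpc k)
  have hle : U ≤ (f ≫ g) ⁻¹ᵁ W := fun x hx => h' (h hx)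
  have hψ : DerSch.IsChart (f ≫ g) U W hle (θ.comp σ) := ⟨hθ.1.comp hσ, RingHom.ext fun r => by
    show θ (MvPolynomial.map φ (PCMor4.blockEquiv Γ(S, W) k n (MvPolynomial.C r))) = _
    rw [show PCMor4.blockEquiv Γ(S, W) k n (MvPolynomial.C r) = MvPolynomial.C (MvPolynomial.C r) from
      (PCMor4.blockEquiv Γ(S, W) k n).commutes r, MvPolynomial.map_C,
      show φ (MvPolynomial.C r) = (g.appLE W V h').hom r from RingHom.congr_fun hφ.2 r,
      show θ (MvPolynomial.C ((g.appLE W V h').hom r)) = (f.appLE V U h).hom ((g.appLE W V h').hom r) from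
        RingHom.congr_fun hθ.2 _, ← RingHom.comp_apply, ← CommRingCat.hom_comp, Scheme.Hom.appLE_comp_appLE]⟩
  constructor
  · intro hf
    exact ⟨hU, hW, hle, k + n, _, hψ, (test_comp_iff hU θ hθ.1 σ hσ hσpc m E).2 (hf.test hθ)⟩
  · intro hf
    exact ⟨hU, hV, h, k, θ, hθ, (test_comp_iff hU θ hθ.1 σ hσ hσpc m E).1 (hf.test hψ)⟩

open Groth.Agent Groth.Agent.RelPCS8 in
theorem exists_triple {X Y S : Scheme.{u}} (f : X ⟶ Y) (g : Y ⟶ S) (x : X) :
    ∃ (U : X.Opens) (V : Y.Opens) (W : S.Opens), x ∈ U ∧ IsAffineOpen U ∧ IsAffineOpen V ∧ IsAffineOpen W ∧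
      U ≤ f ⁻¹ᵁ V ∧ V ≤ g ⁻¹ᵁ W := by
  obtain ⟨V, W, hxV, hV, hW, hVW⟩ := exists_affine_pair g (f x)
  obtain ⟨U, hU, hxU, hle⟩ := exists_isAffineOpen_mem_and_subset (U := f ⁻¹ᵁ V) hxV
  exact ⟨U, V, W, hxU, hU, hV, hW, hle, hVW⟩

/-- Let `f : X ⟶ Y` and `g : Y ⟶ S` be locally of finite type with `g` pseudo-coherent (`O_Y` placed in
degree `0` is `n`-pseudo-coherent relative to `g` for every integer `n`), `m` an integer and `E` any
object of `D(O_X)`. Relative to `f`, `E` is `m`-pseudo-coherent if and only if it is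
`m`-pseudo-coherent relative to the composite `f ≫ g` (cover-and-chart form). No boundedness of `E`
is assumed: relative pseudo-coherence forces it locally on `X`. -/
theorem result {X Y S : Scheme.{u}} (f : X ⟶ Y) (g : Y ⟶ S)
    [LocallyOfFiniteType f] [LocallyOfFiniteType g] (hg : ∀ n : ℤ, DerSch.IsNPseudoCoherent g n)
    (m : ℤ) (E : DCoh.D X) :
    DerSch.IsPseudoCoherentRel f m E ↔ DerSch.IsPseudoCoherentRel (f ≫ g) m E := by
  constructor
  · intro hR
    refine Groth.Agent.RelPCS8.rel_of_locally fun x => ?_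
    obtain ⟨U, V, W, hxU, hU, hV, hW, hle, hVW⟩ := exists_triple f g x
    exact ⟨U, W, hxU, (good_comp_iff hg hU hV hW hle hVW m E).1 ((Groth.Agent.RelPCS8.rel_iff.1 hR).2 U V hU hV hle)⟩
  · intro hR
    refine Groth.Agent.RelPCS8.rel_of_locally fun x => ?_
    obtain ⟨U, V, W, hxU, hU, hV, hW, hle, hVW⟩ := exists_triple f g x
    exact ⟨U, V, hxU, (good_comp_iff hg hU hV hW hle hVW m E).2
      ((Groth.Agent.RelPCS8.rel_iff.1 hR).2 U W hU hW fun x hx => hVW (hle hx))⟩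

end Groth.Agent.S12088
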