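import Groth.Statements.S3866
import Mathlib.RingTheory.AdicCompletion.AsTensorProduct

set_option autoImplicit false
universe u
open AdicRing

namespace Groth.Agent.S3866

/-- Let A be a Noetherian ring that is complete and separated for the J-adic topology, where J is an
ideal of A. Then every finite A-module M is itself complete and separated for the J-adic topology.
(This is the algebraic fact behind the statement that the global sections of the sheaf M^Δ on the
formal spectrum of A recover M.) -/
theorem result (A : Type u) [CommRing A] [IsNoetherianRing A]
    (J : Ideal A) [IsAdicComplete J A] (M : Type u) [AddCommGroup M] [Module A M] [Module.Finite A M] :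
    IsAdicComplete J M := by
  rw [← AdicCompletion.of_bijective_iff]
  let eA : A ≃ₗ[A] AdicCompletion J A := LinearEquiv.ofBijective _ (AdicCompletion.of_bijective J A)
  have hbij := AdicCompletion.ofTensorProduct_bijective_of_finite_of_isNoetherian J M
  have heq : ∀ m, AdicCompletion.of J M m =
      AdicCompletion.ofTensorProduct J M (TensorProduct.tmul A (eA 1) m) := fun m => by
    rw [AdicCompletion.ofTensorProduct_tmul]
    show _ = (AdicCompletion.of J A 1) • _
    exact (one_smul _ _).symm
  let e : M ≃ₗ[A] TensorProduct A (AdicCompletion J A) M :=
    (TensorProduct.lid A M).symm.trans (TensorProduct.congr eA (LinearEquiv.refl A M))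
  have : (AdicCompletion.of J M : M → _) = AdicCompletion.ofTensorProduct J M ∘ e :=
    funext heq
  rw [this]
  exact hbij.comp e.bijective

end Groth.Agent.S3866
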