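import Groth.Statements.S8834
import Mathlib.RingTheory.Finiteness.Ideal
import Mathlib.RingTheory.Ideal.Maps

set_option autoImplicit false
universe u
open AdicRing

namespace Groth.Agent.S8834

/-- Let A be a Noetherian ring complete for the adic topology of an ideal I and B a Noetherian ring
complete for the adic topology of an ideal J, with an algebra map A → B sending I into the radical
of J (a continuous homomorphism of adic Noetherian topological rings; the radicals of I and J are
the ideals of topologically nilpotent elements). Assume B/√J is of finite type over A, equivalently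
over A/√I. Then B is topologically of finite type over A: there are b_1, …, b_s ∈ B such that the
A-algebra map A[x_1, …, x_s] → B with x_i ↦ b_i has dense image for the J-adic topology, that is,
for every y ∈ B and every n there is a polynomial whose value at b differs from y by an element of
J^n. -/
theorem result (A : Type u) [CommRing A] [IsNoetherianRing A] (I : Ideal A) [IsAdicComplete I A] (B : Type u) [CommRing B] [Algebra A B] [IsNoetherianRing B] (J : Ideal B) [IsAdicComplete J B] (hIJ : I.map (algebraMap A B) ≤ J.radical) (hft : Algebra.FiniteType A (B ⧸ J.radical)) : ∃ s : ℕ, ∃ b : Fin s → B, ∀ (y : B) (n : ℕ), ∃ p : MvPolynomial (Fin s) A, y - MvPolynomial.aeval b p ∈ J ^ n := by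
  classical
  obtain ⟨t, ht⟩ := hft.out
  obtain ⟨w, hw⟩ := IsNoetherian.noetherian (R := B) J.radical
  choose σ hσ using Ideal.Quotient.mk_surjective (I := J.radical)
  set T := t.image σ ∪ w with hT
  let S := Algebra.adjoin A (T : Set B)
  have h1 : ∀ y : B, ∃ s ∈ S, y - s ∈ J.radical := by
    intro y
    have hy : Ideal.Quotient.mkₐ A J.radical y ∈ Algebra.adjoin A ((Ideal.Quotient.mkₐ A J.radical) '' (σ '' (t : Set (B ⧸ J.radical)))) := by
      have he : (Ideal.Quotient.mkₐ A J.radical) '' (σ '' (t : Set (B ⧸ J.radical))) = (t : Set (B ⧸ J.radical)) := by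
        rw [← Set.image_comp]
        convert Set.image_id _
        funext z; exact hσ z
      rw [he, ht]; exact Algebra.mem_top
    rw [← AlgHom.map_adjoin] at hy
    obtain ⟨s, hs, hse⟩ := hy
    refine ⟨s, Algebra.adjoin_mono (by simp [hT]) hs, ?_⟩
    exact Ideal.Quotient.eq.1 hse.symm
  have hgen : ∀ m, ∀ z ∈ J.radical ^ m, ∃ s ∈ S, z - s ∈ J.radical ^ (m + 1) := by
    intro m
    open scoped Pointwise in
    have hspan : ∀ m, J.radical ^ m = Ideal.span ((w : Set B) ^ m) := fun m => by
      rw [← hw]; exact Submodule.span_pow _ m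
    intro z hz
    rw [hspan m] at hz
    induction hz using Submodule.span_induction with
    | mem x hx =>
      refine ⟨x, ?_, by simp⟩
      open scoped Pointwise in
      have : ((w : Set B) ^ m) ⊆ (S : Set B) := by
        clear hx
        induction m with
        | zero => simpa using S.one_mem
        | succ m ih =>
          rw [pow_succ]
          rintro _ ⟨a, ha, b, hb, rfl⟩
          exact S.mul_mem (ih ha) (Algebra.subset_adjoin (by simp [hT, Finset.mem_coe.1 hb]))
      exact this hx
    | zero => exact ⟨0, S.zero_mem, by simp⟩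
    | add x y _ _ hx hy =>
      obtain ⟨a, ha, ha'⟩ := hx; obtain ⟨b, hb, hb'⟩ := hy
      exact ⟨a + b, S.add_mem ha hb, by rw [add_sub_add_comm]; exact Ideal.add_mem _ ha' hb'⟩
    | smul c x hx ih =>
      obtain ⟨a, ha, ha'⟩ := h1 c
      obtain ⟨b, hb, hb'⟩ := ih
      refine ⟨a * b, S.mul_mem ha hb, ?_⟩
      have hxm : x ∈ J.radical ^ m := by rw [hspan m]; exact hx
      rw [smul_eq_mul, show c * x - a * b = (c - a) * x + a * (x - b) by ring]
      refine Ideal.add_mem _ ?_ (Ideal.mul_mem_left _ _ hb')
      rw [pow_succ']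
      exact Ideal.mul_mem_mul ha' hxm
  have hall : ∀ m (y : B), ∃ s ∈ S, y - s ∈ J.radical ^ m := by
    intro m
    induction m with
    | zero => intro y; exact ⟨0, S.zero_mem, by simp⟩
    | succ m ih =>
      intro y
      obtain ⟨s, hs, hs'⟩ := ih y
      obtain ⟨s', hs2, hs2'⟩ := hgen m _ hs'
      exact ⟨s + s', S.add_mem hs hs2, by rwa [← sub_sub]⟩
  obtain ⟨N, hN⟩ := Ideal.exists_radical_pow_le_of_fg J (IsNoetherian.noetherian _)
  refine ⟨T.card, fun i => (T.equivFin.symm i : B), fun y n => ?_⟩
  obtain ⟨s, hs, hs'⟩ := hall (N * n) y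
  have hrange : Set.range (fun i => (T.equivFin.symm i : B)) = (T : Set B) := by
    ext x; constructor
    · rintro ⟨i, rfl⟩; exact (T.equivFin.symm i).2
    · intro hx; exact ⟨T.equivFin ⟨x, hx⟩, by simp⟩
  have hs2 : s ∈ (MvPolynomial.aeval (R := A) fun i => (T.equivFin.symm i : B)).range := by
    rw [← Algebra.adjoin_range_eq_range_aeval, hrange]; exact hs
  obtain ⟨p, rfl⟩ := hs2
  exact ⟨p, Ideal.pow_right_mono hN n (by rw [← pow_mul]; exact hs')⟩

end Groth.Agent.S8834
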