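import Groth.Statements.S8804
import Groth.Agent.Lib.Compl.Complete
import Mathlib.RingTheory.Henselian
import Mathlib.RingTheory.Ideal.KrullsHeightTheorem
import Mathlib.RingTheory.Ideal.MinimalPrime.Noetherian
import Mathlib.RingTheory.KrullDimension.Field

set_option autoImplicit false
universe u
open AdicRing

namespace Groth.Agent.S8804

/-- Let A be a Noetherian ring which is complete for the adic topology of an ideal I, and let q be a
prime ideal of A. The following are equivalent: (1) I ⊄ q and q is maximal among the primes not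
containing I; (5) dim(A/q) = 1 and I ⊄ q; (8) A/q is a one-dimensional complete local ring whose
maximal ideal is the radical of the image of I (stated as: the Krull dimension of A/q is 1, every
maximal ideal of A/q equals the radical of I(A/q), and A/q is adically complete for that radical).
(The other equivalent forms, for other ideals of definition or for the induced topology, are not
stated.) -/
theorem result (A : Type u) [CommRing A] [IsNoetherianRing A] (I : Ideal A) [IsAdicComplete I A] (q : PrimeSpectrum A) : List.TFAE [¬ I ≤ q.asIdeal ∧ ∀ q' : PrimeSpectrum A, q ≤ q' → ¬ I ≤ q'.asIdeal → q' = q, ringKrullDim (A ⧸ q.asIdeal) = 1 ∧ ¬ I ≤ q.asIdeal, ringKrullDim (A ⧸ q.asIdeal) = 1 ∧ (∀ m : Ideal (A ⧸ q.asIdeal), m.IsMaximal → m = (I.map (Ideal.Quotient.mk q.asIdeal)).radical) ∧ IsAdicComplete (I.map (Ideal.Quotient.mk q.asIdeal)).radical (A ⧸ q.asIdeal)] := by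
  classical
  have hjac : I ≤ (⊥ : Ideal A).jacobson := IsAdicComplete.le_jacobson_bot I
  set D := A ⧸ q.asIdeal
  set J : Ideal D := I.map (Ideal.Quotient.mk q.asIdeal) with hJ
  haveI : IsAdicComplete J D :=
    (IsAdicComplete.map_algebraMap_iff I D).mpr (Groth.Agent.Compl.isAdicComplete_of_finite I D)
  tfae_have 1 → 3 := by
    rintro ⟨hIq, hmax⟩
    obtain ⟨a0, haI, haq⟩ := SetLike.not_le_iff_exists.mp hIq
    set a : D := Ideal.Quotient.mk q.asIdeal a0
    have haJ : a ∈ J := Ideal.mem_map_of_mem _ haI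
    have ha0 : a ≠ 0 := fun h => haq (Ideal.Quotient.eq_zero_iff_mem.mp h)
    have hcont : ∀ P : Ideal D, P.IsPrime → P ≠ ⊥ → J ≤ P := by
      intro P hP hP0
      haveI := hP
      rw [hJ, Ideal.map_le_iff_le_comap]
      by_contra h
      have hle : q.asIdeal ≤ P.comap (Ideal.Quotient.mk q.asIdeal) := fun x hx => by
        rw [Ideal.mem_comap, Ideal.Quotient.eq_zero_iff_mem.mpr hx]
        exact zero_mem _
      have e := congrArg PrimeSpectrum.asIdeal (hmax ⟨P.comap _, Ideal.IsPrime.comap _⟩ hle h)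
      apply hP0
      rw [← Ideal.map_comap_of_surjective _ Ideal.Quotient.mk_surjective P]
      exact (congrArg (Ideal.map _) e).trans (Ideal.map_quotient_self _)
    have hSfin : (Ideal.span {a}).minimalPrimes.Finite := Ideal.finite_minimalPrimes_of_isNoetherianRing _ _
    have hmaxS : ∀ m : Ideal D, m.IsMaximal → m ∈ (Ideal.span {a}).minimalPrimes := by
      intro m hm
      have ham : a ∈ m := Ideal.mem_sInf.mp (IsAdicComplete.le_jacobson_bot J haJ : a ∈ (⊥ : Ideal D).jacobson) ⟨bot_le, hm⟩
      obtain ⟨s0, hs0⟩ : (Ideal.span {a}).minimalPrimes.Nonempty :=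
        Set.nonempty_coe_sort.mp (Ideal.nonempty_minimalPrimes fun h => hm.ne_top (top_le_iff.mp (h.symm.le.trans
          ((Ideal.span_singleton_le_iff_mem _).mpr ham))))
      have hsub : (m : Set D) ⊆ ⋃ s ∈ hSfin.toFinset, (s : Set D) := by
        intro x hx
        rw [Set.mem_iUnion₂]
        by_cases hx0 : x = 0
        · exact ⟨s0, hSfin.mem_toFinset.mpr hs0, hx0 ▸ zero_mem _⟩
        haveI := hm.isPrime
        obtain ⟨s, hs, -⟩ := Ideal.exists_minimalPrimes_le
          (show Ideal.span {x} ≤ m from (Ideal.span_singleton_le_iff_mem _).mpr hx)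
        haveI := hs.1.1
        have hxs : x ∈ s := hs.1.2 (Ideal.mem_span_singleton_self x)
        have hs0' : s ≠ ⊥ := fun h => hx0 (by rw [h] at hxs; exact hxs)
        have hsht : s.height ≤ 1 := Ideal.height_le_one_of_isPrincipal_of_mem_minimalPrimes _ _ hs
        obtain ⟨t, ht, hts⟩ := Ideal.exists_minimalPrimes_le
          (show Ideal.span {a} ≤ s from (Ideal.span_singleton_le_iff_mem _).mpr (hcont s hs.1.1 hs0' haJ))
        haveI := ht.1.1
        refine ⟨t, hSfin.mem_toFinset.mpr ht, ?_⟩
        by_contra hxt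
        have hlt : t < s := lt_of_le_of_ne hts fun h => hxt (h ▸ hxs)
        have h1 := lt_of_lt_of_le (Ideal.height_strict_mono_of_isPrime hlt) hsht
        have h2 : t = ⊥ := Ideal.height_eq_zero_iff_eq_bot.mp (ENat.lt_one_iff_eq_zero.mp h1)
        exact ha0 (by simpa [h2] using ht.1.2 (Ideal.mem_span_singleton_self a))
      obtain ⟨s, hs, hms⟩ := (Ideal.subset_union_prime ⊥ ⊥
        (fun i hi _ _ => (hSfin.mem_toFinset.mp hi).1.1)).mp hsub
      have hs' := hSfin.mem_toFinset.mp hs
      rwa [hm.eq_of_le hs'.1.1.ne_top hms]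
    have hpm : ∀ P : Ideal D, P.IsPrime → P ≠ ⊥ → P.IsMaximal := by
      intro P hP hP0
      obtain ⟨m, hm, hPm⟩ := P.exists_le_maximal hP.ne_top
      rwa [le_antisymm hPm ((hmaxS m hm).2
        ⟨hP, (Ideal.span_singleton_le_iff_mem _).mpr (hcont P hP hP0 haJ)⟩ hPm)]
    obtain ⟨m0, hm0⟩ := Ideal.exists_maximal D
    have hm0a : a ∈ m0 := (hmaxS m0 hm0).1.2 (Ideal.mem_span_singleton_self a)
    have hm0b : m0 ≠ ⊥ := fun h => ha0 (by simpa [h] using hm0a)
    haveI : (⊥ : Ideal D).IsPrime := Ideal.isPrime_bot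
    haveI hd1 : Ring.KrullDimLE 1 D :=
      Ring.krullDimLE_one_iff_of_isPrime_bot.mpr fun P hP0 hP => hpm P hP hP0
    have hdim : ringKrullDim D = 1 := by
      refine le_antisymm (Ring.krullDimLE_iff.mp hd1) ?_
      haveI := hm0.isPrime
      have h1 : (1 : ℕ∞) ≤ m0.height := by
        rw [ENat.one_le_iff_ne_zero]
        exact fun h => hm0b (Ideal.height_eq_zero_iff_eq_bot.mp h)
      exact le_trans (WithBot.coe_le_coe.mpr h1) (Ideal.height_le_ringKrullDim_of_isPrime)
    obtain ⟨k, hk⟩ := Ideal.exists_radical_pow_le_of_fg J (IsNoetherian.noetherian _)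
    haveI hR : IsAdicComplete J.radical D :=
      Groth.Agent.Compl.isAdicComplete_of_le_of_pow_le D Ideal.le_radical hk
    have huniq : ∀ m : Ideal D, m.IsMaximal → m = m0 := by
      intro m hm
      by_contra hne
      set O : Finset (Ideal D) := hSfin.toFinset.filter (fun s => s.IsMaximal ∧ s ≠ m0)
      let P' : Ideal D := ∏ s ∈ O, s
      have hcop : m0 ⊔ P' = ⊤ := by
        refine Ideal.sup_prod_eq_top fun s hs => ?_
        obtain ⟨-, hs1, hs2⟩ := Finset.mem_filter.mp hs
        exact hm0.coprime_of_ne hs1 (Ne.symm hs2)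
      obtain ⟨e, he, e', he', hee⟩ := Submodule.mem_sup.mp ((Ideal.eq_top_iff_one _).mp hcop)
      have hrad : e * (e - 1) ∈ J.radical := by
        rw [Ideal.radical_eq_sInf]
        refine Ideal.mem_sInf.mpr fun P hP => ?_
        obtain ⟨hJP, hPp⟩ := hP
        have hP0 : P ≠ ⊥ := fun h => ha0 (by have := hJP haJ; rwa [h, Ideal.mem_bot] at this)
        have hPmax := hpm P hPp hP0
        by_cases hPm : P = m0
        · exact Ideal.mul_mem_right _ _ (hPm ▸ he)
        · refine Ideal.mul_mem_left _ _ ?_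
          rw [← hee, sub_add_cancel_left, neg_mem_iff]
          exact (Ideal.prod_le_inf.trans (Finset.inf_le
            (Finset.mem_filter.mpr ⟨hSfin.mem_toFinset.mpr (hmaxS P hPmax), hPmax, hPm⟩))) he'
      haveI : HenselianRing D J.radical := IsAdicComplete.henselianRing D _
      obtain ⟨x, hx, hxe⟩ := HenselianRing.is_henselian (I := J.radical)
        ((Polynomial.X : Polynomial D) ^ 2 - Polynomial.X) (by monicity!) e
        (by simp only [Polynomial.eval_sub, Polynomial.eval_pow, Polynomial.eval_X]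
            rwa [show e ^ 2 - e = e * (e - 1) by ring])
        (by
          rw [isUnit_iff_exists_inv]
          refine ⟨Ideal.Quotient.mk _ (2 * e - 1), ?_⟩
          rw [← map_mul, ← map_one (Ideal.Quotient.mk J.radical), Ideal.Quotient.eq]
          simp only [Polynomial.derivative_sub, Polynomial.derivative_X_pow, Polynomial.derivative_X,
            Polynomial.eval_sub, Polynomial.eval_mul, Polynomial.eval_C, Polynomial.eval_pow,
            Polynomial.eval_X, Polynomial.eval_one]
          norm_num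
          have e4 : (2 * e - 1) * (2 * e - 1) - 1 = 4 * (e * (e - 1)) := by ring
          rw [e4]
          exact Ideal.mul_mem_left _ _ hrad)
      have hx2 : x * (x - 1) = 0 := by
        have : x ^ 2 - x = 0 := by simpa [Polynomial.IsRoot] using hx
        rw [← this]; ring
      have hm0J : J.radical ≤ m0 := hm0.isPrime.radical_le_iff.mpr (hcont m0 hm0.isPrime hm0b)
      have hmS := hmaxS m hm
      have hma : a ∈ m := hmS.1.2 (Ideal.mem_span_singleton_self a)
      have hmb : m ≠ ⊥ := fun h => ha0 (by simpa [h] using hma)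
      have hmJ : J.radical ≤ m := hm.isPrime.radical_le_iff.mpr (hcont m hm.isPrime hmb)
      have he1 : e' ∈ m := (Ideal.prod_le_inf.trans (Finset.inf_le
            (Finset.mem_filter.mpr ⟨hSfin.mem_toFinset.mpr hmS, hm, hne⟩))) he'
      rcases mul_eq_zero.mp hx2 with h | h
      · rw [h, zero_sub, neg_mem_iff] at hxe
        refine hm.ne_top ((Ideal.eq_top_iff_one _).mpr ?_)
        rw [← hee]
        exact add_mem (hmJ hxe) he1
      · rw [sub_eq_zero.mp h] at hxe
        refine hm0.ne_top ((Ideal.eq_top_iff_one _).mpr ?_)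
        have := add_mem (hm0J hxe) he
        rwa [sub_add_cancel] at this
    refine ⟨hdim, fun m hm => ?_, hR⟩
    rw [huniq m hm]
    refine le_antisymm ?_ (hm0.isPrime.radical_le_iff.mpr (hcont m0 hm0.isPrime hm0b))
    rw [Ideal.radical_eq_sInf]
    refine le_sInf fun P ⟨hJP, hPp⟩ => ?_
    have hP0 : P ≠ ⊥ := fun h => ha0 (by have := hJP haJ; rwa [h, Ideal.mem_bot] at this)
    exact (huniq P (hpm P hPp hP0)).ge
  tfae_have 3 → 2 := by
    rintro ⟨hdim, hm, -⟩
    refine ⟨hdim, fun hIq => ?_⟩
    have hJ0 : J = ⊥ := (Ideal.map_eq_bot_iff_le_ker _).mpr (hIq.trans Ideal.mk_ker.ge)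
    obtain ⟨m, hmax⟩ := Ideal.exists_maximal D
    have hm0 : m = ⊥ := by
      rw [hm m hmax, hJ0]
      exact (Ideal.isPrime_bot (α := D)).radical
    subst hm0
    have hf : IsField D := by
      by_contra h
      exact Ring.not_isField_iff_exists_prime.mp h |>.elim fun P hP =>
        hP.1 (hmax.eq_of_le hP.2.ne_top bot_le).symm
    rw [ringKrullDim_eq_zero_of_isField hf] at hdim
    exact zero_ne_one hdim
  tfae_have 2 → 1 := by
    rintro ⟨hdim, hIq⟩
    refine ⟨hIq, fun q' hle hIq' => ?_⟩
    by_contra hne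
    refine hIq' ?_
    haveI hd1 : Ring.KrullDimLE 1 D := Ring.krullDimLE_iff.mpr hdim.le
    haveI : (⊥ : Ideal D).IsPrime := Ideal.isPrime_bot
    have hker : RingHom.ker (Ideal.Quotient.mk q.asIdeal) ≤ q'.asIdeal := by
      rw [Ideal.mk_ker]; exact hle
    haveI hP : (q'.asIdeal.map (Ideal.Quotient.mk q.asIdeal)).IsPrime :=
      Ideal.map_isPrime_of_surjective Ideal.Quotient.mk_surjective hker
    have hP0 : q'.asIdeal.map (Ideal.Quotient.mk q.asIdeal) ≠ ⊥ := fun h => hne <| by
      rw [Ideal.map_eq_bot_iff_le_ker, Ideal.mk_ker] at h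
      exact PrimeSpectrum.ext (le_antisymm h hle)
    have hmax := Ring.krullDimLE_one_iff_of_isPrime_bot.mp hd1 _ hP0 hP
    have hmax' : (q'.asIdeal).IsMaximal := by
      have := Ideal.comap_isMaximal_of_surjective (Ideal.Quotient.mk q.asIdeal)
        Ideal.Quotient.mk_surjective (K := q'.asIdeal.map (Ideal.Quotient.mk q.asIdeal))
      rwa [Ideal.comap_map_of_surjective' _ Ideal.Quotient.mk_surjective, sup_eq_left.mpr hker] at this
    exact hjac.trans (sInf_le ⟨bot_le, hmax'⟩)
  tfae_finish

end Groth.Agent.S8804
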