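import Groth.Statements.S8829
import Groth.Agent.S8804
import Groth.Agent.Lib.Compl.Complete
import Mathlib.RingTheory.Jacobson.Ring
import Mathlib.RingTheory.Ideal.GoingUp
import Mathlib.RingTheory.AdicCompletion.Functoriality

set_option autoImplicit false
universe u
open AdicRing

namespace Groth.Agent.S8829

/-- In the case of adic Noetherian topological rings: let A be a Noetherian ring complete for the adic
topology of an ideal I, and B a Noetherian A-algebra complete for the IB-adic topology with B/IB of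
finite type over A (so A → B is an adic morphism, topologically of finite type). Let q be a
rig-closed prime of B (IB ⊄ q and q maximal among the primes not containing IB) and p its inverse
image in A. Three conditions turn out to be equivalent: (1) whenever m is a maximal ideal of B with
m ⊇ q, the quotient B/m is finite as an A-module (that is, residue fields of B/q are finite over A);
(2) p is rig-closed in A (I ⊄ p and p maximal among the primes not containing I); (3) B/q is a
finite A-module, i.e. A/p ⊆ B/q is a finite extension of rings. -/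
theorem result (A : Type u) [CommRing A] [IsNoetherianRing A] (I : Ideal A) [IsAdicComplete I A] (B : Type u) [CommRing B] [Algebra A B] [IsNoetherianRing B] [IsAdicComplete (I.map (algebraMap A B)) B] (hft : Algebra.FiniteType A (B ⧸ (I.map (algebraMap A B)))) (q : PrimeSpectrum B) (hq : (¬ (I.map (algebraMap A B)) ≤ q.asIdeal ∧ ∀ y : PrimeSpectrum B, q ≤ y → ¬ (I.map (algebraMap A B)) ≤ y.asIdeal → y = q)) : List.TFAE [∀ m : Ideal B, m.IsMaximal → q.asIdeal ≤ m → Module.Finite A (B ⧸ m), (¬ I ≤ (PrimeSpectrum.comap (algebraMap A B) q).asIdeal ∧ ∀ y : PrimeSpectrum A, (PrimeSpectrum.comap (algebraMap A B) q) ≤ y → ¬ I ≤ y.asIdeal → y = (PrimeSpectrum.comap (algebraMap A B) q)), Module.Finite A (B ⧸ q.asIdeal)] := by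
  classical
  set IB := I.map (algebraMap A B) with hIB
  obtain ⟨hdim, hmD, hcD⟩ := ((Groth.Agent.S8804.result B IB q).out 0 2).1 hq
  set D := B ⧸ q.asIdeal
  set J : Ideal D := IB.map (Ideal.Quotient.mk q.asIdeal) with hJ
  have hcomap : (PrimeSpectrum.comap (algebraMap A B) q).asIdeal = q.asIdeal.comap (algebraMap A B) := rfl
  have hIp : ¬ I ≤ (PrimeSpectrum.comap (algebraMap A B) q).asIdeal := fun h => hq.1 (Ideal.map_le_iff_le_comap.2 h)
  have hI_le : ∀ m : Ideal B, m.IsMaximal → IB ≤ m := fun m hm =>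
    (IsAdicComplete.le_jacobson_bot IB).trans (sInf_le ⟨bot_le, hm⟩)
  have hBmft : ∀ m : Ideal B, m.IsMaximal → Algebra.FiniteType A (B ⧸ m) := fun m hm =>
    hft.of_surjective (Ideal.Quotient.factorₐ A (hI_le m hm)) (Ideal.Quotient.factor_surjective (hI_le m hm))
  tfae_have 2 → 1 := by
    intro hp m hm hqm
    haveI := hm
    haveI := hBmft m hm
    set n := m.comap (algebraMap A B) with hn
    haveI hnp : n.IsPrime := Ideal.IsPrime.comap _
    obtain ⟨hdimA, hmA, -⟩ := ((Groth.Agent.S8804.result A I (PrimeSpectrum.comap (algebraMap A B) q)).out 0 2).1 hp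
    haveI hnmax : n.IsMaximal := by
      have hIn : I ≤ n := Ideal.map_le_iff_le_comap.1 (hI_le m hm)
      obtain ⟨n', hn', hnn'⟩ := n.exists_le_maximal hnp.ne_top
      set p := (PrimeSpectrum.comap (algebraMap A B) q).asIdeal
      have hpn : p ≤ n := Ideal.comap_mono hqm
      have hker : RingHom.ker (Ideal.Quotient.mk p) ≤ n := by rw [Ideal.mk_ker]; exact hpn
      haveI h1 : (n.map (Ideal.Quotient.mk p)).IsPrime :=
        Ideal.map_isPrime_of_surjective Ideal.Quotient.mk_surjective hker
      haveI hp' : p.IsPrime := (PrimeSpectrum.comap (algebraMap A B) q).isPrime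
      haveI : Ring.KrullDimLE 1 (A ⧸ p) := Ring.krullDimLE_iff.2 hdimA.le
      haveI : (⊥ : Ideal (A ⧸ p)).IsPrime := Ideal.isPrime_bot
      have h0 : n.map (Ideal.Quotient.mk p) ≠ ⊥ := fun h => by
        rw [Ideal.map_eq_bot_iff_le_ker, Ideal.mk_ker] at h
        exact hp.1 (hIn.trans h)
      have h2 := Ring.krullDimLE_one_iff_of_isPrime_bot.1 inferInstance _ h0 h1
      have h3 := Ideal.comap_isMaximal_of_surjective (Ideal.Quotient.mk p) Ideal.Quotient.mk_surjective
        (K := n.map (Ideal.Quotient.mk p))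
      rwa [Ideal.comap_map_of_surjective' _ Ideal.Quotient.mk_surjective, sup_eq_left.2 hker] at h3
    letI : Field (B ⧸ m) := Ideal.Quotient.field m
    letI : Field (A ⧸ n) := Ideal.Quotient.field n
    haveI : Algebra.FiniteType (A ⧸ n) (B ⧸ m) := Algebra.FiniteType.of_restrictScalars_finiteType A _ _
    haveI : Module.Finite (A ⧸ n) (B ⧸ m) := finite_of_finite_type_of_isJacobsonRing _ _
    haveI : Module.Finite A (A ⧸ n) := Module.Finite.of_surjective (Algebra.linearMap A (A ⧸ n)) Ideal.Quotient.mk_surjective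
    exact Module.Finite.trans (A ⧸ n) (B ⧸ m)
  tfae_have 1 → 3 := by
    intro h1
    obtain ⟨M, hM⟩ := Ideal.exists_maximal D
    haveI := hM
    have hMJ : M = J.radical := hmD M hM
    set m := M.comap (Ideal.Quotient.mk q.asIdeal) with hm
    haveI hmmax : m.IsMaximal := Ideal.comap_isMaximal_of_surjective _ Ideal.Quotient.mk_surjective
    have hqm : q.asIdeal ≤ m := fun x hx => by
      rw [hm, Ideal.mem_comap, Ideal.Quotient.eq_zero_iff_mem.2 hx]; exact zero_mem _
    haveI := h1 m hmmax hqm
    haveI : Algebra.FiniteType A (D ⧸ J) := by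
      let g : (B ⧸ IB) →ₐ[A] (D ⧸ J) := Ideal.quotientMapₐ J (Ideal.Quotient.mkₐ A q.asIdeal)
        (Ideal.le_comap_map : IB ≤ J.comap _)
      refine hft.of_surjective g fun y => ?_
      obtain ⟨y, rfl⟩ := Ideal.Quotient.mk_surjective y
      obtain ⟨b, rfl⟩ := Ideal.Quotient.mk_surjective y
      exact ⟨Ideal.Quotient.mk _ b, rfl⟩
    haveI : Algebra.IsIntegral A (D ⧸ J) := by
      refine ⟨fun y => ?_⟩
      obtain ⟨y, rfl⟩ := Ideal.Quotient.mk_surjective y
      obtain ⟨b, rfl⟩ := Ideal.Quotient.mk_surjective y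
      obtain ⟨P, hP, hPb⟩ := Algebra.IsIntegral.isIntegral (R := A) (Ideal.Quotient.mk m b)
      have hPb' : Polynomial.aeval (Ideal.Quotient.mkₐ A m b) P = 0 := hPb
      rw [Polynomial.aeval_algHom_apply, Ideal.Quotient.mkₐ_eq_mk, Ideal.Quotient.eq_zero_iff_mem, hm,
        Ideal.mem_comap, hMJ] at hPb'
      obtain ⟨N, hN⟩ := hPb'
      refine ⟨P ^ N, hP.pow N, ?_⟩
      show Polynomial.aeval ((Ideal.Quotient.mkₐ A J).comp (Ideal.Quotient.mkₐ A q.asIdeal) b) (P ^ N) = 0
      rw [Polynomial.aeval_algHom_apply, map_pow, AlgHom.comp_apply, Ideal.Quotient.mkₐ_eq_mk,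
        Ideal.Quotient.mkₐ_eq_mk, map_pow]
      exact Ideal.Quotient.eq_zero_iff_mem.2 hN
    haveI : Module.Finite A (D ⧸ J) := Algebra.IsIntegral.finite
    obtain ⟨t, s, hs⟩ := Module.Finite.exists_fin' A (D ⧸ J)
    choose e he using fun i => Ideal.Quotient.mk_surjective (I := J) (s (Pi.single i 1))
    let φ : (Fin t → A) →ₗ[A] D := Fintype.linearCombination A e
    have hJle : J = I.map (algebraMap A D) := by
      rw [hJ, hIB, Ideal.map_map]; rfl
    have hφ : ∀ z, Ideal.Quotient.mk J (φ z) = s z := by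
      have : (Ideal.Quotient.mkₐ A J).toLinearMap ∘ₗ φ = s := LinearMap.pi_ext fun i c => by
        show Ideal.Quotient.mk J (Fintype.linearCombination A e (Pi.single i c)) = _
        rw [Fintype.linearCombination_apply_single, ← Ideal.Quotient.mkₐ_eq_mk (R₁ := A), map_smul,
          Ideal.Quotient.mkₐ_eq_mk, he, ← map_smul, ← Pi.single_smul, smul_eq_mul, mul_one]
      exact fun z => LinearMap.congr_fun this z
    haveI : IsAdicComplete I (Fin t → A) := Groth.Agent.Compl.isAdicComplete_of_finite I _
    haveI : IsHausdorff I D := by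
      haveI : IsHausdorff (I.map (algebraMap A D)) D := by
        rw [← hJle]
        refine ⟨fun x hx => IsHausdorff.haus' (I := J.radical) x fun n => (hx n).mono ?_⟩
        exact Submodule.smul_mono (Ideal.pow_right_mono Ideal.le_radical n) le_rfl
      exact IsHausdorff.map_algebraMap_iff.1 this
    refine Module.Finite.of_surjective φ (surjective_of_mkQ_comp_surjective (I := I) fun y => ?_)
    obtain ⟨y, rfl⟩ := Submodule.mkQ_surjective _ y
    obtain ⟨z, hz⟩ := hs (Ideal.Quotient.mk J y)
    refine ⟨z, ?_⟩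
    rw [LinearMap.comp_apply, Submodule.mkQ_apply, Submodule.mkQ_apply, Submodule.Quotient.eq,
      Ideal.smul_top_eq_map, Submodule.restrictScalars_mem, ← hJle, ← Ideal.Quotient.eq, hφ, hz]
  tfae_have 3 → 2 := by
    intro h3
    refine ⟨hIp, fun y hy hIy => ?_⟩
    haveI := y.isPrime
    haveI : Algebra.IsIntegral A D := Algebra.IsIntegral.of_finite A D
    have hle : (⊥ : Ideal D).comap (algebraMap A D) ≤ y.asIdeal := fun x hx => hy (by
      show algebraMap A B x ∈ q.asIdeal
      exact Ideal.Quotient.eq_zero_iff_mem.1 hx)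
    obtain ⟨Q, -, hQp, hQy⟩ := Ideal.exists_ideal_over_prime_of_isIntegral y.asIdeal (⊥ : Ideal D) hle
    haveI := hQp
    let Q' : PrimeSpectrum B := ⟨Q.comap (Ideal.Quotient.mk q.asIdeal), Ideal.IsPrime.comap _⟩
    have hQy' : Q'.asIdeal.comap (algebraMap A B) = y.asIdeal := by
      rw [Ideal.comap_comap, ← hQy]; rfl
    have hQ' : Q' = q := hq.2 Q' (fun x hx => by
        show Ideal.Quotient.mk q.asIdeal x ∈ Q
        rw [Ideal.Quotient.eq_zero_iff_mem.2 hx]; exact zero_mem _)
      (fun h => hIy (hQy' ▸ Ideal.map_le_iff_le_comap.1 h))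
    apply PrimeSpectrum.ext
    rw [← hQy', hQ']
    rfl
  tfae_finish

end Groth.Agent.S8829
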