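import Groth.Statements.S8837
import Mathlib.RingTheory.AdicCompletion.RingHom
import Groth.Agent.Lib.Compl.Noetherian
import Groth.Agent.Lib.Compl.Complete

set_option autoImplicit false
universe u
open AdicRing

namespace Groth.Agent.S8837

/-- Let A be a Noetherian ring complete for the adic topology of an ideal I (an adic Noetherian
topological ring), p a prime ideal of A, and f ∈ A an element mapping to a unit in A/p. Let A_{f}
denote the completed principal localization, i.e. the I-adic completion of A_f = A[1/f]. Then the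
ideal p A_{f} generated by p is prime, and the canonical map A/p → A_{f}/p A_{f} is bijective (so p
A_{f} = p ⊗_A A_{f} is the completion of p_f, with quotient A/p). -/
theorem result (A : Type u) [CommRing A] [IsNoetherianRing A] (I : Ideal A) [IsAdicComplete I A] (p : Ideal A) [p.IsPrime] (f : A) (hf : IsUnit (Ideal.Quotient.mk p f)) : (p.map (algebraMap A (AdicCompletion (I.map (algebraMap A (Localization.Away f))) (Localization.Away f)))).IsPrime ∧ Function.Bijective (Ideal.quotientMap (p.map (algebraMap A (AdicCompletion (I.map (algebraMap A (Localization.Away f))) (Localization.Away f)))) (algebraMap A (AdicCompletion (I.map (algebraMap A (Localization.Away f))) (Localization.Away f))) Ideal.le_comap_map) := by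
  classical
  set B := Localization.Away f
  set J : Ideal B := I.map (algebraMap A B) with hJ
  set C := AdicCompletion J B
  set K : Ideal (A ⧸ p) := I.map (Ideal.Quotient.mk p) with hK
  haveI : IsAdicComplete K (A ⧸ p) :=
    (IsAdicComplete.map_algebraMap_iff I (A ⧸ p)).mpr (Groth.Agent.Compl.isAdicComplete_of_finite I (A ⧸ p))
  let χ : B →+* A ⧸ p := IsLocalization.Away.lift f (g := Ideal.Quotient.mk p) hf
  have hχ : χ.comp (algebraMap A B) = Ideal.Quotient.mk p := IsLocalization.Away.lift_comp f hf
  have hle : ∀ n, J ^ n ≤ (K ^ n).comap χ := fun n => by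
    rw [← Ideal.map_le_iff_le_comap, Ideal.map_pow, hJ, Ideal.map_map, hχ]
  let g : (n : ℕ) → C →+* (A ⧸ p) ⧸ K ^ n := fun n =>
    (Ideal.quotientMap (K ^ n) χ (hle n)).comp (AdicCompletion.evalₐ J n).toRingHom
  have hg : ∀ {m n : ℕ} (h : m ≤ n),
      (Ideal.Quotient.factor (Ideal.pow_le_pow_right h)).comp (g n) = g m := by
    intro m n h
    refine RingHom.ext fun x => ?_
    obtain ⟨x, rfl⟩ := AdicCompletion.mk_surjective J _ x
    simp only [g, RingHom.comp_apply, AlgHom.toRingHom_eq_coe, RingHom.coe_coe,
      AdicCompletion.evalₐ_mk]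
    show Ideal.Quotient.mk _ (χ (x.val n)) = Ideal.Quotient.mk _ (χ (x.val m))
    rw [Ideal.Quotient.eq, ← map_sub]
    refine hle m ?_
    have := SModEq.sub_mem.mp (x.2 h)
    rw [smul_eq_mul, Ideal.mul_top] at this
    rw [← neg_mem_iff, neg_sub]
    exact this
  let φ : C →+* A ⧸ p := IsAdicComplete.liftRingHom K g hg
  have hφ : ∀ (n : ℕ) (x : C), Ideal.Quotient.mk (K ^ n) (φ x) = g n x := fun n x =>
    IsAdicComplete.mk_liftRingHom K g hg n x
  have hBC : ∀ b : B, φ (algebraMap B C b) = χ b := by
    intro b
    refine congrFun (IsHausdorff.funext' K (f := fun _ : Unit => φ (algebraMap B C b))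
      (g := fun _ : Unit => χ b) fun n _ => ?_) ()
    rw [hφ]
    simp only [g, RingHom.comp_apply, AlgHom.toRingHom_eq_coe, RingHom.coe_coe, AlgHom.commutes]
    rfl
  have hAC : ∀ a : A, φ (algebraMap A C a) = Ideal.Quotient.mk p a := fun a => by
    rw [IsScalarTower.algebraMap_apply A B C, hBC, ← RingHom.comp_apply, hχ]
  set P : Ideal C := p.map (algebraMap A C) with hP
  have hPker : P ≤ RingHom.ker φ := by
    rw [hP, Ideal.map_le_iff_le_comap]
    intro a ha
    rw [Ideal.mem_comap, RingHom.mem_ker, hAC, Ideal.Quotient.eq_zero_iff_mem.mpr ha]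
  haveI : IsNoetherianRing B := IsLocalization.isNoetherianRing (Submonoid.powers f) B inferInstance
  have hJfg : J.FG := IsNoetherian.noetherian _
  haveI : IsNoetherianRing (B ⧸ J) :=
    isNoetherianRing_of_surjective B (B ⧸ J) (Ideal.Quotient.mk J) Ideal.Quotient.mk_surjective
  haveI hBn : IsNoetherianRing C := Groth.Agent.Compl.isNoetherianRing_adicCompletion J hJfg
  haveI : IsAdicComplete (J.map (algebraMap B C)) C :=
    (IsAdicComplete.map_algebraMap_iff J C).mpr (AdicCompletion.isAdicComplete hJfg)
  have hkp : ∀ b : B, ∀ n, χ b ∈ K ^ n → algebraMap B C b ∈ P ⊔ J.map (algebraMap B C) ^ n := by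
    intro b n hb
    obtain ⟨a, k, rfl⟩ := IsLocalization.exists_mk'_eq (Submonoid.powers f) b
    have h1 : Ideal.Quotient.mk p a ∈ K ^ n := by
      have e : χ (algebraMap A B a) = χ (IsLocalization.mk' B a k) * χ (algebraMap A B (k : A)) := by
        rw [← map_mul, IsLocalization.mk'_spec]
      rw [← hχ, RingHom.comp_apply, e]
      exact Ideal.mul_mem_right _ _ hb
    rw [hK, ← Ideal.map_pow, Ideal.mem_quotient_iff_mem_sup] at h1
    obtain ⟨i, hi, q, hq, rfl⟩ := Submodule.mem_sup.mp h1
    have h2 : algebraMap A C (i + q) ∈ P ⊔ J.map (algebraMap B C) ^ n := by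
      rw [map_add]
      refine add_mem (Submodule.mem_sup_right ?_) (Submodule.mem_sup_left (Ideal.mem_map_of_mem _ hq))
      have h3 : J.map (algebraMap B C) = I.map (algebraMap A C) :=
        (Ideal.map_map (algebraMap A B) (algebraMap B C)).trans
          (by rw [← IsScalarTower.algebraMap_eq])
      rw [h3, ← Ideal.map_pow]
      exact Ideal.mem_map_of_mem _ hi
    have hu : IsUnit (algebraMap B C (algebraMap A B (k : A))) :=
      (IsLocalization.map_units B k).map _
    rw [← Ideal.unit_mul_mem_iff_mem _ hu, mul_comm, ← map_mul, IsLocalization.mk'_spec,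
      ← IsScalarTower.algebraMap_apply]
    exact h2
  have hker : RingHom.ker φ ≤ P := by
    intro x hx
    have hall : ∀ n, x ∈ P ⊔ J.map (algebraMap B C) ^ n := by
      intro n
      obtain ⟨b, hb⟩ := Ideal.Quotient.mk_surjective (AdicCompletion.evalₐ J n x)
      have hb' : x - algebraMap B C b ∈ J.map (algebraMap B C) ^ n := by
        have h1 : AdicCompletion.eval J B n (x - algebraMap B C b) = 0 := by
          have h2 : AdicCompletion.evalₐ J n (x - algebraMap B C b) = 0 := by
            rw [map_sub, AlgHom.commutes, ← hb]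
            exact sub_self _
          exact (map_eq_zero_iff (Ideal.quotientEquivAlgOfEq B (Ideal.mul_top _))
            (AlgEquiv.injective _)).mp h2
        have h3 : x - algebraMap B C b ∈ LinearMap.ker (AdicCompletion.eval J B n) := h1
        rw [← AdicCompletion.pow_smul_top_eq_ker_eval hJfg, Ideal.smul_top_eq_map, Ideal.map_pow] at h3
        exact h3
      have h4 : χ b ∈ K ^ n := by
        have h5 : Ideal.Quotient.mk (K ^ n) (φ x) = g n x := hφ n x
        rw [show φ x = 0 from hx, map_zero] at h5
        simp only [g, RingHom.comp_apply, AlgHom.toRingHom_eq_coe, RingHom.coe_coe, ← hb] at h5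
        exact Ideal.Quotient.eq_zero_iff_mem.mp h5.symm
      have := add_mem (Submodule.mem_sup_right hb' : _ ∈ P ⊔ _) (hkp b n h4)
      rwa [sub_add_cancel] at this
    rw [← Ideal.Quotient.eq_zero_iff_mem]
    have hjac := IsAdicComplete.le_jacobson_bot (J.map (algebraMap B C))
    have h0 : Ideal.Quotient.mk P x ∈
        (⨅ n, J.map (algebraMap B C) ^ n • ⊤ : Submodule C (C ⧸ P)) := by
      refine (Submodule.mem_iInf _).mpr fun n => ?_
      obtain ⟨q, hq, i, hi, rfl⟩ := Submodule.mem_sup.mp (hall n)
      rw [map_add, Ideal.Quotient.eq_zero_iff_mem.mpr hq, zero_add]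
      have : Ideal.Quotient.mk P i = i • (1 : C ⧸ P) := by
        rw [Algebra.smul_def, mul_one]; rfl
      rw [this]
      exact Submodule.smul_mem_smul hi trivial
    rwa [Ideal.iInf_pow_smul_eq_bot_of_le_jacobson _ hjac, Submodule.mem_bot] at h0
  have hkereq : RingHom.ker φ = P := le_antisymm hker hPker
  have hsurj : Function.Surjective φ := fun y => by
    obtain ⟨a, rfl⟩ := Ideal.Quotient.mk_surjective y
    exact ⟨_, hAC a⟩
  have hprime : P.IsPrime := by rw [← hkereq]; exact RingHom.ker_isPrime φ
  refine ⟨hprime, (injective_iff_map_eq_zero _).mpr fun y hy => ?_, fun y => ?_⟩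
  · obtain ⟨a, rfl⟩ := Ideal.Quotient.mk_surjective y
    rw [Ideal.quotientMap_mk, Ideal.Quotient.eq_zero_iff_mem] at hy
    rw [← hAC]
    exact hPker hy
  · obtain ⟨c, rfl⟩ := Ideal.Quotient.mk_surjective y
    obtain ⟨a, ha⟩ := Ideal.Quotient.mk_surjective (φ c)
    refine ⟨Ideal.Quotient.mk p a, ?_⟩
    rw [Ideal.quotientMap_mk, Ideal.Quotient.eq]
    refine hker ?_
    rw [RingHom.mem_ker, map_sub, hAC, ha, sub_self]

end Groth.Agent.S8837
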