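import Groth.Statements.S8839
import Groth.Agent.S8829
import Groth.Agent.S8837
import Groth.Agent.Lib.Compl.Complete
import Mathlib.RingTheory.AdicCompletion.AsTensorProduct
import Mathlib.RingTheory.IntegralClosure.IsIntegralClosure.Basic
import Mathlib.RingTheory.Localization.AtPrime.Basic

set_option autoImplicit false
universe u
open AdicRing

namespace Groth.Agent.S8839

open TensorProduct

theorem local_aux {R B : Type u} [CommRing R] [CommRing B] (ι : R →+* B) (q : Ideal B) [q.IsPrime] (m : ℕ)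
    (hm : 1 ≤ m) (h1 : ∀ b, ∃ r, b - ι r ∈ q ^ m) (h2 : ∀ r, ι r ∈ q ^ m → r ∈ (q.comap ι) ^ m) :
    (∀ x : Localization.AtPrime (q.comap ι), Localization.localRingHom (q.comap ι) q ι rfl x ∈
        (IsLocalRing.maximalIdeal (Localization.AtPrime q)) ^ m →
      x ∈ (IsLocalRing.maximalIdeal (Localization.AtPrime (q.comap ι))) ^ m) ∧
    ∀ y : Localization.AtPrime q, ∃ x : Localization.AtPrime (q.comap ι),
      y - Localization.localRingHom (q.comap ι) q ι rfl x ∈
        (IsLocalRing.maximalIdeal (Localization.AtPrime q)) ^ m := by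
  have hqm : q ^ m ≤ q := Ideal.pow_le_self (by omega)
  have hmax : (IsLocalRing.maximalIdeal (Localization.AtPrime q)) ^ m =
      (q ^ m).map (algebraMap B (Localization.AtPrime q)) := by
    rw [Ideal.map_pow, IsLocalization.AtPrime.map_eq_maximalIdeal]
  have hmax' : (IsLocalRing.maximalIdeal (Localization.AtPrime (q.comap ι))) ^ m =
      ((q.comap ι) ^ m).map (algebraMap R (Localization.AtPrime (q.comap ι))) := by
    rw [Ideal.map_pow, IsLocalization.AtPrime.map_eq_maximalIdeal]
  have hu : ∀ t, t ∉ q → ∀ u, t - ι u ∈ q ^ m → u ∉ q.comap ι := fun t ht u htu hu => ht (by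
    simpa using add_mem (hqm htu) (Ideal.mem_comap.1 hu))
  constructor
  · intro x hx
    obtain ⟨r, s, rfl⟩ := IsLocalization.exists_mk'_eq (q.comap ι).primeCompl x
    rw [Localization.localRingHom_mk', hmax, IsLocalization.mk'_mem_map_algebraMap_iff q.primeCompl] at hx
    obtain ⟨t, ht, htr⟩ := hx
    obtain ⟨u, htu⟩ := h1 t
    rw [hmax', IsLocalization.mk'_mem_map_algebraMap_iff (q.comap ι).primeCompl]
    refine ⟨u, hu t ht u htu, h2 _ ?_⟩
    rw [map_mul]
    have := sub_mem htr (Ideal.mul_mem_right (ι r) _ htu)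
    convert this using 1
    ring
  · intro y
    obtain ⟨b, ⟨t, ht⟩, rfl⟩ := IsLocalization.exists_mk'_eq q.primeCompl y
    obtain ⟨r, hbr⟩ := h1 b
    obtain ⟨u, htu⟩ := h1 t
    have hu' : u ∈ (q.comap ι).primeCompl := hu t ht u htu
    refine ⟨IsLocalization.mk' _ r ⟨u, hu'⟩, ?_⟩
    rw [Localization.localRingHom_mk', ← IsLocalization.mk'_sub, hmax,
      IsLocalization.mk'_mem_map_algebraMap_iff q.primeCompl]
    refine ⟨1, one_mem _, ?_⟩
    rw [one_mul]
    have := sub_mem (Ideal.mul_mem_right (ι u) _ hbr) (Ideal.mul_mem_right (ι r) _ htu)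
    convert this using 1
    ring

theorem quot_bijective {A R : Type u} [CommRing A] [IsNoetherianRing A] (I : Ideal A) [IsAdicComplete I A]
    [CommRing R] [Algebra A R] [IsNoetherianRing R] (L : Ideal R) [Module.Finite A (R ⧸ L)] :
    (∀ b : AdicCompletion (I.map (algebraMap A R)) R, ∃ r : R, b - algebraMap R _ r ∈
      L.map (algebraMap R (AdicCompletion (I.map (algebraMap A R)) R))) ∧
    ∀ r : R, algebraMap R _ r ∈ L.map (algebraMap R (AdicCompletion (I.map (algebraMap A R)) R)) → r ∈ L := by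
  set J := I.map (algebraMap A R)
  set B := AdicCompletion J R
  haveI : IsAdicComplete I (R ⧸ L) := Groth.Agent.Compl.isAdicComplete_of_finite I _
  haveI : IsAdicComplete J (R ⧸ L) := (IsAdicComplete.map_algebraMap_iff I (R ⧸ L)).2 inferInstance
  let e := Algebra.TensorProduct.quotIdealMapEquivTensorQuot B L
  have hof := AdicCompletion.ofTensorProduct_bijective_of_finite_of_isNoetherian J (R ⧸ L)
  have hbij : Function.Bijective (AdicCompletion.of J (R ⧸ L)) := AdicCompletion.of_bijective_iff.2 inferInstance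
  have hone : ∀ r : R, e (Ideal.Quotient.mk (L.map (algebraMap R B)) (algebraMap R B r)) =
      (1 : B) ⊗ₜ[R] Ideal.Quotient.mk L r := fun r => by
    rw [Algebra.TensorProduct.quotIdealMapEquivTensorQuot_mk, Algebra.algebraMap_eq_smul_one,
      TensorProduct.smul_tmul, Algebra.smul_def, mul_one]
    rfl
  have hval : ∀ r : R, AdicCompletion.ofTensorProduct J (R ⧸ L) ((1 : B) ⊗ₜ[R] Ideal.Quotient.mk L r) =
      AdicCompletion.of J (R ⧸ L) (Ideal.Quotient.mk L r) := fun r => by
    rw [AdicCompletion.ofTensorProduct_tmul, one_smul]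
  constructor
  · intro b
    obtain ⟨x, hx⟩ := hbij.2 (AdicCompletion.ofTensorProduct J (R ⧸ L) (e (Ideal.Quotient.mk _ b)))
    obtain ⟨r, rfl⟩ := Ideal.Quotient.mk_surjective x
    rw [← hval, ← hone] at hx
    exact ⟨r, (Ideal.Quotient.eq).1 (e.injective (hof.1 hx)).symm⟩
  · intro r hr
    have h := congrArg (AdicCompletion.ofTensorProduct J (R ⧸ L)) (congrArg e (Ideal.Quotient.eq_zero_iff_mem.2 hr))
    rw [hone, hval, map_zero, map_zero] at h
    exact Ideal.Quotient.eq_zero_iff_mem.1 (hbij.1 (h.trans (map_zero _).symm))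

theorem main (A : Type u) [CommRing A] [IsNoetherianRing A] (I : Ideal A) [IsAdicComplete I A] (n : ℕ) :
    let R := MvPolynomial (Fin n) A
    let B := AdicCompletion (I.map (algebraMap A R)) R
    ∀ (q : PrimeSpectrum B) (_ : (¬ (I.map (algebraMap A B)) ≤ q.asIdeal ∧ ∀ y : PrimeSpectrum B, q ≤ y → ¬ (I.map (algebraMap A B)) ≤ y.asIdeal → y = q))
    (_ : (¬ I ≤ (PrimeSpectrum.comap (algebraMap A B) q).asIdeal ∧ ∀ y : PrimeSpectrum A, (PrimeSpectrum.comap (algebraMap A B) q) ≤ y → ¬ I ≤ y.asIdeal → y = (PrimeSpectrum.comap (algebraMap A B) q)))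
    (m : ℕ) (_ : 1 ≤ m),
    (∀ x : Localization.AtPrime (q.asIdeal.comap (algebraMap R B)), Localization.localRingHom (q.asIdeal.comap (algebraMap R B)) q.asIdeal (algebraMap R B) rfl x ∈
        (IsLocalRing.maximalIdeal (Localization.AtPrime q.asIdeal)) ^ m →
      x ∈ (IsLocalRing.maximalIdeal (Localization.AtPrime (q.asIdeal.comap (algebraMap R B)))) ^ m) ∧
    ∀ y : Localization.AtPrime q.asIdeal, ∃ x : Localization.AtPrime (q.asIdeal.comap (algebraMap R B)),
      y - Localization.localRingHom (q.asIdeal.comap (algebraMap R B)) q.asIdeal (algebraMap R B) rfl x ∈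
        (IsLocalRing.maximalIdeal (Localization.AtPrime q.asIdeal)) ^ m := by
  intro R B q hq hp m hm
  set J := I.map (algebraMap A R) with hJ
  have hJfg : J.FG := IsNoetherian.noetherian _
  haveI : IsNoetherianRing B := Groth.Agent.Compl.isNoetherianRing_adicCompletion J hJfg
  have hIB : I.map (algebraMap A B) = J.map (algebraMap R B) := by
    rw [hJ, Ideal.map_map, ← IsScalarTower.algebraMap_eq]
  haveI : IsAdicComplete (I.map (algebraMap A B)) B := by
    rw [hIB]
    exact (IsAdicComplete.map_algebraMap_iff J B).mpr (AdicCompletion.isAdicComplete hJfg)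
  have hft : Algebra.FiniteType A (B ⧸ I.map (algebraMap A B)) := by
    refine Algebra.FiniteType.of_surjective
      ((Ideal.Quotient.mkₐ A (I.map (algebraMap A B))).comp (IsScalarTower.toAlgHom A R B)) fun y => ?_
    obtain ⟨y, rfl⟩ := Ideal.Quotient.mk_surjective y
    obtain ⟨r, hr⟩ := Ideal.Quotient.mk_surjective (AdicCompletion.evalₐ J 1 y)
    refine ⟨r, (Ideal.Quotient.eq).2 ?_⟩
    have h2 : AdicCompletion.evalₐ J 1 ((algebraMap R B r) - y) = 0 := by
      rw [map_sub, AlgHom.commutes, ← hr]; exact sub_self _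
    have h3 : (algebraMap R B r) - y ∈ LinearMap.ker (AdicCompletion.eval J R 1) :=
      (map_eq_zero_iff (Ideal.quotientEquivAlgOfEq R (Ideal.mul_top _)) (AlgEquiv.injective _)).mp h2
    rw [← AdicCompletion.pow_smul_top_eq_ker_eval hJfg, Ideal.smul_top_eq_map, pow_one, ← hIB] at h3
    exact h3
  haveI hfin : Module.Finite A (B ⧸ q.asIdeal) :=
    ((Groth.Agent.S8829.result A I B hft q hq).out 1 2).1 hp
  set p₀ := q.asIdeal.comap (algebraMap R B) with hp₀
  let j : (R ⧸ p₀) →ₐ[A] B ⧸ q.asIdeal := Ideal.quotientMapₐ q.asIdeal (IsScalarTower.toAlgHom A R B) le_rfl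
  haveI : Algebra.IsIntegral A (B ⧸ q.asIdeal) := Algebra.IsIntegral.of_finite A _
  have hj : Function.Injective j := Ideal.quotientMap_injective
  haveI : Algebra.IsIntegral A (R ⧸ p₀) := Algebra.IsIntegral.of_injective j hj
  haveI : Module.Finite A (R ⧸ p₀) := Algebra.IsIntegral.finite
  obtain ⟨h1, h2⟩ := quot_bijective I p₀
  have hqp : q.asIdeal = p₀.map (algebraMap R B) := by
    refine le_antisymm (fun b hb => ?_) Ideal.map_comap_le
    obtain ⟨r, hr⟩ := h1 b
    have hrp : r ∈ p₀ := by
      rw [hp₀, Ideal.mem_comap]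
      simpa using sub_mem hb (Ideal.map_comap_le hr)
    have := add_mem hr (Ideal.mem_map_of_mem (algebraMap R B) hrp)
    rwa [sub_add_cancel] at this
  haveI : Algebra.IsIntegral A (R ⧸ p₀ ^ m) := by
    refine ⟨fun y => ?_⟩
    obtain ⟨y, rfl⟩ := Ideal.Quotient.mk_surjective y
    obtain ⟨Q, hQ, hQy⟩ := Algebra.IsIntegral.isIntegral (R := A) (Ideal.Quotient.mk p₀ y)
    have hQy' : Polynomial.aeval (Ideal.Quotient.mkₐ A p₀ y) Q = 0 := hQy
    rw [Polynomial.aeval_algHom_apply, Ideal.Quotient.mkₐ_eq_mk, Ideal.Quotient.eq_zero_iff_mem] at hQy'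
    refine ⟨Q ^ m, hQ.pow m, ?_⟩
    show Polynomial.aeval (Ideal.Quotient.mkₐ A (p₀ ^ m) y) (Q ^ m) = 0
    rw [Polynomial.aeval_algHom_apply, Ideal.Quotient.mkₐ_eq_mk, Ideal.Quotient.eq_zero_iff_mem, map_pow]
    exact Ideal.pow_mem_pow hQy' m
  haveI : Module.Finite A (R ⧸ p₀ ^ m) := Algebra.IsIntegral.finite
  obtain ⟨h1m, h2m⟩ := quot_bijective I (p₀ ^ m)
  have hpm : q.asIdeal ^ m = (p₀ ^ m).map (algebraMap R B) := by rw [Ideal.map_pow, ← hqp]
  exact local_aux (algebraMap R B) q.asIdeal m hm (fun b => hpm ▸ h1m b) (fun r hr => h2m r (hpm ▸ hr))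

/-- Let A be a Noetherian ring complete for the adic topology of an ideal I, n a natural number, and
A{x_1, …, x_n} the restricted power series ring, i.e. the I-adic completion of the polynomial ring
A[x_1, …, x_n]. Let q be a prime ideal of A{x_1, …, x_n}, q' its inverse image in A[x_1, …, x_n] and
p its inverse image in A. Assume q is rig-closed (the extension of I is not contained in q and q is
maximal among such primes) and p is rig-closed in A (I ⊄ p, p maximal among the primes not
containing I). Then the local homomorphism A[x_1, …, x_n]_{q'} → A{x_1, …, x_n}_q induces an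
isomorphism on completions with respect to the maximal ideals; stated as: for every m ≥ 1 the
induced map on quotients by the m-th powers of the maximal ideals is injective and surjective. -/
theorem result (A : Type u) [CommRing A] [IsNoetherianRing A] (I : Ideal A) [IsAdicComplete I A] (n : ℕ) (q : PrimeSpectrum (AdicCompletion (I.map (algebraMap A (MvPolynomial (Fin n) A))) (MvPolynomial (Fin n) A))) (hq : (¬ (I.map (algebraMap A (AdicCompletion (I.map (algebraMap A (MvPolynomial (Fin n) A))) (MvPolynomial (Fin n) A)))) ≤ q.asIdeal ∧ ∀ y : PrimeSpectrum (AdicCompletion (I.map (algebraMap A (MvPolynomial (Fin n) A))) (MvPolynomial (Fin n) A)), q ≤ y → ¬ (I.map (algebraMap A (AdicCompletion (I.map (algebraMap A (MvPolynomial (Fin n) A))) (MvPolynomial (Fin n) A)))) ≤ y.asIdeal → y = q)) (hp : (¬ I ≤ (PrimeSpectrum.comap (algebraMap A (AdicCompletion (I.map (algebraMap A (MvPolynomial (Fin n) A))) (MvPolynomial (Fin n) A))) q).asIdeal ∧ ∀ y : PrimeSpectrum A, (PrimeSpectrum.comap (algebraMap A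 (AdicCompletion (I.map (algebraMap A (MvPolynomial (Fin n) A))) (MvPolynomial (Fin n) A))) q) ≤ y → ¬ I ≤ y.asIdeal → y = (PrimeSpectrum.comap (algebraMap A (AdicCompletion (I.map (algebraMap A (MvPolynomial (Fin n) A))) (MvPolynomial (Fin n) A))) q))) (m : ℕ) (hm : 1 ≤ m) : (∀ x : (Localization.AtPrime (PrimeSpectrum.comap (algebraMap (MvPolynomial (Fin n) A) (AdicCompletion (I.map (algebraMap A (MvPolynomial (Fin n) A))) (MvPolynomial (Fin n) A))) q).asIdeal), (Localization.localRingHom (PrimeSpectrum.comap (algebraMap (MvPolynomial (Fin n) A) (AdicCompletion (I.map (algebraMap A (MvPolynomial (Fin n) A))) (MvPolynomial (Fin n) A))) q).asIdeal q.asIdeal (algebraMap (MvPolynomial (Fin n) A) (AdicCompletion (I.map (algebraMap A (MvPolynomial (Fin n) A))) (MvPolynomial (Fin n) A))) rfl) x ∈ (IsLocalRing.maximalIdeal (Localization.AtPrime q.asIdeal)) ^ m → x ∈ (IsLocalRing.maximalIdeal (Localization.AtPrime (PrimeSpectrum.comap (algebraMap (MvPolynomial (Fin n) A) (AdicCompletion (I.map (algebraMap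 A (MvPolynomial (Fin n) A))) (MvPolynomial (Fin n) A))) q).asIdeal)) ^ m) ∧ (∀ y : (Localization.AtPrime q.asIdeal), ∃ x : (Localization.AtPrime (PrimeSpectrum.comap (algebraMap (MvPolynomial (Fin n) A) (AdicCompletion (I.map (algebraMap A (MvPolynomial (Fin n) A))) (MvPolynomial (Fin n) A))) q).asIdeal), y - (Localization.localRingHom (PrimeSpectrum.comap (algebraMap (MvPolynomial (Fin n) A) (AdicCompletion (I.map (algebraMap A (MvPolynomial (Fin n) A))) (MvPolynomial (Fin n) A))) q).asIdeal q.asIdeal (algebraMap (MvPolynomial (Fin n) A) (AdicCompletion (I.map (algebraMap A (MvPolynomial (Fin n) A))) (MvPolynomial (Fin n) A))) rfl) x ∈ (IsLocalRing.maximalIdeal (Localization.AtPrime q.asIdeal)) ^ m) := by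
  classical
  exact main A I n q hq hp m hm

end Groth.Agent.S8839
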