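import Groth.Statements.S8838
import Groth.Agent.S8804
import Groth.Agent.Lib.Compl.Complete
import Mathlib.RingTheory.Unramified.LocalRing
import Mathlib.RingTheory.Unramified.Finite
import Mathlib.RingTheory.Nakayama
import Mathlib.RingTheory.AdicCompletion.Functoriality
import Mathlib.RingTheory.Ideal.GoingUp

set_option autoImplicit false
universe u
open AdicRing

namespace Groth.Agent.S8838

theorem finite_of_maximal_le_ker {A E : Type u} [CommRing A] [CommRing E] [Algebra A E]
    [Algebra.FiniteType A E] [Algebra.FormallyUnramified A E] (n : Ideal A) [n.IsMaximal]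
    (h : ∀ a ∈ n, algebraMap A E a = 0) : Module.Finite A E := by
  letI := Ideal.Quotient.field n
  letI : Algebra (A ⧸ n) E := (Ideal.Quotient.lift n (algebraMap A E) h).toAlgebra
  haveI : IsScalarTower A (A ⧸ n) E := IsScalarTower.of_algebraMap_eq fun x => rfl
  haveI : Algebra.FormallyUnramified (A ⧸ n) E := Algebra.FormallyUnramified.of_restrictScalars A _ _
  haveI : Algebra.FiniteType (A ⧸ n) E := Algebra.FiniteType.of_restrictScalars_finiteType A _ _
  haveI : Module.Finite (A ⧸ n) E := Algebra.FormallyUnramified.finite_of_free _ _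
  haveI : Module.Finite A (A ⧸ n) := Module.Finite.of_surjective (Algebra.linearMap A (A ⧸ n)) Ideal.Quotient.mk_surjective
  exact Module.Finite.trans (A ⧸ n) E

/-- Suppose A is a Noetherian ring that is I-adically complete for an ideal I, and B is a Noetherian
A-algebra that is complete with respect to the IB-adic topology, with B/IB of finite type over A (so
A → B is an adic morphism of adic Noetherian topological rings that is topologically of finite
type). Assume further that A → B is flat and that the induced map A/I → B/IB is étale (with I as the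
chosen ideal of definition). Consider a prime q of B that is rig-closed (q does not contain IB, and
q is maximal among primes of B not containing IB), and suppose its preimage p in A is rig-closed as
well (p does not contain I, and p is maximal among primes of A not containing I). Then the extension
of p to the localization B_q equals its maximal ideal, that is, p B_q = q B_q. -/
theorem result (A : Type u) [CommRing A] [IsNoetherianRing A] (I : Ideal A) [IsAdicComplete I A] (B : Type u) [CommRing B] [Algebra A B] [IsNoetherianRing B] [IsAdicComplete (I.map (algebraMap A B)) B] (hft : Algebra.FiniteType A (B ⧸ (I.map (algebraMap A B)))) [Module.Flat A B] [Algebra.Etale (A ⧸ I) (B ⧸ (I.map (algebraMap A B)))] (q : PrimeSpectrum B) (hq : (¬ (I.map (algebraMap A B)) ≤ q.asIdeal ∧ ∀ y : PrimeSpectrum B, q ≤ y → ¬ (I.map (algebraMap A B)) ≤ y.asIdeal → y = q)) (hp : (¬ I ≤ (PrimeSpectrum.comap (algebraMap A B) q).asIdeal ∧ ∀ y : PrimeSpectrum A, (PrimeSpectrum.comap (algebraMap A B) q) ≤ y → ¬ I ≤ y.asIdeal → y = (PrimeSpectrum.comap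 (algebraMap A B) q))) : ((PrimeSpectrum.comap (algebraMap A B) q).asIdeal.map (algebraMap A B)).map (algebraMap B (Localization.AtPrime q.asIdeal)) = IsLocalRing.maximalIdeal (Localization.AtPrime q.asIdeal) := by
  classical
  set P := PrimeSpectrum.comap (algebraMap A B) q with hP
  set p := P.asIdeal with hpdef
  haveI := P.isPrime
  haveI := q.isPrime
  obtain ⟨-, hmA, -⟩ := ((Groth.Agent.S8804.result A I P).out 0 2).1 hp
  set IB := I.map (algebraMap A B) with hIB
  set pB := p.map (algebraMap A B) with hpB
  let C := B ⧸ IB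
  let Bb := B ⧸ pB
  set IBb : Ideal Bb := I.map (algebraMap A Bb) with hIBb
  let E := Bb ⧸ IBb
  obtain ⟨n, hn, hpn⟩ := p.exists_le_maximal P.isPrime.ne_top
  haveI := hn
  haveI : IsScalarTower A (A ⧸ I) (B ⧸ IB) := IsScalarTower.of_algebraMap_eq fun x => rfl
  haveI : Algebra.FormallyUnramified A (A ⧸ I) := .quotient _
  haveI hCu : Algebra.FormallyUnramified A (B ⧸ IB) := Algebra.FormallyUnramified.comp A (A ⧸ I) (B ⧸ IB)
  have hIBle : IB ≤ IBb.comap (Ideal.Quotient.mk pB) := by
    rw [hIB, Ideal.map_le_iff_le_comap]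
    intro x hx
    exact Ideal.mem_map_of_mem (algebraMap A Bb) hx
  let g : (B ⧸ IB) →ₐ[A] E := Ideal.quotientMapₐ IBb (Ideal.Quotient.mkₐ A pB) hIBle
  have hg : Function.Surjective g := fun y => by
    obtain ⟨y, rfl⟩ := Ideal.Quotient.mk_surjective y
    obtain ⟨b, rfl⟩ := Ideal.Quotient.mk_surjective y
    exact ⟨Ideal.Quotient.mk _ b, rfl⟩
  haveI : Algebra.FiniteType A E := hft.of_surjective g hg
  haveI : Algebra.FormallyUnramified A E := Algebra.FormallyUnramified.of_surjective g hg
  -- `E` is finite over `A`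
  haveI : Algebra.IsIntegral A E := by
    let nE := n.map (algebraMap A E)
    have hnil : nE ≤ nilradical E := by
      rw [Ideal.map_le_iff_le_comap]
      intro x hx
      set J := I.map (Ideal.Quotient.mk p)
      have hxJ : Ideal.Quotient.mk p x ∈ J.radical := by
        haveI : (n.map (Ideal.Quotient.mk p)).IsMaximal :=
          (Ideal.map_eq_top_or_isMaximal_of_surjective _ Ideal.Quotient.mk_surjective hn).resolve_left (by
            intro h
            refine hn.ne_top (top_le_iff.1 ?_)
            rw [← Ideal.comap_top (f := Ideal.Quotient.mk p), ← h,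
              Ideal.comap_map_of_surjective' _ Ideal.Quotient.mk_surjective, Ideal.mk_ker]
            exact sup_le le_rfl hpn)
        rw [← hmA _ this]
        exact Ideal.mem_map_of_mem _ hx
      obtain ⟨k, hk⟩ := hxJ
      rw [← map_pow, Ideal.mem_quotient_iff_mem_sup] at hk
      obtain ⟨i, hi, j, hj, hij⟩ := Submodule.mem_sup.1 hk
      refine ⟨k, ?_⟩
      show algebraMap A E x ^ k = 0
      rw [← map_pow, ← hij, map_add,
        show algebraMap A E i = 0 from Ideal.Quotient.eq_zero_iff_mem.2 (Ideal.mem_map_of_mem _ hi),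
        show algebraMap A E j = 0 from ?_, add_zero]
      show Ideal.Quotient.mk IBb (Ideal.Quotient.mk pB (algebraMap A B j)) = 0
      rw [Ideal.Quotient.eq_zero_iff_mem.2 (Ideal.mem_map_of_mem (algebraMap A B) hj : algebraMap A B j ∈ pB), map_zero]
    haveI : Algebra.FiniteType A (E ⧸ nE) :=
      Algebra.FiniteType.of_surjective (Ideal.Quotient.mkₐ A nE) (Ideal.Quotient.mkₐ_surjective A nE)
    haveI : Algebra.FormallyUnramified A (E ⧸ nE) :=
      Algebra.FormallyUnramified.of_surjective (Ideal.Quotient.mkₐ A nE) (Ideal.Quotient.mkₐ_surjective A nE)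
    haveI : Module.Finite A (E ⧸ nE) := finite_of_maximal_le_ker (A := A) (E := E ⧸ nE) n fun a ha => (Ideal.Quotient.eq_zero_iff_mem (I := nE)).2 (Ideal.mem_map_of_mem (algebraMap A E) ha)
    refine ⟨fun y => ?_⟩
    obtain ⟨Q, hQ, hQy⟩ := IsIntegral.of_finite A (Ideal.Quotient.mkₐ A nE y)
    have hQy' : Polynomial.aeval (Ideal.Quotient.mkₐ A nE y) Q = 0 := hQy
    rw [Polynomial.aeval_algHom_apply, Ideal.Quotient.mkₐ_eq_mk, Ideal.Quotient.eq_zero_iff_mem] at hQy'
    obtain ⟨N, hN⟩ := hnil hQy'
    refine ⟨Q ^ N, hQ.pow N, ?_⟩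
    show Polynomial.aeval y (Q ^ N) = 0
    rw [map_pow]; exact hN
  haveI : Module.Finite A E := Algebra.IsIntegral.finite
  have hjac : IBb ≤ (⊥ : Ideal Bb).jacobson := by
    have h1 : IB ≤ (⊥ : Ideal B).jacobson := IsAdicComplete.le_jacobson_bot IB
    refine le_sInf fun M hM => ?_
    haveI := hM.2
    haveI : (M.comap (Ideal.Quotient.mk pB)).IsMaximal :=
      Ideal.comap_isMaximal_of_surjective _ Ideal.Quotient.mk_surjective
    have h2 : IB ≤ M.comap (Ideal.Quotient.mk pB) := h1.trans (sInf_le ⟨bot_le, this⟩)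
    rw [hIB, Ideal.map_le_iff_le_comap, Ideal.comap_comap] at h2
    rw [hIBb, Ideal.map_le_iff_le_comap]
    exact h2
  haveI : IsHausdorff I Bb := by
    haveI : IsHausdorff IBb Bb := ⟨fun x hx => by
      have h : x ∈ (⨅ n, IBb ^ n • ⊤ : Submodule Bb Bb) := (Submodule.mem_iInf _).2 fun n => by
        simpa [SModEq.sub_mem] using hx n
      rwa [Ideal.iInf_pow_smul_eq_bot_of_le_jacobson IBb hjac, Submodule.mem_bot] at h⟩
    exact IsHausdorff.map_algebraMap_iff.1 this
  haveI : Module.Finite A Bb := by
    obtain ⟨t, s, hs⟩ := Module.Finite.exists_fin' A E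
    choose e he using fun i => Ideal.Quotient.mk_surjective (I := IBb) (s (Pi.single i 1))
    let φ : (Fin t → A) →ₗ[A] Bb := Fintype.linearCombination A e
    have hφ : ∀ z, Ideal.Quotient.mk IBb (φ z) = s z := by
      have : (Ideal.Quotient.mkₐ A IBb).toLinearMap ∘ₗ φ = s := LinearMap.pi_ext fun i c => by
        show Ideal.Quotient.mk IBb (Fintype.linearCombination A e (Pi.single i c)) = _
        rw [Fintype.linearCombination_apply_single, ← Ideal.Quotient.mkₐ_eq_mk (R₁ := A), map_smul,
          Ideal.Quotient.mkₐ_eq_mk, he, ← map_smul, ← Pi.single_smul, smul_eq_mul, mul_one]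
      exact fun z => LinearMap.congr_fun this z
    haveI : IsAdicComplete I (Fin t → A) := Groth.Agent.Compl.isAdicComplete_of_finite I _
    refine Module.Finite.of_surjective φ (surjective_of_mkQ_comp_surjective (I := I) fun y => ?_)
    obtain ⟨y, rfl⟩ := Submodule.mkQ_surjective _ y
    obtain ⟨z, hz⟩ := hs (Ideal.Quotient.mk IBb y)
    refine ⟨z, ?_⟩
    rw [LinearMap.comp_apply, Submodule.mkQ_apply, Submodule.mkQ_apply, Submodule.Quotient.eq,
      Ideal.smul_top_eq_map, Submodule.restrictScalars_mem, ← hIBb, ← Ideal.Quotient.eq, hφ, hz]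
  haveI : Algebra.FiniteType A Bb := inferInstance
  -- differentials vanish
  haveI : Algebra.FormallyUnramified A Bb := by
    let W := Ω[Bb⁄A] ⧸ (IBb • ⊤ : Submodule Bb (Ω[Bb⁄A]))
    have hW : ∀ w : W, w = 0 := by
      let d : Derivation A Bb W := (Submodule.mkQ _).compDer (KaehlerDifferential.D A Bb)
      have hd0 : ∀ i ∈ IBb, ∀ w : W, i • w = 0 := fun i hi w => by
        obtain ⟨w, rfl⟩ := Submodule.mkQ_surjective _ w
        rw [← map_smul, Submodule.mkQ_apply, Submodule.Quotient.mk_eq_zero]
        exact Submodule.smul_mem_smul hi trivial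
      have hdI : ∀ i ∈ IBb, d i = 0 := by
        intro i hi
        induction hi using Submodule.span_induction with
        | mem z hz => obtain ⟨a, -, rfl⟩ := hz; exact d.map_algebraMap a
        | zero => exact map_zero d
        | add z w _ _ hz hw => rw [map_add, hz, hw, add_zero]
        | smul c z hz' hz =>
          rw [smul_eq_mul, Derivation.leibniz, hz, smul_zero, zero_add]
          exact hd0 z hz' _
      letI : Module E W := Module.IsTorsionBySet.module (fun w a => hd0 a.1 a.2 w)
      haveI : IsScalarTower A E W := ⟨fun a e w => by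
        obtain ⟨e, rfl⟩ := Ideal.Quotient.mk_surjective e
        show (a • Ideal.Quotient.mk IBb e) • w = a • (e • w)
        rw [← Ideal.Quotient.mkₐ_eq_mk (R₁ := A), ← map_smul, Ideal.Quotient.mkₐ_eq_mk]
        show (a • e) • w = a • (e • w)
        exact smul_assoc a e w⟩
      let dl : E →ₗ[A] W := (IBb.restrictScalars A).liftQ (d : Bb →ₗ[A] W) hdI
      let d' : Derivation A E W :=
        Derivation.mk' dl fun a b => by
          obtain ⟨a, rfl⟩ := Ideal.Quotient.mk_surjective a
          obtain ⟨b, rfl⟩ := Ideal.Quotient.mk_surjective b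
          exact d.leibniz a b
      have hd' : d' = 0 := by
        apply (KaehlerDifferential.linearMapEquivDerivation A E).symm.injective
        exact Subsingleton.elim _ _
      have hd : d = 0 := Derivation.ext fun b => by
        have := congrArg (fun D : Derivation A E W => D (Ideal.Quotient.mk IBb b)) hd'
        exact this
      intro w
      obtain ⟨w, rfl⟩ := Submodule.mkQ_surjective _ w
      have hlin : (IBb • ⊤ : Submodule Bb (Ω[Bb⁄A])).mkQ = 0 := by
        apply (KaehlerDifferential.linearMapEquivDerivation A Bb).injective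
        rw [map_zero, ← hd]
        rfl
      rw [hlin]; rfl
    constructor
    refine ⟨fun x y => ?_⟩
    have htop : (⊤ : Submodule Bb (Ω[Bb⁄A])) ≤ IBb • ⊤ := fun x _ =>
      (Submodule.Quotient.mk_eq_zero _).1 (hW (Submodule.Quotient.mk x))
    have := Submodule.eq_bot_of_le_smul_of_le_jacobson_bot IBb (⊤ : Submodule Bb (Ω[Bb⁄A])) Module.Finite.fg_top htop hjac
    have hx : x ∈ (⊥ : Submodule Bb (Ω[Bb⁄A])) := this ▸ Submodule.mem_top
    have hy : y ∈ (⊥ : Submodule Bb (Ω[Bb⁄A])) := this ▸ Submodule.mem_top
    rw [Submodule.mem_bot] at hx hy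
    rw [hx, hy]
  have hpq : pB ≤ q.asIdeal := Ideal.map_le_iff_le_comap.2 le_rfl
  let qb : Ideal Bb := q.asIdeal.map (Ideal.Quotient.mk pB)
  haveI : qb.IsPrime := Ideal.map_isPrime_of_surjective Ideal.Quotient.mk_surjective (by rwa [Ideal.mk_ker])
  have hqb : ∀ x, Ideal.Quotient.mk pB x ∈ qb ↔ x ∈ q.asIdeal := fun x => by
    rw [Ideal.mem_quotient_iff_mem_sup, sup_eq_left.2 hpq]
  haveI : qb.LiesOver p := ⟨by
    ext x
    show algebraMap A B x ∈ q.asIdeal ↔ Ideal.Quotient.mk pB (algebraMap A B x) ∈ qb
    rw [hqb]⟩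
  haveI : Algebra.IsUnramifiedAt A qb := inferInstance
  letI := Localization.AtPrime.algebraOfLiesOver p qb
  have key := ((Algebra.isUnramifiedAt_iff_map_eq A p qb).1 inferInstance).2
  apply le_antisymm
  · rw [← IsLocalization.AtPrime.map_eq_maximalIdeal q.asIdeal (Localization.AtPrime q.asIdeal)]
    exact Ideal.map_mono hpq
  · rw [← IsLocalization.AtPrime.map_eq_maximalIdeal q.asIdeal (Localization.AtPrime q.asIdeal),
      Ideal.map_le_iff_le_comap]
    intro x hx
    rw [Ideal.mem_comap, IsLocalization.algebraMap_mem_map_algebraMap_iff q.asIdeal.primeCompl]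
    have h0 : algebraMap Bb (Localization.AtPrime qb) (Ideal.Quotient.mk pB x) = 0 := by
      have h1 : algebraMap Bb (Localization.AtPrime qb) (Ideal.Quotient.mk pB x) ∈
          IsLocalRing.maximalIdeal (Localization.AtPrime qb) :=
        (IsLocalization.AtPrime.to_map_mem_maximal_iff _ qb _).2 ((hqb x).2 hx)
      rw [← key, IsScalarTower.algebraMap_eq A Bb, ← Ideal.map_map] at h1
      have h2 : p.map (algebraMap A Bb) = ⊥ := by
        rw [eq_bot_iff, Ideal.map_le_iff_le_comap]
        intro a ha
        rw [Ideal.mem_comap, Ideal.mem_bot]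
        exact Ideal.Quotient.eq_zero_iff_mem.2 (Ideal.mem_map_of_mem (algebraMap A B) ha)
      rw [h2, Ideal.map_bot, Ideal.mem_bot] at h1
      exact h1
    obtain ⟨⟨s, hs⟩, hsx⟩ := (IsLocalization.map_eq_zero_iff qb.primeCompl _ _).1 h0
    obtain ⟨s, rfl⟩ := Ideal.Quotient.mk_surjective s
    refine ⟨s, fun h => hs ((hqb s).2 h), ?_⟩
    rw [← map_mul, Ideal.Quotient.eq_zero_iff_mem] at hsx
    exact hsx

end Groth.Agent.S8838
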