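import Groth.Statements.S8840
import Groth.Agent.S8829
import Groth.Agent.S8837
import Groth.Agent.Lib.Compl.Complete
import Mathlib.RingTheory.Jacobson.Ring
import Mathlib.RingTheory.Localization.Integral
import Mathlib.RingTheory.Localization.FractionRing

set_option autoImplicit false
universe u
open AdicRing

namespace Groth.Agent.S8840

/-- A finite type algebra which is a field becomes integral after inverting one element. -/
theorem exists_f {A : Type u} [CommRing A] (F : Type u) [Field F] [Algebra A F] [Algebra.FiniteType A F] :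
    ∃ f : A, algebraMap A F f ≠ 0 ∧ ∀ (C : Type u) [CommRing C] [Algebra A C] [Algebra C F]
      [IsScalarTower A C F], IsUnit (algebraMap A C f) → Module.Finite C F := by
  classical
  set n : Ideal A := RingHom.ker (algebraMap A F) with hn
  haveI : n.IsPrime := RingHom.ker_isPrime _
  let K := FractionRing (A ⧸ n)
  letI : Algebra (A ⧸ n) F := (Ideal.Quotient.lift n (algebraMap A F) fun a ha => ha).toAlgebra
  haveI : IsScalarTower A (A ⧸ n) F := IsScalarTower.of_algebraMap_eq fun x => rfl
  have hinj : Function.Injective (algebraMap (A ⧸ n) F) := by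
    refine (injective_iff_map_eq_zero _).2 fun y hy => ?_
    obtain ⟨a, rfl⟩ := Ideal.Quotient.mk_surjective y
    exact Ideal.Quotient.eq_zero_iff_mem.2 hy
  letI : Algebra K F := (IsFractionRing.lift (A := A ⧸ n) (K := K) hinj).toAlgebra
  haveI : IsScalarTower (A ⧸ n) K F := IsScalarTower.of_algebraMap_eq fun x =>
    (IsFractionRing.lift_algebraMap hinj x).symm
  haveI : Algebra.FiniteType (A ⧸ n) F := Algebra.FiniteType.of_restrictScalars_finiteType A _ _
  haveI : Algebra.FiniteType K F := Algebra.FiniteType.of_restrictScalars_finiteType (A ⧸ n) _ _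
  haveI : Module.Finite K F := finite_of_finite_type_of_isJacobsonRing K F
  obtain ⟨s, hs⟩ := Algebra.FiniteType.out (R := A) (A := F)
  have h1 : ∀ x : F, ∃ a : A, algebraMap A F a ≠ 0 ∧ IsIntegral A (algebraMap A F a * x) := by
    intro x
    obtain ⟨⟨y, hy⟩, hyx⟩ := IsIntegral.exists_multiple_integral_of_isLocalization (nonZeroDivisors (A ⧸ n)) x
      (IsIntegral.of_finite K x)
    obtain ⟨a, rfl⟩ := Ideal.Quotient.mk_surjective y
    refine ⟨a, fun h => nonZeroDivisors.ne_zero hy (Ideal.Quotient.eq_zero_iff_mem.2 h), ?_⟩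
    have h2 : IsIntegral (A ⧸ n) (algebraMap A F a * x) := by
      rwa [Submonoid.mk_smul, Algebra.smul_def] at hyx
    haveI : Module.Finite A (A ⧸ n) := Module.Finite.of_surjective (Algebra.linearMap A (A ⧸ n)) Ideal.Quotient.mk_surjective
    haveI : Algebra.IsIntegral A (A ⧸ n) := Algebra.IsIntegral.of_finite A _
    exact isIntegral_trans _ h2
  choose a ha hax using h1
  refine ⟨∏ x ∈ s, a x, by rw [map_prod]; exact Finset.prod_ne_zero_iff.2 fun x _ => ha x, ?_⟩
  intro C _ _ _ _ hu
  haveI : Algebra.IsIntegral C F := by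
    refine ⟨fun z => ?_⟩
    have hz : z ∈ Algebra.adjoin A (s : Set F) := hs ▸ Algebra.mem_top
    induction hz using Algebra.adjoin_induction with
    | mem x hx =>
      obtain ⟨u, hu'⟩ : IsUnit (algebraMap A C (a x)) :=
        isUnit_of_dvd_unit (map_dvd _ (Finset.dvd_prod_of_mem a hx)) hu
      have h3 : IsIntegral C (algebraMap A F (a x) * x) := (hax x).tower_top
      have h4 := (isIntegral_algebraMap (R := C) (A := F) (x := (↑u⁻¹ : C))).mul h3
      rwa [IsScalarTower.algebraMap_apply A C F, ← hu', ← mul_assoc, ← map_mul, Units.inv_mul, map_one,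
        one_mul] at h4
    | algebraMap r => rw [IsScalarTower.algebraMap_apply A C F]; exact isIntegral_algebraMap
    | add _ _ _ _ hx hy => exact hx.add hy
    | mul _ _ _ _ hx hy => exact hx.mul hy
  haveI : Algebra.FiniteType C F := Algebra.FiniteType.of_restrictScalars_finiteType A _ _
  exact Algebra.IsIntegral.finite

theorem rigClosed_aux (A : Type u) [CommRing A] [IsNoetherianRing A] (I : Ideal A) [IsAdicComplete I A]
    (B : Type u) [CommRing B] [Algebra A B] [IsNoetherianRing B] [IsAdicComplete (I.map (algebraMap A B)) B]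
    (hft : Algebra.FiniteType A (B ⧸ (I.map (algebraMap A B)))) (q : PrimeSpectrum B)
    (hq : (¬ (I.map (algebraMap A B)) ≤ q.asIdeal ∧ ∀ y : PrimeSpectrum B, q ≤ y → ¬ (I.map (algebraMap A B)) ≤ y.asIdeal → y = q))
    (M : Ideal (B ⧸ q.asIdeal)) [hM : M.IsMaximal] (f : A)
    (hfu : IsUnit (Ideal.Quotient.mk q.asIdeal (algebraMap A B f)))
    (hfint : ∀ (C : Type u) [CommRing C] [Algebra A C] [Algebra C ((B ⧸ q.asIdeal) ⧸ M)]
      [IsScalarTower A C ((B ⧸ q.asIdeal) ⧸ M)], IsUnit (algebraMap A C f) → Module.Finite C ((B ⧸ q.asIdeal) ⧸ M)) :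
    let C := AdicCompletion (I.map (algebraMap A (Localization.Away f))) (Localization.Away f)
    let Bg := Localization.Away (algebraMap A B f)
    let E := AdicCompletion ((I.map (algebraMap A B)).map (algebraMap B Bg)) Bg
    ∀ (ψ : C →+* E), ψ.comp (algebraMap (Localization.Away f) C) = (algebraMap Bg E).comp (Localization.awayMap (algebraMap A B) f) →
    Function.Bijective (Ideal.quotientMap (q.asIdeal.map (algebraMap B E)) (algebraMap B E) Ideal.le_comap_map) →
    ((q.asIdeal.map (algebraMap B E)).comap ψ).IsPrime ∧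
      ¬ (I.map (algebraMap A C)) ≤ ((q.asIdeal.map (algebraMap B E)).comap ψ) ∧
      ∀ y : PrimeSpectrum C, ((q.asIdeal.map (algebraMap B E)).comap ψ) ≤ y.asIdeal →
        ¬ (I.map (algebraMap A C)) ≤ y.asIdeal → y.asIdeal = ((q.asIdeal.map (algebraMap B E)).comap ψ) := by
  intro C Bg E ψ hψ hbij
  haveI := q.isPrime
  set IB := I.map (algebraMap A B) with hIB
  obtain ⟨-, hmD, -⟩ := ((Groth.Agent.S8804.result B IB q).out 0 2).1 hq
  set Af := Localization.Away f
  haveI : IsNoetherianRing Af := IsLocalization.isNoetherianRing (Submonoid.powers f) Af inferInstance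
  have hJfg : (I.map (algebraMap A Af)).FG := IsNoetherian.noetherian _
  haveI : IsNoetherianRing C := Groth.Agent.Compl.isNoetherianRing_adicCompletion _ hJfg
  set IC := I.map (algebraMap A C) with hIC
  haveI : IsAdicComplete IC C := by
    rw [hIC, IsScalarTower.algebraMap_eq A Af C, ← Ideal.map_map]
    exact (IsAdicComplete.map_algebraMap_iff _ C).mpr (AdicCompletion.isAdicComplete hJfg)
  let e := RingEquiv.ofBijective _ hbij
  let ρ : C →+* B ⧸ q.asIdeal := e.symm.toRingHom.comp ((Ideal.Quotient.mk _).comp ψ)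
  letI : Algebra C (B ⧸ q.asIdeal) := ρ.toAlgebra
  haveI htow : IsScalarTower A C (B ⧸ q.asIdeal) := IsScalarTower.of_algebraMap_eq fun x => by
    show _ = e.symm (Ideal.Quotient.mk _ (ψ (algebraMap A C x)))
    rw [RingEquiv.eq_symm_apply, IsScalarTower.algebraMap_apply A Af C, ← RingHom.comp_apply ψ, hψ,
      RingHom.comp_apply, Localization.awayMap, IsLocalization.Away.map, IsLocalization.map_eq,
      ← IsScalarTower.algebraMap_apply B Bg E]
    exact Ideal.quotientMap_mk (I := q.asIdeal.map (algebraMap B E)) (f := algebraMap B E) (H := Ideal.le_comap_map) (x := algebraMap A B x)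
  set J : Ideal (B ⧸ q.asIdeal) := IC.map (algebraMap C (B ⧸ q.asIdeal)) with hJ
  have hJ' : J = IB.map (Ideal.Quotient.mk q.asIdeal) := by
    rw [hJ, hIC, Ideal.map_map, ← IsScalarTower.algebraMap_eq, hIB, Ideal.map_map]
    rfl
  haveI hJc : IsAdicComplete J (B ⧸ q.asIdeal) := by
    rw [hJ']
    exact (IsAdicComplete.map_algebraMap_iff IB (B ⧸ q.asIdeal)).mpr (Groth.Agent.Compl.isAdicComplete_of_finite IB _)
  haveI : Algebra.FiniteType A ((B ⧸ q.asIdeal) ⧸ J) := by
    let g : (B ⧸ IB) →ₐ[A] ((B ⧸ q.asIdeal) ⧸ J) := Ideal.quotientMapₐ J (Ideal.Quotient.mkₐ A q.asIdeal)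
      (by rw [hJ']; exact Ideal.le_comap_map)
    refine hft.of_surjective g fun y => ?_
    obtain ⟨y, rfl⟩ := Ideal.Quotient.mk_surjective y
    obtain ⟨b, rfl⟩ := Ideal.Quotient.mk_surjective y
    exact ⟨Ideal.Quotient.mk _ b, rfl⟩
  have hftC : Algebra.FiniteType C ((B ⧸ q.asIdeal) ⧸ J) := Algebra.FiniteType.of_restrictScalars_finiteType A _ _
  haveI : IsDomain (B ⧸ q.asIdeal) := inferInstance
  let z : PrimeSpectrum (B ⧸ q.asIdeal) := ⟨⊥, Ideal.isPrime_bot⟩
  have hz : ¬ J ≤ z.asIdeal ∧ ∀ y : PrimeSpectrum (B ⧸ q.asIdeal), z ≤ y → ¬ J ≤ y.asIdeal → y = z := by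
    refine ⟨fun h => hq.1 ?_, fun y _ hy => ?_⟩
    · rw [show z.asIdeal = ⊥ from rfl, le_bot_iff, hJ', Ideal.map_eq_bot_iff_le_ker, Ideal.mk_ker] at h
      exact h
    · haveI := y.isPrime
      have hyq := hq.2 ⟨y.asIdeal.comap (Ideal.Quotient.mk q.asIdeal), Ideal.IsPrime.comap _⟩ (fun x hx => by
          show Ideal.Quotient.mk q.asIdeal x ∈ y.asIdeal
          rw [Ideal.Quotient.eq_zero_iff_mem.2 hx]; exact zero_mem _)
        (fun h => hy (by rw [hJ']; exact Ideal.map_le_iff_le_comap.2 h))
      have hyq' : y.asIdeal.comap (Ideal.Quotient.mk q.asIdeal) = q.asIdeal := congrArg PrimeSpectrum.asIdeal hyq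
      apply PrimeSpectrum.ext
      rw [← Ideal.map_comap_of_surjective _ Ideal.Quotient.mk_surjective y.asIdeal, hyq', Ideal.map_quotient_self]
  have hu : IsUnit (algebraMap A C f) := by
    rw [IsScalarTower.algebraMap_apply A Af C]
    exact (IsLocalization.Away.algebraMap_isUnit f).map _
  have h1 : ∀ m : Ideal (B ⧸ q.asIdeal), m.IsMaximal → z.asIdeal ≤ m → Module.Finite C ((B ⧸ q.asIdeal) ⧸ m) := by
    intro m hm _
    obtain rfl : m = M := (hmD m hm).trans (hmD M hM).symm
    exact hfint C hu
  obtain ⟨hr1, hr2⟩ := ((Groth.Agent.S8829.result C IC (B ⧸ q.asIdeal) hftC z hz).out 0 1).1 h1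
  have heq : (q.asIdeal.map (algebraMap B E)).comap ψ = (PrimeSpectrum.comap (algebraMap C (B ⧸ q.asIdeal)) z).asIdeal := by
    ext x
    rw [Ideal.mem_comap, PrimeSpectrum.comap_asIdeal, Ideal.mem_comap, show z.asIdeal = (⊥ : Ideal (B ⧸ q.asIdeal)) from rfl,
      show algebraMap C (B ⧸ q.asIdeal) x = e.symm (Ideal.Quotient.mk _ (ψ x)) from rfl]
    rw [Ideal.mem_bot, EmbeddingLike.map_eq_zero_iff, Ideal.Quotient.eq_zero_iff_mem]
  rw [heq]
  exact ⟨(PrimeSpectrum.comap _ z).isPrime, hr1, fun y hy hyI => congrArg PrimeSpectrum.asIdeal (hr2 y hy hyI)⟩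

/-- Let A be a Noetherian ring complete for the adic topology of an ideal I, and B a Noetherian
A-algebra complete for the IB-adic topology with B/IB of finite type over A (an adic morphism,
topologically of finite type, of adic Noetherian topological rings). Let q be a prime of B which is
rig-closed (IB ⊄ q and q maximal among the primes not containing IB). Then there exists f ∈ A which
maps to a unit in B/q such that the following holds. Let A_{f} and B_{f} be the completed principal
localizations (the I-adic completions of A_f and B_f) and ψ : A_{f} → B_{f} the canonical map,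
characterised here as any ring map compatible with A_f → B_f (there is exactly one). Then the
inverse image p' under ψ of the ideal q' = q B_{f} is a rig-closed prime of A_{f}: p' is prime, I
A_{f} ⊄ p', and p' is maximal among the primes of A_{f} not containing I A_{f}. (That q B_{f} is
itself prime with quotient B/q holds because f is a unit modulo q; it is not restated.) -/
theorem result (A : Type u) [CommRing A] [IsNoetherianRing A] (I : Ideal A) [IsAdicComplete I A] (B : Type u) [CommRing B] [Algebra A B] [IsNoetherianRing B] [IsAdicComplete (I.map (algebraMap A B)) B] (hft : Algebra.FiniteType A (B ⧸ (I.map (algebraMap A B)))) (q : PrimeSpectrum B) (hq : (¬ (I.map (algebraMap A B)) ≤ q.asIdeal ∧ ∀ y : PrimeSpectrum B, q ≤ y → ¬ (I.map (algebraMap A B)) ≤ y.asIdeal → y = q)) : ∃ f : A, IsUnit (Ideal.Quotient.mk q.asIdeal (algebraMap A B f)) ∧ ∀ ψ : (AdicCompletion (I.map (algebraMap A (Localization.Away f))) (Localization.Away f)) →+* (AdicCompletion ((I.map (algebraMap A B)).map (algebraMap B (Localization.Away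 (algebraMap A B f)))) (Localization.Away (algebraMap A B f))), ψ.comp (algebraMap (Localization.Away f) (AdicCompletion (I.map (algebraMap A (Localization.Away f))) (Localization.Away f))) = (algebraMap (Localization.Away (algebraMap A B f)) (AdicCompletion ((I.map (algebraMap A B)).map (algebraMap B (Localization.Away (algebraMap A B f)))) (Localization.Away (algebraMap A B f)))).comp (Localization.awayMap (algebraMap A B) f) → (((q.asIdeal.map (algebraMap B (AdicCompletion ((I.map (algebraMap A B)).map (algebraMap B (Localization.Away (algebraMap A B f)))) (Localization.Away (algebraMap A B f))))).comap ψ).IsPrime ∧ ¬ (I.map (algebraMap A (AdicCompletion (I.map (algebraMap A (Localization.Away f))) (Localization.Away f)))) ≤ ((q.asIdeal.map (algebraMap B (AdicCompletion ((I.map (algebraMap A B)).map (algebraMap B (Localization.Away (algebraMap A B f)))) (Localization.Away (algebraMap A B f))))).comap ψ) ∧ ∀ y : PrimeSpectrum (AdicCompletion (I.map (algebraMap A (Localization.Away f))) (Localization.Away f)),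 ((q.asIdeal.map (algebraMap B (AdicCompletion ((I.map (algebraMap A B)).map (algebraMap B (Localization.Away (algebraMap A B f)))) (Localization.Away (algebraMap A B f))))).comap ψ) ≤ y.asIdeal → ¬ (I.map (algebraMap A (AdicCompletion (I.map (algebraMap A (Localization.Away f))) (Localization.Away f)))) ≤ y.asIdeal → y.asIdeal = ((q.asIdeal.map (algebraMap B (AdicCompletion ((I.map (algebraMap A B)).map (algebraMap B (Localization.Away (algebraMap A B f)))) (Localization.Away (algebraMap A B f))))).comap ψ)) := by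
  classical
  set IB := I.map (algebraMap A B) with hIB
  haveI := q.isPrime
  obtain ⟨hdim, hmD, -⟩ := ((Groth.Agent.S8804.result B IB q).out 0 2).1 hq
  obtain ⟨M, hM⟩ := Ideal.exists_maximal (B ⧸ q.asIdeal)
  haveI := hM
  haveI : Algebra.FiniteType A ((B ⧸ q.asIdeal) ⧸ M) := by
    let g0 : B →ₐ[A] (B ⧸ q.asIdeal) ⧸ M := (Ideal.Quotient.mkₐ A M).comp (Ideal.Quotient.mkₐ A q.asIdeal)
    have hle : ∀ b ∈ IB, g0 b = 0 := fun b hb => by
      show Ideal.Quotient.mk M (Ideal.Quotient.mk q.asIdeal b) = 0
      rw [Ideal.Quotient.eq_zero_iff_mem, hmD M hM]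
      exact Ideal.le_radical (Ideal.mem_map_of_mem _ hb)
    refine hft.of_surjective (Ideal.Quotient.liftₐ IB g0 hle) fun y => ?_
    obtain ⟨y, rfl⟩ := Ideal.Quotient.mk_surjective y
    obtain ⟨b, rfl⟩ := Ideal.Quotient.mk_surjective y
    exact ⟨Ideal.Quotient.mk _ b, rfl⟩
  letI := Ideal.Quotient.field M
  obtain ⟨f, hf0, hfint⟩ := exists_f (A := A) ((B ⧸ q.asIdeal) ⧸ M)
  have huD : ∀ z : B ⧸ q.asIdeal, z ∉ M → IsUnit z := fun z hz => by
    by_contra h
    obtain ⟨M', hM', hzM'⟩ := exists_max_ideal_of_mem_nonunits h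
    rw [hmD M' hM', ← hmD M hM] at hzM'
    exact hz hzM'
  have hfu : IsUnit (Ideal.Quotient.mk q.asIdeal (algebraMap A B f)) :=
    huD _ fun h => hf0 (Ideal.Quotient.eq_zero_iff_mem.2 h)
  refine ⟨f, hfu, fun ψ hψ => ?_⟩
  obtain ⟨-, hbij⟩ := Groth.Agent.S8837.result B IB q.asIdeal (algebraMap A B f) hfu
  exact rigClosed_aux A I B hft q hq M f hfu hfint ψ hψ hbij

end Groth.Agent.S8840
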