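import Groth.Statements.S15656
import Groth.Agent.Lib.CubeField.MulApp
import Groth.Agent.Lib.CubeField.FinInst

set_option autoImplicit false
universe u
open CategoryTheory MonoidalCategory CartesianMonoidalCategory MonObj GrpObj AlgebraicGeometry
open AbVar

namespace Groth.Agent.S15656

/-- Remark preceding it: let A and B be abelian varieties over a field k (proper, geometrically integral
commutative group schemes over k). Then the additive group Hom_k(A, B) of homomorphisms A → B
defined over k (sum = pointwise product in the group law of B) is torsion-free: if n·f = 0 for an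
integer n ≠ 0 then f = 0. -/
theorem result (k : Type u) [Field k]
    (A B : Over (Spec (CommRingCat.of k)))
    [GrpObj A] [IsCommMonObj A] [IsProper A.hom] [GeometricallyIntegral A.hom]
    [GrpObj B] [IsCommMonObj B] [IsProper B.hom] [GeometricallyIntegral B.hom] :
    NoZeroSMulDivisors ℤ (EndAV.Hom A B) := by
  refine ⟨fun {n} {φ} h => or_iff_not_imp_left.2 fun hn => ?_⟩
  apply EndAV.Hom.ext
  exact Groth.Agent.CubeField.eq_one_of_zpow_eq_one Groth.Agent.CubeField.finH1 φ.toHom hn ((EndAV.Hom.toHom_zsmul n φ).symm.trans (congrArg EndAV.Hom.toHom h))

end Groth.Agent.S15656
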