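import Groth.Statements.S1467
import Groth.Agent.S0537
import Groth.Agent.S0427
import Groth.Agent.Lib.WEStalk.Basic
import Groth.Agent.Lib.WEtaleTor4.Basic
import Groth.Agent.Lib.FlatUnr.Basic
import Groth.Agent.Lib.Hens.Normal
import Groth.Agent.Lib.WEtaleH7.Misc
import Groth.Agent.Lib.RInv29.Henselian

set_option autoImplicit false
universe u
open FlatMor

set_option backward.isDefEq.respectTransparency.types false

namespace Groth.Agent.S1467


open TensorProduct IsLocalRing

/-- Two algebra maps out of a weakly étale algebra into a local ring agree if they agree at the closed point. -/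
theorem algHom_eq_of_residue {A B T : Type u} [CommRing A] [CommRing B] [CommRing T] [IsLocalRing T]
    [Algebra A B] [Algebra.WeaklyEtale A B] [Algebra A T] (f g : B →ₐ[A] T)
    (h : ∀ b, residue T (f b) = residue T (g b)) : f = g := by
  refine AlgHom.ext fun b => ?_
  let m := Algebra.TensorProduct.lmul' A (S := B)
  let J : Ideal (B ⊗[A] B) := RingHom.ker m.toRingHom
  let e : ((B ⊗[A] B) ⧸ J) ≃ₐ[A] B := Ideal.quotientKerAlgEquivOfSurjective (f := m) fun x => ⟨x ⊗ₜ 1, by simp [m]⟩
  haveI : Module.Flat (B ⊗[A] B) ((B ⊗[A] B) ⧸ J) := by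
    rw [← RingHom.flat_algebraMap_iff]
    have hc : (algebraMap (B ⊗[A] B) ((B ⊗[A] B) ⧸ J)) = e.symm.toRingEquiv.toRingHom.comp m.toRingHom :=
      RingHom.ext fun z => (e.symm_apply_apply (Ideal.Quotient.mk J z)).symm
    rw [hc]
    exact RingHom.Flat.comp (Algebra.WeaklyEtale.flat_lmul' A B) (RingHom.Flat.of_bijective e.symm.bijective)
  let φ : B ⊗[A] B →ₐ[A] T := Algebra.TensorProduct.lift f g fun _ _ => mul_comm _ _
  have hb : (b ⊗ₜ[A] 1 - 1 ⊗ₜ[A] b : B ⊗[A] B) ∈ J := by simp [J, m]
  obtain ⟨c, hc, hcb⟩ := Groth.Agent.FlatUnr.exists_mul_eq_of_flat_quotient J hb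
  have hres : ∀ z, residue T (φ z) = residue T (f (m z)) := by
    intro z
    induction z using TensorProduct.induction_on with
    | zero => simp
    | tmul x y => simp [φ, m, h y]
    | add x y hx hy => simp [hx, hy]
  have h1 : residue T (φ c) = 0 := by rw [hres, show m c = 0 from hc, map_zero, map_zero]
  have h2 : (1 - φ c) * φ (b ⊗ₜ[A] 1 - 1 ⊗ₜ[A] b) = 0 := by rw [sub_mul, one_mul, ← map_mul, hcb, sub_self]
  have hu : IsUnit (1 - φ c) := IsLocalRing.isUnit_one_sub_self_of_mem_nonunits _ ((residue_eq_zero_iff _).1 h1)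
  rw [hu.mul_right_eq_zero, map_sub, sub_eq_zero] at h2
  simpa [φ] using h2

/-- Strict henselizations transport along isomorphisms over the base. -/
theorem isStrictHenselization_of_algEquiv {A S R : Type u} [CommRing A] [IsLocalRing A] [CommRing S] [IsLocalRing S]
    [CommRing R] [IsLocalRing R] [Algebra A S] [IsLocalHom (algebraMap A S)] [Algebra A R] [IsLocalHom (algebraMap A R)]
    (e : S ≃ₐ[A] R) [Hensel.IsStrictHenselization A S] : Hensel.IsStrictHenselization A R where
  henselian := by
    haveI := Hensel.IsStrictHenselization.henselian (R := A) (S := S)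
    exact RInv29.henselian_of_ringEquiv e.toRingEquiv
  isSepClosure := by
    haveI := Hensel.IsStrictHenselization.isSepClosure (R := A) (S := S)
    haveI : IsLocalHom e.toRingEquiv.toRingHom := ⟨fun x hx => (isLocalHom_equiv e.toRingEquiv).map_nonunit x hx⟩
    let eA : ResidueField S ≃ₐ[ResidueField A] ResidueField R :=
      AlgEquiv.ofRingEquiv (f := ResidueField.mapEquiv e.toRingEquiv) fun a => by
        obtain ⟨a, rfl⟩ := residue_surjective a
        exact congrArg (residue R) (e.commutes a)
    haveI : IsSepClosed (ResidueField S) := IsSepClosure.sep_closed (ResidueField A)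
    refine ⟨RInv29.isSepClosed_of_ringEquiv (ResidueField.mapEquiv e.toRingEquiv), ?_⟩
    haveI : Algebra.IsSeparable (ResidueField A) (ResidueField S) := IsSepClosure.separable
    exact AlgEquiv.Algebra.isSeparable eA
  universal T _ _ f _ τ hτ := by
    haveI : IsLocalHom e.toRingEquiv.toRingHom := ⟨fun x hx => (isLocalHom_equiv e.toRingEquiv).map_nonunit x hx⟩
    obtain ⟨g, ⟨hg1, hg2⟩, huniq⟩ := Hensel.IsStrictHenselization.universal (R := A) (S := S) T f
      (τ.comp (ResidueField.map e.toRingEquiv.toRingHom)) (by
        rw [RingHom.comp_assoc, ← hτ]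
        congr 1
        refine RingHom.ext fun a => ?_
        obtain ⟨a, rfl⟩ := residue_surjective a
        exact congrArg (residue R) (e.commutes a))
    refine ⟨g.comp e.symm.toRingEquiv.toRingHom, ⟨?_, fun x => ?_⟩, fun g' ⟨h1, h2⟩ => ?_⟩
    · refine RingHom.ext fun a => ?_
      show g (e.symm (algebraMap A R a)) = _
      rw [AlgEquiv.commutes]
      exact congr($hg1 a)
    · show residue T (g (e.symm x)) = _
      rw [hg2]
      show τ (residue R (e (e.symm x))) = _
      rw [AlgEquiv.apply_symm_apply]
    · have := huniq (g'.comp e.toRingEquiv.toRingHom) ⟨RingHom.ext fun a => by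
          show g' (e (algebraMap A S a)) = _
          rw [AlgEquiv.commutes]
          exact congr($h1 a), fun x => h2 (e x)⟩
      refine RingHom.ext fun x => ?_
      show g' x = g (e.symm x)
      rw [← this]
      show g' x = g' (e (e.symm x))
      rw [AlgEquiv.apply_symm_apply]

/-- A strict henselization of a local algebra weakly étale over `A` is one of `A`. -/
theorem isStrictHenselization_of_weaklyEtale {A B R : Type u} [CommRing A] [IsLocalRing A] [CommRing B] [IsLocalRing B]
    [CommRing R] [IsLocalRing R] [Algebra A B] [IsLocalHom (algebraMap A B)] [Algebra.WeaklyEtale A B]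
    [Algebra B R] [IsLocalHom (algebraMap B R)] [Hensel.IsStrictHenselization B R] [Algebra A R] [IsScalarTower A B R]
    [IsLocalHom (algebraMap A R)] : Hensel.IsStrictHenselization A R := by
  obtain ⟨S, _, _, _, _, hS⟩ := Groth.Agent.S0537.result A
  haveI := hS.henselian
  haveI : IsSepClosed (ResidueField S) := hS.isSepClosure.sep_closed
  haveI : Module.Flat A S := (Groth.Agent.Hens.strictHenselization_faithfullyFlat A S).toFlat
  let C := S ⊗[A] B
  let L₀ := ResidueField S ⊗[ResidueField A] ResidueField B
  obtain ⟨M, hM⟩ := Ideal.exists_maximal L₀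
  letI := Ideal.Quotient.field M
  let L := L₀ ⧸ M
  let jS : ResidueField S →+* L := (Ideal.Quotient.mk M).comp Algebra.TensorProduct.includeLeftRingHom
  let jB : ResidueField B →+* L := (Ideal.Quotient.mk M).comp
    (Algebra.TensorProduct.includeRight (R := ResidueField A) (A := ResidueField S)).toRingHom
  have hA : ∀ a, jB (residue B (algebraMap A B a)) = jS (residue S (algebraMap A S a)) := fun a => by
    show Ideal.Quotient.mk M (1 ⊗ₜ[ResidueField A] algebraMap (ResidueField A) (ResidueField B) (residue A a)) =
      Ideal.Quotient.mk M (algebraMap (ResidueField A) (ResidueField S) (residue A a) ⊗ₜ[ResidueField A] 1)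
    rw [Algebra.algebraMap_eq_smul_one, Algebra.algebraMap_eq_smul_one, TensorProduct.tmul_smul, TensorProduct.smul_tmul']
  have hS' : ∀ a, jS (residue S (algebraMap A S a)) = algebraMap A L a := fun a => rfl
  let χ : C →ₐ[A] L := Algebra.TensorProduct.lift
    { toRingHom := jS.comp (residue S), commutes' := hS' }
    { toRingHom := jB.comp (residue B), commutes' := fun a => (hA a).trans (hS' a) } fun _ _ => mul_comm _ _
  let Q : Ideal C := RingHom.ker χ.toRingHom
  haveI : Q.IsPrime := RingHom.ker_isPrime _
  let D := Localization.AtPrime Q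
  haveI : Algebra.WeaklyEtale C D := Groth.Agent.WEStalk.weaklyEtale_of_isLocalization Q.primeCompl D
  haveI : Algebra.WeaklyEtale S D := Algebra.WeaklyEtale.trans S C D
  have hχS : ∀ s, χ (s ⊗ₜ[A] 1) = jS (residue S s) := fun s => by
    show jS (residue S s) * jB (residue B 1) = _
    rw [map_one, map_one, mul_one]
  have hχB : ∀ b, χ (1 ⊗ₜ[A] b) = jB (residue B b) := fun b => by
    show jS (residue S 1) * jB (residue B b) = _
    rw [map_one, map_one, one_mul]
  haveI : IsLocalHom (algebraMap S D) := ⟨fun s hs => by
    rw [IsScalarTower.algebraMap_apply S C D, IsLocalization.AtPrime.isUnit_to_map_iff D Q] at hs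
    by_contra hns
    refine hs ?_
    show χ (s ⊗ₜ[A] 1) = 0
    rw [hχS, (residue_eq_zero_iff s).2 hns, map_zero]⟩
  have hbij : Function.Bijective (algebraMap S D) := Groth.Agent.S0427.result
  let e : S ≃+* D := RingEquiv.ofBijective _ hbij
  let bS : B →+* S := e.symm.toRingHom.comp ((algebraMap C D).comp (Algebra.TensorProduct.includeRight (R := A) (A := S)).toRingHom)
  letI : Algebra B S := bS.toAlgebra
  haveI : IsScalarTower A B S := IsScalarTower.of_algebraMap_eq fun a => e.injective (by
    show algebraMap S D (algebraMap A S a) = e (e.symm _)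
    rw [RingEquiv.apply_symm_apply, ← IsScalarTower.algebraMap_apply]
    show _ = algebraMap C D (1 ⊗ₜ[A] algebraMap A B a)
    rw [show ((1 : S) ⊗ₜ[A] algebraMap A B a : C) = algebraMap A C a from
      (Algebra.TensorProduct.includeRight (R := A) (A := S) (B := B)).commutes a, ← IsScalarTower.algebraMap_apply])
  haveI : IsLocalHom (algebraMap B S) := ⟨fun b hb => by
    have hb' := hb.map e.toRingHom
    have h' : IsUnit (algebraMap C D ((1 : S) ⊗ₜ[A] b)) := by
      have h0 : e.toRingHom (algebraMap B S b) = algebraMap C D ((1 : S) ⊗ₜ[A] b) := e.apply_symm_apply _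
      rwa [h0] at hb'
    rw [IsLocalization.AtPrime.isUnit_to_map_iff D Q] at h'
    by_contra hns
    refine h' ?_
    show χ (1 ⊗ₜ[A] b) = 0
    rw [hχB, (residue_eq_zero_iff b).2 hns, map_zero]⟩
  haveI hBS : Hensel.IsStrictHenselization B S := by
    refine ⟨hS.henselian, ?_, fun T _ _ f _ τ hτ => ?_⟩
    · haveI : IsScalarTower (ResidueField A) (ResidueField B) (ResidueField S) := IsScalarTower.of_algebraMap_eq fun x => by
        obtain ⟨a, rfl⟩ := residue_surjective x
        exact congrArg (residue S) (IsScalarTower.algebraMap_apply A B S a)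
      haveI : Algebra.IsSeparable (ResidueField A) (ResidueField S) := hS.isSepClosure.separable
      exact ⟨inferInstance, Algebra.isSeparable_tower_top_of_isSeparable (ResidueField A) (ResidueField B) (ResidueField S)⟩
    · letI : Algebra A T := (f.comp (algebraMap A B)).toAlgebra
      haveI : IsLocalHom (f.comp (algebraMap A B)) := RingHom.isLocalHom_comp _ _
      obtain ⟨g, ⟨hg1, hg2⟩, huniq⟩ := hS.universal T (f.comp (algebraMap A B)) τ (by
        refine RingHom.ext fun x => ?_
        obtain ⟨a, rfl⟩ := residue_surjective x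
        have := congr($hτ (residue B (algebraMap A B a)))
        show τ (residue S (algebraMap A S a)) = residue T (f (algebraMap A B a))
        rw [IsScalarTower.algebraMap_apply A B S]
        exact this)
      refine ⟨g, ⟨?_, hg2⟩, fun g' ⟨h1, h2⟩ => huniq g' ⟨?_, h2⟩⟩
      · have := algHom_eq_of_residue (A := A) (T := T)
          { toRingHom := g.comp (algebraMap B S), commutes' := fun a => by
              show g (algebraMap B S (algebraMap A B a)) = _
              rw [← IsScalarTower.algebraMap_apply]
              exact congr($hg1 a) }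
          { toRingHom := f, commutes' := fun a => rfl } fun b => by
            show residue T (g (algebraMap B S b)) = residue T (f b)
            rw [hg2]
            exact congr($hτ (residue B b))
        exact congrArg AlgHom.toRingHom this
      · rw [IsScalarTower.algebraMap_eq A B S, ← RingHom.comp_assoc, h1]
  obtain ⟨eS⟩ := Groth.Agent.Hens.exists_strictHenselization_equiv B S
  obtain ⟨eR⟩ := Groth.Agent.Hens.exists_strictHenselization_equiv B R
  exact isStrictHenselization_of_algEquiv ((eS.symm.trans eR).restrictScalars A)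


open AlgebraicGeometry CategoryTheory Limits in
/-- A morphism f : X → Y is weakly étale if and only if, for every point x of X, strict henselizations
of the local rings at f x and at x coincide under the stalk map: every strict henselization of O_{X,
x} is, through the composite map O_{Y, f x} → O_{X, x} → (strict henselization), a strict
henselization of O_{Y, f x}. -/
theorem result {X Y : Scheme.{u}} (f : X ⟶ Y) :
    WeaklyEtale f ↔ ∀ (x : X) (R : Type u) [CommRing R] [IsLocalRing R] [Algebra ↑(X.presheaf.stalk x) R]
      [IsLocalHom (algebraMap ↑(X.presheaf.stalk x) R)] [Hensel.IsStrictHenselization ↑(X.presheaf.stalk x) R],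
      letI : Algebra ↑(Y.presheaf.stalk (f x)) R := ((algebraMap ↑(X.presheaf.stalk x) R).comp (f.stalkMap x).hom).toAlgebra
      ∃ _ : IsLocalHom (algebraMap ↑(Y.presheaf.stalk (f x)) R), Hensel.IsStrictHenselization ↑(Y.presheaf.stalk (f x)) R := by
  intros
  rw [Groth.Agent.WEStalk.weaklyEtale_iff_stalkMaps]
  refine ⟨fun h x R _ _ _ _ hR => ?_, fun h x => ?_⟩
  · obtain ⟨h1, h2⟩ := h x
    letI := (f.stalkMap x).hom.toAlgebra
    haveI : IsLocalHom (algebraMap (Y.presheaf.stalk (f x)) (X.presheaf.stalk x)) :=
      inferInstanceAs (IsLocalHom (f.stalkMap x).hom)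
    haveI : Module.Flat (Y.presheaf.stalk (f x)) (X.presheaf.stalk x) := h1
    haveI : Algebra.WeaklyEtale (Y.presheaf.stalk (f x)) (X.presheaf.stalk x) := ⟨h1, h2⟩
    letI : Algebra (Y.presheaf.stalk (f x)) R := ((algebraMap (X.presheaf.stalk x) R).comp (f.stalkMap x).hom).toAlgebra
    haveI : IsScalarTower (Y.presheaf.stalk (f x)) (X.presheaf.stalk x) R := IsScalarTower.of_algebraMap_eq fun _ => rfl
    haveI hl : IsLocalHom (algebraMap (Y.presheaf.stalk (f x)) R) := RingHom.isLocalHom_comp _ _
    exact ⟨hl, isStrictHenselization_of_weaklyEtale (B := X.presheaf.stalk x)⟩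
  · obtain ⟨R, _, _, _, _, hR⟩ := Groth.Agent.S0537.result (X.presheaf.stalk x)
    letI := (f.stalkMap x).hom.toAlgebra
    letI : Algebra (Y.presheaf.stalk (f x)) R := ((algebraMap (X.presheaf.stalk x) R).comp (f.stalkMap x).hom).toAlgebra
    haveI : IsScalarTower (Y.presheaf.stalk (f x)) (X.presheaf.stalk x) R := IsScalarTower.of_algebraMap_eq fun _ => rfl
    obtain ⟨hl, hA⟩ := h x R
    haveI := Groth.Agent.WEtaleTor4.weaklyEtale_strictHenselization (Y.presheaf.stalk (f x)) R
    haveI := Groth.Agent.Hens.strictHenselization_faithfullyFlat (X.presheaf.stalk x) R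
    have hff : (algebraMap (X.presheaf.stalk x) R).FaithfullyFlat := RingHom.faithfullyFlat_algebraMap_iff.2 inferInstance
    refine ⟨Groth.Agent.WEtaleH7.flat_of_comp_faithfullyFlat _ (algebraMap (X.presheaf.stalk x) R) hff
      (RingHom.flat_algebraMap_iff.2 (inferInstance : Module.Flat (Y.presheaf.stalk (f x)) R)), ?_⟩
    let g : X.presheaf.stalk x →ₐ[Y.presheaf.stalk (f x)] R := IsScalarTower.toAlgHom _ _ _
    have hg : (g : X.presheaf.stalk x →+* R).Flat := hff.flat
    refine Groth.Agent.WEtaleH7.flat_of_comp_faithfullyFlat _ (algebraMap (X.presheaf.stalk x) R) hff ?_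
    have heq : g.comp (Algebra.TensorProduct.lmul' (Y.presheaf.stalk (f x)) (S := X.presheaf.stalk x)) =
        (Algebra.TensorProduct.lmul' (Y.presheaf.stalk (f x)) (S := R)).comp (Algebra.TensorProduct.map g g) := by
      ext <;> simp [g]
    show ((g : X.presheaf.stalk x →+* R).comp _).Flat
    have h3 : ((Algebra.TensorProduct.lmul' (Y.presheaf.stalk (f x)) (S := R)).comp
        (Algebra.TensorProduct.map g g)).toRingHom.Flat :=
      RingHom.Flat.comp (RingHom.Flat.tensorProductMap hg hg) (Algebra.WeaklyEtale.flat_lmul' _ _)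
    rw [← heq] at h3
    exact h3

end Groth.Agent.S1467
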