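import Groth.Statements.S3833
import Mathlib.AlgebraicGeometry.AffineScheme

set_option autoImplicit false
universe u
open CategoryTheory CategoryTheory.Limits AlgebraicGeometry TopologicalSpace
open Rat20

namespace Groth.Agent.S3833

/-- Stated for a global section, the case of a section over an open subset U being the same statement
for the open subscheme U: let X be a scheme and s a global section of O_X which is regular in the
sense that its germ at every point x is a non-zero-divisor of the local ring O_{X,x} (on an affine
scheme this is the same as being a non-zero-divisor of Γ(X, O_X), but not in general). Then the open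
subset X_s where s is invertible is schematically dense in X. -/
theorem result (X : Scheme.{u}) (s : Γ(X, ⊤))
    (hs : ∀ x : ↥X, (X.presheaf.germ ⊤ x trivial s) ∈ nonZeroDivisors ↑(X.presheaf.stalk x)) :
    CInt.IsSchematicallyDense (X.basicOpen s) := by
  intro V
  refine (injective_iff_map_eq_zero _).2 fun a ha => ?_
  refine TopCat.Presheaf.section_ext X.sheaf V _ _ fun x hx => ?_
  obtain ⟨U, hU, hxU, hUV⟩ := exists_isAffineOpen_mem_and_subset (X := X) (x := x) (U := V) hx
  let a' : Γ(X, U) := X.presheaf.map (homOfLE hUV).op a
  let s' : Γ(X, U) := X.presheaf.map (homOfLE (le_top : U ≤ ⊤)).op s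
  haveI := hU.isLocalization_basicOpen s'
  have hle : X.basicOpen s' ≤ V ⊓ X.basicOpen s :=
    le_inf ((X.basicOpen_le _).trans hUV) (by rw [Scheme.basicOpen_res]; exact inf_le_right)
  have h0 : algebraMap Γ(X, U) Γ(X, X.basicOpen s') a' = 0 := by
    have h1 := congrArg (fun z => X.presheaf.map (homOfLE hle).op z) ha
    simp only [map_zero, ← ConcreteCategory.comp_apply, ← Functor.map_comp] at h1
    show X.presheaf.map _ (X.presheaf.map _ a) = 0
    rw [← ConcreteCategory.comp_apply, ← Functor.map_comp]
    exact h1
  obtain ⟨⟨_, n, rfl⟩, hn⟩ := (IsLocalization.map_eq_zero_iff (Submonoid.powers s') _ _).1 h0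
  have h2 := congrArg (fun z => X.presheaf.germ U x hxU z) hn
  simp only [map_mul, map_pow, map_zero, a', s'] at h2
  rw [X.presheaf.germ_res_apply] at h2
  erw [X.presheaf.germ_res_apply] at h2
  refine Eq.trans ((mul_right_mem_nonZeroDivisors_eq_zero_iff (pow_mem (hs x) n)).1 ?_) (map_zero _).symm
  rw [mul_comm]
  exact h2

end Groth.Agent.S3833
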