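import Groth.Statements.S3834
import Groth.Agent.S3833
import Mathlib.RingTheory.Ideal.AssociatedPrime.Finiteness

set_option autoImplicit false
universe u
open CategoryTheory CategoryTheory.Limits AlgebraicGeometry TopologicalSpace
open Rat20

namespace Groth.Agent.S3834

/-- finitely many primes, each containing only torsion of some element, covering all zero divisors -/
theorem exists_primes (R : Type u) [CommRing R]
    (h : IsNoetherianRing R ∨ (_root_.IsReduced R ∧ (minimalPrimes R).Finite)) :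
    ∃ Q : Finset (Ideal R), (∀ q ∈ Q, q.IsPrime ∧ ∃ b : R, b ≠ 0 ∧ ∀ r ∈ q, ∃ n : ℕ, r ^ n * b = 0) ∧
      ∀ t : R, (∀ q ∈ Q, t ∉ q) → t ∈ nonZeroDivisors R := by
  classical
  rcases h with hN | ⟨hR, hfin⟩
  · refine ⟨(associatedPrimes.finite R R).toFinset, fun q hq => ?_, fun t ht => ?_⟩
    · obtain ⟨hp, b, hb⟩ := (Set.Finite.mem_toFinset _).1 hq
      refine ⟨hp, b, fun h0 => hp.ne_top ?_, fun r hr => ?_⟩
      · rw [Ideal.eq_top_iff_one, hb, h0]
        exact ⟨1, by simp [Submodule.mem_colon_singleton]⟩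
      · rw [hb] at hr
        obtain ⟨n, hn⟩ := hr
        exact ⟨n, by simpa [Submodule.mem_colon_singleton] using hn⟩
    · by_contra hne
      have : t ∈ ((nonZeroDivisors R : Set R))ᶜ := hne
      rw [← biUnion_associatedPrimes_eq_compl_nonZeroDivisors] at this
      obtain ⟨q, hq, htq⟩ := Set.mem_iUnion₂.1 this
      exact ht q ((Set.Finite.mem_toFinset _).2 hq) htq
  · have hzero : ∀ x : R, (∀ q ∈ minimalPrimes R, x ∈ q) → x = 0 := fun x hx => by
      have hm : (⊥ : Ideal R).minimalPrimes = minimalPrimes R := by first | rfl | simp [minimalPrimes]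
      have h1 : x ∈ sInf (⊥ : Ideal R).minimalPrimes := by
        rw [Submodule.mem_sInf]; intro q hq; exact hx q (hm ▸ hq)
      rw [Ideal.sInf_minimalPrimes] at h1
      obtain ⟨n, hn⟩ := h1
      exact IsReduced.eq_zero x ⟨n, hn⟩
    refine ⟨hfin.toFinset, fun q hq => ?_, fun t ht => ?_⟩
    · have hq' := (Set.Finite.mem_toFinset _).1 hq
      have hp : q.IsPrime := hq'.1.1
      refine ⟨hp, ?_⟩
      have hnot : ¬ (hfin.toFinset.erase q).inf id ≤ q := fun hle => by
        obtain ⟨i, hi, hile⟩ := hp.inf_le'.1 hle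
        obtain ⟨hne, hi'⟩ := Finset.mem_erase.1 hi
        exact hne (le_antisymm hile (hq'.2 ⟨((Set.Finite.mem_toFinset _).1 hi').1.1, bot_le⟩ hile))
      obtain ⟨b, hb, hbq⟩ := SetLike.not_le_iff_exists.1 hnot
      refine ⟨b, fun h0 => hbq (h0 ▸ q.zero_mem), fun r hr => ⟨1, hzero _ fun q' hq'' => ?_⟩⟩
      rcases eq_or_ne q' q with rfl | hne
      · exact Ideal.mul_mem_right _ _ (by simpa using hr)
      · exact Ideal.mul_mem_left _ _ ((Finset.inf_le (f := id) (Finset.mem_erase.2 ⟨hne, (Set.Finite.mem_toFinset _).2 hq''⟩)) hb)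
    · rw [mem_nonZeroDivisors_iff_left]
      intro x hx
      refine hzero x fun q hq => ?_
      exact (hq.1.1.mem_or_mem (hx ▸ q.zero_mem)).resolve_left (ht q ((Set.Finite.mem_toFinset _).2 hq))

/-- Let X = Spec A be an affine scheme, with A Noetherian, or A reduced with finitely many minimal
primes. Then an open subset U of X is schematically dense if and only if it contains an open subset
of the form X_t with t a regular element of A = Γ(X, O_X). -/
theorem result (X : Scheme.{u}) [IsAffine X]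
    (hX : IsNoetherian X ∨ (IsReduced X ∧ (irreducibleComponents ↥X).Finite)) (U : X.Opens) :
    CInt.IsSchematicallyDense U ↔ ∃ t : Γ(X, ⊤), t ∈ nonZeroDivisors Γ(X, ⊤) ∧ X.basicOpen t ≤ U := by
  classical
  have hT := isAffineOpen_top X
  constructor
  · intro hU
    have hR : IsNoetherianRing Γ(X, ⊤) ∨ (_root_.IsReduced Γ(X, ⊤) ∧ (minimalPrimes Γ(X, ⊤)).Finite) := by
      rcases hX with hN | ⟨hred, hfin⟩
      · exact Or.inl (IsLocallyNoetherian.component_noetherian ⟨⊤, hT⟩)
      · refine Or.inr ⟨inferInstance, ?_⟩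
        let e := (X.isoSpec.hom.homeomorph : X ≃ₜ PrimeSpectrum Γ(X, ⊤))
        have h1 : (irreducibleComponents (PrimeSpectrum Γ(X, ⊤))).Finite := by
          refine Set.Finite.of_injOn (f := fun Z => e ⁻¹' Z) (fun Z hZ => ?_)
            (fun Z _ Z' _ hZZ => e.surjective.preimage_injective hZZ) hfin
          refine preimage_mem_irreducibleComponents hZ e.isOpenEmbedding ?_
          obtain ⟨z, hz⟩ := hZ.1.nonempty
          exact ⟨z, hz, e.surjective z⟩
        rw [← PrimeSpectrum.vanishingIdeal_irreducibleComponents]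
        exact h1.image _
    obtain ⟨Q, hQ, hnzd⟩ := exists_primes Γ(X, ⊤) hR
    let I : Ideal Γ(X, ⊤) :=
      { carrier := {t | X.basicOpen t ≤ U}
        add_mem' := fun {a b} ha hb => (X.basicOpen_add_le a b).trans (sup_le ha hb)
        zero_mem' := by show X.basicOpen 0 ≤ U; rw [Scheme.basicOpen_zero]; exact bot_le
        smul_mem' := fun c x hx => by
          show X.basicOpen (c * x) ≤ U
          rw [Scheme.basicOpen_mul]; exact inf_le_right.trans hx }
    have hmem : ∀ q ∈ Q, ¬ I ≤ q := fun q hq hle => by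
      obtain ⟨hp, b, hb0, hb⟩ := hQ q hq
      let qp : PrimeSpectrum Γ(X, ⊤) := ⟨q, hp⟩
      let y := hT.fromSpec qp
      by_cases hy : y ∈ U
      · obtain ⟨t, htU, hyt⟩ := hT.exists_basicOpen_le (V := U) ⟨y, hy⟩ trivial
        have hyt' : qp ∈ (hT.fromSpec ⁻¹ᵁ X.basicOpen t : (Spec Γ(X, ⊤)).Opens) := hyt
        rw [hT.fromSpec_preimage_basicOpen] at hyt'
        exact hyt' (hle htU)
      · apply hb0
        apply hU ⊤
        rw [map_zero]
        refine TopCat.Presheaf.section_ext X.sheaf _ _ _ fun z hz => ?_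
        obtain ⟨r, hrq, hzr⟩ : ∃ r ∈ q, z ∈ X.basicOpen r := by
          by_contra! hall
          refine hy (U.isOpen.stableUnderGeneralization ?_ hz.2)
          obtain ⟨pz, hpz⟩ : z ∈ Set.range hT.fromSpec := by rw [hT.range_fromSpec]; trivial
          rw [← hpz]
          refine ((PrimeSpectrum.le_iff_specializes qp pz).1 fun r hr => ?_).map hT.fromSpec.continuous
          by_contra hrp
          have : pz ∈ (hT.fromSpec ⁻¹ᵁ X.basicOpen r : (Spec Γ(X, ⊤)).Opens) := by
            rw [hT.fromSpec_preimage_basicOpen]; exact hrp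
          exact hall r hr (hpz ▸ this)
        obtain ⟨n, hn⟩ := hb r hrq
        have hu : IsUnit (X.presheaf.germ ⊤ z trivial r) := (X.mem_basicOpen r z trivial).1 hzr
        have h2 := congrArg (X.presheaf.germ ⊤ z trivial).hom hn
        rw [map_mul, map_pow, map_zero, (hu.pow n).mul_right_eq_zero] at h2
        refine Eq.trans ?_ (map_zero _).symm
        erw [X.presheaf.germ_res_apply]
        exact h2
    have hnot : ¬ (I : Set Γ(X, ⊤)) ⊆ ⋃ q ∈ (Q : Set (Ideal Γ(X, ⊤))), (q : Set Γ(X, ⊤)) := by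
      rw [Ideal.subset_union_prime ⊥ ⊥ fun q hq _ _ => (hQ q hq).1]
      rintro ⟨q, hq, hle⟩
      exact hmem q hq hle
    obtain ⟨t, htI, ht⟩ := Set.not_subset.1 hnot
    exact ⟨t, hnzd t fun q hq htq => ht (Set.mem_iUnion₂.2 ⟨q, hq, htq⟩), htI⟩
  · rintro ⟨t, ht, htU⟩ V
    have hd := S3833.result X t (fun x => ?_) V
    · intro a b hab
      apply hd
      have := congrArg (fun z => X.presheaf.map (homOfLE (inf_le_inf_left V htU)).op z) hab
      simp only [← ConcreteCategory.comp_apply, ← Functor.map_comp] at this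
      exact this
    · algebraize [(X.presheaf.germ ⊤ x trivial).hom]
      haveI := hT.isLocalization_stalk ⟨x, trivial⟩
      exact IsLocalization.map_nonZeroDivisors_le (hT.primeIdealOf ⟨x, trivial⟩).asIdeal.primeCompl _ ⟨t, ht, rfl⟩

end Groth.Agent.S3834
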