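import Groth.Statements.S10716
import Groth.Agent.Lib.DistSq15.SchColimit
-- import your own Groth.Agent.* helpers here

set_option autoImplicit false
universe w v u
open CategoryTheory CategoryTheory.Limits AlgebraicGeometry
open AlgSp

namespace Groth.Agent.S10716

/-- Let `D : I ⥤ Over S` be a diagram of schemes over `S` with a cocone `c` such that (1) `c` is a
colimit in the category of schemes, (2) the coprojections are jointly surjective, (3) for every
etale `U → c.pt` and every cocone of cartesian squares `U_i = D_i ×_{c.pt} U`, `U` is the colimit of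
the `U_i` in the category of schemes, and (4) every equifibered system of separated etale morphisms
`U_i → D_i` (all transition squares cartesian) comes from some etale `U → c.pt` by base change. Then
the image of `c` in algebraic spaces over `S` is a colimit there. -/
theorem result {S : Scheme.{u}} {I : Type v} [Category.{w} I] (D : I ⥤ Over S) (c : Cocone D)
    (h₁ : IsColimit ((Over.forget S).mapCocone c))
    (h₂ : ∀ x : ↥c.pt.left, ∃ (i : I) (y : ↥(D.obj i).left), (c.ι.app i).left y = x)
    (h₃ : ∀ (D' : I ⥤ Over S) (α : D' ⟶ D) (c' : Cocone D') (a : c'.pt ⟶ c.pt), Etale a.left →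
      (∀ i, IsPullback (c'.ι.app i) (α.app i) a (c.ι.app i)) → Nonempty (IsColimit ((Over.forget S).mapCocone c')))
    (h₄ : ∀ (D' : I ⥤ Over S) (α : D' ⟶ D), NatTrans.Equifibered α → (∀ i, Etale (α.app i).left) →
      (∀ i, IsSeparated (α.app i).left) →
      ∃ (c' : Cocone D') (a : c'.pt ⟶ c.pt), Etale a.left ∧ ∀ i, IsPullback (c'.ι.app i) (α.app i) a (c.ι.app i)) :
    Nonempty (IsColimit ((AlgSp.ofScheme S).mapCocone c)) := by
  have key := fun (s : Cocone (D ⋙ AlgSp.ofScheme S)) => DistSq15.existsUnique_of_sch_colimit c h₂ h₃ h₄
    s.pt.property (fun i => (s.ι.app i).hom) (fun i j g => congrArg (fun m => m.hom) (s.w g))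
  choose m hm hu using key
  exact ⟨{ desc := fun s => InducedCategory.homMk (m s)
           fac := fun s i => InducedCategory.hom_ext (hm s i)
           uniq := fun s m' hm' => InducedCategory.hom_ext
             (hu s m'.hom fun i => congrArg (fun m => m.hom) (hm' i)) }⟩


end Groth.Agent.S10716
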