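import Groth.Statements.S10700
-- import your own Groth.Agent.* helpers here
import Groth.Agent.Lib.ThickPush25.Span
import Groth.Agent.Lib.ClosedPush25.Etale
import Groth.Agent.S10716

set_option autoImplicit false
set_option backward.isDefEq.respectTransparency.types false
universe u
open CategoryTheory CategoryTheory.Limits AlgebraicGeometry
open AlgSp

namespace Groth.Agent.S10700

/-- Let `i : Z → X` be a closed immersion and `j : Z → Y` an integral morphism of schemes over `S` such
that every fibre of `j` is contained in `i⁻¹(U)` for some affine open `U` of `X`, and let `P` be a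
pushout of `i` and `j` in the category of schemes over `S`. Then `P` remains a pushout when the
square is viewed among algebraic spaces over `S`. -/
theorem result {S : Scheme.{u}} {Z X Y P : Over S} (i : Z ⟶ X) (j : Z ⟶ Y)
    [IsClosedImmersion i.left] [IsIntegralHom j.left]
    (haff : ∀ y : ↥Y.left, ∃ U : X.left.Opens, IsAffineOpen U ∧ j.left ⁻¹' {y} ⊆ i.left ⁻¹' (U : Set ↥X.left))
    (a : X ⟶ P) (b : Y ⟶ P) (hpo : IsPushout i j a b) :
    IsPushout ((AlgSp.ofScheme S).map i) ((AlgSp.ofScheme S).map j) ((AlgSp.ofScheme S).map a)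
      ((AlgSp.ofScheme S).map b) := by
  have H₀ : Groth.Agent.Pinch4.IsPinch i.left j.left a.left b.left :=
    Groth.Agent.Pinch4.isPinch_of_cond (Groth.Agent.Pinch4.cond_of_integral haff)
      (hpo.map (Over.forget S))
  let c : Cocone (span i j) := Groth.Agent.ThickPush25.mkCocone (P := P) a b hpo.w
  obtain ⟨hc⟩ := Groth.Agent.S10716.result (span i j) c
    (Groth.Agent.ThickPush25.nonempty_isColimit_of_isPushout _ (hpo.map (Over.forget S))).some
    (fun x => by
      rcases H₀.covers x with ⟨y, hy⟩ | ⟨y, hy⟩
      · exact ⟨WalkingSpan.left, y, hy⟩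
      · exact ⟨WalkingSpan.right, y, hy⟩)
    (fun D' α c' e he hp => by
      refine Groth.Agent.ThickPush25.nonempty_isColimit_of_isPushout _ ?_
      have hs : ∀ k, IsPullback (c'.ι.app k).left (α.app k).left e.left (c.ι.app k).left := fun k =>
        (hp k).map (Over.forget S)
      have hn : ∀ {k l : WalkingSpan} (g : k ⟶ l),
          (D'.map g).left ≫ (α.app l).left = (α.app k).left ≫ ((span i j).map g).left := fun g =>
        congrArg (fun k => k.left) (α.naturality g)
      have hw : ∀ {k l : WalkingSpan} (g : k ⟶ l), (D'.map g).left ≫ (c'.ι.app l).left = (c'.ι.app k).left :=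
        fun g => congrArg (fun k => k.left) (c'.w g)
      have hwc : ∀ {k l : WalkingSpan} (g : k ⟶ l),
          ((span i j).map g).left ≫ (c.ι.app l).left = (c.ι.app k).left :=
        fun g => congrArg (fun k => k.left) (c.w g)
      have hZ : IsPullback (α.app WalkingSpan.zero).left (D'.map WalkingSpan.Hom.fst).left
          i.left (α.app WalkingSpan.left).left := by
        refine IsPullback.of_bot ?_ (hn WalkingSpan.Hom.fst).symm (hs WalkingSpan.left).flip
        rw [hw]
        have := (hs WalkingSpan.zero).flip
        rw [← hwc WalkingSpan.Hom.fst] at this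
        exact this
      let e' : c'.pt.left ⟶ P.left := e.left
      have : AlgebraicGeometry.Etale e' := he
      exact (H₀.baseChange (sP' := 𝟙 c'.pt.left) (s := 𝟙 P.left) (g := e')
        (IsPullback.of_vert_isIso ⟨(Category.comp_id _).trans (Category.id_comp _).symm⟩)
        (hs WalkingSpan.left).flip (hs WalkingSpan.right).flip
        hZ (hn WalkingSpan.Hom.snd) ((hw WalkingSpan.Hom.fst).trans (hw WalkingSpan.Hom.snd).symm)
        (Or.inl inferInstance)).isPushout)
    (fun D' α hα he hs => by
      let uL : (D'.obj WalkingSpan.left).left ⟶ X.left := (α.app WalkingSpan.left).left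
      let uR : (D'.obj WalkingSpan.right).left ⟶ Y.left := (α.app WalkingSpan.right).left
      let i' : (D'.obj WalkingSpan.zero).left ⟶ (D'.obj WalkingSpan.left).left := (D'.map WalkingSpan.Hom.fst).left
      let j' : (D'.obj WalkingSpan.zero).left ⟶ (D'.obj WalkingSpan.right).left := (D'.map WalkingSpan.Hom.snd).left
      have hL : AlgebraicGeometry.Etale uL := he WalkingSpan.left
      have hR : AlgebraicGeometry.Etale uR := he WalkingSpan.right
      have hLs : IsSeparated uL := hs WalkingSpan.left
      have hLq : LocallyQuasiFinite uL := Groth.Agent.AlgSpDecent.locallyQuasiFinite_of_etale uL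
      let u₀ : (D'.obj WalkingSpan.zero).left ⟶ Z.left := (α.app WalkingSpan.zero).left
      have hX : IsPullback u₀ i' i.left uL :=
        ((hα WalkingSpan.Hom.fst).map (Over.forget S)).flip
      have hY : IsPullback u₀ j' j.left uR :=
        ((hα WalkingSpan.Hom.snd).map (Over.forget S)).flip
      have : IsClosedImmersion i' := MorphismProperty.of_isPullback hX inferInstance
      have : IsIntegralHom j' := MorphismProperty.of_isPullback hY inferInstance
      obtain ⟨G, cU, cV, H'⟩ := Groth.Agent.Pinch4.exists_isPinch
        (Groth.Agent.Pinch4.cond_of_lqf (i' := i') (j' := j') hX.w hY.w haff)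
      have hc' : i' ≫ uL ≫ a.left = j' ≫ uR ≫ b.left := by
        rw [← Category.assoc, ← hX.w, Category.assoc, H₀.w, ← Category.assoc, hY.w, Category.assoc]
      let g := H'.isPushout.desc (uL ≫ a.left) (uR ≫ b.left) hc'
      have kb : cU ≫ g = uL ≫ a.left := H'.isPushout.inl_desc _ _ _
      have ka : cV ≫ g = uR ≫ b.left := H'.isPushout.inr_desc _ _ _
      obtain ⟨hb, ha⟩ := Groth.Agent.Pinch4.cube H₀ H' hX hY kb ka
      have hg : AlgebraicGeometry.Etale g := Groth.Agent.ClosedPush25.cube_etale H₀ H' hX hY kb ka
      let GO : Over S := Over.mk (g ≫ P.hom)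
      let cUO : D'.obj WalkingSpan.left ⟶ GO := Over.homMk cU (by
        change cU ≫ g ≫ P.hom = _
        rw [reassoc_of% kb]
        exact (congrArg ((α.app WalkingSpan.left).left ≫ ·) (Over.w a)).trans (Over.w _))
      let cVO : D'.obj WalkingSpan.right ⟶ GO := Over.homMk cV (by
        change cV ≫ g ≫ P.hom = _
        rw [reassoc_of% ka]
        exact (congrArg ((α.app WalkingSpan.right).left ≫ ·) (Over.w b)).trans (Over.w _))
      refine ⟨Groth.Agent.ThickPush25.mkCocone cUO cVO (Over.OverMorphism.ext H'.w),
        Over.homMk (U := GO) (V := P) g rfl, hg, fun k => ?_⟩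
      rcases k with (_ | _ | _)
      · have big : IsPullback (i' ≫ cU) u₀ g (i.left ≫ a.left) :=
          hX.flip.paste_horiz hb.flip
        exact IsPullback.of_map (Over.forget S) (Over.OverMorphism.ext big.w) big
      · exact IsPullback.of_map (Over.forget S) (Over.OverMorphism.ext hb.flip.w) hb.flip
      · exact IsPullback.of_map (Over.forget S) (Over.OverMorphism.ext ha.flip.w) ha.flip)
  exact IsPushout.of_isColimit ((isColimitMapCoconePushoutCoconeEquiv (AlgSp.ofScheme S) hpo.w)
    (hc.ofIsoColimit ((Cocones.functoriality _ (AlgSp.ofScheme S)).mapIso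
      (Cocones.ext (Iso.refl P) (fun k => by rcases k with (_ | _ | _) <;> exact Category.comp_id _) :
        c ≅ PushoutCocone.mk a b hpo.w))))


end Groth.Agent.S10700
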