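import Groth.Statements.S4077
import Groth.Agent.Lib.SemiNhd19.Semistable
-- import your own Groth.Agent.* helpers here

set_option autoImplicit false
universe u
open CategoryTheory CategoryTheory.Limits AlgebraicGeometry MonObj
open SGA7

namespace Groth.Agent.S4077

set_option linter.style.haveILetI false
set_option backward.isDefEq.respectTransparency.types false


/-- Let R be a Dedekind domain with fraction field K and N a group scheme over Spec R which is a Néron
model of its generic fibre A = N_K, an abelian variety (proper and geometrically integral over K).
Then A has semistable reduction over R (it extends to a smooth separated group scheme of finite type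
over Spec R whose geometric fibres contain no copy of the additive group) if and only if the
geometric fibres of N contain no copy of the additive group (that is, the identity components of the
fibres of N are extensions of abelian varieties by tori). -/
theorem result (R K : Type u) [CommRing R] [IsDedekindDomain R] [Field K] [Algebra R K] [IsFractionRing R K]
    (N : Over (Spec (CommRingCat.of R))) [GrpObj N] (hN : SGA7.IsNeron R K N)
    [IsProper ((SGA7.genFib R K).obj N).hom] [GeometricallyIntegral ((SGA7.genFib R K).obj N).hom] :
    SGA7.HasSemistableReduction R K ((SGA7.genFib R K).obj N) ↔ SGA7.FibresUnipotentRankZero N := by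
  haveI := hN.1
  haveI := hN.2.1
  constructor
  · rintro ⟨G, _, e, he, hGs, hGsep, hGq, hG⟩
    haveI := hGs; haveI := hGsep; haveI := hGq
    haveI : IsMonHom (e.hom : (SGA7.genFib R K).obj G ⟶ (SGA7.genFib R K).obj N) := he
    obtain ⟨u, hu, hue⟩ := Groth.Agent.SemiNhd19.exists_extension_hom hN
      (e.hom : (SGA7.genFib R K).obj G ⟶ (SGA7.genFib R K).obj N)
    haveI := hu
    haveI : IsIso ((SGA7.genFib R K).map u) := by rw [hue]; exact e.isIso_hom
    haveI := Groth.Agent.SemiNhd19.isOpenImmersion_of_genFib (K := K) N G hG u
    exact Groth.Agent.SemiNhd19.fibresUnipotentRankZero_of_isOpenImmersion u hG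
  · intro h
    exact ⟨N, inferInstance, Iso.refl _, (inferInstance : IsMonHom (𝟙 ((SGA7.genFib R K).obj N))),
      hN.1, hN.2.1, hN.2.2.1, h⟩

end Groth.Agent.S4077
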