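import Groth.Statements.S14623
import Groth.Agent.Lib.RFPlus.Basic
import Mathlib.CategoryTheory.Functor.Derived.Adjunction
import Mathlib.CategoryTheory.Functor.Derived.PointwiseLeftDerived

set_option autoImplicit false
open CategoryTheory CategoryTheory.Limits
universe w v u
open CohDer

namespace Groth.Agent.S14623

variable {A B : Type u} [Category.{v} A] [Category.{v} B] [Abelian A] [Abelian B]
  {L : A ⥤ B} {R : B ⥤ A} (adj : L ⊣ R) [L.Additive] [R.Additive]

/-- The unit on complexes. -/
def unitC (K : CochainComplex A ℤ) :
    K ⟶ (R.mapHomologicalComplex (ComplexShape.up ℤ)).obj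
      ((L.mapHomologicalComplex (ComplexShape.up ℤ)).obj K) where
  f n := adj.unit.app (K.X n)
  comm' i j _ := (adj.unit.naturality (K.d i j)).symm

/-- The counit on complexes. -/
def counitC (K : CochainComplex B ℤ) :
    (L.mapHomologicalComplex (ComplexShape.up ℤ)).obj
      ((R.mapHomologicalComplex (ComplexShape.up ℤ)).obj K) ⟶ K where
  f n := adj.counit.app (K.X n)
  comm' i j _ := (adj.counit.naturality (K.d i j)).symm

/-- The adjunction on bounded below homotopy categories. -/
noncomputable def adjPlus : L.mapHomotopyCategoryPlus ⊣ R.mapHomotopyCategoryPlus :=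
  Adjunction.mkOfUnitCounit
    { unit :=
        { app := fun K => ObjectProperty.homMk ((HomotopyCategory.quotient A _).map (unitC adj K.obj.as))
          naturality := fun K K' f => by
            obtain ⟨g, hg⟩ := (HomotopyCategory.quotient A (ComplexShape.up ℤ)).map_surjective f.hom
            apply ObjectProperty.hom_ext
            change f.hom ≫ (HomotopyCategory.quotient A _).map (unitC adj K'.obj.as) =
              (HomotopyCategory.quotient A _).map (unitC adj K.obj.as) ≫
                (R.mapHomotopyCategory _).map ((L.mapHomotopyCategory _).map f.hom)
            rw [← hg]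
            change _ = _ ≫ (HomotopyCategory.quotient A _).map ((R.mapHomologicalComplex _).map ((L.mapHomologicalComplex _).map g))
            refine ((Functor.map_comp _ _ _).symm).trans ((congrArg _ ?_).trans (Functor.map_comp _ _ _))
            exact HomologicalComplex.hom_ext _ _ fun n => adj.unit.naturality (g.f n) }
      counit :=
        { app := fun K => ObjectProperty.homMk ((HomotopyCategory.quotient B _).map (counitC adj K.obj.as))
          naturality := fun K K' f => by
            obtain ⟨g, hg⟩ := (HomotopyCategory.quotient B (ComplexShape.up ℤ)).map_surjective f.hom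
            apply ObjectProperty.hom_ext
            change (L.mapHomotopyCategory _).map ((R.mapHomotopyCategory _).map f.hom) ≫
                (HomotopyCategory.quotient B _).map (counitC adj K'.obj.as) =
              (HomotopyCategory.quotient B _).map (counitC adj K.obj.as) ≫ f.hom
            rw [← hg]
            change (HomotopyCategory.quotient B _).map ((L.mapHomologicalComplex _).map ((R.mapHomologicalComplex _).map g)) ≫ _ = _
            refine ((Functor.map_comp _ _ _).symm).trans ((congrArg _ ?_).trans (Functor.map_comp _ _ _))
            exact HomologicalComplex.hom_ext _ _ fun n => adj.counit.naturality (g.f n) }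
      left_triangle := by
        ext K
        simp only [NatTrans.comp_app, Functor.whiskerRight_app, Functor.whiskerLeft_app,
          Functor.associator_hom_app, NatTrans.id_app]
        rw [ObjectProperty.FullSubcategory.comp_hom, ObjectProperty.FullSubcategory.comp_hom]
        change (HomotopyCategory.quotient B _).map ((L.mapHomologicalComplex _).map (unitC adj K.obj.as)) ≫
          𝟙 _ ≫ (HomotopyCategory.quotient B _).map (counitC adj _) = 𝟙 _
        erw [Category.id_comp]
        refine ((Functor.map_comp _ _ _).symm).trans ((congrArg _ ?_).trans ((HomotopyCategory.quotient B _).map_id _))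
        exact HomologicalComplex.hom_ext _ _ fun n => adj.left_triangle_components (K.obj.as.X n)
      right_triangle := by
        ext K
        simp only [NatTrans.comp_app, Functor.whiskerRight_app, Functor.whiskerLeft_app,
          Functor.associator_inv_app, NatTrans.id_app]
        rw [ObjectProperty.FullSubcategory.comp_hom, ObjectProperty.FullSubcategory.comp_hom]
        change (HomotopyCategory.quotient A _).map (unitC adj _) ≫
          𝟙 _ ≫ (HomotopyCategory.quotient A _).map ((R.mapHomologicalComplex _).map (counitC adj K.obj.as)) = 𝟙 _
        erw [Category.id_comp]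
        refine ((Functor.map_comp _ _ _).symm).trans ((congrArg _ ?_).trans ((HomotopyCategory.quotient A _).map_id _))
        exact HomologicalComplex.hom_ext _ _ fun n => adj.right_triangle_components (K.obj.as.X n) }

include adj in
theorem aux [HasDerivedCategory.{w} A] [HasDerivedCategory.{w} B] [EnoughInjectives A] [EnoughInjectives B]
    [PreservesFiniteLimits L] [PreservesFiniteColimits L] :
    Nonempty (L.rightDerivedFunctorPlus ⊣ R.rightDerivedFunctorPlus) := by
  have hunit : ∀ K : HomotopyCategory.Plus A, IsIso (L.rightDerivedFunctorPlusUnit.app K) := by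
    intro K
    obtain ⟨K, rfl⟩ := HomotopyCategory.Plus.quotient_obj_surjective K
    obtain ⟨a, ha⟩ := K.property
    obtain ⟨I, j, hj, hinj, hI⟩ :=
      CochainComplex.Plus.modelCategoryQuillen.exists_quasiIso_injective K.obj a
    let I' : CochainComplex.Plus A := ⟨I, a, hI⟩
    let j' : K ⟶ I' := ObjectProperty.homMk j
    have : QuasiIso j'.hom := hj
    have hinj' : ∀ n, Injective (I'.obj.X n) := hinj
    rw [Groth.Agent.RFPlus.isIso_unit_iff L j']
    infer_instance
  have hU : IsIso L.rightDerivedFunctorPlusUnit := NatIso.isIso_of_isIso_app _
  let e := (asIso L.rightDerivedFunctorPlusUnit).symm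
  let W₁ := HomotopyCategory.Plus.quasiIso A
  let W₂ := HomotopyCategory.Plus.quasiIso B
  have : L.rightDerivedFunctorPlus.IsLeftDerivedFunctor e.hom W₁ :=
    Functor.isLeftDerivedFunctor_of_inverts W₁ _ e
  let e₁ := (Functor.associator DerivedCategory.Plus.Qh L.rightDerivedFunctorPlus R.rightDerivedFunctorPlus).symm ≪≫
    Functor.isoWhiskerRight e R.rightDerivedFunctorPlus
  have : (L.rightDerivedFunctorPlus ⋙ R.rightDerivedFunctorPlus).IsLeftDerivedFunctor
      ((Functor.associator _ _ _).inv ≫ Functor.whiskerRight e.hom R.rightDerivedFunctorPlus) W₁ :=
    Functor.isLeftDerivedFunctor_of_inverts W₁ _ e₁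
  have : (R.rightDerivedFunctorPlus ⋙ L.rightDerivedFunctorPlus).IsRightDerivedFunctor
      (Functor.whiskerRight R.rightDerivedFunctorPlusUnit L.rightDerivedFunctorPlus ≫
        (Functor.associator _ _ _).hom) W₂ := by
    refine (HomotopyCategory.Plus.localizerMorphism_derives _).isRightDerivedFunctor_of_isIso _ fun X => ?_
    simp only [NatTrans.comp_app, Functor.whiskerRight_app]
    infer_instance
  exact ⟨(adjPlus adj).derived W₁ W₂ e.hom R.rightDerivedFunctorPlusUnit⟩


/-- Let A and B be abelian categories with enough injectives, L : A ⥤ B an exact additive functor and R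
: B ⥤ A an additive right adjoint of L. Then on bounded below derived categories the functor induced
by L (written as its total right derived functor, L being exact) is left adjoint to the right
derived functor of R; the existence of an adjunction is asserted. -/
theorem result {A B : Type u} [Category.{v} A] [Category.{v} B]
    [Abelian A] [Abelian B] [HasDerivedCategory.{w} A] [HasDerivedCategory.{w} B]
    [EnoughInjectives A] [EnoughInjectives B] {L : A ⥤ B} {R : B ⥤ A} (adj : L ⊣ R)
    [L.Additive] [R.Additive] [PreservesFiniteLimits L] [PreservesFiniteColimits L] :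
    Nonempty (L.rightDerivedFunctorPlus ⊣ R.rightDerivedFunctorPlus) := by
  exact aux adj


end Groth.Agent.S14623
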