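import Groth.Statements.S19345
import Mathlib.AlgebraicGeometry.PullbackCarrier
import Mathlib.AlgebraicGeometry.Morphisms.Finite
import Mathlib.AlgebraicGeometry.Sites.MorphismProperty
import Mathlib.RingTheory.Ideal.GoingUp
import Mathlib.RingTheory.AdjoinRoot

set_option autoImplicit false
universe u
open CategoryTheory CategoryTheory.Limits AlgebraicGeometry TopologicalSpace
open ModPair

namespace Groth.Agent.S19345

open CategoryTheory.Limits Polynomial TensorProduct
set_option backward.isDefEq.respectTransparency.types false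

theorem mem_range_of_aic {A D : Type u} [CommRing A] [CommRing D] [IsDomain D] (hA : Curves.IsAIC A)
    (φ : A →+* D) : ∀ (n : ℕ) (b : D) (f : A[X]), f.natDegree = n → f.Monic → f.eval₂ φ b = 0 →
      b ∈ Set.range φ := by
  intro n
  induction n with
  | zero =>
    intro b f hd hm h
    rw [hm.natDegree_eq_zero.1 hd] at h
    simp at h
  | succ n ih =>
    intro b f hd hm h
    haveI := φ.domain_nontrivial
    obtain ⟨r, hr⟩ := hA f hm (by omega)
    obtain ⟨g, rfl⟩ := dvd_iff_isRoot.2 hr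
    have hg : g.Monic := (monic_X_sub_C r).of_mul_monic_left hm
    rw [eval₂_mul, mul_eq_zero] at h
    rcases h with h | h
    · exact ⟨r, by rw [eval₂_sub, eval₂_X, eval₂_C, sub_eq_zero] at h; exact h.symm⟩
    · refine ih b g ?_ hg h
      rw [(monic_X_sub_C r).natDegree_mul hg, natDegree_X_sub_C] at hd
      omega

theorem exists_mem {X : Scheme.{u}} {P : MorphismProperty Scheme.{u}} {R : Presieve X}
    (hR : R ∈ Scheme.precoverage P X) (x : X) :
    ∃ (Y : Scheme.{u}) (w : Y ⟶ X) (y : Y), R w ∧ P w ∧ w y = x := by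
  rw [Precoverage.mem_iff_exists_zeroHypercover] at hR
  obtain ⟨𝒰, rfl⟩ := hR
  obtain ⟨i, y, hy⟩ := Scheme.Cover.exists_eq 𝒰 x
  exact ⟨_, 𝒰.f i, y, ⟨i⟩, Scheme.Cover.map_prop 𝒰 i, hy⟩

theorem mp (P : Scheme.{u}) [QuasiSeparatedSpace P]
    (h1 : ∀ (X : Scheme.{u}) (R : Presieve X), R ∈ Scheme.precoverage (@IsOpenImmersion ⊓ @QuasiCompact) X →
        ∀ g : P ⟶ X, ∃ (Y : Scheme.{u}) (w : Y ⟶ X) (h : P ⟶ Y), R w ∧ h ≫ w = g)
    (h2 : ∀ (X : Scheme.{u}) (R : Presieve X), R ∈ Scheme.precoverage @IsFinite X →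
        ∀ g : P ⟶ X, ∃ (Y : Scheme.{u}) (w : Y ⟶ X) (h : P ⟶ Y), R w ∧ h ≫ w = g) :
    IsAffine P ∧ IsLocalRing Γ(P, ⊤) ∧ IsDomain Γ(P, ⊤) ∧ Curves.IsAIC Γ(P, ⊤) := by
  have haff : IsAffine P := by
    haveI : ∀ U : P.affineOpens, IsAffine U.1.toScheme := fun U => U.2
    have hR : Presieve.ofArrows (fun U : P.affineOpens => U.1.toScheme) (fun U => U.1.ι) ∈
        Scheme.precoverage (@IsOpenImmersion ⊓ @QuasiCompact) P := by
      rw [Scheme.ofArrows_mem_precoverage_iff]
      refine ⟨fun x => ?_, fun U => ⟨inferInstance, inferInstance⟩⟩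
      obtain ⟨U, hU, hx, -⟩ := exists_isAffineOpen_mem_and_subset (X := P) (x := x) (U := ⊤) trivial
      exact ⟨⟨U, hU⟩, ⟨x, hx⟩, rfl⟩
    obtain ⟨Y, w, h, ⟨U⟩, hw⟩ := h1 P _ hR (𝟙 P)
    haveI : IsSplitEpi U.1.ι := ⟨⟨⟨h, hw⟩⟩⟩
    haveI : IsIso U.1.ι := isIso_of_mono_of_isSplitEpi _
    exact .of_isIso (inv U.1.ι)
  haveI := haff
  set A := Γ(P, ⊤)
  obtain ⟨e⟩ : Nonempty (P ≅ Spec A) := ⟨P.isoSpec⟩
  haveI : Nonempty (Spec A) := by
    by_contra hne
    rw [not_nonempty_iff] at hne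
    have hR : (⊥ : Presieve (Spec A)) ∈ Scheme.precoverage @IsFinite (Spec A) :=
      Scheme.bot_mem_precoverage _ _
    obtain ⟨Y, w, h, hw, -⟩ := h2 _ _ hR e.hom
    exact hw
  -- every section of a finite cover by one morphism
  have hsing : ∀ {Y : Scheme.{u}} (w : Y ⟶ Spec A) [IsFinite w] [Surjective w], ∃ s : Spec A ⟶ Y, s ≫ w = 𝟙 _ := by
    intro Y w _ _
    have hR : Presieve.singleton w ∈ Scheme.precoverage @IsFinite (Spec A) := by
      rw [Scheme.singleton_mem_precoverage_iff]; exact ⟨‹Surjective w›.surj, inferInstance⟩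
    obtain ⟨_, _, h, ⟨⟩, hw⟩ := h2 _ _ hR e.hom
    exact ⟨e.inv ≫ h, by rw [Category.assoc, hw, e.inv_hom_id]⟩
  have hdom : IsDomain A := by
    let f : PrimeSpectrum A → Scheme.{u} := fun p => Spec (.of (A ⧸ p.asIdeal))
    let m : ∀ p, f p ⟶ Spec A := fun p => Spec.map (CommRingCat.ofHom (Ideal.Quotient.mk p.asIdeal))
    have hR : Presieve.ofArrows f m ∈ Scheme.precoverage @IsFinite (Spec A) := by
      rw [Scheme.ofArrows_mem_precoverage_iff]
      refine ⟨fun p => ⟨p, ⟨⊥, Ideal.bot_prime⟩, ?_⟩, fun p => ?_⟩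
      · apply PrimeSpectrum.ext
        show Ideal.comap (Ideal.Quotient.mk p.asIdeal) ⊥ = p.asIdeal
        exact Ideal.mk_ker
      · haveI : IsClosedImmersion (m p) :=
          IsClosedImmersion.spec_of_surjective _ Ideal.Quotient.mk_surjective
        infer_instance
    obtain ⟨_, _, h, ⟨p⟩, hw⟩ := h2 _ _ hR e.hom
    obtain ⟨φ, hφ⟩ := Spec.map_surjective (e.inv ≫ h)
    have hid : CommRingCat.ofHom (Ideal.Quotient.mk p.asIdeal) ≫ φ = 𝟙 _ := Spec.map_injective (by
      rw [Spec.map_comp, Spec.map_id, hφ, Category.assoc, hw, e.inv_hom_id]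
      rfl)
    have hinj : Function.Injective (Ideal.Quotient.mk p.asIdeal) :=
      Function.LeftInverse.injective (g := φ.hom) fun x => congr($hid x)
    exact hinj.isDomain _
  haveI := hdom
  refine ⟨haff, ?_, hdom, ?_⟩
  · haveI : Nontrivial A := PrimeSpectrum.nonempty_iff_nontrivial.1 ‹Nonempty (Spec A)›
    refine IsLocalRing.of_isUnit_or_isUnit_one_sub_self fun a => ?_
    let f : Bool → Scheme.{u} := fun b => Spec (.of (Localization.Away (cond b a (1 - a))))
    let m : ∀ b, f b ⟶ Spec A := fun b =>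
      Spec.map (CommRingCat.ofHom (algebraMap A (Localization.Away (cond b a (1 - a)))))
    have hrange : ∀ b, Set.range (m b) =
        ((PrimeSpectrum.basicOpen (cond b a (1 - a)) : TopologicalSpace.Opens (PrimeSpectrum A)) : Set (PrimeSpectrum A)) :=
      fun b => PrimeSpectrum.localization_away_comap_range (Localization.Away (cond b a (1 - a))) (cond b a (1 - a))
    have hR : Presieve.ofArrows (fun b : ULift.{u} Bool => f b.down) (fun b => m b.down) ∈
        Scheme.precoverage (@IsOpenImmersion ⊓ @QuasiCompact) (Spec A) := by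
      rw [Scheme.ofArrows_mem_precoverage_iff]
      refine ⟨fun p => ?_, fun b => ⟨IsOpenImmersion.of_isLocalization (cond b.down a (1 - a)), inferInstance⟩⟩
      have : ∃ b, p ∈ Set.range (m b) := by
        by_cases ha : a ∈ p.asIdeal
        · refine ⟨false, ?_⟩
          rw [hrange]
          intro h1a
          exact p.isPrime.ne_top ((Ideal.eq_top_iff_one _).2 (by simpa using add_mem ha h1a))
        · exact ⟨true, by rw [hrange]; exact ha⟩
      obtain ⟨b, z, hz⟩ := this
      exact ⟨⟨b⟩, z, hz⟩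
    obtain ⟨_, _, h, ⟨b⟩, hw⟩ := h1 _ _ hR e.hom
    have htop : ∀ p : Spec A, p ∈ Set.range (m b.down) := fun p => ⟨(e.inv ≫ h) p, by
      show (e.inv ≫ h ≫ m b.down) p = p
      rw [hw, e.inv_hom_id]; rfl⟩
    simp only [hrange] at htop
    have hu : IsUnit (cond b.down a (1 - a)) := by
      by_contra hu
      obtain ⟨M, hM, hMm⟩ := exists_max_ideal_of_mem_nonunits hu
      exact htop ⟨M, hM.isPrime⟩ hMm
    cases hb : b.down <;> rw [hb] at hu
    · exact Or.inr hu
    · exact Or.inl hu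
  · intro f hf hdeg
    haveI : Module.Finite A (AdjoinRoot f) := hf.finite_adjoinRoot
    let w : Spec (.of (AdjoinRoot f)) ⟶ Spec A := Spec.map (CommRingCat.ofHom (AdjoinRoot.of f))
    haveI : IsFinite w := by
      rw [IsFinite.SpecMap_iff]; exact RingHom.finite_algebraMap.2 inferInstance
    haveI : Surjective w := ⟨by
      have := AdjoinRoot.of.injective_of_degree_ne_zero (f := f)
        (by rw [degree_eq_natDegree hf.ne_zero]; exact_mod_cast hdeg.ne')
      exact (show (algebraMap A (AdjoinRoot f)).IsIntegral from Algebra.IsIntegral.isIntegral).comap_surjective this⟩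
    obtain ⟨s, hs⟩ := hsing w
    obtain ⟨φ, hφ⟩ := Spec.map_surjective s
    have hid : CommRingCat.ofHom (AdjoinRoot.of f) ≫ φ = 𝟙 _ := Spec.map_injective (by
      rw [Spec.map_comp, Spec.map_id, hφ, hs]
      rfl)
    refine ⟨φ (AdjoinRoot.root f), ?_⟩
    have h0 := congrArg φ.hom (AdjoinRoot.eval₂_root f)
    rw [map_zero, hom_eval₂] at h0
    rw [← h0, eval, eval₂_congr]
    all_goals first | rfl | exact (RingHom.ext fun x => congr($hid x)).symm

theorem mpr (P : Scheme.{u}) [QuasiSeparatedSpace P]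
    (h : IsAffine P ∧ IsLocalRing Γ(P, ⊤) ∧ IsDomain Γ(P, ⊤) ∧ Curves.IsAIC Γ(P, ⊤)) :
    (∀ (X : Scheme.{u}) (R : Presieve X), R ∈ Scheme.precoverage (@IsOpenImmersion ⊓ @QuasiCompact) X →
        ∀ g : P ⟶ X, ∃ (Y : Scheme.{u}) (w : Y ⟶ X) (h : P ⟶ Y), R w ∧ h ≫ w = g) ∧
      (∀ (X : Scheme.{u}) (R : Presieve X), R ∈ Scheme.precoverage @IsFinite X →
        ∀ g : P ⟶ X, ∃ (Y : Scheme.{u}) (w : Y ⟶ X) (h : P ⟶ Y), R w ∧ h ≫ w = g) := by
  obtain ⟨_, _, _, hA⟩ := h
  let e := P.isoSpec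
  refine ⟨fun X R hR g => ?_, fun X R hR g => ?_⟩
  · let c : P := e.inv (IsLocalRing.closedPoint Γ(P, ⊤))
    obtain ⟨Y, w, y, hw, ⟨_, _⟩, hy⟩ := exists_mem hR (g c)
    have hspec : ∀ p : P, p ⤳ c := fun p => by
      have := (IsLocalRing.specializes_closedPoint (R := Γ(P, ⊤)) (e.hom p)).map e.inv.continuous
      rwa [← Scheme.Hom.comp_apply, e.hom_inv_id] at this
    refine ⟨Y, w, IsOpenImmersion.lift w g ?_, hw, IsOpenImmersion.lift_fac _ _ _⟩
    rintro _ ⟨p, rfl⟩
    exact ((hspec p).map g.continuous).mem_open w.isOpenEmbedding.isOpen_range ⟨y, hy⟩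
  · let η : P := e.inv ⟨⊥, Ideal.bot_prime⟩
    obtain ⟨Y, w, y, hw, _, hy⟩ := exists_mem hR (g η)
    let Q := pullback w g
    let q : Q ⟶ P := pullback.snd w g
    haveI : IsFinite q := MorphismProperty.pullback_snd _ _ ‹IsFinite w›
    haveI : IsAffine Q := isAffine_of_isAffineHom q
    obtain ⟨z, -, hz⟩ := Scheme.Pullback.exists_preimage_pullback (f := w) (g := g) y η hy
    obtain ⟨φ, hφ⟩ := Spec.map_surjective (Q.isoSpec.inv ≫ q ≫ e.hom)
    have hfin : φ.hom.Finite := by
      have : IsFinite (Spec.map φ) := by rw [hφ]; infer_instance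
      rwa [IsFinite.SpecMap_iff] at this
    let 𝔮 := Q.isoSpec.hom z
    have hbot : Ideal.comap φ.hom 𝔮.asIdeal = ⊥ := by
      have : Spec.map φ 𝔮 = e.hom η := by
        rw [hφ]
        show e.hom (q ((Q.isoSpec.hom ≫ Q.isoSpec.inv) z)) = e.hom η
        rw [Iso.hom_inv_id]
        exact congrArg e.hom hz
      have he : e.hom η = ⟨⊥, Ideal.bot_prime⟩ := by
        show (e.inv ≫ e.hom) _ = _
        rw [e.inv_hom_id]; rfl
      exact congrArg PrimeSpectrum.asIdeal (this.trans he)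
    let ψ : Γ(P, ⊤) →+* Γ(Q, ⊤) ⧸ 𝔮.asIdeal := (Ideal.Quotient.mk _).comp φ.hom
    have hinj : Function.Injective ψ := by
      rw [RingHom.injective_iff_ker_eq_bot, ← RingHom.comap_ker, Ideal.mk_ker]
      exact hbot
    have hsurj : Function.Surjective ψ := fun d => by
      obtain ⟨b, rfl⟩ := Ideal.Quotient.mk_surjective d
      obtain ⟨f, hf, hfb⟩ := hfin.to_isIntegral b
      exact mem_range_of_aic hA ψ _ _ f rfl hf (by rw [← hom_eval₂, hfb, map_zero])
    let E := RingEquiv.ofBijective ψ ⟨hinj, hsurj⟩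
    let χ : Γ(Q, ⊤) ⟶ Γ(P, ⊤) :=
      CommRingCat.ofHom (E.symm.toRingHom.comp (Ideal.Quotient.mk 𝔮.asIdeal))
    have hid : φ ≫ χ = 𝟙 _ := CommRingCat.hom_ext (RingHom.ext fun a => E.symm_apply_apply a)
    let s : P ⟶ Q := e.hom ≫ Spec.map χ ≫ Q.isoSpec.inv
    have hs : s ≫ q = 𝟙 P := by
      rw [← cancel_mono e.hom]
      simp only [s, Category.assoc, ← hφ, ← Spec.map_comp, hid, Spec.map_id]
      simp
    refine ⟨Y, w, s ≫ pullback.fst w g, hw, ?_⟩
    rw [Category.assoc, pullback.condition, ← Category.assoc, hs, Category.id_comp]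


/-- Let P be a quasi-separated scheme. Then P is local for Zariski coverings (for every scheme X, every
jointly surjective family of quasi-compact open immersions into X and every morphism P ⟶ X, the
morphism factors through a member) and for finite coverings (the same for jointly surjective
families of finite morphisms) — which together is locality for the rqfh coverings, the finite
composites of coverings of these two kinds — if and only if P is affine and Γ(P) is a local integral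
domain in which every monic polynomial of positive degree has a root, i.e. the spectrum of an
absolutely integrally closed local domain. The published statement allows any scheme P; this row
assumes P quasi-separated. -/
theorem result (P : Scheme.{u}) [QuasiSeparatedSpace P] :
    ((∀ (X : Scheme.{u}) (R : Presieve X), R ∈ Scheme.precoverage (@IsOpenImmersion ⊓ @QuasiCompact) X →
        ∀ g : P ⟶ X, ∃ (Y : Scheme.{u}) (w : Y ⟶ X) (h : P ⟶ Y), R w ∧ h ≫ w = g) ∧
      (∀ (X : Scheme.{u}) (R : Presieve X), R ∈ Scheme.precoverage @IsFinite X →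
        ∀ g : P ⟶ X, ∃ (Y : Scheme.{u}) (w : Y ⟶ X) (h : P ⟶ Y), R w ∧ h ≫ w = g)) ↔
    (IsAffine P ∧ IsLocalRing Γ(P, ⊤) ∧ IsDomain Γ(P, ⊤) ∧ Curves.IsAIC Γ(P, ⊤)) := by
  exact ⟨fun h => mp P h.1 h.2, mpr P⟩

end Groth.Agent.S19345
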