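import Groth.Statements.S9432
import Mathlib
import Groth.Agent.Lib.H2Alg.FibrePoint
import Groth.Agent.Lib.FlatH4.FibreCritField
import Groth.Agent.Lib.FlatH4.FlatLocusFP
import Groth.Agent.Lib.FlatH4.FlatLocusScheme

set_option autoImplicit false
universe u
open CAlg

namespace Groth.Agent.S9432
open TensorProduct

theorem fibre_prime_ext {R S : Type u} [CommRing R] [CommRing S] [Algebra R S] (p : Ideal R) [p.IsPrime]
    (Q₁ Q₂ : Ideal (p.Fiber S)) [Q₁.IsPrime] [Q₂.IsPrime]
    (h : Q₁.comap (Algebra.TensorProduct.includeRight (R := R) (A := p.ResidueField) (B := S)).toRingHom =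
      Q₂.comap (Algebra.TensorProduct.includeRight (R := R) (A := p.ResidueField) (B := S)).toRingHom) :
    Q₁ = Q₂ := by
  ext x
  obtain ⟨r, hr, s, e⟩ := Ideal.Fiber.exists_smul_eq_one_tmul p x
  have hu : IsUnit (algebraMap R (p.Fiber S) r) := by
    rw [IsScalarTower.algebraMap_apply R p.ResidueField (p.Fiber S)]
    exact (isUnit_iff_ne_zero.2 fun h0 => hr (Ideal.algebraMap_residueField_eq_zero.1 h0)).map _
  rw [← Ideal.unit_mul_mem_iff_mem Q₁ hu, ← Ideal.unit_mul_mem_iff_mem Q₂ hu, ← Algebra.smul_def, e]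
  exact (SetLike.ext_iff.1 h s)

theorem quasiFiniteAt_of_finite_fibre {P S : Type u} [CommRing P] [CommRing S] [Algebra P S] [Algebra.FiniteType P S]
    (q : PrimeSpectrum S)
    (hfin : (PrimeSpectrum.comap (algebraMap P S) ⁻¹' {q.comap (algebraMap P S)}).Finite) :
    Algebra.QuasiFiniteAt P q.asIdeal := by
  refine Algebra.QuasiFiniteAt.of_isOpen_singleton_fiber q ?_
  let n := q.comap (algebraMap P S)
  let e := PrimeSpectrum.preimageHomeomorphFiber P S n
  haveI : Finite ↥(PrimeSpectrum.comap (algebraMap P S) ⁻¹' {n}) := hfin.to_subtype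
  haveI : Finite (PrimeSpectrum (n.asIdeal.Fiber S)) := Finite.of_equiv _ e.toEquiv
  haveI : Algebra.QuasiFinite n.asIdeal.ResidueField (n.asIdeal.Fiber S) :=
    Algebra.QuasiFinite.iff_finite_comap_preimage_singleton.2 fun _ => Set.toFinite _
  haveI : DiscreteTopology (PrimeSpectrum (n.asIdeal.Fiber S)) :=
    Algebra.QuasiFinite.discreteTopology_primeSpectrum n.asIdeal.ResidueField (n.asIdeal.Fiber S)
  haveI : DiscreteTopology ↥(PrimeSpectrum.comap (algebraMap P S) ⁻¹' {n}) := e.symm.discreteTopology
  exact isOpen_discrete _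

theorem flat_localized_of_surjective {P₀ E A : Type u} [CommRing P₀] [CommRing E] [CommRing A] [Algebra P₀ E]
    [Algebra E A] [Algebra P₀ A] [IsScalarTower P₀ E A] (hs : Function.Surjective (algebraMap P₀ E))
    (q : Ideal A) [q.IsPrime] (h : Module.Flat P₀ (LocalizedModule q.primeCompl A)) :
    Module.Flat E (LocalizedModule q.primeCompl A) := by
  haveI := h
  haveI : IsScalarTower P₀ E (LocalizedModule q.primeCompl A) := IsScalarTower.of_algebraMap_smul fun r m => by
    rw [← algebraMap_smul A (algebraMap P₀ E r) m, ← IsScalarTower.algebraMap_apply, algebraMap_smul]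
  exact Groth.Agent.FlatH4.flat_of_surjective_scalars hs

theorem scale_finite_injective {k A : Type u} [Field k] [CommRing A] [Algebra k A] {d : ℕ}
    (g : MvPolynomial (Fin d) k →ₐ[k] A) (hfin : g.Finite) (hinj : Function.Injective g)
    (c : Fin d → k) (hc : ∀ i, c i ≠ 0) :
    (MvPolynomial.aeval (R := k) fun i => c i • g (MvPolynomial.X i)).Finite ∧
      Function.Injective (MvPolynomial.aeval (R := k) fun i => c i • g (MvPolynomial.X i)) := by
  let s : MvPolynomial (Fin d) k →ₐ[k] MvPolynomial (Fin d) k :=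
    MvPolynomial.aeval fun i => MvPolynomial.C (c i) * MvPolynomial.X i
  let s' : MvPolynomial (Fin d) k →ₐ[k] MvPolynomial (Fin d) k :=
    MvPolynomial.aeval fun i => MvPolynomial.C (c i)⁻¹ * MvPolynomial.X i
  have h1 : s'.comp s = AlgHom.id _ _ := by
    apply MvPolynomial.algHom_ext
    intro i
    rw [AlgHom.comp_apply, AlgHom.id_apply]
    simp only [s, s', MvPolynomial.aeval_X, map_mul, MvPolynomial.aeval_C, MvPolynomial.algebraMap_eq]
    rw [← mul_assoc, ← map_mul, mul_inv_cancel₀ (hc i), map_one, one_mul]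
  have h2 : s.comp s' = AlgHom.id _ _ := by
    apply MvPolynomial.algHom_ext
    intro i
    rw [AlgHom.comp_apply, AlgHom.id_apply]
    simp only [s, s', MvPolynomial.aeval_X, map_mul, MvPolynomial.aeval_C, MvPolynomial.algebraMap_eq]
    rw [← mul_assoc, ← map_mul, inv_mul_cancel₀ (hc i), map_one, one_mul]
  let e := AlgEquiv.ofAlgHom s s' h2 h1
  have key : (MvPolynomial.aeval (R := k) fun i => c i • g (MvPolynomial.X i)) = g.comp e.toAlgHom := by
    apply MvPolynomial.algHom_ext
    intro i
    rw [MvPolynomial.aeval_X]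
    simp [e, s, Algebra.smul_def, MvPolynomial.algebraMap_eq]
  rw [key]
  exact ⟨hfin.comp (AlgHom.Finite.of_surjective _ e.surjective), hinj.comp e.injective⟩

/-- Noether normalisation of a fibre, with coordinates coming from `S`. -/
theorem exists_coordinates {R S : Type u} [CommRing R] [CommRing S] [Algebra R S] [Algebra.FiniteType R S]
    (p : Ideal R) [p.IsPrime] [Nontrivial (p.Fiber S)] :
    ∃ (d : ℕ) (y : Fin d → S),
      (MvPolynomial.aeval (R := p.ResidueField) fun i => ((1 : p.ResidueField) ⊗ₜ[R] y i : p.Fiber S)).Finite ∧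
      Function.Injective (MvPolynomial.aeval (R := p.ResidueField) fun i => ((1 : p.ResidueField) ⊗ₜ[R] y i : p.Fiber S)) := by
  obtain ⟨d, g, hinj, hfin⟩ := exists_finite_inj_algHom_of_fg p.ResidueField (p.Fiber S)
  choose r hr y hy using fun i => Ideal.Fiber.exists_smul_eq_one_tmul p (g (MvPolynomial.X i))
  have hc : ∀ i, algebraMap R p.ResidueField (r i) ≠ 0 := fun i h => hr i (Ideal.algebraMap_residueField_eq_zero.1 h)
  have hfun : (fun i => ((1 : p.ResidueField) ⊗ₜ[R] y i : p.Fiber S)) =
      fun i => algebraMap R p.ResidueField (r i) • g (MvPolynomial.X i) := by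
    funext i
    rw [← hy i, algebraMap_smul]
  exact ⟨d, y, by rw [hfun]; exact (scale_finite_injective g hfin hinj _ hc)⟩

set_option maxHeartbeats 1600000 in
/-- the quasi-finite flat piece through the fibre at `p` -/
theorem exists_piece {R S : Type u} [CommRing R] [CommRing S] [Algebra R S] [Algebra.FinitePresentation R S]
    [Module.Flat R S] (p : Ideal R) [p.IsPrime] [Nontrivial (p.Fiber S)] :
    ∃ (T : Type u) (_ : CommRing T) (_ : Algebra R T),
      Algebra.QuasiFinite R T ∧ Algebra.FinitePresentation R T ∧ Module.Flat R T ∧ Nonempty (S →ₐ[R] T) ∧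
        ∃ Q : Ideal T, Q.IsPrime ∧ Q.comap (algebraMap R T) = p := by
  classical
  obtain ⟨d, y, hfin, hinj⟩ := exists_coordinates (S := S) p
  obtain ⟨N, q', hq', hN, hqN, hflat⟩ := H2Alg.exists_fibre_point _ hfin hinj
  let κ := p.ResidueField
  let P := MvPolynomial (Fin d) R
  let E := κ ⊗[R] P
  let A := p.Fiber S
  let ψ : MvPolynomial (Fin d) κ →ₐ[κ] A := MvPolynomial.aeval fun i => ((1 : κ) ⊗ₜ[R] y i : A)
  letI : Algebra P S := (MvPolynomial.aeval (R := R) y).toRingHom.toAlgebra
  haveI : IsScalarTower R P S := IsScalarTower.of_algebraMap_eq fun r => ((MvPolynomial.aeval (R := R) y).commutes r).symm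
  haveI : Algebra.FinitePresentation P S := Algebra.FinitePresentation.of_restrict_scalars_finitePresentation R P S
  let ι : MvPolynomial (Fin d) κ ≃ₐ[κ] E := (MvPolynomial.algebraTensorAlgEquiv R κ).symm
  have hι : ∀ i, ι (MvPolynomial.X i) = (1 : κ) ⊗ₜ[R] MvPolynomial.X i := fun i => by
    apply (MvPolynomial.algebraTensorAlgEquiv R κ).injective
    show (MvPolynomial.algebraTensorAlgEquiv R κ) ((MvPolynomial.algebraTensorAlgEquiv R κ).symm _) = _
    rw [AlgEquiv.apply_symm_apply, MvPolynomial.algebraTensorAlgEquiv_tmul]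
    simp
  have hψ : ψ = (Groth.Agent.FlatH4.fibMap R P S κ).comp ι.toAlgHom := by
    apply MvPolynomial.algHom_ext
    intro i
    show ψ (MvPolynomial.X i) = Groth.Agent.FlatH4.fibMap R P S κ (ι (MvPolynomial.X i))
    rw [hι]
    simp [ψ, Groth.Agent.FlatH4.fibMap, RingHom.algebraMap_toAlgebra]
    exact congrArg _ (MvPolynomial.aeval_X y i).symm
  letI : Algebra E A := (Groth.Agent.FlatH4.fibMap R P S κ).toRingHom.toAlgebra
  letI : Algebra (MvPolynomial (Fin d) κ) A := ψ.toRingHom.toAlgebra
  letI : Algebra (MvPolynomial (Fin d) κ) E := ι.toAlgHom.toRingHom.toAlgebra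
  haveI : IsScalarTower (MvPolynomial (Fin d) κ) E A := IsScalarTower.of_algebraMap_eq fun g =>
    AlgHom.congr_fun hψ g
  haveI : Module.Finite (MvPolynomial (Fin d) κ) A := hfin
  haveI : Module.Finite E A := Module.Finite.of_restrictScalars_finite (MvPolynomial (Fin d) κ) E A
  haveI hflatE : Module.Flat E (LocalizedModule q'.primeCompl A) :=
    flat_localized_of_surjective (P₀ := MvPolynomial (Fin d) κ) (E := E) (A := A) ι.surjective q' hflat
  let inc : S →+* A := (Algebra.TensorProduct.includeRight (R := R) (A := κ) (B := S)).toRingHom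
  let q : Ideal S := q'.comap inc
  haveI : Module.Flat R (LocalizedModule q.primeCompl S) :=
    (Groth.Agent.FlatH4.flat_localization_iff q).2 (Module.Flat.trans R S (Localization.AtPrime q))
  have hqflat : Module.Flat P (LocalizedModule q.primeCompl S) :=
    Groth.Agent.FlatH4.flat_of_flat_fibMap (A := R) (B := P) (C := S) (K := κ) q' hflatE
  have hqp : ∀ r : R, algebraMap R S r ∈ q ↔ r ∈ p := by
    intro r
    show inc (algebraMap R S r) ∈ q' ↔ _
    have e : inc (algebraMap R S r) = algebraMap R A r :=
      (Algebra.TensorProduct.includeRight (R := R) (A := κ) (B := S)).commutes r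
    rw [e, IsScalarTower.algebraMap_apply R κ A, ← Ideal.mem_comap,
      (Ideal.eq_bot_or_top (q'.comap (algebraMap κ A))).resolve_right (Ideal.IsPrime.ne_top inferInstance),
      Submodule.mem_bot, Ideal.algebraMap_residueField_eq_zero]
  -- quasi-finite at `q` over `P`
  haveI hqf : Algebra.QuasiFiniteAt P q := by
    refine quasiFiniteAt_of_finite_fibre ⟨q, inferInstance⟩ ?_
    have hfinset : ((q'.comap (algebraMap E A)).primesOver A).Finite := Algebra.QuasiFinite.finite_primesOver _
    refine Set.Finite.subset ((hfinset.image (Ideal.comap inc)).preimage (f := PrimeSpectrum.asIdeal) (fun a _ b _ => PrimeSpectrum.ext)) ?_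
    intro x hx
    have hxq : x.asIdeal.comap (algebraMap P S) = q.comap (algebraMap P S) := congrArg PrimeSpectrum.asIdeal hx
    have hxp : p = x.asIdeal.comap (algebraMap R S) := by
      rw [IsScalarTower.algebraMap_eq R P S, ← Ideal.comap_comap, hxq, Ideal.comap_comap, ← IsScalarTower.algebraMap_eq]
      ext r
      exact (hqp r).symm
    let χ : A →ₐ[R] x.asIdeal.ResidueField := Algebra.TensorProduct.lift
      (Ideal.ResidueField.mapₐ p x.asIdeal (Algebra.ofId R S) hxp)
      (IsScalarTower.toAlgHom R S x.asIdeal.ResidueField) fun _ _ => Commute.all _ _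
    have hχ : (RingHom.ker χ).comap inc = x.asIdeal := by
      ext s
      show χ ((1 : κ) ⊗ₜ[R] s) = 0 ↔ _
      rw [Algebra.TensorProduct.lift_tmul, map_one, one_mul]
      exact Ideal.algebraMap_residueField_eq_zero
    haveI : (RingHom.ker χ).IsPrime := RingHom.ker_isPrime χ
    refine ⟨RingHom.ker χ, ⟨inferInstance, ⟨?_⟩⟩, hχ⟩
    -- both lie over the same prime of `E`
    symm
    apply fibre_prime_ext (S := P) p
    show ((RingHom.ker χ).comap (algebraMap E A)).comap _ = ((q'.comap (algebraMap E A)).comap _)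
    have hcomm : (algebraMap E A).comp (Algebra.TensorProduct.includeRight (R := R) (A := κ) (B := P)).toRingHom =
        inc.comp (algebraMap P S) := by
      refine RingHom.ext fun g => ?_
      show Groth.Agent.FlatH4.fibMap R P S κ ((1 : κ) ⊗ₜ[R] g) = (1 : κ) ⊗ₜ[R] algebraMap P S g
      simp [Groth.Agent.FlatH4.fibMap]
    rw [Ideal.comap_comap, Ideal.comap_comap, hcomm, ← Ideal.comap_comap, ← Ideal.comap_comap, hχ, hxq]
  -- an open piece where `S` is flat over `P`
  have hopen := Groth.Agent.FlatH4.isOpen_flat_localized (R := P) (S := S) (M := S)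
  obtain ⟨_, ⟨h, rfl⟩, hhq, hhV⟩ := PrimeSpectrum.isTopologicalBasis_basic_opens.isOpen_iff.1 hopen ⟨q, inferInstance⟩ hqflat
  have hhq' : h ∉ q := hhq
  let U := Localization.Away h
  haveI : Module.Flat P U := by
    refine Groth.Agent.FlatH4.flat_of_localized_maximal_algebra (S := U) fun Q _ => ?_
    rw [Groth.Agent.FlatH4.flat_localization_iff]
    let q2 := Q.comap (algebraMap S U)
    have hq2 : (⟨q2, inferInstance⟩ : PrimeSpectrum S) ∈ PrimeSpectrum.basicOpen h := fun hh =>
      Ideal.IsPrime.ne_top (inferInstance : Q.IsPrime) (Q.eq_top_of_isUnit_mem hh (IsLocalization.Away.algebraMap_isUnit h))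
    haveI : Module.Flat P (Localization.AtPrime q2) := (Groth.Agent.FlatH4.flat_localization_iff q2).1 (hhV hq2)
    exact Module.Flat.of_linearEquiv
      ((IsLocalization.localizationLocalizationAtPrimeIsoLocalization (Submonoid.powers h) Q).toLinearEquiv.restrictScalars P).symm
  haveI : Algebra.FinitePresentation S U := IsLocalization.Away.finitePresentation h
  haveI : Algebra.FinitePresentation P U := Algebra.FinitePresentation.trans P S U
  -- the finite free algebra cutting the fibre
  haveI : NeZero N := ⟨hN.ne'⟩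
  let G := Fin d → ZMod N
  let Qa := AddMonoidAlgebra R G
  let α : P →ₐ[R] Qa := MvPolynomial.aeval fun i => AddMonoidAlgebra.single (Pi.single i (1 : ZMod N) : G) (1 : R)
  letI : Algebra P Qa := α.toRingHom.toAlgebra
  haveI : IsScalarTower R P Qa := IsScalarTower.of_algebraMap_eq fun r => (α.commutes r).symm
  haveI : Module.Finite R Qa := Module.Finite.of_basis (Finsupp.basisSingleOne.map (AddMonoidAlgebra.coeffLinearEquiv R).symm)
  haveI : Module.Free R Qa := Module.Free.of_basis (Finsupp.basisSingleOne.map (AddMonoidAlgebra.coeffLinearEquiv R).symm)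
  haveI : Module.FinitePresentation R Qa := Module.finitePresentation_of_projective R Qa
  let T := Qa ⊗[P] U
  haveI : Module.Flat R T := Module.Flat.trans R Qa T
  haveI : Algebra.FinitePresentation R T := Algebra.FinitePresentation.trans R Qa T
  -- a point of `T` over `p`
  let L := q'.ResidueField
  let ρ : S →+* L := (algebraMap A L).comp inc
  letI : Algebra S L := ρ.toAlgebra
  letI : Algebra P L := (ρ.comp (algebraMap P S)).toAlgebra
  haveI : IsScalarTower P S L := IsScalarTower.of_algebraMap_eq fun _ => rfl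
  have hρR : ∀ r : R, ρ (algebraMap R S r) = algebraMap R L r := fun r => by
    show algebraMap A L (inc (algebraMap R S r)) = _
    rw [show inc (algebraMap R S r) = algebraMap R A r from
      (Algebra.TensorProduct.includeRight (R := R) (A := κ) (B := S)).commutes r, ← IsScalarTower.algebraMap_apply]
  haveI : IsScalarTower R S L := IsScalarTower.of_algebraMap_eq fun r => (hρR r).symm
  haveI : IsScalarTower R P L := IsScalarTower.of_algebraMap_eq fun r => by
    show _ = ρ (algebraMap P S (algebraMap R P r))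
    rw [← IsScalarTower.algebraMap_apply, hρR]
  have hker : ∀ s : S, ρ s = 0 ↔ s ∈ q := fun s => Ideal.algebraMap_residueField_eq_zero
  have hx : ∀ i, ρ (y i) ^ N = 1 := fun i => by
    have h0 := hqN i
    rw [MvPolynomial.aeval_X] at h0
    rw [← sub_eq_zero, ← map_pow, ← map_one ρ, ← map_sub]
    refine (hker _).2 ?_
    show inc (y i ^ N - 1) ∈ q'
    rw [map_sub, map_pow, map_one]
    exact h0
  let β : Qa →ₐ[R] L := AddMonoidAlgebra.lift R L G
    { toFun := fun e => ∏ i, ρ (y i) ^ ((e.toAdd) i).val
      map_one' := Finset.prod_eq_one fun i _ => by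
        show ρ (y i) ^ (0 : ZMod N).val = 1
        simp
      map_mul' := fun a b => by
        rw [← Finset.prod_mul_distrib]
        refine Finset.prod_congr rfl fun i _ => ?_
        rw [toAdd_mul, Pi.add_apply, ZMod.val_add, ← pow_add, eq_comm]
        conv_lhs => rw [← Nat.mod_add_div ((Multiplicative.toAdd a i).val + (Multiplicative.toAdd b i).val) N, pow_add, pow_mul, hx, one_pow, mul_one] }
  have hβ : β.comp α = IsScalarTower.toAlgHom R P L := by
    apply MvPolynomial.algHom_ext
    intro i
    show β (α (MvPolynomial.X i)) = ρ (algebraMap P S (MvPolynomial.X i))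
    rw [show algebraMap P S (MvPolynomial.X i) = y i from MvPolynomial.aeval_X _ _]
    rw [show α (MvPolynomial.X i) = AddMonoidAlgebra.single (Pi.single i (1 : ZMod N) : G) (1 : R) from MvPolynomial.aeval_X _ i]
    simp only [β]
    rw [AddMonoidAlgebra.lift_single, one_smul]
    show ∏ j, ρ (y j) ^ ((Pi.single i (1 : ZMod N) : G) j).val = _
    rw [Finset.prod_eq_single i (fun j _ hj => by simp [Pi.single_eq_of_ne hj]) (fun hh => absurd (Finset.mem_univ i) hh),
      Pi.single_eq_same, ZMod.val_one_eq_one_mod]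
    conv_rhs => rw [← pow_one (ρ (y i)), ← Nat.mod_add_div 1 N, pow_add, pow_mul, hx, one_pow, mul_one]
  let βP : Qa →ₐ[P] L := { β.toRingHom with commutes' := fun g => AlgHom.congr_fun hβ g }
  have hhL : IsUnit ((Algebra.ofId S L) h) := isUnit_iff_ne_zero.2 fun h0 => hhq' ((hker h).1 h0)
  let γ : U →ₐ[S] L := IsLocalization.Away.liftAlgHom h (f := Algebra.ofId S L) hhL
  let ω : T →ₐ[P] L := Algebra.TensorProduct.lift βP (γ.restrictScalars P) fun _ _ => Commute.all _ _
  let QT : Ideal T := RingHom.ker ω
  let QU : Ideal U := RingHom.ker γ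
  haveI : QT.IsPrime := RingHom.ker_isPrime ω
  haveI : QU.IsPrime := RingHom.ker_isPrime γ
  have hQU : q = QU.comap (algebraMap S U) := by
    ext s
    show _ ↔ γ (algebraMap S U s) = 0
    rw [γ.commutes]
    exact (hker s).symm
  haveI : QU.LiesOver q := ⟨hQU⟩
  haveI : Algebra.QuasiFiniteAt P QU :=
    Algebra.QuasiFiniteAt.of_surjectiveOnStalks_of_liesOver q (RingHom.surjectiveOnStalks_of_isLocalization (Submonoid.powers h) U) QU
  have hQT : QU = QT.comap (Algebra.TensorProduct.includeRight (R := P) (A := Qa) (B := U)).toRingHom := by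
    ext u
    show γ u = 0 ↔ ω ((1 : Qa) ⊗ₜ[P] u) = 0
    rw [Algebra.TensorProduct.lift_tmul, map_one, one_mul]
    rfl
  haveI : Algebra.QuasiFiniteAt Qa QT := Algebra.QuasiFiniteAt.baseChange QU QT hQT
  haveI : Algebra.QuasiFiniteAt R QT := Algebra.QuasiFinite.trans R Qa (Localization.AtPrime QT)
  -- shrink to a quasi-finite open
  obtain ⟨S', hS', r, hrQ, hbij⟩ := Algebra.QuasiFiniteAt.exists_fg_and_exists_notMem_and_awayMap_bijective (R := R) QT
  haveI : Module.Finite R S' := ⟨(Submodule.fg_top _).mpr hS'⟩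
  haveI : Algebra.QuasiFinite R (Localization.Away r) := Algebra.QuasiFinite.trans R S' _
  have hsurj : Function.Surjective (Localization.awayMapₐ S'.val r) := hbij.2
  haveI : Algebra.QuasiFinite R (Localization.Away r.1) :=
    @Algebra.QuasiFinite.of_surjective_algHom R (Localization.Away r) (Localization.Away r.1) _ _ _ _ _ _
      (Localization.awayMapₐ S'.val r) hsurj
  haveI : Algebra.FinitePresentation T (Localization.Away r.1) := IsLocalization.Away.finitePresentation r.1
  haveI : Algebra.FinitePresentation R (Localization.Away r.1) := Algebra.FinitePresentation.trans R T _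
  haveI : Module.Flat T (Localization.Away r.1) := IsLocalization.flat _ (Submonoid.powers r.1)
  have hRflat : Module.Flat R (Localization.Away r.1) := Module.Flat.trans R T _
  let ωr : Localization.Away r.1 →+* L :=
    IsLocalization.Away.lift r.1 (g := ω.toRingHom) (isUnit_iff_ne_zero.2 hrQ)
  haveI : (RingHom.ker ωr).IsPrime := RingHom.ker_isPrime ωr
  refine ⟨Localization.Away r.1, inferInstance, inferInstance, inferInstance, inferInstance, hRflat,
    ⟨(IsScalarTower.toAlgHom R T _).comp
      (((Algebra.TensorProduct.includeRight (R := P) (A := Qa) (B := U)).restrictScalars R).comp (IsScalarTower.toAlgHom R S U))⟩,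
    RingHom.ker ωr, inferInstance, ?_⟩
  ext a
  show ωr (algebraMap R _ a) = 0 ↔ a ∈ p
  rw [IsScalarTower.algebraMap_apply R T (Localization.Away r.1), IsLocalization.Away.lift_eq]
  show ω (algebraMap R T a) = 0 ↔ _
  rw [IsScalarTower.algebraMap_apply R P T, ω.commutes, ← IsScalarTower.algebraMap_apply, ← hρR, hker]
  exact hqp a

/-- For a faithfully flat ring map R → S of finite presentation there is a quasi-finite (of finite type
with finite fibres), faithfully flat, finitely presented R-algebra S' together with an R-algebra map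
S → S'. -/
theorem result (R : Type u) [CommRing R]
    (S : Type u) [CommRing S] [Algebra R S] [Module.FaithfullyFlat R S]
    [Algebra.FinitePresentation R S] :
    ∃ (S' : Type u) (_ : CommRing S') (_ : Algebra R S'),
      Algebra.QuasiFinite R S' ∧ Algebra.FiniteType R S' ∧ Module.FaithfullyFlat R S' ∧
        Algebra.FinitePresentation R S' ∧ Nonempty (S →ₐ[R] S') := by
  classical
  have hnt : ∀ p : PrimeSpectrum R, Nontrivial (p.asIdeal.Fiber S) := fun p => by
    show Nontrivial (p.asIdeal.ResidueField ⊗[R] S)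
    exact Module.FaithfullyFlat.lTensor_nontrivial (R := R) (M := S) p.asIdeal.ResidueField |> fun h => (TensorProduct.comm R p.asIdeal.ResidueField S).toEquiv.nontrivial
  choose T hTr hTa hqf hfp hfl hS Q hQp hQ using fun p : PrimeSpectrum R =>
    haveI := hnt p
    exists_piece (S := S) p.asIdeal
  let V : PrimeSpectrum R → Set (PrimeSpectrum R) := fun p => Set.range (PrimeSpectrum.comap (algebraMap R (T p)))
  have hV : ∀ p, IsOpen (V p) := fun p => by
    haveI := hfp p; haveI := hfl p
    exact (PrimeSpectrum.isOpenMap_comap_of_hasGoingDown_of_finitePresentation (R := R) (S := T p)).isOpen_range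
  have hcov : Set.univ ⊆ ⋃ p, V p := fun p _ =>
    Set.mem_iUnion.2 ⟨p, ⟨Q p, hQp p⟩, PrimeSpectrum.ext (hQ p)⟩
  obtain ⟨s, hs⟩ := isCompact_univ.elim_finite_subcover V hV hcov
  haveI : ∀ p : s, Algebra.FinitePresentation R (T p.1) := fun p => hfp p.1
  haveI : ∀ p : s, Module.Flat R (T p.1) := fun p => hfl p.1
  haveI : Algebra.FinitePresentation R (∀ p : s, T p.1) := inferInstance
  haveI : Algebra.FiniteType R (∀ p : s, T p.1) := inferInstance
  haveI : Module.Flat R (∀ p : s, T p.1) :=
    Module.Flat.of_linearEquiv (DirectSum.linearEquivFunOnFintype R s fun p => T p.1).symm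
  refine ⟨∀ p : s, T p.1, inferInstance, inferInstance, ?_, inferInstance, ?_, inferInstance,
    ⟨Pi.algHom R _ fun p => (hS p.1).some⟩⟩
  · rw [Algebra.QuasiFinite.iff_finite_comap_preimage_singleton]
    intro x
    have hsub : (PrimeSpectrum.comap (algebraMap R (∀ p : s, T p.1)) ⁻¹' {x}) ⊆
        ⋃ p : s, PrimeSpectrum.comap (Pi.evalRingHom (fun p : s => T p.1) p) ''
          (PrimeSpectrum.comap (algebraMap R (T p.1)) ⁻¹' {x}) := by
      intro z hz
      obtain ⟨i, w, rfl⟩ := PrimeSpectrum.exists_comap_evalRingHom_eq z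
      refine Set.mem_iUnion.2 ⟨i, w, ?_, rfl⟩
      rw [Set.mem_preimage, Set.mem_singleton_iff] at hz ⊢
      rw [← hz]
      rfl
    refine Set.Finite.subset (Set.finite_iUnion fun p => Set.Finite.image _ ?_) hsub
    haveI := hqf p.1
    exact Algebra.QuasiFinite.finite_comap_preimage_singleton x
  · refine Module.FaithfullyFlat.of_comap_surjective fun x => ?_
    obtain ⟨p, hp, z, hz⟩ : ∃ p ∈ s, x ∈ V p := by simpa using hs (Set.mem_univ x)
    exact ⟨PrimeSpectrum.comap (Pi.evalRingHom (fun p : s => T p.1) ⟨p, hp⟩) z, by rw [← hz]; rfl⟩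

end Groth.Agent.S9432
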