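import Groth.Statements.S19339
import Groth.Agent.S9432
import Groth.Agent.Lib.Weight4.Nbhd

set_option autoImplicit false
universe u
open CategoryTheory CategoryTheory.Limits AlgebraicGeometry TopologicalSpace
open ModPair

namespace Groth.Agent.S19339

theorem exists_local {X W : Scheme.{u}} (w : W ⟶ X) [Flat w] [LocallyOfFinitePresentation w] (x : X)
    (hx : x ∈ Set.range w) :
    ∃ (U V : Scheme.{u}) (u : U ⟶ X) (v : V ⟶ U) (r : V ⟶ W),
      Etale u ∧ (∃ y : U, u y = x ∧ IsIso (u.residueFieldMap y)) ∧ IsFinite v ∧ Flat v ∧ Surjective v ∧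
        r ≫ w = v ≫ u := by
  obtain ⟨z, rfl⟩ := hx
  obtain ⟨A, hA, hxA, -⟩ := exists_isAffineOpen_mem_and_subset (X := X) (x := w z) (U := ⊤) trivial
  obtain ⟨B, hB, hzB, hBA⟩ := exists_isAffineOpen_mem_and_subset (X := W) (x := z) (U := w ⁻¹ᵁ A) hxA
  letI : Algebra Γ(X, A) Γ(W, B) := (w.appLE A B hBA).hom.toAlgebra
  haveI : Algebra.FinitePresentation Γ(X, A) Γ(W, B) := w.finitePresentation_appLE hA hB hBA
  haveI : Module.Flat Γ(X, A) Γ(W, B) := w.flat_appLE hA hB hBA
  let p := hA.primeIdealOf ⟨w z, hxA⟩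
  let q := hB.primeIdealOf ⟨z, hzB⟩
  have hqp : Spec.map (w.appLE A B hBA) q = p := by
    apply hA.fromSpec.isOpenEmbedding.injective
    rw [hA.fromSpec_primeIdealOf, ← Scheme.Hom.comp_apply, IsAffineOpen.SpecMap_appLE_fromSpec w hA hB hBA,
      Scheme.Hom.comp_apply, hB.fromSpec_primeIdealOf]
  haveI : Nontrivial (p.asIdeal.Fiber Γ(W, B)) := PrimeSpectrum.nonempty_iff_nontrivial.1
    ⟨PrimeSpectrum.preimageHomeomorphFiber Γ(X, A) Γ(W, B) p ⟨q, hqp⟩⟩
  obtain ⟨T, _, _, hT1, hT2, hT3, ⟨φ⟩, Q, hQ, hQp⟩ :=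
    S9432.exists_piece (R := Γ(X, A)) (S := Γ(W, B)) p.asIdeal
  let pt : ↥(Spec (CommRingCat.of T)) := (⟨Q, hQ⟩ : PrimeSpectrum T)
  let h : Spec (CommRingCat.of T) ⟶ X :=
    Spec.map (CommRingCat.ofHom (algebraMap Γ(X, A) T)) ≫ hA.fromSpec
  let s : Spec (CommRingCat.of T) ⟶ W := Spec.map (CommRingCat.ofHom φ.toRingHom) ≫ hB.fromSpec
  have hs : s ≫ w = h := by
    simp only [s, h, Category.assoc]
    rw [← IsAffineOpen.SpecMap_appLE_fromSpec w hA hB hBA, ← Category.assoc, ← Spec.map_comp]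
    congr 2
    exact CommRingCat.hom_ext (RingHom.ext fun a => φ.commutes a)
  haveI : Flat (Spec.map (CommRingCat.ofHom (algebraMap Γ(X, A) T))) :=
    (HasRingHomProperty.Spec_iff (P := @Flat)).2 (RingHom.flat_algebraMap_iff.2 hT3)
  haveI : LocallyOfFinitePresentation (Spec.map (CommRingCat.ofHom (algebraMap Γ(X, A) T))) :=
    (HasRingHomProperty.Spec_iff (P := @LocallyOfFinitePresentation)).2
      (RingHom.finitePresentation_algebraMap.2 hT2)
  haveI : LocallyQuasiFinite (Spec.map (CommRingCat.ofHom (algebraMap Γ(X, A) T))) :=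
    (HasRingHomProperty.Spec_iff (P := @LocallyQuasiFinite)).2
      (RingHom.quasiFinite_algebraMap.2 hT1)
  have hh : h pt = w z := by
    show hA.fromSpec (Spec.map _ pt) = _
    rw [show Spec.map (CommRingCat.ofHom (algebraMap Γ(X, A) T)) pt = p from PrimeSpectrum.ext hQp,
      hA.fromSpec_primeIdealOf]
  haveI : LocallyQuasiFinite h := inferInstance
  obtain ⟨U', g, u, hg, hgu, hres, V, v, hfin, hvV, -, hvu, -⟩ :=
    Weight.exists_elementary_piece h pt (h.quasiFiniteAt pt)
  haveI := hfin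
  haveI := hg
  haveI : Flat h := inferInstance
  haveI : LocallyOfFinitePresentation h := inferInstance
  let π : (V : Scheme.{u}) ⟶ U' := V.ι ≫ pullback.snd h g
  let O : U'.Opens := ⟨Set.range π, π.isOpenMap.isOpen_range⟩
  refine ⟨O, π ⁻¹ᵁ O, O.ι ≫ g, π ∣_ O, (π ⁻¹ᵁ O).ι ≫ V.ι ≫ pullback.fst h g ≫ s, inferInstance,
    ⟨⟨u, ⟨v, hvV⟩, hvu⟩, by rw [Scheme.Hom.comp_apply]; exact hgu.trans hh, ?_⟩,
    inferInstance, inferInstance, ?_, ?_⟩
  · rw [Scheme.residueFieldMap_comp]
    exact @IsIso.comp_isIso _ _ _ _ _ _ _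
      ((ConcreteCategory.isIso_iff_bijective _).2 ⟨RingHom.injective _, hres⟩) inferInstance
  · exact ⟨fun ⟨y, hy⟩ => by
      obtain ⟨a, rfl⟩ := hy
      exact ⟨⟨a, ⟨a, rfl⟩⟩, Subtype.ext (congrArg (fun k => k ⟨a, ⟨a, rfl⟩⟩) (morphismRestrict_ι π O))⟩⟩
  · simp only [Category.assoc, hs, pullback.condition]
    rw [morphismRestrict_ι_assoc]
    simp [π]

/-- Let X be a scheme and (w_j : W_j ⟶ X) an fppf covering, i.e. a jointly surjective family of
morphisms each of which is flat and of finite presentation (locally of finite presentation,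
quasi-compact and quasi-separated). Then it is refined by a family of composites V_k ⟶ U_k ⟶ X in
which the u_k : U_k ⟶ X are étale morphisms such that every point of X is the image of a point of
some U_k with trivial residue field extension, and the v_k : V_k ⟶ U_k are finite, flat and
surjective: each composite v_k ≫ u_k factors through some w_j. (The covering condition on the family
(u_k) is stated here pointwise, every point lifting to some U_k with the same residue field; a
Nisnevich covering in the stronger sense with members of finite presentation and a finite splitting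
stratification is not asserted.) -/
theorem result {X : Scheme.{u}}
    {ι : Type u} (W : ι → Scheme.{u}) (w : ∀ j, W j ⟶ X)
    (hw : Presieve.ofArrows W w ∈
      Scheme.precoverage (@Flat ⊓ @LocallyOfFinitePresentation ⊓ @QuasiCompact ⊓ @QuasiSeparated) X) :
    ∃ (κ : Type u) (U V : κ → Scheme.{u}) (u : ∀ k, U k ⟶ X) (v : ∀ k, V k ⟶ U k),
      (∀ k, Etale (u k)) ∧
        (∀ x : X, ∃ (k : κ) (y : U k), (u k).base y = x ∧ IsIso ((u k).residueFieldMap y)) ∧
        (∀ k, IsFinite (v k) ∧ Flat (v k) ∧ Surjective (v k)) ∧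
        ∀ k, ∃ (j : ι) (r : V k ⟶ W j), r ≫ w j = v k ≫ u k := by
  rw [Scheme.ofArrows_mem_precoverage_iff] at hw
  obtain ⟨hsurj, hP⟩ := hw
  choose j hj using hsurj
  have key : ∀ x : X, ∃ (U V : Scheme.{u}) (u : U ⟶ X) (v : V ⟶ U) (r : V ⟶ W (j x)),
      Etale u ∧ (∃ y : U, u y = x ∧ IsIso (u.residueFieldMap y)) ∧ IsFinite v ∧ Flat v ∧ Surjective v ∧
        r ≫ w (j x) = v ≫ u := fun x => by
    haveI := (hP (j x)).1.1.1
    haveI := (hP (j x)).1.1.2
    exact exists_local (w (j x)) x (hj x)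
  choose U V u v r he hy hf hfl hs hr using key
  exact ⟨X, U, V, u, v, he, fun x => ⟨x, hy x⟩, fun x => ⟨hf x, hfl x, hs x⟩, fun x => ⟨j x, r x, hr x⟩⟩

end Groth.Agent.S19339
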