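import Groth.Statements.S9069
import Groth.Agent.Lib.SiteCmp16.CohIn

set_option autoImplicit false
universe u
open CategoryTheory CategoryTheory.Limits Opposite
attribute [local instance] HasDerivedCategory.standard
open SiteCmp

namespace Groth.Agent.S9069
set_option linter.style.haveILetI false
set_option backward.isDefEq.respectTransparency false
set_option backward.isDefEq.respectTransparency.types false
attribute [local instance] HasDerivedCategory.standard


/-- Let f be a flat morphism from the ringed site (C, O_C) to the ringed site (D, O_D) and A ⊂ Mod(O_C),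
A' ⊂ Mod(O_D) weak Serre subcategories such that f^* induces an equivalence of categories A' → A and
F' → Rf_*f^*F' is an isomorphism for every F' ∈ A'. Then f^* : D^+_{A'}(O_D) → D^+_A(O_C) is an
equivalence with quasi-inverse Rf_*: on bounded below objects with cohomology sheaves in A' (resp.
A) the functor f^* (resp. Rf_*) lands in bounded below objects with cohomology sheaves in A (resp.
A'), and the unit (resp. counit) of the adjunction is an isomorphism there. The adjunction f^* ⊣
Rf_* on unbounded derived categories is a hypothesis; f^* is exact, so it is its own derived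
functor. Stated for ringed sites; the published statement is for ringed topoi. -/
theorem result
    {C : Type u} [SmallCategory C] {J : GrothendieckTopology C} {O_C : Sheaf J CommRingCat.{u}}
    {D : Type u} [SmallCategory D] {K : GrothendieckTopology D} {O_D : Sheaf K CommRingCat.{u}}
    (f : ModSite.RMor O_C O_D) [PreservesFiniteLimits f.pull] [SiteCmp.HasRpushD f]
    (adj : SiteCmp.pullD f ⊣ SiteCmp.RpushD f)
    (A : ObjectProperty (ModSite.Mod O_C)) [WSerre.IsWeakSerre A]
    (A' : ObjectProperty (ModSite.Mod O_D)) [WSerre.IsWeakSerre A']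
    (h2a : ∀ F' : ModSite.Mod O_D, A' F' → A (f.pull.obj F'))
    (h2b : ∀ F' G' : ModSite.Mod O_D, A' F' → A' G' →
      Function.Bijective (fun φ : F' ⟶ G' => f.pull.map φ))
    (h2c : ∀ F : ModSite.Mod O_C, A F → ∃ F' : ModSite.Mod O_D, A' F' ∧ Nonempty (f.pull.obj F' ≅ F))
    (h3 : ∀ F' : ModSite.Mod O_D, A' F' → IsIso (adj.unit.app (SiteCmp.inD O_D F'))) :
    (∀ Y : DerivedCategory (ModSite.Mod O_D), WSerre.cohInPlus A' Y →
      WSerre.cohInPlus A ((SiteCmp.pullD f).obj Y) ∧ IsIso (adj.unit.app Y)) ∧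
    (∀ X : DerivedCategory (ModSite.Mod O_C), WSerre.cohInPlus A X →
      WSerre.cohInPlus A' ((SiteCmp.RpushD f).obj X) ∧ IsIso (adj.counit.app X)) := by
  open Groth.Agent.WayOut in
  letI := adj.rightAdjointCommShift ℤ
  haveI := adj.commShift_of_leftAdjoint ℤ
  haveI := adj.isTriangulated_rightAdjoint
  let L := SiteCmp.pullD f
  have hsingle : ∀ F' : ModSite.Mod O_D,
      Nonempty (L.obj (SiteCmp.inD O_D F') ≅ SiteCmp.inD O_C (f.pull.obj F')) :=
    fun F' => ⟨(f.pull.mapDerivedCategorySingleFunctor 0).app F'⟩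
  have hbase : ∀ F, A F → WSerre.cohIn A' ((SiteCmp.RpushD f).obj (SiteCmp.inD O_C F)) ∧
      IsIso (adj.counit.app (SiteCmp.inD O_C F)) := by
    intro F hF
    obtain ⟨F', hF', ⟨e⟩⟩ := h2c F hF
    obtain ⟨e'⟩ := hsingle F'
    let e'' : L.obj (SiteCmp.inD O_D F') ≅ SiteCmp.inD O_C F := e' ≪≫ (DerivedCategory.singleFunctor _ 0).mapIso e
    haveI := h3 F' hF'
    refine ⟨cohIn_of_iso A' (asIso (adj.unit.app (SiteCmp.inD O_D F')) ≪≫ (SiteCmp.RpushD f).mapIso e'')
      (cohIn_single A' hF' 0), ?_⟩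
    rw [← NatTrans.isIso_app_iff_of_iso adj.counit e'']
    haveI : IsIso (L.map (adj.unit.app (SiteCmp.inD O_D F'))) := inferInstance
    haveI : IsIso (L.map (adj.unit.app (SiteCmp.inD O_D F')) ≫ adj.counit.app (L.obj (SiteCmp.inD O_D F'))) := by
      erw [adj.left_triangle_components]; infer_instance
    exact IsIso.of_isIso_comp_left (L.map (adj.unit.app (SiteCmp.inD O_D F'))) _
  refine ⟨fun Y hY => ?_, fun X hX => ?_⟩
  · obtain ⟨hYA, n₀, hn₀⟩ := hY
    haveI hn₀' : Y.IsGE n₀ := hn₀
    refine ⟨⟨fun i => A.prop_of_iso ((mapDerivedHomologyIso f.pull i).app Y).symm (h2a _ (hYA i)), n₀, ?_⟩,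
      isIso_unit_of_isGE f.pull adj Y n₀ hn₀' fun q => h3 _ (hYA q)⟩
    exact isGE_mapDerivedCategory f.pull Y n₀
  · obtain ⟨hXA, n₀, hn₀⟩ := hX
    haveI hn₀' : X.IsGE n₀ := hn₀
    refine ⟨⟨cohIn_obj_of_isGE A' A (SiteCmp.RpushD f) (fun Z m _ => isGE_rightAdjoint f.pull adj Z m)
        (fun M hM => (hbase M hM).1) X n₀ hn₀' hXA, n₀, isGE_rightAdjoint f.pull adj X n₀⟩,
      isIso_counit_of_isGE f.pull adj X n₀ hn₀' fun q => (hbase _ (hXA q)).2⟩

end Groth.Agent.S9069
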