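import Groth.Statements.S1359
import Groth.Agent.Lib.InfSmooth4.Local

set_option autoImplicit false
universe u
open FlatMor

namespace Groth.Agent.S1359

open AlgebraicGeometry CategoryTheory Limits in
/-- Let S be locally Noetherian, f : X → S of finite type, and Z the closed subscheme of S cut out by an
ideal sheaf I, with infinitesimal neighbourhoods cut out by the powers of I. If the base change of f
to every infinitesimal neighbourhood is smooth, then every point of X lying over Z is in the smooth
locus of f. -/
theorem result {X S : Scheme.{u}} (f : X ⟶ S) [IsLocallyNoetherian S] [LocallyOfFinitePresentation f] [QuasiCompact f]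
    (I : S.IdealSheafData) (h : ∀ n : ℕ, Smooth (pullback.snd f (I ^ (n + 1)).subschemeι)) (x : X) (hx : f x ∈ I.support) :
    x ∈ f.smoothLocus := by
  obtain ⟨_, ⟨U, hU, rfl⟩, hxU, -⟩ :=
    S.isBasis_affineOpens.exists_subset_of_mem_open (Set.mem_univ (f x)) isOpen_univ
  obtain ⟨_, ⟨V, hV, rfl⟩, hxV, hVU⟩ :=
    X.isBasis_affineOpens.exists_subset_of_mem_open hxU (U.2.preimage f.continuous)
  have hfp := f.finitePresentation_appLE hU hV hVU
  algebraize [(f.appLE U V hVU).hom]
  haveI : IsNoetherianRing Γ(S, U) := IsLocallyNoetherian.component_noetherian ⟨U, hU⟩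
  rw [Scheme.Hom.mem_smoothLocus, formallySmooth_stalkMap_iff U hU V hV hVU hxV]
  exact Groth.Agent.InfSmooth4.isSmoothAt_of_forall (I.ideal ⟨U, hU⟩) _
    (Groth.Agent.InfSmooth4.map_ideal_le_primeIdealOf f I ⟨U, hU⟩ hV hVU hxV hx)
    (Groth.Agent.InfSmooth4.smooth_tensor_quotient f I ⟨U, hU⟩ hV hVU h)

end Groth.Agent.S1359
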