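import Groth.Statements.S1877
import Groth.Agent.Lib.FinQuot.Scheme

set_option autoImplicit false
universe u
open CategoryTheory CategoryTheory.Limits AlgebraicGeometry
open Grpd

set_option backward.isDefEq.respectTransparency.types false

namespace Groth.Agent.S1877

/-- Let (U, R, s, t, c) be a groupoid scheme over S with U and R affine, s and t finite locally free,
and j = (t, s) : R → U ×_S U a monomorphism (so an equivalence relation). Then U → M = Spec C is
finite locally free and (t, s) identifies R with U ×_M U. (The source's final clause, that M is the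
fppf quotient sheaf U/R, is not restated.) (A groupoid scheme carries U, R, s, t, c, e, i over S
with the groupoid axioms on T-points; 'finite locally free' is finite, flat and locally of finite
presentation; C ⊂ Γ(U) is the ring of functions a with s♯(a) = t♯(a) and M = Spec C.) -/
theorem result (S : Scheme.{u}) (G : Grpd.GroupoidScheme S) [IsAffine G.U] [IsAffine G.R] [IsFinite G.s] [Flat G.s] [LocallyOfFinitePresentation G.s] [IsFinite G.t] [Flat G.t] [LocallyOfFinitePresentation G.t] [Mono G.j] : (IsFinite G.toQuot ∧ Flat G.toQuot ∧ LocallyOfFinitePresentation G.toQuot) ∧ ∃ φ : G.R ≅ pullback G.toQuot G.toQuot, φ.hom ≫ pullback.fst G.toQuot G.toQuot = G.t ∧ φ.hom ≫ pullback.snd G.toQuot G.toQuot = G.s := by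
  have h : Groth.Agent.FinQuot.SchEqv G.s G.t := by
    refine ⟨fun {T} a b e₁ e₂ => ?_, ⟨G.e, G.e_s, G.e_t⟩, ⟨G.i, G.i_s, G.i_t⟩, fun {T} a b e => ?_⟩
    · refine (cancel_mono G.j).1 (pullback.hom_ext ?_ ?_)
      · simpa only [Category.assoc, Grpd.GroupoidScheme.j, pullback.lift_fst, pullback.lift_snd] using e₂
      · simpa only [Category.assoc, Grpd.GroupoidScheme.j, pullback.lift_fst, pullback.lift_snd] using e₁
    · exact ⟨pullback.lift b a e.symm ≫ G.c, G.comp_s b a e.symm, G.comp_t b a e.symm⟩
  obtain ⟨h1, h2, h3, -, h5⟩ := h.quotient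
  exact ⟨⟨h1, h2, h3⟩, h5.flip.isoPullback, h5.flip.isoPullback_hom_fst, h5.flip.isoPullback_hom_snd⟩

end Groth.Agent.S1877
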