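import Groth.Statements.S6007
import Groth.Agent.Lib.DiagGL.Chars
import Groth.Agent.Lib.TorsorSch25.ExactPts

set_option autoImplicit false
universe u
open CategoryTheory AlgebraicGeometry MonoidalCategory CartesianMonoidalCategory MonObj GrpObj
open SGA1t

namespace Groth.Agent.S6007

noncomputable abbrev toZ (S : Scheme.{u}) := Limits.IsTerminal.from specULiftZIsTerminal S

theorem ch_diagMap {M N : Type} [AddCommGroup M] [AddCommGroup N] (φ : M →+ N)
    {T : Over (Spec (CommRingCat.of (ULift.{u} ℤ)))} (x : T ⟶ Red.diag (ULift.{u} ℤ) N) (a : Multiplicative M) :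
    (DiagGL.charsDiag (ULift.{u} ℤ) M).ch (x ≫ Red.diagMap (ULift.{u} ℤ) φ) a =
      (DiagGL.charsDiag (ULift.{u} ℤ) N).ch x (AddMonoidHom.toMultiplicative φ a) := by
  show ((Scheme.ΓSpecIso (CommRingCat.of (MonoidAlgebra (ULift.{u} ℤ) (Multiplicative M)))).inv ≫
    (x.left ≫ Spec.map (CommRingCat.ofHom
      (MonoidAlgebra.mapDomainAlgHom (ULift.{u} ℤ) (ULift.{u} ℤ) (AddMonoidHom.toMultiplicative φ)).toRingHom)).appTop).hom
      (MonoidAlgebra.of _ _ a) = _
  rw [Scheme.Hom.comp_appTop]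
  erw [← Category.assoc, ← Scheme.ΓSpecIso_inv_naturality, Category.assoc]
  show ((Scheme.ΓSpecIso _).inv ≫ x.left.appTop).hom
    ((MonoidAlgebra.mapDomainAlgHom (ULift.{u} ℤ) (ULift.{u} ℤ) (AddMonoidHom.toMultiplicative φ))
      (MonoidAlgebra.of _ _ a)) = _
  simp only [MonoidAlgebra.of_apply, MonoidAlgebra.mapDomainAlgHom_apply, MonoidAlgebra.mapDomain_single]
  rfl

theorem ch_DSmap {S : Scheme.{u}} {M N : Type} [AddCommGroup M] [AddCommGroup N] (φ : M →+ N) {T : Over S}
    (x : T ⟶ Red.DS S N) (a : Multiplicative M) :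
    (DiagGL.charsDS S M).ch (x ≫ Red.DSmap S φ) a = (DiagGL.charsDS S N).ch x (AddMonoidHom.toMultiplicative φ a) := by
  show (DiagGL.charsDiag (ULift.{u} ℤ) M).ch (DiagGL.fl _ _ (x ≫ (Over.pullback _).map (Red.diagMap _ φ))) a = _
  rw [DiagGL.fl_comp_map]
  exact ch_diagMap φ _ a

theorem isMonHom_DSmap {S : Scheme.{u}} {M N : Type} [AddCommGroup M] [AddCommGroup N] (φ : M →+ N) :
    IsMonHom (Red.DSmap S φ) :=
  TorsorSch25.isMonHom_of_points _ fun T x y => (DiagGL.charsDS S M).inj fun a => by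
    rw [(DiagGL.charsDS S M).mul, ch_DSmap, ch_DSmap, ch_DSmap, (DiagGL.charsDS S N).mul]

theorem bijective_powers {R : Type*} [CommRing R] (n : ℕ) (hn : 0 < n) :
    Function.Bijective (fun f : Fin n → MonoidAlgebra R (Multiplicative ℤ) => ∑ i : Fin n,
      MonoidAlgebra.mapDomainAlgHom R R (AddMonoidHom.toMultiplicative (zmultiplesHom ℤ (n : ℤ))) (f i) *
        MonoidAlgebra.single (Multiplicative.ofAdd (i : ℤ)) (1 : R)) := by
  classical
  let ψ := MonoidAlgebra.mapDomainAlgHom R R (AddMonoidHom.toMultiplicative (zmultiplesHom ℤ (n : ℤ)))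
  let L : (Fin n → MonoidAlgebra R (Multiplicative ℤ)) →+ MonoidAlgebra R (Multiplicative ℤ) :=
    AddMonoidHom.mk' (fun f => ∑ i : Fin n, ψ (f i) * MonoidAlgebra.single (Multiplicative.ofAdd (i : ℤ)) (1 : R))
      (fun f g => by simp [add_mul, Finset.sum_add_distrib])
  have hn' : (n : ℤ) ≠ 0 := by omega
  let idx : Multiplicative ℤ → Fin n := fun k => ⟨(k.toAdd % n).toNat, by
    have := Int.emod_lt_of_pos k.toAdd (show (0 : ℤ) < n by omega)
    omega⟩
  have hsurj : Function.Surjective L := by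
    intro w
    induction w using MonoidAlgebra.induction_on with
    | of k =>
      refine ⟨Pi.single (idx k) (MonoidAlgebra.single (Multiplicative.ofAdd (k.toAdd / n)) 1), ?_⟩
      show ∑ i : Fin n, _ = _
      rw [Finset.sum_eq_single (idx k) (fun i _ hi => by rw [Pi.single_eq_of_ne hi, map_zero, zero_mul]) (by simp),
        Pi.single_eq_same]
      simp only [ψ, MonoidAlgebra.mapDomainAlgHom_apply, MonoidAlgebra.mapDomain_single, MonoidAlgebra.single_mul_single,
        _root_.mul_one, MonoidAlgebra.of_apply]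
      congr 1
      apply Multiplicative.toAdd.injective
      show (k.toAdd / n) • (n : ℤ) + ((k.toAdd % n).toNat : ℤ) = k.toAdd
      rw [Int.toNat_of_nonneg (Int.emod_nonneg _ hn'), smul_eq_mul]
      exact Int.ediv_mul_add_emod _ _
    | add f g hf hg =>
      obtain ⟨f, rfl⟩ := hf
      obtain ⟨g, rfl⟩ := hg
      exact ⟨f + g, map_add L f g⟩
    | smul r f hf =>
      obtain ⟨f, rfl⟩ := hf
      refine ⟨r • f, ?_⟩
      show ∑ i : Fin n, _ = r • ∑ i : Fin n, _
      simp [Finset.smul_sum]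
  refine ⟨?_, hsurj⟩
  have hinj : Function.Injective (AddMonoidHom.toMultiplicative (zmultiplesHom ℤ (n : ℤ))) := by
    intro p q h
    have h' : p.toAdd • (n : ℤ) = q.toAdd • (n : ℤ) := congrArg Multiplicative.toAdd h
    simp only [smul_eq_mul] at h'
    exact Multiplicative.toAdd.injective (mul_right_cancel₀ hn' h')
  intro f g hfg
  funext j
  ext m
  have key : ∀ f : Fin n → MonoidAlgebra R (Multiplicative ℤ),
      (∑ i : Fin n, ψ (f i) * MonoidAlgebra.single (Multiplicative.ofAdd (i : ℤ)) (1 : R)).coeff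
        (AddMonoidHom.toMultiplicative (zmultiplesHom ℤ (n : ℤ)) m * Multiplicative.ofAdd (j : ℤ)) = (f j).coeff m := by
    intro f
    rw [MonoidAlgebra.coeff_sum, Finset.sum_apply']
    rw [Finset.sum_eq_single j]
    · rw [MonoidAlgebra.coeff_mul_single_apply, mul_inv_cancel_right, _root_.mul_one]
      exact Finsupp.mapDomain_apply hinj _ _
    · intro i _ hij
      rw [MonoidAlgebra.coeff_mul_single_apply, _root_.mul_one]
      refine Finsupp.mapDomain_notin_range _ _ ?_
      rintro ⟨q, hq⟩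
      apply hij
      have h' : q.toAdd • (n : ℤ) = m.toAdd • (n : ℤ) + (j : ℤ) + -(i : ℤ) := congrArg Multiplicative.toAdd hq
      simp only [smul_eq_mul] at h'
      apply Fin.ext
      have hi := i.2
      have hj := j.2
      have h2 : ((j : ℤ) - (i : ℤ)) = (q.toAdd - m.toAdd) * n := by linarith
      have h3 : |(j : ℤ) - (i : ℤ)| < n := by rw [abs_lt]; omega
      have h4 : q.toAdd - m.toAdd = 0 := by
        by_contra hne
        rw [h2, abs_mul] at h3
        have : (1 : ℤ) ≤ |q.toAdd - m.toAdd| := Int.one_le_abs hne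
        have hnn : |(n : ℤ)| = n := abs_of_nonneg (by omega)
        rw [hnn] at h3
        nlinarith
      rw [h4, zero_mul] at h2
      omega
    · simp
  rw [← key f, ← key g]
  exact DFunLike.congr_fun (congrArg MonoidAlgebra.coeff hfg) _

theorem faithfullyFlat_of_basis {A B : Type*} [CommRing A] [CommRing B] (f : A →+* B) (n : ℕ) (hn : 0 < n)
    (b : Fin n → B) (h : Function.Bijective (fun g : Fin n → A => ∑ i : Fin n, f (g i) * b i)) : f.FaithfullyFlat := by
  letI := f.toAlgebra
  let L : (Fin n → A) →ₗ[A] B :=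
    { toFun := fun g => ∑ i : Fin n, f (g i) * b i
      map_add' := fun g h => by simp [add_mul, Finset.sum_add_distrib]
      map_smul' := fun c g => by simp [Finset.mul_sum, Algebra.smul_def, RingHom.algebraMap_toAlgebra, mul_assoc]; exact Finset.sum_congr rfl fun _ _ => mul_assoc _ _ _ }
  haveI : Nonempty (Fin n) := ⟨⟨0, hn⟩⟩
  have : Module.FaithfullyFlat A B := Module.FaithfullyFlat.of_linearEquiv _ _
    ((LinearEquiv.ofBijective L h).symm ≪≫ₗ (Finsupp.linearEquivFunOnFinite A A (Fin n)).symm)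
  exact this

theorem surjective_specMap {A B : Type u} [CommRing A] [CommRing B] (f : A →+* B) (h : f.FaithfullyFlat) :
    Surjective (Spec.map (CommRingCat.ofHom f)) := by
  constructor
  letI := f.toAlgebra
  haveI : Module.FaithfullyFlat A B := h
  exact PrimeSpectrum.comap_surjective_of_faithfullyFlat (A := A) (B := B)

/-- For a scheme S and an integer n ≥ 1 the Kummer sequence 1 → μ_n → G_m → G_m → 1 over S is exact for
the fpqc topology. Here G_m = D_S(Z), μ_n = D_S(Z/n) mapped into G_m by the diagonalisable-group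
morphism induced by Z → Z/n, and G_m → G_m is the n-th power map, the character of D_S(Z) attached
to n; exactness means that both maps are homomorphisms with trivial composite, that (g, z) ↦ (g, gz)
identifies G_m ×_S μ_n with the fibre product of the n-th power map with itself, and that the n-th
power map acquires sections on the members of some fpqc covering family of its target. -/
theorem result {S : Scheme.{u}} (n : ℕ) (hn : 0 < n) :
    NonAbH1.IsExactSeq Scheme.fpqcPrecoverage
      (Red.DSmap S (Int.castAddHom (ZMod n))) (Red.chi S (n : ℤ)) := by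
  haveI := isMonHom_DSmap (S := S) (Int.castAddHom (ZMod n))
  haveI : IsMonHom (Red.chi S (n : ℤ)) := isMonHom_DSmap _
  let C := DiagGL.charsDS S ℤ
  let D := DiagGL.charsDS S (ZMod n)
  let ψ := AddMonoidHom.toMultiplicative (zmultiplesHom ℤ (n : ℤ))
  let π := AddMonoidHom.toMultiplicative (Int.castAddHom (ZMod n))
  have hπψ : ∀ a, π (ψ a) = 1 := fun a => by
    show Multiplicative.ofAdd (((a.toAdd • (n : ℤ) : ℤ) : ZMod n)) = 1
    simp
  have hψpow : ∀ a : Multiplicative ℤ, ψ a = a ^ n := fun a => by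
    apply Multiplicative.toAdd.injective
    rw [toAdd_pow]
    show a.toAdd • (n : ℤ) = n • a.toAdd
    simp [mul_comm]
  have huv : Red.DSmap S (Int.castAddHom (ZMod n)) ≫ Red.chi S (n : ℤ) = 1 := C.inj fun a => by
    rw [DiagGL.Chars.one, Red.chi, ch_DSmap]
    erw [← Category.id_comp (Red.DSmap S (Int.castAddHom (ZMod n))), ch_DSmap, hπψ, map_one]
  have hflat : Flat (Red.chi S (n : ℤ)).left ∧ Surjective (Red.chi S (n : ℤ)).left ∧
      QuasiCompact (Red.chi S (n : ℤ)).left := by
    let f := Spec.map (CommRingCat.ofHom (MonoidAlgebra.mapDomainAlgHom (ULift.{u} ℤ) (ULift.{u} ℤ) ψ).toRingHom)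
    let A := MonoidAlgebra (ULift.{u} ℤ) (Multiplicative ℤ)
    have hflat : (MonoidAlgebra.mapDomainAlgHom (ULift.{u} ℤ) (ULift.{u} ℤ) ψ).toRingHom.FaithfullyFlat :=
      faithfullyFlat_of_basis _ n hn _ (bijective_powers n hn)
    haveI : Flat f := HasRingHomProperty.Spec_iff.2 hflat.flat
    haveI : Surjective f := surjective_specMap _ hflat
    haveI : QuasiCompact f := inferInstanceAs (QuasiCompact (Spec.map _))
    have hpb : IsPullback (Red.chi S (n : ℤ)).left (Limits.pullback.fst (Red.diag (ULift.{u} ℤ) ℤ).hom (toZ S))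
        (Limits.pullback.fst (Red.diag (ULift.{u} ℤ) ℤ).hom (toZ S)) f := by
      have hw : f ≫ (Red.diag (ULift.{u} ℤ) ℤ).hom = (Red.diag (ULift.{u} ℤ) ℤ).hom :=
        Over.w (Red.diagMap (ULift.{u} ℤ) (zmultiplesHom ℤ (n : ℤ)))
      have hsnd : (Red.chi S (n : ℤ)).left ≫ Limits.pullback.snd (Red.diag (ULift.{u} ℤ) ℤ).hom (toZ S) =
          Limits.pullback.snd (Red.diag (ULift.{u} ℤ) ℤ).hom (toZ S) := Over.w (Red.chi S (n : ℤ))
      refine (IsPullback.of_bot (h₁₁ := Limits.pullback.fst _ _) (v₁₁ := (Red.chi S (n : ℤ)).left) (v₁₂ := f) ?_ ?_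
        (IsPullback.of_hasPullback (Red.diag (ULift.{u} ℤ) ℤ).hom (toZ S))).flip
      · erw [hw, hsnd]
        exact IsPullback.of_hasPullback _ _
      · exact (Limits.pullback.lift_fst _ _ _).symm
    exact ⟨MorphismProperty.of_isPullback hpb.flip ‹_›,
      MorphismProperty.of_isPullback hpb.flip ‹_›,
      MorphismProperty.of_isPullback hpb.flip ‹_›⟩
  haveI := hflat.1; haveI := hflat.2.1; haveI := hflat.2.2
  refine TorsorSch25.isExactSeq_of_points _ _ huv fun T x y hxy => ?_
  have hpow : ∀ a, C.ch x a ^ n = C.ch y a ^ n := fun a => by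
    rw [← map_pow, ← map_pow, ← hψpow]
    have := congrArg (fun z => C.ch z a) hxy
    simp only [C, Red.chi, ch_DSmap] at this
    exact this
  let z := x⁻¹ * y
  have hz : ∀ a, C.ch z a ^ n = 1 := fun a => by
    have h1 : C.ch x a * C.ch z a = C.ch y a := by rw [← C.mul, mul_inv_cancel_left]
    have hu : IsUnit (C.ch x a ^ n) := ((Group.isUnit a).map (C.ch x)).pow n
    refine hu.mul_left_cancel ?_
    rw [← mul_pow, h1, _root_.mul_one, hpow]
  have hu1 : IsUnit (C.ch z (Multiplicative.ofAdd 1)) := (Group.isUnit _).map (C.ch z)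
  let w : (Γ(T.left, ⊤))ˣ := hu1.unit
  have hw : (w : Γ(T.left, ⊤)ˣ) ^ n = 1 := Units.ext (by simpa [w] using hz (Multiplicative.ofAdd 1))
  let c : ZMod n →+ Additive (Γ(T.left, ⊤))ˣ := ZMod.lift n ⟨zmultiplesHom _ (Additive.ofMul w), by
    show (n : ℤ) • Additive.ofMul w = 0
    rw [natCast_zsmul, ← ofMul_pow, hw, ofMul_one]⟩
  obtain ⟨k, hk⟩ := D.surj ((Units.coeHom _).comp (AddMonoidHom.toMultiplicativeLeft c))
  have hkz : k ≫ Red.DSmap S (Int.castAddHom (ZMod n)) = z := C.inj fun a => by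
    rw [ch_DSmap]
    change D.ch k (π a) = _
    rw [hk]
    obtain ⟨m, hm'⟩ : ∃ m : ℤ, a = Multiplicative.ofAdd m := ⟨a.toAdd, rfl⟩
    rw [hm']
    show ((c ((m : ℤ) : ZMod n)).toMul : (Γ(T.left, ⊤))ˣ).1 = C.ch z (Multiplicative.ofAdd m)
    simp only [c, ZMod.lift_coe, zmultiplesHom_apply, toMul_zsmul, toMul_ofMul]
    let χ : Multiplicative ℤ →* (Γ(T.left, ⊤))ˣ := (C.ch z).toHomUnits
    have hχ : χ (Multiplicative.ofAdd m) = w ^ m := by
      rw [show Multiplicative.ofAdd m = (Multiplicative.ofAdd (1 : ℤ)) ^ m by simp [← ofAdd_zsmul], map_zpow]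
      congr 1
      exact Units.ext rfl
    rw [← hχ]
    rfl
  refine ⟨k, by show x * _ = y; rw [hkz, mul_inv_cancel_left], fun k' hk' => D.inj fun b => ?_⟩
  have hk'z : k' ≫ Red.DSmap S (Int.castAddHom (ZMod n)) = k ≫ Red.DSmap S (Int.castAddHom (ZMod n)) := by
    rw [hkz]
    exact (inv_mul_eq_of_eq_mul hk'.symm).symm
  obtain ⟨m, hm⟩ := ZMod.intCast_surjective b.toAdd
  have hb : b = π (Multiplicative.ofAdd m) := Multiplicative.toAdd.injective hm.symm
  rw [hb]
  have := congrArg (fun q => C.ch q (Multiplicative.ofAdd m)) hk'z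
  simp only [C, ch_DSmap] at this
  exact this

end Groth.Agent.S6007
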