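import Groth.Statements.S12213
import Groth.Agent.S6007
import Mathlib.RingTheory.Finiteness.ModuleFinitePresentation

set_option autoImplicit false
universe u
open CategoryTheory AlgebraicGeometry MonoidalCategory CartesianMonoidalCategory MonObj GrpObj
open EtCoh

namespace Groth.Agent.S12213

theorem finitePresentation_of_basis {A B : Type*} [CommRing A] [CommRing B] (f : A →+* B) (n : ℕ)
    (b : Fin n → B) (h : Function.Bijective (fun g : Fin n → A => ∑ i : Fin n, f (g i) * b i)) :
    f.FinitePresentation := by
  letI := f.toAlgebra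
  let L : (Fin n → A) →ₗ[A] B :=
    { toFun := fun g => ∑ i : Fin n, f (g i) * b i
      map_add' := fun g h => by simp [add_mul, Finset.sum_add_distrib]
      map_smul' := fun c g => by simp [Finset.mul_sum, Algebra.smul_def, RingHom.algebraMap_toAlgebra, mul_assoc]; exact Finset.sum_congr rfl fun _ _ => mul_assoc _ _ _ }
  haveI : Module.Finite A B := Module.Finite.equiv (LinearEquiv.ofBijective L h)
  haveI : Module.Free A B := Module.Free.of_equiv (LinearEquiv.ofBijective L h)
  haveI : Module.FinitePresentation A B := Module.finitePresentation_of_projective A B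
  have : Algebra.FinitePresentation A B := inferInstance
  exact this

open Groth.Agent.S6007 in
theorem chi_left_fppf {S : Scheme.{u}} (n : ℕ) (hn : 0 < n) :
    Flat (Red.chi S (n : ℤ)).left ∧ LocallyOfFinitePresentation (Red.chi S (n : ℤ)).left ∧
      Surjective (Red.chi S (n : ℤ)).left := by
    let ψ := AddMonoidHom.toMultiplicative (zmultiplesHom ℤ (n : ℤ))
    let f := Spec.map (CommRingCat.ofHom (MonoidAlgebra.mapDomainAlgHom (ULift.{u} ℤ) (ULift.{u} ℤ) ψ).toRingHom)
    have hflat : (MonoidAlgebra.mapDomainAlgHom (ULift.{u} ℤ) (ULift.{u} ℤ) ψ).toRingHom.FaithfullyFlat :=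
      faithfullyFlat_of_basis _ n hn _ (bijective_powers n hn)
    haveI : Flat f := HasRingHomProperty.Spec_iff.2 hflat.flat
    haveI : Surjective f := surjective_specMap _ hflat
    haveI : LocallyOfFinitePresentation f :=
      HasRingHomProperty.Spec_iff.2 (finitePresentation_of_basis _ n _ (bijective_powers n hn))
    have hpb : IsPullback (Red.chi S (n : ℤ)).left (Limits.pullback.fst (Red.diag (ULift.{u} ℤ) ℤ).hom (toZ S))
        (Limits.pullback.fst (Red.diag (ULift.{u} ℤ) ℤ).hom (toZ S)) f := by
      have hw : f ≫ (Red.diag (ULift.{u} ℤ) ℤ).hom = (Red.diag (ULift.{u} ℤ) ℤ).hom :=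
        Over.w (Red.diagMap (ULift.{u} ℤ) (zmultiplesHom ℤ (n : ℤ)))
      have hsnd : (Red.chi S (n : ℤ)).left ≫ Limits.pullback.snd (Red.diag (ULift.{u} ℤ) ℤ).hom (toZ S) =
          Limits.pullback.snd (Red.diag (ULift.{u} ℤ) ℤ).hom (toZ S) := Over.w (Red.chi S (n : ℤ))
      refine (IsPullback.of_bot (h₁₁ := Limits.pullback.fst _ _) (v₁₁ := (Red.chi S (n : ℤ)).left) (v₁₂ := f) ?_ ?_
        (IsPullback.of_hasPullback (Red.diag (ULift.{u} ℤ) ℤ).hom (toZ S))).flip
      · erw [hw, hsnd]
        exact IsPullback.of_hasPullback _ _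
      · exact (Limits.pullback.lift_fst _ _ _).symm
    exact ⟨MorphismProperty.of_isPullback hpb.flip ‹_›,
      MorphismProperty.of_isPullback hpb.flip ‹_›,
      MorphismProperty.of_isPullback hpb.flip ‹_›⟩

/-- For a scheme S and an integer n ≥ 1 the Kummer sequence 1 → μ_n → G_m → G_m → 1 over S, the last map
being the n-th power, is a short exact sequence for the fppf topology. Here G_m = D_S(ℤ), μ_n =
D_S(ℤ/n) mapped into G_m by the morphism of diagonalisable groups induced by ℤ → ℤ/n, and exactness
means: both maps are homomorphisms with trivial composite, (g, z) ↦ (g, gz) identifies G_m ×_S μ_n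
with the fibre product of the n-th power map with itself, and the n-th power map acquires sections
on the members of some fppf covering family of its target. (For n = 0 the sequence is not exact; n ≥
1 is assumed.) -/
theorem result {S : Scheme.{u}} (n : ℕ) (hn : 0 < n) :
    NonAbH1.IsExactSeq Scheme.fppfPrecoverage
      (Red.DSmap S (Int.castAddHom (ZMod n))) (Red.chi S (n : ℤ)) := by
  obtain ⟨h1, h2, h3, h4, -⟩ := Groth.Agent.S6007.result (S := S) n hn
  obtain ⟨hf, hp, hs⟩ := chi_left_fppf (S := S) n hn
  refine ⟨h1, h2, h3, h4, Presieve.singleton (Red.chi S (n : ℤ)).left, ?_, fun S' f hf' => ?_⟩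
  · rw [Scheme.fppfPrecoverage, Scheme.singleton_mem_precoverage_iff]
    exact ⟨hs.surj, hf, hp⟩
  · obtain ⟨⟩ := hf'
    exact ⟨𝟙 _, Category.id_comp _⟩

end Groth.Agent.S12213
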