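import Groth.Statements.S10621
import Groth.Agent.Lib.AlgSpDescent.FormallyLift
-- import your own Groth.Agent.* helpers here

set_option autoImplicit false
universe u
open CategoryTheory CategoryTheory.Limits AlgebraicGeometry
open AlgSp

namespace Groth.Agent.S10621

/-- For a morphism f : X ⟶ Y of algebraic spaces over S, these conditions are equivalent: f is formally
unramified (lifting along square-zero thickenings of affine schemes); for every scheme U with a
representable etale U ⟶ X, every scheme V with a representable etale V ⟶ Y and every compatible U ⟶
V, the morphism of schemes U ⟶ V is formally unramified; and this holds as soon as it holds for one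
such diagram in which both charts are moreover surjective. Formal unramifiedness of a morphism of
schemes is Mathlib's FormallyUnramified (formally unramified ring maps on affine opens, no
finite-type condition), which agrees with the lifting definition used here. -/
theorem result {S : Scheme.{u}} {X Y : AlgSp.Space S} (f : X ⟶ Y) :
    (AlgSp.IsFormallyUnramifiedMor f.hom ↔ AlgSp.LocP @FormallyUnramified f.hom) ∧
    (∀ (U V : Over S) (a : (AlgSp.yon S).obj U ⟶ X.obj) (b : (AlgSp.yon S).obj V ⟶ Y.obj) (h : U ⟶ V),
      AlgSp.RepWith @Etale a → AlgSp.RepWith @Surjective a → AlgSp.RepWith @Etale b → AlgSp.RepWith @Surjective b →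
      a ≫ f.hom = (AlgSp.yon S).map h ≫ b → FormallyUnramified h.left → AlgSp.IsFormallyUnramifiedMor f.hom) := by
  exact ⟨Groth.Agent.AlgSpDescent.isFormallyUnramifiedMor_iff_locP X.property Y.property f.hom,
    fun U V a b h ha ha' hb _ w hh => Groth.Agent.AlgSpDescent.formallyUnramified_of_chart ha hb w ha' hh⟩

end Groth.Agent.S10621
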