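import Groth.Statements.S4450
import Mathlib
import Groth.Agent.Lib.DVRVal.Basic

set_option autoImplicit false
universe u
open CategoryTheory CategoryTheory.Limits AlgebraicGeometry
open EGA2

namespace Groth.Agent.S4450

/-- Let Y be a locally Noetherian scheme, p : X ⟶ Y a morphism locally of finite type, x a point of X, y
= p(x) and y' a specialization of y distinct from y. Then there are a discrete valuation ring A with
field of fractions the residue field k(x) and a morphism Spec A ⟶ Y mapping the closed point to y'
and restricting on Spec k(x) to the canonical morphism Spec k(x) ⟶ X ⟶ Y (so the generic point goes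
to y, and the rational map from Spec A to X so defined induces the identity of k(x)). -/
theorem result {X Y : Scheme.{u}} [IsLocallyNoetherian Y]
    (p : X ⟶ Y) [LocallyOfFiniteType p] (x : X) (y' : Y) (hsp : p.base x ⤳ y') (hne : y' ≠ p.base x) :
    ∃ (A : ValuationSubring (X.residueField x)) (h : Spec (CommRingCat.of A) ⟶ Y), IsDiscreteValuationRing A ∧
      h.base (IsLocalRing.closedPoint A) = y' ∧
      Spec.map (CommRingCat.ofHom A.subtype) ≫ h = X.fromSpecResidueField x ≫ p := by
  exact DVRVal.exists_dvr_specializes p x y' hsp hne

end Groth.Agent.S4450
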