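import Groth.Statements.S5329
import Groth.Agent.Lib.GrpNeutral20.Gen
import Groth.Agent.Lib.FibDim14.Compact
import Mathlib.Topology.Semicontinuity.Basic

set_option autoImplicit false
universe u
open CategoryTheory CategoryTheory.Limits MonoidalCategory CartesianMonoidalCategory MonObj GrpObj AlgebraicGeometry
open SGA3

namespace Groth.Agent.S5329

/-- Let G be an S-group scheme locally of finite type over S. Then (i) s ↦ dim G_s is upper
semicontinuous on S; (ii) if G is locally of finite presentation over S, this function is locally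
constructible: every point of S has an open neighbourhood V on which it takes finitely many values
and on which each of its level sets is constructible. (The published statement is for an S-scheme
locally of finite type with a section ε such that dim G_s = dim_{ε(s)} G_s for all s; this row takes
the case of a group scheme, where that condition holds.) -/
theorem result (S : Scheme.{u}) (G : Over S) [GrpObj G] [LocallyOfFiniteType G.hom] :
    UpperSemicontinuous (fun s : S => topologicalKrullDim ↥(G.hom.base ⁻¹' {s})) ∧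
    (LocallyOfFinitePresentation G.hom → ∀ s : S, ∃ V : S.Opens, s ∈ V ∧
      ((fun t : S => topologicalKrullDim ↥(G.hom.base ⁻¹' {t})) '' (V : Set S)).Finite ∧
      ∀ d : WithBot ℕ∞, Topology.IsConstructible {t : V | topologicalKrullDim ↥(G.hom.base ⁻¹' {(t : S)}) = d}) := by
  have hd : ∀ x : G.left, topologicalKrullDim ↥(G.hom ⁻¹' {G.hom x}) = FlatMor.fibreDimAt G.hom x :=
    fun x => (GrpNeutral20.fibreDimAt_eq G x).symm
  have hs : ∀ s : S, topologicalKrullDim ↥(G.hom ⁻¹' {s}) = FlatMor.fibreDimAt G.hom (η[G].left s) := fun s => by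
    rw [← hd, GrpNeutral20.unit_over G s]
  have hn : ∀ s : S, ∃ n : ℕ, topologicalKrullDim ↥(G.hom ⁻¹' {s}) = (n : WithBot ℕ∞) := fun s => by
    obtain ⟨x', -, -, h, -⟩ := FibDim14.exists_fibreDimAt_eq G.hom (η[G].left s)
    exact ⟨_, (hs s).trans h⟩
  have hopen : ∀ n : ℕ, IsOpen {s : S | topologicalKrullDim ↥(G.hom ⁻¹' {s}) ≤ (n : WithBot ℕ∞)} := fun n => by
    simp only [hs]
    exact (FibDim14.isOpen_fibreDimAt_le G.hom n).preimage η[G].left.continuous
  refine ⟨upperSemicontinuous_iff_isOpen_preimage.2 fun y => isOpen_iff_forall_mem_open.2 fun s h => ?_, fun hlfp s => ?_⟩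
  · obtain ⟨n, hsn⟩ := hn s
    exact ⟨_, fun t ht => lt_of_le_of_lt (le_trans ht hsn.ge) h, hopen n, hsn.le⟩
  haveI := hlfp
  obtain ⟨V, hV, hsV, -⟩ := exists_isAffineOpen_mem_and_subset (X := S) (x := s) (U := ⊤) trivial
  haveI : IsAffine V.toScheme := hV
  let d : ↥V → WithBot ℕ∞ := fun t => topologicalKrullDim ↥(G.hom ⁻¹' {(t : S)})
  have hdopen : ∀ n : ℕ, IsOpen {t : ↥V | d t ≤ (n : WithBot ℕ∞)} := fun n =>
    (hopen n).preimage continuous_subtype_val
  -- a quasi-compact open around the unit section over `V`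
  have hK : IsCompact (η[G].left '' (V : Set S)) := hV.isCompact.image η[G].left.continuous
  choose W hW hxW hWV using fun x : η[G].left '' (V : Set S) => exists_isAffineOpen_mem_and_subset
    (X := G.left) (x := x.1) (U := G.hom ⁻¹ᵁ V) (by
      obtain ⟨t, ht, e⟩ := x.2
      show G.hom x.1 ∈ V
      rw [← e, GrpNeutral20.unit_over]; exact ht)
  obtain ⟨T, hT⟩ := hK.elim_finite_subcover (fun x => (W x : Set G.left)) (fun x => (W x).2)
    (fun x hx => Set.mem_iUnion.2 ⟨⟨x, hx⟩, hxW _⟩)
  let W₀ : Set G.left := ⋃ x ∈ T, (W x : Set G.left)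
  have hW₀ : IsCompact W₀ := T.isCompact_biUnion fun x _ => (hW x).isCompact
  have hW₀o : IsOpen W₀ := isOpen_biUnion fun x _ => (W x).2
  have hW₀V : ∀ x ∈ W₀, G.hom x ∈ V := fun x hx => by
    obtain ⟨i, -, hi⟩ := Set.mem_iUnion₂.1 hx
    exact hWV i hi
  have hc : ∀ n : ℕ, IsCompact {t : ↥V | d t ≤ (n : WithBot ℕ∞)} := fun n => by
    rw [Subtype.isCompact_iff]
    have e : Subtype.val '' {t : ↥V | d t ≤ (n : WithBot ℕ∞)} =
        G.hom '' (W₀ ∩ {x | FlatMor.fibreDimAt G.hom x ≤ (n : WithBot ℕ∞)}) := by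
      ext t
      constructor
      · rintro ⟨t, ht, rfl⟩
        refine ⟨η[G].left (t : S), ⟨hT ⟨_, t.2, rfl⟩, ?_⟩, GrpNeutral20.unit_over G _⟩
        show FlatMor.fibreDimAt G.hom _ ≤ _
        rw [← hs]; exact ht
      · rintro ⟨x, ⟨hx, hx'⟩, rfl⟩
        refine ⟨⟨G.hom x, hW₀V x hx⟩, ?_, rfl⟩
        show topologicalKrullDim ↥(G.hom ⁻¹' {G.hom x}) ≤ _
        rw [hd]; exact hx'
    rw [e]
    refine (?_ : IsCompact (W₀ ∩ {x | FlatMor.fibreDimAt G.hom x ≤ (n : WithBot ℕ∞)})).image G.hom.continuous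
    rw [Set.inter_comm]
    exact FibDim14.isRetrocompact_fibreDimAt_le G.hom n hW₀ hW₀o
  haveI : QuasiSeparatedSpace ↥V := inferInstanceAs (QuasiSeparatedSpace V.toScheme)
  haveI : CompactSpace ↥V := isCompact_iff_compactSpace.1 hV.isCompact
  obtain ⟨F, hF⟩ := isCompact_univ.elim_finite_subcover (fun n : ℕ => {t : ↥V | d t ≤ (n : WithBot ℕ∞)}) hdopen
    (fun t _ => by
      obtain ⟨n, hn⟩ := hn t
      exact Set.mem_iUnion.2 ⟨n, hn.le⟩)
  refine ⟨V, hsV, Set.Finite.subset ((Finset.range (F.sup id + 1)).finite_toSet.image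
    (fun m : ℕ => (m : WithBot ℕ∞))) ?_, fun e => ?_⟩
  · rintro _ ⟨t, ht, rfl⟩
    obtain ⟨m, hm⟩ := hn t
    obtain ⟨n, hnF, hmn⟩ := Set.mem_iUnion₂.1 (hF (Set.mem_univ (⟨t, ht⟩ : ↥V)))
    refine ⟨m, ?_, hm.symm⟩
    have hmn' : (m : WithBot ℕ∞) ≤ (n : WithBot ℕ∞) := hm.symm.trans_le hmn
    have h1 : m ≤ n := by exact_mod_cast hmn'
    have h2 : n ≤ F.sup id := Finset.le_sup (f := id) hnF
    simpa using (by omega : m < F.sup id + 1)
  · have hcons : ∀ n : ℕ, Topology.IsConstructible {t : ↥V | d t ≤ (n : WithBot ℕ∞)} := fun n =>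
      (hc n).isConstructible (hdopen n)
    by_cases hex : ∃ t : ↥V, d t = e
    · obtain ⟨t, ht⟩ := hex
      obtain ⟨m, hm⟩ := hn t
      have he : e = (m : WithBot ℕ∞) := ht.symm.trans hm
      rw [he]
      rcases m with _ | m
      · convert hcons 0 using 1
        ext t'
        obtain ⟨m', hm'⟩ := hn t'
        show d t' = _ ↔ d t' ≤ _
        rw [show d t' = (m' : WithBot ℕ∞) from hm']
        constructor
        · exact le_of_eq
        · intro h
          have h' : m' ≤ 0 := by exact_mod_cast h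
          simp [Nat.le_zero.1 h']
      · convert (hcons (m + 1)).sdiff (hcons m) using 1
        ext t'
        obtain ⟨m', hm'⟩ := hn t'
        show d t' = _ ↔ d t' ≤ _ ∧ ¬ (d t' ≤ _)
        rw [show d t' = (m' : WithBot ℕ∞) from hm']
        norm_cast
        omega
    · convert Topology.IsConstructible.empty (X := ↥V) using 1
      ext t
      exact ⟨fun h => hex ⟨t, h⟩, False.elim⟩


end Groth.Agent.S5329
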