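import Groth.Statements.S14467
import Groth.Agent.Lib.H0Comp5.NodalGenus

set_option autoImplicit false
universe u
open CategoryTheory CategoryTheory.Limits AlgebraicGeometry
open Curves

namespace Groth.Agent.S14467

/-- Let k be an algebraically closed field and C a proper connected k-scheme whose irreducible
components all have dimension one and whose singularities are at worst nodal. Let π : C' → C be a
finite morphism from a normal scheme which is an isomorphism over a dense open subset of C whose
preimage is dense in C' (so C' is the normalization of C, the disjoint union of the normalizations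
C'_1, …, C'_t of the t irreducible components of C). If s is the number of nodes of C, then g(C) + t
= g(C') + s + 1 with g the dimension of H¹ of the structure sheaf; since g(C') = Σ_i g(C'_i) this is
the formula g(C) = Σ_i g(C'_i) + s - t + 1. -/
theorem result (k : Type u) [Field k] [IsAlgClosed k]
    (C : Scheme.{u}) [C.Over (Spec (CommRingCat.of k))] [IsProper (C ↘ (Spec (CommRingCat.of k)))] [ConnectedSpace C]
    (hdim : ∀ Z ∈ irreducibleComponents (C : Type u), topologicalKrullDim Z = 1) (hC : Curv2.AtWorstNodal k C)
    (C' : Scheme.{u}) (π : C' ⟶ C) [IsFinite π] (hC' : Pi1.IsNormalScheme C')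
    (U : C.Opens) (hU : Dense (U : Set C)) (hU' : Dense ((π ⁻¹ᵁ U : C'.Opens) : Set C')) (hπU : IsIso (π ∣_ U)) :
    letI : C'.Over (Spec (CommRingCat.of k)) := ⟨π ≫ (C ↘ (Spec (CommRingCat.of k)))⟩
    (Curv2.genus k C : ℤ) + Nat.card (_root_.ConnectedComponents C') =
      (Curv2.genus k C' : ℤ) + Nat.card {x : C // Curv2.IsNode k C x} + 1 := by
  haveI := hπU
  have h := H0Comp5.genus_formula k C hdim hC C' π hC' U hU hU'
  haveI : Subsingleton (_root_.ConnectedComponents C) := ⟨fun a b => by
    obtain ⟨x, rfl⟩ := ConnectedComponents.surjective_coe a
    obtain ⟨y, rfl⟩ := ConnectedComponents.surjective_coe b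
    exact ConnectedComponents.coe_eq_coe'.2 (by rw [PreconnectedSpace.connectedComponent_eq_univ]; trivial)⟩
  rw [show Nat.card (_root_.ConnectedComponents C) = 1 from Nat.card_eq_one_iff_unique.2 ⟨inferInstance, inferInstance⟩] at h
  exact h

end Groth.Agent.S14467
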