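import Groth.Statements.S16122
import Groth.Agent.Lib.PicFin14.Torsion
import Groth.Agent.Lib.RatGrp14.Scheme
import Groth.Agent.Lib.PicAff14.Basic

set_option autoImplicit false
universe u
open CategoryTheory MonoidalCategory CartesianMonoidalCategory MonObj GrpObj AlgebraicGeometry CategoryTheory.Limits
open AlgGrp

namespace Groth.Agent.S16122

set_option backward.isDefEq.respectTransparency false
set_option backward.isDefEq.respectTransparency.types false

theorem finite_classes {k : Type u} [Field k] [IsAlgClosed k] (A : Type u) [CommRing A] [HopfAlgebra k A] [IsDomain A]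
    [Algebra.FiniteType k A] : ∃ T : Set (Ideal A), T.Finite ∧
      ∀ (P : Type u) [AddCommGroup P] [Module A P] [Module.Invertible A P], ∃ J ∈ T, Nonempty (P ≃ₗ[A] J) := by
  obtain ⟨S, hS, hgen, hprim⟩ := PicFin14.exists_generators (k := k) A
  obtain ⟨T, hTfin, hT⟩ := PicFin14.exists_finite_reps S fun p hp =>
    PicFin14.exists_pow_sim (k := k) (hS p hp) hprim
  refine ⟨T, hTfin, fun P _ _ _ => ?_⟩
  obtain ⟨I, ⟨e⟩⟩ := Module.Invertible.exists_linearEquiv_ideal A P
  haveI : Module.Invertible A I := Module.Invertible.congr e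
  obtain ⟨s, hs, hsim⟩ := hgen I (PicFin14.inv_of_invertible I)
  obtain ⟨J, hJ, hJs⟩ := hT s hs
  obtain ⟨e'⟩ := (hsim.trans hJs).linearEquiv
  exact ⟨J, hJ, ⟨e.trans e'⟩⟩

/-- Over an algebraically closed field k, if G is a connected linear algebraic group (an affine, smooth,
connected k-group scheme), then Pic(G) is finite: there are only finitely many isomorphism classes
of invertible O_G-modules. -/
theorem result (k : Type u) [Field k] [IsAlgClosed k]
    (G : Over (Spec (CommRingCat.of k))) [GrpObj G] [IsAffine G.left] [Smooth G.hom] [ConnectedSpace ↥G.left] :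
    Finite (PicLoc.PicSet G.left) := by
  obtain ⟨A, _, _, ⟨m⟩⟩ := HopfPts19.exists_model G
  let φ : CoactBr.sp k A ≅ G := (Grp.forget _).mapIso m
  have hφ : φ.hom.left ≫ G.hom = Spec.map (CommRingCat.ofHom (algebraMap k A)) := Over.w φ.hom
  haveI : IsIso φ.hom.left := inferInstanceAs (IsIso ((Over.forget _).map φ.hom))
  haveI := RatGrp14.isIntegral_left G
  haveI : IsIntegral (Spec (CommRingCat.of A)) := by
    haveI : Nonempty ↥(Spec (CommRingCat.of A)) := ⟨(inv φ.hom.left) (Classical.arbitrary G.left)⟩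
    exact isIntegral_of_isOpenImmersion φ.hom.left
  haveI : IsDomain A := (affine_isIntegral_iff (CommRingCat.of A)).1 inferInstance
  haveI : LocallyOfFiniteType (Spec.map (CommRingCat.ofHom (algebraMap k A))) := by rw [← hφ]; infer_instance
  haveI : Algebra.FiniteType k A := RingHom.finiteType_algebraMap.1
    ((HasRingHomProperty.Spec_iff (P := @LocallyOfFiniteType)).1 ‹_›)
  obtain ⟨T, hTfin, hT⟩ := finite_classes (k := k) A
  let R : CommRingCat.{u} := CommRingCat.of A
  let cand : Set (PicF.Cl (Spec R)) :=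
    (fun J : Ideal A => PicF.cl (tilde (R := R) (ModuleCat.of R J))) '' T
  let ψ : Spec R ⟶ G.left := φ.hom.left
  have hinj : Function.Injective fun c : PicLoc.PicSet G.left => PicF.pullCl ψ c.1 := fun c d h => by
    refine Subtype.ext ?_
    have h' := congrArg (PicF.pullCl (inv ψ)) h
    simp only [← PicLoc.pullCl_comp, IsIso.inv_hom_id, PicLoc.pullCl_id] at h'
    exact h'
  have hmem : ∀ c : PicLoc.PicSet G.left, PicF.pullCl ψ c.1 ∈ cand := fun c => by
    obtain ⟨L, hL, hLinv⟩ := PicLoc.isInvertibleCl_pullCl ψ c.2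
    obtain ⟨P, hP, ⟨a⟩⟩ := PicAff14.exists_invertible_tilde hLinv
    haveI : Module.Invertible A P := hP
    obtain ⟨J, hJ, ⟨e⟩⟩ := hT P
    exact ⟨J, hJ, (Quot.sound ⟨(PicAff14.tildeIsoOfEquiv (M := P) (N := ModuleCat.of R J) e).symm ≪≫ a.symm⟩).trans hL⟩
  haveI : Finite cand := (hTfin.image _).to_subtype
  exact Finite.of_injective (fun c => (⟨_, hmem c⟩ : cand)) fun c d h => hinj (congrArg Subtype.val h)

end Groth.Agent.S16122
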