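import Groth.Statements.S11310
import Groth.Prelude.Def_CohB1
import Groth.Prelude.Def_Omega2
import Groth.Prelude.Def_ExtPow2
import Groth.Agent.Lib.SmImm2.Ses
import Groth.Agent.Lib.Wedge2.Props
import Groth.Agent.Lib.Wedge2.Top
import Groth.Agent.Lib.DetSES2.Main
import Groth.Agent.Lib.OmegaVar13.Basic
import Groth.Agent.Lib.Omega12.Universal
import Groth.Agent.S1561
import Mathlib.AlgebraicGeometry.Morphisms.Separated
import Mathlib.AlgebraicGeometry.Morphisms.FiniteType
import Mathlib.RingTheory.RegularLocalRing.Defs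
import Mathlib.FieldTheory.IsAlgClosed.Basic
import Mathlib.Topology.KrullDimension

set_option autoImplicit false
set_option backward.isDefEq.respectTransparency false
set_option backward.isDefEq.respectTransparency.types false
set_option synthInstance.maxHeartbeats 400000
set_option maxHeartbeats 1600000
universe u
open CategoryTheory CategoryTheory.Limits AlgebraicGeometry
open NonsingVar

namespace Groth.Agent.S11310
open CategoryTheory CategoryTheory.Limits AlgebraicGeometry

open Groth.Agent

theorem smooth_of_regular (k : Type u) [Field k] [IsAlgClosed k] (X : Scheme.{u}) (p : X ⟶ Spec (CommRingCat.of k))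
    [IsReduced X] [LocallyOfFiniteType p] (h : ∀ x : X, IsRegularLocalRing (X.presheaf.stalk x)) : Smooth p := by
  letI : X.Over (Spec (CommRingCat.of k)) := ⟨p⟩
  haveI : LocallyOfFinitePresentation (X ↘ Spec (CommRingCat.of k)) :=
    inferInstanceAs (LocallyOfFinitePresentation p)
  have h' := (Groth.Agent.S1561.result k X).1
  have htop : p.smoothLocus = ⊤ := eq_top_iff.2 fun x _ => (h' x).2 (h x)
  exact p.smoothLocus_eq_top_iff.1 htop

/-- Let k be an algebraically closed field, X a nonsingular variety over k (integral, separated and of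
finite type over k, all local rings regular) of dimension m + r, and i : Y → X a nonsingular closed
subvariety (integral closed subscheme with regular local rings) of dimension m, so of codimension r,
with conormal sheaf I/I². Let ω_X be an (m + r)-th exterior power of the sheaf of differentials of X
over k, ω_Y an m-th exterior power of that of Y over k, and L an r-th exterior power of the conormal
sheaf. Then i^*ω_X and ω_Y ⊗ L are isomorphic O_Y-modules (existence of an isomorphism only; the
published statement also names no map). Since L is invertible with dual the r-th exterior power of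
the normal sheaf N = (I/I²)^∨, this is the adjunction formula ω_Y ≅ ω_X ⊗ ∧^r N; for r = 1 it reads
ω_Y ≅ ω_X ⊗ L(Y) ⊗ O_Y. -/
theorem result (k : Type u) [Field k] [IsAlgClosed k]
    (m r : ℕ) (X : Scheme.{u}) [X.Over (Spec (CommRingCat.of k))] [IsIntegral X] [IsSeparated (X ↘ (Spec (CommRingCat.of k)))]
    [LocallyOfFiniteType (X ↘ (Spec (CommRingCat.of k)))] [QuasiCompact (X ↘ (Spec (CommRingCat.of k)))]
    (hreg : ∀ x : ↥X, IsRegularLocalRing ↑(X.presheaf.stalk x))
    (hX : topologicalKrullDim ↥X = ((m + r : ℕ) : WithBot ℕ∞))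
    (Y : Scheme.{u}) (i : Y ⟶ X) [IsClosedImmersion i] [IsIntegral Y]
    (hregY : ∀ y : ↥Y, IsRegularLocalRing ↑(Y.presheaf.stalk y))
    (hY : topologicalKrullDim ↥Y = (m : WithBot ℕ∞))
    (ωX : X.Modules) (hωX : ExtPow.IsExtPow (m + r) (Omega.sheaf (X ↘ (Spec (CommRingCat.of k)))) ωX)
    (ωY : Y.Modules) (hωY : ExtPow.IsExtPow m (Omega.sheaf (i ≫ (X ↘ (Spec (CommRingCat.of k))))) ωY)
    (L : Y.Modules) (hL : ExtPow.IsExtPow r (Omega.conormal i) L) :
    Nonempty ((Scheme.Modules.pullback i).obj ωX ≅ CohB1.tensorMod ωY L) := by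
  let f := X ↘ Spec (CommRingCat.of k)
  haveI : Smooth f := smooth_of_regular k X f hreg
  haveI : Smooth (i ≫ f) := smooth_of_regular k Y (i ≫ f) hregY
  have hX' : FlatMod.IsFinLocFreeOfRank (m + r) (Omega.sheaf f) :=
    (OmegaVar13.main (Omega12.isUniversal_dOmega (f := f)) hX).2 hreg
  letI : Y.Over (Spec (CommRingCat.of k)) := ⟨i ≫ f⟩
  haveI : LocallyOfFiniteType (Y ↘ Spec (CommRingCat.of k)) := inferInstanceAs (LocallyOfFiniteType (i ≫ f))
  haveI : QuasiSeparated (Y ↘ Spec (CommRingCat.of k)) := inferInstanceAs (QuasiSeparated (i ≫ f))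
  haveI : IsSeparated (Y ↘ Spec (CommRingCat.of k)) := inferInstanceAs (IsSeparated (i ≫ f))
  haveI : QuasiCompact (Y ↘ Spec (CommRingCat.of k)) := inferInstanceAs (QuasiCompact (i ≫ f))
  have hY' : FlatMod.IsFinLocFreeOfRank m (Omega.sheaf (i ≫ f)) :=
    (OmegaVar13.main (X := Y) (Omega12.isUniversal_dOmega (f := Y ↘ Spec (CommRingCat.of k))) hY).2 hregY
  obtain ⟨T, hT, h1, h2, h3, hC⟩ := SmImm2.exists_conormal_ses' f i (m + r) m hX' hY'
  rw [Nat.add_sub_cancel_left] at hC
  have hXq : Coh.IsQCoh (Omega.sheaf f) := M2.isQCoh_of_isFinLocFree (SmImm2.isFinLocFree_of_rank hX')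
  have hL₁ : ExtPow.IsExtPow r T.X₁ L := by rw [h1]; exact hL
  have hL₂ : ExtPow.IsExtPow (m + r) T.X₂ ((Scheme.Modules.pullback i).obj ωX) := by
    rw [h2]; exact Wedge2.isExtPow_pullback' i hXq hωX
  have hL₃ : ExtPow.IsExtPow m T.X₃ ωY := by rw [h3]; exact hωY
  obtain ⟨e⟩ := DetSES2.nonempty_det_iso T hT (show r + m = m + r by omega) (by rw [h1]; exact hC)
    (by rw [h2]; exact SmImm2.isFinLocFree_of_rank (SmImm2.isFinLocFreeOfRank_pullback hX' i)) (by rw [h3]; exact hY')
    hL₁ hL₂ hL₃ (Wedge2.isFinLocFree_top hC hL) (Wedge2.isFinLocFree_top hY' hωY)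
  exact ⟨e ≪≫ M2.tensorComm L ωY⟩

end Groth.Agent.S11310
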