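import Groth.Statements.S19775
import Groth.Agent.Lib.KernelKL22.Basic

set_option autoImplicit false
universe u
open CategoryTheory MonoidalCategory CartesianMonoidalCategory MonObj GrpObj AlgebraicGeometry
open AbVar

namespace Groth.Agent.S19775

/-- Let X be an abelian variety over a field k (a proper, geometrically integral k-group scheme), (X^t,
φ) a given dual abelian variety of X for the fppf topology (φ sends classes of modules on X ×_k T
algebraically trivial on the geometric fibres to T-valued points of X^t), L an invertible
O_X-module, and λ : X → X^t the homomorphism φ_L attached to L through φ (the X-valued point of X^t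
that φ assigns to the class of an invertible module N on X ×_k X with N ⊗ p_1^*L ⊗ p_2^*L ≅ m^*L, a
Mumford module of L). Let i : K → X be a closed immersion exhibiting K as K(L) (the maximal closed
subscheme over which the Mumford bundle, restricted to X ×_k K, is the inverse image of an
invertible module on K, with its universal property). Then K(L) is the kernel of φ_L: the square
with sides i, K → Spec k, λ and the unit Spec k → X^t is cartesian. (The published statement makes
this assertion for L ample, together with φ_L being an isogeny and the dimension count for the dual;
the kernel identification is the translation description of the points of K(L) read through the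
Picard functor and holds for every invertible L, as stated here; the isogeny and dimension
assertions are not part of this row.) -/
theorem result (k : Type u) [Field k] (X Xt : Over (Spec (CommRingCat.of k)))
    [GrpObj X] [IsProper X.hom] [GeometricallyIntegral X.hom]
    [GrpObj Xt] [IsProper Xt.hom] [GeometricallyIntegral Xt.hom]
    (φ : ∀ T : Over (Spec (CommRingCat.of k)), PicF.Cl (PicF.XT X.hom T) → (T ⟶ Xt))
    (hφ : AbDual.IsDualAV Scheme.fppfPrecoverage X Xt φ)
    (L : X.left.Modules) (hL : PicF.IsInvertible L) (lam : X ⟶ Xt) (hlam : AgPol.IsLambda X Xt φ L lam)
    (K : Over (Spec (CommRingCat.of k))) (i : K ⟶ X) (hK : ThetaGrp.IsKL X L i) :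
    AlgGrp.IsKernel i lam := by
  exact Groth.Agent.KernelKL22.isKernel_KL hφ hL hlam hK

end Groth.Agent.S19775
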