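import Groth.Statements.S9423
import Groth.Agent.S4848
import Groth.Agent.Lib.CAlgLow.DescentFinite
import Groth.Agent.Lib.CI2.NhdIff
import Groth.Agent.Lib.CI2.KoszulFlat
import Groth.Agent.Lib.CI2.BaseField

set_option autoImplicit false
universe u
open Synt

namespace Groth.Agent.S9423
open CAlg

open scoped TensorProduct
open Groth.Agent Groth.Agent.CAlgLow.Descent

attribute [local instance] Algebra.TensorProduct.rightAlgebra in
lemma isCIOver_down {k k' : Type u} [Field k] [Field k'] [Algebra k k'] (A : Type u) [CommRing A] [Algebra k A]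
    [Algebra.FiniteType k A] (h : Synt.IsLCIOver k' (k' ⊗[k] A)) (q' : Ideal (k' ⊗[k] A)) [q'.IsPrime] :
    Synt.IsCIOver k (Localization.AtPrime (q'.comap (algebraMap A (k' ⊗[k] A)))) := by
  haveI := h.1
  refine CI2.isCIOver_iff_completeIntersection.2 ((CI2.ci_iff_baseChange_field A q').2 ?_)
  exact CI2.isCIOver_iff_completeIntersection.1 (CI2.isCIOver_atPrime_of_isLCIOver h q')

attribute [local instance] Algebra.TensorProduct.rightAlgebra in
lemma isLCIOver_up {k k' : Type u} [Field k] [Field k'] [Algebra k k'] (A : Type u) [CommRing A] [Algebra k A]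
    (h : Synt.IsLCIOver k A) : Synt.IsLCIOver k' (k' ⊗[k] A) := by
  haveI := h.1
  refine CI2.isLCIOver_of_forall_maximal fun m _ => ?_
  refine CI2.isCIOver_iff_completeIntersection.2 ((CI2.ci_iff_baseChange_field A m).1 ?_)
  exact CI2.isCIOver_iff_completeIntersection.1 (CI2.isCIOver_atPrime_of_isLCIOver h _)

lemma fib_equiv {S S' C : Type u} [CommRing S] [CommRing S'] [CommRing C] [Algebra S S'] [Algebra S C]
    (p' : Ideal S') [p'.IsPrime] :
    ∃ (_ : Algebra (p'.comap (algebraMap S S')).ResidueField p'.ResidueField),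
      ∃ e : p'.Fiber (S' ⊗[S] C) ≃ₐ[p'.ResidueField]
        p'.ResidueField ⊗[(p'.comap (algebraMap S S')).ResidueField] ((p'.comap (algebraMap S S')).Fiber C),
      ∀ x : C, e (1 ⊗ₜ[S'] ((1 : S') ⊗ₜ[S] x)) =
        1 ⊗ₜ[(p'.comap (algebraMap S S')).ResidueField] ((1 : (p'.comap (algebraMap S S')).ResidueField) ⊗ₜ[S] x) := by
  let p := p'.comap (algebraMap S S')
  letI alg : Algebra p.ResidueField p'.ResidueField :=
    (Ideal.ResidueField.mapₐ p p' (Algebra.ofId S S') rfl).toRingHom.toAlgebra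
  haveI : IsScalarTower S p.ResidueField p'.ResidueField :=
    IsScalarTower.of_algebraMap_eq fun x => ((Ideal.ResidueField.mapₐ p p' (Algebra.ofId S S') rfl).commutes x).symm
  refine ⟨alg, (Algebra.TensorProduct.cancelBaseChange S S' p'.ResidueField p'.ResidueField C).trans
    (Algebra.TensorProduct.cancelBaseChange S p.ResidueField p'.ResidueField p'.ResidueField C).symm, fun x => ?_⟩
  simp
  rfl

lemma isSyntomic_baseChange {S C : Type u} [CommRing S] [CommRing C] [Algebra S C] (S' : Type u) [CommRing S']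
    [Algebra S S'] (h : Synt.IsSyntomic S C) : Synt.IsSyntomic S' (S' ⊗[S] C) := by
  obtain ⟨h1, h2, h3⟩ := h
  refine ⟨inferInstance, inferInstance, fun p' => ?_⟩
  obtain ⟨alg, e, -⟩ := fib_equiv (C := C) p'.asIdeal (S := S)
  exact CI2.isLCIOver_congr e.symm (isLCIOver_up _ (h3 ⟨p'.asIdeal.comap (algebraMap S S'), Ideal.IsPrime.comap _⟩))

variable {Q : Type u} [CommRing Q] {R : Type u} [CommRing R] [Algebra Q R] {ι : Type u}
  {G : ι → Type u} [∀ i, CommRing (G i)] [∀ i, Algebra Q (G i)] {ρ : ∀ i, G i →ₐ[Q] R}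

lemma exists_flat (h : IsColim ρ) (C : Type u) [CommRing C] [Algebra Q C] [Algebra.FinitePresentation Q C]
    (hR : Module.Flat R (R ⊗[Q] C)) :
    ∃ k, Module.Flat (G k) (G k ⊗[Q] C) := by
  classical
  haveI : Module.FinitePresentation C C := inferInstance
  obtain ⟨R₀, n, m, N₀, hR₀, ⟨e⟩⟩ := S4848.exists_model (A₀ := Q) (B₀ := C) C
  haveI : IsNoetherianRing R₀ := isNoetherianRing_of_fg hR₀
  let M' := (Fin m → MvPolynomial (Fin n) R₀) ⧸ N₀
  let eS : ∀ (S : Type u) [CommRing S] [Algebra Q S], S ⊗[Q] C ≃ₗ[S] S ⊗[R₀] M' := fun S _ _ =>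
    (e.symm.baseChange Q S _ _).trans (TensorProduct.AlgebraTensorModule.cancelBaseChange R₀ Q S S M')
  haveI : Module.Flat R (R ⊗[R₀] M') := Module.Flat.of_linearEquiv (eS R).symm
  obtain ⟨B, hB, hBflat⟩ := FlatH4.exists_subalgebra_flat R₀ R (MvPolynomial (Fin n) R₀) M'
  haveI := hBflat B le_rfl hB
  haveI : Algebra.FiniteType R₀ B := B.fg_iff_finiteType.1 hB
  haveI : Algebra.FinitePresentation R₀ B := Algebra.FinitePresentation.of_finiteType.1 inferInstance
  obtain ⟨q, φ, hφ, hkerφ⟩ := Algebra.FinitePresentation.out (R := R₀) (A := B)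
  obtain ⟨i, x, hx⟩ := h.lift_finset (Finset.univ : Finset (Fin q)) fun y => (φ (MvPolynomial.X y) : R)
  let ψ : MvPolynomial (Fin q) R₀ →ₐ[R₀] G i := MvPolynomial.aeval x
  have hψ : ∀ p, ρ i (ψ p) = (φ p : R) := by
    have hext : ((ρ i).restrictScalars R₀).comp ψ = B.val.comp φ :=
      MvPolynomial.algHom_ext fun y => by
        show ρ i (ψ (MvPolynomial.X y)) = (φ (MvPolynomial.X y) : R)
        simp [ψ, hx y (Finset.mem_univ y)]
    exact fun p => AlgHom.congr_fun hext p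
  obtain ⟨rel, hrel⟩ := hkerφ
  obtain ⟨k, χ₀, hk⟩ := h.kill_finset (rel.image ψ) fun z hz => by
    obtain ⟨r, hr, rfl⟩ := Finset.mem_image.1 hz
    rw [hψ, show φ r = 0 from hrel.le (Ideal.subset_span hr)]
    rfl
  let ψk : MvPolynomial (Fin q) R₀ →ₐ[R₀] G k := (χ₀.1.restrictScalars R₀).comp ψ
  have hker : RingHom.ker φ.toRingHom ≤ RingHom.ker ψk.toRingHom := by
    rw [show RingHom.ker φ.toRingHom = Ideal.span (rel : Set _) from hrel.symm, Ideal.span_le]
    exact fun r hr => hk _ (Finset.mem_image_of_mem _ hr)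
  let χ : B →ₐ[R₀] G k :=
    { RingHom.liftOfSurjective φ.toRingHom hφ ⟨ψk.toRingHom, hker⟩ with
      commutes' := fun r => by
        show RingHom.liftOfSurjective φ.toRingHom hφ ⟨ψk.toRingHom, hker⟩ (algebraMap R₀ B r) = _
        rw [← φ.commutes r]
        exact (RingHom.liftOfRightInverse_comp_apply _ _ _ _ _).trans (ψk.commutes r) }
  letI : Algebra B (G k) := χ.toRingHom.toAlgebra
  haveI : IsScalarTower R₀ B (G k) := IsScalarTower.of_algebraMap_eq fun r => (χ.commutes r).symm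
  exact ⟨k, Module.Flat.of_linearEquiv ((eS (G k)).trans
    (TensorProduct.AlgebraTensorModule.cancelBaseChange R₀ B (G k) (G k) M').symm)⟩

lemma lift_bc (h : IsColim ρ) (C : Type u) [CommRing C] [Algebra Q C] (z : R ⊗[Q] C) :
    ∃ j w, bc C (ρ j) w = z := by
  induction z using TensorProduct.induction_on with
  | zero => obtain ⟨i⟩ := h.nonempty; exact ⟨i, 0, map_zero _⟩
  | tmul r c => obtain ⟨j, y, rfl⟩ := h.lift r; exact ⟨j, y ⊗ₜ c, rfl⟩
  | add a b ha hb =>
    obtain ⟨j, v, rfl⟩ := ha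
    obtain ⟨j', v', rfl⟩ := hb
    obtain ⟨l, ⟨φ⟩, ⟨φ'⟩⟩ := h.dir j j'
    refine ⟨l, bc C φ.1 v + bc C φ'.1 v', ?_⟩
    rw [map_add, ← AlgHom.comp_apply, ← AlgHom.comp_apply, ← Algebra.TensorProduct.map_comp,
      ← Algebra.TensorProduct.map_comp, φ.2, φ'.2]
    rfl

lemma bc_comp_apply {C : Type u} [CommRing C] [Algebra Q C] {a b c : ι} (φ : Hom ρ b c) (ψ : Hom ρ a b)
    (x : G a ⊗[Q] C) : bc C (φ.comp ψ).1 x = bc C φ.1 (bc C ψ.1 x) := by
  rw [← AlgHom.comp_apply, ← Algebra.TensorProduct.map_comp]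
  rfl

lemma bc_hom_apply {C : Type u} [CommRing C] [Algebra Q C] {a b : ι} (ψ : Hom ρ a b)
    (x : G a ⊗[Q] C) : bc C (ρ b) (bc C ψ.1 x) = bc C (ρ a) x := by
  rw [← AlgHom.comp_apply, ← Algebra.TensorProduct.map_comp, ψ.2]
  rfl

lemma exists_span_top (h : IsColim ρ) (C : Type u) [CommRing C] [Algebra Q C] (i : ι) (s : Set (G i ⊗[Q] C))
    (hs : Ideal.span (bc C (ρ i) '' s) = ⊤) :
    ∃ l, ∃ ψ : Hom ρ i l, Ideal.span (bc C ψ.1 '' s) = ⊤ := by
  have push : ∀ {a b : ι} (φ : Hom ρ a b) (ψ : Hom ρ i a) (w : G a ⊗[Q] C),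
      w ∈ Ideal.span (bc C ψ.1 '' s) → bc C φ.1 w ∈ Ideal.span (bc C (φ.comp ψ).1 '' s) := by
    intro a b φ ψ w hw
    have := Ideal.mem_map_of_mem (bc C φ.1) hw
    rw [Ideal.map_span, ← Set.image_comp] at this
    rwa [show ⇑(bc C (φ.comp ψ).1) = ⇑(bc C φ.1) ∘ ⇑(bc C ψ.1) from funext (bc_comp_apply φ ψ)]
  have hdir : ∀ {a b : ι} (ψ : Hom ρ i a) (φ : Hom ρ i b), ∀ wa ∈ Ideal.span (bc C ψ.1 '' s),
      ∀ wb ∈ Ideal.span (bc C φ.1 '' s), ∃ l, ∃ χ : Hom ρ i l, ∃ w ∈ Ideal.span (bc C χ.1 '' s),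
        bc C (ρ l) w = bc C (ρ a) wa + bc C (ρ b) wb := by
    intro a b ψ φ wa hwa wb hwb
    obtain ⟨c, ⟨u⟩, ⟨v⟩⟩ := h.dir a b
    -- the two composites out of stage `i` agree after one more step on the finitely many generators used
    obtain ⟨ta, hta, hwa'⟩ := Submodule.mem_span_finite_of_mem_span hwa
    obtain ⟨tb, htb, hwb'⟩ := Submodule.mem_span_finite_of_mem_span hwb
    choose! fa hfa using fun x (hx : x ∈ ta) => hta hx
    choose! fb hfb using fun x (hx : x ∈ tb) => htb hx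
    classical
    obtain ⟨l, χ, hl⟩ := h.kill_bc_finset (tb.image fb)
      (fun x => bc C (v.comp φ).1 x - bc C (u.comp ψ).1 x) (fun x _ => by
        rw [map_sub, bc_hom_apply, bc_hom_apply, sub_self])
    refine ⟨l, χ.comp (u.comp ψ), bc C χ.1 (bc C u.1 wa) + bc C χ.1 (bc C v.1 wb), add_mem ?_ ?_, ?_⟩
    · exact push χ (u.comp ψ) _ (push u ψ wa hwa)
    · have h1 := Ideal.mem_map_of_mem ((bc C χ.1).comp (bc C v.1)) hwb'
      rw [show ((tb : Set (G b ⊗[Q] C))) = _ from rfl, Ideal.map_span] at h1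
      refine Ideal.span_le.2 ?_ h1
      rintro _ ⟨x, hx, rfl⟩
      refine Ideal.subset_span ⟨fb x, (hfb x hx).1, ?_⟩
      have h2 := hl (fb x) (Finset.mem_image_of_mem _ hx)
      rw [map_sub, sub_eq_zero, bc_comp_apply, (hfb x hx).2] at h2
      show bc C (χ.comp (u.comp ψ)).1 (fb x) = bc C χ.1 (bc C v.1 x)
      rw [bc_comp_apply, ← h2]
    · rw [map_add, bc_hom_apply, bc_hom_apply, bc_hom_apply, bc_hom_apply]
  have key : ∀ z ∈ Ideal.span (bc C (ρ i) '' s), ∃ l, ∃ ψ : Hom ρ i l, ∃ w ∈ Ideal.span (bc C ψ.1 '' s),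
      bc C (ρ l) w = z := by
    intro z hz
    induction hz using Submodule.span_induction with
    | mem z hz =>
      obtain ⟨x, hx, rfl⟩ := hz
      exact ⟨i, Hom.refl ρ i, _, Ideal.subset_span ⟨x, hx, rfl⟩, bc_hom_apply (Hom.refl ρ i) x⟩
    | zero => exact ⟨i, Hom.refl ρ i, 0, zero_mem _, map_zero _⟩
    | add a b _ _ ha hb =>
      obtain ⟨la, ψ, wa, hwa, rfl⟩ := ha
      obtain ⟨lb, φ, wb, hwb, rfl⟩ := hb
      exact hdir ψ φ wa hwa wb hwb
    | smul c a _ ha =>
      obtain ⟨la, ψ, wa, hwa, rfl⟩ := ha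
      obtain ⟨j, cj, rfl⟩ := lift_bc h C c
      obtain ⟨l, ⟨u⟩, ⟨v⟩⟩ := h.dir la j
      refine ⟨l, u.comp ψ, bc C v.1 cj * bc C u.1 wa, Ideal.mul_mem_left _ _ (push u ψ wa hwa), ?_⟩
      rw [map_mul, bc_hom_apply, bc_hom_apply, smul_eq_mul]
  obtain ⟨l, ψ, w, hw, hw1⟩ := key 1 (hs ▸ trivial)
  obtain ⟨m, χ, hm⟩ := h.kill_bc (w - 1) (by rw [map_sub, hw1, map_one, sub_self])
  refine ⟨m, χ.comp ψ, (Ideal.eq_top_iff_one _).2 ?_⟩
  rw [map_sub, map_one, sub_eq_zero] at hm
  rw [← hm]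
  exact push χ ψ w hw

theorem exists_syntomic (h : IsColim ρ) (C : Type u) [CommRing C] [Algebra Q C] [Algebra.FinitePresentation Q C]
    (hR : Synt.IsSyntomic R (R ⊗[Q] C)) : ∃ i, Synt.IsSyntomic (G i) (G i ⊗[Q] C) := by
  obtain ⟨k, hflat⟩ := exists_flat h C hR.1
  let S := G k
  let D := S ⊗[Q] C
  haveI : Algebra.FinitePresentation S D := inferInstance
  let W : Set D := {g | Synt.IsSyntomic S (Localization.Away g)}
  letI : Algebra S R := (ρ k).toRingHom.toAlgebra
  haveI : IsScalarTower Q S R := IsScalarTower.of_algebraMap_eq fun x => ((ρ k).commutes x).symm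
  let eR : R ⊗[S] D ≃ₐ[R] R ⊗[Q] C := Algebra.TensorProduct.cancelBaseChange Q S R R C
  have hRD : Synt.IsSyntomic R (R ⊗[S] D) := CI2.isSyntomic_congr eR.symm hR
  have hin : ∀ x : D, eR (1 ⊗ₜ[S] x) = bc C (ρ k) x := by
    intro x
    induction x using TensorProduct.induction_on with
    | zero => rw [TensorProduct.tmul_zero, map_zero, map_zero]
    | tmul a c => rw [Algebra.TensorProduct.cancelBaseChange_tmul]; simp [Algebra.smul_def]; rfl
    | add a b ha hb => rw [TensorProduct.tmul_add, map_add, map_add, ha, hb]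
  have htop : Ideal.span (bc C (ρ k) '' W) = ⊤ := by
    by_contra hne
    obtain ⟨P₀, hP₀, hle⟩ := Ideal.exists_le_maximal _ hne
    let P : Ideal (R ⊗[S] D) := P₀.comap eR.toRingEquiv.toRingHom
    haveI : P.IsPrime := Ideal.comap_isPrime _ _
    let ι₁ : D →ₐ[S] R ⊗[S] D := Algebra.TensorProduct.includeRight
    let q : Ideal D := P.comap ι₁.toRingHom
    haveI : q.IsPrime := Ideal.comap_isPrime _ _
    let p' : Ideal R := P.under R
    haveI : p'.IsPrime := Ideal.IsPrime.under R P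
    haveI : P.LiesOver p' := ⟨rfl⟩
    obtain ⟨_, e, he⟩ := fib_equiv (S := S) (C := D) p'
    let p := p'.comap (algebraMap S R)
    haveI : q.LiesOver p := ⟨by
      rw [Ideal.under_def]
      show (P.comap (algebraMap R (R ⊗[S] D))).comap (algebraMap S R) = (P.comap ι₁.toRingHom).comap (algebraMap S D)
      ext x
      show algebraMap R (R ⊗[S] D) (algebraMap S R x) ∈ P ↔ ι₁ (algebraMap S D x) ∈ P
      rw [← IsScalarTower.algebraMap_apply, ι₁.commutes]⟩
    let PF := (PrimeSpectrum.primesOverOrderIsoFiber R (R ⊗[S] D) p') ⟨P, inferInstance, inferInstance⟩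
    have hPF : PF.asIdeal.comap (Algebra.TensorProduct.includeRight : R ⊗[S] D →ₐ[R] p'.Fiber (R ⊗[S] D)).toRingHom = P :=
      congrArg Subtype.val ((PrimeSpectrum.primesOverOrderIsoFiber R (R ⊗[S] D) p').symm_apply_apply ⟨P, inferInstance, inferInstance⟩)
    haveI := hRD.2.1
    let Q' := PF.asIdeal.comap e.symm.toRingEquiv.toRingHom
    haveI : Q'.IsPrime := Ideal.comap_isPrime _ _
    have hlci : Synt.IsLCIOver p'.ResidueField (p'.ResidueField ⊗[p.ResidueField] p.Fiber D) :=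
      CI2.isLCIOver_congr e (hRD.2.2 ⟨p', inferInstance⟩ : Synt.IsLCIOver p'.ResidueField (p'.Fiber (R ⊗[S] D)))
    have hci := isCIOver_down _ hlci Q'
    let QD := Q'.comap (Algebra.TensorProduct.includeRight : p.Fiber D →ₐ[p.ResidueField]
      p'.ResidueField ⊗[p.ResidueField] p.Fiber D).toRingHom
    haveI : QD.IsPrime := Ideal.comap_isPrime _ _
    have hQD : QD.comap (Algebra.TensorProduct.includeRight.toRingHom) = q := by
      ext x
      show e.symm (1 ⊗ₜ ((1 : p.ResidueField) ⊗ₜ[S] x)) ∈ PF.asIdeal ↔ (1 : R) ⊗ₜ[S] x ∈ P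
      rw [← he x, e.symm_apply_apply]
      exact (SetLike.ext_iff.1 hPF ((1 : R) ⊗ₜ[S] x))
    obtain ⟨g, hg, n, c, F, hF, ⟨e'⟩⟩ := CI2.exists_relGCI_nhd_of_fp p q QD hQD 1
      (fun h1 => (inferInstance : q.IsPrime).ne_top ((Ideal.eq_top_iff_one _).2 h1)) inferInstance
      (Module.Flat.trans S D _ : Module.Flat S (Localization.AtPrime q)) hci
    have hgW : g ∈ W := CI2.syntomic_away_of_relGCI g hF e'
    apply hg
    show eR (1 ⊗ₜ[S] g) ∈ P₀
    rw [hin]
    exact hle (Ideal.subset_span ⟨g, hgW, rfl⟩)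
  obtain ⟨l, ψ, hψ⟩ := exists_span_top h C k W htop
  refine ⟨l, ?_⟩
  letI : Algebra S (G l) := ψ.1.toRingHom.toAlgebra
  haveI : IsScalarTower Q S (G l) := IsScalarTower.of_algebraMap_eq fun x => (ψ.1.commutes x).symm
  let el : G l ⊗[S] D ≃ₐ[G l] G l ⊗[Q] C := Algebra.TensorProduct.cancelBaseChange Q S (G l) (G l) C
  have hinl : ∀ x : D, el (1 ⊗ₜ[S] x) = bc C ψ.1 x := by
    intro x
    induction x using TensorProduct.induction_on with
    | zero => rw [TensorProduct.tmul_zero, map_zero, map_zero]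
    | tmul a c => rw [Algebra.TensorProduct.cancelBaseChange_tmul]; simp [Algebra.smul_def]; rfl
    | add a b ha hb => rw [TensorProduct.tmul_add, map_add, map_add, ha, hb]
  refine CI2.isSyntomic_congr el (CI2.isSyntomic_of_span ((fun x : D => (1 : G l) ⊗ₜ[S] x) '' W) ?_ ?_)
  · apply Ideal.comap_injective_of_surjective el.symm.toRingEquiv.toRingHom el.symm.surjective
    rw [Ideal.comap_top, eq_top_iff, ← hψ, Ideal.span_le]
    rintro _ ⟨x, hx, rfl⟩
    show el.symm (bc C ψ.1 x) ∈ Ideal.span _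
    rw [← hinl, el.symm_apply_apply]
    exact Ideal.subset_span ⟨x, hx, rfl⟩
  · rintro _ ⟨x, hx, rfl⟩
    exact CI2.isSyntomic_congr (IsLocalization.Away.tensorProductEquivTMulRight S (G l) x (Localization.Away x))
      (isSyntomic_baseChange (G l) hx)

open TensorProduct in
/-- Let (A_i) be a directed system of A₀-algebras with colimit A (given by compatible maps A_i → A which
are jointly surjective and whose kernels die in the system), and B₀ → C₀ a homomorphism of
A₀-algebras with C₀ of finite presentation over B₀. If the base change of B₀ → C₀ along B₀ → B₀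
⊗_{A₀} A is syntomic (flat, of finite presentation, with local complete intersection fibres), then
already its base change along B₀ → B₀ ⊗_{A₀} A_i is syntomic for some index i. (The published
statement also treats relative global complete intersections; this row states the syntomic case.) -/
theorem result {ι : Type u} [Preorder ι] [IsDirected ι (· ≤ ·)] [Nonempty ι]
    (A₀ : Type u) [CommRing A₀] (G : ι → Type u) [∀ i, CommRing (G i)] [∀ i, Algebra A₀ (G i)]
    (f : ∀ i j, i ≤ j → (G i →ₐ[A₀] G j)) (A : Type u) [CommRing A] [Algebra A₀ A]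
    (g : ∀ i, G i →ₐ[A₀] A) (hg : ∀ i j (h : i ≤ j), (g j).comp (f i j h) = g i)
    (hsurj : ∀ a : A, ∃ i, ∃ x : G i, g i x = a)
    (hker : ∀ i (x : G i), g i x = 0 → ∃ j, ∃ h : i ≤ j, f i j h x = 0)
    (B₀ : Type u) [CommRing B₀] [Algebra A₀ B₀] (C₀ : Type u) [CommRing C₀] [Algebra A₀ C₀]
    [Algebra B₀ C₀] [IsScalarTower A₀ B₀ C₀] [Algebra.FinitePresentation B₀ C₀]
    (h : Synt.IsSyntomic (B₀ ⊗[A₀] A) ((B₀ ⊗[A₀] A) ⊗[B₀] C₀)) :
    ∃ i, Synt.IsSyntomic (B₀ ⊗[A₀] G i) ((B₀ ⊗[A₀] G i) ⊗[B₀] C₀) := by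
  have hc : IsColim g :=
    { nonempty := inferInstance
      lift := hsurj
      dir := fun i j => by
        obtain ⟨k, hik, hjk⟩ := exists_ge_ge i j
        exact ⟨k, ⟨⟨f i k hik, hg i k hik⟩⟩, ⟨⟨f j k hjk, hg j k hjk⟩⟩⟩
      kill := fun i x hx => by
        obtain ⟨j, hij, h0⟩ := hker i x hx
        exact ⟨j, ⟨f i j hij, hg i j hij⟩, h0⟩ }
  exact exists_syntomic (hc.baseChange B₀) C₀ h

end Groth.Agent.S9423
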