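import Groth.Statements.S9172
import Groth.Agent.Lib.CI2.NearFibre
import Groth.Prelude.Def_RegImm
import Mathlib

set_option autoImplicit false
universe u
open Synt

namespace Groth.Agent.S9172
open TensorProduct MvPolynomial AlgebraicGeometry CategoryTheory

open MvPolynomial in
/-- Let S = R[x_1, …, x_n]/(F_1, …, F_c) over a ring R. Let I be an ideal of R such that the reduction
R/I[x]/(F mod I) = S/IS is a relative global complete intersection over R/I (its nonempty fibres
have dimension n − c). Then some h in the polynomial ring, with image g in S, satisfies: g maps to 1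
in S/IS, and the presentation S_g = R[x_1, …, x_{n+1}]/(F_1, …, F_c, h·x_{n+1} − 1) is a relative
global complete intersection over R (with S_g isomorphic to it over R). -/
theorem result (R : Type u) [CommRing R] (n c : ℕ) (F : Fin c → MvPolynomial (Fin n) R)
    (I : Ideal R)
    (hI : Synt.IsRelGCI (R ⧸ I) n c (fun i => MvPolynomial.map (Ideal.Quotient.mk I) (F i))) :
    ∃ h : MvPolynomial (Fin n) R,
      Ideal.Quotient.mk (I.map (algebraMap R (Synt.RelGCIRing R n c F)))
        (Ideal.Quotient.mk (Ideal.span (Set.range F)) h) = 1 ∧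
      Synt.IsRelGCI R (n + 1) (c + 1)
        (Fin.snoc (fun i => rename Fin.castSucc (F i)) (rename Fin.castSucc h * X (Fin.last n) - 1)) ∧
      Nonempty (Localization.Away (Ideal.Quotient.mk (Ideal.span (Set.range F)) h) ≃ₐ[R]
        Synt.RelGCIRing R (n + 1) (c + 1)
          (Fin.snoc (fun i => rename Fin.castSucc (F i)) (rename Fin.castSucc h * X (Fin.last n) - 1))) := by
  let S := Synt.RelGCIRing R n c F
  let B : Set (PrimeSpectrum S) := {z | ¬ (c ≤ n ∧
      FlatMor.fibreDimAt (Spec.map (CommRingCat.ofHom (algebraMap R S))) z ≤ ((n - c : ℕ) : WithBot ℕ∞))}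
  haveI : Algebra.FiniteType R S := Algebra.FiniteType.of_surjective (Ideal.Quotient.mkₐ R _) Ideal.Quotient.mk_surjective
  have hB : IsClosed B := Groth.Agent.CI2.isClosed_bad R S (n - c) (c ≤ n)
  have htop : PrimeSpectrum.vanishingIdeal B ⊔ I.map (algebraMap R S) = ⊤ := by
    rw [← PrimeSpectrum.zeroLocus_empty_iff_eq_top, PrimeSpectrum.zeroLocus_sup]
    refine Set.eq_empty_of_forall_notMem fun z ⟨hz1, hz2⟩ => ?_
    rw [PrimeSpectrum.zeroLocus_vanishingIdeal_eq_closure, hB.closure_eq] at hz1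
    refine hz1 ?_
    let p := PrimeSpectrum.comap (algebraMap R S) z
    have hIp : I ≤ p.asIdeal := Ideal.map_le_iff_le_comap.1 hz2
    haveI hp' : (p.asIdeal.map (Ideal.Quotient.mk I)).IsPrime :=
      Ideal.map_isPrime_of_surjective Ideal.Quotient.mk_surjective (by rwa [Ideal.mk_ker])
    have hc : p.asIdeal = (p.asIdeal.map (Ideal.Quotient.mk I)).comap (Ideal.Quotient.mk I) := by
      rw [Ideal.comap_map_of_surjective _ Ideal.Quotient.mk_surjective, ← RingHom.ker_eq_comap_bot, Ideal.mk_ker,
        sup_eq_left.2 hIp]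
    obtain ⟨e⟩ := Groth.Agent.CI2.nonempty_fibreEquiv_quotient n c F I p.asIdeal _ hc
    haveI := Groth.Agent.CI2.nonempty_fibre z p rfl
    obtain ⟨h1, h2⟩ := hI ⟨_, hp'⟩ e.symm.toEquiv.nontrivial
    exact ⟨h1, (Groth.Agent.CI2.fibreDimAt_le_ringKrullDim z p rfl).trans
      ((ringKrullDim_eq_of_ringEquiv e).trans h2).le⟩
  obtain ⟨a, ha, b, hb, hab⟩ := Submodule.mem_sup.1 (htop ▸ Submodule.mem_top : (1 : S) ∈ _)
  obtain ⟨h, rfl⟩ := Ideal.Quotient.mk_surjective a
  refine ⟨h, ?_, Groth.Agent.CI2.isRelGCI_away F h fun z hz => ?_, Groth.Agent.CI2.nonempty_awayEquiv F h⟩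
  · rw [← map_one (Ideal.Quotient.mk (I.map (algebraMap R S))), ← hab, map_add,
      Ideal.Quotient.eq_zero_iff_mem.mpr hb, add_zero]
  · by_contra hzB
    exact hz ((PrimeSpectrum.mem_vanishingIdeal B _).1 ha z hzB)

end Groth.Agent.S9172
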