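import Groth.Statements.S16836
import Mathlib.FieldTheory.Perfect
import Mathlib.Algebra.Polynomial.FieldDivision
import Mathlib.Algebra.Squarefree.Basic

set_option autoImplicit false
universe u v
open scoped Classical
open AbVar

namespace Groth.Agent.S16836

open Polynomial UniqueFactorizationMonoid in
/-- Let K ⊆ L be a field extension and f₁, f₂ non-zero polynomials in K[t]. For a field F and
polynomials g₁, g₂ over F put r_F(g₁, g₂) = Σ_P mult_P(g₁) · mult_P(g₂) · deg P, the sum running
over the monic irreducible polynomials P in F[t] (mult_P the multiplicity of P as an irreducible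
factor). Assume K is perfect. Then r_K(f₁, f₂) = r_L(f₁, f₂): the number does not depend on the
field over which the factorisations are taken. (Perfectness of K cannot be dropped: for K = F_p(s),
L = K(s^{1/p}) and f₁ = f₂ = t^p − s the number is p over K and p² over L, since the irreducible t^p
− s becomes a p-th power over L; the published statement has no restriction on K, and its proof
requires the relevant K[t]-modules to remain semisimple after base change, which holds when every
irreducible factor stays squarefree over L, in particular for K perfect.) -/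
theorem result (K : Type u) (L : Type v) [Field K] [PerfectField K] [Field L] [Algebra K L]
    (f₁ f₂ : K[X]) (h₁ : f₁ ≠ 0) (h₂ : f₂ ≠ 0) :
    ∑ P ∈ (normalizedFactors (f₁.map (algebraMap K L))).toFinset,
        (normalizedFactors (f₁.map (algebraMap K L))).count P *
          (normalizedFactors (f₂.map (algebraMap K L))).count P * P.natDegree =
      ∑ P ∈ (normalizedFactors f₁).toFinset,
        (normalizedFactors f₁).count P * (normalizedFactors f₂).count P * P.natDegree := by
  let φ := algebraMap K L
  let B : Multiset L[X] → Multiset L[X] → ℕ :=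
    fun m₁ m₂ => (m₁.map fun P => m₂.count P * P.natDegree).sum
  let BK : Multiset K[X] → Multiset K[X] → ℕ := fun m₁ m₂ => (m₁.map fun P => m₂.count P * P.natDegree).sum
  have hL : ∀ m₁ m₂ : Multiset L[X], B m₁ m₂ = ∑ P ∈ m₁.toFinset, m₁.count P * m₂.count P * P.natDegree := fun m₁ m₂ => by
    show (m₁.map _).sum = _
    rw [Finset.sum_multiset_map_count]
    exact Finset.sum_congr rfl fun P _ => by rw [smul_eq_mul, mul_assoc]
  have hK : ∀ m₁ m₂ : Multiset K[X], BK m₁ m₂ = ∑ P ∈ m₁.toFinset, m₁.count P * m₂.count P * P.natDegree := fun m₁ m₂ => by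
    show (m₁.map _).sum = _
    rw [Finset.sum_multiset_map_count]
    exact Finset.sum_congr rfl fun P _ => by rw [smul_eq_mul, mul_assoc]
  rw [← hL, ← hK]
  let N : K[X] → Multiset L[X] := fun P => normalizedFactors (P.map φ)
  have hN : ∀ f : K[X], f ≠ 0 → normalizedFactors (f.map φ) = ((normalizedFactors f).map N).sum := fun f hf => by
    show normalizedFactors (mapRingHom φ f) = _
    rw [← ((prod_normalizedFactors hf).map (mapRingHom φ)).normalizedFactors_eq, map_multiset_prod,
      normalizedFactors_multiset_prod, Multiset.map_map]
    · rfl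
    · intro h0
      obtain ⟨P, hP, hP0⟩ := Multiset.mem_map.1 h0
      exact (irreducible_of_normalized_factor P hP).ne_zero ((Polynomial.map_eq_zero φ).1 hP0)
  rw [hN f₁ h₁, hN f₂ h₂]
  have hsub : ∀ m : Multiset K[X], (∀ P ∈ m, Irreducible P ∧ P.Monic) → ∀ P, Irreducible P ∧ P.Monic →
      B (N P) (m.map N).sum = m.count P * P.natDegree := fun m hm P hP => by
    induction m using Multiset.induction_on with
    | empty => simp [B]
    | cons Q m ih =>
      obtain ⟨hQ, hm⟩ := Multiset.forall_mem_cons.1 hm
      have hadd : ∀ a b : Multiset L[X], B (N P) (a + b) = B (N P) a + B (N P) b := fun a b => by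
        simp [B, add_mul, Multiset.sum_map_add]
      rw [Multiset.map_cons, Multiset.sum_cons, hadd, ih hm, Multiset.count_cons, add_mul, add_comm]
      congr 1
      by_cases he : P = Q
      · subst he
        rw [if_pos rfl, one_mul]
        have hsep : (P.map φ).Separable := (PerfectField.separable_of_irreducible hP.1).map
        have hne : P.map φ ≠ 0 := (hP.2.map φ).ne_zero
        have hnd : (N P).Nodup := (squarefree_iff_nodup_normalizedFactors hne).1 hsep.squarefree
        show ((N P).map fun R => (N P).count R * R.natDegree).sum = _
        rw [Multiset.map_congr rfl (g := natDegree) fun R hR => by rw [Multiset.count_eq_one_of_mem hnd hR, one_mul]]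
        have hmon : ∀ R ∈ N P, R.Monic := fun R hR => ((Polynomial.mem_normalizedFactors_iff hne).1 hR).2.1
        rw [← natDegree_multiset_prod_of_monic _ hmon, show (N P).prod = P.map φ by
          rw [prod_normalizedFactors_eq hne, (hP.2.map φ).normalize_eq_self], natDegree_map]
      · rw [if_neg he, zero_mul]
        refine Multiset.sum_eq_zero fun x hx => ?_
        obtain ⟨R, hR, rfl⟩ := Multiset.mem_map.1 hx
        have hcop : IsCoprime P Q := (hP.1.isRelPrime_iff_not_dvd.2 fun hd =>
          he (eq_of_monic_of_associated hP.2 hQ.2 (hP.1.associated_of_dvd hQ.1 hd))).isCoprime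
        have hd := disjoint_normalizedFactors (hcop.map (mapRingHom φ)).isRelPrime
        rw [show (N Q).count R = 0 from Multiset.count_eq_zero.2 (Multiset.disjoint_left.1 hd hR), zero_mul]
  have hfac : ∀ f : K[X], f ≠ 0 → ∀ P ∈ normalizedFactors f, Irreducible P ∧ P.Monic := fun f hf P hP =>
    ⟨((Polynomial.mem_normalizedFactors_iff hf).1 hP).1, ((Polynomial.mem_normalizedFactors_iff hf).1 hP).2.1⟩
  have hmain : ∀ m : Multiset K[X], (∀ P ∈ m, Irreducible P ∧ P.Monic) →
      B (m.map N).sum ((normalizedFactors f₂).map N).sum = BK m (normalizedFactors f₂) := fun m hm => by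
    induction m using Multiset.induction_on with
    | empty => simp [B, BK]
    | cons P m ih =>
      obtain ⟨hP, hm⟩ := Multiset.forall_mem_cons.1 hm
      have hadd : ∀ a b c : Multiset L[X], B (a + b) c = B a c + B b c := fun a b c => by simp [B]
      rw [Multiset.map_cons, Multiset.sum_cons, hadd, ih hm, hsub _ (hfac f₂ h₂) P hP]
      simp [BK]
  exact hmain _ (hfac f₁ h₁)

end Groth.Agent.S16836
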