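import Groth.Statements.S17512


set_option autoImplicit false
universe u
open ThetaRep

namespace Groth.Agent.S17512

/-- For the group of k-points of a non-degenerate theta group with constant K, let k be an algebraically
closed field and Γ a group given with an injective homomorphism ι from kˣ onto the centre of Γ such
that K = Γ/ι(kˣ) is finite and commutative (all commutators lie in ι(kˣ)) of order prime to the
characteristic exponent of k — the group of k-points of a non-degenerate theta group 1 → G_m → G → K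
→ 1 with rank(K) prime to char(k). Subgroups of K correspond to subgroups H of Γ containing ι(kˣ);
such an H is totally isotropic for the commutator pairing exactly when it is commutative, and its
orthogonal corresponds to the centralizer of H. For a subgroup H ⊇ ι(kˣ) the following are
equivalent: (i) H is commutative and maximal among commutative subgroups of Γ; (ii) H is commutative
and [H : ι(kˣ)]² = [Γ : ι(kˣ)]; (iii) H is its own centralizer. (The published lemma is for an
arbitrary non-degenerate theta group scheme, where (iii) ⇔ (ii) ⇒ (i) always and (i) ⇒ (iii) needs k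
algebraically closed; this row is the case of the group of k-points with K constant.) -/
theorem result
    (k : Type u) [Field k] [IsAlgClosed k]
    (Γ : Type u) [Group Γ] (ι : kˣ →* Γ) (hι : Function.Injective ι)
    (hcent : ι.range = Subgroup.center Γ) (hcomm : commutator Γ ≤ ι.range)
    [Finite (Γ ⧸ ι.range)] (hcop : (Nat.card (Γ ⧸ ι.range)).Coprime (ringExpChar k))
    (H : Subgroup Γ) (hH : ι.range ≤ H) :
    List.TFAE [
      IsMulCommutative H ∧ ∀ H' : Subgroup Γ, IsMulCommutative H' → H ≤ H' → H' = H,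
      IsMulCommutative H ∧ (ι.range.relIndex H) ^ 2 = ι.range.index,
      H = Subgroup.centralizer (H : Set Γ)] := by
  classical
  have hcH : ∀ {h : Γ}, h ∈ ι.range → ∀ g : Γ, g * h = h * g := fun hh g =>
    Subgroup.mem_center_iff.mp (hcent ▸ hh) g
  -- commutator pairing
  have hex : ∀ g h : Γ, ∃ c : kˣ, ι c = g * h * g⁻¹ * h⁻¹ := fun g h =>
    hcomm (Subgroup.commutator_mem_commutator (Subgroup.mem_top g) (Subgroup.mem_top h))
  choose e he using hex
  have hcen' : ∀ g h x : Γ, g * h * g⁻¹ * h⁻¹ * x = x * (g * h * g⁻¹ * h⁻¹) := fun g h x => by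
    rw [← he]; exact (hcH ⟨_, rfl⟩ x).symm
  have eL : ∀ g g' h, e (g * g') h = e g h * e g' h := fun g g' h => hι (by
    rw [map_mul, he, he, he, hcen' g h (g' * h * g'⁻¹ * h⁻¹)]
    have := hcen' g' h g
    calc g * g' * h * (g * g')⁻¹ * h⁻¹ = g * (g' * h * g'⁻¹ * h⁻¹) * (h * g⁻¹ * h⁻¹) := by group
      _ = (g' * h * g'⁻¹ * h⁻¹) * g * (h * g⁻¹ * h⁻¹) := by rw [this]
      _ = _ := by group)
  have eR : ∀ g h h', e g (h * h') = e g h * e g h' := fun g h h' => hι (by
    rw [map_mul, he, he, he]
    have := hcen' g h' h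
    calc g * (h * h') * g⁻¹ * (h * h')⁻¹ = g * h * g⁻¹ * ((g * h' * g⁻¹ * h'⁻¹) * h⁻¹) := by group
      _ = g * h * g⁻¹ * (h⁻¹ * (g * h' * g⁻¹ * h'⁻¹)) := by rw [hcen' g h' h⁻¹]
      _ = _ := by group)
  have e1 : ∀ g h, e g h = 1 ↔ g * h = h * g := fun g h => by
    rw [← hι.eq_iff, he, map_one, mul_inv_eq_one, mul_inv_eq_iff_eq_mul]
  have hCZ : ι.range ≤ Subgroup.centralizer (H : Set Γ) := fun z hz =>
    Subgroup.mem_centralizer_iff.mpr fun h _ => hcH hz h
  -- |Hom(A, kˣ)| ≤ |A|
  have hdual : ∀ (A : Type u) [Group A] [Finite A], Finite (A →* kˣ) ∧ Nat.card (A →* kˣ) ≤ Nat.card A := by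
    intro A _ _
    have := Fintype.ofFinite A
    have hl : LinearIndependent k (fun f : A →* kˣ => fun a => (f a : k)) :=
      (linearIndependent_monoidHom A k).comp (fun f : A →* kˣ => (Units.coeHom k).comp f)
        (fun f g hfg => MonoidHom.ext fun a => Units.ext (DFunLike.congr_fun hfg a))
    have hfin : Finite (A →* kˣ) := hl.finite
    have := Fintype.ofFinite (A →* kˣ)
    refine ⟨hfin, ?_⟩
    simpa [Nat.card_eq_fintype_card] using hl.fintype_card_le_finrank
  -- φ : Γ → Hom(H, kˣ) factors through H / Z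
  let C := Subgroup.centralizer (H : Set Γ)
  let Z' : Subgroup H := ι.range.subgroupOf H
  have : Z'.Normal := ⟨fun z hz h => by
    have : ((h * z * h⁻¹ : H) : Γ) = (z : Γ) := by
      push_cast; rw [hcH (Subgroup.mem_subgroupOf.mp hz) h]; group
    exact Subgroup.mem_subgroupOf.mpr (this ▸ Subgroup.mem_subgroupOf.mp hz)⟩
  have hi0 : ι.range.index ≠ 0 := Subgroup.index_ne_zero_of_finite
  have hr0 : ι.range.relIndex H ≠ 0 := fun h0 => hi0 (by
    rw [← Subgroup.relIndex_mul_index hH, h0, zero_mul])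
  have : Finite (H ⧸ Z') := Nat.finite_of_card_ne_zero hr0
  let φ : Γ →* ((H ⧸ Z') →* kˣ) := MonoidHom.mk'
    (fun g => QuotientGroup.lift Z' (MonoidHom.mk' (fun h : H => e g h) (fun a b => eR g a b))
      (fun z hz => (e1 g z).mpr (hcH (Subgroup.mem_subgroupOf.mp hz) g)))
    (fun g g' => MonoidHom.ext fun q => QuotientGroup.induction_on q fun h => eL g g' h)
  have hkerφ : φ.ker = C := by
    ext g
    rw [MonoidHom.mem_ker, Subgroup.mem_centralizer_iff]
    refine ⟨fun hg h hh => ((e1 g h).mp ?_).symm, fun hg => MonoidHom.ext fun q =>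
      QuotientGroup.induction_on q fun h => (e1 g h).mpr (hg h h.2).symm⟩
    exact DFunLike.congr_fun hg ((⟨h, hh⟩ : H) : H ⧸ Z')
  have hle1 : C.index ≤ ι.range.relIndex H := by
    obtain ⟨hf, hcard⟩ := hdual (H ⧸ Z')
    rw [← hkerφ, Subgroup.index_ker]
    exact (Nat.card_le_card_of_injective _ Subtype.val_injective).trans hcard
  have hC0 : C.index ≠ 0 := fun h0 => hi0 (by
    rw [← Subgroup.relIndex_mul_index hCZ, h0, mul_zero])
  have hCn : C.Normal := hkerφ ▸ φ.normal_ker
  have : Finite (Γ ⧸ C) := Nat.finite_of_card_ne_zero hC0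
  let ψ : H →* ((Γ ⧸ C) →* kˣ) := MonoidHom.mk'
    (fun h => QuotientGroup.lift C (MonoidHom.mk' (fun g : Γ => e g h) (fun a b => eL a b h))
      (fun z hz => (e1 z h).mpr (Subgroup.mem_centralizer_iff.mp hz h h.2).symm))
    (fun h h' => MonoidHom.ext fun q => QuotientGroup.induction_on q fun g => eR g h h')
  have hkerψ : ψ.ker = Z' := by
    ext h
    rw [MonoidHom.mem_ker, Subgroup.mem_subgroupOf, hcent, Subgroup.mem_center_iff]
    refine ⟨fun hh g => (e1 g h).mp (DFunLike.congr_fun hh (g : Γ ⧸ C)), fun hh => MonoidHom.ext fun q =>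
      QuotientGroup.induction_on q fun g => (e1 g h).mpr (hh g)⟩
  have hle2 : ι.range.relIndex H ≤ C.index := by
    obtain ⟨hf, hcard⟩ := hdual (Γ ⧸ C)
    change Z'.index ≤ _
    rw [← hkerψ, Subgroup.index_ker]
    exact (Nat.card_le_card_of_injective _ Subtype.val_injective).trans hcard
  have hkey : C.index = ι.range.relIndex H := le_antisymm hle1 hle2
  have hprod : ι.range.relIndex C * ι.range.relIndex H = ι.range.index := by
    rw [← hkey, Subgroup.relIndex_mul_index hCZ]
  have hHC : IsMulCommutative H → H ≤ C := fun hc x hx =>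
    Subgroup.mem_centralizer_iff.mpr fun y hy =>
      congrArg Subtype.val (hc.is_comm.comm (⟨y, hy⟩ : H) ⟨x, hx⟩)
  have hcomC : H = C → IsMulCommutative H := fun h => ⟨⟨fun a b => Subtype.ext
    ((Subgroup.mem_centralizer_iff.mp (h ▸ b.2 : (b : Γ) ∈ C)) a a.2)⟩⟩
  tfae_have 1 → 3 := by
    rintro ⟨hc, hmax⟩
    refine le_antisymm (hHC hc) fun g hg => ?_
    have hg' : ∀ y ∈ H, y * g = g * y := Subgroup.mem_centralizer_iff.mp hg
    have hc' : IsMulCommutative (Subgroup.closure ((H : Set Γ) ∪ {g})) :=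
      Subgroup.isMulCommutative_closure (by
        rintro a (ha | rfl) b (hb | hb)
        · exact congrArg Subtype.val (hc.is_comm.comm (⟨a, ha⟩ : H) ⟨b, hb⟩)
        · rw [Set.mem_singleton_iff.mp hb]; exact hg' a ha
        · exact (hg' b hb).symm
        · rw [Set.mem_singleton_iff.mp hb])
    rw [← hmax _ hc' (fun x hx => Subgroup.subset_closure (Or.inl hx))]
    exact Subgroup.subset_closure (Or.inr rfl)
  tfae_have 3 → 1 := by
    intro h
    refine ⟨hcomC h, fun H' hc' hle => le_antisymm (fun x hx => ?_) hle⟩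
    rw [h]
    exact Subgroup.mem_centralizer_iff.mpr fun y hy =>
      congrArg Subtype.val (hc'.is_comm.comm (⟨y, hle hy⟩ : H') ⟨x, hx⟩)
  tfae_have 3 → 2 := by
    intro h
    refine ⟨hcomC h, ?_⟩
    rw [← hprod, pow_two]
    congr 2
  tfae_have 2 → 3 := by
    rintro ⟨hc, hsq⟩
    refine le_antisymm (hHC hc) (Subgroup.relIndex_eq_one.mp ?_)
    have h1 : ι.range.relIndex C = ι.range.relIndex H :=
      Nat.eq_of_mul_eq_mul_right (Nat.pos_of_ne_zero hr0) (by rw [hprod, ← hsq, pow_two])
    have h2 := Subgroup.relIndex_mul_relIndex ι.range H C hH (hHC hc)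
    rw [h1] at h2
    exact Nat.eq_of_mul_eq_mul_left (Nat.pos_of_ne_zero hr0) (by rw [h2, mul_one])
  tfae_finish

end Groth.Agent.S17512
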