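import Groth.Statements.S11410
import Groth.Agent.Lib.AffGrp19.Fixed

set_option autoImplicit false
universe u
open CategoryTheory MonoidalCategory CartesianMonoidalCategory MonObj GrpObj AlgebraicGeometry CategoryTheory.Limits
open AlgGrp

namespace Groth.Agent.S11410

/-- Over an algebraically closed field k, let G be an algebraic group (a smooth k-group scheme of finite
type) acting on a variety X (an integral, separated k-scheme of finite type), faithfully in the
sense that every rational point of G acting as the identity of X is the identity element. Then for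
every rational point x of X, the isotropy subgroup scheme of x (a closed subgroup scheme of G whose
points are exactly the points of G fixing x) is affine. -/
theorem result (k : Type u) [Field k] [IsAlgClosed k]
    (G X : Over (Spec (CommRingCat.of k))) [GrpObj G] [Smooth G.hom] [QuasiCompact G.hom]
    [LocallyOfFiniteType X.hom] [QuasiCompact X.hom] [IsSeparated X.hom] [IsIntegral X.left]
    (a : AlgGrp.Action G X)
    (hfaith : ∀ g : 𝟙_ (Over (Spec (CommRingCat.of k))) ⟶ G, lift (toUnit X ≫ g) (𝟙 X) ≫ a.act = 𝟙 X → g = η[G])
    (x : 𝟙_ (Over (Spec (CommRingCat.of k))) ⟶ X) (St : Over (Spec (CommRingCat.of k))) [GrpObj St] (s : St ⟶ G) [IsMonHom s] [IsClosedImmersion s.left]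
    (hs : ∀ (T : Over (Spec (CommRingCat.of k))) (g : T ⟶ G), (∃ t : T ⟶ St, t ≫ s = g) ↔ lift g (toUnit T ≫ x) ≫ a.act = toUnit T ≫ x) :
    IsAffine St.left := by
  haveI : LocallyOfFiniteType St.hom := by rw [← Over.w s]; infer_instance
  haveI : QuasiCompact St.hom := by rw [← Over.w s]; infer_instance
  let a' : AlgGrp.Action St X :=
    { act := (s ▷ X) ≫ a.act
      one_act := by rw [← comp_whiskerRight_assoc, IsMonHom.one_hom, a.one_act]
      mul_act := by
        rw [← comp_whiskerRight_assoc, IsMonHom.mul_hom, comp_whiskerRight_assoc, a.mul_act]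
        simp only [← Category.assoc]
        congr 1
        ext1
        · simp
        · simp only [Category.assoc, whiskerLeft_snd, whiskerRight_snd]
          simp only [← Category.assoc]
          congr 1
          ext1 <;> simp }
  have hfix : a'.IsFixedPt x := fun T g => by
    show CartesianMonoidalCategory.lift g _ ≫ (s ▷ X) ≫ a.act = _
    rw [lift_whiskerRight_assoc]
    exact (hs T _).mp ⟨g, rfl⟩
  haveI : IsLocallyNoetherian X.left := LocallyOfFiniteType.isLocallyNoetherian X.hom
  haveI : QuasiSeparated St.hom := Groth.Agent.AlgGrpBasic19.quasiSeparatedSpace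
  haveI : Flat (𝟙 St : St ⟶ St).left := inferInstanceAs (Flat (𝟙 St.left))
  haveI : Surjective (𝟙 St : St ⟶ St).left := inferInstanceAs (Surjective (𝟙 St.left))
  refine Groth.Agent.AffGrp19.isAffine_of_injective_points St fun g g' hgg => ?_
  have hh := (Groth.Agent.AffGrp19.comp_eq_comp_iff (Groth.Agent.AffGrp19.toAff St) g g').mp hgg
  set u := g'⁻¹ * g with hu
  refine (inv_mul_eq_one.mp ?_).symm
  rw [← hu]
  have hα := Groth.Agent.AffGrp19.eq_of_thick_integral
    (CartesianMonoidalCategory.lift (fst _ X ≫ u) (snd _ X) ≫ a'.act) (snd _ X) _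
    (Groth.Agent.AffGrp19.act_thick a' x hfix (𝟙 St)
      (fun T g y hg => by rw [Category.comp_id] at hg; rw [hg, Groth.Agent.AlgGrpBasic19.act_one]) u
      (by rwa [Category.id_comp]))
  have h := congrArg (fun f => CartesianMonoidalCategory.lift (toUnit X) (𝟙 X) ≫ f) hα
  simp only [comp_lift_assoc, lift_fst_assoc, lift_snd] at h
  have h' : CartesianMonoidalCategory.lift (toUnit X ≫ u ≫ s) (𝟙 X) ≫ a.act = 𝟙 X := by
    rw [← Category.assoc (toUnit X), ← lift_whiskerRight_assoc]
    exact h
  haveI : Mono s.left := inferInstance
  haveI : Mono s := Over.mono_of_mono_left s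
  rw [← cancel_mono s, hfaith _ h', MonObj.one_comp, MonObj.one_eq_one]

end Groth.Agent.S11410
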