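import Groth.Statements.S6064
import Groth.Agent.Lib.MTRigid29.MorGrp
import Groth.Agent.Lib.MTRigid29.MTFlat

set_option autoImplicit false
open CategoryTheory MonoidalCategory CartesianMonoidalCategory MonObj GrpObj AlgebraicGeometry
universe u
open SGA3x

namespace Groth.Agent.S6064

/-- Let G be an S-group which is affine over S and H an S-group of multiplicative type which is finite
over S. Then the functor of group homomorphisms from H to G is representable by an S-scheme which is
affine over S (with its universal family of homomorphisms); if moreover G is of finite type (resp.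
of finite presentation) over S, so is the representing scheme (for schemes affine over S these are
the local conditions). -/
theorem result {S : Scheme.{u}} (H G : Over S) [GrpObj H] [GrpObj G]
    (hH : SGA3x.IsMultTypeFT H) [IsFinite H.hom] [IsAffineHom G.hom] :
    ∃ (A : Over S) (υ : H ⊗ A ⟶ G), AutFam.RepresentsHom H G A υ ∧ IsAffineHom A.hom ∧
      (LocallyOfFiniteType G.hom → LocallyOfFiniteType A.hom) ∧
      (LocallyOfFinitePresentation G.hom → LocallyOfFinitePresentation A.hom) := by
  haveI := Groth.Agent.MTRigid29.lfp_of_isMultTypeFT hH
  haveI := Groth.Agent.MTRigid29.flat_of_isMultTypeFT hH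
  obtain ⟨M, ev, h1, h2, h3, h4⟩ := Groth.Agent.MTRigid29.exists_homGrpScheme H G
  exact ⟨M, ev, h4, h1, h2, h3⟩

end Groth.Agent.S6064
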