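import Groth.Statements.S12540
import Groth.Agent.Lib.QuotRed19.Basic
-- import your own Groth.Agent.* helpers here

set_option autoImplicit false
universe u
open CategoryTheory MonoidalCategory CartesianMonoidalCategory MonObj GrpObj AlgebraicGeometry
open AlgGrp

namespace Groth.Agent.S12540

set_option linter.style.haveILetI false
set_option backward.isDefEq.respectTransparency.types false


/-- Over an algebraically closed field k, let G be an algebraic group (a smooth k-group scheme of finite
type), h : H → G a closed subgroup scheme, and h' : H' → H a closed subgroup scheme of H which is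
reduced with the same underlying space as H (the reduced subgroup scheme H_red; it is a subgroup of
G through h' ≫ h). Let X, with its G-action and base point, be the quotient G/H, and X' the quotient
G/H' (each locally of finite type over k, with flat surjective orbit map identifying G × H with G
×_X G, respectively G × H' with G ×_{X'} G). Then X is affine if and only if X' is affine. (The
published statement adds the same equivalence with the identity component of H_red; that clause is
not stated here.) -/
theorem result (k : Type u) [Field k] [IsAlgClosed k]
    (G : Over (Spec (CommRingCat.of k))) [GrpObj G] [Smooth G.hom] [QuasiCompact G.hom]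
    (H : Over (Spec (CommRingCat.of k))) [GrpObj H] (h : H ⟶ G) [IsMonHom h] [IsClosedImmersion h.left]
    (H' : Over (Spec (CommRingCat.of k))) [GrpObj H'] (h' : H' ⟶ H) [IsMonHom h'] [IsClosedImmersion h'.left]
    [Surjective h'.left] [IsReduced H'.left]
    (X : Over (Spec (CommRingCat.of k))) (a : AlgGrp.Action G X) (o : 𝟙_ (Over (Spec (CommRingCat.of k))) ⟶ X)
    (hX : AGF.IsQuotient h X a o)
    (X' : Over (Spec (CommRingCat.of k))) (a' : AlgGrp.Action G X') (o' : 𝟙_ (Over (Spec (CommRingCat.of k))) ⟶ X')
    (hX' : AGF.IsQuotient (h' ≫ h) X' a' o') :
    IsAffine X.left ↔ IsAffine X'.left := by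
  haveI : LocallyOfFiniteType G.hom := inferInstance
  obtain ⟨f, hf, hfs⟩ := QuotRed19.exists_finite_surjective h h' hX hX'
  haveI := hf
  haveI := hfs
  haveI : LocallyOfFiniteType X.hom := hX.1
  haveI : CompactSpace X.left := QuotRed19.compactSpace hX
  haveI : IsLocallyNoetherian X.left := LocallyOfFiniteType.isLocallyNoetherian X.hom
  haveI : IsNoetherian X.left := {}
  exact ⟨fun _ => isAffine_of_isAffineHom f.left, fun _ => CohFound.isAffine_of_finite_surjective f.left⟩

end Groth.Agent.S12540
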