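import Groth.Statements.S4929
import Groth.Agent.Lib.EGA43Top.UnivOpenAt

set_option autoImplicit false
open CategoryTheory AlgebraicGeometry
universe u v w
open EGA43

namespace Groth.Agent.S4929

open CategoryTheory.Limits in
/-- Let f : X ⟶ Y be a morphism of schemes, x a point of X, and (Y_i ⟶ Y) a finite family of closed
immersions whose images cover Y. If for every i the base change X ×_Y Y_i ⟶ Y_i is universally open
at every point lying over x, then f is universally open at x. -/
theorem result {X Y : Scheme.{u}} (f : X ⟶ Y) (x : X) {ι : Type w}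
    [Finite ι] (T : ι → Scheme.{u}) (g : ∀ i, T i ⟶ Y) [∀ i, IsClosedImmersion (g i)]
    (hcov : ⋃ i, Set.range (g i).base = Set.univ)
    (h : ∀ i, ∀ x' : ↥(pullback f (g i)), (pullback.fst f (g i)).base x' = x →
      EGA43.IsUnivOpenAt (pullback.snd f (g i)) x') :
    EGA43.IsUnivOpenAt f x := by
  intro Y' k x' hx'
  let Yi : ι → Set Y' := fun i => Set.range (pullback.fst k (g i)).base
  have hcl : ∀ i, IsClosed (Yi i) := fun i => (pullback.fst k (g i)).isClosedEmbedding.isClosed_range
  have hcov' : ⋃ i, Yi i = Set.univ := Set.eq_univ_of_forall fun y => by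
    obtain ⟨i, t, ht⟩ := Set.mem_iUnion.1 (hcov.superset (Set.mem_univ (k y)))
    obtain ⟨z, hz, -⟩ := Scheme.Pullback.exists_preimage_pullback (f := k) (g := g i) y t ht.symm
    exact Set.mem_iUnion.2 ⟨i, z, hz⟩
  intro U hU
  have hnot : ∀ i, ∀ᶠ b in nhds ((pullback.snd f k) x'), b ∈ Yi i → (pullback.snd f k) x' ∈ Yi i := by
    intro i
    by_cases hi : (pullback.snd f k) x' ∈ Yi i
    · exact Filter.Eventually.of_forall fun _ _ => hi
    · filter_upwards [(hcl i).isOpen_compl.mem_nhds hi] with b hb hb'
      exact absurd hb' hb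
  have hall : ∀ i, (pullback.snd f k) x' ∈ Yi i →
      ∀ᶠ b in nhds ((pullback.snd f k) x'), b ∈ Yi i → b ∈ (pullback.snd f k).base '' U := by
    intro i hi
    obtain ⟨z, hz⟩ := hi
    let X'' := pullback (pullback.snd f k) (pullback.fst k (g i))
    let a : X'' ⟶ pullback f k := pullback.fst _ _
    let b : X'' ⟶ pullback k (g i) := pullback.snd _ _
    have sqa : IsPullback (a ≫ pullback.fst f k) b f (pullback.fst k (g i) ≫ k) :=
      (IsPullback.of_hasPullback _ _).paste_horiz (IsPullback.of_hasPullback f k)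
    let w : X'' ⟶ pullback f (g i) := pullback.lift (a ≫ pullback.fst f k) (b ≫ pullback.snd k (g i)) (by
      rw [sqa.w, pullback.condition, Category.assoc])
    have hwf : w ≫ pullback.fst f (g i) = a ≫ pullback.fst f k := pullback.lift_fst _ _ _
    have sqw : IsPullback w b (pullback.snd f (g i)) (pullback.snd k (g i)) := by
      refine IsPullback.of_right ?_ (pullback.lift_snd _ _ _) (IsPullback.of_hasPullback f (g i))
      rw [hwf, ← pullback.condition]
      exact sqa
    obtain ⟨x'', hx1, hx2⟩ := Scheme.Pullback.exists_preimage_pullback (f := pullback.snd f k)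
      (g := pullback.fst k (g i)) x' z hz.symm
    have hi' : EGA43.IsUnivOpenAt (pullback.snd f (g i)) (w x'') := h i _ (by
      rw [← Scheme.Hom.comp_apply, hwf, Scheme.Hom.comp_apply, hx1]
      exact hx')
    have ho := Groth.Agent.EGA43Top.isUnivOpenAt_iff.1
      (Groth.Agent.EGA43Top.isUnivOpenAt_baseChange sqw hi') _ _ _ _ _ (IsPullback.id_horiz b) x'' rfl
    have h1 := ho _ (a.continuous.continuousAt.preimage_mem_nhds (hx1.symm ▸ hU : U ∈ nhds (a x'')))
    rw [show b x'' = z from hx2, (pullback.fst k (g i)).isClosedEmbedding.isInducing.nhds_eq_comap,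
      Filter.mem_comap] at h1
    obtain ⟨W, hW, hWU⟩ := h1
    rw [show (pullback.fst k (g i)) z = (pullback.snd f k) x' from hz] at hW
    filter_upwards [hW] with c hc hcY
    obtain ⟨d, rfl⟩ := hcY
    obtain ⟨e, he, rfl⟩ := hWU hc
    exact ⟨a e, he, by
      change (a ≫ pullback.snd f k) e = _
      rw [show a ≫ pullback.snd f k = b ≫ pullback.fst k (g i) from pullback.condition]
      rfl⟩
  filter_upwards [Filter.eventually_all.2 hnot, Filter.eventually_all.2 fun i =>
      Filter.eventually_imp_distrib_left.2 (hall i)] with c hc1 hc2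
  obtain ⟨i, hi⟩ := Set.mem_iUnion.1 (hcov'.superset (Set.mem_univ c))
  exact hc2 i (hc1 i hi) hi

end Groth.Agent.S4929
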