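import Groth.Statements.S8267
import Groth.Agent.Lib.SymAlg11.Spec
import Groth.Agent.Lib.SymAlg11.Sheaf
import Groth.Agent.Lib.ModM1.Coh

set_option autoImplicit false
universe u
open CategoryTheory CategoryTheory.Limits AlgebraicGeometry Opposite TopologicalSpace
open EGA2

namespace Groth.Agent.S8267

/-- Let E be a quasi-coherent O_S-module of finite type and A (through j : E → A) its symmetric algebra.
Then the vector bundle V(E) = Spec(A) is of finite type over S, i.e. its (affine) structure morphism
is locally of finite type. -/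
theorem result {S : Scheme.{u}} (E : S.Modules) (hE : Coh.IsCoh E)
    (A : RelSpec.QCAlg S) (j : E ⟶ A.toModule) (hA : RelSpec.IsSymAlg E A j) :
    LocallyOfFiniteType A.π := by
  refine Groth.Agent.SymAlg11.π_of_forall @LocallyOfFiniteType (fun f _ => inferInstance) A
    fun U hU => ?_
  rw [HasRingHomProperty.Spec_iff (P := @LocallyOfFiniteType)]
  haveI := Groth.Agent.M1.finite_sections hE.1 hE.2 hU
  haveI : Algebra.FiniteType Γ(S, U) (SymmetricAlgebra Γ(S, U) Γ(E, U)) := by
    obtain ⟨n, f, hf⟩ := Module.Finite.exists_fin (R := Γ(S, U)) (M := Γ(E, U))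
    refine Algebra.FiniteType.of_surjective
      (MvPolynomial.aeval fun i : Fin n => SymmetricAlgebra.ι Γ(S, U) Γ(E, U) (f i)) fun a => ?_
    induction a using SymmetricAlgebra.induction with
    | algebraMap r => exact ⟨MvPolynomial.C r, MvPolynomial.aeval_C _ _⟩
    | ι x =>
      have hx : x ∈ Submodule.span Γ(S, U) (Set.range f) := hf ▸ Submodule.mem_top
      induction hx using Submodule.span_induction with
      | mem y hy =>
        obtain ⟨i, rfl⟩ := hy
        exact ⟨MvPolynomial.X i, MvPolynomial.aeval_X _ _⟩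
      | zero => exact ⟨0, by rw [map_zero, map_zero]⟩
      | add a b _ _ ha hb =>
        obtain ⟨⟨a', ha⟩, ⟨b', hb⟩⟩ := And.intro ha hb
        exact ⟨a' + b', by rw [map_add, map_add, ha, hb]⟩
      | smul c a _ ha =>
        obtain ⟨a', ha⟩ := ha
        exact ⟨c • a', by rw [map_smul, map_smul, ha]⟩
    | mul a b ha hb =>
      obtain ⟨⟨a', ha⟩, ⟨b', hb⟩⟩ := And.intro ha hb
      exact ⟨a' * b', by rw [map_mul, ha, hb]⟩
    | add a b ha hb =>
      obtain ⟨⟨a', ha⟩, ⟨b', hb⟩⟩ := And.intro ha hb
      exact ⟨a' + b', by rw [map_add, ha, hb]⟩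
  have h1 : (A.str.app (op U)).hom =
      (Groth.Agent.SymAlg11.liftOn A j U).comp
        (algebraMap Γ(S, U) (SymmetricAlgebra Γ(S, U) Γ(E, U))) :=
    RingHom.ext fun r => (Groth.Agent.SymAlg11.liftOn_algebraMap A j U r).symm
  rw [h1]
  exact RingHom.FiniteType.comp
    (RingHom.FiniteType.of_surjective _ (Groth.Agent.SymAlg11.bijective_liftOn hE.1 hA U hU).2)
    (RingHom.finiteType_algebraMap.mpr inferInstance)

end Groth.Agent.S8267
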