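import Groth.Statements.S8268
import Groth.Agent.Lib.SymAlg11.Spec
import Groth.Agent.Lib.SymAlg11.Sheaf
import Groth.Agent.Lib.ModM1.Coh

set_option autoImplicit false
universe u
open CategoryTheory CategoryTheory.Limits AlgebraicGeometry Opposite TopologicalSpace
open EGA2

namespace Groth.Agent.S8268

/-- A surjective homomorphism E → F of quasi-coherent O_S-modules induces a closed immersion V(F) → V(E)
of the associated vector bundles (relative spectra of the symmetric algebras; the algebra map A → B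
is the one extending E → F). -/
theorem result {S : Scheme.{u}} (E F : S.Modules) (hE : Coh.IsQCoh E)
    (hF : Coh.IsQCoh F) (u : E ⟶ F) [Epi u]
    (A B : RelSpec.QCAlg S) (j : E ⟶ A.toModule) (k : F ⟶ B.toModule)
    (hA : RelSpec.IsSymAlg E A j) (hB : RelSpec.IsSymAlg F B k)
    (ψ : A ⟶ B) (hψ : j ≫ RelSpec.QCAlg.Hom.toModuleMap ψ = u ≫ k) :
    IsClosedImmersion (RelSpec.QCAlg.specMap ψ) := by
  refine Groth.Agent.SymAlg11.specMap_of_forall @IsClosedImmersion ψ fun U hU => ?_
  refine IsClosedImmersion.spec_of_surjective _ ?_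
  have hu := Groth.Agent.M1.app_surjective_affine_of_isQCoh hE hF u hU
  have key : (ψ.hom.app (op U)).hom.comp (Groth.Agent.SymAlg11.liftOn A j U) =
      (Groth.Agent.SymAlg11.liftOn B k U).comp (Groth.Agent.SymAlg11.symMap (RingHom.id _)
        (u.app U).hom (fun r m => u.app_smul r m)) := by
    refine Groth.Agent.SymAlg11.symHom_ext (fun r => ?_) (fun m => ?_)
    · rw [RingHom.comp_apply, RingHom.comp_apply, Groth.Agent.SymAlg11.symMap_algebraMap,
        Groth.Agent.SymAlg11.liftOn_algebraMap, Groth.Agent.SymAlg11.liftOn_algebraMap]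
      exact ConcreteCategory.congr_hom (NatTrans.congr_app ψ.comm (op U)) r
    · rw [RingHom.comp_apply, RingHom.comp_apply, Groth.Agent.SymAlg11.symMap_ι,
        Groth.Agent.SymAlg11.liftOn_ι, Groth.Agent.SymAlg11.liftOn_ι]
      exact ConcreteCategory.congr_hom (congrArg (fun f => Scheme.Modules.Hom.app f U) hψ) m
  have hsurj : Function.Surjective (Groth.Agent.SymAlg11.symMap (RingHom.id _)
      (u.app U).hom (fun r m => u.app_smul r m) :
      SymmetricAlgebra Γ(S, U) Γ(E, U) →+* SymmetricAlgebra Γ(S, U) Γ(F, U)) := fun a => by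
    induction a using SymmetricAlgebra.induction with
    | algebraMap r => exact ⟨algebraMap _ _ r, Groth.Agent.SymAlg11.symMap_algebraMap _ _ _ r⟩
    | ι x =>
      obtain ⟨y, rfl⟩ := hu x
      exact ⟨SymmetricAlgebra.ι _ _ y, Groth.Agent.SymAlg11.symMap_ι _ _ _ y⟩
    | mul a b ha hb =>
      obtain ⟨⟨a', ha⟩, ⟨b', hb⟩⟩ := And.intro ha hb
      exact ⟨a' * b', by rw [map_mul, ha, hb]⟩
    | add a b ha hb =>
      obtain ⟨⟨a', ha⟩, ⟨b', hb⟩⟩ := And.intro ha hb
      exact ⟨a' + b', by rw [map_add, ha, hb]⟩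
  exact Function.Surjective.of_comp (g := Groth.Agent.SymAlg11.liftOn A j U)
    (by rw [← RingHom.coe_comp, key, RingHom.coe_comp]
        exact (Groth.Agent.SymAlg11.bijective_liftOn hF hB U hU).2.comp hsurj)

end Groth.Agent.S8268
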