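import Groth.Statements.S0389
import Groth.Agent.Lib.FlatH4.GenFreeMain

set_option autoImplicit false
universe u
open FlatMor

namespace Groth.Agent.S0389

open TensorProduct in
/-- Generic freeness: over a domain, for a finite type algebra and a finite module over it, after
inverting one nonzero element of the base the algebra and the module become free over the base, the
algebra becomes finitely presented over the base and the module finitely presented over the algebra. -/
theorem result {R S M : Type u} [CommRing R] [IsDomain R] [CommRing S] [Algebra R S] [Algebra.FiniteType R S] [AddCommGroup M] [Module S M] [Module R M] [IsScalarTower R S M] [Module.Finite S M] :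
    ∃ f : R, f ≠ 0 ∧ Module.Free (Localization.Away f) (Localization.Away f ⊗[R] M) ∧
      Module.Free (Localization.Away f) (Localization.Away f ⊗[R] S) ∧
      Algebra.FinitePresentation (Localization.Away f) (Localization.Away f ⊗[R] S) ∧
      Module.FinitePresentation (Localization.Away (algebraMap R S f)) (LocalizedModule (Submonoid.powers (algebraMap R S f)) M) := by
  obtain ⟨f₁, hf₁, hfreeM, m, π, W, hπ, hWfg, hWle, hW⟩ :=
    Groth.Agent.FlatH4.exists_free_and_fg_relations (R := R) (S := S) (M := M)
  obtain ⟨f₂, hf₂, hS⟩ := Groth.Agent.FlatH4.exists_free_and_finitePresentation (R := R) (S := S)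
  refine ⟨f₁ * f₂, mul_ne_zero hf₁ hf₂, ?_⟩
  have hu := IsLocalization.Away.algebraMap_isUnit (S := Localization.Away (f₁ * f₂)) (f₁ * f₂)
  rw [map_mul, IsUnit.mul_iff] at hu
  refine ⟨hfreeM _ hu.1, (hS _ hu.2).1, (hS _ hu.2).2, ?_⟩
  set g := algebraMap R S (f₁ * f₂) with hg
  have : Module.FinitePresentation S ((Fin m → S) ⧸ W) :=
    Module.finitePresentation_of_surjective W.mkQ W.mkQ_surjective (by rw [W.ker_mkQ]; exact hWfg)
  let q : ((Fin m → S) ⧸ W) →ₗ[S] M := W.liftQ π hWle
  have hq : Function.Surjective q := fun x => by
    obtain ⟨y, rfl⟩ := hπ x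
    exact ⟨W.mkQ y, rfl⟩
  let Sg := Localization.Away g
  let qg : LocalizedModule (Submonoid.powers g) ((Fin m → S) ⧸ W) →ₗ[Sg]
      LocalizedModule (Submonoid.powers g) M := LocalizedModule.map (Submonoid.powers g) q
  have hqg : Function.Bijective qg := by
    refine ⟨?_, LocalizedModule.map_surjective (Submonoid.powers g) q hq⟩
    rw [injective_iff_map_eq_zero]
    intro z hz
    induction z using LocalizedModule.induction_on with
    | _ x s =>
      rw [LocalizedModule.map_mk, ← LocalizedModule.zero_mk s, LocalizedModule.mk_eq] at hz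
      obtain ⟨c, hc⟩ := hz
      simp only [smul_zero] at hc
      obtain ⟨v, rfl⟩ := Submodule.mkQ_surjective W x
      have h1 : π (((c * s : Submonoid.powers g) : S) • v) = 0 := by
        rw [map_smul, Submonoid.coe_mul, mul_smul]
        exact hc
      obtain ⟨k, hk⟩ := hW _ h1
      rw [← LocalizedModule.zero_mk s, LocalizedModule.mk_eq]
      refine ⟨⟨g ^ k, k, rfl⟩ * c, ?_⟩
      simp only [smul_zero, Submonoid.smul_def, Submonoid.coe_mul]
      rw [smul_smul, ← LinearMap.map_smul, Submodule.mkQ_apply, Submodule.Quotient.mk_eq_zero]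
      have e : g ^ k * (c : S) * (s : S) =
          algebraMap R S (f₂ ^ k) * (algebraMap R S (f₁ ^ k) * ((c * s : Submonoid.powers g) : S)) := by
        have e' : g ^ k = algebraMap R S (f₁ ^ k) * algebraMap R S (f₂ ^ k) := by
          show (algebraMap R S (f₁ * f₂)) ^ k = _
          rw [map_mul, mul_pow, map_pow, map_pow]
        rw [Submonoid.coe_mul, e']; ring
      rw [e, mul_smul]
      refine W.smul_mem _ ?_
      rw [mul_smul, algebraMap_smul]
      exact hk
  exact Module.FinitePresentation.of_equiv (LinearEquiv.ofBijective qg hqg)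

end Groth.Agent.S0389
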