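import Groth.Statements.S18672
import Groth.Agent.Lib.GrLC21.Standard

set_option autoImplicit false
set_option backward.isDefEq.respectTransparency false
universe u
open GrLC

namespace Groth.Agent.S18672

/-- Let R be a graded ring defined over a field k = R_0 which is Cohen–Macaulay and generated over k by
R_1 (the standing hypotheses of this section; only generation in degree one is used), q ≥ 1, R' =
R^(q), and a an integer. Then the Veronese submodule [R(a)]^(q) = ⊕_j R_{a+jq} is generated over R'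
by its piece R(a)_n = R_{a+n}, where n is the smallest multiple of q with n + a ≥ 0. Here 'graded
ring defined over a field' means R = ⊕_{n ≥ 0} R_n is Noetherian with R_0 a field, and m = R_+ is
its unique graded maximal ideal. The Veronese subring R^(q) = ⊕_j R_{jq}, regraded by (R^(q))_j =
R_{jq}, is presented abstractly as a ℤ-graded ring R' with an injective ring homomorphism φ : R' → R
carrying R'_j onto R_{jq} for every j. The module [R(a)]^(q) is presented as a graded R'-module M'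
with an injective additive map g : M' → R, semilinear over φ, carrying M'_j onto R_{a+jq} for every
j; with n = j₀q, the conclusion is that the R'-span of M'_{j₀} is all of M'. -/
theorem result (R : Type u) [CommRing R] [LocCoh.IsCohenMacaulayRing R] (𝒜 : ℤ → AddSubgroup R) [GradedRing 𝒜] (hpos : ∀ n : ℤ, n < 0 → 𝒜 n = ⊥) (h0 : IsField (GrLC.deg0 𝒜)) (hstd : Ideal.span (⋃ n ∈ Set.Ioi (0 : ℤ), (𝒜 n : Set R)) = Ideal.span ((𝒜 1 : AddSubgroup R) : Set R)) (q : ℕ) (hq : 0 < q) (R' : Type u) [CommRing R'] (𝒜' : ℤ → AddSubgroup R') [GradedRing 𝒜'] (φ : R' →+* R) (hφ : Function.Injective φ) (hdeg : ∀ j : ℤ, (𝒜' j).map (φ : R' →+ R) = 𝒜 (j * q)) (a : ℤ) (M' : Type u) [AddCommGroup M'] [Module R' M'] (ℳ' : ℤ → AddSubgroup M') [DirectSum.Decomposition ℳ'] [SetLike.GradedSMul 𝒜' ℳ'] (g : M' →ₛₗ[φ] R) (hg : Function.Injective g) (hgdeg : ∀ j : ℤ, (ℳ' j).map (g : M' →+ R) = 𝒜 (a + j * q)) (j₀ : ℤ) (hj₀ : 0 ≤ a + j₀ * q) (hj₀' : a + (j₀ - 1) * q < 0) : Submodule.span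 R' ((ℳ' j₀ : AddSubgroup M') : Set M') = ⊤ := by
  rw [eq_top_iff]
  intro z _
  refine GrLC21.spans_induction (GrLC21.spans_of_decomposition ℳ') z (Submodule.zero_mem _)
    (fun _ _ => Submodule.add_mem _) fun j y hy => ?_
  have hgy : g y ∈ 𝒜 (a + j * q) := hgdeg j ▸ ⟨y, hy, rfl⟩
  rcases lt_or_ge j j₀ with hj | hj
  · have h1 : g y = 0 := by
      rw [← AddSubgroup.mem_bot, ← hpos (a + j * q) (by nlinarith)]
      exact hgy
    rw [hg (h1.trans (map_zero g).symm)]
    exact Submodule.zero_mem _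
  obtain ⟨l, hl⟩ : ∃ l : ℕ, (l : ℤ) = (j - j₀) * q := ⟨((j - j₀) * q).toNat, Int.toNat_of_nonneg (by nlinarith)⟩
  have hgy' : g y ∈ 𝒜 ((a + j₀ * q) + l) := by
    rwa [hl, show a + j₀ * q + (j - j₀) * q = a + j * q by ring]
  let P := (Submodule.span R' ((ℳ' j₀ : AddSubgroup M') : Set M')).toAddSubgroup.map (g : M' →+ R)
  have hsub : AddSubgroup.closure {z | ∃ u ∈ 𝒜 (l : ℤ), ∃ v ∈ 𝒜 (a + j₀ * q), z = u * v} ≤ P := by
    rw [AddSubgroup.closure_le]
    rintro _ ⟨u, hu, v, hv, rfl⟩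
    rw [hl, ← hdeg] at hu
    rw [← hgdeg] at hv
    obtain ⟨u', -, rfl⟩ := hu
    obtain ⟨v', hv', rfl⟩ := hv
    exact ⟨u' • v', Submodule.smul_mem _ u' (Submodule.subset_span hv'), map_smulₛₗ g u' v'⟩
  obtain ⟨w, hw, e⟩ := hsub (GrLC21.mem_closure_mul hstd hj₀ l hgy')
  rw [← hg e]
  exact hw

end Groth.Agent.S18672
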