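import Groth.Statements.S4412
import Groth.Agent.Lib.EGA2.Veronese

set_option autoImplicit false
universe u
open EGA2

namespace Groth.Agent.S4412

/-- Let S be a ring graded in nonnegative degrees which is Noetherian, d > 0, and S^{(d)} the graded
ring with degree-n part S_{nd} (given as a graded ring S' with an injective algebra homomorphism φ :
S' → S carrying S'_n onto S_{nd} for every n). Then S^{(d)} is Noetherian. -/
theorem result {R A : Type u} [CommRing R] [CommRing A] [Algebra R A] (𝒜 : ℕ → Submodule R A) [GradedAlgebra 𝒜] [IsNoetherianRing A]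
    {B : Type u} [CommRing B] [Algebra R B] (ℬ : ℕ → Submodule R B) [GradedAlgebra ℬ]
    (d : ℕ) (hd : 0 < d) (φ : B →ₐ[R] A) (hφ : Function.Injective φ)
    (hdeg : ∀ n : ℕ, Submodule.map φ.toLinearMap (ℬ n) = 𝒜 (n * d)) :
    IsNoetherianRing B := by
  obtain ⟨π, hπ, hlin⟩ := Groth.Agent.EGA2.exists_veronese_retraction hφ hdeg
  refine (isNoetherianRing_iff_ideal_fg B).2 fun J => ?_
  obtain ⟨s, hs, hspan⟩ := (Submodule.fg_span_iff_fg_span_finset_subset (φ.toRingHom '' (J : Set B))).1
    (IsNoetherian.noetherian (Ideal.map φ.toRingHom J))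
  classical
  refine ⟨s.image π, le_antisymm ?_ fun j hj => ?_⟩
  · rw [Submodule.span_le]
    intro x hx
    obtain ⟨y, hy, rfl⟩ := Finset.mem_image.1 hx
    obtain ⟨b, hb, rfl⟩ := hs hy
    simpa [hπ] using hb
  · have hmem : φ j ∈ Submodule.span A (s : Set A) := hspan.le (Submodule.subset_span ⟨j, hj, rfl⟩)
    rw [← hπ j]
    generalize φ j = a at hmem ⊢
    induction hmem using Submodule.span_induction with
    | mem x hx => exact Submodule.subset_span (Finset.mem_image.2 ⟨x, hx, rfl⟩)
    | zero => simp
    | add x y _ _ hx hy => rw [map_add]; exact add_mem hx hy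
    | smul c x hxs hx =>
      have : ∀ y ∈ Submodule.span A (s : Set A), π y ∈ Submodule.span B (s.image π : Set B) := by
        intro y hy
        obtain ⟨g, rfl⟩ := (Submodule.mem_span_finset').1 hy
        rw [map_sum]
        refine sum_mem fun i _ => ?_
        obtain ⟨b, -, hb⟩ := hs i.2
        have hbi : φ b = (i : A) := hb
        rw [smul_eq_mul, mul_comm, ← hbi, hlin, mul_comm, ← smul_eq_mul]
        refine Submodule.smul_mem _ _ (Submodule.subset_span (Finset.mem_image.2 ⟨_, i.2, ?_⟩))
        rw [← hbi, hπ]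
      exact this _ (Submodule.smul_mem _ c hxs)

end Groth.Agent.S4412
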