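import Groth.Statements.S3580
import Groth.Agent.Lib.EGA2.DegHom

set_option autoImplicit false
universe u
open CategoryTheory CategoryTheory.Limits AlgebraicGeometry
open EGA2

namespace Groth.Agent.S3580

/-- Let S be a graded ring, d > 0, and S^{(d)} the graded ring with S^{(d)}_n = S_{nd} (here: any graded
ring S' with an injective algebra homomorphism φ : S' → S carrying S'_n onto S_{nd} for every n).
Then there is an isomorphism of schemes Proj S ≅ Proj S^{(d)} sending a homogeneous prime p to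
φ⁻¹(p), and which over each standard open D_+(g), g ∈ S'_n with n > 0, is induced by the ring
isomorphism S'_(g) ≅ S_(φ g), b/g^k ↦ φ(b)/φ(g)^k; precisely: for every ring map θ : S'_(g) → S_(φ
g) compatible with b/g^k ↦ φ(b)/φ(g)^k inside the localizations, the composite of Spec S_(φ g) →
Proj S with the isomorphism equals Spec θ followed by Spec S'_(g) → Proj S'. -/
theorem result {R A : Type u} [CommRing R] [CommRing A] [Algebra R A] (𝒜 : ℕ → Submodule R A) [GradedAlgebra 𝒜]
    {B : Type u} [CommRing B] [Algebra R B] (ℬ : ℕ → Submodule R B) [GradedAlgebra ℬ]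
    (d : ℕ) (hd : 0 < d) (φ : B →ₐ[R] A) (hφ : Function.Injective φ)
    (hdeg : ∀ n : ℕ, Submodule.map φ.toLinearMap (ℬ n) = 𝒜 (n * d)) :
    ∃ e : Proj 𝒜 ≅ Proj ℬ,
      (∀ p : Proj 𝒜, (e.hom.base p).asHomogeneousIdeal.toIdeal = Ideal.comap φ p.asHomogeneousIdeal.toIdeal) ∧
      ∀ (n : ℕ) (g : B) (hn : 0 < n) (hg : g ∈ ℬ n)
        (θ : CommRingCat.of (HomogeneousLocalization.Away ℬ g) ⟶ CommRingCat.of (HomogeneousLocalization.Away 𝒜 (φ g))),
        (algebraMap (HomogeneousLocalization.Away 𝒜 (φ g)) (Localization.Away (φ g))).comp θ.hom =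
          (Localization.awayMap φ.toRingHom g).comp
            (algebraMap (HomogeneousLocalization.Away ℬ g) (Localization.Away g)) →
        Proj.awayι 𝒜 (φ g) ((hdeg n).le (Submodule.mem_map_of_mem hg)) (Nat.mul_pos hn hd) ≫ e.hom =
          Spec.map θ ≫ Proj.awayι ℬ g hg hn := by
  classical
  have hdeg' : ∀ (n : ℕ) (b : B), b ∈ ℬ n → φ.toRingHom b ∈ 𝒜 (n * d) := fun n b hb =>
    (hdeg n).le (Submodule.mem_map_of_mem hb)
  have hpre : ∀ (k : ℕ) (a : A), a ∈ 𝒜 (k * d) → ∃ b ∈ ℬ k, φ b = a := fun k a ha => by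
    rw [← hdeg k] at ha
    exact ha
  have hG : (⊤ : (Proj 𝒜).Opens) =
      ⨆ g : {g : B // ∃ k : ℕ, 0 < k ∧ g ∈ ℬ k}, Proj.basicOpen 𝒜 (φ.toRingHom g.1) := by
    refine (top_le_iff.1 fun x _ => ?_).symm
    obtain ⟨⟨f, e, he, hf⟩, hxf⟩ := TopologicalSpace.Opens.mem_iSup.1
      ((Groth.Agent.EGA2.iSup_basicOpen_pos 𝒜).ge (Set.mem_univ x))
    obtain ⟨g, hg, hgf⟩ := hpre e (f ^ d) (by rw [mul_comm]; exact SetLike.pow_mem_graded d hf)
    refine TopologicalSpace.Opens.mem_iSup.2 ⟨⟨g, e, he, hg⟩, ?_⟩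
    show x ∈ Proj.basicOpen 𝒜 (φ g)
    rw [hgf, Proj.basicOpen_pow 𝒜 f d hd]
    exact hxf
  obtain ⟨p, hp, -⟩ := Groth.Agent.EGA2.existsUnique_degMap φ.toRingHom hdeg' hG hd
  have hiso : CategoryTheory.IsIso p := by
    refine Groth.Agent.EGA2.degMap_of_forall_away φ.toRingHom hdeg' hG hd p hp
      (CategoryTheory.MorphismProperty.isomorphisms _) fun e he g hg => ?_
    have : CategoryTheory.IsIso
        (CommRingCat.ofHom (Groth.Agent.EGA2.degAwayMap φ.toRingHom hdeg' g)) := by
      rw [CategoryTheory.ConcreteCategory.isIso_iff_bijective]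
      constructor
      · change Function.Injective (Groth.Agent.EGA2.degAwayMap φ.toRingHom hdeg' g)
        rw [injective_iff_map_eq_zero]
        intro x hx
        obtain ⟨n, b, hb, rfl⟩ := HomogeneousLocalization.Away.mk_surjective ℬ hg x
        rw [Groth.Agent.EGA2.degAwayMap_mk, Groth.Agent.EGA2.away_mk_eq_zero_iff] at hx
        obtain ⟨k, hk⟩ := hx
        rw [Groth.Agent.EGA2.away_mk_eq_zero_iff]
        refine ⟨k, hφ ?_⟩
        rw [map_zero, map_mul, map_pow]
        exact hk
      · intro x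
        obtain ⟨n, a, ha, rfl⟩ := HomogeneousLocalization.Away.mk_surjective 𝒜 (hdeg' e g hg) x
        obtain ⟨b, hb, hba⟩ := hpre (n * e) a (by rw [mul_assoc]; exact ha)
        refine ⟨HomogeneousLocalization.Away.mk ℬ hg n b hb, ?_⟩
        change Groth.Agent.EGA2.degAwayMap φ.toRingHom hdeg' g _ = _
        rw [Groth.Agent.EGA2.degAwayMap_mk, Groth.Agent.EGA2.away_mk_eq_iff]
        exact ⟨0, by rw [← hba]; rfl⟩
    exact inferInstanceAs (CategoryTheory.IsIso _)
  refine ⟨(Scheme.topIso _).symm ≪≫ CategoryTheory.asIso p, fun x => ?_, fun n g hn hg θ hθ => ?_⟩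
  · have hmem : ∀ (k : ℕ) (b : B), 0 < k → b ∈ ℬ k →
        (b ∈ (p.base ((Scheme.topIso _).inv.base x)).asHomogeneousIdeal.toIdeal ↔
          φ b ∈ x.asHomogeneousIdeal.toIdeal) := fun k b hk hb => by
      have := congrArg (fun U => (Scheme.topIso _).inv.base x ∈ U)
        ((Groth.Agent.EGA2.degMap_preimage φ.toRingHom hdeg' hG hd p hp hk hb).trans
          (Groth.Agent.EGA2.opensRange_degChart φ.toRingHom hdeg' hG hd hk hb))
      have hx : (⊤ : (Proj 𝒜).Opens).ι.base ((Scheme.topIso _).inv.base x) = x := by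
        rw [← Scheme.Hom.comp_apply, ← Scheme.topIso_hom, CategoryTheory.Iso.inv_hom_id]
        rfl
      have h' : (p.base ((Scheme.topIso _).inv.base x)) ∈ Proj.basicOpen ℬ b ↔
          x ∈ Proj.basicOpen 𝒜 (φ b) := by
        rw [← hx]; exact Iff.of_eq this
      exact not_iff_not.1 h'
    show (p.base ((Scheme.topIso _).inv.base x)).asHomogeneousIdeal.toIdeal = _
    generalize p.base ((Scheme.topIso _).inv.base x) = q at hmem
    have hcomp : ∀ (z : B) (k : ℕ),
        φ (DirectSum.decompose ℬ z k : B) = (DirectSum.decompose 𝒜 (φ z) (k * d) : A) := by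
      intro z k
      induction z using DirectSum.Decomposition.inductionOn ℬ with
      | zero => simp
      | @homogeneous i w =>
        have hw : φ (w : B) ∈ 𝒜 (i * d) := hdeg' i w w.2
        by_cases hik : i = k
        · subst hik
          rw [DirectSum.decompose_of_mem_same ℬ w.2, DirectSum.decompose_of_mem_same 𝒜 hw]
        · rw [DirectSum.decompose_of_mem_ne ℬ w.2 hik, map_zero, DirectSum.decompose_of_mem_ne 𝒜 hw
            fun h => hik (Nat.eq_of_mul_eq_mul_right hd h)]
      | add u v hu hv => simp [map_add, hu, hv]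
    obtain ⟨⟨h, e, he, hh⟩, hqh⟩ := TopologicalSpace.Opens.mem_iSup.1
      ((Groth.Agent.EGA2.iSup_basicOpen_pos ℬ).ge (Set.mem_univ q))
    have hxh : φ h ∉ x.asHomogeneousIdeal.toIdeal := fun h' => hqh ((hmem e h he hh).2 h')
    have hhom : ∀ (k : ℕ) (b : B), b ∈ ℬ k →
        (b ∈ q.asHomogeneousIdeal.toIdeal ↔ φ b ∈ x.asHomogeneousIdeal.toIdeal) := by
      intro k b hb
      have hbh := hmem (k + e) (b * h) (Nat.add_pos_right k he) (SetLike.mul_mem_graded hb hh)
      constructor
      · intro hbq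
        exact ((x.isPrime.mem_or_mem (by rw [← map_mul]; exact hbh.1 (Ideal.mul_mem_right h _ hbq))).resolve_right hxh)
      · intro hbx
        refine (q.isPrime.mem_or_mem (hbh.2 ?_)).resolve_right hqh
        rw [map_mul]; exact Ideal.mul_mem_right _ _ hbx
    ext z
    rw [Ideal.mem_comap]
    constructor
    · intro hz
      rw [← DirectSum.sum_support_decompose ℬ z, map_sum]
      exact sum_mem fun k _ => (hhom k _ (DirectSum.decompose ℬ z k).2).1
        (q.asHomogeneousIdeal.isHomogeneous k hz)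
    · intro hz
      rw [← DirectSum.sum_support_decompose ℬ z]
      refine sum_mem fun k _ => (hhom k _ (DirectSum.decompose ℬ z k).2).2 ?_
      rw [hcomp]
      exact x.asHomogeneousIdeal.isHomogeneous _ hz
  · have hθ' : CommRingCat.ofHom (Groth.Agent.EGA2.degAwayMap φ.toRingHom hdeg' g) = θ := by
      refine CommRingCat.hom_ext (RingHom.ext fun z => HomogeneousLocalization.val_injective _ ?_)
      exact (Groth.Agent.EGA2.val_degAwayMap φ.toRingHom hdeg' g z).trans (RingHom.congr_fun hθ z).symm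
    rw [← hθ', ← hp n g hn hg, CategoryTheory.Iso.trans_hom, CategoryTheory.asIso_hom,
      ← CategoryTheory.Category.assoc]
    congr 1
    rw [CategoryTheory.Iso.symm_hom, CategoryTheory.Iso.comp_inv_eq, Scheme.topIso_hom]
    exact (Groth.Agent.EGA2.degChart_ι φ.toRingHom hdeg' hG hd hn hg).symm

end Groth.Agent.S3580
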