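import Groth.Statements.S10609
import Groth.Agent.Lib.AlgSpDecent.FlatAt
-- import your own Groth.Agent.* helpers here

set_option autoImplicit false
universe u
open CategoryTheory CategoryTheory.Limits AlgebraicGeometry
open AlgSp
open Groth.Agent.AlgSpace Groth.Agent.AlgSpDecent Groth.Agent.AlgSpDecent.FlatAt

set_option backward.isDefEq.respectTransparency.types false

namespace Groth.Agent.S10609

/-- Let f : X ⟶ Y and h : Y ⟶ Z be morphisms of algebraic spaces over S with X locally of finite
presentation and flat over Z and Y locally of finite type over Z. Then the set of points of X at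
which f is flat is open in the space of points of X, and its formation commutes with base change:
for Z' ⟶ Z and pullback squares Y' = Y ×_Z Z', X' = X ×_Y Y', the set of points of X' at which X' ⟶
Y' is flat is the inverse image of that set under the map on points of X' ⟶ X. -/
theorem result {S : Scheme.{u}} {X Y Z : AlgSp.Space S} (f : X ⟶ Y) (h : Y ⟶ Z)
    (hfp : AlgSp.LocP @LocallyOfFinitePresentation (f ≫ h).hom) (hfl : AlgSp.LocP @Flat (f ≫ h).hom)
    (hft : AlgSp.LocP @LocallyOfFiniteType h.hom) :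
    IsOpen {x : AlgSp.Points X.obj | AlgSp.IsFlatAtMor f.hom x} ∧
    ∀ (X' Y' Z' : AlgSp.Space S) (g : Z' ⟶ Z) (f' : X' ⟶ Y') (h' : Y' ⟶ Z') (pX : X' ⟶ X) (pY : Y' ⟶ Y),
      IsPullback pY.hom h'.hom h.hom g.hom → IsPullback pX.hom f'.hom f.hom pY.hom →
      {x' : AlgSp.Points X'.obj | AlgSp.IsFlatAtMor f'.hom x'} =
        AlgSp.Points.map pX.hom ⁻¹' {x : AlgSp.Points X.obj | AlgSp.IsFlatAtMor f.hom x} := by
  obtain ⟨V, W, b, c, k, hbe, hbs, hce, hcs, wg⟩ := exists_chart_square Y.property Z.property h.hom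
  obtain ⟨U, a, m, hae, has, wf⟩ := exists_chart_over X.property Y.property f.hom b hbe hbs
  have wfg : a ≫ (f ≫ h).hom = (yon S).map (m ≫ k) ≫ c := by
    show a ≫ f.hom ≫ h.hom = _
    rw [Functor.map_comp, Category.assoc, ← wg, ← Category.assoc, wf, Category.assoc]
  have hlfp : LocallyOfFinitePresentation (m.left ≫ k.left) := hfp a c (m ≫ k) hae hce wfg
  have hflat : Flat (m.left ≫ k.left) := hfl a c (m ≫ k) hae hce wfg
  have hk : LocallyOfFiniteType k.left := hft b c k hbe hce wg
  have : LocallyOfFinitePresentation m.left :=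
    Groth.Agent.SchBasic.locallyOfFinitePresentation_of_comp m.left k.left
  refine ⟨?_, fun X' Y' Z' g f' h' pX pY sY sX => ?_⟩
  · rw [← (isOpenQuotientMap_ofPt hae has).isQuotientMap.isOpen_preimage]
    convert Groth.Agent.FlatH4.isOpen_flatLocus m.left using 1
    ext u
    exact isFlatAtMor_iff hae hbe wf u
  let nZ := pullback.fst g.hom c
  let nW := pullback.snd g.hom c
  have sqN : IsPullback nZ nW g.hom c := IsPullback.of_hasPullback g.hom c
  obtain ⟨W', r, hre, hrs⟩ :=
    (isAlgSpace_pullback Z.property Z'.property (IsAlgSpace.yon_obj W) sqN).atlas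
  obtain ⟨γ, hγ⟩ := (yon S).map_surjective (r ≫ nW)
  have wfg' : a ≫ f.hom ≫ h.hom = (yon S).map (m ≫ k) ≫ c := wfg
  have sXZ : IsPullback pX.hom (f'.hom ≫ h'.hom) (f.hom ≫ h.hom) g.hom := sX.paste_vert sY
  obtain ⟨a', ha'e, ha's, ha'p, ha'q⟩ := exists_bc_chart sXZ hae has wfg' sqN hre hrs hγ
  obtain ⟨b', hb'e, -, hb'p, hb'q⟩ := exists_bc_chart sY hbe hbs wg sqN hre hrs hγ
  let m' : pullback (m ≫ k) γ ⟶ pullback k γ :=
    pullback.lift (pullback.fst _ _ ≫ m) (pullback.snd _ _)
      (by rw [Category.assoc]; exact pullback.condition)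
  have wf' : a' ≫ f'.hom = (yon S).map m' ≫ b' := by
    apply sY.hom_ext
    · rw [Category.assoc, ← sX.w, ← Category.assoc, ha'p, Category.assoc, wf, Category.assoc, hb'p,
        ← Functor.map_comp_assoc, ← Functor.map_comp_assoc, pullback.lift_fst]
    · rw [Category.assoc, ha'q, Category.assoc, hb'q, ← Functor.map_comp_assoc, pullback.lift_snd]
  have sV : IsPullback (pullback.fst k γ).left (pullback.snd k γ).left k.left γ.left :=
    (IsPullback.of_hasPullback k γ).map (Over.forget S)
  have sU' : IsPullback (pullback.fst (m ≫ k) γ) m' m (pullback.fst k γ) :=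
    IsPullback.of_bot (by rw [pullback.lift_snd]; exact IsPullback.of_hasPullback _ _)
      (pullback.lift_fst _ _ _).symm (IsPullback.of_hasPullback k γ)
  have sU : IsPullback (pullback.fst (m ≫ k) γ).left m'.left m.left (pullback.fst k γ).left :=
    sU'.map (Over.forget S)
  ext x'
  obtain ⟨u', rfl⟩ := surjective_ofPt ha's x'
  have hx : Points.map pX.hom (Points.ofPt a' u') =
      Points.ofPt a ((pullback.fst (m ≫ k) γ).left u') := by
    rw [Points.ofPt_eq_map_ofScheme a', ← Points.map_comp, ha'p, ← Points.ofPt_eq_map_ofScheme,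
      ofPt_map_comp]
  rw [Set.mem_preimage, Set.mem_setOf_eq, Set.mem_setOf_eq, hx, isFlatAtMor_iff ha'e hb'e wf',
    isFlatAtMor_iff hae hbe wf]
  exact flat_stalkMap_baseChange_iff m.left k.left γ.left m'.left _ _ _ sV sU u' 

end Groth.Agent.S10609
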