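import Groth.Statements.S5840
import Groth.Agent.Lib.ZClos5.Sections
import Groth.Agent.Lib.CohFound.ModulesInst
import Groth.Agent.Lib.ModM1.FT

set_option autoImplicit false
universe u
open ZClos

namespace Groth.Agent.S5840

open CategoryTheory CategoryTheory.Limits AlgebraicGeometry in
/-- For a locally Noetherian scheme X and a subset Z of X stable under specialization, the Z-closure
functor F ↦ H⁰_{X/Z}(F) on O_X-modules (the filtered colimit, over the closed subsets T of X inside
Z, of the direct images of the restrictions of F to X ∖ T) is left exact: it preserves finite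
limits. -/
theorem result (X : Scheme.{u}) [IsLocallyNoetherian X] (Z : Set X)
    (hZ : StableUnderSpecialization Z) : PreservesFiniteLimits (ZClos.H0 Z) := by
  let ev : ∀ U : X.Opens, X.Modules ⥤ X.Modules := fun U => ZClos.resPush U
  haveI hres : ∀ (U : X.Opens), PreservesFiniteLimits (ZClos.resPush U) := fun U => by
    haveI : PreservesFiniteLimits (Scheme.Modules.restrictFunctor U.ι) := by
      constructor
      intro J _ _
      haveI : PreservesLimitsOfShape J (Scheme.Modules.toPresheaf X ⋙
          (Functor.whiskeringLeft _ _ Ab.{u}).obj U.ι.opensFunctor.op) := by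
        haveI : PreservesLimitsOfShape J (Scheme.Modules.toPresheaf X) := inferInstance
        haveI : HasLimitsOfShape J Ab.{u} := inferInstance
        exact @comp_preservesLimitsOfShape _ _ _ _ _ _ _ _ _ _ inferInstance
          (whiskeringLeft_preservesLimitsOfShape J U.ι.opensFunctor.op)
      haveI : PreservesLimitsOfShape J (Scheme.Modules.restrictFunctor U.ι ⋙ Scheme.Modules.toPresheaf _) :=
        preservesLimitsOfShape_of_natIso (show Scheme.Modules.toPresheaf X ⋙
          (Functor.whiskeringLeft _ _ Ab.{u}).obj U.ι.opensFunctor.op ≅
          Scheme.Modules.restrictFunctor U.ι ⋙ Scheme.Modules.toPresheaf _ from Iso.refl _)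
      haveI := reflectsLimitsOfShape_of_reflectsIsomorphisms (J := J) (G := Scheme.Modules.toPresheaf (U : Scheme.{u}))
      exact preservesLimitsOfShape_of_reflects_of_preserves _ (Scheme.Modules.toPresheaf _)
    haveI : PreservesFiniteLimits (Scheme.Modules.pushforward U.ι) := by
      haveI : (Scheme.Modules.pushforward U.ι).IsRightAdjoint :=
        (Scheme.Modules.restrictAdjunction U.ι).isRightAdjoint
      infer_instance
    exact comp_preservesFiniteLimits _ _
  haveI : PreservesFiniteLimits (ZClos.diagram Z) := by
    constructor
    intro J _ _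
    haveI : ∀ T : ZClos.Cl Z, PreservesLimitsOfShape J (ZClos.diagram Z ⋙ (evaluation _ _).obj T) := fun T =>
      preservesLimitsOfShape_of_natIso (show ZClos.resPush T.U ≅ _ from Iso.refl _)
    exact preservesLimitsOfShape_of_evaluation _ J (fun T => inferInstance)
  haveI : PreservesFiniteLimits (colim : (ZClos.Cl Z ⥤ X.Modules) ⥤ X.Modules) := inferInstance
  exact comp_preservesFiniteLimits _ _

end Groth.Agent.S5840
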