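import Groth.Statements.S1339
import Groth.Agent.Lib.GeomSpread4.Count

set_option autoImplicit false
universe u
open FlatMor

set_option backward.isDefEq.respectTransparency.types false

namespace Groth.Agent.S1339

open AlgebraicGeometry CategoryTheory Limits in
/-- For a morphism of finite presentation, each level set of the function counting the connected
components of the geometric fibres is locally constructible in the target. -/
theorem result {X Y : Scheme.{u}} (f : X ⟶ Y) [LocallyOfFinitePresentation f] [QuasiCompact f] [QuasiSeparated f] (n : ℕ∞) :
    Topology.IsLocallyConstructible {y : ↑Y | MoreMor.nGeomConnComp f y = n} := by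
  exact GeomSpread4.isLocallyConstructible_count (fun {X Y} f y => MoreMor.nGeomConnComp f y)
    (fun h y' => (GeomSpread4.count_baseChange h y').2)
    (fun f _ _ y => (GeomSpread4.exists_count_const f y).imp fun U h => ⟨h.1, fun y' hy' => (h.2 y' hy').2⟩) f n

end Groth.Agent.S1339
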