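import Groth.Statements.S7381
import Groth.Agent.Lib.LimH13.FiniteFP
import Groth.Agent.Lib.LimH13.ClosedStage
import Mathlib.CategoryTheory.Filtered.Final

set_option autoImplicit false
universe u
open CategoryTheory AlgebraicGeometry
open Lim

namespace Groth.Agent.S7381

set_option backward.isDefEq.respectTransparency false
set_option backward.isDefEq.respectTransparency.types false


/-- Let `f : X → S` be finite with `S` quasi-compact and quasi-separated. Then, in the category of
schemes over `S`, `X` is the limit of a nonempty directed inverse system of schemes `X_i → S` that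
are finite and locally of finite presentation, with closed immersions as transition morphisms. -/
theorem result {X S : Scheme.{u}} (f : X ⟶ S) [IsFinite f]
    [CompactSpace S] [QuasiSeparatedSpace S] :
    ∃ (I : Type u) (_ : Preorder I) (_ : IsDirected I (fun a b => a ≤ b)) (_ : Nonempty I)
      (D : Iᵒᵖ ⥤ Over S) (c : Limits.Cone D) (_ : Limits.IsLimit c),
      (∀ i, IsFinite (D.obj i).hom ∧ LocallyOfFinitePresentation (D.obj i).hom) ∧
      (∀ (i j : Iᵒᵖ) (a : i ⟶ j), IsClosedImmersion (D.map a).left) ∧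
      Nonempty (c.pt ≅ Over.mk f) := by

  haveI : CompactSpace X := QuasiCompact.compactSpace_of_compactSpace f
  haveI : QuasiSeparatedSpace X := quasiSeparatedSpace_of_quasiSeparated f
  obtain ⟨X', f', j, h1, h2, h3, h4, h5, h6, h7, -⟩ := LimH13.exists_closed_stage f
  haveI : IsIntegralHom (j ≫ f') := by rw [h7]; infer_instance
  obtain ⟨J₁, hJ₁, hle, hfin⟩ := LimH13.exists_ifg_finite f' j
  let T := {a : LimH13.FGIdx j.ker // J₁ ≤ a.1}
  haveI hdir : IsDirectedOrder T := ⟨fun a b => ⟨⟨⟨a.1.1 ⊔ b.1.1, a.1.2.1.sup b.1.2.1,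
    sup_le a.1.2.2 b.1.2.2⟩, le_sup_of_le_left a.2⟩, (le_sup_left : a.1.1 ≤ a.1.1 ⊔ b.1.1),
    (le_sup_right : b.1.1 ≤ a.1.1 ⊔ b.1.1)⟩⟩
  haveI : Nonempty T := ⟨⟨⟨J₁, hJ₁, hle⟩, le_rfl⟩⟩
  have hmono : Monotone (fun a : T => a.1) := fun a b h => h
  haveI : hmono.functor.Final := hmono.final_functor_iff.mpr fun a =>
    ⟨⟨⟨a.1 ⊔ J₁, a.2.1.sup hJ₁, sup_le a.2.2 hle⟩, le_sup_right⟩, (le_sup_left : a.1 ≤ a.1 ⊔ J₁)⟩
  haveI : IsFiltered T := isFiltered_of_directed_le_nonempty T
  haveI : IsConnected Tᵒᵖ := IsCofiltered.isConnected _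
  let c₀ := (LimH13.fgCone j).whisker hmono.functor.op
  have hc₀ : Limits.IsLimit c₀ := (Functor.Initial.isLimitWhiskerEquiv _ _).symm (LimH13.isLimitFGCone j)
  refine ⟨T, inferInstance, inferInstance, inferInstance,
    (hmono.functor.op ⋙ LimH13.fgDiag j.ker) ⋙ Over.map f', (Over.map f').mapCone c₀, ?_, fun i => ?_,
    fun a b h => LimH13.isClosedImmersion_fgDiag_map _ (hmono.functor.op.map h), ⟨eqToIso ?_⟩⟩
  · refine Limits.isLimitOfReflects (Over.forget S) ?_
    exact Limits.isLimitOfPreserves (Over.forget X') hc₀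
  · haveI := LimH13.locallyOfFinitePresentation_subschemeι i.unop.1.2.1
    change IsFinite (i.unop.1.1.subschemeι ≫ f') ∧
      LocallyOfFinitePresentation (i.unop.1.1.subschemeι ≫ f')
    exact ⟨LimH13.isFinite_of_le f' i.unop.2, inferInstance⟩
  · change Over.mk (j ≫ f') = Over.mk f
    rw [h7]

end Groth.Agent.S7381
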