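import Groth.Statements.S19951
import Groth.Agent.Lib.ThetaPerp13.Nontrivial
import Groth.Agent.Lib.RRKL13.Quotient
import Groth.Agent.S19948

set_option autoImplicit false
universe u
open CategoryTheory MonoidalCategory CartesianMonoidalCategory MonObj GrpObj AlgebraicGeometry
open ThetaGrp

namespace Groth.Agent.S19951

open CategoryTheory.Limits

/-- A kernel is a closed subgroup. -/
theorem exists_kernel {S : Scheme.{u}} {A C : Over S} [GrpObj A] [GrpObj C] (h : A ⟶ C) [IsMonHom h]
    [IsClosedImmersion η[C].left] :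
    ∃ (N : Over S) (_ : GrpObj N) (j : N ⟶ A), IsMonHom j ∧ IsClosedImmersion j.left ∧ AlgGrp.IsKernel j h := by
  have hker : IsPullback (pullback.fst h η[C]) (toUnit _) h η[C] := by
    rw [toUnit_unique (toUnit (pullback h η[C])) (pullback.snd h η[C])]
    exact IsPullback.of_hasPullback h η[C]
  haveI : IsClosedImmersion (pullback.fst h η[C]).left :=
    MorphismProperty.of_isPullback (P := @IsClosedImmersion) (IsPullback.map (Over.forget _) hker).flip
      ‹IsClosedImmersion η[C].left›
  haveI : Mono ((Over.forget S).map (pullback.fst h η[C])) := inferInstanceAs (Mono (pullback.fst h η[C]).left)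
  haveI : Mono (pullback.fst h η[C]) := (Over.forget S).mono_of_mono_map ‹_›
  have hw : ∀ {X : Over S} (a : X ⟶ pullback h η[C]), (a ≫ pullback.fst h η[C]) ≫ h = 1 := fun a => by
    rw [Category.assoc, hker.w, ← Category.assoc, toUnit_unique (a ≫ _) (toUnit _), Hom.one_def]
  obtain ⟨gN, hm⟩ := MTRigid29.exists_grpObj_of_subgroup (pullback.fst h η[C])
    (fun X a b => ⟨hker.lift ((a ≫ pullback.fst h η[C]) * (b ≫ pullback.fst h η[C])) (toUnit X)
      (by rw [MonObj.mul_comp, hw, hw, _root_.one_mul, Hom.one_def]), hker.lift_fst _ _ _⟩)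
    ⟨hker.lift 1 (toUnit _) (by rw [MonObj.one_comp, Hom.one_def]), hker.lift_fst _ _ _⟩
    (fun X a => ⟨hker.lift (a ≫ pullback.fst h η[C])⁻¹ (toUnit X)
      (by rw [GrpObj.inv_comp, hw, inv_one, Hom.one_def]), hker.lift_fst _ _ _⟩)
  exact ⟨_, gN, _, hm, ‹_›, hker⟩

/-- Let k be an algebraically closed field, X an abelian variety over k (a proper, geometrically
integral, commutative k-group scheme) and L a non-degenerate invertible O_X-module: for a closed
immersion i_K : K → X exhibiting K as K(L) (the maximal closed subscheme of X over which the Mumford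
bundle m^*L ⊗ p_1^*L⁻¹ ⊗ p_2^*L⁻¹, restricted to X ×_k K, is the inverse image of an invertible
module on K, with its universal property) the scheme K is finite over k. Let i_H : H → X be a closed
subgroup scheme (H a k-group scheme, i_H a homomorphism and a closed immersion) contained in K(L)
and totally isotropic for the commutator pairing e_L — for every k-scheme T, any two points of
G(L)(T) lying over translations by points of H commute — and maximal: every closed subgroup scheme
of K(L) that is totally isotropic and contains H is contained in H. Then H = H^⊥: a T-valued point x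
of X factors through i_H if and only if it factors through i_K and is orthogonal to H (after every
base change T' → T, every point of G(L)(T') over the translation by x commutes with every point over
a translation by a point of H); moreover H is finite over k and rank(H)² = rank(K(L)) (ranks of the
finite k-schemes H and K). (The published statement is over an arbitrary field and its argument
begins by passing to an algebraic closure; but maximality is not preserved by that passage: for an
elliptic curve E over a field k and a prime ℓ such that E[ℓ] has no k-rational subgroup scheme of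
order ℓ, with L of degree ℓ so that K(L) = E[ℓ] and e_L is the Weil pairing, the trivial subgroup is
maximal totally isotropic while its orthogonal is all of E[ℓ]. The statement is therefore given over
an algebraically closed field, where the printed argument applies.) -/
theorem result (k : Type u) [Field k] [IsAlgClosed k]
    (A : Over (Spec (CommRingCat.of k))) [GrpObj A] [IsCommMonObj A] [IsProper A.hom] [GeometricallyIntegral A.hom]
    (L : A.left.Modules) (hL : PicF.IsInvertible L)
    (K : Over (Spec (CommRingCat.of k))) (iK : K ⟶ A) (hK : ThetaGrp.IsKL A L iK) [IsFinite K.hom]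
    (H : Over (Spec (CommRingCat.of k))) [GrpObj H] (iH : H ⟶ A) [IsMonHom iH] [IsClosedImmersion iH.left]
    (hHK : ∃ y : H ⟶ K, y ≫ iK = iH) (hiso : ThetaGrp.IsIsotropic L iH)
    (hmax : ∀ (H' : Over (Spec (CommRingCat.of k))) [GrpObj H'] (iH' : H' ⟶ A) [IsMonHom iH']
      [IsClosedImmersion iH'.left], (∃ y' : H' ⟶ K, y' ≫ iK = iH') → ThetaGrp.IsIsotropic L iH' →
      (∃ z : H ⟶ H', z ≫ iH' = iH) → ∃ z' : H' ⟶ H, z' ≫ iH = iH') :
    (∀ (T : Over (Spec (CommRingCat.of k))) (x : T ⟶ A),
        ((∃ y : T ⟶ K, y ≫ iK = x) ∧ ThetaGrp.IsPerpPt L iH x) ↔ ∃ z : T ⟶ H, z ≫ iH = x) ∧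
      IsFinite H.hom ∧
      ∀ s : ↥(Spec (CommRingCat.of k)), Scheme.Hom.finrank H.hom s ^ 2 = Scheme.Hom.finrank K.hom s := by
  haveI : IsClosedImmersion iK.left := hK.closed
  obtain ⟨B, gB, f, KM, iM, M, d, hBp, hBg, hfm, hff, hfl, hfs, hD⟩ :=
    RRKL13.exists_descended hL hK iH hHK hiso
  haveI := hBp; haveI := hBg; haveI := hfm; haveI := hff; haveI := hfl; haveI := hfs
  haveI : IsCommMonObj B := isCommMonObj_of_isProper_of_geometricallyIntegral B
  haveI : IsFinite KM.hom := hD.fin
  haveI : IsClosedImmersion iM.left := hD.kl.closed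
  -- maximality says that `K(M)` is trivial
  have htriv : ∀ (T : Over (Spec (CommRingCat.of k))) (p : T ⟶ KM), p ≫ iM = 1 := by
    rcases ThetaPerp13.trivial_or_exists hD.inv hD.kl with h | ⟨H₁, hH₁, v, hself, hne⟩
    · exact h
    refine absurd ?_ hne
    obtain ⟨N, gN, n, hnc, hnm, hniso, w, hw⟩ := ThetaPerp13.exists_isotropic hD.inv hD.kl v hself
    haveI := hnm; haveI := hnc
    haveI : IsClosedImmersion (n ≫ iM).left := by rw [Over.comp_left]; infer_instance
    obtain ⟨C, gC, g, KC, iC, M', d', hCp, hCg, hgm, hgf, hgl, hgs, hD'⟩ :=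
      RRKL13.exists_descended hD.inv hD.kl (n ≫ iM) ⟨n, rfl⟩ hniso
    haveI := hCp; haveI := hCg; haveI := hgm; haveI := hgf; haveI := hgl; haveI := hgs
    haveI : IsCommMonObj C := isCommMonObj_of_isProper_of_geometricallyIntegral C
    haveI : IsSeparated C.hom := inferInstance
    haveI : IsClosedImmersion η[C].left := isClosedImmersion_of_comp_eq_id C.hom η[C].left (Over.w η[C])
    haveI : IsFinite (f ≫ g).left := by rw [Over.comp_left]; infer_instance
    have hsurj : Surjective (f ≫ g).left := by rw [Over.comp_left]; infer_instance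
    obtain ⟨H', gH', iH', hm', hc', hker⟩ := exists_kernel (f ≫ g)
    haveI := hm'; haveI := hc'
    obtain ⟨e⟩ := hD.iso
    obtain ⟨e'⟩ := hD'.iso
    obtain ⟨hH'K, hH'iso⟩ := (Groth.Agent.S19948.result k A C (f ≫ g) hsurj H' iH' hker L hL K iK hK).1
      ⟨M', hD'.inv, ⟨((Scheme.Modules.pullbackComp f.left g.left).app M').symm ≪≫
        (Scheme.Modules.pullback f.left).mapIso e' ≪≫ e⟩⟩
    have hHH' : ∃ z : H ⟶ H', z ≫ iH' = iH :=
      ⟨hker.lift iH (toUnit H) (by
        rw [← Category.assoc, hD.ker.w, Category.assoc, IsMonHom.one_hom]), hker.lift_fst _ _ _⟩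
    obtain ⟨z', hz'⟩ := hmax H' iH' hH'K hH'iso hHH'
    let T' : Over (Spec (CommRingCat.of k)) := Over.mk (pullback.fst (v ≫ iM).left f.left ≫ H₁.hom)
    let π : T' ⟶ H₁ := Over.homMk (pullback.fst (v ≫ iM).left f.left) rfl
    let x : T' ⟶ A := Over.homMk (pullback.snd (v ≫ iM).left f.left) (by
      show pullback.snd (v ≫ iM).left f.left ≫ A.hom = pullback.fst (v ≫ iM).left f.left ≫ H₁.hom
      rw [← Over.w f, ← Over.w (v ≫ iM), pullback.condition_assoc])
    have hx : π ≫ v ≫ iM = x ≫ f := Over.OverMorphism.ext pullback.condition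
    have hxh : x ≫ f ≫ g = toUnit T' ≫ η[C] := by
      have hn : n ≫ iM ≫ g = toUnit N ≫ η[C] := by rw [← Category.assoc]; exact hD'.ker.w
      rw [← Category.assoc, ← hx, ← hw, Category.assoc, Category.assoc, Category.assoc, hn, ← Category.assoc,
        ← Category.assoc, toUnit_unique ((π ≫ w) ≫ _) (toUnit T')]
    obtain ⟨a, ha⟩ : ∃ a : T' ⟶ H', a ≫ iH' = x := ⟨hker.lift x (toUnit _) hxh, hker.lift_fst _ _ _⟩
    have h3 : π ≫ v ≫ iM = π ≫ 1 := by
      rw [hx, ← ha, ← hz', Category.assoc, Category.assoc, hD.ker.w, ← Category.assoc, ← Category.assoc,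
        toUnit_unique ((a ≫ z') ≫ _) (toUnit T'), MonObj.comp_one, Hom.one_def]
    haveI : Flat (pullback.fst (v ≫ iM).left f.left) := MorphismProperty.pullback_fst _ _ hfl
    haveI : Surjective (pullback.fst (v ≫ iM).left f.left) := MorphismProperty.pullback_fst _ _ hfs
    haveI : QuasiCompact (pullback.fst (v ≫ iM).left f.left) := MorphismProperty.pullback_fst _ _ inferInstance
    haveI : EffectiveEpi (pullback.fst (v ≫ iM).left f.left) := MTRigid29.effectiveEpi_of_cover _ fun V hV =>
      ⟨pullback.fst (v ≫ iM).left f.left ⁻¹ᵁ V,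
        (pullback.fst (v ≫ iM).left f.left).isCompact_preimage hV.isCompact,
        Set.image_preimage_eq _ (pullback.fst (v ≫ iM).left f.left).surjective⟩
    exact Over.OverMorphism.ext ((cancel_epi (pullback.fst (v ≫ iM).left f.left)).1 (congrArg Over.Hom.left h3))
  -- hence `K(M)` is a point
  have hKM1 : ∀ s : ↥(Spec (CommRingCat.of k)), Scheme.Hom.finrank KM.hom s = 1 := by
    obtain ⟨y₁, hy₁⟩ := CubeField.one_factors (T := 𝟙_ (Over (Spec (CommRingCat.of k)))) hD.inv hD.kl
    haveI : Mono ((Over.forget (Spec (CommRingCat.of k))).map iM) := inferInstanceAs (Mono iM.left)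
    haveI : Mono iM := (Over.forget (Spec (CommRingCat.of k))).mono_of_mono_map ‹_›
    have h : toUnit KM ≫ y₁ = 𝟙 KM := (cancel_mono iM).1 (by rw [htriv, htriv])
    have h' := congrArg Over.Hom.left h
    rw [Over.comp_left, Over.toUnit_left, Over.id_left] at h'
    haveI : IsIso KM.hom := ⟨y₁.left, h', Over.w y₁⟩
    exact congrFun ((Scheme.Hom.isIso_iff_finrank_eq KM.hom).1 inferInstance)
  refine ⟨fun T x => ⟨fun hx => ?_, ?_⟩, ?_, fun s => ?_⟩
  · obtain ⟨y, hy⟩ := (hD.factors T x).2 hx
    rw [htriv, Hom.one_def] at hy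
    exact ⟨hD.ker.lift x (toUnit T) hy.symm, hD.ker.lift_fst _ _ _⟩
  · rintro ⟨z, rfl⟩
    obtain ⟨y, hy⟩ := CubeField.one_factors (T := T) hD.inv hD.kl
    refine (hD.factors T _).1 ⟨y, ?_⟩
    rw [hy, Category.assoc, hD.ker.w, ← Category.assoc, toUnit_unique (z ≫ _) (toUnit T), Hom.one_def]
  · obtain ⟨y, hy⟩ := hHK
    haveI : IsClosedImmersion (y.left ≫ iK.left) := by rw [← Over.comp_left, hy]; infer_instance
    haveI : IsClosedImmersion y.left := IsClosedImmersion.of_comp y.left iK.left
    rw [← Over.w y]
    infer_instance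
  · rw [hD.rank_eq s, hKM1, hD.rank_ker, _root_.mul_one]

end Groth.Agent.S19951
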