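import Groth.Statements.S19773
import Groth.Agent.Lib.RRKL13.BaseChange

set_option autoImplicit false
universe u
open CategoryTheory MonoidalCategory CartesianMonoidalCategory MonObj GrpObj AlgebraicGeometry
open AbVar
open scoped CategoryTheory.Obj

namespace Groth.Agent.S19773

/-- Let k be a field and f : X → Y an isogeny between abelian varieties over k (X, Y proper,
geometrically integral k-group schemes; f a finite flat surjective homomorphism) of degree d (the
rank of f at every point of Y), and let M be a non-degenerate invertible O_Y-module: for a closed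
immersion i_M : K_M → Y exhibiting K_M as K(M) (the maximal closed subscheme over which the Mumford
bundle m^*M ⊗ p_1^*M⁻¹ ⊗ p_2^*M⁻¹, restricted to Y ×_k K_M, is the inverse image of an invertible
module on K_M, with its universal property), K_M is finite over k, of rank r (the rank of K_M → Spec
k). Let L = f^*M and let i_L : K_L → X exhibit K_L as K(L). Then L is non-degenerate as well and
rank K(L) = d² · rank K(M): K_L is finite over k and K_L → Spec k has rank d² · r. -/
theorem result (k : Type u) [Field k]
    (X Y : Over (Spec (CommRingCat.of k)))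
    [GrpObj X] [IsProper X.hom] [GeometricallyIntegral X.hom]
    [GrpObj Y] [IsProper Y.hom] [GeometricallyIntegral Y.hom]
    (f : X ⟶ Y) [IsMonHom f] [IsFinite f.left] [Flat f.left] (hf : Surjective f.left)
    (d : ℕ) (hd : ∀ y : ↥Y.left, Scheme.Hom.finrank f.left y = d)
    (M : Y.left.Modules) (hM : PicF.IsInvertible M)
    (KM : Over (Spec (CommRingCat.of k))) (iM : KM ⟶ Y) (hKM : ThetaGrp.IsKL Y M iM)
    [IsFinite KM.hom] (r : ℕ) (hr : ∀ s : ↥(Spec (CommRingCat.of k)), Scheme.Hom.finrank KM.hom s = r)
    (KL : Over (Spec (CommRingCat.of k))) (iL : KL ⟶ X)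
    (hKL : ThetaGrp.IsKL X ((Scheme.Modules.pullback f.left).obj M) iL) :
    IsFinite KL.hom ∧ ∀ s : ↥(Spec (CommRingCat.of k)), Scheme.Hom.finrank KL.hom s = d ^ 2 * r := by
  haveI := isCommMonObj_of_isProper_of_geometricallyIntegral X
  haveI := isCommMonObj_of_isProper_of_geometricallyIntegral Y
  let Xb := Groth.Agent.Index22.bar X
  let Yb := Groth.Agent.Index22.bar Y
  let φ := Groth.Agent.Index22.φbar k
  let fb : Xb ⟶ Yb := (Over.pullback φ).map f
  haveI : IsCommMonObj Xb := isCommMonObj_of_isProper_of_geometricallyIntegral Xb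
  haveI : IsCommMonObj Yb := isCommMonObj_of_isProper_of_geometricallyIntegral Yb
  have hsq := Groth.Agent.BorelFix21.isPullback_bc_map φ f
  haveI : IsFinite fb.left := MorphismProperty.of_isPullback (P := @IsFinite) hsq inferInstance
  haveI : Flat fb.left := MorphismProperty.of_isPullback (P := @Flat) hsq inferInstance
  haveI : Surjective fb.left := MorphismProperty.of_isPullback (P := @Surjective) hsq hf
  have hdb : ∀ y : Yb.left, Scheme.Hom.finrank fb.left y = d := fun y => by
    rw [Scheme.Hom.finrank_of_isPullback _ _ _ _ hsq y, hd]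
  have hM' : PicF.IsInvertible ((Scheme.Modules.pullback f.left).obj M) := PicLoc.isInvertible_pullback _ hM
  have hMb : PicF.IsInvertible ((Scheme.Modules.pullback (Groth.Agent.Index22.prj Y)).obj M) :=
    PicLoc.isInvertible_pullback _ hM
  have hLb : PicF.IsInvertible ((Scheme.Modules.pullback (Groth.Agent.Index22.prj X)).obj
      ((Scheme.Modules.pullback f.left).obj M)) := PicLoc.isInvertible_pullback _ hM'
  let e := (Scheme.Modules.pullbackComp (Groth.Agent.Index22.prj X) f.left).app M ≪≫
    (Scheme.Modules.pullbackCongr hsq.w).app M ≪≫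
    ((Scheme.Modules.pullbackComp fb.left (Groth.Agent.Index22.prj Y)).app M).symm
  have hcoverM : CategoryTheory.IsPullback (Limits.pullback.fst KM.hom φ) ((Over.pullback φ).obj KM).hom KM.hom φ :=
    CategoryTheory.IsPullback.of_hasPullback KM.hom φ
  haveI : IsFinite ((Over.pullback φ).obj KM).hom :=
    MorphismProperty.of_isPullback (P := @IsFinite) hcoverM inferInstance
  obtain ⟨hfin, hrank⟩ := Groth.Agent.RRKL13.isFinite_KL_pullback fb hdb hMb
    (Groth.Agent.RRKL13.isKL_bar hM hKM)
    (fun s => by rw [Scheme.Hom.finrank_of_isPullback _ _ _ _ hcoverM s, hr]) hLb e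
    (Groth.Agent.RRKL13.isKL_bar hM' hKL)
  have hcover : CategoryTheory.IsPullback (Limits.pullback.fst KL.hom φ) ((Over.pullback φ).obj KL).hom KL.hom φ :=
    CategoryTheory.IsPullback.of_hasPullback KL.hom φ
  haveI : Surjective φ := ⟨fun x => ⟨IsLocalRing.closedPoint (AlgebraicClosure k),
    @Subsingleton.elim _ (inferInstanceAs (Subsingleton (PrimeSpectrum k))) _ _⟩⟩
  haveI : Flat φ := by
    rw [HasRingHomProperty.Spec_iff (P := @Flat)]
    exact RingHom.flat_algebraMap_iff.mpr inferInstance
  haveI := Groth.Agent.FpqcDesc.descendsAlong_isFinite.{u}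
  haveI hKfin : IsFinite KL.hom := MorphismProperty.of_isPullback_of_descendsAlong (P := @IsFinite) hcover.flip
    (show (@Surjective ⊓ @Flat ⊓ @QuasiCompact : MorphismProperty Scheme.{u}) φ from
      ⟨⟨inferInstance, inferInstance⟩, inferInstance⟩) hfin
  refine ⟨hKfin, fun s => ?_⟩
  obtain ⟨t, rfl⟩ := φ.surjective s
  rw [← Scheme.Hom.finrank_of_isPullback _ _ _ _ hcover t, hrank]

end Groth.Agent.S19773
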