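import Groth.Statements.S19954
import Groth.Agent.Lib.ThetaGrp19.AV

set_option autoImplicit false
universe u
open CategoryTheory MonoidalCategory CartesianMonoidalCategory MonObj GrpObj AlgebraicGeometry
open ThetaGrp

namespace Groth.Agent.S19954

set_option backward.isDefEq.respectTransparency.types false
open CategoryTheory.Limits CategoryTheory.Pseudofunctor Groth.Agent.ThetaGrp19 Groth.Agent.PicDesc21


/-- Let f : X → Y be a homomorphism of abelian varieties over a field k (proper, geometrically integral,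
commutative k-group schemes), L an invertible O_Y-module, and i_K : K → Y a closed immersion
exhibiting K as K(L), the maximal closed subscheme of Y over which the Mumford bundle m^*L ⊗
p_1^*L⁻¹ ⊗ p_2^*L⁻¹, restricted to Y ×_k K, is the inverse image of an invertible module on K, with
its universal property. The identity e_{f^*L} = e_L ∘ (f, f) on f⁻¹(K(L)) is stated here through the
vanishing of the two commutator pairings: for a k-scheme H and a k-morphism i_H : H → X such that f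
∘ i_H factors through i_K, the pairing e_L is trivial on the image of H in Y — for every k-scheme T,
any two points of G(L)(T) lying over the translations by f(i_H(h₁)), f(i_H(h₂)) for T-valued points
h₁, h₂ of H commute — if and only if e_{f^*L} is trivial on H: any two points of G(f^*L)(T) lying
over the translations by i_H(h₁), i_H(h₂) commute. -/
theorem result (k : Type u) [Field k]
    (A : Over (Spec (CommRingCat.of k))) [GrpObj A] [IsCommMonObj A] [IsProper A.hom] [GeometricallyIntegral A.hom]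
    (B : Over (Spec (CommRingCat.of k))) [GrpObj B] [IsCommMonObj B] [IsProper B.hom] [GeometricallyIntegral B.hom]
    (f : A ⟶ B) [IsMonHom f]
    (L : B.left.Modules) (hL : PicF.IsInvertible L)
    (K : Over (Spec (CommRingCat.of k))) (iK : K ⟶ B) (hK : ThetaGrp.IsKL B L iK)
    (H : Over (Spec (CommRingCat.of k))) (iH : H ⟶ A) (hH : ∃ y : H ⟶ K, y ≫ iK = iH ≫ f) :
    ThetaGrp.IsIsotropic L (iH ≫ f) ↔
      ThetaGrp.IsIsotropic ((Scheme.Modules.pullback f.left).obj L) iH := by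
  have hA := hzero_of_field A
  have hB := hzero_of_field B
  have hL' : PicF.IsInvertible ((Scheme.Modules.pullback f.left).obj L) := PicLoc.isInvertible_pullback _ hL
  constructor
  · intro h T x y β₁' β₂' h₁ h₂
    obtain ⟨r, hr⟩ := exists_isComm hA hL' β₁' β₂'
    refine (mul_comm_iff hA hL' hr).2 ?_
    obtain ⟨y₀, hy₀⟩ := hH
    have hloc : ∀ (z : T ⟶ H) (t : T.left), ∃ U : T.left.Opens, t ∈ U ∧
        ∃ β : thetaPts B L (Over.mk (U.ι ≫ T.hom)),
          IsOverPt β ((Over.homMk U.ι rfl : Over.mk (U.ι ≫ T.hom) ⟶ T) ≫ (z ≫ iH) ≫ f) := fun z t =>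
      exists_pt_of_mumfordTriv hL ((hK.univ T _).2 ⟨z ≫ y₀, by rw [Category.assoc, hy₀, Category.assoc]⟩) t
    have key : ∀ t : T.left, ∃ V : T.left.Opens, t ∈ V ∧ V.ι.appTop r = 1 := by
      intro t
      obtain ⟨U₁, htU₁, γ₁, hγ₁⟩ := hloc x t
      obtain ⟨U₂, htU₂, γ₂, hγ₂⟩ := hloc y t
      refine ⟨U₁ ⊓ U₂, ⟨htU₁, htU₂⟩, ?_⟩
      let W := Over.mk ((U₁ ⊓ U₂).ι ≫ T.hom)
      let g : W ⟶ T := Over.homMk (U₁ ⊓ U₂).ι rfl
      let a₁ : W ⟶ Over.mk (U₁.ι ≫ T.hom) := Over.homMk (T.left.homOfLE inf_le_left) (by simp [W])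
      let a₂ : W ⟶ Over.mk (U₂.ι ≫ T.hom) := Over.homMk (T.left.homOfLE inf_le_right) (by simp [W])
      have e₁ : a₁ ≫ Over.homMk U₁.ι rfl = g := Over.OverMorphism.ext (by simp [a₁, g])
      have e₂ : a₂ ≫ Over.homMk U₂.ι rfl = g := Over.OverMorphism.ext (by simp [a₂, g])
      obtain ⟨δ₁, hδ₁, -⟩ := exists_restrictPt a₁ γ₁ hγ₁
      obtain ⟨δ₂, hδ₂, -⟩ := exists_restrictPt a₂ γ₂ hγ₂
      rw [← Category.assoc, e₁] at hδ₁
      rw [← Category.assoc, e₂] at hδ₂
      obtain ⟨ε₁, hε₁, heε₁⟩ := exists_restrictPt g β₁' h₁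
      obtain ⟨ε₂, hε₂, heε₂⟩ := exists_restrictPt g β₂' h₂
      obtain ⟨π₁, hπ₁, heπ₁⟩ := exists_mapPt f L (g ≫ x ≫ iH) δ₁ (by
        simpa only [Category.assoc] using hδ₁)
      obtain ⟨π₂, hπ₂, heπ₂⟩ := exists_mapPt f L (g ≫ y ≫ iH) δ₂ (by
        simpa only [Category.assoc] using hδ₂)
      have hδ : IsComm δ₁ δ₂ 1 := by
        obtain ⟨q, hq⟩ := exists_isComm hB hL δ₁ δ₂
        obtain rfl := (mul_comm_iff hB hL hq).1 (h W (g ≫ x) (g ≫ y) δ₁ δ₂
          (by simpa only [Category.assoc] using hδ₁) (by simpa only [Category.assoc] using hδ₂))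
        exact hq
      have hπ : IsComm π₁ π₂ 1 := by
        have := IsComm.natural hL (mapObj f L W) (isCart_mapObj f L W) (𝟙 W) (mapObj_base_snd f L W) heπ₁ heπ₂ hδ
        simpa using this
      obtain ⟨s₁, hs₁⟩ := exists_scalar_of_isOverPt hA hL' hπ₁ hε₁
      obtain ⟨s₂, hs₂⟩ := exists_scalar_of_isOverPt hA hL' hπ₂ hε₂
      have hε : IsComm ε₁ ε₂ 1 := (hπ.scalar_left hL' hs₁).scalar_right hL' hs₂
      have hε' : IsComm ε₁ ε₂ (g.left.appTop r) :=
        IsComm.natural hL' _ (isCart_bcLift A _ g) g (isCart_and_base_bcLift _ g).2 heε₁ heε₂ hr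
      have h1 := (mul_comm_iff hA hL' hε).2 rfl
      exact (mul_comm_iff hA hL' hε').1 h1
    choose V hV hV1 using key
    exact eq_one_of_locally V hV r hV1
  · intro h T x y β₁ β₂ h₁ h₂
    obtain ⟨r, hr⟩ := exists_isComm hB hL β₁ β₂
    obtain ⟨π₁, hπ₁, heπ₁⟩ := exists_mapPt f L (x ≫ iH) β₁ (by simpa only [Category.assoc] using h₁)
    obtain ⟨π₂, hπ₂, heπ₂⟩ := exists_mapPt f L (y ≫ iH) β₂ (by simpa only [Category.assoc] using h₂)
    have hπ := IsComm.natural hL (mapObj f L T) (isCart_mapObj f L T) (𝟙 T) (mapObj_base_snd f L T) heπ₁ heπ₂ hr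
    refine (mul_comm_iff hB hL hr).2 ?_
    have := (mul_comm_iff hA hL' hπ).1 (h T x y π₁ π₂ hπ₁ hπ₂)
    simpa using this

end Groth.Agent.S19954
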