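import Groth.Statements.S13071
import Mathlib.AlgebraicGeometry.PullbackCarrier
import Mathlib.FieldTheory.Normal.Defs
import Mathlib.AlgebraicGeometry.ResidueField

set_option autoImplicit false
universe u
open CategoryTheory AlgebraicGeometry Limits
open Zeta

namespace Groth.Agent.S13071

/-- For a variety X over a perfect field k with algebraic closure k̄, the fibres of the projection π :
X_{k̄} → X are exactly the orbits of G(k̄/k) acting on X_{k̄} (σ acting as id × Spec σ). Stated for
any scheme of finite type over k; each τ_σ is pinned by τ_σ ≫ pr_1 = pr_1 and τ_σ ≫ pr_2 = pr_2 ≫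
Spec σ. -/
theorem result {k : Type u} [Field k] [PerfectField k]
    {X : Scheme.{u}} (f : X ⟶ Spec (CommRingCat.of k)) [LocallyOfFiniteType f] [QuasiCompact f]
    (τ : (AlgebraicClosure k ≃ₐ[k] AlgebraicClosure k) →
      (pullback f (Spec.map (CommRingCat.ofHom (algebraMap k (AlgebraicClosure k)))) ⟶
        pullback f (Spec.map (CommRingCat.ofHom (algebraMap k (AlgebraicClosure k))))))
    (hτ1 : ∀ σ, τ σ ≫ pullback.fst f _ = pullback.fst f _)
    (hτ2 : ∀ σ, τ σ ≫ pullback.snd f (Spec.map (CommRingCat.ofHom (algebraMap k (AlgebraicClosure k)))) =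
        pullback.snd f _ ≫ Spec.map (CommRingCat.ofHom (σ : AlgebraicClosure k →+* AlgebraicClosure k)))
    (x y : ↑(pullback f (Spec.map (CommRingCat.ofHom (algebraMap k (AlgebraicClosure k)))))) :
    (pullback.fst f (Spec.map (CommRingCat.ofHom (algebraMap k (AlgebraicClosure k))))).base x =
        (pullback.fst f (Spec.map (CommRingCat.ofHom (algebraMap k (AlgebraicClosure k))))).base y ↔
      ∃ σ, (τ σ).base x = y := by
  constructor
  · intro hxy
    let kb := AlgebraicClosure k
    let ι := Spec.map (CommRingCat.ofHom (algebraMap k kb))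
    let π := pullback.fst f ι
    let P := pullback.snd f ι
    obtain ⟨z, hz1, hz2⟩ := Scheme.Pullback.exists_preimage_pullback (f := π) (g := π) x y hxy
    let W := pullback π π
    let K := W.residueField z
    let g1 : Spec (CommRingCat.of K) ⟶ pullback f ι := W.fromSpecResidueField z ≫ pullback.fst π π
    let g2 : Spec (CommRingCat.of K) ⟶ pullback f ι := W.fromSpecResidueField z ≫ pullback.snd π π
    let e1 : kb →+* K := (Spec.preimage (g1 ≫ P)).hom
    let e2 : kb →+* K := (Spec.preimage (g2 ≫ P)).hom
    have he1 : g1 ≫ P = Spec.map (CommRingCat.ofHom e1) := (Spec.map_preimage _).symm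
    have he2 : g2 ≫ P = Spec.map (CommRingCat.ofHom e2) := (Spec.map_preimage _).symm
    have hg : g1 ≫ π = g2 ≫ π := by
      simp only [g1, g2, Category.assoc, pullback.condition]
    have hag : ∀ c : k, e1 (algebraMap k kb c) = e2 (algebraMap k kb c) := by
      have h : (g1 ≫ P) ≫ ι = (g2 ≫ P) ≫ ι := by
        simp only [Category.assoc, P, ← pullback.condition]
        rw [← Category.assoc, hg, Category.assoc]
      rw [he1, he2, ← Spec.map_comp, ← Spec.map_comp] at h
      exact fun c => ConcreteCategory.congr_hom (Spec.map_injective h) c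
    letI : Algebra kb K := e1.toAlgebra
    letI : Algebra k K := (e1.comp (algebraMap k kb)).toAlgebra
    haveI : IsScalarTower k kb K := IsScalarTower.of_algebraMap_eq' rfl
    let E2 : kb →ₐ[k] K := { e2 with commutes' := fun c => (hag c).symm }
    let σ : kb ≃ₐ[k] kb := E2.restrictNormal' kb
    have hσ : e1.comp (σ : kb →+* kb) = e2 := RingHom.ext fun c => AlgHom.restrictNormal_commutes E2 kb c
    refine ⟨σ, ?_⟩
    have hg2 : g1 ≫ τ σ = g2 := by
      refine pullback.hom_ext ?_ ?_
      · rw [Category.assoc, hτ1]; exact hg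
      · rw [Category.assoc, hτ2, ← Category.assoc, he1, he2, ← Spec.map_comp, ← CommRingCat.ofHom_comp, hσ]
    obtain ⟨p⟩ : Nonempty ↥(Spec (CommRingCat.of K)) := ⟨IsLocalRing.closedPoint K⟩
    have hp1 : g1.base p = x := by
      show (pullback.fst π π).base ((W.fromSpecResidueField z).base p) = x
      rw [Scheme.fromSpecResidueField_apply]; exact hz1
    have hp2 : g2.base p = y := by
      show (pullback.snd π π).base ((W.fromSpecResidueField z).base p) = y
      rw [Scheme.fromSpecResidueField_apply]; exact hz2
    rw [← hp1, ← hp2, ← hg2]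
    rfl
  · rintro ⟨σ, rfl⟩
    conv_lhs => rw [← hτ1 σ]
    rfl
end Groth.Agent.S13071
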