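import Groth.Statements.S0005
import Groth.Agent.Lib.PurityExt25.Main
import Groth.Agent.Lib.PurityDesc25.Main
import Groth.Agent.Lib.Pur25.Regular
import Groth.Agent.S0247

set_option autoImplicit false
universe u
open FEt

namespace Groth.Agent.S0005

open CategoryTheory AlgebraicGeometry in
/-- Purity for finite étale covers, global form: let X be a Noetherian scheme all of whose local rings
are regular and U ⊆ X an open subscheme such that every point of X outside U has local ring of Krull
dimension at least 2. Then restriction of finite étale covers from X to U is an equivalence of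
categories. -/
theorem result (X : Scheme.{u}) [IsNoetherian X]
    (hreg : ∀ x : X, IsRegularLocalRing (X.presheaf.stalk x)) (U : X.Opens)
    (hU : ∀ x : X, x ∉ U → (2 : WithBot ℕ∞) ≤ ringKrullDim (X.presheaf.stalk x)) :
    (FEt.restrict U.ι).IsEquivalence := by
  haveI : ∀ x : X, IsRegularLocalRing (X.presheaf.stalk x) := hreg
  have hdepth : ∀ x : X, x ∉ U → (2 : ℕ∞) ≤ LocCoh.depth (X.presheaf.stalk x) (X.presheaf.stalk x) := by
    intro x hx
    refine le_trans ?_ (Groth.Agent.Pur25.le_depth_of_regular (A := X.presheaf.stalk x) rfl)
    have h := hU x hx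
    rw [← IsRegularLocalRing.spanFinrank_maximalIdeal (R := X.presheaf.stalk x)] at h
    exact_mod_cast h
  obtain ⟨hfull, hfaith⟩ := Groth.Agent.PurityDesc25.fullFaithful_openImmersion U.ι fun z hz =>
    hdepth z (by rwa [Scheme.Opens.range_ι] at hz)
  exact { faithful := hfaith, full := hfull
          essSurj := Groth.Agent.PurityExt25.essSurj_restrict U fun x hx =>
            Groth.Agent.S0247.result (X.presheaf.stalk x) (hU x hx) }

end Groth.Agent.S0005
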