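import Groth.Statements.S0006
import Groth.Agent.Lib.PicRep20.Rep
-- import your own Groth.Agent.* helpers here

set_option autoImplicit false
universe u
open PicF

namespace Groth.Agent.S0006

open CategoryTheory AlgebraicGeometry in
/-- Representability of the rigidified Picard functor of a curve: let k be a separably closed field, X a
smooth proper curve over k and σ a k-point of X. Then the functor sending a k-scheme T to the
isomorphism classes of invertible modules on X ×_k T whose pullback along the induced section σ_T :
T → X ×_k T is trivial is representable: there are a k-scheme P and a universal such class on X ×_k
P, every such class over any T being the pullback of the universal one along a unique k-morphism T →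
P. (The published statement is for smooth projective curves, which over a field are the same as
smooth proper curves, and concerns the Picard functor Pic_{X/k}, the fppf sheafification of T ↦
Pic(X_T); since H^0(X, O_X) = k holds universally for such X, Pic_{X/k} is isomorphic to the
rigidified functor used here.) -/
theorem result (k : Type u) [Field k] [IsSepClosed k] (X : Scheme.{u})
    (f : X ⟶ Spec (CommRingCat.of k)) (hX : Curve.IsSmoothProperCurve k X f)
    (σ : Spec (CommRingCat.of k) ⟶ X) (hσ : σ ≫ f = 𝟙 (Spec (CommRingCat.of k))) :
    PicF.RigRepresentable f σ hσ := by
  obtain ⟨hp, hsm, hint, hdim⟩ := hX
  haveI := hp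
  haveI := hsm
  haveI := hint
  haveI := Groth.Agent.GeomIrr.geometricallyIrreducible_of_isSepClosed f
  haveI := Groth.Agent.GeomIrr.geometricallyConnected_of_isSepClosed f
  exact Groth.Agent.PicRep20.rigRepresentable f hdim σ hσ (g := _) rfl

end Groth.Agent.S0006
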