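import Groth.Statements.S0007
import Groth.Agent.Lib.CohFound.HHBridge

set_option autoImplicit false
universe u
open Coherent

namespace Groth.Agent.S0007

open AlgebraicGeometry in
/-- On an affine scheme every quasi-coherent module has zero cohomology in all positive degrees (stated
as Subsingleton of Coh.HH X M p for 0 < p). (The published statement is given for every affine open
of a scheme; that form follows by restricting.) -/
theorem result (X : Scheme.{u}) [IsAffine X] (M : X.Modules)
    [Coh.IsQCoh M] (p : ℕ) (hp : 0 < p) : Subsingleton (Coh.HH X M p) := by
  exact CohFound.subsingleton_HH_affine M p hp

end Groth.Agent.S0007
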