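import Groth.Statements.S0008
import Groth.Agent.Lib.CohFound.CechSite
import Groth.Agent.Lib.CohFound.HHBridge

set_option autoImplicit false
universe u
open Coherent

namespace Groth.Agent.S0008

open AlgebraicGeometry in
/-- For a ring A, an A-module M and elements f_1, …, f_n generating the unit ideal, the Čech cohomology
of the associated module on Spec A with respect to the covering by the basic opens D(f_i) vanishes
in every positive degree. -/
theorem result (A : Type u) [CommRing A] (M : ModuleCat.{u} A)
    (n : ℕ) (f : ULift.{u} (Fin n) → A) (hf : Ideal.span (Set.range f) = ⊤) (p : ℕ) (hp : 0 < p) :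
    CategoryTheory.Limits.IsZero (CohB1.cechH (fun i => PrimeSpectrum.basicOpen (f i)) (tilde (R := CommRingCat.of A) M) p) := by
  classical
  obtain ⟨q, rfl⟩ : ∃ q, p = q + 1 := ⟨p - 1, by omega⟩
  let X := Spec (CommRingCat.of A)
  let N : X.Modules := tilde (R := CommRingCat.of A) M
  let U : ULift.{u} (Fin n) → X.Opens := fun i => PrimeSpectrum.basicOpen (f i)
  have hA : ∀ (t : ℕ) (a : Fin (t + 1) → ULift.{u} (Fin n)) (r : ℕ),
      Subsingleton (CohTop.HU ((Groth.Agent.CohFound.abF X).obj N) (r + 1) (⨅ k, U (a k))) := by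
    intro t a r
    refine (Groth.Agent.CohFound.huExt _ (r + 1) _).toEquiv.subsingleton_congr.2
      (Groth.Agent.CohFound.subsingleton_hc_isAffineOpen N ?_ r)
    have : IsAffineOpen (⨅ k, U (a k)) := by
      rw [← Finset.inf_univ_eq_iInf]
      exact Finset.inf_induction (isAffineOpen_top X) (fun V hV W hW => hV.inf hW)
        (fun k _ => AlgebraicGeometry.IsAffineOpen.Spec_basicOpen _)
    exact this
  have hcov : (⊤ : X.Opens) ≤ ⨆ i, U i := (PrimeSpectrum.iSup_basicOpen_eq_top_iff.2 hf).ge
  obtain ⟨e⟩ := Groth.Agent.CohFound.nonempty_cechH_HU U ((Groth.Agent.CohFound.abF X).obj N)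
    (W := ⊤) hcov hA (fun i => le_top) (q + 1)
  have := (Groth.Agent.CohFound.huExt ((Groth.Agent.CohFound.abF X).obj N) (q + 1) ⊤).toEquiv.subsingleton_congr.2
    (Groth.Agent.CohFound.subsingleton_hc_isAffineOpen N (isAffineOpen_top X) q)
  have h2 := e.toEquiv.subsingleton
  exact @AddCommGrpCat.isZero_of_subsingleton _ h2

end Groth.Agent.S0008
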