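import Groth.Statements.S0019
import Groth.Agent.Lib.ModM1.Push
import Groth.Agent.Lib.ModM1.Coh
import Mathlib.AlgebraicGeometry.Morphisms.Finite

set_option autoImplicit false
universe u
open Coherent

namespace Groth.Agent.S0019

open AlgebraicGeometry in
/-- If f : X → Y is a finite morphism of schemes with Y locally Noetherian and F is a coherent
O_X-module, then the direct image f_*F is a coherent O_Y-module. -/
theorem result {X Y : Scheme.{u}} (f : X ⟶ Y) [IsFinite f] [IsLocallyNoetherian Y]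
    (M : X.Modules) (hM : Coh.IsCoh M) : Coh.IsCoh ((Coh.push f).obj M) := by
  refine ⟨Groth.Agent.M1.isQCoh_push f hM.1, Groth.Agent.M1.isFT_of_finite_sections
    (Groth.Agent.M1.isQCoh_push f hM.1) fun U hU => ?_⟩
  haveI hA := (f.finite_app U hU)
  letI := (f.app U).hom.toAlgebra
  haveI : Module.Finite Γ(Y, U) Γ(X, f ⁻¹ᵁ U) := hA
  haveI := Groth.Agent.M1.finite_sections hM.1 hM.2 (hU.preimage f)
  letI : Module Γ(Y, U) Γ(M, f ⁻¹ᵁ U) := Module.compHom _ (f.app U).hom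
  haveI : IsScalarTower Γ(Y, U) Γ(X, f ⁻¹ᵁ U) Γ(M, f ⁻¹ᵁ U) :=
    IsScalarTower.of_algebraMap_smul fun _ _ => rfl
  exact Module.Finite.trans (R := Γ(Y, U)) Γ(X, f ⁻¹ᵁ U) Γ(M, f ⁻¹ᵁ U)

end Groth.Agent.S0019
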