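import Groth.Statements.S0022
import Groth.Agent.Lib.CohFound.Qcqs
import Groth.Agent.Lib.CohFound.HHBridge
import Groth.Agent.Lib.ProjSpace.Basic

set_option autoImplicit false
universe u
open Coherent

namespace Groth.Agent.S0022

open AlgebraicGeometry in
/-- For any ring R, any quasi-coherent module F on projective space ℙ^n_R and any i > n, H^i(ℙ^n_R, F) =
0. (The published statement is for coherent modules over a Noetherian ring; it is stated here for
quasi-coherent modules over any ring.) -/
theorem result (n : ℕ) (R : Type u) [CommRing R]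
    (M : (CohB1.ProjSpace n R).Modules) [Coh.IsQCoh M] (i : ℕ) (hi : n < i) :
    Subsingleton (Coh.HH (CohB1.ProjSpace n R) M i) := by
  have : (CohB1.ProjSpace n R).IsSeparated := by
    open CategoryTheory CategoryTheory.Limits in
    exact ⟨by
      rw [show terminal.from (CohB1.ProjSpace n R) =
        CohB1.ProjSpace.toSpec n R ≫ terminal.from _ from terminal.hom_ext _ _]
      infer_instance⟩
  let U : Fin (n + 1) → (CohB1.ProjSpace n R).Opens := fun j =>
    (Groth.Agent.ProjSpace.chart n R j).opensRange
  have hcov : (⊤ : (CohB1.ProjSpace n R).Opens) = ⨆ j, U j := le_antisymm (fun x _ => by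
    obtain ⟨j, hj⟩ := Groth.Agent.ProjSpace.exists_mem_chart n R x
    exact TopologicalSpace.Opens.mem_iSup.2 ⟨j, hj⟩) le_top
  have h := Groth.Agent.CohFound.subsingleton_hc_iSup_affine M (fun V W hV hW => hV.inf hW) (n + 1)
    U (fun j => isAffineOpen_opensRange _) i (by omega)
  rw [← hcov] at h
  exact (Groth.Agent.CohFound.subsingleton_HH_iff M i).2 h

end Groth.Agent.S0022
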