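import Groth.Statements.S0026
import Groth.Agent.Lib.CohMop.IntegralFiltration
import Groth.Agent.Lib.CohMop.ExtResolution
-- import your own Groth.Agent.* helpers here

set_option autoImplicit false
universe u
open Coherent

namespace Groth.Agent.CohMop

open CategoryTheory CategoryTheory.Limits AlgebraicGeometry in
theorem exists_chain {X : Scheme.{u}} {M : X.Modules} (h : HasIntFilt M) : Coh.IsCoh M →
    ∃ (m : ℕ) (F : ℕ → X.Modules) (φ : (j : ℕ) → (F j ⟶ F (j + 1))),
      IsZero (F 0) ∧ Nonempty (F m ≅ M) ∧ (∀ j ≤ m, Coh.IsCoh (F j)) ∧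
        ∀ j < m, Mono (φ j) ∧ IsIntegralPiece (cokernel (φ j)) := by
  induction h with
  | @zero M hz =>
    intro hM
    exact ⟨0, fun _ => M, fun _ => 𝟙 M, hz, ⟨Iso.refl M⟩, fun _ _ => hM, fun j hj => absurd hj (Nat.not_lt_zero j)⟩
  | @step A B f hf hA _ hq ih =>
    intro hB
    obtain ⟨m, F, φ, h0, ⟨e⟩, hc, hs⟩ := ih hA
    let G : ℕ → X.Modules := fun j => if j ≤ m then F j else B
    have eG : ∀ j, j ≤ m → G j = F j := fun j hj => if_pos hj
    have eB : ∀ j, ¬ j ≤ m → G j = B := fun j hj => if_neg hj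
    let ψ : (j : ℕ) → (G j ⟶ G (j + 1)) := fun j =>
      if h : j + 1 ≤ m then eqToHom (eG j (by omega)) ≫ φ j ≫ eqToHom (eG (j + 1) h).symm
      else if h' : j = m then eqToHom (eG j (by omega)) ≫ eqToHom (congrArg F h') ≫ e.hom ≫ f ≫ eqToHom (eB (j + 1) h).symm
      else 0
    refine ⟨m + 1, G, ψ, h0.of_iso (eqToIso (eG 0 (Nat.zero_le m))), ⟨eqToIso (eB (m + 1) (by omega))⟩, fun j _ => ?_, fun j hj => ?_⟩
    · by_cases h : j ≤ m
      · rw [eG j h]; exact hc j h
      · rw [eB j h]; exact hB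
    · by_cases h : j + 1 ≤ m
      · obtain ⟨hm, hp⟩ := hs j (by omega)
        simp only [ψ, dif_pos h]
        refine ⟨inferInstance, hp.of_iso ?_⟩
        exact (cokernelCompIsIso (φ j) (eqToHom (eG (j + 1) h).symm)).symm ≪≫
          (cokernelEpiComp (eqToHom (eG j (by omega))) _).symm
      · have h' : j = m := by omega
        subst h'
        simp only [ψ, dif_neg h, dif_pos]
        refine ⟨inferInstance, hq.of_iso ?_⟩
        exact (cokernelCompIsIso f (eqToHom (eB (j + 1) h).symm)).symm ≪≫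
          (cokernelEpiComp e.hom _).symm ≪≫ (cokernelEpiComp (eqToHom rfl) _).symm ≪≫
          (cokernelEpiComp (eqToHom (eG j le_rfl)) _).symm

end Groth.Agent.CohMop

namespace Groth.Agent.S0026

open AlgebraicGeometry CategoryTheory CategoryTheory.Limits in
/-- On a Noetherian scheme X, every coherent module M admits a finite chain 0 = F_0 → F_1 → … → F_m ≅ M
of monomorphisms between coherent modules such that each quotient F_{j+1}/F_j is isomorphic to the
direct image of a nonzero quasi-coherent ideal sheaf of some integral closed subscheme Z_j → X.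
(Filtration written as a chain of monomorphisms up to isomorphism.) -/
theorem result (X : Scheme.{u}) [IsNoetherian X]
    (M : X.Modules) (hM : Coh.IsCoh M) :
    ∃ (m : ℕ) (F : ℕ → X.Modules) (φ : (j : ℕ) → (F j ⟶ F (j + 1))),
      IsZero (F 0) ∧ Nonempty (F m ≅ M) ∧ (∀ j ≤ m, Coh.IsCoh (F j)) ∧ ∀ j < m, Mono (φ j) ∧
        ∃ (Z : Scheme.{u}) (i : Z ⟶ X), IsClosedImmersion i ∧ IsIntegral Z ∧
          ∃ (I : Z.Modules) (ι : I ⟶ Coh.structureModule Z), Mono ι ∧ Coh.IsQCoh I ∧ ¬ IsZero I ∧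
            Nonempty (cokernel (φ j) ≅ (Coh.push i).obj I) := by
  have hf : Groth.Agent.CohMop.HasIntFilt M := by
    rcases isEmpty_or_nonempty X with hX | hX
    · exact .zero (Groth.Agent.CohMop.isZero_of_restrict fun x => isEmptyElim x)
    · exact Groth.Agent.CohMop.hasIntFilt_of_isCoh hM
  obtain ⟨m, F, φ, h0, hm, hc, hs⟩ := Groth.Agent.CohMop.exists_chain hf hM
  exact ⟨m, F, φ, h0, hm, hc, fun j hj => hs j hj⟩

end Groth.Agent.S0026
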