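import Groth.Statements.S0029
import Groth.Agent.Lib.CohFound.SerreAffineExt

set_option autoImplicit false
universe u
open Coherent

namespace Groth.Agent.S0029

open AlgebraicGeometry CategoryTheory in
/-- Let f : X → Y be a quasi-compact morphism between quasi-separated schemes. Suppose R^1 f_* I
vanishes for each quasi-coherent submodule I of O_X; then f is affine. -/
theorem result {X Y : Scheme.{u}} (f : X ⟶ Y) [QuasiCompact f]
    [QuasiSeparatedSpace X] [QuasiSeparatedSpace Y]
    (h : ∀ (I : X.Modules) (i : I ⟶ Coh.structureModule X), Mono i → Coh.IsQCoh I →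
      Limits.IsZero ((Coh.RpushAb f 1).obj (Coh.toAb I))) : IsAffineHom f := by
  exact Groth.Agent.CohFound.isAffineHom_of_rpush_van f h

end Groth.Agent.S0029
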