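import Groth.Statements.S0030
import Groth.Agent.Lib.CohFound.RpushQCoh

set_option autoImplicit false
universe u
open Coherent

namespace Groth.Agent.S0030

open AlgebraicGeometry CategoryTheory in
/-- For a quasi-compact quasi-separated morphism f : X → S and a quasi-coherent O_X-module F, every
higher direct image R^p f_* F is a quasi-coherent O_S-module. (R^p f_* as right derived functor of
f_* on O-modules; the instance argument recording that X.Modules has injective resolutions is true
but not yet in Mathlib.) -/
theorem result {X S : Scheme.{u}} (f : X ⟶ S) [QuasiCompact f]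
    [QuasiSeparated f] [HasInjectiveResolutions X.Modules] (M : X.Modules) [Coh.IsQCoh M] (p : ℕ) :
    Coh.IsQCoh ((Coh.Rpush f p).obj M) :=
  Groth.Agent.CohFound.isQCoh_rpush f ‹Coh.IsQCoh M› p

end Groth.Agent.S0030
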