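import Groth.Statements.S0031
import Groth.Agent.Lib.CohFound.Qcqs
import Groth.Agent.Lib.CohFound.AffMor
-- import your own Groth.Agent.* helpers here

set_option autoImplicit false
universe u
open Coherent

namespace Groth.Agent.S0031

open AlgebraicGeometry CategoryTheory in
/-- If f : X → S is quasi-compact and quasi-separated and S is quasi-compact, there is an integer n with
R^p f_* F = 0 for all p ≥ n and all quasi-coherent F (higher direct images of the underlying abelian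
sheaves). -/
theorem result {X S : Scheme.{u}} (f : X ⟶ S) [QuasiCompact f]
    [QuasiSeparated f] [CompactSpace S] :
    ∃ n : ℕ, ∀ (M : X.Modules), Coh.IsQCoh M → ∀ p : ℕ, n ≤ p →
      Limits.IsZero ((Coh.RpushAb f p).obj (Coh.toAb M)) := by
  obtain ⟨s, hs, hc⟩ := (isCompact_iff_finite_and_eq_biUnion_affineOpens (U := (⊤ : S.Opens))).1
    isCompact_univ
  have hd : ∀ i : S.affineOpens, ∃ d : ℕ, ∀ (M : X.Modules), M.IsQuasicoherent → ∀ p, d ≤ p →
      ∀ g : Γ(S, i.1), Subsingleton (Groth.Agent.CohFound.Hc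
        ((Groth.Agent.CohFound.abF X).obj M) p (f ⁻¹ᵁ S.basicOpen g)) := by
    intro i
    have : IsAffine (i.1 : Scheme.{u}) := i.2
    have : CompactSpace (f ⁻¹ᵁ i.1) :=
      isCompact_iff_compactSpace.1 (f.isCompact_preimage i.2.isCompact)
    have : QuasiSeparated ((f ∣_ i.1) ≫ Limits.terminal.from _) := inferInstance
    have : QuasiSeparatedSpace (f ⁻¹ᵁ i.1) :=
      quasiSeparatedSpace_of_quasiSeparated (f ∣_ i.1)
    obtain ⟨d, hd⟩ := Groth.Agent.CohFound.exists_vanishing_bound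
      (X := (f ⁻¹ᵁ i.1).toScheme) (U := ⊤) isCompact_univ
    refine ⟨d, fun M hM p hp g => ?_⟩
    let W : ((f ⁻¹ᵁ i.1).toScheme).Opens := (f ⁻¹ᵁ i.1).ι ⁻¹ᵁ (f ⁻¹ᵁ i.1)
    let g' : Γ((f ⁻¹ᵁ i.1).toScheme, W) := (f ⁻¹ᵁ i.1).ι.app _ (f.app i.1 g)
    have h := hd (M.restrict (f ⁻¹ᵁ i.1).ι)
      (Scheme.Modules.isQuasicoherent_restrictFunctor _ M) p hp W g' (fun x _ => x.2)
    obtain ⟨e⟩ := Groth.Agent.CohFound.nonempty_hc_abF_restrict (f ⁻¹ᵁ i.1).ι M p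
      (⊤ ⊓ (f ⁻¹ᵁ i.1).toScheme.basicOpen g')
    have e' : (f ⁻¹ᵁ i.1).ι ''ᵁ (⊤ ⊓ (f ⁻¹ᵁ i.1).toScheme.basicOpen g') = f ⁻¹ᵁ S.basicOpen g := by
      rw [top_inf_eq, ← Scheme.preimage_basicOpen, Scheme.Hom.image_preimage_eq_opensRange_inf,
        Scheme.Opens.opensRange_ι, ← Scheme.preimage_basicOpen, ← Scheme.Hom.preimage_inf,
        inf_eq_right.2 (S.basicOpen_le g)]
    rw [e'] at e
    exact @Equiv.subsingleton _ _ e.toEquiv.symm h
  choose d hd using hd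
  obtain ⟨t, rfl⟩ : ∃ t : Finset S.affineOpens, (t : Set S.affineOpens) = s :=
    ⟨hs.toFinset, hs.coe_toFinset⟩
  refine ⟨t.sup d + 1, fun M hM p hp => ?_⟩
  obtain ⟨q, rfl⟩ : ∃ q, p = q + 1 := ⟨p - 1, by omega⟩
  refine (Groth.Agent.CohFound.isZero_rpush_succ_iff
    (f.base : Groth.Agent.CohFound.sp X ⟶ Groth.Agent.CohFound.sp S) q
    ((Groth.Agent.CohFound.abF X).obj M)).2 fun V ξ y hy => ?_
  have hy' : y ∈ (⊤ : S.Opens) := trivial
  rw [hc] at hy'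
  obtain ⟨i, hi, hyi⟩ : ∃ i ∈ (t : Set S.affineOpens), y ∈ i.1 := by
    simpa only [TopologicalSpace.Opens.mem_iSup, exists_prop] using hy'
  obtain ⟨g, hgV, hyg⟩ := i.2.exists_basicOpen_le ⟨y, hy⟩ hyi
  have := Finset.le_sup (f := d) (Finset.mem_coe.1 hi)
  have h := hd i M hM (q + 1) (by omega) g
  exact ⟨S.basicOpen g, hgV, hyg, @Subsingleton.elim (Groth.Agent.CohFound.Hc
    ((Groth.Agent.CohFound.abF X).obj M) (q + 1) (f ⁻¹ᵁ S.basicOpen g)) h _ _⟩

end Groth.Agent.S0031
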