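import Groth.Statements.S0033
import Groth.Agent.Lib.FlatBC10.BcQIso
import Groth.Agent.Lib.ModLimH13.Flat

set_option autoImplicit false
universe u
open Coherent

namespace Groth.Agent.S0033

open AlgebraicGeometry CategoryTheory in
/-- For a cartesian square with f : X → S quasi-compact quasi-separated and g : S' → S flat, and F
quasi-coherent on X, the pullback g^* R^i f_* F is isomorphic to R^i f'_* (g'^* F). Only the
existence of an isomorphism is asserted (the published statement asserts that the base change map is
an isomorphism). -/
theorem result {X S X' S' : Scheme.{u}} (f : X ⟶ S) (g : S' ⟶ S)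
    (g' : X' ⟶ X) (f' : X' ⟶ S') (h : IsPullback g' f' f g) [QuasiCompact f] [QuasiSeparated f]
    [Flat g] [HasInjectiveResolutions X.Modules] [HasInjectiveResolutions X'.Modules]
    (M : X.Modules) [Coh.IsQCoh M] (i : ℕ) :
    Nonempty ((Scheme.Modules.pullback g).obj ((Coh.Rpush f i).obj M) ≅
      (Coh.Rpush f' i).obj ((Scheme.Modules.pullback g').obj M)) := by
  haveI : Flat g' := MorphismProperty.of_isPullback h.flip inferInstance
  haveI : Limits.PreservesFiniteLimits (Scheme.Modules.pullback g') :=
    ModLimH13.preservesFiniteLimits_pullback_of_flat g'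
  haveI := FlatBC10.isIso_bcQ f g g' f' M i h
  exact ⟨asIso (CohBC.bcQ f g f' g' h.w i M)⟩


end Groth.Agent.S0033
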