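import Groth.Statements.S0039
import Groth.Agent.Lib.Algz3.ClosedSub
import Groth.Agent.Lib.FormalH7.NearIso
import Groth.Agent.Lib.FormalH7.LocFree
import Groth.Agent.Lib.BlowUp3.Pow

set_option autoImplicit false
universe u
open Coherent

namespace Groth.Agent.S0039

open AlgebraicGeometry CategoryTheory CategoryTheory.Limits in
/-- Let A be Noetherian and complete for an ideal I, X proper over A and Y separated of finite type over
A. Write X_n, Y_n for the base changes to A/I^(n+1). Then every system of morphisms g_n : X_n → Y_n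
over A/I^(n+1), compatible with the transition maps, is induced by a morphism X → Y over A. (The
published statement also asserts uniqueness, but only existence is stated here.) -/
theorem result (A : Type u) [CommRing A] [IsNoetherianRing A]
    (I : Ideal A) [IsAdicComplete I A] {X Y : Scheme.{u}} (f : X ⟶ Spec (CommRingCat.of A))
    (h : Y ⟶ Spec (CommRingCat.of A)) [IsProper f] [IsSeparated h] [LocallyOfFiniteType h]
    [QuasiCompact h] (g : (n : ℕ) → (CohB1.thick f I n ⟶ CohB1.thick h I n))
    (hg₁ : ∀ n, g n ≫ CohB1.thickToBase h I n = CohB1.thickToBase f I n)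
    (hg₂ : ∀ n, CohB1.thickTrans f I n ≫ g (n + 1) = g n ≫ CohB1.thickTrans h I n) :
    ∃ φ : X ⟶ Y, φ ≫ h = f ∧ ∀ n, CohB1.thickι f I n ≫ φ = g n ≫ CohB1.thickι h I n := by
  haveI : IsLocallyNoetherian X := LocallyOfFiniteType.isLocallyNoetherian f
  let P := pullback f h
  let fP : P ⟶ Spec (CommRingCat.of A) := pullback.fst f h ≫ f
  letI : P.Over (Spec (CommRingCat.of A)) := ⟨fP⟩
  haveI : IsSeparated (P ↘ Spec (CommRingCat.of A)) := inferInstanceAs (IsSeparated fP)
  haveI : LocallyOfFiniteType (P ↘ Spec (CommRingCat.of A)) := inferInstanceAs (LocallyOfFiniteType fP)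
  haveI : QuasiCompact (P ↘ Spec (CommRingCat.of A)) := inferInstanceAs (QuasiCompact fP)
  have hth : ∀ n, IsPullback (CohB1.thickι f I n) (CohB1.thickToBase f I n) f (CohB1.specQuot I n) :=
    fun n => IsPullback.of_hasPullback _ _
  have hfst : ∀ n, CohB1.thickTrans f I n ≫ CohB1.thickι f I (n + 1) = CohB1.thickι f I n := fun n =>
    (pullback.lift_fst _ _ _).trans (Category.comp_id _)
  have hfst' : ∀ n, CohB1.thickTrans h I n ≫ CohB1.thickι h I (n + 1) = CohB1.thickι h I n := fun n =>
    (pullback.lift_fst _ _ _).trans (Category.comp_id _)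
  have hsnd : ∀ n, CohB1.thickTrans f I n ≫ CohB1.thickToBase f I (n + 1) =
      CohB1.thickToBase f I n ≫ CohB1.specQuotTrans I n := fun n => pullback.lift_snd _ _ _
  have htr : ∀ n, IsPullback (CohB1.thickTrans f I n) (CohB1.thickToBase f I n) (CohB1.thickToBase f I (n + 1))
      (CohB1.specQuotTrans I n) := fun n =>
    IsPullback.of_right (h₁₂ := CohB1.thickι f I (n + 1)) (h₂₂ := CohB1.specQuot I (n + 1)) (v₁₃ := f)
      (by rw [hfst, CohB1.specQuotTrans_specQuot]; exact hth n) (hsnd n) (hth (n + 1))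
  haveI hci : ∀ n, IsClosedImmersion (CohB1.specQuot I n) := fun n =>
    IsClosedImmersion.spec_of_surjective _ Ideal.Quotient.mk_surjective
  haveI : ∀ n, IsClosedImmersion (CohB1.thickι f I n) := fun n =>
    MorphismProperty.of_isPullback (hth n).flip inferInstance
  have hq : ∀ n, CohB1.thickι f I n ≫ f = (g n ≫ CohB1.thickι h I n) ≫ h := fun n => by
    rw [(hth n).w, Category.assoc, ← hg₁ n, Category.assoc]
    exact congrArg (g n ≫ ·) (pullback.condition).symm
  let q : ∀ n, CohB1.thick f I n ⟶ P := fun n => pullback.lift (CohB1.thickι f I n) (g n ≫ CohB1.thickι h I n) (hq n)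
  have hq₁ : ∀ n, q n ≫ pullback.fst f h = CohB1.thickι f I n := fun n => pullback.lift_fst _ _ _
  have hq₂ : ∀ n, q n ≫ pullback.snd f h = g n ≫ CohB1.thickι h I n := fun n => pullback.lift_snd _ _ _
  haveI : ∀ n, IsClosedImmersion (q n) := fun n => by
    haveI : IsClosedImmersion (q n ≫ pullback.fst f h) := by rw [hq₁]; infer_instance
    exact IsClosedImmersion.of_comp (q n) (pullback.fst f h)
  have hp0 : IsProper (CohB1.thickToBase f I 0) := MorphismProperty.of_isPullback (P := @IsProper) (hth 0) ‹_›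
  obtain ⟨J, w, hJ, hw, hwt, hpb⟩ := Groth.Agent.Algz3.exists_closed_algebraization (I := I) (X := P)
    (fun n => CohB1.thick f I n) (fun n => CohB1.thickToBase f I n) (fun n => CohB1.thickTrans f I n) htr q
    (fun n => by
      refine pullback.hom_ext ?_ ?_
      · rw [Category.assoc, hq₁, hq₁, hfst]
      · rw [Category.assoc, hq₂, hq₂, ← Category.assoc, hg₂, Category.assoc, hfst'])
    (fun n => by
      show q n ≫ pullback.fst f h ≫ f = _
      rw [← Category.assoc, hq₁, (hth n).w]) hp0
  let π : J.subscheme ⟶ X := J.subschemeι ≫ pullback.fst f h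
  haveI : IsProper (π ≫ f) := by
    rw [Category.assoc]
    exact hJ
  haveI : IsProper π := IsProper.of_comp π f
  have hwπ : ∀ n, w n ≫ π = CohB1.thickι f I n := fun n => by rw [← Category.assoc, hw, hq₁]
  have hsq : ∀ n, IsPullback (w n) (𝟙 _) π (CohB1.thickι f I n) := fun n =>
    IsPullback.of_bot (v₁₁ := 𝟙 _) (v₂₁ := CohB1.thickToBase f I n)
      (by
        rw [Category.id_comp, show π ≫ f = J.subschemeι ≫ fP from Category.assoc _ _ _]
        exact hpb n)
      (by rw [Category.id_comp, hwπ]) (hth n)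
  let K : X.IdealSheafData := (FSch.idealSpec A I).comap f
  have hK : ∀ n, K ^ (n + 1) = (CohB1.thickι f I n).ker := fun n => by
    rw [show (CohB1.thickι f I n).ker = (CohB1.specQuot I n).ker.comap f from
      Scheme.IdealSheafData.ker_fst_of_isClosedImmersion (CohB1.specQuot I n) f,
      show (CohB1.specQuot I n).ker = FSch.idealSpec A (I ^ (n + 1)) from rfl,
      Groth.Agent.FormalH7.idealSpec_pow, Groth.Agent.BlowUp3.comap_pow]
  have hKw : ∀ n, IsClosedImmersion (((K ^ (n + 1)).comap π).subschemeι ≫ π) ∧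
      (((K ^ (n + 1)).comap π).subschemeι ≫ π).ker = K ^ (n + 1) := fun n => by
    haveI : IsClosedImmersion (w n) := MorphismProperty.of_isPullback (hsq n).flip inferInstance
    rw [hK, ← Groth.Agent.FormalH7.ker_of_isPullback (hsq n)]
    have e : (w n).ker.subschemeι ≫ π = inv (w n).toImage ≫ CohB1.thickι f I n := by
      rw [IsIso.eq_inv_comp, ← hwπ, ← Category.assoc]
      exact congrArg (· ≫ π) (w n).toImage_imageι
    rw [e]
    exact ⟨inferInstance, Scheme.Hom.ker_comp_of_isIso _ _⟩
  have hcov : ∀ x : X, ∃ D : X.Opens, x ∈ D ∧ IsIso (π ∣_ D) := fun x => by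
    obtain ⟨z, hzx, hz⟩ := Groth.Agent.FormalH7.exists_closure_mem_support I f x
    obtain ⟨-, -, -, hiso⟩ := Groth.Agent.FormalH7.exists_nhd_closedImmersion π K (fun n => (hKw n).1) z hz
    obtain ⟨D, hzD, hD⟩ := hiso fun n => (hKw n).2
    exact ⟨D, (specializes_iff_mem_closure.2 hzx).mem_open D.isOpen hzD, hD⟩
  choose D hxD hD using hcov
  haveI : IsIso π := by
    have := (IsZariskiLocalAtTarget.iff_of_iSup_eq_top (P := MorphismProperty.isomorphisms Scheme.{u}) (f := π) D
      (top_unique fun x _ => TopologicalSpace.Opens.mem_iSup.2 ⟨x, hxD x⟩)).2 fun x => hD x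
    exact this
  refine ⟨inv π ≫ J.subschemeι ≫ pullback.snd f h, ?_, fun n => ?_⟩
  · rw [Category.assoc, Category.assoc, ← pullback.condition, ← Category.assoc J.subschemeι, IsIso.inv_hom_id_assoc]
  · rw [← hwπ, Category.assoc, IsIso.hom_inv_id_assoc, ← Category.assoc, hw, hq₂]

end Groth.Agent.S0039
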