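import Groth.Statements.S0045
import Groth.Agent.Lib.ModM1.Ann

set_option autoImplicit false
universe u
open Coherent

namespace Groth.Agent.S0045

open AlgebraicGeometry CategoryTheory in
/-- On a Noetherian scheme, any increasing sequence of quasi-coherent submodules of a coherent module is
eventually constant. -/
theorem result (X : Scheme.{u}) [IsNoetherian X] (M : X.Modules)
    (hM : Coh.IsCoh M) (F : ℕ →o Subobject M) (hF : ∀ n, Coh.IsQCoh ((F n : Subobject M) : X.Modules)) :
    ∃ n : ℕ, ∀ m : ℕ, n ≤ m → F m = F n := by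
  obtain ⟨s, hs, hcov⟩ := Groth.Agent.M1.exists_finite_affine_iSup (X := X) (U := ⊤) isCompact_univ
  haveI : Fintype s := hs.fintype
  have hstab (V : X.affineOpens) : ∃ n, ∀ m, n ≤ m →
      Set.range ((F m).arrow.app V.1) = Set.range ((F n).arrow.app V.1) := by
    haveI : IsNoetherianRing Γ(X, V.1) := IsLocallyNoetherian.component_noetherian V
    haveI := Groth.Agent.M1.finite_sections hM.1 hM.2 V.2
    let g (k : ℕ) : Γ(((F k : Subobject M) : X.Modules), V.1) →ₗ[Γ(X, V.1)] Γ(M, V.1) :=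
      { toFun := (F k).arrow.app V.1
        map_add' := map_add ((F k).arrow.app V.1).hom
        map_smul' := (F k).arrow.app_smul }
    let G : ℕ →o Submodule Γ(X, V.1) Γ(M, V.1) :=
      ⟨fun k => LinearMap.range (g k), fun i j hij => by
        rintro _ ⟨y, rfl⟩
        exact ⟨((F i).ofLE (F j) (F.mono hij)).app V.1 y,
          ConcreteCategory.congr_hom (congrArg (fun φ => φ.app V.1) (Subobject.ofLE_arrow (F.mono hij))) y⟩⟩
    obtain ⟨n, hn⟩ := (monotone_stabilizes_iff_noetherian (R := Γ(X, V.1)) (M := Γ(M, V.1))).mpr inferInstance G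
    exact ⟨n, fun m hm => congrArg (fun N : Submodule Γ(X, V.1) Γ(M, V.1) => (N : Set Γ(M, V.1))) (hn m hm).symm⟩
  choose n hn using hstab
  refine ⟨Finset.univ.sup fun V : s => n V.1, fun m hm => ?_⟩
  set N := Finset.univ.sup fun V : s => n V.1
  let φ := (F N).ofLE (F m) (F.mono hm)
  haveI : Mono φ := inferInstance
  haveI : Epi φ := by
    rw [Groth.Agent.M1.epi_iff_locally_surjective]
    intro U t x hxU
    have hxtop : x ∈ (⊤ : X.Opens) := trivial
    rw [hcov, TopologicalSpace.Opens.mem_iSup] at hxtop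
    obtain ⟨V, hxV⟩ := hxtop
    obtain ⟨g, hgU, hxg⟩ := V.1.2.exists_basicOpen_le ⟨x, hxU⟩ hxV
    haveI := hF m
    obtain ⟨k, t₀, ht⟩ := Groth.Agent.M1.exists_pow_smul_eq_res_affine
      ((F m : Subobject M) : X.Modules) V.1.2 g (Groth.Agent.M1.mres _ hgU t)
    have hVN : n V.1 ≤ N := Finset.le_sup (f := fun V : s => n V.1) (Finset.mem_univ V)
    have : (F m).arrow.app V.1.1 t₀ ∈ Set.range ((F N).arrow.app V.1.1) := by
      rw [hn V.1 N hVN, ← hn V.1 m (hVN.trans hm)]; exact ⟨t₀, rfl⟩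
    obtain ⟨t', ht'⟩ := this
    have e : φ.app V.1.1 t' = t₀ := Groth.Agent.M1.app_injective (F m).arrow V.1.1
      ((ConcreteCategory.congr_hom (congrArg (fun ψ => ψ.app V.1.1) (Subobject.ofLE_arrow (F.mono hm))) t').trans ht')
    have hu : IsUnit (Groth.Agent.M1.ores (X.basicOpen_le g) g) :=
      RingedSpace.isUnit_res_basicOpen X.toRingedSpace g
    obtain ⟨u, hu'⟩ := hu.pow k
    refine ⟨X.basicOpen g, hgU, hxg, (↑u⁻¹ : Γ(X, X.basicOpen g)) •
      Groth.Agent.M1.mres _ (X.basicOpen_le g) t', ?_⟩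
    rw [Scheme.Modules.Hom.app_smul, Groth.Agent.M1.app_mres, e, ht, ← hu', smul_smul, Units.inv_mul, one_smul]
  haveI : IsIso φ := isIso_of_mono_of_epi φ
  exact (Subobject.eq_of_comm (asIso φ) (Subobject.ofLE_arrow (F.mono hm))).symm

end Groth.Agent.S0045
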