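import Groth.Statements.S0048
import Groth.Agent.Lib.ModM1.Coh

set_option autoImplicit false
universe u
open Coherent

namespace Groth.Agent.S0048

open AlgebraicGeometry in
/-- Let U ⊆ X be open and T ⊆ U a subset closed in X. If F is a coherent (quasi-coherent of finite type,
i.e. `Coh.IsCoh`) module on U with support contained in T, then its direct image along U ↪ X is
again coherent in the same sense. (The published statement is for coherent modules in the usual
sense; here both hypothesis and conclusion use the notion `Coh.IsCoh`.) -/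
theorem result (X : Scheme.{u}) (U : X.Opens) (T : Set X)
    (hT : IsClosed T) (hTU : T ⊆ (U : Set X)) (F : (↑U : Scheme.{u}).Modules) (hF : Coh.IsCoh F)
    (hs : ∀ x : ↥U, x ∈ CohB1.support F → (x : X) ∈ T) : Coh.IsCoh ((Coh.push U.ι).obj F) := by
  let W : X.Opens := ⟨Tᶜ, hT.isOpen_compl⟩
  let P := (Scheme.Modules.pushforward U.ι).obj F
  have hz : CategoryTheory.Limits.IsZero (P.restrict W.ι) := by
    rw [CategoryTheory.Limits.IsZero.iff_id_eq_zero]
    ext V a
    refine Groth.Agent.M1.section_ext (M := F) (U := U.ι ⁻¹ᵁ (W.ι ''ᵁ V)) _ _ fun z hz => ?_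
    have hzT : U.ι z ∉ T := by
      obtain ⟨w, -, hw⟩ := hz
      exact fun h => w.2 (show W.ι w ∈ T from hw ▸ h)
    have := (Groth.Agent.M1.notMem_support_iff F z).mp fun h => hzT (hs z h)
    exact (this _).trans (this _).symm
  have hU : Nonempty (P.restrict U.ι ≅ F) :=
    ⟨(CategoryTheory.asIso (Scheme.Modules.restrictAdjunction U.ι).counit).app F⟩
  let j : Fin 2 → X.Opens := ![U, W]
  have hcov (x : X) : ∃ i, x ∈ Set.range (j i).ι := by
    by_cases hx : x ∈ T
    · exact ⟨0, by rw [Scheme.Opens.range_ι]; exact hTU hx⟩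
    · exact ⟨1, by rw [Scheme.Opens.range_ι]; exact hx⟩
  have hftz : CohB1.IsFT (P.restrict W.ι) := by
    haveI : CategoryTheory.Epi (0 : Groth.Agent.M1.fr (X := (W : Scheme.{u})) PEmpty.{u+1} ⟶ P.restrict W.ι) :=
      ⟨fun g h _ => hz.eq_of_src g h⟩
    exact Groth.Agent.M1.isFT_of_epi_fr (0 : Groth.Agent.M1.fr (X := (W : Scheme.{u})) PEmpty.{u+1} ⟶ P.restrict W.ι)
  refine ⟨Groth.Agent.M1.isQCoh_of_openImmersion_cover (fun i => (j i).ι) hcov ?_,
    Groth.Agent.M1.isFT_of_openImmersion_cover (fun i => (j i).ι) hcov ?_⟩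
  · intro i
    fin_cases i
    · exact Groth.Agent.M1.isQCoh_of_isIso hU.some.symm hF.1
    · exact Groth.Agent.M1.isQCoh_isZero hz
  · intro i
    fin_cases i
    · exact Groth.Agent.M1.isFT_of_isIso hU.some.symm hF.2
    · exact hftz

end Groth.Agent.S0048
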