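import Groth.Statements.S0049
import Groth.Agent.Lib.ModM1.FibreProd
import Groth.Agent.Lib.ModM1.Pull

set_option autoImplicit false
universe u
open Coherent

namespace Groth.Agent.S0049

open AlgebraicGeometry CategoryTheory in
/-- On a Noetherian scheme, if the support of a coherent module F is the union of closed sets Z and Z',
there is a short exact sequence 0 → G' → F → G → 0 of coherent modules with G' supported in Z' and G
supported in Z. -/
theorem result (X : Scheme.{u}) [IsNoetherian X] (M : X.Modules) (hM : Coh.IsCoh M)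
    (Z Z' : Set X) (hZ : IsClosed Z) (hZ' : IsClosed Z') (h : CohB1.support M = Z ∪ Z') :
    ∃ S : ShortComplex X.Modules, S.ShortExact ∧ Nonempty (S.X₂ ≅ M) ∧ Coh.IsCoh S.X₁ ∧ Coh.IsCoh S.X₃ ∧
      CohB1.support S.X₁ ⊆ Z' ∧ CohB1.support S.X₃ ⊆ Z := by
  let U : X.Opens := ⟨Z'ᶜ, hZ'.isOpen_compl⟩
  let W₀ : X.Opens := ⟨Zᶜ, hZ.isOpen_compl⟩
  haveI : QuasiCompact U.ι := Groth.Agent.M1.quasiCompact_ι U fun V hV =>
    Groth.Agent.M1.isCompact_inf_of_noetherianSpace
      (fun x => ⟨⊤, trivial, by rw [TopologicalSpace.Opens.coe_top]; infer_instance⟩) U hV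
  let η := (Scheme.Modules.restrictAdjunction U.ι).unit.app M
  let ι := Limits.kernel.ι η
  let π := Limits.cokernel.π ι
  have h1 : Coh.IsCoh (Limits.kernel η) := Groth.Agent.M1.isCoh_kernel hM
    (Groth.Agent.M1.isQCoh_push U.ι (Groth.Agent.M1.isQCoh_restrict hM.1 U.ι)) η
  refine ⟨ShortComplex.mk ι π (Limits.cokernel.condition _),
    ShortComplex.ShortExact.mk' (ShortComplex.exact_cokernel ι) inferInstance inferInstance,
    ⟨Iso.refl _⟩, h1, Groth.Agent.M1.isCoh_cokernel h1.1 hM ι, ?_, ?_⟩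
  · intro x hx
    by_contra hxZ
    let R := Scheme.Modules.restrictFunctor U.ι
    haveI := Groth.Agent.M1.isIso_restrict_unit U.ι M
    have h0 : R.map ι = 0 := by
      rw [← cancel_mono (R.map η), ← R.map_comp, Limits.kernel.condition, R.map_zero, Limits.zero_comp]
    have hz : Limits.IsZero (R.obj (Limits.kernel η)) := Limits.IsZero.of_mono_eq_zero (R.map ι) h0
    refine (Groth.Agent.M1.subsingleton_stalk_restrict_iff U.ι (Limits.kernel η) ⟨x, hxZ⟩).mpr hx ?_
    exact AddCommGrpCat.subsingleton_of_isZero ((Groth.Agent.M1.stalkAb _).map_isZero hz)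
  · intro x hx
    by_contra hxZ
    refine hx ?_
    have hsurj : Function.Surjective ((Groth.Agent.M1.stalkAb x).map π) :=
      (Groth.Agent.M1.epi_iff_stalk π).mp inferInstance x
    suffices h0 : ∀ a : M.presheaf.stalk x, (Groth.Agent.M1.stalkAb x).map π a = 0 by
      refine ⟨fun a b => ?_⟩
      obtain ⟨a, rfl⟩ := hsurj a
      obtain ⟨b, rfl⟩ := hsurj b
      exact (h0 a).trans (h0 b).symm
    intro a
    obtain ⟨V, hxV, s, rfl⟩ := M.presheaf.exists_germ_eq a
    rw [← Groth.Agent.M1.germ_mres M (inf_le_left : V ⊓ W₀ ≤ V) (x := x) (show x ∈ V ⊓ W₀ from ⟨hxV, hxZ⟩)]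
    refine (Groth.Agent.M1.germ_naturality (M := M) π _ x _ _).trans ?_
    have hk : η.app (V ⊓ W₀) (Groth.Agent.M1.mres M inf_le_left s) = 0 := by
      refine Groth.Agent.M1.section_ext (M := M) (U := U.ι ''ᵁ U.ι ⁻¹ᵁ (V ⊓ W₀)) _ _ fun y hy => ?_
      obtain ⟨z, hz, rfl⟩ := hy
      have hy' : U.ι z ∉ CohB1.support M := by
        rw [h]
        rintro (h' | h')
        exacts [hz.2 h', z.2 h']
      exact ((Groth.Agent.M1.notMem_support_iff M _).mp hy' _).trans
        ((Groth.Agent.M1.notMem_support_iff M _).mp hy' _).symm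
    obtain ⟨b, hb⟩ := (Groth.Agent.M1.Sub.mem_ker η _ _).mpr hk
    rw [← hb]
    change _ = 0
    rw [← Groth.Agent.M1.comp_app_apply (Groth.Agent.M1.Sub.ker η).i π]
    rw [show (Groth.Agent.M1.Sub.ker η).i ≫ π = 0 from Limits.cokernel.condition _]
    exact map_zero _

end Groth.Agent.S0049
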