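import Groth.Statements.S0058
import Groth.Agent.Lib.CohFound.FormalFn
-- import your own Groth.Agent.* helpers here

set_option autoImplicit false
universe u
open Coherent

namespace Groth.Agent.S0058

open AlgebraicGeometry CategoryTheory Opposite in
/-- Part (3) (which implies the Mittag-Leffler condition (2)). Same setting as part (1): there is c such
that for all n and all k ≥ n + c, the image of H^p(X, F/I^(k+1)F) → H^p(X, F/I^(n+1)F) equals the
image of H^p(X, F) → H^p(X, F/I^(n+1)F). -/
theorem result (A : Type u) [CommRing A] [IsNoetherianRing A]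
    (I : Ideal A) (X : Scheme.{u}) [X.Over (Spec (CommRingCat.of A))]
    [IsProper (X ↘ Spec (CommRingCat.of A))] (M : X.Modules) (hM : Coh.IsCoh M) (p : ℕ) :
    ∃ c : ℕ, ∀ (n k : ℕ) (h : n ≤ k), n + c ≤ k →
      Set.range (Sheaf.H.map ((SheafOfModules.toSheaf X.ringCatSheaf).map
        ((Formal.completion I M).map (homOfLE h).op)) p) = Set.range (Formal.toHHmodPow I M p n) := CohFound.FF.exists_range_eq I M p hM

end Groth.Agent.S0058
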