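import Groth.Statements.S0061
import Groth.Agent.Lib.GExistH7.ProjExist
import Groth.Agent.Lib.CohFound.ClosedImmPush

set_option autoImplicit false
universe u
open Coherent

namespace Groth.Agent.S0061

open AlgebraicGeometry CategoryTheory in
/-- Grothendieck's existence Theorem in the projective case, essential-surjectivity half. Let A be a
Noetherian ring complete for an ideal I and X a closed subscheme of P^n_A, compatibly with the
structure maps to Spec A. Then every coherent formal module on X with respect to I
(`Formal.IsCohFormal`) is isomorphic to the completion system (M/I^nM)_n of some coherent O_X-module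
M. (Full faithfulness of completion is stated separately.) -/
theorem result (A : Type u) [CommRing A] [IsNoetherianRing A]
    (I : Ideal A) [IsAdicComplete I A] (n : ℕ) (X : Scheme.{u}) [X.Over (Spec (CommRingCat.of A))]
    (i : X ⟶ CohB1.ProjSpace n A) [IsClosedImmersion i]
    (hi : i ≫ CohB1.ProjSpace.toSpec n A = X ↘ Spec (CommRingCat.of A))
    (G : ℕᵒᵖ ⥤ X.Modules) (hG : Formal.IsCohFormal I G) :
    ∃ M : X.Modules, Coh.IsCoh M ∧ Nonempty (Formal.completion I M ≅ G) := by
  open Groth.Agent Groth.Agent.GExistH7 Groth.Agent.FormalH7 in
  exact by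
    let Y : Scheme.{u} := CohB1.ProjSpace n A
    haveI : IsProper (Y ↘ Spec (CommRingCat.of A)) := ProjSpace.isProper_toSpec n A
    let F := Scheme.Modules.pushforward i
    let P := Scheme.Modules.pullback i
    haveI : F.IsLeftAdjoint := ClImmProj14.isLeftAdjoint_push i
    haveI : F.Additive := (Scheme.Modules.pullbackPushforwardAdjunction i).right_adjoint_additive
    have hs := isSys_of_isCohFormal hG
    have hsF : IsSys I (G ⋙ F) := ⟨fun k => CohFound.isCoh_push_closedImm i (hs.coh k),
      fun k a ha => (pushforward_map_smulMod i hi _ a).symm.trans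
        ((congrArg F.map (hs.killed k a ha)).trans (F.map_zero _ _)),
      fun k => isQuot_map_of_isLeftAdjoint F (fun M a => pushforward_map_smulMod i hi M a) (hs.quot k)⟩
    obtain ⟨M, χ, hM, hq, hc⟩ := algAll_of_lifts (X := Y) (lifts_proj n A) I (G ⋙ F) hsF hsF.coh
    haveI : ∀ k, IsIso ((Scheme.Modules.pullbackPushforwardAdjunction i).counit.app (G.obj (Opposite.op k))) :=
      fun k => CohFound.isIso_counit_closedImm i _ (hs.coh k).1
    refine (Algebraizable.exists_iso ⟨P.obj M, fun k =>
      P.map (χ k) ≫ (Scheme.Modules.pullbackPushforwardAdjunction i).counit.app _,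
      M1.isCoh_pullback i hM, fun k => (isQuot_of_pullback i hi (hq k)).comp_iso
        (asIso ((Scheme.Modules.pullbackPushforwardAdjunction i).counit.app (G.obj (Opposite.op k)))), fun k => ?_⟩)
    rw [Category.assoc]
    erw [← (Scheme.Modules.pullbackPushforwardAdjunction i).counit.naturality (gm G (Nat.le_succ k))]
    rw [← Category.assoc]
    refine congrArg (· ≫ _) ?_
    exact ((P.map_comp _ _).symm.trans (congrArg P.map (hc k)))

end Groth.Agent.S0061
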