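import Groth.Statements.S0062
import Groth.Agent.Lib.AmpleFib.StalkVan

set_option autoImplicit false
universe u
open Coherent

namespace Groth.Agent.S0062

open AlgebraicGeometry CategoryTheory in
/-- Let f : X → Y be proper with Y Noetherian, L invertible on X, F coherent on X, and y a point such
that the pullback of L to the fibre X_y is ample. Then there is d₀ such that for all d ≥ d₀ and p >
0 the stalk at y of R^p f_*(F ⊗ L^{⊗d}) vanishes. (The surjectivity assertion on global sections of
the fibre is not stated.) -/
theorem result {X Y : Scheme.{u}} (f : X ⟶ Y) [IsProper f]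
    [IsNoetherian Y] (L : X.Modules) (hL : PicF.IsInvertible L) (M : X.Modules) (hM : Coh.IsCoh M) (y : Y)
    (hy : CohB1.IsAmple ((Scheme.Modules.pullback (f.fiberι y)).obj L)) :
    ∃ d₀ : ℕ, ∀ d : ℕ, d₀ ≤ d → ∀ p : ℕ, 0 < p →
      Limits.IsZero (TopCat.Presheaf.stalk
        ((Coh.RpushAb f p).obj (Coh.toAb (CohB1.tensorMod M (CohB1.tensorPow L d)))).obj y) := by
  exact AmpleFib.exists_isZero_stalk f L hL M hM y hy

end Groth.Agent.S0062
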