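import Groth.Statements.S0064
import Groth.Agent.Lib.EtBase.Unramified

set_option autoImplicit false
open CategoryTheory CategoryTheory.Limits AlgebraicGeometry Opposite
universe u
open EtBase

namespace Groth.Agent.S0064

/-- Let S be a Noetherian scheme, X → S a quasi-compact, separated, unramified morphism (formally
unramified and locally of finite type), and Y a Noetherian scheme with a morphism Y → S. Then there
are only finitely many S-morphisms Y → X. The published statement does not assume X → S separated;
it is stated here in the separated case. -/
theorem result {X S Y : Scheme.{u}} [IsNoetherian S] [IsNoetherian Y]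
    (π : X ⟶ S) [FormallyUnramified π] [LocallyOfFiniteType π] [QuasiCompact π] [IsSeparated π]
    (h : Y ⟶ S) : Set.Finite {f : Y ⟶ X | f ≫ π = h} := by
  exact EtBase.finite_homs π h

end Groth.Agent.S0064
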