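import Groth.Statements.S0068
import Groth.Agent.Lib.EtStalk.Push

set_option autoImplicit false
open CategoryTheory CategoryTheory.Limits AlgebraicGeometry Opposite
universe u
open EtBase

namespace Groth.Agent.S0068

/-- Part (2), second half — an abelian étale sheaf is a pushforward from a closed subscheme exactly when
its sections vanish over every étale scheme mapping into the open complement. -/
theorem result {Z X : Scheme.{u}} (i : Z ⟶ X) [IsClosedImmersion i] [EtCoh.BCCont i]
    (F : EtCoh.Ab X) :
    (EtCoh.push i).essImage F ↔
      ∀ U : X.Etale, Disjoint (Set.range U.hom.base) (Set.range i.base) → IsZero (F.obj.obj (op U)) := by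
  constructor
  · rintro ⟨G, ⟨e⟩⟩ U hU
    exact (EtStalk.push_sections_isZero i G U hU).of_iso
      (((sheafToPresheaf _ _).mapIso e).app (op U)).symm
  · intro h
    have := EtStalk.isIso_unit_of_sections i F h
    exact ⟨(EtCoh.pull i).obj F, ⟨(asIso ((EtCoh.pullPushAdj i).unit.app F)).symm⟩⟩

end Groth.Agent.S0068
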