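import Groth.Statements.S0070
import Groth.Agent.Lib.EtStalk.Push

set_option autoImplicit false
open CategoryTheory CategoryTheory.Limits AlgebraicGeometry Opposite
universe u
open EtBase

namespace Groth.Agent.S0070

/-- Let i : Z → X be a closed immersion of schemes, G an abelian sheaf on the small étale site of Z, and
ζ : Spec Ω → Z a geometric point of Z (Ω separably closed). Then the stalk of the direct image i_*G
at the geometric point i ∘ ζ of X is isomorphic to the stalk of G at ζ. Only the existence of an
isomorphism is asserted; the published statement identifies the two stalks via the canonical map.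
(Continuity of the relevant functor of étale sites along i is carried as an instance binder.) -/
theorem result {Z X : Scheme.{u}} (i : Z ⟶ X) [IsClosedImmersion i] [EtCoh.BCCont i]
    (G : EtCoh.Ab Z) {Ω : Type u} [Field Ω] [IsSepClosed Ω] (ζ : Spec (CommRingCat.of Ω) ⟶ Z) :
    Nonempty ((EtCoh.stalk (ζ ≫ i)).obj ((EtCoh.push i).obj G) ≅ (EtCoh.stalk ζ).obj G) := by
  exact ⟨asIso (EtStalk.pushStalk i ζ G)⟩

end Groth.Agent.S0070
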