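import Groth.Statements.S0072
import Groth.Agent.Lib.EtStalk.FiniteStalk

set_option autoImplicit false
open CategoryTheory CategoryTheory.Limits AlgebraicGeometry Opposite
universe u
open EtBase

namespace Groth.Agent.S0072

/-- Let f : X → Y be a finite morphism of schemes, F an abelian sheaf on X_ét, and η : Spec Ω → Y a
geometric point with Ω algebraically closed. Then the stalk (f_*F)_η is isomorphic to the direct sum
of the stalks F_ξ over the geometric points ξ : Spec Ω → X lying over η (those with f ∘ ξ = η). Only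
the existence of an isomorphism is asserted; the published statement gives a canonical
identification. -/
theorem result {X Y : Scheme.{u}} (f : X ⟶ Y) [IsFinite f] [EtCoh.BCCont f]
    (F : EtCoh.Ab X) {Ω : Type u} [Field Ω] [IsAlgClosed Ω] (η : Spec (CommRingCat.of Ω) ⟶ Y) :
    Nonempty ((EtCoh.stalk η).obj ((EtCoh.push f).obj F) ≅
      ∐ fun ξ : {ξ : Spec (CommRingCat.of Ω) ⟶ X // ξ ≫ f = η} => (EtCoh.stalk ξ.1).obj F) := by
  classical
  have : Finite (Groth.Agent.EtStalk.fLifts f η) := Groth.Agent.FiniteSplit.finite_liftsOfFinite f η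
  have := Fintype.ofFinite (Groth.Agent.EtStalk.fLifts f η)
  let G := fun ξ : Groth.Agent.EtStalk.fLifts f η => (EtCoh.stalk ξ.1).obj F
  let φ : (EtCoh.stalk η).obj ((EtCoh.push f).obj F) ⟶ ⨁ G :=
    biproduct.lift fun ξ => Groth.Agent.EtStalk.liftStalk f η ξ F
  have hπ : ∀ p ξ, biproduct.π G ξ (φ p) = Groth.Agent.EtStalk.liftStalk f η ξ F p := fun p ξ =>
    (ConcreteCategory.comp_apply _ _ _).symm.trans
      (ConcreteCategory.congr_hom (biproduct.lift_π _ ξ) p)
  have hext : ∀ a b : (⨁ G : AddCommGrpCat.{u + 1}),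
      (∀ ξ, biproduct.π G ξ a = biproduct.π G ξ b) → a = b := by
    intro a b h
    refine (AddCommGrpCat.uliftZMultiplesAddEquiv _).symm.injective (biproduct.hom_ext _ _ fun ξ => ?_)
    refine (AddCommGrpCat.uliftZMultiplesAddEquiv _).injective ?_
    change biproduct.π G ξ ((AddCommGrpCat.uliftZMultiplesAddEquiv _).symm a (ULift.up 1)) =
      biproduct.π G ξ ((AddCommGrpCat.uliftZMultiplesAddEquiv _).symm b (ULift.up 1))
    have e : ∀ c : (⨁ G : AddCommGrpCat.{u + 1}),
        (AddCommGrpCat.uliftZMultiplesAddEquiv _).symm c (ULift.up 1) = c := fun c =>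
      (AddCommGrpCat.uliftZMultiplesAddEquiv _).apply_symm_apply c
    rw [e, e]
    exact h ξ
  have : IsIso φ := (ConcreteCategory.isIso_iff_bijective _).2 ⟨fun p q h =>
    (Groth.Agent.EtStalk.bijective_liftStalk f η F).1 (funext fun ξ => by
      dsimp only
      rw [← hπ, ← hπ, h]), fun b => by
    obtain ⟨p, hp⟩ := (Groth.Agent.EtStalk.bijective_liftStalk f η F).2 fun ξ => biproduct.π G ξ b
    exact ⟨p, hext _ _ fun ξ => (hπ p ξ).trans (congrFun hp ξ)⟩⟩
  exact ⟨asIso φ ≪≫ biproduct.isoCoproduct G⟩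

end Groth.Agent.S0072
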