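import Groth.Statements.S0093
import Groth.Agent.Lib.Gabber24.Main
import Groth.Agent.Lib.EtPic3.Artinian
import Mathlib.RingTheory.IntegralClosure.IntegrallyClosed

set_option autoImplicit false
open CategoryTheory CategoryTheory.Limits AlgebraicGeometry Opposite
universe u
open EtBase

namespace Groth.Agent.S0093

/-- Part (1) — every affine scheme admits an integral surjective morphism from a scheme all of whose
closed subschemes have vanishing positive-degree étale cohomology with finite constant coefficients. -/
theorem result (X : Scheme.{u}) [IsAffine X] :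
    ∃ (X' : Scheme.{u}) (π : X' ⟶ X) (_ : IsIntegralHom π) (_ : Surjective π),
      ∀ (Z' : Scheme.{u}) (i : Z' ⟶ X') (_ : IsClosedImmersion i)
        (M : Type) (_ : AddCommGroup M) (_ : Finite M) (q : ℕ), 1 ≤ q →
        Subsingleton (EtCoh.H Z' (EtCoh.const Z' M) q) := by
  let A : Type u := Γ(X, ⊤)
  let P : Type u := MvPolynomial A ℤ
  let φ : P →+* A := (MvPolynomial.aeval (id : A → A)).toRingHom
  have hφ : Function.Surjective φ := fun a => ⟨MvPolynomial.X a, MvPolynomial.aeval_X _ _⟩
  let K : Type u := AlgebraicClosure (FractionRing P)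
  haveI : Algebra.IsAlgebraic P K := IsFractionRing.comap_isAlgebraic_iff (A := P) (K := FractionRing P) (C := K) |>.2 inferInstance
  let P' : Type u := integralClosure P K
  have hinj : Function.Injective (algebraMap P K) := by
    rw [IsScalarTower.algebraMap_eq P (FractionRing P) K]
    exact (algebraMap (FractionRing P) K).injective.comp (IsFractionRing.injective P (FractionRing P))
  haveI : IsFractionRing P' K := integralClosure.isFractionRing_of_algebraic fun x hx => by
    rwa [map_eq_zero_iff _ hinj] at hx
  haveI : IsIntegrallyClosed P' := (isIntegrallyClosed_iff K).2 fun {x} hx =>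
    ⟨⟨x, isIntegral_trans x hx⟩, rfl⟩
  let S := Spec (CommRingCat.of P)
  let T := Spec (CommRingCat.of P')
  let j : X ⟶ S := X.isoSpec.hom ≫ Spec.map (CommRingCat.ofHom φ)
  haveI : IsClosedImmersion (Spec.map (CommRingCat.ofHom φ)) := IsClosedImmersion.spec_of_surjective _ hφ
  haveI : IsClosedImmersion j := inferInstanceAs (IsClosedImmersion (_ ≫ _))
  let t : T ⟶ S := Spec.map (CommRingCat.ofHom (algebraMap P P'))
  haveI : Algebra.IsIntegral P P' := inferInstance
  haveI : IsIntegralHom t := IsIntegralHom.SpecMap_iff.2 (algebraMap_isIntegral_iff.2 inferInstance)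
  haveI : Surjective t := ⟨(algebraMap_isIntegral_iff.2 (inferInstanceAs (Algebra.IsIntegral P P'))).comap_surjective fun a b h => hinj (congrArg Subtype.val h)⟩
  refine ⟨pullback j t, pullback.fst j t, inferInstance, inferInstance, fun Z i hi M _ _ q hq => ?_⟩
  haveI := hi
  haveI : IsIntegral T := inferInstanceAs (IsIntegral (Spec (CommRingCat.of P')))
  have hN : ∀ x : T, IsIntegrallyClosed (T.presheaf.stalk x) := fun x => by
    let p : PrimeSpectrum P' := x
    letI : Algebra P' (T.presheaf.stalk x) := StructureSheaf.stalkAlgebra P' p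
    haveI : IsLocalization p.asIdeal.primeCompl (T.presheaf.stalk x) := StructureSheaf.IsLocalization.to_stalk P' p
    exact isIntegrallyClosed_of_isLocalization (R := P') _ p.asIdeal.primeCompl
      (Ideal.primeCompl_le_nonZeroDivisors _)
  haveI : IsSepClosed T.functionField := by
    haveI : IsDomain (CommRingCat.of P') := inferInstanceAs (IsDomain P')
    letI : Algebra P' T.functionField := instAlgebraCarrierFunctionFieldSpec (CommRingCat.of P')
    haveI : IsFractionRing P' T.functionField := functionField_isFractionRing_of_affine (CommRingCat.of P')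
    exact Groth.Agent.EtPic3.isSepClosed_of_ringEquiv (IsLocalization.algEquiv (nonZeroDivisors P') K T.functionField).toRingEquiv
  obtain ⟨k, rfl⟩ : ∃ k, q = k + 1 := ⟨q - 1, by omega⟩
  exact Groth.Agent.Gabber24.subsingleton_H hN M k (i ≫ pullback.snd j t)

end Groth.Agent.S0093
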