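import Groth.Statements.S0629
import Groth.Agent.Lib.EtStalk.Agree
import Mathlib.AlgebraicGeometry.Morphisms.UnderlyingMap

set_option autoImplicit false
open CategoryTheory CategoryTheory.Limits AlgebraicGeometry Opposite
universe u
open EtCore

namespace Groth.Agent.S0629

open Groth.Agent.EtStalk

variable {X S : Scheme.{u}} (f : X ⟶ S) (F : EtCoh.Ab S)

/-- The morphism to the final object. -/
noncomputable abbrev toTop (U : S.Etale) : U ⟶ EtCoh.top S :=
  MorphismProperty.Over.homMk U.hom (Category.comp_id _)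

/-- The unit on sections. -/
noncomputable abbrev η (U : S.Etale) (t : F.obj.obj (op U)) :
    ((EtCoh.pull f).obj F).obj.obj (op ((EtCoh.bc f).obj U)) :=
  ((EtCoh.pullPushAdj f).unit.app F).hom.app (op U) t

lemma η_map {U V : S.Etale} (g : V ⟶ U) (t : F.obj.obj (op U)) :
    ((EtCoh.pull f).obj F).obj.map ((EtCoh.bc f).map g).op (η f F U t) =
      η f F V (F.obj.map g.op t) :=
  (NatTrans.naturality_apply ((EtCoh.pullPushAdj f).unit.app F).hom g.op t).symm

variable (s : ((EtCoh.pull f).obj F).obj.obj (op ((EtCoh.bc f).obj (EtCoh.top S))))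

/-- The restriction of a global section. -/
noncomputable abbrev rs (U : S.Etale) :
    ((EtCoh.pull f).obj F).obj.obj (op ((EtCoh.bc f).obj U)) :=
  ((EtCoh.pull f).obj F).obj.map ((EtCoh.bc f).map (toTop U)).op s

lemma rs_map {U V : S.Etale} (g : V ⟶ U) :
    ((EtCoh.pull f).obj F).obj.map ((EtCoh.bc f).map g).op (rs f F s U) = rs f F s V := by
  refine (ConcreteCategory.comp_apply _ _ _).symm.trans ?_
  rw [← Functor.map_comp, ← op_comp, ← Functor.map_comp]
  have : g ≫ toTop U = toTop V := MorphismProperty.Over.Hom.ext (MorphismProperty.Over.w g)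
  rw [this]

/-- The locus where the section is locally the pullback of `t`. -/
abbrev locus (U : S.Etale) (t : F.obj.obj (op U)) : Set ((EtCoh.bc f).obj U).left :=
  agree ((EtCoh.pull f).obj F) (rs f F s U) (η f F U t)

lemma mem_locus_map {U V : S.Etale} (g : V ⟶ U) (t : F.obj.obj (op U))
    (z : ((EtCoh.bc f).obj V).left) :
    z ∈ locus f F s V (F.obj.map g.op t) ↔ ((EtCoh.bc f).map g).left z ∈ locus f F s U t := by
  rw [← mem_agree_map, η_map, rs_map]

set_option backward.isDefEq.respectTransparency.types false in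
lemma locus_saturated
    (hc : ∀ (Ω : Type u) [Field Ω] [IsAlgClosed Ω] (s : Spec (CommRingCat.of Ω) ⟶ S),
      ConnectedSpace ↥(pullback f s))
    {U : S.Etale} (t : F.obj.obj (op U)) {z₁ z₂ : ((EtCoh.bc f).obj U).left}
    (h : bcFst f U z₁ = bcFst f U z₂) (h₁ : z₁ ∈ locus f F s U t) : z₂ ∈ locus f F s U t := by
  let Ω := AlgebraicClosure (U.left.residueField (bcFst f U z₁))
  let ū : Spec (CommRingCat.of Ω) ⟶ U.left :=
    Spec.map (CommRingCat.ofHom (algebraMap (U.left.residueField (bcFst f U z₁)) Ω)) ≫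
      U.left.fromSpecResidueField _
  have hū : ū default = bcFst f U z₁ := by
    simp only [ū, Scheme.Hom.comp_apply]
    exact Scheme.fromSpecResidueField_apply _ _
  let sb : Spec (CommRingCat.of Ω) ⟶ S := ū ≫ U.hom
  have hconn := hc Ω sb
  let P := pullback f sb
  let q : P ⟶ ((EtCoh.bc f).obj U).left :=
    pullback.lift (pullback.snd f sb ≫ ū) (pullback.fst f sb)
      ((Category.assoc _ _ _).trans pullback.condition.symm)
  have hsurj : ∀ z, bcFst f U z = bcFst f U z₁ → ∃ p, q p = z := by
    intro z hz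
    obtain ⟨w, hw1, -⟩ := Scheme.Pullback.exists_preimage_pullback (f := bcFst f U) (g := ū) z
      default (hz.trans hū.symm)
    let ψ : pullback (bcFst f U) ū ⟶ P :=
      pullback.lift (pullback.fst (bcFst f U) ū ≫ pullback.snd U.hom f) (pullback.snd (bcFst f U) ū)
        ((Category.assoc _ _ _).trans ((congrArg (pullback.fst (bcFst f U) ū ≫ ·)
          pullback.condition.symm).trans ((Category.assoc _ _ _).symm.trans
            ((congrArg (· ≫ U.hom) pullback.condition).trans (Category.assoc _ _ _)))))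
    have hψ : ψ ≫ q = pullback.fst (bcFst f U) ū := by
      refine pullback.hom_ext ?_ ?_
      · exact (Category.assoc _ _ _).trans ((congrArg (ψ ≫ ·) (pullback.lift_fst _ _ _)).trans
          ((Category.assoc _ _ _).symm.trans ((congrArg (· ≫ ū) (pullback.lift_snd _ _ _)).trans
            pullback.condition.symm)))
      · exact (Category.assoc _ _ _).trans ((congrArg (ψ ≫ ·) (pullback.lift_snd _ _ _)).trans
          (pullback.lift_fst _ _ _))
    exact ⟨ψ w, (Scheme.Hom.comp_apply _ _ _).symm.trans
      ((congrArg (fun r : pullback (bcFst f U) ū ⟶ _ => r w) hψ).trans hw1)⟩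
  suffices hA : q ⁻¹' locus f F s U t = Set.univ by
    obtain ⟨p, rfl⟩ := hsurj z₂ h.symm
    exact Set.eq_univ_iff_forall.1 hA p
  obtain ⟨p₀, hp₀⟩ := hsurj z₁ rfl
  refine IsClopen.eq_univ ⟨⟨?_⟩, (isOpen_agree _ _ _).preimage q.continuous⟩ ⟨p₀, Set.mem_preimage.2 (hp₀.symm ▸ h₁)⟩
  refine isOpen_iff_forall_mem_open.2 fun p hp => ?_
  -- a local description of the section near `p`
  let ξp := geomPt P p
  let h' := ξp ≫ pullback.snd f sb
  let ξ := ξp ≫ pullback.fst f sb
  let φ0 : fib ξ ((EtCoh.bc f).obj (EtCoh.top S)) :=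
    liftFib f ξ (Over.homMk (ξ ≫ f) (Category.comp_id _))
  obtain ⟨σ, hσ⟩ := (ConcreteCategory.bijective_of_isIso (stalkPull f ξ F)).2
    (germ ξ ((EtCoh.pull f).obj F) φ0 s)
  obtain ⟨V, y', t', rfl⟩ := germ_surjective _ F σ
  rw [germ_stalkPull] at hσ
  have hfix : (Scheme.pointSmallEtale ξ).fiber.map ((EtCoh.bc f).map (toTop V)) (liftFib f ξ y') =
      φ0 := by
    refine (Scheme.pointSmallEtale ξ).fiber.map_comp_apply (𝟙 _) _ _ ▸ ?_
    refine Over.OverMorphism.ext (pullback.hom_ext ?_ ?_)
    · have h1 : ∀ r : fib ξ ((EtCoh.bc f).obj (EtCoh.top S)),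
          r.left ≫ pullback.fst (EtCoh.top S).hom f = ξ ≫ f := fun r => by
        have hr : r.left ≫ pullback.snd (EtCoh.top S).hom f = ξ := Over.w r
        have hid : pullback.fst (EtCoh.top S).hom f = pullback.snd (EtCoh.top S).hom f ≫ f :=
          (Category.comp_id _).symm.trans pullback.condition
        exact (congrArg (r.left ≫ ·) hid).trans ((Category.assoc _ _ _).symm.trans
          (congrArg (· ≫ f) hr))
      exact (h1 _).trans (h1 φ0).symm
    · exact (Over.w _).trans (Over.w φ0).symm
  have hp' : fibPt (liftFib f ξ y') ∈ locus f F s V t' := by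
    refine (mem_agree_iff_germ _ _ _ _).2 ?_
    rw [germ_map, hfix]
    exact hσ.symm
  -- descend the point to the geometric point `sb`
  let y'l : Spec (CommRingCat.of (SeparableClosure (P.residueField p))) ⟶ V.left := y'.left
  have hy' : y'l ≫ V.hom = ξ ≫ f := Over.w y'
  let m : Spec (CommRingCat.of (SeparableClosure (P.residueField p))) ⟶ pullback V.hom sb :=
    pullback.lift y'l h' (hy'.trans (by
      dsimp [ξ, h']; rw [Category.assoc, Category.assoc, pullback.condition]))
  have hVet : AlgebraicGeometry.Etale V.hom := V.prop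
  obtain ⟨e', he'⟩ := Scheme.pointSmallEtaleFiberObjToPreimage_surjective
    (𝟙 (Spec (CommRingCat.of Ω))) (s₀ := default) rfl
    (Scheme.Etale.mk (pullback.snd V.hom sb)) ⟨m default, Subsingleton.elim (α := Spec (CommRingCat.of Ω)) _ _⟩
  let e : Spec (CommRingCat.of Ω) ⟶ pullback V.hom sb := e'.left
  have he : e ≫ pullback.snd V.hom sb = 𝟙 _ := Over.w e'
  have hept : e default = m default := congrArg Subtype.val he'
  have : AlgebraicGeometry.Etale (e ≫ pullback.snd V.hom sb) := by rw [he]; infer_instance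
  have : AlgebraicGeometry.Etale e := Etale.of_comp e (pullback.snd V.hom sb)
  have : IsSplitMono e := ⟨⟨⟨pullback.snd V.hom sb, he⟩⟩⟩
  have : IsOpenImmersion e := IsOpenImmersion.of_flat_of_mono e
  have hr : Set.range m ⊆ Set.range e := by
    rintro _ ⟨a, rfl⟩
    exact ⟨default, hept.trans (congrArg m (Subsingleton.elim default a))⟩
  have hm : m = h' ≫ e := by
    have hl : IsOpenImmersion.lift e m hr = h' := by
      have := congrArg (· ≫ pullback.snd V.hom sb) (IsOpenImmersion.lift_fac e m hr)
      simp only [Category.assoc, he, Category.comp_id] at this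
      exact this.trans (pullback.lift_snd _ _ _)
    rw [← hl, IsOpenImmersion.lift_fac]
  let y : Spec (CommRingCat.of Ω) ⟶ V.left := e ≫ pullback.fst V.hom sb
  have hy : y ≫ V.hom = sb := by
    dsimp only [y]
    rw [Category.assoc, pullback.condition, reassoc_of% he]
  have hyy : h' ≫ y = y'l := by
    dsimp only [y]
    rw [← Category.assoc, ← hm]
    exact pullback.lift_fst _ _ _
  -- a common refinement
  have hUet : AlgebraicGeometry.Etale U.hom := U.prop
  let U' : S.Etale := Scheme.Etale.mk (pullback.fst U.hom V.hom ≫ U.hom)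
  let a : U' ⟶ U := MorphismProperty.Over.homMk (pullback.fst U.hom V.hom) rfl
  let b : U' ⟶ V := MorphismProperty.Over.homMk (pullback.snd U.hom V.hom) pullback.condition.symm
  let ū' : Spec (CommRingCat.of Ω) ⟶ U'.left := pullback.lift ū y hy.symm
  let q' : P ⟶ ((EtCoh.bc f).obj U').left :=
    pullback.lift (pullback.snd f sb ≫ ū') (pullback.fst f sb)
      ((Category.assoc _ _ _).trans ((congrArg (pullback.snd f sb ≫ ·)
        ((Category.assoc _ _ _).symm.trans
          (congrArg (· ≫ U.hom) (pullback.lift_fst _ _ _)))).trans pullback.condition.symm))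
  have hqa : q' ≫ ((EtCoh.bc f).map a).left = q := by
    refine pullback.hom_ext ?_ ?_
    · refine (Category.assoc _ _ _).trans ?_
      refine (congrArg (q' ≫ ·) (bcFst_nat f a)).trans ?_
      refine (Category.assoc _ _ _).symm.trans ?_
      refine (congrArg (· ≫ a.left) (pullback.lift_fst _ _ _)).trans ?_
      refine (Category.assoc _ _ _).trans (Eq.trans ?_ (pullback.lift_fst _ _ _).symm)
      exact congrArg (pullback.snd f sb ≫ ·) (pullback.lift_fst _ _ _)
    · refine (Category.assoc _ _ _).trans ?_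
      refine (congrArg (q' ≫ ·) (MorphismProperty.Over.w ((EtCoh.bc f).map a))).trans ?_
      exact (pullback.lift_snd _ _ _).trans (pullback.lift_snd _ _ _).symm
  have hqb : ξp ≫ q' ≫ ((EtCoh.bc f).map b).left = (liftFib f ξ y').left := by
    refine pullback.hom_ext ?_ ?_
    · refine (Category.assoc _ _ _).trans ((congrArg (ξp ≫ ·) (Category.assoc _ _ _)).trans ?_)
      refine (congrArg (fun r => ξp ≫ q' ≫ r) (bcFst_nat f b)).trans ?_
      refine (congrArg (ξp ≫ ·) ((Category.assoc _ _ _).symm.trans
        (congrArg (· ≫ b.left) (pullback.lift_fst _ _ _)))).trans ?_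
      refine (congrArg (ξp ≫ ·) ((Category.assoc _ _ _).trans
        (congrArg (pullback.snd f sb ≫ ·) (pullback.lift_snd _ _ _)))).trans ?_
      exact ((Category.assoc _ _ _).symm.trans hyy).trans (pullback.lift_fst _ _ _).symm
    · refine (Category.assoc _ _ _).trans ((congrArg (ξp ≫ ·) (Category.assoc _ _ _)).trans ?_)
      refine (congrArg (fun r => ξp ≫ q' ≫ r)
        (MorphismProperty.Over.w ((EtCoh.bc f).map b))).trans ?_
      exact (congrArg (ξp ≫ ·) (pullback.lift_snd _ _ _)).trans (pullback.lift_snd _ _ _).symm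
  have hap : ∀ p₁, ((EtCoh.bc f).map a).left (q' p₁) = q p₁ := fun p₁ =>
    (Scheme.Hom.comp_apply _ _ _).symm.trans
      (congrArg (fun r : P ⟶ ((EtCoh.bc f).obj U).left => r p₁) hqa)
  have hbp : ((EtCoh.bc f).map b).left (q' p) = fibPt (liftFib f ξ y') := by
    refine Eq.trans ?_ (congrArg (fun r : Spec (CommRingCat.of (SeparableClosure (P.residueField p))) ⟶ ((EtCoh.bc f).obj V).left => r (default : Spec (CommRingCat.of (SeparableClosure (P.residueField p))))) hqb)
    simp only [Scheme.Hom.comp_apply]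
    rw [geomPt_default]
  refine ⟨q' ⁻¹' locus f F s U' (F.obj.map b.op t'), fun p₁ hp₁ hp₁' => hp ?_,
    (isOpen_agree _ _ _).preimage q'.continuous, (mem_locus_map f F s b t' _).2 (hbp.symm ▸ hp')⟩
  have ha₁ : q' p₁ ∈ locus f F s U' (F.obj.map a.op t) := by
    rw [mem_locus_map, hap]; exact hp₁'
  have hag := (mem_agree_unit f F _ _ _).1 (agree_trans _ (agree_symm _ ha₁) hp₁)
  have hpt : bcFst f U' (q' p₁) = bcFst f U' (q' p) := by
    have hz : ∀ p₂, bcFst f U' (q' p₂) = ū' default := fun p₂ => by
      refine (Scheme.Hom.comp_apply _ _ _).symm.trans ?_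
      refine (congrArg (fun r : P ⟶ U'.left => r p₂) (pullback.lift_fst _ _ _)).trans ?_
      exact (Scheme.Hom.comp_apply _ _ _).trans (congrArg ū' (Subsingleton.elim _ _))
    rw [hz, hz]
  replace hag : bcFst f U' (q' p) ∈ agree F (F.obj.map a.op t) (F.obj.map b.op t') :=
    Eq.mp (congrArg (fun r => r ∈ agree F (F.obj.map a.op t) (F.obj.map b.op t')) hpt) hag
  have : q' p ∈ locus f F s U' (F.obj.map a.op t) :=
    agree_trans _ ((mem_locus_map f F s b t' _).2 (hbp.symm ▸ hp'))
      (agree_symm _ ((mem_agree_unit f F _ _ _).2 hag))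
  rw [mem_locus_map, hap] at this
  exact this

set_option backward.isDefEq.respectTransparency.types false in
lemma isQuotientMap_bcFst
    (hsub : ∀ (S' : Scheme.{u}) (g : S' ⟶ S), Topology.IsQuotientMap (pullback.snd f g).base)
    (U : S.Etale) : Topology.IsQuotientMap (bcFst f U) := by
  have h := (hsub U.left U.hom).comp
    (Scheme.Hom.homeomorph (pullbackSymmetry U.hom f).hom).isQuotientMap
  have e : bcFst f U = (pullbackSymmetry U.hom f).hom ≫ pullback.snd f U.hom :=
    (pullbackSymmetry_hom_comp_snd _ _).symm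
  have he : ⇑(bcFst f U) = ⇑(pullback.snd f U.hom) ∘ ⇑(pullbackSymmetry U.hom f).hom := by
    funext x
    rw [e]
    exact Scheme.Hom.comp_apply _ _ _
  rw [he]
  exact h


/-- Let f : X → S be a universally submersive morphism of schemes (every base change of f is a quotient
map of topological spaces) whose geometric fibres are connected. Then for every abelian sheaf F on
the small étale site of S the canonical map from the global sections of F to the global sections of
the pullback of F to X (the adjunction unit evaluated on S) is bijective. The published statement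
assumes f only submersive; the claim fails for a merely submersive f, so universal submersiveness is
assumed here. -/
theorem result {X S : Scheme.{u}} (f : X ⟶ S)
    (hsub : ∀ (S' : Scheme.{u}) (g : S' ⟶ S), Topology.IsQuotientMap (pullback.snd f g).base)
    (hc : ∀ (Ω : Type u) [Field Ω] [IsAlgClosed Ω] (s : Spec (CommRingCat.of Ω) ⟶ S), ConnectedSpace ↥(pullback f s))
    (F : EtCoh.Ab S) :
    Function.Bijective (((EtCoh.pullPushAdj f).unit.app F).hom.app (op (EtCoh.top S))) := by
  have hq := isQuotientMap_bcFst f hsub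
  have hinj : ∀ U : S.Etale, Function.Injective (η f F U) := fun U t₁ t₂ h => by
    refine eq_of_agree F fun u => ?_
    obtain ⟨z, rfl⟩ := (hq U).surjective u
    refine (mem_agree_unit f F t₁ t₂ z).1 ?_
    change z ∈ agree _ (η f F U t₁) (η f F U t₂)
    rw [h]
    exact agree_self _ _ z
  refine ⟨hinj (EtCoh.top S), fun s => ?_⟩
  let R : Sieve (EtCoh.top S) :=
    { arrows := fun W _ => ∃ t, η f F W t = rs f F s W
      downward_closed := fun {W W'} _ ⟨t, ht⟩ g => ⟨F.obj.map g.op t, by
        rw [← η_map, ht, rs_map]⟩ }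
  have hR : R ∈ S.smallEtaleTopology (EtCoh.top S) := by
    rw [EtSite.mem_et_iff]
    intro x
    obtain ⟨z0, hz0⟩ := (hq (EtCoh.top S)).surjective x
    obtain ⟨φ, hφ⟩ := exists_fib ((EtCoh.bc f).obj (EtCoh.top S)) z0
    let ξ := geomPt X (((EtCoh.bc f).obj (EtCoh.top S)).hom z0)
    obtain ⟨σ, hσ⟩ := (ConcreteCategory.bijective_of_isIso (stalkPull f ξ F)).2
      (germ ξ ((EtCoh.pull f).obj F) φ s)
    obtain ⟨U, y, t, rfl⟩ := germ_surjective _ F σ
    rw [germ_stalkPull] at hσ
    have hfix : (Scheme.pointSmallEtale ξ).fiber.map ((EtCoh.bc f).map (toTop U)) (liftFib f ξ y) =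
        φ := by
      have key : ∀ r₁ r₂ : fib ξ ((EtCoh.bc f).obj (EtCoh.top S)), r₁ = r₂ := fun r₁ r₂ => by
        have hid : pullback.fst (EtCoh.top S).hom f = pullback.snd (EtCoh.top S).hom f ≫ f :=
          (Category.comp_id _).symm.trans pullback.condition
        refine Over.OverMorphism.ext (pullback.hom_ext ?_ ((Over.w r₁).trans (Over.w r₂).symm))
        exact (congrArg (r₁.left ≫ ·) hid).trans ((Category.assoc _ _ _).symm.trans
          ((congrArg (· ≫ f) ((Over.w r₁).trans (Over.w r₂).symm)).trans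
            ((Category.assoc _ _ _).trans (congrArg (r₂.left ≫ ·) hid.symm))))
      exact key _ _
    have hz : fibPt (liftFib f ξ y) ∈ locus f F s U t := by
      refine (mem_agree_iff_germ _ _ _ _).2 ?_
      rw [germ_map, hfix]
      exact hσ.symm
    -- the open subset over which the section comes from `t`
    let O : U.left.Opens := ⟨{u | bcFst f U ⁻¹' {u} ⊆ locus f F s U t}, by
      rw [← (hq U).isOpen_preimage]
      convert isOpen_agree ((EtCoh.pull f).obj F) (rs f F s U) (η f F U t) using 1
      exact Set.ext fun z => ⟨fun hz => hz rfl, fun hz z' hz' =>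
        locus_saturated f F s hc t (Eq.symm hz') hz⟩⟩
    have hUet : AlgebraicGeometry.Etale U.hom := U.prop
    let W : S.Etale := Scheme.Etale.mk (O.ι ≫ U.hom)
    let g : W ⟶ U := MorphismProperty.Over.homMk O.ι rfl
    have hmem : bcFst f U (fibPt (liftFib f ξ y)) ∈ O :=
      fun z' hz' => locus_saturated f F s hc t (Eq.symm hz') hz
    refine ⟨W, toTop W, ⟨bcFst f U (fibPt (liftFib f ξ y)), hmem⟩, ⟨F.obj.map g.op t, ?_⟩, ?_⟩
    · refine Eq.symm (eq_of_agree _ fun w => ?_)
      refine (mem_locus_map f F s g t w).2 ?_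
      have hg : bcFst f U (((EtCoh.bc f).map g).left w) = g.left (bcFst f W w) :=
        (Scheme.Hom.comp_apply _ _ _).symm.trans
          ((congrArg (fun r : _ ⟶ U.left => r w) (bcFst_nat f g)).trans (Scheme.Hom.comp_apply _ _ _))
      exact (bcFst f W w : O).2 hg
    · have hzz : bcFst f (EtCoh.top S) (((EtCoh.bc f).map (toTop U)).left (fibPt (liftFib f ξ y))) =
          U.hom (bcFst f U (fibPt (liftFib f ξ y))) :=
        (Scheme.Hom.comp_apply _ _ _).symm.trans
          ((congrArg (fun r : _ ⟶ (EtCoh.top S).left => r (fibPt (liftFib f ξ y)))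
            (bcFst_nat f (toTop U))).trans (Scheme.Hom.comp_apply _ _ _))
      have hh : ((EtCoh.bc f).map (toTop U)).left (fibPt (liftFib f ξ y)) = z0 :=
        Eq.trans (congrArg (fun r : fib ξ ((EtCoh.bc f).obj (EtCoh.top S)) => fibPt r) hfix) hφ
      rw [hh, hz0] at hzz
      exact (Scheme.Hom.comp_apply _ _ _).trans hzz.symm
  have hsh := ((isSheaf_iff_isSheaf_of_type _ _).1
    ((Presheaf.isSheaf_iff_isSheaf_forget _ F.obj (forget _)).1 F.property)) R hR
  let x : Presieve.FamilyOfElements (F.obj ⋙ forget _) R.arrows := fun W g hg => hg.choose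
  have hxc : x.Compatible := by
    intro Y₁ Y₂ W g₁ g₂ a₁ a₂ h₁ h₂ _
    refine hinj W ?_
    change η f F W (F.obj.map g₁.op h₁.choose) = η f F W (F.obj.map g₂.op h₂.choose)
    rw [← η_map, h₁.choose_spec, rs_map, ← η_map, h₂.choose_spec, rs_map]
  obtain ⟨t, ht, -⟩ := hsh x hxc
  refine ⟨t, ?_⟩
  change η f F (EtCoh.top S) t = s
  refine eq_of_agree _ fun z => ?_
  obtain ⟨W, g, w, hg, hw⟩ := (EtSite.mem_et_iff _ _).1 hR (bcFst f _ z)
  obtain ⟨z', hz', -⟩ := Scheme.Pullback.exists_preimage_pullback
    (f := bcFst f (EtCoh.top S)) (g := g.left) z w hw.symm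
  have sq := EtCoh.isPullback_bc_map f g
  have hzb : ((EtCoh.bc f).map g).left (sq.isoPullback.inv z') = z :=
    ((Scheme.Hom.comp_apply _ _ _).symm.trans
      (congrArg (fun r : _ ⟶ ((EtCoh.bc f).obj (EtCoh.top S)).left => r z')
        sq.isoPullback_inv_fst)).trans hz'
  rw [← hzb, ← mem_agree_map, η_map]
  have h1 : F.obj.map g.op t = hg.choose := ht g hg
  have h2 : g = toTop W := MorphismProperty.Over.Hom.ext
    ((Category.comp_id _).symm.trans (MorphismProperty.Over.w g))
  rw [h1, hg.choose_spec]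
  subst h2
  exact agree_self _ _ _

end Groth.Agent.S0629
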