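import Groth.Statements.S0098
import Groth.Agent.Lib.EtFin.OnePoint
import Mathlib.AlgebraicGeometry.Morphisms.FlatMono

set_option autoImplicit false
open CategoryTheory CategoryTheory.Limits AlgebraicGeometry Opposite
universe u
open EtBase

namespace Groth.Agent.S0098

/-- A finite étale morphism whose fibre over a point s is a single point with the same residue field is
an isomorphism over an open neighbourhood of s. -/
theorem result {X S : Scheme.{u}} (f : X ⟶ S) [IsFinite f] [AlgebraicGeometry.Etale f] (s : S) (x : X)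
    (hx : f.base ⁻¹' {s} = {x}) (hκ : Function.Surjective (f.residueFieldMap x)) :
    ∃ U : S.Opens, s ∈ U ∧ IsIso (f ∣_ U) := by
  obtain ⟨U, hs, hU⟩ := EtFin.exists_nhd_mono f s x hx hκ
  let W : S.Opens := ⟨(U : Set S) ∩ Set.range f, U.isOpen.inter f.isOpenMap.isOpen_range⟩
  have hWU : W ≤ U := fun y hy => hy.1
  have hfx : f x = s := by
    have : x ∈ f.base ⁻¹' {s} := by rw [hx]; rfl
    exact this
  have hW : Mono (f ∣_ W) := by
    constructor
    intro Z a b hab
    rw [← cancel_mono (X.homOfLE (f.preimage_mono hWU)), ← cancel_mono (f ∣_ U)]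
    rw [← cancel_mono U.ι]
    simp only [Category.assoc, morphismRestrict_ι, Scheme.homOfLE_ι_assoc]
    rw [← morphismRestrict_ι, reassoc_of% hab]
  haveI : Flat (f ∣_ W) := IsZariskiLocalAtTarget.restrict (inferInstance : Flat f) W
  haveI : IsFinite (f ∣_ W) := IsZariskiLocalAtTarget.restrict ‹IsFinite f› W
  haveI : Surjective (f ∣_ W) := ⟨fun ⟨y, hy⟩ => by
    obtain ⟨t, rfl⟩ := hy.2
    exact ⟨⟨t, hy⟩, Subtype.ext (morphismRestrict_base_coe _ _ _)⟩⟩
  exact ⟨W, ⟨hs, x, hfx⟩, Flat.isIso_of_surjective_of_mono _⟩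

end Groth.Agent.S0098
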