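import Groth.Statements.S0111
import Groth.Agent.Lib.Misc24.EtaleLocalRing

set_option autoImplicit false
open CategoryTheory CategoryTheory.Limits AlgebraicGeometry Opposite
universe u
open EtBase

namespace Groth.Agent.S0111

/-- Let X be a scheme and ξ : Spec Ω → X a geometric point, Ω a separably closed field. Then the étale
local ring of X at ξ (the stalk of the structure sheaf on the small étale site of X at ξ) is a
strictly henselian local ring. The published statement is stronger: it identifies this ring with the
strict henselization of the Zariski local ring at the underlying point of ξ; only the consequence
that it is strictly henselian is asserted here. -/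
theorem result {X : Scheme.{u}} {Ω : Type u} [Field Ω] [IsSepClosed Ω]
    (ξ : Spec (CommRingCat.of Ω) ⟶ X) : EtCoh.IsStrictlyHenselianLocalRing (EtBase.etaleLocalRing ξ) := by
  exact Groth.Agent.Misc24.isStrictlyHenselian_etaleLocalRing ξ

end Groth.Agent.S0111
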