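import Groth.Statements.S0116
import Mathlib.AlgebraicGeometry.Morphisms.FlatDescent
import Mathlib.AlgebraicGeometry.Morphisms.UniversallyOpen

set_option autoImplicit false
open CategoryTheory CategoryTheory.Limits AlgebraicGeometry Opposite
universe u
open EtBase

namespace Groth.Agent.S0116

/-- If f : X → Y is surjective, flat and locally of finite presentation and X is locally Noetherian,
then Y is locally Noetherian. (This is the descent half of the statement that, for such f, X is
locally Noetherian if and only if Y is; the ascent half is the fact that a scheme locally of finite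
type over a locally Noetherian scheme is locally Noetherian, and is not stated here.) -/
theorem result {X Y : Scheme.{u}} (f : X ⟶ Y) [Surjective f] [Flat f] [LocallyOfFinitePresentation f]
    [IsLocallyNoetherian X] : IsLocallyNoetherian Y := by
  refine ⟨fun U => ?_⟩
  have : IsAffine U.1.toScheme := U.2
  have : Surjective (f ∣_ U.1) := IsZariskiLocalAtTarget.restrict ‹Surjective f› _
  obtain ⟨V, hV, e⟩ : ∃ V : (f ⁻¹ᵁ U.1).toScheme.Opens,
      IsCompact (V : Set (f ⁻¹ᵁ U.1).toScheme) ∧ (f ∣_ U.1) '' V = Set.univ :=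
    (f ∣_ U.1).isOpenMap.exists_opens_image_eq_of_prespectralSpace (f ∣_ U.1).continuous
      (by simpa using (f ∣_ U.1).surjective.range_eq) isOpen_univ isCompact_univ

  have : CompactSpace V.toScheme := isCompact_iff_compactSpace.mp hV
  obtain ⟨W, p, hp, hp', _⟩ := V.toScheme.exists_hom_isAffine_of_isZariskiLocalAtSource @IsLocalIso
  have hpf : Flat p := IsLocalIso.le_of_isZariskiLocalAtSource @Flat _ _ _ hp'
  have hpt : LocallyOfFiniteType p := IsLocalIso.le_of_isZariskiLocalAtSource @LocallyOfFiniteType _ _ _ hp'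
  let g := (p ≫ V.ι) ≫ f ∣_ U.1
  have : Surjective g := ⟨fun y => by
    obtain ⟨x, hx, rfl⟩ := e.ge (Set.mem_univ y)
    obtain ⟨w, hw⟩ := p.surjective ⟨x, hx⟩
    refine ⟨w, ?_⟩
    simp only [g, Scheme.Hom.comp_apply, hw]
    rfl⟩
  have : Flat g := inferInstance
  have : IsLocallyNoetherian W :=
    LocallyOfFiniteType.isLocallyNoetherian ((p ≫ V.ι) ≫ (f ⁻¹ᵁ U.1).ι)
  have hn : IsNoetherianRing Γ(W, ⊤) :=
    IsLocallyNoetherian.component_noetherian ⟨⊤, isAffineOpen_top W⟩
  have hff := (Flat.flat_and_surjective_iff_faithfullyFlat_of_isAffine g).1 ⟨‹_›, ‹_›⟩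
  algebraize [g.appTop.hom]
  have : IsNoetherian Γ(U.1.toScheme, ⊤) Γ(U.1.toScheme, ⊤) :=
    Submodule.IsNoetherian.of_isNoetherian_tensorProduct_of_faithfullyFlat (A := Γ(W, ⊤))
      (isNoetherian_of_linearEquiv
        (TensorProduct.AlgebraTensorModule.rid Γ(U.1.toScheme, ⊤) Γ(W, ⊤) Γ(W, ⊤)).symm)
  exact isNoetherianRing_of_ringEquiv _ U.1.topIso.commRingCatIsoToRingEquiv

end Groth.Agent.S0116
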