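import Groth.Statements.S0121
import Groth.Agent.Lib.AffAnalog24.Main

set_option autoImplicit false
universe u
open CategoryTheory CategoryTheory.Limits AlgebraicGeometry Opposite
open EtPBC

namespace Groth.Agent.S0121

/-- For a henselian pair (A, I) (Mathlib's HenselianRing A I) with i the closed immersion of Spec (A/I),
and F a torsion abelian sheaf on Spec A, the map H^q(Spec A, F) -> H^q(Spec A, i_* i^* F) induced by
the unit F -> i_* i^* F is bijective for every q. The source states the target as H^q(Spec (A/I),
i^* F); the two agree because i_* is exact with vanishing higher direct images for a closed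
immersion, so this is the same comparison phrased on Spec A. -/
theorem result (A : Type u) [CommRing A] (I : Ideal A) [HenselianRing A I]
    [EtCoh.BCCont (Spec.map (CommRingCat.ofHom (Ideal.Quotient.mk I)))]
    (F : EtCoh.Ab (Spec (CommRingCat.of A))) (hF : EtCoh.IsTorsion F) (q : ℕ) :
    Function.Bijective
      (Sheaf.H.map ((EtCoh.pullPushAdj (Spec.map (CommRingCat.ofHom (Ideal.Quotient.mk I)))).unit.app F) q) := by
  exact AffAnalog24.bijective_of_henselian A I F hF q

end Groth.Agent.S0121
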