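import Groth.Statements.S0124
import Groth.Agent.Lib.EtColim.Torsion

set_option autoImplicit false
universe u
open CategoryTheory CategoryTheory.Limits AlgebraicGeometry Opposite
open EtPBC

namespace Groth.Agent.S0124

/-- Part (1): if X is quasi-compact and quasi-separated and F is a torsion abelian sheaf on X_et, then
H^n(X_et, F) is a torsion abelian group for every n. -/
theorem result (X : Scheme.{u}) [CompactSpace X] [QuasiSeparatedSpace X]
    (F : EtCoh.Ab X) (hF : EtCoh.IsTorsion F) (n : ℕ) :
    IsAddTorsion (EtCoh.H X F n) := by
  exact Groth.Agent.EtColim.isAddTorsion_H F hF n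

end Groth.Agent.S0124
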