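import Groth.Statements.S0133
import Groth.Agent.Lib.ExtShriek24.Constructible
import Groth.Agent.Lib.LocConst24.Const

set_option autoImplicit false
universe u
open CategoryTheory CategoryTheory.Limits AlgebraicGeometry Opposite
open EtPBC

namespace Groth.Agent.S0133

/-- (2): for j : U -> X etale with U and X quasi-compact and quasi-separated and M a finite abelian
group, j_! M is a constructible abelian sheaf on X_et. -/
theorem result (X : Scheme.{u}) [CompactSpace X] [QuasiSeparatedSpace X]
    (U : X.Etale) [CompactSpace U.left] [QuasiSeparatedSpace U.left]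
    (M : Type) [AddCommGroup M] [Finite M] :
    EtPBC.IsConstructible (EtPBC.extZeroConst U M) := by
  haveI : AlgebraicGeometry.Etale U.hom := U.prop
  haveI : CompactSpace ↥((Functor.fromPUnit X).obj U.right) := ‹CompactSpace X›
  haveI : CompactSpace ↥((𝟭 Scheme).obj U.left) := ‹CompactSpace U.left›
  haveI : QuasiSeparatedSpace ↥((𝟭 Scheme).obj U.left) := ‹QuasiSeparatedSpace U.left›
  haveI : QuasiSeparatedSpace ↥((Functor.fromPUnit X).obj U.right) := ‹QuasiSeparatedSpace X›
  exact Groth.Agent.ExtShriek24.isConstructible_iso' (Groth.Agent.ExtShriek24.extZeroConstIso U M).symm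
    (Groth.Agent.ExtShriek24.isConstructible_extZero U.hom
      (Groth.Agent.Constr24.isConstructible_of_flc (Groth.Agent.LocConst24.flc_const _ M)))

end Groth.Agent.S0133
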