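import Groth.Statements.S0134
import Groth.Agent.Lib.Constr24.IndConstr

set_option autoImplicit false
universe u
open CategoryTheory CategoryTheory.Limits AlgebraicGeometry Opposite
open EtPBC

namespace Groth.Agent.S0134

/-- (2): on a quasi-compact quasi-separated scheme X every torsion abelian sheaf on X_et is the colimit
of a filtered diagram of constructible abelian sheaves. -/
theorem result (X : Scheme.{u}) [CompactSpace X] [QuasiSeparatedSpace X]
    (F : EtCoh.Ab X) (hF : EtCoh.IsTorsion F) :
    ∃ (J : Type (u + 1)) (_ : SmallCategory J) (_ : IsFiltered J) (D : J ⥤ EtCoh.Ab X)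
      (c : Cocone D) (_ : IsColimit c), (∀ j, EtPBC.IsConstructible (D.obj j)) ∧ Nonempty (c.pt ≅ F) := by
  exact Groth.Agent.Constr24.exists_colimit_constructible hF

end Groth.Agent.S0134
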