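import Groth.Statements.S0142
import Groth.Agent.Lib.Constr24.Acc

set_option autoImplicit false
universe u
open CategoryTheory CategoryTheory.Limits AlgebraicGeometry Opposite
open EtPBC

namespace Groth.Agent.S0142

/-- For X Noetherian and F a constructible abelian sheaf on X_et, every increasing sequence of
subsheaves F_1 ⊆ F_2 ⊆ ... ⊆ F is eventually constant. -/
theorem result (X : Scheme.{u}) [IsNoetherian X]
    (F : EtCoh.Ab X) (hF : EtPBC.IsConstructible F) (c : ℕ →o Subobject F) :
    ∃ N, ∀ m, N ≤ m → c m = c N := by
  exact Groth.Agent.Constr24.constructible_acc hF c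

end Groth.Agent.S0142
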