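import Groth.Prelude.Def_PBC
import Groth.Agent.Lib.CdField3.Finite
-- import your own Groth.Agent.* helpers here

namespace EtPBC
end EtPBC

set_option autoImplicit false
universe u
open CategoryTheory CategoryTheory.Limits AlgebraicGeometry Opposite
open EtPBC

namespace Groth.Agent.S0151

/-- (2): if cd(K) is finite and X is of finite type over K then cd(X) is finite. -/
theorem result (K : Type u) [Field K] (X : Scheme.{u})
    (a : X ⟶ Spec (CommRingCat.of K)) [LocallyOfFiniteType a] [QuasiCompact a]
    (e : ℕ) (hK : EtCoh.CohDimLE (Spec (CommRingCat.of K)) e) :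
    ∃ d : ℕ, EtCoh.CohDimLE X d := by
  obtain ⟨n, hn⟩ := CdField3.exists_sdim_le a
  exact ⟨_, CdField3.cdL_univ_iff.1 (CdField3.cdL_finiteType a (CdField3.cdL_univ_iff.2 hK) n hn)⟩

end Groth.Agent.S0151
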