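import Groth.Statements.S0152
import Groth.Agent.Lib.SpectralTop.Clopen

set_option autoImplicit false
universe u
open EtPBC

namespace Groth.Agent.S0152

/-- Let X be a spectral space and Z a closed subset such that Z meets the closure of every point of X in
a connected (nonempty) set. If Z is the disjoint union of two closed subsets Z_1, Z_2 then X is the
disjoint union of closed subsets X_1, X_2 with Z_i = Z ∩ X_i. -/
theorem result (X : Type u) [TopologicalSpace X] [SpectralSpace X]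
    (Z : Set X) (hZ : IsClosed Z)
    (hconn : ∀ x : X, IsConnected (Z ∩ closure {x}))
    (Z₁ Z₂ : Set X) (h₁ : IsClosed Z₁) (h₂ : IsClosed Z₂) (hdisj : Disjoint Z₁ Z₂) (hunion : Z₁ ∪ Z₂ = Z) :
    ∃ X₁ X₂ : Set X, IsClosed X₁ ∧ IsClosed X₂ ∧ Disjoint X₁ X₂ ∧ X₁ ∪ X₂ = Set.univ ∧
      Z₁ = Z ∩ X₁ ∧ Z₂ = Z ∩ X₂ := by
  exact SpectralTop.lift_decomposition Z hZ hconn Z₁ Z₂ h₁ h₂ hdisj hunion

end Groth.Agent.S0152
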