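import Groth.Statements.S0158
import Groth.Agent.Lib.BCInj6.Compose

set_option backward.isDefEq.respectTransparency false
set_option backward.isDefEq.respectTransparency.types false

set_option autoImplicit false
universe u
open CategoryTheory CategoryTheory.Limits AlgebraicGeometry Opposite
open EtPBC
open Groth.Agent.BCInj6

namespace Groth.Agent.S0158

/-- For a proper morphism f : X → Y the following are equivalent: (1) cohomology commutes with base
change for f, i.e. for every cartesian square with g : Y' → Y, g' : X' → X, f' : X' → Y' and every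
torsion abelian sheaf F on X_ét there are isomorphisms g^* R^q f_* F ≅ R^q f'_* g'^* F; (2) for
every prime ℓ, every sheaf I of ℤ/ℓ-modules on X_ét which is injective among sheaves of ℤ/ℓ-modules,
and every cartesian square as above, R^q f'_*(g'^* I) = 0 for q > 0. Injectivity among sheaves of
ℤ/ℓ-modules is spelled out as the extension property against monomorphisms of sheaves killed by ℓ.
Condition (1) is used in its abstract-isomorphism form; the published proof shows that (2) yields
the canonical base change isomorphisms. -/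
theorem result {X Y : Scheme.{u}} (f : X ⟶ Y) [IsProper f] [EtCoh.BCCont f] :
    EtPBC.CohCommutesWithBC f ↔
      ∀ (ℓ : ℕ), ℓ.Prime → ∀ (I : EtCoh.Ab X), EtCoh.KilledBy ℓ I →
        (∀ (G : EtCoh.Ab X), EtCoh.KilledBy ℓ G → ∀ (a : G ⟶ I) {G' : EtCoh.Ab X} (m : G ⟶ G'),
            EtCoh.KilledBy ℓ G' → Mono m → ∃ b : G' ⟶ I, m ≫ b = a) →
        ∀ ⦃X' Y' : Scheme.{u}⦄ (f' : X' ⟶ Y') (g' : X' ⟶ X) (g : Y' ⟶ Y)
          [EtCoh.BCCont f'] [EtCoh.BCCont g'], IsPullback g' f' f g →
          ∀ q : ℕ, 0 < q → IsZero ((EtCoh.Rpush f' q).obj ((EtCoh.pull g').obj I)) := by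
  constructor
  · intro hf ℓ hℓ I hI hinj X' Y' f' g' g _ _ h q hq
    have hV := van_of_cohCommutes f hf
    obtain ⟨J, hJ, u, hu⟩ := exists_tor_embed (EtBCQ24.nsmul_id_of_killedBy hI)
    obtain ⟨r, hr⟩ := hinj I hI (𝟙 I) u (EtBCQ24.killedBy_of_nsmul (nsmul_id_tor ℓ J)) hu
    exact IsZero.of_retract ((EtCoh.Rpush f' q).map ((EtCoh.pull g').map u))
      ((EtCoh.Rpush f' q).map ((EtCoh.pull g').map r))
      (by rw [← Functor.map_comp, ← Functor.map_comp, hr, CategoryTheory.Functor.map_id, CategoryTheory.Functor.map_id])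
      (hV f' g' g h J hJ ℓ hℓ q hq)
  · intro H
    refine Van.cohCommutes fun X' Y' f' g' g h J hJ ℓ hℓ q hq =>
      H ℓ hℓ (tor ℓ J) (EtBCQ24.killedBy_of_nsmul (nsmul_id_tor ℓ J)) ?_ f' g' g h q hq
    intro G hG a G' m hG' hm
    haveI := hJ
    haveI := hm
    let b := Injective.factorThru (a ≫ kernel.ι (ℓ • 𝟙 J)) m
    refine ⟨kernel.lift _ b ?_, ?_⟩
    · rw [Preadditive.comp_nsmul, Category.comp_id]
      have h := congrArg (· ≫ b) (EtBCQ24.nsmul_id_of_killedBy hG')
      simpa [Preadditive.nsmul_comp] using h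
    · rw [← cancel_mono (kernel.ι (ℓ • 𝟙 J)), Category.assoc, kernel.lift_ι]
      exact Injective.comp_factorThru _ _

end Groth.Agent.S0158
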