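import Groth.Statements.S0168
import Groth.Agent.Lib.Gabber24.Hens
-- import your own Groth.Agent.* helpers here

set_option autoImplicit false
universe u
open CategoryTheory CategoryTheory.Limits AlgebraicGeometry Opposite
open EtPBC

namespace Groth.Agent.S0168

/-- (A, I) a henselian pair, f : X -> Spec A proper, Z ⊆ X the closed subset X x_{Spec A} Spec (A/I)
(the image of the first projection). For any sheaf of sets F on the underlying topological space of
X, restriction Gamma(X, F) -> Gamma(Z, F|_Z) is bijective; written as the global-sections component
of the unit F -> i_* i^* F for the inclusion i : Z -> X of topological spaces. -/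
theorem result (A : Type u) [CommRing A] (I : Ideal A) [HenselianRing A I]
    (X : Scheme.{u}) (f : X ⟶ Spec (CommRingCat.of A)) [IsProper f]
    (F : TopCat.Sheaf (Type u) X.carrier) :
    Function.Bijective
      (((TopCat.Sheaf.pullbackPushforwardAdjunction (Type u)
        (TopCat.ofHom ⟨(Subtype.val :
          (Set.range (pullback.fst f (Spec.map (CommRingCat.ofHom (Ideal.Quotient.mk I))))) → X),
          continuous_subtype_val⟩)).unit.app F).hom.app (op ⊤)) := by
  have h := Groth.Agent.Gabber24.secEq_of_proper (A := A) (I := I) inferInstance f
  rw [← Groth.Agent.HensProper6.range_fst_quotient f I] at h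
  exact h F

end Groth.Agent.S0168
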