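import Groth.Statements.S0170
import Groth.Agent.Lib.QFSplit24.Main

set_option autoImplicit false
universe u
open CategoryTheory CategoryTheory.Limits AlgebraicGeometry Opposite
open EtPBC

namespace Groth.Agent.S0170

set_option maxHeartbeats 4000000

/-- For f : Y -> X quasi-finite and of finite presentation with X and Y affine, one can find an affine
X' mapping onto X such that the base change Y' = X' x_X Y contains a closed subscheme Z' with the
same underlying space (a thickening) for which the composite Z' -> Y' -> X' is finite etale. -/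
theorem result {Y X : Scheme.{u}} [IsAffine X] [IsAffine Y] (f : Y ⟶ X)
    [LocallyQuasiFinite f] [LocallyOfFinitePresentation f] :
    ∃ (X' : Scheme.{u}) (_ : IsAffine X') (a : X' ⟶ X) (_ : Surjective a) (Z' : Scheme.{u})
      (c : Z' ⟶ pullback a f) (_ : IsClosedImmersion c) (_ : Surjective c),
      IsFinite (c ≫ pullback.fst a f) ∧ Etale (c ≫ pullback.fst a f) := by
  letI : Algebra Γ(X, ⊤) Γ(Y, ⊤) := f.appTop.hom.toAlgebra
  haveI : Algebra.FinitePresentation Γ(X, ⊤) Γ(Y, ⊤) :=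
    (HasRingHomProperty.iff_of_isAffine (P := @LocallyOfFinitePresentation)).1 ‹LocallyOfFinitePresentation f›
  haveI : Algebra.QuasiFinite Γ(X, ⊤) Γ(Y, ⊤) :=
    (HasRingHomProperty.iff_of_isAffine (P := @LocallyQuasiFinite)).1 ‹LocallyQuasiFinite f›
  let T : Type u := QFSplit24.AF (Γ(X, ⊤) : CommRingCat)
  let a : Spec (CommRingCat.of T) ⟶ X := Spec.map (CommRingCat.ofHom (algebraMap Γ(X, ⊤) T)) ≫ X.isoSpec.inv
  haveI : Surjective (Spec.map (CommRingCat.ofHom (algebraMap Γ(X, ⊤) T))) := ⟨fun (p : PrimeSpectrum (Γ(X, ⊤) : CommRingCat)) => by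
    refine ⟨PrimeSpectrum.comap (Pi.evalRingHom (fun q : PrimeSpectrum (Γ(X, ⊤) : CommRingCat) =>
      AlgebraicClosure q.asIdeal.ResidueField) p) ⟨⊥, Ideal.isPrime_bot⟩, PrimeSpectrum.ext ?_⟩
    ext r
    show algebraMap Γ(X, ⊤) (AlgebraicClosure p.asIdeal.ResidueField) r ∈ (⊥ : Ideal _) ↔ r ∈ p.asIdeal
    rw [Ideal.mem_bot, IsScalarTower.algebraMap_apply Γ(X, ⊤) p.asIdeal.ResidueField
      (AlgebraicClosure p.asIdeal.ResidueField), map_eq_zero, Ideal.algebraMap_residueField_eq_zero]⟩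
  haveI : Surjective a := inferInstance
  obtain ⟨C, _, _, π, hC, hCf, hπ, hker⟩ := QFSplit24.exists_finite_etale_quotient
    (T := T) (A := TensorProduct Γ(X, ⊤) T Γ(Y, ⊤)) (QFSplit24.isReg_pi _)
    (fun q _ => QFSplit24.isAlgClosed_quotient_pi _ q)
  have sq0 : IsPullback
      (Spec.map (CommRingCat.ofHom (Algebra.TensorProduct.includeLeftRingHom : T →+* TensorProduct Γ(X, ⊤) T Γ(Y, ⊤))))
      (Spec.map (CommRingCat.ofHom (R := Γ(Y, ⊤)) (S := TensorProduct Γ(X, ⊤) T Γ(Y, ⊤))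
        (Algebra.TensorProduct.includeRight : Γ(Y, ⊤) →ₐ[Γ(X, ⊤)] TensorProduct Γ(X, ⊤) T Γ(Y, ⊤)).toRingHom))
      (Spec.map (CommRingCat.ofHom (algebraMap Γ(X, ⊤) T))) (Spec.map f.appTop) := by
    exact (IsPullback.of_hasPullback (Spec.map (CommRingCat.ofHom (algebraMap Γ(X, ⊤) T)))
      (Spec.map (CommRingCat.ofHom (algebraMap Γ(X, ⊤) Γ(Y, ⊤))))).of_iso
      (pullbackSpecIso Γ(X, ⊤) T Γ(Y, ⊤)) (Iso.refl _) (Iso.refl _) (Iso.refl _)
      (by rw [Iso.refl_hom, Category.comp_id, ← Iso.inv_comp_eq]; exact pullbackSpecIso_inv_fst _ _ _)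
      (by rw [Iso.refl_hom, Category.comp_id, ← Iso.inv_comp_eq]; exact pullbackSpecIso_inv_snd _ _ _)
      (by simp) (by simp; rfl)
  have sq := sq0.of_iso (Iso.refl _) (Iso.refl _) Y.isoSpec.symm X.isoSpec.symm
    (fst' := Spec.map (CommRingCat.ofHom (Algebra.TensorProduct.includeLeftRingHom : T →+* TensorProduct Γ(X, ⊤) T Γ(Y, ⊤))))
    (snd' := Spec.map (CommRingCat.ofHom (R := Γ(Y, ⊤)) (S := TensorProduct Γ(X, ⊤) T Γ(Y, ⊤))
        (Algebra.TensorProduct.includeRight : Γ(Y, ⊤) →ₐ[Γ(X, ⊤)] TensorProduct Γ(X, ⊤) T Γ(Y, ⊤)).toRingHom) ≫ Y.isoSpec.inv)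
    (f' := a) (g' := f) (by simp) (by simp) (by simp [a]) (by simpa using Scheme.isoSpec_inv_naturality f)
  let c : Spec (CommRingCat.of C) ⟶ pullback a f := Spec.map (CommRingCat.ofHom π.toRingHom) ≫ sq.isoPullback.hom
  haveI : IsClosedImmersion (Spec.map (CommRingCat.ofHom π.toRingHom)) := IsClosedImmersion.spec_of_surjective _ hπ
  haveI : Surjective (Spec.map (CommRingCat.ofHom π.toRingHom)) := ⟨fun (q : PrimeSpectrum (TensorProduct Γ(X, ⊤) T Γ(Y, ⊤))) => by
    have h : q ∈ Set.range (PrimeSpectrum.comap π.toRingHom) := by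
      rw [range_comap_of_surjective _ _ hπ, PrimeSpectrum.mem_zeroLocus]
      intro x hx
      exact q.isPrime.mem_of_pow_mem _ ((hker x hx).choose_spec ▸ q.asIdeal.zero_mem)
    exact h⟩
  have hc : c ≫ pullback.fst a f = Spec.map (CommRingCat.ofHom (algebraMap T C)) := by
    rw [Category.assoc, IsPullback.isoPullback_hom_fst, ← Spec.map_comp]
    congr 1
    ext t
    exact π.commutes t
  refine ⟨Spec (CommRingCat.of T), inferInstance, a, inferInstance, Spec (CommRingCat.of C), c, inferInstance,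
    inferInstance, ?_, ?_⟩
  · rw [hc, IsFinite.SpecMap_iff]
    exact RingHom.finite_algebraMap.2 hCf
  · rw [hc]
    exact HasRingHomProperty.Spec_iff.2 (RingHom.etale_algebraMap.2 hC)

end Groth.Agent.S0170
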