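import Groth.Prelude.Def_PBC
import Groth.Agent.Lib.CdField3.LefTrdeg
-- import your own Groth.Agent.* helpers here

namespace EtPBC
end EtPBC

set_option autoImplicit false
universe u
open CategoryTheory CategoryTheory.Limits AlgebraicGeometry Opposite
open EtPBC

namespace Groth.Agent.S0174

/-- Let K be a field, X and Y K-schemes of finite type, f : X → Y an affine morphism over K, and F a
torsion abelian sheaf on X_ét whose support consists of points of transcendence degree at most a
over K. Then R^q f_* F is supported on points of transcendence degree at most a − q over K.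
Formally, for natural numbers a, q, b with q + b = a, the conclusion is that the support of R^q f_*
F lies in points of transcendence degree at most b; the case q > a, where the published statement
gives empty support, is not covered. -/
theorem result (K : Type u) [Field K] {X Y : Scheme.{u}} (aX : X ⟶ Spec (CommRingCat.of K))
    (aY : Y ⟶ Spec (CommRingCat.of K)) [LocallyOfFiniteType aX] [QuasiCompact aX]
    [LocallyOfFiniteType aY] [QuasiCompact aY] (f : X ⟶ Y) (w : f ≫ aY = aX) [IsAffineHom f] [EtCoh.BCCont f]
    (a q b : ℕ) (hqb : q + b = a)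
    (F : EtCoh.Ab X) (hF : EtCoh.IsTorsion F) (hsupp : ∀ x ∈ EtPBC.supp F, EtPBC.ResTrdegLE aX x a) :
    ∀ y ∈ EtPBC.supp ((EtCoh.Rpush f q).obj F), EtPBC.ResTrdegLE aY y b := by
  subst w
  rintro y ⟨Ω, _, _, ξ, hξ, hne⟩
  have hy : ξ (default : Spec (CommRingCat.of Ω)) = y := Set.eq_of_mem_singleton (hξ ▸ ⟨_, rfl⟩)
  refine Groth.Agent.CdField3.resTrdegLE_of_sdim_le aY y b ?_
  by_contra hlt
  refine hne (@AddCommGrpCat.isZero_of_subsingleton _
    (Groth.Agent.CdField3.subsingleton_stalk_Rpush_supp aY f F hF a
      (fun x hx => Groth.Agent.CdField3.sdim_le_of_resTrdegLE _ x a (hsupp x hx)) ξ q ?_))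
  rw [hy]
  omega

end Groth.Agent.S0174
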