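import Groth.Statements.S0175
import Groth.Agent.Lib.EtStalk.OpenImm
import Groth.Agent.Lib.Constr24.Acc

set_option autoImplicit false
universe u
open CategoryTheory CategoryTheory.Limits AlgebraicGeometry Opposite
open EtPBC

namespace Groth.Agent.S0175

/-- Let i : Z → X be a closed immersion of schemes with open complement j : U → X, and I an injective
abelian sheaf on X_ét. Then the subsheaf H_Z(I) of sections supported on Z (the kernel of I → j_*
j^* I), viewed on Z_ét via i^*, is an injective abelian sheaf on Z_ét. -/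
theorem result {Z X U : Scheme.{u}} (i : Z ⟶ X) [IsClosedImmersion i]
    (j : U ⟶ X) [IsOpenImmersion j] (hZU : Set.range j = (Set.range i)ᶜ)
    [EtCoh.BCCont i] [EtCoh.BCCont j] (I : EtCoh.Ab X) [Injective I] :
    Injective ((EtCoh.pull i).obj (kernel ((EtCoh.pullPushAdj j).unit.app I))) := by
  let K := kernel ((EtCoh.pullPushAdj j).unit.app I)
  haveI : (EtCoh.pull i).IsLeftAdjoint := (EtCoh.pullPushAdj i).isLeftAdjoint
  refine ⟨fun {G G'} g a _ => ?_⟩
  haveI : Mono ((EtCoh.push i).map a) := by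
    haveI : (EtCoh.push i).IsRightAdjoint := (EtCoh.pullPushAdj i).isRightAdjoint
    infer_instance
  have hzero : ∀ G : EtCoh.Ab Z, IsZero ((EtCoh.pull j).obj ((EtCoh.push i).obj G)) := fun G => by
    rw [IsZero.iff_id_eq_zero]
    refine Constr24.eq_zero_of_stalk_alg _ fun Ω _ _ ξ => ?_
    haveI : Subsingleton ((EtCoh.stalk ξ).obj ((EtCoh.pull j).obj ((EtCoh.push i).obj G))) := by
      have h := AddCommGrpCat.subsingleton_of_isZero (EtStalk.stalk_push_isZero i G (ξ ≫ j)
        (fun hmem => (hZU.le ⟨ξ default, (Scheme.Hom.comp_apply _ _ _).symm⟩) hmem))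
      exact (Equiv.ofBijective _ (ConcreteCategory.bijective_of_isIso
        (EtStalk.stalkPull j ξ ((EtCoh.push i).obj G)))).symm.subsingleton
    intros; exact Subsingleton.elim _ _
  -- `i_* i^* K ≅ K`
  have hu : IsIso ((EtCoh.pullPushAdj i).unit.app K) := by
    rw [EtStalk.isIso_iff_stalk_alg]
    intro Ω _ _ ξ
    by_cases h : ξ (default : Spec (CommRingCat.of Ω)) ∈ Set.range i
    · obtain ⟨ζ, rfl⟩ := EtStalk.exists_lift_point i ξ h
      have hb := EtStalk.unit_pushStalk i ζ K
      haveI : IsIso ((EtCoh.stalk (ζ ≫ i)).map ((EtCoh.pullPushAdj i).unit.app K)) := by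
        rw [show (EtCoh.stalk (ζ ≫ i)).map ((EtCoh.pullPushAdj i).unit.app K) =
          EtStalk.stalkPull i ζ K ≫ inv (EtStalk.pushStalk i ζ ((EtCoh.pull i).obj K)) by
            rw [IsIso.eq_comp_inv, EtStalk.unit_pushStalk]]
        infer_instance
      exact ConcreteCategory.bijective_of_isIso _
    · have h1 := AddCommGrpCat.subsingleton_of_isZero
        (EtStalk.stalk_push_isZero i ((EtCoh.pull i).obj K) ξ h)
      have hξj : ξ (default : Spec (CommRingCat.of Ω)) ∈ Set.range j := hZU.ge h
      obtain ⟨ζ, rfl⟩ := EtStalk.exists_lift_point_open j ξ hξj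
      haveI hI0 : IsIso ((EtCoh.pull j).map ((EtCoh.pullPushAdj j).unit.app I)) := by
        have h2 := (EtCoh.pullPushAdj j).left_triangle_components I
        haveI : IsIso ((EtCoh.pull j).map ((EtCoh.pullPushAdj j).unit.app I) ≫
            (EtCoh.pullPushAdj j).counit.app ((EtCoh.pull j).obj I)) := by
          rw [h2]; exact IsIso.id _
        exact IsIso.of_isIso_comp_right _ ((EtCoh.pullPushAdj j).counit.app ((EtCoh.pull j).obj I))
      have hI : IsIso ((EtCoh.stalk (ζ ≫ j)).map ((EtCoh.pullPushAdj j).unit.app I)) := by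
        rw [show (EtCoh.stalk (ζ ≫ j)).map ((EtCoh.pullPushAdj j).unit.app I) =
          EtStalk.stalkPull j ζ _ ≫ (EtCoh.stalk ζ).map ((EtCoh.pull j).map
            ((EtCoh.pullPushAdj j).unit.app I)) ≫ inv (EtStalk.stalkPull j ζ _) by
              rw [← Category.assoc, IsIso.eq_comp_inv]
              exact (EtStalk.stalkPull_nat j ζ _).symm]
        infer_instance
      have h2 : Subsingleton ((EtCoh.stalk (ζ ≫ j)).obj K) := ⟨fun p q =>
        (EtStalk.mono_iff_stalk (kernel.ι ((EtCoh.pullPushAdj j).unit.app I))).1 inferInstance Ω (ζ ≫ j)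
          ((ConcreteCategory.bijective_of_isIso _).1 (show
            (EtCoh.stalk (ζ ≫ j)).map ((EtCoh.pullPushAdj j).unit.app I)
              ((EtCoh.stalk (ζ ≫ j)).map (kernel.ι _) p) =
            (EtCoh.stalk (ζ ≫ j)).map ((EtCoh.pullPushAdj j).unit.app I)
              ((EtCoh.stalk (ζ ≫ j)).map (kernel.ι _) q) by
            rw [← ConcreteCategory.comp_apply, ← ConcreteCategory.comp_apply, ← Functor.map_comp,
              kernel.condition, Functor.map_zero]; rfl))⟩
      exact ⟨fun a b _ => @Subsingleton.elim _ h2 a b, fun b => ⟨0, @Subsingleton.elim _ h1 _ _⟩⟩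
  let f : (EtCoh.push i).obj G ⟶ K :=
    (EtCoh.push i).map g ≫ inv ((EtCoh.pullPushAdj i).unit.app K)
  let t : (EtCoh.push i).obj G ⟶ I := f ≫ kernel.ι ((EtCoh.pullPushAdj j).unit.app I)
  let h₀ : (EtCoh.push i).obj G' ⟶ I := Injective.factorThru t ((EtCoh.push i).map a)
  have hh₀ : h₀ ≫ (EtCoh.pullPushAdj j).unit.app I = 0 := by
    apply (((EtCoh.pullPushAdj j).homEquiv _ _).symm).injective
    exact (hzero G').eq_of_src _ _
  let h : (EtCoh.push i).obj G' ⟶ K := kernel.lift _ h₀ hh₀
  have hfh : (EtCoh.push i).map a ≫ h = f := by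
    rw [← cancel_mono (kernel.ι ((EtCoh.pullPushAdj j).unit.app I)), Category.assoc, kernel.lift_ι]
    exact Injective.comp_factorThru t ((EtCoh.push i).map a)
  refine ⟨inv ((EtCoh.pullPushAdj i).counit.app G') ≫ (EtCoh.pull i).map h, ?_⟩
  have hn : a ≫ inv ((EtCoh.pullPushAdj i).counit.app G') =
      inv ((EtCoh.pullPushAdj i).counit.app G) ≫ (EtCoh.pull i).map ((EtCoh.push i).map a) := by
    rw [IsIso.eq_inv_comp, ← Category.assoc, IsIso.comp_inv_eq]
    exact ((EtCoh.pullPushAdj i).counit.naturality a).symm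
  rw [← Category.assoc, hn, Category.assoc, ← Functor.map_comp, hfh, IsIso.inv_comp_eq,
    Functor.map_comp, Functor.map_inv]
  rw [IsIso.comp_inv_eq]
  have h1 := (EtCoh.pullPushAdj i).counit.naturality g
  have h2 := (EtCoh.pullPushAdj i).left_triangle_components K
  rw [← cancel_mono ((EtCoh.pullPushAdj i).counit.app ((EtCoh.pull i).obj K))]
  simp only [Category.assoc]
  rw [h2, Category.comp_id]
  exact h1

end Groth.Agent.S0175
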