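import Groth.Statements.S0178
import Groth.Agent.Lib.Gabber24.Criterion
-- import your own Groth.Agent.* helpers here

set_option autoImplicit false
universe u
open CategoryTheory CategoryTheory.Limits AlgebraicGeometry Opposite
open EtPBC

namespace Groth.Agent.S0178

/-- Gabber's criterion. Let X be a quasi-compact and quasi-separated scheme and i : Z → X a closed
immersion. Assume (1) for every sheaf of sets F on the topological space X, Γ(X, F) → Γ(Z, F|_Z) is
bijective, and (2) the same holds for Z ×_X X' ⊆ X' for every finite X' → X. Then for every abelian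
sheaf F on X_ét, Γ(X, F) → Γ(Z, i^* F) (the global-sections component of the unit F → i_* i^* F) is
bijective. (The published statement allows étale sheaves of sets in the conclusion; it is stated
here for abelian sheaves.) -/
theorem result {Z X : Scheme.{u}} [CompactSpace X] [QuasiSeparatedSpace X]
    (i : Z ⟶ X) [IsClosedImmersion i] [EtCoh.BCCont i]
    (h1 : ∀ F : TopCat.Sheaf (Type u) X.carrier, Function.Bijective
      (((TopCat.Sheaf.pullbackPushforwardAdjunction (Type u)
        (TopCat.ofHom ⟨(Subtype.val : (Set.range i) → X), continuous_subtype_val⟩)).unit.app F).hom.app (op ⊤)))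
    (h2 : ∀ (X' : Scheme.{u}) (π : X' ⟶ X) [IsFinite π] (F : TopCat.Sheaf (Type u) X'.carrier),
      Function.Bijective
      (((TopCat.Sheaf.pullbackPushforwardAdjunction (Type u)
        (TopCat.ofHom ⟨(Subtype.val : (Set.range (pullback.snd i π)) → X'), continuous_subtype_val⟩)).unit.app F).hom.app (op ⊤)))
    (F : EtCoh.Ab X) :
    Function.Bijective (((EtCoh.pullPushAdj i).unit.app F).hom.app (op (EtCoh.top X))) := by
  refine Groth.Agent.Gabber24.bijective_unit i h1 (fun X' π hπ => ?_) F
  rw [← Scheme.Pullback.range_snd i π]
  exact h2 X' π

end Groth.Agent.S0178
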