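import Groth.Statements.S0179
import Groth.Agent.Lib.SpectralTop.Clopen

set_option autoImplicit false
universe u
open EtPBC

namespace Groth.Agent.S0179

/-- For a spectral space X with set of closed points X_0, the following are equivalent: (1) any open
cover of X admits a refinement by finitely many pairwise disjoint open-and-closed pieces; (2) the
map from X_0 to the space of connected components pi_0(X) is a bijection. -/
theorem result (X : Type u) [TopologicalSpace X] [SpectralSpace X] :
    (∀ (ι : Type u) (U : ι → Set X), (∀ i, IsOpen (U i)) → (⋃ i, U i) = Set.univ →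
      ∃ (n : ℕ) (V : Fin n → Set X), (∀ k, IsClopen (V k)) ∧
        Pairwise (fun k l => Disjoint (V k) (V l)) ∧ (⋃ k, V k) = Set.univ ∧ ∀ k, ∃ i, V k ⊆ U i) ↔
    Function.Bijective (fun x : {x : X // IsClosed ({x} : Set X)} => _root_.ConnectedComponents.mk x.1) := by
  exact SpectralTop.refinement_iff

end Groth.Agent.S0179
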