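import Groth.Statements.S0180
import Groth.Agent.Lib.SpectralTop.Clopen

set_option autoImplicit false
universe u
open EtPBC

namespace Groth.Agent.S0180

/-- Final assertion: if X is spectral, the set X_0 of closed points is closed, and every point of X
specializes to exactly one closed point, then X_0 -> pi_0(X) is bijective (so X satisfies the
equivalent conditions of the lemma; such X are called w-local). -/
theorem result (X : Type u) [TopologicalSpace X]
    [SpectralSpace X] (h0 : IsClosed {x : X | IsClosed ({x} : Set X)})
    (huniq : ∀ x : X, ∃! z : X, IsClosed ({z} : Set X) ∧ x ⤳ z) :
    Function.Bijective (fun x : {x : X // IsClosed ({x} : Set X)} => _root_.ConnectedComponents.mk x.1) := by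
  exact SpectralTop.bijective_of_unique_specialization h0 huniq

end Groth.Agent.S0180
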