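import Groth.Statements.S0191
import Groth.Agent.Lib.CSAlg.Tensor

set_option autoImplicit false
universe u v w
open scoped TensorProduct
open Curves

namespace Groth.Agent.S0191

/-- If K is a skew field with center k, every two-sided ideal of A ⊗ K is generated by the elements a ⊗
1 it contains. -/
theorem result (k : Type u) [Field k] (A : Type v) [Ring A] [Algebra k A]
    (K : Type w) [DivisionRing K] [Algebra k K] [Algebra.IsCentral k K]
    (I : TwoSidedIdeal (A ⊗[k] K)) :
    I = TwoSidedIdeal.span ((fun a : A => a ⊗ₜ[k] (1 : K)) '' {a : A | a ⊗ₜ[k] (1 : K) ∈ I}) := by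
  let e := Algebra.TensorProduct.comm k K A
  let f : K ⊗[k] A →+* A ⊗[k] K := e.toRingEquiv.toRingHom
  have hJ := Groth.Agent.CSAlg.eq_span_one_tmul K A (I.comap f)
  refine le_antisymm (fun x hx => ?_) (TwoSidedIdeal.span_le.2 ?_)
  swap
  · rintro _ ⟨a, ha, rfl⟩; exact ha
  obtain ⟨y, rfl⟩ := e.surjective x
  have hy : y ∈ I.comap f := (TwoSidedIdeal.mem_comap f).2 hx
  rw [hJ] at hy
  exact (TwoSidedIdeal.mem_comap f).1 (TwoSidedIdeal.span_le.2 (by
    rintro _ ⟨a, ha, rfl⟩
    refine (TwoSidedIdeal.mem_comap f).2 (TwoSidedIdeal.subset_span ⟨a, ?_, ?_⟩)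
    · simpa [f, e, TwoSidedIdeal.mem_comap] using ha
    · simp [f, e]) hy)

end Groth.Agent.S0191
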