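import Groth.Statements.S0195
import Groth.Agent.Lib.CSAlg.Index

set_option autoImplicit false
universe u v w
open scoped TensorProduct
open Curves

namespace Groth.Agent.S0195

/-- A finite extension k' of k splits a finite central simple algebra A exactly when some algebra
similar to A contains k' with dim equal to [k':k]^2. Uses Mathlib's bundled CSA and Brauer
equivalence. -/
theorem result (k : Type u) [Field k] (A : CSA.{u, u} k)
    (k' : Type u) [Field k'] [Algebra k k'] [FiniteDimensional k k'] :
    Curves.Splits k A k' ↔ ∃ (B : CSA.{u, u} k) (_ : k' →ₐ[k] B), IsBrauerEquivalent A B ∧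
      Module.finrank k B = Module.finrank k k' ^ 2 := by
  exact Groth.Agent.CSAlg.splits_iff_exists_similar A k'

end Groth.Agent.S0195
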