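import Groth.Statements.S0198
import Groth.Agent.Lib.CSAlg.Split

set_option autoImplicit false
universe u v w
open scoped TensorProduct
open Curves

namespace Groth.Agent.S0198

/-- A finite central skew field over k contains a maximal commutative subalgebra that is separable over
k. -/
theorem result (k : Type u) [Field k]
    (D : Type v) [DivisionRing D] [Algebra k D] [Algebra.IsCentral k D] [FiniteDimensional k D] :
    ∃ L : Subalgebra k D, (∀ x ∈ L, ∀ y ∈ L, x * y = y * x) ∧
      (∀ L' : Subalgebra k D, (∀ x ∈ L', ∀ y ∈ L', x * y = y * x) → L ≤ L' → L' = L) ∧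
      Algebra.IsSeparable k L := by
  obtain ⟨L, hc, hs, h⟩ := Groth.Agent.CSAlg.exists_separable_centralizer_eq (k := k) (D := D)
  exact ⟨L, hc, Groth.Agent.CSAlg.maximal_of_centralizer_eq L h, hs⟩

end Groth.Agent.S0198
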