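import Groth.Statements.S0203
import Groth.Agent.Lib.FieldBr3.CurveCd
-- import your own Groth.Agent.* helpers here

set_option autoImplicit false
universe u
open CategoryTheory CategoryTheory.Limits AlgebraicGeometry
open Curves

namespace Groth.Agent.S0203

/-- A separated finite type scheme of dimension at most one over an algebraically closed field has étale
cohomological dimension at most two for torsion abelian sheaves. -/
theorem result (k : Type u) [Field k] [IsAlgClosed k] (X : Scheme.{u})
    (f : X ⟶ Spec (CommRingCat.of k)) [IsSeparated f] [LocallyOfFiniteType f] [QuasiCompact f]
    (hdim : topologicalKrullDim X ≤ 1) : EtCoh.CohDimLE X 2 := by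
  exact fun F hF q hq => Groth.Agent.FieldBr3.subsingleton_H_curve f hdim F hF (by omega)

end Groth.Agent.S0203
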