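import Groth.Statements.S0208
import Groth.Agent.Lib.FieldBr3.CohDim
import Groth.Agent.Lib.FieldBr3.Brauer
-- import your own Groth.Agent.* helpers here

set_option autoImplicit false
universe u
open CategoryTheory CategoryTheory.Limits AlgebraicGeometry
open Curves

namespace Groth.Agent.S0208

/-- Let K be a field such that every finite extension K' of K has trivial Brauer group: every
finite-dimensional central division algebra over K' is K' itself. Then for every torsion abelian
sheaf F on the small étale site of Spec K and every q ≥ 2, H^q(Spec K_ét, F) = 0. (This is the
étale-site form of the corresponding vanishing of Galois cohomology of K.) -/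
theorem result (K : Type u) [Field K]
    (hBr : ∀ (K' : Type u) [Field K'] [Algebra K K'] [FiniteDimensional K K']
      (D : Type u) [DivisionRing D] [Algebra K' D] [Algebra.IsCentral K' D] [FiniteDimensional K' D],
      Module.finrank K' D = 1)
    (F : EtCoh.Ab (Spec (CommRingCat.of K))) (hF : EtCoh.IsTorsion F) (q : ℕ) (hq : 2 ≤ q) :
    Subsingleton (EtCoh.H (Spec (CommRingCat.of K)) F q) := by
  exact FieldBr3.subsingleton_H_torsion K (FieldBr3.normSurj_of_brauer K hBr) F hF hq

end Groth.Agent.S0208
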