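import Groth.Statements.S0215
import Groth.Agent.Lib.UnitsFG.Global
import Mathlib.GroupTheory.Finiteness
import Mathlib.RingTheory.Noetherian.Basic
import Mathlib.GroupTheory.QuotientGroup.Basic
import Mathlib.RingTheory.Finiteness.Basic
-- import your own Groth.Agent.* helpers here

set_option autoImplicit false
universe u
open CategoryTheory CategoryTheory.Limits AlgebraicGeometry TopologicalSpace
open Curves

namespace Groth.Agent.S0215
open Groth.Agent
set_option linter.style.haveILetI false

/-- For a connected reduced scheme locally of finite type over a field k with finitely many irreducible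
components, in which every global function integral over k is a constant, the group of invertible
global functions modulo nonzero constants is finitely generated. -/
theorem result (k : Type u) [Field k] (X : Scheme.{u}) (f : X ⟶ Spec (CommRingCat.of k))
    [LocallyOfFiniteType f] [IsReduced X] [ConnectedSpace X] (hirr : (irreducibleComponents (X : Type u)).Finite)
    (hint : ∀ x : Γ(X, ⊤), (f.appTop.hom.comp (Scheme.ΓSpecIso (CommRingCat.of k)).inv.hom).IsIntegralElem x →
      x ∈ Set.range (f.appTop.hom.comp (Scheme.ΓSpecIso (CommRingCat.of k)).inv.hom)) :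
    Group.FG ((Γ(X, ⊤))ˣ ⧸ (Units.map ((f.appTop.hom.comp (Scheme.ΓSpecIso (CommRingCat.of k)).inv.hom : k →+* Γ(X, ⊤)) : k →* Γ(X, ⊤))).range) := by
  obtain ⟨ι, hι, φ, hφ⟩ := UnitsFG.exists_hom_global f hirr
  set H := (Units.map ((f.appTop.hom.comp (Scheme.ΓSpecIso (CommRingCat.of k)).inv.hom : k →+* Γ(X, ⊤)) :
    k →* Γ(X, ⊤))).range with hH
  have hker : φ.ker ≤ H := by
    intro u hu
    obtain ⟨c, hc⟩ := hint _ (hφ u hu)
    have hc0 : c ≠ 0 := by
      rintro rfl
      rw [map_zero] at hc
      haveI : Nontrivial Γ(X, ⊤) := by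
        obtain ⟨x⟩ : Nonempty X := ConnectedSpace.toNonempty
        haveI : Nonempty (⊤ : X.Opens) := ⟨⟨x, trivial⟩⟩
        infer_instance
      exact u.ne_zero hc.symm
    exact ⟨Units.mk0 c hc0, Units.ext hc⟩
  haveI : AddMonoid.FG (ι → ℤ) :=
    AddGroup.fg_iff_addMonoid_fg.1 (Module.Finite.iff_addGroup_fg.1 inferInstance)
  haveI : Group.FG (Multiplicative (ι → ℤ)) := by
    rw [← AddGroup.fg_iff_mul_fg]
    exact AddGroup.fg_iff_addMonoid_fg.2 inferInstance
  haveI hR : Group.FG φ.range := by
    have hS : (AddSubgroup.toIntSubmodule (Subgroup.toAddSubgroup' φ.range)).FG := IsNoetherian.noetherian _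
    rw [Submodule.fg_iff_addSubgroup_fg, AddSubgroup.toIntSubmodule_toAddSubgroup] at hS
    exact (Group.fg_iff_subgroup_fg _).2 ((Subgroup.fg_iff_add_fg _).2 hS)
  haveI : Group.FG ((Γ(X, ⊤))ˣ ⧸ φ.ker) :=
    Group.fg_of_surjective (f := (QuotientGroup.quotientKerEquivRange φ).symm.toMonoidHom)
      (MulEquiv.surjective _)
  exact Group.fg_of_surjective
    (f := QuotientGroup.map φ.ker H (MonoidHom.id _) hker)
    (fun y => by
      obtain ⟨z, rfl⟩ := QuotientGroup.mk_surjective y
      exact ⟨QuotientGroup.mk z, rfl⟩)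

end Groth.Agent.S0215
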