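import Groth.Statements.S0216
import Groth.Agent.Lib.UnitsFG.Global
import Mathlib.GroupTheory.Finiteness
import Mathlib.RingTheory.Noetherian.Basic
import Mathlib.GroupTheory.QuotientGroup.Basic
import Mathlib.RingTheory.Finiteness.Basic
-- import your own Groth.Agent.* helpers here

set_option autoImplicit false
universe u
open CategoryTheory CategoryTheory.Limits AlgebraicGeometry TopologicalSpace
open Curves

namespace Groth.Agent.S0216
open Groth.Agent
set_option linter.style.haveILetI false

/-- If a connected reduced scheme is locally of finite type over two fields k₁ and k₂, then a global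
function is integral over k₁ exactly when it is integral over k₂ (the integral closures of the two
base fields in the global functions coincide). -/
theorem result (X : Scheme.{u}) [IsReduced X] [ConnectedSpace X]
    (k₁ k₂ : Type u) [Field k₁] [Field k₂]
    (a : X ⟶ Spec (CommRingCat.of k₁)) (b : X ⟶ Spec (CommRingCat.of k₂))
    [LocallyOfFiniteType a] [LocallyOfFiniteType b] (x : Coh.Γtop X) :
    (Coh.toGlobal a).IsIntegralElem x ↔ (Coh.toGlobal b).IsIntegralElem x := by
  suffices key : ∀ (K₁ K₂ : Type u) [Field K₁] [Field K₂] (a : X ⟶ Spec (CommRingCat.of K₁))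
      (b : X ⟶ Spec (CommRingCat.of K₂)) [LocallyOfFiniteType b],
      (UnitsFG.globalMap a).IsIntegralElem x → (UnitsFG.globalMap b).IsIntegralElem x from
    ⟨key k₁ k₂ a b, key k₂ k₁ b a⟩
  intro K₁ K₂ _ _ a b _ hx
  letI : Algebra K₂ Γ(X, ⊤) := (UnitsFG.globalMap b).toAlgebra
  obtain ⟨p, hp, hpx⟩ := hx
  have hc : ∀ n, (UnitsFG.globalMap a) (p.coeff n) ∈ (integralClosure K₂ Γ(X, ⊤)).toSubring :=
    fun n => UnitsFG.isIntegralElem_of_field_hom b (UnitsFG.globalMap a) _
  have hall : ∀ c, c ∈ (p.map (UnitsFG.globalMap a)).coeffs →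
      c ∈ (integralClosure K₂ Γ(X, ⊤)).toSubring := fun c hc' => by
    obtain ⟨n, -, rfl⟩ := Polynomial.mem_coeffs_iff.1 hc'
    rw [Polynomial.coeff_map]
    exact hc n
  have main : ∀ y : Γ(X, ⊤), Polynomial.eval₂ (UnitsFG.globalMap a) y p = 0 → IsIntegral K₂ y := by
    intro y hy
    refine isIntegral_trans (R := K₂) (A := integralClosure K₂ Γ(X, ⊤)) y ?_
    refine ⟨(p.map (UnitsFG.globalMap a)).toSubring _ hall, (Polynomial.monic_toSubring _ _ hall).2 (hp.map _), ?_⟩
    have h1 : ((p.map (UnitsFG.globalMap a)).toSubring _ hall).map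
        (algebraMap (integralClosure K₂ Γ(X, ⊤)) Γ(X, ⊤)) = p.map (UnitsFG.globalMap a) :=
      Polynomial.map_toSubring _ _ hall
    rw [← Polynomial.eval_map, h1, Polynomial.eval_map]
    exact hy
  exact main x hpx

end Groth.Agent.S0216
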