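import Groth.Statements.S0217
import Groth.Agent.Lib.CodimAffNN12.Finite
-- import your own Groth.Agent.* helpers here

set_option autoImplicit false
set_option backward.isDefEq.respectTransparency false
universe u
open CategoryTheory CategoryTheory.Limits AlgebraicGeometry TopologicalSpace Groth.Agent
open Curves

namespace Groth.Agent.S0217

/-- On a separated scheme whose quasi-compact opens have finitely many irreducible components, any
finite set of points with Noetherian local rings of dimension at most one lies in a common affine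
open. -/
theorem result (X : Scheme.{u}) [X.IsSeparated]
    (hirr : ∀ U : X.Opens, IsCompact (U : Set X) → (irreducibleComponents (U : Set X)).Finite)
    (s : Finset X) (hs : ∀ x ∈ s, IsNoetherianRing (X.presheaf.stalk x) ∧ ringKrullDim (X.presheaf.stalk x) ≤ 1) :
    ∃ U : X.Opens, IsAffineOpen U ∧ ∀ x ∈ s, x ∈ U := by
  classical
  choose V hV hzV _ using fun z : (s : Set X) => exists_isAffineOpen_mem_and_subset (X := X) (x := z.1) (U := ⊤) trivial
  let X₀ : X.Opens := ⨆ z : (s : Set X), V z
  have hc : IsCompact (X₀ : Set X) := by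
    show IsCompact ((⨆ z : (s : Set X), V z : X.Opens) : Set X)
    rw [TopologicalSpace.Opens.coe_iSup]
    exact isCompact_iUnion fun z => (hV z).isCompact
  haveI : X₀.toScheme.IsSeparated := ⟨by
    rw [show Limits.terminal.from X₀.toScheme = X₀.ι ≫ Limits.terminal.from X from Subsingleton.elim _ _]
    infer_instance⟩
  obtain ⟨W, hW, hPW⟩ := CodimAffNN12.exists_affine_finite (X := X₀.toScheme) (X₀.ι ⁻¹' (s : Set X))
    (s.finite_toSet.preimage X₀.ι.isOpenEmbedding.injective.injOn) (hirr X₀ hc)
    (fun z hz => by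
      haveI : IsNoetherianRing (X.presheaf.stalk (X₀.ι z)) := (hs _ hz).1
      exact @isNoetherianRing_of_ringEquiv _ _ _ _ (X₀.stalkIso z).commRingCatIsoToRingEquiv.symm (hs _ hz).1)
    (fun z hz => (ringKrullDim_eq_of_ringEquiv (X₀.stalkIso z).commRingCatIsoToRingEquiv).trans_le (hs _ hz).2)
  refine ⟨X₀.ι ''ᵁ W, hW.image_of_isOpenImmersion X₀.ι, fun z hz => ?_⟩
  have hzX : z ∈ X₀ := TopologicalSpace.Opens.mem_iSup.2 ⟨⟨z, hz⟩, hzV ⟨z, hz⟩⟩
  exact ⟨⟨z, hzX⟩, hPW (show X₀.ι ⟨z, hzX⟩ ∈ (s : Set X) from hz), rfl⟩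

end Groth.Agent.S0217
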