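import Groth.Statements.S0218
import Mathlib.Algebra.DualNumber
import Mathlib.RingTheory.Adjoin.Polynomial.Basic
import Mathlib.FieldTheory.Minpoly.Field
import Mathlib.FieldTheory.IsAlgClosed.Basic
import Mathlib.Tactic

set_option autoImplicit false
universe u
open Curves

namespace Groth.Agent.S0218

/-- Over an algebraically closed field k, a commutative k-algebra with exactly two k-subalgebras is
isomorphic to k × k or to the dual numbers over k. -/
theorem result (k : Type u) [Field k] [IsAlgClosed k] (A : Type u) [CommRing A] [Algebra k A]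
    (h : Nat.card (Subalgebra k A) = 2) :
    Nonempty (A ≃ₐ[k] (k × k)) ∨ Nonempty (A ≃ₐ[k] DualNumber k) := by
  classical
  haveI : Finite (Subalgebra k A) := Nat.finite_of_card_ne_zero (by omega)
  have hgen : ∀ a : A, a ∉ (⊥ : Subalgebra k A) → Algebra.adjoin k {a} = ⊤ := by
    intro a ha
    by_contra hne
    obtain ⟨x, y, -, hxy⟩ := Nat.card_eq_two_iff.1 h
    have hm : ∀ S : Subalgebra k A, S = x ∨ S = y := fun S => by
      have h1 : S ∈ ({x, y} : Set (Subalgebra k A)) := hxy ▸ Set.mem_univ S
      simpa using h1
    have h0 : (⊥ : Subalgebra k A) ≠ Algebra.adjoin k {a} := fun e => ha (e ▸ Algebra.subset_adjoin rfl)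
    have h1 : (⊥ : Subalgebra k A) ≠ ⊤ := fun e => ha (e ▸ Algebra.mem_top)
    rcases hm ⊥ with e1 | e1 <;> rcases hm ⊤ with e2 | e2 <;> rcases hm (Algebra.adjoin k {a}) with e3 | e3 <;>
      simp_all
  obtain ⟨a, ha⟩ : ∃ a : A, a ∉ (⊥ : Subalgebra k A) := by
    by_contra! hc
    have : Subsingleton (Subalgebra k A) :=
      subsingleton_of_bot_eq_top (eq_top_iff.2 fun x _ => hc x)
    rw [Nat.card_of_subsingleton (⊥ : Subalgebra k A)] at h
    omega
  haveI : Nontrivial A := by
    by_contra hn
    rw [not_nontrivial_iff_subsingleton] at hn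
    exact ha (Subsingleton.elim (algebraMap k A 0) a ▸ Subalgebra.algebraMap_mem _ 0)
  have key : ∃ b : A, b ∉ (⊥ : Subalgebra k A) ∧ (b * b = 0 ∨ b * b = b) := by
    by_cases hint : IsIntegral k a
    · have hf0 := minpoly.monic hint
      obtain ⟨r, hr⟩ := IsAlgClosed.exists_root (minpoly k a) (minpoly.degree_pos hint).ne'
      obtain ⟨g, hg⟩ := Polynomial.dvd_iff_isRoot.2 hr
      have hmul : (a - algebraMap k A r) * Polynomial.aeval a g = 0 := by
        have := minpoly.aeval k a
        rw [hg, map_mul, map_sub, Polynomial.aeval_X, Polynomial.aeval_C] at this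
        exact this
      have hg0 : g ≠ 0 := fun e => hf0.ne_zero (by rw [hg, e, mul_zero])
      have hdeg : g.degree < (minpoly k a).degree := by
        rw [hg, Polynomial.degree_mul, Polynomial.degree_X_sub_C, Polynomial.degree_eq_natDegree hg0]
        norm_cast
        omega
      have hga : Polynomial.aeval a g ≠ 0 := fun e =>
        absurd (minpoly.degree_le_of_ne_zero k a hg0 e) (not_le.2 hdeg)
      by_cases hgr : g.IsRoot r
      · obtain ⟨h', hh'⟩ := Polynomial.dvd_iff_isRoot.2 hgr
        have hsq : Polynomial.aeval a g * Polynomial.aeval a g = 0 := by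
          conv_lhs => enter [2]; rw [hh', map_mul, map_sub, Polynomial.aeval_X, Polynomial.aeval_C]
          rw [← mul_assoc, mul_comm (Polynomial.aeval a g), hmul, zero_mul]
        refine ⟨_, fun hb => hga ?_, Or.inl hsq⟩
        obtain ⟨c, hc⟩ := Algebra.mem_bot.1 hb
        rw [← hc, ← map_mul] at hsq
        have hc0 : c = 0 := mul_self_eq_zero.1 ((map_eq_zero _).1 hsq)
        rw [← hc, hc0, map_zero]
      · have hc : g.eval r ≠ 0 := hgr
        have hrel : Polynomial.aeval a g * (Polynomial.aeval a g - algebraMap k A (g.eval r)) = 0 := by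
          obtain ⟨q, hq⟩ : Polynomial.X - Polynomial.C r ∣ g - Polynomial.C (g.eval r) := by
            rw [Polynomial.dvd_iff_isRoot]
            simp
          have hq' := congrArg (Polynomial.aeval a) hq
          rw [map_sub, Polynomial.aeval_C, map_mul, map_sub, Polynomial.aeval_X, Polynomial.aeval_C] at hq'
          rw [hq', ← mul_assoc, mul_comm (Polynomial.aeval a g), hmul, zero_mul]
        set e := algebraMap k A (g.eval r)⁻¹ * Polynomial.aeval a g with he
        have hcc : algebraMap k A (g.eval r)⁻¹ * algebraMap k A (g.eval r) = 1 := by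
          rw [← map_mul, inv_mul_cancel₀ hc, map_one]
        have hsq : e * e = e := by
          rw [mul_sub, sub_eq_zero] at hrel
          calc e * e = algebraMap k A (g.eval r)⁻¹ * algebraMap k A (g.eval r)⁻¹ *
                (Polynomial.aeval a g * Polynomial.aeval a g) := by rw [he]; ring
            _ = algebraMap k A (g.eval r)⁻¹ * (algebraMap k A (g.eval r)⁻¹ * algebraMap k A (g.eval r)) *
                Polynomial.aeval a g := by rw [hrel]; ring
            _ = e := by rw [hcc, mul_one]
        refine ⟨e, fun hb => ?_, Or.inr hsq⟩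
        obtain ⟨c, hc'⟩ := Algebra.mem_bot.1 hb
        have h2 : (a - algebraMap k A r) * e = 0 := by rw [he, mul_left_comm, hmul, mul_zero]
        have hc0 : c ≠ 0 := fun e0 => hga (by
          have : algebraMap k A (g.eval r) * e = Polynomial.aeval a g := by
            rw [he, ← mul_assoc, mul_comm (algebraMap k A (g.eval r)), hcc, one_mul]
          rw [← this, ← hc', e0, map_zero, mul_zero])
        rw [← hc'] at h2
        have h3 := ((isUnit_iff_ne_zero.2 hc0).map (algebraMap k A)).mul_left_eq_zero.1 h2
        exact ha (by rw [sub_eq_zero.1 h3]; exact Subalgebra.algebraMap_mem _ r)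
    · exfalso
      have hinj : Function.Injective (Polynomial.aeval (R := k) a) := by
        rw [injective_iff_map_eq_zero]
        intro p hp
        by_contra hp0
        exact hint (isAlgebraic_iff_isIntegral.1 ⟨p, hp0, hp⟩)
      have ha2 : a ^ 2 ∉ (⊥ : Subalgebra k A) := fun hb => by
        obtain ⟨c, hc⟩ := Algebra.mem_bot.1 hb
        have h4 : (Polynomial.X ^ 2 : Polynomial k) = Polynomial.C c := hinj (by simp [hc])
        simpa using congrArg Polynomial.natDegree h4
      have hm : a ∈ Algebra.adjoin k ({a ^ 2} : Set A) := hgen _ ha2 ▸ Algebra.mem_top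
      rw [Algebra.adjoin_singleton_eq_range_aeval] at hm
      obtain ⟨p, hp⟩ := hm
      have h4 : p.comp (Polynomial.X ^ 2) = Polynomial.X := hinj (by
        rw [Polynomial.aeval_comp, map_pow, Polynomial.aeval_X]
        exact hp)
      have h5 := congrArg Polynomial.natDegree h4
      rw [Polynomial.natDegree_comp, Polynomial.natDegree_X_pow, Polynomial.natDegree_X] at h5
      omega
  obtain ⟨b, hb, hbb⟩ := key
  have hbot : ∀ c : k, b ≠ algebraMap k A c := fun c e => hb (e ▸ Subalgebra.algebraMap_mem _ c)
  have hind : ∀ x y : k, algebraMap k A x + y • b = 0 → x = 0 ∧ y = 0 := fun x y hxy => by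
    by_cases hy : y = 0
    · subst hy
      rw [zero_smul, add_zero, map_eq_zero] at hxy
      exact ⟨hxy, rfl⟩
    · exfalso
      apply hbot (-(y⁻¹ * x))
      rw [map_neg, map_mul, eq_neg_iff_add_eq_zero, add_comm]
      have hy1 : algebraMap k A y⁻¹ * algebraMap k A y = 1 := by
        rw [← map_mul, inv_mul_cancel₀ hy, map_one]
      rw [Algebra.smul_def] at hxy
      linear_combination (algebraMap k A y⁻¹) * hxy - b * hy1
  rcases hbb with hbb | hbb
  · right
    let φ : DualNumber k →ₐ[k] A := DualNumber.lift ⟨(Algebra.ofId k A, b), hbb, fun r => mul_comm _ _⟩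
    refine ⟨(AlgEquiv.ofBijective φ ⟨?_, ?_⟩).symm⟩
    · rw [injective_iff_map_eq_zero]
      intro z hz
      rw [← TrivSqZeroExt.inl_fst_add_inr_snd_eq z] at hz ⊢
      have hz' : algebraMap k A z.fst + z.snd • b = 0 := by
        simpa [φ, DualNumber.lift_apply_apply, Algebra.smul_def, Algebra.ofId_apply, TrivSqZeroExt.algebraMap_eq_inl] using hz
      obtain ⟨h1, h2⟩ := hind _ _ hz'
      simp [h1, h2]
    · intro z
      have : z ∈ φ.range := by
        have hle : Algebra.adjoin k {b} ≤ φ.range := Algebra.adjoin_le (by
          rintro _ rfl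
          exact ⟨DualNumber.eps, by simp [φ]⟩)
        exact (hgen b hb ▸ hle) Algebra.mem_top
      exact this
  · left
    let φ : (k × k) →ₐ[k] A :=
      { toFun := fun p => p.1 • b + p.2 • (1 - b)
        map_one' := by simp
        map_mul' := fun p q => by
          simp only [Prod.fst_mul, Prod.snd_mul, Algebra.smul_def, map_mul]
          linear_combination (-(algebraMap k A p.1 * algebraMap k A q.1) - algebraMap k A p.2 * algebraMap k A q.2
            + algebraMap k A p.1 * algebraMap k A q.2 + algebraMap k A p.2 * algebraMap k A q.1) * hbb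
        map_zero' := by simp
        map_add' := fun p q => by simp only [Prod.fst_add, Prod.snd_add, add_smul]; abel
        commutes' := fun r => by
          simp only [Prod.algebraMap_apply, Algebra.algebraMap_self, RingHom.id_apply, Algebra.smul_def]
          ring }
    refine ⟨(AlgEquiv.ofBijective φ ⟨?_, ?_⟩).symm⟩
    · rw [injective_iff_map_eq_zero]
      rintro ⟨x, y⟩ hz
      have hz' : algebraMap k A y + (x - y) • b = 0 := by
        rw [← hz]
        simp only [φ, AlgHom.coe_mk, RingHom.coe_mk, MonoidHom.coe_mk, OneHom.coe_mk, Algebra.smul_def, map_sub]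
        ring
      obtain ⟨h1, h2⟩ := hind _ _ hz'
      simp [h1, sub_eq_zero.1 h2]
    · intro z
      have : z ∈ φ.range := by
        have hle : Algebra.adjoin k {b} ≤ φ.range := Algebra.adjoin_le (by
          rintro _ rfl
          exact ⟨(1, 0), by simp [φ]⟩)
        exact (hgen b hb ▸ hle) Algebra.mem_top
      exact this

end Groth.Agent.S0218
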