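import Groth.Prelude.Def_EtBase
import Mathlib.AlgebraicGeometry.Morphisms.Separated
import Mathlib.AlgebraicGeometry.Morphisms.FiniteType
import Mathlib.FieldTheory.IsAlgClosed.Basic
import Mathlib.Topology.KrullDimension
import Mathlib.Algebra.CharP.Defs
import Mathlib.Data.ZMod.Defs
import Groth.Agent.S0384
import Groth.Agent.Lib.CdpDim3.Main
import Groth.Agent.Lib.CdField3.Primary
import Groth.Agent.Lib.EtAcyc24.IntegralBase
-- import your own Groth.Agent.* helpers here

namespace Curves
end Curves

set_option autoImplicit false
universe u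
open CategoryTheory CategoryTheory.Limits AlgebraicGeometry
open Curves

namespace Groth.Agent.S0221

/-- For a separated finite type scheme of dimension d over an algebraically closed field of
characteristic p, étale cohomology with Z/p coefficients vanishes above degree d. -/
theorem result (k : Type u) [Field k] [IsAlgClosed k] (p : ℕ) [Fact p.Prime] [CharP k p]
    (X : Scheme.{u}) (f : X ⟶ Spec (CommRingCat.of k)) [IsSeparated f] [LocallyOfFiniteType f] [QuasiCompact f]
    (d : ℕ) (hd : topologicalKrullDim X = d) (q : ℕ) (hq : d + 1 ≤ q) :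
    Subsingleton (EtCoh.H X (EtCoh.const X (ZMod p)) q) := by
  obtain ⟨P, j, g, hj, -, hg, hjg⟩ := Groth.Agent.S0384.result f
  haveI := hj
  haveI := hg
  exact CdpDim3.cohDimLEAt_of_cpt (p := p) f
    (CdpDim3.cpt_of_immersion f g j hjg hd.le) _
    (CdField3.isPrimaryTorsion_of_nsmul_id (EtAcyc24.nsmul_id_const X p)) q (by omega)

end Groth.Agent.S0221
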