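import Groth.Statements.S0222
import Groth.Agent.Lib.BC8.LichMain
import Groth.Agent.Lib.CohFound.DevissageExt
import Groth.Agent.Lib.CohFound.ProperFinite
import Groth.Agent.Lib.AmpleFin18.PushEuler
import Groth.Agent.Lib.CurveCoh17.Euler
-- import your own Groth.Agent.* helpers here

set_option autoImplicit false
universe u
open CategoryTheory CategoryTheory.Limits AlgebraicGeometry
open Curves

namespace Groth.Agent.S0222

/-- For a separated scheme of finite type and dimension d over a field k and a coherent module F, the
top cohomology H^d(X, F) is finite-dimensional over k (no properness needed). -/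
theorem result (k : Type u) [Field k] (X : Scheme.{u}) [X.Over (Spec (CommRingCat.of k))]
    [IsSeparated (X ↘ Spec (CommRingCat.of k))] [LocallyOfFiniteType (X ↘ Spec (CommRingCat.of k))]
    [QuasiCompact (X ↘ Spec (CommRingCat.of k))]
    (F : X.Modules) (hF : Coh.IsCoh F) (d : ℕ) (hd : topologicalKrullDim X = d) :
    Module.Finite k (Coh.HH X F d) := by
  let f := X ↘ Spec (CommRingCat.of k)
  haveI : IsLocallyNoetherian X := LocallyOfFiniteType.isLocallyNoetherian f
  haveI : CompactSpace X := QuasiCompact.compactSpace_of_compactSpace f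
  haveI : IsNoetherian X := { }
  haveI : Nonempty X := by
    by_contra h
    rw [not_nonempty_iff] at h
    haveI : IsEmpty (TopologicalSpace.IrreducibleCloseds X) :=
      ⟨fun s => h.false s.isIrreducible.nonempty.some⟩
    rw [topologicalKrullDim, Order.krullDim_eq_bot] at hd
    exact absurd hd.symm (WithBot.coe_ne_bot)
  refine Groth.Agent.CohFound.holds_of_extensions (fun M => Module.Finite k (Coh.HH X M d)) ?_ ?_ ?_ hF
  · rintro M N ⟨e⟩ hM
    exact Module.Finite.equiv (Groth.Agent.CurveCoh17.hequiv k e d)
  · intro S hS h₁ _ h₃ (f₁ : Module.Finite k (Coh.HH X S.X₁ d)) (f₃ : Module.Finite k (Coh.HH X S.X₃ d))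
    haveI := f₁
    haveI := f₃
    exact Module.Finite.of_exact (f := Groth.Agent.CurveCoh17.hmap k S.f d)
      (g := (Groth.Agent.CurveCoh17.hmap k S.g d).rangeRestrict)
      (fun x => by
        rw [← Groth.Agent.CurveCoh17.exact_hmap_hmap k hS d x]
        exact ⟨fun h => congrArg Subtype.val h, fun h => Subtype.ext h⟩)
      (LinearMap.surjective_rangeRestrict _)
  · intro Z i hi hZ I ι _ hI
    haveI := hi
    haveI := hZ
    letI : Z.Over (Spec (CommRingCat.of k)) := ⟨i ≫ f⟩
    haveI : IsLocallyNoetherian Z := LocallyOfFiniteType.isLocallyNoetherian (i ≫ f)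
    obtain ⟨e⟩ := Groth.Agent.AmpleFin18.nonempty_HH_push (k := k) i rfl I hI d
    haveI : Module.Finite k (Coh.HH Z I d) := by
      by_cases hp : IsProper (i ≫ f)
      · haveI : IsProper (Z ↘ Spec (CommRingCat.of k)) := hp
        exact Groth.Agent.CohFound.finite_HH_of_isProper I
          (Groth.Agent.M1.isCoh_of_mono ι (Groth.Agent.M1.isCoh_structureModule Z) hI) d
      · haveI := Groth.Agent.BC8.subsingleton_HH_of_not_proper k Z (i ≫ f) hp d
          ((i.isClosedEmbedding.isInducing.topologicalKrullDim_le).trans hd.le) I hI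
        infer_instance
    exact Module.Finite.equiv e.symm

end Groth.Agent.S0222
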