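import Groth.Statements.S0224
import Groth.Agent.Lib.CurveH32.Coh

set_option autoImplicit false
universe u
open CategoryTheory CategoryTheory.Limits AlgebraicGeometry
open Curves

namespace Groth.Agent.S0224

/-- Let X be a smooth proper curve of genus g over an algebraically closed field k, the genus being
dim_k H¹(X, O_X), and let n ≥ 1 be an integer invertible in k. Then the first étale cohomology group
of X with coefficients in the constant sheaf ℤ/n is (noncanonically) isomorphic to (ℤ/n)^{2g}. (The
published statement assumes X projective; stated here for X proper.) -/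
theorem result (k : Type u) [Field k] [IsAlgClosed k] (X : Scheme.{u}) [X.Over (Spec (CommRingCat.of k))]
    (hX : Curve.IsSmoothProperCurve k X (X ↘ Spec (CommRingCat.of k)))
    (g : ℕ) (hg : Module.finrank k (Coh.HH X (Coh.structureModule X) 1) = g)
    (n : ℕ) (hn : 1 ≤ n) (hnk : (n : k) ≠ 0) :
    Nonempty (EtCoh.H X (EtCoh.const X (ZMod n)) 1 ≃+ (Fin (2 * g) → ZMod n)) := by
  obtain ⟨h1, h2, h3, hdim⟩ := hX
  haveI := h1
  haveI := h2
  haveI := h3
  obtain rfl : Curv2.genus k X = g := hg
  exact (Groth.Agent.CurveH32.nonempty_H_one_two hdim hn hnk).1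

end Groth.Agent.S0224
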