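import Groth.Statements.S0226
import Groth.Agent.Lib.RegLoc.UFD
-- import your own Groth.Agent.* helpers here

set_option autoImplicit false
universe u
open Curves

namespace Groth.Agent.S0226
open Groth.Agent
set_option linter.style.haveILetI false

/-- In a regular local ring of dimension two, an ideal inside the maximal ideal with reduced quotient is
zero, the maximal ideal, or principal. -/
theorem result (A : Type u) [CommRing A] [IsRegularLocalRing A] (hdim : ringKrullDim A = 2)
    (I : Ideal A) (hI : I ≤ IsLocalRing.maximalIdeal A) [IsReduced (A ⧸ I)] :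
    I = ⊥ ∨ I = IsLocalRing.maximalIdeal A ∨ ∃ f ∈ IsLocalRing.maximalIdeal A, f ≠ 0 ∧ I = Ideal.span {f} := by
  classical
  haveI := RegLoc.isDomain A
  haveI := RegLoc.ufd_of_isRegularLocalRing A
  rcases eq_or_ne I ⊥ with hI0 | hI0
  · exact Or.inl hI0
  right
  set m := IsLocalRing.maximalIdeal A with hm
  have hrad : I.IsRadical := (Ideal.isRadical_iff_quotient_reduced I).2 inferInstance
  by_cases hmin : m ∈ I.minimalPrimes
  · refine Or.inl (le_antisymm hI ?_)
    rw [← hrad.radical, ← Ideal.sInf_minimalPrimes]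
    refine le_sInf fun q hq => ?_
    have hqm : q ≤ m := IsLocalRing.le_maximalIdeal hq.1.1.ne_top
    exact hmin.2 hq.1 hqm
  right
  have hprin : ∀ q ∈ I.minimalPrimes, ∃ π : A, Prime π ∧ q = Ideal.span {π} := by
    intro q hq
    haveI := hq.1.1
    have hq0 : q ≠ ⊥ := fun h => hI0 (le_bot_iff.1 (h ▸ hq.1.2))
    obtain ⟨π, hπq, hπ⟩ := Ideal.IsPrime.exists_mem_prime_of_ne_bot hq.1.1 hq0
    refine ⟨π, hπ, ?_⟩
    by_contra hne
    have hπp : (Ideal.span {π}).IsPrime := (Ideal.span_singleton_prime hπ.ne_zero).2 hπ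
    have h1 : Ideal.span {π} < q :=
      lt_of_le_of_ne ((Ideal.span_singleton_le_iff_mem _).2 hπq) (Ne.symm hne)
    have h2 : q < m := lt_of_le_of_ne (IsLocalRing.le_maximalIdeal hq.1.1.ne_top) fun h => hmin (h ▸ hq)
    have h0 : (⊥ : Ideal A) < Ideal.span {π} :=
      bot_lt_iff_ne_bot.2 (by simpa [Ideal.span_singleton_eq_bot] using hπ.ne_zero)
    let s : LTSeries (PrimeSpectrum A) :=
      RelSeries.mk 3 ![⟨⊥, Ideal.isPrime_bot⟩, ⟨_, hπp⟩, ⟨q, hq.1.1⟩,
        ⟨m, (IsLocalRing.maximalIdeal.isMaximal A).isPrime⟩] (by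
          intro j
          fin_cases j <;> first | exact h0 | exact h1 | exact h2)
    have h3 : ((3 : ℕ) : WithBot ℕ∞) ≤ ringKrullDim A := Order.LTSeries.length_le_krullDim s
    rw [hdim] at h3
    norm_cast at h3
  choose π hπ hπq using hprin
  have hfin : I.minimalPrimes.Finite := Ideal.finite_minimalPrimes_of_isNoetherianRing A I
  have hne : hfin.toFinset.Nonempty := by
    obtain ⟨q, hq, -⟩ := Ideal.exists_minimalPrimes_le hI
    exact ⟨q, hfin.mem_toFinset.2 hq⟩
  have key : ∀ t : Finset I.minimalPrimes, ∀ x : A, (∀ q ∈ t, π q.1 q.2 ∣ x) →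
      (∏ q ∈ t, π q.1 q.2) ∣ x := by
    intro t
    induction t using Finset.induction_on with
    | empty => intro x _; simp
    | insert q t hqt ih =>
      intro x hx
      obtain ⟨y, rfl⟩ := ih x fun r hr => hx r (Finset.mem_insert_of_mem hr)
      rw [Finset.prod_insert hqt, mul_comm (π q.1 q.2)]
      refine mul_dvd_mul_left _ (((hπ q.1 q.2).dvd_or_dvd (hx q (Finset.mem_insert_self _ _))).resolve_left ?_)
      intro hd
      obtain ⟨r, hr, hd⟩ := (Prime.dvd_finsetProd_iff (hπ q.1 q.2) _).1 hd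
      have hle : r.1 ≤ q.1 := by
        rw [hπq r.1 r.2, hπq q.1 q.2]
        exact Ideal.span_singleton_le_span_singleton.2 hd
      exact hqt (Subtype.ext (le_antisymm (q.2.2 r.2.1 hle) hle) ▸ hr)
  haveI : Fintype I.minimalPrimes := hfin.fintype
  set f := ∏ q : I.minimalPrimes, π q.1 q.2 with hf
  have hIf : I = Ideal.span {f} := by
    refine le_antisymm (fun x hx => Ideal.mem_span_singleton.2 (key _ x fun q _ => ?_)) ?_
    · have := q.2.1.2 hx
      rwa [hπq q.1 q.2, Ideal.mem_span_singleton] at this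
    · rw [Ideal.span_singleton_le_iff_mem, ← hrad.radical, ← Ideal.sInf_minimalPrimes]
      refine Submodule.mem_sInf.2 fun q hq => ?_
      rw [hπq q hq, Ideal.mem_span_singleton]
      exact Finset.dvd_prod_of_mem (fun r : I.minimalPrimes => π r.1 r.2) (Finset.mem_univ ⟨q, hq⟩)
  refine ⟨f, hI ?_, Finset.prod_ne_zero_iff.2 fun q _ => (hπ q.1 q.2).ne_zero, hIf⟩
  rw [hIf]
  exact Ideal.mem_span_singleton_self f

end Groth.Agent.S0226
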