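import Groth.Statements.S0227
import Groth.Agent.Lib.FieldBr3.GenericPush
-- import your own Groth.Agent.* helpers here

set_option autoImplicit false
universe u
open CategoryTheory CategoryTheory.Limits AlgebraicGeometry
open Curves

namespace Groth.Agent.S0227

/-- On a smooth curve over an algebraically closed field the étale cohomology of G_m vanishes from
degree two on. -/
theorem result (k : Type u) [Field k] [IsAlgClosed k] (X : Scheme.{u}) (f : X ⟶ Spec (CommRingCat.of k))
    [Smooth f] [IsSeparated f] [LocallyOfFiniteType f] [QuasiCompact f] [IsIntegral X]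
    (hdim : topologicalKrullDim X = 1) (q : ℕ) (hq : 2 ≤ q) :
    Subsingleton (EtCoh.H X (EtCoh.Gm X) q) := by
  exact Groth.Agent.FieldBr3.subsingleton_H_Gm_curve f hdim.le hq

end Groth.Agent.S0227
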