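import Groth.Statements.S0228
import Groth.Agent.Lib.FieldBr3.CohDim
import Groth.Agent.Lib.FieldBr3.Brauer
-- import your own Groth.Agent.* helpers here

set_option autoImplicit false
universe u
open CategoryTheory CategoryTheory.Limits AlgebraicGeometry
open Curves

namespace Groth.Agent.S0228

/-- Let K be a field such that every finite extension K' of K has trivial Brauer group: every
finite-dimensional central division algebra over K' is K' itself. Then for every q ≥ 1, H^q(Spec
K_ét, G_m) = 0. (This is the étale-site form of the vanishing of the Galois cohomology of (K^sep)^*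
in positive degrees.) -/
theorem result (K : Type u) [Field K]
    (hBr : ∀ (K' : Type u) [Field K'] [Algebra K K'] [FiniteDimensional K K']
      (D : Type u) [DivisionRing D] [Algebra K' D] [Algebra.IsCentral K' D] [FiniteDimensional K' D],
      Module.finrank K' D = 1)
    (q : ℕ) (hq : 1 ≤ q) :
    Subsingleton (EtCoh.H (Spec (CommRingCat.of K)) (EtCoh.Gm (Spec (CommRingCat.of K))) q) := by
  exact FieldBr3.subsingleton_H_Gm K (FieldBr3.normSurj_of_brauer K hBr) hq

end Groth.Agent.S0228
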