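import Groth.Statements.S0232
import Groth.Agent.Lib.PicExt1.Alg
import Groth.Agent.Lib.RefHull26.ClassLaw
import Groth.Agent.Lib.CohBC18.Field
import Groth.Agent.Lib.CurveCoh17.Skyscraper
import Groth.Agent.Lib.CubeField.Simple
import Groth.Agent.Lib.Ample18.Sections
import Groth.Agent.Lib.PicDesc21.Classes

set_option autoImplicit false
universe u
open CategoryTheory CategoryTheory.Limits AlgebraicGeometry
open Curves

namespace Groth.Agent.S0232

section Aux
open TopologicalSpace Opposite TensorProduct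
open Groth.Agent Groth.Agent.CohFound Groth.Agent.CohBC18

set_option backward.isDefEq.respectTransparency false
set_option linter.style.haveILetI false
set_option maxHeartbeats 1000000

variable (k : Type u) [Field k] (X : Scheme.{u}) [X.Over (Spec (CommRingCat.of k))]
  [CompactSpace X] [QuasiSeparatedSpace X] (k' : Type u) [Field k'] [Algebra k k']

theorem surjective_functions :
    ∀ a' : Γ(Curv2.bc k X k', ⊤), ∀ S : AddSubgroup Γ(Curv2.bc k X k', ⊤),
      (∀ (c : k') (a : Γ(X, ⊤)), φk' X k' c * (Curv2.bcFst k X k').appTop a ∈ S) → a' ∈ S := by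
  let g : Spec (CommRingCat.of k') ⟶ Spec (CommRingCat.of k) := Spec.map (CommRingCat.ofHom (algebraMap k k'))
  have H : IsPullback (Curv2.bcFst k X k') (Curv2.bcSnd k X k') (X ↘ Spec (CommRingCat.of k)) g :=
    IsPullback.of_hasPullback _ _
  haveI : Flat g := Flat.SpecMap_iff.2 ((RingHom.flat_algebraMap_iff).2 inferInstance)
  have h1 := (isIso_pushoutSection_iff (US := ⊤) (UT := ⊤) (UX := ⊤) (UY := ⊤) H (by simp) (by simp) (by simp)).1
    (isIso_pushoutSection_of_isQuasiSeparated_of_flat_right H _ _ _ (isAffineOpen_top _) (isAffineOpen_top _)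
      isCompact_univ (isQuasiSeparated_univ_iff.2 inferInstance))
  letI a0 : Algebra k Γ(X, ⊤) := (φk (k := k) X).toAlgebra
  letI a1 : Algebra k' Γ(Curv2.bc k X k', ⊤) := (φk' (k := k) X k').toAlgebra
  letI a2 : Algebra Γ(X, ⊤) Γ(Curv2.bc k X k', ⊤) := (Curv2.bcFst k X k').appTop.hom.toAlgebra
  letI a3 : Algebra k Γ(Curv2.bc k X k', ⊤) :=
    ((algebraMap Γ(X, ⊤) Γ(Curv2.bc k X k', ⊤)).comp (algebraMap k Γ(X, ⊤))).toAlgebra
  haveI : IsScalarTower k Γ(X, ⊤) Γ(Curv2.bc k X k', ⊤) := IsScalarTower.of_algebraMap_eq' rfl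
  have hpo' : IsPushout (CommRingCat.ofHom (algebraMap k Γ(X, ⊤))) (CommRingCat.ofHom (algebraMap k k'))
      (CommRingCat.ofHom (algebraMap Γ(X, ⊤) Γ(Curv2.bc k X k', ⊤)))
      (CommRingCat.ofHom (algebraMap k' Γ(Curv2.bc k X k', ⊤))) := by
    refine h1.of_iso (Scheme.ΓSpecIso (CommRingCat.of k)) (Iso.refl _) (Scheme.ΓSpecIso (CommRingCat.of k'))
      (Iso.refl _) ?_ ?_ ?_ ?_
    · rw [Iso.refl_hom, Category.comp_id, ← Iso.inv_comp_eq]
      simp only [Scheme.Hom.appLE, homOfLE_refl, op_id]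
      erw [CategoryTheory.Functor.map_id, Category.comp_id]
      rfl
    · rw [show g.appLE ⊤ ⊤ (by simp) = g.appTop from g.appLE_eq_app]
      exact Scheme.ΓSpecIso_naturality (CommRingCat.ofHom (algebraMap k k'))
    · rw [Iso.refl_hom, Category.comp_id, Iso.refl_hom, Category.id_comp]
      simp only [Scheme.Hom.appLE, homOfLE_refl, op_id]
      erw [CategoryTheory.Functor.map_id, Category.comp_id]
      rfl
    · rw [Iso.refl_hom, Category.comp_id, ← Iso.inv_comp_eq]
      simp only [Scheme.Hom.appLE, homOfLE_refl, op_id]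
      erw [CategoryTheory.Functor.map_id, Category.comp_id]
      rfl
  haveI : IsScalarTower k k' Γ(Curv2.bc k X k', ⊤) :=
    IsScalarTower.of_algebraMap_eq' (congrArg CommRingCat.Hom.hom hpo'.w)
  haveI hP : Algebra.IsPushout k Γ(X, ⊤) k' Γ(Curv2.bc k X k', ⊤) := CommRingCat.isPushout_iff_isPushout.1 hpo'
  intro a' S hS
  obtain ⟨z, rfl⟩ := (Algebra.IsPushout.equiv k Γ(X, ⊤) k' Γ(Curv2.bc k X k', ⊤)).surjective a'
  induction z with
  | zero => rw [map_zero]; exact zero_mem S
  | tmul a c =>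
    rw [Algebra.IsPushout.equiv_tmul, mul_comm]
    exact hS c a
  | add x y hx hy => rw [map_add]; exact add_mem hx hy

theorem finite_functions (hfin : Module.Finite k (Coh.HH X (Coh.structureModule X) 0)) :
    letI : Algebra k Γ(X, ⊤) := (φk (k := k) X).toAlgebra
    Module.Finite k Γ(X, ⊤) := by
  letI : Algebra k Γ(X, ⊤) := (φk (k := k) X).toAlgebra
  let e := CurveCoh17.hh0 (Coh.structureModule X)
  have hsmul : ∀ (a : k) (x : Coh.HH X (Coh.structureModule X) 0),
      (show Γ(X, ⊤) from e (a • x)) = a • (show Γ(X, ⊤) from e x) := fun a x => by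
    rw [Algebra.smul_def]
    exact CurveCoh17.hh0_smul (M := Coh.structureModule X) _ x
  let L : Coh.HH X (Coh.structureModule X) 0 →ₗ[k] Γ(X, ⊤) :=
    { toFun := fun x => e x
      map_add' := fun x y => map_add e x y
      map_smul' := hsmul }
  exact Module.Finite.of_surjective L e.surjective

theorem trivial_of_bc (hfin : Module.Finite k (Coh.HH X (Coh.structureModule X) 0))
    (L : X.Modules) (hL : PicF.IsInvertible L)
    (htriv : PicF.IsTrivialCl (PicF.pullCl (Curv2.bcFst k X k') (PicF.cl L))) :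
    PicF.IsTrivialCl (PicF.cl L) := by
  classical
  let p := Curv2.bcFst k X k'
  let L' := (Scheme.Modules.pullback p).obj L
  obtain ⟨ι⟩ : Nonempty (L' ≅ Coh.structureModule (Curv2.bc k X k')) := RH26.nonempty_iso_of_cl htriv
  let t' : Γ(L', ⊤) := ι.inv.app ⊤ (M1.one ⊤)
  have hgen : ∀ x, Amp.Gen (Amp.gm L' x (U := ⊤) trivial t') := fun x =>
    (Amp.gen_map_iso ι.symm (U := ⊤) (x := x) trivial (M1.one ⊤)).mpr (Amp.gen_one (U := ⊤) x trivial)
  have hcyc : ∀ n : Γ(L', ⊤), ∃ a' : Γ(Curv2.bc k X k', ⊤), n = a' • t' := fun n => by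
    refine ⟨(show Γ(Curv2.bc k X k', ⊤) from ι.hom.app ⊤ n), ?_⟩
    show n = _ • ι.inv.app ⊤ (M1.one ⊤)
    rw [← Scheme.Modules.Hom.app_smul, show (show Γ(Curv2.bc k X k', ⊤) from ι.hom.app ⊤ n) • M1.one (⊤ : (Curv2.bc k X k').Opens) = ι.hom.app ⊤ n from _root_.mul_one (show Γ(Curv2.bc k X k', ⊤) from ι.hom.app ⊤ n)]
    exact (congrArg (fun φ => φ.app ⊤ n) ι.hom_inv_id).symm
  letI : Algebra k Γ(X, ⊤) := (φk (k := k) X).toAlgebra
  haveI : Module.Finite k Γ(X, ⊤) := finite_functions k X hfin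
  haveI : IsArtinianRing Γ(X, ⊤) := IsArtinianRing.of_finite k Γ(X, ⊤)
  letI : Module k Γ(L, ⊤) := Module.compHom _ (algebraMap k Γ(X, ⊤))
  haveI : IsScalarTower k Γ(X, ⊤) Γ(L, ⊤) := IsScalarTower.of_algebraMap_smul fun _ _ => rfl
  letI : Module k' Γ(L', ⊤) := Module.compHom _ (φk' (k := k) X k')
  letI : Module k Γ(L', ⊤) := Module.compHom _ (algebraMap k k')
  haveI : IsScalarTower k k' Γ(L', ⊤) := IsScalarTower.of_algebraMap_smul fun _ _ => rfl
  let ps : Γ(L, ⊤) → Γ(L', ⊤) := fun m => M2.pullSec p L m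
  have ps_add : ∀ m n, ps (m + n) = ps m + ps n := fun m n => M2.pullSec_add p L m n
  have ps_smul : ∀ (a : Γ(X, ⊤)) (m : Γ(L, ⊤)), ps (a • m) = (show Γ(Curv2.bc k X k', ⊤) from p.appTop a) • ps m :=
    fun a m => M2.pullSec_smul p L a m
  have gadd : ∀ (x : Curv2.bc k X k') (u v : Γ(L', ⊤)), Amp.gm L' x (U := ⊤) trivial (u + v) =
      Amp.gm L' x (U := ⊤) trivial u + Amp.gm L' x (U := ⊤) trivial v := fun x u v => map_add (L'.presheaf.germ ⊤ x trivial).hom u v
  let π : Γ(L, ⊤) →ₗ[k] Γ(L', ⊤) :=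
    { toFun := ps
      map_add' := ps_add
      map_smul' := fun r m => by
        show ps (φk (k := k) X r • m) = φk' (k := k) X k' (algebraMap k k' r) • ps m
        rw [ps_smul, ← appTop_φk] }
  let Φ : k' ⊗[k] Γ(L, ⊤) →ₗ[k'] Γ(L', ⊤) := π.liftBaseChange k'
  have hΦ : Function.Bijective Φ := by
    let b := Module.Basis.ofVectorSpace k k'
    have hf := bijective_fam_bc (k := k) X k' L (Twist.isQCoh_of_isInvertible hL) b 0
    let e := (Finsupp.mapRange.addEquiv (ι := Module.Basis.ofVectorSpaceIndex k k') (hc0 ((abF X).obj L) ⊤)).trans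
      (TensorProduct.equivFinsuppOfBasisLeft b (N := Γ(L, ⊤))).symm.toAddEquiv
    have key : ∀ z, hc0 ((abF X).obj (M'' (k := k) X k' L)) ⊤ (fam (fun i => psi (k := k) X k' L (b i)) 0 ⊤ z) = Φ (e z) := by
      intro z
      induction z using Finsupp.induction_linear with
      | zero => simp only [map_zero]
      | add x y hx hy => simp only [map_add, hx, hy]
      | single i x =>
        rw [fam_single, hc0_mp]
        have he : e (Finsupp.single i x) = b i ⊗ₜ[k] (show Γ(L, ⊤) from hc0 ((abF X).obj L) ⊤ x) := by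
          refine ((TensorProduct.equivFinsuppOfBasisLeft b).symm_apply_eq).2 ?_
          rw [TensorProduct.equivFinsuppOfBasisLeft_apply_tmul, b.repr_self, Finsupp.mapRange_single, one_smul]
          exact (Finsupp.mapRange_single (hf := map_zero (hc0 ((abF X).obj L) ⊤)))
        refine Eq.trans ?_ (((congrArg Φ he).trans (LinearMap.liftBaseChange_tmul (A := k') π _ _)).symm)
        refine (psi_app (k := k) X k' L (b i) ⊤ _).trans ?_
        show (show Γ(Curv2.bc k X k', ⊤) from M1.ores _ (φk' (k := k) X k' (b i))) • ps _ = φk' (k := k) X k' (b i) • ps _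
        congr 1
        show (Curv2.bc k X k').presheaf.map _ (φk' (k := k) X k' (b i)) = _
        rw [show (homOfLE (le_top : (⊤ : (Curv2.bc k X k').Opens) ≤ ⊤)).op = 𝟙 _ from Subsingleton.elim _ _,
          CategoryTheory.Functor.map_id]
        rfl
    have hb : Function.Bijective (Φ ∘ e) := by
      rw [show (Φ ∘ e) = (hc0 ((abF X).obj (M'' (k := k) X k' L)) ⊤) ∘ fam (fun i => psi (k := k) X k' L (b i)) 0 ⊤ from
        (funext key).symm]
      exact (hc0 ((abF X).obj (M'' (k := k) X k' L)) ⊤).bijective.comp hf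
    exact (Function.Bijective.of_comp_iff _ e.bijective).1 hb
  obtain ⟨T, hT⟩ := hΦ.2 t'
  have hlmul : ∀ (a : Γ(X, ⊤)) (z : k' ⊗[k] Γ(L, ⊤)),
      Φ ((Algebra.lsmul k k Γ(L, ⊤) a).baseChange k' z) = (show Γ(Curv2.bc k X k', ⊤) from p.appTop a) • Φ z := by
    intro a z
    induction z with
    | zero => rw [map_zero, map_zero, smul_zero]
    | tmul c m =>
      show φk' (k := k) X k' c • ps (a • m) = (show Γ(Curv2.bc k X k', ⊤) from p.appTop a) • (φk' (k := k) X k' c • ps m)
      rw [ps_smul, smul_comm]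
    | add x y hx hy => rw [map_add, map_add, hx, hy, map_add, smul_add]
  have hspan : ∀ z : k' ⊗[k] Γ(L, ⊤), z ∈ Submodule.span k'
      (Set.range fun a : Γ(X, ⊤) => (Algebra.lsmul k k Γ(L, ⊤) a).baseChange k' T) := by
    intro z
    obtain ⟨a', ha'⟩ := hcyc (Φ z)
    let S := Submodule.span k' (Set.range fun a : Γ(X, ⊤) => (Algebra.lsmul k k Γ(L, ⊤) a).baseChange k' T)
    suffices h : Φ z ∈ S.map Φ by
      obtain ⟨w, hw, hwz⟩ := h
      exact hΦ.1 hwz ▸ hw
    rw [ha']
    refine surjective_functions k X k' a' ((S.map Φ).toAddSubgroup.comap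
      (AddMonoidHom.mk' (fun a : Γ(Curv2.bc k X k', ⊤) => a • t') (fun a b => add_smul a b t'))) ?_
    intro c a
    show (φk' X k' c * (show Γ(Curv2.bc k X k', ⊤) from p.appTop a)) • t' ∈ S.map Φ
    rw [mul_smul, ← hT, ← hlmul]
    exact Submodule.smul_mem _ c (Submodule.mem_map_of_mem (Submodule.subset_span ⟨a, rfl⟩))
  obtain ⟨s, hs⟩ := PicExt1.exists_span_singleton_mod_all
    (fun P hP => haveI := hP; PicExt1.exists_span_singleton_mod T hspan P)
  have hsgen : ∀ x : Curv2.bc k X k', Amp.Gen (Amp.gm L' x (U := ⊤) trivial (ps s)) := by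
    intro x
    let R := (Curv2.bc k X k').presheaf.stalk x
    let ev : Γ(X, ⊤) →+* R := ((Curv2.bc k X k').presheaf.germ ⊤ x trivial).hom.comp p.appTop.hom
    let P : Ideal Γ(X, ⊤) := (IsLocalRing.maximalIdeal R).comap ev
    haveI hPp : P.IsPrime := Ideal.comap_isPrime _ _
    have hPm : P.IsMaximal := IsArtinianRing.isMaximal_of_isPrime P
    let gs : (L'.presheaf.stalk x : Type u) := Amp.gm L' x (U := ⊤) trivial (ps s)
    let gt : (L'.presheaf.stalk x : Type u) := Amp.gm L' x (U := ⊤) trivial t'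
    let N : Submodule R (L'.presheaf.stalk x : Type u) := Submodule.span R {gs} ⊔ (IsLocalRing.maximalIdeal R) • ⊤
    have hgmul : ∀ (a : Γ(X, ⊤)) (n : Γ(L, ⊤)), Amp.gm L' x (U := ⊤) trivial (ps (a • n)) =
        ev a • Amp.gm L' x (U := ⊤) trivial (ps n) := fun a n => by
      rw [ps_smul]
      exact Amp.gm_smul (U := ⊤) trivial _ _
    have hN : ∀ m : Γ(L, ⊤), Amp.gm L' x (U := ⊤) trivial (ps m) ∈ N := by
      intro m
      obtain ⟨a, ha⟩ := hs P hPm m
      have h2 : ∀ n ∈ P • (⊤ : Submodule Γ(X, ⊤) Γ(L, ⊤)), Amp.gm L' x (U := ⊤) trivial (ps n) ∈ N := by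
        intro n hn
        refine Submodule.smul_induction_on hn (fun r hr y _ => ?_) (fun y z hy hz => ?_)
        · rw [hgmul]
          exact Submodule.mem_sup_right (Submodule.smul_mem_smul hr Submodule.mem_top)
        · rw [ps_add]
          rw [gadd]
          exact add_mem hy hz
      have h3 := h2 _ ha
      have e : m = (m - a • s) + a • s := (sub_add_cancel m _).symm
      rw [e, ps_add]
      rw [gadd]
      refine add_mem h3 ?_
      show Amp.gm L' x (U := ⊤) trivial (ps (a • s)) ∈ N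
      rw [hgmul]
      exact Submodule.mem_sup_left (Submodule.smul_mem _ _ (Submodule.mem_span_singleton_self _))
    have htN : gt ∈ N := by
      show Amp.gm L' x (U := ⊤) trivial t' ∈ N
      rw [← hT]
      clear hT hspan
      induction T with
      | zero =>
        rw [map_zero, show Amp.gm L' x (U := ⊤) trivial (0 : Γ(L', ⊤)) = 0 from map_zero (L'.presheaf.germ ⊤ x trivial).hom]
        exact zero_mem N
      | tmul c m =>
        show Amp.gm L' x (U := ⊤) trivial (φk' (k := k) X k' c • ps m) ∈ N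
        rw [Amp.gm_smul]
        exact Submodule.smul_mem _ _ (hN m)
      | add y z hy hz =>
        rw [map_add]
        rw [gadd]
        exact add_mem hy hz
    obtain ⟨c, hc⟩ := (hgen x).2 gs
    obtain ⟨u₁, hu₁, v₁, hv₁, huv⟩ := Submodule.mem_sup.1 htN
    obtain ⟨r, rfl⟩ := Submodule.mem_span_singleton.1 hu₁
    have hv₂ : v₁ ∈ IsLocalRing.maximalIdeal R • Submodule.span R {gt} := by
      rw [show Submodule.span R {gt} = ⊤ from eq_top_iff.2 fun y _ =>
        Submodule.mem_span_singleton.2 ((hgen x).2 y)]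
      exact hv₁
    obtain ⟨d, hd, rfl⟩ := Submodule.mem_smul_span_singleton.1 hv₂
    have h4 : r * c + d = 1 := (hgen x).1 (show (r * c + d) • gt = (1 : R) • gt by
      rw [add_smul, mul_smul, one_smul, show c • gt = gs from hc]; exact huv)
    have hu : IsUnit (r * c) := by
      rw [show r * c = 1 - d from eq_sub_of_add_eq h4]
      exact IsLocalRing.isUnit_one_sub_self_of_mem_nonunits d hd
    show Amp.Gen gs
    rw [← hc]
    exact ((hgen x).ne_zero_smul c).2 (isUnit_of_mul_isUnit_right hu)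
  haveI : Surjective (Spec.map (CommRingCat.ofHom (algebraMap k k'))) := ⟨fun y =>
    haveI : Subsingleton (Spec (CommRingCat.of k) : Scheme.{u}) := inferInstanceAs (Subsingleton (PrimeSpectrum k))
    ⟨(Classical.arbitrary (PrimeSpectrum k') : _), Subsingleton.elim _ _⟩⟩
  haveI : Surjective p := inferInstanceAs (Surjective (pullback.fst _ _))
  obtain ⟨ι₀⟩ := CubeField.nonempty_iso_of_genLocus_eq_univ hL (M1.secHom s) (Set.eq_univ_of_forall fun y => by
    obtain ⟨x, rfl⟩ := p.surjective y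
    refine (Amp.mem_genLocus_iff hL (M1.secHom s)).2 ?_
    rw [Amp.gval_secHom]
    exact (Amp.gen_pullSec_iff p hL (U := ⊤) (y := x) trivial s).1 (hsgen x))
  exact M2.cl_eq_of_iso ι₀

end Aux


/-- For a quasi-compact quasi-separated scheme X over a field k with finite-dimensional H^0(X, O_X), an
invertible module on X that becomes trivial after base change to a field extension k' is already
trivial (injectivity of Pic(X) → Pic(X_{k'}), stated on classes without a group structure). The base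
change is given as any pullback square. -/
theorem result (k : Type u) [Field k] (X : Scheme.{u}) [X.Over (Spec (CommRingCat.of k))]
    [CompactSpace X] [QuasiSeparatedSpace X]
    (hfin : Module.Finite k (Coh.HH X (Coh.structureModule X) 0))
    (k' : Type u) [Field k'] [Algebra k k'] (X' : Scheme.{u}) (g : X' ⟶ X) (q : X' ⟶ Spec (CommRingCat.of k'))
    (hpb : IsPullback g q (X ↘ Spec (CommRingCat.of k)) (Spec.map (CommRingCat.ofHom (algebraMap k k'))))
    (L : X.Modules) (hL : PicF.IsInvertible L) (htriv : PicF.IsTrivialCl (PicF.pullCl g (PicF.cl L))) :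
    PicF.IsTrivialCl (PicF.cl L) := by
  let e := hpb.isoPullback
  have h : PicF.IsTrivialCl (PicF.pullCl (Curv2.bcFst k X k') (PicF.cl L)) := by
    have h1 := Groth.Agent.PicDesc21.pullCl_trivial e.inv htriv
    rw [Groth.Agent.PicDesc21.pullCl_pullCl, hpb.isoPullback_inv_fst] at h1
    exact h1
  exact trivial_of_bc k X k' hfin L hL h

end Groth.Agent.S0232
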