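import Groth.Statements.S0244
import Groth.Agent.Lib.Disc25.NormalScheme
import Groth.Agent.Lib.FEtEq25.Graph

set_option autoImplicit false
universe u
open Pi1

namespace Groth.Agent.S0244

open AlgebraicGeometry CategoryTheory CategoryTheory.Limits in
/-- Let X be a normal integral scheme and U ⊆ X a nonempty open subscheme. Then the restriction functor
from finite étale covers of X to finite étale covers of U is full and faithful. -/
theorem result {X : Scheme.{u}} [IsIntegral X] (hX : Pi1.IsNormalScheme X) (U : X.Opens)
    (hU : (U : Set X).Nonempty) : (FEt.restrict U.ι).Full ∧ (FEt.restrict U.ι).Faithful := by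
  have hη : genericPoint X ∈ Set.range (U.ι) := by
    rw [Scheme.Opens.range_ι]
    exact ((genericPoint_spec X).mem_open_set_iff U.2).2 (by simpa using hU)
  have hT := Groth.Agent.Disc25.inter_range_nonempty (U.ι) hη
  refine ⟨Groth.Agent.FEtEq25.full_restrict _ hT ?_, Groth.Agent.FEtEq25.faithful_restrict _ hT⟩
  intro Z h hh C hC
  have : IsFinite h := hh.1
  have : Etale h := hh.2
  exact Groth.Agent.Disc25.exists_clopen_extension (U.ι) hη h
    (fun z => (Groth.Agent.Disc25.isNormalScheme_of_finite_etale h hX z).1) C hC
end Groth.Agent.S0244
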