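import Groth.Statements.S0245
import Groth.Agent.Lib.Disc25.NormalScheme
import Groth.Agent.Lib.FEtEq25.Graph

set_option autoImplicit false
universe u
open Pi1

namespace Groth.Agent.S0245

open AlgebraicGeometry CategoryTheory CategoryTheory.Limits in
/-- For a normal integral scheme X, restricting finite étale covers of X along the canonical morphism
from the spectrum of the local ring at the generic point (the spectrum of the function field) is a
full and faithful functor. -/
theorem result {X : Scheme.{u}} [IsIntegral X] (hX : Pi1.IsNormalScheme X) :
    (FEt.restrict (X.fromSpecStalk (genericPoint X))).Full ∧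
    (FEt.restrict (X.fromSpecStalk (genericPoint X))).Faithful := by
  have hη : genericPoint X ∈ Set.range (X.fromSpecStalk (genericPoint X)) := by
    rw [Scheme.range_fromSpecStalk]
    exact specializes_rfl
  have hT := Groth.Agent.Disc25.inter_range_nonempty (X.fromSpecStalk (genericPoint X)) hη
  refine ⟨Groth.Agent.FEtEq25.full_restrict _ hT ?_, Groth.Agent.FEtEq25.faithful_restrict _ hT⟩
  intro Z h hh C hC
  have : IsFinite h := hh.1
  have : Etale h := hh.2
  exact Groth.Agent.Disc25.exists_clopen_extension (X.fromSpecStalk (genericPoint X)) hη h
    (fun z => (Groth.Agent.Disc25.isNormalScheme_of_finite_etale h hX z).1) C hC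
end Groth.Agent.S0245
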