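import Groth.Statements.S0246
import Groth.Agent.Lib.Disc25.NormalScheme

set_option autoImplicit false
universe u
open Pi1

namespace Groth.Agent.S0246

open AlgebraicGeometry CategoryTheory CategoryTheory.Limits in
/-- If Y is finite etale over a normal integral scheme X and Y is connected, then Y is an integral
scheme all of whose local rings are integrally closed domains. -/
theorem result {X : Scheme.{u}} [IsIntegral X] (hX : Pi1.IsNormalScheme X) (Y : FEt.Cat X)
    [ConnectedSpace Y.left] : IsIntegral Y.left ∧ Pi1.IsNormalScheme Y.left := by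
  have hfin : IsFinite Y.hom := Y.prop.1
  have het : Etale Y.hom := Y.prop.2
  have key : ∀ {Z : Scheme.{u}} (g : Z ⟶ X) [IsFinite g] [Etale g] [ConnectedSpace Z],
      IsIntegral Z ∧ Pi1.IsNormalScheme Z := by
    intro Z g _ _ _
    have hN := Groth.Agent.Disc25.isNormalScheme_of_finite_etale g hX
    have hZ : ∀ z : Z, IsDomain (Z.presheaf.stalk z) := fun z => (hN z).1
    obtain ⟨z₀⟩ : Nonempty Z := inferInstance
    let ξ := Groth.Agent.Disc25.gen hZ z₀
    have hu := IsClopen.eq_univ (Groth.Agent.Disc25.isClopen_preimage_gen hZ g {ξ}) ⟨z₀, rfl⟩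
    have hd : ∀ z, ξ ⤳ z := fun z => by
      have : Groth.Agent.Disc25.gen hZ z = ξ :=
        (Set.eq_univ_iff_forall.1 hu) z
      exact this ▸ Groth.Agent.Disc25.gen_specializes hZ z
    have : PreirreducibleSpace Z := ⟨by
      rw [← Set.eq_univ_of_forall (fun z => (hd z).mem_closure)]
      exact isPreirreducible_singleton.closure⟩
    have : IrreducibleSpace Z := ⟨⟨z₀⟩⟩
    have : ∀ z : Z, _root_.IsReduced (Z.presheaf.stalk z) := fun z => by
      have := hZ z
      infer_instance
    have : AlgebraicGeometry.IsReduced Z := isReduced_of_isReduced_stalk Z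
    exact ⟨isIntegral_of_irreducibleSpace_of_isReduced Z, hN⟩
  exact key Y.hom
end Groth.Agent.S0246
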