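import Groth.Statements.S0249
-- import your own Groth.Agent.* helpers here

set_option autoImplicit false
universe u
open Pi1

namespace Groth.Agent.S0249

open AlgebraicGeometry CategoryTheory CategoryTheory.Limits in
/-- Let A be a Noetherian local ring of dimension at least 1 and f an element of its maximal ideal. Then
some prime ideal of height exactly 1 contains f. -/
theorem result (A : Type u) [CommRing A] [IsNoetherianRing A] [IsLocalRing A]
    (h : (1 : WithBot ℕ∞) ≤ ringKrullDim A) (f : A) (hf : f ∈ IsLocalRing.maximalIdeal A) :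
    ∃ p : Ideal A, p.IsPrime ∧ f ∈ p ∧ p.height = 1 := by
  classical
  let T : Set (Ideal A) := {q | q.IsPrime ∧ f ∈ q ∧ q.height ≠ 0}
  have hm : IsLocalRing.maximalIdeal A ∈ T := by
    refine ⟨inferInstance, hf, fun h0 => ?_⟩
    have := IsLocalRing.maximalIdeal_height_eq_ringKrullDim (R := A)
    rw [h0] at this
    rw [← this] at h
    exact absurd h (by simp)
  obtain ⟨n, ⟨q, hqT, rfl⟩, hmin⟩ := wellFounded_lt.has_min (Ideal.height '' T)
    ⟨_, Set.mem_image_of_mem _ hm⟩
  obtain ⟨hqp, hfq, hq0⟩ := hqT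
  haveI : q.IsPrime := hqp
  have key : ∀ s : Ideal A, s.IsPrime → f ∈ s → s.height ≠ 0 → s ≤ q → s = q := by
    intro s hs hfs h0 hle
    by_contra hne
    haveI := hs
    exact hmin _ ⟨s, ⟨hs, hfs, h0⟩, rfl⟩
      (Ideal.height_strict_mono_of_isPrime (lt_of_le_of_ne hle hne))
  refine ⟨q, hqp, hfq, le_antisymm ?_ ((Order.one_le_iff_pos).2 (pos_iff_ne_zero.2 hq0))⟩
  rw [← Nat.cast_one, Ideal.height_le_iff]
  intro r hr hrq
  rw [Nat.cast_one, Order.lt_one_iff]
  by_contra hr0
  haveI := hr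
  have hfr : f ∉ r := fun hfr => hrq.ne (key r hr hfr hr0 hrq.le)
  obtain ⟨p, hp, hpr⟩ := Ideal.exists_minimalPrimes_le (J := r) (bot_le (α := Ideal A))
  haveI : p.IsPrime := hp.1.1
  have hp0 : p.height = 0 := Ideal.height_eq_zero_iff.2 hp
  have hpr' : p < r := lt_of_le_of_ne hpr (fun e => hr0 (e ▸ hp0))
  have hmem : q ∈ (p ⊔ Ideal.span {f}).minimalPrimes := by
    refine ⟨⟨hqp, sup_le (hpr.trans hrq.le) (by simpa [Ideal.span_le] using hfq)⟩, ?_⟩
    rintro s ⟨hs, hle⟩ hsq
    have hfs : f ∈ s := hle (Ideal.mem_sup_right (Ideal.mem_span_singleton_self f))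
    have hlt : p < s := lt_of_le_of_ne (le_sup_left.trans hle)
      (fun e => hfr (hpr (e ▸ hfs)))
    have h0 : s.height ≠ 0 := fun e => by
      haveI := hs
      have := Ideal.height_add_one_le_of_lt_of_isPrime hlt
      rw [e] at this
      simp at this
    exact (key s hs hfs h0 hsq).ge
  have h1 := Ideal.map_height_le_one_of_mem_minimalPrimes hmem
  have hsurj : Function.Surjective (Ideal.Quotient.mk p) := Ideal.Quotient.mk_surjective
  haveI : (r.map (Ideal.Quotient.mk p)).IsPrime :=
    Ideal.map_isPrime_of_surjective hsurj (by rwa [Ideal.mk_ker])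
  haveI : (q.map (Ideal.Quotient.mk p)).IsPrime :=
    Ideal.map_isPrime_of_surjective hsurj (by rw [Ideal.mk_ker]; exact hpr.trans hrq.le)
  have hlt : r.map (Ideal.Quotient.mk p) < q.map (Ideal.Quotient.mk p) := by
    refine (Ideal.map_mono hrq.le).lt_of_not_ge fun e => hrq.not_ge ?_
    have := Ideal.comap_mono (f := Ideal.Quotient.mk p) e
    simpa [Ideal.comap_map_of_surjective _ hsurj, ← RingHom.ker_eq_comap_bot,
      sup_eq_left.2 hpr, sup_eq_left.2 (hpr.trans hrq.le)] using this
  have h2 := (Ideal.height_add_one_le_of_lt_of_isPrime hlt).trans h1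
  have h3 : (r.map (Ideal.Quotient.mk p)).height = 0 := by
    by_contra h3
    have h4 : (1 : ℕ∞) ≤ (r.map (Ideal.Quotient.mk p)).height :=
      (Order.one_le_iff_pos).2 (pos_iff_ne_zero.2 h3)
    have h5 := (add_le_add_left h4 1).trans h2
    norm_num at h5
  rw [Ideal.height_eq_zero_iff_eq_bot, Ideal.map_eq_bot_iff_le_ker, Ideal.mk_ker] at h3
  exact hpr'.not_ge h3

end Groth.Agent.S0249
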