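import Groth.Statements.S0251
import Groth.Agent.Lib.RelPure25.PowerAny

set_option autoImplicit false
universe u
open Pi1

namespace Groth.Agent.S0251

open AlgebraicGeometry CategoryTheory CategoryTheory.Limits in
/-- If A is a Noetherian local ring of depth at least 2 and d is at least 1, then purity holds for the
local ring of formal power series in d variables over A. -/
theorem result (A : Type u) [CommRing A] [IsNoetherianRing A] [IsLocalRing A] (hA : (2 : ℕ∞) ≤ LocCoh.depth A A)
    (d : ℕ) (hd : 1 ≤ d) : FEt.PurityHolds (MvPowerSeries (Fin d) A) := by
  exact RelPure25.purityHolds_powerSeries A (le_trans (by norm_num) hA) d hd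

end Groth.Agent.S0251
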