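import Groth.Statements.S0253
import Groth.Agent.Lib.Disc25.SepClosed

set_option autoImplicit false
universe u
open Pi1

namespace Groth.Agent.S0253

open AlgebraicGeometry CategoryTheory CategoryTheory.Limits in
/-- Let A be an integrally closed domain whose fraction field is separably closed. Then the residue
field at any nonzero prime ideal of A is algebraically closed. -/
theorem result (A : Type u) [CommRing A] [IsDomain A] [IsIntegrallyClosed A] [IsSepClosed (FractionRing A)]
    (p : Ideal A) [p.IsPrime] (hp : p ≠ ⊥) : IsAlgClosed p.ResidueField := by
  have hle := p.primeCompl_le_nonZeroDivisors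
  letI := IsLocalization.localizationAlgebraOfSubmonoidLe (Localization.AtPrime p) (FractionRing A)
    p.primeCompl (nonZeroDivisors A) hle
  haveI : IsScalarTower A (Localization.AtPrime p) (FractionRing A) :=
    IsLocalization.localization_isScalarTower_of_submonoid_le _ _ _ _ hle
  haveI : IsFractionRing (Localization.AtPrime p) (FractionRing A) :=
    IsFractionRing.isFractionRing_of_isDomain_of_isLocalization p.primeCompl _ _
  haveI : IsIntegrallyClosed (Localization.AtPrime p) :=
    isIntegrallyClosed_of_isLocalization _ p.primeCompl hle
  refine Groth.Agent.Disc25.isAlgClosed_residueField (FractionRing A) fun h => hp ?_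
  rw [← Localization.AtPrime.under_maximalIdeal (I := p), h, Ideal.under_bot]
end Groth.Agent.S0253
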