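import Groth.Statements.S0254
import Groth.Agent.Lib.Disc25.SepClosed

set_option autoImplicit false
universe u
open Pi1

namespace Groth.Agent.S0254

open AlgebraicGeometry CategoryTheory CategoryTheory.Limits in
/-- An integrally closed local domain whose fraction field is separably closed is henselian with
separably closed residue field (i.e. strictly henselian). -/
theorem result (A : Type u) [CommRing A] [IsDomain A] [IsLocalRing A] [IsIntegrallyClosed A]
    [IsSepClosed (FractionRing A)] :
    HenselianLocalRing A ∧ IsSepClosed (IsLocalRing.ResidueField A) := by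
  refine ⟨Groth.Agent.Disc25.henselianLocalRing (FractionRing A), ?_⟩
  by_cases hm : IsLocalRing.maximalIdeal A = ⊥
  · refine IsSepClosed.of_exists_root _ fun g hg hi hs => ?_
    let e : FractionRing A →+* IsLocalRing.ResidueField A :=
      IsFractionRing.lift (A := A) (g := IsLocalRing.residue A) (by
        rw [injective_iff_map_eq_zero]
        intro a ha
        rwa [IsLocalRing.residue_eq_zero_iff, hm, Ideal.mem_bot] at ha)
    have he : Function.Bijective e :=
      ⟨e.injective, fun x => by
        obtain ⟨a, rfl⟩ := IsLocalRing.residue_surjective x
        exact ⟨algebraMap A _ a, IsFractionRing.lift_algebraMap _ a⟩⟩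
    let e' := RingEquiv.ofBijective e he
    have hge : (g.map e'.symm.toRingHom).map e'.toRingHom = g := by
      rw [Polynomial.map_map, RingEquiv.toRingHom_comp_symm_toRingHom, Polynomial.map_id]
    obtain ⟨x, hx⟩ := IsSepClosed.exists_root (g.map e'.symm.toRingHom)
      (by rw [Polynomial.degree_map]; exact hi.degree_pos.ne') hs.map
    refine ⟨e'.toRingHom x, ?_⟩
    rw [← hge, Polynomial.eval_map, Polynomial.eval₂_at_apply, hx, map_zero]
  · exact @IsSepClosed.of_isAlgClosed _ _
      (Groth.Agent.Disc25.isAlgClosed_residueField (FractionRing A) hm)
end Groth.Agent.S0254
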