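import Groth.Statements.S0255
import Groth.Agent.Lib.Pur25.BranchScheme

set_option autoImplicit false
universe u
open Pi1

namespace Groth.Agent.S0255

open AlgebraicGeometry CategoryTheory CategoryTheory.Limits in
/-- Let f be a morphism locally of finite type between locally Noetherian schemes and x a point with
image y, such that the local ring at x is a normal domain, the local ring at y is regular of the
same dimension, this dimension is at least 1, f is quasi-finite at x, and f is unramified at every
point of dimension one specializing to x. Then f is etale on an open neighbourhood of x. -/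
theorem result {X Y : Scheme.{u}} (f : X ⟶ Y) [LocallyOfFiniteType f] [IsLocallyNoetherian X]
    [IsLocallyNoetherian Y] (x : X)
    (hx : IsDomain (X.presheaf.stalk x) ∧ IsIntegrallyClosed (X.presheaf.stalk x))
    (hy : IsRegularLocalRing (Y.presheaf.stalk (f.base x)))
    (hq : f.QuasiFiniteAt x)
    (hdim : ringKrullDim (X.presheaf.stalk x) = ringKrullDim (Y.presheaf.stalk (f.base x)))
    (hdim1 : (1 : WithBot ℕ∞) ≤ ringKrullDim (X.presheaf.stalk x))
    (hunr : ∀ x' : X, x' ⤳ x → ringKrullDim (X.presheaf.stalk x') = 1 →
      (f.stalkMap x').hom.FormallyUnramified) :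
    ∃ U : X.Opens, x ∈ U ∧ Etale (U.ι ≫ f) := by
  haveI := hx.1
  haveI := hx.2
  haveI : IsRegularLocalRing (Y.presheaf.stalk (f x)) := hy
  exact Groth.Agent.Pur25.exists_etale_of_codim_one f x hq hdim hdim1 hunr

end Groth.Agent.S0255
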