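import Groth.Statements.S0256
import Groth.Agent.Lib.Ram25.Scheme

set_option autoImplicit false
universe u
open Pi1

namespace Groth.Agent.S0256

open AlgebraicGeometry CategoryTheory CategoryTheory.Limits in
/-- Let f be locally of finite type between locally Noetherian schemes, x a point whose local ring is a
normal domain of dimension at least 1 and whose image has a regular local ring. If f is etale at
every point of dimension one specializing to x, then f is etale on an open neighbourhood of x. -/
theorem result {X Y : Scheme.{u}} (f : X ⟶ Y) [LocallyOfFiniteType f] [IsLocallyNoetherian X]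
    [IsLocallyNoetherian Y] (x : X)
    (hx : IsDomain (X.presheaf.stalk x) ∧ IsIntegrallyClosed (X.presheaf.stalk x))
    (hdim1 : (1 : WithBot ℕ∞) ≤ ringKrullDim (X.presheaf.stalk x))
    (hy : IsRegularLocalRing (Y.presheaf.stalk (f.base x)))
    (het : ∀ x' : X, x' ⤳ x → ringKrullDim (X.presheaf.stalk x') = 1 →
      ∃ U : X.Opens, x' ∈ U ∧ Etale (U.ι ≫ f)) :
    ∃ U : X.Opens, x ∈ U ∧ Etale (U.ι ≫ f) := by
  obtain ⟨d, hd⟩ := DepthLib.exists_supportDim_eq_natCast (R := X.presheaf.stalk x) (M := X.presheaf.stalk x)
  rw [Module.supportDim_self_eq_ringKrullDim] at hd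
  exact Ram25.exists_etale_of_normal f d x hd (by rw [hd] at hdim1; exact_mod_cast hdim1) hx.1 hx.2 hy het

end Groth.Agent.S0256
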