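import Groth.Statements.S0257
import Groth.Agent.Lib.FlatPur25.Algebra
import Groth.Agent.Lib.EtaleNhd17.Basic
import Mathlib.AlgebraicGeometry.Morphisms.QuasiFinite

set_option autoImplicit false
universe u
open Pi1

namespace Groth.Agent.S0257

open AlgebraicGeometry CategoryTheory CategoryTheory.Limits in
/-- Let f be flat and locally of finite type between locally Noetherian schemes, x a point of X which is
not a generic point of an irreducible component (its local ring has dimension at least 1), with f
quasi-finite at x and unramified at all points of dimension one specializing to x. Then f is etale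
on an open neighbourhood of x. -/
theorem result {X Y : Scheme.{u}} (f : X ⟶ Y) [LocallyOfFiniteType f] [Flat f] [IsLocallyNoetherian X]
    [IsLocallyNoetherian Y] (x : X) (hq : f.QuasiFiniteAt x)
    (hdim1 : (1 : WithBot ℕ∞) ≤ ringKrullDim (X.presheaf.stalk x))
    (hunr : ∀ x' : X, x' ⤳ x → ringKrullDim (X.presheaf.stalk x') = 1 →
      (f.stalkMap x').hom.FormallyUnramified) :
    ∃ U : X.Opens, x ∈ U ∧ Etale (U.ι ≫ f) := by
  obtain ⟨U, hU, hxU, -⟩ := exists_isAffineOpen_mem_and_subset (X := Y) (x := f x) (U := ⊤) trivial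
  obtain ⟨V, hV, hxV, hVU⟩ := exists_isAffineOpen_mem_and_subset (X := X) (x := x) (U := f ⁻¹ᵁ U) hxU
  have hft := f.finiteType_appLE hU hV hVU
  have hfl : (f.appLE U V hVU).hom.Flat := HasRingHomProperty.appLE @Flat f inferInstance ⟨U, hU⟩ ⟨V, hV⟩ hVU
  have hqf := hq.quasiFiniteAt hV hU hVU hxV
  algebraize [(f.appLE U V hVU).hom]
  haveI : IsNoetherianRing Γ(Y, U) := IsLocallyNoetherian.component_noetherian ⟨U, hU⟩
  let q := (hV.primeIdealOf ⟨x, hxV⟩).asIdeal
  haveI : Algebra.QuasiFiniteAt Γ(Y, U) q := hqf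
  letI := TopCat.Presheaf.algebra_section_stalk X.presheaf (⟨x, hxV⟩ : V)
  haveI := hV.isLocalization_stalk ⟨x, hxV⟩
  have hq1 : 1 ≤ q.height := by
    have := IsLocalization.AtPrime.ringKrullDim_eq_height q (X.presheaf.stalk x)
    rw [this] at hdim1
    exact_mod_cast hdim1
  have key : Algebra.IsUnramifiedAt Γ(Y, U) q :=
    Groth.Agent.FlatPur25.isUnramifiedAt_of_height_one q hq1 fun q' _ hle hq'1 => by
      let z : Spec Γ(X, V) := ⟨q', inferInstance⟩
      have hz : z ⤳ hV.primeIdealOf ⟨x, hxV⟩ := (PrimeSpectrum.le_iff_specializes _ _).mp hle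
      have hspec : hV.fromSpec z ⤳ x := by
        have := hz.map hV.fromSpec.continuous
        rwa [hV.fromSpec_primeIdealOf] at this
      have hzV : hV.fromSpec z ∈ V := hV.range_fromSpec.le ⟨z, rfl⟩
      have hid : hV.primeIdealOf ⟨hV.fromSpec z, hzV⟩ = z :=
        hV.fromSpec.isOpenEmbedding.injective (hV.fromSpec_primeIdealOf _)
      letI := TopCat.Presheaf.algebra_section_stalk X.presheaf (⟨hV.fromSpec z, hzV⟩ : V)
      haveI hloc : IsLocalization.AtPrime (X.presheaf.stalk (hV.fromSpec z)) q' := by
        have := hV.isLocalization_stalk ⟨hV.fromSpec z, hzV⟩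
        simp only [hid] at this
        exact this
      have hdim : ringKrullDim (X.presheaf.stalk (hV.fromSpec z)) = 1 := by
        rw [IsLocalization.AtPrime.ringKrullDim_eq_height q' (X.presheaf.stalk (hV.fromSpec z)), hq'1]
        rfl
      let w := hV.fromSpec z
      letI : Algebra Γ(Y, U) (X.presheaf.stalk w) := (f.appLE U V hVU ≫ X.presheaf.germ V w hzV).hom.toAlgebra
      haveI : IsScalarTower Γ(Y, U) Γ(X, V) (X.presheaf.stalk w) := IsScalarTower.of_algebraMap_eq fun _ => rfl
      haveI : Algebra.FormallyUnramified Γ(Y, U) (X.presheaf.stalk w) := by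
        rw [← RingHom.formallyUnramified_algebraMap]
        have he : f.appLE U V hVU ≫ X.presheaf.germ V w hzV =
            Y.presheaf.germ U (f w) (hVU hzV) ≫ f.stalkMap w := by
          rw [f.germ_stalkMap, Scheme.Hom.appLE, Category.assoc, TopCat.Presheaf.germ_res]
        show (f.appLE U V hVU ≫ X.presheaf.germ V w hzV).hom.FormallyUnramified
        rw [he, CommRingCat.hom_comp]
        refine RingHom.FormallyUnramified.comp ?_ (hunr w hspec hdim)
        letI := TopCat.Presheaf.algebra_section_stalk Y.presheaf (⟨f w, hVU hzV⟩ : U)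
        haveI := hU.isLocalization_stalk ⟨f w, hVU hzV⟩
        exact RingHom.formallyUnramified_algebraMap.2 (Algebra.FormallyUnramified.of_isLocalization
          (hU.primeIdealOf ⟨f w, hVU hzV⟩).asIdeal.primeCompl)
      exact Algebra.FormallyUnramified.of_equiv (A := X.presheaf.stalk w) (B := Localization.AtPrime q')
        ((IsLocalization.algEquiv q'.primeCompl (X.presheaf.stalk w) (Localization.AtPrime q')).restrictScalars _)
  letI : Algebra Γ(Y, U) (X.presheaf.stalk x) := (f.appLE U V hVU ≫ X.presheaf.germ V x hxV).hom.toAlgebra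
  haveI : IsScalarTower Γ(Y, U) Γ(X, V) (X.presheaf.stalk x) := IsScalarTower.of_algebraMap_eq fun _ => rfl
  haveI : Algebra.FormallyUnramified Γ(Y, U) (Localization.AtPrime q) := key
  haveI : Algebra.FormallyUnramified Γ(Y, U) (X.presheaf.stalk x) :=
    Algebra.FormallyUnramified.of_equiv (A := Localization.AtPrime q) (B := X.presheaf.stalk x)
      ((IsLocalization.algEquiv q.primeCompl (Localization.AtPrime q) (X.presheaf.stalk x)).restrictScalars _)
  refine Groth.Agent.EtaleNhd17.exists_etale_of_stalk f x (Flat.stalkMap f x) ?_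
  have he : f.appLE U V hVU ≫ X.presheaf.germ V x hxV = Y.presheaf.germ U (f x) (hVU hxV) ≫ f.stalkMap x := by
    rw [f.germ_stalkMap, Scheme.Hom.appLE, Category.assoc, TopCat.Presheaf.germ_res]
  refine RingHom.FormallyUnramified.of_comp (f := (Y.presheaf.germ U (f x) (hVU hxV)).hom) ?_
  rw [← CommRingCat.hom_comp, ← he]
  exact RingHom.formallyUnramified_algebraMap.2 ‹Algebra.FormallyUnramified Γ(Y, U) (X.presheaf.stalk x)›

end Groth.Agent.S0257
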