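import Groth.Statements.S0258
import Groth.Agent.Lib.FEtEq25.DepthTwo
import Groth.Agent.S0335

set_option autoImplicit false
universe u
open Pi1

namespace Groth.Agent.S0258

open AlgebraicGeometry CategoryTheory CategoryTheory.Limits in
/-- For a Noetherian local ring A of depth at least 2, the functor restricting finite étale covers of
Spec A to the punctured spectrum is fully faithful (full and faithful). The published statement
assumes instead that the punctured spectrum of the strict henselization of A is connected; depth at
least 2 is a sufficient condition for this, and the result is stated here under that hypothesis. -/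
theorem result (A : Type u) [CommRing A] [IsNoetherianRing A] [IsLocalRing A] (hA : (2 : ℕ∞) ≤ LocCoh.depth A A) :
    (FEt.restrict (FEt.puncturedSpec A).ι).Full ∧ (FEt.restrict (FEt.puncturedSpec A).ι).Faithful := by
  refine Groth.Agent.FEtEq25.fullFaithful_of_depth_two _ ?_ ?_
  · rw [dense_iff_inter_open]
    intro W hW ⟨w, hw⟩
    by_cases hwc : w = IsLocalRing.closedPoint A
    · obtain ⟨v, hv⟩ := (Groth.Agent.S0335.result A hA).nonempty
      refine ⟨v, (IsLocalRing.specializes_closedPoint v).mem_open hW (hwc ▸ hw), ?_⟩
      exact fun h => hv (congrArg PrimeSpectrum.asIdeal (show v = IsLocalRing.closedPoint A from h))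
    · exact ⟨w, hw, hwc⟩
  · intro x hx
    have hx' : x = IsLocalRing.closedPoint A := not_not.1 hx
    have e : ((Spec (CommRingCat.of A)).presheaf.stalk x) ≃+* Localization.AtPrime x.asIdeal :=
      (StructureSheaf.stalkIso A x).symm.toRingEquiv
    have hm : IsLocalRing.maximalIdeal A = x.asIdeal := by rw [hx']; rfl
    have hu : x.asIdeal.primeCompl ≤ IsUnit.submonoid A := fun a ha => by
      by_contra hn
      exact ha (hm ▸ (IsLocalRing.mem_maximalIdeal a).2 hn)
    let e' : A ≃+* Localization.AtPrime x.asIdeal :=
      (IsLocalization.atUnits A x.asIdeal.primeCompl hu).toRingEquiv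
    rw [Groth.Agent.SMT.depth_eq_of_ringEquiv (e'.trans e.symm)]
    exact hA
end Groth.Agent.S0258
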