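import Groth.Statements.S0260
import Groth.Agent.Lib.Pur25.Full
import Groth.Agent.Lib.Hens.PairOps
import Groth.Agent.Lib.Hens.Local

set_option autoImplicit false
universe u
open Pi1

namespace Groth.Agent.S0260

open AlgebraicGeometry CategoryTheory CategoryTheory.Limits in
/-- Let A be a henselian Noetherian local ring of depth at least 3 and f an element of the maximal
ideal. Then restricting finite etale covers from the punctured spectrum of A to the punctured
spectrum of A/fA is fully faithful. -/
theorem result (A : Type u) [CommRing A] [IsNoetherianRing A] [HenselianLocalRing A] (hA : (3 : ℕ∞) ≤ LocCoh.depth A A)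
    (f : A) (hf : f ∈ IsLocalRing.maximalIdeal A) :
    (FEt.restrict (pullback.fst (FEt.puncturedSpec A).ι
      (Spec.map (CommRingCat.ofHom (Ideal.Quotient.mk (Ideal.span {f})))))).Full ∧
    (FEt.restrict (pullback.fst (FEt.puncturedSpec A).ι
      (Spec.map (CommRingCat.ofHom (Ideal.Quotient.mk (Ideal.span {f})))))).Faithful := by
  obtain ⟨n, x, hx⟩ := Groth.Agent.Pur25.exists_generators A
  obtain ⟨h0, h1⟩ := Groth.Agent.Pur25.kill_of_depth_three hx hA
  haveI : HenselianRing A (Ideal.span {f}) :=
    Groth.Agent.Hens.henselianRing_of_le (Groth.Agent.Hens.henselianRing_maximalIdeal A)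
      ((Ideal.span_singleton_le_iff_mem _).2 hf)
  refine Groth.Agent.Pur25.fullFaithful_hypersurface (x := x) (N := 0) ?_ f
    (Groth.Agent.Pur25.mem_radical_span hx hf) ?_ ?_
  · exact fun q => Groth.Agent.Pur25.mem_puncturedSpec_iff hx q
  · rwa [pow_zero]
  · rwa [pow_zero]

end Groth.Agent.S0260
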