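import Groth.Statements.S0262
import Groth.Agent.Lib.Pur25.Square

set_option autoImplicit false
universe u
open Pi1

namespace Groth.Agent.S0262

open AlgebraicGeometry CategoryTheory CategoryTheory.Limits in
/-- Let A be a Noetherian local ring with completion A^, U the punctured spectrum of A and U' its base
change to Spec A^. A finite etale cover V of U is the restriction of a finite etale cover of Spec A
if and only if the base change of V to U' is the restriction of a finite etale cover of Spec A^. -/
theorem result (A : Type u) [CommRing A] [IsNoetherianRing A] [IsLocalRing A]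
    (V : FEt.Cat (FEt.puncturedSpec A : Scheme.{u})) :
    (∃ Y : FEt.Cat (Spec (CommRingCat.of A)),
      Nonempty ((FEt.restrict (FEt.puncturedSpec A).ι).obj Y ≅ V)) ↔
    (∃ Y' : FEt.Cat (Spec (CommRingCat.of (AdicCompletion (IsLocalRing.maximalIdeal A) A))),
      Nonempty ((FEt.restrict (pullback.snd (FEt.puncturedSpec A).ι
        (Spec.map (CommRingCat.ofHom
          (algebraMap A (AdicCompletion (IsLocalRing.maximalIdeal A) A)))))).obj Y' ≅
        (FEt.restrict (pullback.fst (FEt.puncturedSpec A).ι
        (Spec.map (CommRingCat.ofHom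
          (algebraMap A (AdicCompletion (IsLocalRing.maximalIdeal A) A)))))).obj V)) := by
  classical
  obtain ⟨n, x, hx⟩ := Groth.Agent.Pur25.exists_generators A
  constructor
  · rintro ⟨Y, ⟨e⟩⟩
    exact ⟨(FEt.restrict (Spec.map (CommRingCat.ofHom (algebraMap A (AdicCompletion (IsLocalRing.maximalIdeal A) A))))).obj Y,
      ⟨(Groth.Agent.Pur25.restrictSquare _ _ _ _ pullback.condition).app Y ≪≫
        (FEt.restrict (pullback.fst _ _)).mapIso e⟩⟩
  · rintro ⟨Y', ⟨e⟩⟩
    haveI : IsNoetherianRing (AdicCompletion (IsLocalRing.maximalIdeal A) A) := Groth.Agent.CplLocH7.isNoetherianRing_cpl A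
    haveI : Module.FaithfullyFlat A (AdicCompletion (IsLocalRing.maximalIdeal A) A) := Groth.Agent.Pur25.faithfullyFlat_completion A
    haveI : IsFinite V.hom := V.prop.1
    haveI : IsFinite Y'.hom := Y'.prop.1
    haveI : Etale Y'.hom := Y'.prop.2
    obtain ⟨T, b, hb, het, ⟨ε, hε⟩, -⟩ := Groth.Agent.Pur25.extends_of_base_change (x := x)
      (Groth.Agent.Pur25.mem_puncturedSpec_iff hx) (AdicCompletion (IsLocalRing.maximalIdeal A) A)
      (Groth.Agent.Pur25.qBij_completion hx) V.hom Y'.hom
      ((Over.forget _).mapIso ((MorphismProperty.Over.forget _ _ _).mapIso e))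
      (MorphismProperty.Over.w e.hom)
    exact ⟨MorphismProperty.Over.mk ⊤ b ⟨hb, het inferInstance⟩, ⟨MorphismProperty.Over.isoMk ε hε⟩⟩

end Groth.Agent.S0262
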