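import Groth.Statements.S0264
import Groth.Agent.Lib.FEtEq25.Graph

set_option autoImplicit false
universe u
open Pi1

namespace Groth.Agent.S0264

open AlgebraicGeometry CategoryTheory CategoryTheory.Limits in
/-- Functor form of the surjectivity part of the homotopy exact sequence: Let f : X -> S be flat, proper
and locally of finite presentation with S connected, such that for every algebraically closed field
Ω and every geometric point Spec Ω -> S the fibre X ×_S Spec Ω is connected and reduced. Then the
restriction functor FEt.restrict f, pulling back finite etale covers along f, is full and faithful. -/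
theorem result {X S : Scheme.{u}} (f : X ⟶ S) [IsProper f] [Flat f] [LocallyOfFinitePresentation f]
    [ConnectedSpace S]
    (hfib : ∀ (Ω : Type u) [Field Ω] [IsAlgClosed Ω] (s : Spec (CommRingCat.of Ω) ⟶ S),
      ConnectedSpace ↥(pullback f s) ∧ IsReduced (pullback f s)) :
    (FEt.restrict f).Full ∧ (FEt.restrict f).Faithful := by
  have hsurj : Function.Surjective f := by
    intro y
    obtain ⟨K, _, _, g, hg⟩ := Groth.Agent.FEtEq25.exists_geomPoint y
    obtain ⟨p⟩ := (hfib K g).1.toNonempty
    refine ⟨pullback.fst f g p, ?_⟩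
    rw [← Scheme.Hom.comp_apply, pullback.condition, Scheme.Hom.comp_apply, hg]
  have hT : ∀ T : Set S, IsClopen T → T.Nonempty → (T ∩ Set.range f).Nonempty :=
    fun T _ ⟨x, hx⟩ => ⟨x, hx, hsurj x⟩
  refine ⟨Groth.Agent.FEtEq25.full_restrict f hT fun {Z} g hg C hC => ?_,
    Groth.Agent.FEtEq25.faithful_restrict f hT⟩
  refine ⟨pullback.fst g f '' C, ⟨(pullback.fst g f).isClosedMap _ hC.1,
    (pullback.fst g f).isOpenMap _ hC.2⟩, ?_⟩
  ext p
  refine ⟨?_, fun hp => ⟨p, hp, rfl⟩⟩
  rintro ⟨q, hq, hqp⟩
  obtain ⟨K, _, _, s, hs⟩ := Groth.Agent.FEtEq25.exists_geomPoint (pullback.fst g f p)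
  have : PreconnectedSpace ↥(pullback f (s ≫ g)) := (hfib K (s ≫ g)).1.toPreconnectedSpace
  exact Groth.Agent.FEtEq25.fibre_subset_or_disjoint f g s hC
    (hqp.trans (hs _).symm) (hs _).symm hq
end Groth.Agent.S0264
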