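import Groth.Statements.S0267
import Groth.Agent.Lib.Pi1Cat.Sequences

set_option autoImplicit false
universe u v
open Pi1

namespace Groth.Agent.S0267

open CategoryTheory CategoryTheory.Limits in
/-- For an exact functor H between Galois categories, H is fully faithful exactly when it carries
connected objects to connected objects (both are equivalent to surjectivity of the induced map on
fundamental groups). -/
theorem result {C : Type u} [Category.{v} C]
    [GaloisCategory C] {D : Type u} [Category.{v} D] [GaloisCategory D]
    (H : C ⥤ D) [PreservesFiniteLimits H] [PreservesFiniteColimits H] :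
    (H.Full ∧ H.Faithful) ↔
      ∀ X : C, PreGaloisCategory.IsConnected X → PreGaloisCategory.IsConnected (H.obj X) := by
  let F' := PreGaloisCategory.GaloisCategory.getFiberFunctor D
  haveI : PreservesFiniteLimits (H ⋙ F') := comp_preservesFiniteLimits H F'
  haveI : PreservesColimitsOfShape (Discrete WalkingPair) (H ⋙ F') :=
    comp_preservesColimitsOfShape H F'
  let F := PreGaloisCategory.GaloisCategory.getFiberFunctor C
  obtain ⟨e⟩ := Groth.Agent.Pi1Cat.nonempty_iso F (H ⋙ F') (fun X hX => by
    obtain ⟨hi⟩ := (PreGaloisCategory.initial_iff_fiber_empty F' (H.obj X)).2 hX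
    by_contra hne
    rw [PreGaloisCategory.initial_iff_fiber_empty F, not_isEmpty_iff] at hne
    haveI := Groth.Agent.Pi1Cat.isConnected_terminal F
    haveI : Epi (terminal.from X) := PreGaloisCategory.epi_of_nonempty_of_isConnected F (terminal.from X)
    haveI : Epi (H.map (terminal.from X)) := inferInstance
    obtain ⟨t⟩ := (Groth.Agent.Pi1Cat.uniqueTerminal F').instInhabited
    obtain ⟨x, -⟩ := PreGaloisCategory.surjective_on_fiber_of_epi F' (H.map (terminal.from X))
      (F'.map (PreservesTerminal.iso H).inv t)
    exact hX.false x)
  haveI : PreGaloisCategory.FiberFunctor (H ⋙ F') := Groth.Agent.Pi1Cat.fiberFunctor_of_iso F e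
  rw [← Groth.Agent.Pi1Cat.surjective_iff_preserves_connected H F',
    Groth.Agent.Pi1Cat.surjective_iff_fullyFaithful H F']
end Groth.Agent.S0267
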