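import Groth.Statements.S0268
import Groth.Agent.Lib.FEtEq25.Graph

set_option autoImplicit false
universe u
open Pi1

namespace Groth.Agent.S0268

open AlgebraicGeometry CategoryTheory CategoryTheory.Limits in
/-- Functor form of the surjectivity of pi_1(X) -> pi_1(Spec k): Let X be quasi-compact and
quasi-separated over a field k with X_{kbar} connected. Then the functor pulling back finite etale
k-schemes to X is full and faithful. -/
theorem result (k : Type u) [Field k] {X : Scheme.{u}} (f : X ⟶ Spec (CommRingCat.of k)) [CompactSpace X]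
    [QuasiSeparatedSpace X]
    [ConnectedSpace ↥(pullback f (Spec.map (CommRingCat.ofHom (algebraMap k (AlgebraicClosure k)))))] :
    (FEt.restrict f).Full ∧ (FEt.restrict f).Faithful := by
  have hne : Nonempty X := by
    obtain ⟨p⟩ := (inferInstance : Nonempty ↥(pullback f
      (Spec.map (CommRingCat.ofHom (algebraMap k (AlgebraicClosure k))))))
    exact ⟨pullback.fst f _ p⟩
  have : Subsingleton ↥(Spec (CommRingCat.of k)) :=
    inferInstanceAs (Subsingleton (PrimeSpectrum k))
  have hT : ∀ S : Set (Spec (CommRingCat.of k)), IsClopen S → S.Nonempty →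
      (S ∩ Set.range f).Nonempty := fun S _ ⟨x, hx⟩ =>
    ⟨x, hx, ⟨hne.some, Subsingleton.elim _ _⟩⟩
  refine ⟨Groth.Agent.FEtEq25.full_restrict f hT fun {Z} g hg C hC => ?_,
    Groth.Agent.FEtEq25.faithful_restrict f hT⟩
  have : IsFinite g := hg.1
  have : JacobsonSpace Z := LocallyOfFiniteType.jacobsonSpace g
  have : Finite Z := Set.finite_univ_iff.1
    ((g.finite_preimage_singleton (IsLocalRing.closedPoint k)).subset
      fun x _ => Subsingleton.elim _ _)
  refine ⟨pullback.fst g f '' C, isClopen_discrete _, ?_⟩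
  ext p
  refine ⟨?_, fun hp => ⟨p, hp, rfl⟩⟩
  rintro ⟨q, hq, hqp⟩
  obtain ⟨s, hs, hspt⟩ := Groth.Agent.FEtEq25.exists_fiber_point
    (Spec.map (CommRingCat.ofHom (algebraMap k (AlgebraicClosure k)))) g (pullback.fst g f p)
    (Subsingleton.elim _ _)
  have : PreconnectedSpace ↥(pullback f (s ≫ g)) := by rw [hs]; infer_instance
  exact Groth.Agent.FEtEq25.fibre_subset_or_disjoint f g s hC (hqp.trans hspt.symm) hspt.symm hq
end Groth.Agent.S0268
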