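import Groth.Statements.S0269
import Groth.Agent.Lib.FEtLimit25.Field
import Groth.Agent.Lib.FEtLimit25.TopInv
import Groth.Agent.Lib.RelCyc15.PerfectPull

set_option autoImplicit false
universe u
open Pi1

namespace Groth.Agent.S0269

open AlgebraicGeometry CategoryTheory CategoryTheory.Limits in
/-- Functor form of the injectivity of pi_1(X_{kbar}) -> pi_1(X): Let X be quasi-compact and
quasi-separated over a field k with X_{kbar} connected. Every finite etale cover of X_{kbar} admits
an open and closed immersion, over X_{kbar}, into the base change of some finite etale cover of X. -/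
theorem result (k : Type u) [Field k] {X : Scheme.{u}} (f : X ⟶ Spec (CommRingCat.of k)) [CompactSpace X]
    [QuasiSeparatedSpace X]
    [ConnectedSpace ↥(pullback f (Spec.map (CommRingCat.ofHom (algebraMap k (AlgebraicClosure k)))))]
    (V : FEt.Cat (pullback f (Spec.map (CommRingCat.ofHom (algebraMap k (AlgebraicClosure k)))))) :
    ∃ (U : FEt.Cat X) (ι : V ⟶ (FEt.restrict (pullback.fst f (Spec.map (CommRingCat.ofHom (algebraMap k (AlgebraicClosure k)))))).obj U),
      IsOpenImmersion ι.left ∧ IsClosedImmersion ι.left := by
  let K := AlgebraicClosure k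
  let g : V.left ⟶ pullback f (Spec.map (CommRingCat.ofHom (algebraMap k K))) := V.hom
  haveI : IsFinite g := V.prop.1
  haveI : Etale g := V.prop.2
  obtain ⟨L, hL, YL, gL, hgf, hge, c, hc1, hc2, e, he⟩ := FEtLimit25.exists_model_field k K f g
  haveI := hgf; haveI := hge
  let Ls : IntermediateField k L := separableClosure k L
  haveI := separableClosure.isPurelyInseparable k L
  haveI := separableClosure.isSeparable k L
  obtain ⟨hs1, hs2⟩ := FEtLimit25.isFinite_etale_of_separable k Ls
  haveI := hs1; haveI := hs2
  let s := Spec.map (CommRingCat.ofHom (algebraMap k Ls))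
  let σ := Spec.map (CommRingCat.ofHom (algebraMap Ls L))
  haveI : UniversallyInjective σ := RelCyc15.universallyInjective_spec Ls L
  haveI : Surjective σ := RelCyc15.surjective_spec Ls L
  haveI : IsIntegralHom σ := by
    rw [IsIntegralHom.SpecMap_iff]
    exact fun x => Algebra.IsIntegral.isIntegral (R := Ls) x
  have hσs : σ ≫ s = Spec.map (CommRingCat.ofHom (algebraMap k L)) := by
    show Spec.map _ ≫ Spec.map _ = _
    rw [← Spec.map_comp]; rfl
  let h : pullback f (Spec.map (CommRingCat.ofHom (algebraMap k L))) ⟶ pullback f s :=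
    pullback.lift (pullback.fst _ _) (pullback.snd _ _ ≫ σ) (by rw [Category.assoc, hσs, pullback.condition])
  have hh : IsPullback h (pullback.snd f (Spec.map (CommRingCat.ofHom (algebraMap k L)))) (pullback.snd f s) σ := by
    refine IsPullback.of_right ?_ (pullback.lift_snd _ _ _) (IsPullback.of_hasPullback f s)
    rw [pullback.lift_fst, hσs]
    exact IsPullback.of_hasPullback f _
  haveI : UniversallyInjective h := MorphismProperty.of_isPullback hh.flip ‹UniversallyInjective σ›
  haveI : Surjective h := MorphismProperty.of_isPullback hh.flip ‹Surjective σ›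
  haveI : IsIntegralHom h := MorphismProperty.of_isPullback hh.flip ‹IsIntegralHom σ›
  obtain ⟨Ys, gs, d, hsf, hse, sq⟩ := FEtLimit25.exists_finiteEtale_descend h gL
  haveI := hsf; haveI := hse
  let p := pullback.fst f s
  haveI : IsFinite p := MorphismProperty.pullback_fst _ _ inferInstance
  haveI : Etale p := MorphismProperty.pullback_fst _ _ inferInstance
  let U : FEt.Cat X := MorphismProperty.Over.mk ⊤ (gs ≫ p) ⟨inferInstance, inferInstance⟩
  let pr := pullback.fst f (Spec.map (CommRingCat.ofHom (algebraMap k K)))
  have hb : (c ≫ h) ≫ p = pr := by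
    show (c ≫ h) ≫ pullback.fst f s = _
    rw [Category.assoc, pullback.lift_fst]
    exact hc1
  have hV : IsPullback (e ≫ d) g gs (c ≫ h) := he.paste_horiz sq.flip
  let m : V.left ⟶ pullback (gs ≫ p) pr :=
    hV.isoPullback.hom ≫ pullback.mapDesc gs (c ≫ h) p ≫ (pullback.congrHom rfl hb).hom
  have hm : m ≫ pullback.snd (gs ≫ p) pr = g := by
    show (hV.isoPullback.hom ≫ pullback.mapDesc gs (c ≫ h) p ≫ (pullback.congrHom rfl hb).hom) ≫ _ = g
    simp [pullback.congrHom, pullback.mapDesc, pullback.map, pullback.lift_snd, pullback.lift_fst]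
  obtain ⟨ho, hcl⟩ := FEtLimit25.isOpenImmersion_mapDesc gs (c ≫ h) p
  haveI := ho; haveI := hcl
  refine ⟨U, MorphismProperty.Over.homMk m hm, ?_, ?_⟩
  · show IsOpenImmersion m
    infer_instance
  · show IsClosedImmersion m
    infer_instance

end Groth.Agent.S0269
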