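import Groth.Statements.S0270
import Groth.Agent.Lib.FEtLimit25.Field
import Groth.Agent.Lib.FEtEq25.Cat
import Groth.Agent.Lib.RelCyc15.PerfectPull
import Groth.Agent.S0283

set_option autoImplicit false
universe u
open Pi1

namespace Groth.Agent.S0270

set_option backward.isDefEq.respectTransparency.types false

open AlgebraicGeometry CategoryTheory CategoryTheory.Limits in
/-- A point of `U` over `X ⊗ k̄` is covered by the image of a finite étale `k`-scheme times `X`. -/
theorem exists_piece (k : Type u) [Field k] {X : Scheme.{u}} (f : X ⟶ Spec (CommRingCat.of k)) [CompactSpace X]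
    [QuasiSeparatedSpace X] (U : FEt.Cat X)
    (σ : pullback f (Spec.map (CommRingCat.ofHom (algebraMap k (AlgebraicClosure k)))) ⟶ U.left)
    (hσ : σ ≫ U.hom = pullback.fst f (Spec.map (CommRingCat.ofHom (algebraMap k (AlgebraicClosure k))))) :
    ∃ (V : FEt.Cat (Spec (CommRingCat.of k))) (m : (FEt.restrict f).obj V ⟶ U), ∀ x, ∃ y, m.left y = σ x := by
  let w : U.left ⟶ X := U.hom
  haveI : IsFinite w := U.prop.1
  haveI : Etale w := U.prop.2
  haveI : LocallyOfFinitePresentation w := inferInstance
  obtain ⟨L, hL, τ, c, hc1, hτ, hcτ⟩ := FEtLimit25.exists_hom_field k (AlgebraicClosure k) f w σ hσ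
  let Ls : IntermediateField k L := separableClosure k L
  haveI := separableClosure.isPurelyInseparable k L
  haveI := separableClosure.isSeparable k L
  obtain ⟨hs1, hs2⟩ := FEtLimit25.isFinite_etale_of_separable k Ls
  haveI := hs1; haveI := hs2
  let s := Spec.map (CommRingCat.ofHom (algebraMap k Ls))
  let ρ := Spec.map (CommRingCat.ofHom (algebraMap Ls L))
  haveI : UniversallyInjective ρ := RelCyc15.universallyInjective_spec Ls L
  haveI : Surjective ρ := RelCyc15.surjective_spec Ls L
  haveI : IsIntegralHom ρ := by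
    rw [IsIntegralHom.SpecMap_iff]
    exact fun x => Algebra.IsIntegral.isIntegral (R := Ls) x
  have hρs : ρ ≫ s = Spec.map (CommRingCat.ofHom (algebraMap k L)) := by
    show Spec.map _ ≫ Spec.map _ = _
    rw [← Spec.map_comp]; rfl
  let h : pullback f (Spec.map (CommRingCat.ofHom (algebraMap k L))) ⟶ pullback f s :=
    pullback.lift (pullback.fst _ _) (pullback.snd _ _ ≫ ρ) (by rw [Category.assoc, hρs, pullback.condition])
  have hh : IsPullback h (pullback.snd f (Spec.map (CommRingCat.ofHom (algebraMap k L)))) (pullback.snd f s) ρ := by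
    refine IsPullback.of_right ?_ (pullback.lift_snd _ _ _) (IsPullback.of_hasPullback f s)
    rw [pullback.lift_fst, hρs]
    exact IsPullback.of_hasPullback f _
  haveI : UniversallyInjective h := MorphismProperty.of_isPullback hh.flip ‹UniversallyInjective ρ›
  haveI : Surjective h := MorphismProperty.of_isPullback hh.flip ‹Surjective ρ›
  haveI : IsIntegralHom h := MorphismProperty.of_isPullback hh.flip ‹IsIntegralHom ρ›
  let p := pullback.fst f s
  have hhp : h ≫ p = pullback.fst f (Spec.map (CommRingCat.ofHom (algebraMap k L))) := pullback.lift_fst _ _ _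
  haveI : IsFinite (pullback.snd w p) := MorphismProperty.pullback_snd _ _ inferInstance
  haveI : Etale (pullback.snd w p) := MorphismProperty.pullback_snd _ _ inferInstance
  let T0 : FEt.Cat (pullback f s) := MorphismProperty.Over.mk ⊤ (𝟙 _) ⟨inferInstance, inferInstance⟩
  let W' : FEt.Cat (pullback f s) := MorphismProperty.Over.mk ⊤ (pullback.snd w p) ⟨inferInstance, inferInstance⟩
  let β : pullback (𝟙 (pullback f s)) h ⟶ pullback (pullback.snd w p) h :=
    pullback.lift (pullback.lift (pullback.snd _ _ ≫ τ) (pullback.snd _ _ ≫ h) (by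
      rw [Category.assoc, hτ, Category.assoc, hhp])) (pullback.snd _ _) (pullback.lift_snd _ _ _)
  let βh : (FEt.restrict h).obj T0 ⟶ (FEt.restrict h).obj W' :=
    MorphismProperty.Over.homMk β (pullback.lift_snd _ _ _)
  haveI := (Groth.Agent.S0283.result h).1
  obtain ⟨φ, hφ⟩ := (FEt.restrict h).map_surjective βh
  let φl : pullback f s ⟶ pullback w p := φ.left
  have hφs : φl ≫ pullback.snd w p = 𝟙 _ := MorphismProperty.Over.w φ
  let τ' : pullback f s ⟶ U.left := φl ≫ pullback.fst w p
  have hτ' : τ' ≫ w = p := by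
    show (φl ≫ pullback.fst w p) ≫ w = p
    rw [Category.assoc, pullback.condition, reassoc_of% hφs]
  have hhτ : h ≫ τ' = τ := by
    let l : pullback f (Spec.map (CommRingCat.ofHom (algebraMap k L))) ⟶ pullback (𝟙 (pullback f s)) h :=
      pullback.lift h (𝟙 _) (by simp)
    have e1 : β ≫ pullback.fst (pullback.snd w p) h = pullback.fst (𝟙 (pullback f s)) h ≫ φl := by
      have e0 : ((FEt.restrict h).map φ).left = β := by rw [hφ]; rfl
      rw [← e0]
      exact pullback.lift_fst _ _ _
    have e2 : h ≫ φl = l ≫ β ≫ pullback.fst (pullback.snd w p) h := by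
      rw [e1, ← Category.assoc, pullback.lift_fst]
    show h ≫ φl ≫ pullback.fst w p = τ
    rw [reassoc_of% e2, pullback.lift_fst_assoc, pullback.lift_fst, pullback.lift_snd_assoc, Category.id_comp]
  let V : FEt.Cat (Spec (CommRingCat.of k)) := MorphismProperty.Over.mk ⊤ s ⟨hs1, hs2⟩
  let ml : pullback s f ⟶ U.left := (pullbackSymmetry s f).hom ≫ τ'
  have hml : ml ≫ w = pullback.snd s f := by
    show ((pullbackSymmetry s f).hom ≫ τ') ≫ w = _
    rw [Category.assoc, hτ']
    exact pullbackSymmetry_hom_comp_fst _ _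
  refine ⟨V, MorphismProperty.Over.homMk ml hml, fun x => ⟨(c ≫ h ≫ (pullbackSymmetry s f).inv) x, ?_⟩⟩
  have e : (c ≫ h ≫ (pullbackSymmetry s f).inv) ≫ ml = σ := by
    show (c ≫ h ≫ (pullbackSymmetry s f).inv) ≫ (pullbackSymmetry s f).hom ≫ τ' = σ
    rw [Category.assoc, Category.assoc, Iso.inv_hom_id_assoc, hhτ, hcτ]
  exact congrArg (fun g : pullback f _ ⟶ U.left => g x) e

open AlgebraicGeometry CategoryTheory CategoryTheory.Limits in
/-- (Exactness of the homotopy sequence of etale fundamental groups at pi_1(X), in functor form.) Let X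
be quasi-compact and quasi-separated over a field k with X_{kbar} connected, kbar an algebraic
closure of k. If a finite etale cover U of X becomes completely split (a disjoint union of copies of
X_{kbar}) after base change to kbar, then there are a finite etale k-scheme V and an X-morphism from
V x_k X to U which is surjective. -/
theorem result (k : Type u) [Field k] {X : Scheme.{u}} (f : X ⟶ Spec (CommRingCat.of k)) [CompactSpace X]
    [QuasiSeparatedSpace X]
    [ConnectedSpace ↥(pullback f (Spec.map (CommRingCat.ofHom (algebraMap k (AlgebraicClosure k)))))]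
    (U : FEt.Cat X) (hU : Pi1.IsSplit ((FEt.restrict (pullback.fst f (Spec.map (CommRingCat.ofHom (algebraMap k (AlgebraicClosure k)))))).obj U)) :
    ∃ (V : FEt.Cat (Spec (CommRingCat.of k))) (e : (FEt.restrict f).obj V ⟶ U), Surjective e.left := by
  let K := AlgebraicClosure k
  let pr := pullback.fst f (Spec.map (CommRingCat.ofHom (algebraMap k K)))
  obtain ⟨ι, hι, e, he⟩ := hU
  haveI := hι
  let w : U.left ⟶ X := U.hom
  haveI : IsFinite w := U.prop.1
  haveI : Etale w := U.prop.2
  haveI : LocallyOfFinitePresentation w := inferInstance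
  let e' : pullback w pr ≅ ∐ fun _ : ι => pullback f (Spec.map (CommRingCat.ofHom (algebraMap k K))) := e
  let σ : ι → (pullback f (Spec.map (CommRingCat.ofHom (algebraMap k K))) ⟶ U.left) := fun i =>
    Sigma.ι (fun _ : ι => pullback f (Spec.map (CommRingCat.ofHom (algebraMap k K)))) i ≫ e'.inv ≫ pullback.fst w pr
  have he' : ∀ i, Sigma.ι (fun _ : ι => pullback f (Spec.map (CommRingCat.ofHom (algebraMap k K)))) i ≫ e'.inv ≫
      pullback.snd w pr = 𝟙 _ := he
  have hσ : ∀ i, σ i ≫ w = pr := fun i => by
    show (_ ≫ _ ≫ pullback.fst w pr) ≫ w = pr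
    rw [Category.assoc, Category.assoc, pullback.condition, reassoc_of% he' i]
  choose Vt mt hxt using fun i => exists_piece k f U (σ i) (hσ i)
  haveI : PreservesFiniteColimits (FEt.restrict f) := FEtEq25.preservesFiniteColimits_restrict f
  let m := (isColimitOfPreserves (FEt.restrict f) (coproductIsCoproduct Vt)).desc
    ⟨U, Discrete.natTrans fun ⟨i⟩ => mt i⟩
  refine ⟨∐ Vt, m, ⟨fun u => ?_⟩⟩
  haveI : Surjective (Spec.map (CommRingCat.ofHom (algebraMap k K))) :=
    ⟨fun _ => ⟨⟨⊥, Ideal.isPrime_bot⟩, Subsingleton.elim (α := PrimeSpectrum k) _ _⟩⟩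
  haveI : Surjective (pullback.fst w pr) :=
    haveI : Surjective pr := MorphismProperty.pullback_fst _ _ inferInstance
    MorphismProperty.pullback_fst _ _ inferInstance
  obtain ⟨z, rfl⟩ := (pullback.fst w pr).surjective u
  obtain ⟨⟨i, x⟩, hx⟩ := (sigmaMk (fun _ : ι => pullback f (Spec.map (CommRingCat.ofHom (algebraMap k K))))).surjective (e'.hom z)
  rw [sigmaMk_mk] at hx
  obtain ⟨y, hy⟩ := hxt i x
  refine ⟨((FEt.restrict f).map (Sigma.ι Vt i)).left y, ?_⟩
  have hm : (FEt.restrict f).map (Sigma.ι Vt i) ≫ m = mt i :=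
    (isColimitOfPreserves (FEt.restrict f) (coproductIsCoproduct Vt)).fac _ ⟨i⟩
  have := congrArg (fun g : (FEt.restrict f).obj (Vt i) ⟶ U => g.left y) hm
  refine this.trans (hy.trans ?_)
  show (pullback.fst w pr) (e'.inv (Sigma.ι (fun _ : ι => pullback f (Spec.map (CommRingCat.ofHom (algebraMap k K)))) i x)) = _
  rw [hx]
  exact congrArg (fun g : pullback w pr ⟶ pullback w pr => pullback.fst w pr (g z)) e'.hom_inv_id

end Groth.Agent.S0270
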