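import Groth.Statements.S0271
import Groth.Agent.Lib.InertEt25.Main
-- import your own Groth.Agent.* helpers here

set_option autoImplicit false
universe u
open Pi1

namespace Groth.Agent.S0271

open AlgebraicGeometry CategoryTheory CategoryTheory.Limits in
/-- Let a finite group G act on a ring R, let q be a prime of R with inertia subgroup I (elements acting
trivially modulo q). Then the ring of I-invariants is etale over the ring of G-invariants at the
prime below q: some principal localization of the I-invariants at an element outside that prime is
an etale algebra over the G-invariants. -/
theorem result (G R : Type u) [Group G] [Finite G] [CommRing R] [MulSemiringAction G R]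
    (q : Ideal R) [q.IsPrime] :
    ∃ g : FixedPoints.subring R (q.inertia G),
      g ∉ q.comap (FixedPoints.subring R (q.inertia G)).subtype ∧
      Algebra.Etale (FixedPoints.subring R G) (Localization.Away g) := by
  obtain ⟨g, hg, het⟩ := Groth.Agent.InertEt25.exists_etale_of_separating (q.inertia G) q
    fun σ hσ => Groth.Agent.InertEt25.exists_separating_of_inertia q σ hσ
  exact ⟨g, hg, het⟩

end Groth.Agent.S0271
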