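import Groth.Statements.S0272
import Groth.Agent.Lib.Lef25.CI
import Groth.Agent.Lib.DepthAlong11.Flat
import Groth.Agent.Lib.Pur25.Completion

set_option autoImplicit false
universe u
open Pi1

namespace Groth.Agent.S0272

open AlgebraicGeometry CategoryTheory CategoryTheory.Limits in
/-- Let A be a Noetherian local ring which is a complete intersection (its completion is a regular local
ring modulo a regular sequence) of dimension at least 3. Then every finite etale cover of the
punctured spectrum of A extends to Spec A. -/
theorem result (A : Type u) [CommRing A] [IsNoetherianRing A] [IsLocalRing A] (hA : Pi1.IsCompleteIntersection A)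
    (hd : (3 : WithBot ℕ∞) ≤ ringKrullDim A) : FEt.PurityHolds A := by
  haveI := Compl.isNoetherianRing_maximalIdeal_adicCompletion A
  let C := AdicCompletion (IsLocalRing.maximalIdeal A) A
  obtain ⟨R, _, _, rs, hm, hreg, ⟨e⟩⟩ := hA
  have hCdim : (3 : WithBot ℕ∞) ≤ ringKrullDim C := by
    rw [Compl.ringKrullDim_maximalIdeal_adicCompletion]; exact hd
  haveI := CIPic27.isLocalRing_quotient_ofList hm
  have hC : FEt.PurityHolds C := RelPure25.purityHolds_of_ringEquiv e
    (Lef25.purity_ci rs.length R rs rfl hm hreg.toIsWeaklyRegular (by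
      rw [← ringKrullDim_eq_of_ringEquiv e]; exact hCdim))
  haveI : Module.Flat A C := AdicCompletion.flat_of_isNoetherian _
  have h2C : ((2 : ℕ) : ℕ∞) ≤ LocCoh.depth C C :=
    CIPic27.le_depth_absCI C ⟨R, inferInstance, inferInstance, rs, hm, hreg, ⟨e⟩⟩
      (le_trans (by exact_mod_cast (show (2 : ℕ) ≤ 3 by norm_num)) hCdim)
  have hmap : (IsLocalRing.maximalIdeal A).map (algebraMap A C) = IsLocalRing.maximalIdeal C :=
    AdicCompletion.maximalIdeal_eq_map.symm
  haveI : IsLocalHom (algebraMap A C) := Pur25.isLocalHom_completion (A := A)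
  have hfib : LocCoh.depth (EGA4.FibRing A C) (EGA4.FibRing A C) = 0 := by
    haveI : IsLocalRing (EGA4.FibRing A C) :=
      haveI : Nontrivial (EGA4.FibRing A C) := Ideal.Quotient.nontrivial_iff.2 (by
        show (IsLocalRing.maximalIdeal A).map (algebraMap A C) ≠ ⊤
        rw [hmap]; exact (IsLocalRing.maximalIdeal.isMaximal C).ne_top)
      IsLocalRing.of_surjective' _ Ideal.Quotient.mk_surjective
    have h1 := DepthLib.depth_le_supportDim (R := EGA4.FibRing A C) (M := EGA4.FibRing A C)
    have hF : IsField (EGA4.FibRing A C) :=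
      Ideal.Quotient.maximal_ideal_iff_isField_quotient _ |>.1 (by show ((IsLocalRing.maximalIdeal A).map (algebraMap A C)).IsMaximal; rw [hmap]; infer_instance)
    rw [Module.supportDim_self_eq_ringKrullDim, ringKrullDim_eq_zero_of_isField hF, ← WithBot.coe_zero,
      WithBot.coe_le_coe] at h1
    exact nonpos_iff_eq_zero.1 h1
  have h2A : (2 : ℕ∞) ≤ LocCoh.depth A A := by
    have h := DepthAlong11.depth_baseChange (A := A) (B := C) A
    rw [hfib, add_zero] at h
    rw [← h, LocCoh.depth, DepthLib.idealDepth_congr (TensorProduct.AlgebraTensorModule.rid A C C)]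
    exact h2C
  exact RelPure25.purityHolds_of_flat_extension (algebraMap A C) (RingHom.flat_algebraMap_iff.2 inferInstance) h2A
    (hmap.symm.le.trans Ideal.le_radical) hC

end Groth.Agent.S0272
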