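import Groth.Statements.S0273
import Groth.Agent.Lib.RelPure25.Stalk
import Groth.Agent.Lib.RelPure25.GlueLocal
import Groth.Agent.Lib.PurityExt25.Main
import Groth.Agent.Lib.FEtEq25.DepthTwo

set_option autoImplicit false
universe u
open Pi1

namespace Groth.Agent.S0273

open AlgebraicGeometry CategoryTheory CategoryTheory.Limits in
/-- Let f : X -> S be smooth with S Noetherian and U an open of X such that U contains the whole fibre
over every point of S whose local ring has depth at most 1, and U is dense in every fibre. Then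
restricting finite etale covers from X to U is an equivalence of categories. -/
theorem result {X S : Scheme.{u}} (f : X ⟶ S) [Smooth f] [IsNoetherian S] (U : X.Opens)
    (h3 : ∀ s : S, LocCoh.depth (S.presheaf.stalk s) (S.presheaf.stalk s) ≤ 1 → f.base ⁻¹' {s} ⊆ (U : Set X))
    (h4 : ∀ s : S, f.base ⁻¹' {s} ⊆ closure ((U : Set X) ∩ f.base ⁻¹' {s})) :
    (FEt.restrict U.ι).IsEquivalence := by
  haveI : IsLocallyNoetherian X := LocallyOfFiniteType.isLocallyNoetherian f
  have hUd : Dense (U : Set X) := fun x => closure_mono Set.inter_subset_left (h4 (f.base x) rfl)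
  have hdep : ∀ x : X, x ∉ U → (2 : ℕ∞) ≤ LocCoh.depth (S.presheaf.stalk (f x)) (S.presheaf.stalk (f x)) := by
    intro x hx
    by_contra hcon
    exact hx (h3 (f x) ((ENat.lt_add_one_iff (by norm_num : (1 : ℕ∞) ≠ ⊤)).1 (by simpa [one_add_one_eq_two] using not_le.1 hcon)) rfl)
  have hd2 : ∀ x : X, x ∉ U → (2 : ℕ∞) ≤ LocCoh.depth (X.presheaf.stalk x) (X.presheaf.stalk x) := fun x hx =>
    (hdep x hx).trans (RelPure25.depth_le_depth_stalk f x)
  have hp : ∀ x : X, x ∉ U → FEt.PurityHolds (X.presheaf.stalk x) := fun x hx =>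
    RelPure25.purityHolds_stalk_of_smooth f x (le_trans (by norm_num) (hdep x hx))
      (RelPure25.one_le_ringKrullDim_fiberStalk f U h4 x hx)
  obtain ⟨hfull, hfaith⟩ := FEtEq25.fullFaithful_of_depth_two U hUd hd2
  haveI : (FEt.restrict U.ι).EssSurj := by
    refine RelPure25.essSurj_restrict_of_local U (fun V => ?_) (fun V hV => ?_)
    · refine FEtEq25.fullFaithful_of_depth_two (V.ι ⁻¹ᵁ U) ?_ fun y hy => ?_
      · exact hUd.preimage V.ι.isOpenEmbedding.isOpenMap
      · rw [RelPure25.depth_stalk_opens]; exact hd2 (V.ι y) hy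
    · haveI : CompactSpace (V : Scheme.{u}) := isCompact_iff_compactSpace.1 hV.isCompact
      haveI : IsNoetherian (V : Scheme.{u}) := {}
      exact PurityExt25.essSurj_restrict _ fun y hy => RelPure25.purityHolds_stalk_opens V y (hp (V.ι y) hy)
  exact { faithful := hfaith, full := hfull }

end Groth.Agent.S0273
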