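import Groth.Statements.S0275
import Groth.Agent.Lib.Disc25.UnivInjAlg

set_option autoImplicit false
universe u
open scoped TensorProduct
open Pi1

namespace Groth.Agent.S0275

/-- Let R -> S be universally injective and M an R-module such that S ⊗_R M is finitely generated over
S. Then M is finitely generated over R. -/
theorem result (R S : Type u) [CommRing R] [CommRing S] [Algebra R S]
    (h : Pi1.UnivInjective R S) (M : Type u) [AddCommGroup M] [Module R M]
    [Module.Finite S (S ⊗[R] M)] : Module.Finite R M := by
  exact Groth.Agent.Disc25.UI.finite_descends h M
end Groth.Agent.S0275
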