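import Groth.Statements.S0280
import Groth.Agent.Lib.Achinger25.Main

set_option autoImplicit false
universe u
open Pi1

namespace Groth.Agent.S0280

/-- Let k be a field of characteristic p > 0 and C a k-algebra which is etale over the polynomial ring
in n variables. Then there is a (possibly different) k-algebra map from that polynomial ring to C
which is finite etale. -/
theorem result (k : Type u) [Field k] (p : ℕ)
    [Fact p.Prime] [CharP k p] (n : ℕ) (C : Type u) [CommRing C]
    [Algebra (MvPolynomial (Fin n) k) C] [Algebra k C] [IsScalarTower k (MvPolynomial (Fin n) k) C]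
    [Algebra.Etale (MvPolynomial (Fin n) k) C] :
    ∃ φ : MvPolynomial (Fin n) k →ₐ[k] C, φ.toRingHom.Finite ∧ φ.toRingHom.Etale := by
  classical
  let P := MvPolynomial (Fin n) k
  let x : Fin n → C := fun i => algebraMap P C (MvPolynomial.X i)
  have hx : MvPolynomial.aeval (R := k) x = IsScalarTower.toAlgHom k P C :=
    MvPolynomial.algHom_ext fun i => (MvPolynomial.aeval_X x i).trans rfl
  haveI : Algebra.FiniteType k C := Algebra.FiniteType.trans (S := P) inferInstance inferInstance
  obtain ⟨Y, hY⟩ := Algebra.FiniteType.out (R := k) (A := C)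
  obtain ⟨x', -, h1, h2⟩ := Groth.Agent.Achinger25.exists_finite p ⊤ Y (fun _ _ => trivial) x
    (by rw [hx]; exact RingHom.etale_algebraMap.2 inferInstance)
    (fun c => isIntegral_algebraMap
      (x := (⟨c, Algebra.adjoin_mono Set.subset_union_right (hY ▸ Algebra.mem_top)⟩ :
        Algebra.adjoin k (Set.range x ∪ ↑Y))))
  exact ⟨MvPolynomial.aeval x', h2, h1⟩

end Groth.Agent.S0280
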