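import Groth.Statements.S0282
import Groth.Agent.Lib.Achinger25.Lift

set_option autoImplicit false
universe u
open scoped TensorProduct
open Pi1

namespace Groth.Agent.S0282

/-- Let R be a ring of prime characteristic p, A a quotient ring of R and B a finite étale A-algebra.
Then there are a finite étale R-algebra C and a surjective A-algebra homomorphism from A ⊗_R C onto
B. (This covering-level statement yields the injectivity of π₁(Spec A) → π₁(Spec R).) -/
theorem result (p : ℕ) [Fact p.Prime] (R A B : Type u)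
    [CommRing R] [CommRing A] [CommRing B] [CharP R p] [Algebra R A]
    (hRA : Function.Surjective (algebraMap R A)) [Algebra A B] [Module.Finite A B]
    [Algebra.Etale A B] :
    ∃ (C : Type u) (_ : CommRing C) (_ : Algebra R C), Module.Finite R C ∧ Algebra.Etale R C ∧
      ∃ ψ : A ⊗[R] C →ₐ[A] B, Function.Surjective ψ := by
  classical
  let F := ULift.{u} (ZMod p)
  let iF : F →+* R := (ZMod.castHom (dvd_refl p) R).comp ULift.ringEquiv.toRingHom
  letI : Algebra F R := iF.toAlgebra
  letI : Algebra F A := ((algebraMap R A).comp iF).toAlgebra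
  obtain ⟨A₁, B₁, hB₁, hA₁B₁, hfg, hfin, het, j, hj, hjs⟩ := Groth.Agent.Achinger25.exists_fg_descent F A B
  obtain ⟨n, π, hπ⟩ := Algebra.FiniteType.iff_quotient_mvPolynomial''.1 (A₁.fg_iff_finiteType.1 hfg)
  let P := MvPolynomial (Fin n) F
  let e : (P ⧸ RingHom.ker π.toRingHom) ≃+* A₁ := RingHom.quotientKerEquivOfSurjective (f := π.toRingHom) hπ
  letI : Algebra (P ⧸ RingHom.ker π.toRingHom) B₁ := ((algebraMap A₁ B₁).comp e.toRingHom).toAlgebra
  haveI : Module.Finite (P ⧸ RingHom.ker π.toRingHom) B₁ := RingHom.finite_algebraMap.1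
    ((RingHom.finite_algebraMap.2 hfin).comp (RingHom.Finite.of_surjective _ e.surjective))
  haveI : Algebra.Etale (P ⧸ RingHom.ker π.toRingHom) B₁ := RingHom.etale_algebraMap.1
    (RingHom.Etale.stableUnderComposition _ _ (RingHom.Etale.of_bijective e.bijective) (RingHom.etale_algebraMap.2 het))
  obtain ⟨C', hC', θ, φ, hθf, hθe, hφ, hφθ⟩ :=
    Groth.Agent.Achinger25.exists_lift F p n (RingHom.ker π.toRingHom) B₁
  choose r hr using fun i => hRA (π (MvPolynomial.X i))
  let ρ : P →+* R := MvPolynomial.eval₂Hom iF r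
  have hρ : (algebraMap R A).comp ρ = A₁.val.toRingHom.comp π.toRingHom := by
    refine MvPolynomial.ringHom_ext (fun c => ?_) fun i => ?_
    · show algebraMap R A (MvPolynomial.eval₂Hom iF r (MvPolynomial.C c)) = (π (MvPolynomial.C c) : A)
      rw [MvPolynomial.eval₂Hom_C]
      exact ((congrArg A₁.val (π.commutes c)).trans (A₁.val.commutes c)).symm
    · show algebraMap R A (MvPolynomial.eval₂Hom iF r (MvPolynomial.X i)) = (π (MvPolynomial.X i) : A)
      rw [MvPolynomial.eval₂Hom_X', hr]
  letI : Algebra P R := ρ.toAlgebra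
  letI : Algebra P C' := θ.toAlgebra
  haveI : Module.Finite P C' := hθf
  haveI : Algebra.Etale P C' := hθe
  letI : Algebra R B := ((algebraMap A B).comp (algebraMap R A)).toAlgebra
  haveI : IsScalarTower R A B := IsScalarTower.of_algebraMap_eq' rfl
  letI : Algebra P B := ((algebraMap R B).comp ρ).toAlgebra
  haveI : IsScalarTower P R B := IsScalarTower.of_algebraMap_eq' rfl
  have hf : ∀ x : P, j (φ (θ x)) = algebraMap A B (algebraMap R A (ρ x)) := fun x => by
    rw [← RingHom.comp_apply φ θ, hφθ, ← RingHom.comp_apply (algebraMap R A) ρ, hρ]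
    exact RingHom.congr_fun hj (e (Ideal.Quotient.mk _ x))
  let f : C' →ₐ[P] B := { j.comp φ with commutes' := hf }
  let g : R ⊗[P] C' →ₐ[R] B := Algebra.TensorProduct.lift (Algebra.ofId R B) f (fun _ _ => Commute.all _ _)
  refine ⟨R ⊗[P] C', inferInstance, inferInstance, inferInstance, inferInstance,
    Algebra.TensorProduct.lift (Algebra.ofId A B) g (fun _ _ => Commute.all _ _), fun b => ?_⟩
  have hb : b ∈ Submodule.span A (Set.range j) := hjs ▸ Submodule.mem_top
  induction hb using Submodule.span_induction with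
  | mem b hb =>
    obtain ⟨b₁, rfl⟩ := hb
    obtain ⟨c, rfl⟩ := hφ b₁
    refine ⟨(1 : A) ⊗ₜ[R] ((1 : R) ⊗ₜ[P] c), ?_⟩
    rw [Algebra.TensorProduct.lift_tmul, map_one, one_mul]
    exact (Algebra.TensorProduct.lift_tmul _ _ _ _ _).trans (by rw [map_one, one_mul]; rfl)
  | zero => exact ⟨0, map_zero _⟩
  | add a c _ _ ha hc =>
    obtain ⟨a', rfl⟩ := ha
    obtain ⟨c', rfl⟩ := hc
    exact ⟨a' + c', map_add _ _ _⟩
  | smul a c _ hc =>
    obtain ⟨c', rfl⟩ := hc
    exact ⟨a • c', map_smul _ _ _⟩

end Groth.Agent.S0282
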