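import Groth.Statements.S0286
import Groth.Agent.S0289
import Groth.Agent.Lib.RelCyc15.PerfectPull

set_option autoImplicit false
universe u
open Pi1

namespace Groth.Agent.S0286

open AlgebraicGeometry CategoryTheory CategoryTheory.Limits in
/-- For a scheme X over a field k of characteristic p (p a prime), pulling back finite étale covers
along the projection X ×_{Spec k} Spec(k^perf) → X, where k^perf is the perfect closure of k, is an
equivalence of categories. -/
theorem result (k : Type u) [Field k] (p : ℕ) [Fact p.Prime] [CharP k p] {X : Scheme.{u}}
    (f : X ⟶ Spec (CommRingCat.of k)) :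
    (FEt.restrict (pullback.fst f
      (Spec.map (CommRingCat.ofHom (PerfectClosure.of k p))))).IsEquivalence := by
  letI : Algebra k (PerfectClosure k p) := (PerfectClosure.of k p).toAlgebra
  haveI : IsPRadical (algebraMap k (PerfectClosure k p)) p := inferInstanceAs (IsPRadical (PerfectClosure.of k p) p)
  haveI : IsPurelyInseparable k (PerfectClosure k p) := IsPRadical.isPurelyInseparable k (PerfectClosure k p) p
  let σ := Spec.map (CommRingCat.ofHom (PerfectClosure.of k p))
  haveI : UniversallyInjective σ := RelCyc15.universallyInjective_spec k (PerfectClosure k p)
  haveI : Surjective σ := RelCyc15.surjective_spec k (PerfectClosure k p)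
  haveI : IsIntegralHom σ := by
    rw [IsIntegralHom.SpecMap_iff]
    exact fun x => Algebra.IsIntegral.isIntegral (R := k) x
  haveI : UniversallyInjective (pullback.fst f σ) := MorphismProperty.pullback_fst _ _ inferInstance
  haveI : Surjective (pullback.fst f σ) := MorphismProperty.pullback_fst _ _ inferInstance
  haveI : IsIntegralHom (pullback.fst f σ) := MorphismProperty.pullback_fst _ _ inferInstance
  exact S0289.result (pullback.fst f σ)

end Groth.Agent.S0286
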