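import Groth.Statements.S0288
import Groth.Agent.Lib.UnrNorm25.Etale
-- import your own Groth.Agent.* helpers here

set_option autoImplicit false
universe u
open Pi1

namespace Groth.Agent.S0288

open AlgebraicGeometry CategoryTheory CategoryTheory.Limits in
/-- Let X be a normal integral scheme with function field K, L a finite field extension of K and Y -> X
the normalization of X in Spec L. If Y -> X is unramified (formally unramified and locally of finite
type), then it is etale, and finite. -/
theorem result {X : Scheme.{u}} [IsIntegral X] (hX : Pi1.IsNormalScheme X) (L : Type u) [Field L]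
    [Algebra X.functionField L] [FiniteDimensional X.functionField L]
    [QuasiCompact (Spec.map (CommRingCat.ofHom (algebraMap X.functionField L)) ≫ X.fromSpecStalk (genericPoint X))]
    [QuasiSeparated (Spec.map (CommRingCat.ofHom (algebraMap X.functionField L)) ≫ X.fromSpecStalk (genericPoint X))]
    [FormallyUnramified (Spec.map (CommRingCat.ofHom (algebraMap X.functionField L)) ≫ X.fromSpecStalk (genericPoint X)).fromNormalization]
    [LocallyOfFiniteType (Spec.map (CommRingCat.ofHom (algebraMap X.functionField L)) ≫ X.fromSpecStalk (genericPoint X)).fromNormalization] :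
    Etale (Spec.map (CommRingCat.ofHom (algebraMap X.functionField L)) ≫ X.fromSpecStalk (genericPoint X)).fromNormalization ∧
    IsFinite (Spec.map (CommRingCat.ofHom (algebraMap X.functionField L)) ≫ X.fromSpecStalk (genericPoint X)).fromNormalization := by
  let f := Spec.map (CommRingCat.ofHom (algebraMap X.functionField L)) ≫ X.fromSpecStalk (genericPoint X)
  have hgen : f.fromNormalization (genericPoint f.normalization) = genericPoint X := by
    let x : Spec (CommRingCat.of L) := IsLocalRing.closedPoint L
    have h1 : IsGenericPoint (f.toNormalization x) Set.univ := by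
      have h := f.toNormalization.denseRange.closure_range
      have h' : Set.range f.toNormalization = {f.toNormalization x} := by
        haveI : Subsingleton (Spec (CommRingCat.of L)) := inferInstanceAs (Subsingleton (PrimeSpectrum L))
        exact Set.eq_singleton_iff_unique_mem.2 ⟨⟨x, rfl⟩, by
          rintro _ ⟨y, rfl⟩; rw [Subsingleton.elim y x]⟩
      rwa [h'] at h
    rw [← (h1.eq (genericPoint_spec f.normalization)), ← Scheme.Hom.comp_apply,
      Scheme.Hom.toNormalization_fromNormalization, Scheme.Hom.comp_apply]
    have h2 : ∀ y : Spec (X.presheaf.stalk (genericPoint X)),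
        X.fromSpecStalk (genericPoint X) y = genericPoint X := fun y => by
      have h3 : X.fromSpecStalk (genericPoint X) y ∈ Set.range (X.fromSpecStalk (genericPoint X)) := ⟨y, rfl⟩
      rw [Scheme.range_fromSpecStalk] at h3
      exact (Specializes.antisymm h3 (genericPoint_specializes _)).eq
    exact h2 _
  refine ⟨Groth.Agent.UnrNorm25.etale_of_unramified hX _ hgen, ?_⟩
  exact (IsFinite.iff_isIntegralHom_and_locallyOfFiniteType _).2 ⟨inferInstance, inferInstance⟩

end Groth.Agent.S0288
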