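import Groth.Statements.S0291
import Groth.Agent.Lib.FEtEq25.DepthTwo

set_option autoImplicit false
universe u
open Pi1

namespace Groth.Agent.S0291

open AlgebraicGeometry CategoryTheory CategoryTheory.Limits in
/-- Let A be a Noetherian local ring and B a finite A-algebra such that the local rings of Spec B at all
closed points have depth at least 2. Then restriction from global sections of Spec B to sections
over the preimage of the punctured spectrum of A is an isomorphism. -/
theorem result (A B : Type u) [CommRing A] [IsNoetherianRing A] [IsLocalRing A] [CommRing B] [Algebra A B]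
    [Module.Finite A B]
    (h : ∀ (m : Ideal B) (_ : m.IsMaximal), (2 : ℕ∞) ≤ LocCoh.depth (Localization.AtPrime m) (Localization.AtPrime m)) :
    IsIso ((Spec (CommRingCat.of B)).presheaf.map (homOfLE (le_top :
      Spec.map (CommRingCat.ofHom (algebraMap A B)) ⁻¹ᵁ FEt.puncturedSpec A ≤ ⊤)).op) := by
  set U := Spec.map (CommRingCat.ofHom (algebraMap A B)) ⁻¹ᵁ FEt.puncturedSpec A with hU
  have : IsNoetherianRing B := IsNoetherianRing.of_finite A B
  have hb := Groth.Agent.FEtEq25.bijective_restrict (Z := Spec (CommRingCat.of B)) U (fun z hz => ?_) ⊤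
  · rw [ConcreteCategory.isIso_iff_bijective]
    have heq : U = ⊤ ⊓ U := (top_inf_eq U).symm
    have hfac : (Spec (CommRingCat.of B)).presheaf.map (homOfLE (le_top : U ≤ ⊤)).op =
        (Spec (CommRingCat.of B)).presheaf.map (homOfLE (inf_le_left : ⊤ ⊓ U ≤ ⊤)).op ≫
          (Spec (CommRingCat.of B)).presheaf.map (eqToHom heq).op := by
      rw [← Functor.map_comp]; rfl
    rw [hfac]
    exact (ConcreteCategory.bijective_of_isIso ((Spec (CommRingCat.of B)).presheaf.map
      (eqToHom heq).op)).comp hb
  · have hzm : (z : PrimeSpectrum B).asIdeal.IsMaximal := by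
      have : (PrimeSpectrum.comap (algebraMap A B) z) = IsLocalRing.closedPoint A := not_not.1 hz
      have hmax : ((z : PrimeSpectrum B).asIdeal.comap (algebraMap A B)).IsMaximal := by
        rw [show (z : PrimeSpectrum B).asIdeal.comap (algebraMap A B) = IsLocalRing.maximalIdeal A
          from congrArg PrimeSpectrum.asIdeal this]
        exact IsLocalRing.maximalIdeal.isMaximal A
      exact Ideal.isMaximal_of_isIntegral_of_isMaximal_comap _ hmax
    have e : ((Spec (CommRingCat.of B)).presheaf.stalk z) ≃+* Localization.AtPrime (z : PrimeSpectrum B).asIdeal :=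
      (StructureSheaf.stalkIso B z).symm.toRingEquiv
    rw [Groth.Agent.SMT.depth_eq_of_ringEquiv e.symm]
    exact h _ hzm
end Groth.Agent.S0291
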