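import Groth.Statements.S0297
import Groth.Agent.Lib.FEtEq25.Galois

set_option autoImplicit false
universe u
open Pi1

namespace Groth.Agent.S0297

open AlgebraicGeometry CategoryTheory CategoryTheory.Limits in
/-- For a connected scheme X and geometric points ξ : Spec Ω → X and ξ' : Spec Ω' → X (Ω, Ω'
algebraically closed fields), every morphism of functors from the fibre functor at ξ to the fibre
functor at ξ' on finite étale covers of X is an isomorphism. -/
theorem result {X : Scheme.{u}} [ConnectedSpace X] {Ω Ω' : Type u} [Field Ω]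
    [IsAlgClosed Ω] [Field Ω'] [IsAlgClosed Ω'] (ξ : Spec (CommRingCat.of Ω) ⟶ X)
    (ξ' : Spec (CommRingCat.of Ω') ⟶ X) (φ : FEt.fiber ξ ⟶ FEt.fiber ξ') : IsIso φ := by
  obtain ⟨e⟩ := Groth.Agent.FEtEq25.nonempty_fiberFin_iso ξ ξ'
  have := Groth.Agent.FEtEq25.fiberFunctor ξ
  have : GaloisCategory (FEt.Cat X) :=
    { hasFiberFunctor := ⟨Groth.Agent.FEtEq25.fiberFin ξ, ⟨Groth.Agent.FEtEq25.fiberFunctor ξ⟩⟩ }
  let ψ : Groth.Agent.FEtEq25.fiberFin ξ ⟶ Groth.Agent.FEtEq25.fiberFin ξ' :=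
    ((CategoryTheory.Functor.FullyFaithful.ofFullyFaithful FintypeCat.incl.{u}).whiskeringRight
      (FEt.Cat X)).preimage φ
  have h1 : IsIso (ψ ≫ e.inv) :=
    PreGaloisCategory.FibreFunctor.end_isIso (Groth.Agent.FEtEq25.fiberFin ξ) (ψ ≫ e.inv)
  have h2 : IsIso ψ := IsIso.of_isIso_comp_right ψ e.inv
  have h3 : IsIso (((Functor.whiskeringRight (FEt.Cat X) _ _).obj FintypeCat.incl.{u}).map ψ) :=
    inferInstance
  rw [Functor.FullyFaithful.map_preimage] at h3
  exact h3
end Groth.Agent.S0297
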