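import Groth.Statements.S0298
import Groth.Agent.Lib.FEtLimit25.AbsGalois

set_option autoImplicit false
universe u
open Pi1

namespace Groth.Agent.S0298

open AlgebraicGeometry CategoryTheory CategoryTheory.Limits in
/-- For a field K with algebraic closure K̄, the fundamental group of Spec K at the geometric point Spec
K̄ → Spec K (the automorphism group of the fibre functor on finite étale K-schemes) is isomorphic to
the absolute Galois group of K. The isomorphism is one of abstract groups; the fundamental group
used here carries no topology. -/
theorem result (K : Type u) [Field K] :
    Nonempty (Field.absoluteGaloisGroup K ≃*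
      FEt.piOne (Spec (CommRingCat.of K))
        (Spec.map (CommRingCat.ofHom (algebraMap K (AlgebraicClosure K))))) := by
  let F := FEtEq25.fiberFin (FEtLimit25.geomPt K)
  exact ⟨(PreGaloisCategory.toAutMulEquiv F (Field.absoluteGaloisGroup K)).trans
    (((Functor.FullyFaithful.ofFullyFaithful FintypeCat.incl).whiskeringRight _).autMulEquivOfFullyFaithful F)⟩

end Groth.Agent.S0298
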