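import Groth.Statements.S0308
import Groth.Agent.Lib.InjHull.Matlis

set_option autoImplicit false
universe u v
open Matlis

namespace Groth.Agent.S0308

/-- Over an Artinian local ring, mapping a finite module into an injective hull E of the residue field
preserves length: the module of linear maps M → E has the same length as M. -/
theorem result (R : Type u) [CommRing R] [IsLocalRing R] [IsArtinianRing R] (E : Type u) [AddCommGroup E] [Module R E] (f : IsLocalRing.ResidueField R →ₗ[R] E) (hf : InjHull.IsInjectiveHull f) (M : Type u) [AddCommGroup M] [Module R M] [Module.Finite R M] : Module.length R (M →ₗ[R] E) = Module.length R M := by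
  exact Groth.Agent.InjHullLib.length_dual hf (Groth.Agent.InjHullLib.isFiniteLength_of_finite_of_isArtinianRing M)

end Groth.Agent.S0308
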