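import Groth.Statements.S0310
import Groth.Agent.Lib.InjHull.Socle

set_option autoImplicit false
universe u v
open Matlis

namespace Groth.Agent.S0310

/-- Over a local ring, a module killed elementwise by powers of the maximal ideal and whose socle has
finite dimension n over the residue field embeds into the n-fold sum of an injective hull of the
residue field. -/
theorem result (R : Type u) [CommRing R] [IsLocalRing R] (E : Type u) [AddCommGroup E] [Module R E] (f : IsLocalRing.ResidueField R →ₗ[R] E) (hf : InjHull.IsInjectiveHull f) (M : Type u) [AddCommGroup M] [Module R M] (hM : LocCoh.IsPowerTorsion (IsLocalRing.maximalIdeal R) M) (n : ℕ) [Module.Finite (R ⧸ IsLocalRing.maximalIdeal R) ↥(LocCoh.torsionBy (IsLocalRing.maximalIdeal R) M)] (hn : Module.finrank (R ⧸ IsLocalRing.maximalIdeal R) ↥(LocCoh.torsionBy (IsLocalRing.maximalIdeal R) M) = n) : ∃ g : M →ₗ[R] (Fin n → E), Function.Injective g := by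
  let k := IsLocalRing.ResidueField R
  let T := LocCoh.torsionBy (IsLocalRing.maximalIdeal R) M
  let _ := Ideal.Quotient.field (IsLocalRing.maximalIdeal R)
  let b := (Module.finBasisOfFinrankEq (R ⧸ IsLocalRing.maximalIdeal R) T hn)
  let φ : T →ₗ[R] (Fin n → E) :=
    LinearMap.pi fun i => f ∘ₗ ((LinearMap.proj i) ∘ₗ b.equivFun.toLinearMap).restrictScalars R
  obtain ⟨g, hg⟩ := Module.Injective.extension_property R (Fin n → E) _ _ T.subtype T.injective_subtype φ
    (inj := @Module.Injective.pi _ _ _ _ _ _ _ fun _ => hf.isInjective)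
  refine ⟨g, Groth.Agent.InjHullLib.injective_of_injOn_torsion hM g fun x hx h0 => ?_⟩
  have h1 : φ ⟨x, hx⟩ = 0 := (LinearMap.congr_fun hg ⟨x, hx⟩).symm.trans h0
  have h2 : b.equivFun ⟨x, hx⟩ = 0 := funext fun i => hf.injective ((congrFun h1 i).trans (map_zero f).symm)
  exact congrArg Subtype.val (b.equivFun.map_eq_zero_iff.1 h2)

end Groth.Agent.S0310
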