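import Groth.Statements.S0313
import Groth.Agent.Lib.InjHull.Duality
import Mathlib.RingTheory.AdicCompletion.Algebra
-- import your own Groth.Agent.* helpers here

set_option autoImplicit false
universe u v
open Matlis

namespace Groth.Agent.S0313

/-- Over a Noetherian local ring, the endomorphism ring of an injective hull of the residue field is
isomorphic, as an algebra over the ring, to the completion at the maximal ideal. -/
theorem result (R : Type u) [CommRing R] [IsLocalRing R] [IsNoetherianRing R] (E : Type u) [AddCommGroup E] [Module R E] (f : IsLocalRing.ResidueField R →ₗ[R] E) (hf : InjHull.IsInjectiveHull f) : Nonempty (Module.End R E ≃ₐ[R] AdicCompletion (IsLocalRing.maximalIdeal R) R) := by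
  classical
  let m := IsLocalRing.maximalIdeal R
  let A := AdicCompletion m R
  choose N hN using fun e : E => Groth.Agent.InjHullLib.exists_pow_smul_eq_zero hf e
  choose rep hrep using fun (x : A) (n : ℕ) => Ideal.Quotient.mk_surjective (AdicCompletion.evalₐ m n x)
  have hcompat : ∀ (x : A) (a b : ℕ) (r s : R), a ≤ b → Ideal.Quotient.mk (m ^ a) r = AdicCompletion.evalₐ m a x →
      Ideal.Quotient.mk (m ^ b) s = AdicCompletion.evalₐ m b x → r - s ∈ m ^ a := by
    intro x a b r s hab hr hs
    obtain ⟨c, rfl⟩ := AdicCompletion.mk_surjective m R x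
    rw [AdicCompletion.evalₐ_mk, Ideal.Quotient.mk_eq_mk_iff_sub_mem] at hr hs
    have h1 := c.2 hab
    rw [SModEq.sub_mem, smul_eq_mul, Ideal.mul_top] at h1
    have h2 : (r - c.1 a) + (c.1 a - c.1 b) + (c.1 b - s) ∈ m ^ a :=
      add_mem (add_mem hr h1) (Ideal.pow_le_pow_right hab (by simpa using neg_mem hs))
    simpa using h2
  -- the value does not depend on the level
  have key : ∀ (x : A) (e : E) (n : ℕ) (r : R), (∀ a ∈ m ^ n, a • e = 0) →
      Ideal.Quotient.mk (m ^ n) r = AdicCompletion.evalₐ m n x → r • e = rep x (N e) • e := by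
    intro x e n r he hr
    rw [← sub_eq_zero, ← sub_smul]
    rcases le_total n (N e) with h | h
    · exact he _ (hcompat x n (N e) r _ h hr (hrep x (N e)))
    · refine hN e _ ?_
      rw [← neg_sub]
      exact neg_mem (hcompat x (N e) n _ r h (hrep x (N e)) hr)
  have hval : ∀ (x : A) (e : E) (n : ℕ), (∀ a ∈ m ^ n, a • e = 0) → rep x n • e = rep x (N e) • e :=
    fun x e n he => key x e n _ he (hrep x n)
  let Φ : A → Module.End R E := fun x =>
    { toFun := fun e => rep x (N e) • e
      map_add' := fun e₁ e₂ => by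
        have h : ∀ a ∈ m ^ (N e₁ + N e₂), a • e₁ = 0 ∧ a • e₂ = 0 := fun a ha =>
          ⟨hN e₁ a (Ideal.pow_le_pow_right (by omega) ha), hN e₂ a (Ideal.pow_le_pow_right (by omega) ha)⟩
        rw [← hval x e₁ _ fun a ha => (h a ha).1, ← hval x e₂ _ fun a ha => (h a ha).2,
          ← hval x (e₁ + e₂) _ fun a ha => by rw [smul_add, (h a ha).1, (h a ha).2, add_zero], smul_add]
      map_smul' := fun r e => by
        rw [← hval x (r • e) (N e) fun a ha => by rw [smul_comm, hN e a ha, smul_zero], smul_comm, RingHom.id_apply] }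
  have hΦ : ∀ (x : A) (e : E) (n : ℕ) (r : R), (∀ a ∈ m ^ n, a • e = 0) →
      Ideal.Quotient.mk (m ^ n) r = AdicCompletion.evalₐ m n x → Φ x e = r • e :=
    fun x e n r he hr => (key x e n r he hr).symm
  let Ψ : A →ₐ[R] Module.End R E :=
    { toFun := Φ
      map_one' := LinearMap.ext fun e => by
        rw [hΦ 1 e (N e) 1 (hN e) (by rw [map_one, map_one]), one_smul]
        rfl
      map_mul' := fun x y => LinearMap.ext fun e => by
        rw [hΦ (x * y) e (N e) (rep x (N e) * rep y (N e)) (hN e) (by rw [map_mul, map_mul, hrep, hrep]),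
          Module.End.mul_apply, hΦ y e (N e) _ (hN e) (hrep y (N e)),
          hΦ x _ (N e) _ (fun a ha => by rw [smul_comm, hN e a ha, smul_zero]) (hrep x (N e)), smul_smul]
      map_zero' := LinearMap.ext fun e => by
        rw [hΦ 0 e (N e) 0 (hN e) (by rw [map_zero, map_zero]), zero_smul]
        rfl
      map_add' := fun x y => LinearMap.ext fun e => by
        rw [hΦ (x + y) e (N e) (rep x (N e) + rep y (N e)) (hN e) (by rw [map_add, map_add, hrep, hrep]),
          LinearMap.add_apply, add_smul]
        rfl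
      commutes' := fun r => LinearMap.ext fun e => by
        rw [hΦ _ e (N e) r (hN e) (by rw [AlgHom.commutes, Ideal.Quotient.algebraMap_eq])]
        rfl }
  refine ⟨(AlgEquiv.ofBijective Ψ ⟨?_, fun φ => ?_⟩).symm⟩
  · rw [injective_iff_map_eq_zero]
    intro x hx
    refine AdicCompletion.ext_evalₐ fun n => ?_
    rw [map_zero, ← hrep x n, Ideal.Quotient.eq_zero_iff_mem]
    refine Groth.Agent.InjHullLib.mem_pow_of_forall_smul_eq_zero hf fun e he => ?_
    rw [← hΦ x e n _ he (hrep x n)]
    exact LinearMap.congr_fun hx e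
  · choose s hs using Groth.Agent.InjHullLib.exists_scalar_on_torsion hf φ
    have hc : ∀ {a b : ℕ}, a ≤ b → s a ≡ s b [SMOD (m ^ a • ⊤ : Submodule R R)] := by
      intro a b hab
      rw [SModEq.sub_mem, smul_eq_mul, Ideal.mul_top]
      refine Groth.Agent.InjHullLib.mem_pow_of_forall_smul_eq_zero hf fun e he => ?_
      rw [sub_smul, ← hs a e he, ← hs b e fun t ht => he t (Ideal.pow_le_pow_right hab ht), sub_self]
    refine ⟨AdicCompletion.mk m R ⟨s, fun {a b} h => hc h⟩, LinearMap.ext fun e => ?_⟩
    change Φ _ e = φ e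
    rw [hΦ _ e (N e) (s (N e)) (hN e) (AdicCompletion.evalₐ_mk m (N e) ⟨s, fun {a b} h => hc h⟩).symm, hs _ e (hN e)]

end Groth.Agent.S0313
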