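import Groth.Statements.S0322
import Groth.Agent.Lib.Depth.CM
-- import your own Groth.Agent.* helpers here

set_option autoImplicit false
universe u v
open LocCoh

namespace Groth.Agent.S0322

/-- For a finite Cohen–Macaulay module M over a Noetherian local ring and a proper ideal I, the I-depth
of M equals dim Supp(M) minus dim Supp(M/IM); stated additively. -/
theorem result (R : Type u) [CommRing R] [IsLocalRing R] [IsNoetherianRing R] (I : Ideal R) (hI : I ≠ ⊤) (M : Type u) [AddCommGroup M] [Module R M] [Module.Finite R M] (hM : LocCoh.IsCohenMacaulayModule R M) : Module.supportDim R M = Module.supportDim R (M ⧸ (I • (⊤ : Submodule R M))) + ((LocCoh.idealDepth I M : ℕ∞) : WithBot ℕ∞) := by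
  exact Groth.Agent.DepthLib.supportDim_eq_quotient_add_idealDepth hM hI

end Groth.Agent.S0322
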