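import Groth.Statements.S0333
import Groth.Agent.Lib.LocCoh.Dim
import Groth.Agent.Lib.Depth.Devissage
-- import your own Groth.Agent.* helpers here

set_option autoImplicit false
universe u v
open LocCoh

namespace Groth.Agent.S0333

/-- Over a Noetherian ring of dimension d, if H^d_I(M) = 0 for one finite module M whose support
contains every minimal prime p with dim R/p = d, then H^i_I vanishes in degrees ≥ d on all modules. -/
theorem result (R : Type u) [CommRing R] [IsNoetherianRing R] (I : Ideal R) (d : ℕ) (hd : ringKrullDim R = d) (M : Type u) [AddCommGroup M] [Module R M] [Module.Finite R M] (hsupp : ∀ p ∈ minimalPrimes R, ringKrullDim (R ⧸ p) = d → ∀ hp : p.IsPrime, (⟨p, hp⟩ : PrimeSpectrum R) ∈ Module.support R M) (hvan : Subsingleton (LocCoh.H I d M)) (N : Type u) [AddCommGroup N] [Module R N] (i : ℕ) (hi : d ≤ i) : Subsingleton (LocCoh.H I i N) := by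
  rcases eq_or_lt_of_le hi with rfl | hlt
  swap
  · exact Groth.Agent.LocCohLib.cdLE_of_ringKrullDim_le I hd.le N i hlt
  have hbig : ∀ (L' : Type u) [AddCommGroup L'] [Module R L'], Subsingleton (LocCoh.H I (d + 1) L') :=
    fun L' _ _ => Groth.Agent.LocCohLib.cdLE_of_ringKrullDim_le I hd.le L' (d + 1) (Nat.lt_succ_self d)
  refine Groth.Agent.LocCohLib.subsingleton_of_forall_finite I N d fun S hS => ?_
  refine IsNoetherianRing.induction_on_isQuotientEquivQuotientPrime R hS
    (motive := fun L' _ _ _ => Subsingleton (LocCoh.H I d L')) ?_ ?_ ?_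
  · intro L' _ _ _ _
    refine subsingleton_of_forall_eq 0 fun a => ?_
    have hid : (LinearMap.id : L' →ₗ[R] L') = (0 : R) • LinearMap.id :=
      LinearMap.ext fun s => Subsingleton.elim _ _
    rw [show a = Groth.Agent.LocCohLib.hmap I d (LinearMap.id : L' →ₗ[R] L') a by rw [Groth.Agent.LocCohLib.hmap_id]; rfl, hid,
      Groth.Agent.LocCohLib.hmap_smul]
    exact zero_smul R _
  · intro L' _ _ _ q e
    refine (Groth.Agent.LocCohLib.hcongr I d e).toEquiv.subsingleton_congr.2 ?_
    by_cases hq : Order.coheight q < (d : ℕ∞)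
    · exact Groth.Agent.LocCohLib.subsingleton_quotient_prime_of_coheight_lt I q d hq
    rw [not_lt] at hq
    have hqd : ringKrullDim (R ⧸ q.asIdeal) = d := by
      refine le_antisymm ((ringKrullDim_quotient_le q.asIdeal).trans hd.le) ?_
      rw [ringKrullDim_quotient]
      refine (WithBot.coe_le_coe.2 hq).trans ?_
      rw [Order.coheight_eq_krullDim_Ici]
      exact Order.krullDim_le_of_strictMono (fun r => ⟨r.1, r.2⟩) fun _ _ h => h
    have hqmin : q.asIdeal ∈ minimalPrimes R := by
      obtain ⟨p, hp, hpq⟩ := Ideal.exists_minimalPrimes_le (I := (⊥ : Ideal R)) (J := q.asIdeal) bot_le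
      rcases hpq.eq_or_lt with h | h
      · exact h ▸ hp
      exfalso
      have h1 : Order.coheight q + 1 ≤ Order.coheight (⟨p, hp.1.1⟩ : PrimeSpectrum R) :=
        Order.coheight_add_one_le h
      have h2 : (Order.coheight (⟨p, hp.1.1⟩ : PrimeSpectrum R) : WithBot ℕ∞) ≤ ((d : ℕ∞) : WithBot ℕ∞) :=
        (Order.coheight_le_krullDim _).trans hd.le
      have h3 := (add_le_add_left hq 1).trans (h1.trans (WithBot.coe_le_coe.1 h2))
      rw [← Nat.cast_one, ← Nat.cast_add, Nat.cast_le] at h3
      omega
    have hqs := hsupp _ hqmin hqd q.isPrime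
    obtain ⟨f, hf⟩ := Groth.Agent.DepthLib.exists_linearMap_ne_zero M (p := q) hqs
    have hsurj := Groth.Agent.LocCohLib.hmap_g_surjective I (LinearMap.ker f).injective_subtype f.surjective_rangeRestrict
      (by rw [LinearMap.exact_iff, LinearMap.ker_rangeRestrict, Submodule.range_subtype]) d (hbig _)
    have h1 : Subsingleton (LocCoh.H I d f.range) := subsingleton_of_forall_eq 0 fun x => by
      obtain ⟨y, rfl⟩ := hsurj x
      rw [hvan.elim y 0, map_zero]
    refine Groth.Agent.LocCohLib.subsingleton_mid I f.range.injective_subtype f.range.mkQ_surjective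
      (LinearMap.exact_subtype_mkQ _) d h1 (Groth.Agent.LocCohLib.subsingleton_of_supportDim_lt I _ d ?_)
    obtain ⟨m, hm⟩ : ∃ m, f m ≠ 0 := by
      by_contra! hh
      exact hf (LinearMap.ext hh)
    obtain ⟨a, ha⟩ := Ideal.Quotient.mk_surjective (f m)
    have haq : a ∉ q.asIdeal := fun h => hm (ha.symm.trans (Ideal.Quotient.eq_zero_iff_mem.2 h))
    have hgt : ∀ r ∈ Module.support R ((R ⧸ q.asIdeal) ⧸ f.range), q < r := by
      intro r hr
      refine lt_of_le_of_ne ?_ fun e' => haq ?_
      · have := Module.support_subset_of_surjective _ f.range.mkQ_surjective hr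
        rwa [Module.support_eq_zeroLocus, Ideal.annihilator_quotient] at this
      · obtain ⟨z, hz⟩ := Module.mem_support_iff_exists_annihilator.1 hr
        rw [e']
        refine hz ?_
        rw [Submodule.mem_annihilator_span_singleton]
        obtain ⟨y, rfl⟩ := Submodule.mkQ_surjective _ z
        obtain ⟨b, rfl⟩ := Ideal.Quotient.mk_surjective y
        rw [← map_smul, Submodule.mkQ_apply, Submodule.Quotient.mk_eq_zero]
        refine ⟨b • m, ?_⟩
        rw [map_smul, ← ha]
        exact (congrArg (Ideal.Quotient.mk _) (mul_comm b a))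
    by_contra hge
    rw [not_lt] at hge
    obtain ⟨s, hs⟩ : ∃ s : LTSeries (Module.support R ((R ⧸ q.asIdeal) ⧸ f.range)), s.length = d := by
      have : Nonempty (Module.support R ((R ⧸ q.asIdeal) ⧸ f.range)) := by
        rw [← not_isEmpty_iff]; intro hemp
        rw [Module.supportDim, Order.krullDim_eq_bot, le_bot_iff] at hge
        exact WithBot.coe_ne_bot hge
      exact Order.le_krullDim_iff.1 hge
    have hlong : ((d + 1 : ℕ) : WithBot ℕ∞) ≤ ringKrullDim R :=
      Order.le_krullDim_iff.2 ⟨RelSeries.cons ⟨s.length, fun j => (s j).1, fun j => s.step j⟩ q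
        (hgt _ s.head.2), by change 0 + s.length + 1 = d + 1; omega⟩
    rw [hd] at hlong
    have := WithBot.coe_le_coe.1 hlong
    rw [Nat.cast_le] at this
    omega
  · intro N₁ _ _ _ N₂ _ _ _ N₃ _ _ _ f g hf hg hfg h₁ h₃
    exact Groth.Agent.LocCohLib.subsingleton_mid I hf hg hfg d h₁ h₃


end Groth.Agent.S0333
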