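import Groth.Statements.S0334
import Groth.Agent.Lib.LocCoh.Nonvanish
-- import your own Groth.Agent.* helpers here

set_option autoImplicit false
universe u v
open LocCoh

namespace Groth.Agent.S0334

/-- Over a Noetherian local ring of dimension d, multiplication by an element lying in no minimal prime
p with dim R/p = d is surjective on H^d_I(M) for every finite module M and every ideal I. -/
theorem result (R : Type u) [CommRing R] [IsLocalRing R] [IsNoetherianRing R] (I : Ideal R) (d : ℕ) (hd : ringKrullDim R = d) (f : R) (hf : ∀ p ∈ minimalPrimes R, ringKrullDim (R ⧸ p) = d → f ∉ p) (M : Type u) [AddCommGroup M] [Module R M] [Module.Finite R M] : Function.Surjective (fun x : LocCoh.H I d M => f • x) := by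
  let fm : M →ₗ[R] M := f • LinearMap.id
  have hS1 : Function.Surjective (Groth.Agent.LocCohLib.hmap I d fm.rangeRestrict) :=
    Groth.Agent.LocCohLib.hmap_g_surjective I (LinearMap.ker fm).injective_subtype fm.surjective_rangeRestrict
      (by rw [LinearMap.exact_iff, LinearMap.ker_rangeRestrict, Submodule.range_subtype]) d
      (Groth.Agent.LocCohLib.subsingleton_of_supportDim_lt I _ (d + 1) (by
        refine ((Module.supportDim_le_ringKrullDim R _).trans hd.le).trans_lt ?_
        exact_mod_cast Nat.lt_succ_self d))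
  have hS2 : Function.Surjective (Groth.Agent.LocCohLib.hmap I d fm.range.subtype) := by
    refine Groth.Agent.LocCohLib.hmap_f_surjective I fm.range.injective_subtype fm.range.mkQ_surjective
      (LinearMap.exact_subtype_mkQ _) d (Groth.Agent.LocCohLib.subsingleton_of_supportDim_lt I _ d ?_)
    have hdle : ringKrullDim (R ⧸ (Module.annihilator R (M ⧸ fm.range))) ≤ ringKrullDim R :=
      ringKrullDim_quotient_le _
    rw [Module.supportDim_eq_ringKrullDim_quotient_annihilator]
    refine lt_of_le_of_ne (hdle.trans hd.le) fun he => ?_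
    rw [ringKrullDim_quotient] at he
    obtain ⟨s, hs⟩ : ∃ s : LTSeries (PrimeSpectrum.zeroLocus
        (Module.annihilator R (M ⧸ fm.range) : Set R)), s.length = d := by
      have hne : Nonempty (PrimeSpectrum.zeroLocus (Module.annihilator R (M ⧸ fm.range) : Set R)) := by
        rw [← not_isEmpty_iff]; intro hemp
        rw [Order.krullDim_eq_bot] at he
        exact WithBot.bot_ne_coe he
      exact Order.le_krullDim_iff.1 he.ge
    let q : PrimeSpectrum R := s.head.1
    have hfq : f ∈ q.asIdeal := s.head.2 (Module.mem_annihilator.2 fun z => by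
      obtain ⟨z, rfl⟩ := Submodule.Quotient.mk_surjective _ z
      rw [← Submodule.Quotient.mk_smul, Submodule.Quotient.mk_eq_zero]
      exact ⟨z, rfl⟩)
    have hdimq : (d : WithBot ℕ∞) ≤ ringKrullDim (R ⧸ q.asIdeal) := by
      rw [ringKrullDim_quotient]
      exact Order.le_krullDim_iff.2 ⟨⟨s.length, fun j => ⟨(s j).1, s.head_le j⟩, fun j => s.step j⟩, hs⟩
    obtain ⟨p, hp, hpq⟩ := Ideal.exists_minimalPrimes_le (I := (⊥ : Ideal R)) (J := q.asIdeal) bot_le
    have hpd : ringKrullDim (R ⧸ p) = d := le_antisymm ((ringKrullDim_quotient_le p).trans hd.le)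
      (hdimq.trans (ringKrullDim_le_of_surjective (Ideal.Quotient.factor hpq)
        (Ideal.Quotient.factor_surjective hpq)))
    by_cases hqp : q.asIdeal = p
    · exact hf p hp hpd (hqp ▸ hfq)
    · have hlt : (⟨p, hp.1.1⟩ : PrimeSpectrum R) < q := lt_of_le_of_ne hpq fun e => hqp (congrArg PrimeSpectrum.asIdeal e).symm
      have hbig : ((d + 1 : ℕ) : WithBot ℕ∞) ≤ ringKrullDim R :=
        Order.le_krullDim_iff.2 ⟨RelSeries.cons ⟨s.length, fun j => (s j).1, fun j => s.step j⟩ ⟨p, hp.1.1⟩ hlt,
          by change 0 + s.length + 1 = d + 1; omega⟩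
      rw [hd] at hbig
      have := WithBot.coe_le_coe.1 hbig
      rw [Nat.cast_le] at this
      omega
  intro x
  obtain ⟨y, rfl⟩ := hS2 x
  obtain ⟨z, rfl⟩ := hS1 y
  refine ⟨z, ?_⟩
  change f • z = _
  rw [← LinearMap.comp_apply, ← Groth.Agent.LocCohLib.hmap_comp, show fm.range.subtype ∘ₗ fm.rangeRestrict = fm from rfl, Groth.Agent.LocCohLib.hmap_smul,
    Groth.Agent.LocCohLib.hmap_id]
  rfl


end Groth.Agent.S0334
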