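import Groth.Statements.S0347
import Groth.Agent.Lib.AbRigid.Shear
import Mathlib.AlgebraicGeometry.Morphisms.UniversallyOpen

set_option autoImplicit false
universe u v
open CategoryTheory MonoidalCategory CartesianMonoidalCategory MonObj GrpObj AlgebraicGeometry
open GrpSch

namespace Groth.Agent.S0347

/-- The multiplication map of a group scheme over a field is an open map of topological spaces. -/
theorem result (K : Type u) [Field K] (G : Over (Spec (CommRingCat.of K))) [GrpObj G] : IsOpenMap (μ[G].left : (G ⊗ G).left ⟶ G.left) := by
  have e : μ[G] = (AbRigid.shear (𝟙 G)).hom ≫ snd G G := by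
    rw [← AbRigid.shear_hom_snd, MonoidalCategory.id_whiskerRight, Category.id_comp]
  have h1 : IsOpenMap (snd G G).left := by
    show IsOpenMap (Limits.pullback.snd G.hom G.hom)
    exact (Limits.pullback.snd G.hom G.hom).isOpenMap
  haveI : IsIso (AbRigid.shear (𝟙 G)).hom.left := inferInstanceAs (IsIso ((Over.forget _).map (AbRigid.shear (𝟙 G)).hom))
  rw [e, Over.comp_left, Scheme.Hom.comp_base]
  exact h1.comp (AbRigid.shear (𝟙 G)).hom.left.isOpenEmbedding.isOpenMap

end Groth.Agent.S0347
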