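import Groth.Statements.S0349
import Groth.Agent.Lib.AbRigid.GrpTop

set_option autoImplicit false
universe u v
open CategoryTheory MonoidalCategory CartesianMonoidalCategory MonObj GrpObj AlgebraicGeometry
open GrpSch

namespace Groth.Agent.S0349

/-- An irreducible group scheme over a field is quasi-compact. -/
theorem result (K : Type u) [Field K] (G : Over (Spec (CommRingCat.of K))) [GrpObj G] [IrreducibleSpace G.left] : CompactSpace G.left := by
  obtain ⟨U, hU, hxU, -⟩ := exists_isAffineOpen_mem_and_subset (X := G.left)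
    (x := η[G].left (IsLocalRing.closedPoint K)) (U := ⊤) trivial
  let j : Over.mk (U.ι ≫ G.hom) ⟶ G := Over.homMk U.ι rfl
  haveI : IsAffine (Over.mk (U.ι ≫ G.hom)).left := hU
  haveI : IsAffine (Over.mk (U.ι ≫ G.hom) ⊗ Over.mk (U.ι ≫ G.hom)).left :=
    haveI : IsAffine (U : Scheme) := hU
    inferInstanceAs (IsAffine (Limits.pullback (U.ι ≫ G.hom) (U.ι ≫ G.hom)))
  have hs : Function.Surjective ((j ⊗ₘ j) ≫ μ[G]).left := fun x => by
    obtain ⟨q, h1, h2, h3⟩ := Groth.Agent.AbRigid.exists_mul_eq U U (U.isOpen.dense ⟨_, hxU⟩) ⟨_, hxU⟩ x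
    obtain ⟨r, hr⟩ : q ∈ Set.range (j ⊗ₘ j).left := by
      rw [Over.tensorHom_left, Scheme.Pullback.range_map]
      exact ⟨U.range_ι.ge h1, U.range_ι.ge h2⟩
    exact ⟨r, by rw [Groth.Agent.AbRigid.left_comp_apply, hr, h3]⟩
  constructor
  rw [← hs.range_eq]
  exact isCompact_range ((j ⊗ₘ j) ≫ μ[G]).left.continuous

end Groth.Agent.S0349
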