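import Groth.Statements.S0357
import Groth.Agent.Lib.BC8.LichIff

set_option autoImplicit false
universe u v
open CategoryTheory AlgebraicGeometry
open Dual

namespace Groth.Agent.S0357


/-- (1)⇔(3): let X be nonempty, separated and of finite type over a field, of dimension d. Then H^d(X,
F) vanishes for every coherent F exactly when no irreducible closed subscheme of X of dimension d is
proper over the field. ((3) is phrased with irreducible closed subschemes of dimension d, which are
the same as irreducible components of dimension d.) -/
theorem result (k : Type u) [Field k] (X : Scheme.{u}) (f : X ⟶ Spec (CommRingCat.of k)) [IsSeparated f] [LocallyOfFiniteType f] [QuasiCompact f] [Nonempty X] (d : ℕ) (hd : topologicalKrullDim X = d) : (∀ M : X.Modules, Coh.IsCoh M → Subsingleton (Coh.HH X M d)) ↔ ∀ (Z : Scheme.{u}) (i : Z ⟶ X) [IsClosedImmersion i] [IrreducibleSpace Z], topologicalKrullDim Z = d → ¬ IsProper (i ≫ f) := by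
  exact Groth.Agent.BC8.lichtenbaum k X f d hd.le


end Groth.Agent.S0357
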