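import Groth.Statements.S0363
import Groth.Agent.Lib.Goren.TorHull27
-- import your own Groth.Agent.* helpers here

set_option autoImplicit false
universe u v
open CategoryTheory
open Goren

namespace Groth.Agent.S0363

/-- Over a Gorenstein local ring of dimension d with E an injective hull of the residue field κ,
Tor_i(E, κ) vanishes for i ≠ d and Tor_d(E, κ) is isomorphic to κ. -/
theorem result (A : Type u) [CommRing A] [LocCoh.IsGorensteinLocalRing A] (d : ℕ) (hd : ringKrullDim A = d) (E : Type u) [AddCommGroup E] [Module A E] (f : IsLocalRing.ResidueField A →ₗ[A] E) (hf : InjHull.IsInjectiveHull f) : (∀ i : ℕ, i ≠ d → Limits.IsZero (((Tor (ModuleCat.{u} A) i).obj (ModuleCat.of A E)).obj (ModuleCat.of A (IsLocalRing.ResidueField A)))) ∧ Nonempty ((((Tor (ModuleCat.{u} A) d).obj (ModuleCat.of A E)).obj (ModuleCat.of A (IsLocalRing.ResidueField A))) ≅ ModuleCat.of A (IsLocalRing.ResidueField A)) := by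
  exact Groth.Agent.GorenLib.tor_hull_residueField d hd E f hf

end Groth.Agent.S0363
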