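import Groth.Statements.S0365
import Groth.Agent.Lib.Dlz27.LocalExt
-- import your own Groth.Agent.* helpers here

set_option autoImplicit false
universe u v
open CategoryTheory
attribute [local instance] HasDerivedCategory.standard
open Dual

namespace Groth.Agent.S0365

/-- For a Noetherian local ring with normalized dualizing complex ω, the depth of the ring is the least
δ ≥ 0 with H^{-δ}(ω) nonzero. -/
theorem result (A : Type u) [CommRing A] [IsLocalRing A] [IsNoetherianRing A] (ω : Dual.D A) (hω : Dual.IsDualizing A ω) (hn : Dual.IsNormalized A ω) (n : ℕ) : LocCoh.depth A A = n ↔ ((∀ δ : ℕ, δ < n → Subsingleton (Dual.HD A ω (-(δ : ℤ)))) ∧ Nontrivial (Dual.HD A ω (-(n : ℤ)))) := by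
  have key : ∀ i : ℤ, Subsingleton (Dual.HD A ω i) ↔
      Subsingleton (Dual.inD A A ⟶ ω⟦i⟧) := fun i => by
    rw [Dlz27.subsingleton_hom_iff_vanS (Dlz27.model hω) A i, Dlz27.vanS_self_iff]
    refine ⟨fun h z => ⟨1, Subsingleton.elim _ _⟩, fun h => subsingleton_of_forall_eq 0 fun z => ?_⟩
    obtain ⟨s, hs⟩ := h z
    exact (Dlz27.isUnit_of_notMem_maximalIdeal s.2).smul_eq_zero.1 hs
  rw [Dlz27.depth_eq_iff hω (Dlz27.model hω) hn A n]
  simp only [← not_subsingleton_iff_nontrivial, key]

end Groth.Agent.S0365
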