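import Groth.Statements.S0368
import Groth.Agent.Lib.Dlz27.LocalExt
-- import your own Groth.Agent.* helpers here

set_option autoImplicit false
universe u v
open CategoryTheory
attribute [local instance] HasDerivedCategory.standard
open Dual

namespace Groth.Agent.S0368

/-- (1)⇔(3): for a Noetherian local ring with normalized dualizing complex ω, a nonzero finite module M
with support of dimension d is Cohen–Macaulay exactly when Hom(M, ω[−i]) vanishes in D(A) for every
i ≠ d. -/
theorem result (A : Type u) [CommRing A] [IsLocalRing A] [IsNoetherianRing A] (ω : Dual.D A) (hω : Dual.IsDualizing A ω) (hn : Dual.IsNormalized A ω) (M : Type u) [AddCommGroup M] [Module A M] [Module.Finite A M] [Nontrivial M] (d : ℕ) (hd : Module.supportDim A M = d) : LocCoh.IsCohenMacaulayModule A M ↔ ∀ i : ℤ, i ≠ d → Subsingleton (Dual.inD A M ⟶ ω⟦(-i)⟧) := by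
  obtain ⟨m, hm⟩ := DepthLib.exists_depth_eq_natCast (R := A) (M := M)
  have hm' := (Dlz27.depth_eq_iff hω (Dlz27.model hω) hn M m).1 hm
  unfold LocCoh.IsCohenMacaulayModule
  rw [hd, hm]
  constructor
  · intro h i hi
    obtain rfl : d = m := by exact_mod_cast h
    by_contra hns
    rw [not_subsingleton_iff_nontrivial] at hns
    obtain ⟨h1, h2⟩ := Dlz27.nontrivial_hom_imp hω (Dlz27.model hω) hn M d hd (-i) hns
    lift i to ℕ using (by omega) with δ
    exact not_subsingleton _ (hm'.1 δ (by omega))
  · intro h
    by_contra hne
    refine (not_subsingleton_iff_nontrivial.2 hm'.2) (h m fun e => hne (by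
      rw [show d = m by exact_mod_cast e.symm]; rfl))

end Groth.Agent.S0368
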