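import Groth.Statements.S0369
import Groth.Agent.Lib.Dlz27.Lowest
-- import your own Groth.Agent.* helpers here

set_option autoImplicit false
universe u v
open CategoryTheory
attribute [local instance] HasDerivedCategory.standard
open Dual

namespace Groth.Agent.S0369

/-- For a Noetherian local ring of dimension d with normalized dualizing complex ω, the module ω_A =
H^{−d}(ω) has support equal to the union of those irreducible components of Spec A whose dimension
is d, and satisfies Serre's condition (S_2). -/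
theorem result (A : Type u) [CommRing A] [IsLocalRing A] [IsNoetherianRing A] (ω : Dual.D A) (hω : Dual.IsDualizing A ω) (hn : Dual.IsNormalized A ω) (d : ℕ) (hd : ringKrullDim A = d) : Module.support A (Dual.HD A ω (-(d : ℤ))) = {p : PrimeSpectrum A | ∃ q ∈ minimalPrimes A, q ≤ p.asIdeal ∧ ringKrullDim (A ⧸ q) = d} ∧ LocCoh.HasSk 2 A (Dual.HD A ω (-(d : ℤ))) := by
  let M := Dlz27.model hω
  have hdeg : ∀ p : PrimeSpectrum A, -(d : ℤ) ≤ Dlz27.deg hω M p := fun p => by
    obtain ⟨h0, h1⟩ := Dlz27.dim_quotient_normalized hω M hn p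
    have h2 := ringKrullDim_le_of_surjective (Ideal.Quotient.mk p.asIdeal) Ideal.Quotient.mk_surjective
    rw [hd, h1] at h2
    have : (-Dlz27.deg hω M p).toNat ≤ d := by exact_mod_cast h2
    omega
  let l : Dual.HD A ω (-(d : ℤ)) ≃ₗ[A] M.W.homology (-(d : ℤ)) :=
    ((DerivedCategory.homologyFunctor (ModuleCat.{u} A) (-(d : ℤ))).mapIso M.e.symm ≪≫
    (DerivedCategory.homologyFunctorFactors (ModuleCat.{u} A) (-(d : ℤ))).app M.W).toLinearEquiv
  have := Dlz27.finite_homology hω M (-(d : ℤ))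
  have := hω.finite_cohomology (-(d : ℤ))
  refine ⟨?_, DepthLib.hasSk_congr l.symm (Dlz27.hasSk_two_homology hω M hdeg)⟩
  ext p
  show Nontrivial (LocalizedModule p.asIdeal.primeCompl (Dual.HD A ω (-(d : ℤ)))) ↔ _
  rw [Dlz27.nontrivial_localized_HD_iff M p]
  constructor
  · intro h
    obtain ⟨-, r, -, hrp, hr⟩ := Dlz27.le_deg_of_not_vanS hω M p _ A h
    obtain ⟨q, hq, hqr⟩ := Ideal.exists_minimalPrimes_le (I := (⊥ : Ideal A)) (J := r.asIdeal) bot_le
    let Q : PrimeSpectrum A := ⟨q, hq.1.1⟩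
    have h1 := (Dlz27.deg_strictMono hω M).monotone (show Q ≤ r from hqr)
    have h2 := hdeg Q
    refine ⟨q, hq, hqr.trans hrp, ?_⟩
    rw [(Dlz27.dim_quotient_normalized hω M hn Q).2, show (-Dlz27.deg hω M Q).toNat = d by omega]
    rfl
  · rintro ⟨q, hq, hqp, hdim⟩
    let Q : PrimeSpectrum A := ⟨q, hq.1.1⟩
    obtain ⟨h0, h1⟩ := Dlz27.dim_quotient_normalized hω M hn Q
    rw [hdim] at h1
    have : d = (-Dlz27.deg hω M Q).toNat := by exact_mod_cast h1
    intro hv
    exact (Dlz27.vanS_self_minimal_iff M hω Q hq _).1 (hv.mono fun a ha hc => ha (hqp hc))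
      (by omega)

end Groth.Agent.S0369
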