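import Groth.Statements.S0370
import Groth.Agent.Lib.Dlz27.CMLocus
-- import your own Groth.Agent.* helpers here

set_option autoImplicit false
universe u v
open CategoryTheory
attribute [local instance] HasDerivedCategory.standard
open Dual

namespace Groth.Agent.S0370

/-- A Noetherian ring admitting a finite module which, placed in degree 0, is a dualizing complex, is
Cohen–Macaulay. -/
theorem result (A : Type u) [CommRing A] [IsNoetherianRing A] (W : Type u) [AddCommGroup W] [Module A W] [Module.Finite A W] (h : Dual.IsDualizing A (Dual.inD A W)) : LocCoh.IsCohenMacaulayRing A := by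
  refine { isCohenMacaulayLocalRing_localization := fun p hp => ?_ }
  let P : PrimeSpectrum A := ⟨p, hp⟩
  let Mo := Dlz27.model h
  have hzero : ∀ i : ℤ, i ≠ 0 → Dlz27.VanS Mo.W p.primeCompl A i := fun i hi => by
    refine (Dlz27.vanS_self_iff Mo p.primeCompl i).2 fun z => ⟨1, ?_⟩
    have hz : Limits.IsZero ((DerivedCategory.homologyFunctor (ModuleCat.{u} A) i).obj (Dual.inD A W)) := by
      rcases lt_or_gt_of_ne hi with hlt | hgt
      · exact DerivedCategory.isZero_of_isGE _ 0 i hlt
      · exact DerivedCategory.isZero_of_isLE _ 0 i hgt
    have := ModuleCat.subsingleton_of_isZero hz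
    exact Subsingleton.elim (α := Dual.HD A (Dual.inD A W) i) _ _
  have hs : Dlz27.Single Mo A P := fun i j hi hj => by
    rw [Classical.byContradiction fun hne => hi (hzero i hne), Classical.byContradiction fun hne => hj (hzero j hne)]
  have hnt : Nontrivial (LocalizedModule p.primeCompl A) := by
    show P ∈ Module.support A A
    rw [Module.support_eq_zeroLocus, PrimeSpectrum.mem_zeroLocus]; exact fun a ha => by
        simp [show a = 0 by simpa using Module.mem_annihilator.1 ha 1]
  have hcm := ((Dlz27.single_iff h Mo P A).2 hs).resolve_left (not_subsingleton_iff_nontrivial.2 hnt)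
  have e : LocalizedModule p.primeCompl A ≃ₗ[Localization.AtPrime p] Localization.AtPrime p :=
    (IsLocalizedModule.iso p.primeCompl (Algebra.linearMap A (Localization.AtPrime p))).extendScalarsOfIsLocalization
      p.primeCompl (Localization.AtPrime p)
  simp only [LocCoh.IsCohenMacaulayModule, P, DepthLib.depth_localizedModule_self,
    Module.supportDim_eq_of_equiv e] at hcm
  have : IsNoetherianRing (Localization.AtPrime p) := IsLocalization.isNoetherianRing p.primeCompl _ inferInstance
  exact { supportDim_eq_depth := hcm }

end Groth.Agent.S0370
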