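import Groth.Statements.S0371
import Groth.Agent.Lib.Dlz27.Deg
-- import your own Groth.Agent.* helpers here

set_option autoImplicit false
universe u v
open CategoryTheory
attribute [local instance] HasDerivedCategory.standard
open Dual

namespace Groth.Agent.S0371

/-- A Noetherian ring with a dualizing complex has finite Krull dimension. (Universal catenarity is not
stated.) -/
theorem result (A : Type u) [CommRing A] [IsNoetherianRing A] (ω : Dual.D A) (hω : Dual.IsDualizing A ω) : ringKrullDim A < ⊤ := by
  exact Dlz27.ringKrullDim_lt_top hω (Dlz27.model hω)

end Groth.Agent.S0371
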