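import Groth.Statements.S0375
import Groth.Agent.Lib.Dlz27.Gamma
-- import your own Groth.Agent.* helpers here

set_option autoImplicit false
universe u v
open CategoryTheory
attribute [local instance] HasDerivedCategory.standard
open Dual

namespace Groth.Agent.S0375

/-- Over a Noetherian local ring of dimension 0, a normalized dualizing complex is isomorphic in D(A) to
an injective hull of the residue field placed in degree 0. -/
theorem result (A : Type u) [CommRing A] [IsLocalRing A] [IsNoetherianRing A] (h0 : ringKrullDim A = 0) (ω : Dual.D A) (hω : Dual.IsDualizing A ω) (hn : Dual.IsNormalized A ω) (E : Type u) [AddCommGroup E] [Module A E] (f : IsLocalRing.ResidueField A →ₗ[A] E) (hf : InjHull.IsInjectiveHull f) : Nonempty (ω ≅ Dual.inD A E) := by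
  let M := Dlz27.model hω
  have : Ring.KrullDimLE 0 A := Ring.krullDimLE_iff.2 h0.le
  have : IsArtinianRing A := isArtinianRing_iff_isNoetherianRing_krullDimLE_zero.2 ⟨inferInstance, inferInstance⟩
  obtain ⟨n, hn0⟩ := IsArtinianRing.isNilpotent_jacobson_bot (R := A)
  rw [IsLocalRing.jacobson_eq_maximalIdeal ⊥ bot_ne_top] at hn0
  have hG : ∀ (j : ℤ) (x : M.W.X j), x ∈ Dlz27.G M j := fun j x => (Dlz27.mem_G M).2 ⟨n, fun a ha => by
    rw [hn0] at ha
    rw [Ideal.zero_eq_bot, Ideal.mem_bot] at ha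
    rw [ha, zero_smul]⟩
  have hH : ∀ i : ℤ, i ≠ 0 → Limits.IsZero ((DerivedCategory.homologyFunctor (ModuleCat.{u} A) i).obj
      (DerivedCategory.Q.obj M.W)) := fun i hi => by
    refine Limits.IsZero.of_iso ?_ ((DerivedCategory.homologyFunctorFactors (ModuleCat.{u} A) i).app M.W)
    have : Subsingleton (M.W.homology i) := subsingleton_of_forall_eq 0 fun z => by
      obtain ⟨w, rfl⟩ := DMod.homologyπ_surjective M.W i z
      obtain ⟨y, hy⟩ := Dlz27.cy_le_bd M hω hn hi
        (show (⟨M.W.iCycles i w, hG _ _⟩ : Dlz27.G M i) ∈ Dlz27.cy M i from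
          Subtype.ext (DMod.d_iCycles i (i + 1) w))
      exact (DMod.homologyπ_eq_zero_iff (K := M.W) (i := i - 1) (by simp) w).2 ⟨y.1, congrArg Subtype.val hy⟩
    exact (DMod.isZero_iff_subsingleton _).2 this
  have : (DerivedCategory.Q.obj M.W).IsGE 0 := (DerivedCategory.isGE_iff _ _).2 fun i hi => hH i (by omega)
  have : (DerivedCategory.Q.obj M.W).IsLE 0 := (DerivedCategory.isLE_iff _ _).2 fun i hi => hH i (by omega)
  obtain ⟨Y, ⟨eY⟩⟩ := (DerivedCategory.Q.obj M.W).exists_iso_singleFunctor_obj_of_isGE_of_isLE 0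
  let φ : M.W.cycles 0 →ₗ[A] Dlz27.H0 M := Submodule.mkQ _ ∘ₗ LinearMap.codRestrict (Dlz27.cy M 0)
    (LinearMap.codRestrict (Dlz27.G M 0) (M.W.iCycles 0).hom (fun _ => hG _ _))
    (fun w => Subtype.ext (DMod.d_iCycles 0 (0 + 1) w))
  have hφ : Function.Surjective φ := fun z => by
    obtain ⟨⟨⟨x, hx⟩, hd⟩, rfl⟩ := Submodule.Quotient.mk_surjective _ z
    obtain ⟨w, hw⟩ := DMod.exists_cycle (K := M.W) (j := (0 : ℤ)) (k := 0 + 1) (by simp) x (congrArg Subtype.val hd)
    exact ⟨w, congrArg Submodule.Quotient.mk (Subtype.ext (Subtype.ext hw))⟩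
  have hker : LinearMap.ker (M.W.homologyπ 0).hom = LinearMap.ker φ := by
    ext w
    rw [LinearMap.mem_ker, LinearMap.mem_ker]
    refine (DMod.homologyπ_eq_zero_iff (K := M.W) (i := 0 - 1) (by simp) w).trans
      (Iff.trans ?_ (Submodule.Quotient.mk_eq_zero _).symm)
    constructor
    · rintro ⟨y, hy⟩
      exact ⟨⟨y, hG _ y⟩, Subtype.ext hy⟩
    · rintro ⟨y, hy⟩
      exact ⟨y.1, congrArg Subtype.val hy⟩
  obtain ⟨eE⟩ := Dlz27.equiv_hull M hω hn hf
  let l : Y ≅ ModuleCat.of A E :=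
    (((DerivedCategory.singleFunctorCompHomologyFunctorIso (ModuleCat.{u} A) 0).app Y).symm ≪≫
      ((DerivedCategory.homologyFunctor (ModuleCat.{u} A) 0).mapIso eY).symm ≪≫
      (DerivedCategory.homologyFunctorFactors (ModuleCat.{u} A) 0).app M.W) ≪≫
    ((LinearMap.quotKerEquivOfSurjective (M.W.homologyπ 0).hom (DMod.homologyπ_surjective M.W 0)).symm ≪≫ₗ
      Submodule.quotEquivOfEq _ _ hker ≪≫ₗ LinearMap.quotKerEquivOfSurjective φ hφ ≪≫ₗ eE).toModuleIso
  exact ⟨M.e.symm ≪≫ eY ≪≫ (DerivedCategory.singleFunctor (ModuleCat.{u} A) 0).mapIso l⟩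

end Groth.Agent.S0375
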