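import Groth.Statements.S0376
import Groth.Agent.Lib.DlzFin27.Apps
-- import your own Groth.Agent.* helpers here

set_option autoImplicit false
universe u v
open CategoryTheory
attribute [local instance] HasDerivedCategory.standard
open Dual

namespace Groth.Agent.S0376

/-- A complete Noetherian local ring has a dualizing complex. -/
theorem result (A : Type u) [CommRing A] [IsLocalRing A] [IsNoetherianRing A] [IsAdicComplete (IsLocalRing.maximalIdeal A) A] : ∃ ω : Dual.D A, Dual.IsDualizing A ω := by
  exact Groth.Agent.DlzFin27.exists_isDualizing_of_complete A

end Groth.Agent.S0376
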