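import Groth.Statements.S0382
import Groth.Agent.Lib.RigidRel.MulEtaleConv
import Groth.Agent.S7785

set_option autoImplicit false
universe u v
open CategoryTheory MonoidalCategory CartesianMonoidalCategory MonObj GrpObj AlgebraicGeometry
open GrpSch

namespace Groth.Agent.S0382

/-- On an abelian variety of positive dimension over a field K (a proper, geometrically integral group
scheme over K), multiplication by an integer d is étale exactly when d is nonzero in K.
Multiplication by d is written as the d-th power of the identity morphism in the group Hom(A, A),
whose multiplication is pointwise, induced by the group structure of A. -/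
theorem result (K : Type u) [Field K] (A : Over (Spec (CommRingCat.of K))) [GrpObj A] [IsProper A.hom] [GeometricallyIntegral A.hom] (hA : 0 < topologicalKrullDim A.left) (d : ℤ) : Etale ((𝟙 A ^ d).left) ↔ ((d : K) ≠ 0) := by
  constructor
  · intro h
    exact MulEtale.ne_zero_of_formallyUnramified_zpow K A hA d inferInstance
  · intro h
    haveI : IsLocallyNoetherian A.left := LocallyOfFiniteType.isLocallyNoetherian A.hom
    haveI : GeometricallyConnected A.hom := ⟨fun _ _ y _ fst snd hsq => by
      haveI := GeometricallyIrreducible.geometrically_irreducibleSpace (f := A.hom) y fst snd hsq
      infer_instance⟩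
    haveI := Groth.Agent.S7785.result A
    refine (MulEtale.isFinite_and_etale_zpow A d ?_).2.1
    have := (IsUnit.mk0 _ h).map (Scheme.ΓSpecIso (CommRingCat.of K)).inv.hom
    rwa [map_intCast] at this

end Groth.Agent.S0382
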