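import Groth.Statements.S0392
import Groth.Agent.Lib.FlatH4.MapInj
import Mathlib.RingTheory.Flat.FaithfullyFlat.Basic
import Mathlib.RingTheory.LocalRing.MaximalIdeal.Basic
import Mathlib.RingTheory.Nakayama

set_option autoImplicit false
universe u
open FlatMor

namespace Groth.Agent.S0392

open TensorProduct in
/-- Fibrewise criterion of flatness, Noetherian local form: for local homomorphisms R → S → S' of
Noetherian local rings and a nonzero finite S'-module M that is flat over R and whose reduction
modulo the maximal ideal of R is flat over the corresponding fibre ring of S, the ring S is flat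
over R and M is flat over S. -/
theorem result {R S S' M : Type u} [CommRing R] [CommRing S] [CommRing S'] [IsLocalRing R] [IsLocalRing S] [IsLocalRing S']
    [IsNoetherianRing R] [IsNoetherianRing S] [IsNoetherianRing S'] [Algebra R S] [Algebra S S'] [Algebra R S'] [IsScalarTower R S S']
    [IsLocalHom (algebraMap R S)] [IsLocalHom (algebraMap S S')]
    [AddCommGroup M] [Module S' M] [Module S M] [Module R M] [IsScalarTower S S' M] [IsScalarTower R S M]
    [Module.Finite S' M] [Nontrivial M] [Module.Flat R M]
    (h : Module.Flat (S ⧸ ((IsLocalRing.maximalIdeal R).map (algebraMap R S))) ((S ⧸ ((IsLocalRing.maximalIdeal R).map (algebraMap R S))) ⊗[S] M)) :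
    Module.Flat R S ∧ Module.Flat S M := by
  let 𝔪 := IsLocalRing.maximalIdeal R
  have hS : (IsLocalRing.maximalIdeal S).map (algebraMap S S') ≤ IsLocalRing.maximalIdeal S' :=
    ((IsLocalRing.local_hom_TFAE (algebraMap S S')).out 0 2).1 ‹_›
  have hR : 𝔪.map (algebraMap R S) ≤ IsLocalRing.maximalIdeal S :=
    ((IsLocalRing.local_hom_TFAE (algebraMap R S)).out 0 2).1 ‹_›
  have hMS : Module.Flat S M := by
    refine Groth.Agent.FlatH4.flat_of_le_jacobson (S := S') (𝔪.map (algebraMap R S)) ?_
      (Groth.Agent.FlatH4.injective_lTensor_map 𝔪) h
    rw [IsLocalRing.jacobson_eq_maximalIdeal ⊥ bot_ne_top]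
    exact (Ideal.map_mono hR).trans hS
  refine ⟨?_, hMS⟩
  have : Module.FaithfullyFlat S M := by
    refine ⟨fun {m} hm htop => ?_⟩
    rw [IsLocalRing.eq_maximalIdeal hm] at htop
    have h' : (⊤ : Submodule S' M) ≤
        (IsLocalRing.maximalIdeal S).map (algebraMap S S') • (⊤ : Submodule S' M) := by
      intro x _
      have hx : x ∈ (IsLocalRing.maximalIdeal S) • (⊤ : Submodule S M) := by rw [htop]; trivial
      refine Submodule.smul_induction_on hx (fun r hr n _ => ?_) fun a b ha hb => add_mem ha hb
      rw [← algebraMap_smul S' r n]
      exact Submodule.smul_mem_smul (Ideal.mem_map_of_mem _ hr) trivial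
    have htop' := Submodule.eq_bot_of_le_smul_of_le_jacobson_bot _ (⊤ : Submodule S' M)
      Module.Finite.fg_top h' (by rw [IsLocalRing.jacobson_eq_maximalIdeal ⊥ bot_ne_top]; exact hS)
    exact top_ne_bot htop'
  refine Module.Flat.iff_rTensor_preserves_injective_linearMap.2 fun N N' _ _ _ _ f hf => ?_
  rw [← LinearMap.lTensor_inj_iff_rTensor_inj]
  have hinj : Function.Injective ((f.baseChange S).lTensor M) := by
    let e := TensorProduct.AlgebraTensorModule.cancelBaseChange R S S M N
    let e' := TensorProduct.AlgebraTensorModule.cancelBaseChange R S S M N'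
    have key : ∀ x, f.lTensor M (e x) = e' ((f.baseChange S).lTensor M x) := by
      intro x
      induction x using TensorProduct.induction_on with
      | zero => simp
      | tmul m y =>
        induction y using TensorProduct.induction_on with
        | zero => simp
        | tmul s n => simp [e, e']
        | add a b ha hb => simp only [TensorProduct.tmul_add, map_add, ha, hb]
      | add a b ha hb => simp only [map_add, ha, hb]
    intro x y hxy
    apply e.injective
    apply Module.Flat.lTensor_preserves_injective_linearMap (M := M) f hf
    rw [key, key, hxy]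
  exact (Module.FaithfullyFlat.lTensor_injective_iff_injective S M (f.baseChange S)).1 hinj

end Groth.Agent.S0392
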