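import Groth.Statements.S0395
import Groth.Agent.Lib.FlatH4.ModMax
import Groth.Agent.S0393

set_option autoImplicit false
universe u
open FlatMor

namespace Groth.Agent.S0395

open TensorProduct nonZeroDivisors in
/-- For a flat local homomorphism R → S of Noetherian local rings and an element f of S that is regular
on the fibre ring S/mS, the quotient of S by f is again R-flat and f is regular on S. -/
theorem result {R S : Type u} [CommRing R] [CommRing S] [IsLocalRing R] [IsLocalRing S] [IsNoetherianRing R] [IsNoetherianRing S] [Algebra R S] [IsLocalHom (algebraMap R S)] [Module.Flat R S]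
    (f : S) (hf : Ideal.Quotient.mk ((IsLocalRing.maximalIdeal R).map (algebraMap R S)) f ∈ nonZeroDivisors (S ⧸ ((IsLocalRing.maximalIdeal R).map (algebraMap R S)))) :
    Module.Flat R (S ⧸ Ideal.span {f}) ∧ f ∈ nonZeroDivisors S := by
  let 𝔪 := IsLocalRing.maximalIdeal R
  let u : S →ₗ[R] S := LinearMap.mulLeft R f
  obtain ⟨hinj, hflat⟩ := Groth.Agent.S0393.result (S := S) u
    (Groth.Agent.FlatH4.lTensor_quotient_injective 𝔪 u fun x hx => by
      rw [← Groth.Agent.FlatH4.map_smul_top_restrictScalars (S := S) 𝔪] at hx ⊢
      simp only [Submodule.restrictScalars_mem, smul_eq_mul, Ideal.mul_top] at hx ⊢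
      rw [← Ideal.Quotient.eq_zero_iff_mem] at hx ⊢
      simp only [u, LinearMap.mulLeft_apply, map_mul] at hx
      exact hf.1 _ hx)
  refine ⟨?_, mem_nonZeroDivisors_iff_right.2 fun x hx => hinj (by simp only [u, LinearMap.mulLeft_apply, map_zero, mul_zero]; rw [mul_comm]; exact hx)⟩
  have : LinearMap.range u = (Ideal.span {f}).restrictScalars R := by
    ext x
    simp only [u, LinearMap.mem_range, LinearMap.mulLeft_apply, Submodule.restrictScalars_mem,
      Ideal.mem_span_singleton', mul_comm]
  exact Module.Flat.of_linearEquiv ((Submodule.Quotient.restrictScalarsEquiv R (Ideal.span {f})).symm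
    ≪≫ₗ Submodule.quotEquivOfEq _ _ this.symm)

end Groth.Agent.S0395
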