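import Groth.Statements.S0396
import Groth.Agent.Lib.FlatH4.LocCrit
import Mathlib.RingTheory.Localization.BaseChange
import Mathlib.RingTheory.Localization.AtPrime.Basic
import Mathlib.RingTheory.Localization.Submodule
import Mathlib.RingTheory.Localization.Finiteness

set_option autoImplicit false
universe u
open FlatMor

namespace Groth.Agent.S0396

open TensorProduct in
/-- For a map of Noetherian rings R → S, an ideal I of R and a finite S-module M such that M/IⁿM is flat
over R/Iⁿ for every n ≥ 1, the localization of M at any prime of S containing IS is flat over R. -/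
theorem result {R S M : Type u} [CommRing R] [CommRing S] [IsNoetherianRing R] [IsNoetherianRing S] [Algebra R S]
    [AddCommGroup M] [Module R M] [Module S M] [IsScalarTower R S M] [Module.Finite S M] (I : Ideal R)
    (h : ∀ n : ℕ, 0 < n → Module.Flat (R ⧸ I ^ n) ((R ⧸ I ^ n) ⊗[R] M))
    (q : Ideal S) [q.IsPrime] (hq : I.map (algebraMap R S) ≤ q) :
    Module.Flat R (LocalizedModule q.primeCompl M) := by
  let g := LocalizedModule.mkLinearMap q.primeCompl M
  let Sq := Localization q.primeCompl
  have hloc : (I.map (algebraMap R Sq)) ≤ (⊥ : Ideal Sq).jacobson := by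
    have : IsLocalRing Sq := Localization.AtPrime.isLocalRing q
    rw [IsLocalRing.jacobson_eq_maximalIdeal ⊥ bot_ne_top, IsScalarTower.algebraMap_eq R S Sq,
      ← Ideal.map_map]
    refine (Ideal.map_mono hq).trans (Ideal.map_le_iff_le_comap.2 fun x hx => ?_)
    exact (IsLocalization.AtPrime.to_map_mem_maximal_iff Sq q x).2 hx
  have : IsNoetherianRing Sq := IsLocalization.isNoetherianRing q.primeCompl Sq inferInstance
  have : Module.Finite Sq (LocalizedModule q.primeCompl M) :=
    Module.Finite.of_isLocalizedModule q.primeCompl g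
  refine Groth.Agent.FlatH4.flat_of_forall_pow (S := Sq) I hloc fun n p => ?_
  have hB : Module.IsTorsionBySet R (R ⧸ I ^ n) ((I ^ n : Ideal R) : Set R) := fun x r => by
    obtain ⟨x, rfl⟩ := Submodule.mkQ_surjective (I ^ n) x
    rw [← map_smul, Submodule.mkQ_apply]
    exact (Submodule.Quotient.mk_eq_zero _).2 ((I ^ n).mul_mem_right x r.2)
  have hinj : Function.Injective (p.subtype.lTensor M) := by
    rcases Nat.eq_zero_or_pos n with rfl | hn
    · have : Subsingleton (R ⧸ I ^ 0) :=
        Ideal.Quotient.subsingleton_iff.2 (by simp [Ideal.one_eq_top])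
      exact Function.injective_of_subsingleton _
    · exact Groth.Agent.FlatH4.lTensor_injective_of_flat_mod _ (h n hn)
        (fun x r => Subtype.ext (@hB (x : R ⧸ I ^ n) r)) hB p.subtype p.injective_subtype
  let g₁ := TensorProduct.AlgebraTensorModule.rTensor R p g
  let g₂ := TensorProduct.AlgebraTensorModule.rTensor R (R ⧸ I ^ n) g
  let φ := TensorProduct.AlgebraTensorModule.lTensor S (LocalizedModule q.primeCompl M) p.subtype
  let ψ := TensorProduct.AlgebraTensorModule.lTensor S M p.subtype
  have hcomm : ∀ w, φ (g₁ w) = g₂ (ψ w) := by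
    intro w
    induction w using TensorProduct.induction_on with
    | zero => simp
    | tmul m r => simp [φ, ψ, g₁, g₂]
    | add a b ha hb => simp only [map_add, ha, hb]
  rw [injective_iff_map_eq_zero]
  intro z hz
  obtain ⟨⟨w, s⟩, hw⟩ := IsLocalizedModule.surj q.primeCompl g₁ z
  have h0 : g₂ (ψ w) = 0 := by
    rw [← hcomm w, ← hw, LinearMap.map_smul_of_tower]
    exact (congrArg (s • ·) (show φ z = 0 from hz)).trans (smul_zero _)
  obtain ⟨t, ht⟩ := (IsLocalizedModule.eq_zero_iff q.primeCompl g₂).1 h0
  have h1 : t • w = 0 := hinj <| by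
    rw [map_zero, ← ht]
    exact (ψ.map_smul_of_tower t w)
  have h2 : s • z = 0 := hw.trans ((IsLocalizedModule.eq_zero_iff q.primeCompl g₁).2 ⟨t, h1⟩)
  exact IsLocalizedModule.smul_injective g₁ s (h2.trans (smul_zero s).symm)

end Groth.Agent.S0396
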