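import Groth.Statements.S0397
import Groth.Agent.Lib.FlatH4.InjCrit

set_option autoImplicit false
universe u
open FlatMor

namespace Groth.Agent.S0397

/-- Over a local ring whose maximal ideal is nilpotent, every flat module (not necessarily finitely
generated) is free. -/
theorem result {R M : Type u} [CommRing R] [IsLocalRing R] (hR : IsNilpotent (IsLocalRing.maximalIdeal R))
    [AddCommGroup M] [Module R M] [Module.Flat R M] : Module.Free R M := by
  let 𝔪 := IsLocalRing.maximalIdeal R
  letI := Ideal.Quotient.field 𝔪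
  obtain ⟨n, hn⟩ := hR
  let b := Module.Free.chooseBasis (R ⧸ 𝔪) (M ⧸ (𝔪 • ⊤ : Submodule R M))
  choose m hm using fun i => Submodule.mkQ_surjective (𝔪 • ⊤ : Submodule R M) (b i)
  let u := Finsupp.linearCombination R m
  have hsurj : Function.Surjective u := by
    rw [← LinearMap.range_eq_top]
    suffices ∀ k : ℕ, (⊤ : Submodule R M) ≤ LinearMap.range u ⊔ 𝔪 ^ k • ⊤ by
      have := this n
      rw [hn] at this
      simpa using this
    intro k
    induction k with
    | zero => simp
    | succ k ih =>
      have h1 : (⊤ : Submodule R M) ≤ LinearMap.range u ⊔ 𝔪 • ⊤ := by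
        intro x _
        have hx : (𝔪 • ⊤ : Submodule R M).mkQ x ∈ Submodule.span R (Set.range b) := by
          have h' : Submodule.span (R ⧸ 𝔪) (Set.range b) = ⊤ := b.span_eq
          have := congrArg (Submodule.restrictScalars R) h'
          rw [Submodule.restrictScalars_span R (R ⧸ 𝔪) Ideal.Quotient.mk_surjective,
            Submodule.restrictScalars_top] at this
          rw [this]; trivial
        have hspan : Submodule.span R (Set.range b) ≤
            (LinearMap.range u).map (𝔪 • ⊤ : Submodule R M).mkQ := by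
          rw [Submodule.span_le]
          rintro _ ⟨i, rfl⟩
          exact ⟨m i, ⟨Finsupp.single i 1, by simp [u]⟩, hm i⟩
        obtain ⟨y, hy, hyx⟩ := hspan hx
        have : x - y ∈ (𝔪 • ⊤ : Submodule R M) := by
          rw [← Submodule.Quotient.eq]; exact hyx.symm
        simpa using Submodule.add_mem_sup hy this
      refine ih.trans (sup_le le_sup_left ?_)
      calc 𝔪 ^ k • (⊤ : Submodule R M) ≤ 𝔪 ^ k • (LinearMap.range u ⊔ 𝔪 • ⊤) :=
            Submodule.smul_mono le_rfl h1
        _ ≤ LinearMap.range u ⊔ 𝔪 ^ (k + 1) • ⊤ := by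
            rw [Submodule.smul_sup, pow_succ, Submodule.mul_smul]
            exact sup_le_sup Submodule.smul_le_right le_rfl
  have hinj : Function.Injective u := by
    refine Groth.Agent.FlatH4.injective_of_map_mem_smul u fun I x hx =>
      Groth.Agent.FlatH4.mem_smul_of_map_mem_smul_of_separated 𝔪 u
        (fun V _ _ hV => Groth.Agent.FlatH4.lTensor_injective_of_isMaximal 𝔪 u ?_ V hV) I
        (fun y hy => by have := hy n; rw [show 𝔪 ^ n = ⊥ from hn, sup_bot_eq] at this; exact this) x hx
    rw [injective_iff_map_eq_zero]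
    intro z hz
    obtain ⟨c, rfl⟩ : ∃ c : _ →₀ R, (1 : R ⧸ 𝔪) ⊗ₜ[R] c = z := by
      clear hz
      induction z using TensorProduct.induction_on with
      | zero => exact ⟨0, by simp⟩
      | tmul r c =>
        obtain ⟨r, rfl⟩ := Ideal.Quotient.mk_surjective r
        refine ⟨r • c, ?_⟩
        rw [← TensorProduct.smul_tmul, ← Ideal.Quotient.mk_eq_mk, ← map_one (Ideal.Quotient.mk 𝔪)]
        simp [Ideal.Quotient.mk_eq_mk, Algebra.smul_def]
      | add a b ha hb =>
        obtain ⟨ca, rfl⟩ := ha
        obtain ⟨cb, rfl⟩ := hb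
        exact ⟨ca + cb, TensorProduct.tmul_add _ _ _⟩
    rw [LinearMap.lTensor_tmul, Groth.Agent.FlatH4.one_tmul_eq_zero_iff] at hz
    rw [Groth.Agent.FlatH4.one_tmul_eq_zero_iff]
    have h0 : Finsupp.linearCombination (R ⧸ 𝔪) b
        (c.mapRange (Ideal.Quotient.mk 𝔪) (map_zero _)) = 0 := by
      rw [← (Submodule.Quotient.mk_eq_zero _).2 hz]
      simp only [u, Finsupp.linearCombination_apply]
      rw [Finsupp.sum_mapRange_index (h0 := fun i => zero_smul (R ⧸ 𝔪) (b i)), ← Submodule.mkQ_apply, map_finsuppSum]
      exact Finsupp.sum_congr fun i _ => by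
        rw [← hm i, map_smul]; rfl
    have hc : ∀ i, c i ∈ 𝔪 := fun i => by
      have := DFunLike.congr_fun (b.linearIndependent.finsuppLinearCombination_injective
        (h0.trans (map_zero _).symm)) i
      simpa [Ideal.Quotient.eq_zero_iff_mem] using this
    rw [← Finsupp.sum_single c]
    exact Submodule.sum_mem _ fun i _ => by
      rw [← mul_one (c i), ← smul_eq_mul, ← Finsupp.smul_single]
      exact Submodule.smul_mem_smul (hc i) trivial
  exact Module.Free.of_equiv (LinearEquiv.ofBijective u ⟨hinj, hsurj⟩)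

end Groth.Agent.S0397
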