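import Groth.Statements.S0398
import Groth.Agent.Lib.FlatH4.ModMax
import Mathlib.RingTheory.Flat.Localization
import Mathlib.RingTheory.Artinian.Ring
import Mathlib.RingTheory.Localization.BaseChange

set_option autoImplicit false
universe u
open FlatMor

namespace Groth.Agent.S0398

theorem flat_of_local {R S M : Type u} [CommRing R] [CommRing S] [IsLocalRing R]
    (hR : IsNilpotent (IsLocalRing.maximalIdeal R)) [Algebra R S]
    (hinj : Function.Injective (algebraMap R S)) [AddCommGroup M] [Module R M]
    [Module.Flat S (TensorProduct R S M)] : Module.Flat R M := by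
  obtain ⟨ι, u, hsurj, hu⟩ := Groth.Agent.FlatH4.exists_surjective_lTensor_injective (M := M) hR
  let 𝔪 := IsLocalRing.maximalIdeal R
  let a := 𝔪.map (algebraMap R S)
  have hV : ∀ (V : Type u) [AddCommGroup V] [Module S V], Module.IsTorsionBySet S V (a : Set S) →
      Function.Injective ((u.baseChange S).lTensor V) := by
    intro V _ _ hV
    let _ : Module R V := Module.compHom V (algebraMap R S)
    have : IsScalarTower R S V := IsScalarTower.of_algebraMap_smul fun r v => rfl
    have hinjV : Function.Injective (u.lTensor V) :=
      Groth.Agent.FlatH4.lTensor_injective_of_isMaximal 𝔪 u hu V fun v r => by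
        rw [← algebraMap_smul S (r : R) v]
        exact @hV v ⟨_, Ideal.mem_map_of_mem _ r.2⟩
    let e := TensorProduct.AlgebraTensorModule.cancelBaseChange R S S V (ι →₀ R)
    let e' := TensorProduct.AlgebraTensorModule.cancelBaseChange R S S V M
    have key : ∀ x, u.lTensor V (e x) = e' ((u.baseChange S).lTensor V x) := by
      intro x
      induction x using TensorProduct.induction_on with
      | zero => simp
      | tmul m y =>
        induction y using TensorProduct.induction_on with
        | zero => simp
        | tmul s n => simp [e, e']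
        | add a b ha hb => simp only [TensorProduct.tmul_add, map_add, ha, hb]
      | add a b ha hb => simp only [map_add, ha, hb]
    intro x y hxy
    apply e.injective
    apply hinjV
    rw [key, key, hxy]
  obtain ⟨n, hn⟩ := hR
  have han : a ^ n = ⊥ := by
    rw [← Ideal.map_pow, show 𝔪 ^ n = ⊥ from hn, Ideal.map_bot]
  have hSu : Function.Injective (u.baseChange S) :=
    Groth.Agent.FlatH4.injective_of_map_mem_smul _ fun I x hx =>
      Groth.Agent.FlatH4.mem_smul_of_map_mem_smul_of_separated a _ hV I
        (fun y hy => by have := hy n; rwa [han, sup_bot_eq] at this) x hx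
  have hF : ∀ c : ι →₀ R, (1 : S) ⊗ₜ[R] c = 0 → c = 0 := by
    intro c hc
    have h' : Function.Injective ((Algebra.linearMap R S).rTensor (ι →₀ R)) :=
      Module.Flat.rTensor_preserves_injective_linearMap _ hinj
    have : (1 : R) ⊗ₜ[R] c = 0 := h' (by simpa using hc)
    simpa using congrArg (TensorProduct.lid R _) this
  have hinju : Function.Injective u := (injective_iff_map_eq_zero u).2 fun c hc =>
    hF c <| hSu (by simp [hc])
  exact Module.Flat.of_linearEquiv (LinearEquiv.ofBijective u ⟨hinju, hsurj⟩).symm


open TensorProduct in
/-- For an injective ring map R → S with R Artinian and an R-module M, if S ⊗ M is flat over S then M is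
flat over R. -/
theorem result {R S M : Type u} [CommRing R] [CommRing S] [IsArtinianRing R] [Algebra R S] (hinj : Function.Injective (algebraMap R S))
    [AddCommGroup M] [Module R M] [Module.Flat S (S ⊗[R] M)] : Module.Flat R M := by
  refine Module.flat_of_localized_maximal M fun 𝔭 _ => ?_
  let R' := Localization.AtPrime 𝔭
  let M' := LocalizedModule 𝔭.primeCompl M
  let S' := Localization (Algebra.algebraMapSubmonoid S 𝔭.primeCompl)
  letI : Algebra R' S' := localizationAlgebra 𝔭.primeCompl S
  haveI : IsScalarTower R R' S' := IsScalarTower.of_algebraMap_eq fun r => by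
    rw [IsScalarTower.algebraMap_apply R S S', RingHom.algebraMap_toAlgebra]
    exact (IsLocalization.map_eq _ r).symm
  have hinj' : Function.Injective (algebraMap R' S') := by
    rw [RingHom.algebraMap_toAlgebra]
    haveI : IsLocalization (Submonoid.map (algebraMap R S) 𝔭.primeCompl) S' :=
      inferInstanceAs (IsLocalization (Algebra.algebraMapSubmonoid S 𝔭.primeCompl) S')
    exact IsLocalization.map_injective_of_injective 𝔭.primeCompl R' S' hinj
  have : Module.Flat S' (TensorProduct R' S' M') := by
    have h1 : Module.Flat S' (TensorProduct S S' (TensorProduct R S M)) := inferInstance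
    let e1 : TensorProduct S S' (TensorProduct R S M) ≃ₗ[S'] TensorProduct R S' M :=
      TensorProduct.AlgebraTensorModule.cancelBaseChange R S S' S' M
    have hb : IsBaseChange R' (LocalizedModule.mkLinearMap 𝔭.primeCompl M) :=
      IsLocalizedModule.isBaseChange 𝔭.primeCompl R' _
    let e2 : TensorProduct R' S' M' ≃ₗ[S'] TensorProduct R S' M :=
      TensorProduct.AlgebraTensorModule.congr (LinearEquiv.refl S' S') hb.equiv.symm ≪≫ₗ
        TensorProduct.AlgebraTensorModule.cancelBaseChange R R' S' S' M
    exact Module.Flat.of_linearEquiv (e2 ≪≫ₗ e1.symm)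
  have hnil : IsNilpotent (IsLocalRing.maximalIdeal R') := by
    rw [← IsLocalRing.jacobson_eq_maximalIdeal (⊥ : Ideal R') bot_ne_top]
    exact IsArtinianRing.isNilpotent_jacobson_bot
  have : Module.Flat R' M' := flat_of_local hnil hinj'
  exact Module.Flat.trans R R' M'

end Groth.Agent.S0398
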