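import Groth.Statements.S0399
import Groth.Agent.Lib.FlatH4.LocCrit
import Mathlib.RingTheory.Flat.Localization
import Mathlib.RingTheory.Localization.Away.Basic
import Mathlib.RingTheory.Localization.BaseChange

set_option autoImplicit false
universe u
open FlatMor

namespace Groth.Agent.S0399

open TensorProduct in
/-- For a ring A, a module M and an element f that is a nonzerodivisor on A and on M, if M_f is flat
over A_f and M/fM is flat over A/fA then M is flat over A (the source's companion statement for
faithful flatness is not stated). -/
theorem result {A M : Type u} [CommRing A] [AddCommGroup M] [Module A M] (f : A) (hA : f ∈ nonZeroDivisors A) (hM : IsSMulRegular M f)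
    [Module.Flat (Localization.Away f) (LocalizedModule (Submonoid.powers f) M)]
    [Module.Flat (A ⧸ Ideal.span {f}) ((A ⧸ Ideal.span {f}) ⊗[A] M)] : Module.Flat A M := by
  set a : Ideal A := Ideal.span {f} with ha
  -- `(f) ⊗ M → M` is injective
  let θ : A ≃ₗ[A] a := LinearEquiv.ofBijective
    ((LinearMap.toSpanSingleton A A f).codRestrict a fun r => by
      simp [ha, Ideal.mem_span_singleton'])
    ⟨fun r s h => mem_nonZeroDivisors_iff_right.1 hA (r - s) (by
        have := congrArg Subtype.val h
        simp only [LinearMap.codRestrict_apply, LinearMap.toSpanSingleton_apply, smul_eq_mul] at this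
        rw [sub_mul, this, sub_self]) |> sub_eq_zero.1,
      fun x => by
        obtain ⟨r, hr⟩ := Ideal.mem_span_singleton'.1 x.2
        exact ⟨r, Subtype.ext (by simpa using hr)⟩⟩
  have h1 : Function.Injective (a.subtype.lTensor M) := by
    intro x y hxy
    obtain ⟨x, rfl⟩ := (θ.lTensor M).surjective x
    obtain ⟨y, rfl⟩ := (θ.lTensor M).surjective y
    have key : ∀ z, TensorProduct.rid A M (a.subtype.lTensor M (θ.lTensor M z)) =
        f • TensorProduct.rid A M z := by
      intro z
      induction z using TensorProduct.induction_on with
      | zero => simp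
      | tmul m r =>
        show (r • f) • m = f • (r • m)
        rw [smul_eq_mul, mul_comm, mul_smul]
      | add p q hp hq => simp only [map_add, hp, hq, smul_add]
    have := congrArg (TensorProduct.rid A M) hxy
    rw [key, key] at this
    rw [(TensorProduct.rid A M).injective (hM this)]
  refine Module.Flat.iff_lTensor_injective'.2 fun J => ?_
  rw [injective_iff_map_eq_zero]
  intro x hx
  -- `f` is regular on `M ⊗ J`
  have hreg : ∀ z : M ⊗[A] J, f • z = 0 → z = 0 := by
    let φ : J →ₗ[A] J := LinearMap.lsmul A J f
    have hφ : Function.Injective φ := fun r s h => Subtype.ext <| by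
      have := congrArg Subtype.val h
      simp only [φ, LinearMap.lsmul_apply, Submodule.coe_smul, smul_eq_mul] at this
      exact sub_eq_zero.1 ((mem_nonZeroDivisors_iff_right.1 hA) _ (by rw [sub_mul, mul_comm, this, mul_comm, sub_self]))
    have h' := Groth.Agent.FlatH4.lTensor_subtype_injective_of_smul_le a h1 ‹_›
      (LinearMap.range φ) (Submodule.smul_le.2 fun r hr z _ => by
        obtain ⟨s, rfl⟩ := Ideal.mem_span_singleton'.1 hr
        exact ⟨s • z, by simp [φ, smul_smul, mul_comm]⟩)
    intro z hz
    have : φ.lTensor M z = 0 := by
      rw [← hz]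
      clear hz
      induction z using TensorProduct.induction_on with
      | zero => simp
      | tmul m r => simp [φ, TensorProduct.tmul_smul]
      | add p q hp hq => simp only [map_add, smul_add, hp, hq]
    rw [show φ = (LinearMap.range φ).subtype ∘ₗ (LinearEquiv.ofInjective φ hφ).toLinearMap from rfl,
      LinearMap.lTensor_comp_apply] at this
    have h2 := h' (this.trans (map_zero _).symm)
    exact (LinearEquiv.ofInjective φ hφ).lTensor M |>.injective (h2.trans (map_zero _).symm)
  -- flatness after inverting `f`
  let ι : M →ₗ[A] LocalizedModule (Submonoid.powers f) M :=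
    LocalizedModule.mkLinearMap (Submonoid.powers f) M
  have : Module.Flat A (LocalizedModule (Submonoid.powers f) M) :=
    Module.Flat.trans A (Localization.Away f) _
  have hloc : IsLocalizedModule (Submonoid.powers f) (ι.rTensor J) :=
    by
    have := IsLocalizedModule.rTensor (R := A) (A := A) (N := J) (Submonoid.powers f) ι
    exact this
  have h0 : ι.rTensor J x = 0 := by
    apply Module.Flat.lTensor_preserves_injective_linearMap J.subtype J.injective_subtype
    rw [map_zero, ← LinearMap.comp_apply, LinearMap.lTensor_comp_rTensor,
      ← LinearMap.rTensor_comp_lTensor, LinearMap.comp_apply, hx, map_zero]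
  obtain ⟨⟨_, n, rfl⟩, hn⟩ := (IsLocalizedModule.eq_zero_iff (Submonoid.powers f) (ι.rTensor J)).1 h0
  simp only [Submonoid.smul_def] at hn
  clear h0 hx
  induction n generalizing x with
  | zero => simpa using hn
  | succ n ih =>
    rw [pow_succ', mul_smul] at hn
    exact ih x (hreg _ hn)

end Groth.Agent.S0399
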