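import Groth.Statements.S0401
import Mathlib.RingTheory.QuasiFinite.Basic
import Mathlib.RingTheory.KrullDimension.Basic
import Mathlib.RingTheory.Localization.AtPrime.Basic

set_option autoImplicit false
universe u
open FlatMor

namespace Groth.Agent.S0401

/-- For a finite type ring map R → S quasi-finite at a prime q lying over p, the dimension of S_q is at
most the dimension of R_p. -/
theorem result {R S : Type u} [CommRing R] [CommRing S] [Algebra R S] [Algebra.FiniteType R S] (q : Ideal S) [q.IsPrime] [Algebra.QuasiFiniteAt R q] :
    ringKrullDim (Localization.AtPrime q) ≤ ringKrullDim (Localization.AtPrime (q.under R)) := by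
  let p := q.under R
  let φ := Localization.localRingHom p q (algebraMap R S) rfl
  refine Order.krullDim_le_of_strictMono (PrimeSpectrum.comap φ) (fun P Q hPQ => ?_)
  have hle : PrimeSpectrum.comap φ P ≤ PrimeSpectrum.comap φ Q :=
    fun x hx => hPQ.le hx
  refine lt_of_le_of_ne hle fun heq => ?_
  let c : PrimeSpectrum (Localization.AtPrime q) → PrimeSpectrum S :=
    PrimeSpectrum.comap (algebraMap S (Localization.AtPrime q))
  have hinj : Function.Injective c :=
    PrimeSpectrum.localization_comap_injective _ q.primeCompl
  have hQq : (c Q).asIdeal ≤ q := by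
    intro x hx
    by_contra hxq
    exact Q.2.ne_top (Ideal.eq_top_of_isUnit_mem _ hx
      (IsLocalization.map_units (Localization.AtPrime q) (⟨x, hxq⟩ : q.primeCompl)))
  have : Algebra.QuasiFiniteAt R (c Q).asIdeal := Algebra.QuasiFiniteAt.of_le hQq
  have hcle : (c P).asIdeal ≤ (c Q).asIdeal := fun x hx => hPQ.le hx
  have hunder : (c P).asIdeal.under R = (c Q).asIdeal.under R := by
    ext r
    have := SetLike.ext_iff.1 (congrArg PrimeSpectrum.asIdeal heq) (algebraMap R _ r)
    simp only [PrimeSpectrum.comap_asIdeal, Ideal.mem_comap, φ, p,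
      Localization.localRingHom_to_map] at this
    simpa [c, Ideal.under_def, ← IsScalarTower.algebraMap_apply] using this
  have := Algebra.QuasiFiniteAt.eq_of_le_of_under_eq hcle hunder
  exact hPQ.ne (hinj (PrimeSpectrum.ext this))

end Groth.Agent.S0401
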