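import Groth.Statements.S0407
import Groth.Agent.Lib.Dev4.FlatOfInjMod
import Groth.Agent.Lib.Dev4.UnivInjMod
import Groth.Agent.Lib.RG4.Step
import Mathlib.RingTheory.Localization.Submodule

set_option autoImplicit false
universe u
open FlatMor
open TensorProduct
set_option maxSynthPendingDepth 3
set_option backward.isDefEq.respectTransparency.types false
attribute [local instance] Algebra.TensorProduct.rightAlgebra

set_option backward.isDefEq.respectTransparency.types false

namespace Groth.Agent.S0407


open IsLocalRing in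
/-- Finite presentation and flatness, for a surjection from a local ring of essentially finite presentation. -/
theorem flat_and_finitePresentation {A B' M N : Type u} [CommRing A] [CommRing B'] [IsLocalRing A] [IsLocalRing B'] [Algebra A B']
    [IsLocalHom (algebraMap A B')] (hB : FlatCA.EssFinitePresentation A B') [Algebra.EssFiniteType A B']
    [AddCommGroup M] [Module A M] [Module.Flat A M]
    [AddCommGroup N] [Module A N] [Module B' N] [IsScalarTower A B' N] [Module.Finite B' N]
    (u : N →ₗ[A] M) (h : Function.Injective (LinearMap.lTensor (ResidueField A) u)) :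
    Module.FinitePresentation B' N ∧ Module.Flat A N := by
  classical
  set m := maximalIdeal A
  let m' := m.map (algebraMap A B')
  obtain ⟨k, φ, hφ⟩ := Module.Finite.exists_fin' B' N
  haveI : IsNoetherianRing (B' ⧸ m') :=
    letI : Field (A ⧸ m) := Ideal.Quotient.field m
    haveI : IsNoetherianRing ((A ⧸ m) ⊗[A] B') := Algebra.EssFiniteType.isNoetherianRing (A ⧸ m) _
    isNoetherianRing_of_ringEquiv _ (Algebra.TensorProduct.quotIdealMapEquivQuotTensor B' m).symm.toRingEquiv
  let ρ : (Fin k → B') →ₗ[B'] (Fin k → B' ⧸ m') := LinearMap.pi fun i => m'.mkQ ∘ₗ LinearMap.proj i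
  obtain ⟨t, htK, htspan⟩ := (Submodule.fg_span_iff_fg_span_finset_subset _).1
    (IsNoetherian.noetherian (Submodule.span (B' ⧸ m') (ρ '' (LinearMap.ker φ : Set (Fin k → B')))))
  obtain ⟨s, hsK, rfl⟩ := Finset.subset_set_image_iff.1 htK
  let K₁ := Submodule.span B' (s : Set (Fin k → B'))
  have hK₁ : K₁ ≤ LinearMap.ker φ := Submodule.span_le.2 hsK
  have happrox : ∀ f ∈ LinearMap.ker φ, ∃ g ∈ K₁, ∀ i, f i - g i ∈ m' := fun f hf => by
    have h1 : ρ f ∈ Submodule.span B' (ρ '' (s : Set (Fin k → B'))) := by
      rw [← Submodule.restrictScalars_mem B' (Submodule.span B' (ρ '' (s : Set (Fin k → B')))),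
        Submodule.restrictScalars_self]
      have h2 : ρ f ∈ Submodule.span (B' ⧸ m') (ρ '' (s : Set (Fin k → B'))) := by
        rw [← Finset.coe_image, ← htspan]
        exact Submodule.subset_span ⟨f, hf, rfl⟩
      rw [← Submodule.restrictScalars_mem B', Submodule.restrictScalars_span B' (B' ⧸ m') Ideal.Quotient.mk_surjective] at h2
      exact h2
    rw [Submodule.span_image] at h1
    obtain ⟨g, hg, hgf⟩ := h1
    exact ⟨g, hg, fun i => (Ideal.Quotient.eq (I := m')).1 (congrFun hgf i).symm⟩
  let N₀ := (Fin k → B') ⧸ K₁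
  let φ₀ : N₀ →ₗ[B'] N := K₁.liftQ φ hK₁
  have hφ₀ : Function.Surjective φ₀ := fun n => by
    obtain ⟨f, rfl⟩ := hφ n
    exact ⟨Submodule.Quotient.mk f, rfl⟩
  haveI : Module.FinitePresentation B' N₀ := Module.finitePresentation_of_surjective K₁.mkQ (Submodule.mkQ_surjective _)
    (by rw [Submodule.ker_mkQ]; exact ⟨s, rfl⟩)
  let φA := φ₀.restrictScalars A
  have hker : ∀ (X : Type u) [AddCommGroup X] [Module A X] (z : X),
      (1 : ResidueField A) ⊗ₜ[A] z = 0 ↔ z ∈ m • (⊤ : Submodule A X) := fun X _ _ z => by
    rw [← Groth.Agent.Dev4.tmul_one_quotient_eq_zero_iff]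
    exact ⟨fun hz => (congrArg (TensorProduct.comm A (A ⧸ m) X) hz).trans (map_zero _),
      fun hz => (congrArg (TensorProduct.comm A (A ⧸ m) X).symm hz).trans (map_zero _)⟩
  have hm' : ∀ f : Fin k → B', (∀ i, f i ∈ m') → f ∈ m • (⊤ : Submodule A (Fin k → B')) := fun f hf => by
    rw [← Finset.univ_sum_single f]
    refine Submodule.sum_mem _ fun i _ => ?_
    have h1 : f i ∈ m • (⊤ : Submodule A B') := by rw [Ideal.smul_top_eq_map]; exact hf i
    exact ((Submodule.map_smul'' m ⊤ (LinearMap.single A (fun _ : Fin k => B') i)).le.trans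
      (Submodule.smul_mono le_rfl le_top)) ⟨f i, h1, rfl⟩
  have hκ : Function.Injective (φA.lTensor (ResidueField A)) := by
    rw [injective_iff_map_eq_zero]
    intro z hz
    obtain ⟨y, rfl⟩ := TensorProduct.mk_surjective A N₀ (ResidueField A) Ideal.Quotient.mk_surjective z
    rw [TensorProduct.mk_apply, LinearMap.lTensor_tmul, hker] at hz
    rw [TensorProduct.mk_apply, hker]
    have h1 : φA y ∈ (m • (⊤ : Submodule A N₀)).map φA := by
      rwa [Submodule.map_smul'', Submodule.map_top, LinearMap.range_eq_top.2 (show Function.Surjective φA from hφ₀)]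
    obtain ⟨y', hy', hyy'⟩ := h1
    obtain ⟨f, hf⟩ := Submodule.Quotient.mk_surjective K₁ (y - y')
    have hfK : f ∈ LinearMap.ker φ := by
      rw [LinearMap.mem_ker]
      show φ₀ (Submodule.Quotient.mk f) = 0
      rw [hf, map_sub, sub_eq_zero]
      exact hyy'.symm
    obtain ⟨g, hg, hfg⟩ := happrox f hfK
    have h2 : y - y' ∈ m • (⊤ : Submodule A N₀) := by
      rw [← hf, show (Submodule.Quotient.mk f : N₀) = Submodule.Quotient.mk (f - g) by
        rw [Submodule.Quotient.mk_sub, (Submodule.Quotient.mk_eq_zero K₁).2 hg, sub_zero]]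
      exact ((Submodule.map_smul'' m ⊤ (K₁.mkQ.restrictScalars A)).le.trans (Submodule.smul_mono le_rfl le_top))
        ⟨f - g, hm' _ hfg, rfl⟩
    simpa using Submodule.add_mem _ h2 hy'
  let u₀ : N₀ →ₗ[A] M := u ∘ₗ φA
  have h₀ : Function.Injective (u₀.lTensor (ResidueField A)) := by
    rw [LinearMap.lTensor_comp, LinearMap.coe_comp]
    exact h.comp hκ
  haveI : Module.Flat A N₀ := Groth.Agent.Dev4.flat_of_injective_mod hB u₀ h₀
  have hu₀ := Groth.Agent.Dev4.universallyInjective_of_injective_mod (B := B') u₀ h₀
  have hinj : Function.Injective φ₀ := fun a b hab =>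
    (TensorProduct.rid A N₀).symm.injective (hu₀ A (by
      show u (φ₀ a) ⊗ₜ[A] (1 : A) = u (φ₀ b) ⊗ₜ[A] (1 : A)
      rw [hab]))
  let e := LinearEquiv.ofBijective φ₀ ⟨hinj, hφ₀⟩
  exact ⟨Module.FinitePresentation.of_equiv e, Module.Flat.of_linearEquiv (e.restrictScalars A).symm⟩

open TensorProduct in
/-- For a local homomorphism A → B essentially of finite type, a flat A-module M, a finite B-module N
and an A-linear map u from N to M that is injective modulo the maximal ideal of A: u is universally
injective over A, N is finitely presented over B and N is flat over A (no Noetherian hypothesis). -/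
theorem result {A B M N : Type u} [CommRing A] [CommRing B] [IsLocalRing A] [IsLocalRing B] [Algebra A B] [IsLocalHom (algebraMap A B)] [Algebra.EssFiniteType A B]
    [AddCommGroup M] [Module A M] [Module.Flat A M]
    [AddCommGroup N] [Module A N] [Module B N] [IsScalarTower A B N] [Module.Finite B N]
    (u : N →ₗ[A] M) (h : Function.Injective (LinearMap.lTensor (IsLocalRing.ResidueField A) u)) :
    (∀ (Q : Type u) [AddCommGroup Q] [Module A Q], Function.Injective (LinearMap.rTensor Q u)) ∧
      Module.FinitePresentation B N ∧ Module.Flat A N := by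
  classical
  obtain ⟨n, π, hπ⟩ := Algebra.FiniteType.iff_quotient_mvPolynomial''.1
    (inferInstance : Algebra.FiniteType A (Algebra.EssFiniteType.subalgebra A B))
  let P := MvPolynomial (Fin n) A
  let g₀ : P →ₐ[A] B := (Algebra.EssFiniteType.subalgebra A B).val.comp π
  let q' := (IsLocalRing.maximalIdeal B).comap g₀.toRingHom
  let B' := Localization.AtPrime q'
  have hu : ∀ p : q'.primeCompl, IsUnit (g₀.toRingHom p) := fun p => by
    by_contra hp
    exact p.2 ((IsLocalRing.mem_maximalIdeal _).2 hp)
  letI : Algebra B' B := (IsLocalization.lift (M := q'.primeCompl) hu : B' →+* B).toAlgebra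
  have hlift : ∀ p : P, algebraMap B' B (algebraMap P B' p) = g₀ p := fun p => IsLocalization.lift_eq hu p
  haveI : IsScalarTower A B' B := IsScalarTower.of_algebraMap_eq fun a => by
    rw [IsScalarTower.algebraMap_apply A P B', hlift, AlgHom.commutes]
  have hsurj : Function.Surjective (algebraMap B' B) := fun z => by
    obtain ⟨⟨a, s, hs⟩, has⟩ := IsLocalization.surj (Algebra.EssFiniteType.submonoid A B) z
    obtain ⟨pa, rfl⟩ := hπ a
    obtain ⟨ps, rfl⟩ := hπ s
    have hps : ps ∉ q' := fun hm => (IsLocalRing.mem_maximalIdeal _).1 hm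
      (IsLocalization.map_units B (⟨π ps, hs⟩ : Algebra.EssFiniteType.submonoid A B))
    refine ⟨IsLocalization.mk' B' pa (⟨ps, hps⟩ : q'.primeCompl), ?_⟩
    show IsLocalization.lift (M := q'.primeCompl) hu _ = z
    rw [IsLocalization.lift_mk'_spec]
    show g₀ pa = g₀ ps * z
    rw [mul_comm]
    exact has.symm
  haveI : IsLocalHom (algebraMap B' B) := hsurj.isLocalHom _
  haveI : IsLocalHom (algebraMap A B') := ⟨fun a ha => by
    refine isUnit_of_map_unit (algebraMap A B) a ?_
    rw [IsScalarTower.algebraMap_apply A B' B]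
    exact ha.map _⟩
  haveI : Algebra.EssFiniteType A B' := Algebra.EssFiniteType.comp A P B'
  have hB : FlatCA.EssFinitePresentation A B' :=
    ⟨P, inferInstance, inferInstance, inferInstance, inferInstance, q'.primeCompl, inferInstance, inferInstance⟩
  letI : Module B' N := Module.compHom N (algebraMap B' B)
  haveI : IsScalarTower B' B N := IsScalarTower.of_algebraMap_smul fun _ _ => rfl
  haveI : IsScalarTower A B' N := IsScalarTower.of_algebraMap_smul fun a x => by
    show algebraMap B' B (algebraMap A B' a) • x = a • x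
    rw [← IsScalarTower.algebraMap_apply, algebraMap_smul]
  haveI : Module.Finite B' B := Module.Finite.of_surjective (Algebra.linearMap B' B) hsurj
  haveI : Module.Finite B' N := Module.Finite.trans B N
  obtain ⟨hfp, hflat⟩ := flat_and_finitePresentation hB u h
  haveI := hfp
  haveI := hflat
  exact ⟨Groth.Agent.Dev4.universallyInjective_of_injective_mod (B := B) u h,
    Groth.Agent.RG4.finitePresentation_of_finite (B := B'), hflat⟩

end Groth.Agent.S0407
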