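import Groth.Statements.S0409
import Groth.Agent.Lib.QFDense4Scheme

set_option autoImplicit false
universe u
open FlatMor

set_option backward.isDefEq.respectTransparency.types false

namespace Groth.Agent.S0409

open AlgebraicGeometry CategoryTheory Limits in
/-- A quasi-finite morphism (locally of finite type, quasi-compact, with finite fibres) is finite over a
dense open subset of the target. -/
theorem result {Y X : Scheme.{u}} (f : Y ⟶ X) [LocallyQuasiFinite f] [LocallyOfFiniteType f] [QuasiCompact f] :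
    ∃ U : X.Opens, Dense (U : Set ↑X) ∧ IsFinite (f ∣_ U) := by
  let U : X.Opens := sSup {V : X.Opens | IsFinite (f ∣_ V)}
  refine ⟨U, ?_, ?_⟩
  · rw [dense_iff_inter_open]
    intro O hO hne
    obtain ⟨V, hle, ⟨x, hx⟩, hfin⟩ := Groth.Agent.QFDense4.exists_isFinite_restrict f ⟨O, hO⟩ hne
    exact ⟨x, hle hx, TopologicalSpace.Opens.mem_sSup.2 ⟨V, hfin, hx⟩⟩
  · let S := {V : X.Opens | IsFinite (f ∣_ V)}
    have hsup : ⨆ V : S, U.ι ⁻¹ᵁ (V : X.Opens) = ⊤ := by
      refine top_unique fun y _ => ?_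
      obtain ⟨V, hV, hy⟩ := TopologicalSpace.Opens.mem_sSup.1 y.2
      exact TopologicalSpace.Opens.mem_iSup.2 ⟨⟨V, hV⟩, hy⟩
    refine (IsZariskiLocalAtTarget.iff_of_iSup_eq_top (P := @IsFinite) _ hsup).2 fun V => ?_
    have hle : (V : X.Opens) ≤ U := fun y hy => TopologicalSpace.Opens.mem_sSup.2 ⟨V, V.2, hy⟩
    rw [MorphismProperty.arrow_mk_iso_iff @IsFinite (morphismRestrictRestrict f U (U.ι ⁻¹ᵁ (V : X.Opens))),
      MorphismProperty.arrow_mk_iso_iff @IsFinite (morphismRestrictEq f (show U.ι ''ᵁ (U.ι ⁻¹ᵁ (V : X.Opens)) = V by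
        rw [Scheme.Hom.image_preimage_eq_opensRange_inf, Scheme.Opens.opensRange_ι, inf_eq_right]; exact hle))]
    exact V.2

end Groth.Agent.S0409
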