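import Groth.Statements.S0411
import Mathlib.AlgebraicGeometry.ZariskisMainTheorem
import Mathlib.AlgebraicGeometry.QuasiAffine

set_option autoImplicit false
universe u
open FlatMor

namespace Groth.Agent.S0411

open AlgebraicGeometry CategoryTheory Limits in
/-- For a separated, locally quasi-finite morphism (locally of finite type with discrete fibres) to an
affine scheme, every finite set of points of the source lies in an affine open. -/
theorem result {X Y : Scheme.{u}} (f : X ⟶ Y) [IsAffine Y] [IsSeparated f] [LocallyQuasiFinite f] [LocallyOfFiniteType f] (T : Finset ↑X) :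
    ∃ U : X.Opens, IsAffineOpen U ∧ ∀ x ∈ T, x ∈ U := by
  choose U hU hxU _ using fun x : X =>
    exists_isAffineOpen_mem_and_subset (U := ⊤) (x := x) (Set.mem_univ _)
  classical
  obtain rfl | ⟨t₀, ht₀⟩ := T.eq_empty_or_nonempty
  · exact ⟨⊥, isAffineOpen_bot X, by simp⟩
  let x₀ : {x // x ∈ T} := ⟨t₀, ht₀⟩
  let W : X.Opens := ⨆ x : {x // x ∈ T}, U x.1
  have hW : IsCompact (W : Set X) := by
    simp only [W, TopologicalSpace.Opens.coe_iSup]
    exact isCompact_iUnion fun x => (hU x.1).isCompact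
  have : CompactSpace (W : Scheme.{u}) := isCompact_iff_compactSpace.mp hW
  let q : (W : Scheme.{u}) ⟶ Y := W.ι ≫ f
  have : IsSeparated q := MorphismProperty.comp_mem _ W.ι f inferInstance inferInstance
  have : LocallyOfFiniteType q := MorphismProperty.comp_mem _ W.ι f inferInstance inferInstance
  have : LocallyQuasiFinite q := MorphismProperty.comp_mem _ W.ι f inferInstance inferInstance
  have : QuasiCompact q := (quasiCompact_iff_compactSpace q).mpr ‹_›
  have : IsAffine q.normalization := isAffine_of_isAffineHom q.fromNormalization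
  let A := Γ(q.normalization, ⊤)
  let j : (W : Scheme.{u}) ⟶ Spec A := q.toNormalization ≫ q.normalization.isoSpec.hom
  have : IsOpenImmersion j := inferInstance
  obtain ⟨Z, hZ⟩ : ∃ Z : Set A, (Set.range j)ᶜ = PrimeSpectrum.zeroLocus Z :=
    (PrimeSpectrum.isClosed_iff_zeroLocus _).mp j.isOpenEmbedding.isOpen_range.isClosed_compl
  let P : {x // x ∈ T} → Ideal A := fun x =>
    (j ⟨x.1, TopologicalSpace.Opens.mem_iSup.mpr ⟨x, hxU x.1⟩⟩).asIdeal
  have key : ¬ ((Ideal.span Z : Set A) ⊆ ⋃ x ∈ (↑(Finset.univ : Finset {x // x ∈ T}) : Set {x // x ∈ T}), (P x : Set A)) := by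
    intro h
    obtain ⟨x, -, hx⟩ := (Ideal.subset_union_prime_finite (Finset.finite_toSet _) x₀ x₀
      (fun i _ _ _ => PrimeSpectrum.isPrime _)).mp h
    have : j ⟨x.1, TopologicalSpace.Opens.mem_iSup.mpr ⟨x, hxU x.1⟩⟩ ∈ PrimeSpectrum.zeroLocus Z :=
      (PrimeSpectrum.mem_zeroLocus _ _).mpr fun a ha => hx (Ideal.subset_span ha)
    rw [← hZ] at this
    exact this ⟨_, rfl⟩
  obtain ⟨a, haJ, ha⟩ := Set.not_subset.mp key
  let D : (Spec A).Opens := PrimeSpectrum.basicOpen a
  have hD : (D : Set (Spec A)) ⊆ Set.range j := by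
    rw [← compl_compl (Set.range j), hZ, ← PrimeSpectrum.zeroLocus_span]
    intro p hp hpJ
    exact hp (hpJ haJ)
  refine ⟨W.ι ''ᵁ (j ⁻¹ᵁ D), ?_, fun x hx => ?_⟩
  · rw [W.ι.isAffineOpen_iff_of_isOpenImmersion, ← j.isAffineOpen_iff_of_isOpenImmersion,
      j.image_preimage_eq_opensRange_inf, inf_eq_right.mpr (show D ≤ j.opensRange from hD)]
    exact IsAffineOpen.Spec_basicOpen a
  · refine ⟨⟨x, TopologicalSpace.Opens.mem_iSup.mpr ⟨⟨x, hx⟩, hxU x⟩⟩, ?_, rfl⟩
    intro hmem
    exact ha (Set.mem_biUnion (Finset.mem_coe.mpr (Finset.mem_univ (⟨x, hx⟩ : {x // x ∈ T}))) hmem)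

end Groth.Agent.S0411
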