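import Groth.Statements.S0413
import Groth.Agent.Lib.EtaleSlice4.Slice

set_option autoImplicit false
universe u
open FlatMor

set_option backward.isDefEq.respectTransparency.types false

namespace Groth.Agent.S0413


open AlgebraicGeometry CategoryTheory Limits


open AlgebraicGeometry CategoryTheory Limits in
/-- For a smooth morphism and a point that is closed in its fibre with separable residue field
extension, there is a locally closed subscheme through the point which is étale over the base and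
meets the fibre only in that point. -/
theorem result {X S : Scheme.{u}} (f : X ⟶ S) [Smooth f] (x : X)
    (hcl : IsClosed ({f.asFiber x} : Set ↑(f.fiber (f x))))
    (hsep : @Algebra.IsSeparable (S.residueField (f x)) (X.residueField x) _ _ (f.residueFieldMap x).hom.toAlgebra) :
    ∃ (Z : Scheme.{u}) (i : Z ⟶ X) (z : Z), IsImmersion i ∧ Etale (i ≫ f) ∧ i z = x ∧
      ∀ z' : ↑Z, f (i z') = f x → z' = z := by
  obtain ⟨_, ⟨V, hV, rfl⟩, hyV, -⟩ :=
    S.isBasis_affineOpens.exists_subset_of_mem_open (Set.mem_univ (f x)) isOpen_univ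
  obtain ⟨_, ⟨U, hU, rfl⟩, hxU, hUV⟩ :=
    X.isBasis_affineOpens.exists_subset_of_mem_open (show x ∈ f ⁻¹ᵁ V from hyV) (f ⁻¹ᵁ V).2
  have e : U ≤ f ⁻¹ᵁ V := hUV
  have hφ : (f.appLE V U e).hom.Smooth :=
    HasRingHomProperty.appLE (P := @Smooth) f inferInstance ⟨V, hV⟩ ⟨U, hU⟩ e
  algebraize [(f.appLE V U e).hom]
  letI := TopCat.Presheaf.algebra_section_stalk X.presheaf (U := U) ⟨x, hxU⟩
  haveI := hU.isLocalization_stalk ⟨x, hxU⟩
  let P := X.presheaf.stalk x
  letI : Algebra Γ(S, V) P :=
    ((f.appLE V U e) ≫ X.presheaf.germ U x hxU).hom.toAlgebra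
  haveI : IsScalarTower Γ(S, V) Γ(X, U) P :=
    IsScalarTower.of_algebraMap_eq (R := Γ(S, V)) (S := Γ(X, U)) (A := P) fun a => rfl
  have hK : Algebra.FormallyUnramified Γ(S, V) (IsLocalRing.ResidueField P) := by
    letI := TopCat.Presheaf.algebra_section_stalk S.presheaf (U := V) ⟨f x, hyV⟩
    haveI := hV.isLocalization_stalk ⟨f x, hyV⟩
    haveI : Algebra.FormallyUnramified Γ(S, V) (S.presheaf.stalk (f x)) :=
      Algebra.FormallyUnramified.of_isLocalization (hV.primeIdealOf ⟨f x, hyV⟩).asIdeal.primeCompl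
    letI : Algebra Γ(S, V) (S.residueField (f x)) :=
      (S.presheaf.germ V (f x) hyV ≫ S.residue (f x)).hom.toAlgebra
    letI : Algebra (S.presheaf.stalk (f x)) (S.residueField (f x)) :=
      (S.residue (f x)).hom.toAlgebra
    letI : Algebra (S.residueField (f x)) (X.residueField x) :=
      (f.residueFieldMap x).hom.toAlgebra
    letI : Algebra Γ(S, V) (X.residueField x) :=
      (f.appLE V U e ≫ X.presheaf.germ U x hxU ≫ X.residue x).hom.toAlgebra
    letI : Algebra P (X.residueField x) := (X.residue x).hom.toAlgebra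
    haveI : IsScalarTower Γ(S, V) P (X.residueField x) :=
      IsScalarTower.of_algebraMap_eq (R := Γ(S, V)) (S := P) (A := X.residueField x) fun a => rfl
    haveI : IsScalarTower Γ(S, V) (S.presheaf.stalk (f x)) (S.residueField (f x)) :=
      IsScalarTower.of_algebraMap_eq (R := Γ(S, V)) (S := S.presheaf.stalk (f x))
        (A := S.residueField (f x)) fun a => rfl
    haveI : IsScalarTower Γ(S, V) (S.residueField (f x)) (X.residueField x) :=
      IsScalarTower.of_algebraMap_eq (R := Γ(S, V)) (S := S.residueField (f x))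
        (A := X.residueField x) fun a => by
          change (f.appLE V U e ≫ X.presheaf.germ U x hxU ≫ X.residue x).hom a =
            (S.presheaf.germ V (f x) hyV ≫ S.residue (f x) ≫ f.residueFieldMap x).hom a
          rw [Scheme.residue_residueFieldMap, Scheme.Hom.germ_stalkMap_assoc]
          simp [Scheme.Hom.appLE]
    haveI : Algebra.FormallyUnramified (S.presheaf.stalk (f x)) (S.residueField (f x)) :=
      Algebra.FormallyUnramified.of_surjective
        (Algebra.ofId (S.presheaf.stalk (f x)) (S.residueField (f x)))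
        IsLocalRing.residue_surjective
    haveI : Algebra.FormallyUnramified Γ(S, V) (S.residueField (f x)) :=
      Algebra.FormallyUnramified.comp Γ(S, V) (S.presheaf.stalk (f x)) (S.residueField (f x))
    haveI : Algebra.EssFiniteType Γ(S, V) P := by
      haveI := Algebra.EssFiniteType.of_isLocalization P
        (hU.primeIdealOf ⟨x, hxU⟩).asIdeal.primeCompl
      exact Algebra.EssFiniteType.comp Γ(S, V) Γ(X, U) P
    haveI : Algebra.FiniteType P (X.residueField x) :=
      Algebra.FiniteType.of_surjective (Algebra.ofId P (X.residueField x))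
        IsLocalRing.residue_surjective
    haveI : Algebra.EssFiniteType Γ(S, V) (X.residueField x) :=
      Algebra.EssFiniteType.comp Γ(S, V) P (X.residueField x)
    haveI : Algebra.EssFiniteType (S.residueField (f x)) (X.residueField x) :=
      Algebra.EssFiniteType.of_comp Γ(S, V) (S.residueField (f x)) (X.residueField x)
    haveI : Algebra.IsSeparable (S.residueField (f x)) (X.residueField x) := hsep
    haveI : Algebra.FormallyUnramified (S.residueField (f x)) (X.residueField x) :=
      Algebra.FormallyUnramified.of_isSeparable _ _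
    haveI : Algebra.FormallyUnramified Γ(S, V) (X.residueField x) :=
      Algebra.FormallyUnramified.comp Γ(S, V) (S.residueField (f x)) (X.residueField x)
    exact Algebra.FormallyUnramified.of_surjective
      (⟨RingHom.id _, fun a => rfl⟩ : X.residueField x →ₐ[Γ(S, V)] IsLocalRing.ResidueField P)
      Function.surjective_id
  obtain ⟨J, h, hJ, hh, hetale, huniq⟩ :=
    EtaleSlice4.exists_etale_slice (A := Γ(S, V)) (B := Γ(X, U)) (P := P)
      (hU.primeIdealOf ⟨x, hxU⟩).asIdeal
  let C := Localization.Away (Ideal.Quotient.mk J h)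
  let ρ₁ : Γ(X, U) ⟶ CommRingCat.of (Γ(X, U) ⧸ J) := CommRingCat.ofHom (Ideal.Quotient.mk J)
  let ρ₂ : CommRingCat.of (Γ(X, U) ⧸ J) ⟶ CommRingCat.of C :=
    CommRingCat.ofHom (algebraMap (Γ(X, U) ⧸ J) C)
  haveI : IsClosedImmersion (Spec.map ρ₁) :=
    IsClosedImmersion.spec_of_surjective ρ₁ Ideal.Quotient.mk_surjective
  haveI : IsOpenImmersion (Spec.map ρ₂) :=
    IsOpenImmersion.of_isLocalization (S := C) (Ideal.Quotient.mk J h)
  let i : Spec (CommRingCat.of C) ⟶ X := Spec.map (ρ₁ ≫ ρ₂) ≫ hU.fromSpec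
  have hi : IsImmersion i := by
    haveI : IsImmersion (Spec.map (ρ₁ ≫ ρ₂)) := by
      rw [Spec.map_comp]; infer_instance
    exact MorphismProperty.comp_mem _ _ _ inferInstance inferInstance
  have hif : i ≫ f = Spec.map (f.appLE V U e ≫ ρ₁ ≫ ρ₂) ≫ hV.fromSpec := by
    rw [Category.assoc, ← hV.SpecMap_appLE_fromSpec f hU e, ← Category.assoc, ← Spec.map_comp]
  haveI : Etale (Spec.map (f.appLE V U e ≫ ρ₁ ≫ ρ₂)) :=
    (HasRingHomProperty.Spec_iff (P := @Etale)).mpr (RingHom.etale_algebraMap.mpr hetale)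
  have hd : Disjoint (Submonoid.powers (Ideal.Quotient.mk J h) : Set (Γ(X, U) ⧸ J))
      ((hU.primeIdealOf ⟨x, hxU⟩).asIdeal.map (Ideal.Quotient.mk J)) := by
    refine Set.disjoint_left.mpr fun y ⟨k, hk⟩ hy => hh ?_
    have : h ^ k ∈ (hU.primeIdealOf ⟨x, hxU⟩).asIdeal := by
      rw [← sup_eq_left.mpr hJ, ← Ideal.mk_ker (I := J), RingHom.ker_eq_comap_bot,
        ← Ideal.comap_map_of_surjective _ Ideal.Quotient.mk_surjective, Ideal.mem_comap, map_pow]
      simpa [← hk] using hy
    exact Ideal.IsPrime.mem_of_pow_mem inferInstance k this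
  haveI hp : ((hU.primeIdealOf ⟨x, hxU⟩).asIdeal.map (Ideal.Quotient.mk J)).IsPrime :=
    Ideal.map_isPrime_of_surjective Ideal.Quotient.mk_surjective (by rwa [Ideal.mk_ker])
  let z : Spec (CommRingCat.of C) :=
    ⟨((hU.primeIdealOf ⟨x, hxU⟩).asIdeal.map (Ideal.Quotient.mk J)).map (algebraMap _ C),
      IsLocalization.isPrime_of_isPrime_disjoint (.powers (Ideal.Quotient.mk J h)) C _ hp hd⟩
  have hiz : i z = x := by
    have hz : (Spec.map (ρ₁ ≫ ρ₂)) z = hU.primeIdealOf ⟨x, hxU⟩ := by
      refine PrimeSpectrum.ext ?_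
      change (((hU.primeIdealOf ⟨x, hxU⟩).asIdeal.map (Ideal.Quotient.mk J)).map
        (algebraMap _ C)).comap ((algebraMap _ C).comp (Ideal.Quotient.mk J)) = _
      have e1 : Ideal.comap (algebraMap (Γ(X, U) ⧸ J) C)
          (((hU.primeIdealOf ⟨x, hxU⟩).asIdeal.map (Ideal.Quotient.mk J)).map (algebraMap _ C)) =
          (hU.primeIdealOf ⟨x, hxU⟩).asIdeal.map (Ideal.Quotient.mk J) :=
        IsLocalization.comap_map_of_isPrime_disjoint (.powers (Ideal.Quotient.mk J h)) C hp hd
      rw [← Ideal.comap_comap, e1, Ideal.comap_map_of_surjective _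
        Ideal.Quotient.mk_surjective, ← RingHom.ker_eq_comap_bot, Ideal.mk_ker,
        sup_eq_left.mpr hJ]
    rw [Scheme.Hom.comp_apply, hz, hU.fromSpec_primeIdealOf]
  refine ⟨Spec (CommRingCat.of C), i, z, hi,
    hif ▸ MorphismProperty.comp_mem _ _ _ inferInstance inferInstance, hiz, fun z' hz' => ?_⟩
  refine hi.isEmbedding.injective ?_
  rw [hiz, Scheme.Hom.comp_apply]
  refine Eq.trans (congr_arg hU.fromSpec ?_) (hU.fromSpec_primeIdealOf ⟨x, hxU⟩)
  refine PrimeSpectrum.ext (huniq z'.asIdeal z'.2 ?_)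
  have h1 : (Spec.map (f.appLE V U e ≫ ρ₁ ≫ ρ₂)) z' =
      (Spec.map (f.appLE V U e)) (hU.primeIdealOf ⟨x, hxU⟩) := by
    refine hV.fromSpec.isOpenEmbedding.injective ?_
    change (Spec.map (f.appLE V U e ≫ ρ₁ ≫ ρ₂) ≫ hV.fromSpec) z' =
      (Spec.map (f.appLE V U e) ≫ hV.fromSpec) (hU.primeIdealOf ⟨x, hxU⟩)
    rw [← hif, Scheme.Hom.comp_apply, hz', hV.SpecMap_appLE_fromSpec f hU e,
      Scheme.Hom.comp_apply, hU.fromSpec_primeIdealOf]
  exact congr_arg PrimeSpectrum.asIdeal h1

end Groth.Agent.S0413
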