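import Groth.Statements.S0415
import Groth.Agent.Lib.UnivHomeo.Basic


set_option autoImplicit false
universe u
open FlatMor

namespace Groth.Agent.S0415

open AlgebraicGeometry CategoryTheory Limits in
/-- A morphism of schemes is a universal homeomorphism if and only if it is integral, universally
injective and surjective. -/
theorem result {X Y : Scheme.{u}} (f : X ⟶ Y) :
    FlatMor.IsUnivHomeo f ↔ IsIntegralHom f ∧ UniversallyInjective f ∧ Surjective f := by
  constructor
  · intro h
    have hh := UH.isHomeomorph_of_isUnivHomeo h
    haveI : IsAffineHom f := isAffineHom_of_isInducing f hh.isInducing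
      (by rw [hh.surjective.range_eq]; exact isClosed_univ)
    exact (UH.isUnivHomeo_iff_of_isAffineHom f).mp h
  · rintro ⟨h₁, h₂, h₃⟩
    exact UH.isUnivHomeo_of f

end Groth.Agent.S0415
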