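import Mathlib.AlgebraicGeometry.Geometrically.Irreducible
import Mathlib.AlgebraicGeometry.Geometrically.Connected
import Mathlib.AlgebraicGeometry.Fiber
import Mathlib.AlgebraicGeometry.Morphisms.FiniteType
import Mathlib
import Groth.Agent.Lib.GeomSpread4.Count
import Groth.Agent.Lib.GeomIrr18.Scheme
import Groth.Agent.Lib.Stein6.GenFibre

set_option autoImplicit false
universe u
namespace FlatMor
end FlatMor
open FlatMor

namespace Groth.Agent.S0420

open AlgebraicGeometry CategoryTheory Limits in
/-- For a morphism of finite type to an irreducible scheme whose generic fibre is geometrically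
connected, all fibres over some nonempty open of the target are geometrically connected. -/
theorem result {X Y : Scheme.{u}} (f : X ⟶ Y) [IrreducibleSpace ↑Y] [LocallyOfFiniteType f] [QuasiCompact f]
    (h : GeometricallyConnected (f.fiberToSpecResidueField (genericPoint ↑Y))) :
    ∃ V : Y.Opens, (V : Set ↑Y).Nonempty ∧ GeometricallyConnected (f ∣_ V) := by
  obtain ⟨U, hU, hc⟩ := GeomSpread4.exists_count_const f (genericPoint ↑Y)
  refine ⟨U, ⟨_, hU⟩, ?_⟩
  have hfib : ∀ y ∈ U, GeometricallyConnected (f.fiberToSpecResidueField y) := by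
    intro y hy
    have hy' : y ∈ closure ({genericPoint ↑Y} : Set Y) ∩ (U : Set Y) :=
      ⟨specializes_iff_mem_closure.1 (genericPoint_specializes y), hy⟩
    haveI := h
    haveI : ConnectedSpace ↥(MoreMor.geomFiber f (genericPoint ↑Y)) :=
      GeometricallyConnected.geometrically_connectedSpace (f := f.fiberToSpecResidueField (genericPoint ↑Y)) _ _ _
        (IsPullback.of_hasPullback _ _)
    have h1 : MoreMor.nGeomConnComp f y = 1 := by
      rw [(hc y hy').2]
      refine le_antisymm ((ENat.card_le_one_iff_subsingleton _).2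
        ⟨fun a b => Quotient.inductionOn₂' a b fun x z => ConnectedComponents.coe_eq_coe'.2 (by
          rw [PreconnectedSpace.connectedComponent_eq_univ]; trivial)⟩) ?_
      exact ENat.one_le_card_iff_nonempty _ |>.2 inferInstance
    haveI : Subsingleton (_root_.ConnectedComponents ↥(MoreMor.geomFiber f y)) :=
      (ENat.card_le_one_iff_subsingleton _).1 h1.le
    haveI : PreconnectedSpace ↥(MoreMor.geomFiber f y) := preconnectedSpace_iff_connectedComponent.2 fun x =>
      Set.eq_univ_of_forall fun z => ConnectedComponents.coe_eq_coe'.1 (Subsingleton.elim _ _)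
    haveI : Nonempty (_root_.ConnectedComponents ↥(MoreMor.geomFiber f y)) :=
      (ENat.one_le_card_iff_nonempty _).1 h1.ge
    obtain ⟨c⟩ := ‹Nonempty (_root_.ConnectedComponents ↥(MoreMor.geomFiber f y))›
    obtain ⟨z, -⟩ := ConnectedComponents.surjective_coe c
    haveI : ConnectedSpace ↥(MoreMor.geomFiber f y) := { toNonempty := ⟨z⟩ }
    exact @GeomIrr.geometricallyConnected_of_bc (Y.residueField y) _ _ (f.fiberToSpecResidueField y)
      (SeparableClosure (Y.residueField y)) _ _ _ ‹ConnectedSpace ↥(MoreMor.geomFiber f y)›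
  rw [GeometricallyConnected.iff_geometricallyConnected_fiber]
  intro y
  refine ⟨geometrically_iff_of_isClosedUnderIsomorphisms.2 fun K _ σ => ?_⟩
  haveI := hfib y.1 y.2
  let k : Spec (U.toScheme.residueField y) ⟶ Spec (Y.residueField y.1) := Spec.map (U.ι.residueFieldMap y)
  have hk : (σ ≫ k) ≫ Y.fromSpecResidueField y.1 = (σ ≫ U.toScheme.fromSpecResidueField y) ≫ U.ι := by
    rw [Category.assoc, Category.assoc]
    exact congrArg (σ ≫ ·) (Scheme.Hom.SpecMap_residueFieldMap_fromSpecResidueField U.ι y)
  haveI : ConnectedSpace ↥(pullback (f.fiberToSpecResidueField y.1) (σ ≫ k)) :=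
    GeometricallyConnected.geometrically_connectedSpace (f := f.fiberToSpecResidueField y.1) _ _ _
      (IsPullback.of_hasPullback _ _)
  let e1 : pullback (f ∣_ U) (σ ≫ U.toScheme.fromSpecResidueField y) ≅ pullback f ((σ ≫ U.toScheme.fromSpecResidueField y) ≫ U.ι) :=
    ((IsPullback.of_hasPullback (f ∣_ U) (σ ≫ U.toScheme.fromSpecResidueField y)).flip.paste_vert
      (isPullback_morphismRestrict f U)).flip.isoPullback
  let e : pullback (f.fiberToSpecResidueField y.1) (σ ≫ k) ≅ pullback ((f ∣_ U).fiberToSpecResidueField y) σ :=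
    pullbackLeftPullbackSndIso f (Y.fromSpecResidueField y.1) (σ ≫ k) ≪≫ pullback.congrHom rfl hk ≪≫ e1.symm ≪≫
      (pullbackLeftPullbackSndIso (f ∣_ U) (U.toScheme.fromSpecResidueField y) σ).symm
  show ConnectedSpace ↥(pullback ((f ∣_ U).fiberToSpecResidueField y) σ)
  exact GeomIrr.connectedSpace_of_surjective e.hom

end Groth.Agent.S0420
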