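import Groth.Statements.S0421
import Groth.Agent.Lib.DvrConn4
import Mathlib.AlgebraicGeometry.Morphisms.Flat

set_option autoImplicit false
universe u
open FlatMor

set_option backward.isDefEq.respectTransparency.types false

namespace Groth.Agent.S0421


open CategoryTheory CategoryTheory.Limits AlgebraicGeometry Topology TensorProduct
open Groth.Agent.DvrConn4

set_option backward.isDefEq.respectTransparency.types false

variable {A : Type u} [CommRing A] [IsDomain A] [IsDiscreteValuationRing A] {X : Scheme.{u}}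

/-- Flat over a DVR, connected with reduced special fibre: connected generic fibre. -/
theorem preconnectedSpace_generic_flat (f : X ⟶ Spec (CommRingCat.of A)) [Flat f]
    [PreconnectedSpace X] (a b : ↥(Spec (CommRingCat.of A))) (ha : IsClosed ({a} : Set ↥(Spec (CommRingCat.of A))))
    (hb : ∀ z : ↥(Spec (CommRingCat.of A)), b ⤳ z) (hred : AlgebraicGeometry.IsReduced (f.fiber a)) :
    PreconnectedSpace ↥(f.fiber b) := by
  obtain ⟨π, hπ⟩ := IsDiscreteValuationRing.exists_irreducible A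
  have hbbot : (b : PrimeSpectrum A).asIdeal = ⊥ :=
    eq_bot_iff.2 ((PrimeSpectrum.le_iff_specializes (b : PrimeSpectrum A) ⟨⊥, Ideal.isPrime_bot⟩).2 (hb _))
  haveI hamax : (a : PrimeSpectrum A).asIdeal.IsMaximal := (PrimeSpectrum.isClosed_singleton_iff_isMaximal _).1 ha
  have hamk : (a : PrimeSpectrum A).asIdeal = Ideal.span {π} :=
    (IsLocalRing.eq_maximalIdeal hamax).trans hπ.maximalIdeal_eq
  have hfib : ∀ z : ↥(Spec (CommRingCat.of A)), π ∉ (z : PrimeSpectrum A).asIdeal ↔ z = b := by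
    intro z
    refine ⟨fun h => PrimeSpectrum.ext ?_, fun h => h ▸ hbbot ▸ fun h0 => hπ.ne_zero (Ideal.mem_bot.1 h0)⟩
    rw [hbbot]
    by_contra hne
    refine h ?_
    rw [IsLocalRing.eq_maximalIdeal (IsPrime.to_maximal_ideal hne), hπ.maximalIdeal_eq]
    exact Ideal.mem_span_singleton_self π
  -- affine charts
  have hchart : ∀ x : X, ∃ (B : CommRingCat.{u}) (j : Spec B ⟶ X), IsOpenImmersion j ∧ x ∈ Set.range j := fun x => by
    obtain ⟨W, hW, hxW, -⟩ := exists_isAffineOpen_mem_and_subset (X := X) (x := x) (U := ⊤) trivial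
    exact ⟨_, hW.fromSpec, inferInstance, _, hW.fromSpec_primeIdealOf ⟨x, hxW⟩⟩
  suffices h : _root_.IsPreconnected (f ⁻¹' ({b} : Set ↥(Spec (CommRingCat.of A)))) by
    haveI := Subtype.preconnectedSpace h
    refine ⟨?_⟩
    rw [← (Scheme.Hom.fiberHomeo f b).symm.surjective.range_eq]
    exact isPreconnected_range (Scheme.Hom.fiberHomeo f b).symm.continuous
  rw [isPreconnected_iff_subset_of_disjoint]
  intro u v hu hv huv hdisj
  by_contra hcon
  rw [not_or, Set.not_subset, Set.not_subset] at hcon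
  obtain ⟨⟨x₁, hx₁, hx₁u⟩, ⟨x₂, hx₂, hx₂v⟩⟩ := hcon
  have hdense : ∀ O : Set X, IsOpen O → O.Nonempty → (O ∩ f ⁻¹' {b}).Nonempty := by
    rintro O hO ⟨o, ho⟩
    obtain ⟨o', ho', hfo⟩ := Flat.generalizingMap f (hb (f o))
    exact ⟨o', ho'.mem_open hO ho, hfo⟩
  let S := f ⁻¹' ({b} : Set ↥(Spec (CommRingCat.of A)))
  have hcl : ∀ x, x ∈ closure (u ∩ S) ∨ x ∈ closure (v ∩ S) := by
    intro x
    by_contra h
    rw [not_or] at h
    obtain ⟨z, ⟨hz1, hz2⟩, hz⟩ := hdense ((closure (u ∩ S))ᶜ ∩ (closure (v ∩ S))ᶜ)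
      (isClosed_closure.isOpen_compl.inter isClosed_closure.isOpen_compl) ⟨x, h.1, h.2⟩
    rcases huv hz with hzu | hzv
    · exact hz1 (subset_closure ⟨hzu, hz⟩)
    · exact hz2 (subset_closure ⟨hzv, hz⟩)
  obtain ⟨x, -, hxu, hxv⟩ := (isPreconnected_closed_iff.1 PreconnectedSpace.isPreconnected_univ)
    (closure (u ∩ S)) (closure (v ∩ S)) isClosed_closure isClosed_closure (fun x _ => hcl x)
    ⟨x₂, trivial, subset_closure ⟨(huv hx₂).resolve_right hx₂v, hx₂⟩⟩
    ⟨x₁, trivial, subset_closure ⟨(huv hx₁).resolve_left hx₁u, hx₁⟩⟩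
  obtain ⟨B, j, hj, w, rfl⟩ := hchart x
  obtain ⟨φ, hφ⟩ := Spec.map_surjective (j ≫ f)
  letI : Algebra A B := φ.hom.toAlgebra
  haveI hfr : _root_.IsReduced ((a : PrimeSpectrum A).asIdeal.Fiber B) :=
    FibRing4.isReduced_fiberRing (A := A) (B := B) f j (𝟙 _) (by rw [Category.comp_id]; exact hφ.symm) a hred
  let π' : B := φ.hom π
  haveI : _root_.IsReduced (B ⧸ Ideal.span {π'}) := by
    have h := isReduced_quotient_of_fiber (A := A) (B := B) a
    rw [hamk, Ideal.map_span, Set.image_singleton] at h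
    exact h
  have hfj : ∀ q : PrimeSpectrum B, π' ∉ q.asIdeal ↔ j q ∈ S := fun q => by
    show _ ↔ f (j q) = b
    rw [← hfib, ← Scheme.Hom.comp_apply, ← hφ]
    rfl
  have hgen : ∀ Q : PrimeSpectrum B, ∃ P : PrimeSpectrum B, P.asIdeal ≤ Q.asIdeal ∧ π' ∉ P.asIdeal := by
    intro Q
    obtain ⟨P, hP, hPQ⟩ := Ideal.exists_minimalPrimes_le (I := (⊥ : Ideal B)) (J := Q.asIdeal) bot_le
    refine ⟨⟨P, hP.1.1⟩, hPQ, fun hπP => ?_⟩
    obtain ⟨g, hgP, hg⟩ : ∃ g : B, g ∉ P ∧ IsNilpotent (g * π') := by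
      haveI := hP.1.1
      by_contra hcon
      let M := P.primeCompl ⊔ Submonoid.powers π'
      have h0 : Disjoint ((⊥ : Ideal B) : Set B) (M : Set B) := by
        rw [Set.disjoint_left]
        intro x hx hxM
        obtain ⟨g, hg, _, ⟨n, rfl⟩, hgx⟩ := Submonoid.mem_sup.1 hxM
        refine hcon ⟨g, hg, n + 1, ?_⟩
        rw [Ideal.mem_bot.1 hx] at hgx
        rw [mul_pow, pow_succ g, pow_succ π', show g ^ n * g * (π' ^ n * π') = g ^ n * π' * (g * π' ^ n) by ring, hgx,
          mul_zero]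
      obtain ⟨q, hq, -, hdis⟩ := Ideal.exists_le_prime_disjoint (⊥ : Ideal B) M h0
      have hqP : q ≤ P := fun y hy => by_contra fun hyP =>
        Set.disjoint_left.1 hdis hy (Submonoid.mem_sup_left hyP)
      exact Set.disjoint_left.1 hdis (hP.2 ⟨hq, bot_le⟩ hqP hπP) (Submonoid.mem_sup_right ⟨1, pow_one _⟩)
    obtain ⟨o, ⟨q, hq, rfl⟩, ho⟩ := hdense (j '' (PrimeSpectrum.basicOpen g : Set (PrimeSpectrum B)))
      (j.isOpenEmbedding.isOpenMap _ (PrimeSpectrum.basicOpen g).2) ⟨_, ⟨⟨P, hP.1.1⟩, hgP, rfl⟩⟩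
    exact ((q : PrimeSpectrum B).2.mem_or_mem (nilradical_le_prime (q : PrimeSpectrum B).asIdeal (mem_nilradical.2 hg))).elim hq ((hfj q).2 ho)
  obtain ⟨c, hc, hmem⟩ := exists_lift_idempotent (U := j ⁻¹' u) hgen (by
    constructor
    · rw [← isOpen_compl_iff]
      have h : (PrimeSpectrum.comap (algebraMap B (Localization.Away π')) ⁻¹' (j ⁻¹' u))ᶜ =
          PrimeSpectrum.comap (algebraMap B (Localization.Away π')) ⁻¹' (j ⁻¹' v) := by
        ext q
        have hqS : j (PrimeSpectrum.comap (algebraMap B (Localization.Away π')) q) ∈ S :=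
          (hfj _).1 ((PrimeSpectrum.localization_away_comap_range (Localization.Away π') π').le ⟨q, rfl⟩)
        exact ⟨fun h => (huv hqS).resolve_left h, fun hqv hqu => hdisj.le ⟨hqS, hqu, hqv⟩⟩
      rw [h]
      exact (hv.preimage j.continuous).preimage (PrimeSpectrum.continuous_comap (algebraMap B (Localization.Away π')))
    · exact (hu.preimage j.continuous).preimage (PrimeSpectrum.continuous_comap (algebraMap B (Localization.Away π'))))
  by_cases hcw : c ∈ (w : PrimeSpectrum B).asIdeal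
  · have h1c : (1 - c) ∉ (w : PrimeSpectrum B).asIdeal := fun h =>
      (w : PrimeSpectrum B).2.ne_top ((Ideal.eq_top_iff_one _).2 (by simpa using Ideal.add_mem _ h hcw))
    obtain ⟨_, ⟨q, hq, rfl⟩, hqu, hqS⟩ := mem_closure_iff.1 hxu _
      (j.isOpenEmbedding.isOpenMap _ (PrimeSpectrum.basicOpen (1 - c)).2) ⟨w, h1c, rfl⟩
    refine (hmem q ((hfj q).2 hqS)).1 hqu ?_
    have h2 : c * (1 - c) ∈ (q : PrimeSpectrum B).asIdeal := by
      rw [show c * (1 - c) = -(c * c - c) by ring]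
      exact neg_mem (nilradical_le_prime (q : PrimeSpectrum B).asIdeal hc)
    exact ((q : PrimeSpectrum B).2.mem_or_mem h2).resolve_right hq
  · obtain ⟨_, ⟨q, hq, rfl⟩, hqv, hqS⟩ := mem_closure_iff.1 hxv _
      (j.isOpenEmbedding.isOpenMap _ (PrimeSpectrum.basicOpen c).2) ⟨w, hcw, rfl⟩
    exact hdisj.le ⟨hqS, (hmem q ((hfj q).2 hqS)).2 hq, hqv⟩


open AlgebraicGeometry CategoryTheory Limits in
/-- For a flat morphism from a connected scheme to the spectrum of a discrete valuation ring with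
reduced closed fibre, the generic fibre is connected. -/
theorem result {R : Type u} [CommRing R] [IsDomain R] [IsDiscreteValuationRing R] {X : Scheme.{u}}
    (f : X ⟶ Spec (CommRingCat.of R)) [Flat f] [ConnectedSpace ↑X]
    (hred : IsReduced (f.fiber (IsLocalRing.closedPoint R))) :
    ConnectedSpace ↑(f.fiber (⟨⊥, Ideal.isPrime_bot⟩ : PrimeSpectrum R)) := by
  haveI := preconnectedSpace_generic_flat f (IsLocalRing.closedPoint R) (⟨⊥, Ideal.isPrime_bot⟩ : PrimeSpectrum R)
    (IsLocalRing.isClosed_singleton_closedPoint R)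
    (fun z => (PrimeSpectrum.le_iff_specializes ⟨⊥, Ideal.isPrime_bot⟩ z).1 bot_le) hred
  obtain ⟨x⟩ : Nonempty X := inferInstance
  obtain ⟨x', -, hx'⟩ := Flat.generalizingMap f
    ((PrimeSpectrum.le_iff_specializes (⟨⊥, Ideal.isPrime_bot⟩ : PrimeSpectrum R) (f x)).1 bot_le)
  exact { toNonempty := ⟨(Scheme.Hom.fiberHomeo f _).symm ⟨x', hx'⟩⟩ }

end Groth.Agent.S0421
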