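import Groth.Statements.S0423
import Groth.Agent.Lib.WEtaleH7.Field
import Mathlib.AlgebraicGeometry.Morphisms.WeaklyEtale
import Mathlib.AlgebraicGeometry.Morphisms.FormallyUnramified

set_option autoImplicit false
universe u
open FlatMor

namespace Groth.Agent.S0423

open AlgebraicGeometry CategoryTheory Limits in
/-- A weakly étale morphism of schemes (flat with flat diagonal) is formally unramified. -/
theorem result {X Y : Scheme.{u}} (f : X ⟶ Y) [WeaklyEtale f] : FormallyUnramified f := by
  rw [HasRingHomProperty.iff_appLE (P := @FormallyUnramified)]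
  intro U V e
  have : IsOpenImmersion U.2.fromSpec := U.2.isOpenImmersion_fromSpec
  have hw : WeaklyEtale (Spec.map (f.appLE U.1 V.1 e)) := by
    have h1 : WeaklyEtale (V.2.isoSpec.inv ≫ f.resLE U.1 V.1 e ≫ U.2.isoSpec.hom) :=
      (MorphismProperty.cancel_left_of_respectsIso @WeaklyEtale _ _).2
        ((MorphismProperty.cancel_right_of_respectsIso @WeaklyEtale _ _).2 inferInstance)
    convert h1 using 1
    rw [← cancel_mono U.2.fromSpec, IsAffineOpen.SpecMap_appLE_fromSpec f U.2 V.2 e]
    simp only [IsAffineOpen.fromSpec, Category.assoc, Iso.hom_inv_id_assoc, Scheme.Hom.resLE_comp_ι]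
  algebraize [(f.appLE U.1 V.1 e).hom]
  change WeaklyEtale (Spec.map (CommRingCat.ofHom (algebraMap Γ(Y, U.1) Γ(X, V.1)))) at hw
  have hd := hw.flat_diagonal
  rw [diagonal_SpecMap] at hd
  have hd2 := MorphismProperty.comp_mem @Flat _ (pullbackSpecIso Γ(Y, U.1) Γ(X, V.1) Γ(X, V.1)).hom
    hd inferInstance
  rw [Category.assoc, Iso.inv_hom_id, Category.comp_id, Flat.SpecMap_iff] at hd2
  have hf := hw.flat
  rw [Flat.SpecMap_iff] at hf
  have : Module.Flat Γ(Y, U.1) Γ(X, V.1) := RingHom.flat_algebraMap_iff.1 hf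
  have : Algebra.WeaklyEtale Γ(Y, U.1) Γ(X, V.1) := { flat_lmul' := hd2 }
  exact Groth.Agent.WEtaleH7.formallyUnramified_of_weaklyEtale

end Groth.Agent.S0423
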