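import Groth.Statements.S0425
import Mathlib.AlgebraicGeometry.Morphisms.FlatMono
import Mathlib.AlgebraicGeometry.Morphisms.UniversallyInjective
import Mathlib.AlgebraicGeometry.Morphisms.UniversallyClosed
import Mathlib.AlgebraicGeometry.Morphisms.WeaklyEtale
import Mathlib.AlgebraicGeometry.Morphisms.Separated

set_option autoImplicit false
universe u
open FlatMor

set_option backward.isDefEq.respectTransparency.types false

namespace Groth.Agent.S0425

open AlgebraicGeometry CategoryTheory Limits in
/-- A weakly étale universal homeomorphism is an isomorphism. -/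
theorem result {X Y : Scheme.{u}} (f : X ⟶ Y) [WeaklyEtale f] (h : FlatMor.IsUnivHomeo f) : IsIso f := by
  have huc : UniversallyClosed f := ⟨fun _ _ _ _ f' H => (h _ _ f' H).isClosedMap⟩
  have hui : UniversallyInjective f := ⟨fun _ _ _ _ f' H => (h _ _ f' H).injective⟩
  haveI : Surjective f := ⟨(h _ _ f (IsPullback.of_vert_isIso ⟨by simp⟩ : IsPullback f (𝟙 X) (𝟙 Y) f)).surjective⟩
  haveI : Surjective (pullback.diagonal f) := (UniversallyInjective.iff_diagonal f).1 hui
  haveI : IsClosedImmersion (pullback.diagonal f) := by
    refine IsClosedImmersion.of_isPreimmersion _ ?_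
    rw [Set.range_eq_univ.2 (pullback.diagonal f).surjective]
    exact isClosed_univ
  haveI : IsIso (pullback.diagonal f) := Flat.isIso_of_surjective_of_mono _
  haveI : Mono f := (pullback.isIso_diagonal_iff f).1 inferInstance
  haveI : QuasiCompact f := inferInstance
  exact Flat.isIso_of_surjective_of_mono f

end Groth.Agent.S0425
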