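import Groth.Statements.S0429
import Groth.Agent.Lib.Dev4.WeakAssFT

set_option autoImplicit false
universe u
open FlatMor

set_option backward.isDefEq.respectTransparency.types false

namespace Groth.Agent.S0429

open AlgebraicGeometry CategoryTheory Limits in
/-- A flat morphism locally of finite type to an integral scheme is locally of finite presentation. -/
theorem result {X S : Scheme.{u}} (f : X ⟶ S) [IsIntegral S] [Flat f] [LocallyOfFiniteType f] : LocallyOfFinitePresentation f := by
  refine (HasRingHomProperty.iff_appLE (P := @LocallyOfFinitePresentation)).2 fun U V e => ?_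
  have hfl : (f.appLE U V e).hom.Flat := Flat.flat_appLE f U.2 V.2 e
  have hft : (f.appLE U V e).hom.FiniteType := HasRingHomProperty.appLE (P := @LocallyOfFiniteType) f inferInstance U V e
  have hR : (FlatCA.weakAss Γ(S, U.1) Γ(S, U.1)).Finite := by
    by_cases hU : Nonempty U.1
    · exact Dev4.weakAss_finite_of_isDomain _
    · have hbot : U.1 = ⊥ := by
        ext x
        exact ⟨fun hx => (hU ⟨⟨x, hx⟩⟩).elim, fun hx => hx.elim⟩
      haveI : Subsingleton Γ(S, U.1) := by rw [hbot]; infer_instance
      refine Set.finite_empty.subset fun p hp => ?_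
      obtain ⟨m, hm⟩ := hp
      exact hm.1.1.ne_top (Subsingleton.elim _ _)
  algebraize [(f.appLE U V e).hom]
  exact Dev4.algebra_finitePresentation_of_flat hR

end Groth.Agent.S0429
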