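import Groth.Statements.S0432
import Groth.Agent.Lib.Pinch4.Props

set_option autoImplicit false
universe u
open FlatMor

set_option backward.isDefEq.respectTransparency.types false

namespace Groth.Agent.S0432

open AlgebraicGeometry CategoryTheory Limits in
/-- The pushout of two closed immersions Z → X and Z → Y exists in schemes, both maps into it are closed
immersions and the square is cartesian. -/
theorem result {X Y Z : Scheme.{u}} (i : Z ⟶ X) (j : Z ⟶ Y) [IsClosedImmersion i] [IsClosedImmersion j] :
    ∃ (P : Scheme.{u}) (a : X ⟶ P) (b : Y ⟶ P), IsPushout i j a b ∧ IsPullback i j a b ∧ IsClosedImmersion a ∧ IsClosedImmersion b := by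
  obtain ⟨P, a, b, H⟩ := Pinch4.exists_isPinch (Pinch4.cond_of_closed (i := i) (j := j))
  obtain ⟨P', a', b', H'⟩ := Pinch4.exists_isPinch (Pinch4.cond_of_closed (i := j) (j := i))
  have H'' := Pinch4.isPinch_of_isPushout H' H.isPushout.flip
  exact ⟨P, a, b, H.isPushout, H.isPullback, H''.isClosedImmersion_b, H.isClosedImmersion_b⟩

end Groth.Agent.S0432
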