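import Mathlib.AlgebraicGeometry.Geometrically.Reduced
import Mathlib.AlgebraicGeometry.Fiber
import Mathlib.AlgebraicGeometry.Morphisms.FiniteType
import Mathlib.AlgebraicGeometry.Morphisms.Flat
import Mathlib.AlgebraicGeometry.Morphisms.Proper
import Mathlib.AlgebraicGeometry.Morphisms.FinitePresentation
import Groth.Agent.Lib.Stein6.Spread

set_option autoImplicit false
universe u
namespace FlatMor
end FlatMor
open FlatMor

namespace Groth.Agent.S0435

open AlgebraicGeometry CategoryTheory Limits in
/-- For a flat proper morphism of finite presentation, the points of the target whose fibre is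
geometrically reduced form an open subset. -/
theorem result {X Y : Scheme.{u}} (f : X ⟶ Y) [Flat f] [IsProper f] [LocallyOfFinitePresentation f] :
    IsOpen {y : ↑Y | GeometricallyReduced (f.fiberToSpecResidueField y)} := by
  have hG : IsOpen {y : Y | ∀ z : f.fiber y, FBase.IsGeomReducedAt (f.fiberToSpecResidueField y) z} :=
    FibDepth5.isOpen_forall_fiber f (fun y z => FBase.IsGeomReducedAt (f.fiberToSpecResidueField y) z)
      (by
        convert FibDepth5.isOpen_flat_geomReduced f using 1
        exact Set.ext fun x => ⟨fun h => ⟨Flat.stalkMap f x, h⟩, fun h => h.2⟩)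
  refine (congrArg IsOpen (Set.ext fun y => ?_)).mp hG
  exact (ZConn5.geometricallyReduced_iff_forall (k := Y.residueField y) (f.fiberToSpecResidueField y)).symm

end Groth.Agent.S0435
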