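import Groth.Statements.S0436
import Groth.Agent.Lib.DvrConn4
import Groth.Agent.Lib.EGA43Top.FibreStalk
import Groth.Agent.Lib.ModM1.Ann
import Mathlib.RingTheory.Filtration
import Mathlib.RingTheory.LocalProperties.Reduced

set_option autoImplicit false
universe u
open FlatMor

set_option backward.isDefEq.respectTransparency.types false

namespace Groth.Agent.S0436



theorem isReduced_local {S : Type*} [CommRing S] [IsLocalRing S] [IsNoetherianRing S] (t : S)
    (ht : t ∈ IsLocalRing.maximalIdeal S) (hnzd : ∀ a, t * a = 0 → a = 0)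
    [_root_.IsReduced (S ⧸ Ideal.span {t})] : _root_.IsReduced S := by
  refine ⟨fun a ha => ?_⟩
  have hk : ∀ n : ℕ, ∀ a : S, IsNilpotent a → a ∈ Ideal.span {t} ^ n := by
    intro n
    induction n with
    | zero => intro a _; rw [pow_zero, Ideal.one_eq_top]; trivial
    | succ n ih =>
      intro a ha
      have h1 : Ideal.Quotient.mk (Ideal.span {t}) a = 0 := IsNilpotent.eq_zero (ha.map _)
      obtain ⟨b, rfl⟩ := Ideal.mem_span_singleton.1 (Ideal.Quotient.eq_zero_iff_mem.1 h1)
      obtain ⟨k, hk⟩ := ha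
      have hb : IsNilpotent b := by
        refine ⟨k, ?_⟩
        rw [mul_pow] at hk
        have hp : ∀ k : ℕ, ∀ c, t ^ k * c = 0 → c = 0 := fun k => by
          induction k with
          | zero => simp
          | succ k ihk => exact fun c hc => ihk c (hnzd _ (by rw [← mul_assoc, ← pow_succ']; exact hc))
        exact hp k _ hk
      rw [pow_succ']
      exact Ideal.mul_mem_mul (Ideal.mem_span_singleton_self t) (ih b hb)
  have : a ∈ ⨅ n : ℕ, Ideal.span {t} ^ n := Ideal.mem_iInf.2 fun n => hk n a ha
  rwa [Ideal.iInf_pow_eq_bot_of_isLocalRing _ (by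
    rw [Ne, Ideal.span_singleton_eq_top]
    exact ht)] at this

open AlgebraicGeometry CategoryTheory Limits in
/-- For a proper flat morphism to the spectrum of a discrete valuation ring whose special fibre is
reduced, both the total space and the generic fibre are reduced. (The published statement is
stronger: instead of flatness it only needs every irreducible component of the total space to
dominate the base.) -/
theorem result {R : Type u} [CommRing R] [IsDomain R] [IsDiscreteValuationRing R] {X : Scheme.{u}}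
    (f : X ⟶ Spec (CommRingCat.of R)) [IsProper f] [Flat f]
    (hred : IsReduced (f.fiber (IsLocalRing.closedPoint R))) :
    IsReduced X ∧ IsReduced (f.fiber (⟨⊥, Ideal.isPrime_bot⟩ : PrimeSpectrum R)) := by
  haveI : IsLocallyNoetherian X := LocallyOfFiniteType.isLocallyNoetherian f
  obtain ⟨π, hπ⟩ := IsDiscreteValuationRing.exists_irreducible R
  haveI : (IsLocalRing.closedPoint R).asIdeal.IsMaximal := IsLocalRing.maximalIdeal.isMaximal R
  have hX : IsReduced X := by
    haveI : ∀ x : X, _root_.IsReduced (X.presheaf.stalk x) := by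
      intro x
      obtain ⟨_, ⟨y, hy, rfl⟩, hy0⟩ : ((f '' closure {x}) ∩ {IsLocalRing.closedPoint R}).Nonempty := by
        refine ⟨_, ?_, rfl⟩
        exact (IsLocalRing.specializes_closedPoint (f x)).mem_closed (f.isClosedMap _ isClosed_closure)
          ⟨x, subset_closure rfl, rfl⟩
      have hxy : x ⤳ y := specializes_iff_mem_closure.2 hy
      obtain ⟨W, hW, hyW, -⟩ := exists_isAffineOpen_mem_and_subset (X := X) (x := y) (U := ⊤) trivial
      obtain ⟨φ, hφ⟩ := Spec.map_surjective (hW.fromSpec ≫ f)
      letI : Algebra R Γ(X, W) := φ.hom.toAlgebra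
      haveI : _root_.IsReduced ((IsLocalRing.closedPoint R).asIdeal.Fiber Γ(X, W)) :=
        Groth.Agent.FibRing4.isReduced_fiberRing (A := R) (B := Γ(X, W)) f hW.fromSpec (𝟙 _)
          (by rw [Category.comp_id]; exact hφ.symm) (IsLocalRing.closedPoint R) hred
      have hB : _root_.IsReduced (Γ(X, W) ⧸ Ideal.span {φ.hom π}) := by
        have h := Groth.Agent.DvrConn4.isReduced_quotient_of_fiber (A := R) (B := Γ(X, W)) (IsLocalRing.closedPoint R)
        rw [show (IsLocalRing.closedPoint R).asIdeal = IsLocalRing.maximalIdeal R from rfl, hπ.maximalIdeal_eq,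
          Ideal.map_span, Set.image_singleton] at h
        exact h
      have hflat : Flat (Spec.map φ) := by rw [hφ]; infer_instance
      have hfl : φ.hom.Flat := (HasRingHomProperty.Spec_iff (P := @Flat)).1 hflat
      letI : Algebra Γ(X, W) (X.presheaf.stalk y) := X.presheaf.algebra_section_stalk ⟨y, hyW⟩
      haveI := hW.isLocalization_stalk ⟨y, hyW⟩
      let t : X.presheaf.stalk y := algebraMap Γ(X, W) _ (φ.hom π)
      have hπP : φ.hom π ∈ (hW.primeIdealOf ⟨y, hyW⟩).asIdeal := by
        have h1 : (Spec.map φ) (hW.primeIdealOf ⟨y, hyW⟩) = IsLocalRing.closedPoint R := by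
          rw [hφ, Scheme.Hom.comp_apply, hW.fromSpec_primeIdealOf]; exact hy0
        have h2 : (IsLocalRing.closedPoint R).asIdeal =
            Ideal.comap φ.hom (hW.primeIdealOf ⟨y, hyW⟩).asIdeal := (congrArg PrimeSpectrum.asIdeal h1).symm
        exact h2.le (hπ.maximalIdeal_eq ▸ Ideal.mem_span_singleton_self π : π ∈ IsLocalRing.maximalIdeal R)
      haveI : _root_.IsReduced (X.presheaf.stalk y ⧸ Ideal.span {t}) := by
        refine ⟨fun z hz => ?_⟩
        obtain ⟨z, rfl⟩ := Ideal.Quotient.mk_surjective z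
        obtain ⟨n, hn⟩ := hz
        obtain ⟨⟨a, s⟩, has⟩ := IsLocalization.surj (hW.primeIdealOf ⟨y, hyW⟩).asIdeal.primeCompl z
        rw [Ideal.Quotient.eq_zero_iff_mem]
        rw [← map_pow, Ideal.Quotient.eq_zero_iff_mem, Ideal.mem_span_singleton] at hn
        obtain ⟨w, hw⟩ := hn
        obtain ⟨⟨c, u⟩, hcu⟩ := IsLocalization.surj (hW.primeIdealOf ⟨y, hyW⟩).asIdeal.primeCompl w
        have h1 : algebraMap Γ(X, W) (X.presheaf.stalk y) (a ^ n * u) = algebraMap _ _ (φ.hom π * c * (s : Γ(X, W)) ^ n) := by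
          simp only [map_mul, map_pow, ← has, ← hcu, mul_pow, hw, t]
          ring
        obtain ⟨v, hv⟩ := (IsLocalization.eq_iff_exists (hW.primeIdealOf ⟨y, hyW⟩).asIdeal.primeCompl _).1 h1
        have h2 : IsNilpotent (Ideal.Quotient.mk (Ideal.span {φ.hom π}) (a * u * v)) := by
          refine ⟨n + 1, ?_⟩
          rw [← map_pow, Ideal.Quotient.eq_zero_iff_mem]
          have : (a * u * v : Γ(X, W)) ^ (n + 1) = φ.hom π * c * (s : Γ(X, W)) ^ n * v * (a * (u : Γ(X, W)) ^ n * (v : Γ(X, W)) ^ n) := by
            have e : (a * u * v : Γ(X, W)) ^ (n + 1) = (v : Γ(X, W)) * (a ^ n * u) * (a * (u : Γ(X, W)) ^ n * (v : Γ(X, W)) ^ n) := by ring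
            rw [e, hv]; ring
          rw [this]
          exact Ideal.mul_mem_right _ _ (Ideal.mul_mem_right _ _ (Ideal.mul_mem_right _ _
            (Ideal.mul_mem_right _ _ (Ideal.mem_span_singleton_self _))))
        have h3 : a * u * v ∈ Ideal.span {φ.hom π} := Ideal.Quotient.eq_zero_iff_mem.1 h2.eq_zero
        have h4 := Ideal.mem_map_of_mem (algebraMap Γ(X, W) (X.presheaf.stalk y)) h3
        rw [Ideal.map_span, Set.image_singleton, map_mul, map_mul, ← has] at h4
        have hu := IsLocalization.map_units (X.presheaf.stalk y) u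
        have hv' := IsLocalization.map_units (X.presheaf.stalk y) v
        have hs' := IsLocalization.map_units (X.presheaf.stalk y) s
        exact (Ideal.mul_unit_mem_iff_mem _ hs').1 ((Ideal.mul_unit_mem_iff_mem _ hu).1 ((Ideal.mul_unit_mem_iff_mem _ hv').1 h4))
      have hty : _root_.IsReduced (X.presheaf.stalk y) := by
        refine isReduced_local t ?_ fun a ha => ?_
        · have := (IsLocalization.AtPrime.to_map_mem_maximal_iff (X.presheaf.stalk y) (hW.primeIdealOf ⟨y, hyW⟩).asIdeal (φ.hom π)).2 hπP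
          exact this
        · obtain ⟨⟨b, s⟩, hb⟩ := IsLocalization.surj (hW.primeIdealOf ⟨y, hyW⟩).asIdeal.primeCompl a
          have h1 : algebraMap Γ(X, W) (X.presheaf.stalk y) (φ.hom π * b) = 0 := by
            rw [map_mul, ← hb, ← mul_assoc]
            rw [show algebraMap Γ(X, W) (X.presheaf.stalk y) (φ.hom π) * a = 0 from ha, zero_mul]
          obtain ⟨v, hv⟩ := (IsLocalization.map_eq_zero_iff (hW.primeIdealOf ⟨y, hyW⟩).asIdeal.primeCompl _ _).1 h1
          haveI : Module.Flat R Γ(X, W) := hfl
          have h2 : (v : Γ(X, W)) * b = 0 := by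
            have hr : IsSMulRegular Γ(X, W) π := (IsSMulRegular.of_ne_zero hπ.ne_zero).of_flat
            refine hr.right_eq_zero_of_smul ?_
            rw [Algebra.smul_def, ← hv]
            show φ.hom π * ((v : Γ(X, W)) * b) = _
            ring
          have h3 : algebraMap Γ(X, W) (X.presheaf.stalk y) b = 0 :=
            (IsLocalization.map_eq_zero_iff (hW.primeIdealOf ⟨y, hyW⟩).asIdeal.primeCompl _ _).2 ⟨v, h2⟩
          rw [← hb] at h3
          exact (IsLocalization.map_units (X.presheaf.stalk y) s).mul_left_eq_zero.1 h3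
      have hxW : x ∈ W := hxy.mem_open W.2 hyW
      letI : Algebra Γ(X, W) (X.presheaf.stalk x) := X.presheaf.algebra_section_stalk ⟨x, hxW⟩
      haveI := hW.isLocalization_stalk ⟨x, hxW⟩
      letI := (X.presheaf.stalkSpecializes hxy).hom.toAlgebra
      haveI : IsScalarTower Γ(X, W) (X.presheaf.stalk y) (X.presheaf.stalk x) :=
        IsScalarTower.of_algebraMap_eq fun r => (TopCat.Presheaf.germ_stalkSpecializes_apply X.presheaf hyW hxy r).symm
      have hle : (hW.primeIdealOf ⟨y, hyW⟩).asIdeal.primeCompl ≤ (hW.primeIdealOf ⟨x, hxW⟩).asIdeal.primeCompl := by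
        intro r hr
        rw [← Groth.Agent.M1.isUnit_germ_iff hW hxW]
        rw [← Groth.Agent.M1.isUnit_germ_iff hW hyW] at hr
        rw [← TopCat.Presheaf.germ_stalkSpecializes_apply X.presheaf hyW hxy r]
        exact hr.map _
      haveI := IsLocalization.isLocalization_of_submonoid_le (X.presheaf.stalk y) (X.presheaf.stalk x)
        (hW.primeIdealOf ⟨y, hyW⟩).asIdeal.primeCompl (hW.primeIdealOf ⟨x, hxW⟩).asIdeal.primeCompl hle
      exact isReduced_localizationPreserves (Submonoid.map (algebraMap Γ(X, W) (X.presheaf.stalk y))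
        (hW.primeIdealOf ⟨x, hxW⟩).asIdeal.primeCompl) (X.presheaf.stalk x) hty
    exact isReduced_of_isReduced_stalk X
  refine ⟨hX, ?_⟩
  haveI : ∀ z : ↥(f.fiber (⟨⊥, Ideal.isPrime_bot⟩ : PrimeSpectrum R)),
      _root_.IsReduced ((f.fiber (⟨⊥, Ideal.isPrime_bot⟩ : PrimeSpectrum R)).presheaf.stalk z) := fun z => by
    obtain ⟨e, -⟩ := Groth.Agent.EGA43Top.exists_ringEquiv_fiber_stalk f _ z
    let w := f.fiberι (⟨⊥, Ideal.isPrime_bot⟩ : PrimeSpectrum R) z
    have hw : f w = (⟨⊥, Ideal.isPrime_bot⟩ : PrimeSpectrum R) := (f.range_fiberι _).le ⟨z, rfl⟩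
    have hF : IsField ((Spec (CommRingCat.of R)).presheaf.stalk (f w)) := by
      rw [hw]
      let S := (Spec.structureSheaf R).presheaf.stalk (⟨⊥, Ideal.isPrime_bot⟩ : PrimeSpectrum R)
      haveI h1 : IsLocalization.AtPrime S (⊥ : Ideal R) :=
        StructureSheaf.IsLocalization.to_stalk R (⟨⊥, Ideal.isPrime_bot⟩ : PrimeSpectrum R)
      haveI : IsFractionRing R S := by
        show IsLocalization (nonZeroDivisors R) S
        rw [← Ideal.primeCompl_bot]; exact h1
      letI := IsFractionRing.toField R (K := S)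
      exact Field.toIsField S
    haveI : _root_.IsReduced (X.presheaf.stalk w) := inferInstance
    rw [IsLocalRing.isField_iff_maximalIdeal_eq] at hF
    let q := (RingEquiv.quotientBot (X.presheaf.stalk w)).symm.trans
      ((Ideal.quotEquivOfEq (by rw [hF, Ideal.map_bot])).trans e)
    exact isReduced_of_injective q.symm.toRingHom q.symm.injective
  exact isReduced_of_isReduced_stalk _

end Groth.Agent.S0436
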