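import Groth.Statements.S0438
import Groth.Agent.Lib.RedValRing4.Scheme
-- import your own Groth.Agent.* helpers here

set_option autoImplicit false
universe u
open FlatMor

namespace Groth.Agent.S0438

open AlgebraicGeometry CategoryTheory Limits in
/-- For a proper flat morphism to the spectrum of a valuation ring whose special fibre is reduced, the
total space and every fibre are reduced. -/
theorem result {R : Type u} [CommRing R] [IsDomain R] [ValuationRing R] {X : Scheme.{u}}
    (f : X ⟶ Spec (CommRingCat.of R)) [IsProper f] [Flat f]
    (hred : IsReduced (f.fiber (IsLocalRing.closedPoint R))) :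
    IsReduced X ∧ ∀ s : ↑(Spec (CommRingCat.of R)), IsReduced (f.fiber s) := by
  refine ⟨?_, fun s => ?_⟩
  · haveI : ∀ x : X, _root_.IsReduced (X.presheaf.stalk x) := fun x => (Groth.Agent.RedValRing4.isReduced_stalks f hred x).1
    exact isReduced_of_isReduced_stalk X
  · haveI : ∀ z : f.fiber s, _root_.IsReduced ((f.fiber s).presheaf.stalk z) := fun z => by
      have hs : f (f.fiberι s z) = s := (f.range_fiberι s).le ⟨z, rfl⟩
      have key : ∀ (t : ↑(Spec (CommRingCat.of R))), f (f.fiberι s z) = t → ∀ w : f.fiber t,
          f.fiberι t w = f.fiberι s z → _root_.IsReduced ((f.fiber t).presheaf.stalk w) := by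
        intro t ht w hw
        subst ht
        have hw' : w = f.asFiber (f.fiberι s z) := (f.fiberι _).isEmbedding.injective (by
          rw [hw, f.fiberι_asFiber])
        subst hw'
        exact (Groth.Agent.RedValRing4.isReduced_stalks f hred _).2
      exact key s hs z rfl
    exact isReduced_of_isReduced_stalk (f.fiber s)

end Groth.Agent.S0438
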