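import Groth.Statements.S0439
import Groth.Agent.Lib.QFDense4Scheme

set_option autoImplicit false
universe u
open FlatMor

set_option backward.isDefEq.respectTransparency.types false

namespace Groth.Agent.S0439

open AlgebraicGeometry CategoryTheory Limits in
/-- A quasi-finite morphism (locally of finite type, quasi-compact, with discrete fibres) maps closed
nowhere dense subsets to nowhere dense subsets. -/
theorem result {Y X : Scheme.{u}} (f : Y ⟶ X) [LocallyQuasiFinite f] [LocallyOfFiniteType f] [QuasiCompact f]
    (T : Set ↑Y) (hT : IsClosed T) (hT' : IsNowhereDense T) : IsNowhereDense (f '' T) := by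
  rw [IsNowhereDense, Set.eq_empty_iff_forall_notMem]
  intro x hx
  obtain ⟨V, hV, ⟨y, hy⟩, hd⟩ := Groth.Agent.QFDense4.exists_disjoint_image f hT hT'
    ⟨interior (closure (f '' T)), isOpen_interior⟩ ⟨x, hx⟩
  obtain ⟨z, hzV, hz⟩ := mem_closure_iff.1 (interior_subset (hV hy)) V V.isOpen hy
  exact Set.disjoint_left.1 hd hzV hz

end Groth.Agent.S0439
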