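import Groth.Statements.S7625
import Groth.Agent.Lib.QfChart18.Basic
import Groth.Agent.Lib.BiratPt18.Global
import Mathlib.AlgebraicGeometry.AffineSpace

set_option autoImplicit false
universe u
open CategoryTheory CategoryTheory.Limits AlgebraicGeometry
open Variety

namespace Groth.Agent.S7625

/-- Let f : X → S be locally of finite type, x a point of X with image s, V an affine open neighbourhood
of s in S, and suppose dim_x(X_s) = d. Then there is an affine open neighbourhood U of x with f(U) ⊆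
V and a factorisation of f|_U as U → 𝔸^d_V → V with U → 𝔸^d_V locally quasi-finite and locally of
finite type (hence quasi-finite, U being affine). -/
theorem result {X S : Scheme.{u}} (f : X ⟶ S) [LocallyOfFiniteType f] (x : ↥X)
    (V : S.Opens) (hV : IsAffineOpen V) (hxV : f x ∈ V) (d : ℕ) (hd : FlatMor.fibreDimAt f x = d) :
    ∃ (U : X.Opens), IsAffineOpen U ∧ x ∈ U ∧
      ∃ (g : (U : Scheme.{u}) ⟶ (V : Scheme.{u})) (π : (U : Scheme.{u}) ⟶ 𝔸(ULift.{u} (Fin d); (V : Scheme.{u}))),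
        g ≫ V.ι = U.ι ≫ f ∧ π ≫ (𝔸(ULift.{u} (Fin d); (V : Scheme.{u})) ↘ (V : Scheme.{u})) = g ∧
          LocallyQuasiFinite π ∧ LocallyOfFiniteType π := by
  -- an open of `X` on which the fibre of `x` has dimension at most `d`
  obtain ⟨O, hxO, hO⟩ : ∃ O : X.Opens, x ∈ O ∧
      topologicalKrullDim ((O : Set X) ∩ f ⁻¹' {f x} : Set X) ≤ (d : WithBot ℕ∞) := by
    rw [Groth.Agent.FibDim14.fibreDimAt_eq_localDim_preimage, FlatMor.localDim] at hd
    obtain ⟨W, hW⟩ : ∃ W : {W : TopologicalSpace.Opens (f ⁻¹' {f x} : Set X) //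
        (⟨x, rfl⟩ : (f ⁻¹' {f x} : Set X)) ∈ W}, topologicalKrullDim (W.1 : Set (f ⁻¹' {f x} : Set X)) ≤ (d : WithBot ℕ∞) := by
      haveI : Nonempty {W : TopologicalSpace.Opens (f ⁻¹' {f x} : Set X) //
          (⟨x, rfl⟩ : (f ⁻¹' {f x} : Set X)) ∈ W} := ⟨⟨⊤, trivial⟩⟩
      obtain ⟨W, hW⟩ := ciInf_mem (fun W : {W : TopologicalSpace.Opens (f ⁻¹' {f x} : Set X) //
        (⟨x, rfl⟩ : (f ⁻¹' {f x} : Set X)) ∈ W} => topologicalKrullDim (W.1 : Set (f ⁻¹' {f x} : Set X)))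
      exact ⟨W, (hW.trans hd).le⟩
    obtain ⟨⟨W, hxW⟩, hW⟩ := W, hW
    obtain ⟨t, ht, e⟩ := isOpen_induced_iff.1 W.2
    refine ⟨⟨t, ht⟩, (Set.ext_iff.1 e ⟨x, rfl⟩).2 hxW, le_trans ?_ hW⟩
    let j : ↥(((⟨t, ht⟩ : X.Opens) : Set X) ∩ f ⁻¹' {f x}) → ↥(W : Set (f ⁻¹' {f x} : Set X)) := fun z =>
      ⟨⟨z.1, z.2.2⟩, (Set.ext_iff.1 e ⟨z.1, z.2.2⟩).1 z.2.1⟩
    have hj : Topology.IsInducing j := by
      refine Topology.IsInducing.of_comp (g := fun w => (w.1.1 : X)) ?_ ?_ Topology.IsInducing.subtypeVal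
      · exact ((continuous_subtype_val).subtype_mk _).subtype_mk _
      · exact continuous_subtype_val.comp continuous_subtype_val
    exact hj.topologicalKrullDim_le
  obtain ⟨U₀, hU₀, hxU₀, hU₀O⟩ := exists_isAffineOpen_mem_and_subset (x := x) (U := O ⊓ f ⁻¹ᵁ V) ⟨hxO, hxV⟩
  have hUV : U₀ ≤ f ⁻¹ᵁ V := fun z hz => (hU₀O hz).2
  let φ := f.appLE V U₀ hUV
  have hcomp : hU₀.fromSpec ≫ f = Spec.map φ ≫ hV.fromSpec :=
    (IsAffineOpen.SpecMap_appLE_fromSpec f hV hU₀ hUV).symm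
  have hφ : φ.hom.FiniteType := f.finiteType_appLE hV hU₀ hUV
  haveI : LocallyOfFiniteType (Spec.map φ) :=
    (HasRingHomProperty.Spec_iff (P := @LocallyOfFiniteType)).2 hφ
  let P := hU₀.primeIdealOf ⟨x, hxU₀⟩
  have hP : hU₀.fromSpec P = x := hU₀.fromSpec_primeIdealOf ⟨x, hxU₀⟩
  have hdP : FlatMor.fibreDimAt (Spec.map φ) P = d := by
    haveI : Etale hU₀.fromSpec := inferInstance
    rw [← Groth.Agent.FibDim14.fibreDimAt_comp_lqf (Spec.map φ) hV.fromSpec]
    simp only [← hcomp]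
    rw [Groth.Agent.FibDim14.fibreDimAt_etale_comp, hP, hd]
  have hle : topologicalKrullDim ((Spec.map φ) ⁻¹' {Spec.map φ P} : Set _) ≤ (d : WithBot ℕ∞) := by
    refine le_trans ?_ hO
    let j : ((Spec.map φ) ⁻¹' {Spec.map φ P} : Set _) → ((O : Set X) ∩ f ⁻¹' {f x} : Set X) := fun z =>
      ⟨hU₀.fromSpec z.1, (hU₀O (show hU₀.fromSpec z.1 ∈ U₀ from
          (Set.ext_iff.1 hU₀.range_fromSpec _).1 ⟨z.1, rfl⟩)).1, by
        show f (hU₀.fromSpec z.1) = f x
        rw [← Scheme.Hom.comp_apply, hcomp, Scheme.Hom.comp_apply, show Spec.map φ z.1 = Spec.map φ P from z.2,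
          ← Scheme.Hom.comp_apply, ← hcomp, Scheme.Hom.comp_apply, hP]⟩
    have hj : Topology.IsInducing j := by
      refine Topology.IsInducing.of_comp (g := Subtype.val) ?_ continuous_subtype_val
        (hU₀.fromSpec.isOpenEmbedding.isInducing.comp Topology.IsInducing.subtypeVal)
      exact (hU₀.fromSpec.continuous.comp continuous_subtype_val).subtype_mk _
    exact hj.topologicalKrullDim_le
  obtain ⟨m, ψ, hm, hψ, hC, hqf⟩ := Groth.Agent.QfChart18.exists_quasiFiniteAt_affine φ hφ P hle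
  haveI : LocallyOfFiniteType (Spec.map ψ) :=
    (HasRingHomProperty.Spec_iff (P := @LocallyOfFiniteType)).2 hψ
  have hmd : m = d := by
    refine le_antisymm hm ?_
    haveI : LocallyOfFiniteType (Spec.map (CommRingCat.ofHom (MvPolynomial.C (R := Γ(S, V)) (σ := Fin m)))) :=
      (HasRingHomProperty.Spec_iff (P := @LocallyOfFiniteType)).2
        (RingHom.finiteType_algebraMap.2 (inferInstance : Algebra.FiniteType Γ(S, V) (MvPolynomial (Fin m) Γ(S, V))))
    have h1 := Groth.Agent.FibDim14.fibreDimAt_comp_le (Spec.map ψ)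
      (Spec.map (CommRingCat.ofHom (MvPolynomial.C (R := Γ(S, V)) (σ := Fin m)))) P
    rw [(Groth.Agent.FibDim14.fibreDimAt_eq_zero_iff (Spec.map ψ) P).2 hqf, zero_add] at h1
    simp only [← Spec.map_comp, hC, hdP] at h1
    exact_mod_cast h1.trans (Groth.Agent.FibDim14.fibreDimAt_affineSpace_le m _)
  subst hmd
  -- the affine neighbourhood
  let T : X.Opens := hU₀.fromSpec ''ᵁ (Spec.map ψ).quasiFiniteLocus
  obtain ⟨U, hU, hxU, hUT⟩ := exists_isAffineOpen_mem_and_subset (x := x) (U := T) ⟨P, hqf, hP⟩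
  have hUU₀ : U ≤ U₀ := fun z hz => by
    obtain ⟨w, -, rfl⟩ := hUT hz
    exact (Set.ext_iff.1 hU₀.range_fromSpec _).1 ⟨w, rfl⟩
  let ι : (U : Scheme.{u}) ⟶ Spec Γ(X, U₀) := X.homOfLE hUU₀ ≫ hU₀.isoSpec.hom
  have hι : ι ≫ hU₀.fromSpec = U.ι := by
    simp [ι, IsAffineOpen.fromSpec, ← IsAffineOpen.isoSpec_inv_ι]
  let a : (U : Scheme.{u}) ⟶ Spec (CommRingCat.of (MvPolynomial (Fin m) Γ(S, V))) := ι ≫ Spec.map ψ
  haveI : LocallyQuasiFinite a := Groth.Agent.BiratPt18.locallyQuasiFinite_of_forall a fun z => by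
    rw [Scheme.Hom.quasiFiniteAt_comp_iff_of_isOpenImmersion]
    obtain ⟨w, hw, e⟩ := hUT z.2
    have hz : hU₀.fromSpec (ι z) = hU₀.fromSpec w := by
      rw [← Scheme.Hom.comp_apply, hι]; exact e.symm
    exact hU₀.fromSpec.isOpenEmbedding.injective hz ▸ hw
  let r : Spec (CommRingCat.of (MvPolynomial (Fin m) Γ(S, V))) ≅
      Spec (CommRingCat.of (MvPolynomial (ULift.{u} (Fin m)) Γ(S, V))) :=
    Scheme.Spec.mapIso ((MvPolynomial.renameEquiv Γ(S, V) Equiv.ulift.{u}).toRingEquiv.toCommRingCatIso).op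
  let π : (U : Scheme.{u}) ⟶ 𝔸(ULift.{u} (Fin m); (V : Scheme.{u})) :=
    a ≫ r.hom ≫ (AffineSpace.SpecIso (ULift.{u} (Fin m)) Γ(S, V)).inv ≫ AffineSpace.map _ hV.isoSpec.inv
  haveI : IsIso (AffineSpace.map (ULift.{u} (Fin m)) hV.isoSpec.inv) :=
    ⟨AffineSpace.map _ hV.isoSpec.hom, by rw [← AffineSpace.map_comp, Iso.inv_hom_id, AffineSpace.map_id],
      by rw [← AffineSpace.map_comp, Iso.hom_inv_id, AffineSpace.map_id]⟩
  refine ⟨U, hU, hxU, ι ≫ Spec.map φ ≫ hV.isoSpec.inv, π, ?_, ?_, inferInstance, inferInstance⟩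
  · simp only [← hι, ι, Category.assoc, IsAffineOpen.isoSpec_inv_ι hV, hcomp]
  · simp only [π, a, Category.assoc, AffineSpace.map_over, AffineSpace.SpecIso_inv_over_assoc]
    congr 1
    rw [← hC, Spec.map_comp, Category.assoc]
    congr 1
    rw [← Category.assoc]
    congr 1
    simp only [r, Functor.mapIso_hom, Iso.op_hom, Scheme.Spec_map, Quiver.Hom.unop_op, ← Spec.map_comp]
    congr 1
    exact CommRingCat.hom_ext (RingHom.ext fun t => MvPolynomial.rename_C _ t)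

end Groth.Agent.S7625
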