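import Groth.Statements.S0442
import Groth.Agent.S7625
import Groth.Agent.S0408
import Groth.Agent.Lib.ProjSpace.Basic

set_option autoImplicit false
universe u
open FlatMor

set_option backward.isDefEq.respectTransparency.types false

namespace Groth.Agent.S0442

open AlgebraicGeometry CategoryTheory Limits in
/-- Local structure of a morphism locally of finite type: let f : X → S be locally of finite type, x a
point of X, and n the local dimension at x of its fibre. Then there are an étale morphism g : X' → X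
with a point x' mapping to x such that the residue field map κ(x) → κ(x') is surjective (trivial
residue field extension), a morphism h : Y → S smooth of relative dimension n, and a finite morphism
π : X' → Y with f ∘ g = h ∘ π, such that x' is the only point of X' mapping to π(x'). The published
statement also makes the residue field of π(x') purely transcendental over that of the image of x in
S; that is not stated here. -/
theorem result {X S : Scheme.{u}} (f : X ⟶ S) [LocallyOfFiniteType f] (x : X) (n : ℕ) (hn : FlatMor.fibreDimAt f x = n) :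
    ∃ (X' Y : Scheme.{u}) (g : X' ⟶ X) (π : X' ⟶ Y) (h : Y ⟶ S) (x' : X'), g ≫ f = π ≫ h ∧ Etale g ∧ g x' = x ∧
      Function.Surjective (g.residueFieldMap x') ∧ IsFinite π ∧ SmoothOfRelativeDimension n h ∧
      ∀ z : ↑X', π z = π x' → z = x' := by
  classical
  obtain ⟨V, hV, hxV, -⟩ := exists_isAffineOpen_mem_and_subset (X := S) (x := f x) (U := ⊤) trivial
  obtain ⟨U, hU, hxU, g₀, π, hg₀, hπ, _, _⟩ := Groth.Agent.S7625.result f x V hV hxV n hn
  haveI : IsAffine (U : Scheme.{u}) := hU
  haveI : IsSeparated π := IsSeparated.of_comp π (𝔸(ULift.{u} (Fin n); (V : Scheme.{u})) ↘ (V : Scheme.{u}))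
  obtain ⟨Y, g, u, hg, hgu, hres, W, v, -, hfin, hvW, hvx, hvu, hres', huniq⟩ :=
    Groth.Agent.S0408.result π ⟨x, hxU⟩ (π.quasiFiniteAt ⟨x, hxU⟩)
  haveI := hg
  haveI : IsAffine (V : Scheme.{u}) := hV
  haveI hA : SmoothOfRelativeDimension n (𝔸(ULift.{u} (Fin n); (V : Scheme.{u})) ↘ (V : Scheme.{u})) := by
    have e : (𝔸(ULift.{u} (Fin n); (V : Scheme.{u})) ↘ (V : Scheme.{u})) =
        (AffineSpace.isoOfIsAffine (ULift.{u} (Fin n)) (V : Scheme.{u})).hom ≫
          Spec.map (CommRingCat.ofHom (MvPolynomial.C (R := Γ((V : Scheme.{u}), ⊤)) (σ := ULift.{u} (Fin n)))) ≫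
          (V : Scheme.{u}).isoSpec.inv := by
      rw [← Iso.inv_comp_eq, AffineSpace.isoOfIsAffine_inv, AffineSpace.homOfVector_over]
    rw [e]
    have hC : SmoothOfRelativeDimension n (Spec.map (CommRingCat.ofHom
        (MvPolynomial.C (R := Γ((V : Scheme.{u}), ⊤)) (σ := ULift.{u} (Fin n))))) := by
      refine (HasRingHomProperty.Spec_iff (P := @SmoothOfRelativeDimension n)).2 ?_
      refine RingHom.locally_of RingHom.isStandardSmoothOfRelativeDimension_respectsIso _ ?_
      show RingHom.IsStandardSmoothOfRelativeDimension n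
        (algebraMap Γ((V : Scheme.{u}), ⊤) (MvPolynomial (ULift.{u} (Fin n)) Γ((V : Scheme.{u}), ⊤)))
      rw [RingHom.isStandardSmoothOfRelativeDimension_algebraMap]
      haveI h := ProjSpace.isStandardSmoothOfRelativeDimension_mvPolynomial (R := Γ((V : Scheme.{u}), ⊤)) (σ := Fin n)
      rw [Nat.card_fin] at h
      exact Algebra.IsStandardSmoothOfRelativeDimension.of_algEquiv (n := n)
        (MvPolynomial.renameEquiv Γ((V : Scheme.{u}), ⊤) Equiv.ulift.{u}.symm)
    exact (MorphismProperty.cancel_left_of_respectsIso (P := @SmoothOfRelativeDimension n) _ _).2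
      ((MorphismProperty.cancel_right_of_respectsIso (P := @SmoothOfRelativeDimension n) _ _).2 hC)
  refine ⟨W, Y, W.ι ≫ pullback.fst π g ≫ U.ι, W.ι ≫ pullback.snd π g,
    g ≫ (𝔸(ULift.{u} (Fin n); (V : Scheme.{u})) ↘ (V : Scheme.{u})) ≫ V.ι, ⟨v, hvW⟩, ?_, inferInstance, ?_, ?_, hfin, ?_, ?_⟩
  · simp only [Category.assoc, ← hg₀, ← hπ, pullback.condition_assoc]
  · show U.ι (pullback.fst π g v) = x
    rw [hvx]; rfl
  · rw [Scheme.residueFieldMap_comp, Scheme.residueFieldMap_comp]
    have h1 : Function.Surjective (W.ι.residueFieldMap ⟨v, hvW⟩) :=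
      (ConcreteCategory.bijective_of_isIso _).2
    have h2 : Function.Surjective (U.ι.residueFieldMap (pullback.fst π g v)) :=
      (ConcreteCategory.bijective_of_isIso _).2
    intro a
    obtain ⟨b, rfl⟩ := h1 a
    obtain ⟨c, rfl⟩ := hres' b
    obtain ⟨d, rfl⟩ := h2 c
    exact ⟨d, rfl⟩
  · haveI : SmoothOfRelativeDimension 0 g := by infer_instance
    haveI : SmoothOfRelativeDimension 0 V.ι := inferInstance
    have h1 : SmoothOfRelativeDimension (n + 0) ((𝔸(ULift.{u} (Fin n); (V : Scheme.{u})) ↘ (V : Scheme.{u})) ≫ V.ι) :=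
      inferInstance
    have h2 : SmoothOfRelativeDimension (0 + (n + 0)) (g ≫ (𝔸(ULift.{u} (Fin n); (V : Scheme.{u})) ↘ (V : Scheme.{u})) ≫ V.ι) :=
      inferInstance
    simpa using h2
  · intro z hz
    have h1 : pullback.snd π g (W.ι z) = u := hz.trans hvu
    exact W.ι.isOpenEmbedding.injective (huniq _ h1 (Or.inl z.2))

end Groth.Agent.S0442
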