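import Groth.Statements.S0443
import Mathlib

set_option autoImplicit false
universe u
open FlatMor

namespace Groth.Agent.S0443

open AlgebraicGeometry CategoryTheory IsLocalRing

set_option backward.isDefEq.respectTransparency.types false

theorem finite_localization {A B Aₚ Bq : Type u} [CommRing A] [CommRing B] [CommRing Aₚ] [CommRing Bq]
    [Algebra A B] [Module.Finite A B] (p : Ideal A) [p.IsPrime] (q : Ideal B) [q.IsPrime]
    (hq : q.comap (algebraMap A B) = p)
    (hu : ∀ (Q : Ideal B), Q.IsPrime → Q.comap (algebraMap A B) = p → Q = q)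
    [Algebra A Aₚ] [IsLocalization.AtPrime Aₚ p] [Algebra B Bq] [IsLocalization.AtPrime Bq q]
    [Algebra A Bq] [IsScalarTower A B Bq] [Algebra Aₚ Bq] [IsScalarTower A Aₚ Bq] :
    Module.Finite Aₚ Bq := by
  let M := Algebra.algebraMapSubmonoid B p.primeCompl
  have hle : M ≤ q.primeCompl := by
    rintro _ ⟨a, ha, rfl⟩
    exact fun h => ha (hq.le h)
  have hmul : ∀ x : q.primeCompl, ∃ m : B, m * x ∈ M := by
    rintro ⟨b, hb⟩
    by_contra hne
    have hd : Disjoint ((Ideal.span {b} : Ideal B) : Set B) (M : Set B) :=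
      Set.disjoint_left.2 fun x hx hxM => by
        obtain ⟨c, rfl⟩ := Ideal.mem_span_singleton'.1 hx
        exact hne ⟨c, hxM⟩
    obtain ⟨P, hP, hbP, hPM⟩ := Ideal.exists_le_prime_disjoint _ M hd
    have hPp : P.comap (algebraMap A B) ≤ p := fun a ha => by
      by_contra h
      exact Set.disjoint_left.1 hPM ha ⟨a, h, rfl⟩
    obtain ⟨Q, hPQ, hQ, hQp⟩ := Ideal.exists_ideal_over_prime_of_isIntegral p P hPp
    exact hb (hu Q hQ hQp ▸ hPQ (hbP (Ideal.mem_span_singleton_self b)))
  have : IsLocalization q.primeCompl (Localization M) :=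
    IsLocalization.isLocalization_of_is_exists_mul_mem _ M _ hle hmul
  have : IsLocalization M Bq := IsLocalization.isLocalization_of_algEquiv M
    (IsLocalization.algEquiv q.primeCompl (Localization M) Bq)
  have : IsLocalizedModule p.primeCompl (IsScalarTower.toAlgHom A B Bq).toLinearMap :=
    isLocalizedModule_iff_isLocalization.2 this
  exact Module.Finite.of_isLocalizedModule p.primeCompl (Rₚ := Aₚ)
    (IsScalarTower.toAlgHom A B Bq).toLinearMap

open AlgebraicGeometry CategoryTheory Limits in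
/-- For a finite morphism π : X → Y and a point x of X that is the only point of its fibre, the induced
homomorphism of local rings O_{Y,π(x)} → O_{X,x} is finite. (The published lemma has further parts,
not stated here.) -/
theorem result {X Y : Scheme.{u}} (π : X ⟶ Y) [IsFinite π] (x : X) (hx : ∀ x' : ↑X, π x' = π x → x' = x) :
    (π.stalkMap x).hom.Finite := by
  obtain ⟨V, hV, hyV, -⟩ := exists_isAffineOpen_mem_and_subset (x := π x) (U := ⊤) trivial
  have hU := hV.preimage π
  let _ := (π.app V).hom.toAlgebra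
  have : Module.Finite Γ(Y, V) Γ(X, π ⁻¹ᵁ V) := π.finite_app V hV
  let _ := TopCat.Presheaf.algebra_section_stalk Y.presheaf (⟨π x, hyV⟩ : V)
  let _ := TopCat.Presheaf.algebra_section_stalk X.presheaf (⟨x, hyV⟩ : (π ⁻¹ᵁ V : X.Opens))
  have : IsLocalization.AtPrime (Y.presheaf.stalk (π x)) (hV.primeIdealOf ⟨π x, hyV⟩).asIdeal :=
    hV.isLocalization_stalk ⟨π x, hyV⟩
  have : IsLocalization.AtPrime (X.presheaf.stalk x) (hU.primeIdealOf ⟨x, hyV⟩).asIdeal :=
    hU.isLocalization_stalk ⟨x, hyV⟩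
  let _ : Algebra (Y.presheaf.stalk (π x)) (X.presheaf.stalk x) := (π.stalkMap x).hom.toAlgebra
  let _ : Algebra Γ(Y, V) (X.presheaf.stalk x) :=
    ((algebraMap Γ(X, π ⁻¹ᵁ V) (X.presheaf.stalk x)).comp (π.app V).hom).toAlgebra
  have : IsScalarTower Γ(Y, V) Γ(X, π ⁻¹ᵁ V) (X.presheaf.stalk x) := IsScalarTower.of_algebraMap_eq fun _ => rfl
  have : IsScalarTower Γ(Y, V) (Y.presheaf.stalk (π x)) (X.presheaf.stalk x) :=
    IsScalarTower.of_algebraMap_eq fun r => (Scheme.Hom.germ_stalkMap_apply π V x hyV r).symm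
  have hspec : ∀ Q : Spec Γ(X, π ⁻¹ᵁ V), hV.fromSpec (Spec.map (π.app V) Q) = π (hU.fromSpec Q) := by
    intro Q
    have h := IsAffineOpen.SpecMap_appLE_fromSpec π hV hU le_rfl
    rw [← π.app_eq_appLE] at h
    exact congr($h Q)
  exact finite_localization (Aₚ := Y.presheaf.stalk (π x)) (Bq := X.presheaf.stalk x)
    (hV.primeIdealOf ⟨π x, hyV⟩).asIdeal (hU.primeIdealOf ⟨x, hyV⟩).asIdeal
    (congrArg PrimeSpectrum.asIdeal (hV.fromSpec.isOpenEmbedding.injective (by
      rw [hspec, hU.fromSpec_primeIdealOf, hV.fromSpec_primeIdealOf]) :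
      Spec.map (π.app V) (hU.primeIdealOf ⟨x, hyV⟩) = hV.primeIdealOf ⟨π x, hyV⟩))
    fun Q hQ hQp => congrArg PrimeSpectrum.asIdeal (hU.fromSpec.isOpenEmbedding.injective (by
      rw [hU.fromSpec_primeIdealOf]
      refine hx _ ?_
      rw [← hspec, show Spec.map (π.app V) ⟨Q, hQ⟩ = hV.primeIdealOf ⟨π x, hyV⟩ from
        PrimeSpectrum.ext hQp, hV.fromSpec_primeIdealOf]) :
      (⟨Q, hQ⟩ : Spec Γ(X, π ⁻¹ᵁ V)) = hU.primeIdealOf ⟨x, hyV⟩)

end Groth.Agent.S0443
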