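import Groth.Statements.S4932
import Groth.Agent.Lib.FibVal4
import Groth.Agent.Lib.FibGenApp4
import Mathlib.Topology.Sober

set_option autoImplicit false
open CategoryTheory AlgebraicGeometry
universe u v w
open EGA43

set_option backward.isDefEq.respectTransparency.types false

namespace Groth.Agent.S4932

/-- Let A be a valuation ring (not necessarily discrete), X an irreducible scheme and f : X ⟶ Spec A a
dominant morphism of finite type. If the fibre X_0 of f over the closed point is nonempty, then dim
X_0 = dim X_1, where X_1 is the fibre over the generic point. -/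
theorem result {A : Type u} [CommRing A] [IsDomain A]
    [ValuationRing A] {X : Scheme.{u}} [IrreducibleSpace X] (f : X ⟶ Spec (CommRingCat.of A))
    [LocallyOfFiniteType f] [QuasiCompact f] [IsDominant f]
    (h0 : Nonempty ↥(f.fiber (IsLocalRing.closedPoint A))) :
    topologicalKrullDim ↥(f.fiber (IsLocalRing.closedPoint A)) =
      topologicalKrullDim ↥(f.fiber (genericPoint (Spec (CommRingCat.of A)))) := by
  have hηb : (f (genericPoint X) : PrimeSpectrum A).asIdeal = ⊥ := by
    have h1 : IsGenericPoint (f (genericPoint X)) (Set.univ : Set (Spec (CommRingCat.of A))) := by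
      have := (genericPoint_spec X).image f.continuous
      rwa [Set.image_univ, f.denseRange.closure_range] at this
    have h2 := h1.specializes (y := (⟨⊥, Ideal.isPrime_bot⟩ : PrimeSpectrum A)) trivial
    exact le_bot_iff.1 ((PrimeSpectrum.le_iff_specializes (f (genericPoint X) : PrimeSpectrum A) _).2 h2)
  have hgen : f (genericPoint X) = genericPoint (Spec (CommRingCat.of A)) := by
    refine ((genericPoint_spec _).eq ?_).symm
    have := (genericPoint_spec X).image f.continuous
    rwa [Set.image_univ, f.denseRange.closure_range] at this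
  have key1 : ∀ x, f x = IsLocalRing.closedPoint A →
      FlatMor.fibreDimAt f x = (FibDim14.rd f (genericPoint X) : WithBot ℕ∞) := by
    intro x hx
    obtain ⟨x', -, -, hmax, hd⟩ := FibGen4.exists_isMaxFib f x
    rw [← hd]
    exact (FibGen4.fibreDimAt_eq_of_valuationRing f hmax ((genericPoint_spec X).specializes trivial) hηb).1
  have key2 : ∀ x, f x = genericPoint (Spec (CommRingCat.of A)) →
      FlatMor.fibreDimAt f x = (FibDim14.rd f (genericPoint X) : WithBot ℕ∞) := by
    intro x hx
    obtain ⟨x', -, h2, hmax, hd⟩ := FibGen4.exists_isMaxFib f x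
    have : genericPoint X = x' :=
      hmax _ ((genericPoint_spec X).specializes trivial) (hgen.trans (h2.trans hx).symm)
    rw [← hd, ← this, FibGen4.fibreDimAt_eq_rd_of_isMaxFib f (this ▸ hmax)]
  obtain ⟨z⟩ := h0
  have hz : f (f.fiberι _ z) = IsLocalRing.closedPoint A := by
    have hm : f.fiberι (IsLocalRing.closedPoint A) z ∈ Set.range (f.fiberι _) := ⟨z, rfl⟩
    rwa [f.range_fiberι] at hm
  refine le_antisymm ?_ ?_
  · rw [FibGen4.dim_fiber_le_iff]
    intro x hx
    rw [key1 x hx, ← key2 _ hgen]
    exact (FibGen4.dim_fiber_le_iff f _ _).1 le_rfl _ hgen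
  · rw [FibGen4.dim_fiber_le_iff]
    intro x hx
    rw [key2 x hx, ← key1 _ hz]
    exact (FibGen4.dim_fiber_le_iff f _ _).1 le_rfl _ hz

end Groth.Agent.S4932
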