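import Groth.Statements.S0444
import Groth.Agent.S4932
import Groth.Agent.Lib.FibDim4.GenericScheme

set_option autoImplicit false
universe u
open FlatMor

set_option backward.isDefEq.respectTransparency.types false

namespace Groth.Agent.S0444


open AlgebraicGeometry TensorProduct in
theorem dim_fiber_eq {R S : Type u} [CommRing R] [CommRing S] [Algebra R S] [Algebra.FiniteType R S]
    {L : Type u} [Field L] [Algebra R L] (p : PrimeSpectrum R) (hp : RingHom.ker (algebraMap R L) = p.asIdeal) :
    ringKrullDim (L ⊗[R] S) =
      topologicalKrullDim ↥((Spec.map (CommRingCat.ofHom (algebraMap R S))).fiber p) := by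
  rw [FibDim4.ringKrullDim_tensor_of_ker p.asIdeal hp, ← PrimeSpectrum.topologicalKrullDim_eq_ringKrullDim,
    IsHomeomorph.topologicalKrullDim_eq _ ((Spec.map (CommRingCat.ofHom (algebraMap R S))).fiberHomeo p).isHomeomorph]
  exact (IsHomeomorph.topologicalKrullDim_eq _ (PrimeSpectrum.preimageHomeomorphFiber R S p).isHomeomorph).symm

open TensorProduct in
/-- Let R be a valuation ring with residue field κ and fraction field K, and S a domain of finite type
over R with R → S injective. If the special fibre κ ⊗_R S is nonzero, then its Krull dimension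
equals the Krull dimension of the generic fibre K ⊗_R S. (The published statement also asserts that
the special fibre is equidimensional; that is not stated here.) -/
theorem result {R S : Type u} [CommRing R] [IsDomain R] [ValuationRing R] [CommRing S] [IsDomain S] [Algebra R S]
    (hinj : Function.Injective (algebraMap R S)) [Algebra.FiniteType R S]
    [Nontrivial (IsLocalRing.ResidueField R ⊗[R] S)] :
    ringKrullDim (IsLocalRing.ResidueField R ⊗[R] S) = ringKrullDim (FractionRing R ⊗[R] S) := by
  let f := AlgebraicGeometry.Spec.map (CommRingCat.ofHom (algebraMap R S))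
  haveI : AlgebraicGeometry.LocallyOfFiniteType f :=
    (AlgebraicGeometry.HasRingHomProperty.Spec_iff (P := @AlgebraicGeometry.LocallyOfFiniteType)).2
      (RingHom.finiteType_algebraMap.2 inferInstance)
  haveI : AlgebraicGeometry.IsDominant f := ⟨PrimeSpectrum.denseRange_comap_iff_ker_le_nilRadical _ |>.2 (by
    rw [CommRingCat.hom_ofHom, (RingHom.injective_iff_ker_eq_bot _).1 hinj]; exact bot_le)⟩
  haveI : IrreducibleSpace (AlgebraicGeometry.Spec (CommRingCat.of S)) :=
    inferInstanceAs (IrreducibleSpace (PrimeSpectrum S))
  let γ : PrimeSpectrum R := ⟨⊥, Ideal.isPrime_bot⟩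
  have hγ : genericPoint (AlgebraicGeometry.Spec (CommRingCat.of R)) = γ :=
    AlgebraicGeometry.genericPoint_eq_bot_of_affine (CommRingCat.of R)
  have e1 := dim_fiber_eq (S := S) (L := IsLocalRing.ResidueField R) (IsLocalRing.closedPoint R)
    IsLocalRing.ker_residue
  have e2 := dim_fiber_eq (S := S) (L := FractionRing R) γ
    ((RingHom.injective_iff_ker_eq_bot _).1 (IsFractionRing.injective R (FractionRing R)))
  rw [e1, e2, ← hγ]
  refine S4932.result f ?_
  by_contra hcon
  haveI : IsEmpty _ := not_nonempty_iff.1 hcon
  haveI : IsEmpty (TopologicalSpace.IrreducibleCloseds (f.fiber (IsLocalRing.closedPoint R))) :=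
    ⟨fun Z => isEmptyElim Z.isIrreducible.nonempty.some⟩
  have h0 := e1.trans (Order.krullDim_eq_bot (α := TopologicalSpace.IrreducibleCloseds
    (f.fiber (IsLocalRing.closedPoint R))))
  exact absurd (h0 ▸ ringKrullDim_nonneg_of_nontrivial) (by simp)

end Groth.Agent.S0444
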