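import Groth.Statements.S0445


set_option autoImplicit false
universe u
open FlatMor

namespace Groth.Agent.S0445

open AlgebraicGeometry CategoryTheory Limits in
/-- Two morphisms over S into an S-scheme unramified over S which agree at a point and induce the same
map on residue fields there agree on an open neighbourhood of that point. -/
theorem result {X Y S : Scheme.{u}} (p : Y ⟶ S) [FormallyUnramified p] [LocallyOfFiniteType p] (f g : X ⟶ Y) (hfg : f ≫ p = g ≫ p)
    (x : X) (h1 : f x = g x) (h2 : f.residueFieldMap x = (Y.residueFieldCongr h1).hom ≫ g.residueFieldMap x) :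
    ∃ U : X.Opens, x ∈ U ∧ U.ι ≫ f = U.ι ≫ g := by
  let h : X ⟶ pullback p p := pullback.lift f g hfg
  have : IsOpenImmersion (pullback.diagonal p) := inferInstance
  have hf : h ≫ pullback.fst p p = f := pullback.lift_fst _ _ _
  have hg : h ≫ pullback.snd p p = g := pullback.lift_snd _ _ _
  clear_value h
  refine ⟨h ⁻¹ᵁ (pullback.diagonal p).opensRange, ?_, ?_⟩
  · let e := X.fromSpecResidueField x
    have hfe : e ≫ f = e ≫ g := by
      simp only [e, ← Scheme.Hom.SpecMap_residueFieldMap_fromSpecResidueField, h2, Spec.map_comp,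
        Category.assoc, Scheme.residueFieldCongr_fromSpecResidueField]
    have he : e ≫ h = (e ≫ f) ≫ pullback.diagonal p := by
      apply pullback.hom_ext
      · simp [hf]
      · simpa [hg] using hfe.symm
    let pt : Spec (X.residueField x) := IsLocalRing.closedPoint _
    have hx : e pt = x := Scheme.fromSpecResidueField_apply x pt
    refine ⟨(e ≫ f) pt, ?_⟩
    rw [← Scheme.Hom.comp_apply, ← he, Scheme.Hom.comp_apply, hx]
  · set U := h ⁻¹ᵁ (pullback.diagonal p).opensRange
    have hr : Set.range (U.ι ≫ h) ⊆ Set.range (pullback.diagonal p) := by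
      rintro _ ⟨a, rfl⟩
      exact a.2
    let l := IsOpenImmersion.lift (pullback.diagonal p) (U.ι ≫ h) hr
    have hl : l ≫ pullback.diagonal p = U.ι ≫ h := IsOpenImmersion.lift_fac _ _ _
    have e1 : l = U.ι ≫ f := by simpa [hf] using congrArg (· ≫ pullback.fst p p) hl
    have e2 : l = U.ι ≫ g := by simpa [hg] using congrArg (· ≫ pullback.snd p p) hl
    rw [← e1, ← e2]

end Groth.Agent.S0445
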