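import Groth.Statements.S0446
import Groth.Agent.Lib.Dev4.ProjPiece
import Groth.Agent.Lib.UnivHomeo.Basic
import Groth.Agent.Lib.FlatH4.FlatLocusScheme

set_option autoImplicit false
universe u
open FlatMor

set_option backward.isDefEq.respectTransparency.types false

set_option maxSynthPendingDepth 3
open TensorProduct
namespace Groth.Agent.S0446



theorem residueFieldMap_surjective {A B : Type u} [CommRing A] [CommRing B] [Algebra A B] (p : Ideal A) (q : Ideal B)
    [p.IsPrime] [q.IsPrime] [q.LiesOver p]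
    (h : Function.Bijective (Ideal.ResidueField.mapₐ p q (Algebra.ofId A B) (Ideal.LiesOver.over (P := q) (p := p)))) :
    Function.Surjective ((AlgebraicGeometry.Spec.map (CommRingCat.ofHom (algebraMap A B))).residueFieldMap ⟨q, ‹_›⟩) := by
  have hq : ∀ b : B, UH.ResAt (algebraMap A B) q b := by
    intro b
    obtain ⟨z, hz⟩ := h.2 (algebraMap B q.ResidueField b)
    obtain ⟨⟨a, s⟩, hz'⟩ := IsLocalization.surj (nonZeroDivisors (A ⧸ p)) z
    obtain ⟨a, rfl⟩ := Ideal.Quotient.mk_surjective a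
    obtain ⟨s, hs⟩ := s
    obtain ⟨s, rfl⟩ := Ideal.Quotient.mk_surjective s
    have hsp : s ∉ p := fun hsp => nonZeroDivisors.ne_zero hs (Ideal.Quotient.eq_zero_iff_mem.2 hsp)
    refine ⟨a, s, fun hmem => hsp ((Ideal.mem_of_liesOver q p s).2 hmem), ?_⟩
    rw [← Ideal.algebraMap_residueField_eq_zero, map_sub, map_mul, sub_eq_zero, ← hz, mul_comm]
    have hz'' : z * algebraMap A p.ResidueField s = algebraMap A p.ResidueField a := hz'
    have := congrArg (Ideal.ResidueField.mapₐ p q (Algebra.ofId A B) (Ideal.LiesOver.over (P := q) (p := p))) hz''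
    erw [map_mul, AlgHom.commutes, AlgHom.commutes, IsScalarTower.algebraMap_apply A B q.ResidueField,
      IsScalarTower.algebraMap_apply A B q.ResidueField] at this
    exact this
  intro w
  obtain ⟨c, t, ht, hc⟩ := UH.exists_ev (CommRingCat.of B) ⟨q, ‹_›⟩ w
  obtain ⟨z₁, h₁⟩ := (UH.resAt_iff (algebraMap A B) ⟨q, ‹_›⟩ c).mp (hq c)
  obtain ⟨z₂, h₂⟩ := (UH.resAt_iff (algebraMap A B) ⟨q, ‹_›⟩ t).mp (hq t)
  refine ⟨z₁ / z₂, ?_⟩
  rw [map_div₀, h₁, h₂, div_eq_iff (fun h0 => ht ((UH.ev_eq_zero _ _ _).mp h0)), ← hc, mul_comm]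

open AlgebraicGeometry CategoryTheory Limits in
/-- For a morphism locally of finite presentation which is flat at a point x, there are affine étale
neighbourhoods (X', x') of (X, x) and (S', s') of (S, f x) with trivial residue field extensions and
a compatible morphism X' → S' such that the ring of global sections of X' is a projective module
over that of S'. -/
theorem result {X S : Scheme.{u}} (f : X ⟶ S) [LocallyOfFinitePresentation f] (x : X) (hx : (f.stalkMap x).hom.Flat) :
    ∃ (X' S' : Scheme.{u}) (g : X' ⟶ X) (e : S' ⟶ S) (f' : X' ⟶ S') (x' : X'),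
      IsAffine X' ∧ IsAffine S' ∧ Etale g ∧ Etale e ∧ g ≫ f = f' ≫ e ∧ g x' = x ∧ e (f' x') = f x ∧
      Function.Surjective (g.residueFieldMap x') ∧ Function.Surjective (e.residueFieldMap (f' x')) ∧
      @Module.Projective Γ(S', ⊤) _ Γ(X', ⊤) _ (f'.appTop).hom.toAlgebra.toModule := by
  obtain ⟨V, hV, hxV, -⟩ := exists_isAffineOpen_mem_and_subset (X := S) (x := f x) (U := ⊤) trivial
  obtain ⟨W, hW, hxW, e : W ≤ f ⁻¹ᵁ V⟩ := exists_isAffineOpen_mem_and_subset (X := X) (x := x) (U := f ⁻¹ᵁ V) hxV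
  letI : Algebra Γ(S, V) Γ(X, W) := (f.appLE V W e).hom.toAlgebra
  haveI : Algebra.FinitePresentation Γ(S, V) Γ(X, W) := f.finitePresentation_appLE hV hW e
  let q := hW.primeIdealOf ⟨x, hxW⟩
  let p := hV.primeIdealOf ⟨f x, hxV⟩
  haveI : q.asIdeal.LiesOver p.asIdeal := ⟨congr($(IsAffineOpen.comap_primeIdealOf_appLE V hV W hW e hxW).1).symm⟩
  have hflat : FlatCA.FlatAt Γ(S, V) q.asIdeal Γ(X, W) := (FlatH4.flat_stalkMap_iff f V hV W hW e hxW).1 hx
  obtain ⟨R', S', _, _, _, _, _, _, _, _, p', q', _, _, ⟨het, hlp, hκp⟩, ⟨hes, hlq, hκq⟩, hq'p', hproj⟩ :=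
    Dev4.exists_projective_piece Γ(X, W) p.asIdeal q.asIdeal hflat
  haveI := het
  haveI := hes
  haveI := hlp
  haveI := hlq
  haveI := hq'p'
  let g₀ := Spec.map (CommRingCat.ofHom (algebraMap Γ(X, W) S'))
  let e₀ := Spec.map (CommRingCat.ofHom (algebraMap Γ(S, V) R'))
  haveI : Etale g₀ := (HasRingHomProperty.Spec_iff (P := @Etale)).2 (RingHom.etale_algebraMap.2 hes)
  haveI : Etale e₀ := (HasRingHomProperty.Spec_iff (P := @Etale)).2 (RingHom.etale_algebraMap.2 het)
  let f' := Spec.map (CommRingCat.ofHom (algebraMap R' S'))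
  let x' : Spec (CommRingCat.of S') := ⟨q', ‹_›⟩
  have hg₀ : g₀ x' = q := PrimeSpectrum.ext hlq.over.symm
  have hf' : f' x' = ⟨p', ‹_›⟩ := PrimeSpectrum.ext hq'p'.over.symm
  have he₀ : e₀ ⟨p', ‹_›⟩ = p := PrimeSpectrum.ext hlp.over.symm
  refine ⟨Spec (CommRingCat.of S'), Spec (CommRingCat.of R'), g₀ ≫ hW.fromSpec, e₀ ≫ hV.fromSpec, f', x',
    inferInstance, inferInstance, inferInstance, inferInstance, ?_, ?_, ?_, ?_, ?_, ?_⟩
  · rw [Category.assoc, ← hV.SpecMap_appLE_fromSpec f hW e, ← Category.assoc, ← Category.assoc]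
    congr 1
    simp only [g₀, e₀, f', ← Spec.map_comp]
    congr 1
    ext a
    show algebraMap Γ(X, W) S' (algebraMap Γ(S, V) Γ(X, W) a) = algebraMap R' S' (algebraMap Γ(S, V) R' a)
    rw [← IsScalarTower.algebraMap_apply, ← IsScalarTower.algebraMap_apply]
  · rw [Scheme.Hom.comp_apply, hg₀]; exact hW.fromSpec_primeIdealOf ⟨x, hxW⟩
  · rw [hf', Scheme.Hom.comp_apply, he₀]; exact hV.fromSpec_primeIdealOf ⟨f x, hxV⟩
  · rw [Scheme.residueFieldMap_comp]
    exact (residueFieldMap_surjective q.asIdeal q' hκq).comp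
      (ConcreteCategory.bijective_of_isIso (hW.fromSpec.residueFieldMap (g₀ x'))).2
  · rw [hf', Scheme.residueFieldMap_comp]
    exact (residueFieldMap_surjective p.asIdeal p' hκp).comp
      (ConcreteCategory.bijective_of_isIso (hV.fromSpec.residueFieldMap (e₀ ⟨p', ‹_›⟩))).2
  · haveI : Module.Projective R' S' := by
      haveI := hproj
      exact Module.Projective.of_equiv ((AlgebraTensorModule.rid Γ(X, W) S' S').restrictScalars R')
    have key : f'.appTop = (Scheme.ΓSpecIso (CommRingCat.of R')).hom ≫ CommRingCat.ofHom (algebraMap R' S') ≫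
        (Scheme.ΓSpecIso (CommRingCat.of S')).inv := by
      rw [← Scheme.ΓSpecIso_naturality_assoc (CommRingCat.ofHom (algebraMap R' S')), Iso.hom_inv_id, Category.comp_id]
    let a : R' ≃+* Γ(Spec (CommRingCat.of R'), ⊤) := (Scheme.ΓSpecIso (CommRingCat.of R')).symm.commRingCatIsoToRingEquiv
    let b : S' ≃+* Γ(Spec (CommRingCat.of S'), ⊤) := (Scheme.ΓSpecIso (CommRingCat.of S')).symm.commRingCatIsoToRingEquiv
    letI : Algebra Γ(Spec (CommRingCat.of R'), ⊤) Γ(Spec (CommRingCat.of S'), ⊤) := f'.appTop.hom.toAlgebra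
    have hab : ∀ r, f'.appTop (a r) = b (algebraMap R' S' r) := fun r => by
      rw [key]
      show (Scheme.ΓSpecIso (CommRingCat.of S')).inv (algebraMap R' S'
        ((Scheme.ΓSpecIso (CommRingCat.of R')).hom ((Scheme.ΓSpecIso (CommRingCat.of R')).inv r))) = _
      rw [Iso.inv_hom_id_apply]; rfl
    show Module.Projective Γ(Spec (CommRingCat.of R'), ⊤) Γ(Spec (CommRingCat.of S'), ⊤)
    haveI := RingHomInvPair.of_ringEquiv a
    haveI := RingHomInvPair.of_ringEquiv a.symm
    exact Module.Projective.of_equiv (σ := (a : R' →+* Γ(Spec (CommRingCat.of R'), ⊤)))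
      (σ' := (a.symm : Γ(Spec (CommRingCat.of R'), ⊤) →+* R'))
      { b.toAddEquiv with
        map_smul' := fun r s => by
          show b (r • s) = f'.appTop (a r) * b s
          rw [hab, Algebra.smul_def, map_mul] }

end Groth.Agent.S0446
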