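import Groth.Statements.S0447
import Groth.Agent.Lib.Dev4.GeomIntProjective

set_option autoImplicit false
universe u
open FlatMor

set_option backward.isDefEq.respectTransparency.types false

namespace Groth.Agent.S0447

open AlgebraicGeometry CategoryTheory Limits in
/-- For a flat morphism of finite presentation between affine schemes whose fibres are geometrically
integral, the coordinate ring of the source is a projective module over that of the target. -/
theorem result {X S : Scheme.{u}} (f : X ⟶ S) [IsAffine X] [IsAffine S] [Flat f] [LocallyOfFinitePresentation f] [GeometricallyIntegral f] :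
    @Module.Projective Γ(S, ⊤) _ Γ(X, ⊤) _ (f.appTop).hom.toAlgebra.toModule := by
  letI : Algebra Γ(S, ⊤) Γ(X, ⊤) := (f.appTop).hom.toAlgebra
  let f' := Spec.map f.appTop
  have w : X.isoSpec.hom ≫ f' = f ≫ S.isoSpec.hom := by simp [f', Scheme.isoSpec_hom_naturality]
  have hf' : f' = X.isoSpec.inv ≫ f ≫ S.isoSpec.hom := by rw [← w, Iso.inv_hom_id_assoc]
  haveI : Flat f' := by rw [hf']; infer_instance
  haveI : LocallyOfFinitePresentation f' := by rw [hf']; infer_instance
  haveI hg : GeometricallyIntegral f' := by
    rw [hf']
    exact (MorphismProperty.cancel_left_of_respectsIso @GeometricallyIntegral _ _).2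
      ((MorphismProperty.cancel_right_of_respectsIso @GeometricallyIntegral _ _).2 inferInstance)
  haveI : Module.Flat Γ(S, ⊤) Γ(X, ⊤) :=
    RingHom.flat_algebraMap_iff.1 ((HasRingHomProperty.Spec_iff (P := @Flat)).1 (inferInstanceAs (Flat f')))
  haveI : Algebra.FinitePresentation Γ(S, ⊤) Γ(X, ⊤) :=
    RingHom.finitePresentation_algebraMap.1
      ((HasRingHomProperty.Spec_iff (P := @LocallyOfFinitePresentation)).1 (inferInstanceAs (LocallyOfFinitePresentation f')))
  exact Dev4.projective_of_geomIntegral (R := Γ(S, ⊤)) (S := Γ(X, ⊤)) hg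

end Groth.Agent.S0447
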