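import Groth.Statements.S0448
import Mathlib.RingTheory.LocalRing.Module
import Mathlib.RingTheory.Finiteness.Prod
import Mathlib.RingTheory.Flat.EquationalCriterion
import Mathlib.RingTheory.Flat.Stability
import Mathlib.LinearAlgebra.DirectSum.Finsupp
import Mathlib.LinearAlgebra.TensorProduct.Finiteness
import Mathlib.LinearAlgebra.TensorProduct.RightExactness

set_option autoImplicit false
universe u
open FlatMor

namespace Groth.Agent.S0448


open TensorProduct in
lemma map_finsuppScalarRight {R A B : Type u} [CommRing R] [AddCommGroup A] [Module R A] [AddCommGroup B] [Module R B]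
    {ι : Type u} [DecidableEq ι] (L : A →ₗ[R] B) (x : A ⊗[R] (ι →₀ R)) (i : ι) :
    L (TensorProduct.finsuppScalarRight R R A ι x i) = TensorProduct.finsuppScalarRight R R B ι (L.rTensor (ι →₀ R) x) i := by
  induction x using TensorProduct.induction_on with
  | zero => simp
  | add x y hx hy => simp [hx, hy]
  | tmul x y => simp [TensorProduct.finsuppScalarRight_apply_tmul_apply]

open TensorProduct in
lemma eq_zero_of_fin {R N Q : Type u} [CommRing R] [IsLocalRing R] [AddCommGroup N] [Module R N] [Module.Flat R N]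
    [AddCommGroup Q] [Module R Q] {V : Type u} [AddCommGroup V] [Module R V] [Module.Free R V] [Module.Finite R V]
    (w : V →ₗ[R] N) (h : Function.Injective (w.lTensor (IsLocalRing.ResidueField R))) (z : V ⊗[R] Q)
    (hz : w.rTensor Q z = 0) : z = 0 := by
  classical
  let π : (Q →₀ R) →ₗ[R] Q := Finsupp.linearCombination R id
  have hπ : Function.Surjective π := fun q => ⟨Finsupp.single q 1, by simp [π]⟩
  obtain ⟨z', rfl⟩ := LinearMap.lTensor_surjective V hπ z
  have h0 : π.lTensor N (w.rTensor (Q →₀ R) z') = 0 := by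
    rw [← LinearMap.comp_apply, LinearMap.lTensor_comp_rTensor, ← LinearMap.rTensor_comp_lTensor, LinearMap.comp_apply]; exact hz
  obtain ⟨η, hη⟩ := (lTensor_exact (M := (LinearMap.ker π : Submodule R (Q →₀ R))) (N := Q →₀ R) (g := π) N (LinearMap.exact_subtype_ker_map π) hπ _).1 h0
  -- the extra elements of `N`
  obtain ⟨T, hT⟩ := TensorProduct.exists_finset η
  let σ : (Fin T.card → R) →ₗ[R] N := Fintype.linearCombination R fun j => (T.equivFin.symm j : N × LinearMap.ker π).1
  let w' : V × (Fin T.card → R) →ₗ[R] N := w.coprod σ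
  let ζ : (V × (Fin T.card → R)) ⊗[R] (Q →₀ R) := (LinearMap.inl R V _).rTensor _ z' -
    ∑ j, ((0 : V), (Pi.single j (1 : R) : Fin T.card → R)) ⊗ₜ[R] ((T.equivFin.symm j : N × LinearMap.ker π).2 : Q →₀ R)
  have hζ : w'.rTensor (Q →₀ R) ζ = 0 := by
    simp only [ζ, map_sub, map_sum, LinearMap.rTensor_tmul]
    rw [← LinearMap.comp_apply, ← LinearMap.rTensor_comp, LinearMap.coprod_inl, sub_eq_zero, ← hη, hT,
      map_sum, ← T.sum_attach, ← Finset.univ_eq_attach, ← Equiv.sum_comp T.equivFin.symm]
    refine Finset.sum_congr rfl fun j _ => ?_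
    simp [w', σ, Fintype.linearCombination_apply, Pi.single_apply]
  let e := TensorProduct.finsuppScalarRight R R (V × (Fin T.card → R)) Q
  let f : ((e ζ).support →₀ R) →ₗ[R] V × (Fin T.card → R) := Finsupp.linearCombination R fun q => e ζ q.1
  have hf : w' ∘ₗ f = 0 := by
    refine Finsupp.lhom_ext fun q b => ?_
    have hq : w' (e ζ q.1) = (TensorProduct.finsuppScalarRight R R N Q (w'.rTensor (Q →₀ R) ζ)) q.1 := by
      exact map_finsuppScalarRight w' ζ q.1
    rw [hζ] at hq
    simp only [map_zero, Finsupp.coe_zero, Pi.zero_apply] at hq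
    simp [f, hq]
  obtain ⟨k, a, y, hya, haf⟩ := Module.Flat.exists_factorization_of_comp_eq_zero_of_free hf
  have ha0 : a.rTensor (Q →₀ R) ζ = 0 := by
    apply (TensorProduct.finsuppScalarRight R R (Fin k →₀ R) Q).injective
    rw [map_zero]
    ext1 q
    have hq : a (e ζ q) = (TensorProduct.finsuppScalarRight R R (Fin k →₀ R) Q (a.rTensor (Q →₀ R) ζ)) q := by
      exact map_finsuppScalarRight a ζ q
    rw [← hq, Finsupp.coe_zero, Pi.zero_apply]
    by_cases hs : q ∈ (e ζ).support
    · have := LinearMap.congr_fun haf (Finsupp.single ⟨q, hs⟩ 1)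
      simpa [f] using this
    · rw [Finsupp.notMem_support_iff.1 hs, map_zero]
  let g := a ∘ₗ LinearMap.inl R V _
  have hg : w = y ∘ₗ g := by rw [← LinearMap.comp_assoc, ← hya, LinearMap.coprod_inl]
  obtain ⟨g', hg'⟩ := (IsLocalRing.split_injective_iff_lTensor_residueField_injective g).2 (by
    rw [hg, LinearMap.lTensor_comp, LinearMap.coe_comp] at h
    exact h.of_comp)
  have hgz : π.lTensor (Fin k →₀ R) (g.rTensor (Q →₀ R) z') = 0 := by
    have h1 := congrArg (π.lTensor (Fin k →₀ R)) ha0
    simp only [ζ, map_sub, map_sum, LinearMap.rTensor_tmul, LinearMap.lTensor_tmul, LinearMap.map_coe_ker,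
      TensorProduct.tmul_zero, Finset.sum_const_zero, sub_zero, map_zero] at h1
    rw [LinearMap.rTensor_comp, LinearMap.comp_apply]
    exact (sub_zero _).symm.trans h1
  rw [← LinearMap.comp_apply, LinearMap.lTensor_comp_rTensor, ← LinearMap.rTensor_comp_lTensor, LinearMap.comp_apply] at hgz
  have := congrArg (g'.rTensor Q) hgz
  rwa [map_zero, ← LinearMap.comp_apply, ← LinearMap.rTensor_comp, hg', LinearMap.rTensor_id, LinearMap.id_apply] at this

open TensorProduct in
lemma injective_rTensor_of_free {R N Q : Type u} [CommRing R] [IsLocalRing R] [AddCommGroup N] [Module R N] [Module.Flat R N]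
    [AddCommGroup Q] [Module R Q] {ι : Type u} (w : (ι →₀ R) →ₗ[R] N)
    (h : Function.Injective (w.lTensor (IsLocalRing.ResidueField R))) : Function.Injective (w.rTensor Q) := by
  classical
  rw [injective_iff_map_eq_zero]
  intro z hz
  obtain ⟨T, hT⟩ := TensorProduct.exists_finset z
  let t : Finset ι := T.biUnion fun x => x.1.support
  let j : (t →₀ R) →ₗ[R] ι →₀ R := Finsupp.lmapDomain R R Subtype.val
  let c : (ι →₀ R) →ₗ[R] t →₀ R := Finsupp.lcomapDomain Subtype.val Subtype.val_injective
  have hcj : c ∘ₗ j = LinearMap.id := LinearMap.ext fun v =>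
    Finsupp.comapDomain_mapDomain _ Subtype.val_injective v
  have hzc : j.rTensor Q (c.rTensor Q z) = z := by
    rw [hT, map_sum, map_sum]
    refine Finset.sum_congr rfl fun x hx => ?_
    rw [LinearMap.rTensor_tmul, LinearMap.rTensor_tmul]
    congr 1
    refine Finsupp.mapDomain_comapDomain _ Subtype.val_injective _ fun i hi => ?_
    exact ⟨⟨i, Finset.mem_biUnion.2 ⟨x, hx, hi⟩⟩, rfl⟩
  have h0 := eq_zero_of_fin (w ∘ₗ j) (by
    rw [LinearMap.lTensor_comp, LinearMap.coe_comp]
    exact h.comp (Function.HasLeftInverse.injective ⟨c.lTensor _, LinearMap.congr_fun (by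
      rw [← LinearMap.lTensor_comp, hcj, LinearMap.lTensor_id] : c.lTensor (IsLocalRing.ResidueField R) ∘ₗ j.lTensor _ = .id)⟩))
    (c.rTensor Q z) (by rw [LinearMap.rTensor_comp, LinearMap.comp_apply, hzc, hz])
  rw [← hzc, h0, map_zero]

open TensorProduct in
lemma flat_prod {R : Type u} [CommRing R] (A B : Type u) [AddCommGroup A] [Module R A] [AddCommGroup B] [Module R B]
    [Module.Flat R A] [Module.Flat R B] : Module.Flat R (A × B) := by
  rw [Module.Flat.iff_rTensor_injective']
  intro I
  rw [injective_iff_map_eq_zero]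
  intro x hx
  have h1 : (LinearMap.fst R A B).lTensor I x = 0 :=
    (injective_iff_map_eq_zero _).1 (Module.Flat.rTensor_preserves_injective_linearMap (M := A) I.subtype I.injective_subtype) _ (by
      rw [← LinearMap.comp_apply, LinearMap.rTensor_comp_lTensor, ← LinearMap.lTensor_comp_rTensor, LinearMap.comp_apply, hx, map_zero])
  have h2 : (LinearMap.snd R A B).lTensor I x = 0 :=
    (injective_iff_map_eq_zero _).1 (Module.Flat.rTensor_preserves_injective_linearMap (M := B) I.subtype I.injective_subtype) _ (by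
      rw [← LinearMap.comp_apply, LinearMap.rTensor_comp_lTensor, ← LinearMap.lTensor_comp_rTensor, LinearMap.comp_apply, hx, map_zero])
  have e : (LinearMap.inl R A B ∘ₗ LinearMap.fst R A B + LinearMap.inr R A B ∘ₗ LinearMap.snd R A B).lTensor I x = x := by
    rw [LinearMap.inl, LinearMap.inr]
    conv_rhs => rw [← LinearMap.id_apply (R := R) x, ← LinearMap.lTensor_id I (A × B)]
    congr 2
    exact LinearMap.ext fun y => Prod.ext (by simp) (by simp)
  rw [← e, LinearMap.lTensor_add, LinearMap.add_apply, LinearMap.lTensor_comp, LinearMap.lTensor_comp,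
    LinearMap.comp_apply, LinearMap.comp_apply, h1, h2, map_zero, map_zero, add_zero]

open TensorProduct in
/-- Over a local ring, a linear map from a projective module to a flat module which is injective modulo
the maximal ideal is universally injective (injective after tensoring with any module). -/
theorem result {R M N : Type u} [CommRing R] [IsLocalRing R] [AddCommGroup M] [Module R M] [Module.Projective R M]
    [AddCommGroup N] [Module R N] [Module.Flat R N] (u : M →ₗ[R] N)
    (h : Function.Injective (LinearMap.lTensor (IsLocalRing.ResidueField R) u)) :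
    ∀ (Q : Type u) [AddCommGroup Q] [Module R Q], Function.Injective (LinearMap.rTensor Q u) := by
  intro Q _ _
  let π : (M →₀ R) →ₗ[R] M := Finsupp.linearCombination R id
  obtain ⟨s, hs⟩ := Module.projective_def.1 (inferInstance : Module.Projective R M)
  have hs' : π ∘ₗ s = LinearMap.id := LinearMap.ext hs
  let v : (M →₀ R) →ₗ[R] N × (M →₀ R) := (u ∘ₗ π).prod (LinearMap.id - s ∘ₗ π)
  have hfst : LinearMap.fst R N (M →₀ R) ∘ₗ v = u ∘ₗ π := LinearMap.fst_prod _ _
  have hsnd : LinearMap.snd R N (M →₀ R) ∘ₗ v = LinearMap.id - s ∘ₗ π := LinearMap.snd_prod _ _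
  have hv : Function.Injective (v.lTensor (IsLocalRing.ResidueField R)) := by
    rw [injective_iff_map_eq_zero]
    intro x hx
    have h1 := congrArg ((LinearMap.fst R N (M →₀ R)).lTensor _) hx
    have h2 := congrArg ((LinearMap.snd R N (M →₀ R)).lTensor _) hx
    rw [map_zero, ← LinearMap.comp_apply, ← LinearMap.lTensor_comp] at h1 h2
    rw [hfst, LinearMap.lTensor_comp, LinearMap.comp_apply, ← (u.lTensor _).map_zero] at h1
    rw [hsnd, LinearMap.lTensor_sub, LinearMap.sub_apply, LinearMap.lTensor_id, LinearMap.id_apply,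
      LinearMap.lTensor_comp, LinearMap.comp_apply, h h1, map_zero, sub_zero] at h2
    exact h2
  have : Module.Flat R (N × (M →₀ R)) := flat_prod _ _
  have hinj := injective_rTensor_of_free (Q := Q) v hv
  have hus : v ∘ₗ s = LinearMap.inl R N _ ∘ₗ u := by
    refine LinearMap.ext fun m => Prod.ext ?_ ?_
    · simp [v, show π (s m) = m from hs m]
    · simp [v, show π (s m) = m from hs m]
  rw [injective_iff_map_eq_zero]
  intro z hz
  have : v.rTensor Q (s.rTensor Q z) = 0 := by
    rw [← LinearMap.comp_apply, ← LinearMap.rTensor_comp, hus, LinearMap.rTensor_comp, LinearMap.comp_apply, hz, map_zero]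
  have := congrArg (π.rTensor Q) ((injective_iff_map_eq_zero _).1 hinj _ this)
  rwa [map_zero, ← LinearMap.comp_apply, ← LinearMap.rTensor_comp, hs', LinearMap.rTensor_id, LinearMap.id_apply] at this

end Groth.Agent.S0448
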