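import Groth.Statements.S0450
import Groth.Agent.S0404
import Mathlib.AlgebraicGeometry.ZariskisMainTheorem

set_option autoImplicit false
universe u
open FlatMor

set_option backward.isDefEq.respectTransparency.types false

namespace Groth.Agent.S0450

open AlgebraicGeometry CategoryTheory Limits in
/-- A flat proper morphism locally of finite presentation that is finite over a dense open subset of the
target is finite (the source alternatively allows the open to be retrocompact instead of assuming
finite presentation; only this alternative is stated). -/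
theorem result {X S : Scheme.{u}} (f : X ⟶ S) [Flat f] [IsProper f] [LocallyOfFinitePresentation f] (U : S.Opens)
    (hU : Dense (U : Set ↑S)) [IsFinite (f ∣_ U)] : IsFinite f := by
  have hopen := Groth.Agent.S0404.result f (0 : WithBot ℕ∞)
  have hzero : ∀ s : S, topologicalKrullDim (f.fiber s) ≤ 0 := by
    intro s
    by_contra h
    obtain ⟨s', hs', hs'U⟩ := hU.inter_open_nonempty _ hopen ⟨s, not_le.1 h⟩
    refine (not_le.2 (show (0 : WithBot ℕ∞) < topologicalKrullDim (f.fiber s') from hs')) ?_
    haveI : LocallyQuasiFinite ((f ⁻¹ᵁ U).ι ≫ f) := by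
      rw [← morphismRestrict_ι]; infer_instance
    rw [Groth.Agent.FibGen4.dim_fiber_le_iff]
    intro x hx
    have hxU : f x ∈ U := hx ▸ hs'U
    have hq : f.QuasiFiniteAt x := by
      have := ((f ⁻¹ᵁ U).ι ≫ f).quasiFiniteAt ⟨x, hxU⟩
      rw [Scheme.Hom.quasiFiniteAt_comp_iff_of_isOpenImmersion] at this
      exact this
    exact le_of_eq ((Groth.Agent.FibDim14.fibreDimAt_eq_zero_iff f x).2 hq)
  haveI : LocallyQuasiFinite f := by
    rw [locallyQuasiFinite_iff_isDiscrete_preimage_singleton]
    intro y
    haveI : DiscreteTopology (f.fiber y) := by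
      rw [discreteTopology_iff_isOpen_singleton]
      intro z
      obtain ⟨⟨x, hxy⟩, rfl⟩ := (f.fiberHomeo y).symm.surjective z
      obtain rfl : f x = y := hxy
      show IsOpen {f.asFiber x}
      rw [← Scheme.Hom.quasiFiniteAt_iff_isOpen_singleton_asFiber, ← Groth.Agent.FibDim14.fibreDimAt_eq_zero_iff]
      refine le_antisymm ((Groth.Agent.FibGen4.dim_fiber_le_iff f (f x) 0).1 (hzero (f x)) x rfl) ?_
      obtain ⟨x', -, -, hd, -⟩ := Groth.Agent.FibDim14.exists_fibreDimAt_eq f x
      rw [hd]
      exact_mod_cast Nat.zero_le _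
    exact isDiscrete_iff_discreteTopology.2 (f.fiberHomeo y).symm.isEmbedding.discreteTopology
  exact IsFinite.of_isProper_of_locallyQuasiFinite f

end Groth.Agent.S0450
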