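import Groth.Statements.S0451
import Groth.Agent.Lib.Dev4.DenseFP

set_option autoImplicit false
universe u
open FlatMor

set_option backward.isDefEq.respectTransparency.types false

set_option maxSynthPendingDepth 3
namespace Groth.Agent.S0451

open AlgebraicGeometry CategoryTheory Limits in
/-- A flat morphism locally of finite type which is locally of finite presentation over a quasi-compact
scheme-theoretically dense open of the target is locally of finite presentation. -/
theorem result {X S : Scheme.{u}} (f : X ⟶ S) [LocallyOfFiniteType f] [Flat f] (U : S.Opens)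
    [QuasiCompact U.ι] [IsSchemeTheoreticallyDominant U.ι] [LocallyOfFinitePresentation (f ∣_ U)] : LocallyOfFinitePresentation f := by
  classical
  refine (HasRingHomProperty.iff_appLE (P := @LocallyOfFinitePresentation)).2 fun V W e => ?_
  have hfl : (f.appLE V W e).hom.Flat := Flat.flat_appLE f V.2 W.2 e
  have hft : (f.appLE V W e).hom.FiniteType := HasRingHomProperty.appLE (P := @LocallyOfFiniteType) f inferInstance V W e
  -- the open piece as a union of basic opens
  have hcpt : IsCompact ((V.1 ⊓ U : S.Opens) : Set S) := by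
    have h1 : IsCompact ((U.ι ⁻¹ᵁ V.1 : U.toScheme.Opens) : Set U.toScheme) :=
      QuasiCompact.isCompact_preimage (f := U.ι) _ V.1.2 V.2.isCompact
    have h2 := h1.image U.ι.continuous
    convert h2 using 1
    ext x
    exact ⟨fun ⟨hxV, hxU⟩ => ⟨⟨x, hxU⟩, hxV, rfl⟩, fun ⟨y, hyV, hyx⟩ => hyx ▸ ⟨hyV, y.2⟩⟩
  have hex : ∀ x : (V.1 ⊓ U : S.Opens), ∃ r : Γ(S, V.1), S.basicOpen r ≤ V.1 ⊓ U ∧ (x : S) ∈ S.basicOpen r := fun x =>
    V.2.exists_basicOpen_le ⟨x.1, x.2⟩ x.2.1
  choose r hr hxr using hex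
  obtain ⟨t, ht⟩ := hcpt.elim_finite_subcover (fun x => (S.basicOpen (r x) : Set S)) (fun x => (S.basicOpen (r x)).2)
    (fun x hx => Set.mem_iUnion.2 ⟨⟨x, hx⟩, hxr ⟨x, hx⟩⟩)
  let F : Fin t.card → Γ(S, V.1) := fun i => r (t.equivFin.symm i)
  have hF : ∀ a : Γ(S, V.1), (∀ i, ∃ k : ℕ, F i ^ k * a = 0) → a = 0 := by
    intro a ha
    have h1 : S.presheaf.map (homOfLE (inf_le_left : V.1 ⊓ U ≤ V.1)).op a = 0 := by
      refine S.IsSheaf.section_ext fun x hx => ?_
      obtain ⟨z, hzt, hxz⟩ := Set.mem_iUnion₂.1 (ht hx)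
      refine ⟨S.basicOpen (r z), hr z, hxz, ?_⟩
      rw [map_zero, ← ConcreteCategory.comp_apply, ← Functor.map_comp, ← op_comp]
      obtain ⟨k, hk⟩ := ha (t.equivFin ⟨z, hzt⟩)
      simp only [F, Equiv.symm_apply_apply] at hk
      haveI := V.2.isLocalization_basicOpen (r z)
      exact (IsLocalization.map_eq_zero_iff (Submonoid.powers (r z)) Γ(S, S.basicOpen (r z)) a).2 ⟨⟨_, k, rfl⟩, hk⟩
    apply U.ι.app_injective V.1
    rw [map_zero, Scheme.Opens.ι_app]
    have h2 : U.ι ''ᵁ U.ι ⁻¹ᵁ V.1 = V.1 ⊓ U := by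
      rw [Scheme.Hom.image_preimage_eq_opensRange_inf, Scheme.Opens.opensRange_ι, inf_comm]
    have h3 := congrArg (fun s => S.presheaf.map (homOfLE h2.le).op s) h1
    simp only [map_zero] at h3
    rw [← ConcreteCategory.comp_apply, ← Functor.map_comp, ← op_comp] at h3
    exact h3
  algebraize [(f.appLE V W e).hom]
  refine Dev4.algebra_finitePresentation_of_flat_of_dense F hF fun i => ?_
  let s : Γ(X, W.1) := f.appLE V W e (F i)
  let D : X.Opens := X.basicOpen s
  have hDU : D ≤ f ⁻¹ᵁ U := by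
    have : D ≤ f ⁻¹ᵁ S.basicOpen (F i) := by
      show X.basicOpen (f.appLE V W e (F i)) ≤ _
      rw [Scheme.basicOpen_appLE]; exact inf_le_right
    exact this.trans fun x hx => (hr _ hx).2
  haveI : LocallyOfFinitePresentation (D.ι ≫ f) := by
    have : D.ι ≫ f = X.homOfLE hDU ≫ (f ∣_ U) ≫ U.ι := by
      rw [morphismRestrict_ι, Scheme.homOfLE_ι_assoc]
    rw [this]; infer_instance
  have hD : IsAffineOpen D := W.2.basicOpen s
  have hDtop : IsAffineOpen (⊤ : D.toScheme.Opens) := (haveI : IsAffine D.toScheme := hD; isAffineOpen_top _)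
  have hfp := HasRingHomProperty.appLE (P := @LocallyOfFinitePresentation) (D.ι ≫ f) inferInstance V
    ⟨⊤, hDtop⟩ (fun x _ => by
      exact e (X.basicOpen_le s x.2))
  haveI := W.2.isLocalization_basicOpen s
  let eD : Γ(D.toScheme, ⊤) ≃+* Γ(X, D) := D.topIso.commRingCatIsoToRingEquiv
  have hcomp : ((algebraMap Γ(X, W.1) Γ(X, D)).comp (algebraMap Γ(S, V.1) Γ(X, W.1))).FinitePresentation := by
    have h := hfp
    rw [← RingHom.finitePresentation_respectsIso.cancel_right_isIso _ D.topIso.hom, ← CommRingCat.hom_comp] at h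
    convert h using 1
    rw [Scheme.Hom.comp_appLE, Category.assoc, Scheme.Opens.ι_appLE, Scheme.Opens.topIso_hom]
    show ((f.appLE V W e) ≫ X.presheaf.map (homOfLE (X.basicOpen_le s)).op).hom = _
    rw [Scheme.Hom.appLE, Category.assoc]
    refine congrArg (fun g => (f.app V.1 ≫ g).hom) ?_
    erw [← Functor.map_comp, ← Functor.map_comp]
    rfl
  letI : Algebra Γ(S, V.1) Γ(X, D) := ((algebraMap Γ(X, W.1) Γ(X, D)).comp (algebraMap Γ(S, V.1) Γ(X, W.1))).toAlgebra
  haveI : IsScalarTower Γ(S, V.1) Γ(X, W.1) Γ(X, D) := IsScalarTower.of_algebraMap_eq fun _ => rfl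
  haveI : Algebra.FinitePresentation Γ(S, V.1) Γ(X, D) := hcomp
  exact Algebra.FinitePresentation.equiv
    ((IsLocalization.algEquiv (Submonoid.powers s) Γ(X, D) (Localization.Away s)).restrictScalars Γ(S, V.1))

end Groth.Agent.S0451
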