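import Groth.Statements.S0457
import Groth.Agent.Lib.CohFound.Sheafify
import Groth.Agent.Lib.CohFound.Bridge

set_option autoImplicit false
universe u
open CategoryTheory
open CohTop

namespace Groth.Agent.S0457

open CategoryTheory TopologicalSpace Opposite Groth.Agent.CohFound in
/-- On an irreducible space every constant sheaf is flasque. -/
theorem isFlasque_const {X : TopCat.{u}} [IrreducibleSpace X] (A : Type u) [AddCommGroup A] :
    TopCat.Sheaf.IsFlasque (CohTop.const X A) := by
  let P : (Opens X)ᵒᵖ ⥤ AddCommGrpCat.{u} := (Functor.const _).obj (AddCommGrpCat.of A)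
  have key : ∀ (U : Opens X) (s : (shPre P).obj.obj (op U)), ∃ a : A, (toSh P).app (op U) a = s := by
    intro U s
    by_cases hU : (U : Set X).Nonempty
    · choose V hV hyV t ht using fun y : U => exists_local_toSh_eq P s y.2
      obtain ⟨y₀, hy₀⟩ := hU
      refine ⟨t ⟨y₀, hy₀⟩, TopCat.Sheaf.eq_of_locally_eq' (shPre P) V U (fun y => homOfLE (hV y))
        (fun y hy => Opens.mem_iSup.2 ⟨⟨y, hy⟩, hyV ⟨y, hy⟩⟩) _ s fun y => ?_⟩
      refine Eq.trans ?_ (ht y)
      obtain ⟨z, hzy, hz₀⟩ := nonempty_preirreducible_inter (V y).isOpen (V ⟨y₀, hy₀⟩).isOpen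
        ⟨y, hyV y⟩ ⟨y₀, hyV ⟨y₀, hy₀⟩⟩
      have h1 : ∀ (W : Opens X) (hW : W ≤ U) (a : A),
          (shPre P).obj.map (homOfLE hW).op ((toSh P).app (op U) a) = (toSh P).app (op W) a :=
        fun W hW a => (NatTrans.naturality_apply (toSh P) (homOfLE hW).op a).symm
      refine (h1 (V y) (hV y) _).trans (congrArg ((toSh P).app (op (V y))) ?_)
      obtain ⟨W, hW, hzW, h0⟩ := exists_local_eq_zero_of_toSh P
        (U := V y ⊓ V ⟨y₀, hy₀⟩) ((show A from t ⟨y₀, hy₀⟩) - (show A from t y)) (by
          have e : ∀ (u : U) (W : Opens X) (hW : W ≤ V u),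
              (toSh P).app (op W) (t u) = (shPre P).obj.map (homOfLE (hW.trans (hV u))).op s :=
            fun u W hW => (NatTrans.naturality_apply (toSh P) (homOfLE hW).op (t u)).trans
              ((congrArg _ (ht u)).trans (map_map_apply (shPre P) (hV u) hW s))
          rw [map_sub, sub_eq_zero]
          exact (e _ _ inf_le_right).trans (e _ _ inf_le_left).symm) (y := z) ⟨hzy, hz₀⟩
      exact sub_eq_zero.1 h0
    · refine ⟨0, TopCat.Sheaf.eq_of_locally_eq' (shPre P) (fun e : PEmpty.{u+1} => e.elim) U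
        (fun e => e.elim) (fun y hy => (hU ⟨y, hy⟩).elim) _ s fun e => e.elim⟩
  refine Groth.Agent.CohFound.isFlasque_mk _ fun U V h s => ?_
  obtain ⟨a, rfl⟩ := key _ s
  exact ⟨(toSh P).app _ a, (NatTrans.naturality_apply (toSh P) (homOfLE h).op a).symm⟩

/-- If X is an irreducible topological space and A an abelian group, then H^(p+1)(X, A) = 0 for the
constant sheaf with value A. -/
theorem result {X : TopCat.{u}} [IrreducibleSpace X]
    (A : Type u) [AddCommGroup A] (p : ℕ) : Subsingleton (CohTop.H (CohTop.const X A) (p + 1)) := by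
  have := isFlasque_const (X := X) A
  exact (Groth.Agent.CohFound.hExt _ (p + 1)).toEquiv.subsingleton_congr.2
    (Groth.Agent.CohFound.subsingleton_hc_of_isFlasque _ p ⊤)

end Groth.Agent.S0457
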