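import Groth.Statements.S0458
import Groth.Agent.Lib.SheafVan16.Noetherian

set_option autoImplicit false
universe u
open CategoryTheory
open CohTop

namespace Groth.Agent.S0458

/-- Let X be a Noetherian topological space whose Krull dimension (of the specialization order on
irreducible closed subsets) is at most d. Then H^p(X, F) = 0 for every abelian sheaf F and every p >
d. -/
theorem result {X : TopCat.{u}} [TopologicalSpace.NoetherianSpace X] (d : ℕ)
    (hd : topologicalKrullDim X ≤ d) (F : CohTop.Ab X) (p : ℕ) (hp : d < p) :
    Subsingleton (CohTop.H F p) := by
  rw [CohFound.subsingleton_H_iff]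
  refine SheafVan16.van_of_supp ⊤ d ?_ F (fun x hx => absurd trivial hx) p hp
  exact le_trans ((Topology.IsInducing.subtypeVal (t := ((⊤ : TopologicalSpace.Closeds X) : Set X))).topologicalKrullDim_le) hd

end Groth.Agent.S0458
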