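import Groth.Statements.S0460
import Groth.Agent.Lib.CohFound.Bridge
import Groth.Agent.Lib.CohFound.Flasque

set_option autoImplicit false
universe u
open CategoryTheory
open CohTop

namespace Groth.Agent.S0460

open TopologicalSpace in
/-- Given an abelian sheaf F, an open U and a class ξ in H^(n+1)(U, F), there is an open covering of U
on each member of which ξ restricts to zero. -/
theorem result {X : TopCat.{u}} (F : CohTop.Ab X) (U : Opens X) (n : ℕ)
    (ξ : CohTop.HU F (n + 1) U) :
    ∃ (ι : Type u) (V : ι → Opens X) (hV : ∀ i, V i ≤ U), iSup V = U ∧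
      ∀ i, CohTop.res F (n + 1) (hV i) ξ = 0 := by
  choose V hV hxV hξ using fun x : U =>
    CohFound.exists_cover_rs_eq_zero F U n (CohFound.huExt F (n + 1) U ξ) x.1 x.2
  refine ⟨U, V, hV, le_antisymm (iSup_le hV)
    (fun y hy => Opens.mem_iSup.2 ⟨⟨y, hy⟩, hxV ⟨y, hy⟩⟩), fun i => ?_⟩
  apply (CohFound.huExt F (n + 1) (V i)).injective
  rw [CohFound.huExt_res, hξ i, map_zero]

end Groth.Agent.S0460
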