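import Groth.Statements.S0461
import Groth.Agent.Lib.CohFound.RpushHc
import Groth.Agent.Lib.CohFound.Bridge
-- import your own Groth.Agent.* helpers here

set_option autoImplicit false
universe u
open CategoryTheory
open CohTop

namespace Groth.Agent.S0461

open TopologicalSpace CategoryTheory in
/-- The cohomology presheaf, in terms of `Hc`. -/
noncomputable def cohPreIso {X : TopCat.{u}} (F : CohTop.Ab X) (n : ℕ) :
    Groth.Agent.CohFound.hcPre F n ≅ Sheaf.cohomologyPresheaf.{u} F n :=
  NatIso.ofComponents (fun U => (Groth.Agent.CohFound.huExt F n U.unop).symm.toAddCommGrpIso)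
    fun {U V} i => by
      ext x
      apply (Groth.Agent.CohFound.huExt F n V.unop).injective
      refine (AddEquiv.apply_symm_apply _ _).trans ?_
      refine Eq.trans ?_ (Groth.Agent.CohFound.huExt_res F n (leOfHom i.unop)
        ((Groth.Agent.CohFound.huExt F n U.unop).symm x)).symm
      rw [AddEquiv.apply_symm_apply]
      rfl

open TopologicalSpace in
/-- For a continuous map f : X → Y and an abelian sheaf F on X, R^i f_* F is isomorphic to the
sheafification of the presheaf V ↦ H^i(f⁻¹(V), F) (with the restriction maps of cohomology). We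
assert the existence of an isomorphism of sheaves. -/
theorem result {X Y : TopCat.{u}} (f : X ⟶ Y) (F : CohTop.Ab X) (i : ℕ) :
    Nonempty ((CohTop.Rpush f i).obj F ≅
      (presheafToSheaf (Opens.grothendieckTopology Y) AddCommGrpCat.{u}).obj
        ((Opens.map f).op ⋙ Sheaf.cohomologyPresheaf.{u} F i)) := by
  obtain ⟨e⟩ := Groth.Agent.CohFound.nonempty_rpush_iso_shPre f F i
  exact ⟨e ≪≫ (presheafToSheaf (Opens.grothendieckTopology Y) AddCommGrpCat.{u}).mapIso
    (Functor.isoWhiskerLeft (Opens.map f).op (cohPreIso F i))⟩

end Groth.Agent.S0461
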