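import Groth.Statements.S0466
import Groth.Agent.Lib.CohFound.CechSite

set_option autoImplicit false
universe u
open CategoryTheory
open CohTop

namespace Groth.Agent.S0466

open TopologicalSpace Opposite in
/-- Consider a short exact sequence of abelian sheaves with kernel F, middle term G and quotient H, and
an open U. If every open covering of U admits a refinement on which the first Cech cohomology of F
vanishes, then sections of G over U map onto sections of H over U. -/
theorem result {X : TopCat.{u}}
    (S : CategoryTheory.ShortComplex (CohTop.Ab X)) (hS : S.ShortExact) (U : Opens X)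
    (h : ∀ (ι : Type u) (V : ι → Opens X), iSup V = U →
      ∃ (κ : Type u) (W : κ → Opens X) (r : κ → ι), iSup W = U ∧ (∀ k, W k ≤ V (r k)) ∧
        CategoryTheory.Limits.IsZero (CohTop.cechH S.X₁.obj W 1)) :
    Function.Surjective (S.g.hom.app (op U)) := by
  refine Groth.Agent.SiteCoh.surjective_of_cech (J := Opens.grothendieckTopology X) hS fun T hT => ?_
  choose W i hi hx using fun x : U => hT x x.2
  obtain ⟨κ, V, r, hV, hle, h0⟩ := h U W (le_antisymm (iSup_le fun x => CategoryTheory.leOfHom (i x))
    fun x hx' => Opens.mem_iSup.2 ⟨⟨x, hx'⟩, hx ⟨x, hx'⟩⟩)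
  refine ⟨κ, Groth.Agent.CohFound.famOver V (fun j => hV ▸ le_iSup V j), fun j => ?_,
    Groth.Agent.CohFound.ofArrows_famOver_mem V _ hV.ge, ?_⟩
  · exact T.downward_closed (hi (r j)) (CategoryTheory.homOfLE (hle j))
  · exact (Groth.Agent.SiteCoh.isZero_cechH_iff _ S.X₁ 0).1
      ((Groth.Agent.CohFound.isZero_cechH_iff V _ S.X₁.obj 1).2 h0)

end Groth.Agent.S0466
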