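import Groth.Statements.S0479
import Groth.Agent.Lib.KInj.DerivedBrown

set_option autoImplicit false
universe v u
open CategoryTheory
open CohDer

namespace Groth.Agent.S0479


open CategoryTheory.Limits CategoryTheory.Pretriangulated.Opposite in
/-- For A Grothendieck abelian, every cohomological functor from D(A)^op to abelian groups that turns
coproducts into products is of the form Hom(-, X) for some object X of D(A). -/
theorem result {A : Type u} [Category.{v} A] [Abelian A]
    [IsGrothendieckAbelian.{v} A] [HasDerivedCategory.{v} A]
    (H : (DerivedCategory A)ᵒᵖ ⥤ AddCommGrpCat.{v}) [H.IsHomological]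
    [∀ (ι : Type v), PreservesLimitsOfShape (Discrete ι) H] :
    (H ⋙ forget AddCommGrpCat.{v}).IsRepresentable := by
  exact Groth.Agent.KInjLib.isRepresentable_derivedCategory H


end Groth.Agent.S0479
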