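import Groth.Statements.S0480
import Groth.Agent.Lib.KInj.Basic

set_option autoImplicit false
universe v u
open CategoryTheory
open CohDer

namespace Groth.Agent.S0480


open CategoryTheory.Limits in
/-- In an abelian category, if the product of a family of K-injective cochain complexes exists (it is
then the termwise product), it is again K-injective. -/
theorem result {A : Type u} [Category.{v} A] [Abelian A] {T : Type v} (I : T → CochainComplex A ℤ)
    [HasProduct I] (h : ∀ t, (I t).IsKInjective) : (∏ᶜ I).IsKInjective := by
  exact Groth.Agent.KInjLib.isKInjective_pi I h


end Groth.Agent.S0480
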