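import Groth.Statements.S0484
import Groth.Agent.Lib.CohFound.ModulesInst

set_option autoImplicit false
universe u
open CategoryTheory
open CohSite

namespace Groth.Agent.S0484
set_option linter.style.haveILetI false
set_option backward.isDefEq.respectTransparency false
set_option backward.isDefEq.respectTransparency.types false


/-- For a sheaf of rings O on a small site, the category of O-modules has exact filtered colimits and a
generator, so it is a Grothendieck abelian category. -/
theorem result {C : Type u} [SmallCategory C] (J : GrothendieckTopology C)
    (R : Sheaf J RingCat.{u}) : IsGrothendieckAbelian.{u} (SheafOfModules.{u} R) := by
  exact Groth.Agent.CohFound.isGrothendieckAbelian_sheafOfModules R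

end Groth.Agent.S0484
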