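import Groth.Statements.S0488
import Groth.Agent.Lib.SiteCoh.OverSite
import Groth.Agent.Lib.KInj.Basic
import Mathlib.Topology.Sheaves.Over
import Groth.Agent.Lib.CohFound.Inst

set_option autoImplicit false
universe u
open CohTop

namespace Groth.Agent.S0488
set_option linter.style.haveILetI false
set_option backward.isDefEq.respectTransparency false
set_option backward.isDefEq.respectTransparency.types false
open CategoryTheory CategoryTheory.Limits in


open TopologicalSpace in
/-- For an open U of X, restriction to U sends K-injective complexes of abelian sheaves on X to
K-injective complexes on U. -/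
theorem result {X : TopCat.{u}} (U : Opens X) (I : CochainComplex (CohTop.Ab X) ℤ)
    (h : I.IsKInjective) :
    CochainComplex.IsKInjective (((CohTop.restrFunctor U).mapHomologicalComplex (ComplexShape.up ℤ)).obj I) := by
  let J := Opens.grothendieckTopology (X : Type u)
  let e := U.sheafEquivOver (A := AddCommGrpCat.{u})
  haveI := Groth.Agent.SiteCoh.preservesFiniteLimits_over_pullback J U
  have adj := Groth.Agent.SiteCoh.restrictAdj J U
  haveI : PreservesFiniteColimits ((Over.forget U).sheafPullback AddCommGrpCat.{u} (J.over U) J) :=
    haveI := (adj.leftAdjoint_preservesColimits : PreservesColimitsOfSize.{0, 0} _)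
    PreservesColimitsOfSize.preservesFiniteColimits _
  haveI := adj.left_adjoint_additive
  haveI : e.inverse.Additive := Functor.additive_of_preserves_binary_products _
  haveI : e.functor.Additive := Functor.additive_of_preserves_binary_products _
  haveI := h
  haveI := Groth.Agent.KInjLib.isKInjective_of_adj (Groth.Agent.SiteCoh.restrict J U)
    ((Over.forget U).sheafPullback AddCommGrpCat.{u} (J.over U) J) adj I
  exact Groth.Agent.KInjLib.isKInjective_of_adj e.functor e.inverse e.symm.toAdjunction
    (((Groth.Agent.SiteCoh.restrict J U).mapHomologicalComplex (ComplexShape.up ℤ)).obj I)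

end Groth.Agent.S0488
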