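import Groth.Statements.S0489
import Mathlib.Algebra.Homology.HomotopyCategory.KInjective

set_option autoImplicit false
universe v u
open CategoryTheory
open CohDer

namespace Groth.Agent.S0489


open CategoryTheory.Limits Opposite in
/-- Let … → I_3 → I_2 → I_1 be an inverse system of K-injective cochain complexes in an abelian category
with sequential limits, such that each transition map is a split epimorphism in each degree. Then
the (termwise) limit complex is K-injective. -/
theorem result {A : Type u} [Category.{v} A] [Abelian A] [HasLimitsOfShape ℕᵒᵖ A]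
    (I : ℕᵒᵖ ⥤ CochainComplex A ℤ) (h1 : ∀ n : ℕ, (I.obj (op n)).IsKInjective)
    (h2 : ∀ (n : ℕ) (m : ℤ), IsSplitEpi ((I.map (homOfLE (Nat.le_succ n)).op).f m)) :
    (limit I).IsKInjective := by
  refine ⟨fun {K} f hK => ?_⟩
  let π : ∀ n : ℕ, limit I ⟶ I.obj (op n) := fun n => limit.π I (op n)
  let τ : ∀ n : ℕ, I.obj (op (n + 1)) ⟶ I.obj (op n) := fun n => I.map (homOfLE (Nat.le_succ n)).op
  have hπ : ∀ n, π (n + 1) ≫ τ n = π n := fun n => limit.w I _
  have key : ∀ n, ∀ z : {z : CochainComplex.HomComplex.Cochain K (I.obj (op n)) (-1) //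
      CochainComplex.HomComplex.δ (-1) 0 z = CochainComplex.HomComplex.Cochain.ofHom (f ≫ π n)},
      ∃ z' : {z : CochainComplex.HomComplex.Cochain K (I.obj (op (n + 1))) (-1) //
        CochainComplex.HomComplex.δ (-1) 0 z = CochainComplex.HomComplex.Cochain.ofHom (f ≫ π (n + 1))},
        z'.1.comp (CochainComplex.HomComplex.Cochain.ofHom (τ n)) (add_zero _) = z.1 := by
    rintro n ⟨z, hz⟩
    have := h1 n
    have := h1 (n + 1)
    obtain ⟨w, hw⟩ := CochainComplex.IsKInjective.eq_δ_of_cocycle
      (CochainComplex.HomComplex.Cocycle.ofHom (f ≫ π (n + 1))) hK (-1) (by simp)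
    simp only [CochainComplex.HomComplex.Cocycle.ofHom_coe] at hw
    obtain ⟨e, he⟩ := CochainComplex.IsKInjective.eq_δ_of_cocycle
      (CochainComplex.HomComplex.Cocycle.mk
        (w.comp (CochainComplex.HomComplex.Cochain.ofHom (τ n)) (add_zero _) - z) 0 (by simp) (by
          rw [CochainComplex.HomComplex.δ_sub, CochainComplex.HomComplex.δ_comp_ofHom, hw, hz,
            ← CochainComplex.HomComplex.Cochain.ofHom_comp, Category.assoc, hπ, sub_self]))
      hK (-2) (by simp)
    simp only [CochainComplex.HomComplex.Cocycle.mk_coe] at he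
    let s : CochainComplex.HomComplex.Cochain (I.obj (op n)) (I.obj (op (n + 1))) 0 :=
      CochainComplex.HomComplex.Cochain.ofHoms fun m => (h2 n m).exists_splitEpi.some.section_
    have hs : s.comp (CochainComplex.HomComplex.Cochain.ofHom (τ n)) (add_zero _) =
        CochainComplex.HomComplex.Cochain.ofHom (𝟙 _) := by
      ext m
      simp only [CochainComplex.HomComplex.Cochain.comp_zero_cochain_v,
        CochainComplex.HomComplex.Cochain.ofHom_v, HomologicalComplex.id_f]
      simp only [s, CochainComplex.HomComplex.Cochain.ofHoms_v]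
      exact (h2 n m).exists_splitEpi.some.id
    refine ⟨⟨w - CochainComplex.HomComplex.δ (-2) (-1) (e.comp s (add_zero _)), by
      rw [CochainComplex.HomComplex.δ_sub, CochainComplex.HomComplex.δ_δ, sub_zero, hw]⟩, ?_⟩
    change CochainComplex.HomComplex.Cochain.comp
      (w - CochainComplex.HomComplex.δ (-2) (-1) (e.comp s (add_zero _))) _ _ = z
    rw [CochainComplex.HomComplex.Cochain.sub_comp, ← CochainComplex.HomComplex.δ_comp_ofHom,
      CochainComplex.HomComplex.Cochain.comp_assoc_of_third_is_zero_cochain, hs,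
      CochainComplex.HomComplex.Cochain.comp_id, he, sub_sub_cancel]
  have := h1 0
  obtain ⟨z₀, hz₀⟩ := CochainComplex.IsKInjective.eq_δ_of_cocycle
    (CochainComplex.HomComplex.Cocycle.ofHom (f ≫ π 0)) hK (-1) (by simp)
  simp only [CochainComplex.HomComplex.Cocycle.ofHom_coe] at hz₀
  choose next hnext using key
  let Z : ∀ n, {z : CochainComplex.HomComplex.Cochain K (I.obj (op n)) (-1) //
      CochainComplex.HomComplex.δ (-1) 0 z = CochainComplex.HomComplex.Cochain.ofHom (f ≫ π n)} :=
    fun n => Nat.rec ⟨z₀, hz₀⟩ next n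
  have hZ : ∀ n, (Z (n + 1)).1.comp (CochainComplex.HomComplex.Cochain.ofHom (τ n)) (add_zero _) =
      (Z n).1 := fun n => hnext n (Z n)
  let hlim : ∀ q, IsLimit ((HomologicalComplex.eval A _ q).mapCone (limit.cone I)) := fun q =>
    isLimitOfPreserves _ (limit.isLimit I)
  have compat : ∀ (p q : ℤ) (h : p + -1 = q) (a b : ℕᵒᵖ) (g : a ⟶ b),
      (Z a.unop).1.v p q h ≫ (I.map g).f q = (Z b.unop).1.v p q h := by
    rintro p q h ⟨a⟩ ⟨b⟩ g
    obtain ⟨d, rfl⟩ := Nat.exists_eq_add_of_le (leOfHom g.unop)
    induction d with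
    | zero =>
      simp only [show g = 𝟙 _ from Quiver.Hom.unop_inj (Subsingleton.elim _ _), I.map_id,
        HomologicalComplex.id_f]
      exact Category.comp_id _
    | succ d ih =>
      rw [show g = (homOfLE (Nat.le_succ (b + d))).op ≫ (homOfLE (Nat.le_add_right b d)).op from
        Quiver.Hom.unop_inj (Subsingleton.elim _ _), I.map_comp, HomologicalComplex.comp_f,
        ← Category.assoc]
      refine (congrArg (· ≫ _) ?_).trans (ih (homOfLE (Nat.le_add_right b d)).op)
      have := CochainComplex.HomComplex.Cochain.congr_v (hZ (b + d)) p q h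
      rw [CochainComplex.HomComplex.Cochain.comp_zero_cochain_v,
        CochainComplex.HomComplex.Cochain.ofHom_v] at this
      exact this
  let H : CochainComplex.HomComplex.Cochain K (limit I) (-1) :=
    CochainComplex.HomComplex.Cochain.mk fun p q h => (hlim q).lift
      { pt := K.X p
        π := { app := fun a => (Z a.unop).1.v p q h
               naturality := fun a b g => by
                 dsimp
                 rw [Category.id_comp]
                 exact (compat p q h a b g).symm } }
  have hH : ∀ n, H.comp (CochainComplex.HomComplex.Cochain.ofHom (π n)) (add_zero _) = (Z n).1 := fun n => by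
    ext p q h
    rw [CochainComplex.HomComplex.Cochain.comp_zero_cochain_v]
    rw [CochainComplex.HomComplex.Cochain.ofHom_v]
    exact (hlim q).fac _ (op n)
  refine ⟨(CochainComplex.HomComplex.Cochain.equivHomotopy f 0).symm ⟨H, ?_⟩⟩
  rw [CochainComplex.HomComplex.Cochain.ofHom_zero, add_zero]
  refine CochainComplex.HomComplex.Cochain.ext₀ _ _ fun p => (hlim p).hom_ext fun a => ?_
  have := CochainComplex.HomComplex.Cochain.congr_v
    ((congrArg (CochainComplex.HomComplex.δ (-1) 0) (hH a.unop)).trans (Z a.unop).2) p p (add_zero p)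
  rw [CochainComplex.HomComplex.δ_comp_ofHom,
    CochainComplex.HomComplex.Cochain.comp_zero_cochain_v] at this
  simp [π] at this ⊢
  exact this.symm


end Groth.Agent.S0489
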