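import Groth.Statements.S0492
import Groth.Agent.Lib.SiteCoh.Acyclic
import Mathlib.CategoryTheory.Abelian.GrothendieckAxioms.Basic

set_option autoImplicit false
universe u
open CategoryTheory
open CohSite

namespace Groth.Agent.S0492
set_option linter.style.haveILetI false
set_option backward.isDefEq.respectTransparency false
set_option backward.isDefEq.respectTransparency.types false


open CategoryTheory.Limits in
/-- Part (4), for sheaves of abelian groups: let B be a set of weakly contractible objects of a small
site such that every object admits a covering family by members of B. Then products in the category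
of abelian sheaves are exact (Grothendieck's AB4*). -/
theorem result {C : Type u} [SmallCategory C] (J : GrothendieckTopology C)
    (B : Set C) (hB : ∀ U ∈ B, CohSite.IsWeaklyContractible J U)
    (hcov : ∀ V : C, ∃ (ι : Type u) (U : ι → C) (f : ∀ i, U i ⟶ V), (∀ i, U i ∈ B) ∧ Sieve.ofArrows U f ∈ J V) :
    AB4Star (Sheaf J AddCommGrpCat.{u}) := by
  refine ⟨fun α => ?_⟩
  suffices (lim : (Discrete α ⥤ Sheaf J AddCommGrpCat.{u}) ⥤ Sheaf J AddCommGrpCat.{u}).PreservesEpimorphisms from
    hasExactLimitsOfShape_of_preservesEpi _ _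
  refine ⟨fun {F G} φ hφ => ?_⟩
  haveI := hφ
  refine (Sheaf.isLocallySurjective_iff_epi' _ _).1 ⟨fun {V} s => ?_⟩
  obtain ⟨ι, U, f, hUB, hf⟩ := hcov V
  refine J.superset_covering ?_ hf
  refine Sieve.generate_le_iff _ _ |>.2 ?_
  rintro _ _ ⟨i⟩
  let Γ : Sheaf J AddCommGrpCat.{u} ⥤ Type u :=
    sheafToPresheaf J AddCommGrpCat.{u} ⋙ (evaluation Cᵒᵖ AddCommGrpCat.{u}).obj (Opposite.op (U i)) ⋙
      forget AddCommGrpCat.{u}
  let eF := Types.isLimitEquivSections (isLimitOfPreserves Γ (limit.isLimit F))
  let eG := Types.isLimitEquivSections (isLimitOfPreserves Γ (limit.isLimit G))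
  let s' : Γ.obj (limit G) := (limit G).obj.map (f i).op s
  have hs : ∀ a, Function.Surjective ((φ.app a).hom.app (Opposite.op (U i))) := fun a =>
    haveI : Epi (φ.app a) := inferInstance
    Groth.Agent.SiteCoh.surjective_of_weaklyContractible (hB _ (hUB i)) _
  choose t ht using fun a => hs a (Γ.map (limit.π G a) s')
  let x : Γ.obj (limit F) := eF.symm ⟨t, fun {a b} g => by
    obtain rfl : a = b := Discrete.ext (Discrete.eq_of_hom g)
    obtain rfl : g = 𝟙 _ := Subsingleton.elim _ _
    show (F ⋙ Γ).map (𝟙 _) (t a) = t a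
    rw [CategoryTheory.Functor.map_id]
    rfl⟩
  refine ⟨x, ?_⟩
  show Γ.map (limMap φ) x = s'
  apply eG.injective
  apply Subtype.ext
  funext a
  have h1 : Γ.map (limit.π F a) x = t a := congrFun (congrArg Subtype.val (eF.apply_symm_apply _)) a
  show Γ.map (limit.π G a) (Γ.map (limMap φ) x) = Γ.map (limit.π G a) s'
  rw [← ht, ← Functor.map_comp_apply, limMap_π, Functor.map_comp_apply, h1]
  rfl

end Groth.Agent.S0492
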