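import Groth.Statements.S0494
import Groth.Agent.Lib.CohFound.Leray
import Groth.Agent.Lib.CohFound.Bridge

set_option autoImplicit false
universe u
open CohTop

namespace Groth.Agent.S0494

open Opposite in
/-- If H^p(Y, R^q f_* F) = 0 for all q and all p > 0, then H^q(X, F) ≅ Γ(Y, R^q f_* F) for every q
(existence of a group isomorphism). -/
theorem result {X Y : TopCat.{u}} (f : X ⟶ Y) (F : CohTop.Ab X)
    (h : ∀ p q : ℕ, Subsingleton (CohTop.H ((CohTop.Rpush f q).obj F) (p + 1))) (q : ℕ) :
    Nonempty (CohTop.H F q ≃+ ((CohTop.Rpush f q).obj F).obj.obj (op ⊤)) := by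
  open Groth.Agent.CohFound CategoryTheory in
  exact (by
    let I := injectiveResolution F
    have hH : ∀ n j, Subsingleton (Hc
        ((((CohTop.push f).mapHomologicalComplex (ComplexShape.up ℕ)).obj (augOfInj I).K).homology n)
        (j + 1) (⊤ : TopologicalSpace.Opens Y)) := fun n j => by
      have h1 := (hExt _ (j + 1)).toEquiv.subsingleton_congr.1 (h j n)
      refine subsingleton_of_forall_eq 0 fun x => ?_
      let e := I.isoRightDerivedObj (CohTop.push f) n
      have hx : x = mp e.hom (j + 1) ⊤ (mp e.inv (j + 1) ⊤ x) := by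
        rw [← mp_comp, e.inv_hom_id, mp_id]
      exact hx.trans ((congrArg (mp e.hom (j + 1) ⊤)
        (Subsingleton.elim (mp e.inv (j + 1) ⊤ x) 0)).trans (map_zero _))
    have hC : ∀ n j, Subsingleton (Hc ((CohTop.push f).obj ((augOfInj I).K.X n)) (j + 1)
        (⊤ : TopologicalSpace.Opens Y)) := fun n j => by
      have : Injective ((augOfInj I).K.X n) := I.injective n
      have := isFlasque_of_injective ((augOfInj I).K.X n)
      have : TopCat.Sheaf.IsFlasque ((CohTop.push f).obj ((augOfInj I).K.X n)) :=
        TopCat.Sheaf.IsFlasque.pushforward_isFlasque _ f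
      exact subsingleton_hc_of_isFlasque _ j ⊤
    obtain ⟨e⟩ := nonempty_sections_of_acyclic (augOfInj I) (fun W => acyclicOn_augOfInj I W) f hC hH q
    exact ⟨((hExt F q).trans e.symm).trans
      (((sheafToPresheaf _ _).mapIso (I.isoRightDerivedObj (CohTop.push f) q).symm).app
        (op (⊤ : TopologicalSpace.Opens Y))).addCommGroupIsoToAddEquiv⟩)

end Groth.Agent.S0494
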