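import Groth.Statements.S0496
import Groth.Agent.Lib.Hens.Misc
-- import your own Groth.Agent.* helpers here

set_option autoImplicit false
universe u
open Hensel

namespace Groth.Agent.S0496

/-- If every factorization of the reduction of a monic polynomial into two coprime factors over the
residue field lifts to a factorization over the local ring, then the local ring is henselian. -/
theorem result (R : Type u) [CommRing R] [IsLocalRing R]
    (h : ∀ f : Polynomial R, f.Monic →
      ∀ g₀ h₀ : Polynomial (IsLocalRing.ResidueField R), IsCoprime g₀ h₀ →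
      Polynomial.map (IsLocalRing.residue R) f = g₀ * h₀ →
      ∃ g h : Polynomial R, f = g * h ∧ Polynomial.map (IsLocalRing.residue R) g = g₀ ∧
        Polynomial.map (IsLocalRing.residue R) h = h₀) :
    HenselianLocalRing R := by
  refine ⟨fun f hf a₀ h₀ h₁ => ?_⟩
  have hb : (f.map (IsLocalRing.residue R)).IsRoot (IsLocalRing.residue R a₀) := by
    rw [Polynomial.IsRoot, Polynomial.eval_map, Polynomial.eval₂_at_apply]
    exact (IsLocalRing.residue_eq_zero_iff _).mpr h₀
  obtain ⟨q, hq⟩ := Polynomial.dvd_iff_isRoot.mpr hb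
  have hqb : q.eval (IsLocalRing.residue R a₀) ≠ 0 := by
    have h2 : IsLocalRing.residue R (f.derivative.eval a₀) ≠ 0 :=
      (IsLocalRing.residue_ne_zero_iff_isUnit _).mpr h₁
    rw [← Polynomial.eval₂_at_apply, ← Polynomial.eval_map, ← Polynomial.derivative_map, hq] at h2
    simpa [Polynomial.derivative_mul] using h2
  obtain ⟨g, g', hfg, hg, hg'⟩ := h f hf _ q (Hens.isCoprime_X_sub_C_of_isUnit_eval (isUnit_iff_ne_zero.mpr hqb)) hq
  obtain ⟨a, ha, haI⟩ := Hens.exists_root_of_factor hfg hf hg hq
  exact ⟨a, ha, haI⟩

end Groth.Agent.S0496
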