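import Mathlib.RingTheory.Henselian
import Mathlib.RingTheory.LocalRing.ResidueField.Basic
import Groth.Agent.Lib.CanElt.FactorLift

set_option autoImplicit false
universe u
namespace Hensel
end Hensel
open Hensel

namespace Groth.Agent.S0497

/-- Over a henselian local ring, any factorization of the reduction of a polynomial (not necessarily
monic) into a monic factor and a factor coprime to it lifts to a factorization over the ring in
which the lift of the monic factor is again monic (so it has the same degree as its reduction). -/
theorem result (R : Type u) [CommRing R] [HenselianLocalRing R]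
    (f : Polynomial R) (g₀ h₀ : Polynomial (IsLocalRing.ResidueField R)) (hg : g₀.Monic)
    (hc : IsCoprime g₀ h₀) (hf : Polynomial.map (IsLocalRing.residue R) f = g₀ * h₀) :
    ∃ g h : Polynomial R, f = g * h ∧ g.Monic ∧ Polynomial.map (IsLocalRing.residue R) g = g₀ ∧
      Polynomial.map (IsLocalRing.residue R) h = h₀ := by
  exact Groth.Agent.CanElt.exists_factor_lift R f g₀ h₀ hg hc hf

end Groth.Agent.S0497
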