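import Mathlib.RingTheory.Henselian
import Mathlib.RingTheory.LocalRing.ResidueField.Basic
import Mathlib.RingTheory.LocalRing.RingHom.Basic
import Groth.Prelude.Def_Hensel
import Mathlib.RingTheory.RegularLocalRing.Defs
import Groth.Agent.Lib.Hens.Transfer

set_option autoImplicit false
universe u
open Hensel

namespace Groth.Agent.S0513

/-- A Noetherian local ring is regular exactly when its henselization is a regular local ring. -/
theorem result (R : Type u) [CommRing R] [IsLocalRing R] (S : Type u) [CommRing S] [IsLocalRing S]
    [Algebra R S] [IsLocalHom (algebraMap R S)] [Hensel.IsHenselization R S] [IsNoetherianRing R] :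
    IsRegularLocalRing R ↔ IsRegularLocalRing S := by
  haveI := Groth.Agent.Hens.henselization_flat R S; haveI := Groth.Agent.Hens.henselization_isNoetherianRing R S; exact Groth.Agent.RegLoc.isRegularLocalRing_iff_of_map_maximalIdeal (Groth.Agent.Hens.henselization_map_maximalIdeal R S)

end Groth.Agent.S0513
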