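import Mathlib.RingTheory.Henselian
import Mathlib.RingTheory.LocalRing.ResidueField.Basic
import Mathlib.RingTheory.LocalRing.RingHom.Basic
import Groth.Prelude.Def_Hensel
import Mathlib.RingTheory.IntegralClosure.IntegrallyClosed
import Groth.Agent.Lib.Hens.Normal

set_option autoImplicit false
universe u
open Hensel

namespace Groth.Agent.S0515

/-- A local ring is an integrally closed domain exactly when its henselization is. -/
theorem result (R : Type u) [CommRing R] [IsLocalRing R] (S : Type u) [CommRing S] [IsLocalRing S]
    [Algebra R S] [IsLocalHom (algebraMap R S)] [Hensel.IsHenselization R S] :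
    (IsDomain R ∧ IsIntegrallyClosed R) ↔ (IsDomain S ∧ IsIntegrallyClosed S) := by
  exact Groth.Agent.Hens.henselization_normal_iff R S

end Groth.Agent.S0515
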