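import Groth.Statements.S0517
import Groth.Agent.Lib.Hens.Pair
import Groth.Agent.Lib.Hens.Fibre
-- import your own Groth.Agent.* helpers here

set_option autoImplicit false
universe u
open Hensel

namespace Groth.Agent.S0517

open IsLocalRing TensorProduct

theorem bijective_comp (R : Type u) [CommRing R] [HenselianLocalRing R]
    [IsSepClosed (IsLocalRing.ResidueField R)] (S : Type u) [CommRing S] [IsLocalRing S]
    [Algebra R S] [IsLocalHom (algebraMap R S)] (E : Type u) [CommRing E] [Algebra R E]
    [Algebra.Etale R E] :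
    Function.Bijective (fun τ : E →ₐ[R] R => (Algebra.ofId R S).comp τ) := by
  constructor
  · intro τ τ' h
    refine Hens.algHom_ext_of_le_jacobson (J := maximalIdeal R) (maximalIdeal_le_jacobson ⊥)
      fun x => ?_
    have hx : algebraMap R S (τ x - τ' x) = 0 := by
      rw [map_sub, sub_eq_zero]
      exact congr($h x)
    by_contra hu
    have : IsUnit (τ x - τ' x) := not_not.mp hu
    exact not_isUnit_zero (hx ▸ this.map (algebraMap R S))
  · intro σ
    let g : E →ₐ[R] ResidueField S := (IsScalarTower.toAlgHom R S (ResidueField S)).comp σ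
    let χ : ResidueField R ⊗[R] E →ₐ[ResidueField R] ResidueField S :=
      Algebra.TensorProduct.lift (Algebra.ofId _ _) g fun _ _ => Commute.all _ _
    have hmem : ∀ x : E, ∃ c, algebraMap (ResidueField R) (ResidueField S) c = g x := by
      intro x
      have hsep : IsSeparable (ResidueField R) (g x) := by
        have := Hens.isSeparable_algHom_apply χ (1 ⊗ₜ x)
        simpa [χ] using this
      exact minpoly.degree_eq_one_iff.mp (IsSepClosed.degree_eq_one_of_irreducible
        (k := ResidueField R) (minpoly.irreducible hsep.isIntegral) hsep)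
    let e : ResidueField R →ₐ[R] ResidueField S := IsScalarTower.toAlgHom R _ _
    have he : Function.Injective e := (e : ResidueField R →+* ResidueField S).injective
    have hle : ∀ x, g x ∈ e.range := fun x => hmem x
    let σ₀ : E →ₐ[R] ResidueField R :=
      ((AlgEquiv.ofInjective e he).symm.toAlgHom).comp (g.codRestrict e.range hle)
    have hσ₀ : ∀ x, e (σ₀ x) = g x := fun x =>
      congrArg Subtype.val ((AlgEquiv.ofInjective e he).apply_symm_apply (g.codRestrict e.range hle x))
    obtain ⟨τ, hτ⟩ := Hens.exists_lift_of_henselianRing (Hens.henselianRing_maximalIdeal R)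
      (E := E) σ₀
    refine ⟨τ, Hens.algHom_ext_of_le_jacobson (J := maximalIdeal S) (maximalIdeal_le_jacobson ⊥)
      fun x => ?_⟩
    rw [← residue_eq_zero_iff, map_sub, sub_eq_zero]
    calc residue S (algebraMap R S (τ x)) = e (residue R (τ x)) :=
          (ResidueField.algebraMap_residue (R := R) (S := S) (τ x)).symm
      _ = e (σ₀ x) := congrArg e congr($hτ x)
      _ = residue S (σ x) := hσ₀ x

/-- Given strictly henselian local rings `R` and `S`, a local ring map `φ` between them, and a square
system of `n` polynomial equations in `n` unknowns over `R` whose quotient algebra is étale over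
`R`, applying `φ` coordinatewise matches the solutions of the system in `Rⁿ` bijectively with the
solutions of the transported system in `Sⁿ`. -/
theorem result (R : Type u) [CommRing R]
    [HenselianLocalRing R] [IsSepClosed (IsLocalRing.ResidueField R)] (S : Type u) [CommRing S]
    [HenselianLocalRing S] [IsSepClosed (IsLocalRing.ResidueField S)] (φ : R →+* S) [IsLocalHom φ] (n : ℕ)
    (P : Fin n → MvPolynomial (Fin n) R)
    [Algebra.Etale R (MvPolynomial (Fin n) R ⧸ Ideal.span (Set.range P))] :
    Set.BijOn (fun r : Fin n → R => φ ∘ r)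
      {r : Fin n → R | ∀ i, MvPolynomial.eval r (P i) = 0}
      {s : Fin n → S | ∀ i, MvPolynomial.eval s (MvPolynomial.map φ (P i)) = 0} := by
  algebraize [φ]
  have : IsLocalHom (algebraMap R S) := ‹IsLocalHom φ›
  have hb := bijective_comp R S (MvPolynomial (Fin n) R ⧸ Ideal.span (Set.range P))
  let π : MvPolynomial (Fin n) R →ₐ[R] MvPolynomial (Fin n) R ⧸ Ideal.span (Set.range P) :=
    Ideal.Quotient.mkₐ R _
  have mk : ∀ (T : Type u) [CommRing T] [Algebra R T] (t : Fin n → T),
      (∀ i, MvPolynomial.aeval t (P i) = 0) →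
      ∃ σ : (MvPolynomial (Fin n) R ⧸ Ideal.span (Set.range P)) →ₐ[R] T,
        σ.comp π = MvPolynomial.aeval t := by
    intro T _ _ t ht
    refine ⟨Ideal.Quotient.liftₐ _ (MvPolynomial.aeval t) ?_, Ideal.Quotient.liftₐ_comp _ _ _⟩
    intro a ha
    induction ha using Submodule.span_induction with
    | mem x hx => obtain ⟨i, rfl⟩ := hx; exact ht i
    | zero => exact map_zero _
    | add x y _ _ hx hy => rw [map_add, hx, hy, add_zero]
    | smul c x _ hx => rw [smul_eq_mul, map_mul, hx, mul_zero]
  have haev : ∀ (r : Fin n → R) (q : MvPolynomial (Fin n) R),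
      MvPolynomial.aeval r q = MvPolynomial.eval r q := fun r q => rfl
  have hev : ∀ (s : Fin n → S) (q : MvPolynomial (Fin n) R),
      MvPolynomial.eval s (MvPolynomial.map φ q) = MvPolynomial.aeval s q := fun s q => by
    rw [MvPolynomial.eval_map]; rfl
  refine ⟨fun r hr i => ?_, fun r hr r' hr' h => ?_, fun s hs => ?_⟩
  · rw [hev, show MvPolynomial.aeval (φ ∘ r) (P i) = algebraMap R S (MvPolynomial.aeval r (P i))
      from (MvPolynomial.aeval_algebraMap_apply (B := S) r (P i)), haev, hr i, map_zero]
  · obtain ⟨τ, hτ⟩ := mk R r hr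
    obtain ⟨τ', hτ'⟩ := mk R r' hr'
    have : τ = τ' := hb.1 <| Ideal.Quotient.algHom_ext R <| MvPolynomial.algHom_ext fun i => by
      have h1 := congr($hτ (MvPolynomial.X i))
      have h2 := congr($hτ' (MvPolynomial.X i))
      simp only [AlgHom.comp_apply, π, MvPolynomial.aeval_X] at h1 h2 ⊢
      rw [h1, h2]
      exact congrFun h i
    funext i
    have h1 := congr($hτ (MvPolynomial.X i))
    rw [this, hτ'] at h1
    simpa using h1.symm
  · obtain ⟨σ, hσ⟩ := mk S s fun i => by rw [← hev]; exact hs i
    obtain ⟨τ, hτ⟩ := hb.2 σ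
    refine ⟨fun i => τ (π (MvPolynomial.X i)), fun i => ?_, ?_⟩
    · rw [← haev, show MvPolynomial.aeval (fun i => τ (π (MvPolynomial.X i))) = τ.comp π from
        (MvPolynomial.aeval_unique (τ.comp π)).symm]
      simp only [AlgHom.comp_apply, π, Ideal.Quotient.mkₐ_eq_mk]
      rw [Ideal.Quotient.eq_zero_iff_mem.mpr (Ideal.subset_span (Set.mem_range_self i)), map_zero]
    · funext i
      exact (congr($hτ (π (MvPolynomial.X i)))).trans
        ((congr($hσ (MvPolynomial.X i))).trans (MvPolynomial.aeval_X s i))

end Groth.Agent.S0517
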