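import Mathlib.RingTheory.Henselian
import Mathlib.RingTheory.LocalRing.ResidueField.Basic
import Mathlib.RingTheory.Etale.Basic
import Mathlib.RingTheory.TensorProduct.Basic
import Groth.Agent.Lib.Hens.EtaleLift

set_option autoImplicit false
universe u
namespace Hensel
end Hensel
open Hensel

namespace Groth.Agent.S0518

/-- Over a henselian local ring `R` with residue field `κ`, every finite étale `κ`-algebra is the base
change of some finite étale `R`-algebra. -/
theorem result (R : Type u) [CommRing R]
    [HenselianLocalRing R] (A : Type u) [CommRing A] [Algebra (IsLocalRing.ResidueField R) A]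
    [Module.Finite (IsLocalRing.ResidueField R) A] [Algebra.Etale (IsLocalRing.ResidueField R) A] :
    ∃ (S : Type u) (_ : CommRing S) (_ : Algebra R S), Module.Finite R S ∧ Algebra.Etale R S ∧
      Nonempty (TensorProduct R (IsLocalRing.ResidueField R) S ≃ₐ[IsLocalRing.ResidueField R] A) := by
  let i1 : Algebra (R ⧸ IsLocalRing.maximalIdeal R) A :=
    (inferInstance : Algebra (IsLocalRing.ResidueField R) A)
  have i2 : Module.Finite (R ⧸ IsLocalRing.maximalIdeal R) A := by
    exact (inferInstance : Module.Finite (IsLocalRing.ResidueField R) A)
  have i3 : Algebra.Etale (R ⧸ IsLocalRing.maximalIdeal R) A := by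
    exact (inferInstance : Algebra.Etale (IsLocalRing.ResidueField R) A)
  exact Hens.exists_finite_etale_lift (I := IsLocalRing.maximalIdeal R) (Hens.henselianRing_maximalIdeal R) A

end Groth.Agent.S0518
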