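import Groth.Statements.S0530
import Groth.Agent.Lib.Hens.Finite
import Mathlib.RingTheory.Spectrum.Prime.Topology
-- import your own Groth.Agent.* helpers here

set_option autoImplicit false
universe u
open Hensel

namespace Groth.Agent.S0530

/-- If `A` is Henselian at `I` and `p` is a prime ideal of `A`, then the spectrum of `A/(p + I)` is
connected. -/
theorem result (A : Type u) [CommRing A] (I : Ideal A) [HenselianRing A I]
    (p : Ideal A) [p.IsPrime] : ConnectedSpace (PrimeSpectrum (A ⧸ p ⊔ I)) := by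
  have hne : p ⊔ I ≠ ⊤ := by
    intro h
    obtain ⟨M, hM, hle⟩ := Ideal.exists_le_maximal p (Ideal.IsPrime.ne_top inferInstance)
    have hI : I ≤ M := (inferInstance : HenselianRing A I).jac.trans (sInf_le ⟨bot_le, hM⟩)
    exact hM.ne_top (top_le_iff.mp (h ▸ sup_le hle hI))
  have : Nontrivial (A ⧸ p ⊔ I) := Ideal.Quotient.nontrivial_iff.mpr hne
  have hidem : ∀ e : A ⧸ p ⊔ I, IsIdempotentElem e → e = 0 ∨ e = 1 := by
    intro e he
    obtain ⟨b, rfl⟩ := Ideal.Quotient.mk_surjective e
    have hmap : Ideal.map (algebraMap A (A ⧸ p)) I = (p ⊔ I).map (Ideal.Quotient.mk p) := by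
      rw [Ideal.map_sup, Ideal.map_quotient_self, bot_sup_eq, Ideal.Quotient.algebraMap_eq]
    have hb : Ideal.Quotient.mk p b * Ideal.Quotient.mk p b - Ideal.Quotient.mk p b ∈
        Ideal.map (algebraMap A (A ⧸ p)) I := by
      rw [hmap, ← map_mul, ← map_sub]
      exact Ideal.mem_map_of_mem _ (Ideal.Quotient.eq.mp ((map_mul _ b b).trans he))
    obtain ⟨ε, hε, hεb⟩ := Hens.exists_idempotent_lift (inferInstance : HenselianRing A I) _ hb
    obtain ⟨c, rfl⟩ := Ideal.Quotient.mk_surjective ε
    rw [hmap, ← map_sub, ← Ideal.mem_comap,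
      Ideal.comap_map_of_surjective' _ Ideal.Quotient.mk_surjective, Ideal.mk_ker,
      sup_eq_left.mpr le_sup_left, ← Ideal.Quotient.eq] at hεb
    rw [← hεb]
    rcases IsIdempotentElem.iff_eq_zero_or_one.mp hε with h | h
    · left
      exact Ideal.Quotient.eq_zero_iff_mem.mpr
        (Ideal.mem_sup_left (Ideal.Quotient.eq_zero_iff_mem.mp h))
    · right
      rw [← map_one (Ideal.Quotient.mk p), Ideal.Quotient.eq] at h
      rw [← map_one (Ideal.Quotient.mk (p ⊔ I))]
      exact Ideal.Quotient.eq.mpr (Ideal.mem_sup_left h)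
  have : PreconnectedSpace (PrimeSpectrum (A ⧸ p ⊔ I)) := by
    rw [preconnectedSpace_iff_clopen]
    intro s hs
    obtain ⟨e, he, rfl⟩ := PrimeSpectrum.isClopen_iff.mp hs
    rcases hidem e he with rfl | rfl
    · exact Or.inl (by simp)
    · exact Or.inr (by simp)
  exact ⟨inferInstance⟩

end Groth.Agent.S0530
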