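import Groth.Statements.S0543
import Groth.Agent.Lib.Compl.Noetherian
import Mathlib.RingTheory.Noetherian.Basic
import Mathlib.RingTheory.Finiteness.Quotient

set_option autoImplicit false
universe u
open CAlg

namespace Groth.Agent.S0543

/-- The completion of a Noetherian ring with respect to any ideal is Noetherian. -/
theorem result (R : Type u) [CommRing R] [IsNoetherianRing R]
    (I : Ideal R) : IsNoetherianRing (AdicCompletion I R) := by
  haveI : IsNoetherianRing (R ⧸ I) := isNoetherianRing_of_surjective R _ (Ideal.Quotient.mk I) Ideal.Quotient.mk_surjective
  exact Groth.Agent.Compl.isNoetherianRing_adicCompletion I (IsNoetherian.noetherian I)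

end Groth.Agent.S0543
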