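import Groth.Statements.S0545
import Groth.Agent.Lib.Compl.Complete

set_option autoImplicit false
universe u
open CAlg

namespace Groth.Agent.S0545

/-- For a Noetherian ring `A` with two ideals `I` and `J`, completeness of `A` along `I` together with
completeness of the quotient `A/I` along the image of `J` forces completeness of `A` along `J`. -/
theorem result (A : Type u) [CommRing A] [IsNoetherianRing A]
    (I J : Ideal A) [IsAdicComplete I A]
    [IsAdicComplete (Ideal.map (Ideal.Quotient.mk I) J) (A ⧸ I)] : IsAdicComplete J A := by
  exact Groth.Agent.Compl.isAdicComplete_of_quotient I J

end Groth.Agent.S0545
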