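import Groth.Statements.S0546
import Mathlib.RingTheory.AdicCompletion.Basic
import Mathlib.RingTheory.Finiteness.Ideal

set_option autoImplicit false
universe u
open CAlg

namespace Groth.Agent.S0546

theorem exists_coeffs {A : Type u} [CommRing A] {M : Type u} [AddCommGroup M] [Module A M] {r : ℕ} (a : Fin r → A)
    (N : Submodule A M) {z : M} (hz : z ∈ Ideal.span (Set.range a) • N) :
    ∃ x : Fin r → M, (∀ i, x i ∈ N) ∧ z = ∑ i, a i • x i := by
  refine Submodule.smul_induction_on hz (fun c hc m hm => ?_) fun u v hu hv => ?_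
  · obtain ⟨w, rfl⟩ := (Submodule.mem_span_range_iff_exists_fun A).1 hc
    refine ⟨fun i => w i • m, fun i => N.smul_mem _ hm, ?_⟩
    rw [Finset.sum_smul]
    exact Finset.sum_congr rfl fun i _ => by rw [smul_smul, mul_comm, smul_eq_mul]
  · obtain ⟨x, hx, rfl⟩ := hu
    obtain ⟨y, hy, rfl⟩ := hv
    exact ⟨x + y, fun i => N.add_mem (hx i) (hy i), by simp [smul_add, Finset.sum_add_distrib]⟩

theorem precomplete {A : Type u} [CommRing A] (I J : Ideal A) (hIJ : I ≤ J) (hI : I.FG) (M : Type u) [AddCommGroup M]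
    [Module A M] [IsAdicComplete J M] : IsPrecomplete I M := by
  constructor
  intro f hf
  have hmono : ∀ n, (I ^ n • ⊤ : Submodule A M) ≤ J ^ n • ⊤ := fun n => Submodule.smul_mono (Ideal.pow_right_mono hIJ n) le_rfl
  obtain ⟨L, hL⟩ := IsPrecomplete.prec' (I := J) f fun {m n} hmn => SModEq.mono (hmono m) (hf hmn)
  refine ⟨L, fun n => ?_⟩
  obtain ⟨r, a, ha⟩ := Submodule.fg_iff_exists_fin_generating_family.1 (Ideal.FG.pow (n := n) hI)
  have hd : ∀ k, f (n + (k + 1)) - f (n + k) ∈ Ideal.span (Set.range a) • (I ^ k • (⊤ : Submodule A M)) := fun k => by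
    rw [show Ideal.span (Set.range a) = I ^ n from ha, ← Submodule.mul_smul, ← pow_add, ← SModEq.sub_mem]
    exact (hf (by omega)).symm
  choose x hx hfx using fun k => exists_coeffs a _ (hd k)
  let s : Fin r → ℕ → M := fun i k => ∑ l ∈ Finset.range k, x l i
  have hs : ∀ k, f (n + k) - f n = ∑ i, a i • s i k := by
    intro k
    induction k with
    | zero => simp [s]
    | succ k ih =>
      rw [← sub_add_sub_cancel _ (f (n + k)), hfx, ih, ← Finset.sum_add_distrib]
      refine Finset.sum_congr rfl fun i _ => ?_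
      simp only [s, Finset.sum_range_succ, smul_add]
      abel
  have hcauchy : ∀ i {p q : ℕ}, p ≤ q → s i p ≡ s i q [SMOD (J ^ p • ⊤ : Submodule A M)] := by
    intro i p q hpq
    refine (SModEq.sub_mem.2 ?_).symm
    rw [← Finset.sum_sdiff_eq_sub (Finset.range_mono hpq)]
    refine sum_mem fun l hl => ?_
    simp only [Finset.mem_sdiff, Finset.mem_range, not_lt] at hl
    exact Submodule.smul_mono (Ideal.pow_le_pow_right hl.2) le_rfl (hmono l (hx l i))
  choose y hy using fun i => IsPrecomplete.prec' (I := J) (s i) (hcauchy i)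
  have key : L - f n - ∑ i, a i • y i = 0 := by
    refine IsHausdorff.haus' (I := J) _ fun k => ?_
    rw [SModEq.sub_mem, sub_zero]
    have e : L - f n - ∑ i, a i • y i = (L - f (n + k)) + ∑ i, a i • (s i k - y i) := by
      simp only [smul_sub, Finset.sum_sub_distrib, ← hs k]
      abel
    rw [e]
    exact add_mem (Submodule.smul_mono (Ideal.pow_le_pow_right (Nat.le_add_left k n)) le_rfl (SModEq.sub_mem.1 (hL (n + k)).symm))
      (sum_mem fun i _ => Submodule.smul_mem _ _ (SModEq.sub_mem.1 (hy i k)))
  refine (SModEq.sub_mem.2 ?_).symm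
  rw [sub_eq_zero] at key
  rw [key]
  refine sum_mem fun i _ => Submodule.smul_mem_smul ?_ Submodule.mem_top
  rw [← ha]
  exact Submodule.subset_span ⟨i, rfl⟩



/-- If `I ≤ J` are ideals with `I` finitely generated and `M` is `J`-adically complete, then `M` is
`I`-adically complete. -/
theorem result (A : Type u) [CommRing A] (I J : Ideal A) (hIJ : I ≤ J)
    (hI : I.FG) (M : Type u) [AddCommGroup M] [Module A M] [IsAdicComplete J M] :
    IsAdicComplete I M := by
  have := precomplete I J hIJ hI M
  exact { haus' := fun x hx => IsHausdorff.haus' (I := J) x fun n =>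
            SModEq.mono (Submodule.smul_mono (Ideal.pow_right_mono hIJ n) le_rfl) (hx n) }

end Groth.Agent.S0546
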