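import Groth.Statements.S0550
import Groth.Agent.Lib.CAlgLow.NullFun
import Groth.Agent.Lib.Compl.Noetherian
import Mathlib.RingTheory.AdicCompletion.AsTensorProduct
import Mathlib.RingTheory.AdicCompletion.Completeness

set_option autoImplicit false
universe u
open CAlg

namespace Groth.Agent.S0550

/-- Over a Noetherian ring `R` with an ideal `I`, the `I`-adic completion of a free module (on any index
set) is a flat `R`-module. -/
theorem result (R : Type u) [CommRing R] [IsNoetherianRing R]
    (I : Ideal R) (α : Type u) : Module.Flat R (AdicCompletion I (α →₀ R)) := by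
  have hI : I.FG := IsNoetherian.noetherian I
  let I' := I.map (algebraMap R (AdicCompletion I R))
  haveI : IsAdicComplete I (AdicCompletion I R) := AdicCompletion.isAdicComplete hI
  haveI : IsAdicComplete I' (AdicCompletion I R) := (IsAdicComplete.map_algebraMap_iff I (AdicCompletion I R)).2 inferInstance
  haveI : IsNoetherianRing (AdicCompletion I R) := Groth.Agent.Compl.isNoetherianRing_adicCompletion I hI
  haveI : Module.Flat R (AdicCompletion I R) := AdicCompletion.flat_of_isNoetherian I
  haveI : Module.Flat (AdicCompletion I R) (Groth.Agent.CAlgLow.nullFun I' α) :=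
    Groth.Agent.CAlgLow.flat_nullFun I' α
  haveI : Module.Flat R (Groth.Agent.CAlgLow.nullFun I' α) :=
    Module.Flat.trans R (AdicCompletion I R) _
  have hval : ∀ (x : AdicCompletion I R) (n : ℕ), x ∈ I' ^ n ↔ x.val n = 0 := fun x n => by
    have h := AdicCompletion.pow_smul_top_eq_ker_eval (I := I) (M := R) (n := n) hI
    rw [Ideal.smul_top_eq_map, Ideal.map_pow] at h
    exact (SetLike.ext_iff.1 h x)
  have hrange : LinearMap.range (Groth.Agent.CAlgLow.coordMap I α) =
      (Groth.Agent.CAlgLow.nullFun I' α).restrictScalars R := by
    ext f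
    rw [Groth.Agent.CAlgLow.range_coordMap, Submodule.restrictScalars_mem, Groth.Agent.CAlgLow.mem_nullFun]
    simp only [hval, ne_eq]
  exact Module.Flat.of_linearEquiv
    ((LinearEquiv.ofInjective _ (Groth.Agent.CAlgLow.coordMap_injective I α)).trans
      ((LinearEquiv.ofEq _ _ hrange).trans
        ((Submodule.restrictScalarsEquiv R (AdicCompletion I R) (α → AdicCompletion I R) (Groth.Agent.CAlgLow.nullFun I' α)).restrictScalars R)))

end Groth.Agent.S0550
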