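import Groth.Statements.S0551
import Groth.Agent.Lib.FlatCompleteH1.Basic
import Groth.Agent.Lib.CAlgLow.TorNil
import Groth.Agent.Lib.Compl.Noetherian
import Groth.Agent.Lib.FormalH7.CplRing
import Mathlib.LinearAlgebra.TensorProduct.Quotient
import Mathlib.RingTheory.AdicCompletion.Completeness

set_option autoImplicit false
universe u
open CAlg

namespace Groth.Agent.S0551




/-- Let `R` be a ring, `I` a finitely generated ideal with `R/I` Noetherian, and `M` an `R`-module such
that `M/IM` is flat over `R/I` and the multiplication map `I ⊗ M → M` is injective (the vanishing of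
the first Tor of `M` against `R/I`). Then the `I`-adic completion of `M` is flat over the `I`-adic
completion of `R`. (The published statement also records that the completed ring is Noetherian; that
is stated separately.) -/
theorem result (R : Type u) [CommRing R] (I : Ideal R) (hI : I.FG)
    [IsNoetherianRing (R ⧸ I)] (M : Type u) [AddCommGroup M] [Module R M]
    [Module.Flat (R ⧸ I) (M ⧸ (I • ⊤ : Submodule R M))]
    (hT : Function.Injective (TensorProduct.lift ((LinearMap.lsmul R M).comp (Submodule.subtype I)))) :
    Module.Flat (AdicCompletion I R) (AdicCompletion I M) := by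
  have hT' : Function.Injective (I.subtype.rTensor M) := by
    have h : TensorProduct.lift ((LinearMap.lsmul R M).comp (Submodule.subtype I)) =
        (TensorProduct.lid R M).toLinearMap ∘ₗ I.subtype.rTensor M :=
      TensorProduct.ext' fun a m => by simp
    rw [h] at hT
    exact Function.Injective.of_comp hT
  haveI : Module.Flat (R ⧸ I) (TensorProduct R (R ⧸ I) M) :=
    Module.Flat.of_linearEquiv
      ((TensorProduct.quotTensorEquivQuotSMul M I).extendScalarsOfSurjective Ideal.Quotient.mk_surjective)
  haveI := Groth.Agent.Compl.isNoetherianRing_adicCompletion I hI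
  haveI := AdicCompletion.isAdicComplete (M := M) hI
  refine Groth.Agent.FlatCompleteH1.flat_adicCompletion I hI M
    (fun n => AdicCompletion.pow_smul_top_eq_ker_eval hI)
    (fun n => (Groth.Agent.FormalH7.ker_evalₐ_eq_map I hI n).trans (Ideal.map_pow _ _ _)) fun n => ?_
  haveI := Groth.Agent.CAlgLow.flat_mod_pow hT' n
  exact Module.Flat.of_linearEquiv
    ((TensorProduct.quotTensorEquivQuotSMul M (I ^ n)).extendScalarsOfSurjective Ideal.Quotient.mk_surjective).symm

end Groth.Agent.S0551
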