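import Groth.Statements.S0555
import Groth.Agent.Lib.UCat26.DimEq
-- import your own Groth.Agent.* helpers here

set_option autoImplicit false
universe u
open CAlg

namespace Groth.Agent.S0555

/-- In the situation of the dimension formula, if the Noetherian base ring is universally catenary then
equality holds. -/
theorem result (R : Type u) [CommRing R] [IsDomain R]
    (hR : CAlg.IsUniversallyCatenary R) (S : Type u) [CommRing S] [IsDomain S] [Algebra R S]
    [FaithfulSMul R S] [Algebra.FiniteType R S] (p : Ideal R) [p.IsPrime] (q : Ideal S) [q.IsPrime]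
    [q.LiesOver p] :
    (q.height : Cardinal.{u}) + Algebra.trdeg (R ⧸ p) (S ⧸ q) =
      (p.height : Cardinal.{u}) + Algebra.trdeg R S := by
  haveI := hR.1
  have h := UCat26.height_add_tr_eq R hR S p q
  haveI : Algebra.FiniteType R (S ⧸ q) := .trans (R := R) (S := S) inferInstance inferInstance
  haveI : Algebra.FiniteType (R ⧸ p) (S ⧸ q) := .of_restrictScalars_finiteType R (R ⧸ p) (S ⧸ q)
  have h1 : ((DimFormula14.tr (R ⧸ p) (S ⧸ q) : ℕ∞) : Cardinal.{u}) = Algebra.trdeg (R ⧸ p) (S ⧸ q) :=
    Cardinal.ofENat_toENat trdeg_lt_aleph0_of_finiteType.le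
  have h2 : ((DimFormula14.tr R S : ℕ∞) : Cardinal.{u}) = Algebra.trdeg R S :=
    Cardinal.ofENat_toENat trdeg_lt_aleph0_of_finiteType.le
  rw [← h1, ← h2, ← Cardinal.ofENat_add, ← Cardinal.ofENat_add, h]

end Groth.Agent.S0555
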