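import Groth.Statements.S0557
import Groth.Agent.Lib.KrullAkizuki.Vec

set_option autoImplicit false
universe u
open CAlg

namespace Groth.Agent.S0557

/-- Let `R` be a Noetherian local domain of dimension one with fraction field `K`, `M` an `R`-submodule
of `K^r`, and `x` a nonzero element of `R`. Then `R/xR` has finite length and the length of `M/xM`
is at most `r` times the length of `R/xR`. -/
theorem result (R : Type u) [CommRing R] [IsDomain R]
    [IsNoetherianRing R] [IsLocalRing R] (hdim : ringKrullDim R = 1) (K : Type u) [Field K]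
    [Algebra R K] [IsFractionRing R K] (r : ℕ) (M : Submodule R (Fin r → K)) (x : R) (hx : x ≠ 0) :
    Module.length R (R ⧸ Ideal.span ({x} : Set R)) ≠ ⊤ ∧
      Module.length R (M ⧸ (Ideal.span ({x} : Set R) • (⊤ : Submodule R M))) ≤
        r * Module.length R (R ⧸ Ideal.span ({x} : Set R)) := by
  haveI : Ring.KrullDimLE 1 R := Ring.krullDimLE_iff.2 hdim.le
  refine ⟨Groth.Agent.KrullAkizuki.length_quotient_span_ne_top hx, ?_⟩
  rw [← Groth.Agent.KrullAkizuki.mulRange_eq_smul_top x M]
  simpa using Groth.Agent.KrullAkizuki.length_quotient_le_finrank R K M hx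

end Groth.Agent.S0557
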