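import Groth.Statements.S0564
import Groth.Agent.Lib.RegLoc.GlobalDim

set_option autoImplicit false
universe u
open CAlg

namespace Groth.Agent.S0564

/-- The localization of a regular local ring at any prime ideal is a regular local ring. -/
theorem result (R : Type u) [CommRing R]
    [IsRegularLocalRing R] (p : Ideal R) [p.IsPrime] :
    IsRegularLocalRing (Localization.AtPrime p) := by
  exact Groth.Agent.RegLoc.isRegularLocalRing_localization R p

end Groth.Agent.S0564
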