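import Groth.Statements.S0572
import Mathlib

set_option autoImplicit false
universe u
open CAlg

namespace Groth.Agent.S0572

theorem assoc_pow_subset {R : Type u} [CommRing R] [IsDomain R] [IsNoetherianRing R] {f : R} (hf : f ≠ 0)
    (n : ℕ) : associatedPrimes R (R ⧸ Ideal.span {f ^ n}) ⊆ associatedPrimes R (R ⧸ Ideal.span {f}) := by
  induction n with
  | zero =>
    intro p hp
    obtain ⟨hp', x, hx⟩ := hp
    exfalso
    have hx0 : x = 0 := by
      obtain ⟨y, rfl⟩ := Ideal.Quotient.mk_surjective x
      rw [Ideal.Quotient.eq_zero_iff_mem, pow_zero, Ideal.span_singleton_one]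
      trivial
    refine hp'.ne_top ?_
    rw [hx, hx0]
    simp
  | succ n ih =>
    let g : (R ⧸ Ideal.span {f ^ n}) →ₗ[R] (R ⧸ Ideal.span {f ^ (n + 1)}) :=
      Submodule.mapQ _ _ (LinearMap.mulLeft R f) fun x hx => by
        obtain ⟨c, rfl⟩ := Ideal.mem_span_singleton'.1 hx
        exact Ideal.mem_span_singleton'.2 ⟨c, by simp [pow_succ]; ring⟩
    let h : (R ⧸ Ideal.span {f ^ (n + 1)}) →ₗ[R] (R ⧸ Ideal.span {f}) :=
      Submodule.mapQ _ _ LinearMap.id fun x hx => by
        obtain ⟨c, rfl⟩ := Ideal.mem_span_singleton'.1 hx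
        exact Ideal.mem_span_singleton'.2 ⟨c * f ^ n, by simp [pow_succ]; ring⟩
    have hg : Function.Injective g := by
      rw [injective_iff_map_eq_zero]
      intro x hx
      obtain ⟨y, rfl⟩ := Ideal.Quotient.mk_surjective x
      obtain ⟨c, hc⟩ := Ideal.mem_span_singleton'.1
        (Ideal.Quotient.eq_zero_iff_mem.1 (show Ideal.Quotient.mk _ (f * y) = 0 from hx))
      refine Ideal.Quotient.eq_zero_iff_mem.2 (Ideal.mem_span_singleton'.2 ⟨c, ?_⟩)
      apply mul_left_cancel₀ hf
      rw [← hc, pow_succ]; ring
    have hgh : Function.Exact g h := fun x => by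
      obtain ⟨y, rfl⟩ := Ideal.Quotient.mk_surjective x
      constructor
      · intro hy
        obtain ⟨c, hc⟩ := Ideal.mem_span_singleton'.1
          (Ideal.Quotient.eq_zero_iff_mem.1 (show Ideal.Quotient.mk (Ideal.span {f}) y = 0 from hy))
        refine ⟨Ideal.Quotient.mk _ c, ?_⟩
        show Ideal.Quotient.mk _ (f * c) = _
        rw [mul_comm, hc]
      · rintro ⟨z, hz⟩
        obtain ⟨c, rfl⟩ := Ideal.Quotient.mk_surjective z
        rw [← hz]
        exact Ideal.Quotient.eq_zero_iff_mem.2 (Ideal.mem_span_singleton'.2 ⟨c, mul_comm c f⟩)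
    exact (associatedPrimes.subset_union_of_exact hg hgh).trans (Set.union_subset ih subset_rfl)


/-- Let `R` be a Noetherian domain such that `R_f` is integrally closed for some nonzero `f`. Then the
set of primes `p` with `R_p` integrally closed is open in `Spec R`. -/
theorem result (R : Type u) [CommRing R] [IsDomain R] [IsNoetherianRing R] (f : R)
    (hf : f ≠ 0) (hn : IsIntegrallyClosed (Localization.Away f)) :
    IsOpen {p : PrimeSpectrum R | IsIntegrallyClosed (Localization.AtPrime p.asIdeal)} := by
  classical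
  let K := FractionRing R
  let Z : Set (PrimeSpectrum R) := {p | IsIntegrallyClosed (Localization.AtPrime p.asIdeal)}
  let T : Set (PrimeSpectrum R) :=
    {q | q.asIdeal ∈ associatedPrimes R (R ⧸ Ideal.span {f}) ∧ q ∉ Z}
  have hT : T.Finite := Set.Finite.subset
    ((associatedPrimes.finite R (R ⧸ Ideal.span {f})).preimage (f := PrimeSpectrum.asIdeal)
      (fun a _ b _ => PrimeSpectrum.ext)) fun q hq => hq.1
  have hK : ∀ (p : Ideal R) [p.IsPrime], IsFractionRing (Localization.AtPrime p) K := fun p _ =>
    IsFractionRing.isFractionRing_of_isDomain_of_isLocalization p.primeCompl _ K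
  have hmem : ∀ (p : Ideal R) [p.IsPrime] (x : K), x ∈ Set.range (algebraMap (Localization.AtPrime p) K) ↔
      ∃ s ∉ p, ∃ b : R, algebraMap R K s * x = algebraMap R K b := by
    intro p _ x
    constructor
    · rintro ⟨y, rfl⟩
      obtain ⟨⟨b, s⟩, h⟩ := IsLocalization.surj p.primeCompl y
      refine ⟨s, s.2, b, ?_⟩
      rw [IsScalarTower.algebraMap_apply R (Localization.AtPrime p) K s,
        IsScalarTower.algebraMap_apply R (Localization.AtPrime p) K b, ← map_mul, mul_comm]
      exact congrArg _ h
    · rintro ⟨s, hs, b, h⟩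
      refine ⟨IsLocalization.mk' _ b (⟨s, hs⟩ : p.primeCompl), ?_⟩
      have hs0 : algebraMap R K s ≠ 0 := by
        rw [Ne, map_eq_zero_iff _ (IsFractionRing.injective R K)]
        rintro rfl
        exact hs p.zero_mem
      apply mul_left_cancel₀ hs0
      rw [h, IsScalarTower.algebraMap_apply R (Localization.AtPrime p) K s, ← map_mul,
        IsLocalization.mk'_spec' _ b (⟨s, hs⟩ : p.primeCompl), ← IsScalarTower.algebraMap_apply]
  have hf0 : (algebraMap R K f) ≠ 0 := by simpa using hf
  let _ : Algebra (Localization.Away f) K :=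
    (IsLocalization.Away.lift f (g := algebraMap R K) (isUnit_iff_ne_zero.2 hf0)).toAlgebra
  have : IsScalarTower R (Localization.Away f) K := IsScalarTower.of_algebraMap_eq fun r => by
    rw [RingHom.algebraMap_toAlgebra, IsLocalization.Away.lift_eq]
  have : IsFractionRing (Localization.Away f) K :=
    IsFractionRing.isFractionRing_of_isDomain_of_isLocalization (Submonoid.powers f) _ K
  have key : Z = (⋃ q ∈ T, PrimeSpectrum.zeroLocus (q.asIdeal : Set R))ᶜ := by
    ext p
    simp only [Set.mem_compl_iff, Set.mem_iUnion, PrimeSpectrum.mem_zeroLocus, SetLike.coe_subset_coe,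
      exists_prop, not_exists, not_and]
    constructor
    · intro hp q hq hqp
      apply hq.2
      have := hK p.asIdeal
      have := hK q.asIdeal
      have : IsIntegrallyClosed (Localization.AtPrime p.asIdeal) := hp
      show IsIntegrallyClosed (Localization.AtPrime q.asIdeal)
      rw [isIntegrallyClosed_iff K]
      intro x hx
      obtain ⟨⟨m, hm⟩, hmx⟩ := IsIntegral.exists_multiple_integral_of_isLocalization q.asIdeal.primeCompl x hx
      obtain ⟨y, hy⟩ := (isIntegrallyClosed_iff K).1 this (hmx.tower_top (A := Localization.AtPrime p.asIdeal))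
      obtain ⟨s, hs, b, hb⟩ := (hmem p.asIdeal _).1 ⟨y, hy⟩
      refine (hmem q.asIdeal x).2 ⟨s * m, ?_, b, ?_⟩
      · exact fun h => (q.2.mem_or_mem h).elim (fun h => hs (hqp h)) hm
      · rw [map_mul, mul_assoc, ← Algebra.smul_def m x]
        exact hb
    · intro hT'
      have := hK p.asIdeal
      show IsIntegrallyClosed (Localization.AtPrime p.asIdeal)
      rw [isIntegrallyClosed_iff K]
      intro x hx
      obtain ⟨⟨m, hm⟩, hmx⟩ := IsIntegral.exists_multiple_integral_of_isLocalization p.asIdeal.primeCompl x hx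
      obtain ⟨z, hz⟩ := (isIntegrallyClosed_iff K).1 hn (hmx.tower_top (A := Localization.Away f))
      obtain ⟨⟨a, ⟨_, n, rfl⟩⟩, hza⟩ := IsLocalization.surj (Submonoid.powers f) z
      have ha : algebraMap R K (f ^ n) * (algebraMap R K m * x) = algebraMap R K a := by
        rw [← Algebra.smul_def m x]
        have h2 := congrArg (algebraMap (Localization.Away f) K) hza
        rw [map_mul, hz, ← IsScalarTower.algebraMap_apply, ← IsScalarTower.algebraMap_apply, mul_comm] at h2
        exact h2
      let N : Submodule R (R ⧸ Ideal.span {f ^ n}) :=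
        Submodule.span R {Ideal.Quotient.mk _ a}
      have hN : ∀ r, r ∈ Module.annihilator R N ↔ ∃ b, b * f ^ n = r * a := fun r => by
        show r ∈ N.annihilator ↔ _
        rw [Submodule.mem_annihilator_span_singleton]
        show Ideal.Quotient.mk _ (r * a) = 0 ↔ _
        rw [Ideal.Quotient.eq_zero_iff_mem, Ideal.mem_span_singleton']
      have hfn : algebraMap R K (f ^ n) ≠ 0 := by rw [map_pow]; exact pow_ne_zero _ hf0
      by_cases hI : Module.annihilator R N ≤ p.asIdeal
      · exfalso
        obtain ⟨q, hq, hqp⟩ := Ideal.exists_minimalPrimes_le hI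
        have hqprime := hq.isPrime
        have hqass := assoc_pow_subset hf n
          (associatedPrimes.subset_of_injective (f := N.subtype) N.injective_subtype
            (Module.associatedPrimes.minimalPrimes_annihilator_subset_associatedPrimes R N hq))
        by_cases hqZ : (⟨q, hqprime⟩ : PrimeSpectrum R) ∈ Z
        · have := hK q
          have : IsIntegrallyClosed (Localization.AtPrime q) := hqZ
          obtain ⟨y, hy⟩ := (isIntegrallyClosed_iff K).1 this (hmx.tower_top (A := Localization.AtPrime q))
          obtain ⟨s, hs, b, hb⟩ := (hmem q _).1 ⟨y, hy⟩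
          refine hs (hq.1.2 ((hN s).2 ⟨b, IsFractionRing.injective R K ?_⟩))
          rw [map_mul, map_mul, ← ha, ← hb, Submonoid.smul_def, Algebra.smul_def]
          ring
        · exact hT' ⟨q, hqprime⟩ ⟨hqass, hqZ⟩ hqp
      · obtain ⟨r, hr, hrp⟩ := SetLike.not_le_iff_exists.1 hI
        obtain ⟨b, hb⟩ := (hN r).1 hr
        refine (hmem p.asIdeal x).2 ⟨r * m, fun h => (p.2.mem_or_mem h).elim hrp hm, b, ?_⟩
        apply mul_left_cancel₀ hfn
        have h2 := congrArg (algebraMap R K) hb
        rw [map_mul, map_mul, ← ha] at h2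
        rw [map_mul, mul_comm _ (algebraMap R K b), h2]
        ring
  show IsOpen Z
  rw [key]
  exact (hT.isClosed_biUnion fun q _ => PrimeSpectrum.isClosed_zeroLocus _).isOpen_compl

end Groth.Agent.S0572
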