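import Groth.Statements.S0573
import Groth.Agent.Lib.NormFin18.Finite
import Mathlib

set_option autoImplicit false
universe u
open CAlg

namespace Groth.Agent.S0573

/-- Stated for finite type rather than essentially finite type algebras: if `R` is a Nagata ring and `S`
a reduced `R`-algebra of finite type, then the integral closure of `R` in `S` is a finitely
generated `R`-module. -/
theorem result (R : Type u) [CommRing R] (hR : CAlg.IsNagata R)
    (S : Type u) [CommRing S] [IsReduced S] [Algebra R S] [Algebra.FiniteType R S] :
    Module.Finite R (integralClosure R S) := by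
  haveI := hR.1
  haveI : IsNoetherianRing S := Algebra.FiniteType.isNoetherianRing R S
  haveI : Finite (minimalPrimes S) := (minimalPrimes.finite_of_isNoetherianRing S).to_subtype
  haveI hq : ∀ q : minimalPrimes S, q.1.IsPrime := fun q => q.2.1.1
  haveI : ∀ q : minimalPrimes S, Module.Finite R (integralClosure R q.1.ResidueField) := fun q => by
    haveI : Algebra.EssFiniteType R S := inferInstance
    haveI : Algebra.EssFiniteType S q.1.ResidueField := inferInstance
    haveI : Algebra.EssFiniteType R q.1.ResidueField := Algebra.EssFiniteType.comp R S _
    exact NormFin18.finite_integralClosure_field R q.1.ResidueField hR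
  let ψ : integralClosure R S →ₗ[R] (q : minimalPrimes S) → integralClosure R q.1.ResidueField :=
    LinearMap.pi fun q =>
      { toFun := fun z => ⟨IsScalarTower.toAlgHom R S q.1.ResidueField z.1, z.2.map _⟩
        map_add' := fun x y => Subtype.ext (map_add (IsScalarTower.toAlgHom R S q.1.ResidueField) x.1 y.1)
        map_smul' := fun c x => Subtype.ext ((IsScalarTower.toAlgHom R S q.1.ResidueField).toLinearMap.map_smul c x.1) }
  refine Module.Finite.of_injective ψ fun x y h => Subtype.ext ?_
  rw [← sub_eq_zero]
  refine IsReduced.eq_zero _ ?_
  rw [← mem_nilradical, nilradical, ← Ideal.sInf_minimalPrimes, Ideal.mem_sInf]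
  intro q hq
  haveI : q.IsPrime := hq.1.1
  have := congrArg Subtype.val (congrFun h ⟨q, hq⟩)
  change algebraMap S q.ResidueField x.1 = algebraMap S q.ResidueField y.1 at this
  rw [← Ideal.algebraMap_residueField_eq_zero, map_sub, this, sub_self]

end Groth.Agent.S0573
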