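import Groth.Statements.S0574
import Mathlib

set_option autoImplicit false
universe u
open CAlg

namespace Groth.Agent.S0574

/-- For Noetherian domains of characteristic zero the conditions N-1 and N-2 coincide. -/
theorem result (R : Type u) [CommRing R] [IsDomain R] [IsNoetherianRing R]
    [CharZero R] : CAlg.IsN1 R ↔ CAlg.IsN2 R := by
  let K := FractionRing R
  constructor
  · intro h L _ _ _ _ _
    haveI : Module.Finite R (integralClosure R K) := h
    haveI : IsNoetherianRing (integralClosure R K) := IsNoetherianRing.of_finite R _
    haveI : IsIntegrallyClosed (integralClosure R K) := integralClosure.isIntegrallyClosedOfFiniteExtension K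
    haveI : IsFractionRing (integralClosure R K) K := integralClosure.isFractionRing_of_finite_extension K K
    haveI : CharZero K := IsFractionRing.charZero_of_isFractionRing R
    haveI : Algebra.IsSeparable K L := Algebra.IsAlgebraic.isSeparable_of_perfectField
    haveI : Module.Finite (integralClosure R K) (integralClosure (integralClosure R K) L) :=
      IsIntegralClosure.finite (integralClosure R K) K L (integralClosure (integralClosure R K) L)
    haveI : Module.Finite R (integralClosure (integralClosure R K) L) :=
      Module.Finite.trans (integralClosure R K) _
    haveI : IsNoetherian R (integralClosure (integralClosure R K) L) :=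
      isNoetherian_of_isNoetherianRing_of_finite R (integralClosure (integralClosure R K) L)
    let f : integralClosure R L →ₗ[R] integralClosure (integralClosure R K) L :=
      { toFun := fun x => ⟨x.1, (x.2 : IsIntegral R x.1).tower_top⟩
        map_add' := fun _ _ => rfl
        map_smul' := fun _ _ => rfl }
    exact Module.Finite.of_injective f fun x y e =>
      Subtype.ext (congrArg (fun z : integralClosure (integralClosure R K) L => (z : L)) e)
  · intro h
    exact h K inferInstance

end Groth.Agent.S0574
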