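import Groth.Statements.S0576
import Groth.Agent.Lib.CAlgLow.AnUnramNagata
import Groth.Agent.Lib.CplLocH7.Basic

set_option autoImplicit false
universe u
open CAlg

namespace Groth.Agent.S0576

open scoped TensorProduct


/-- A local domain which is a Nagata ring is analytically unramified, i.e. its completion at the maximal
ideal is reduced. -/
theorem result (R : Type u) [CommRing R] [IsDomain R]
    [IsLocalRing R] (hR : CAlg.IsNagata R) :
    IsReduced (AdicCompletion (IsLocalRing.maximalIdeal R) R) := by
  haveI := hR.1
  haveI : Module.FaithfullyFlat R (AdicCompletion (IsLocalRing.maximalIdeal R) R) := CplLocH7.faithfullyFlat_cpl R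
  haveI : IsNoetherianRing (AdicCompletion (IsLocalRing.maximalIdeal R) R) := CplLocH7.isNoetherianRing_cpl R
  haveI : IsReduced (R ⊗[R] AdicCompletion (IsLocalRing.maximalIdeal R) R) :=
    AnUnram.isReduced_tensor_of_forall_isN2 (fun q _ => hR.2 q) _ (CplLocH7.maximalIdeal_cpl R) (fun x => by
      obtain ⟨y, rfl⟩ := IsLocalRing.residue_surjective x
      obtain ⟨a, ha⟩ := CplLocH7.exists_sub_mem_pow (A := R) 1 y
      refine ⟨a, ?_⟩
      rw [pow_one, ← IsLocalRing.residue_eq_zero_iff, map_sub, sub_eq_zero] at ha
      exact ha.symm) ⊥ R inferInstance (by simp [RingHom.ker_eq_bot_iff_eq_zero])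
  exact isReduced_of_injective (Algebra.TensorProduct.lid R (AdicCompletion (IsLocalRing.maximalIdeal R) R)).symm
    (AlgEquiv.injective _)

end Groth.Agent.S0576
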