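import Groth.Statements.S0577
import Groth.Agent.Lib.CAlgLow.AnUnramNagata
import Groth.Agent.Lib.CplLocH7.Basic

set_option autoImplicit false
universe u
open CAlg

namespace Groth.Agent.S0577

open scoped TensorProduct


/-- Let `A` be a Noetherian local domain of prime characteristic `p` which is a Nagata ring. If `a ∈ A`
has a `p`-th root in the completion of `A`, then it has a `p`-th root in `A`. -/
theorem result (A : Type u) [CommRing A] [IsDomain A]
    [IsLocalRing A] (hA : CAlg.IsNagata A) (p : ℕ) [Fact p.Prime] [CharP A p] (a : A)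
    (h : ∃ α : AdicCompletion (IsLocalRing.maximalIdeal A) A,
      α ^ p = algebraMap A (AdicCompletion (IsLocalRing.maximalIdeal A) A) a) :
    ∃ b : A, b ^ p = a := by
  haveI := hA.1
  obtain ⟨α, hα⟩ := h
  haveI : Module.FaithfullyFlat A (AdicCompletion (IsLocalRing.maximalIdeal A) A) := CplLocH7.faithfullyFlat_cpl A
  haveI : IsNoetherianRing (AdicCompletion (IsLocalRing.maximalIdeal A) A) := CplLocH7.isNoetherianRing_cpl A
  obtain ⟨θ, hθ⟩ := IsAlgClosed.exists_pow_nat_eq (algebraMap A (AlgebraicClosure (FractionRing A)) a) (Fact.out : p.Prime).pos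
  let S := Algebra.adjoin A ({θ} : Set (AlgebraicClosure (FractionRing A)))
  haveI : Module.Finite A S := Module.Finite.iff_fg.mpr
    (fg_adjoin_of_finite (Set.finite_singleton θ) (by
      rintro _ rfl
      exact ⟨Polynomial.X ^ p - Polynomial.C a, Polynomial.monic_X_pow_sub_C a (Fact.out : p.Prime).ne_zero, by simp [hθ]⟩))
  have hinj : Function.Injective (algebraMap A S) := fun x y hxy => by
    have h2 := congrArg Subtype.val hxy
    change algebraMap A (AlgebraicClosure (FractionRing A)) x = algebraMap A _ y at h2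
    rw [IsScalarTower.algebraMap_apply A (FractionRing A) (AlgebraicClosure (FractionRing A)),
      IsScalarTower.algebraMap_apply A (FractionRing A) (AlgebraicClosure (FractionRing A))] at h2
    exact IsFractionRing.injective A (FractionRing A) ((algebraMap (FractionRing A) (AlgebraicClosure (FractionRing A))).injective h2)
  haveI : IsReduced (S ⊗[A] AdicCompletion (IsLocalRing.maximalIdeal A) A) :=
    AnUnram.isReduced_tensor_of_forall_isN2 (fun q _ => hA.2 q) _ (CplLocH7.maximalIdeal_cpl A) (fun x => by
      obtain ⟨y, rfl⟩ := IsLocalRing.residue_surjective x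
      obtain ⟨a, ha⟩ := CplLocH7.exists_sub_mem_pow (A := A) 1 y
      refine ⟨a, ?_⟩
      rw [pow_one, ← IsLocalRing.residue_eq_zero_iff, map_sub, sub_eq_zero] at ha
      exact ha.symm) ⊥ S inferInstance ((RingHom.injective_iff_ker_eq_bot _).mp hinj)
  let t : S := ⟨θ, Algebra.subset_adjoin rfl⟩
  have ht : t ^ p = algebraMap A S a := Subtype.ext (by simpa [t] using hθ)
  have hz : (t ⊗ₜ[A] (1 : AdicCompletion (IsLocalRing.maximalIdeal A) A)) = (1 : S) ⊗ₜ[A] α := by
    have hp0 : (p : S ⊗[A] AdicCompletion (IsLocalRing.maximalIdeal A) A) = 0 := by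
      rw [← map_natCast (algebraMap A (S ⊗[A] AdicCompletion (IsLocalRing.maximalIdeal A) A)), CharP.cast_eq_zero, map_zero]
    rcases subsingleton_or_nontrivial (S ⊗[A] AdicCompletion (IsLocalRing.maximalIdeal A) A) with hs | hs
    · exact Subsingleton.elim _ _
    haveI : CharP (S ⊗[A] AdicCompletion (IsLocalRing.maximalIdeal A) A) p :=
      (CharP.charP_iff_prime_eq_zero (Fact.out : p.Prime)).mpr hp0
    rw [← sub_eq_zero]
    refine IsReduced.eq_zero _ ⟨p, ?_⟩
    rw [sub_pow_char, Algebra.TensorProduct.tmul_pow, Algebra.TensorProduct.tmul_pow, one_pow, one_pow, ht, hα,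
      Algebra.algebraMap_eq_smul_one, Algebra.algebraMap_eq_smul_one, TensorProduct.smul_tmul, sub_self]
  let N := LinearMap.range (Algebra.linearMap A S)
  have hmem : t ∈ N := by
    rw [← Submodule.Quotient.mk_eq_zero]
    have h2 := congrArg (LinearMap.rTensor (AdicCompletion (IsLocalRing.maximalIdeal A) A) N.mkQ) hz
    rw [LinearMap.rTensor_tmul, LinearMap.rTensor_tmul,
      show N.mkQ (1 : S) = 0 from (Submodule.Quotient.mk_eq_zero _).mpr ⟨1, map_one (algebraMap A S)⟩, TensorProduct.zero_tmul] at h2
    exact Module.FaithfullyFlat.tensorProduct_mk_injective (A := A) (B := AdicCompletion (IsLocalRing.maximalIdeal A) A) (S ⧸ N)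
      (by simpa using congrArg (TensorProduct.comm A (S ⧸ N) _) h2)
  obtain ⟨b, hb⟩ := hmem
  exact ⟨b, hinj (by rw [map_pow, ← ht]; exact congrArg (· ^ p) hb)⟩

end Groth.Agent.S0577
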