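import Groth.Prelude.Def_Found
import Mathlib.RingTheory.PowerSeries.Basic
import Mathlib.RingTheory.MvPowerSeries.Basic
import Mathlib.RingTheory.LocalRing.ResidueField.Basic
import Mathlib.RingTheory.AdicCompletion.Basic
import Groth.Agent.Lib.Cohen.LiftLocal

set_option autoImplicit false
universe u
open CAlg

namespace Groth.Agent.S0579

/-- A local ring which is complete with respect to its maximal ideal and whose residue field has
characteristic zero admits a coefficient field: there is a ring homomorphism from the residue field
to the ring which is a section of the residue map. -/
theorem result (R : Type u) [CommRing R] [IsLocalRing R]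
    [IsAdicComplete (IsLocalRing.maximalIdeal R) R] [CharZero (IsLocalRing.ResidueField R)] :
    ∃ s : IsLocalRing.ResidueField R →+* R, (IsLocalRing.residue R).comp s = RingHom.id _ := by
  obtain ⟨g, hg⟩ := Cohen.exists_lift_charZero (Cohen.Filt.ofAdic (IsLocalRing.maximalIdeal R)) (IsLocalRing.residue R)
    IsLocalRing.residue_surjective (by
      rw [IsLocalRing.ker_residue]
      exact pow_one _)
  exact ⟨g, RingHom.ext hg⟩


end Groth.Agent.S0579
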