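import Groth.Prelude.Def_Found
import Mathlib.RingTheory.PowerSeries.Basic
import Mathlib.RingTheory.MvPowerSeries.Basic
import Mathlib.RingTheory.LocalRing.ResidueField.Basic
import Mathlib.RingTheory.AdicCompletion.Basic
import Groth.Agent.Lib.CplDomain.Normalization

set_option autoImplicit false
universe u
open CAlg

namespace Groth.Agent.S0580

/-- A local ring complete with respect to a finitely generated maximal ideal is a quotient of a power
series ring in finitely many variables over a ring which is either a field or a Cohen ring. -/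
theorem result (R : Type u) [CommRing R]
    [IsLocalRing R] [IsAdicComplete (IsLocalRing.maximalIdeal R) R]
    (hfg : (IsLocalRing.maximalIdeal R).FG) :
    ∃ (Λ : Type u) (_ : CommRing Λ) (n : ℕ) (f : MvPowerSeries (Fin n) Λ →+* R),
      (IsField Λ ∨ CAlg.IsCohenRing Λ) ∧ Function.Surjective f := by
  obtain ⟨Λ, i1, g, hg, hcases⟩ := CplDomain.exists_coefficient R
  letI : Algebra Λ R := g.toAlgebra
  obtain ⟨n, z, hz⟩ := Submodule.fg_iff_exists_fin_generating_family.mp hfg
  obtain ⟨ψ, hψ⟩ := H2Alg.PSHom.exists_algHom (A := Λ) (IsLocalRing.maximalIdeal R) z fun i => hz ▸ Submodule.subset_span ⟨i, rfl⟩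
  have hV : (H2Alg.PSHom.V n Λ).map ψ = IsLocalRing.maximalIdeal R := by
    rw [H2Alg.PSHom.V, Ideal.map_span, ← Set.range_comp, show (ψ ∘ fun i => MvPowerSeries.X i) = z from funext hψ]
    exact hz
  refine ⟨Λ, i1, n, ψ.toRingHom, hcases.imp id And.left,
    H2Alg.PSHom.surjective ψ (IsLocalRing.maximalIdeal R) hV fun t => ?_⟩
  obtain ⟨a, ha⟩ := hg (IsLocalRing.residue R t)
  refine ⟨a, ?_⟩
  rw [← IsLocalRing.residue_eq_zero_iff, map_sub, sub_eq_zero]
  exact ha.symm

end Groth.Agent.S0580
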