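import Groth.Statements.S0587
import Groth.Agent.Lib.CAlgLow.PiFlat

set_option autoImplicit false
universe u
open CAlg

namespace Groth.Agent.S0587

/-- A module `M` is finitely generated exactly when for every family of modules `(Qᵢ)` the natural map
from `M ⊗ ∏ Qᵢ` to `∏ (M ⊗ Qᵢ)` is surjective. -/
theorem result (R : Type u) [CommRing R] (M : Type u)
    [AddCommGroup M] [Module R M] :
    Module.Finite R M ↔ ∀ (ι : Type u) (Q : ι → Type u) [∀ i, AddCommGroup (Q i)]
      [∀ i, Module R (Q i)], Function.Surjective (TensorProduct.piRightHom R R M Q) := by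
  refine ⟨fun _ ι Q _ _ => Groth.Agent.CAlgLow.piRightHom_surjective, fun h => ?_⟩
  have hs : Function.Surjective (Groth.Agent.CAlgLow.piComp R M M) := fun g => by
    obtain ⟨z, hz⟩ := h M (fun _ => R) fun a => (TensorProduct.rid R M).symm (g a)
    exact ⟨z, by rw [Groth.Agent.CAlgLow.piComp_eq, hz]; simp⟩
  obtain ⟨z, hz⟩ := hs id
  obtain ⟨n, f, y, rfl⟩ := Groth.Agent.CAlgLow.exists_fin_preimage z
  exact Module.Finite.of_surjective f fun m =>
    ⟨Groth.Agent.CAlgLow.piComp R (Fin n → R) M y m, by rw [← Groth.Agent.CAlgLow.piComp_natural, hz]; rfl⟩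

end Groth.Agent.S0587
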