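import Groth.Statements.S0588
import Groth.Agent.Lib.CAlgLow.PiFlat

set_option autoImplicit false
universe u
open CAlg

namespace Groth.Agent.S0588

/-- A module `M` is finitely presented exactly when for every family of modules `(Qᵢ)` the natural map
from `M ⊗ ∏ Qᵢ` to `∏ (M ⊗ Qᵢ)` is bijective. -/
theorem result (R : Type u) [CommRing R] (M : Type u)
    [AddCommGroup M] [Module R M] :
    Module.FinitePresentation R M ↔ ∀ (ι : Type u) (Q : ι → Type u) [∀ i, AddCommGroup (Q i)]
      [∀ i, Module R (Q i)], Function.Bijective (TensorProduct.piRightHom R R M Q) := by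
  refine ⟨fun _ ι Q _ _ => Groth.Agent.CAlgLow.piRightHom_bijective, fun h => ?_⟩
  have hfin : Module.Finite R M := by
    obtain ⟨z, hz⟩ := (h M (fun _ => R)).2 fun m => (TensorProduct.rid R M).symm m
    obtain ⟨n, f, y, rfl⟩ := Groth.Agent.CAlgLow.exists_fin_preimage z
    refine Module.Finite.of_surjective f fun m => ⟨Groth.Agent.CAlgLow.piComp R (Fin n → R) M y m, ?_⟩
    rw [← Groth.Agent.CAlgLow.piComp_natural, Groth.Agent.CAlgLow.piComp_eq, hz]
    simp
  refine Groth.Agent.CAlgLow.finitePresentation_of_piComp_injective fun A x y hxy => (h A (fun _ => R)).1 ?_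
  refine funext fun a => (TensorProduct.rid R M).injective ?_
  simpa [Groth.Agent.CAlgLow.piComp_eq] using congrFun hxy a

end Groth.Agent.S0588
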