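import Groth.Statements.S0594
import Groth.Agent.Lib.LimH13.Struct

set_option autoImplicit false
universe u
open CategoryTheory AlgebraicGeometry
open Lim

namespace Groth.Agent.S0594

/-- Over a quasi-compact quasi-separated base `S`, let `X` be the limit of a cofiltered system of
quasi-compact quasi-separated `S`-schemes, locally of finite type over `S`, whose transition
morphisms are closed immersions. If `X → S` is a closed immersion then so is `Xᵢ → S` for some index
`i`. -/
theorem result {I : Type u} [SmallCategory I] [IsCofiltered I]
    (S : Scheme.{u}) [CompactSpace S] [QuasiSeparatedSpace S]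
    (D : I ⥤ Scheme.{u}) (t : D ⟶ (Functor.const I).obj S) (c : Limits.Cone D)
    (hc : Limits.IsLimit c) [∀ (i j : I) (f : i ⟶ j), IsClosedImmersion (D.map f)]
    [∀ i, CompactSpace (D.obj i)] [∀ i, QuasiSeparatedSpace (D.obj i)]
    [∀ i, LocallyOfFiniteType (t.app i)] (i₀ : I) [IsClosedImmersion (c.π.app i₀ ≫ t.app i₀)] :
    ∃ i : I, IsClosedImmersion (t.app i) := by
  exact LimH13.exists_isClosedImmersion_structureMap hc i₀

end Groth.Agent.S0594
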