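import Groth.Prelude.Def_CAlg
import Groth.Prelude.Def_Found
import Mathlib.RingTheory.IntegralClosure.IntegrallyClosed
import Mathlib.RingTheory.Localization.AtPrime.Basic
import Mathlib.RingTheory.Nilpotent.Defs
import Groth.Agent.Lib.SerreCrit.Basic

set_option autoImplicit false
universe u
open CAlg

namespace Groth.Agent.S0602

/-- A Noetherian ring is reduced exactly when it satisfies the conditions R₀ and S₁. -/
theorem result (R : Type u) [CommRing R] [IsNoetherianRing R] :
    IsReduced R ↔ (LocCoh.HasRk 0 R ∧ LocCoh.HasSk 1 R R) := by
  exact SerreCrit.isReduced_iff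

end Groth.Agent.S0602
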