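import Groth.Agent.Lib.AB5.Basic
import Groth.Agent.Lib.RegLoc.PD
import Groth.Statements.S0604
-- Template for statement S0604 (row 604; see the milestone table for weights).
-- Copy to Groth/Agent/S0604.lean and replace the sorry. The statement below is byte-identical to the frozen
-- statement CAlg.GrothFrozen.S0604 (Groth/Statements/S0604.lean; the theorem CAlg.auslander_buchsbaum);
-- the grader kernel-checks Groth.Agent.S0604.result against that frozen type. Keep the theorem IN THIS FILE
-- (a `result` declared elsewhere and merely imported here is not credited); helpers may live anywhere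
-- under Groth/Agent/.
-- import your own Groth.Agent.* helpers here

set_option autoImplicit false
universe u
open CategoryTheory
open CAlg

namespace Groth.Agent.S0604

/-- Over a Noetherian local ring `R`, a nonzero finitely generated module `M` of finite projective
dimension satisfies depth R = pd M + depth M. -/
theorem result (R : Type u) [CommRing R] [IsLocalRing R] [IsNoetherianRing R]
    (M : Type u) [AddCommGroup M] [Module R M] [Module.Finite R M] [Nontrivial M] (e : ℕ)
    (he : projectiveDimension (ModuleCat.of R M) = e) :
    LocCoh.depth R R = e + LocCoh.depth R M := by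
  have hlt : ∀ n, HasProjectiveDimensionLT (ModuleCat.of R M) (n + 1) ↔ e ≤ n := fun n => by
    rw [← projectiveDimension_lt_iff, he]
    exact ⟨fun h => Nat.lt_succ_iff.1 (by exact_mod_cast h), fun h => by exact_mod_cast Nat.lt_succ_of_le h⟩
  have hn : ∃ n, RegLoc.PD R M n := ⟨e, (hlt e).2 le_rfl⟩
  obtain ⟨d, hd⟩ := DepthLib.exists_depth_eq_natCast (R := R) (M := M)
  obtain ⟨t, ht⟩ := DepthLib.exists_depth_eq_natCast (R := R) (M := R)
  have key : ∀ j, RegLoc.PD R M j ↔ t ≤ d + j := AB5.pd_iff t ht hn hd (Nat.le_add_left t d)
  have hdt : d ≤ t := by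
    by_contra hc
    haveI := AB5.projective_of_depth_ge t R ht M hn (by rw [hd]; exact_mod_cast (le_of_not_ge hc))
    have h' := AB5.depth_of_projective (A := R) (M := M)
    rw [hd, ht] at h'
    exact hc (Nat.cast_le.1 h'.le)
  have h1 : t ≤ d + e := (key e).1 ((hlt e).2 le_rfl)
  have h2 : e ≤ t - d := (hlt (t - d)).1 ((key (t - d)).2 (by omega))
  rw [ht, hd]
  exact_mod_cast (by omega : t = e + d)

end Groth.Agent.S0604
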