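import Groth.Statements.S0605
import Groth.Agent.Lib.AB5.Basic
import Groth.Agent.Lib.CanElt.AB

set_option autoImplicit false
universe u
open CAlg

namespace Groth.Agent.S0605




/-- Over a regular local ring, a finitely generated module whose depth equals the dimension of the ring
(a maximal Cohen–Macaulay module) is free. -/
theorem result (R : Type u) [CommRing R]
    [IsRegularLocalRing R] (M : Type u) [AddCommGroup M] [Module R M] [Module.Finite R M]
    (h : ((LocCoh.depth R M : ℕ∞) : WithBot ℕ∞) = ringKrullDim R) : Module.Free R M := by
  rcases subsingleton_or_nontrivial M with hs | hs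
  · exact Module.Free.of_subsingleton R M
  obtain ⟨d, hd⟩ := Groth.Agent.DepthLib.exists_depth_eq_natCast (R := R) (M := M)
  rw [hd] at h
  have hp := (Groth.Agent.AB5.pd_iff_of_regular (A := R) (M := M) (t := d) h.symm hd 0).2 (Nat.le_add_right d 0)
  haveI := Groth.Agent.RegLoc.pd_zero_iff.1 hp
  exact Module.free_of_flat_of_isLocalRing

end Groth.Agent.S0605
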