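import Groth.Statements.S0608
import Groth.Agent.Lib.RelLinear29.Basic

set_option autoImplicit false
universe u
open RRAlg

namespace Groth.Agent.S0608

/-- Let a_1, …, a_n be a weakly regular sequence in a commutative ring A (each a_i is a non-zero-divisor
modulo (a_1, …, a_(i−1)); the a_i are allowed to generate the unit ideal). Then the kernel of the
A-algebra map A[X_1, …, X_n] → A[T] sending X_i to a_i·T, whose image is the Rees algebra of the
ideal (a_1, …, a_n), is the ideal generated by the elements a_i X_j − a_j X_i. (The published
statement assumes a regular sequence; only weak regularity is assumed here.) -/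
theorem result {A : Type u} [CommRing A] {n : ℕ} (a : Fin n → A)
    (ha : RingTheory.Sequence.IsWeaklyRegular A (List.ofFn a)) :
    RingHom.ker (MvPolynomial.aeval (R := A)
      (fun i : Fin n => Polynomial.C (a i) * (Polynomial.X : Polynomial A))) =
      Ideal.span {q : MvPolynomial (Fin n) A | ∃ i j : Fin n,
        q = MvPolynomial.C (a i) * MvPolynomial.X j - MvPolynomial.C (a j) * MvPolynomial.X i} := by
  exact RelLinear29.ker_toRees a ha

end Groth.Agent.S0608
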