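import Groth.Statements.S0611
import Groth.Agent.Lib.Depth.More

set_option autoImplicit false
universe u
open RRAlg

namespace Groth.Agent.S0611

/-- In a Noetherian local ring, any minimal generating set of an ideal generated by a regular sequence
is again a regular sequence: if a₁, …, aₙ is a regular sequence and b₁, …, bₙ are n elements
generating the same ideal, then b₁, …, bₙ is a regular sequence. (A regular sequence of length n
generating an ideal I is a minimal generating set of I, so "minimal" amounts to "of length n".) -/
theorem result {A : Type u} [CommRing A] [IsLocalRing A] [IsNoetherianRing A]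
    {n : ℕ} (a b : Fin n → A) (ha : RingTheory.Sequence.IsRegular A (List.ofFn a))
    (hab : Ideal.span (Set.range a) = Ideal.span (Set.range b)) :
    RingTheory.Sequence.IsRegular A (List.ofFn b) := by
  have hspan : ∀ c : Fin n → A, Ideal.ofList (List.ofFn c) = Ideal.span (Set.range c) := fun c => by
    show Ideal.span {r | r ∈ List.ofFn c} = _
    congr 1; ext x; simp [List.mem_ofFn]
  have hle : Ideal.span (Set.range a) ≤ IsLocalRing.maximalIdeal A := by
    refine IsLocalRing.le_maximalIdeal fun h => ha.top_ne_smul ?_
    rw [hspan a, h, Submodule.top_smul]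
  have hmem : ∀ x ∈ List.ofFn b, x ∈ IsLocalRing.maximalIdeal A := fun x hx => by
    obtain ⟨i, rfl⟩ := List.mem_ofFn.1 hx
    exact hle (hab ▸ Ideal.subset_span ⟨i, rfl⟩)
  rw [IsLocalRing.isRegular_iff_isWeaklyRegular_of_subset_maximalIdeal hmem]
  refine Groth.Agent.DepthLib.isWeaklyRegular_of_length_le_idealDepth _ hmem ?_
  have h := Groth.Agent.DepthLib.length_le_idealDepth ha.toIsWeaklyRegular
    (I := Ideal.ofList (List.ofFn b)) fun r hr => by
      rw [hspan, ← hab, ← hspan a]
      exact Ideal.subset_span hr
  simpa using h

end Groth.Agent.S0611
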