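import Groth.Statements.S0614
import Groth.Agent.Lib.KrullAkizuki.DVR
import Mathlib.AlgebraicGeometry.EllipticCurve.Reduction
import Mathlib.AlgebraicGeometry.EllipticCurve.IsomOfJ
import Mathlib.FieldTheory.IsAlgClosed.AlgebraicClosure

set_option autoImplicit false
universe u
open Neron

namespace Groth.Agent.S0614

open WeierstrassCurve Polynomial IsLocalRing IsDedekindDomain.HeightOneSpectrum

/-- An integral model with unit discriminant forces good reduction of the minimal model. -/
theorem hasGoodReduction_minimal {R : Type u} [CommRing R] [IsDomain R] [IsDiscreteValuationRing R]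
    {K : Type u} [Field K] [Algebra R K] [IsFractionRing R K] (W : WeierstrassCurve K)
    (C : VariableChange K) (W₀ : WeierstrassCurve R) (hC : C • W = W₀.baseChange K) (hΔ : IsUnit W₀.Δ) :
    (W.minimal R).HasGoodReduction R := by
  obtain ⟨Cm, hCm⟩ : ∃ Cm : VariableChange K, W.minimal R = Cm • W := ⟨_, rfl⟩
  set v := (IsDiscreteValuationRing.maximalIdeal R).valuation K
  have hv0 : v (W₀.baseChange K).Δ = 1 := by
    rw [WeierstrassCurve.baseChange, map_Δ]
    refine le_antisymm (valuation_le_one _ _) (not_lt.1 fun h => ?_)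
    exact ((valuation_lt_one_iff_mem _ _).1 h : W₀.Δ ∈ IsLocalRing.maximalIdeal R) hΔ
  have hsm : (C * Cm⁻¹) • W.minimal R = W₀.baseChange K := by
    rw [hCm, ← mul_smul, inv_mul_cancel_right, hC]
  haveI hint : IsIntegral R ((C * Cm⁻¹) • W.minimal R) := by rw [hsm]; exact ⟨W₀, rfl⟩
  have h1 : (valuation_Δ_aux R ((C * Cm⁻¹) • W.minimal R)).1 = 1 := by
    rw [valuation_Δ_aux_eq_of_isIntegral, hsm]; exact hv0
  have hle := (inferInstance : IsMinimal R (W.minimal R)).val_Δ_maximal.2 (j := C * Cm⁻¹) hint
  simp only [one_smul] at hle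
  refine ⟨le_antisymm ?_ ?_⟩
  · rw [← valuation_Δ_aux_eq_of_isIntegral R (W.minimal R)]
    exact (valuation_Δ_aux R (W.minimal R)).2
  · refine h1.ge.trans (le_of_le_of_eq ?_ (valuation_Δ_aux_eq_of_isIntegral R (W.minimal R)))
    exact hle (Subtype.coe_le_coe.1 (by rw [h1]; exact (valuation_Δ_aux R (W.minimal R)).2))

/-- The Legendre curve. -/
def legendre {F : Type u} [CommRing F] (l : F) : WeierstrassCurve F := ⟨0, -(1 + l), 0, l, 0⟩

theorem legendre_Δ {F : Type u} [CommRing F] (l : F) : (legendre l).Δ = 16 * (l * (l - 1)) ^ 2 := by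
  simp [legendre, WeierstrassCurve.Δ, b₂, b₄, b₆, b₈]; ring

theorem legendre_c₄ {F : Type u} [CommRing F] (l : F) : (legendre l).c₄ = 16 * (l ^ 2 - l + 1) := by
  simp [legendre, WeierstrassCurve.c₄, b₂, b₄]; ring

/-- The Deuring normal form. -/
def deuring {F : Type u} [CommRing F] (a : F) : WeierstrassCurve F := ⟨a, 0, 1, 0, 0⟩

theorem deuring_Δ {F : Type u} [CommRing F] (a : F) : (deuring a).Δ = a ^ 3 - 27 := by
  simp [deuring, WeierstrassCurve.Δ, b₂, b₄, b₆, b₈]; ring

theorem deuring_c₄ {F : Type u} [CommRing F] (a : F) : (deuring a).c₄ = a * (a ^ 3 - 24) := by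
  simp [deuring, WeierstrassCurve.c₄, b₂, b₄]; ring

theorem j_eq_of_mul {F : Type u} [Field F] (W : WeierstrassCurve F) [W.IsElliptic] {x : F}
    (h : W.c₄ ^ 3 = x * W.Δ) : W.j = x := by
  rw [WeierstrassCurve.j, h, ← W.coe_Δ', mul_comm x, Units.inv_mul_cancel_left]

theorem valuation_legendre {L : Type u} [Field L] {Γ : Type*} [LinearOrderedCommGroupWithZero Γ]
    (v : Valuation L Γ) {l j : L} (h2 : v 2 = 1) (hj : v j ≤ 1)
    (h : 256 * (l ^ 2 - l + 1) ^ 3 = j * (l * (l - 1)) ^ 2) :
    v l ≤ 1 ∧ v (16 * (l * (l - 1)) ^ 2) = 1 := by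
  have h256 : v 256 = 1 := by rw [show (256 : L) = 2 ^ 8 by norm_num, map_pow, h2, one_pow]
  have h16 : v 16 = 1 := by rw [show (16 : L) = 2 ^ 4 by norm_num, map_pow, h2, one_pow]
  have hl : v l ≤ 1 := by
    by_contra! hl
    have h1 : v (l - 1) = v l := v.map_sub_eq_of_lt_left (by rwa [map_one])
    have h0 : v (l ^ 2 - l + 1) = v l * v l := by
      have : v (1 : L) < v (l * (l - 1)) := by rw [map_one, map_mul, h1]; exact hl.trans_le (le_mul_of_one_le_right' hl.le)
      rw [show l ^ 2 - l + 1 = l * (l - 1) + 1 by ring, v.map_add_eq_of_lt_left this, map_mul, h1]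
    have h3 := congrArg v h
    rw [map_mul, map_mul, map_pow, map_pow, map_mul, h256, h0, h1, one_mul] at h3
    have h4 : (v l * v l) ^ 3 ≤ (v l * v l) ^ 2 := h3.trans_le (mul_le_of_le_one_left' hj)
    exact absurd h4 (not_le.2 (pow_lt_pow_right₀ (hl.trans_le (le_mul_of_one_le_right' hl.le)) (by norm_num)))
  refine ⟨hl, ?_⟩
  have hle : v (l * (l - 1)) ≤ 1 := by
    rw [map_mul]; exact mul_le_one' hl ((v.map_sub _ _).trans (by simp [hl]))
  rw [map_mul, map_pow, h16, one_mul]
  rcases hle.lt_or_eq with hlt | he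
  · exfalso
    have h0 : v (l ^ 2 - l + 1) = 1 := by
      rw [show l ^ 2 - l + 1 = l * (l - 1) + 1 by ring, v.map_add_eq_of_lt_right (by rwa [map_one]), map_one]
    have h3 := congrArg v h
    rw [map_mul, map_mul, map_pow, map_pow, h256, h0, one_pow, one_mul] at h3
    exact ((mul_le_of_le_one_left' hj).trans_lt (pow_lt_one₀ zero_le hlt two_ne_zero)).ne h3.symm
  · rw [he, one_pow]

theorem valuation_deuring {L : Type u} [Field L] {Γ : Type*} [LinearOrderedCommGroupWithZero Γ]
    (v : Valuation L Γ) {a j : L} (h2 : v 2 < 1) (h3 : v 3 = 1) (hj : v j ≤ 1)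
    (h : (a * (a ^ 3 - 24)) ^ 3 = j * (a ^ 3 - 27)) :
    v a ≤ 1 ∧ v (a ^ 3 - 27) = 1 := by
  have h24 : v (24 : L) < 1 := by
    rw [show (24 : L) = 2 ^ 3 * 3 by norm_num, map_mul, map_pow, h3, mul_one]
    exact pow_lt_one₀ zero_le h2 three_ne_zero
  have h27 : v (27 : L) = 1 := by rw [show (27 : L) = 3 ^ 3 by norm_num, map_pow, h3, one_pow]
  have ha : v a ≤ 1 := by
    by_contra! ha
    have hp : 1 < v (a ^ 3) := by rw [map_pow]; exact one_lt_pow₀ ha three_ne_zero
    have h4 : v (a ^ 3 - 24) = v (a ^ 3) := v.map_sub_eq_of_lt_left (h24.trans hp)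
    have h5 : v (a ^ 3 - 27) = v (a ^ 3) := v.map_sub_eq_of_lt_left (by rwa [h27])
    have h6 := congrArg v h
    rw [map_pow, map_mul, map_mul, h4, h5] at h6
    have h7 : (v a * v (a ^ 3)) ^ 3 ≤ v (a ^ 3) := h6.trans_le (mul_le_of_le_one_left' hj)
    refine absurd h7 (not_le.2 (lt_of_lt_of_le ?_ (le_self_pow (one_le_mul ha.le hp.le) three_ne_zero)))
    exact lt_mul_of_one_lt_left (zero_lt_one.trans hp) ha
  refine ⟨ha, ?_⟩
  have h3' : v (a ^ 3) ≤ 1 := by rw [map_pow]; exact pow_le_one' ha 3
  have hle : v (a ^ 3 - 27) ≤ 1 := (v.map_sub _ _).trans (max_le h3' h27.le)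
  refine hle.lt_or_eq.resolve_left fun hlt => ?_
  have hp : v (a ^ 3) = 1 := by
    rw [show a ^ 3 = (a ^ 3 - 27) + 27 by ring, v.map_add_eq_of_lt_right (by rwa [h27]), h27]
  have ha1 : v a = 1 := le_antisymm ha (not_lt.1 fun hh => by
    rw [map_pow] at hp; exact (pow_lt_one₀ zero_le hh three_ne_zero).ne hp)
  have h4 : v (a ^ 3 - 24) = 1 := by rw [v.map_sub_eq_of_lt_left (by rwa [hp]), hp]
  have h6 := congrArg v h
  rw [map_pow, map_mul, map_mul, ha1, h4, one_mul, one_pow] at h6
  exact ((mul_le_of_le_one_left' hj).trans_lt hlt).ne h6.symm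


/-- (c) (the base Dedekind scheme taken local): an elliptic curve E over the fraction field K of a
discrete valuation ring R has integral j-invariant if and only if it has potential good reduction
(stated here with a finite extension: there are a finite extension L of K and a discrete valuation
ring R_L of L dominating R over which a minimal Weierstrass equation of E_L has good reduction). -/
theorem result {R : Type u} [CommRing R] [IsDomain R]
    [IsDiscreteValuationRing R] {K : Type u} [Field K] [Algebra R K] [IsFractionRing R K]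
    (W : WeierstrassCurve K) [W.IsElliptic] :
    (∃ r : R, algebraMap R K r = W.j) ↔
      ∃ (L : Type u) (_ : Field L) (_ : Algebra K L) (_ : FiniteDimensional K L) (RL : Type u)
        (_ : CommRing RL) (_ : IsDomain RL) (_ : IsDiscreteValuationRing RL) (_ : Algebra RL L)
        (_ : IsFractionRing RL L) (φ : R →+* RL), IsLocalHom φ ∧
        (∀ r : R, algebraMap K L (algebraMap R K r) = algebraMap RL L (φ r)) ∧
        ((W.baseChange L).minimal RL).HasGoodReduction RL := by
  classical
  constructor
  · rintro ⟨r, hr⟩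
    let Kb := AlgebraicClosure K
    have hinj : Function.Injective ((algebraMap K Kb).comp (algebraMap R K)) :=
      (algebraMap K Kb).injective.comp (IsFractionRing.injective R K)
    let j' : Kb := algebraMap K Kb W.j
    have hnt : ¬ IsField R := IsDiscreteValuationRing.not_isField R
    -- the parameter and the model
    obtain ⟨p, W₀, hW₀e, hj₀, hval⟩ : ∃ (p : Kb) (W₀ : (F : Type u) → [Field F] → F → WeierstrassCurve F)
        (_ : (W₀ Kb p).IsElliptic), (W₀ Kb p).j = j' ∧
        ∀ (L : IntermediateField K Kb) (hp : p ∈ L) (V : ValuationSubring L),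
          (∀ a : R, V.valuation (algebraMap K L (algebraMap R K a)) ≤ 1) →
          (∀ a : R, ¬ IsUnit a → V.valuation (algebraMap K L (algebraMap R K a)) < 1) →
          ((W₀ L ⟨p, hp⟩).map L.val.toRingHom = W₀ Kb p) ∧
          ∃ W₁ : WeierstrassCurve V, IsUnit W₁.Δ ∧ W₁.baseChange L = W₀ L ⟨p, hp⟩ := by
      have key : ∀ (n : ℕ) (L : IntermediateField K Kb) (V : ValuationSubring L),
          (∀ a : R, V.valuation (algebraMap K L (algebraMap R K a)) ≤ 1) →
          IsUnit (n : R) → V.valuation (n : L) = 1 := by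
        intro n L V h1 hn
        obtain ⟨u, hu⟩ := hn.exists_right_inv
        have h := congrArg (fun a => V.valuation (algebraMap K L (algebraMap R K a))) hu
        simp only [map_mul, map_natCast, map_one] at h
        refine le_antisymm (by simpa using h1 n) ?_
        rw [← h]
        exact mul_le_of_le_one_right' (h1 u)
      have mkUnit : ∀ {L : IntermediateField K Kb} (V : ValuationSubring L) (x : V),
          V.valuation (x : L) = 1 → IsUnit x := fun V x hx => (V.valuation_eq_one_iff x).2 hx
      by_cases h2 : IsUnit (2 : R)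
      · have h2K : (2 : Kb) ≠ 0 := by
          have := h2.map ((algebraMap K Kb).comp (algebraMap R K))
          rw [map_ofNat] at this; exact this.ne_zero
        obtain ⟨l, hl⟩ := IsAlgClosed.exists_root
          (C (256 : Kb) * (X ^ 2 - X + 1) ^ 3 - C j' * (X * (X - 1)) ^ 2) (by
          have : (C (256 : Kb) * (X ^ 2 - X + 1) ^ 3 - C j' * (X * (X - 1)) ^ 2).natDegree = 6 := by
            compute_degree!
            rw [show (256 : Kb) = 2 ^ 8 by norm_num]; exact pow_ne_zero _ h2K
          exact (natDegree_pos_iff_degree_pos.1 (this ▸ by norm_num)).ne')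
        have hl' : 256 * (l ^ 2 - l + 1) ^ 3 = j' * (l * (l - 1)) ^ 2 := by
          simp [IsRoot] at hl; linear_combination hl
        have hll : l * (l - 1) ≠ 0 := by
          intro h
          rw [h, show l ^ 2 - l + 1 = l * (l - 1) + 1 by ring, h] at hl'
          simp at hl'
          exact pow_ne_zero 8 h2K (by linear_combination hl')
        haveI hE : (legendre l).IsElliptic := (isElliptic_iff _).2 (by
          rw [isUnit_iff_ne_zero, legendre_Δ, show (16 : Kb) = 2 ^ 4 by norm_num]
          exact mul_ne_zero (pow_ne_zero _ h2K) (pow_ne_zero _ hll))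
        refine ⟨l, fun F _ => legendre, hE, j_eq_of_mul _ ?_, fun L hp V h1 h1' => ⟨?_, ?_⟩⟩
        · rw [legendre_c₄, legendre_Δ]; linear_combination 16 * hl'
        · ext <;> simp [legendre] <;> ring
        · let l₀ : L := ⟨l, hp⟩
          have hL : 256 * (l₀ ^ 2 - l₀ + 1) ^ 3 = algebraMap K L W.j * (l₀ * (l₀ - 1)) ^ 2 :=
            L.val.toRingHom.injective (by simp only [map_mul, map_pow, map_add, map_sub, map_one, map_ofNat]; exact hl')
          obtain ⟨ha, hb⟩ := valuation_legendre V.valuation (key 2 L V h1 h2) (hr ▸ h1 r) hL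
          refine ⟨legendre ⟨l₀, (V.valuation_le_one_iff _).1 ha⟩, mkUnit V _ ?_, ?_⟩
          · rw [legendre_Δ]; push_cast; exact hb
          · ext <;> simp [legendre, WeierstrassCurve.baseChange, l₀]
      · have h3 : IsUnit (3 : R) := by
          by_contra h3
          have hm : (3 : R) - 2 ∈ IsLocalRing.maximalIdeal R := Ideal.sub_mem _ h3 h2
          exact hm (by norm_num)
        have h3K : (3 : Kb) ≠ 0 := by
          have := h3.map ((algebraMap K Kb).comp (algebraMap R K))
          rw [map_ofNat] at this; exact this.ne_zero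
        obtain ⟨a, ha⟩ := IsAlgClosed.exists_root
          ((X * (X ^ 3 - C (24 : Kb))) ^ 3 - C j' * (X ^ 3 - C 27)) (by
          have : ((X * (X ^ 3 - C (24 : Kb))) ^ 3 - C j' * (X ^ 3 - C 27)).natDegree = 12 := by
            compute_degree!
          exact (natDegree_pos_iff_degree_pos.1 (this ▸ by norm_num)).ne')
        have ha' : (a * (a ^ 3 - 24)) ^ 3 = j' * (a ^ 3 - 27) := by
          simp [IsRoot] at ha; linear_combination ha
        have haa : a ^ 3 - 27 ≠ 0 := by
          intro h
          have h27 : a ^ 3 = 27 := sub_eq_zero.1 h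
          rw [h, mul_zero, mul_pow, h27] at ha'
          norm_num at ha'
          exact pow_ne_zero 6 h3K (by linear_combination ha')
        haveI hE : (deuring a).IsElliptic := (isElliptic_iff _).2 (by
          rw [isUnit_iff_ne_zero, deuring_Δ]; exact haa)
        refine ⟨a, fun F _ => deuring, hE, j_eq_of_mul _ ?_, fun L hp V h1 h1' => ⟨?_, ?_⟩⟩
        · rw [deuring_c₄, deuring_Δ]; exact ha'
        · ext <;> simp [deuring]
        · let a₀ : L := ⟨a, hp⟩
          have hL : (a₀ * (a₀ ^ 3 - 24)) ^ 3 = algebraMap K L W.j * (a₀ ^ 3 - 27) :=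
            L.val.toRingHom.injective (by simp only [map_mul, map_pow, map_add, map_sub, map_one, map_ofNat]; exact ha')
          obtain ⟨hb, hc⟩ := valuation_deuring V.valuation (by have h := h1' 2 h2; rw [map_ofNat, map_ofNat] at h; exact h)
            (key 3 L V h1 h3) (hr ▸ h1 r) hL
          refine ⟨deuring ⟨a₀, (V.valuation_le_one_iff _).1 hb⟩, mkUnit V _ ?_, ?_⟩
          · rw [deuring_Δ]; push_cast; exact hc
          · ext <;> simp [deuring, WeierstrassCurve.baseChange, a₀]
    haveI := hW₀e
    obtain ⟨Cv, hCv⟩ := exists_variableChange_of_j_eq (W.map (algebraMap K Kb)) (W₀ Kb p)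
      (by rw [hj₀, map_j])
    let S : Set Kb := {p, (Cv.u : Kb), Cv.r, Cv.s, Cv.t}
    let L : IntermediateField K Kb := IntermediateField.adjoin K S
    haveI : FiniteDimensional K L := IntermediateField.finiteDimensional_adjoin
      fun x _ => Algebra.IsIntegral.isIntegral x
    have hm : ∀ x ∈ S, x ∈ L := fun x hx => IntermediateField.subset_adjoin _ _ hx
    letI : Algebra R L := ((algebraMap K L).comp (algebraMap R K)).toAlgebra
    haveI : IsScalarTower R K L := IsScalarTower.of_algebraMap_eq fun _ => rfl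
    obtain ⟨V, hV, hmem, hlt⟩ := Groth.Agent.KrullAkizuki.exists_dvr_dominating R hnt K L
    obtain ⟨hmap, W₁, hu, hW₁⟩ := hval L (hm _ (by simp [S])) V
      (fun a => (V.valuation_le_one_iff _).2 (hmem a)) (fun a ha => hlt a ha)
    let C₁ : VariableChange L :=
      ⟨Units.mk0 ⟨Cv.u, hm _ (by simp [S])⟩ (fun h => Cv.u.ne_zero (congrArg Subtype.val h)),
        ⟨Cv.r, hm _ (by simp [S])⟩, ⟨Cv.s, hm _ (by simp [S])⟩, ⟨Cv.t, hm _ (by simp [S])⟩⟩
    have hC₁ : C₁ • W.baseChange L = W₁.baseChange L := by
      rw [hW₁]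
      apply WeierstrassCurve.map_injective (f := L.val.toRingHom) L.val.toRingHom.injective
      show ((C₁ • W.baseChange L).map L.val.toRingHom) = _
      beta_reduce
      rw [← map_variableChange, hmap, WeierstrassCurve.baseChange, WeierstrassCurve.map_map]
      convert hCv using 2
      · ext <;> simp [C₁]
      · rw [IsScalarTower.algebraMap_eq K L Kb]; rfl
    let φ : R →+* V := (algebraMap R L).codRestrict V.toSubring hmem
    refine ⟨L, inferInstance, inferInstance, inferInstance, V, inferInstance, inferInstance, hV,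
      inferInstance, inferInstance, φ, ⟨fun a ha => ?_⟩, fun a => rfl,
      hasGoodReduction_minimal _ C₁ W₁ hC₁ hu⟩
    by_contra hna
    exact (hlt a hna).ne ((V.valuation_eq_one_iff _).1 ha)
  · rintro ⟨L, _, _, _, RL, _, _, _, _, _, φ, hφ, hcomp, hgood⟩
    haveI := hgood
    let W' := (W.baseChange L).minimal RL
    obtain ⟨Cm, hCm⟩ : ∃ Cm : VariableChange L, W' = Cm • W.baseChange L := ⟨_, rfl⟩
    let I := integralModel RL W'
    have hu : IsUnit I.Δ := by
      by_contra h
      have h1 := (valuation_lt_one_iff_mem (K := L) (IsDiscreteValuationRing.maximalIdeal RL) I.Δ).2 h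
      exact h1.ne ((congrArg _ (integralModel_Δ_eq RL W')).trans hgood.goodReduction)
    haveI : I.IsElliptic := (isElliptic_iff _).2 hu
    haveI : (W.baseChange L).IsElliptic := by rw [WeierstrassCurve.baseChange]; infer_instance
    have hj : algebraMap K L W.j = algebraMap RL L I.j := by
      have h1 : (I.map (algebraMap RL L)) = Cm • W.baseChange L := by
        rw [← hCm]; exact baseChange_integralModel_eq RL W'
      rw [← map_j I (algebraMap RL L)]
      rw [← map_j W (algebraMap K L)]
      rw [← variableChange_j (W.map (algebraMap K L)) Cm]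
      congr 1
      exact h1.symm
    rcases ValuationRing.isInteger_or_isInteger R W.j with h | ⟨r, hr⟩
    · exact h
    · by_cases hj0 : W.j = 0
      · exact ⟨0, by rw [hj0, map_zero]⟩
      obtain ⟨u, hu'⟩ : ∃ u, r * u = 1 := by
        refine IsUnit.exists_right_inv (hφ.1 r (IsUnit.of_mul_eq_one I.j ?_))
        apply IsFractionRing.injective RL L
        rw [map_mul, map_one, ← hcomp, hr, map_inv₀, ← hj]
        exact inv_mul_cancel₀ ((_root_.map_ne_zero _).2 hj0)
      refine ⟨u, ?_⟩
      have := congrArg (algebraMap R K) hu'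
      rw [map_mul, map_one, hr] at this
      exact (eq_inv_of_mul_eq_one_right this).trans (inv_inv _)

end Groth.Agent.S0614
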