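import Groth.Statements.S0615
import Groth.Agent.Lib.RelLinear29.Basic

set_option autoImplicit false
universe u
open RRAlg

namespace Groth.Agent.S0615

/-- Let A be a commutative ring and a_0, a_1, …, a_n a weakly regular sequence in A (for each i, a_i is
a non-zero-divisor on A/(a_0, …, a_{i−1}); the sequence is indexed here by Fin (n+1)). Then the
kernel of the A-algebra homomorphism A[T_1, …, T_n] → A[1/a_0] sending T_i to a_i/a_0 is the ideal
generated by the elements a_0 T_i − a_i for 1 ≤ i ≤ n (a presentation of the affine blow-up algebra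
A[a_1/a_0, …, a_n/a_0]). -/
theorem result {A : Type u} [CommRing A] {n : ℕ}
    (a : Fin (n + 1) → A) (ha : RingTheory.Sequence.IsWeaklyRegular A (List.ofFn a)) :
    RingHom.ker (MvPolynomial.aeval (R := A) (S₁ := Localization.Away (a 0))
      (fun i : Fin n => IsLocalization.mk' (Localization.Away (a 0)) (a i.succ)
        (⟨a 0, Submonoid.mem_powers (a 0)⟩ : Submonoid.powers (a 0)))) =
      Ideal.span (Set.range fun i : Fin n =>
        MvPolynomial.C (a 0) * MvPolynomial.X i - MvPolynomial.C (a i.succ)) := by
  exact RelLinear29.ker_toAffineBlowup a ha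

end Groth.Agent.S0615
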