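import Groth.Statements.S0619
import Groth.Agent.Lib.FunFldRH25.CurveWeil
-- import your own Groth.Agent.* helpers here

set_option autoImplicit false
universe u
open AlgebraicGeometry CategoryTheory
open Zeta

namespace Groth.Agent.S0619

/-- For a geometrically connected smooth proper curve of genus g over a finite field k with q elements
and a finite extension k' of degree n, |#C(k') − (qⁿ + 1)| ≤ 2g·q^(n/2). -/
theorem result {k : Type u} [Field k] [Finite k] {C : Scheme.{u}}
    (f : C ⟶ Spec (CommRingCat.of k)) (hC : Curve.IsSmoothProperCurve k C f)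
    [GeometricallyIrreducible f] (g : ℕ)
    (hg : Nat.card (Coh.HH C (Coh.structureModule C) 1) = Nat.card k ^ g)
    (k' : Type u) [Field k'] [Algebra k k'] [Finite k'] :
    |(SgaExt.pointCount f k' : ℝ) - ((Nat.card k : ℝ) ^ Module.finrank k k' + 1)| ≤
      2 * g * (Nat.card k : ℝ) ^ ((Module.finrank k k' : ℝ) / 2) := by
  obtain ⟨α, -, h2, -, h4⟩ := Groth.Agent.FunFldRH25.weil_curve f hC g hg
  set n := Module.finrank k k'
  have e : (((SgaExt.pointCount f k' : ℝ) - ((Nat.card k : ℝ) ^ n + 1) : ℝ) : ℂ) = -∑ i, α i ^ n := by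
    push_cast
    rw [h4 k']; ring
  rw [← Real.norm_eq_abs, ← Complex.norm_real, e, norm_neg]
  refine (norm_sum_le _ _).trans ?_
  rw [Finset.sum_congr rfl (g := fun _ => (Nat.card k : ℝ) ^ ((n : ℝ) / 2)) fun i _ => by
    rw [norm_pow, ← Real.sqrt_sq (norm_nonneg (α i)), h2 i, Real.sqrt_eq_rpow, ← Real.rpow_natCast,
      ← Real.rpow_mul (Nat.cast_nonneg _)]
    congr 1; ring]
  simp

end Groth.Agent.S0619
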