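import Groth.Statements.S0631
import Groth.Agent.Lib.EtStalk.IntegralUniv

set_option autoImplicit false
open CategoryTheory CategoryTheory.Limits AlgebraicGeometry Opposite
universe u
open EtCore

namespace Groth.Agent.S0631

/-- For a morphism f : X -> Y that is integral and universally injective, the direct image f_* on
abelian etale sheaves is full and faithful, an abelian sheaf on Y lies in its essential image
exactly when its support is contained in the image of f, and the counit f^{-1} f_* F -> F is an
isomorphism for every F. -/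
theorem result {X Y : Scheme.{u}} (f : X ⟶ Y)
    [IsIntegralHom f] [UniversallyInjective f] :
    (EtCoh.push f).Full ∧ (EtCoh.push f).Faithful ∧
    (∀ G : EtCoh.Ab Y, (EtCoh.push f).essImage G ↔ EtPBC.supp G ⊆ Set.range f.base) ∧
    ∀ F : EtCoh.Ab X, IsIso ((EtCoh.pullPushAdj f).counit.app F) := by
  have hc := Groth.Agent.EtStalk.isIso_counit_integral f
  have : IsIso (EtCoh.pullPushAdj f).counit := (NatTrans.isIso_iff_isIso_app _).2 hc
  refine ⟨(EtCoh.pullPushAdj f).fullyFaithfulROfIsIsoCounit.full,
    (EtCoh.pullPushAdj f).fullyFaithfulROfIsIsoCounit.faithful, fun G => ⟨?_, fun h => ?_⟩, hc⟩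
  · rintro ⟨F, ⟨e⟩⟩ y ⟨Ω, _, _, ξ, hξ, hne⟩
    exact Groth.Agent.EtStalk.supp_push_subset f F ⟨Ω, inferInstance, inferInstance, ξ, hξ,
      fun h0 => hne (h0.of_iso ((EtCoh.stalk ξ).mapIso e).symm)⟩
  · have := Groth.Agent.EtStalk.isIso_unit_integral f G h
    exact ⟨_, ⟨(asIso ((EtCoh.pullPushAdj f).unit.app G)).symm⟩⟩

end Groth.Agent.S0631
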