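import Groth.Statements.S0632
import Groth.Agent.Lib.EtStalk.EtLift

set_option autoImplicit false
open CategoryTheory CategoryTheory.Limits AlgebraicGeometry Opposite
universe u
open EtCore

namespace Groth.Agent.S0632

/-- Let X -> Y be a closed immersion and U_i -> X (i in ι) a jointly surjective family of etale
morphisms. Then one can find a jointly surjective family of etale Y-schemes V_j each of which either
has empty preimage over X or, after base change to X, maps into one of the U_i over X. -/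
theorem result {X Y : Scheme.{u}} (f : X ⟶ Y) [IsClosedImmersion f]
    {ι : Type u} (U : ι → X.Etale) (hU : EtCoh.Covers U) :
    ∃ (κ : Type u) (V : κ → Y.Etale), EtCoh.Covers V ∧
      ∀ j, IsEmpty ↥(pullback (V j).hom f) ∨
        ∃ (i : ι) (h : pullback (V j).hom f ⟶ (U i).left), h ≫ (U i).hom = pullback.snd (V j).hom f := by
  classical
  choose V h ho hw y hy using fun p : Σ i, ((U i).left : Type u) =>
    EtStalk.exists_lift_at f (U p.1) p.2
  have hopen : IsOpen (Set.range f.base)ᶜ := f.isClosedEmbedding.isClosed_range.isOpen_compl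
  let W₀ : Y.Etale := Scheme.Etale.mk (Scheme.Opens.ι ⟨_, hopen⟩)
  let V' : (Σ i, ((U i).left : Type u)) ⊕ PUnit.{u + 1} → Y.Etale := Sum.elim V fun _ => W₀
  refine ⟨_, V', ?_, ?_⟩
  · intro z
    by_cases hz : z ∈ Set.range f.base
    · obtain ⟨x, rfl⟩ := hz
      obtain ⟨i, u, hu⟩ := hU x
      refine ⟨Sum.inl ⟨i, u⟩, (pullback.fst (V ⟨i, u⟩).hom f).base (y ⟨i, u⟩), ?_⟩
      have h1 : (pullback.snd (V ⟨i, u⟩).hom f).base (y ⟨i, u⟩) = x := by
        rw [← hw, Scheme.Hom.comp_apply, hy]; exact hu
      refine (Scheme.Hom.comp_apply _ _ _).symm.trans ((congrArg (fun m : pullback (V ⟨i, u⟩).hom f ⟶ Y =>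
        m (y ⟨i, u⟩)) pullback.condition).trans ((Scheme.Hom.comp_apply _ _ _).trans ?_))
      exact congrArg f h1
    · exact ⟨Sum.inr PUnit.unit, ⟨z, hz⟩, rfl⟩
  · rintro (p | _)
    · exact Or.inr ⟨p.1, h p, hw p⟩
    · refine Or.inl ⟨fun q => ?_⟩
      have h1 : ((pullback.fst W₀.hom f).base q : _).1 ∉ Set.range f.base :=
        ((pullback.fst W₀.hom f).base q).2
      refine h1 ⟨(pullback.snd W₀.hom f).base q, ?_⟩
      rw [← Scheme.Hom.comp_apply, ← pullback.condition, Scheme.Hom.comp_apply]
      rfl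

end Groth.Agent.S0632
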