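import Groth.Statements.S0634
import Groth.Agent.Lib.EtStalk.Pull

set_option autoImplicit false
open CategoryTheory CategoryTheory.Limits AlgebraicGeometry Opposite
universe u
open EtCore

namespace Groth.Agent.S0634

/-- For an abelian sheaf F on the small etale site of S and two global sections s, t there is an open W
of S such that a morphism f : T -> S has image inside W if and only if the pullbacks of s and t
along f (images under the adjunction unit, as sections of the pullback sheaf over T) coincide. -/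
theorem result {S : Scheme.{u}} (F : EtCoh.Ab S) (s t : EtCoh.sect F (EtCoh.top S)) :
    ∃ W : S.Opens, ∀ (T : Scheme.{u}) (f : T ⟶ S),
      Set.range f.base ⊆ (W : Set S) ↔
        ((EtCoh.pullPushAdj f).unit.app F).hom.app (op (EtCoh.top S)) s =
          ((EtCoh.pullPushAdj f).unit.app F).hom.app (op (EtCoh.top S)) t := by
  classical
  let I := {V : S.Etale // ∀ g : V ⟶ EtCoh.top S, F.obj.map g.op s = F.obj.map g.op t}
  have hopen : ∀ V : I, IsOpen (Set.range V.1.hom.base) := fun V => by
    have : AlgebraicGeometry.Etale V.1.hom := V.1.prop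
    exact V.1.hom.isOpenMap.isOpen_range
  refine ⟨⟨⋃ V : I, Set.range V.1.hom.base, isOpen_iUnion hopen⟩, fun T f => ⟨fun hf => ?_, fun h => ?_⟩⟩
  · refine EtStalk.ext_germ (F := (EtCoh.pull f).obj F) _ _ fun Ω _ _ ξ y => ?_
    obtain ⟨V, hV⟩ := Set.mem_iUnion.1 (hf ⟨ξ (default : Spec (CommRingCat.of Ω)), rfl⟩)
    obtain ⟨v, hv⟩ := hV
    obtain ⟨φ, -⟩ := Scheme.pointSmallEtaleFiberObjToPreimage_surjective (ξ ≫ f)
      (s₀ := f (ξ (default : Spec (CommRingCat.of Ω)))) (Scheme.Hom.comp_apply _ _ _) V.1 ⟨v, hv⟩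
    let g : V.1 ⟶ EtCoh.top S := MorphismProperty.Over.homMk V.1.hom (Category.comp_id _)
    let x : EtStalk.fib (ξ ≫ f) (EtCoh.top S) := (Scheme.pointSmallEtale (ξ ≫ f)).fiber.map g φ
    have hy : EtStalk.liftFib f ξ x = y := ((EtStalk.fiberIso f ξ).app (EtCoh.top S)).toEquiv.symm.injective
      (Over.OverMorphism.ext ((Category.comp_id _).symm.trans ((Over.w _).trans
        ((Over.w _).symm.trans (Category.comp_id _)))))
    rw [← hy, ← EtStalk.germ_stalkPull, ← EtStalk.germ_stalkPull, ← EtStalk.germ_map,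
      ← EtStalk.germ_map, V.2 g]
  · rintro _ ⟨y, rfl⟩
    let ξ := EtStalk.geomPt T y
    let x : EtStalk.fib (ξ ≫ f) (EtCoh.top S) := Over.homMk (ξ ≫ f) (Category.comp_id _)
    have he : EtStalk.germ (ξ ≫ f) F x s = EtStalk.germ (ξ ≫ f) F x t := by
      apply (AddCommGrpCat.mono_iff_injective (EtStalk.stalkPull f ξ F)).1 inferInstance
      rw [EtStalk.germ_stalkPull, EtStalk.germ_stalkPull, h]
    obtain ⟨V, g, z, -, hz⟩ := (EtStalk.germ_eq_iff (ξ ≫ f) F x s t).1 he
    refine Set.mem_iUnion.2 ⟨⟨V, fun g' => ?_⟩, z.left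
      (default : Spec (CommRingCat.of (SeparableClosure (T.residueField y)))), ?_⟩
    · have : g' = g := MorphismProperty.Over.Hom.ext ((Category.comp_id _).symm.trans
        ((MorphismProperty.Over.w g').trans ((MorphismProperty.Over.w g).symm.trans (Category.comp_id _))))
      rw [this]
      exact hz
    · have hw : z.left ≫ V.hom = ξ ≫ f := Over.w z
      exact (Scheme.Hom.comp_apply z.left V.hom _).symm.trans ((congrArg
        (fun m : Spec (CommRingCat.of (SeparableClosure (T.residueField y))) ⟶ S => m default) hw).trans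
        ((Scheme.Hom.comp_apply _ _ _).trans (congrArg f (EtStalk.geomPt_default y))))

end Groth.Agent.S0634
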