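import Groth.Statements.S0636
import Groth.Agent.Lib.CurveFin32.Main

set_option autoImplicit false
open CategoryTheory CategoryTheory.Limits AlgebraicGeometry Opposite
universe u
open EtCore

namespace Groth.Agent.S0636

/-- Let k be an algebraically closed field, X proper over k of dimension at most 1, and F a
constructible torsion abelian sheaf on the small etale site of X. Then every etale cohomology group
H^q(X, F) is finite (no restriction on the torsion orders). -/
theorem result (k : Type u) [Field k] [IsAlgClosed k] (X : Scheme.{u})
    (f : X ⟶ Spec (CommRingCat.of k)) [IsProper f]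
    (hdim : topologicalKrullDim X ≤ 1) (F : EtCoh.Ab X) (hF : EtPBC.IsConstructible F) (hFt : EtCoh.IsTorsion F)
    (q : ℕ) : Finite (EtCoh.H X F q) := by
  exact Groth.Agent.CurveFin32.finiteIn q X f ‹_› hdim F hF

end Groth.Agent.S0636
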