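import Groth.Statements.S0643
-- import your own Groth.Agent.* helpers here

set_option autoImplicit false
universe u
open EtCore

namespace Groth.Agent.S0643

open Polynomial in
/-- Let A be a ring, assumed nonzero here (the published statement does not say so; over the zero ring
no polynomial has positive degree in Lean's sense), and a, b elements generating the unit ideal such
that some positive power of a is congruent to 1 modulo b. Then there is a monic polynomial P of
positive degree over A such that in B = A[y]/(P) the element a - b y is a unit. -/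
theorem result (A : Type u) [CommRing A] [Nontrivial A] (a b : A) (hab : IsCoprime a b)
    (hroot : ∃ n : ℕ, 0 < n ∧ a ^ n - 1 ∈ Ideal.span ({b} : Set A)) :
    ∃ P : A[X], P.Monic ∧ 0 < P.natDegree ∧
      IsUnit (algebraMap A (AdjoinRoot P) a - algebraMap A (AdjoinRoot P) b * AdjoinRoot.root P) := by
  classical
  obtain ⟨n, hn, ht⟩ := hroot
  obtain ⟨t, ht⟩ := Ideal.mem_span_singleton'.1 ht
  -- `(a, b)^(n-1)` is the unit ideal
  have hpow : ∀ k : ℕ, ∀ x : A, ∃ c : ℕ → A,
      ∑ i ∈ Finset.range (k + 1), c i * a ^ i * b ^ (k - i) = x := by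
    obtain ⟨p, q, hpq⟩ := hab
    intro k x
    refine ⟨fun i => x * p ^ i * q ^ (k - i) * (k.choose i), ?_⟩
    calc ∑ i ∈ Finset.range (k + 1), x * p ^ i * q ^ (k - i) * (k.choose i) * a ^ i * b ^ (k - i)
        = x * ∑ i ∈ Finset.range (k + 1), (p * a) ^ i * (q * b) ^ (k - i) * (k.choose i) := by
          rw [Finset.mul_sum]; exact Finset.sum_congr rfl fun i _ => by ring
      _ = x * (p * a + q * b) ^ k := by rw [← add_pow]
      _ = x := by rw [hpq, one_pow, mul_one]
  obtain ⟨m, rfl⟩ : ∃ m, n = m + 1 := ⟨n - 1, by omega⟩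
  obtain ⟨c, hc⟩ := hpow m (-t)
  let R : A[X] := ∑ i ∈ Finset.range (m + 1), Polynomial.C (c i) * Polynomial.X ^ i
  let P : A[X] := Polynomial.X ^ (m + 1) + R
  have hR : R.degree < ((m + 1 : ℕ) : WithBot ℕ) := by
    refine lt_of_le_of_lt (Polynomial.degree_sum_le _ _) ((Finset.sup_lt_iff (WithBot.bot_lt_coe _)).2 ?_)
    intro i hi
    exact lt_of_le_of_lt (Polynomial.degree_C_mul_X_pow_le i (c i))
      (WithBot.coe_lt_coe.2 (Finset.mem_range.1 hi))
  have hmonic : P.Monic := Polynomial.monic_X_pow_add hR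
  have hdeg : P.natDegree = m + 1 := by
    refine Polynomial.natDegree_eq_of_degree_eq_some ?_
    rw [Polynomial.degree_add_eq_left_of_degree_lt (by rwa [Polynomial.degree_X_pow]),
      Polynomial.degree_X_pow]
  refine ⟨P, hmonic, by omega, ?_⟩
  rw [← Ideal.span_singleton_eq_top, ← Ideal.Quotient.subsingleton_iff]
  refine subsingleton_of_zero_eq_one ?_
  set u := algebraMap A (AdjoinRoot P) a - algebraMap A (AdjoinRoot P) b * AdjoinRoot.root P
  let φ := (Ideal.Quotient.mk (Ideal.span {u})).comp (algebraMap A (AdjoinRoot P))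
  let y := Ideal.Quotient.mk (Ideal.span {u}) (AdjoinRoot.root P)
  have hay : φ a = φ b * y := by
    simp only [φ, y, RingHom.comp_apply, ← map_mul]
    exact (Ideal.Quotient.mk_eq_mk_iff_sub_mem _ _).2 (Ideal.mem_span_singleton_self u)
  have hP : y ^ (m + 1) + ∑ i ∈ Finset.range (m + 1), φ (c i) * y ^ i = 0 := by
    have h0 := congrArg (Ideal.Quotient.mk (Ideal.span {u})) (AdjoinRoot.eval₂_root P)
    simp only [P, R, Polynomial.eval₂_add, Polynomial.eval₂_pow, Polynomial.eval₂_X,
      Polynomial.eval₂_finset_sum, Polynomial.eval₂_mul, Polynomial.eval₂_C, map_add, map_pow, map_zero,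
      map_sum, map_mul] at h0
    exact h0
  have h1 : φ 1 = φ (a ^ (m + 1)) + φ (∑ i ∈ Finset.range (m + 1), c i * a ^ i * b ^ (m - i)) * φ b := by
    rw [hc, ← map_mul, ← map_add, neg_mul, ht]
    congr 1
    ring
  rw [map_one, map_pow, map_sum, Finset.sum_mul, hay] at h1
  rw [h1]
  have e : ∀ i ∈ Finset.range (m + 1),
      φ (c i * a ^ i * b ^ (m - i)) * φ b = φ b ^ (m + 1) * (φ (c i) * y ^ i) := fun i hi => by
    rw [map_mul, map_mul, map_pow, map_pow, hay, mul_pow]
    have : m + 1 = i + (m - i) + 1 := by have := Finset.mem_range.1 hi; omega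
    conv_rhs => rw [this]
    ring
  rw [Finset.sum_congr rfl e, ← Finset.mul_sum, mul_pow, ← mul_add, hP, mul_zero]

end Groth.Agent.S0643
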