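import Groth.Statements.S0644
import Groth.Agent.Lib.EtSite.Sheaf

set_option autoImplicit false
open CategoryTheory CategoryTheory.Limits AlgebraicGeometry Opposite
universe u
open EtCore

namespace Groth.Agent.S0644

/-- Let F be a sheaf of sets on the small etale site of S which is a subsheaf of the final sheaf, i.e.
every set of sections has at most one element. Then there is exactly one open W of S such that F is
isomorphic to the sheaf represented by W (viewed as a scheme etale over S). -/
theorem result (S : Scheme.{u}) (F : Sheaf S.smallEtaleTopology (Type u))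
    (hF : ∀ U : S.Etale, Subsingleton (F.obj.obj (op U))) :
    ∃! W : S.Opens, Nonempty (F.obj ≅ yoneda.obj (Scheme.Etale.mk W.ι)) := by
  classical
  let I := {U : S.Etale // Nonempty (F.obj.obj (op U))}
  have hopen : ∀ U : I, IsOpen (Set.range U.1.hom.base) := fun U => by
    have : AlgebraicGeometry.Etale U.1.hom := U.1.prop
    exact U.1.hom.isOpenMap.isOpen_range
  let W : S.Opens := ⟨⋃ U : I, Set.range U.1.hom.base, isOpen_iUnion hopen⟩
  have hne : ∀ U : S.Etale, Set.range U.hom.base ⊆ (W : Set S) → Nonempty (F.obj.obj (op U)) := by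
    intro U hU
    let R : Sieve U :=
      { arrows := fun V _ => Nonempty (F.obj.obj (op V))
        downward_closed := fun {V V'} _ h g => h.map (F.obj.map g.op) }
    have hR : R ∈ S.smallEtaleTopology U := by
      rw [EtSite.mem_et_iff]
      intro x
      obtain ⟨V, hV⟩ := Set.mem_iUnion.1 (hU ⟨x, rfl⟩)
      obtain ⟨v, hv⟩ := hV
      obtain ⟨z, hz, -⟩ := Scheme.Pullback.exists_preimage_pullback
        (f := U.hom) (g := V.1.hom) x v hv.symm
      have : AlgebraicGeometry.Etale U.hom := U.prop
      have : AlgebraicGeometry.Etale V.1.hom := V.1.prop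
      let P : S.Etale := Scheme.Etale.mk (pullback.fst U.hom V.1.hom ≫ U.hom)
      let q : P ⟶ V.1 := MorphismProperty.Over.homMk (pullback.snd U.hom V.1.hom) pullback.condition.symm
      exact ⟨P, MorphismProperty.Over.homMk (pullback.fst U.hom V.1.hom) rfl, z,
        V.2.map (F.obj.map q.op), hz⟩
    let fam : Presieve.FamilyOfElements F.obj R.arrows := fun V g hg => Classical.choice hg
    have hfam : fam.Compatible := fun _ _ Z _ _ _ _ _ _ _ => @Subsingleton.elim _ (hF Z) _ _
    exact ⟨(((isSheaf_iff_isSheaf_of_type _ _).1 F.property) R hR).amalgamate fam hfam⟩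
  have hW : Nonempty (F.obj.obj (op (Scheme.Etale.mk W.ι))) := hne _ (Scheme.Opens.range_ι W).subset
  have hsub : ∀ (W' : S.Opens) (U : S.Etale), Subsingleton (U ⟶ Scheme.Etale.mk W'.ι) := fun W' U =>
    ⟨fun a b => MorphismProperty.Over.Hom.ext ((cancel_mono W'.ι).1
      ((MorphismProperty.Over.w a).trans (MorphismProperty.Over.w b).symm))⟩
  have hrange : ∀ (W' : S.Opens) (U : S.Etale), (U ⟶ Scheme.Etale.mk W'.ι) →
      Set.range U.hom.base ⊆ (W' : Set S) := by
    rintro W' U a _ ⟨x, rfl⟩
    have hw : a.left ≫ W'.ι = U.hom := MorphismProperty.Over.w a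
    rw [← hw, Scheme.Hom.comp_apply]
    exact (a.left x).2
  have hWι : IsOpenImmersion W.ι := inferInstance
  let mkHom : ∀ U : S.Etale, Nonempty (F.obj.obj (op U)) → (U ⟶ Scheme.Etale.mk W.ι) := fun U s =>
    have hr : Set.range U.hom ⊆ Set.range W.ι := (show Set.range U.hom ⊆ (W : Set S) from
      fun z hz => Set.mem_iUnion.2 ⟨⟨U, s⟩, hz⟩).trans (Scheme.Opens.range_ι W).symm.subset
    MorphismProperty.Over.homMk (@IsOpenImmersion.lift _ _ _ W.ι U.hom hWι hr)
      (@IsOpenImmersion.lift_fac _ _ _ W.ι U.hom hWι hr)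
  refine ⟨W, ⟨NatIso.ofComponents (fun U => Equiv.toIso
    { toFun := fun s => mkHom U.unop ⟨s⟩
      invFun := fun a => Classical.choice (hne U.unop (hrange W U.unop a))
      left_inv := fun s => @Subsingleton.elim _ (hF U.unop) _ _
      right_inv := fun a => @Subsingleton.elim _ (hsub W U.unop) _ _ })
    (fun {U V} g => ConcreteCategory.hom_ext _ _ fun s => @Subsingleton.elim _ (hsub W V.unop) _ _)⟩, ?_⟩
  rintro W' ⟨e⟩
  apply le_antisymm
  · intro z hz
    exact Set.mem_iUnion.2 ⟨⟨Scheme.Etale.mk W'.ι, ⟨e.inv.app _ (𝟙 _)⟩⟩,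
      (Scheme.Opens.range_ι W').symm.subset hz⟩
  · intro z hz
    obtain ⟨s⟩ := hW
    exact hrange W' _ (e.hom.app (op (Scheme.Etale.mk W.ι)) s) ((Scheme.Opens.range_ι W).symm.subset hz)

end Groth.Agent.S0644
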