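import Groth.Statements.S0645
import Groth.Agent.Lib.EtBCQ24.Mono
import Groth.Agent.Lib.PBC24.ExtZeroTorsion
import Groth.Agent.Lib.PBC24.Main
-- import your own Groth.Agent.* helpers here

set_option autoImplicit false
open CategoryTheory CategoryTheory.Limits AlgebraicGeometry Opposite
universe u
open EtCore

namespace Groth.Agent.S0645

set_option linter.style.haveILetI false
set_option backward.isDefEq.respectTransparency.types false


/-- Let A be a henselian local ring, X the projective line over A, X_0 its closed fibre (base change to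
the residue field) and ℓ a prime. Let I be an abelian sheaf on the small etale site of X killed by ℓ
which is injective in the full subcategory of sheaves killed by ℓ (an injective sheaf of
Z/ℓ-modules). Then the pullback of I to X_0 has vanishing etale cohomology in positive degrees. -/
theorem result (A : Type u) [CommRing A] [HenselianLocalRing A]
    (ℓ : ℕ) [Fact ℓ.Prime] (I : EtCoh.Ab (CohB1.ProjSpace 1 A)) (hI : EtCoh.KilledBy ℓ I)
    (hinj : Injective (ObjectProperty.FullSubcategory.mk (P := fun F : EtCoh.Ab (CohB1.ProjSpace 1 A) => EtCoh.KilledBy ℓ F) I hI))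
    (q : ℕ) (hq : 1 ≤ q) :
    Subsingleton (EtCoh.H (pullback (CohB1.ProjSpace.toSpec 1 A) (Spec.map (CommRingCat.ofHom (IsLocalRing.residue A))))
      ((EtCoh.pull (pullback.fst (CohB1.ProjSpace.toSpec 1 A)
        (Spec.map (CommRingCat.ofHom (IsLocalRing.residue A))))).obj I) q) := by
  let X := CohB1.ProjSpace 1 A
  have h0 : ℓ • 𝟙 I = 0 := EtBCQ24.nsmul_id_of_killedBy hI
  obtain ⟨J, u, hu, hJ, hJ0⟩ := EtBCQ24.exists_acyc_embed I h0
  haveI := hu
  let P : ObjectProperty (EtCoh.Ab X) := fun F => EtCoh.KilledBy ℓ F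
  let I' : P.FullSubcategory := ⟨I, hI⟩
  let J' : P.FullSubcategory := ⟨J, EtBCQ24.killedBy_of_nsmul hJ0⟩
  haveI : Injective I' := hinj
  let u' : I' ⟶ J' := ObjectProperty.homMk u
  haveI : Mono u' := P.ι.mono_of_mono_map (show Mono u from hu)
  let r : J ⟶ I := P.ι.map (Injective.factorThru (𝟙 I') u')
  have hr : u ≫ r = 𝟙 I := by
    show P.ι.map u' ≫ P.ι.map (Injective.factorThru (𝟙 I') u') = P.ι.map (𝟙 I')
    rw [← Functor.map_comp, Injective.comp_factorThru]
  haveI : IsIso (EtCoh.top X).hom := inferInstanceAs (IsIso (𝟙 X))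
  haveI : Subsingleton (EtCoh.H X J q) :=
    @Function.Injective.subsingleton _ _ _ (LocAcyc24.bijective_Hpull_of_isIso (EtCoh.top X).hom J q).1
      (hJ (EtCoh.top X) q hq)
  haveI : Subsingleton (EtCoh.H X I q) := subsingleton_of_forall_eq 0 fun z => by
    refine ((congrArg (fun t => z.comp t (add_zero q)) (show Abelian.Ext.mk₀ (u ≫ r) = Abelian.Ext.mk₀ (𝟙 I) by rw [hr])).trans
      (Abelian.Ext.comp_mk₀_id z)).symm.trans ?_
    rw [← Abelian.Ext.mk₀_comp_mk₀, ← Abelian.Ext.comp_assoc_of_second_deg_zero,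
      Subsingleton.elim (z.comp (Abelian.Ext.mk₀ u) (add_zero q)) 0, Abelian.Ext.zero_comp]
  haveI : IsProper (CohB1.ProjSpace.toSpec 1 A) := inferInstance
  exact (PBC24.bijective_Hpull_closedFibre PBC24.properBC A (CohB1.ProjSpace.toSpec 1 A)
    (PBC24.isTorsion_of_killedBy (Fact.out : ℓ.Prime).pos hI) q).2.subsingleton

end Groth.Agent.S0645
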