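import Groth.Statements.S0649
import Groth.Agent.Lib.ExtShriek24.Iso

set_option autoImplicit false
open CategoryTheory CategoryTheory.Limits AlgebraicGeometry Opposite
universe u
open EtCore

namespace Groth.Agent.S0649

/-- Extension by zero commutes with pullback, for abelian sheaves. Let f : Y → X be a morphism of
schemes and j : V → X étale, and let V' = Y ×_X V with projections j' : V' → Y and f' : V' → V. Then
the functors j'_! ∘ f'^(-1) and f^(-1) ∘ j_! from abelian sheaves on V_ét to abelian sheaves on Y_ét
are isomorphic. Only the existence of an isomorphism of functors is asserted; the published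
statement gives the canonical one. (Continuity of the composition functor of étale sites, which
always holds, is carried as an instance hypothesis.) -/
theorem result {V' V Y X : Scheme.{u}} (j : V ⟶ X) [AlgebraicGeometry.Etale j] [EtShriek.JCont j]
    (f : Y ⟶ X) (j' : V' ⟶ Y) [AlgebraicGeometry.Etale j'] [EtShriek.JCont j'] (f' : V' ⟶ V)
    (h : IsPullback j' f' f j) :
    Nonempty (EtCoh.pull f' ⋙ EtShriek.extZero j' ≅ EtShriek.extZero j ⋙ EtCoh.pull f) := by
  exact ⟨Groth.Agent.ExtShriek24.extZeroBC j f j' f' h⟩

end Groth.Agent.S0649
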