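import Groth.Statements.S0658
import Groth.Agent.Lib.EtField24.Coprod

set_option autoImplicit false
open CategoryTheory CategoryTheory.Limits AlgebraicGeometry Opposite
universe u
open EtCore

namespace Groth.Agent.S0658

/-- Let k be a field and φ : U → Spec k a morphism of schemes. Then φ is étale if and only if U is
isomorphic over k to a disjoint union ∐ Spec K_i with each K_i a finite separable field extension of
k. -/
theorem result (k : Type u) [Field k] (U : Scheme.{u}) (φ : U ⟶ Spec (CommRingCat.of k)) :
    AlgebraicGeometry.Etale φ ↔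
      ∃ (ι : Type u) (K : ι → Type u) (_ : ∀ i, Field (K i)) (_ : ∀ i, Algebra k (K i))
        (_ : ∀ i, FiniteDimensional k (K i)) (_ : ∀ i, Algebra.IsSeparable k (K i))
        (e : (∐ fun i => Spec (CommRingCat.of (K i))) ≅ U),
        ∀ i, Sigma.ι (fun i => Spec (CommRingCat.of (K i))) i ≫ e.hom ≫ φ =
          Spec.map (CommRingCat.ofHom (algebraMap k (K i))) := by
  refine ⟨fun h => ?_, ?_⟩
  · exact Groth.Agent.EtField24.exists_coprod_of_etale φ
  · rintro ⟨ι, K, _, _, _, _, e, he⟩
    exact Groth.Agent.EtField24.etale_of_coprod φ K e he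

end Groth.Agent.S0658
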