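import Groth.Statements.S0659
import Groth.Agent.Lib.EtStalk.ExtSheaf

set_option autoImplicit false
open CategoryTheory CategoryTheory.Limits AlgebraicGeometry Opposite
universe u
open EtCore

namespace Groth.Agent.S0659

open Groth.Agent.EtStalk CategoryTheory.Abelian

variable (X : Scheme.{u}) (U V : X.Opens)

/-- The intersection maps into the first open. -/
noncomputable abbrev mU : zExt (U ⊓ V).ι ⟶ zExt U.ι :=
  zExtMap (X.homOfLE (inf_le_left : U ⊓ V ≤ U)) U.ι (U ⊓ V).ι (X.homOfLE_ι inf_le_left)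

/-- The intersection maps into the second open. -/
noncomputable abbrev mV : zExt (U ⊓ V).ι ⟶ zExt V.ι :=
  zExtMap (X.homOfLE (inf_le_right : U ⊓ V ≤ V)) V.ι (U ⊓ V).ι (X.homOfLE_ι inf_le_right)

/-- The Mayer-Vietoris sequence of constant sheaves. -/
noncomputable abbrev mvSeq : ShortComplex (EtCoh.Ab X) :=
  ShortComplex.mk (biprod.lift (mU X U V) (mV X U V))
    (biprod.desc (zExtCounit U.ι) (-zExtCounit V.ι)) (by
      rw [biprod.lift_desc, Preadditive.comp_neg, zExtMap_counit, zExtMap_counit, add_neg_cancel])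

lemma mvSeq_shortExact (hUV : U ⊔ V = ⊤) : (mvSeq X U V).ShortExact := by
  have key : ∀ (Ω : Type u) [Field Ω] [IsSepClosed Ω] (ξ : Spec (CommRingCat.of Ω) ⟶ X),
      Function.Injective ((EtCoh.stalk ξ).map (mvSeq X U V).f) ∧
      Function.Surjective ((EtCoh.stalk ξ).map (mvSeq X U V).g) ∧
      ∀ p, (EtCoh.stalk ξ).map (mvSeq X U V).g p = 0 →
        ∃ c, (EtCoh.stalk ξ).map (mvSeq X U V).f c = p := by
    intro Ω _ _ ξ
    set x := ξ (default : Spec (CommRingCat.of Ω))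
    have hr : ∀ W : X.Opens, (x ∈ Set.range W.ι ↔ x ∈ W) := fun W => by
      rw [Scheme.Opens.range_ι]; rfl
    let s := EtCoh.stalk ξ
    have : s.Additive := by
      have : PreservesFiniteLimits s := inferInstanceAs (PreservesFiniteLimits (EtCoh.stalk ξ))
      exact Functor.additive_of_preserves_binary_products s
    let a : s.obj (mvSeq X U V).X₂ ⟶ s.obj (zExt U.ι) := s.map biprod.fst
    let b : s.obj (mvSeq X U V).X₂ ⟶ s.obj (zExt V.ι) := s.map biprod.snd
    let cU : s.obj (zExt U.ι) ⟶ _ := s.map (zExtCounit U.ι)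
    let cV : s.obj (zExt V.ι) ⟶ _ := s.map (zExtCounit V.ι)
    let cW : s.obj (zExt (U ⊓ V).ι) ⟶ _ := s.map (zExtCounit (U ⊓ V).ι)
    have fa : ∀ c, a (s.map (mvSeq X U V).f c) = s.map (mU X U V) c := fun c => by
      rw [← ConcreteCategory.comp_apply]
      exact ConcreteCategory.congr_hom ((s.map_comp _ _).symm.trans
        (congrArg s.map (biprod.lift_fst _ _))) c
    have fb : ∀ c, b (s.map (mvSeq X U V).f c) = s.map (mV X U V) c := fun c => by
      rw [← ConcreteCategory.comp_apply]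
      exact ConcreteCategory.congr_hom ((s.map_comp _ _).symm.trans
        (congrArg s.map (biprod.lift_snd _ _))) c
    have gdesc : ∀ p, s.map (mvSeq X U V).g p = cU (a p) - cV (b p) := fun p => by
      have h : (mvSeq X U V).g =
          biprod.fst ≫ zExtCounit U.ι - biprod.snd ≫ zExtCounit V.ι := by
        refine biprod.hom_ext' _ _ ?_ ?_ <;> simp [mvSeq]
      change (EtCoh.stalk ξ).map _ p = _
      rw [h, Functor.map_sub, Functor.map_comp, Functor.map_comp]
      rfl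
    have pext : ∀ p q : s.obj (mvSeq X U V).X₂, a p = a q → b p = b q → p = q := fun p q h₁ h₂ => by
      have e : ∀ r, r = s.map biprod.inl (a r) + s.map biprod.inr (b r) := fun r => by
        have h := congrArg s.map (biprod.total (X := zExt U.ι) (Y := zExt V.ι))
        rw [s.map_id, Functor.map_add, Functor.map_comp, Functor.map_comp] at h
        exact (ConcreteCategory.congr_hom h r).symm
      rw [e p, e q, h₁, h₂]
    have hU' : ∀ c, cU (s.map (mU X U V) c) = cW c := fun c => by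
      rw [← ConcreteCategory.comp_apply]
      exact ConcreteCategory.congr_hom ((s.map_comp _ _).symm.trans
        (congrArg s.map (zExtMap_counit _ _ _ _))) c
    have hV' : ∀ c, cV (s.map (mV X U V) c) = cW c := fun c => by
      rw [← ConcreteCategory.comp_apply]
      exact ConcreteCategory.congr_hom ((s.map_comp _ _).symm.trans
        (congrArg s.map (zExtMap_counit _ _ _ _))) c
    refine ⟨?_, ?_, ?_⟩
    · refine (injective_iff_map_eq_zero _).2 fun c hc => ?_
      by_cases h : x ∈ U ⊓ V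
      · refine (bijective_stalk_zExtCounit (U ⊓ V).ι ξ ((hr _).2 h)).1 ?_
        change cW c = cW 0
        rw [map_zero, ← hU' c, ← fa]
        change cU (a (s.map (mvSeq X U V).f c)) = 0
        rw [show s.map (mvSeq X U V).f c = 0 from hc, map_zero, map_zero]
      · exact @Subsingleton.elim _ (subsingleton_stalk_zExt (U ⊓ V).ι ξ fun h' => h ((hr _).1 h')) _ _
    · intro z
      have hx : x ∈ U ⊔ V := hUV ▸ (trivial : x ∈ (⊤ : X.Opens))
      rcases hx with h | h
      · obtain ⟨w, hw⟩ := (bijective_stalk_zExtCounit U.ι ξ ((hr _).2 h)).2 z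
        refine ⟨s.map biprod.inl w, ?_⟩
        refine Eq.trans ?_ hw
        exact ConcreteCategory.congr_hom ((s.map_comp _ _).symm.trans
          (congrArg s.map (biprod.inl_desc _ _))) w
      · obtain ⟨w, hw⟩ := (bijective_stalk_zExtCounit V.ι ξ ((hr _).2 h)).2 z
        refine ⟨s.map biprod.inr (-w), ?_⟩
        refine (ConcreteCategory.congr_hom ((s.map_comp _ _).symm.trans
          (congrArg s.map (biprod.inr_desc _ _))) (-w)).trans ?_
        rw [Functor.map_neg]
        change -((EtCoh.stalk ξ).map (zExtCounit V.ι) (-w)) = z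
        rw [map_neg, neg_neg, hw]
    · intro p hp
      have hp' : cU (a p) = cV (b p) := sub_eq_zero.1 ((gdesc p).symm.trans hp)
      by_cases h : x ∈ U ⊓ V
      · obtain ⟨c, hc⟩ := (bijective_stalk_zExtCounit (U ⊓ V).ι ξ ((hr _).2 h)).2 (cU (a p))
        refine ⟨c, pext _ _ ?_ ?_⟩
        · exact (fa c).trans ((bijective_stalk_zExtCounit U.ι ξ ((hr _).2 h.1)).1
            ((hU' c).trans hc))
        · exact (fb c).trans ((bijective_stalk_zExtCounit V.ι ξ ((hr _).2 h.2)).1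
            ((hV' c).trans (hc.trans hp')))
      · refine ⟨0, pext _ _ ?_ ?_⟩
        · rw [map_zero, map_zero]
          by_cases hu : x ∈ U
          · refine (bijective_stalk_zExtCounit U.ι ξ ((hr _).2 hu)).1 ?_
            change cU 0 = cU (a p)
            rw [hp', map_zero, @Subsingleton.elim _
              (subsingleton_stalk_zExt V.ι ξ fun h' => h ⟨hu, (hr _).1 h'⟩) (b p) 0, map_zero]
          · exact @Subsingleton.elim _ (subsingleton_stalk_zExt U.ι ξ fun h' => hu ((hr _).1 h')) _ _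
        · rw [map_zero, map_zero]
          by_cases hv : x ∈ V
          · refine (bijective_stalk_zExtCounit V.ι ξ ((hr _).2 hv)).1 ?_
            change cV 0 = cV (b p)
            rw [← hp', map_zero, @Subsingleton.elim _
              (subsingleton_stalk_zExt U.ι ξ fun h' => h ⟨(hr _).1 h', hv⟩) (a p) 0, map_zero]
          · exact @Subsingleton.elim _ (subsingleton_stalk_zExt V.ι ξ fun h' => hv ((hr _).1 h')) _ _
  exact
    { exact := by
        rw [exact_iff_stalk]
        intro Ω _ _ ξ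
        rw [ShortComplex.ab_exact_iff]
        exact fun p hp => (key Ω ξ).2.2 p hp
      mono_f := (mono_iff_stalk _).2 fun Ω _ _ ξ => (key Ω ξ).1
      epi_g := (epi_iff_stalk _).2 fun Ω _ _ ξ => (key Ω ξ).2.1 }


/-- Let X = U ∪ V be a union of two open subschemes and F an abelian sheaf on the small etale site of X.
Writing r_U, r_V for the pullback maps H^n(X, F) -> H^n(U, F|_U), H^n(V, F|_V) and d for the
difference of the two further pullbacks to H^n(U ∩ V, F|_{U ∩ V}), there are connecting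
homomorphisms δ_n : H^n(U ∩ V) -> H^{n+1}(X) making the Mayer-Vietoris sequence exact: (r_U, r_V) is
injective in degree 0 and has kernel the image of δ in positive degrees, d has kernel the image of
(r_U, r_V), and δ has kernel the image of d. (Functoriality in F is not stated.) (Exactness of
pullback of abelian sheaves, which always holds, is carried as an instance hypothesis.) -/
theorem result (X : Scheme.{u}) (U V : X.Opens) (hUV : U ⊔ V = ⊤) (F : EtCoh.Ab X)
    [PreservesFiniteLimits (EtCoh.pull U.ι)] [PreservesFiniteLimits (EtCoh.pull V.ι)]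
    [PreservesFiniteLimits (EtCoh.pull (X.homOfLE (inf_le_left : U ⊓ V ≤ U)))]
    [PreservesFiniteLimits (EtCoh.pull (X.homOfLE (inf_le_right : U ⊓ V ≤ V)))] :
    ∃ δ : ∀ n : ℕ, EtCoh.H ↑(U ⊓ V) ((EtCoh.pull (U ⊓ V).ι).obj F) n →+ EtCoh.H X F (n + 1),
      (AddMonoidHom.prod (EtCore.Hpull U.ι F 0) (EtCore.Hpull V.ι F 0)).ker = ⊥ ∧
      (∀ n : ℕ, (AddMonoidHom.prod (EtCore.Hpull U.ι F (n + 1)) (EtCore.Hpull V.ι F (n + 1))).ker = (δ n).range) ∧
      (∀ n : ℕ, (((EtCore.HpullVia (X.homOfLE (inf_le_left : U ⊓ V ≤ U)) U.ι (U ⊓ V).ι (X.homOfLE_ι inf_le_left) F n)).comp (AddMonoidHom.fst _ _) - ((EtCore.HpullVia (X.homOfLE (inf_le_right : U ⊓ V ≤ V)) V.ι (U ⊓ V).ι (X.homOfLE_ι inf_le_right) F n)).comp (AddMonoidHom.snd _ _)).ker =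
        (AddMonoidHom.prod (EtCore.Hpull U.ι F n) (EtCore.Hpull V.ι F n)).range) ∧
      (∀ n : ℕ, (δ n).ker = (((EtCore.HpullVia (X.homOfLE (inf_le_left : U ⊓ V ≤ U)) U.ι (U ⊓ V).ι (X.homOfLE_ι inf_le_left) F n)).comp (AddMonoidHom.fst _ _) - ((EtCore.HpullVia (X.homOfLE (inf_le_right : U ⊓ V ≤ V)) V.ι (U ⊓ V).ι (X.homOfLE_ι inf_le_right) F n)).comp (AddMonoidHom.snd _ _)).range) := by
  have hS := mvSeq_shortExact X U V hUV
  let eU := extCohEquiv U.ι F
  let eV := extCohEquiv V.ι F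
  let eW := extCohEquiv (U ⊓ V).ι F
  have hgl : ∀ (n : ℕ) (x : EtCoh.H X F n),
      (Ext.mk₀ (biprod.inl : zExt U.ι ⟶ (mvSeq X U V).X₂)).comp ((Ext.mk₀ (mvSeq X U V).g).comp x (zero_add n)) (zero_add n) =
        (Ext.mk₀ (zExtCounit U.ι)).comp x (zero_add n) := fun n x => by
    rw [Ext.mk₀_comp_mk₀_assoc]
    exact congrArg (fun m => (Ext.mk₀ m).comp x (zero_add n)) (biprod.inl_desc _ _)
  have hgr : ∀ (n : ℕ) (x : EtCoh.H X F n),
      (Ext.mk₀ (biprod.inr : zExt V.ι ⟶ (mvSeq X U V).X₂)).comp ((Ext.mk₀ (mvSeq X U V).g).comp x (zero_add n)) (zero_add n) =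
        -((Ext.mk₀ (zExtCounit V.ι)).comp x (zero_add n)) := fun n x => by
    rw [Ext.mk₀_comp_mk₀_assoc, show (biprod.inr ≫ (mvSeq X U V).g : zExt V.ι ⟶ _) = -zExtCounit V.ι from
      biprod.inr_desc _ _, Ext.mk₀_neg, Ext.neg_comp]
  have hsplit : ∀ (n : ℕ) (z : Ext (mvSeq X U V).X₂ F n),
      (Ext.mk₀ (mvSeq X U V).f).comp z (zero_add n) =
        (Ext.mk₀ (mU X U V)).comp ((Ext.mk₀ biprod.inl).comp z (zero_add n)) (zero_add n) +
        (Ext.mk₀ (mV X U V)).comp ((Ext.mk₀ biprod.inr).comp z (zero_add n)) (zero_add n) :=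
    fun n z => by
    rw [Ext.mk₀_comp_mk₀_assoc, Ext.mk₀_comp_mk₀_assoc, ← Ext.add_comp, ← Ext.mk₀_add]
    congr 2
    refine biprod.hom_ext _ _ ?_ ?_ <;> simp
  have hzero : ∀ (n : ℕ) (z : Ext (mvSeq X U V).X₂ F n),
      (Ext.mk₀ (biprod.inl : zExt U.ι ⟶ (mvSeq X U V).X₂)).comp z (zero_add n) = 0 →
      (Ext.mk₀ (biprod.inr : zExt V.ι ⟶ (mvSeq X U V).X₂)).comp z (zero_add n) = 0 → z = 0 := fun n z h₁ h₂ => by
    have hid : Ext.mk₀ (𝟙 (mvSeq X U V).X₂) = Ext.mk₀ ((biprod.fst : (mvSeq X U V).X₂ ⟶ zExt U.ι) ≫ biprod.inl) +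
        Ext.mk₀ ((biprod.snd : (mvSeq X U V).X₂ ⟶ zExt V.ι) ≫ biprod.inr) := by
      rw [← Ext.mk₀_add]
      exact congrArg Ext.mk₀ biprod.total.symm
    have h := Ext.mk₀_id_comp z
    rw [hid, Ext.add_comp, ← Ext.mk₀_comp_mk₀_assoc, ← Ext.mk₀_comp_mk₀_assoc, h₁, h₂,
      Ext.comp_zero, Ext.comp_zero, add_zero] at h
    exact h.symm
  have hker : ∀ (n : ℕ) (x : EtCoh.H X F n),
      (EtCore.Hpull U.ι F n x = 0 ∧ EtCore.Hpull V.ι F n x = 0) ↔
        (Ext.mk₀ (mvSeq X U V).g).comp x (zero_add n) = 0 := fun n x => by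
    rw [← extCohEquiv_counit, ← extCohEquiv_counit, AddEquiv.map_eq_zero_iff,
      AddEquiv.map_eq_zero_iff]
    refine ⟨fun h => hzero n _ ((hgl n x).trans h.1) ((hgr n x).trans (by rw [h.2, neg_zero])),
      fun h => ⟨?_, ?_⟩⟩
    · rw [← hgl n x, h, Ext.comp_zero]
    · have := hgr n x
      rw [h, Ext.comp_zero] at this
      exact neg_eq_zero.1 this.symm
  have hd : ∀ (n : ℕ) (a : Ext (zExt U.ι) F n) (b : Ext (zExt V.ι) F n),
      ((EtCore.HpullVia (X.homOfLE (inf_le_left : U ⊓ V ≤ U)) U.ι (U ⊓ V).ι (X.homOfLE_ι inf_le_left) F n)).comp (AddMonoidHom.fst _ _) (eU n a, eV n b) -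
      ((EtCore.HpullVia (X.homOfLE (inf_le_right : U ⊓ V ≤ V)) V.ι (U ⊓ V).ι (X.homOfLE_ι inf_le_right) F n)).comp (AddMonoidHom.snd _ _) (eU n a, eV n b) =
      eW n ((Ext.mk₀ (mU X U V)).comp a (zero_add n) - (Ext.mk₀ (mV X U V)).comp b (zero_add n)) :=
    fun n a b => by
    rw [map_sub]
    change EtCore.HpullVia _ _ _ _ F n (extCohEquiv U.ι F n a) -
      EtCore.HpullVia _ _ _ _ F n (extCohEquiv V.ι F n b) = _
    rw [HpullVia_extCohEquiv, HpullVia_extCohEquiv]
  have hcase : ∀ (n : ℕ) (a : Ext (zExt U.ι) F n) (b : Ext (zExt V.ι) F n),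
      ∃ z : Ext (mvSeq X U V).X₂ F n, (Ext.mk₀ biprod.inl).comp z (zero_add n) = a ∧
        (Ext.mk₀ biprod.inr).comp z (zero_add n) = -b := fun n a b => by
    refine ⟨(Ext.mk₀ (biprod.fst : (mvSeq X U V).X₂ ⟶ zExt U.ι)).comp a (zero_add n) +
      (Ext.mk₀ (biprod.snd : (mvSeq X U V).X₂ ⟶ zExt V.ι)).comp (-b) (zero_add n), ?_, ?_⟩ <;>
      simp
  let δ : ∀ n : ℕ, EtCoh.H ↑(U ⊓ V) ((EtCoh.pull (U ⊓ V).ι).obj F) n →+ EtCoh.H X F (n + 1) :=
    fun n => (AddMonoidHom.mk' (fun y : Ext (mvSeq X U V).X₁ F n => hS.extClass.comp y (by lia : 1 + n = n + 1))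
      (fun _ _ => Ext.comp_add _ _ _ _)).comp (eW n).symm.toAddMonoidHom
  refine ⟨δ, ?_, fun n => ?_, fun n => ?_, fun n => ?_⟩
  · rw [AddSubgroup.eq_bot_iff_forall]
    intro x hx
    rw [AddMonoidHom.mem_ker, AddMonoidHom.prod_apply, Prod.mk_eq_zero] at hx
    have h := (hker 0 x).1 hx
    have := hS.epi_g
    obtain ⟨f, rfl⟩ := (Ext.mk₀_bijective _ _).2 x
    rw [Ext.mk₀_comp_mk₀, ← Ext.mk₀_zero] at h
    rw [(cancel_epi (mvSeq X U V).g).1 (((Ext.mk₀_bijective _ _).1 h).trans comp_zero.symm), Ext.mk₀_zero]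
  · ext x
    rw [AddMonoidHom.mem_ker, AddMonoidHom.prod_apply, Prod.mk_eq_zero, hker]
    constructor
    · intro h
      obtain ⟨y, hy⟩ := Ext.contravariant_sequence_exact₃ hS F x h (by lia : 1 + n = n + 1)
      refine ⟨eW n y, ?_⟩
      change hS.extClass.comp ((eW n).symm (eW n y)) (by lia : 1 + n = n + 1) = x
      rw [AddEquiv.symm_apply_apply, hy]
    · rintro ⟨y, rfl⟩
      exact hS.comp_extClass_assoc ((eW n).symm y) (by lia : 1 + n = n + 1)
  · ext ⟨a, b⟩
    obtain ⟨a, rfl⟩ := (eU n).surjective a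
    obtain ⟨b, rfl⟩ := (eV n).surjective b
    rw [AddMonoidHom.mem_ker, AddMonoidHom.sub_apply, hd, AddEquiv.map_eq_zero_iff]
    constructor
    · intro h
      obtain ⟨z, hz₁, hz₂⟩ := hcase n a b
      have hz : (Ext.mk₀ (mvSeq X U V).f).comp z (zero_add n) = 0 := by
        rw [hsplit, hz₁, hz₂, Ext.comp_neg, ← sub_eq_add_neg, h]
      obtain ⟨x, rfl⟩ := Ext.contravariant_sequence_exact₂ hS F z hz
      refine ⟨x, Prod.ext ?_ ?_⟩
      · change EtCore.Hpull U.ι F n x = eU n a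
        rw [← extCohEquiv_counit, ← hgl n x, hz₁]
      · change EtCore.Hpull V.ι F n x = eV n b
        rw [← extCohEquiv_counit, ← neg_inj.1 ((hgr n x).symm.trans hz₂)]
    · rintro ⟨x, hx⟩
      obtain ⟨hxa, hxb⟩ := Prod.ext_iff.1 hx
      change EtCore.Hpull U.ι F n x = eU n a at hxa
      change EtCore.Hpull V.ι F n x = eV n b at hxb
      rw [← extCohEquiv_counit] at hxa hxb
      rw [← (eU n).injective hxa, ← (eV n).injective hxb, Ext.mk₀_comp_mk₀_assoc,
        Ext.mk₀_comp_mk₀_assoc, zExtMap_counit, zExtMap_counit, sub_self]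
  · ext w
    obtain ⟨y, rfl⟩ := (eW n).surjective w
    rw [AddMonoidHom.mem_ker]
    change hS.extClass.comp ((eW n).symm (eW n y)) (by lia : 1 + n = n + 1) = 0 ↔ _
    rw [AddEquiv.symm_apply_apply]
    constructor
    · intro h
      obtain ⟨z, rfl⟩ := Ext.contravariant_sequence_exact₁ hS F y (by lia : 1 + n = n + 1) h
      refine ⟨(eU n ((Ext.mk₀ biprod.inl).comp z (zero_add n)),
        eV n (-(Ext.mk₀ biprod.inr).comp z (zero_add n))), ?_⟩
      rw [AddMonoidHom.sub_apply, hd, hsplit, Ext.comp_neg, sub_neg_eq_add]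
    · rintro ⟨⟨a, b⟩, hab⟩
      obtain ⟨a, rfl⟩ := (eU n).surjective a
      obtain ⟨b, rfl⟩ := (eV n).surjective b
      rw [AddMonoidHom.sub_apply, hd] at hab
      obtain ⟨z, hz₁, hz₂⟩ := hcase n a b
      rw [← (eW n).injective hab, show (Ext.mk₀ (mU X U V)).comp a (zero_add n) -
        (Ext.mk₀ (mV X U V)).comp b (zero_add n) = (Ext.mk₀ (mvSeq X U V).f).comp z (zero_add n) by
          rw [hsplit, hz₁, hz₂, Ext.comp_neg, sub_eq_add_neg]]
      exact hS.extClass_comp_assoc z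

end Groth.Agent.S0659
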