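import Groth.Statements.S0661
import Groth.Agent.Lib.Gabber24.Crit
import Groth.Agent.Lib.AIC6.Local

set_option autoImplicit false
open CategoryTheory CategoryTheory.Limits AlgebraicGeometry Opposite
universe u
open EtCore

namespace Groth.Agent.S0661

theorem comp_eq_zero {M N P : Type*} [AddZeroClass M] [AddZeroClass N] [AddZeroClass P] (φ : N →+ P) (ψ : M →+ N)
    (x : M) (h : ψ x = 0) : φ.comp ψ x = 0 :=
  (congrArg φ h).trans (map_zero φ)

open Groth.Agent.AIC6 in
/-- Transport of the kernel hypothesis along equalities of opens. -/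
theorem kernel_transport {R : Type u} [CommRing R] (F : EtCoh.Ab (XS R)) {C₀ A₀ B₀ C A B : (XS R).Opens}
    (eC : C₀ = C) (eA : A₀ = A) (eB : B₀ = B) (hA₀ : A₀ ≤ C₀) (hB₀ : B₀ ≤ C₀) (hA : A ≤ C) (hB : B ≤ C)
    (h : ∀ ξ : EtCoh.H (↑C₀ : Scheme.{u}) ((EtCoh.pull C₀.ι).obj F) 1,
      EtCore.HpullVia ((XS R).homOfLE hA₀) C₀.ι A₀.ι ((XS R).homOfLE_ι hA₀) F 1 ξ = 0 →
      EtCore.HpullVia ((XS R).homOfLE hB₀) C₀.ι B₀.ι ((XS R).homOfLE_ι hB₀) F 1 ξ = 0 → ξ = 0)
    (ξ : EtCoh.H (↑C : Scheme.{u}) ((EtCoh.pull C.ι).obj F) 1)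
    (h1 : EtCore.Hpull ((XS R).homOfLE hA) _ 1 ξ = 0) (h2 : EtCore.Hpull ((XS R).homOfLE hB) _ 1 ξ = 0) :
    ξ = 0 := by
  subst eC eA eB
  refine h ξ ?_ ?_
  · exact comp_eq_zero _ _ ξ h1
  · exact comp_eq_zero _ _ ξ h2

/-- Let R be a ring such that the localization at every prime is strictly henselian, and F an abelian
sheaf on the small etale site of X = Spec R. Suppose that for all global functions f, g on X the map
from H^1 of the basic open D(f+g) (with coefficients in the restriction of F) to the product of H^1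
of D(f(f+g)) and H^1 of D(g(f+g)) has zero kernel. Then H^q(X, F) vanishes for all q > 0. (Global
functions on Spec R are used in place of elements of R; the two rings are canonically isomorphic.)
(Exactness of pullback of abelian sheaves, which always holds, is carried as an instance
hypothesis.) -/
theorem result (R : Type u) [CommRing R]
    (hR : ∀ p : PrimeSpectrum R, EtCoh.IsStrictlyHenselianLocalRing (Localization.AtPrime p.asIdeal))
    (F : EtCoh.Ab (Spec (CommRingCat.of R)))
    (hker : ∀ (f g : Γ((Spec (CommRingCat.of R)), ⊤))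
      [PreservesFiniteLimits (EtCoh.pull ((Spec (CommRingCat.of R)).homOfLE (((Spec (CommRingCat.of R)).basicOpen_mul f (f + g)).trans_le inf_le_right)))]
      [PreservesFiniteLimits (EtCoh.pull ((Spec (CommRingCat.of R)).homOfLE (((Spec (CommRingCat.of R)).basicOpen_mul g (f + g)).trans_le inf_le_right)))]
      (ξ : EtCoh.H ↑((Spec (CommRingCat.of R)).basicOpen (f + g)) ((EtCoh.pull ((Spec (CommRingCat.of R)).basicOpen (f + g)).ι).obj F) 1),
      EtCore.HpullVia ((Spec (CommRingCat.of R)).homOfLE (((Spec (CommRingCat.of R)).basicOpen_mul f (f + g)).trans_le inf_le_right)) ((Spec (CommRingCat.of R)).basicOpen (f + g)).ι ((Spec (CommRingCat.of R)).basicOpen (f * (f + g))).ι ((Spec (CommRingCat.of R)).homOfLE_ι (((Spec (CommRingCat.of R)).basicOpen_mul f (f + g)).trans_le inf_le_right)) F 1 ξ = 0 →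
      EtCore.HpullVia ((Spec (CommRingCat.of R)).homOfLE (((Spec (CommRingCat.of R)).basicOpen_mul g (f + g)).trans_le inf_le_right)) ((Spec (CommRingCat.of R)).basicOpen (f + g)).ι ((Spec (CommRingCat.of R)).basicOpen (g * (f + g))).ι ((Spec (CommRingCat.of R)).homOfLE_ι (((Spec (CommRingCat.of R)).basicOpen_mul g (f + g)).trans_le inf_le_right)) F 1 ξ = 0 →
      ξ = 0)
    (q : ℕ) (hq : 1 ≤ q) : Subsingleton (EtCoh.H (Spec (CommRingCat.of R)) F q) := by
  have hX := Groth.Agent.AIC6.zl_of_strictlyHenselian (R := R) fun p hp => hR ⟨p, hp⟩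
  obtain ⟨m, rfl⟩ : ∃ m, q = m + 1 := ⟨q - 1, by omega⟩
  refine Groth.Agent.AIC6.subsingleton_H_of_split hX m F fun f g s => ?_
  let φ := (Scheme.ΓSpecIso (CommRingCat.of R)).inv.hom
  have eb : ∀ r : R, (Spec (CommRingCat.of R)).basicOpen (φ r) = PrimeSpectrum.basicOpen r := fun r => by
    exact basicOpen_eq_of_affine (R := CommRingCat.of R) r
  have em : ∀ a b : R, (Spec (CommRingCat.of R)).basicOpen (φ a * (φ a + φ b)) =
      (PrimeSpectrum.basicOpen a ⊓ PrimeSpectrum.basicOpen (a + b) :) := fun a b => by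
    rw [← map_add, Scheme.basicOpen_mul, eb, eb]; rfl
  refine Groth.Agent.Gabber24.split_of_ker F inf_le_right inf_le_right (fun x hx => ?_)
    (inf_le_inf_right _ inf_le_left) (inf_le_inf_right _ inf_le_right)
    (fun x hx => ⟨⟨hx.1.1, hx.2.1⟩, hx.1.2⟩) (fun ξ h1 h2 => ?_) s
  · by_cases h1 : x ∈ (PrimeSpectrum.basicOpen f : (Spec (CommRingCat.of R)).Opens)
    · exact Or.inl ⟨h1, hx⟩
    · exact Or.inr ⟨fun h2 => hx (x.asIdeal.add_mem (not_not.1 h1) h2), hx⟩
  · refine kernel_transport F (by rw [← map_add]; exact eb (f + g)) (em f g)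
      (by rw [add_comm (φ f), add_comm f]; exact em g f) _ _ inf_le_right inf_le_right (hker (φ f) (φ g)) ξ h1 h2

end Groth.Agent.S0661
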