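import Groth.Statements.S0663
import Groth.Agent.Lib.AffMu32.Basic

set_option autoImplicit false
open CategoryTheory CategoryTheory.Limits AlgebraicGeometry Opposite
universe u
open EtCore

namespace Groth.Agent.S0663

/-- Let k be an algebraically closed field, Xb a smooth proper curve over k, U the open complement of r
≥ 1 closed points of Xb and n ≥ 1 invertible in k. Then the global sections of the sheaf of n-th
roots of unity on U form a group isomorphic to the n-th roots of unity of k, and H^q(U, μ_n)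
vanishes for q ≥ 2. -/
theorem result (k : Type u) [Field k] [IsAlgClosed k] (Xb : Scheme.{u})
    [Xb.Over (Spec (CommRingCat.of k))] (hXb : Curve.IsSmoothProperCurve k Xb (Xb ↘ Spec (CommRingCat.of k)))
    (U : Xb.Opens) (r : ℕ) (hr : 1 ≤ r) (hUc : ((U : Set Xb)ᶜ).Finite) (hUr : Nat.card ↥((U : Set Xb)ᶜ) = r)
    (n : ℕ) (hn : 1 ≤ n) (hnk : (n : k) ≠ 0) :
    Nonempty (EtCoh.H (↑U : Scheme.{u}) (EtCoh.mu ↑U n) 0 ≃+ Additive ↥(rootsOfUnity n k)) ∧
    ∀ q : ℕ, 2 ≤ q → Subsingleton (EtCoh.H (↑U : Scheme.{u}) (EtCoh.mu ↑U n) q) := by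
  obtain ⟨hP, -, hI, hdim⟩ := hXb
  haveI := hP
  haveI := hI
  let f := Xb ↘ Spec (CommRingCat.of k)
  have hne : (U : Set Xb) ≠ Set.univ := fun h => by
    rw [h, Set.compl_univ] at hUr; simp at hUr; omega
  have hU : (U : Set Xb).Nonempty := Set.nonempty_iff_ne_empty.2 fun h => by
    rw [h, Set.compl_empty] at hUc
    exact Groth.Agent.AffMu32.not_finite f hdim (Set.finite_univ_iff.1 hUc)
  haveI := Groth.Agent.AffMu32.isAffine_opens f hdim U hUc hne hU
  haveI : Nonempty (U : Scheme.{u}) := ⟨⟨hU.some, hU.some_mem⟩⟩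
  haveI : IsIntegral (U : Scheme.{u}) := isIntegral_of_isOpenImmersion U.ι
  haveI : IsLocallyNoetherian Xb := LocallyOfFiniteType.isLocallyNoetherian f
  haveI : LocallyOfFiniteType (U.ι ≫ f) := inferInstance
  refine ⟨Groth.Agent.AffMu32.nonempty_H0_mu (U.ι ≫ f) hn hnk, fun q hq => ?_⟩
  have hk0 : EtCoh.CohDimLE (Spec (CommRingCat.of k)) 0 := fun F _ q hq =>
    Groth.Agent.EtPic3.subsingleton_H_sepClosed k F hq
  exact Groth.Agent.S0147.result k (U : Scheme.{u}) (U.ι ≫ f) 0
    ((topologicalKrullDim_subspace_le Xb (U : Set Xb)).trans hdim.le) hk0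
    (EtCoh.mu (U : Scheme.{u}) n) (Groth.Agent.AffMu32.isTorsion_mu _ hn) q (by omega)

end Groth.Agent.S0663
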