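import Groth.Statements.S0668
import Groth.Agent.Lib.LamFin24.Main

set_option autoImplicit false
open CategoryTheory CategoryTheory.Limits AlgebraicGeometry Opposite
universe u
open EtCore

namespace Groth.Agent.S0668

/-- Let Λ be a Noetherian ring, k an algebraically closed field, X separated and of finite type over k
with dimension at most 1, and L a constructible etale sheaf of Λ-modules on X whose underlying
abelian sheaf is torsion of orders invertible in k. Then for every q the Λ-module H^q(X, L) is
finitely generated. (Sheaves of Λ-modules are modelled as abelian sheaves with a Λ-action by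
endomorphisms; H^q carries the induced module structure.) -/
theorem result (Λ : Type) [CommRing Λ] [IsNoetherianRing Λ]
    (k : Type u) [Field k] [IsAlgClosed k] (X : Scheme.{u})
    (f : X ⟶ Spec (CommRingCat.of k)) [IsSeparated f] [LocallyOfFiniteType f] [QuasiCompact f]
    (hdim : topologicalKrullDim X ≤ 1) (L : EtLam.Sheaf Λ X) (hL : EtLam.IsConstructible L)
    (hLt : EtCoh.IsTorsion L.carrier) (hLp : EtPBC.IsTorsionInvertibleOn (Spec (CommRingCat.of k)) L.carrier) (q : ℕ) :
    Module.Finite Λ (EtCoh.H X L.carrier q) := by
  exact Groth.Agent.LamFin24.finite_H_separated f hdim L hL hLp q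

end Groth.Agent.S0668
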