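import Groth.Statements.S0671
import Groth.Agent.Lib.EtStalk.Agree

set_option autoImplicit false
open CategoryTheory CategoryTheory.Limits AlgebraicGeometry Opposite
universe u
open EtCore

namespace Groth.Agent.S0671
open Groth.Agent.EtStalk

/-- For an abelian sheaf F on the small etale site of S and a section σ over an etale S-scheme U, the
support of σ is a closed subset of U; and a point of S has a nonzero geometric stalk exactly when it
is the image of a point lying in the support of some section over some etale S-scheme. -/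
theorem result {S : Scheme.{u}} (F : EtCoh.Ab S) :
    (∀ (U : S.Etale) (σ : EtCoh.sect F U), IsClosed (EtShriek.sectSupp F U σ)) ∧
    EtPBC.supp F = ⋃ (U : S.Etale) (σ : EtCoh.sect F U), U.hom.base '' EtShriek.sectSupp F U σ := by
  have key : ∀ (U : S.Etale) (σ : EtCoh.sect F U), EtShriek.sectSupp F U σ = (agree F σ 0)ᶜ := by
    intro U σ
    ext x
    constructor
    · rintro hx ⟨W, g, hw, he⟩
      exact hx W g hw (he.trans (map_zero _))
    · intro hx W g hw he
      exact hx ⟨W, g, hw, he.trans (map_zero _).symm⟩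
  refine ⟨fun U σ => ?_, Set.ext fun x => ⟨?_, ?_⟩⟩
  · rw [key]; exact (isOpen_agree F σ 0).isClosed_compl
  · rintro ⟨Ω, hΩ, hΩ', ξ, hξ, hne⟩
    obtain ⟨t, ht⟩ : ∃ t : (EtCoh.stalk ξ).obj F, t ≠ 0 := by
      by_contra h
      push Not at h
      haveI : Subsingleton ((EtCoh.stalk ξ).obj F) := subsingleton_of_forall_eq 0 h
      exact hne (AddCommGrpCat.isZero_of_subsingleton _)
    obtain ⟨U, φ, s, rfl⟩ := germ_surjective ξ F t
    refine Set.mem_iUnion.2 ⟨U, Set.mem_iUnion.2 ⟨s, fibPt φ, ?_, ?_⟩⟩
    · rw [key]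
      exact fun h => ht (((mem_agree_iff_germ F φ s 0).1 h).trans (map_zero _))
    · let φl : Spec (CommRingCat.of Ω) ⟶ U.left := φ.left
      have h0 : φl ≫ U.hom = ξ := Over.w φ
      have h1 : U.hom (fibPt φ) = ξ default := by
        exact (Scheme.Hom.comp_apply φl U.hom _).symm.trans (congrArg (fun k : Spec (CommRingCat.of Ω) ⟶ S => k default) h0)
      have h2 : ξ default ∈ ({x} : Set S) := hξ ▸ ⟨default, rfl⟩
      exact h1.trans h2
  · intro hx
    simp only [Set.mem_iUnion] at hx
    obtain ⟨U, σ, y, hy, rfl⟩ := hx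
    obtain ⟨φ, hφ⟩ := exists_fib U y
    refine ⟨_, inferInstance, inferInstance, geomPt S (U.hom y), ?_, fun hz => ?_⟩
    · refine Set.Subset.antisymm ?_ (Set.singleton_subset_iff.2 ⟨default, geomPt_default _⟩)
      rintro _ ⟨a, rfl⟩
      rw [show a = default from Subsingleton.elim (α := PrimeSpectrum _) _ _]
      exact geomPt_default _
    · haveI := AddCommGrpCat.subsingleton_of_isZero hz
      rw [key, ← hφ] at hy
      exact hy ((mem_agree_iff_germ F φ σ 0).2 (Subsingleton.elim _ _))

end Groth.Agent.S0671
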