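import Groth.Statements.S0678
import Groth.Agent.Lib.WLocal.Contractible

set_option autoImplicit false
open CategoryTheory CategoryTheory.Limits AlgebraicGeometry Opposite Topology
universe u
open ProEtW

namespace Groth.Agent.S0678

/-- For a ring A, every faithfully flat ind-Zariski A-algebra (filtered colimit of local isomorphisms)
has an A-algebra retraction if and only if Spec A is w-local and the space of connected components
of Spec A is extremally disconnected. -/
theorem result (A : Type u) [CommRing A] :
    ProEtW.HasIndZariskiRetractions A ↔
      (ProEtW.IsWLocal (PrimeSpectrum A) ∧
        ExtremallyDisconnected (_root_.ConnectedComponents (PrimeSpectrum A))) :=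
  Groth.Agent.WLocal.hasIndZariskiRetractions_iff A

end Groth.Agent.S0678
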