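import Groth.Statements.S0690
import Groth.Agent.Lib.PBC24.Main
import Groth.Agent.Lib.PBCShriek6.Exchange
-- import your own Groth.Agent.* helpers here

set_option autoImplicit false
open CategoryTheory CategoryTheory.Limits AlgebraicGeometry Opposite
universe u
open EtShriek

namespace Groth.Agent.S0690

/-- Consider a commutative square of schemes g' : X' → X, f' : X' → Y', f : X → Y, g : Y' → Y with f ∘
g' = g ∘ f', where f and f' are proper and g and g' are separated, locally of finite type and
locally quasi-finite, and let F be a torsion abelian sheaf on X'_ét. Then for every q the sheaves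
g_! R^q f'_* F and R^q f_* (g'_! F) on Y_ét are isomorphic. (Only the existence of an isomorphism in
each degree is asserted; the published statement is an isomorphism g_! ∘ Rf'_* ≅ Rf_* ∘ g'_! in the
derived category of torsion sheaves, of which this is the degreewise form for a single torsion sheaf
placed in degree 0.) -/
theorem result {X Y X' Y' : Scheme.{u}} (f : X ⟶ Y) (g : Y' ⟶ Y) (f' : X' ⟶ Y')
    (g' : X' ⟶ X) (w : g' ≫ f = f' ≫ g) [IsProper f] [IsProper f'] [IsSeparated g]
    [LocallyOfFiniteType g] [LocallyQuasiFinite g] [IsSeparated g'] [LocallyOfFiniteType g'] [LocallyQuasiFinite g'] (F : EtCoh.Ab X')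
    (hF : EtCoh.IsTorsion F) (q : ℕ) :
    Nonempty ((EtShriek.lowerShriek g).obj ((EtCoh.Rpush f' q).obj F) ≅
      (EtCoh.Rpush f q).obj ((EtShriek.lowerShriek g').obj F)) := by
  exact Groth.Agent.PBCShriek6.nonempty_exchange f g f' g' Groth.Agent.PBC24.properBC w F hF q

end Groth.Agent.S0690
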