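import Groth.Statements.S0705
import Groth.Agent.Lib.WLocal.IndZarIdent

set_option autoImplicit false
open CategoryTheory CategoryTheory.Limits AlgebraicGeometry Opposite Topology
universe u
open ProEtW

namespace Groth.Agent.S0705

/-- Let I be an ideal of A such that V(I) is a profinite space. Then some ind-Zariski A-algebra B has
w-local spectrum whose closed points are exactly V(IB), with A/I -> B/IB bijective. -/
theorem result (A : Type u) [CommRing A] (I : Ideal A)
    (hI : ProEtW.IsProfinite (PrimeSpectrum.zeroLocus (R := A) I)) :
    ∃ (B : Type u) (_ : CommRing B) (_ : Algebra A B),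
      EtPBC.IsIndZariski A B ∧ ProEtW.IsWLocal (PrimeSpectrum B) ∧
      ProEtW.closedPoints (PrimeSpectrum B) = PrimeSpectrum.zeroLocus (I.map (algebraMap A B)) ∧
      Function.Bijective (Ideal.quotientMap (I.map (algebraMap A B)) (algebraMap A B)
        Ideal.le_comap_map) :=
  Groth.Agent.WLocal.exists_wLocal_closedPoints_eq A I hI

end Groth.Agent.S0705
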