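import Groth.Statements.S0715
import Groth.Agent.Lib.ProEtWC.Glue

set_option autoImplicit false
open CategoryTheory CategoryTheory.Limits AlgebraicGeometry Opposite
universe u
open ProEtS

namespace Groth.Agent.S0715

/-- (1) iff (2), transposed from the big pro-etale site to the small pro-etale site X_proet: for an
object U of X_proet with affine underlying scheme, the ring of global functions of U is
w-contractible if and only if U is a weakly contractible object. -/
theorem result {X : Scheme.{u}} (U : X.ProEt) [IsAffine U.left] :
    EtPBC.IsWContractible ↥(Γ(U.left, ⊤)) ↔ ProEtS.IsWC U :=
  (ProEtWC.isWContractible_iff_hasSections U.left).trans (ProEtWC.isWC_iff_hasSections U).symm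

end Groth.Agent.S0715
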