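import Groth.Statements.S0716
import Groth.Agent.Lib.ProEtEps19.Compare
-- import your own Groth.Agent.* helpers here

set_option autoImplicit false
open CategoryTheory CategoryTheory.Limits AlgebraicGeometry Opposite
universe u
open ProEtS

namespace Groth.Agent.S0716

set_option linter.style.haveILetI false
set_option backward.isDefEq.respectTransparency.types false


/-- On an affine scheme X, the pullback to X_proet of any injective abelian sheaf I of the small etale
site has vanishing pro-etale cohomology in every positive degree p (assuming, as a binder, the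
continuity of X_et -> X_proet). -/
theorem result (X : Scheme.{u}) [IsAffine X] [ProEtS.EpsCont X]
    (I : EtCoh.Ab X) [Injective I] (p : ℕ) (hp : 0 < p) :
    Subsingleton (ProEtS.HP X ((ProEtS.epsPull X).obj I) p) := by
  classical
obtain ⟨n, rfl⟩ : ∃ n, p = n + 1 := ⟨p - 1, by omega⟩
haveI h := ProEtEps19.subsingleton_ext_eps
  ((constantSheaf X.smallEtaleTopology AddCommGrpCat.{u + 1}).obj (AddCommGrpCat.of (ULift ℤ))) I n
refine subsingleton_of_forall_eq 0 fun x => ?_
let e := ProEtEps19.constIso (X := X) (AddCommGrpCat.of (ULift ℤ))
have hx : (Abelian.Ext.mk₀ e.inv).comp x (zero_add _) = 0 := Subsingleton.elim _ _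
have := congrArg (fun y => (Abelian.Ext.mk₀ e.hom).comp y (zero_add (n + 1))) hx
simpa using this

end Groth.Agent.S0716
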