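import Groth.Statements.S0717
import Groth.Agent.Lib.ProEtEps19.Unit
-- import your own Groth.Agent.* helpers here

set_option autoImplicit false
open CategoryTheory CategoryTheory.Limits AlgebraicGeometry Opposite
universe u
open ProEtS

namespace Groth.Agent.S0717

set_option linter.style.haveILetI false
set_option backward.isDefEq.respectTransparency.types false


/-- Pulling an abelian sheaf F on X_et back to X_proet and restricting it again to X_et gives back F:
the unit of the adjunction between eps^{-1} and eps_* is an isomorphism at F (continuity of X_et ->
X_proet assumed as a binder). -/
theorem result (X : Scheme.{u}) [ProEtS.EpsCont X] (F : EtCoh.Ab X) :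
    IsIso ((ProEtS.epsAdj X).unit.app F) := by
  classical
  exact ProEtEps19.isIso_unit F

end Groth.Agent.S0717
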