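import Groth.Statements.S0722
import Groth.Agent.Lib.ProEtWC.PushExact

set_option autoImplicit false
open CategoryTheory CategoryTheory.Limits AlgebraicGeometry Opposite
universe u
open ProEtS

namespace Groth.Agent.S0722

/-- Let i : Z -> X be a closed immersion such that the complement of i(Z) is a retrocompact open subset
of X. Then i_{proet,*} on abelian sheaves is exact (continuity of base change assumed as a binder). -/
theorem result {Z X : Scheme.{u}} (i : Z ⟶ X)
    [IsClosedImmersion i] (hr : IsRetrocompact (Set.range i.base)ᶜ) [ProEtS.PCont i] :
    PreservesFiniteLimits (ProEtS.pushP i) ∧ PreservesFiniteColimits (ProEtS.pushP i) :=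
  ProEtWC.pushP_exact i fun V hA hV ↦ haveI := hA; ProEtWC.isWC_bcP_of_closedImmersion i hr V hV

end Groth.Agent.S0722
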