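import Groth.Statements.S0724
import Groth.Agent.Lib.ProEtCoprod19.Acyclic
-- import your own Groth.Agent.* helpers here

set_option autoImplicit false
open CategoryTheory CategoryTheory.Limits AlgebraicGeometry Opposite
universe u
open ProEtS

namespace Groth.Agent.S0724

set_option linter.style.haveILetI false
set_option backward.isDefEq.respectTransparency.types false


/-- Applied to abelian sheaves (complexes in degree 0) and read on cohomology groups: for X
quasi-compact and quasi-separated and every n, the functor F |-> H^n(X_proet, F) commutes with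
direct sums indexed by any small type. -/
theorem result (X : Scheme.{u}) [CompactSpace ↥X]
    [QuasiSeparatedSpace ↥X] (n : ℕ) (ι : Type u) :
    PreservesColimitsOfShape (Discrete ι) (ProEtS.HPF X n) := by
  classical
  refine ⟨fun {K} => ?_⟩
  let G : ι → ProEtS.AbP X := fun i => K.obj ⟨i⟩
  haveI : PreservesColimit (Discrete.functor G) (ProEtS.HPF X n) := by
    refine preservesColimit_of_preserves_colimit_cocone (coproductIsCoproduct G) ?_
    refine (isColimitMapCoconeCofanMkEquiv (ProEtS.HPF X n) G (fun i => Sigma.ι G i)).symm ?_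
    let pi : ∀ i, Sheaf.H (∐ G) n →+ Sheaf.H (G i) n := fun i => Sheaf.H.map (Groth.Agent.ProEtCoprod19.pr G i) n
    have hcomp : ∀ (i k : ι) (z : Sheaf.H (G i) n),
        pi k (Sheaf.H.map (Sigma.ι G i) n z) = Sheaf.H.map (Sigma.ι G i ≫ Groth.Agent.ProEtCoprod19.pr G k) n z :=
      fun i k z => (Sheaf.H.map_comp_apply _ _ _).symm
    have hne : ∀ (i k : ι) (z : Sheaf.H (G i) n), i ≠ k → pi k (Sheaf.H.map (Sigma.ι G i) n z) = 0 :=
      fun i k z hik => by
        rw [hcomp, Groth.Agent.ProEtCoprod19.ι_pr_ne G hik, Sheaf.H.map_apply, Abelian.Ext.mk₀_zero, Abelian.Ext.comp_zero]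
    have heq : ∀ (i : ι) (z : Sheaf.H (G i) n), pi i (Sheaf.H.map (Sigma.ι G i) n z) = z := fun i z => by
      rw [hcomp, Groth.Agent.ProEtCoprod19.ι_pr_self, Sheaf.H.map_id_apply]
    have hfin : ∀ x : Sheaf.H (∐ G) n, {i | pi i x ≠ 0}.Finite := fun x => by
      obtain ⟨t, z, hx⟩ := Groth.Agent.ProEtCoprod19.exists_sum n G x
      refine t.finite_toSet.subset fun k hk => ?_
      by_contra hkt
      refine hk ?_
      show pi k x = 0
      rw [hx, map_sum]
      exact Finset.sum_eq_zero fun i hi => hne i k (z i) fun h => hkt (h ▸ hi)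
    refine Limits.mkCofanColimit _ (fun s => AddCommGrpCat.ofHom ?_) ?_ ?_
    · refine
        { toFun := fun x => ∑ᶠ i, (ConcreteCategory.hom (s.inj i)) (pi i x)
          map_zero' := finsum_eq_zero_of_forall_eq_zero fun i => by rw [map_zero]; exact map_zero _
          map_add' := fun x y => ?_ }
      refine (finsum_congr fun i => (congrArg (ConcreteCategory.hom (s.inj i)) (map_add (pi i) x y)).trans (map_add _ _ _)).trans ?_
      refine finsum_add_distrib ((hfin x).subset ?_) ((hfin y).subset ?_)
      · exact fun i hi h => hi (show (ConcreteCategory.hom (s.inj i)) (pi i x) = 0 by rw [show pi i x = 0 from h]; exact map_zero _)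
      · exact fun i hi h => hi (show (ConcreteCategory.hom (s.inj i)) (pi i y) = 0 by rw [show pi i y = 0 from h]; exact map_zero _)
    · intro s i
      ext z
      show ∑ᶠ k, (ConcreteCategory.hom (s.inj k)) (pi k (Sheaf.H.map (Sigma.ι G i) n z)) = (ConcreteCategory.hom (s.inj i)) z
      rw [finsum_eq_single _ i fun k hk => by rw [hne i k z (Ne.symm hk)]; exact map_zero _, heq]
    · intro s m hm
      ext x
      obtain ⟨t, z, hx⟩ := Groth.Agent.ProEtCoprod19.exists_sum n G x
      show (ConcreteCategory.hom m) x = ∑ᶠ k, (ConcreteCategory.hom (s.inj k)) (pi k x)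
      have hk : ∀ k, pi k x = if k ∈ t then z k else 0 := fun k => by
        rw [hx, map_sum]
        by_cases h : k ∈ t
        · rw [if_pos h, Finset.sum_eq_single k (fun i _ hik => hne i k (z i) hik) (fun h' => absurd h h'), heq]
        · rw [if_neg h]
          exact Finset.sum_eq_zero fun i hi => hne i k (z i) fun e => h (e ▸ hi)
      rw [finsum_eq_sum_of_support_subset (s := t) _ fun k hk' => by
        by_contra h
        exact hk' (show (ConcreteCategory.hom (s.inj k)) (pi k x) = 0 by rw [hk, if_neg (fun h2 => h (Finset.mem_coe.2 h2))]; exact map_zero _)]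
      refine ((congrArg (ConcreteCategory.hom m) hx).trans (map_sum _ _ _)).trans (Finset.sum_congr rfl fun i hi => ?_)
      rw [hk, if_pos hi]
      exact congr($(hm i) (z i))
  haveI : PreservesColimit (Discrete.functor (K.obj ∘ Discrete.mk)) (ProEtS.HPF X n) := this
  exact preservesColimit_of_iso_diagram _ (Discrete.natIsoFunctor (F := K)).symm

end Groth.Agent.S0724
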