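import Groth.Statements.S0728
import Groth.Agent.Lib.EtShriek24.Supp
import Groth.Agent.Lib.EtShriek24.PointEq

set_option autoImplicit false
open CategoryTheory CategoryTheory.Limits AlgebraicGeometry Opposite
universe u
open EtShriek

namespace Groth.Agent.S0728
open Groth.Agent.EtStalk

/-- In the case where the inverse image of Z is Z' (so that the bijection is restriction): let phi : U'
-> U be a morphism of the small etale site of X and Z a closed subset of U such that phi restricted
to the inverse image Z' of Z is a bijection onto Z inducing isomorphisms of residue fields (so Z' ->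
U is a closed immersion with image Z, for the reduced structures). Then restriction along phi is a
bijection from the sections of F over U supported in Z to the sections of F over U' supported in Z'. -/
theorem result {X : Scheme.{u}} (F : EtCoh.Ab X) {U U' : X.Etale}
    (φ : U' ⟶ U) (Z : Set ↥U.left) (hZ : IsClosed Z)
    (hbij : Set.BijOn φ.left.base (φ.left.base ⁻¹' Z) Z)
    (hres : ∀ x ∈ φ.left.base ⁻¹' Z, Function.Bijective (φ.left.residueFieldMap x)) :
    Set.BijOn (F.obj.map φ.op) {s | EtShriek.sectSupp F U s ⊆ Z}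
      {s' | EtShriek.sectSupp F U' s' ⊆ φ.left.base ⁻¹' Z} := by
  have hfib : ∀ (z₁ z₂ : U'.left), φ.left z₁ ∈ Z → φ.left z₁ = φ.left z₂ → z₁ = z₂ := fun z₁ z₂ h1 e =>
    hbij.injOn h1 (show φ.left z₂ ∈ Z from e ▸ h1) e
  have hmap : ∀ s : EtCoh.sect F U, EtShriek.sectSupp F U s ⊆ Z →
      EtShriek.sectSupp F U' (F.obj.map φ.op s) ⊆ φ.left.base ⁻¹' Z := fun s hs => by
    rw [Groth.Agent.EtShriek24.sectSupp_map]
    exact Set.preimage_mono hs
  refine ⟨hmap, fun s hs t ht hst => ?_, fun s' hs' => ?_⟩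
  · refine eq_of_agree F fun x => ?_
    by_cases hx : x ∈ Z
    · obtain ⟨z, hz, rfl⟩ := hbij.surjOn hx
      exact (mem_agree_map F φ s t z).1 (by
        show z ∈ agree F (F.obj.map φ.op s) (F.obj.map φ.op t)
        rw [show F.obj.map φ.op s = F.obj.map φ.op t from hst]; exact agree_self F _ _)
    · have h1 : x ∈ agree F s 0 := by
        by_contra h
        exact hx (hs (by rw [Groth.Agent.EtShriek24.sectSupp_eq]; exact h))
      have h2 : x ∈ agree F t 0 := by
        by_contra h
        exact hx (ht (by rw [Groth.Agent.EtShriek24.sectSupp_eq]; exact h))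
      exact agree_trans F h1 (agree_symm F h2)
  · let C : U.left.Opens := ⟨Zᶜ, hZ.isOpen_compl⟩
    let W : ULift.{u} Bool → X.Etale := fun b => if b.down then U' else Groth.Agent.EtSite.sub U C
    let g : ∀ b, W b ⟶ U := fun b =>
      match b with
      | ⟨true⟩ => φ
      | ⟨false⟩ => Groth.Agent.EtSite.subHom U C
    have hcov : Sieve.generate (Presieve.ofArrows W g) ∈ X.smallEtaleTopology U := by
      rw [EtSite.mem_et_iff]
      intro x
      by_cases hx : x ∈ Z
      · obtain ⟨z, hz, rfl⟩ := hbij.surjOn hx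
        exact ⟨W ⟨true⟩, g ⟨true⟩, z, ⟨W ⟨true⟩, 𝟙 _, g ⟨true⟩, Presieve.ofArrows.mk (Y := W) (f := g) ⟨true⟩, Category.id_comp _⟩, rfl⟩
      · exact ⟨W ⟨false⟩, g ⟨false⟩, ⟨x, hx⟩,
          ⟨W ⟨false⟩, 𝟙 _, g ⟨false⟩, Presieve.ofArrows.mk (Y := W) (f := g) ⟨false⟩, Category.id_comp _⟩, rfl⟩
    have hsh := (Presieve.isSheafFor_iff_generate _).2
      (((isSheaf_iff_isSheaf_of_type _ _).1
        ((Presheaf.isSheaf_iff_isSheaf_forget _ F.obj (forget _)).1 F.property)) _ hcov)
    rw [Presieve.isSheafFor_arrows_iff] at hsh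
    let σ : ∀ b, F.obj.obj (Opposite.op (W b)) := fun b =>
      match b with
      | ⟨true⟩ => s'
      | ⟨false⟩ => 0
    have hzero : ∀ (V : X.Etale) (gi : V ⟶ U') (Ω : Type u) [Field Ω] [IsSepClosed Ω]
        (ξ : Spec (CommRingCat.of Ω) ⟶ X) (v : fib ξ V), φ.left (gi.left (fibPt v)) ∉ Z →
        germ ξ F ((Scheme.pointSmallEtale ξ).fiber.map gi v) s' = 0 := by
      intro V gi Ω _ _ ξ v hv
      have h1 : fibPt ((Scheme.pointSmallEtale ξ).fiber.map gi v) ∈ agree F s' 0 := by
        by_contra h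
        exact hv (hs' (by rw [Groth.Agent.EtShriek24.sectSupp_eq]; exact h))
      exact ((mem_agree_iff_germ F _ s' 0).1 h1).trans (map_zero _)
    obtain ⟨t, ht, -⟩ := hsh σ fun i j V gi gj h => by
      refine ext_germ _ _ fun Ω _ _ ξ v => ?_
      refine (germ_map ξ F gi v (σ i)).trans (Eq.trans ?_ (germ_map ξ F gj v (σ j)).symm)
      have hpt : (g i).left (gi.left (fibPt v)) = (g j).left (gj.left (fibPt v)) :=
        (Scheme.Hom.comp_apply _ _ _).symm.trans
          ((congrArg (fun t : V.left ⟶ U.left => t (fibPt v)) (congrArg (fun t => t.left) h)).trans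
            (Scheme.Hom.comp_apply _ _ _))
      match i, j, gi, gj, h, hpt with
      | ⟨true⟩, ⟨true⟩, gi, gj, h, hpt =>
        show germ ξ F _ s' = germ ξ F _ s'
        by_cases hv : φ.left (gi.left (fibPt v)) ∈ Z
        · refine congrArg (fun y => germ ξ F y s') (Over.OverMorphism.ext ?_)
          let vl : Spec (CommRingCat.of Ω) ⟶ V.left := v.left
          have hpts : gi.left (fibPt v) = gj.left (fibPt v) := hfib _ _ hv hpt
          show vl ≫ gi.left = vl ≫ gj.left
          have hcomp : (vl ≫ gi.left) ≫ φ.left = (vl ≫ gj.left) ≫ φ.left := by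
            simp only [Category.assoc]
            exact congrArg (vl ≫ ·) (congrArg (fun t => t.left) h)
          exact Groth.Agent.EtShriek24.fieldPt_eq_of_residueFieldMap_bijective φ.left (vl ≫ gi.left) (vl ≫ gj.left)
            ((Scheme.Hom.comp_apply _ _ _).trans (hpts.trans (Scheme.Hom.comp_apply _ _ _).symm))
            (hres _ (show φ.left ((vl ≫ gi.left) default) ∈ Z by rw [Scheme.Hom.comp_apply]; exact hv)) hcomp
        · have hv' : φ.left (gj.left (fibPt v)) ∉ Z := fun hz => hv ((show φ.left (gi.left (fibPt v)) = _ from hpt).symm ▸ hz)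
          rw [hzero V gi Ω ξ v hv, hzero V gj Ω ξ v hv']
      | ⟨true⟩, ⟨false⟩, gi, gj, h, hpt =>
        exact (hzero V gi Ω ξ v (fun hz => (gj.left (fibPt v)).2 (Eq.mp (congrArg (· ∈ Z) hpt) hz))).trans (map_zero _).symm
      | ⟨false⟩, ⟨true⟩, gi, gj, h, hpt =>
        exact (map_zero _).trans (hzero V gj Ω ξ v (fun hz => (gi.left (fibPt v)).2 (Eq.mp (congrArg (· ∈ Z) hpt.symm) hz))).symm
      | ⟨false⟩, ⟨false⟩, gi, gj, h, hpt => exact (map_zero _).trans (map_zero _).symm
    refine ⟨t, fun x hx => ?_, ht ⟨true⟩⟩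
    by_contra hxZ
    exact hx (W ⟨false⟩) (g ⟨false⟩) ⟨⟨x, hxZ⟩, rfl⟩ (ht ⟨false⟩)

end Groth.Agent.S0728
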