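import Groth.Statements.S0730
import Groth.Agent.Lib.ProEtWC.Cont

set_option autoImplicit false
open CategoryTheory CategoryTheory.Limits AlgebraicGeometry Opposite
universe u
open ProEtS

namespace Groth.Agent.S0730

/-- Base changes of pro-étale coverings are pro-étale coverings, in the form used to define the morphism
of sites f_proét : X_proét → Y_proét for a morphism of schemes f : X → Y: the base change functor
from the small pro-étale site of Y to that of X is continuous. -/
theorem result {X Y : Scheme.{u}} (f : X ⟶ Y) : ProEtS.PCont f :=
  ProEtWC.pCont f

end Groth.Agent.S0730
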