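import Groth.Statements.S0737
import Groth.Agent.Lib.WLocal.Square

set_option autoImplicit false
open CategoryTheory CategoryTheory.Limits AlgebraicGeometry Opposite Topology
universe u
open ProEtW

namespace Groth.Agent.S0737

/-- Let Spec A be w-local with radical ideal I cutting out its closed points, and A -> B inducing
algebraic residue field extensions. Then (1) every point of V(IB) is closed in Spec B, and (2) there
is an ind-Zariski B-algebra C with B/IB -> C/IC bijective, Spec C w-local, Spec C -> Spec A w-local,
and closed points of Spec C exactly the points over closed points of Spec A. -/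
theorem result (A B : Type u) [CommRing A]
    [CommRing B] [Algebra A B] (hA : ProEtW.IsWLocal (PrimeSpectrum A)) (I : Ideal A) (hI : I.IsRadical)
    (hI0 : PrimeSpectrum.zeroLocus (R := A) I = ProEtW.closedPoints (PrimeSpectrum A))
    (h : ProEtW.AlgebraicResidueExtensions A B) :
    PrimeSpectrum.zeroLocus (R := B) (I.map (algebraMap A B)) ⊆ ProEtW.closedPoints (PrimeSpectrum B) ∧
    ∃ (C : Type u) (_ : CommRing C) (_ : Algebra B C) (_ : Algebra A C) (_ : IsScalarTower A B C),
      EtPBC.IsIndZariski B C ∧
      Function.Bijective (Ideal.quotientMap ((I.map (algebraMap A B)).map (algebraMap B C))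
        (algebraMap B C) Ideal.le_comap_map) ∧
      ProEtW.IsWLocal (PrimeSpectrum C) ∧
      ProEtW.IsWLocalMap (PrimeSpectrum.comap (algebraMap A C)) ∧
      ProEtW.closedPoints (PrimeSpectrum C) =
        PrimeSpectrum.comap (algebraMap A C) ⁻¹' ProEtW.closedPoints (PrimeSpectrum A) :=
  Groth.Agent.WLocal.wLocal_replacement hA I hI0 h

end Groth.Agent.S0737
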