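import Groth.Statements.S0738
import Groth.Agent.Lib.WLocal.Top

set_option autoImplicit false
open Topology
universe u
open ProEtW

namespace Groth.Agent.S0738

/-- A closed subset of a w-local spectral space is w-local (with the subspace topology). -/
theorem result (X : Type u) [TopologicalSpace X] (hX : ProEtW.IsWLocal X)
    (Y : Set X) (hY : IsClosed Y) : ProEtW.IsWLocal ↥Y := Groth.Agent.WLocal.isWLocal_of_isClosed hX hY

end Groth.Agent.S0738
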