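import Groth.Statements.S0739
import Groth.Agent.Lib.ProEtWC.GeomPoint

set_option autoImplicit false
open CategoryTheory CategoryTheory.Limits AlgebraicGeometry Opposite
universe u
open ProEtS

namespace Groth.Agent.S0739

/-- Let U be an object of X_proet, R a covering sieve on U, and xi : Spec k -> U a geometric point (k
separably closed). Then there is a morphism V -> U in R and a geometric point of V with the same
field mapping to xi. -/
theorem result {X : Scheme.{u}} (U : X.ProEt) (R : Sieve U)
    (hR : R ∈ Scheme.ProEt.topology X U) {k : Type u} [Field k] [IsSepClosed k]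
    (ξ : Spec (CommRingCat.of k) ⟶ U.left) :
    ∃ (V : X.ProEt) (g : V ⟶ U) (ξ' : Spec (CommRingCat.of k) ⟶ V.left), R g ∧ ξ' ≫ g.left = ξ :=
  ProEtWC.exists_geometric_lift U R hR ξ

end Groth.Agent.S0739
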