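import Groth.Statements.S0742
import Groth.Agent.Lib.ProEtWC.OpenImm

set_option autoImplicit false
open CategoryTheory CategoryTheory.Limits AlgebraicGeometry Opposite
universe u
open ProEtS

namespace Groth.Agent.S0742

/-- For an open immersion j : U -> X, the unit F -> j^{-1} j_! F and the counit j^{-1} j_* G -> G are
isomorphisms on abelian pro-etale sheaves (so j_! and j_* are fully faithful; continuity binders
assumed). -/
theorem result {U X : Scheme.{u}} (j : U ⟶ X) [IsOpenImmersion j]
    [ProEtS.JPCont j] [ProEtS.PCont j] (F G : ProEtS.AbP U) :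
    IsIso ((ProEtS.extZeroPAdj j).unit.app F) ∧ IsIso ((ProEtS.pullPushAdjP j).counit.app G) :=
  ProEtWC.unit_counit_isIso j F G

end Groth.Agent.S0742
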