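import Groth.Statements.S0744
import Groth.Agent.Lib.FppfPi24.Basic
import Groth.Agent.S0157

set_option autoImplicit false
set_option linter.style.haveILetI false
set_option backward.isDefEq.respectTransparency false
set_option backward.isDefEq.respectTransparency.types false
open CategoryTheory CategoryTheory.Limits AlgebraicGeometry Opposite
universe u
open EtFppf

namespace Groth.Agent.S0744

/-- For a proper morphism f : X -> Y and an abelian sheaf F on X_et, the sheaves a_Y^{-1} (f_{small,*}
F) and f_{big,fppf,*} (a_X^{-1} F) on the big fppf site of Y are isomorphic (existence; continuity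
of the comparison functors assumed as binders). -/
theorem result {X Y : Scheme.{u}} (f : X ⟶ Y) [IsProper f] [EtFppf.ACont X]
    [EtFppf.ACont Y] (F : EtCoh.Ab X) :
    Nonempty ((EtFppf.aPull Y).obj ((EtCoh.push f).obj F) ≅
      (EtFppf.pushBig f).obj ((EtFppf.aPull X).obj F)) := by
  haveI : ∀ Z : Scheme.{u}, IsIso (Groth.Agent.SmallBigBC16.piAdj AddCommGrpCat.{u + 1} Z).unit :=
    Groth.Agent.EtFpqc16.isIso_unit
  obtain ⟨e⟩ := Groth.Agent.SmallBigBC16.nonempty_iso AddCommGrpCat.{u + 1} f fun V g G =>
    Groth.Agent.S0157.result f _ _ g (IsPullback.of_hasPullback f g) G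
  exact ⟨(Groth.Agent.FppfPi24.aPullIso Y).app _ ≪≫
    (Groth.Agent.FppfPi24.toEtFullyFaithful Y).preimageIso
      (X := (Groth.Agent.FppfPi24.piFppf Y).obj ((EtCoh.push f).obj F))
      (Y := (EtFppf.pushBig f).obj ((Groth.Agent.FppfPi24.piFppf X).obj F)) (e.app F) ≪≫
    (EtFppf.pushBig f).mapIso ((Groth.Agent.FppfPi24.aPullIso X).app F).symm⟩

end Groth.Agent.S0744
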