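import Groth.Statements.S0745
import Groth.Agent.Lib.CmpBig24.Descent

set_option autoImplicit false
set_option linter.style.haveILetI false
set_option backward.isDefEq.respectTransparency false
set_option backward.isDefEq.respectTransparency.types false
open CategoryTheory CategoryTheory.Limits AlgebraicGeometry Opposite
universe u
open EtFppf

namespace Groth.Agent.S0745

/-- For a finite morphism f : X -> Y and an abelian sheaf F on X_et, for every i the sheaves a_Y^{-1}
(R^i f_{small,*} F) and R^i f_{big,fppf,*} (a_X^{-1} F) are isomorphic (existence; continuity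
binders assumed). -/
theorem result {X Y : Scheme.{u}} (f : X ⟶ Y) [IsFinite f] [EtFppf.ACont X]
    [EtFppf.ACont Y] (F : EtCoh.Ab X) (i : ℕ) :
    Nonempty ((EtFppf.aPull Y).obj ((EtCoh.Rpush f i).obj F) ≅
      (EtFppf.RpushBig f i).obj ((EtFppf.aPull X).obj F)) := by
  let le := Groth.Agent.CmpBig24.FppfEt.le.{u}
  let sit := Groth.Agent.CmpBig24.FppfEt.sit.{u}
  obtain ⟨e⟩ := Groth.Agent.CmpBig24.nonempty_fTo_rightDerived_iso sit
    (Groth.Agent.CmpBig24.van_all sit Groth.Agent.CmpBig24.FppfEt.refines i) f ‹IsFinite f›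
    ((EtFppf.aPull X).obj F) (Groth.Agent.CmpBig24.FppfEt.fromEt_aPull F) i le_rfl
  obtain ⟨e'⟩ := Groth.Agent.S12238.result f F i
  let a := (Groth.Agent.CmpBig24.εX le X).mapIso ((Groth.Agent.FppfPi24.aPullIso X).app F) ≪≫
    Groth.Agent.CmpBig24.FppfEt.epsPiIso F
  exact ⟨(Groth.Agent.FppfPi24.aPullIso Y).app _ ≪≫ (Groth.Agent.FppfPi24.toEtFullyFaithful Y).preimageIso
    (Groth.Agent.CmpBig24.FppfEt.epsPiIso _ ≪≫ e' ≪≫
      (BigSite.RpushBig Scheme.etalePrecoverage f i).mapIso a.symm ≪≫ e)⟩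

end Groth.Agent.S0745
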