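import Groth.Statements.S0746
import Groth.Agent.Lib.PhCmp5.Ph
import Groth.Agent.Lib.BigPBC5.Final

set_option backward.isDefEq.respectTransparency false
set_option backward.isDefEq.respectTransparency.types false

set_option autoImplicit false
open CategoryTheory CategoryTheory.Limits AlgebraicGeometry Opposite
universe u
open EtFppf

namespace Groth.Agent.S0746

/-- Part (5), read on cohomology sheaves for a single torsion abelian sheaf F on X_et: for a proper
morphism f : X -> Y and every i, a_Y^{-1} (R^i f_{small,*} F) and R^i f_{big,fppf,*} (a_X^{-1} F)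
are isomorphic (existence; continuity binders assumed). -/
theorem result {X Y : Scheme.{u}} (f : X ⟶ Y) [IsProper f]
    [EtFppf.ACont X] [EtFppf.ACont Y] (F : EtCoh.Ab X) (hF : EtCoh.IsTorsion F) (i : ℕ) :
    Nonempty ((EtFppf.aPull Y).obj ((EtCoh.Rpush f i).obj F) ≅
      (EtFppf.RpushBig f i).obj ((EtFppf.aPull X).obj F)) := by
  obtain ⟨e⟩ := Groth.Agent.PhCmp5.nonempty_piJ_Rpush Groth.Agent.CmpBig24.FppfEt.le Groth.Agent.PhCmp5.hsh_fppf f
    Groth.Agent.BigPBC5.properBC Groth.Agent.PhCmp5.van_fppf i F hF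
  exact ⟨(Groth.Agent.FppfPi24.aPullIso Y).app _ ≪≫ e ≪≫
    (EtFppf.RpushBig f i).mapIso ((Groth.Agent.FppfPi24.aPullIso X).app F).symm⟩

end Groth.Agent.S0746
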