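import Groth.Statements.S0749
import Groth.Agent.Lib.Punctual24.Derived

set_option autoImplicit false
open CategoryTheory CategoryTheory.Limits AlgebraicGeometry Opposite
open scoped TensorProduct
universe u
attribute [local instance] HasDerivedCategory.standard
open EtRest

namespace Groth.Agent.S0749

/-- Let K be a separably closed field, X of finite type over K and Q an object of D(X_et) whose
cohomology sheaves have zero stalks at every geometric point lying over a non-closed point of X.
Then Q = 0 if and only if H^i(X, Q) = Hom(Z, Q[i]) vanishes for all integers i. -/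
theorem result {K : Type u} [Field K] [IsSepClosed K]
    {X : Scheme.{u}} (a : X ⟶ Spec (CommRingCat.of K)) [LocallyOfFiniteType a] [QuasiCompact a]
    (Q : DCoh.DEt X)
    (hQ : ∀ (x : ↥X), ¬ IsClosed ({x} : Set ↥X) → ∀ (Ω : Type u) [Field Ω] [IsSepClosed Ω]
      (ξ : Spec (CommRingCat.of Ω) ⟶ X), Set.range ξ.base = {x} →
        ∀ i : ℤ, IsZero ((EtCoh.stalk ξ).obj (DCoh.HDEt Q i))) :
    IsZero Q ↔ ∀ i : ℤ, Subsingleton
      ((DerivedCategory.singleFunctor (EtCoh.Ab X) 0).obj (EtCoh.const X ℤ) ⟶ (shiftFunctor (DCoh.DEt X) i).obj Q) := by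
  refine Groth.Agent.Punctual24.isZero_iff_subsingleton a Q fun i Ω _ _ ξ hξ =>
    hQ (ξ default) hξ Ω ξ ?_ i
  exact Set.range_eq_singleton_iff.2 fun p => congrArg ξ (Subsingleton.elim (α := PrimeSpectrum Ω) p _)

end Groth.Agent.S0749
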