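import Groth.Statements.S0750
import Groth.Agent.Lib.WLocal.QuasiFiniteED

set_option autoImplicit false
open CategoryTheory CategoryTheory.Limits AlgebraicGeometry Opposite Topology
universe u
open ProEtW

namespace Groth.Agent.S0750

/-- Let A -> B be quasi-finite and of finite presentation. Suppose all residue fields of A (at every
prime) are separably closed, and Spec A is a Hausdorff, extremally disconnected space. Then Spec B
is also extremally disconnected. -/
theorem result (A B : Type u) [CommRing A]
    [CommRing B] [Algebra A B] [Algebra.QuasiFinite A B] [Algebra.FinitePresentation A B]
    (hres : ∀ p : PrimeSpectrum A, IsSepClosed p.asIdeal.ResidueField)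
    [T2Space (PrimeSpectrum A)] [ExtremallyDisconnected (PrimeSpectrum A)] :
    ExtremallyDisconnected (PrimeSpectrum B) :=
  WLocal.extremallyDisconnected_of_quasiFinite (A := A) (B := B) hres

end Groth.Agent.S0750
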