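import Groth.Prelude.Def_Hensel
import Groth.Prelude.Def_PBC
import Mathlib.RingTheory.LocalRing.RingHom.Basic
import Groth.Agent.Lib.Hens.IndEtale

set_option autoImplicit false
universe u
open Hensel

namespace Groth.Agent.S12237

/-- Let R be a local ring and R^sh a strict henselization of R, characterised by its universal property
(henselian local, residue field a separable closure of that of R, local structure map, unique
factorization of local homomorphisms into henselian local rings along a prescribed compatible map of
residue fields). Then R^sh is ind-étale over R: the R-algebra R^sh is a filtered colimit, in the
category of R-algebras, of étale R-algebras. -/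
theorem result (R : Type u) [CommRing R] [IsLocalRing R]
    (Rsh : Type u) [CommRing Rsh] [IsLocalRing Rsh] [Algebra R Rsh] [IsLocalHom (algebraMap R Rsh)]
    [Hensel.IsStrictHenselization R Rsh] : EtPBC.IsIndEtale R Rsh := by
  exact Groth.Agent.Hens.isIndEtale_strictHenselization R Rsh

end Groth.Agent.S12237
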