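import Groth.Statements.S0754
import Groth.Agent.Lib.WEtaleH7.IndEtale15
import Groth.Agent.S12237
import Groth.Agent.Lib.Descend.BaseChangeAt
import Mathlib.AlgebraicGeometry.Morphisms.WeaklyEtale
import Mathlib.AlgebraicGeometry.Morphisms.Flat
-- import your own Groth.Agent.* helpers here

set_option autoImplicit false
open CategoryTheory CategoryTheory.Limits AlgebraicGeometry Opposite
universe u
open ProEtS

namespace Groth.Agent.S0754

/-- For a point x of a scheme X and a strict henselization R of the local ring of X at x, the canonical
morphism Spec R -> X is weakly etale, so that Spec R is an object of the small pro-etale site of X. -/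
theorem result (X : Scheme.{u}) (x : ↥X) (R : Type u) [CommRing R]
    [IsLocalRing R] [Algebra (X.presheaf.stalk x) R] [IsLocalHom (algebraMap (X.presheaf.stalk x) R)]
    [Hensel.IsStrictHenselization (X.presheaf.stalk x) R] :
    WeaklyEtale (Hens2.specOf X x R) := by
  haveI := Groth.Agent.WEtaleH7.weaklyEtale_of_isIndEtale
    (Groth.Agent.S12237.result (X.presheaf.stalk x) R)
  haveI h1 : WeaklyEtale (Spec.map (CommRingCat.ofHom (algebraMap (X.presheaf.stalk x) R))) := by
    refine { flat := ?_, flat_diagonal := ?_ }
    · rw [HasRingHomProperty.Spec_iff (P := @Flat)]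
      exact (RingHom.flat_algebraMap_iff).2 (Algebra.WeaklyEtale.flat (R := X.presheaf.stalk x) (S := R))
    · rw [diagonal_SpecMap, MorphismProperty.cancel_right_of_respectsIso @Flat,
        HasRingHomProperty.Spec_iff (P := @Flat)]
      exact Algebra.WeaklyEtale.flat_lmul' (X.presheaf.stalk x) R
  haveI h2 : WeaklyEtale (X.fromSpecStalk x) :=
    { flat := Groth.Agent.Descend.flat_fromSpecStalk x
      flat_diagonal := by
        haveI : IsIso (pullback.diagonal (X.fromSpecStalk x)) := inferInstance
        infer_instance }
  exact inferInstanceAs (WeaklyEtale (_ ≫ _))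

end Groth.Agent.S0754
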