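import Groth.Statements.S0755
import Groth.Agent.Lib.WLocal.Lift

set_option autoImplicit false
open CategoryTheory CategoryTheory.Limits AlgebraicGeometry Opposite Topology
universe u
open ProEtW

namespace Groth.Agent.S0755

/-- Let I be an ideal of a ring A. For every ind-etale (A/I)-algebra Cbar there is an ind-etale
A-algebra C with C/IC isomorphic to Cbar as (A/I)-algebras. -/
theorem result (A : Type u) [CommRing A] (I : Ideal A) (Cb : Type u)
    [CommRing Cb] [Algebra (A ⧸ I) Cb] (h : EtPBC.IsIndEtale (A ⧸ I) Cb) :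
    ∃ (C : Type u) (_ : CommRing C) (_ : Algebra A C),
      EtPBC.IsIndEtale A C ∧ Nonempty ((C ⧸ I.map (algebraMap A C)) ≃ₐ[A ⧸ I] Cb) := Groth.Agent.WLocal.exists_indEtale_lift A I Cb h

end Groth.Agent.S0755
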