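import Groth.Statements.S6650
import Groth.Agent.Lib.EtFpqc16.Descent
-- import your own Groth.Agent.* helpers here

set_option autoImplicit false
open CategoryTheory CategoryTheory.Limits AlgebraicGeometry Opposite
universe u
open BigSite

namespace Groth.Agent.S6650
set_option linter.style.haveILetI false
set_option backward.isDefEq.respectTransparency false
set_option backward.isDefEq.respectTransparency.types false

/-- Let F be an abelian sheaf on the small etale site of a scheme S and π_S⁻¹F its inverse image on the
big etale site of S. For every scheme T over S with structure map f, the sections of π_S⁻¹F over T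
are isomorphic to the global sections of f⁻¹F on the small etale site of T (existence of an
isomorphism only: the comparison map is not named here), and the presheaf underlying π_S⁻¹F
satisfies the sheaf condition for fpqc coverings. (The published statement also covers the Zariski
topology and sheaves of sets; this row treats abelian sheaves on the etale sites.) -/
theorem result (S : Scheme.{u}) (F : EtCoh.Ab S) :
    (∀ T : Over S, Nonempty (((BigSite.piEtPull Scheme.etalePrecoverage S).obj F).obj.obj (op T) ≅
      ((EtCoh.pull T.hom).obj F).obj.obj (op (EtCoh.top T.left)))) ∧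
    Presheaf.IsSheaf (QuotSh.J Scheme.fpqcPrecoverage S) ((BigSite.piEtPull Scheme.etalePrecoverage S).obj F).obj := by
  refine ⟨fun T => ?_, Groth.Agent.EtFpqc16.isSheaf_fpqc (Groth.Agent.EtFpqc16.isLocal_pi F)⟩
  let G := (BigSite.piEtPull Scheme.etalePrecoverage S).obj F
  let A := AddCommGrpCat.{u + 1}
  haveI := SmallBigBC16.isIso_c_pi A T.hom F
  haveI := fun G => (Groth.Agent.S6184.result S).2 G
  let e₁ : (EtCoh.pull T.hom).obj F ≅ (SmallBigBC16.pull A T.hom).obj ((SmallBigBC16.res A S).obj G) :=
    (EtCoh.pull T.hom).mapIso (asIso ((BigSite.piEtAdj Scheme.etalePrecoverage S).unit.app F))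
  let e₂ := e₁ ≪≫ asIso (SmallBigBC16.c A T.hom G)
  let i : T ≅ (Over.map T.hom).obj ((EtFppf.a T.left).obj (EtCoh.top T.left)) :=
    Over.isoMk (Iso.refl _) rfl
  exact ⟨G.obj.mapIso i.symm.op ≪≫ (((sheafToPresheaf _ A).mapIso e₂).app (op (EtCoh.top T.left))).symm⟩
end Groth.Agent.S6650
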