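import Groth.Statements.S0760
import Groth.Agent.Lib.LocAcyc24.Rel

set_option autoImplicit false
open CategoryTheory CategoryTheory.Limits AlgebraicGeometry Opposite
open scoped TensorProduct
universe u
open EtRest

namespace Groth.Agent.S0760

/-- Let f : X -> S be locally acyclic and F a locally constant abelian sheaf on X_et all of whose
geometric stalks are torsion groups whose elements have order prime to the residue characteristic.
Then f is locally acyclic relative to F: for every point x, strict henselizations R_S -> R_X of the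
local rings at f(x) and x (compatible with f), separably closed field Om under R_S, and every q,
pulling back along the variety of vanishing cycles Spec(R_X (x)_{R_S} Om) -> Spec R_X induces a
bijection H^q(Spec R_X, F|) -> H^q(Spec(R_X (x) Om), F|). (Left exactness of the pullback functor
carried as a binder.) -/
theorem result {X S : Scheme.{u}} (f : X ⟶ S)
    (hf : EtRest.IsLocallyAcyclic f) (F : EtCoh.Ab X) (hF : EtRest.IsLocallyConstant F)
    (htor : ∀ (Ω : Type u) [Field Ω] [IsSepClosed Ω] (ξ : Spec (CommRingCat.of Ω) ⟶ X)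
      (s : (EtCoh.stalk ξ).obj F), ∃ n : ℕ, 0 < n ∧ (n : Ω) ≠ 0 ∧ n • s = 0)
    (x : ↥X) (RS RX : Type u) [CommRing RS] [CommRing RX] [IsLocalRing RS] [IsLocalRing RX]
    [Algebra (S.presheaf.stalk (f.base x)) RS] [IsLocalHom (algebraMap (S.presheaf.stalk (f.base x)) RS)]
    [Hensel.IsStrictHenselization (S.presheaf.stalk (f.base x)) RS]
    [Algebra (X.presheaf.stalk x) RX] [IsLocalHom (algebraMap (X.presheaf.stalk x) RX)]
    [Hensel.IsStrictHenselization (X.presheaf.stalk x) RX]
    [Algebra RS RX] [IsLocalHom (algebraMap RS RX)]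
    (hc : (algebraMap RS RX).comp (algebraMap (S.presheaf.stalk (f.base x)) RS) =
      (algebraMap (X.presheaf.stalk x) RX).comp (f.stalkMap x).hom)
    (Ω : Type u) [Field Ω] [IsSepClosed Ω] [Algebra RS Ω]
    [PreservesFiniteLimits (EtCoh.pull
      (Spec.map (CommRingCat.ofHom (algebraMap RX (EtRest.vcRing RS RX Ω)))))] (q : ℕ) :
    Function.Bijective (EtCore.HpullVia
      (Spec.map (CommRingCat.ofHom (algebraMap RX (EtRest.vcRing RS RX Ω)))) (Hens2.specOf X x RX)
      (Spec.map (CommRingCat.ofHom (algebraMap RX (EtRest.vcRing RS RX Ω))) ≫ Hens2.specOf X x RX)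
      rfl F q) := by
  haveI : HenselianLocalRing RX := Hensel.IsStrictHenselization.henselian (R := X.presheaf.stalk x)
  haveI := (Hensel.IsStrictHenselization.isSepClosure (R := X.presheaf.stalk x) (S := RX)).1
  let σ : Spec (CommRingCat.of RX) ⟶ X := Hens2.specOf X x RX
  let ρ := Spec.map (CommRingCat.ofHom (algebraMap RX (EtRest.vcRing RS RX Ω)))
  obtain ⟨M, ⟨e⟩⟩ := Groth.Agent.LocAcyc24.exists_pull_iso_const σ F hF
  obtain ⟨em⟩ := Groth.Agent.LocAcyc24.stalk_equiv σ F M e
  -- torsion with orders invertible at the closed point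
  let χ : X.residueField x →+* IsLocalRing.ResidueField RX :=
    IsLocalRing.ResidueField.map (algebraMap (X.presheaf.stalk x) RX)
  have hord : ∀ a : M, ∃ m : ℕ, 0 < m ∧ (m : X.residueField x) ≠ 0 ∧ m • a = 0 := fun a => by
    obtain ⟨m, hm, hm0, hma⟩ := htor _ (Groth.Agent.EtStalk.closedPt RX ≫ σ) (em.symm a)
    refine ⟨m, hm, fun h => hm0 ?_, em.symm.injective ?_⟩
    · rw [← map_natCast χ, h, map_zero]
    · rw [map_nsmul, hma, map_zero]
  have hM : IsAddTorsion M := fun a => by
    obtain ⟨m, hm, -, h⟩ := hord a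
    exact isOfFinAddOrder_iff_nsmul_eq_zero.2 ⟨m, hm, h⟩
  have hZ := Groth.Agent.LocAcyc24.bijective_of_torsion ρ q M hM fun n hn ⟨a, ha⟩ => by
    haveI : NeZero n := ⟨hn.ne'⟩
    obtain ⟨m, -, hm0, h⟩ := hord a
    have hd : n ∣ m := ha ▸ addOrderOf_dvd_of_nsmul_eq_zero h
    have hn0 : (n : X.residueField x) ≠ 0 := fun h0 => hm0 (by
      obtain ⟨k, rfl⟩ := hd
      rw [Nat.cast_mul, h0, zero_mul])
    obtain ⟨h1, h2⟩ := hf x RS RX hc Ω n hn0
    exact Groth.Agent.LocAcyc24.bijective_Hpull_zmod ρ n q h1 h2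
  have hG := Groth.Agent.LocAcyc24.bijective_Hpull_of_iso ρ e q hZ
  exact (((EtCoh.HF _ q).mapIso (((EtCore.pullComp ρ σ).symm ≪≫ EtCore.pullCongr rfl).app F)).addCommGroupIsoToAddEquiv.bijective).comp hG

end Groth.Agent.S0760
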