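import Groth.Statements.S0762
import Groth.Agent.Lib.LocAcyc24.Main

set_option autoImplicit false
open CategoryTheory CategoryTheory.Limits AlgebraicGeometry Opposite
open scoped TensorProduct
universe u
open EtRest

namespace Groth.Agent.S0762

/-- In the case of an integral base change and for constant coefficients: if f : X -> S is locally
acyclic and g : S' -> S is integral, then the base change f' : X x_S S' -> S' is locally acyclic. -/
theorem result {X S S' : Scheme.{u}} (f : X ⟶ S) (g : S' ⟶ S)
    [IsIntegralHom g] (hf : EtRest.IsLocallyAcyclic f) :
    EtRest.IsLocallyAcyclic (pullback.snd f g) := by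
  exact Groth.Agent.LocAcyc24.isLocallyAcyclic_baseChange f g
    (fun t' t A _ _ _ _ _ A' _ _ _ _ _ φ _ h => Groth.Agent.LocAcyc24.isIntegral_specOf_isIntegralHom g t' t A A' φ h) hf

end Groth.Agent.S0762
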