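import Groth.Statements.S0767
import Groth.Agent.Lib.PBCShriek6.Indep
-- import your own Groth.Agent.* helpers here

set_option autoImplicit false
open CategoryTheory CategoryTheory.Limits AlgebraicGeometry Opposite
set_option backward.isDefEq.respectTransparency false
universe u
attribute [local instance] HasDerivedCategory.standard
open EtRest

namespace Groth.Agent.S0767

/-- Let f : X -> Y be separated and of finite type with X, Y quasi-compact and quasi-separated, and let
c, c' be two compactifications of f (f = fbar o j with j an open immersion and fbar proper). For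
every bounded below object K of D(X_et) with torsion cohomology sheaves, R(fbar)_* j_! K and
R(fbar')_* j'_! K are isomorphic. (Objectwise existence of an isomorphism; the binders assume that
the j_! are left exact and that the unbounded derived direct images exist.) -/
theorem result {X Y : Scheme.{u}} [CompactSpace ↥X] [QuasiSeparatedSpace ↥X] [CompactSpace ↥Y] [QuasiSeparatedSpace ↥Y]
    (f : X ⟶ Y) [IsSeparated f] [LocallyOfFiniteType f] [QuasiCompact f] (c : DEt.Compactification f)
    [PreservesFiniteLimits (EtShriek.extZero c.j)] [DCoh.HasRpushEt c.Xbar c.fbar]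
    (c' : DEt.Compactification f) [PreservesFiniteLimits (EtShriek.extZero c'.j)]
    [DCoh.HasRpushEt c'.Xbar c'.fbar] (K : DCoh.DEt X) (hb : (∃ a : ℤ, ∀ n : ℤ, n < a → IsZero (DCoh.HDEt K n)))
    (ht : (∀ n : ℤ, EtCoh.IsTorsion (DCoh.HDEt K n))) :
    Nonempty ((DEt.Rshriek c).obj K ≅ (DEt.Rshriek c').obj K) := by
  obtain ⟨a, ha⟩ := Groth.Agent.PBCShriek6.exists_isGE hb
  exact Groth.Agent.PBCShriek6.nonempty_Rshriek_indep c c' K a ht

end Groth.Agent.S0767
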