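import Groth.Statements.S0772
import Groth.Agent.Lib.PBCShriek6.QFinite
-- import your own Groth.Agent.* helpers here

set_option autoImplicit false
open CategoryTheory CategoryTheory.Limits AlgebraicGeometry Opposite
set_option backward.isDefEq.respectTransparency false
universe u
attribute [local instance] HasDerivedCategory.standard
open EtRest

namespace Groth.Agent.S0772

/-- On a torsion abelian sheaf F in degree 0: let f : X -> Y be quasi-finite and separated with X, Y
quasi-compact quasi-separated and c a compactification. Then the degree-0 cohomology sheaf of Rf_! F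
(computed through c) is isomorphic to f_! F (sections with proper support) and the other cohomology
sheaves vanish. (The left exactness of j_! and the existence of the unbounded derived direct image
along the compactification are assumed as hypotheses.) -/
theorem result {X Y : Scheme.{u}} [CompactSpace ↥X] [QuasiSeparatedSpace ↥X] [CompactSpace ↥Y] [QuasiSeparatedSpace ↥Y]
    (f : X ⟶ Y) [IsSeparated f] [LocallyOfFiniteType f] [LocallyQuasiFinite f] [QuasiCompact f] (c : DEt.Compactification f)
    [PreservesFiniteLimits (EtShriek.extZero c.j)] [DCoh.HasRpushEt c.Xbar c.fbar]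
    (F : EtCoh.Ab X) (hF : EtCoh.IsTorsion F) :
    Nonempty (DCoh.HDEt ((DEt.Rshriek c).obj ((DerivedCategory.singleFunctor (EtCoh.Ab X) 0).obj F)) 0 ≅
      (EtShriek.lowerShriek f).obj F) ∧
    ∀ n : ℤ, n ≠ 0 → IsZero (DCoh.HDEt ((DEt.Rshriek c).obj ((DerivedCategory.singleFunctor (EtCoh.Ab X) 0).obj F)) n) := by
  exact Groth.Agent.PBCShriek6.Rshriek_qfinite f c F hF

end Groth.Agent.S0772
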