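import Groth.Statements.S0780
import Groth.Agent.Lib.TensStalk24.Projection
-- import your own Groth.Agent.* helpers here

set_option autoImplicit false
open CategoryTheory CategoryTheory.Limits AlgebraicGeometry Opposite
universe u
open EtShriek

namespace Groth.Agent.S0780

/-- Projection formula for the direct image with proper support: let f : X → Y be a morphism of schemes
that is separated, locally of finite type and locally quasi-finite (so that f_! is the subsheaf of
f_* of sections with proper support). For abelian sheaves F on X_ét and G on Y_ét the sheaves f_!F ⊗
G and f_!(F ⊗ f⁻¹G) are isomorphic. Only the existence of an isomorphism is asserted (the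
identification is in fact canonical). -/
theorem result {X Y : Scheme.{u}} (f : X ⟶ Y) [IsSeparated f]
    [LocallyOfFiniteType f] [LocallyQuasiFinite f] (F : EtCoh.Ab X) (G : EtCoh.Ab Y) :
    Nonempty ((EtTens.tensorBi.obj ((EtShriek.lowerShriek f).obj F)).obj G ≅
      (EtShriek.lowerShriek f).obj ((EtTens.tensorBi.obj F).obj ((EtCoh.pull f).obj G))) := by
  exact Groth.Agent.TensStalk24.nonempty_projection_formula f F G

end Groth.Agent.S0780
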