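import Groth.Statements.S0781
import Groth.Agent.Lib.DescEt12.Graph

set_option backward.isDefEq.respectTransparency false
set_option backward.isDefEq.respectTransparency.types false

set_option autoImplicit false
open CategoryTheory CategoryTheory.Limits AlgebraicGeometry Opposite
universe u
open Desc

namespace Groth.Agent.S0781

/-- If p : X → S is a surjective morphism of schemes, then for schemes U₁, U₂ étale over S, two
S-morphisms U₁ → U₂ whose base changes to X agree, as morphisms of canonical descent data relative
to p, are equal; that is, the canonical-descent-datum functor is faithful on schemes étale over S.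
(Descent data are taken in functor-of-points form, equivalent by the Yoneda lemma to an isomorphism
over X ×_S X satisfying the cocycle condition.) -/
theorem result {X S : Scheme.{u}} (p : X ⟶ S) [Surjective p] (U₁ U₂ : Over S)
    [Etale U₁.hom] [Etale U₂.hom] : Function.Injective ((Desc.toDD p).map : (U₁ ⟶ U₂) → _) := by
  intro a b h
  have h1 : pullback.map p U₁.hom p U₂.hom (𝟙 X) a.left (𝟙 S) (by simp) (by simp) =
      pullback.map p U₁.hom p U₂.hom (𝟙 X) b.left (𝟙 S) (by simp) (by simp) :=
    congrArg (fun m => m.hom.left) h
  have h2 := congrArg (· ≫ pullback.snd p U₂.hom) h1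
  simp only [pullback.lift_snd] at h2
  haveI : Surjective (pullback.snd p U₁.hom) :=
    MorphismProperty.pullback_snd _ _ ‹Surjective p›
  exact Over.OverMorphism.ext (UnivSubm25.hom_ext_of_surjective U₂.hom a.left b.left
    ((Over.w a).trans (Over.w b).symm) (pullback.snd p U₁.hom) h2)

end Groth.Agent.S0781
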