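import Groth.Statements.S0782
import Groth.Agent.Lib.DescEt12.Graph

set_option backward.isDefEq.respectTransparency false
set_option backward.isDefEq.respectTransparency.types false

set_option autoImplicit false
open CategoryTheory CategoryTheory.Limits AlgebraicGeometry Opposite
universe u
open Desc

namespace Groth.Agent.S0782

/-- Let p : X ⟶ S be a morphism such that for every scheme U étale over S the projection X ×_S U ⟶ U is
a quotient map of topological spaces (submersive; U = S is allowed). Then for U₁, U₂ étale over S,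
every morphism between their canonical descent data relative to p comes from an S-morphism U₁ ⟶ U₂:
the canonical-descent-datum functor is full on schemes étale over S (injectivity of this assignment
is a companion statement). (Descent data are taken in functor-of-points form, equivalent by the
Yoneda lemma to the usual form of an isomorphism over X ×_S X satisfying the cocycle condition.) -/
theorem result {X S : Scheme.{u}} (p : X ⟶ S)
    (hp : ∀ U : Over S, Etale U.hom → Topology.IsQuotientMap (pullback.snd p U.hom).base) (U₁ U₂ : Over S)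
    [Etale U₁.hom] [Etale U₂.hom] : Function.Surjective ((Desc.toDD p).map : (U₁ ⟶ U₂) → _) := by
  intro H
  have hw : H.hom.left ≫ pullback.fst p U₂.hom = pullback.fst p U₁.hom := Over.w H.hom
  let σ := (pullbackSymmetry U₁.hom p).hom
  haveI hsurj : Surjective p := by
    haveI : Etale (Over.mk (𝟙 S)).hom := (inferInstance : Etale (𝟙 S))
    refine ⟨fun s => ?_⟩
    obtain ⟨z, hz⟩ := (hp (Over.mk (𝟙 S)) inferInstance).surjective s
    exact ⟨pullback.fst p (Over.mk (𝟙 S)).hom z, by
      rw [← Scheme.Hom.comp_apply, pullback.condition]; simpa using hz⟩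
  let Z : Over S := Over.mk (pullback.fst U₁.hom U₂.hom ≫ U₁.hom)
  haveI : Etale (pullback.fst U₁.hom U₂.hom) := MorphismProperty.pullback_fst _ _ ‹Etale U₂.hom›
  have hq : Topology.IsQuotientMap (pullback.fst Z.hom p) := by
    have h0 := hp Z (inferInstance : Etale (pullback.fst U₁.hom U₂.hom ≫ U₁.hom))
    rw [← pullbackSymmetry_hom_comp_snd Z.hom p, Scheme.Hom.comp_base, TopCat.coe_comp]
    exact h0.comp (Scheme.homeoOfIso (pullbackSymmetry Z.hom p)).isQuotientMap
  have hφ : (σ ≫ H.hom.left ≫ pullback.snd p U₂.hom) ≫ U₂.hom = pullback.snd U₁.hom p ≫ p := by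
    rw [Category.assoc, Category.assoc, ← pullback.condition, reassoc_of% hw,
      pullbackSymmetry_hom_comp_fst_assoc]
  obtain ⟨u, ⟨hu, hfac⟩, -⟩ := DescEt12.exists_desc_etale U₁.hom U₂.hom p hsurj hq
    (σ ≫ H.hom.left ≫ pullback.snd p U₂.hom) hφ (fun {T} x s₁ s₂ h₁ h₂ => by
      let v : Desc.Lifts (Over.mk (pullback.fst p U₁.hom)) s₁ :=
        ⟨pullback.lift s₁ x h₁.symm, pullback.lift_fst _ _ _⟩
      let w : Desc.Lifts (Over.mk (pullback.fst p U₂.hom)) s₁ :=
        ⟨v.1 ≫ H.hom.left, by
          show (v.1 ≫ H.hom.left) ≫ pullback.fst p U₂.hom = s₁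
          rw [Category.assoc, hw]; exact v.2⟩
      have hc : (pullback.lift s₂ (w.1 ≫ pullback.snd p U₂.hom) _ : T ⟶ pullback p U₂.hom) =
          pullback.lift s₂ (v.1 ≫ pullback.snd p U₁.hom) _ ≫ H.hom.left :=
        H.comm s₁ s₂ (h₁.symm.trans h₂) v w rfl
      have hc' := congrArg (· ≫ pullback.snd p U₂.hom) hc
      simp only [pullback.lift_snd, Category.assoc, w, v] at hc'
      have hσ : ∀ (s : T ⟶ X) (hs : x ≫ U₁.hom = s ≫ p),
          pullback.lift x s hs ≫ σ = pullback.lift s x hs.symm := fun s hs => by
        apply pullback.hom_ext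
        · simp [σ, pullback.lift_fst, pullback.lift_snd]
        · simp [σ, pullback.lift_fst, pullback.lift_snd]
      rw [reassoc_of% (hσ s₁ h₁), reassoc_of% (hσ s₂ h₂)]
      exact hc')
  refine ⟨Over.homMk u hu, SchDD.hom_ext (Over.OverMorphism.ext ?_)⟩
  show pullback.map p U₁.hom p U₂.hom (𝟙 X) u (𝟙 S) (by simp) (by simp [hu]) = H.hom.left
  apply pullback.hom_ext
  · rw [pullback.lift_fst, hw, Category.comp_id]
  · rw [pullback.lift_snd, ← cancel_epi σ, hfac, pullbackSymmetry_hom_comp_snd_assoc]

end Groth.Agent.S0782
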