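import Groth.Statements.S0784
import Groth.Agent.S0522
import Mathlib.RingTheory.Unramified.LocalStructure
import Mathlib.AlgebraicGeometry.ZariskisMainTheorem

set_option autoImplicit false
open CategoryTheory CategoryTheory.Limits AlgebraicGeometry Opposite
universe u
open Desc

namespace Groth.Agent.S0784

/-- Let (A, I) be a henselian pair and g : U ⟶ Spec A quasi-compact, separated and etale such that the
base change of U to Spec(A/I) is finite over Spec(A/I). Then U is the disjoint union of an open and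
closed subscheme finite over Spec A and an open and closed subscheme with no points lying over V(I). -/
theorem result (A : Type u) [CommRing A] (I : Ideal A) [HenselianRing A I]
    {U : Scheme.{u}} (g : U ⟶ Spec (CommRingCat.of A)) [QuasiCompact g] [IsSeparated g] [Etale g]
    (hfin : IsFinite (pullback.snd g (Spec.map (CommRingCat.ofHom (Ideal.Quotient.mk I))))) :
    ∃ W : U.Opens, IsClosed (W : Set U) ∧ IsFinite (W.ι ≫ g) ∧
      ∀ u : U, u ∉ W → ¬ I ≤ (g.base u : PrimeSpectrum A).asIdeal := by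
  haveI : LocallyQuasiFinite g := (HasRingHomProperty.iff_appLE (P := @LocallyQuasiFinite)).2 fun {O V} e => by
    have h := HasRingHomProperty.appLE @Etale g inferInstance O V e
    algebraize [(g.appLE O V e).hom]
    exact (inferInstance : Algebra.QuasiFinite Γ(Spec (CommRingCat.of A), O) Γ(U, V))
  haveI : IsAffine g.normalization := isAffine_of_isAffineHom g.fromNormalization
  let N := g.normalization
  let B : Type u := Γ(N, ⊤)
  let jS : U ⟶ Spec Γ(N, ⊤) := g.toNormalization ≫ N.isoSpec.hom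
  obtain ⟨φ, hφ⟩ := Spec.map_surjective (N.isoSpec.inv ≫ g.fromNormalization)
  have hjS : jS ≫ Spec.map φ = g := by
    rw [hφ, Category.assoc, Iso.hom_inv_id_assoc, g.toNormalization_fromNormalization]
  letI : Algebra A B := φ.hom.toAlgebra
  haveI hint' : IsIntegralHom (Spec.map φ) := hφ ▸ inferInstance
  haveI hint : Algebra.IsIntegral A B := ⟨IsIntegralHom.SpecMap_iff.1 hint'⟩
  let π := Ideal.Quotient.mk I
  let Y := pullback g (Spec.map (CommRingCat.ofHom π))
  let fs : Y ⟶ U := pullback.fst g (Spec.map (CommRingCat.ofHom π))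
  haveI := hfin
  haveI : IsClosedImmersion (Spec.map (CommRingCat.ofHom π)) :=
    IsClosedImmersion.spec_of_surjective _ Ideal.Quotient.mk_surjective
  haveI : IsFinite ((fs ≫ jS) ≫ Spec.map φ) := by
    rw [Category.assoc, hjS, pullback.condition]; infer_instance
  haveI : IsFinite (fs ≫ jS) := IsFinite.of_comp (fs ≫ jS) (Spec.map φ)
  have hrange : Set.range fs = {u : U | I ≤ (g.base u : PrimeSpectrum A).asIdeal} := by
    show Set.range (pullback.fst g (Spec.map (CommRingCat.ofHom π))) = _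
    rw [Scheme.Pullback.range_fst]
    ext u
    show g.base u ∈ Set.range (PrimeSpectrum.comap π) ↔ _
    rw [range_comap_of_surjective _ _ Ideal.Quotient.mk_surjective, Ideal.mk_ker]
    rfl
  let J : Ideal B := I.map (algebraMap A B)
  have hV : ∀ P : PrimeSpectrum B, J ≤ P.asIdeal ↔ I ≤ ((Spec.map φ).base P : PrimeSpectrum A).asIdeal :=
    fun P => Ideal.map_le_iff_le_comap
  let c : PrimeSpectrum (B ⧸ J) → PrimeSpectrum B := PrimeSpectrum.comap (Ideal.Quotient.mk J)
  have hc : ∀ P, J ≤ (c P).asIdeal := fun P b hb => by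
    show Ideal.Quotient.mk J b ∈ P.asIdeal
    rw [Ideal.Quotient.eq_zero_iff_mem.2 hb]; exact zero_mem _
  have hZ : ∀ P : PrimeSpectrum B, J ≤ P.asIdeal →
      (P ∈ Set.range (fs ≫ jS) ↔ P ∈ Set.range jS) := fun P hP => by
    refine ⟨fun ⟨y, hy⟩ => ⟨fs y, hy⟩, fun ⟨x, hx⟩ => ?_⟩
    have : x ∈ Set.range fs := by
      rw [hrange]
      show I ≤ (g.base x : PrimeSpectrum A).asIdeal
      rw [← hjS]
      have h2 := (hV P).1 hP
      rw [← hx] at h2
      exact h2
    obtain ⟨y, rfl⟩ := this
    exact ⟨y, hx⟩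
  have hclopen : IsClopen (c ⁻¹' Set.range jS) := by
    refine ⟨?_, jS.isOpenEmbedding.isOpen_range.preimage (PrimeSpectrum.continuous_comap _)⟩
    have : c ⁻¹' Set.range jS = c ⁻¹' Set.range (fs ≫ jS) := Set.ext fun P => (hZ (c P) (hc P)).symm
    rw [this]
    exact ((fs ≫ jS).isClosedMap.isClosed_range).preimage (PrimeSpectrum.continuous_comap _)
  obtain ⟨e₀, he₀, he₀'⟩ := PrimeSpectrum.isClopen_iff.1 hclopen
  obtain ⟨e, he, hee₀⟩ := ((Groth.Agent.S0522.result A I).1 inferInstance B hint).surjOn he₀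
  have key : ∀ P : PrimeSpectrum B, J ≤ P.asIdeal → (e ∉ P.asIdeal ↔ P ∈ Set.range jS) := by
    intro P hP
    obtain ⟨P₀, rfl⟩ : P ∈ Set.range c := by
      rw [range_comap_of_surjective _ _ Ideal.Quotient.mk_surjective, Ideal.mk_ker]
      exact hP
    show Ideal.Quotient.mk J e ∉ P₀.asIdeal ↔ P₀ ∈ c ⁻¹' Set.range jS
    rw [hee₀, he₀']
    rfl
  have hsub : ((PrimeSpectrum.basicOpen e : TopologicalSpace.Opens (PrimeSpectrum B)) : Set (PrimeSpectrum B))
      ⊆ Set.range jS := by
    intro P hP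
    by_contra hn
    obtain ⟨M, hM, hPM⟩ := P.asIdeal.exists_le_maximal P.2.ne_top
    haveI := hM
    have hMI : I ≤ M.comap (algebraMap A B) := by
      haveI : (M.comap (algebraMap A B)).IsMaximal := Ideal.isMaximal_comap_of_isIntegral_of_isMaximal M
      exact (HenselianRing.jac (I := I)).trans (sInf_le ⟨bot_le, inferInstance⟩)
    let Q : PrimeSpectrum B := ⟨M, hM.isPrime⟩
    have hPQ : P ⤳ Q := (PrimeSpectrum.le_iff_specializes P Q).1 hPM
    have hQe : e ∉ M := by
      intro h
      have h1 : (1 : B) - e ∈ P.asIdeal := (P.2.mem_or_mem (show e * (1 - e) ∈ P.asIdeal by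
        rw [mul_sub, mul_one, he.eq, sub_self]; exact zero_mem _)).resolve_left hP
      exact hM.ne_top ((Ideal.eq_top_iff_one _).2 (by simpa using add_mem h (hPM h1)))
    exact hn (hPQ.mem_open jS.isOpenEmbedding.isOpen_range ((key Q (Ideal.map_le_iff_le_comap.2 hMI)).1 hQe))
  have hclosed : IsClosed ((PrimeSpectrum.basicOpen e : TopologicalSpace.Opens (PrimeSpectrum B)) : Set (PrimeSpectrum B)) :=
    (PrimeSpectrum.isClopen_iff.2 ⟨e, he, rfl⟩).1
  let W : U.Opens := jS ⁻¹ᵁ PrimeSpectrum.basicOpen e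
  haveI : IsClosedImmersion (W.ι ≫ jS) := by
    refine IsClosedImmersion.of_isPreimmersion _ ?_
    have : Set.range (W.ι ≫ jS) = ((PrimeSpectrum.basicOpen e : TopologicalSpace.Opens (PrimeSpectrum B)) : Set (PrimeSpectrum B)) := by
      ext P
      refine ⟨fun ⟨z, hz⟩ => hz ▸ z.2, fun hP => ?_⟩
      obtain ⟨x, hx⟩ := hsub hP
      exact ⟨⟨x, show jS x ∈ PrimeSpectrum.basicOpen e from hx.symm ▸ hP⟩, hx⟩
    rw [this]; exact hclosed
  refine ⟨W, hclosed.preimage jS.continuous, ?_, fun u hu hI => hu ?_⟩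
  · refine (IsFinite.iff_isIntegralHom_and_locallyOfFiniteType _).2 ⟨?_, inferInstance⟩
    rw [← hjS, ← Category.assoc]; infer_instance
  · refine (key (jS u) ((hV _).2 ?_)).2 ⟨u, rfl⟩
    rw [← hjS] at hI
    exact hI

end Groth.Agent.S0784
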