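import Groth.Statements.S0792
import Groth.Agent.Lib.PropSuppH7.Basic
import Groth.Agent.Lib.ClSub24.Proper
import Groth.Agent.Lib.CohFound.DevissageModel

set_option autoImplicit false
universe u
open Coherent

namespace Groth.Agent.S0792

open CategoryTheory AlgebraicGeometry in
/-- Let f : X → S be locally of finite type and F a quasi-coherent O_X-module of finite type. The
support of F is proper over S if and only if there are a closed subscheme i : Z → X with Z proper
over S and a quasi-coherent O_Z-module G of finite type with i_* G isomorphic to F. (The published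
statement also gives a further equivalent condition, that the scheme-theoretic support of F is
proper over S; it is not used here.) -/
theorem result {X S : Scheme.{u}} (f : X ⟶ S) [LocallyOfFiniteType f]
    (F : X.Modules) (hq : Coh.IsQCoh F) (hft : CohB1.IsFT F) :
    ClSub.IsProperOver f (CohB1.support F) ↔
      ∃ (Z : Scheme.{u}) (i : Z ⟶ X), IsClosedImmersion i ∧ IsProper (i ≫ f) ∧
        ∃ G : Z.Modules, Coh.IsQCoh G ∧ CohB1.IsFT G ∧
          Nonempty ((Scheme.Modules.pushforward i).obj G ≅ F) := by
  refine ⟨fun hs => ?_, ?_⟩
  · obtain ⟨Z, i, hi, hp, -, N, hN, hNft, he⟩ := PropSuppH7.exists_model f hq hft hs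
    exact ⟨Z, i, hi, hp, N, hN, hNft, he⟩
  · rintro ⟨Z, i, hi, hp, G, -, -, ⟨e⟩⟩
    refine ClSub24.isProperOver_subset f (fun x hx => ?_) ?_
      ((ClSub24.isProperOver_iff_exists f (Set.range i)).2 ⟨Z, i, hi, rfl, hp⟩)
    · by_contra h
      exact hx ⟨fun a b => ((M1.stalkAb x).mapIso e).symm.addCommGroupIsoToAddEquiv.injective
        ((M1.eq_zero_stalk_push i G h _).trans (M1.eq_zero_stalk_push i G h _).symm)⟩
    · rw [← M1.support_annSheaf hq hft]
      exact (M1.annSheaf hq hft).support.isClosed

end Groth.Agent.S0792
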