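import Groth.Statements.S0810
import Groth.Agent.Lib.CIPic27.Final
-- import your own Groth.Agent.* helpers here

set_option autoImplicit false
universe u
open Formal2

namespace Groth.Agent.S0810

open CategoryTheory AlgebraicGeometry in
/-- Let A be a Noetherian local ring which is a complete intersection (its completion is a regular local
ring modulo a regular sequence) of dimension at least 4. Then every invertible module on the
punctured spectrum of A is trivial. -/
theorem result (A : Type u) [CommRing A] [IsNoetherianRing A]
    [IsLocalRing A] (hci : Pi1.IsCompleteIntersection A) (hdim : (4 : WithBot ℕ∞) ≤ ringKrullDim A) :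
    Formal2.PicTrivial (↑(FEt.puncturedSpec A) : Scheme.{u}) := by
  exact Groth.Agent.CIPic27.picTrivial_of_ptm (Groth.Agent.CIPic27.ptm_CI A hci hdim)

end Groth.Agent.S0810
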