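import Groth.Statements.S0813
import Groth.Agent.Lib.ParaFDesc27.Semilocal
import Groth.Agent.Lib.FEtEq25.DepthTwo
import Groth.Agent.Lib.SMT.CMBasic
-- import your own Groth.Agent.* helpers here

set_option autoImplicit false
universe u
open Formal2

namespace Groth.Agent.S0813

open CategoryTheory AlgebraicGeometry in
/-- Let (A, 𝔪) be a Noetherian local ring of depth at least 2, A^ its 𝔪-adic completion, U the punctured
spectrum of A and U^ its preimage in Spec A^ (the punctured spectrum of A^). Then an invertible
O_U-module whose pullback to U^ is trivial is trivial. -/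
theorem result (A : Type u) [CommRing A] [IsNoetherianRing A]
    [IsLocalRing A] (hdepth : (2 : ℕ∞) ≤ LocCoh.depth A A) :
    Formal2.PicPullbackInjective
      (Spec.map (CommRingCat.ofHom (algebraMap A (AdicCompletion (IsLocalRing.maximalIdeal A) A))) ∣_
        FEt.puncturedSpec A) := by
  open AlgebraicGeometry CategoryTheory Limits in
  intro L hL he
  obtain ⟨e⟩ := he
  let Ah := AdicCompletion (IsLocalRing.maximalIdeal A) A
  let g := Spec.map (CommRingCat.ofHom (algebraMap A Ah))
  let U := FEt.puncturedSpec A
  haveI : Module.Flat A Ah := AdicCompletion.flat_of_isNoetherian _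
  haveI : Module.FaithfullyFlat A Ah := Module.FaithfullyFlat.of_flat_of_isLocalHom
  have hff := (flat_and_surjective_SpecMap_iff (CommRingCat.ofHom (algebraMap A Ah))).2
    ((RingHom.faithfullyFlat_algebraMap_iff (R := A) (S := Ah)).2 inferInstance)
  haveI := hff.1
  haveI := hff.2
  haveI : QuasiCompact U.ι := inferInstance
  have hb : Function.Bijective U.ι.appTop := by
    refine Groth.Agent.FEtEq25.bijective_appTop_of_depth_two _ fun z hz => ?_
    rw [Scheme.Opens.range_ι] at hz
    have hz' : z = IsLocalRing.closedPoint A := not_not.1 hz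
    subst hz'
    let O := (Spec (CommRingCat.of A)).presheaf.stalk (IsLocalRing.closedPoint A)
    letI : Algebra A O := StructureSheaf.stalkAlgebra A (IsLocalRing.closedPoint A)
    haveI : IsLocalization.AtPrime O (IsLocalRing.closedPoint A).asIdeal :=
      StructureSheaf.IsLocalization.to_stalk A (IsLocalRing.closedPoint A)
    have hu : ∀ x ∈ (IsLocalRing.closedPoint A).asIdeal.primeCompl, IsUnit x := fun x hx => not_not.1 hx
    let ε : A ≃ₐ[A] O := IsLocalization.atUnits A (IsLocalRing.closedPoint A).asIdeal.primeCompl (S := O) hu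
    exact hdepth.trans (Groth.Agent.SMT.depth_eq_of_ringEquiv ε.toRingEquiv).ge
  let ε : A ≃+* Γ((U : Scheme.{u}), ⊤) := ((Scheme.ΓSpecIso (CommRingCat.of A)).symm.commRingCatIsoToRingEquiv).trans
    (RingEquiv.ofBijective U.ι.appTop.hom hb)
  haveI : IsLocalRing Γ((U : Scheme.{u}), ⊤) := ε.isLocalRing
  haveI : Finite (MaximalSpectrum Γ((U : Scheme.{u}), ⊤)) := inferInstance
  exact Groth.Agent.ParaFDesc27.nonempty_iso_structure_of_semilocal (g := g)
    (isPullback_morphismRestrict g U) inferInstance hL e

end Groth.Agent.S0813
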