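import Groth.Statements.S0814
import Groth.Agent.Lib.FormalColim28.Connect

set_option autoImplicit false
universe u
open CategoryTheory
attribute [local instance] HasDerivedCategory.standard
open Formal2

set_option linter.style.haveILetI false

namespace Groth.Agent.S0814

open AlgebraicGeometry in
/-- Let I ⊆ 𝔞 be ideals of a Noetherian ring A which is complete for the I-adic topology and admits a
dualizing complex, and let d bound the cohomological dimension of I. Assume that for every minimal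
prime 𝔭 of A not containing I and every prime 𝔮 ⊇ 𝔭 + 𝔞 the dimension of (A/𝔭)_𝔮 exceeds d + 1, and
that every nonempty open subset of Spec A containing V(I) ∖ V(𝔞) is connected. Then V(I) ∖ V(𝔞) is
empty or connected. -/
theorem result (A : Type u) [CommRing A] [IsNoetherianRing A]
    (I 𝔞 : Ideal A) (hI : I ≤ 𝔞) [IsAdicComplete I A] (hω : ∃ ω : Dual.D A, Dual.IsDualizing A ω)
    (d : ℕ) (hd : LocCoh.CdLE A I d)
    (h₂ : ∀ p ∈ minimalPrimes A, ¬ I ≤ p →
      ∀ (q : Ideal A) [q.IsPrime], p ≤ q → 𝔞 ≤ q → ((d + 1 : ℕ) : WithBot ℕ∞) < Formal2.dimBetween A p q)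
    (h₃ : ∀ V : Set (PrimeSpectrum A), IsOpen V → V.Nonempty →
      PrimeSpectrum.zeroLocus (I : Set A) \ PrimeSpectrum.zeroLocus (𝔞 : Set A) ⊆ V → _root_.IsConnected V) :
    _root_.IsPreconnected (PrimeSpectrum.zeroLocus (I : Set A) \ PrimeSpectrum.zeroLocus (𝔞 : Set A)) := by
  classical
  intro u v hu hv hcov hZu hZv
  by_contra hemp
  obtain ⟨s, hs⟩ := IsNoetherian.noetherian 𝔞
  let x : Fin s.card → A := fun i => (s.equivFin.symm i).1
  have hx : Ideal.span (Set.range x) = 𝔞 := by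
    rw [show Set.range x = (s : Set A) from by ext z; exact ⟨fun ⟨i, hi⟩ => hi ▸ (s.equivFin.symm i).2,
      fun hz => ⟨s.equivFin ⟨z, hz⟩, by simp [x]⟩⟩]
    exact hs
  have hass : ∀ p ∈ associatedPrimes A (A ⧸ nilradical A), p ∈ minimalPrimes A := by
    intro p hp
    obtain ⟨hpp, z, hz⟩ := isAssociatedPrime_iff.1 hp
    obtain ⟨z, rfl⟩ := Submodule.Quotient.mk_surjective _ z
    have hmem : ∀ c : A, c ∈ p ↔ c * z ∈ nilradical A := fun c => by
      rw [hz, Submodule.mem_colon_singleton, Submodule.mem_bot, ← Submodule.Quotient.mk_smul,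
        Submodule.Quotient.mk_eq_zero, smul_eq_mul]
    have hzN : z ∉ nilradical A := fun h => hpp.ne_top ((Ideal.eq_top_iff_one p).2 ((hmem 1).2 (by rwa [one_mul])))
    obtain ⟨P, hP, hzP⟩ : ∃ P : Ideal A, P.IsPrime ∧ z ∉ P := by
      rw [nilradical_eq_sInf, Submodule.mem_sInf] at hzN
      push Not at hzN
      exact hzN
    haveI := hP
    obtain ⟨Q, hQ, hQP⟩ := Ideal.exists_minimalPrimes_le (I := (⊥ : Ideal A)) (J := P) bot_le
    have hle : p ≤ Q := fun c hc => by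
      haveI := hQ.1.1
      have hcz : c * z ∈ Q := nilradical_le_prime Q ((hmem c).1 hc)
      exact (hQ.1.1.mem_or_mem hcz).resolve_right fun h => hzP (hQP h)
    rw [le_antisymm hle (hQ.2 ⟨hpp, bot_le⟩ hle)]
    exact hQ
  have hbij : Groth.Agent.FormalColim28.Bij I 𝔞 (A ⧸ nilradical A) :=
    Groth.Agent.FormalColim28.formalCohColimBijective hI hω d hd _ fun p hp _ hIp _ q hq hpq haq =>
      @h₂ p (hass p hp) hIp q hq hpq haq
  have hs' := ((Groth.Agent.FormalCohH7.formalCohColimBijective_iff I (A ⧸ nilradical A) _).1 hbij).2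
  have hZ : ∀ P : PrimeSpectrum A, P ∈ PrimeSpectrum.zeroLocus (I : Set A) \ PrimeSpectrum.zeroLocus (𝔞 : Set A) ↔
      I ≤ P.asIdeal ∧ ¬ 𝔞 ≤ P.asIdeal := fun P => by
    simp only [Set.mem_diff, PrimeSpectrum.mem_zeroLocus, SetLike.coe_subset_coe]
  obtain ⟨D, D', hD, hD', hdisj, hDD⟩ := Groth.Agent.FormalColim28.exists_partition_nhd hx le_rfl hs' hu hv
    fun P h1 h2 => ⟨fun hPv hPu => hemp ⟨P, (hZ P).2 ⟨h1, h2⟩, hPu, hPv⟩,
      fun hPu => (hcov ((hZ P).2 ⟨h1, h2⟩)).resolve_left hPu⟩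
  obtain ⟨P, hP, hPu⟩ := hZu
  obtain ⟨Q, hQ, hQv⟩ := hZv
  have hPD : P ∈ D := (hDD P ((hZ P).1 hP).1 ((hZ P).1 hP).2).2.2 hPu
  have hQD : Q ∈ D' := (hDD Q ((hZ Q).1 hQ).1 ((hZ Q).1 hQ).2).1.resolve_left fun h =>
    hemp ⟨Q, hQ, (hDD Q ((hZ Q).1 hQ).1 ((hZ Q).1 hQ).2).2.1 h, hQv⟩
  obtain ⟨R, -, hR⟩ := (h₃ (D ∪ D') (hD.union hD') ⟨P, Or.inl hPD⟩
    fun R hR => (hDD R ((hZ R).1 hR).1 ((hZ R).1 hR).2).1).isPreconnected D D' hD hD' subset_rfl
      ⟨P, Or.inl hPD, hPD⟩ ⟨Q, Or.inr hQD, hQD⟩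
  exact Set.disjoint_left.1 hdisj hR.1 hR.2

end Groth.Agent.S0814
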