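import Groth.Statements.S0815
import Groth.Agent.Lib.HLV27.Connect2

set_option linter.style.haveILetI false

set_option autoImplicit false
universe u
open Formal2

namespace Groth.Agent.S0815

open Groth.Agent.HLV27 Groth.Agent.LocCohLib IsLocalRing PrimeSpectrum

theorem natCast_succ_le {N : ℕ} {x : WithBot ℕ∞} (h : (N : WithBot ℕ∞) < x) : ((N + 1 : ℕ) : WithBot ℕ∞) ≤ x := by
  induction x with
  | bot => exact absurd h (not_lt_bot)
  | coe x =>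
    have h' : (N : ℕ∞) < x := WithBot.coe_lt_coe.1 h
    exact WithBot.coe_le_coe.2 (by simpa using Order.add_one_le_of_lt h')

variable {A : Type u} [CommRing A]

/-- Strict decrease of dimension for a closed subset missing the minimal points. -/
theorem dim_lt {J K : Ideal A} (hKJ : K ≤ J) (hfin : ∃ d : ℕ, ringKrullDim (A ⧸ J) = d)
    (h : ∀ q : PrimeSpectrum A, J ≤ q.asIdeal → ∃ p : PrimeSpectrum A, K ≤ p.asIdeal ∧ p < q) :
    ringKrullDim (A ⧸ J) < ringKrullDim (A ⧸ K) := by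
  obtain ⟨d, hd⟩ := hfin
  haveI hne : Nonempty (zeroLocus (R := A) (J : Set A)) := by
    by_contra hempty
    haveI := not_nonempty_iff.1 hempty
    rw [ringKrullDim_quotient, Order.krullDim_eq_bot] at hd
    exact WithBot.bot_ne_natCast d hd
  rw [ringKrullDim_quotient] at hd
  haveI : FiniteDimensionalOrder (zeroLocus (R := A) (J : Set A)) :=
    Order.finiteDimensionalOrder_iff_krullDim_ne_bot_and_top.2
      ⟨by rw [hd]; exact WithBot.natCast_ne_bot d, by rw [hd]; exact (WithBot.coe_lt_coe.2 (ENat.natCast_lt_top d)).ne⟩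
  rw [ringKrullDim_quotient, Order.krullDim_eq_length_of_finiteDimensionalOrder]
  let l := LTSeries.longestOf (zeroLocus (R := A) (J : Set A))
  obtain ⟨p, hpK, hp⟩ := h l.head.1 l.head.2
  let l' : LTSeries (zeroLocus (R := A) (K : Set A)) :=
    (l.map (fun x => (⟨x.1, hKJ.trans x.2⟩ : zeroLocus (R := A) (K : Set A))) fun _ _ hxy => hxy).cons ⟨p, hpK⟩
      hp
  rw [ringKrullDim_quotient]
  refine lt_of_lt_of_le ?_ (Order.LTSeries.length_le_krullDim l')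
  have e : l'.length = (LTSeries.longestOf (zeroLocus (R := A) (J : Set A))).length + 1 := by simp [l', l, RelSeries.cons, RelSeries.append, LTSeries.map]
  rw [e]
  exact_mod_cast Nat.lt_succ_self _

variable [IsNoetherianRing A] [IsLocalRing A] [IsAdicComplete (maximalIdeal A) A]

/-- The core estimate. -/
theorem connected_core (I J : Ideal A) (hI : I ≠ ⊤) (e n : ℕ) (he : LocCoh.CdLE A I e)
    (hJ : ringKrullDim (A ⧸ J) = n) (hsub : ∀ p ∈ minimalPrimes A, ((n + e + 1 : ℕ) : WithBot ℕ∞) < ringKrullDim (A ⧸ p))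
    (hc : ∀ Z' : Set (PrimeSpectrum A), IsClosed Z' → ¬ _root_.IsConnected Z'ᶜ →
      ((n + e : ℕ) : WithBot ℕ∞) < topologicalKrullDim Z') :
    _root_.IsConnected (zeroLocus (I : Set A) \ zeroLocus (J : Set A)) := by
  classical
  set S := zeroLocus (I : Set A) \ zeroLocus (J : Set A) with hS
  have hIm : I ≤ maximalIdeal A := le_maximalIdeal hI
  refine ⟨?_, ?_⟩
  · obtain ⟨P, hP, -⟩ := exists_minimalPrime_le (R := A) ⟨maximalIdeal A, inferInstance⟩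
    haveI := hP.1.1
    by_contra hne
    rw [Set.not_nonempty_iff_eq_empty] at hne
    obtain ⟨m, hm⟩ := exists_dim_nat (sup_le hIm (le_maximalIdeal hP.1.1.ne_top))
    have h1 := (hsub P hP).trans_le (dim_le_cd_add P m e I hIm hm he)
    have h2 : ringKrullDim (A ⧸ (I ⊔ P)) ≤ ringKrullDim (A ⧸ J) := by
      rw [ringKrullDim_quotient, ringKrullDim_quotient]
      refine Order.krullDim_le_of_strictMono (fun x => ⟨x.1, ?_⟩) fun _ _ hxy => hxy
      by_contra hx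
      exact (Set.eq_empty_iff_forall_notMem.1 hne x.1) ⟨(le_sup_left.trans x.2 : I ≤ x.1.asIdeal), hx⟩
    rw [hm, hJ] at h2
    have h3 : n + e + 1 < e + m := by exact_mod_cast h1
    have h4 : m ≤ n := by exact_mod_cast h2
    omega
  intro U₁ U₂ hU₁ hU₂ hcov ⟨x₁, hx₁, hx₁'⟩ ⟨x₂, hx₂, hx₂'⟩
  by_contra hdis
  have hd : ∀ x ∈ S, x ∈ U₁ → x ∉ U₂ := fun x hx h1 h2 => hdis ⟨x, hx, h1, h2⟩
  -- the two families of components
  let M := I.minimalPrimes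
  have hfin : M.Finite := Ideal.finite_minimalPrimes_of_isNoetherianRing A I
  let M₂ := hfin.toFinset.filter fun P => ∃ q : PrimeSpectrum A, q.asIdeal = P ∧ q ∈ S ∧ q ∈ U₂
  let M₁ := hfin.toFinset.filter fun P => ¬ ∃ q : PrimeSpectrum A, q.asIdeal = P ∧ q ∈ S ∧ q ∈ U₂
  let a : Ideal A := M₁.inf id
  let b : Ideal A := M₂.inf id
  have hgen : ∀ x ∈ S, ∃ q : PrimeSpectrum A, q.asIdeal ∈ M ∧ q.asIdeal ≤ x.asIdeal ∧ q ∈ S ∧
      (x ∈ U₁ → q ∈ U₁) ∧ (x ∈ U₂ → q ∈ U₂) := fun x hx => by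
    obtain ⟨P, hP, hle⟩ := Ideal.exists_minimalPrimes_le (show I ≤ x.asIdeal from hx.1)
    let q : PrimeSpectrum A := ⟨P, hP.1.1⟩
    have hsp : q ⤳ x := (PrimeSpectrum.le_iff_specializes q x).1 hle
    exact ⟨q, hP, hle, ⟨hP.1.2, fun h => hx.2 (h.trans hle)⟩, fun h => hsp.mem_open hU₁ h, fun h => hsp.mem_open hU₂ h⟩
  have ha : ∀ P ∈ M₁, a ≤ P := fun P hP => Finset.inf_le (f := id) hP
  have hb : ∀ P ∈ M₂, b ≤ P := fun P hP => Finset.inf_le (f := id) hP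
  have hq₁ : ∀ q : PrimeSpectrum A, q.asIdeal ∈ M → q ∈ S → q ∈ U₁ → q.asIdeal ∈ M₁ := fun q hq hqS h1 => by
    refine Finset.mem_filter.2 ⟨hfin.mem_toFinset.2 hq, fun ⟨q', hq', _, h2⟩ => ?_⟩
    rw [PrimeSpectrum.ext hq'] at h2
    exact hd q hqS h1 h2
  have hq₂ : ∀ q : PrimeSpectrum A, q.asIdeal ∈ M → q ∈ S → q ∈ U₂ → q.asIdeal ∈ M₂ := fun q hq hqS h2 =>
    Finset.mem_filter.2 ⟨hfin.mem_toFinset.2 hq, q, rfl, hqS, h2⟩
  obtain ⟨q₁, hq₁M, -, hq₁S, hq₁U, -⟩ := hgen x₁ hx₁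
  obtain ⟨q₂, hq₂M, -, hq₂S, -, hq₂U⟩ := hgen x₂ hx₂
  have hqa := hq₁ q₁ hq₁M hq₁S (hq₁U hx₁')
  have hqb := hq₂ q₂ hq₂M hq₂S (hq₂U hx₂')
  have hane : a ≠ ⊤ := ne_top_of_le_ne_top q₁.isPrime.ne_top (ha _ hqa)
  have hbne : b ≠ ⊤ := ne_top_of_le_ne_top q₂.isPrime.ne_top (hb _ hqb)
  have hIa : I ≤ a := Finset.le_inf fun P hP => (hfin.mem_toFinset.1 (Finset.mem_filter.1 hP).1).1.2
  have hIb : I ≤ b := Finset.le_inf fun P hP => (hfin.mem_toFinset.1 (Finset.mem_filter.1 hP).1).1.2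
  have hsplit : ∀ x : PrimeSpectrum A, ∀ {T : Finset (Ideal A)}, T.inf id ≤ x.asIdeal → ∃ P ∈ T, P ≤ x.asIdeal :=
    fun x T h => (x.isPrime.inf_le').1 h
  -- the intersection lies in `J` and misses all generic points
  have hboth : ∀ x : PrimeSpectrum A, a ⊔ b ≤ x.asIdeal → J ≤ x.asIdeal ∧
      ∃ P₁ ∈ M₁, ∃ P₂ ∈ M₂, P₁ ≤ x.asIdeal ∧ P₂ ≤ x.asIdeal := fun x hx => by
    obtain ⟨P₁, hP₁, h₁⟩ := hsplit x (le_sup_left.trans hx)
    obtain ⟨P₂, hP₂, h₂⟩ := hsplit x (le_sup_right.trans hx)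
    refine ⟨?_, P₁, hP₁, P₂, hP₂, h₁, h₂⟩
    by_contra hxJ
    obtain ⟨hP₁f, hP₁n⟩ := Finset.mem_filter.1 hP₁
    obtain ⟨hP₂f, q₂', hq₂', hq₂'S, hq₂'U⟩ := Finset.mem_filter.1 hP₂
    have hxS : x ∈ S := ⟨(hIa.trans le_sup_left).trans hx, hxJ⟩
    let p₁ : PrimeSpectrum A := ⟨P₁, (hfin.mem_toFinset.1 hP₁f).1.1⟩
    have hp₁S : p₁ ∈ S := ⟨(hfin.mem_toFinset.1 hP₁f).1.2, fun h => hxJ (le_trans h h₁)⟩
    have hs₁ : p₁ ⤳ x := (PrimeSpectrum.le_iff_specializes p₁ x).1 h₁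
    have hs₂ : q₂' ⤳ x := (PrimeSpectrum.le_iff_specializes q₂' x).1
      (show q₂'.asIdeal ≤ x.asIdeal by rw [hq₂']; exact h₂)
    rcases hcov hxS with hx1 | hx2
    · exact hd q₂' hq₂'S (hs₂.mem_open hU₁ hx1) hq₂'U
    · exact hP₁n ⟨p₁, rfl, hp₁S, hs₁.mem_open hU₂ hx2⟩
  have hne₁₂ : ∀ P₁ ∈ M₁, ∀ P₂ ∈ M₂, ∀ x : PrimeSpectrum A, P₁ ≤ x.asIdeal → P₂ ≤ x.asIdeal →
      P₁ < x.asIdeal ∧ P₂ < x.asIdeal := fun P₁ hP₁ P₂ hP₂ x h₁ h₂ => by
    obtain ⟨hf₁, hn₁⟩ := Finset.mem_filter.1 hP₁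
    obtain ⟨hf₂, hn₂⟩ := Finset.mem_filter.1 hP₂
    have hne : P₁ ≠ P₂ := fun h => hn₁ (h ▸ hn₂)
    refine ⟨lt_of_le_of_ne h₁ fun h => ?_, lt_of_le_of_ne h₂ fun h => ?_⟩
    · subst h
      exact hne (le_antisymm ((hfin.mem_toFinset.1 hf₁).2 (hfin.mem_toFinset.1 hf₂).1 h₂) h₂)
    · subst h
      exact hne (le_antisymm h₁ ((hfin.mem_toFinset.1 hf₂).2 (hfin.mem_toFinset.1 hf₁).1 h₁))
  obtain ⟨d, hd'⟩ := exists_dim_nat (sup_le (le_maximalIdeal hane) (le_maximalIdeal hbne))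
  have hab : ringKrullDim (A ⧸ (a ⊔ b)) < min (ringKrullDim (A ⧸ a)) (ringKrullDim (A ⧸ b)) := by
    refine lt_min (dim_lt le_sup_left ⟨d, hd'⟩ fun q hq => ?_) (dim_lt le_sup_right ⟨d, hd'⟩ fun q hq => ?_) <;>
      obtain ⟨-, P₁, hP₁, P₂, hP₂, h₁, h₂⟩ := hboth q hq
    · exact ⟨⟨P₁, (hfin.mem_toFinset.1 (Finset.mem_filter.1 hP₁).1).1.1⟩, ha _ hP₁, (hne₁₂ _ hP₁ _ hP₂ q h₁ h₂).1⟩
    · exact ⟨⟨P₂, (hfin.mem_toFinset.1 (Finset.mem_filter.1 hP₂).1).1.1⟩, hb _ hP₂, (hne₁₂ _ hP₁ _ hP₂ q h₁ h₂).2⟩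
  have hk : LocCoh.CdLE A (a ⊓ b) e := by
    refine cdLE_congr_radical ((le_inf hIa hIb).trans Ideal.le_radical) ?_ he
    rw [Ideal.radical_eq_sInf]
    refine le_sInf fun q ⟨hq, hqp⟩ => ?_
    haveI := hqp
    obtain ⟨P, hP, hle⟩ := Ideal.exists_minimalPrimes_le hq
    refine le_trans ?_ hle
    by_cases hP' : ∃ q : PrimeSpectrum A, q.asIdeal = P ∧ q ∈ S ∧ q ∈ U₂
    · exact inf_le_right.trans (hb P (Finset.mem_filter.2 ⟨hfin.mem_toFinset.2 hP, hP'⟩))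
    · exact inf_le_left.trans (ha P (Finset.mem_filter.2 ⟨hfin.mem_toFinset.2 hP, hP'⟩))
  have hmain := min_le_dim_add a b hane hbne hab e hk
  have hle : ringKrullDim (A ⧸ (a ⊔ b)) ≤ (n : WithBot ℕ∞) := by
    rw [← hJ, ringKrullDim_quotient, ringKrullDim_quotient]
    exact Order.krullDim_le_of_strictMono (fun x => ⟨x.1, (hboth x.1 x.2).1⟩) fun _ _ hxy => hxy
  have hlow : ((n + e + 2 : ℕ) : WithBot ℕ∞) ≤
      min (LocCoh.connDim (PrimeSpectrum A) + 1) (LocCoh.subdim (PrimeSpectrum A)) := by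
    refine le_min ?_ (le_iInf₂ fun Z hZ => ?_)
    · have h1 : ((n + e + 1 : ℕ) : WithBot ℕ∞) ≤ LocCoh.connDim (PrimeSpectrum A) :=
        le_iInf₂ fun Z' hZ' => natCast_succ_le (hc Z' hZ'.1 hZ'.2)
      calc ((n + e + 2 : ℕ) : WithBot ℕ∞) = ((n + e + 1 : ℕ) : WithBot ℕ∞) + 1 := by push_cast; ring
        _ ≤ _ := add_le_add h1 le_rfl
    · have hcomp : irreducibleComponents (PrimeSpectrum A) =
          (fun P : Ideal A => zeroLocus (P : Set A)) '' minimalPrimes A := by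
        rw [← zeroLocus_minimalPrimes]; rfl
      rw [hcomp] at hZ
      obtain ⟨P, hP, rfl⟩ := hZ
      rw [dim_zeroLocus]
      exact natCast_succ_le (hsub P hP)
  rw [hd'] at hmain hle
  have h1 : ((n + e + 2 : ℕ) : WithBot ℕ∞) ≤ ((d + e + 1 : ℕ) : WithBot ℕ∞) := by
    refine (hlow.trans hmain).trans (le_of_eq ?_)
    push_cast
    rfl
  have h2 : n + e + 2 ≤ d + e + 1 := by exact_mod_cast h1
  have h3 : d ≤ n := by exact_mod_cast hle
  omega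

open CategoryTheory AlgebraicGeometry in
/-- Let (A, 𝔪) be a complete Noetherian local ring, I a proper ideal, e a bound for the cohomological
dimension of I, and Z ⊆ V(I) a closed subset of Spec A. Assume that dim Z + e + 1 < dim A/𝔭 for
every minimal prime 𝔭 of A, and that dim Z + e < dim Z' for every closed subset Z' of Spec A whose
complement is not connected (the empty complement counts as not connected). Then V(I) ∖ Z is
connected, in particular nonempty. -/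
theorem result (A : Type u) [CommRing A] [IsNoetherianRing A] [IsLocalRing A]
    [IsAdicComplete (IsLocalRing.maximalIdeal A) A] (I : Ideal A) (hI : I ≠ ⊤) (e : ℕ) (he : LocCoh.CdLE A I e)
    (Z : Set (PrimeSpectrum A)) (hZ : IsClosed Z) (hZI : Z ⊆ PrimeSpectrum.zeroLocus (I : Set A))
    (hdim : ∀ p ∈ minimalPrimes A, topologicalKrullDim Z + ((e + 1 : ℕ) : WithBot ℕ∞) < ringKrullDim (A ⧸ p))
    (hc : ∀ Z' : Set (PrimeSpectrum A), IsClosed Z' → ¬ _root_.IsConnected Z'ᶜ →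
      topologicalKrullDim Z + ((e : ℕ) : WithBot ℕ∞) < topologicalKrullDim Z') :
    _root_.IsConnected (PrimeSpectrum.zeroLocus (I : Set A) \ Z) := by
  rcases Set.eq_empty_or_nonempty Z with rfl | ⟨z, hz⟩
  · rw [Set.sdiff_empty]
    have hm : IsLocalRing.closedPoint A ∈ PrimeSpectrum.zeroLocus (I : Set A) := IsLocalRing.le_maximalIdeal hI
    refine ⟨⟨_, hm⟩, fun U₁ U₂ hU₁ hU₂ hcov ⟨x₁, hx₁, hx₁'⟩ ⟨x₂, hx₂, hx₂'⟩ => ?_⟩
    rcases hcov hm with h | h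
    · exact ⟨x₂, hx₂, (IsLocalRing.specializes_closedPoint x₂).mem_open hU₁ h, hx₂'⟩
    · exact ⟨x₁, hx₁, hx₁', (IsLocalRing.specializes_closedPoint x₁).mem_open hU₂ h⟩
  have hZ' : Z = PrimeSpectrum.zeroLocus (PrimeSpectrum.vanishingIdeal Z : Set A) := by
    rw [PrimeSpectrum.zeroLocus_vanishingIdeal_eq_closure, hZ.closure_eq]
  have hd := HLV27.dim_closed hZ
  obtain ⟨n, hn⟩ := HLV27.exists_dim_nat (J := PrimeSpectrum.vanishingIdeal Z)
    (IsLocalRing.le_maximalIdeal fun h => by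
      rw [h, PrimeSpectrum.zeroLocus_empty_iff_eq_top.2 rfl] at hZ'
      rw [hZ'] at hz
      exact hz)
  rw [hd, hn] at hdim hc
  rw [hZ']
  refine connected_core I _ hI e n he hn (fun p hp => lt_of_le_of_lt (le_of_eq ?_) (hdim p hp))
    fun Z' h1 h2 => lt_of_le_of_lt (le_of_eq ?_) (hc Z' h1 h2)
  · push_cast; ring
  · push_cast; ring

end Groth.Agent.S0815
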