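import Groth.Statements.S0816
import Groth.Agent.Lib.ExtendLN12.Basic
-- import your own Groth.Agent.* helpers here

set_option autoImplicit false
set_option backward.isDefEq.respectTransparency false
universe u
open Coherent

namespace Groth.Agent.S0816

open CategoryTheory AlgebraicGeometry in
/-- Let X be locally Noetherian, F and G coherent O_X-modules, U ⊆ X open and φ : F|_U → G|_U a map of
O_U-modules. Then there are a coherent submodule F' ⊆ F whose inclusion is an isomorphism over U and
a map φ' : F' → G whose restriction to U is φ (composed with that isomorphism). -/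
theorem result (X : Scheme.{u}) [IsLocallyNoetherian X] (F G : X.Modules)
    (hF : Coh.IsCoh F) (hG : Coh.IsCoh G) (U : X.Opens)
    (φ : (Scheme.Modules.restrictFunctor U.ι).obj F ⟶ (Scheme.Modules.restrictFunctor U.ι).obj G) :
    ∃ (F' : X.Modules) (ι : F' ⟶ F) (φ' : F' ⟶ G), Mono ι ∧ Coh.IsCoh F' ∧
      IsIso ((Scheme.Modules.restrictFunctor U.ι).map ι) ∧
      (Scheme.Modules.restrictFunctor U.ι).map φ' = (Scheme.Modules.restrictFunctor U.ι).map ι ≫ φ := by
  exact ExtendLN12.exists_extend F G hF hG U φ

end Groth.Agent.S0816
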