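import Groth.Statements.S0819
import Groth.Agent.Lib.CohFound.DevissageApps

set_option autoImplicit false
universe u
open Coherent

namespace Groth.Agent.S0819

open CategoryTheory AlgebraicGeometry in
/-- Let X be a Noetherian scheme, Z₀ ⊆ X an irreducible closed subset with generic point ξ, and P an
isomorphism-invariant property of O_X-modules such that: (1) in every short exact sequence of
coherent modules supported in Z₀, P for two of the terms implies P for the third; (2) P holds for
i_* I whenever i : Z → X is an integral closed subscheme with i(Z) a proper subset of Z₀ and I ⊆ O_Z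
is a quasi-coherent ideal sheaf; (3) there is a coherent G with support exactly Z₀, stalk at ξ
isomorphic to the residue field over the local ring, and P(G). Then P holds for every coherent
module whose support is contained in Z₀. -/
theorem result (X : Scheme.{u}) [IsNoetherian X]
    (Z₀ : Set X) (hZ₀ : IsClosed Z₀) (hirr : IsIrreducible Z₀) (ξ : X) (hξ : ξ ∈ Z₀ ∧ closure {ξ} = Z₀)
    (P : X.Modules → Prop) (hP : ∀ M N : X.Modules, Nonempty (M ≅ N) → P M → P N)
    (h₁ : ∀ S : ShortComplex X.Modules, S.ShortExact → Coh.IsCoh S.X₁ → Coh.IsCoh S.X₂ → Coh.IsCoh S.X₃ →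
      CohB1.support S.X₂ ⊆ Z₀ →
      (P S.X₁ → P S.X₂ → P S.X₃) ∧ (P S.X₁ → P S.X₃ → P S.X₂) ∧ (P S.X₂ → P S.X₃ → P S.X₁))
    (h₂ : ∀ (Z : Scheme.{u}) (i : Z ⟶ X), IsClosedImmersion i → IsIntegral Z →
      Set.range ⇑i ⊆ Z₀ → Set.range ⇑i ≠ Z₀ →
      ∀ (I : Z.Modules) (ι : I ⟶ Coh.structureModule Z), Mono ι → Coh.IsQCoh I →
        P ((Coh.push i).obj I))
    (h₃ : ∃ G : X.Modules, Coh.IsCoh G ∧ CohB1.support G = Z₀ ∧
      Nonempty (↑(G.presheaf.stalk ξ) ≃ₗ[X.presheaf.stalk ξ] IsLocalRing.ResidueField (X.presheaf.stalk ξ)) ∧ P G)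
    (M : X.Modules) (hM : Coh.IsCoh M) (hsupp : CohB1.support M ⊆ Z₀) : P M := by
  exact Groth.Agent.CohFound.holds_irreducible Z₀ hZ₀ ξ hξ P hP h₁ h₂ h₃ M hM hsupp

end Groth.Agent.S0819
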