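import Groth.Statements.S0820
import Groth.Agent.Lib.AmpleFin18.Curves
import Groth.Agent.Lib.CohFound.ClosedImmPush
import Groth.Agent.Lib.ModM1.Stalk
-- import your own Groth.Agent.* helpers here

set_option autoImplicit false
set_option linter.style.haveILetI false
set_option backward.isDefEq.respectTransparency false
set_option backward.isDefEq.respectTransparency.types false
universe u
open Coherent

namespace Groth.Agent.S0820

open CategoryTheory AlgebraicGeometry in
/-- Let f : Y → X be finite and surjective with X locally Noetherian, and let i : Z → X be a closed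
immersion from an integral scheme, ξ the image of the generic point of Z. Then some coherent
O_Y-module F has f_* F supported exactly on i(Z), with the stalk of f_* F at ξ killed by every
element of 𝔪_{X,ξ}, the maximal ideal of O_{X,ξ}. -/
theorem result {Y X : Scheme.{u}} (f : Y ⟶ X) [IsFinite f]
    [Surjective f] [IsLocallyNoetherian X] (Z : Scheme.{u}) (i : Z ⟶ X) [IsClosedImmersion i] [IsIntegral Z] :
    ∃ F : Y.Modules, Coh.IsCoh F ∧ CohB1.support ((Coh.push f).obj F) = Set.range ⇑i ∧
      ∀ a ∈ IsLocalRing.maximalIdeal (X.presheaf.stalk (i (genericPoint Z))),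
        ∀ m : ↑(((Coh.push f).obj F).presheaf.stalk (i (genericPoint Z))), a • m = 0 := by
  set η := i (genericPoint Z)
  obtain ⟨y, hy⟩ := f.surjective η
  let C : TopologicalSpace.Closeds Y := ⟨closure {y}, isClosed_closure⟩
  have hC : IsIrreducible (C : Set Y) := isIrreducible_singleton.closure
  let j := (Scheme.IdealSheafData.vanishingIdeal C).subschemeι
  haveI : IsIntegral (Scheme.IdealSheafData.vanishingIdeal C).subscheme := Groth.Agent.AmpleFin18.isIntegral_of_irreducible C hC
  let Y' := (Scheme.IdealSheafData.vanishingIdeal C).subscheme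
  have hrj : Set.range j = closure {y} := by
    rw [Scheme.IdealSheafData.range_subschemeι, Scheme.IdealSheafData.coe_support_vanishingIdeal]
    rfl
  have hgen : j (genericPoint Y') = y := by
    refine IsGenericPoint.eq (S := closure {y}) ?_ isGenericPoint_closure
    have := (genericPoint_spec Y').image j.continuous
    rwa [Set.image_univ, hrj, closure_closure] at this
  let h : Y' ⟶ X := j ≫ f
  have hη : h (genericPoint Y') = η := by rw [Scheme.Hom.comp_apply, hgen, hy]
  have hrange : Set.range h = Set.range i := by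
    have h1 : IsGenericPoint η (Set.range i) := by
      have := (genericPoint_spec Z).image i.continuous
      rwa [Set.image_univ, i.isClosedEmbedding.isClosed_range.closure_eq] at this
    haveI : IsFinite h := inferInstanceAs (IsFinite (j ≫ f))
    have h2 : IsGenericPoint (h (genericPoint Y')) (Set.range h) := by
      have := (genericPoint_spec Y').image h.continuous
      rwa [Set.image_univ, h.isClosedMap.isClosed_range.closure_eq] at this
    rw [← h1.def, ← h2.def, hη]
  let F := (Scheme.Modules.pushforward j).obj (Coh.structureModule Y')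
  haveI : IsLocallyNoetherian Y := LocallyOfFiniteType.isLocallyNoetherian f
  refine ⟨F, Groth.Agent.CohFound.isCoh_push_closedImm _ (Groth.Agent.M1.isCoh_structureModule Y'), ?_, ?_⟩
  · ext x
    constructor
    · intro hx
      by_contra hn
      rw [← hrange] at hn
      haveI : IsFinite h := inferInstanceAs (IsFinite (j ≫ f))
      let W₀ : X.Opens := ⟨(Set.range h)ᶜ, h.isClosedMap.isClosed_range.isOpen_compl⟩
      refine hx ⟨fun a b => ?_⟩
      have hz : ∀ a : ((Coh.push f).obj F).presheaf.stalk x, a = 0 := fun a => by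
        obtain ⟨W, hxW, t, rfl⟩ := TopCat.Presheaf.exists_germ_eq ((Coh.push f).obj F).presheaf a
        rw [← TopCat.Presheaf.germ_res_apply ((Coh.push f).obj F).presheaf (homOfLE (inf_le_left : W ⊓ W₀ ≤ W)) x
          ⟨hxW, hn⟩ t]
        have he : h ⁻¹ᵁ (W ⊓ W₀) = ⊥ := by
          ext z
          exact ⟨fun hz => absurd ⟨z, rfl⟩ hz.2, fun hz => hz.elim⟩
        haveI : Subsingleton Γ(Y', h ⁻¹ᵁ (W ⊓ W₀)) := by rw [he]; infer_instance
        refine (congrArg _ ?_).trans (map_zero _)
        exact Subsingleton.elim (α := Γ(Y', h ⁻¹ᵁ (W ⊓ W₀))) _ _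
      rw [hz a, hz b]
    · intro hx hs
      obtain ⟨z, rfl⟩ := hrange ▸ hx
      let s : Γ((Coh.push f).obj F, (⊤ : X.Opens)) := (1 : Γ(Y', h ⁻¹ᵁ ⊤))
      obtain ⟨W, hxW, i₁, i₂, e⟩ := ((Coh.push f).obj F).presheaf.germ_eq (h z) (TopologicalSpace.Opens.mem_top _)
        (TopologicalSpace.Opens.mem_top _) s 0 (hs.elim _ _)
      rw [map_zero] at e
      have e' : (1 : Γ(Y', h ⁻¹ᵁ W)) = 0 :=
        (map_one (Y'.presheaf.map ((TopologicalSpace.Opens.map h.base).map i₁).op).hom).symm.trans e
      have := congrArg (Y'.presheaf.germ (h ⁻¹ᵁ W) z hxW) e'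
      rw [map_one, map_zero] at this
      exact one_ne_zero this
  · clear_value η
    subst hη
    intro a ha m
    obtain ⟨V, hV, r, rfl⟩ := TopCat.Presheaf.exists_germ_eq X.presheaf a
    obtain ⟨W, hW, s, rfl⟩ := TopCat.Presheaf.exists_germ_eq ((Coh.push f).obj F).presheaf m
    have hr : h.app V r = 0 := by
      have hg : genericPoint Y' ∈ h ⁻¹ᵁ V := by
        exact hV
      apply germ_injective_of_isIntegral Y' _ hg
      rw [map_zero, ← Scheme.Hom.germ_stalkMap_apply]
      by_contra hne
      have hu : IsUnit ((h.stalkMap (genericPoint Y')) (X.presheaf.germ V _ hg r)) :=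
        (Ne.isUnit (G₀ := Y'.functionField) hne)
      have hu' : IsUnit (X.presheaf.germ V _ hg r) := isUnit_of_map_unit (h.stalkMap (genericPoint Y')).hom _ hu
      exact (IsLocalRing.mem_maximalIdeal _).1 ha hu'
    rw [← TopCat.Presheaf.germ_res_apply X.presheaf (homOfLE (inf_le_left : V ⊓ W ≤ V)) _ ⟨hV, hW⟩ r,
      ← TopCat.Presheaf.germ_res_apply ((Coh.push f).obj F).presheaf (homOfLE (inf_le_right : V ⊓ W ≤ W)) _ ⟨hV, hW⟩ s,
      ← Groth.Agent.M1.germ_smul]
    refine (congrArg _ ?_).trans (map_zero _)
    show (h.app (V ⊓ W) (X.presheaf.map (homOfLE _).op r) *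
      (show Γ(Y', h ⁻¹ᵁ (V ⊓ W)) from ((Coh.push f).obj F).presheaf.map (homOfLE (inf_le_right : V ⊓ W ≤ W)).op s)) = 0
    rw [show h.app (V ⊓ W) (X.presheaf.map (homOfLE (inf_le_left : V ⊓ W ≤ V)).op r) = Y'.presheaf.map _ (h.app V r) from
      ConcreteCategory.congr_hom (h.naturality (homOfLE (inf_le_left : V ⊓ W ≤ V)).op) r, hr, map_zero, zero_mul]

end Groth.Agent.S0820
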