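import Groth.Statements.S0824
import Groth.Agent.Lib.CohFound.SerreVan
import Groth.Agent.Lib.CohFound.SerreAffine
import Groth.Agent.Lib.CohMop.QCohVan
import Groth.Agent.Lib.RelAmple18.Generation
import Groth.Agent.Lib.GrMod11.TwistEpi
import Groth.Agent.Lib.CohFound.Qcqs
import Groth.Agent.Lib.TensorMod.Dual
import Groth.Agent.Lib.TensorMod.QCohTensor
import Groth.Agent.Lib.ModM1.Coh
import Groth.Agent.Lib.KFlat.FinLocFree

set_option autoImplicit false
universe u
open Coherent

namespace Groth.Agent.S0824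

open CategoryTheory AlgebraicGeometry in
/-- Let X be a scheme with an ample invertible module L, and let L' be an inverse of L (L ⊗ L' ≅ O_X).
If there is n₀ such that H^p(X, L'^n) = 0 for all n ≥ n₀ and all p > 0, then X is affine. -/
theorem result (X : Scheme.{u}) (L L' : X.Modules)
    (hL : CohB1.IsAmple L) (hinv : Nonempty (CohB1.tensorMod L L' ≅ Coh.structureModule X)) (n₀ : ℕ)
    (h : ∀ n : ℕ, n₀ ≤ n → ∀ p : ℕ, 0 < p → Subsingleton (Coh.HH X (CohB1.tensorPow L' n) p)) :
    IsAffine X := by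
  obtain ⟨e⟩ := hinv
  haveI := hL.2.1
  haveI : QuasiSeparatedSpace X := Amp.quasiSeparatedSpace_of_isAmple hL
  have hL' : PicF.IsInvertible L' := M2.isInvertible_of_tensor_iso hL.1 (M2.tensorComm L' L ≪≫ e)
  have epow : ∀ m, Nonempty (CohB1.tensorMod (CohB1.tensorPow L m) (CohB1.tensorPow L' m) ≅ Coh.structureModule X) := by
    intro m
    induction m with
    | zero => exact ⟨M2.tensorLUnit _⟩
    | succ m ih =>
      obtain ⟨f⟩ := ih
      exact ⟨M2.tensorInterchange _ L _ L' ≪≫ M2.tensorIso f e ≪≫ M2.tensorLUnit _⟩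
  obtain ⟨d, hd⟩ := CohFound.exists_vanishing_bound_compact (X := X) (U := ⊤) isCompact_univ
  suffices key : ∀ (t : ℕ) (G : X.Modules), Coh.IsQCoh G → ∀ j : ℕ, 0 < j → d ≤ j + t → Subsingleton (Coh.HH X G j) from
    CohFound.isAffine_of_h1IdealVan (fun I i _ hI => (CohFound.subsingleton_HH_iff I 1).1 (key d I hI 1 one_pos (by omega)))
  intro t
  induction t with
  | zero =>
    intro G hG j _ hj
    rw [CohFound.subsingleton_HH_iff]
    exact hd G hG j hj
  | succ t ih =>
    intro G₀ hG₀ j hj0 hj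
    refine CohMop.subsingleton_HH_of_ft (⟨G₀, hG₀⟩ : QCohCat.QCoh X) j fun G hG hGf => ?_
    obtain ⟨m₁, hm₁⟩ := RA.exists_globallyGenerated hL G hG hGf
    let m := max m₁ n₀
    have hT : PicF.IsInvertible (CohB1.tensorPow L m) := M2.isInvertible_tensorPow hL.1 m
    have hD : PicF.IsInvertible (CohB1.tensorPow L' m) := M2.isInvertible_tensorPow hL' m
    have hTf : CohB1.IsFP (CohB1.tensorPow L m) := M1.isFP_of_isFinLocFree (M2.isFinLocFree_of_isInvertible hT)
    obtain ⟨f⟩ := epow m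
    obtain ⟨r, p, hp⟩ := GrMod11.exists_epi_freeMod (M2.isQCoh_tensor hG (M1.isFP_isQCoh hTf))
      (M2.isFT_tensor hG (M1.isFP_isQCoh hTf) hGf (M1.isFP_isFT hTf)) (hm₁ m (le_max_left _ _))
    haveI := CohFound.epi_tensorMap p (CohB1.tensorPow L' m)
    let e' : CohB1.tensorMod (CohB1.tensorMod G (CohB1.tensorPow L m)) (CohB1.tensorPow L' m) ≅ G :=
      M2.tensorAssoc G _ _ ≪≫ M2.tensorIso (Iso.refl G) f ≪≫ M2.tensorRUnit G
    let E := CohB1.tensorMod (FlatMod.freeMod X r) (CohB1.tensorPow L' m)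
    let q : E ⟶ G := M2.tensorMap p (𝟙 _) ≫ e'.hom
    haveI : Epi q := inferInstance
    have hEq : Coh.IsQCoh E := M1.isFP_isQCoh (M1.isFP_of_isFinLocFree
      (M2.isFinLocFree_tensor (KFlat.Sch.isFinLocFree_freeMod X r) (M2.isFinLocFree_of_isInvertible hD)))
    have hK := ih (Limits.kernel q) (M1.isQCoh_kernel hEq hG q) (j + 1) (by omega) (by omega)
    rw [CohFound.subsingleton_HH_iff] at hK ⊢
    have hE' : Subsingleton (CohFound.Hc ((CohFound.abF X).obj E) j ⊤) := by
      have h2 := (CohFound.subsingleton_HH_iff _ _).1 (h m (le_max_right _ _) j hj0)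
      refine CohFound.subsingleton_hc_of_iso ((Limits.PreservesCoproduct.iso (M2.tensorR (CohB1.tensorPow L' m)) _) ≪≫
        Limits.Sigma.mapIso (fun _ => M2.tensorLUnit _)).symm j ⊤ (CohFound.subsingleton_hc_sigma j ⊤ h2)
    let S := ShortComplex.mk (Limits.kernel.ι q) q (Limits.kernel.condition q)
    have hS : S.ShortExact := { exact := ShortComplex.exact_kernel q }
    refine subsingleton_of_forall_eq 0 fun x => ?_
    obtain ⟨y, hy⟩ := CohFound.exact₃ (CohFound.shortExact_abF hS) j ⊤ x (@Subsingleton.elim _ hK _ _)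
    rw [← hy, @Subsingleton.elim _ hE' y 0]
    exact map_zero _

end Groth.Agent.S0824
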