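import Groth.Statements.S0828
import Groth.Agent.S0605
import Groth.Agent.Lib.CurveCoh17.Bases
import Groth.Agent.Lib.FlatDepth.NormFlat
import Groth.Agent.Lib.RefHull26.Free
-- import your own Groth.Agent.* helpers here

set_option autoImplicit false
universe u
open Coherent

namespace Groth.Agent.S0828

open CategoryTheory AlgebraicGeometry
set_option linter.style.haveILetI false
set_option backward.isDefEq.respectTransparency.types false

set_option linter.style.haveILetI false
set_option backward.isDefEq.respectTransparency.types false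


open CategoryTheory AlgebraicGeometry in
/-- Let X be a regular scheme (locally Noetherian with regular local rings) and F a coherent O_X-module.
Then F has support all of X and Cohen–Macaulay stalks if and only if F is finite locally free of
positive rank near every point. -/
theorem result (X : Scheme.{u}) [IsLocallyNoetherian X]
    (hreg : ∀ x : X, IsRegularLocalRing (X.presheaf.stalk x)) (F : X.Modules) (hF : Coh.IsCoh F) :
    (CohB1.support F = Set.univ ∧
        ∀ x : X, LocCoh.IsCohenMacaulayModule (X.presheaf.stalk x) ↑(F.presheaf.stalk x)) ↔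
      ∀ x : X, ∃ (U : X.Opens) (n : ℕ), x ∈ U ∧ 0 < n ∧
        Nonempty (F.restrict U.ι ≅ FlatMod.freeMod (↑U) n) := by
  classical
  haveI hloc : ∀ x : X, IsDomain (X.presheaf.stalk x) := fun x => by
    haveI := hreg x
    exact RegLoc.isDomain (X.presheaf.stalk x)
  haveI hfin : ∀ x : X, Module.Finite (X.presheaf.stalk x) (F.presheaf.stalk x) :=
    fun x => M1.finite_stalk hF.1 (M1.isFP_isFT (M1.isFP_of_isCoh hF)) x
  have hrank : ∀ (x : X) (U : X.Opens) (n : ℕ), x ∈ U →
      Nonempty (F.restrict U.ι ≅ FlatMod.freeMod (U : Scheme.{u}) n) → (x ∈ CohB1.support F ↔ 0 < n) := by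
    intro x U n hxU ⟨e⟩
    obtain ⟨y, rfl⟩ : x ∈ Set.range U.ι := by rw [Scheme.Opens.range_ι]; exact hxU
    rw [← M1.subsingleton_stalk_restrict_iff]
    obtain ⟨f⟩ := CurveCoh17.nonempty_stalk_equiv
      (M2.isFinLocFreeOfRank_of_iso e.symm (M2.isFinLocFreeOfRank_freeMod _ n)) y
    show ¬ Subsingleton _ ↔ _
    rw [f.toEquiv.subsingleton_congr]
    refine ⟨fun h => Nat.pos_of_ne_zero (fun h0 => h (by subst h0; infer_instance)), fun h hs => ?_⟩
    exact one_ne_zero (congrFun (hs.elim (fun _ => (1 : (U : Scheme.{u}).presheaf.stalk y)) 0) ⟨0, h⟩)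
  constructor
  · rintro ⟨hsupp, hcm⟩ x
    have hfree : ∀ y : X, Module.Free (X.presheaf.stalk y) (F.presheaf.stalk y) := by
      intro y
      haveI := hreg y
      refine S0605.result (X.presheaf.stalk y) (F.presheaf.stalk y) ?_
      rw [← hcm y, Module.supportDim_eq_ringKrullDim_quotient_annihilator]
      suffices hann : Module.annihilator (X.presheaf.stalk y) (F.presheaf.stalk y) = ⊥ by
        rw [hann]
        exact ringKrullDim_eq_of_ringEquiv (RingEquiv.quotientBot _)
      refine (Submodule.eq_bot_iff _).2 fun r hr => ?_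
      by_contra hr0
      obtain ⟨W, hW, hyW, -⟩ := exists_isAffineOpen_mem_and_subset (x := y) (U := ⊤) trivial
      let := TopCat.Presheaf.algebra_section_stalk X.presheaf (⟨y, hyW⟩ : W)
      haveI := hW.isLocalization_stalk ⟨y, hyW⟩
      obtain ⟨r₀, s, rfl⟩ := IsLocalization.exists_mk'_eq (hW.primeIdealOf ⟨y, hyW⟩).asIdeal.primeCompl r
      haveI := hF.1
      haveI : Module.Finite Γ(X, W) Γ(F, W) := M1.finite_sections hF.1 hF.2 hW
      obtain ⟨T, hT⟩ := (Module.Finite.fg_top : (⊤ : Submodule Γ(X, W) Γ(F, W)).FG)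
      have hkill : ∀ t : Γ(F, W), ∃ g : Γ(X, W), IsUnit (X.presheaf.germ W y hyW g) ∧ g • r₀ • t = 0 := by
        intro t
        refine M1.exists_smul_eq_zero_of_germ_eq_zero F hW hyW _ ?_
        have h1 := Module.mem_annihilator.1 hr (F.presheaf.germ W y hyW t)
        have h2 : X.presheaf.germ W y hyW r₀ • F.presheaf.germ W y hyW t = 0 := by
          rw [show X.presheaf.germ W y hyW r₀ = algebraMap Γ(X, W) (X.presheaf.stalk y) r₀ from rfl,
            ← IsLocalization.mk'_spec (X.presheaf.stalk y) r₀ s, mul_comm, mul_smul, h1, smul_zero]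
        rw [M1.germ_smul]
        exact h2
      choose g hgu hg using hkill
      have hne : X.presheaf.germ W y hyW (r₀ * ∏ t ∈ T, g t) ≠ 0 := by
        rw [map_mul, map_prod]
        refine mul_ne_zero (fun h0 => hr0 ?_) (Finset.prod_ne_zero_iff.2 fun t _ => (hgu t).ne_zero)
        rw [IsLocalization.mk'_eq_mul_mk'_one, show algebraMap Γ(X, W) (X.presheaf.stalk y) r₀ = 0 from h0, zero_mul]
      set R := r₀ * ∏ t ∈ T, g t with hR
      have hRkill : ∀ t : Γ(F, W), R • t = 0 := by
        intro t
        have ht : t ∈ Submodule.span Γ(X, W) (T : Set Γ(F, W)) := hT ▸ Submodule.mem_top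
        induction ht using Submodule.span_induction with
        | mem t ht =>
          rw [hR, ← Finset.prod_erase_mul T g ht, ← mul_assoc, mul_comm r₀, mul_assoc, mul_smul,
            mul_comm r₀, mul_smul, hg, smul_zero]
        | zero => rw [smul_zero]
        | add a b _ _ ha hb => rw [smul_add, ha, hb, add_zero]
        | smul c a _ ha => rw [smul_comm, ha, smul_zero]
      obtain ⟨z, hz⟩ : ∃ z, z ∈ X.basicOpen R := by
        by_contra hn
        push Not at hn
        haveI : IsReduced X := @isReduced_of_isReduced_stalk X fun z => inferInstance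
        exact hne (by rw [(basicOpen_eq_bot_iff R).1 (eq_bot_iff.2 fun z hz => absurd hz (hn z)), map_zero])
      have hzW : z ∈ W := X.basicOpen_le R hz
      have hu : IsUnit (X.presheaf.germ W z hzW R) := (X.mem_basicOpen R z hzW).1 hz
      have hzs : z ∈ CohB1.support F := hsupp ▸ Set.mem_univ z
      refine hzs ⟨fun a b => ?_⟩
      suffices h : ∀ a : F.presheaf.stalk z, a = 0 by rw [h a, h b]
      intro a
      obtain ⟨q, m₀, hq, hm⟩ := M1.exists_germ_smul_eq F hW hzW a
      refine (hu.mul hq).smul_eq_zero.1 ?_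
      rw [mul_smul, hm, ← M1.germ_smul, hRkill, map_zero]
    haveI := hfree x
    obtain ⟨U, n, hxU, he⟩ := M1.exists_freeMod_of_free_stalk (M1.isFP_of_isCoh hF) x
    exact ⟨U, n, hxU, (hrank x U n hxU he).1 (hsupp ▸ Set.mem_univ x), he⟩
  · intro h
    have hsupp : CohB1.support F = Set.univ := Set.eq_univ_of_forall fun x => by
      obtain ⟨U, n, hxU, hn, he⟩ := h x
      exact (hrank x U n hxU he).2 hn
    refine ⟨hsupp, fun x => ?_⟩
    haveI := hreg x
    have hfl : FlatMod.IsFinLocFree F := fun y => by
      obtain ⟨U, n, hyU, -, he⟩ := h y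
      exact ⟨U, n, hyU, he⟩
    haveI := ((M1.isFinLocFree_iff F).1 hfl).2 x
    haveI : Nontrivial (F.presheaf.stalk x) :=
      not_subsingleton_iff_nontrivial.1 (hsupp ▸ Set.mem_univ x : x ∈ CohB1.support F)
    let b := (Module.Free.chooseBasis (X.presheaf.stalk x) (F.presheaf.stalk x)).reindex (Fintype.equivFin _)
    obtain ⟨r, hr⟩ : ∃ r, Fintype.card (Module.Free.ChooseBasisIndex (X.presheaf.stalk x) (F.presheaf.stalk x)) = r + 1 :=
      ⟨_, (Nat.succ_pred (Fintype.card_pos_iff.2 (Module.Free.chooseBasis _ _).index_nonempty).ne').symm⟩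
    let e := b.equivFun.trans (LinearEquiv.funCongrLeft _ _ (finCongr hr.symm))
    have hann : Module.annihilator (X.presheaf.stalk x) (F.presheaf.stalk x) = ⊥ :=
      (Submodule.eq_bot_iff _).2 fun c hc => by
        have := congrFun ((map_smul e c (e.symm fun _ => 1)).symm.trans
          (by rw [Module.mem_annihilator.1 hc, map_zero])) 0
        simpa using this
    show Module.supportDim _ _ = _
    rw [Module.supportDim_eq_ringKrullDim_quotient_annihilator, hann,
      show LocCoh.depth (X.presheaf.stalk x) (F.presheaf.stalk x) = LocCoh.depth (X.presheaf.stalk x) (X.presheaf.stalk x) from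
        (DepthLib.idealDepth_congr e).trans (FlatDepth.depth_pi_succ (X.presheaf.stalk x) r),
      ← (DepthLib.isCohenMacaulayLocalRing_of_isRegularLocalRing (R := X.presheaf.stalk x)).supportDim_eq_depth,
      Module.supportDim_self_eq_ringKrullDim]
    exact ringKrullDim_eq_of_ringEquiv (RingEquiv.quotientBot _)

end Groth.Agent.S0828
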