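import Groth.Statements.S0835
import Groth.Agent.Lib.FormalH7.ModPow

set_option autoImplicit false
universe u
open Formal2

namespace Groth.Agent.S0835

open CategoryTheory AlgebraicGeometry in
/-- First assertion, for ideal sheaves generated by an ideal I of a base ring A. Let f : X → Y be a
morphism of Noetherian schemes over Spec A and (G_n) a coherent formal module for I on Y. Then the
componentwise pullback (f^* G_n) is a coherent formal module for I on X. (Exactness properties of
this functor are not stated.) -/
theorem result (A : Type u) [CommRing A] (I : Ideal A) (X Y : Scheme.{u})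
    [X.Over (Spec (CommRingCat.of A))] [Y.Over (Spec (CommRingCat.of A))] [IsNoetherian X] [IsNoetherian Y]
    (f : X ⟶ Y) (hf : f ≫ (Y ↘ Spec (CommRingCat.of A)) = X ↘ Spec (CommRingCat.of A))
    (G : ℕᵒᵖ ⥤ Y.Modules) (hG : Formal.IsCohFormal I G) :
    Formal.IsCohFormal I (G ⋙ Scheme.Modules.pullback f) := by
  refine ⟨fun n => Groth.Agent.M1.isCoh_pullback f (hG.1 n), fun n => Groth.Agent.FormalH7.killedBy_pullback f hf (hG.2.1 n), fun n => ?_⟩
  obtain ⟨h, hi⟩ := hG.2.2 n
  exact Groth.Agent.FormalH7.isQuot_pullback f hf _ h hi

end Groth.Agent.S0835
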