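import Groth.Statements.S0846
import Groth.Agent.Lib.ProjVan10.Periodic
import Groth.Agent.Lib.CohFound.ProjQuot
import Groth.Agent.Lib.RelAmple18.Generation
-- import your own Groth.Agent.* helpers here

set_option autoImplicit false
universe u
open Coherent

namespace Groth.Agent.S0846

open Groth.Agent
set_option linter.style.haveILetI false

open CategoryTheory CategoryTheory.Limits AlgebraicGeometry in
/-- Let A be a Noetherian graded ring (graded by ℕ as an R-algebra) and X = Proj A. Then every coherent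
O_X-module is a quotient of a finite coproduct of twisting modules O_X(d_1), …, O_X(d_r). -/
theorem result {R A : Type u} [CommRing R] [CommRing A] [Algebra R A]
    (𝒜 : ℕ → Submodule R A) [GradedAlgebra 𝒜] [IsNoetherianRing A] (F : (Proj 𝒜).Modules) (hF : Coh.IsCoh F) :
    ∃ (r : ℕ) (d : Fin r → ℤ) (φ : (∐ fun j : Fin r => Twist.twist 𝒜 (d j)) ⟶ F), Epi φ := by
  classical
  obtain ⟨D, E, f, hD, hf, hcov⟩ := ProjVan10.exists_period 𝒜
  haveI : Algebra.FiniteType (𝒜 0) A := (EGA2.irrelevant_fg_iff 𝒜).1 (IsNoetherian.noetherian _)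
  haveI : IsLocallyNoetherian (Proj 𝒜) := LocallyOfFiniteType.isLocallyNoetherian (Proj.toSpecZero 𝒜)
  have hamp := ProjVan10.isAmple_period 𝒜 f hf hcov hD
  haveI : CompactSpace (Proj 𝒜) := hamp.2.1
  obtain ⟨n₀, hn₀⟩ := RA.exists_globallyGenerated hamp F hF.1 hF.2
  let m := n₀
  obtain ⟨ep⟩ := ProjVan10.nonempty_tensorPow_period 𝒜 f hf hcov m
  let P := CohB1.tensorPow (Twist.twist 𝒜 (D : ℤ)) m
  let d : ℤ := -((m * D : ℕ) : ℤ)
  let T := Twist.twist 𝒜 d
  obtain ⟨t⟩ := ProjVan10.nonempty_tensor_period 𝒜 f hf hcov m d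
  obtain ⟨z⟩ := Groth.Agent.Twist.nonempty_twist_zero_iso 𝒜
  let u : CohB1.tensorMod P T ≅ Coh.structureModule (Proj 𝒜) :=
    M2.tensorIso ep (Iso.refl T) ≪≫ t ≪≫
      eqToIso (congrArg (Twist.twist 𝒜) (add_neg_cancel ((m * D : ℕ) : ℤ))) ≪≫ z
  let back : CohB1.tensorMod (CohB1.tensorMod F P) T ≅ F :=
    M2.tensorAssoc F P T ≪≫ M2.tensorIso (Iso.refl F) u ≪≫ M2.tensorRUnit F
  have hFP : Coh.IsCoh (CohB1.tensorMod F P) :=
    CohFound.isCoh_tensor hF (CohFound.isCoh_of_iso ep.symm (ProjVan10.isCoh_twist 𝒜 _))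
  obtain ⟨k, p, hp⟩ := CohFound.exists_epi_freeMod hFP (hn₀ m le_rfl)
  have : Epi p := hp
  have := CohFound.epi_tensorMap p T
  exact ⟨k, fun _ => d, (M2.freeModTensorIso _ k T).inv ≫ M2.tensorMap p (𝟙 T) ≫ back.hom, inferInstance⟩

end Groth.Agent.S0846
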