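import Groth.Statements.S0847
import Groth.Agent.Lib.ProjVan10.Periodic
import Groth.Agent.Lib.CohFound.AmpleVan
import Groth.Agent.Lib.CohFound.ProjQuot
-- import your own Groth.Agent.* helpers here

set_option autoImplicit false
universe u
open Coherent

namespace Groth.Agent.S0847

open Groth.Agent

open CategoryTheory AlgebraicGeometry in
/-- Let A be a Noetherian graded ring (graded by ℕ as an R-algebra), X = Proj A, F a coherent O_X-module
and p > 0. Then the twists F(d) = F ⊗ O_X(d) have vanishing H^p for every sufficiently large d. -/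
theorem result {R A : Type u} [CommRing R] [CommRing A] [Algebra R A]
    (𝒜 : ℕ → Submodule R A) [GradedAlgebra 𝒜] [IsNoetherianRing A] (F : (Proj 𝒜).Modules) (hF : Coh.IsCoh F)
    (p : ℕ) (hp : 0 < p) :
    ∃ d₀ : ℤ, ∀ d : ℤ, d₀ ≤ d → Subsingleton (Coh.HH (Proj 𝒜) (Twist.twistBy 𝒜 F d) p) := by
  classical
  obtain ⟨D, E, f, hD, hf, hcov⟩ := ProjVan10.exists_period 𝒜
  haveI : Algebra.FiniteType (𝒜 0) A := (EGA2.irrelevant_fg_iff 𝒜).1 (IsNoetherian.noetherian _)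
  have hL := ProjVan10.isAmple_period 𝒜 f hf hcov hD
  obtain ⟨c, hc, hvan⟩ := CohFound.exists_vanishing_of_isAmple (R := 𝒜 0) (Proj.toSpecZero 𝒜) hL
  have hcoh : ∀ r : Fin (c * D), Coh.IsCoh (CohB1.tensorMod F (Twist.twist 𝒜 (r.1 : ℤ))) := fun r =>
    CohFound.isCoh_tensor hF (ProjVan10.isCoh_twist 𝒜 _)
  choose k₀ hk₀ using fun r => hvan _ (hcoh r)
  let K : ℕ := Finset.univ.sup k₀
  refine ⟨((c * D * (K + 1) : ℕ) : ℤ), fun d hd => ?_⟩
  obtain ⟨n, rfl⟩ : ∃ n : ℕ, d = n := ⟨d.toNat, by omega⟩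
  have hn : c * D * (K + 1) ≤ n := by exact_mod_cast hd
  have hP : 0 < c * D := Nat.mul_pos hc hD
  let r : Fin (c * D) := ⟨n % (c * D), Nat.mod_lt _ hP⟩
  let k := n / (c * D)
  have hK : K + 1 ≤ k := (Nat.le_div_iff_mul_le hP).2 (by rw [mul_comm]; exact hn)
  have hk : k₀ r ≤ k := (Finset.le_sup (Finset.mem_univ r)).trans (by omega)
  have hsum : ((c * k * D : ℕ) : ℤ) + (r.1 : ℤ) = (n : ℤ) := by
    have h := Nat.div_add_mod n (c * D)
    have h' : c * k * D + r.1 = n := by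
      rw [show c * k * D = c * D * k from by ring]
      exact h
    exact_mod_cast h'
  obtain ⟨t⟩ := ProjVan10.nonempty_tensor_period 𝒜 f hf hcov (c * k) (r.1 : ℤ)
  obtain ⟨q⟩ := ProjVan10.nonempty_tensorPow_period 𝒜 f hf hcov (c * k)
  let e : Twist.twistBy 𝒜 F (n : ℤ) ≅
      CohB1.tensorMod (CohB1.tensorMod F (Twist.twist 𝒜 (r.1 : ℤ)))
        (CohB1.tensorPow (Twist.twist 𝒜 (D : ℤ)) (c * k)) :=
    M2.tensorIso (Iso.refl F) (eqToIso (congrArg (Twist.twist 𝒜) hsum.symm) ≪≫ t.symm ≪≫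
      M2.tensorComm _ _ ≪≫ M2.tensorIso (Iso.refl _) q.symm) ≪≫ (M2.tensorAssoc F _ _).symm
  have h := hk₀ r k hk p hp
  exact @Equiv.subsingleton _ _ (CohFound.hhExt (Twist.twistBy 𝒜 F (n : ℤ)) p).toEquiv
    (CohFound.subsingleton_hc_of_iso e.symm p ⊤ h)

end Groth.Agent.S0847
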