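import Groth.Statements.S0851
import Groth.Agent.Lib.FormalExtH7.Right

set_option autoImplicit false
universe u
open Formal2

namespace Groth.Agent.S0851

open CategoryTheory CategoryTheory.Limits AlgebraicGeometry Opposite in
/-- Part (2), existence, for the ideal sheaf I·O_X of an ideal I of a base ring A (position n of a
system holds the quotient by I^(n+1)). Let X be a Noetherian scheme over Spec A, G a coherent
O_X-module and (F_n) a coherent formal module for I. Suppose α : (G/I^nG) → (F_n) is a map of
systems such that one fixed power of I kills the kernel and the cokernel of every component. Then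
there are a coherent O_X-module F, a map a : G → F with I-power-torsion kernel and cokernel, and an
isomorphism β : (F/I^nF) ≅ (F_n) under which α becomes the map induced by a. -/
theorem result (A : Type u) [CommRing A] (I : Ideal A) (X : Scheme.{u})
    [X.Over (Spec (CommRingCat.of A))] [IsNoetherian X] (G : X.Modules) (hG : Coh.IsCoh G)
    (F : ℕᵒᵖ ⥤ X.Modules) (hF : Formal.IsCohFormal I F) (α : Formal.completion I G ⟶ F)
    (hα : Formal2.KerCokerKilledByIPow I α) :
    ∃ (F' : X.Modules) (a : G ⟶ F') (β : Formal.completion I F' ≅ F), Coh.IsCoh F' ∧
      Formal2.KerCokerKilledByIPowHom I a ∧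
      ∀ n : ℕ, Formal.modPowπ I (n + 1) G ≫ α.app (op n) = a ≫ Formal.modPowπ I (n + 1) F' ≫ β.hom.app (op n) := by
  exact Groth.Agent.FormalExtH7.existence_right hG (Groth.Agent.GExistH7.isSys_of_isCohFormal hF) α hα

end Groth.Agent.S0851
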