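import Groth.Statements.S0854
import Groth.Agent.Lib.CohFound.AugRes
import Groth.Agent.Lib.CohFound.RpushHc

set_option autoImplicit false
universe u
open CategoryTheory
open CohTop

namespace Groth.Agent.S0854

open CategoryTheory CategoryTheory.Limits TopologicalSpace Opposite Groth.Agent.CohFound in
/-- Higher direct images commute with restriction to an open subspace of the base. -/
theorem rpush_resEmb_iso {X Y X' Y' : TopCat.{u}} (f : X ⟶ Y) (g : X' ⟶ Y') {i : X' ⟶ X} {j : Y' ⟶ Y}
    (hi : Topology.IsOpenEmbedding i) (hj : Topology.IsOpenEmbedding j)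
    (e : ∀ W, hi.isOpenMap.functor.obj ((Opens.map g).obj W) =
      (Opens.map f).obj (hj.isOpenMap.functor.obj W)) (F : CohTop.Ab X) (p : ℕ) :
    Nonempty ((resEmb hj).obj ((CohTop.Rpush f p).obj F) ≅
      (CohTop.Rpush g p).obj ((resEmb hi).obj F)) := by
  let I := injectiveResolution F
  have hR : (augOfInj I).IsFlasqueRes := fun n =>
    have : Injective ((augOfInj I).K.X n) := I.injective n
    isFlasque_of_injective _
  obtain ⟨e₁⟩ := AugCx.nonempty_homology_push_iso (R := (augOfInj I).restr hi) (f := g)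
    (fun W => (AugCx.isFlasqueRes_restr hi hR).acyclicOn _) p
  obtain ⟨e₂⟩ := nonempty_rpush_iso_shPre g ((resEmb hi).obj F) p
  haveI : (resEmb hj).PreservesHomology :=
    ((resEmb hj).exact_tfae.out 1 2).1 fun S hS => exact_resEmb hj hS
  let K := ((CohTop.push f).mapHomologicalComplex (ComplexShape.up ℕ)).obj I.cocomplex
  let K' := ((CohTop.push g).mapHomologicalComplex (ComplexShape.up ℕ)).obj ((augOfInj I).restr hi).K
  let φ : (K.sc p).map (resEmb hj) ≅ K'.sc p :=
    ShortComplex.isoMk (AugCx.pushResIso hi hj e _) (AugCx.pushResIso hi hj e _) (AugCx.pushResIso hi hj e _)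
      (AugCx.pushResIso_natural hi hj e _) (AugCx.pushResIso_natural hi hj e _)
  exact ⟨(resEmb hj).mapIso (I.isoRightDerivedObj (CohTop.push f) p) ≪≫
    ((K.sc p).mapHomologyIso (resEmb hj)).symm ≪≫ ShortComplex.homologyMapIso φ ≪≫ e₁ ≪≫ e₂.symm⟩

open TopologicalSpace in
/-- For abelian sheaves, one degree at a time: for a continuous map f : X -> Y, an abelian sheaf F on X,
an open V of Y and g : f^{-1}(V) -> V the restriction of f, the restriction of R^p f_* F to V is
isomorphic to R^p g_* (F|_{f^{-1} V}). -/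
theorem result {X Y : TopCat.{u}} (f : X ⟶ Y) (F : CohTop.Ab X)
    (V : Opens Y) (p : ℕ) :
    Nonempty (CohTop.restr ((CohTop.Rpush f p).obj F) V ≅
      (CohTop.Rpush (TopCat.ofHom ⟨(V : Set Y).restrictPreimage f, f.hom.continuous.restrictPreimage⟩ :
          TopCat.of ((Opens.map f).obj V) ⟶ TopCat.of V) p).obj
        (CohTop.restr F ((Opens.map f).obj V))) := by
  open Groth.Agent.CohFound CategoryTheory CategoryTheory.Limits Opposite in
  exact (by
    let g : TopCat.of ((Opens.map f).obj V) ⟶ TopCat.of V :=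
      TopCat.ofHom ⟨(V : Set Y).restrictPreimage f, f.hom.continuous.restrictPreimage⟩
    have hi : Topology.IsOpenEmbedding
        (TopCat.ofHom ⟨_, continuous_subtype_val⟩ : TopCat.of ((Opens.map f).obj V) ⟶ X) :=
      ((Opens.map f).obj V).isOpenEmbedding
    have hj : Topology.IsOpenEmbedding
        (TopCat.ofHom ⟨_, continuous_subtype_val⟩ : TopCat.of V ⟶ Y) := V.isOpenEmbedding
    have e : ∀ W : Opens (TopCat.of V), hi.isOpenMap.functor.obj ((Opens.map g).obj W) =
        (Opens.map f).obj (hj.isOpenMap.functor.obj W) := by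
      intro W
      apply Opens.ext
      apply Set.ext
      intro x
      constructor
      · rintro ⟨⟨x', hx'⟩, hW, rfl⟩
        exact ⟨⟨f x', hx'⟩, hW, rfl⟩
      · rintro ⟨⟨y, hy⟩, hW, e⟩
        change y = f x at e
        subst e
        exact ⟨⟨x, hy⟩, hW, rfl⟩
    exact rpush_resEmb_iso f g hi hj e F p)

end Groth.Agent.S0854
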