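import Groth.Statements.S0856
import Mathlib.Algebra.Category.ModuleCat.Presheaf.Free
import Mathlib.Algebra.Category.ModuleCat.Presheaf.Sheafification
import Mathlib.Algebra.Category.ModuleCat.Presheaf.EpiMono
import Mathlib.Algebra.Category.ModuleCat.Sheaf.Abelian

set_option autoImplicit false
universe u
open CategoryTheory
open CohSite

namespace Groth.Agent.S0856
set_option linter.style.haveILetI false
set_option backward.isDefEq.respectTransparency false
set_option backward.isDefEq.respectTransparency.types false


open Opposite in
/-- Let (C, O) be a ringed site, a : U' -> U a monomorphism of C and I an injective sheaf of O-modules.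
Then the restriction map I(U) -> I(U') is surjective. -/
theorem result {C : Type u} [SmallCategory C]
    {J : GrothendieckTopology C} (O : Sheaf J RingCat.{u}) (I : SheafOfModules.{u} O) [Injective I]
    {U U' : C} (a : U' ⟶ U) [Mono a] : Function.Surjective (I.val.map a.op) := by
  let adj := (PresheafOfModules.freeAdjunction O.obj).comp
    (PresheafOfModules.sheafificationAdjunction (R := O) (𝟙 O.obj))
  haveI : Mono ((PresheafOfModules.free O.obj).map (yoneda.map a)) := by
    apply PresheafOfModules.mono_of_injective
    intro X
    exact Finsupp.mapDomain_injective (fun f g h => (cancel_mono a).1 h)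
  haveI : Mono ((PresheafOfModules.free O.obj ⋙ PresheafOfModules.sheafification (R := O) (𝟙 O.obj)).map (yoneda.map a)) :=
    Functor.map_mono (PresheafOfModules.sheafification (R := O) (𝟙 O.obj)) _
  intro s
  obtain ⟨ψ, hψ⟩ : ∃ ψ, (PresheafOfModules.free O.obj ⋙ PresheafOfModules.sheafification (R := O) (𝟙 O.obj)).map (yoneda.map a) ≫ ψ =
      (adj.homEquiv (yoneda.obj U') I).symm (yonedaEquiv.symm s) :=
    ⟨Injective.factorThru _ _, Injective.comp_factorThru _ _⟩
  have e := congrArg (adj.homEquiv (yoneda.obj U') I) hψ
  rw [adj.homEquiv_naturality_left, Equiv.apply_symm_apply] at e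
  refine ⟨yonedaEquiv (adj.homEquiv _ _ ψ), ?_⟩
  have e1 := congrArg yonedaEquiv e
  rw [← yonedaEquiv_naturality, Equiv.apply_symm_apply] at e1
  exact e1

end Groth.Agent.S0856
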