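import Groth.Statements.S0857
import Groth.Agent.Lib.SiteCoh.Acyclic

set_option autoImplicit false
universe u
open CategoryTheory
open CohSite

namespace Groth.Agent.S0857
set_option linter.style.haveILetI false
set_option backward.isDefEq.respectTransparency false
set_option backward.isDefEq.respectTransparency.types false


open Opposite CategoryTheory.Limits in
/-- For a family of abelian sheaves F_i on a site and an object U, the map H^1(U, ∏ F_i) -> ∏ H^1(U,
F_i) induced by the projections is injective. (The degree-zero part of the published statement, that
sections of a product are the product of sections, is not restated.) -/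
theorem result {C : Type u} [SmallCategory C] {J : GrothendieckTopology C}
    {I : Type u} (F : I → Sheaf J AddCommGrpCat.{u}) (U : C) :
    Function.Injective (fun (x : CohSite.HU (∏ᶜ F) 1 U) (i : I) =>
      (((Sheaf.cohomologyPresheafFunctor J 1).map (Pi.π F i)).app (op U)).hom x) := by
  intro x y h
  refine sub_eq_zero.1 (Groth.Agent.SiteCoh.ext_one_pi_eq_zero _ F _ fun t => ?_)
  have e := congrFun h t
  show (Sheaf.cohomologyPresheafFunctor J 1 |>.map (Pi.π F t) |>.app (op U)).hom (x - y) = 0
  rw [map_sub]
  exact sub_eq_zero.2 e

end Groth.Agent.S0857
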