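import Groth.Statements.S0859
import Groth.Agent.Lib.SiteCoh.CechFamily

set_option autoImplicit false
universe u
open CategoryTheory
open CohSite

namespace Groth.Agent.S0859
set_option linter.style.haveILetI false
set_option backward.isDefEq.respectTransparency false
set_option backward.isDefEq.respectTransparency.types false


open Opposite CategoryTheory.Limits in
/-- Consider abelian sheaves F ⊂ G with quotient H on a site with fibre products, and an object U. If
every covering sieve of U can be refined by a covering family with respect to which the first Cech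
cohomology group of F vanishes, then G(U) -> H(U) is surjective. -/
theorem result {C : Type u} [SmallCategory C] [HasPullbacks C]
    {J : GrothendieckTopology C} (S : ShortComplex (Sheaf J AddCommGrpCat.{u})) (hS : S.ShortExact)
    (U : C)
    (h : ∀ T ∈ J U, ∃ (ι : Type u) (Y : ι → Over U), (∀ i, T.arrows (Y i).hom) ∧
      Sieve.ofArrows (fun i => (Y i).left) (fun i => (Y i).hom) ∈ J U ∧
      IsZero (CohCx.cechH S.X₁.obj Y 1)) :
    Function.Surjective (S.g.hom.app (op U)) := by
  refine Groth.Agent.SiteCoh.surjective_of_cech hS fun T hT => ?_
  obtain ⟨ι, Y, hY₁, hY₂, hY₃⟩ := h T hT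
  exact ⟨ι, Y, hY₁, hY₂, (Groth.Agent.SiteCoh.isZero_cechH_iff Y S.X₁ 0).1 hY₃⟩

end Groth.Agent.S0859
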