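import Groth.Statements.S0868
import Groth.Agent.S0877

set_option autoImplicit false
universe u
open CategoryTheory
open CohTop

namespace Groth.Agent.S0868
set_option linter.style.haveILetI false
set_option backward.isDefEq.respectTransparency false
set_option backward.isDefEq.respectTransparency.types false
open TopologicalSpace in


open TopologicalSpace Opposite in
/-- Let K be an object of the derived category of abelian sheaves on X and B a basis of opens such that
H^p(U, H^q(K)) = 0 for all p > 0, all q and all U in B. Then for U in B and every q, H^q(U, K) (maps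
from the free abelian sheaf on U to K[q]) is isomorphic to the sections of the cohomology sheaf
H^q(K) over U. -/
theorem result {X : TopCat.{u}}
    [HasDerivedCategory.{u} (CohTop.Ab X)] (K : DerivedCategory (CohTop.Ab X))
    (B : Set (Opens X)) (hB : Opens.IsBasis B)
    (h : ∀ U ∈ B, ∀ (p : ℕ) (q : ℤ), Subsingleton (CohTop.HU (CohCx.HD K q) (p + 1) U))
    (U : Opens X) (hU : U ∈ B) (q : ℤ) :
    Nonempty (CohCx.HDU K q U ≃+ (CohCx.HD K q).obj.obj (op U)) := by
  refine Groth.Agent.S0877.result (J := Opens.grothendieckTopology (X : Type u)) K B (fun V => ?_) h U hU q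
  choose W hW hxW hWV using fun x : {x : X // x ∈ V} => Opens.isBasis_iff_nbhd.1 hB x.2
  exact ⟨{x : X // x ∈ V}, W, fun x => homOfLE (hWV x),
    fun x hx => ⟨W ⟨x, hx⟩, homOfLE (hWV ⟨x, hx⟩), Sieve.ofArrows_mk W (fun x => homOfLE (hWV x)) ⟨x, hx⟩, hxW ⟨x, hx⟩⟩, hW⟩

end Groth.Agent.S0868
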