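import Groth.Statements.S0878
import Groth.Agent.Lib.SiteRlim16.AbClasses

set_option autoImplicit false
universe u
open CategoryTheory
open CohSite

namespace Groth.Agent.S0878
set_option linter.style.haveILetI false
set_option backward.isDefEq.respectTransparency false
set_option backward.isDefEq.respectTransparency.types false
open Opposite CategoryTheory.Limits Groth.Agent.SiteRlim in
theorem exists_sub_of_sections {C : Type u} [SmallCategory C]
    {J : GrothendieckTopology C} [HasDerivedCategory.{u} (Sheaf J AddCommGrpCat.{u})]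
    {K : ℕ → DerivedCategory (Sheaf J AddCommGrpCat.{u})} {t : ∀ n, K (n + 1) ⟶ K n} {U : C} {m : ℤ}
    (hb : ∀ n, Function.Bijective
      (θ : ((DerivedCategory.singleFunctor (Sheaf J AddCommGrpCat.{u}) m).obj ((genAb J).obj U) ⟶ K n) → _))
    (h : CohCx.LimOneIsZero (fun n => (CohCx.HD (K n) m).obj.obj (op U))
      (fun n => (((DerivedCategory.homologyFunctor _ m).map (t n)).hom.app (op U)).hom))
    (w : ∀ n, (DerivedCategory.singleFunctor (Sheaf J AddCommGrpCat.{u}) m).obj ((genAb J).obj U) ⟶ K n) :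
    ∃ x : ∀ n, (DerivedCategory.singleFunctor (Sheaf J AddCommGrpCat.{u}) m).obj ((genAb J).obj U) ⟶ K n,
      ∀ n, x n - x (n + 1) ≫ t n = w n := by
  obtain ⟨b, hb'⟩ := h fun n => SiteCoh.secEquiv U _ (θ (w n))
  choose x hx using fun n => (hb n).2 ((SiteCoh.secEquiv U _).symm (b n))
  refine ⟨x, fun n => (hb n).1 ((SiteCoh.secEquiv U _).injective ?_)⟩
  have hn : ∀ n, SiteCoh.secEquiv U _ (θ (x n)) = b n := fun n => by rw [hx, Equiv.apply_symm_apply]
  refine Eq.trans ?_ (congrFun hb' n)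
  let e := AddMonoidHom.mk' (SiteCoh.secEquiv U (CohCx.HD (K n) m)) (secEquiv_add U _)
  rw [θ_sub]
  refine (e.map_sub _ _).trans (congrArg₂ (· - ·) (hn n) ?_)
  change SiteCoh.secEquiv U _ (θ (x (n + 1) ≫ t n)) = _
  rw [θ_comp, SiteCoh.secEquiv_comp, hn]



open Opposite CategoryTheory.Limits in
/-- Let (K_n) be an inverse system in the derived category of abelian sheaves on a site with a derived
limit L, and B a class of objects such that every object is covered by members of B and, for U in B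
and all q, H^p(U, H^q(K_n)) = 0 for p > 0 and the system of sections H^q(K_n)(U) has vanishing R^1
lim. Then H^q(L) is isomorphic to lim_n H^q(K_n) for every q. -/
theorem result {C : Type u} [SmallCategory C]
    {J : GrothendieckTopology C} [HasDerivedCategory.{u} (Sheaf J AddCommGrpCat.{u})]
    (K : ℕ → DerivedCategory (Sheaf J AddCommGrpCat.{u})) (t : ∀ n, K (n + 1) ⟶ K n) [HasProduct K]
    (L : DerivedCategory (Sheaf J AddCommGrpCat.{u})) (hL : DCoh.IsRlim K t L) (B : Set C)
    (hB : ∀ U : C, ∃ (ι : Type u) (Y : ι → C) (f : ∀ i, Y i ⟶ U), Sieve.ofArrows Y f ∈ J U ∧ ∀ i, Y i ∈ B)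
    (h1 : ∀ U ∈ B, ∀ (p : ℕ) (q : ℤ) (n : ℕ), Subsingleton (CohSite.HU (CohCx.HD (K n) q) (p + 1) U))
    (h2 : ∀ U ∈ B, ∀ (q : ℤ), CohCx.LimOneIsZero (fun n => (CohCx.HD (K n) q).obj.obj (op U))
      (fun n => (((DerivedCategory.homologyFunctor _ q).map (t n)).hom.app (op U)).hom))
    (q : ℤ) :
    Nonempty (CohCx.HD L q ≅ limit (CohCx.opSequence (fun n => CohCx.HD (K n) q)
      (fun n => (DerivedCategory.homologyFunctor _ q).map (t n)))) := by
  obtain ⟨a₀, c, hL⟩ := hL
  let a : ∀ n, L ⟶ K n := fun n => a₀ ≫ Pi.π K n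
  have ha : Pi.lift a = a₀ := Pi.hom_ext _ _ fun n => by simp [a]
  have hVia : CohCx.IsRlimVia K t L a := ⟨c, by rw [ha]; exact hL⟩
  have hb : ∀ (n : ℕ) (U : C), U ∈ B → ∀ m : ℤ, Function.Bijective
      (Groth.Agent.SiteRlim.θ : ((DerivedCategory.singleFunctor (Sheaf J AddCommGrpCat.{u}) m).obj
        ((Groth.Agent.SiteRlim.genAb J).obj U) ⟶ K n) → _) := fun n U hU m =>
    Groth.Agent.SiteRlim.bijective_θ_of_acyclic (K n) B hB (fun U hU p q => h1 U hU p q n) U hU m
  let D := CohCx.opSequence (fun n => CohCx.HD (K n) q) (fun n => (DerivedCategory.homologyFunctor _ q).map (t n))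
  let φ : CohCx.HD L q ⟶ limit D := limit.lift D (Cone.mk (CohCx.HD L q)
    (NatTrans.ofOpSequence (fun n => (DerivedCategory.homologyFunctor _ q).map (a n)) fun n => by
      refine (Category.id_comp _).trans ?_
      erw [Functor.ofOpSequence_map_homOfLE_succ]
      rw [← Functor.map_comp, Groth.Agent.SiteRlim.comp_transition hVia]))
  have hφ : ∀ n, φ ≫ limit.π D (op n) = (DerivedCategory.homologyFunctor _ q).map (a n) := fun n =>
    limit.lift_π _ _
  have hG := Groth.Agent.SiteRlim.localGen_genAb J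
  haveI : Mono φ := by
    refine Preadditive.mono_of_cancel_zero _ fun {Z} z hz => hG.gen z fun U ψ => ?_
    obtain ⟨T, hT, hT'⟩ := Groth.Agent.SiteRlim.locally_exists_θ hG (ψ ≫ z)
    obtain ⟨S, hS, hS'⟩ := Groth.Agent.SiteRlim.exists_refinement_cover B hB T hT
    refine hG.sep _ S hS fun {W} g hg => ?_
    obtain ⟨Y, p, b, hb', rfl, hY⟩ := hS' g hg
    obtain ⟨f, hf⟩ := hT' b hb'
    have hfa : ∀ n, f ≫ a n = 0 := fun n => (hb n Y hY q).1 (by
      rw [Groth.Agent.SiteRlim.θ_comp, hf, ← hφ]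
      simp [reassoc_of% hz, Groth.Agent.SiteRlim.θ])
    have hf0 : f = 0 := Groth.Agent.SiteRlim.eq_zero_of_comp_single hVia f hfa
      (exists_sub_of_sections (fun n => hb n Y hY _) (h2 Y hY _))
    rw [Functor.map_comp, Category.assoc, ← hf, hf0]
    simp [Groth.Agent.SiteRlim.θ]
  haveI : Epi φ := by
    refine Preadditive.epi_of_cancel_zero _ fun {Z} z hz => hG.gen z fun U ψ => ?_
    obtain ⟨S, hS, hS'⟩ := Groth.Agent.SiteRlim.factor_of_cover B hB U
    refine hG.sep _ S hS fun {W} g hg => ?_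
    obtain ⟨Y, p, b, hY, rfl⟩ := hS' g hg
    let s := (Groth.Agent.SiteRlim.genAb J).map b ≫ ψ
    choose f hf using fun n => (hb n Y hY q).2 (s ≫ limit.π D (op n))
    obtain ⟨y, hy⟩ := Groth.Agent.SiteRlim.exists_lift hVia f fun n => (hb n Y hY q).1 (by
      rw [Groth.Agent.SiteRlim.θ_comp, hf, hf, Category.assoc, ← limit.w D (homOfLE (n.le_add_right 1)).op]
      erw [Functor.ofOpSequence_map_homOfLE_succ])
    have hys : Groth.Agent.SiteRlim.θ y ≫ φ = s := by
      refine limit.hom_ext fun j => ?_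
      obtain ⟨n, rfl⟩ : ∃ n, j = op n := ⟨j.unop, rfl⟩
      rw [Category.assoc, hφ, ← Groth.Agent.SiteRlim.θ_comp, hy, hf]
    suffices s ≫ z = 0 by
      rw [Functor.map_comp, Category.assoc, show (Groth.Agent.SiteRlim.genAb J).map b ≫ ψ ≫ z = 0 from
        (Category.assoc _ _ _).symm.trans this, comp_zero]
    rw [← hys, Category.assoc, hz, comp_zero]
  haveI := isIso_of_mono_of_epi φ
  exact ⟨asIso φ⟩

end Groth.Agent.S0878
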