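import Groth.Statements.S0879
import Groth.Agent.Lib.SiteRlim16.AbClasses
import Groth.Agent.S0878

set_option autoImplicit false
universe u
open CategoryTheory
open CohSite

namespace Groth.Agent.S0879
set_option linter.style.haveILetI false
set_option backward.isDefEq.respectTransparency false
set_option backward.isDefEq.respectTransparency.types false
open Opposite CategoryTheory.Limits in
theorem subsingleton_ext_of_retract {A : Type (u + 1)} [Category.{u} A] [Abelian A] [HasExt.{u} A] {X M N : A}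
    (i : M ⟶ N) (r : N ⟶ M) (h : i ≫ r = 𝟙 M) (n : ℕ) (hN : Subsingleton (Abelian.Ext.{u} X N n)) :
    Subsingleton (Abelian.Ext.{u} X M n) := by
  refine ⟨fun x y => ?_⟩
  have key : ∀ z : Abelian.Ext.{u} X M n,
      z = (z.comp (Abelian.Ext.mk₀ i) (add_zero n)).comp (Abelian.Ext.mk₀ r) (add_zero n) := fun z => by simp [h]
  rw [key x, key y, hN.elim (x.comp (Abelian.Ext.mk₀ i) (add_zero n))]

open Opposite CategoryTheory.Limits in
theorem isZero_HD_single {C : Type u} [SmallCategory C] {J : GrothendieckTopology C}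
    [HasDerivedCategory.{u} (Sheaf J AddCommGrpCat.{u})] (M : Sheaf J AddCommGrpCat.{u}) (q : ℤ) (hq : q ≠ 0) :
    IsZero (CohCx.HD ((DerivedCategory.singleFunctor _ 0).obj M) q) := by
  rcases lt_or_gt_of_ne hq with h | h
  · exact DerivedCategory.isZero_of_isGE _ 0 q h
  · exact DerivedCategory.isZero_of_isLE _ 0 q h



open Opposite CategoryTheory.Limits in
/-- Let (F_n) be an inverse system of abelian sheaves on a site and B a class of objects such that every
object is covered by members of B, H^p(U, F_n) = 0 for p > 0 and U in B, and the system of sections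
F_n(U) has vanishing R^1 lim for U in B. Then lim F_n (in degree zero) is a derived limit of (F_n)
in the derived category and H^p(U, lim F_n) = 0 for p > 0 and U in B. -/
theorem result {C : Type u} [SmallCategory C]
    {J : GrothendieckTopology C} [HasDerivedCategory.{u} (Sheaf J AddCommGrpCat.{u})]
    (F : ℕ → Sheaf J AddCommGrpCat.{u}) (t : ∀ n, F (n + 1) ⟶ F n)
    [HasProduct fun n => (DerivedCategory.singleFunctor (Sheaf J AddCommGrpCat.{u}) 0).obj (F n)]
    (B : Set C)
    (hB : ∀ U : C, ∃ (ι : Type u) (Y : ι → C) (f : ∀ i, Y i ⟶ U), Sieve.ofArrows Y f ∈ J U ∧ ∀ i, Y i ∈ B)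
    (h1 : ∀ U ∈ B, ∀ (p n : ℕ), Subsingleton (CohSite.HU (F n) (p + 1) U))
    (h2 : ∀ U ∈ B, CohCx.LimOneIsZero (fun n => (F n).obj.obj (op U)) (fun n => ((t n).hom.app (op U)).hom)) :
    DCoh.IsRlim (fun n => (DerivedCategory.singleFunctor _ 0).obj (F n))
      (fun n => (DerivedCategory.singleFunctor _ 0).map (t n))
      ((DerivedCategory.singleFunctor _ 0).obj (limit (CohCx.opSequence F t))) ∧
    ∀ U ∈ B, ∀ p : ℕ, Subsingleton (CohSite.HU (limit (CohCx.opSequence F t)) (p + 1) U) := by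
  let A := Sheaf J AddCommGrpCat.{u}
  let SF₀ := DerivedCategory.singleFunctor (Sheaf J AddCommGrpCat.{u}) 0
  let K : ℕ → DerivedCategory (Sheaf J AddCommGrpCat.{u}) := fun n => SF₀.obj (F n)
  let tK : ∀ n, K (n + 1) ⟶ K n := fun n => SF₀.map (t n)
  let e := DerivedCategory.singleFunctorCompHomologyFunctorIso (Sheaf J AddCommGrpCat.{u}) 0
  have hK1 : ∀ U ∈ B, ∀ (p : ℕ) (q : ℤ) (n : ℕ), Subsingleton (CohSite.HU (CohCx.HD (K n) q) (p + 1) U) := by
    intro U hU p q n
    by_cases hq : q = 0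
    · subst hq
      exact subsingleton_ext_of_retract (e.hom.app (F n)) (e.inv.app (F n)) (e.hom_inv_id_app _) _ (h1 U hU p n)
    · exact subsingleton_ext_of_retract (N := F n) 0 0 ((isZero_HD_single (F n) q hq).eq_of_src _ _) _ (h1 U hU p n)
  have hK2 : ∀ U ∈ B, ∀ (q : ℤ), CohCx.LimOneIsZero (fun n => (CohCx.HD (K n) q).obj.obj (op U))
      (fun n => (((DerivedCategory.homologyFunctor _ q).map (tK n)).hom.app (op U)).hom) := by
    intro U hU q b
    by_cases hq : q = 0
    · subst hq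
      obtain ⟨a, ha⟩ := h2 U hU fun n => (e.hom.app (F n)).hom.app (op U) (b n)
      refine ⟨fun n => (e.inv.app (F n)).hom.app (op U) (a n), funext fun n => ?_⟩
      have h3 := congrArg (fun x => ((e.inv.app (F n)).hom.app (op U)).hom x) (congrFun ha n)
      have hid : ∀ x, (e.inv.app (F n)).hom.app (op U) ((e.hom.app (F n)).hom.app (op U) x) = x := fun x =>
        ConcreteCategory.congr_hom (congrArg (fun ψ => ψ.hom.app (op U)) (e.hom_inv_id_app (F n))) x
      have hnat : ∀ x, ((DerivedCategory.homologyFunctor _ 0).map (tK n)).hom.app (op U)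
          ((e.inv.app (F (n + 1))).hom.app (op U) x) = (e.inv.app (F n)).hom.app (op U) ((t n).hom.app (op U) x) :=
        fun x => (ConcreteCategory.congr_hom (congrArg (fun ψ => ψ.hom.app (op U)) (e.inv.naturality (t n))) x).symm
      refine Eq.trans ?_ (hid (b n))
      refine Eq.trans ?_ h3
      exact (congrArg₂ (· - ·) rfl (hnat _)).trans (((e.inv.app (F n)).hom.app (op U)).hom.map_sub _ _).symm
    · refine ⟨0, funext fun n => ?_⟩
      haveI : Subsingleton (Groth.Agent.SiteCoh.fr J U ⟶ CohCx.HD (K n) q) :=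
        ⟨fun x y => (isZero_HD_single (F n) q hq).eq_of_tgt x y⟩
      exact (Groth.Agent.SiteCoh.secEquiv U (CohCx.HD (K n) q)).symm.injective (Subsingleton.elim _ _)
  obtain ⟨L, f, g, hL⟩ := Pretriangulated.distinguished_cocone_triangle₁
    (Pi.lift fun n => Pi.π K n - Pi.π K (n + 1) ≫ tK n)
  have hrlim : DCoh.IsRlim K tK L := ⟨f, g, hL⟩
  have hHD := fun q => Groth.Agent.S0878.result K tK L hrlim B hB hK1 hK2 q
  have hzero : ∀ q : ℤ, q ≠ 0 → IsZero ((DerivedCategory.homologyFunctor (Sheaf J AddCommGrpCat.{u}) q).obj L) := by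
    intro q hq
    refine IsZero.of_iso ?_ (hHD q).some
    refine (IsZero.iff_id_eq_zero _).2 (limit.hom_ext fun j => ?_)
    exact (isZero_HD_single (F j.unop) q hq).eq_of_tgt _ _
  haveI : L.IsGE 0 := (L.isGE_iff 0).2 fun i hi => hzero i hi.ne
  haveI : L.IsLE 0 := (L.isLE_iff 0).2 fun i hi => hzero i hi.ne'
  obtain ⟨M, ⟨eL⟩⟩ := DerivedCategory.exists_iso_singleFunctor_obj_of_isGE_of_isLE L 0
  let ν : CohCx.opSequence (fun n => CohCx.HD (K n) 0)
      (fun n => (DerivedCategory.homologyFunctor _ 0).map (tK n)) ⟶ CohCx.opSequence F t :=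
    NatTrans.ofOpSequence (fun n => e.hom.app (F n)) fun n => by
      erw [Functor.ofOpSequence_map_homOfLE_succ, Functor.ofOpSequence_map_homOfLE_succ]
      exact e.hom.naturality (t n)
  haveI : ∀ j, IsIso (ν.app j) := fun j => inferInstanceAs (IsIso (e.hom.app (F j.unop)))
  haveI : IsIso ν := NatIso.isIso_of_isIso_app ν
  let eM : M ≅ limit (CohCx.opSequence F t) :=
    (e.app M).symm ≪≫ (DerivedCategory.homologyFunctor _ 0).mapIso eL.symm ≪≫ (hHD 0).some ≪≫
      HasLimit.isoOfNatIso (asIso ν)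
  let eT : L ≅ SF₀.obj (limit (CohCx.opSequence F t)) := eL ≪≫ SF₀.mapIso eM
  refine ⟨⟨eT.inv ≫ f, g ≫ (shiftFunctor _ (1 : ℤ)).map eT.hom,
    Pretriangulated.isomorphic_distinguished _ hL _
      (Pretriangulated.Triangle.isoMk _ _ eT.symm (Iso.refl _) (Iso.refl _)
        (by simp [Pretriangulated.Triangle.mk]) (by simp [Pretriangulated.Triangle.mk, K, tK, SF₀])
        (by simp [Pretriangulated.Triangle.mk, ← Functor.map_comp]))⟩, fun U hU p => ?_⟩
  refine Groth.Agent.SiteRlim.subsingleton_ext_of_hom _ _ _ ?_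
  let a : ∀ n, L ⟶ K n := fun n => f ≫ Pi.π K n
  have ha : Pi.lift a = f := Pi.hom_ext _ _ fun n => by simp [a]
  have hVia : CohCx.IsRlimVia K tK L a := ⟨g, by rw [ha]; exact hL⟩
  have hsub : ∀ (j : ℕ) (n : ℕ), Subsingleton ((DerivedCategory.singleFunctor (Sheaf J AddCommGrpCat.{u})
      ((j + 1 : ℕ) : ℤ)).obj ((Groth.Agent.SiteRlim.genAb J).obj U) ⟶ K n) := fun j n =>
    Groth.Agent.SiteRlim.subsingleton_hom_single _ 0 (j + 1) (zero_add _) (h1 U hU j n)
  suffices hy : ∀ y : (DerivedCategory.singleFunctor (Sheaf J AddCommGrpCat.{u})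
      ((p + 1 : ℕ) : ℤ)).obj ((Groth.Agent.SiteRlim.genAb J).obj U) ⟶ L, y = 0 by
    exact ⟨fun x y => (cancel_mono eT.inv).1 ((hy _).trans (hy _).symm)⟩
  intro y
  refine Groth.Agent.SiteRlim.eq_zero_of_comp_single hVia y (fun n => (hsub p n).elim _ _) ?_
  cases p with
  | zero =>
    exact Groth.Agent.S0878.exists_sub_of_sections
      (fun n => Groth.Agent.SiteRlim.bijective_θ_of_acyclic (K n) B hB (fun U hU p q => hK1 U hU p q n) U hU _)
      (hK2 U hU _)
  | succ p =>
    rw [show (((p + 1 + 1 : ℕ) : ℤ) - 1) = ((p + 1 : ℕ) : ℤ) by omega]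
    exact fun w => ⟨fun _ => 0, fun n => (hsub p n).elim _ _⟩

end Groth.Agent.S0879
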