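import Groth.Statements.S0870
import Groth.Agent.S0879

set_option autoImplicit false
universe u
open CategoryTheory
open CohTop

namespace Groth.Agent.S0870
set_option linter.style.haveILetI false
set_option backward.isDefEq.respectTransparency false
set_option backward.isDefEq.respectTransparency.types false
open TopologicalSpace CategoryTheory CategoryTheory.Limits Opposite in


open TopologicalSpace Opposite CategoryTheory.Limits in
/-- Let (F_n) be an inverse system of abelian sheaves on X and B a basis of opens such that H^p(U, F_n)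
= 0 for p > 0 and U in B, and the system of sections F_n(U) has vanishing R^1 lim for U in B. Then
lim F_n (placed in degree zero) is a derived limit of the system (F_n) in the derived category, and
H^p(U, lim F_n) = 0 for p > 0 and U in B. -/
theorem result {X : TopCat.{u}} [HasDerivedCategory.{u} (CohTop.Ab X)]
    (F : ℕ → CohTop.Ab X) (t : ∀ n, F (n + 1) ⟶ F n)
    [HasProduct fun n => (DerivedCategory.singleFunctor (CohTop.Ab X) 0).obj (F n)]
    (B : Set (Opens X)) (hB : Opens.IsBasis B)
    (h1 : ∀ U ∈ B, ∀ (p n : ℕ), Subsingleton (CohTop.HU (F n) (p + 1) U))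
    (h2 : ∀ U ∈ B, CohCx.LimOneIsZero (fun n => (F n).obj.obj (op U))
      (fun n => ((t n).hom.app (op U)).hom)) :
    DCoh.IsRlim (fun n => (DerivedCategory.singleFunctor (CohTop.Ab X) 0).obj (F n))
      (fun n => (DerivedCategory.singleFunctor (CohTop.Ab X) 0).map (t n))
      ((DerivedCategory.singleFunctor (CohTop.Ab X) 0).obj (limit (CohCx.opSequence F t))) ∧
    ∀ U ∈ B, ∀ p : ℕ, Subsingleton (CohTop.HU (limit (CohCx.opSequence F t)) (p + 1) U) := by
  have hB' : ∀ U : Opens X, ∃ (ι : Type u) (Y : ι → Opens X) (f : ∀ i, Y i ⟶ U),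
      Sieve.ofArrows Y f ∈ Opens.grothendieckTopology (X : Type u) U ∧ ∀ i, Y i ∈ B := fun V => by
    choose W hW hxW hWV using fun x : {x : X // x ∈ V} => Opens.isBasis_iff_nbhd.1 hB x.2
    exact ⟨{x : X // x ∈ V}, W, fun x => homOfLE (hWV x),
      fun x hx => ⟨W ⟨x, hx⟩, homOfLE (hWV ⟨x, hx⟩), Sieve.ofArrows_mk W (fun x => homOfLE (hWV x)) ⟨x, hx⟩, hxW ⟨x, hx⟩⟩, hW⟩
  exact Groth.Agent.S0879.result (J := Opens.grothendieckTopology (X : Type u)) F t B hB' h1 h2

end Groth.Agent.S0870
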