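import Groth.Statements.S0871
import Groth.Agent.Lib.DAdj16.Adj
import Groth.Agent.Lib.SiteCoh.OverSite
import Groth.Agent.Lib.CohFound.Inst
import Mathlib.Topology.Sheaves.Over
-- import your own Groth.Agent.* helpers here

set_option autoImplicit false
universe u
open CategoryTheory
open CohTop

namespace Groth.Agent.S0871
set_option linter.style.haveILetI false
set_option backward.isDefEq.respectTransparency false
set_option backward.isDefEq.respectTransparency.types false

open TopologicalSpace CategoryTheory.Limits in
/-- For an object K of the derived category of abelian sheaves on X and an open U, H^p(U, K) is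
isomorphic to H^p(U, K|_U), where K|_U is the image of K under the functor on derived categories
induced by the (exact) restriction to U. Exactness of restriction is assumed through instance
arguments (true, but not recorded by Mathlib in this generality). -/
theorem result {X : TopCat.{u}} (U : Opens X)
    [HasDerivedCategory.{u} (CohTop.Ab X)] [HasDerivedCategory.{u} (CohTop.Ab (TopCat.of U))]
    [PreservesFiniteLimits (CohTop.restrFunctor U)] [PreservesFiniteColimits (CohTop.restrFunctor U)]
    (K : DerivedCategory (CohTop.Ab X)) (p : ℤ) :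
    Nonempty (CohCx.HDU K p U ≃+ CohCx.HDU ((CohTop.restrFunctor U).mapDerivedCategory.obj K) p ⊤) := by
  let J := Opens.grothendieckTopology (X : Type u)
  let e := U.sheafEquivOver (A := AddCommGrpCat.{u})
  haveI := Groth.Agent.SiteCoh.preservesFiniteLimits_over_pullback J U
  let L := e.inverse ⋙ (Over.forget U).sheafPullback AddCommGrpCat.{u} (J.over U) J
  let R := CohTop.restrFunctor U
  have adj : L ⊣ R := e.symm.toAdjunction.comp (Groth.Agent.SiteCoh.restrictAdj J U)
  haveI : PreservesFiniteLimits L := comp_preservesFiniteLimits _ _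
  haveI : PreservesFiniteColimits L :=
    haveI := (adj.leftAdjoint_preservesColimits : PreservesColimitsOfSize.{0, 0} _)
    PreservesColimitsOfSize.preservesFiniteColimits _
  haveI := adj.left_adjoint_additive
  have hU : U.isOpenEmbedding.functor.obj ⊤ = U := U.isOpenEmbedding_obj_top
  let Φ : ∀ F, (L.obj (CohCx.freeSheaf (Opens.grothendieckTopology (TopCat.of U)) ⊤) ⟶ F) ≃
      (CohCx.freeSheaf J U ⟶ F) := fun F =>
    ((adj.homEquiv _ F).trans (Groth.Agent.SiteCoh.secEquiv ⊤ (R.obj F))).trans
      ((F.obj.mapIso (eqToIso (congrArg Opposite.op hU))).addCommGroupIsoToAddEquiv.toEquiv.trans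
        (Groth.Agent.SiteCoh.secEquiv U F).symm)
  have hΦ : ∀ {F G} (f : L.obj (CohCx.freeSheaf (Opens.grothendieckTopology (TopCat.of U)) ⊤) ⟶ F)
      (g : F ⟶ G), Φ G (f ≫ g) = Φ F f ≫ g := fun {F G} f g => by
    simp only [Φ, Equiv.trans_apply]
    rw [adj.homEquiv_naturality_right, Groth.Agent.SiteCoh.secEquiv_comp,
      Groth.Agent.SiteCoh.secEquiv_symm_comp]
    refine congrArg _ ?_
    exact ConcreteCategory.congr_hom (g.hom.naturality
      (eqToHom (congrArg Opposite.op hU))).symm _
  exact ⟨Groth.Agent.DAdj16.homSingleEquiv adj (Groth.Agent.DAdj16.leftObjIso Φ hΦ) K p⟩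

end Groth.Agent.S0871
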