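import Groth.Statements.S0880
import Groth.Agent.Lib.SiteRlim16.AbClasses

set_option autoImplicit false
universe u
open CategoryTheory
open CohSite

namespace Groth.Agent.S0880
set_option linter.style.haveILetI false
set_option backward.isDefEq.respectTransparency false
set_option backward.isDefEq.respectTransparency.types false
theorem comp_transition' {T : Type*} [Category* T] [Preadditive T] [Limits.HasZeroObject T] [HasShift T ℤ]
    [∀ n : ℤ, (shiftFunctor T n).Additive] [Pretriangulated T] {K : ℕ → T} {t : ∀ n, K (n + 1) ⟶ K n}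
    [Limits.HasProduct K] {L : T} {a : ∀ n, L ⟶ K n} (hL : CohCx.IsRlimVia K t L a) (n : ℕ) :
    ∀ k, a (n + k) ≫ CohCx.transition K t n k = a n
  | 0 => Category.comp_id _
  | k + 1 => by
    change a (n + k + 1) ≫ t (n + k) ≫ CohCx.transition K t n k = a n
    rw [← Category.assoc, Groth.Agent.SiteRlim.comp_transition hL, comp_transition' hL n k]



open Opposite CategoryTheory.Limits in
/-- Let (K_n) be an inverse system in the derived category of abelian sheaves on a site with derived
limit L through maps a_n : L -> K_n, V an object and m an integer. Suppose there is an index n(V)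
such that every covering sieve of V contains a covering family {V_i -> V} with, for each i, (1)
vanishing R^1 lim of the system H^{m-1}(V_i, K_n) and (2) H^m(V_i, K_n) -> H^m(V_i, K_{n(V)})
injective for n >= n(V). Then H^m(L)(V) -> H^m(K_{n(V)})(V) is injective. -/
theorem result {C : Type u} [SmallCategory C]
    {J : GrothendieckTopology C} [HasDerivedCategory.{u} (Sheaf J AddCommGrpCat.{u})]
    (K : ℕ → DerivedCategory (Sheaf J AddCommGrpCat.{u})) (t : ∀ n, K (n + 1) ⟶ K n) [HasProduct K]
    (L : DerivedCategory (Sheaf J AddCommGrpCat.{u})) (a : ∀ n, L ⟶ K n) (hL : CohCx.IsRlimVia K t L a)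
    (V : C) (m : ℤ) (nV : ℕ)
    (h : ∀ T ∈ J V, ∃ (ι : Type u) (Y : ι → C) (f : ∀ i, Y i ⟶ V), (∀ i, T.arrows (f i)) ∧
      Sieve.ofArrows Y f ∈ J V ∧ ∀ i,
        CohCx.LimOneIsZero (fun n => CohCx.HDU (K n) (m - 1) (Y i))
          (fun n => Preadditive.rightComp _ ((shiftFunctor _ (m - 1)).map (t n))) ∧
        ∀ k : ℕ, Function.Injective
          (Preadditive.rightComp _ ((shiftFunctor _ m).map (CohCx.transition K t nV k)) :
            CohCx.HDU (K (nV + k)) m (Y i) → CohCx.HDU (K nV) m (Y i))) :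
    Function.Injective (((DerivedCategory.homologyFunctor _ m).map (a nV)).hom.app (op V)) := by
  refine (injective_iff_map_eq_zero _).2 fun s hs => ?_
  let G := Groth.Agent.SiteRlim.genAb J
  have hG := Groth.Agent.SiteRlim.localGen_genAb J
  let σ : G.obj V ⟶ CohCx.HD L m := (Groth.Agent.SiteCoh.secEquiv V _).symm s
  have hσ : σ ≫ (DerivedCategory.homologyFunctor _ m).map (a nV) = 0 := by
    refine (Groth.Agent.SiteCoh.secEquiv V _).injective ?_
    refine (Groth.Agent.SiteCoh.secEquiv_comp V σ _).trans (Eq.trans ?_ (Groth.Agent.SiteRlim.secEquiv_zero V _).symm)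
    rw [show Groth.Agent.SiteCoh.secEquiv V _ σ = s from Equiv.apply_symm_apply _ _]
    exact hs
  suffices hzero : σ = 0 by
    exact ((Equiv.apply_symm_apply (Groth.Agent.SiteCoh.secEquiv V _) s).symm.trans
      (congrArg (Groth.Agent.SiteCoh.secEquiv V _) hzero)).trans (Groth.Agent.SiteRlim.secEquiv_zero V _)
  obtain ⟨T₁, hT₁, hT₁'⟩ := Groth.Agent.SiteRlim.locally_exists_θ hG σ
  choose f hf using fun (W : C) (g : W ⟶ V) (hg : T₁ g) => hT₁' g hg
  choose R hR hR' using fun (W : C) (g : W ⟶ V) (hg : T₁ g) =>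
    Groth.Agent.SiteRlim.locally_zero_of_θ hG (f W g hg ≫ a nV) (by
      rw [Groth.Agent.SiteRlim.θ_comp, hf, Category.assoc, hσ, Limits.comp_zero])
  obtain ⟨ι, Y, q, hqT, hq, hY⟩ := h (Sieve.bind T₁.arrows fun W g hg => R W g hg)
    (J.bind_covering hT₁ fun W g hg => hR W g hg)
  suffices key : ∀ i, G.map (q i) ≫ σ = 0 by
    refine hG.sep _ _ hq ?_
    rintro W g ⟨_, x, _, ⟨i⟩, rfl⟩
    rw [Functor.map_comp, Category.assoc, key i, Limits.comp_zero]
  intro i
  obtain ⟨W', r, g', hg', hr, e⟩ := hqT i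
  let F := (DerivedCategory.singleFunctor _ m).map (G.map r) ≫ f W' g' hg'
  have hF : Groth.Agent.SiteRlim.θ F = G.map (q i) ≫ σ := by
    rw [Groth.Agent.SiteRlim.θ_pre, hf, ← e, Functor.map_comp, Category.assoc]
  have hF0 : F ≫ a nV = 0 := (Category.assoc _ _ _).trans (hR' W' g' hg' r hr)
  suffices F = 0 by rw [← hF, this]; simp [Groth.Agent.SiteRlim.θ]
  have hge : ∀ k, F ≫ a (nV + k) = 0 := fun k => by
    refine (Groth.Agent.SiteRlim.bijective_toHDU (Y i) m (K (nV + k))).1 ((hY i).2 k ?_)
    change Groth.Agent.SiteRlim.toHDU _ ≫ _ = Groth.Agent.SiteRlim.toHDU _ ≫ _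
    rw [← Groth.Agent.SiteRlim.toHDU_comp, ← Groth.Agent.SiteRlim.toHDU_comp, Category.assoc,
      comp_transition' hL nV k, hF0, Limits.zero_comp]
  refine Groth.Agent.SiteRlim.eq_zero_of_limOne hL (hY i).1 F fun n => ?_
  rcases le_total nV n with hn | hn
  · obtain ⟨k, rfl⟩ := Nat.exists_eq_add_of_le hn
    exact hge k
  · obtain ⟨k, hk⟩ := Nat.exists_eq_add_of_le hn
    subst hk
    rw [← comp_transition' hL n k, ← Category.assoc, hF0, Limits.zero_comp]

end Groth.Agent.S0880
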