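import Groth.Statements.S0874
import Groth.Agent.S0880

set_option autoImplicit false
universe u
open CategoryTheory
open CohTop

namespace Groth.Agent.S0874
set_option linter.style.haveILetI false
set_option backward.isDefEq.respectTransparency false
set_option backward.isDefEq.respectTransparency.types false
open TopologicalSpace CategoryTheory CategoryTheory.Limits Opposite in


open TopologicalSpace CategoryTheory.Limits in
/-- Let (K_n) be an inverse system in D(Ab X), the derived category of sheaves of abelian groups on X,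
with derived limit L (through maps a_n : L -> K_n), x a point and m an integer. Suppose there are an
index n(x) and a fundamental system of open neighbourhoods U of x such that (1) the inverse system
H^{m-1}(U, K_n) has vanishing R^1 lim and (2) for every n >= n(x), the transition map from H^m(U,
K_n) to H^m(U, K_{n(x)}) is one-to-one. Then a_{n(x)} induces an injection of stalks at x, from
H^m(L) into H^m(K_{n(x)}). -/
theorem result {X : TopCat.{u}} [HasDerivedCategory.{u} (CohTop.Ab X)]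
    (K : ℕ → DerivedCategory (CohTop.Ab X)) (t : ∀ n, K (n + 1) ⟶ K n) [HasProduct K]
    (L : DerivedCategory (CohTop.Ab X)) (a : ∀ n, L ⟶ K n) (hL : CohCx.IsRlimVia K t L a)
    (x : X) (m : ℤ) (nx : ℕ)
    (h : ∀ V : Opens X, x ∈ V → ∃ U : Opens X, x ∈ U ∧ U ≤ V ∧
      CohCx.LimOneIsZero (fun n => CohCx.HDU (K n) (m - 1) U)
        (fun n => Preadditive.rightComp _ ((shiftFunctor _ (m - 1)).map (t n))) ∧
      ∀ k : ℕ, Function.Injective
        (Preadditive.rightComp _ ((shiftFunctor _ m).map (CohCx.transition K t nx k)) :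
          CohCx.HDU (K (nx + k)) m U → CohCx.HDU (K nx) m U)) :
    Function.Injective ((TopCat.Presheaf.stalkFunctor AddCommGrpCat.{u} x).map
      ((DerivedCategory.homologyFunctor (CohTop.Ab X) m).map (a nx)).hom) := by
  let J := Opens.grothendieckTopology (X : Type u)
  refine (injective_iff_map_eq_zero _).2 fun sx hsx => ?_
  obtain ⟨V₀, hxV₀, s₀, rfl⟩ := TopCat.Presheaf.germ_exist (CohCx.HD L m).obj sx
  rw [TopCat.Presheaf.stalkFunctor_map_germ_apply] at hsx
  obtain ⟨V, hxV, i₁, i₂, hV⟩ := TopCat.Presheaf.germ_eq (CohCx.HD (K nx) m).obj x hxV₀ hxV₀ _ 0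
    (hsx.trans (map_zero _).symm)
  let s := (CohCx.HD L m).obj.map i₁.op s₀
  have hs : ((DerivedCategory.homologyFunctor _ m).map (a nx)).hom.app (op V) s = 0 := by
    rw [NatTrans.naturality_apply ((DerivedCategory.homologyFunctor _ m).map (a nx)).hom i₁.op s₀]
    exact hV.trans (map_zero _)
  let G := Groth.Agent.SiteRlim.genAb J
  have hG := Groth.Agent.SiteRlim.localGen_genAb J
  let σ : G.obj V ⟶ CohCx.HD L m := (Groth.Agent.SiteCoh.secEquiv V _).symm s
  have hσ : σ ≫ (DerivedCategory.homologyFunctor _ m).map (a nx) = 0 := by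
    refine (Groth.Agent.SiteCoh.secEquiv V _).injective ?_
    refine (Groth.Agent.SiteCoh.secEquiv_comp V σ _).trans (Eq.trans ?_ (Groth.Agent.SiteRlim.secEquiv_zero V _).symm)
    rw [show Groth.Agent.SiteCoh.secEquiv V _ σ = s from Equiv.apply_symm_apply _ _]
    exact hs
  obtain ⟨T₁, hT₁, hT₁'⟩ := Groth.Agent.SiteRlim.locally_exists_θ hG σ
  obtain ⟨W₁, g₁, hg₁, hxW₁⟩ := hT₁ x hxV
  obtain ⟨f, hf⟩ := hT₁' g₁ hg₁
  obtain ⟨R, hR, hR'⟩ := Groth.Agent.SiteRlim.locally_zero_of_θ hG (f ≫ a nx) (by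
    rw [Groth.Agent.SiteRlim.θ_comp, hf, Category.assoc, hσ, Limits.comp_zero])
  obtain ⟨W₂, g₂, hg₂, hxW₂⟩ := hR x hxW₁
  obtain ⟨U, hxU, hU, hlim, hinj⟩ := h W₂ hxW₂
  let r : U ⟶ W₁ := homOfLE hU ≫ g₂
  let F := (DerivedCategory.singleFunctor _ m).map (G.map r) ≫ f
  have hF : Groth.Agent.SiteRlim.θ F = G.map (r ≫ g₁) ≫ σ := by
    rw [Groth.Agent.SiteRlim.θ_pre, hf]
    simp [r, G]
  have hF0 : F ≫ a nx = 0 := (Category.assoc _ _ _).trans (hR' r (R.downward_closed hg₂ (homOfLE hU)))
  have hge : ∀ k, F ≫ a (nx + k) = 0 := fun k => by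
    refine (Groth.Agent.SiteRlim.bijective_toHDU U m (K (nx + k))).1 (hinj k ?_)
    change Groth.Agent.SiteRlim.toHDU _ ≫ _ = Groth.Agent.SiteRlim.toHDU _ ≫ _
    rw [← Groth.Agent.SiteRlim.toHDU_comp, ← Groth.Agent.SiteRlim.toHDU_comp, Category.assoc,
      Groth.Agent.S0880.comp_transition' hL nx k, hF0, Limits.zero_comp]
  have hFz : F = 0 := Groth.Agent.SiteRlim.eq_zero_of_limOne hL hlim F fun n => by
    rcases le_total nx n with hn | hn
    · obtain ⟨k, rfl⟩ := Nat.exists_eq_add_of_le hn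
      exact hge k
    · obtain ⟨k, hk⟩ := Nat.exists_eq_add_of_le hn
      subst hk
      rw [← Groth.Agent.S0880.comp_transition' hL n k, ← Category.assoc, hF0, Limits.zero_comp]
  have hz : G.map (r ≫ g₁) ≫ σ = 0 := by
    rw [← hF, hFz]
    simp [Groth.Agent.SiteRlim.θ]
  have hres : (CohCx.HD L m).obj.map (r ≫ g₁).op s = 0 := by
    have e := Groth.Agent.SiteRlim.secEquiv_pre (r ≫ g₁) (CohCx.HD L m) σ
    rw [hz, show Groth.Agent.SiteCoh.secEquiv V _ σ = s from Equiv.apply_symm_apply _ _,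
      Groth.Agent.SiteRlim.secEquiv_zero] at e
    exact e.symm
  rw [← TopCat.Presheaf.germ_res_apply (CohCx.HD L m).obj i₁ x hxV s₀,
    ← TopCat.Presheaf.germ_res_apply (CohCx.HD L m).obj (r ≫ g₁) x hxU s, hres, map_zero]

end Groth.Agent.S0874
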