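import Groth.Statements.S0876
import Mathlib

set_option autoImplicit false
universe u
open CategoryTheory
open CohSite

namespace Groth.Agent.S0876
set_option linter.style.haveILetI false
set_option backward.isDefEq.respectTransparency false
set_option backward.isDefEq.respectTransparency.types false


open CategoryTheory.Limits in
/-- As a long exact sequence of cohomology groups rather than a triangle of complexes: let S be a
Mayer-Vietoris square of a site, with corners X₁ (playing the role of the intersection), X₂, X₃ and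
X₄ (the union). For every object K of the derived category of abelian sheaves there are connecting
homomorphisms H^n(X₁, K) -> H^{n+1}(X₄, K) which together with the restriction maps (sum into
H^n(X₂, K) ⊕ H^n(X₃, K), difference out of it) form a long exact sequence ... -> H^n(X₄, K) ->
H^n(X₂, K) ⊕ H^n(X₃, K) -> H^n(X₁, K) -> H^{n+1}(X₄, K) -> .... Here H^n(U, K) is the group of maps
from the free abelian sheaf on U to K[n]. -/
theorem result {C : Type u} [SmallCategory C] {J : GrothendieckTopology C}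
    [HasWeakSheafify J (Type u)] [HasDerivedCategory.{u} (Sheaf J AddCommGrpCat.{u})]
    (S : J.MayerVietorisSquare) (K : DerivedCategory (Sheaf J AddCommGrpCat.{u})) :
    ∃ δ : ∀ n : ℤ, CohCx.HDU K n S.X₁ →+ CohCx.HDU K (n + 1) S.X₄,
      ∀ n : ℤ,
        (ComposableArrows.mk₂
          (AddCommGrpCat.ofHom ((CohCx.HDUres K n S.f₂₄).prod (CohCx.HDUres K n S.f₃₄)))
          (AddCommGrpCat.ofHom ((CohCx.HDUres K n S.f₁₂).coprod (-(CohCx.HDUres K n S.f₁₃))))).Exact ∧
        (ComposableArrows.mk₂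
          (AddCommGrpCat.ofHom ((CohCx.HDUres K n S.f₁₂).coprod (-(CohCx.HDUres K n S.f₁₃))))
          (AddCommGrpCat.ofHom (δ n))).Exact ∧
        (ComposableArrows.mk₂ (AddCommGrpCat.ofHom (δ n))
          (AddCommGrpCat.ofHom ((CohCx.HDUres K (n + 1) S.f₂₄).prod (CohCx.HDUres K (n + 1) S.f₃₄)))).Exact := by
  let A := Sheaf J AddCommGrpCat.{u}
  let SF := DerivedCategory.singleFunctor A 0
  have hT := S.shortComplex_shortExact.singleTriangle_distinguished
  let e : ∀ n : ℤ, (shiftFunctor (DerivedCategory A) n ⋙ shiftFunctor (DerivedCategory A) (1 : ℤ)).obj K ⟶ (shiftFunctor (DerivedCategory A) (n + 1)).obj K :=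
    fun n => (shiftFunctorAdd' (DerivedCategory A) n 1 (n + 1) rfl).inv.app K
  let d := S.shortComplex_shortExact.singleδ
  let δ : ∀ n : ℤ, CohCx.HDU K n S.X₁ →+ CohCx.HDU K (n + 1) S.X₄ := fun n =>
    AddMonoidHom.mk' (fun x => d ≫ x⟦(1 : ℤ)⟧' ≫ e n) fun x y => by
      simp only [Functor.map_add, Preadditive.add_comp, Preadditive.comp_add]
  refine ⟨δ, fun n => ?_⟩
  have hfst : S.shortComplex.f ≫ biprod.fst = CohCx.freeSheafMap J S.f₁₂ := biprod.lift_fst _ _
  have hsnd : S.shortComplex.f ≫ biprod.snd = -CohCx.freeSheafMap J S.f₁₃ := biprod.lift_snd _ _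
  have hinl : biprod.inl ≫ S.shortComplex.g = CohCx.freeSheafMap J S.f₂₄ := biprod.inl_desc _ _
  have hinr : biprod.inr ≫ S.shortComplex.g = CohCx.freeSheafMap J S.f₃₄ := biprod.inr_desc _ _
  have h₁₂ : SF.map (CohCx.freeSheafMap J S.f₁₂) = SF.map S.shortComplex.f ≫ SF.map biprod.fst := by
    rw [← SF.map_comp, hfst]
  have h₁₃ : SF.map (CohCx.freeSheafMap J S.f₁₃) = -(SF.map S.shortComplex.f ≫ SF.map biprod.snd) := by
    rw [← SF.map_comp, hsnd, Functor.map_neg, neg_neg]
  have h₂₄ : SF.map (CohCx.freeSheafMap J S.f₂₄) = SF.map biprod.inl ≫ SF.map S.shortComplex.g := by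
    rw [← SF.map_comp, hinl]
  have h₃₄ : SF.map (CohCx.freeSheafMap J S.f₃₄) = SF.map biprod.inr ≫ SF.map S.shortComplex.g := by
    rw [← SF.map_comp, hinr]
  let SM := SF.obj S.shortComplex.X₂
  have total : ∀ {T : DerivedCategory A} (z : SM ⟶ T),
      SF.map biprod.fst ≫ SF.map biprod.inl ≫ z + SF.map biprod.snd ≫ SF.map biprod.inr ≫ z = z := fun z => by
    rw [← Category.assoc, ← Category.assoc, ← Preadditive.add_comp, ← SF.map_comp, ← SF.map_comp, ← SF.map_add,
      biprod.total, SF.map_id, Category.id_comp]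
  have hab : SF.map S.shortComplex.f ≫ SF.map S.shortComplex.g = 0 := by
    rw [← SF.map_comp, S.shortComplex.zero, SF.map_zero]
  have res13 : ∀ (x₂ : CohCx.HDU K n S.X₂) (x₃ : CohCx.HDU K n S.X₃),
      (CohCx.HDUres K n S.f₁₂).coprod (-(CohCx.HDUres K n S.f₁₃)) (x₂, x₃) =
        SF.map S.shortComplex.f ≫ (SF.map biprod.fst ≫ x₂ + SF.map biprod.snd ≫ x₃) := fun x₂ x₃ => by
    change SF.map (CohCx.freeSheafMap J S.f₁₂) ≫ x₂ + -(SF.map (CohCx.freeSheafMap J S.f₁₃) ≫ x₃) = _
    rw [h₁₂, h₁₃, Preadditive.neg_comp, neg_neg, Category.assoc, Category.assoc, Preadditive.comp_add]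
  have res24 : ∀ (m : ℤ) (g : CohCx.HDU K m S.X₄),
      (CohCx.HDUres K m S.f₂₄).prod (CohCx.HDUres K m S.f₃₄) g =
        (SF.map biprod.inl ≫ SF.map S.shortComplex.g ≫ g, SF.map biprod.inr ≫ SF.map S.shortComplex.g ≫ g) :=
    fun m g => by
    change (SF.map (CohCx.freeSheafMap J S.f₂₄) ≫ g, SF.map (CohCx.freeSheafMap J S.f₃₄) ≫ g) = _
    rw [h₂₄, h₃₄, Category.assoc, Category.assoc]
  refine ⟨?_, ?_, ?_⟩
  · refine ComposableArrows.exact₂_mk _ ?_ ((ShortComplex.ab_exact_iff _).2 ?_)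
    · ext g
      change (CohCx.HDUres K n S.f₁₂).coprod (-(CohCx.HDUres K n S.f₁₃))
        ((CohCx.HDUres K n S.f₂₄).prod (CohCx.HDUres K n S.f₃₄) g) = 0
      rw [res24, res13, total, ← Category.assoc, hab, zero_comp]
    · rintro ⟨x₂, x₃⟩ hx
      change (CohCx.HDUres K n S.f₁₂).coprod (-(CohCx.HDUres K n S.f₁₃)) (x₂, x₃) = 0 at hx
      rw [res13] at hx
      obtain ⟨g, hg⟩ := Pretriangulated.Triangle.yoneda_exact₂ _ hT _ hx
      refine ⟨g, ?_⟩
      change (CohCx.HDUres K n S.f₂₄).prod (CohCx.HDUres K n S.f₃₄) g = (x₂, x₃)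
      change _ = SF.map S.shortComplex.g ≫ g at hg
      rw [res24, ← hg]
      simp only [Preadditive.comp_add, ← Category.assoc, ← SF.map_comp, biprod.inl_fst, biprod.inl_snd,
        biprod.inr_fst, biprod.inr_snd, Functor.map_zero, SF.map_id, Category.id_comp, zero_comp, add_zero, zero_add]
  · refine ComposableArrows.exact₂_mk _ ?_ ((ShortComplex.ab_exact_iff _).2 ?_)
    · ext ⟨x₂, x₃⟩
      change δ n ((CohCx.HDUres K n S.f₁₂).coprod (-(CohCx.HDUres K n S.f₁₃)) (x₂, x₃)) = 0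
      rw [res13]
      change d ≫ (_ ≫ _)⟦(1 : ℤ)⟧' ≫ e n = 0
      have h0 : d ≫ (SF.map S.shortComplex.f)⟦(1 : ℤ)⟧' = 0 :=
        Pretriangulated.comp_distTriang_mor_zero₃₁ _ hT
      rw [Functor.map_comp, Category.assoc, ← Category.assoc, h0, zero_comp]
    · intro x hx
      change d ≫ x⟦(1 : ℤ)⟧' ≫ e n = 0 at hx
      rw [← Category.assoc] at hx
      have hx' : d ≫ x⟦(1 : ℤ)⟧' = 0 := by
        rwa [← cancel_mono (e n), zero_comp]
      obtain ⟨g, hg⟩ := Pretriangulated.Triangle.yoneda_exact₂ _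
        (Pretriangulated.rot_of_distTriang _ (Pretriangulated.rot_of_distTriang _ hT)) _ hx'
      change x⟦(1 : ℤ)⟧' = (-(SF.map S.shortComplex.f)⟦(1 : ℤ)⟧') ≫ g at hg
      obtain ⟨z, rfl⟩ : ∃ z : SM ⟶ _, z⟦(1 : ℤ)⟧' = g := (shiftFunctor _ (1 : ℤ)).map_surjective g
      have hxz : x = SF.map S.shortComplex.f ≫ (-z) := by
        apply (shiftFunctor (DerivedCategory A) (1 : ℤ)).map_injective
        rw [hg, Functor.map_comp, Functor.map_neg, Preadditive.neg_comp, Preadditive.comp_neg]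
      refine ⟨(SF.map biprod.inl ≫ (-z), SF.map biprod.inr ≫ (-z)), ?_⟩
      change (CohCx.HDUres K n S.f₁₂).coprod (-(CohCx.HDUres K n S.f₁₃)) (_, _) = x
      rw [res13, total, hxz]
  · refine ComposableArrows.exact₂_mk _ ?_ ((ShortComplex.ab_exact_iff _).2 ?_)
    · ext x
      change (CohCx.HDUres K (n + 1) S.f₂₄).prod (CohCx.HDUres K (n + 1) S.f₃₄) (δ n x) = 0
      have h0 : SF.map S.shortComplex.g ≫ d = 0 := Pretriangulated.comp_distTriang_mor_zero₂₃ _ hT
      rw [res24]
      change (SF.map biprod.inl ≫ SF.map S.shortComplex.g ≫ d ≫ _, SF.map biprod.inr ≫ SF.map S.shortComplex.g ≫ d ≫ _) = 0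
      rw [reassoc_of% h0, zero_comp, comp_zero, comp_zero]
      rfl
    · intro y hy
      change (CohCx.HDUres K (n + 1) S.f₂₄).prod (CohCx.HDUres K (n + 1) S.f₃₄) y = 0 at hy
      rw [res24, Prod.ext_iff] at hy
      have h0 : SF.map S.shortComplex.g ≫ y = 0 := by
        rw [← total (SF.map S.shortComplex.g ≫ y),
          show SF.map biprod.inl ≫ SF.map S.shortComplex.g ≫ y = 0 from hy.1,
          show SF.map biprod.inr ≫ SF.map S.shortComplex.g ≫ y = 0 from hy.2]
        exact (congrArg₂ (· + ·) comp_zero comp_zero).trans (add_zero _)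
      obtain ⟨g, hg⟩ := Pretriangulated.Triangle.yoneda_exact₃ _ hT y h0
      obtain ⟨x, hx⟩ := (shiftFunctor (DerivedCategory A) (1 : ℤ)).map_surjective
        (g ≫ (shiftFunctorAdd' (DerivedCategory A) n 1 (n + 1) rfl).hom.app K)
      refine ⟨x, ?_⟩
      change d ≫ x⟦(1 : ℤ)⟧' ≫ e n = y
      rw [hx]
      change d ≫ (g ≫ (shiftFunctorAdd' (DerivedCategory A) n 1 (n + 1) rfl).hom.app K) ≫
        (shiftFunctorAdd' (DerivedCategory A) n 1 (n + 1) rfl).inv.app K = y
      rw [Category.assoc, Iso.hom_inv_id_app]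
      exact (congrArg (d ≫ ·) (Category.comp_id g)).trans hg.symm

end Groth.Agent.S0876
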