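import Groth.Statements.S0883
import Groth.Agent.Lib.CohTop16.DirectImage

set_option autoImplicit false
universe u
open CategoryTheory
open CohTop

namespace Groth.Agent.S0883
set_option linter.style.haveILetI false
set_option backward.isDefEq.respectTransparency false
set_option backward.isDefEq.respectTransparency.types false
open Groth.Agent.SiteRlim Groth.Agent.CohTop16 Opposite CategoryTheory.Limits

/-- The vanishing and sheaf property for a complex in nonnegative degrees. -/
theorem bijective_θ_pushObj {Y : TopCat.{u}} [HasDerivedCategory.{u + 1} (CohTop.Ab Y)]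
    (L : DerivedCategory (CohTop.Ab Y)) [hL : L.IsGE 0] (F : CohTop.Ab Y) :
    Function.Bijective (θ : ((DerivedCategory.singleFunctor (CohTop.Ab Y) 0).obj F ⟶ L) → _) :=
  bijective_θ_of_isGE F 0 L 0 hL fun q hq j _ => ⟨fun a b =>
    ((DerivedCategory.singleFunctor (CohTop.Ab Y) q).map_isZero
      (DerivedCategory.isZero_of_isGE L 0 q hq)).eq_of_tgt a b⟩


open TopologicalSpace in
/-- Part (1) (abelian sheaves; the assertion about Rf_* K is not included): given a continuous map f : X
-> Y, a basis B of opens of Y and an object K of the derived category of abelian sheaves on X such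
that H^i(f^{-1}V, K) = 0 for all i < 0 and V in B. Then H^i(f^{-1}V, K) = 0 for i < 0 and every open
V of Y, and the presheaf V ↦ H^0(f^{-1}V, K) is a sheaf on Y. -/
theorem result {X Y : TopCat.{u}} (f : X ⟶ Y)
    [HasDerivedCategory.{u} (CohTop.Ab X)] (B : Set (Opens Y)) (hB : Opens.IsBasis B)
    (K : DerivedCategory (CohTop.Ab X))
    (h : ∀ V ∈ B, ∀ i : ℤ, i < 0 → Subsingleton (CohCx.HDU K i ((Opens.map f).obj V))) :
    (∀ (V : Opens Y) (i : ℤ), i < 0 → Subsingleton (CohCx.HDU K i ((Opens.map f).obj V))) ∧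
    Presheaf.IsSheaf (Opens.grothendieckTopology Y) ((Opens.map f).op ⋙ CohCx.HDUPresheaf K 0) := by
  obtain ⟨I, hI, ⟨e⟩⟩ := Groth.Agent.KInjLib.exists_iso_kInjective K
  let _ : HasDerivedCategory.{u + 1} (CohTop.Ab Y) := HasDerivedCategory.standard _
  let ce : ∀ (i : ℤ) (U : TopologicalSpace.Opens X), CohCx.HDU K i U ≃
      CohCx.HDU (DerivedCategory.Q.obj I) i U := fun i U =>
    (Iso.refl _).homCongr ((shiftFunctor (DerivedCategory (CohTop.Ab X)) i).mapIso e)
  haveI hL : (pushObj f I).IsGE 0 := isGE_pushObj f I B hB fun V hV i hi =>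
    (ce i _).subsingleton_congr.1 (h V hV i hi)
  have hvan : ∀ (V : TopologicalSpace.Opens Y) (i : ℤ), i < 0 →
      Subsingleton (CohCx.HDU K i ((TopologicalSpace.Opens.map f).obj V)) := fun V i hi => by
    refine (ce i _).subsingleton_congr.2 ((subsingleton_iff_transfer f I i V).1 ⟨fun a b => ?_⟩)
    have hz : ∀ x : (DerivedCategory.singleFunctor (CohTop.Ab Y) i).obj
        ((genAb (Opens.grothendieckTopology Y)).obj V) ⟶ pushObj f I, x = 0 := fun x =>
      DerivedCategory.TStructure.t.zero x i 0 hi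
    rw [hz a, hz b]
  refine ⟨hvan, ?_⟩
  let Φ : ∀ V : TopologicalSpace.Opens Y,
      ((DerivedCategory.singleFunctor (CohTop.Ab Y) 0).obj
        ((genAb (Opens.grothendieckTopology Y)).obj V) ⟶ pushObj f I) ≃
        CohCx.HDU K 0 ((TopologicalSpace.Opens.map f).obj V) := fun V =>
    ((Equiv.ofBijective _ (bijective_transfer f I 0 V)).trans
      (Equiv.ofBijective _ (bijective_toHDU _ 0 (DerivedCategory.Q.obj I)))).trans (ce 0 _).symm
  let Ψ : ∀ V : TopologicalSpace.Opens Y, _ ≃ (CohCx.HD (pushObj f I) 0).obj.obj (op V) := fun V =>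
    (Equiv.ofBijective _ (bijective_θ_pushObj (pushObj f I)
      ((genAb (Opens.grothendieckTopology Y)).obj V))).trans (SiteCoh.secEquiv V _)
  rw [Presheaf.isSheaf_iff_isSheaf_forget _ _ (forget AddCommGrpCat.{u})]
  refine (Presheaf.isSheaf_of_iso_iff (NatIso.ofComponents
    (fun V => ((Φ V.unop).symm.trans (Ψ V.unop)).toIso) ?_)).2
    ((Presheaf.isSheaf_iff_isSheaf_forget _ _ (forget AddCommGrpCat.{u})).1 (CohCx.HD (pushObj f I) 0).property)
  intro V W g
  ext x
  obtain ⟨y, rfl⟩ := (Φ V.unop).surjective x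
  change Ψ W.unop ((Φ W.unop).symm ((DerivedCategory.singleFunctor (CohTop.Ab X) 0).map
    ((genAb (Opens.grothendieckTopology X)).map ((TopologicalSpace.Opens.map f).map g.unop)) ≫
      Φ V.unop y)) = (CohCx.HD (pushObj f I) 0).obj.map g (Ψ V.unop ((Φ V.unop).symm (Φ V.unop y)))
  rw [Equiv.symm_apply_apply]
  have key : (DerivedCategory.singleFunctor (CohTop.Ab X) 0).map
    ((genAb (Opens.grothendieckTopology X)).map ((TopologicalSpace.Opens.map f).map g.unop)) ≫
      Φ V.unop y = Φ W.unop ((DerivedCategory.singleFunctor (CohTop.Ab Y) 0).map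
        ((genAb (Opens.grothendieckTopology Y)).map g.unop) ≫ y) := by
    simp only [Φ, ce, Equiv.trans_apply, Equiv.ofBijective_apply]
    rw [transfer_pre, toHDU_pre]
    simp [Iso.homCongr]
  rw [key, Equiv.symm_apply_apply]
  simp only [Ψ, Equiv.trans_apply, Equiv.ofBijective_apply, θ_pre]
  exact secEquiv_pre g.unop _ _

end Groth.Agent.S0883
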