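import Groth.Statements.S0884
import Groth.Agent.Lib.SheafVan16.RpushStalk
import Groth.Agent.Lib.SheafVan16.Generalizations

set_option autoImplicit false
universe u
open CategoryTheory
open CohTop

namespace Groth.Agent.S0884

open TopologicalSpace in
/-- Let f : X -> Y be a spectral map of spectral spaces, y a point of Y, E ⊆ Y the set of points
specializing to y, and F an abelian sheaf on X. Then the stalk (R^p f_* F)_y is isomorphic to
H^p(f^{-1}(E), F|_{f^{-1}(E)}), the cohomology of the pullback of F to the subspace f^{-1}(E). -/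
theorem result {X Y : TopCat.{u}} [SpectralSpace X] [SpectralSpace Y]
    (f : X ⟶ Y) (hf : IsSpectralMap f) (y : Y) (F : CohTop.Ab X) (p : ℕ) :
    Nonempty (CohTop.stalk ((CohTop.Rpush f p).obj F) y ≃+
      CohTop.H ((CohTop.pull (TopCat.ofHom ⟨Subtype.val, continuous_subtype_val⟩ :
          TopCat.of {x : X | y ∈ closure {f x}} ⟶ X)).obj F) p) := by
  let i : TopCat.of {x : X | y ∈ closure {f x}} ⟶ X := TopCat.ofHom ⟨Subtype.val, continuous_subtype_val⟩
  have hpre : ∀ V : Opens Y, y ∈ V → ∀ z, i z ∈ (Opens.map f).obj V := fun V hV z =>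
    (specializes_iff_mem_closure.2 z.2).mem_open V.isOpen hV
  have hsep : ∀ x, ¬ y ∈ closure {f x} → ∃ V : Opens Y, IsCompact (V : Set Y) ∧ y ∈ V ∧ f x ∉ V := fun x hx => by
    obtain ⟨V, hV, hyV, hVle⟩ := SheafVan16.exists_qc (U := (⟨(closure {f x})ᶜ, isClosed_closure.isOpen_compl⟩ : Opens Y)) (x := y) hx
    exact ⟨V, hV, hyV, fun h => hVle h (subset_closure rfl)⟩
  have h : SheafVan16.QcInter i := ⟨Topology.IsEmbedding.subtypeVal, fun x hx => by
    obtain ⟨V, hV, hyV, hxV⟩ := hsep x fun hxy => hx ⟨⟨x, hxy⟩, rfl⟩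
    exact ⟨(Opens.map f).obj V, hf.isCompact_preimage_of_isOpen V.isOpen hV, hpre V hyV, hxV⟩⟩
  have hn : SheafVan16.IsNbhds i (SheafVan16.preNbhd f y) := ⟨fun U ⟨V, hV, hU⟩ z => hU ▸ hpre V hV z, fun A hA => by
    classical
    have hC : IsCompact (SheafVan16.cf X ⁻¹' (A : Set X)ᶜ) :=
      (A.isOpen.isClosed_compl.preimage (SheafVan16.cf X).hom.continuous).isCompact
    choose V hVc hyV hxV using fun z : ↥(SheafVan16.cf X ⁻¹' (A : Set X)ᶜ) =>
      hsep (SheafVan16.cf X z.1) fun hz => z.2 (hA ⟨_, hz⟩)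
    obtain ⟨S, hS⟩ := hC.elim_finite_subcover (fun z => (SheafVan16.cf X ⁻¹' ((Opens.map f).obj (V z) : Set X))ᶜ)
      (fun z => (SheafVan16.isClosed_cons ((Opens.map f).obj (V z)).isOpen
        (hf.isCompact_preimage_of_isOpen (V z).isOpen (hVc z))).isOpen_compl)
      (fun z hz => Set.mem_iUnion.2 ⟨⟨z, hz⟩, hxV ⟨z, hz⟩⟩)
    refine ⟨Opposite.op ((Opens.map f).obj (S.inf V)), ⟨S.inf V, ?_, rfl⟩, fun x hx => ?_⟩
    · rw [← SetLike.mem_coe, Opens.coe_finset_inf, Finset.inf_set_eq_iInter]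
      exact Set.mem_iInter₂.2 fun z _ => hyV z
    · by_contra hxA
      obtain ⟨w, hwS, hw⟩ := Set.mem_iUnion₂.1 (hS (show WithTopology.toTopology _ x ∈ SheafVan16.cf X ⁻¹' (A : Set X)ᶜ from hxA))
      exact hw ((Finset.inf_le hwS : S.inf V ≤ V w) hx)⟩
  exact SheafVan16.nonempty_stalk_rpush_equiv hn (fun G t => h.exists_rel_top G t)
    (fun I hI n => h.subsingleton_hc_pull_injective I hI n) F p

end Groth.Agent.S0884
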