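import Groth.Statements.S0885
import Groth.Agent.Lib.CohFound.CechElt

set_option autoImplicit false
universe u
open CategoryTheory
open CohTop

namespace Groth.Agent.S0885
set_option linter.style.haveILetI false
set_option backward.isDefEq.respectTransparency false
set_option backward.isDefEq.respectTransparency.types false
open CategoryTheory TopologicalSpace Opposite CategoryTheory.Limits Groth.Agent.CohFound in


open TopologicalSpace Opposite CategoryTheory.Limits in
/-- Let F be a presheaf of abelian groups on a topological space X and (U_i)_{i ∈ ι} a family of open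
subsets with union U such that U_i = U for some index i. Then the Čech complex of F with respect to
the family (formed with all ordered tuples of indices) is homotopy equivalent to the complex
consisting of F(U) placed in degree 0. (The published statement phrases this as contractibility of
the extended Čech complex; stated here as a homotopy equivalence with F(U) in degree zero.) -/
theorem result {X : TopCat.{u}} (F : (Opens X)ᵒᵖ ⥤ AddCommGrpCat.{u})
    {ι : Type u} (U : ι → Opens X) (i : ι) (hi : U i = iSup U) :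
    Nonempty (HomotopyEquiv ((CochainComplex.single₀ AddCommGrpCat.{u}).obj (F.obj (op (iSup U))))
      ((cechComplexFunctor U).obj F)) := by
  classical
  let C := cechCx U F
  have hc : ∀ {A B D : Opens X} (h : B ≤ A) (h' : D ≤ B) (x : F.obj (op A)),
      F.map (homOfLE h').op (F.map (homOfLE h).op x) = F.map (homOfLE (h'.trans h)).op x :=
    fun h h' x => (ConcreteCategory.congr_hom (F.map_comp (homOfLE h).op (homOfLE h').op) x).symm
  have hid : ∀ {A : Opens X} (h : A ≤ A) (x : F.obj (op A)), F.map (homOfLE h).op x = x :=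
    fun h x => ConcreteCategory.congr_hom (F.map_id _) x
  have congr' : ∀ {n : ℕ} (x : C.X n) {s s' : Fin (n + 1) → ι} (_ : s = s') {W : Opens X}
      (h : W ≤ tupOpen U s) (h' : W ≤ tupOpen U s'),
      F.map (homOfLE h).op (cval U F s x) = F.map (homOfLE h').op (cval U F s' x) := by
    rintro n x s s' rfl W h h'
    rfl
  have le_i : ∀ {n : ℕ} (a : Fin (n + 1) → ι), tupOpen U a ≤ iSup U := fun a => (iInf_le _ 0).trans (le_iSup U _)
  have le_cons : ∀ {n : ℕ} (a : Fin (n + 1) → ι), tupOpen U a ≤ tupOpen U (Fin.cons i a : Fin (n + 2) → ι) :=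
    fun a => le_iInf fun k => Fin.cases (by simpa [hi] using le_i a) (fun l => by simpa using iInf_le (fun k => U (a k)) l) k
  let hh : ∀ n, C.X (n + 1) ⟶ C.X n := fun n =>
    Pi.lift fun a => cvalHom U F (Fin.cons i a : Fin (n + 2) → ι) ≫ F.map (homOfLE (le_cons a)).op ≫ F.map (homOfLE (pi_le_tupOpen U a)).op
  have lift_val : ∀ {A : AddCommGrpCat.{u}} {n : ℕ} (φ : ∀ a : Fin (n + 1) → ι, A ⟶ F.obj (op (tupOpen U a))) (a : Fin (n + 1) → ι) (x : A),
      cval U F a ((Pi.lift fun a => φ a ≫ F.map (homOfLE (pi_le_tupOpen U a)).op : A ⟶ C.X n) x) = φ a x := by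
    intro A n φ a x
    refine (congrArg (F.map (homOfLE (tupOpen_le_pi U a)).op)
      (ConcreteCategory.congr_hom (Pi.lift_π (fun a => φ a ≫ F.map (homOfLE (pi_le_tupOpen U a)).op) a) x)).trans ?_
    exact (hc (pi_le_tupOpen U a) (tupOpen_le_pi U a) (φ a x)).trans (hid _ _)
  have hh_val : ∀ n (x : C.X (n + 1)) (a : Fin (n + 1) → ι),
      cval U F a (hh n x) = F.map (homOfLE (le_cons a)).op (cval U F (Fin.cons i a : Fin (n + 2) → ι) x) := by
    intro n x a
    refine Eq.trans ?_ (lift_val (fun a => cvalHom U F (Fin.cons i a : Fin (n + 2) → ι) ≫ F.map (homOfLE (le_cons a)).op) a x)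
    simp only [hh, Category.assoc]
    rfl
  let i₀ : Fin 1 → ι := fun _ => i
  have hi₀ : iSup U ≤ tupOpen U i₀ := le_iInf fun _ => hi.ge
  let f₀ : F.obj (op (iSup U)) ⟶ C.X 0 :=
    Pi.lift fun a => F.map (homOfLE (le_i a)).op ≫ F.map (homOfLE (pi_le_tupOpen U a)).op
  have hf₀ : ∀ (x : F.obj (op (iSup U))) (a : Fin 1 → ι), cval U F a (f₀ x) = F.map (homOfLE (le_i a)).op x := fun x a =>
    lift_val (fun a => F.map (homOfLE (le_i a)).op) a x
  have hd₀ : f₀ ≫ C.d 0 1 = 0 := by
    ext x
    refine cval_ext U F fun a => ?_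
    change cval U F a (C.d 0 1 (f₀ x)) = cval U F a 0
    rw [cval_d, Fin.sum_univ_two]
    simp only [hf₀, hc, Fin.val_zero, Fin.val_one, pow_zero, pow_one, one_smul, neg_smul, add_neg_cancel]
    exact (map_zero (cvalHom U F a).hom).symm
  let φ : (CochainComplex.single₀ AddCommGrpCat.{u}).obj (F.obj (op (iSup U))) ⟶ C :=
    HomologicalComplex.mkHomFromSingle f₀ (fun k hk => by
      obtain rfl : k = 1 := by simpa using hk.symm
      exact hd₀)
  let g₀ : C.X 0 ⟶ F.obj (op (iSup U)) := cvalHom U F i₀ ≫ F.map (homOfLE hi₀).op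
  let ψ : C ⟶ (CochainComplex.single₀ AddCommGrpCat.{u}).obj (F.obj (op (iSup U))) :=
    HomologicalComplex.mkHomToSingle g₀ (fun k hk => by simp at hk)
  have hgf : φ ≫ ψ = 𝟙 _ := by
    refine HomologicalComplex.from_single_hom_ext ?_
    have h0 : f₀ ≫ g₀ = 𝟙 _ := by
      ext x
      change F.map (homOfLE hi₀).op (cval U F i₀ (f₀ x)) = x
      rw [hf₀, hc, hid]
    simpa [φ, ψ] using h0
  have key : ∀ (n : ℕ) (x : C.X (n + 1)) (a : Fin (n + 2) → ι),
      cval U F a (hh (n + 1) (C.d (n + 1) (n + 2) x)) = cval U F a x - cval U F a (C.d n (n + 1) (hh n x)) := by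
    intro n x a
    rw [hh_val, cval_d, cval_d, map_sum, Fin.sum_univ_succ, sub_eq_add_neg, ← Finset.sum_neg_distrib]
    have e0 : (Fin.cons i a : Fin (n + 3) → ι) ∘ (0 : Fin (n + 3)).succAbove = a := by funext k; simp
    have es : ∀ k : Fin (n + 2), (Fin.cons i a : Fin (n + 3) → ι) ∘ k.succ.succAbove = Fin.cons i (a ∘ k.succAbove) :=
      fun k => by funext l; refine Fin.cases ?_ (fun m => ?_) l <;> simp
    refine congrArg₂ (· + ·) ?_ (Finset.sum_congr rfl fun k _ => ?_)
    · simp only [Fin.val_zero, pow_zero, one_smul, hc]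
      rw [congr' x e0 _ le_rfl, hid]
    · rw [map_zsmul, hc, hh_val, hc, congr' x (es k) _ ((tupOpen_le U a k).trans (le_cons _))]
      simp [pow_succ]
  have key0 : ∀ (x : C.X 0) (a : Fin 1 → ι),
      cval U F a (hh 0 (C.d 0 1 x)) = cval U F a x - F.map (homOfLE ((le_i a).trans hi₀)).op (cval U F i₀ x) := by
    intro x a
    rw [hh_val, cval_d, map_sum, Fin.sum_univ_two, sub_eq_add_neg]
    have e0 : (Fin.cons i a : Fin 2 → ι) ∘ (0 : Fin 2).succAbove = a := by funext k; simp
    have e1 : (Fin.cons i a : Fin 2 → ι) ∘ (1 : Fin 2).succAbove = i₀ := by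
      funext k
      obtain rfl := Subsingleton.elim k 0
      rfl
    simp only [Fin.val_zero, Fin.val_one, pow_zero, pow_one, one_smul, neg_smul, map_neg, hc]
    rw [congr' x e0 _ le_rfl, hid, congr' x e1 _ ((le_i a).trans hi₀)]
  let H : ∀ p q, C.X p ⟶ C.X q := fun p q => if h : q + 1 = p then eqToHom (by rw [h]) ≫ hh q else 0
  have hH : ∀ n, H (n + 1) n = hh n := fun n => by simp [H]
  have hom' : Homotopy (𝟙 C) (ψ ≫ φ) :=
    { hom := H
      zero := fun p q hpq => dif_neg hpq
      comm := fun n => by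
        obtain _ | n := n
        · rw [Homotopy.dNext_cochainComplex, Homotopy.prevD_zero_cochainComplex, hH, add_zero]
          have e : (ψ ≫ φ).f 0 = g₀ ≫ f₀ := by simp [φ, ψ]
          rw [e]
          ext x
          refine cval_ext U F fun a => ?_
          refine Eq.symm ((map_add (cvalHom U F a).hom _ _).trans ?_)
          change cval U F a (hh 0 (C.d 0 1 x)) + cval U F a (f₀ (F.map (homOfLE hi₀).op (cval U F i₀ x))) = cval U F a x
          rw [key0, hf₀, hc, sub_add_cancel]
        · rw [Homotopy.dNext_cochainComplex, Homotopy.prevD_succ_cochainComplex, hH, hH]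
          have e : (ψ ≫ φ).f (n + 1) = 0 := by
            rw [HomologicalComplex.comp_f]
            exact (HomologicalComplex.isZero_single_obj_X (ComplexShape.up ℕ) 0 _ (n + 1) (by simp)).eq_of_tgt (ψ.f (n + 1)) 0 ▸ zero_comp
          rw [e, add_zero]
          ext x
          refine cval_ext U F fun a => ?_
          refine Eq.symm ((map_add (cvalHom U F a).hom _ _).trans ?_)
          change cval U F a (hh (n + 1) (C.d (n + 1) (n + 2) x)) + cval U F a (C.d n (n + 1) (hh n x)) = cval U F a x
          rw [key, sub_add_cancel] }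
  exact ⟨{ hom := φ, inv := ψ, homotopyHomInvId := Homotopy.ofEq hgf, homotopyInvHomId := hom'.symm }⟩

end Groth.Agent.S0885
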