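import Groth.Statements.S0886
import Groth.Agent.Lib.SiteCoh.CechPush
import Groth.Agent.Lib.SiteCoh.CechExt
import Groth.Agent.Lib.SiteCoh.ModuleExt

set_option autoImplicit false
universe u
open CategoryTheory
open CohSite

namespace Groth.Agent.S0886
set_option linter.style.haveILetI false
set_option backward.isDefEq.respectTransparency false
set_option backward.isDefEq.respectTransparency.types false
open CategoryTheory CategoryTheory.Limits Opposite Groth.Agent.SiteCoh in
/-- cohomology on a terminal object is cohomology -/
noncomputable def hTerminal {C : Type u} [SmallCategory C] (J : GrothendieckTopology C) {T : C} (hT : IsTerminal T)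
    (F : Sheaf J AddCommGrpCat.{u}) (p : ℕ) : CohSite.HU F p T ≃+ Sheaf.H.{u} F p :=
  let e : yoneda.obj T ⋙ AddCommGrpCat.free.{u} ≅ (Functor.const Cᵒᵖ).obj (AddCommGrpCat.of (ULift.{u} ℤ)) :=
    Functor.isoWhiskerRight (NatIso.ofComponents (fun V => Equiv.toIso
      ⟨fun _ => PUnit.unit, fun _ => hT.from V.unop, fun _ => hT.hom_ext _ _, fun _ => rfl⟩) (fun _ => rfl) :
        yoneda.obj T ≅ (Functor.const Cᵒᵖ).obj PUnit.{u + 1}) AddCommGrpCat.free.{u} ≪≫
      NatIso.ofComponents (fun _ => freePointIso) (fun _ =>
        ((congrArg (· ≫ freePointIso.hom) (AddCommGrpCat.free.{u}.map_id _)).trans (Category.id_comp _)).trans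
          (Category.comp_id _).symm)
  extPreEquiv ((presheafToSheaf J AddCommGrpCat.{u}).mapIso e).symm F p


open CategoryTheory.Limits in
/-- Let u : C → D be a functor between sites which is cocontinuous, continuous (it sends coverings to
coverings and commutes with fibre products, which exist in C), fully faithful, and sends a final
object of C to a final object of D. For an abelian sheaf F on D let g^{-1}F be the sheaf U ↦ F(u(U))
on C. Then H^p(C, g^{-1}F) ≅ H^p(D, F) for all p. This is the comparison of global cohomology; the
comparison object by object holds under weaker hypotheses and is a separate statement. -/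
theorem result {C D : Type u} [SmallCategory C] [SmallCategory D]
    (J : GrothendieckTopology C) (K : GrothendieckTopology D) (u : C ⥤ D)
    [u.IsCocontinuous J K] [u.IsContinuous J K] (hu : CoverPreserving J K u) [u.Full] [u.Faithful]
    [HasPullbacks C] [PreservesLimitsOfShape WalkingCospan u]
    [HasTerminal C] [PreservesLimit (Functor.empty.{0} C) u]
    (F : Sheaf K AddCommGrpCat.{u}) (p : ℕ) :
    Nonempty (Sheaf.H ((CohSite.push K J u).obj F) p ≃+ Sheaf.H F p) := by
  exact ⟨((hTerminal J terminalIsTerminal _ p).symm.trans
    (Groth.Agent.SiteCoh.nonempty_pushEquiv u J K F (⊤_ C) p).some.symm).trans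
      (hTerminal K (terminalIsTerminal.isTerminalObj u _) F p)⟩

end Groth.Agent.S0886
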