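import Groth.Statements.S0891
import Groth.Agent.Lib.CohMop.TensorDerived
import Groth.Agent.Lib.TensorMod.Basic
-- import your own Groth.Agent.* helpers here

set_option autoImplicit false
universe u
open CategoryTheory
open Coh

namespace Groth.Agent.S0891

open AlgebraicGeometry in
/-- On a scheme X, let I be an injective 𝒪_X-module and E a finite locally free 𝒪_X-module. Then E ⊗ I
is an injective 𝒪_X-module. (The published statement is for ringed spaces; it is stated here for
schemes.) -/
theorem result {X : Scheme.{u}} (I E : X.Modules) [Injective I]
    (hE : FlatMod.IsFinLocFree E) : Injective (CohB1.tensorMod E I) := by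
  haveI := Groth.Agent.CohMop.preservesInjective_tenR hE
  exact CategoryTheory.Injective.of_iso (Groth.Agent.M2.tensorComm I E)
    ((Groth.Agent.CohMop.tenR E).injective_obj_of_injective ‹_›)

end Groth.Agent.S0891
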