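import Groth.Statements.S0893
import Groth.Agent.Lib.RHom.Compact
-- import your own Groth.Agent.* helpers here

set_option autoImplicit false
universe u
open CategoryTheory
attribute [local instance] HasDerivedCategory.standard
open DCoh

namespace Groth.Agent.S0893

open AlgebraicGeometry CategoryTheory.Limits in
/-- Schemes; a quasi-compact quasi-separated scheme satisfies the topological hypotheses of the source:
for a perfect object K of D(O_X) on a quasi-compact quasi-separated scheme X: (a) For every family
(M_i) of objects of D(O_X) which are uniformly bounded below and whose direct sum exists, the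
canonical map ⊕_i Hom(K, M_i) -> Hom(K, ⊕_i M_i) is bijective. (b) If moreover there is d with
H^i(X, F) = 0 for all i > d and all O_X-modules F, the same holds for every family whose direct sum
exists. (Index types are lifted one universe because morphism sets of this model of D(O_X) live one
universe up.) -/
theorem result {X : Scheme.{u}} [CompactSpace X] [QuasiSeparatedSpace X]
    (K : DCoh.D X) (hK : DCoh.IsPerfect K) :
    (∀ (I : Type u) (M : I → DCoh.D X) [HasCoproduct fun i : ULift.{u + 1} I => M i.down] (a : ℤ),
      (∀ i, (M i).IsGE a) →
      Function.Bijective (CohDer.homSumToHomCoprod K (fun i : ULift.{u + 1} I => M i.down))) ∧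
    ((∃ d : ℕ, ∀ (F : X.Modules) (i : ℕ), d < i → Subsingleton (Coh.HH X F i)) →
      ∀ (I : Type u) (M : I → DCoh.D X) [HasCoproduct fun i : ULift.{u + 1} I => M i.down],
      Function.Bijective (CohDer.homSumToHomCoprod K (fun i : ULift.{u + 1} I => M i.down))) := by
  refine ⟨fun I M _ a hM => ?_, fun hcd I M _ => ?_⟩
  · obtain ⟨b, hb⟩ := DPerf.exists_isLE_of_pseudoCoherent (X := X) (m := 0)
      (DPerf.isPseudoCoherentD_of_approx ((DPerf.isPerfect_iff_approx.1 hK).mono_set (Set.subset_univ _)))
    refine RHom.bijective_homSumToHomCoprod hK M fun E _ _ ⟨e⟩ _ g => RHom.finFac_qO _ (a - b) (fun i => ?_) g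
    have : (M i).IsGE a := hM i
    exact RHom.isGE_rhom E b (DerivedCategory.TStructure.t.isLE_of_iso e.symm b) (M i) a
  · exact RHom.bijective_homSumToHomCoprod hK M fun E _ _ _ _ g => RHom.finFac_qO_of_cd hcd _ g

end Groth.Agent.S0893
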