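import Groth.Statements.S0894
import Groth.Agent.Lib.HyperH28.Basic

set_option autoImplicit false
universe u
open CategoryTheory
open Hyper

namespace Groth.Agent.S0894

open Opposite in
/-- For a hypercovering K of an object X of a site with fibre products (a simplicial semi-representable
object over X; coskeleta are assumed to exist): (1) for each n the family K_n is a covering of X,
and (2) every face map d_i : K_{n+1} -> K_n is a covering morphism of semi-representable objects. -/
theorem result {C : Type u} [SmallCategory C] [Limits.HasPullbacks C]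
    (J : GrothendieckTopology C) (X : C) (K : SimplicialObject (Limits.FormalCoproduct.{u} (Over X)))
    [∀ (n : ℕ) (F : (SimplexCategory.Truncated n)ᵒᵖ ⥤ Limits.FormalCoproduct.{u} (Over X)),
      (SimplexCategory.Truncated.inclusion n).op.HasRightKanExtension F]
    (hK : Hyper.IsHypercovering J X K) :
    (∀ n : ℕ, Sieve.ofArrows (fun i => ((K.obj (op (SimplexCategory.mk n))).obj i).left)
      (fun i => ((K.obj (op (SimplexCategory.mk n))).obj i).hom) ∈ J X) ∧
    ∀ (n : ℕ) (i : Fin (n + 2)), Hyper.IsSRCovering (J.over X) (K.δ i) := by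
  refine ⟨fun n => ?_, fun n i => ?_⟩
  · let d := K.map (SimplexCategory.const (SimplexCategory.mk n) (SimplexCategory.mk 0) 0).op
    refine J.superset_covering ?_ hK.1
    rintro V g ⟨W, a, _, ⟨i⟩, rfl⟩
    exact ⟨_, a ≫ (d.φ i).left, _, Presieve.ofArrows.mk (d.f i), by simp⟩
  · rcases Fin.eq_castSucc_or_eq_last i with ⟨j, rfl⟩ | rfl
    · exact Groth.Agent.HyperH28.isSRCovering_of_splitEpi _ (K.σ j) K.δ_comp_σ_self
    · exact Groth.Agent.HyperH28.isSRCovering_of_splitEpi _ (K.σ (Fin.last n)) (K.δ_comp_σ_succ' (Fin.succ_last n).symm)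

end Groth.Agent.S0894
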