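import Groth.Statements.S0895
import Groth.Agent.Lib.HyperH28.Cech
import Groth.Agent.Lib.HyperH28.OverSite
import Groth.Agent.Lib.SiteCoh.OverSite

set_option autoImplicit false
universe u
open CategoryTheory
open Hyper

namespace Groth.Agent.S0895

open Opposite CategoryTheory.Limits in
/-- Let C be a site with fibre products, X an object of C, K a hypercovering of X and I an injective
abelian sheaf. Then the Čech cohomology groups of I with respect to K vanish in all positive
degrees. (Degree zero is stated separately; the existence of the right Kan extensions used to form
coskeleta is assumed as an instance binder.) -/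
theorem result {C : Type u} [SmallCategory C] [HasPullbacks C]
    (J : GrothendieckTopology C) (X : C) (K : SimplicialObject (FormalCoproduct.{u} (Over X)))
    [∀ (n : ℕ) (F : (SimplexCategory.Truncated n)ᵒᵖ ⥤ Limits.FormalCoproduct.{u} (Over X)),
      (SimplexCategory.Truncated.inclusion n).op.HasRightKanExtension F]
    (hK : Hyper.IsHypercovering J X K) (I : Sheaf J AddCommGrpCat.{u}) [Injective I] :
    ∀ p : ℕ, IsZero (Hyper.cechH X K I.obj (p + 1)) := by
  intro p
  haveI : Injective (I.over X) := Groth.Agent.SiteCoh.injective_restrict J X I inferInstance
  exact Groth.Agent.HyperH28.isZero_cech_succ K (J.over X)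
    (Groth.Agent.HyperH28.isLocContr_of_site K (J.over X) (Groth.Agent.HyperH28.isHypercoveringSite_over J X K hK))
    (I.over X) p

end Groth.Agent.S0895
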