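import Groth.Statements.S0899
import Groth.Agent.Lib.MilnorSh16.Main

set_option autoImplicit false
universe u
open CategoryTheory
open CohSite

namespace Groth.Agent.S0899

open Opposite CategoryTheory.Limits in
/-- Let (F_n) be an inverse system of complexes of abelian sheaves on a site, m an integer, B a class of
objects such that every object is covered by members of B, and n₀ an index such that for every U in
B: (a) the inverse systems of sections F_n^{m−2}(U) and F_n^{m−1}(U) have vanishing R¹ lim, (b) the
inverse system H^{m−1}(F_n(U)) has vanishing R¹ lim, (c) H^m(F_n(U)) → H^m(F_{n₀}(U)) is an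
isomorphism for every n ≥ n₀. Then for the termwise limit F = lim F_n the map H^m(F) → H^m(F_{n₀})
of cohomology sheaves is an isomorphism. (Here the sheaves are abelian sheaves, and the conclusion
is stated as the isomorphism H^m(F) → H^m(F_{n₀}); the published statement's setting and phrasing
differ in these respects.) -/
theorem result {C : Type u} [SmallCategory C] (J : GrothendieckTopology C)
    (F : ℕ → CochainComplex (Sheaf J AddCommGrpCat.{u}) ℤ) (t : ∀ n, F (n + 1) ⟶ F n) (m : ℤ)
    (B : Set C)
    (hB : ∀ U : C, ∃ (ι : Type u) (Y : ι → C) (f : ∀ i, Y i ⟶ U), Sieve.ofArrows Y f ∈ J U ∧ ∀ i, Y i ∈ B)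
    (n₀ : ℕ)
    (ha : ∀ U ∈ B, ∀ j : ℤ, (j = m - 2 ∨ j = m - 1) →
      CohCx.LimOneIsZero (fun n => ((F n).X j).obj.obj (op U)) (fun n => (((t n).f j).hom.app (op U)).hom))
    (hb : ∀ U ∈ B, CohCx.LimOneIsZero
      (fun n => ((CohCx.sectCx J U).obj (F n)).homology (m - 1))
      (fun n => (HomologicalComplex.homologyMap ((CohCx.sectCx J U).map (t n)) (m - 1)).hom))
    (hc : ∀ U ∈ B, ∀ k : ℕ, IsIso (HomologicalComplex.homologyMap
      ((CohCx.sectCx J U).map (CohCx.transition F t n₀ k)) m)) :
    IsIso (HomologicalComplex.homologyMap (limit.π (CohCx.opSequence F t) (op n₀)) m) := by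
  exact Groth.Agent.MilnorSh16.isIso_homologyMap_limit J F t m B hB n₀ ha hb hc

end Groth.Agent.S0899
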