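import Groth.Statements.S0900
import Groth.Agent.Lib.ExactProd8.Prod
import Groth.Agent.Lib.AcyclicSum8.Main
import Groth.Agent.Lib.SiteRlim16.RF

set_option autoImplicit false
universe v u
open CategoryTheory
open CohDer

namespace Groth.Agent.S0900

set_option backward.isDefEq.respectTransparency false

open Pretriangulated


open CategoryTheory.Limits in
/-- Let F : A -> B be an additive functor between abelian categories with A Grothendieck abelian, B
having exact countable products (here: ℕ-indexed products exist and preserve epimorphisms) and F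
commuting with ℕ-indexed products. Then the total right derived functor RF : D(A) -> D(B) (whose
existence is assumed as an instance argument; it exists because A has enough K-injective complexes)
sends a derived limit of an inverse system (K_n) to a derived limit of (RF K_n). The relevant
countable products in the derived categories are assumed to exist. -/
theorem result {A : Type u} [Category.{v} A] [Abelian A] [IsGrothendieckAbelian.{v} A]
    [HasDerivedCategory.{v} A] {B : Type u} [Category.{v} B] [Abelian B] [HasDerivedCategory.{v} B]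
    [HasProductsOfShape ℕ B] [(lim : (Discrete ℕ ⥤ B) ⥤ B).PreservesEpimorphisms]
    (F : A ⥤ B) [F.Additive] [PreservesLimitsOfShape (Discrete ℕ) F]
    [(F.mapHomotopyCategory (ComplexShape.up ℤ) ⋙ DerivedCategory.Qh).HasRightDerivedFunctor
      (HomotopyCategory.quasiIso A (ComplexShape.up ℤ))]
    (K : ℕ → DerivedCategory A) (t : ∀ n, K (n + 1) ⟶ K n) (L : DerivedCategory A) [HasProduct K]
    [HasProduct fun n => ((F.mapHomotopyCategory (ComplexShape.up ℤ) ⋙ DerivedCategory.Qh).totalRightDerived
      DerivedCategory.Qh (HomotopyCategory.quasiIso A (ComplexShape.up ℤ))).obj (K n)]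
    (hL : DCoh.IsRlim K t L) :
    DCoh.IsRlim
      (fun n => ((F.mapHomotopyCategory (ComplexShape.up ℤ) ⋙ DerivedCategory.Qh).totalRightDerived
        DerivedCategory.Qh (HomotopyCategory.quasiIso A (ComplexShape.up ℤ))).obj (K n))
      (fun n => ((F.mapHomotopyCategory (ComplexShape.up ℤ) ⋙ DerivedCategory.Qh).totalRightDerived
        DerivedCategory.Qh (HomotopyCategory.quasiIso A (ComplexShape.up ℤ))).map (t n))
      (((F.mapHomotopyCategory (ComplexShape.up ℤ) ⋙ DerivedCategory.Qh).totalRightDerived
        DerivedCategory.Qh (HomotopyCategory.quasiIso A (ComplexShape.up ℤ))).obj L) := by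
  let RF := (F.mapHomotopyCategory (ComplexShape.up ℤ) ⋙ DerivedCategory.Qh).totalRightDerived
    DerivedCategory.Qh (HomotopyCategory.quasiIso A (ComplexShape.up ℤ))
  let α := (F.mapHomotopyCategory (ComplexShape.up ℤ) ⋙ DerivedCategory.Qh).totalRightDerivedUnit
    DerivedCategory.Qh (HomotopyCategory.quasiIso A (ComplexShape.up ℤ))
  haveI : HasExactLimitsOfShape (Discrete ℕ) B := hasExactLimitsOfShape_of_preservesEpi B (Discrete ℕ)
  choose I hI he using fun n => KInjLib.exists_iso_kInjective (K n)
  haveI := hI
  let c : Fan fun n => (F.mapHomologicalComplex (ComplexShape.up ℤ)).obj (I n) :=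
    Fan.mk ((F.mapHomologicalComplex (ComplexShape.up ℤ)).obj (∏ᶜ I))
      fun n => (F.mapHomologicalComplex (ComplexShape.up ℤ)).map (Pi.π I n)
  have hc : IsLimit c := HomologicalComplex.isLimitOfEval _ _ fun m =>
    (isLimitMapConeFanMkEquiv (HomologicalComplex.eval B (ComplexShape.up ℤ) m) _ _).symm
      (isLimitFanMkObjOfIsLimit F _ _
        (isLimitFanMkObjOfIsLimit (HomologicalComplex.eval A (ComplexShape.up ℤ) m) _ _ (productIsProduct I)))
  obtain ⟨h1⟩ := ExactProd8.isLimit_Q c hc
  have h2 := KInjLib.isLimitPi I hI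
  haveI : (∏ᶜ I).IsKInjective := KInjLib.isKInjective_pi I hI
  haveI hβ : ∀ J : CochainComplex A ℤ, J.IsKInjective → IsIso ((AcyclicSum8.β F RF α).app J) := fun J _ =>
    AcyclicSum8.isIso_β_kinj F RF α J
  haveI := hβ _ this
  haveI : ∀ n, IsIso ((AcyclicSum8.β F RF α).app (I n)) := fun n => hβ _ (hI n)
  let ε : Discrete.functor (fun n => DerivedCategory.Q.obj ((F.mapHomologicalComplex (ComplexShape.up ℤ)).obj (I n))) ≅
      Discrete.functor (fun n => RF.obj (DerivedCategory.Q.obj (I n))) :=
    Discrete.natIso fun n => @asIso (DerivedCategory B) _ _ _ ((AcyclicSum8.β F RF α).app (I n.as)) inferInstance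
  haveI hpres : PreservesLimit (Discrete.functor fun n => DerivedCategory.Q.obj (I n)) RF :=
    preservesLimit_of_preserves_limit_cone h2 ((isLimitMapConeFanMkEquiv RF _ _).symm
      (((IsLimit.postcomposeHomEquiv ε _).symm h1).ofIsoLimit
        (Cone.ext (@asIso (DerivedCategory B) _ _ _ ((AcyclicSum8.β F RF α).app (∏ᶜ I)) inferInstance)
          fun ⟨n⟩ => (AcyclicSum8.β F RF α).naturality (Pi.π I n))))
  haveI : PreservesLimit (Discrete.functor K) RF :=
    preservesLimit_of_iso_diagram RF (Discrete.natIso fun n => (he n.as).some.symm :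
      (Discrete.functor fun n => DerivedCategory.Q.obj (I n)) ≅ Discrete.functor K)
  obtain ⟨_, _⟩ := SiteRlim.exists_commShift_isTriangulated_map α KInjLib.enoughKInj_of_grothendieck
  obtain ⟨a, c', hd⟩ := hL
  haveI : IsIso (piComparison RF K) := inferInstance
  have hd' := RF.map_distinguished _ hd
  refine ⟨RF.map a ≫ piComparison RF K,
    CategoryTheory.inv (piComparison RF K) ≫ RF.map c' ≫ (RF.commShiftIso (1 : ℤ)).hom.app L, ?_⟩
  refine isomorphic_distinguished _ hd' _ (Triangle.isoMk _ _ (Iso.refl _) (asIso (piComparison RF K)).symm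
    (asIso (piComparison RF K)).symm ?_ ?_ ?_)
  · simp [Functor.mapTriangle]
  · simp only [Triangle.mk_mor₂, Functor.mapTriangle_obj, Iso.symm_hom, asIso_inv]
    rw [IsIso.comp_inv_eq, Category.assoc, IsIso.eq_inv_comp]
    exact Pi.hom_ext _ _ fun n => by
      simp [Functor.mapTriangle, Functor.map_sub, Functor.map_comp, piComparison_comp_π_assoc, RF]
  · simp [Functor.mapTriangle]; rfl


end Groth.Agent.S0900
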