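import Groth.Statements.S0901
import Groth.Agent.Lib.CechFlasque16.Main

set_option autoImplicit false
universe u
open CategoryTheory
open CohTop

namespace Groth.Agent.S0901

open TopologicalSpace Opposite CategoryTheory.Limits in
/-- Let F be an abelian sheaf on X and U_i a family of opens with union U. Assume that for every union
U' of opens of the form U_{i_0} ∩ ... ∩ U_{i_p} the restriction map F(U) -> F(U') is surjective.
Then the Cech cohomology of F with respect to the family vanishes in all positive degrees. -/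
theorem result {X : TopCat.{u}} (F : CohTop.Ab X)
    {ι : Type u} (U : ι → Opens X)
    (h : ∀ (κ : Type u) (a : κ → Σ p : ℕ, Fin (p + 1) → ι),
      Function.Surjective (F.obj.map (homOfLE
        (iSup_le fun k => (iInf_le _ ⟨0, Nat.succ_pos _⟩).trans (le_iSup U ((a k).2 ⟨0, Nat.succ_pos _⟩)) :
          (⨆ k, ⨅ j, U ((a k).2 j)) ≤ iSup U)).op)) (p : ℕ) :
    IsZero (CohTop.cechH F.obj U (p + 1)) := by
  refine Groth.Agent.CechFlasque16.isZero_cechH F U (fun W hW hWP => ?_) p
  obtain ⟨s, hs, rfl⟩ := hWP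
  choose q t ht using hs
  let a : s → Σ p : ℕ, Fin (p + 1) → ι := fun A => ⟨q A.1 A.2, t A.1 A.2⟩
  have e : sSup s = ⨆ k, ⨅ j, U ((a k).2 j) := by
    rw [sSup_eq_iSup']
    exact iSup_congr fun A => ht A.1 A.2
  intro x
  obtain ⟨y, hy⟩ := h s a (Groth.Agent.CechFlasque16.res F.obj e.ge x)
  refine ⟨y, ?_⟩
  have := congrArg (Groth.Agent.CechFlasque16.res F.obj e.le) hy
  refine Eq.trans ?_ (this.trans ?_)
  · exact (Groth.Agent.CechFlasque16.res_res F.obj _ _ y).symm
  · rw [Groth.Agent.CechFlasque16.res_res]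
    exact Groth.Agent.CechFlasque16.res_rfl F.obj x

end Groth.Agent.S0901
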