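import Groth.Statements.S0907
import Groth.Agent.Lib.HyperH28.InClass

set_option autoImplicit false
universe u
open CategoryTheory
open Hyper

namespace Groth.Agent.S0907

open TopologicalSpace Opposite CategoryTheory.Limits in
/-- Phrased in the site of opens of X, with X the top open: let B be a basis for the topology of X. Then
there is a hypercovering K of X such that every open occurring in every K_n belongs to B. -/
theorem result {X : TopCat.{u}} (B : Set (Opens X)) (hB : Opens.IsBasis B)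
    [∀ (n : ℕ) (F : (SimplexCategory.Truncated n)ᵒᵖ ⥤ Limits.FormalCoproduct.{u} (Over (⊤ : Opens X))),
      (SimplexCategory.Truncated.inclusion n).op.HasRightKanExtension F] :
    ∃ K : SimplicialObject (FormalCoproduct.{u} (Over (⊤ : Opens X))),
      Hyper.IsHypercovering (Opens.grothendieckTopology X) ⊤ K ∧
      ∀ (n : ℕ) (i : (K.obj (op (SimplexCategory.mk n))).I),
        ((K.obj (op (SimplexCategory.mk n))).obj i).left ∈ B := by
  have h : ∀ U : Opens X, ∃ (ι' : Type u) (V : ι' → Opens X) (f : ∀ i, V i ⟶ U),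
      Sieve.ofArrows V f ∈ Opens.grothendieckTopology X U ∧ ∀ i, V i ∈ B := by
    intro U
    refine ⟨{W : Opens X // W ∈ B ∧ W ≤ U}, fun W => W.1, fun W => homOfLE W.2.2, ?_, fun W => W.2.1⟩
    intro x hx
    obtain ⟨W, hW, hxW, hWU⟩ := Opens.isBasis_iff_nbhd.1 hB hx
    exact ⟨W, homOfLE hWU, (Sieve.mem_ofArrows_iff _ _ _).2 ⟨⟨W, hW, hWU⟩, 𝟙 W, rfl⟩, hxW⟩
  choose ι' Y f hf hY using h
  obtain ⟨K, hK, hP⟩ := Groth.Agent.HyperH28.exists_hyp_all (Groth.Agent.HyperH28.covOver
    (Opens.grothendieckTopology X) ⊤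
    (⟨ι', Y, f, hf, hY⟩ : Groth.Agent.HyperH28.CovData (Opens.grothendieckTopology X) (· ∈ B)))
  exact ⟨K, Groth.Agent.HyperH28.isHypercovering_of_fills _ _ hK, hP⟩

end Groth.Agent.S0907
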