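import Groth.Statements.S0909
import Mathlib
import Groth.Agent.Lib.ToposFin.Deligne

set_option autoImplicit false
universe u
open CategoryTheory
open CohDer

namespace Groth.Agent.S0909

open CategoryTheory.Limits Opposite

variable {A : Type u} [SmallCategory A] [Abelian A] [Preregular A]

lemma isSheaf_pyoneda (X : A) :
    Presheaf.IsSheaf (regularTopology A) (preadditiveYoneda.obj X) :=
  Presheaf.isSheaf_of_isSheaf_comp (regularTopology A) _ (forget AddCommGrpCat.{u})
    ((isSheaf_iff_isSheaf_of_type _ _).2
      (GrothendieckTopology.Subcanonical.isSheaf_of_isRepresentable (yoneda.obj X)))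

noncomputable def F' : A ⥤ Sheaf (regularTopology A) AddCommGrpCat.{u} where
  obj X := ⟨preadditiveYoneda.obj X, isSheaf_pyoneda X⟩
  map f := ⟨preadditiveYoneda.map f⟩
  map_id X := by ext1; exact preadditiveYoneda.map_id X
  map_comp f g := by ext1; exact preadditiveYoneda.map_comp f g

noncomputable def iso : preadditiveYoneda ⋙ presheafToSheaf (regularTopology A) AddCommGrpCat.{u} ≅ (F' : A ⥤ _) :=
  NatIso.ofComponents
    (fun X => (asIso (sheafificationAdjunction (regularTopology A) AddCommGrpCat.{u}).counit).app (F'.obj X))
    (fun {X Y} f => by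
      exact (sheafificationAdjunction (regularTopology A) AddCommGrpCat.{u}).counit.naturality (F'.map f))

noncomputable def ffF' : (F' : A ⥤ _).FullyFaithful :=
  Functor.FullyFaithful.ofCompFaithful (G := sheafToPresheaf (regularTopology A) AddCommGrpCat.{u})
    (show (preadditiveYoneda : A ⥤ Aᵒᵖ ⥤ AddCommGrpCat.{u}).FullyFaithful from .ofFullyFaithful _)

instance : PreservesFiniteLimits (F' : A ⥤ _) :=
  have : PreservesFiniteLimits (preadditiveYoneda : A ⥤ Aᵒᵖ ⥤ AddCommGrpCat.{u}) :=
    ⟨fun J _ _ => preservesLimitsOfShape_of_evaluation _ _ fun k =>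
      inferInstanceAs (PreservesLimitsOfShape J (preadditiveCoyoneda.obj k))⟩
  have : PreservesFiniteLimits ((F' : A ⥤ _) ⋙ sheafToPresheaf _ _) :=
    inferInstanceAs (PreservesFiniteLimits (preadditiveYoneda : A ⥤ Aᵒᵖ ⥤ AddCommGrpCat.{u}))
  preservesFiniteLimits_of_reflects_of_preserves (F' : A ⥤ _) (sheafToPresheaf _ _)

lemma epi_F'_map {X Y : A} (p : X ⟶ Y) [Epi p] : Epi ((F' : A ⥤ _).map p) := by
  rw [← Sheaf.isLocallySurjective_iff_epi']
  refine (regularTopology.isLocallySurjective_iff AddCommGrpCat.{u} (preadditiveYoneda.map p)).2 fun Z y => ?_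
  refine ⟨pullback (C := A) (show Z ⟶ Y from y) p, pullback.fst _ _, (haveI : Epi (pullback.fst (show Z ⟶ Y from y) p) := Abelian.epi_pullback_of_epi_g _ _; haveI := IsRegularEpiCategory.regularEpiOfEpi (pullback.fst (show Z ⟶ Y from y) p); inferInstance),
    pullback.snd _ _, ?_⟩
  exact pullback.condition.symm



open CategoryTheory.Limits in
/-- Let A be a small abelian category, made into a site by declaring the single epimorphisms to be
coverings (Mathlib's regular topology; the regularity instance is assumed). Then the functor X ↦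
h_X, viewed in abelian sheaves (here: additive Yoneda followed by sheafification, which does not
change h_X since representables are sheaves), is fully faithful and exact, and the site has enough
points (a small conservative family of points, with fibre functors valued in Type u). -/
theorem result {A : Type u} [SmallCategory A] [Abelian A] [Preregular A] :
    (preadditiveYoneda ⋙ presheafToSheaf (regularTopology A) AddCommGrpCat.{u}).Full ∧
    (preadditiveYoneda ⋙ presheafToSheaf (regularTopology A) AddCommGrpCat.{u}).Faithful ∧
    PreservesFiniteLimits (preadditiveYoneda ⋙ presheafToSheaf (regularTopology A) AddCommGrpCat.{u}) ∧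
    PreservesFiniteColimits (preadditiveYoneda ⋙ presheafToSheaf (regularTopology A) AddCommGrpCat.{u}) ∧
    GrothendieckTopology.HasEnoughPoints.{u, u, u} (regularTopology A) := by
  have hadd : (F' : A ⥤ _).Additive := Functor.additive_of_preserves_binary_products _
  have hepi : PreservesFiniteColimits (F' : A ⥤ _) :=
    (Functor.preservesFiniteColimits_iff_forall_exact_map_and_epi _).2 fun S hS =>
      ⟨((Functor.preservesFiniteLimits_iff_forall_exact_map_and_mono _).1 inferInstance S hS).1,
        have := hS.epi_g; epi_F'_map S.g⟩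
  have e := iso (A := A)
  refine ⟨?_, ?_, ?_, ?_, ?_⟩
  · haveI := (ffF' (A := A)).full; exact Functor.Full.of_iso e.symm
  · haveI := (ffF' (A := A)).faithful; exact Functor.Faithful.of_iso e.symm
  · exact preservesFiniteLimits_of_natIso e.symm
  · exact preservesFiniteColimits_of_natIso e.symm
  · refine ToposFin.Deligne.hasEnoughPoints fun U S hS => ?_
    obtain ⟨V, π, hπ, hS'⟩ := (regularTopology.mem_sieves_iff_hasEffectiveEpi _).1 hS
    refine ⟨1, fun _ => V, fun _ => π, fun _ => hS', ?_⟩
    exact (regularTopology.mem_sieves_iff_hasEffectiveEpi _).2 ⟨V, π, hπ, V, 𝟙 V, π, ⟨0⟩, Category.id_comp π⟩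


end Groth.Agent.S0909
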