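import Groth.Statements.S0911
import Groth.Agent.Lib.KFlat.LpullComp
-- import your own Groth.Agent.* helpers here

set_option autoImplicit false
universe u
open CategoryTheory
attribute [local instance] HasDerivedCategory.standard
open DCoh

namespace Groth.Agent.S0911

open AlgebraicGeometry in
/-- For morphisms of schemes f : X → Y and g : Y → Z the composite of derived pullbacks Lf^* ∘ Lg^* is
isomorphic to L(g ∘ f)^* as functors D(O_Z) → D(O_X). The derived pullbacks are total left derived
functors whose existence is assumed through instance arguments; the assertion is the existence of an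
isomorphism of functors. The published statement is for ringed spaces; stated here for schemes. -/
theorem result {X Y Z : Scheme.{u}} (f : X ⟶ Y) (g : Y ⟶ Z)
    [DCoh.HasLpull f] [DCoh.HasLpull g] [DCoh.HasLpull (f ≫ g)] :
    Nonempty (DCoh.Lpull g ⋙ DCoh.Lpull f ≅ DCoh.Lpull (f ≫ g)) := by
  exact ⟨Groth.Agent.KFlat.Sch.lpullCompIso f g⟩

end Groth.Agent.S0911
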