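import Groth.Statements.S0915
import Groth.Agent.Lib.KFlat.TorCriterion
-- import your own Groth.Agent.* helpers here

set_option autoImplicit false
universe u
open CategoryTheory
attribute [local instance] HasDerivedCategory.standard
open DCoh

namespace Groth.Agent.S0915

open AlgebraicGeometry CategoryTheory.Limits in
/-- On a scheme X, let K and L be objects of D(𝒪_X). If K ⊕ L has tor-amplitude in [a, b] then K and L
each have tor-amplitude in [a, b]. (The hypothesis is taken in the flat-representative form and the
conclusion in the derived-tensor form.) -/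
theorem result {X : Scheme.{u}} (K L : DCoh.D X) [HasBinaryBiproduct K L] (a b : ℤ)
    (h : DCoh.HasFlatAmplitudeIn a b (K ⊞ L)) : DCoh.HasTorAmplitudeIn a b K ∧ DCoh.HasTorAmplitudeIn a b L := by
  have h' := Groth.Agent.KFlat.Sch.torAmplitude_of_flatAmplitude h
  refine ⟨fun M _ i hi => ?_, fun M _ i hi => ?_⟩
  · have := h' M i hi
    have : Mono (((DerivedCategory.homologyFunctor X.Modules i).map
        ((DCoh.LTensorMod M).map (biprod.inl : K ⟶ K ⊞ L)))) :=
      (IsSplitMono.mk' ⟨(DerivedCategory.homologyFunctor X.Modules i).map
        ((DCoh.LTensorMod M).map (biprod.fst : K ⊞ L ⟶ K)), by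
          rw [← Functor.map_comp, ← Functor.map_comp, biprod.inl_fst, CategoryTheory.Functor.map_id,
            CategoryTheory.Functor.map_id]⟩).mono
    exact IsZero.of_mono ((DerivedCategory.homologyFunctor X.Modules i).map
      ((DCoh.LTensorMod M).map (biprod.inl : K ⟶ K ⊞ L))) (h' M i hi)
  · have : Mono (((DerivedCategory.homologyFunctor X.Modules i).map
        ((DCoh.LTensorMod M).map (biprod.inr : L ⟶ K ⊞ L)))) :=
      (IsSplitMono.mk' ⟨(DerivedCategory.homologyFunctor X.Modules i).map
        ((DCoh.LTensorMod M).map (biprod.snd : K ⊞ L ⟶ L)), by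
          rw [← Functor.map_comp, ← Functor.map_comp, biprod.inr_snd, CategoryTheory.Functor.map_id,
            CategoryTheory.Functor.map_id]⟩).mono
    exact IsZero.of_mono ((DerivedCategory.homologyFunctor X.Modules i).map
      ((DCoh.LTensorMod M).map (biprod.inr : L ⟶ K ⊞ L))) (h' M i hi)

end Groth.Agent.S0915
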