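import Groth.Statements.S0919
import Mathlib

set_option autoImplicit false
universe v u
open CategoryTheory
open CohDer

namespace Groth.Agent.S0919


open CategoryTheory.Limits in
/-- Let A be a Grothendieck abelian category and F a contravariant functor from A to sets (a functor on
the opposite category). Then F is representable if and only if F turns all small colimits of A into
limits, i.e. preserves small limits as a functor on the opposite category. -/
theorem result {A : Type u} [Category.{v} A] [Abelian A]
    [IsGrothendieckAbelian.{v} A] (F : Aᵒᵖ ⥤ Type v) :
    F.IsRepresentable ↔ PreservesLimitsOfSize.{v, v} F := by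
  constructor
  · intro h
    obtain ⟨Y, ⟨e⟩⟩ := h.has_representation
    exact preservesLimits_of_natIso (Functor.representableByEquiv e)
  · intro hF
    haveI := isRightAdjoint_of_preservesLimits_of_isCoseparating.{v}
      ((isCoseparator_op_iff _).2 (isSeparator_separator A)) F
    let adj := Adjunction.ofIsRightAdjoint F
    refine (Functor.RepresentableBy.isRepresentable (Y := (F.leftAdjoint.obj PUnit).unop) ?_)
    exact
      { homEquiv := fun {X} =>
          { toFun := fun g => adj.homEquiv PUnit _ g.op PUnit.unit
            invFun := fun a => ((adj.homEquiv PUnit _).symm (TypeCat.ofHom fun _ => a)).unop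
            left_inv := fun g => Quiver.Hom.op_inj ((adj.homEquiv PUnit _).symm_apply_eq.2 (by ext; rfl))
            right_inv := fun a => by simp }
        homEquiv_comp := fun {X X'} f g => by
          show adj.homEquiv PUnit _ (f ≫ g).op PUnit.unit = _
          rw [op_comp, adj.homEquiv_naturality_right]
          rfl }


end Groth.Agent.S0919
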