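import Groth.Statements.S0921
import Groth.Agent.Lib.KFlat.LpullPC
-- import your own Groth.Agent.* helpers here

set_option autoImplicit false
universe u
open CategoryTheory
attribute [local instance] HasDerivedCategory.standard
open DCoh

namespace Groth.Agent.S0921

open AlgebraicGeometry in
/-- For f : X -> Y and a perfect object E of D(O_Y), the derived pullback Lf^* E (under its existence
binder) is perfect. -/
theorem result {X Y : Scheme.{u}} (f : X ⟶ Y) [DCoh.HasLpull f] (E : DCoh.D Y)
    (hE : DCoh.IsPerfect E) : DCoh.IsPerfect ((DCoh.Lpull f).obj E) := by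
  exact Groth.Agent.KFlat.Sch.isPerfect_lpull f hE

end Groth.Agent.S0921
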