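import Groth.Statements.S0923
import Groth.Agent.Lib.DPerf.Free
-- import your own Groth.Agent.* helpers here

set_option autoImplicit false
universe u
open CategoryTheory
attribute [local instance] HasDerivedCategory.standard
open DCoh

namespace Groth.Agent.S0923

open AlgebraicGeometry CategoryTheory.Limits in
/-- On a scheme X, an object E of D(𝒪_X) is perfect if and only if every point has an open neighbourhood
V such that the restriction to V of any complex representing E is isomorphic in D(𝒪_V) to a bounded
complex each of whose terms is isomorphic to a finite free 𝒪_V-module. (The published statement is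
for ringed spaces whose stalks are local rings and lists further equivalent conditions; here X is a
scheme and only this equivalence is stated.) -/
theorem result {X : Scheme.{u}} (E : DCoh.D X) :
    DCoh.IsPerfect E ↔ ∀ x : X, ∃ V : X.Opens, x ∈ V ∧
      ∀ F : CochainComplex X.Modules ℤ, Nonempty (DCoh.toD X F ≅ E) →
        ∃ (P : CochainComplex (V : Scheme.{u}).Modules ℤ) (a b : ℤ), DCoh.VanishesOutside P a b ∧
          (∀ i : ℤ, ∃ n : ℕ, Nonempty (P.X i ≅ FlatMod.freeMod (V : Scheme.{u}) n)) ∧
          Nonempty (DerivedCategory.Q.obj ((DCoh.restrictCx V).obj F) ≅ DerivedCategory.Q.obj P) := by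
  exact DPerf.isPerfect_iff_free E

end Groth.Agent.S0923
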