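import Groth.Statements.S0925
import Groth.Agent.Lib.CohFound16.ClosedEmb

set_option autoImplicit false
universe u
open CategoryTheory
open CohTop

namespace Groth.Agent.S0925
set_option linter.style.haveILetI false
set_option backward.isDefEq.respectTransparency false
set_option backward.isDefEq.respectTransparency.types false
open CategoryTheory CategoryTheory.Limits Groth.Agent.CohFound Groth.Agent.CohFound16 in


open TopologicalSpace in
/-- For an open U of X with closed complement Z and an injective abelian sheaf I on X, the sheaf H_Z(I),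
the sheaf on Z of sections of I supported in Z (pullback to Z of the kernel of I -> j_* j^{-1} I, j
: U -> X), is an injective abelian sheaf on Z. -/
theorem result {X : TopCat.{u}} (U : Opens X) (I : CohTop.Ab X) [Injective I] :
    Injective (CohCx.HZ U I) := by
  let i := CohCx.inclCompl U
  let j := CohCx.incl U
  have hi : Topology.IsClosedEmbedding i := (U.isOpen.isClosed_compl).isClosedEmbedding_subtypeVal
  have hj : Topology.IsInducing j := Topology.IsEmbedding.subtypeVal.isInducing
  let adjI := TopCat.Sheaf.pullbackPushforwardAdjunction AddCommGrpCat.{u} i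
  let adjJ := TopCat.Sheaf.pullbackPushforwardAdjunction AddCommGrpCat.{u} j
  haveI : IsIso adjI.counit := isIso_counit i hi.isInducing
  let ff := adjI.fullyFaithfulROfIsIsoCounit
  have hstalk : ∀ x : X, x ∉ Set.range i → IsZero (CohTop.stalk (CohCx.sectSupp U I) x) := by
    intro x hx
    have hxU : x ∈ U := by_contra fun h => hx ⟨⟨x, h⟩, rfl⟩
    let m : CohCx.sectSupp U I ⟶ I := kernel.ι (adjJ.unit.app I)
    haveI : Mono ((TopCat.Presheaf.stalkFunctor AddCommGrpCat.{u} x).map m.hom) := by
      rw [AddCommGrpCat.mono_iff_injective]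
      refine TopCat.Presheaf.stalkFunctor_map_injective_of_app_injective (fun V => ?_) x
      haveI : Mono m.hom := inferInstanceAs (Mono ((sheafToPresheaf _ _).map m))
      exact (AddCommGrpCat.mono_iff_injective _).1 inferInstance
    haveI := isIso_stalkUnit j I ⟨x, hxU⟩
    have h0 : (TopCat.Presheaf.stalkFunctor AddCommGrpCat.{u} x).map m.hom ≫ stalkUnit j I ⟨x, hxU⟩ = 0 := by
      have hm : m ≫ adjJ.unit.app I = 0 := kernel.condition _
      have hm' : m.hom ≫ unitHom j I = 0 := congrArg InducedCategory.Hom.hom hm
      change _ ≫ (TopCat.Presheaf.stalkFunctor AddCommGrpCat.{u} x).map (unitHom j I) ≫ _ = 0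
      rw [← Category.assoc, ← Functor.map_comp]
      refine (congrArg (fun q => (TopCat.Presheaf.stalkFunctor AddCommGrpCat.{u} x).map q ≫ _) hm').trans ?_
      haveI : (TopCat.Presheaf.stalkFunctor AddCommGrpCat.{u} x).PreservesZeroMorphisms :=
        Functor.preservesZeroMorphisms_of_isLeftAdjoint _
      erw [Functor.map_zero, zero_comp]
    exact IsZero.of_mono_eq_zero ((TopCat.Presheaf.stalkFunctor AddCommGrpCat.{u} x).map m.hom)
      (by rw [← cancel_mono (stalkUnit j I ⟨x, hxU⟩), h0, zero_comp])
  haveI := isIso_unit i hi (CohCx.sectSupp U I) hstalk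
  haveI : (CohTop.push i).IsRightAdjoint := ⟨_, ⟨adjI⟩⟩
  refine ⟨fun {A B} g a ha => ?_⟩
  let e := asIso (adjI.unit.app (CohCx.sectSupp U I))
  haveI : Mono ((CohTop.push i).map a) := inferInstance
  let h : (CohTop.push i).obj B ⟶ I :=
    Injective.factorThru ((CohTop.push i).map g ≫ e.inv ≫ kernel.ι (adjJ.unit.app I)) ((CohTop.push i).map a)
  have hz : IsZero ((CohTop.pull j).obj ((CohTop.push i).obj B)) := by
    rw [IsZero.iff_id_eq_zero]
    refine InducedCategory.hom_ext (NatTrans.ext (funext fun V => ?_))
    ext s
    refine TopCat.Presheaf.section_ext ((CohTop.pull j).obj ((CohTop.push i).obj B)) V.unop _ _ fun y hy => ?_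
    haveI := isIso_stalkUnit j ((CohTop.push i).obj B) y
    have hzy : IsZero (CohTop.stalk ((CohTop.pull j).obj ((CohTop.push i).obj B)) y) :=
      (isZero_stalk_push i hi.isClosed_range B (j y) (by
        rintro ⟨z, hz⟩
        refine z.2 ?_
        change z.1 = y.1 at hz
        rw [hz]
        exact y.2)).of_iso
        (asIso (stalkUnit j ((CohTop.push i).obj B) y)).symm
    exact @Subsingleton.elim _ (AddCommGrpCat.subsingleton_of_isZero hzy) _ _
  have h0 : h ≫ adjJ.unit.app I = 0 := by
    apply (adjJ.homEquiv _ _).symm.injective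
    exact hz.eq_of_src _ _
  refine ⟨ff.preimage (kernel.lift _ h h0 ≫ e.hom), ff.map_injective ?_⟩
  rw [Functor.map_comp, ff.map_preimage, ← Category.assoc, ← Iso.eq_comp_inv, ← cancel_mono (kernel.ι _),
    Category.assoc, kernel.lift_ι, Injective.comp_factorThru, Category.assoc]

end Groth.Agent.S0925
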