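import Groth.Statements.S0926
import Groth.Agent.Lib.CohFound.Sheafify
import Groth.Agent.Lib.CohFound.Inst
import Mathlib.GroupTheory.Archimedean

set_option autoImplicit false
universe u
open CategoryTheory
open CohTop

namespace Groth.Agent.S0926
set_option linter.style.haveILetI false
set_option backward.isDefEq.respectTransparency false
set_option backward.isDefEq.respectTransparency.types false

open CategoryTheory TopologicalSpace Opposite CategoryTheory.Limits in
/-- Image subobjects compare by local lifting of sections. -/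
theorem imageSubobject_le_of_local {Y : TopCat.{u}} {A B C : CohTop.Ab Y} (φ : A ⟶ C) (ψ : B ⟶ C)
    (h : ∀ (W : Opens Y) (s : B.obj.obj (op W)) (y : Y), y ∈ W → ∃ (V : Opens Y) (hV : V ≤ W), y ∈ V ∧
      ∃ t, φ.hom.app (op V) t = C.obj.map (homOfLE hV).op (ψ.hom.app (op W) s)) :
    imageSubobject ψ ≤ imageSubobject φ := by
  have h0 : ψ ≫ cokernel.π φ = 0 := by
    refine InducedCategory.hom_ext (NatTrans.ext (funext fun W => ?_))
    ext s
    choose V hV hy t ht using fun y : W.unop => h W.unop s y.1 y.2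
    refine TopCat.Sheaf.eq_of_locally_eq' (cokernel φ) V W.unop (fun y => homOfLE (hV y))
      (fun y hy' => Opens.mem_iSup.2 ⟨⟨y, hy'⟩, hy ⟨y, hy'⟩⟩) _ _ fun y => ?_
    refine Eq.trans ?_ (map_zero _).symm
    change (cokernel φ).obj.map (homOfLE (hV y)).op ((cokernel.π φ).hom.app W (ψ.hom.app W s)) = 0
    rw [← NatTrans.naturality_apply (cokernel.π φ).hom (homOfLE (hV y)).op]
    exact (congrArg _ (ht y).symm).trans
      (ConcreteCategory.congr_hom (congrArg (fun m => m.hom.app (op (V y))) (cokernel.condition φ)) (t y))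
  refine imageSubobject_le_mk (image.ι φ) ψ (kernel.lift _ ψ h0 ≫ (Abelian.imageIsoImage φ).hom) ?_
  rw [Category.assoc]
  refine (congrArg (kernel.lift _ ψ h0 ≫ ·) (?_ : _ = kernel.ι (cokernel.π φ))).trans (kernel.lift_ι _ _ _)
  simp [Abelian.imageIsoImage, IsImage.isoExt]
open Opposite in


open TopologicalSpace CategoryTheory.Limits in
/-- Let X be an irreducible topological space and H an abelian subsheaf of the constant sheaf Z (given
by a monomorphism ι). Then there are a nonempty open U and an integer d such that over U the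
subsheaf H coincides with the image of multiplication by d on the constant sheaf: the images of ι|_U
and of (d · id)|_U agree as subobjects of the constant sheaf on U. -/
theorem result {X : TopCat.{u}} [IrreducibleSpace X]
    (H : CohTop.Ab X) (ι : H ⟶ CohTop.const X (ULift.{u} ℤ)) [Mono ι] :
    ∃ (U : Opens X) (d : ℤ), U ≠ ⊥ ∧
      imageSubobject ((CohTop.restrFunctor U).map ι) =
        imageSubobject ((CohTop.restrFunctor U).map (d • 𝟙 (CohTop.const X (ULift.{u} ℤ)))) := by
  classical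
  let C := CohTop.const X (ULift.{u} ℤ)
  let P : (Opens X)ᵒᵖ ⥤ AddCommGrpCat.{u} := (Functor.const _).obj (AddCommGrpCat.of (ULift.{u} ℤ))
  let c : ∀ W : Opens X, ℤ →+ C.obj.obj (op W) := fun W =>
    ((Groth.Agent.CohFound.toSh P).app (op W)).hom.comp (AddEquiv.ulift.symm.toAddMonoidHom : ℤ →+ ULift.{u} ℤ)
  have hc : ∀ {V W : Opens X} (h : V ≤ W) (n : ℤ), C.obj.map (homOfLE h).op (c W n) = c V n := fun h n =>
    (NatTrans.naturality_apply (Groth.Agent.CohFound.toSh P) (homOfLE h).op (ULift.up n)).symm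
  let M : ∀ W : Opens X, ℤ → Prop := fun W n => ∃ t : H.obj.obj (op W), ι.hom.app (op W) t = c W n
  have hM : ∀ {V W : Opens X} (h : V ≤ W) (n : ℤ), M W n → M V n := by
    rintro V W h n ⟨t, ht⟩
    exact ⟨H.obj.map (homOfLE h).op t, by rw [NatTrans.naturality_apply ι.hom (homOfLE h).op t, ht, hc]⟩
  let D : AddSubgroup ℤ :=
    { carrier := {n | ∃ W : Opens X, (W : Set X).Nonempty ∧ M W n}
      zero_mem' := ⟨⊤, Set.univ_nonempty, 0, by rw [map_zero, map_zero]⟩
      add_mem' := by
        rintro m n ⟨V, hV, hm⟩ ⟨W, hW, hn⟩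
        obtain ⟨t, ht⟩ := hM (inf_le_left : V ⊓ W ≤ V) m hm
        obtain ⟨t', ht'⟩ := hM (inf_le_right : V ⊓ W ≤ W) n hn
        exact ⟨V ⊓ W, nonempty_preirreducible_inter V.isOpen W.isOpen hV hW, t + t', by rw [map_add, ht, ht', map_add]⟩
      neg_mem' := by
        rintro m ⟨V, hV, t, ht⟩
        exact ⟨V, hV, -t, by rw [map_neg, ht, map_neg]⟩ }
  obtain ⟨d, hd⟩ := Int.subgroup_cyclic D
  obtain ⟨U, hU, hUd⟩ : d ∈ D := hd ▸ AddSubgroup.subset_closure rfl
  refine ⟨U, d, fun h => by simp [h] at hU, ?_⟩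
  have hsm : ∀ (W : Opens X) (s : C.obj.obj (op W)), (d • 𝟙 C : C ⟶ C).hom.app (op W) s = d • s := fun W s => by
    have e : (d • 𝟙 C : C ⟶ C).hom.app (op W) = d • 𝟙 (C.obj.obj (op W)) :=
      (sheafToPresheaf _ AddCommGrpCat.{u} ⋙ (CategoryTheory.evaluation _ _).obj (op W)).map_zsmul (f := 𝟙 C) (r := d)
        |>.trans (by rw [CategoryTheory.Functor.map_id]; rfl)
    rw [e]
    rfl
  have rep : ∀ {W : Opens X} (s : C.obj.obj (op W)) (x : X), x ∈ W →
      ∃ (V : Opens X) (hV : V ≤ W), x ∈ V ∧ ∃ n : ℤ, c V n = C.obj.map (homOfLE hV).op s := by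
    intro W s x hx
    obtain ⟨V, hV, hxV, n, hn⟩ := Groth.Agent.CohFound.exists_local_toSh_eq P s hx
    exact ⟨V, hV, hxV, (show ULift.{u} ℤ from n).down, hn⟩
  let O : Opens (TopCat.of U) → Opens X := fun W => U.isOpenEmbedding.functor.obj W
  have hO : ∀ W, O W ≤ U := fun W => by rintro _ ⟨y, -, rfl⟩; exact y.2
  refine le_antisymm (imageSubobject_le_of_local _ _ fun W s y hy => ?_) (imageSubobject_le_of_local _ _ fun W s y hy => ?_)
  · obtain ⟨V, hV, hxV, n, hn⟩ := rep (ι.hom.app (op (O W)) s) y.1 ⟨y, hy, rfl⟩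
    let V' : Opens (TopCat.of U) := ⟨Subtype.val ⁻¹' (V : Set X), V.isOpen.preimage continuous_subtype_val⟩
    have hV' : V' ≤ W := fun z hz => by
      obtain ⟨w, hw, hwz⟩ := hV hz
      rwa [← Subtype.ext hwz]
    have hOV : O V' ≤ V := by rintro _ ⟨z, hz, rfl⟩; exact hz
    have hnD : n ∈ D := ⟨V, ⟨y.1, hxV⟩, H.obj.map (homOfLE hV).op s, by
      rw [NatTrans.naturality_apply ι.hom (homOfLE hV).op s, hn]⟩
    rw [hd, AddSubgroup.mem_closure_singleton] at hnD
    obtain ⟨k, rfl⟩ := hnD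
    refine ⟨V', hV', hxV, c (O V') k, ?_⟩
    change (d • 𝟙 C : C ⟶ C).hom.app (op (O V')) (c (O V') k) =
      C.obj.map (U.isOpenEmbedding.functor.map (homOfLE hV')).op (ι.hom.app (op (O W)) s)
    rw [hsm, ← map_zsmul, show d • k = k • d by simp [mul_comm], ← hc hOV, hn]
    exact (ConcreteCategory.congr_hom (C.obj.map_comp (homOfLE hV).op (homOfLE hOV).op) _).symm
  · obtain ⟨V, hV, hxV, n, hn⟩ := rep (show C.obj.obj (op (O W)) from s) y.1 ⟨y, hy, rfl⟩
    let V' : Opens (TopCat.of U) := ⟨Subtype.val ⁻¹' (V : Set X), V.isOpen.preimage continuous_subtype_val⟩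
    have hV' : V' ≤ W := fun z hz => by
      obtain ⟨w, hw, hwz⟩ := hV hz
      rwa [← Subtype.ext hwz]
    have hOV : O V' ≤ V := by rintro _ ⟨z, hz, rfl⟩; exact hz
    obtain ⟨t, ht⟩ := hM (hO V') d hUd
    refine ⟨V', hV', hxV, n • t, ?_⟩
    change ι.hom.app (op (O V')) (n • t) =
      C.obj.map (U.isOpenEmbedding.functor.map (homOfLE hV')).op ((d • 𝟙 C : C ⟶ C).hom.app (op (O W)) s)
    rw [hsm, map_zsmul, map_zsmul, ht, ← map_zsmul, show n • d = d • n by simp [mul_comm], map_zsmul,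
      ← hc hOV, hn]
    exact congrArg (d • ·) (ConcreteCategory.congr_hom (C.obj.map_comp (homOfLE hV).op (homOfLE hOV).op) _).symm

end Groth.Agent.S0926
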