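import Groth.Statements.S0927
import Groth.Agent.Lib.CohMop.TensorDerived
-- import your own Groth.Agent.* helpers here

set_option autoImplicit false
set_option linter.style.haveILetI false
set_option linter.unusedSectionVars false
set_option backward.isDefEq.respectTransparency false
set_option backward.isDefEq.respectTransparency.types false
universe u
open CategoryTheory
open Coh

namespace Groth.Agent.S0927

open AlgebraicGeometry CategoryTheory.Limits in
/-- Projection formula, for schemes and one degree at a time: let f : X → Y be a morphism of schemes, F
an O_X-module and E a finite locally free O_Y-module. Then for every q the O_Y-module E ⊗ R^q f_* F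
is isomorphic to R^q f_* (f^* E ⊗ F). The higher direct images are the right derived functors of
f_*, under the instance argument recording that O_X-modules have injective resolutions. (The
published statement treats ringed spaces and also gives a version for bounded-below complexes.) -/
theorem result {X Y : Scheme.{u}} (f : X ⟶ Y) [HasInjectiveResolutions X.Modules]
    (F : X.Modules) (E : Y.Modules) (hE : FlatMod.IsFinLocFree E) (q : ℕ) :
    Nonempty (CohB1.tensorMod E ((Coh.Rpush f q).obj F) ≅
      (Coh.Rpush f q).obj (CohB1.tensorMod ((Scheme.Modules.pullback f).obj E) F)) := by
  haveI := fun Q : X.Modules => CohMop.additive_ihom Q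
  obtain ⟨e⟩ := CohMop.nonempty_rightDerived_tenR (Scheme.Modules.pushforward f)
    (M2.isFinLocFree_pullback f hE) hE (CohMop.pushTenIso f E hE).symm q F
  exact ⟨M2.tensorComm E _ ≪≫ e.symm ≪≫
    ((Scheme.Modules.pushforward f).rightDerived q).mapIso (M2.tensorComm F _)⟩

end Groth.Agent.S0927
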