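import Groth.Statements.S0930
import Groth.Agent.Lib.RPlusComp3.Basic
import Groth.Agent.Lib.CohTop16.DirectImage
import Mathlib.CategoryTheory.Preadditive.Injective.Preserves

set_option autoImplicit false
universe u
open CategoryTheory
attribute [local instance] HasDerivedCategory.standard
open CohTop

namespace Groth.Agent.S0930

/-- For continuous maps f : X -> Y and g : Y -> Z, the composite of the right derived functors Rf_* :
D^+(X) -> D^+(Y) and Rg_* : D^+(Y) -> D^+(Z) is isomorphic to R(g ∘ f)_* (existence of an
isomorphism of functors between bounded below derived categories). -/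
theorem result {X Y Z : TopCat.{u}} (f : X ⟶ Y) (g : Y ⟶ Z) :
    Nonempty ((CohTop.push f).rightDerivedFunctorPlus ⋙ (CohTop.push g).rightDerivedFunctorPlus ≅
      (CohTop.push (f ≫ g)).rightDerivedFunctorPlus) := by
  haveI : (CohTop.push f).PreservesInjectiveObjects :=
    Functor.preservesInjectiveObjects_of_adjunction_of_preservesMonomorphisms (Groth.Agent.CohTop16.pullAdj f)
  exact ⟨(@asIso _ _ _ _ (EtSix.rPlusDesc₂ (𝟙 (CohTop.push f ⋙ CohTop.push g)))
    (Groth.Agent.RPlusComp3.isIso_rPlusDesc₂ _)).symm⟩

end Groth.Agent.S0930
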