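import Groth.Statements.S0931
import Groth.Agent.Lib.SiteRlim16.AbClasses

set_option autoImplicit false
universe u
open CategoryTheory
open CohSite

namespace Groth.Agent.S0931
set_option linter.style.haveILetI false
set_option backward.isDefEq.respectTransparency false
set_option backward.isDefEq.respectTransparency.types false
open Opposite Groth.Agent.SiteRlim in
/-- Hypercohomology classes to sections of the cohomology sheaf. -/
noncomputable def toSheafHom {C : Type u} [SmallCategory C] {J : GrothendieckTopology C}
    [HasDerivedCategory.{u} (Sheaf J AddCommGrpCat.{u})] (K : DerivedCategory (Sheaf J AddCommGrpCat.{u}))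
    (q : ℤ) : CohCx.HDUPresheaf K q ⟶ (CohCx.HD K q).obj where
  app U := AddCommGrpCat.ofHom (classSection K q U.unop)
  naturality U V g := AddCommGrpCat.hom_ext (AddMonoidHom.ext fun x => classSection_pre K q g.unop x)

open Opposite Groth.Agent.SiteRlim in
theorem isLocallyInjective_toSheafHom {C : Type u} [SmallCategory C] {J : GrothendieckTopology C}
    [HasDerivedCategory.{u} (Sheaf J AddCommGrpCat.{u})] (K : DerivedCategory (Sheaf J AddCommGrpCat.{u}))
    (q : ℤ) : Presheaf.IsLocallyInjective J (toSheafHom K q) where
  equalizerSieve_mem {X} x y h := by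
    obtain ⟨f, rfl⟩ := (bijective_toHDU X.unop q K).2 x
    obtain ⟨g, rfl⟩ := (bijective_toHDU X.unop q K).2 y
    have h' : SiteCoh.secEquiv X.unop _ (θ f) = SiteCoh.secEquiv X.unop _ (θ g) :=
      (classSection_toHDU f).symm.trans ((show classSection K q X.unop (toHDU f) = classSection K q X.unop (toHDU g)
        from h).trans (classSection_toHDU g))
    obtain ⟨S, hS, hS'⟩ := locally_zero_of_θ (localGen_genAb J) (f - g)
      (by rw [θ_sub, (SiteCoh.secEquiv X.unop _).injective h', sub_self])
    refine J.superset_covering (fun V r hr => ?_) hS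
    change (DerivedCategory.singleFunctor _ 0).map ((genAb J).map r) ≫ toHDU f =
      (DerivedCategory.singleFunctor _ 0).map ((genAb J).map r) ≫ toHDU g
    rw [← toHDU_pre, ← toHDU_pre]
    have := hS' r hr
    rw [Preadditive.comp_sub, sub_eq_zero] at this
    rw [this]

open Opposite Groth.Agent.SiteRlim in
theorem isLocallySurjective_toSheafHom {C : Type u} [SmallCategory C] {J : GrothendieckTopology C}
    [HasDerivedCategory.{u} (Sheaf J AddCommGrpCat.{u})] (K : DerivedCategory (Sheaf J AddCommGrpCat.{u}))
    (q : ℤ) : Presheaf.IsLocallySurjective J (toSheafHom K q) where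
  imageSieve_mem {U} s := by
    obtain ⟨S, hS, hS'⟩ := locally_exists_θ (localGen_genAb J) (K := K) ((SiteCoh.secEquiv U _).symm s)
    refine J.superset_covering (fun V r hr => ?_) hS
    obtain ⟨f, hf⟩ := hS' r hr
    refine ⟨toHDU f, ?_⟩
    change classSection K q V (toHDU f) = _
    rw [classSection_toHDU, hf, secEquiv_pre, Equiv.apply_symm_apply]


/-- Let K be an object of the derived category of abelian sheaves on a site and q an integer. Then the
sheafification of the presheaf U ↦ H^q(U, K) is isomorphic to the q-th cohomology sheaf H^q(K). -/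
theorem result {C : Type u} [SmallCategory C] {J : GrothendieckTopology C}
    [HasDerivedCategory.{u} (Sheaf J AddCommGrpCat.{u})] (K : DerivedCategory (Sheaf J AddCommGrpCat.{u}))
    (q : ℤ) :
    Nonempty ((presheafToSheaf J AddCommGrpCat.{u}).obj (CohCx.HDUPresheaf K q) ≅ CohCx.HD K q) := by
  haveI := isLocallyInjective_toSheafHom K q
  haveI := isLocallySurjective_toSheafHom K q
  haveI : IsIso ((presheafToSheaf J AddCommGrpCat.{u}).map (toSheafHom K q)) :=
    (J.W_iff _).1 (J.W_of_isLocallyBijective _)
  exact ⟨asIso ((presheafToSheaf J AddCommGrpCat.{u}).map (toSheafHom K q)) ≪≫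
    (sheafificationIso (CohCx.HD K q)).symm⟩

end Groth.Agent.S0931
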