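import Groth.Statements.S0932
import Groth.Agent.Lib.DPerf.Local
-- import your own Groth.Agent.* helpers here

set_option autoImplicit false
universe u
open CategoryTheory
attribute [local instance] HasDerivedCategory.standard
open DCoh

namespace Groth.Agent.S0932

open AlgebraicGeometry CategoryTheory.Limits in
/-- Let X be a scheme, E and F cochain complexes of O_X-modules with E strictly perfect and zero in
degrees < a, and α : E → F a chain map. Assume the cohomology sheaves H^i(F) vanish for all i ≥ a.
Then every point of X has an open neighbourhood V such that the restriction of α to V is homotopic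
to zero. (The case of an acyclic complex F is a special case.) -/
theorem result {X : Scheme.{u}} {E F : CochainComplex X.Modules ℤ}
    (α : E ⟶ F) (hE : DCoh.IsStrictlyPerfect E) (a : ℤ) (hEa : ∀ i : ℤ, i < a → IsZero (E.X i))
    (hF : ∀ i : ℤ, a ≤ i → IsZero (F.homology i)) (x : X) :
    ∃ V : X.Opens, x ∈ V ∧ Nonempty (Homotopy ((DCoh.restrictCx V).map α) 0) := by
  obtain ⟨Z, j, hj, hx, ⟨H⟩⟩ := Groth.Agent.DPerf.exists_nullHomotopic α hE a hEa
    (fun i hi => (HomologicalComplex.exactAt_iff_isZero_homology _ _).2 (hF i hi)) x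
  obtain ⟨V, k, hk, hxV, hkj⟩ := Groth.Agent.DPerf.exists_opens j hx
  exact ⟨V, hxV, ⟨Groth.Agent.DPerf.homotopyOfNatIso (Groth.Agent.DPerf.resFacIso j k hkj) α
    (((Scheme.Modules.restrictFunctor k).mapHomotopy H).trans (Homotopy.ofEq (Functor.map_zero _ _ _)))⟩⟩

end Groth.Agent.S0932
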