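import Groth.Statements.S0933
import Groth.Agent.Lib.DPerf.Local
-- import your own Groth.Agent.* helpers here

set_option autoImplicit false
universe u
open CategoryTheory
attribute [local instance] HasDerivedCategory.standard
open DCoh

namespace Groth.Agent.S0933

open AlgebraicGeometry CategoryTheory.Limits in
/-- Let E be a strictly perfect complex of O_X-modules with E^j = 0 for j < a, let f : G -> F be a
morphism of complexes inducing isomorphisms on cohomology sheaves in degrees > a and an epimorphism
in degree a, and let α : E -> F. Then every point has an open neighbourhood V over which there is β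
: E|_V -> G|_V with β ≫ f|_V homotopic to α|_V. -/
theorem result {X : Scheme.{u}} {E F G : CochainComplex X.Modules ℤ}
    (α : E ⟶ F) (f : G ⟶ F) (hE : DCoh.IsStrictlyPerfect E) (a : ℤ) (hEa : ∀ j : ℤ, j < a → IsZero (E.X j))
    (hf : ∀ j : ℤ, a < j → IsIso (HomologicalComplex.homologyMap f j))
    (hfa : Epi (HomologicalComplex.homologyMap f a)) (x : X) :
    ∃ (V : X.Opens) (β : (DCoh.restrictCx V).obj E ⟶ (DCoh.restrictCx V).obj G), x ∈ V ∧
      Nonempty (Homotopy (β ≫ (DCoh.restrictCx V).map f) ((DCoh.restrictCx V).map α)) := by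
  obtain ⟨Z, j, hj, hx, β, ⟨H⟩⟩ := Groth.Agent.DPerf.exists_homotopy_lift α f hE a hEa hf hfa x
  obtain ⟨V, k, hk, hxV, hkj⟩ := Groth.Agent.DPerf.exists_opens j hx
  obtain ⟨β', H'⟩ := Groth.Agent.DPerf.exists_lift_transport j k hkj α f β H
  exact ⟨V, β', hxV, H'⟩

end Groth.Agent.S0933
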