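import Groth.Statements.S0938
import Groth.Agent.Lib.ModM1.Local

set_option autoImplicit false
universe u
open CategoryTheory
open Coh

namespace Groth.Agent.S0938

open CategoryTheory Limits AlgebraicGeometry Groth.Agent.M1

variable {X : Scheme.{u}}

/-- Global sections as a linear functor. -/
noncomputable def secF (X : Scheme.{u}) : X.Modules ⥤ ModuleCat.{u} Γ(X, ⊤) where
  obj M := ModuleCat.of Γ(X, ⊤) Γ(M, ⊤)
  map φ := ModuleCat.ofHom
    { toFun := φ.app ⊤
      map_add' := map_add _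
      map_smul' := fun r x => φ.app_smul r x }

noncomputable def inc (n : ℕ) (j : Fin n) : Coh.structureModule X ⟶ FlatMod.freeMod X n :=
  Sigma.ι (fun _ : Fin n => Coh.structureModule X) j

noncomputable def proj (n : ℕ) (j : Fin n) : FlatMod.freeMod X n ⟶ Coh.structureModule X :=
  Sigma.desc fun i => if i = j then 𝟙 _ else 0

noncomputable def gen (n : ℕ) (j : Fin n) : Γ(FlatMod.freeMod X n, ⊤) := (inc n j).app ⊤ (one ⊤)

theorem inc_proj (n : ℕ) (i j : Fin n) :
    inc (X := X) n i ≫ proj n j = if i = j then 𝟙 _ else 0 := by simp [inc, proj]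

theorem sum_proj_inc (n : ℕ) : ∑ j, proj (X := X) n j ≫ inc n j = 𝟙 _ := by
  refine Sigma.hom_ext _ _ fun i => ?_
  rw [Preadditive.comp_sum, Category.comp_id]
  simp [← Category.assoc, proj, inc, ite_comp]

noncomputable def appHom (M N : X.Modules) (x : Γ(M, ⊤)) : (M ⟶ N) →+ Γ(N, ⊤) where
  toFun φ := φ.app ⊤ x
  map_zero' := by simp
  map_add' φ ψ := by simp

/-- The coordinates of a section of a free module. -/
noncomputable def coord (n : ℕ) (x : Γ(FlatMod.freeMod X n, ⊤)) : Fin n → Γ(X, ⊤) :=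
  fun j => ((proj n j).app ⊤ x : Γ(Coh.structureModule X, ⊤))

theorem app_smul_one {M : X.Modules} (φ : Coh.structureModule X ⟶ M) (a : Γ(X, ⊤)) :
    φ.app ⊤ (a : Γ(Coh.structureModule X, ⊤)) = a • φ.app ⊤ (one ⊤) := by
  rw [← φ.app_smul]
  congr 1
  exact (mul_one a).symm

theorem sum_coord (n : ℕ) (x : Γ(FlatMod.freeMod X n, ⊤)) : ∑ j, coord n x j • gen n j = x := by
  have h := congrArg (appHom _ _ x) (sum_proj_inc (X := X) n)
  rw [map_sum] at h
  refine (Finset.sum_congr rfl fun j _ => ?_).trans h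
  exact (app_smul_one (inc n j) _).symm

theorem coord_add (n : ℕ) (x y : Γ(FlatMod.freeMod X n, ⊤)) : coord n (x + y) = coord n x + coord n y := by
  funext j; exact map_add _ x y

theorem coord_smul (n : ℕ) (a : Γ(X, ⊤)) (x : Γ(FlatMod.freeMod X n, ⊤)) :
    coord n (a • x) = a • coord n x := by
  funext j; exact (proj n j).app_smul a x

/-- Sections of a free module are tuples of functions. -/
noncomputable def coordEquiv (n : ℕ) : Γ(FlatMod.freeMod X n, ⊤) ≃ₗ[Γ(X, ⊤)] (Fin n → Γ(X, ⊤)) where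
  toFun := coord n
  map_add' := coord_add n
  map_smul' := coord_smul n
  invFun a := ∑ j, a j • gen n j
  left_inv := sum_coord n
  right_inv a := by
    funext i
    show (proj n i).app ⊤ (∑ j, a j • gen n j) = _
    rw [map_sum, Finset.sum_eq_single i]
    · rw [Scheme.Modules.Hom.app_smul]
      show a i • (inc n i ≫ proj n i).app ⊤ (one ⊤) = _
      rw [inc_proj, if_pos rfl]
      exact mul_one (a i)
    · intro j _ hji
      rw [Scheme.Modules.Hom.app_smul]
      show a j • (inc n j ≫ proj n i).app ⊤ (one ⊤) = _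
      rw [inc_proj, if_neg hji]
      exact mul_zero (a j)
    · simp

theorem free_ext {n : ℕ} {M : X.Modules} {f g : FlatMod.freeMod X n ⟶ M}
    (h : ∀ j, f.app ⊤ (gen n j) = g.app ⊤ (gen n j)) : f = g :=
  Sigma.hom_ext _ _ fun j => unit_hom_ext (h j)

noncomputable def desc {n : ℕ} {M : X.Modules} (t : Fin n → Γ(M, ⊤)) : FlatMod.freeMod X n ⟶ M :=
  Sigma.desc fun j => secHom (t j)

theorem desc_gen {n : ℕ} {M : X.Modules} (t : Fin n → Γ(M, ⊤)) (j : Fin n) :
    (desc t).app ⊤ (gen n j) = t j := by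
  show (inc n j ≫ desc t).app ⊤ (one ⊤) = _
  rw [inc, desc, Sigma.ι_desc, secHom_app_one]

theorem linearMap_ext {n : ℕ} {P : Type u} [AddCommGroup P] [Module Γ(X, ⊤) P]
    {f g : Γ(FlatMod.freeMod X n, ⊤) →ₗ[Γ(X, ⊤)] P} (h : ∀ j, f (gen n j) = g (gen n j)) : f = g := by
  ext x
  rw [← sum_coord n x, map_sum, map_sum]
  simp [h]

theorem exists_map_eq {n : ℕ} {M N : X.Modules} (i : M ⟶ FlatMod.freeMod X n)
    (r : FlatMod.freeMod X n ⟶ M) (hir : i ≫ r = 𝟙 M) (φ : (secF X).obj M ⟶ (secF X).obj N) :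
    ∃ f : M ⟶ N, (secF X).map f = φ := by
  refine ⟨i ≫ desc (fun j => φ.hom (r.app ⊤ (gen n j))), ?_⟩
  have h : ((secF X).map (desc fun j => φ.hom (r.app ⊤ (gen n j)))).hom = φ.hom.comp ((secF X).map r).hom :=
    linearMap_ext fun j => desc_gen _ j
  apply ModuleCat.hom_ext
  rw [Functor.map_comp, ModuleCat.hom_comp, h, LinearMap.comp_assoc, ← ModuleCat.hom_comp,
    ← Functor.map_comp, hir]
  simp

theorem map_inj {n : ℕ} {M N : X.Modules} (i : M ⟶ FlatMod.freeMod X n)
    (r : FlatMod.freeMod X n ⟶ M) (hir : i ≫ r = 𝟙 M) (f g : M ⟶ N)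
    (h : (secF X).map f = (secF X).map g) : f = g := by
  have h' : r ≫ f = r ≫ g := free_ext fun j => by
    have := congrArg (fun φ => φ.hom (r.app ⊤ (gen n j))) h
    exact this
  have := congrArg (fun φ => i ≫ φ) h'
  simpa [← Category.assoc, hir] using this


open AlgebraicGeometry CategoryTheory.Limits in
/-- For a scheme X with R = Γ(X, O_X), the full subcategory of O_X-modules which are retracts of a
finite free O_X-module is equivalent to the full subcategory of R-modules which are finite and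
projective (existence of an equivalence of categories). The published statement is for ringed
spaces; stated here for schemes. -/
theorem result {X : Scheme.{u}} :
    Nonempty ((ObjectProperty.FullSubcategory fun M : X.Modules =>
        ∃ (n : ℕ) (i : M ⟶ FlatMod.freeMod X n) (r : FlatMod.freeMod X n ⟶ M), i ≫ r = 𝟙 M) ≌
      (ObjectProperty.FullSubcategory fun N : ModuleCat.{u} (Γ(X, ⊤)) =>
        Module.Finite (Γ(X, ⊤)) N ∧ Module.Projective (Γ(X, ⊤)) N)) := by
  let P : ObjectProperty X.Modules := fun M =>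
    ∃ (n : ℕ) (i : M ⟶ FlatMod.freeMod X n) (r : FlatMod.freeMod X n ⟶ M), i ≫ r = 𝟙 M
  let Q : ObjectProperty (ModuleCat.{u} Γ(X, ⊤)) := fun N =>
    Module.Finite (Γ(X, ⊤)) N ∧ Module.Projective (Γ(X, ⊤)) N
  have hmem : ∀ M : P.FullSubcategory, Q ((secF X).obj M.obj) := by
    rintro ⟨M, n, i, r, hir⟩
    let a : (secF X).obj M →ₗ[Γ(X, ⊤)] (Fin n → Γ(X, ⊤)) :=
      (coordEquiv n).toLinearMap.comp ((secF X).map i).hom
    let b : (Fin n → Γ(X, ⊤)) →ₗ[Γ(X, ⊤)] (secF X).obj M :=
      ((secF X).map r).hom.comp (coordEquiv n).symm.toLinearMap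
    have hba : b.comp a = LinearMap.id := by
      refine LinearMap.ext fun x => ?_
      show r.app ⊤ ((coordEquiv n).symm (coordEquiv n (i.app ⊤ x))) = x
      rw [LinearEquiv.symm_apply_apply]
      exact (congrArg (fun f : M ⟶ M => f.app ⊤ x) hir).trans rfl
    exact ⟨Module.Finite.of_surjective b fun x => ⟨a x, LinearMap.congr_fun hba x⟩,
      Module.Projective.of_split a b hba⟩
  let F : P.FullSubcategory ⥤ Q.FullSubcategory := Q.lift (P.ι ⋙ secF X) hmem
  haveI : F.Faithful := ⟨fun {M N} f g h => by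
    obtain ⟨n, i, r, hir⟩ := M.property
    exact ObjectProperty.hom_ext _ (map_inj i r hir _ _ (congrArg (fun t => t.hom) h))⟩
  haveI : F.Full := ⟨fun {M N} φ => by
    obtain ⟨n, i, r, hir⟩ := M.property
    obtain ⟨f, hf⟩ := exists_map_eq i r hir φ.hom
    exact ⟨ObjectProperty.homMk f, ObjectProperty.hom_ext _ hf⟩⟩
  haveI : F.EssSurj := ⟨fun N => by
    haveI : Module.Finite Γ(X, ⊤) N.obj := N.property.1
    haveI : Module.Projective Γ(X, ⊤) N.obj := N.property.2
    obtain ⟨n, g, hg⟩ := Module.Finite.exists_fin' Γ(X, ⊤) N.obj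
    obtain ⟨s, hs⟩ := Module.projective_lifting_property g LinearMap.id hg
    let g' : Γ(FlatMod.freeMod X n, ⊤) →ₗ[Γ(X, ⊤)] N.obj := g.comp (coordEquiv n).toLinearMap
    let s' : N.obj →ₗ[Γ(X, ⊤)] Γ(FlatMod.freeMod X n, ⊤) := (coordEquiv n).symm.toLinearMap.comp s
    have hgs : ∀ p, g' (s' p) = p := fun p => by
      show g (coordEquiv n ((coordEquiv n).symm (s p))) = p
      rw [LinearEquiv.apply_symm_apply]; exact LinearMap.congr_fun hs p
    let E : FlatMod.freeMod X n ⟶ FlatMod.freeMod X n := desc fun j => s' (g' (gen n j))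
    have hE : ((secF X).map E).hom = s'.comp g' := linearMap_ext fun j => desc_gen _ j
    have hE' : ∀ x, E.app ⊤ x = s' (g' x) := fun x => LinearMap.congr_fun hE x
    have hEE : E ≫ E = E := free_ext fun j => by
      show E.app ⊤ (E.app ⊤ _) = _
      simp only [hE', hgs]
    let i := image.ι E
    let r := factorThruImage E
    have hri : r ≫ i = E := image.fac E
    have hir : i ≫ r = 𝟙 (image E) := by
      rw [← cancel_epi r, ← cancel_mono i]
      simp only [Category.assoc, Category.comp_id]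
      rw [hri, ← Category.assoc, hri, hEE]
    refine ⟨⟨image E, n, i, r, hir⟩, ⟨Q.isoMk (LinearEquiv.toModuleIso
      (LinearEquiv.ofLinear (g'.comp ((secF X).map i).hom) (((secF X).map r).hom.comp s') ?_ ?_))⟩⟩
    · refine LinearMap.ext fun p => ?_
      show g' ((r ≫ i).app ⊤ (s' p)) = p
      rw [hri, hE', hgs, hgs]
    · refine LinearMap.ext fun x => ?_
      show r.app ⊤ (s' (g' (i.app ⊤ x))) = x
      rw [← hE']
      show (i ≫ E ≫ r).app ⊤ x = x
      have hEr : E ≫ r = r := by rw [← cancel_mono i, Category.assoc, hri, hEE]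
      simp only [hEr, hir]
      rfl⟩
  haveI : F.IsEquivalence := { }
  exact ⟨F.asEquivalence⟩

end Groth.Agent.S0938
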