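import Groth.Statements.S0941
import Groth.Agent.Lib.SiteCoh.CechExt

set_option autoImplicit false
universe u
open CategoryTheory
open CohSite

namespace Groth.Agent.S0941
set_option linter.style.haveILetI false
set_option backward.isDefEq.respectTransparency false
set_option backward.isDefEq.respectTransparency.types false


open CategoryTheory.Limits in
/-- Let C be a site with fibre products, {Y_i -> U} a covering family and F an abelian sheaf with
H^q(Y_{i_0} x_U ... x_U Y_{i_p}, F) = 0 for all q > 0 and all finite tuples of indices. Then for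
every p the p-th Cech cohomology group of F with respect to the covering is isomorphic to H^p(U, F). -/
theorem result {C : Type u} [SmallCategory C] [HasPullbacks C]
    (J : GrothendieckTopology C) (F : Sheaf J AddCommGrpCat.{u}) {U : C} {ι : Type u} (Y : ι → Over U)
    (hY : Sieve.ofArrows (fun i => (Y i).left) (fun i => (Y i).hom) ∈ J U)
    (h : ∀ (p : ℕ) (a : Fin (p + 1) → ι) (q : ℕ),
      Subsingleton (CohSite.HU F (q + 1) (∏ᶜ fun k => Y (a k)).left))
    (p : ℕ) : Nonempty (CohCx.cechH F.obj Y p ≃+ CohSite.HU F p U) := by
  obtain ⟨e⟩ := Groth.Agent.SiteCoh.nonempty_cechH_equiv F Y h p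
  haveI := Groth.Agent.SiteCoh.isIso_famImg Y J hY
  exact ⟨e.trans (Groth.Agent.SiteCoh.extPreEquiv
    (asIso ((Groth.Agent.SiteCoh.frP J).map (Subfunctor.range (Groth.Agent.SiteCoh.famBase Y)).ι)).symm F p)⟩

end Groth.Agent.S0941
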