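import Groth.Statements.S0942
import Groth.Agent.Lib.SiteCoh.OverSite
import Mathlib.Algebra.Homology.HomotopyCategory.KInjective

set_option autoImplicit false
universe u
open CategoryTheory
open CohSite

namespace Groth.Agent.S0942
set_option linter.style.haveILetI false
set_option backward.isDefEq.respectTransparency false
set_option backward.isDefEq.respectTransparency.types false
open CategoryTheory CategoryTheory.Limits in
theorem isKInjective_of_adj {A B : Type*} [Category A] [Category B] [Abelian A] [Abelian B] {L : B ⥤ A} {R : A ⥤ B}
    (adj : L ⊣ R) [PreservesFiniteLimits L] [PreservesFiniteColimits L] [L.Additive] [R.Additive]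
    (I : CochainComplex A ℤ) [I.IsKInjective] :
    CochainComplex.IsKInjective ((R.mapHomologicalComplex (ComplexShape.up ℤ)).obj I) := by
  refine ⟨fun {K} f hK => ?_⟩
  let f' : (L.mapHomologicalComplex _).obj K ⟶ I :=
    { f := fun n => (adj.homEquiv _ _).symm (f.f n)
      comm' := fun i j _ => by
        show (adj.homEquiv _ _).symm (f.f i) ≫ I.d i j = L.map (K.d i j) ≫ (adj.homEquiv _ _).symm (f.f j)
        rw [← adj.homEquiv_naturality_right_symm, ← adj.homEquiv_naturality_left_symm]
        exact congrArg _ (f.comm i j) }
  have hac : ((L.mapHomologicalComplex _).obj K).Acyclic := fun n => (hK n).map L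
  let η := NatTrans.mapHomologicalComplex adj.unit (ComplexShape.up ℤ)
  let u : K ⟶ (R.mapHomologicalComplex _).obj ((L.mapHomologicalComplex _).obj K) :=
    { f := fun n => adj.unit.app _
      comm' := fun i j _ => (adj.unit.naturality (K.d i j)).symm }
  have hu : f = u ≫ (R.mapHomologicalComplex _).map f' := by
    ext n
    show f.f n = adj.unit.app _ ≫ R.map ((adj.homEquiv _ _).symm (f.f n))
    exact ((adj.homEquiv_unit _ _ _).symm.trans ((adj.homEquiv _ _).apply_symm_apply _)).symm
  refine ⟨?_⟩
  rw [hu]
  exact ((R.mapHomotopy (CochainComplex.IsKInjective.homotopyZero f' hac)).compLeft u).trans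
    (Homotopy.ofEq (by simp))


/-- Let U be an object of a site and I a K-injective complex of abelian sheaves. Then the restriction of
I to the site of objects over U (precomposition with the forgetful functor from the over category)
is a K-injective complex. -/
theorem result {C : Type u} [SmallCategory C] (J : GrothendieckTopology C) (U : C)
    (I : CochainComplex (Sheaf J AddCommGrpCat.{u}) ℤ) (hI : I.IsKInjective) :
    CochainComplex.IsKInjective ((((Over.forget U).sheafPushforwardContinuous AddCommGrpCat.{u} (J.over U) J).mapHomologicalComplex
      (ComplexShape.up ℤ)).obj I) := by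
  haveI := hI
  haveI := Groth.Agent.SiteCoh.preservesFiniteLimits_over_pullback J U
  haveI : Limits.PreservesFiniteColimits ((Over.forget U).sheafPullback AddCommGrpCat.{u} (J.over U) J) :=
    haveI := ((Groth.Agent.SiteCoh.restrictAdj J U).leftAdjoint_preservesColimits :
      Limits.PreservesColimitsOfSize.{0, 0} _)
    Limits.PreservesColimitsOfSize.preservesFiniteColimits _
  haveI := (Groth.Agent.SiteCoh.restrictAdj J U).left_adjoint_additive
  exact isKInjective_of_adj (Groth.Agent.SiteCoh.restrictAdj J U) I

end Groth.Agent.S0942
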