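import Groth.Statements.S0944
import Groth.Agent.Lib.DPerf.Local
-- import your own Groth.Agent.* helpers here

set_option autoImplicit false
universe u
open CategoryTheory
attribute [local instance] HasDerivedCategory.standard
open DCoh

namespace Groth.Agent.S0944

open AlgebraicGeometry CategoryTheory.Limits in
/-- Let X be a scheme, E a strictly perfect complex of O_X-modules, F any complex of O_X-modules and α :
E → F a morphism in the derived category D(O_X). Then every point of X has an open neighbourhood V
such that the restriction of α to D(O_V) is induced by an actual morphism of complexes E|_V → F|_V,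
the two being compared through the canonical identification of restricting-then-localising with
localising-then-restricting. (Stated for schemes. The published statement has a second part, which
is not asserted here. Restriction D(O_X) → D(O_V) is the prelude's functor DCoh.restrictD, which is
available under the binder that restriction of O_X-modules to V preserves finite limits; the
conclusion is stated under that binder.) -/
theorem result {X : Scheme.{u}} {E F : CochainComplex X.Modules ℤ}
    (hE : DCoh.IsStrictlyPerfect E) (α : DCoh.toD X E ⟶ DCoh.toD X F) (x : X) :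
    ∃ V : X.Opens, x ∈ V ∧ ∀ [PreservesFiniteLimits (Scheme.Modules.restrictFunctor V.ι)],
      ∃ β : (DCoh.restrictCx V).obj E ⟶ (DCoh.restrictCx V).obj F,
        (DCoh.restrictD V.ι).map α =
          (Scheme.Modules.restrictFunctor V.ι).mapDerivedCategoryFactors.hom.app E ≫ DerivedCategory.Q.map β ≫
            (Scheme.Modules.restrictFunctor V.ι).mapDerivedCategoryFactors.inv.app F := by
  obtain ⟨Y, g, s, hs, rfl⟩ := DerivedCategory.left_fac α
  obtain ⟨⟨a, b, hv⟩, -⟩ := id hE
  have : QuasiIso s := (DerivedCategory.isIso_Q_map_iff_quasiIso X.Modules s).1 hs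
  obtain ⟨Z, j, hj, hx, β₀, ⟨H₀⟩⟩ := Groth.Agent.DPerf.exists_homotopy_lift g s hE a
    (fun i hi => hv i (Or.inl hi)) (fun i _ => inferInstance) inferInstance x
  obtain ⟨V, k, hk, hxV, hkj⟩ := Groth.Agent.DPerf.exists_opens j hx
  obtain ⟨β, ⟨H⟩⟩ := Groth.Agent.DPerf.exists_lift_transport j k hkj g s β₀ H₀
  refine ⟨V, hxV, @fun _ => ⟨β, ?_⟩⟩
  let φ := (Scheme.Modules.restrictFunctor V.ι).mapDerivedCategoryFactors
  let D := (Scheme.Modules.restrictFunctor V.ι).mapDerivedCategory
  have hQ : DerivedCategory.Q.map β ≫ DerivedCategory.Q.map ((DCoh.restrictCx V).map s) =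
      DerivedCategory.Q.map ((DCoh.restrictCx V).map g) :=
    (Functor.map_comp _ _ _).symm.trans (DerivedCategory.Q_map_eq_of_homotopy (V : Scheme).Modules H)
  change D.map (DerivedCategory.Q.map g ≫ inv (DerivedCategory.Q.map s)) = _
  rw [Functor.map_comp, Functor.map_inv, IsIso.comp_inv_eq, Category.assoc, Category.assoc]
  rw [show φ.inv.app F ≫ D.map (DerivedCategory.Q.map s) =
    DerivedCategory.Q.map ((DCoh.restrictCx V).map s) ≫ φ.inv.app Y from (φ.inv.naturality s).symm,
    reassoc_of% hQ]
  exact (NatIso.naturality_2 φ g).symm

end Groth.Agent.S0944
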