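import Groth.Statements.S0946
import Groth.Agent.Lib.SheafVan16.Hausdorff

set_option autoImplicit false
universe u
open CategoryTheory
open CohTop

namespace Groth.Agent.S0946

open TopologicalSpace Opposite CategoryTheory.Limits in
/-- Take a quasi-compact subset Z of a topological space X whose points are pairwise separated by
disjoint opens of X, and an abelian sheaf F on X. For every p the group H^p(Z, F|_Z) (cohomology of
the pullback of F to the subspace Z) is isomorphic to the colimit of the groups H^p(U, F) over the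
open neighbourhoods U of Z (existence of an isomorphism with the colimit of the cohomology presheaf
restricted to the opens containing Z). -/
theorem result {X : TopCat.{u}} (Z : Set X) (hZ : IsCompact Z)
    (hsep : ∀ x ∈ Z, ∀ y ∈ Z, x ≠ y → ∃ U V : Opens X, x ∈ U ∧ y ∈ V ∧ Disjoint U V)
    (F : CohTop.Ab X) (p : ℕ) :
    Nonempty ((colimit (ObjectProperty.ι (fun U : (Opens X)ᵒᵖ => Z ⊆ (U.unop : Set X)) ⋙
        (Sheaf.cohomologyPresheafFunctor (Opens.grothendieckTopology X) p).obj F) : AddCommGrpCat.{u}) ≃+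
      CohTop.H ((CohTop.pull (TopCat.ofHom ⟨Subtype.val, continuous_subtype_val⟩ : TopCat.of Z ⟶ X)).obj F) p) := by
  let i : TopCat.of Z ⟶ X := TopCat.ofHom ⟨Subtype.val, continuous_subtype_val⟩
  haveI : CompactSpace (TopCat.of Z) := isCompact_iff_compactSpace.1 hZ
  have hp : SheafVan16.PairSep i := ⟨Subtype.val_injective, fun z z' hne => by
    obtain ⟨U, V, hU, hV, hd⟩ := hsep z.1 z.2 z'.1 z'.2 fun e => hne (Subtype.ext e)
    exact ⟨U, V, U.isOpen, V.isOpen, hU, hV, Set.disjoint_iff.2 fun x hx => (disjoint_iff.1 hd).le hx⟩⟩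
  haveI := hp.t2
  have hn : SheafVan16.IsNbhds i (fun U : (Opens X)ᵒᵖ => Z ⊆ (U.unop : Set X)) :=
    ⟨fun U hU z => hU z.2, fun A hA => ⟨op A, fun x hx => hA ⟨x, hx⟩, le_rfl⟩⟩
  refine SheafVan16.nonempty_colimit_equiv hn (fun G t => ?_) (fun I hI n => ?_) F p
  · exact SheafVan16.exists_rel G hp (O := ⊤) isCompact_univ (fun z _ => trivial) t
  · haveI := hI
    haveI := CohFound.isFlasque_of_injective I
    exact SheafVan16.subsingleton_hc_of_soft n _ (SheafVan16.soft_pull I hp)

end Groth.Agent.S0946
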