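import Groth.Statements.S0947
import Groth.Agent.Lib.SheafVan16.Generalizations

set_option autoImplicit false
universe u
open CategoryTheory
open CohTop

namespace Groth.Agent.S0947

open TopologicalSpace Opposite CategoryTheory.Limits in
/-- Let X be a spectral space, F an abelian sheaf on X, E ⊆ X a quasi-compact subset and W the set of
points of X specializing to some point of E. Then for every p the group H^p(W, F|_W) (cohomology of
the pullback of F to the subspace W) is isomorphic to the colimit of the groups H^p(U, F) over the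
quasi-compact open neighbourhoods U of E (existence of an isomorphism). -/
theorem result {X : TopCat.{u}} [SpectralSpace X] (E : Set X)
    (hE : IsCompact E) (F : CohTop.Ab X) (p : ℕ) :
    Nonempty ((colimit (ObjectProperty.ι (fun U : (Opens X)ᵒᵖ => E ⊆ (U.unop : Set X) ∧ IsCompact (U.unop : Set X)) ⋙
        (Sheaf.cohomologyPresheafFunctor (Opens.grothendieckTopology X) p).obj F) : AddCommGrpCat.{u}) ≃+
      CohTop.H ((CohTop.pull (TopCat.ofHom ⟨Subtype.val, continuous_subtype_val⟩ :
        TopCat.of {x : X | ∃ e ∈ E, e ∈ closure {x}} ⟶ X)).obj F) p) := by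
  let W : Set X := {x : X | ∃ e ∈ E, e ∈ closure {x}}
  let i : TopCat.of W ⟶ X := TopCat.ofHom ⟨Subtype.val, continuous_subtype_val⟩
  have hsub : ∀ U : Opens X, E ⊆ (U : Set X) → ∀ z : W, i z ∈ U := by
    rintro U hU ⟨x, e, he, hex⟩
    exact (specializes_iff_mem_closure.2 hex).mem_open U.isOpen (hU he)
  have hqc : ∀ A : Opens X, E ⊆ (A : Set X) → ∃ U : Opens X, IsCompact (U : Set X) ∧ E ⊆ (U : Set X) ∧ U ≤ A := by
    classical
    intro A hA
    choose O hOc heO hOA using fun e : E => SheafVan16.exists_qc (U := A) (x := e.1) (hA e.2)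
    obtain ⟨S, hS⟩ := hE.elim_finite_subcover (fun e => (O e : Set X)) (fun e => (O e).isOpen)
      (fun e he => Set.mem_iUnion.2 ⟨⟨e, he⟩, heO ⟨e, he⟩⟩)
    exact ⟨⟨⋃ e ∈ S, (O e : Set X), isOpen_biUnion fun e _ => (O e).isOpen⟩,
      S.finite_toSet.isCompact_biUnion fun e _ => hOc e, hS, fun x hx => by
        obtain ⟨e, -, hex⟩ := Set.mem_iUnion₂.1 hx
        exact hOA e hex⟩
  have h : SheafVan16.QcInter i := ⟨Topology.IsEmbedding.subtypeVal, fun x hx => by
    obtain ⟨U, hU, hEU, hUA⟩ := hqc ⟨(closure {x})ᶜ, isClosed_closure.isOpen_compl⟩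
      (fun e he hex => hx ⟨⟨x, e, he, hex⟩, rfl⟩)
    exact ⟨U, hU, hsub U hEU, fun hxU => hUA hxU (subset_closure rfl)⟩⟩
  have hn : SheafVan16.IsNbhds i (fun U : (Opens X)ᵒᵖ => E ⊆ (U.unop : Set X) ∧ IsCompact (U.unop : Set X)) :=
    ⟨fun U hU => hsub U.unop hU.1, fun A hA => by
      obtain ⟨U, hU, hEU, hUA⟩ := hqc A fun e he => hA ⟨e, e, he, subset_closure rfl⟩
      exact ⟨op U, ⟨hEU, hU⟩, hUA⟩⟩
  exact SheafVan16.nonempty_colimit_equiv hn (fun G t => h.exists_rel_top G t)
    (fun I hI n => h.subsingleton_hc_pull_injective I hI n) F p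

end Groth.Agent.S0947
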