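import Groth.Statements.S0967
import Groth.Agent.Lib.DMon9.Dual

set_option autoImplicit false
set_option linter.style.haveILetI false
set_option backward.isDefEq.respectTransparency false
universe u
open CategoryTheory
attribute [local instance] HasDerivedCategory.standard
open DCoh

namespace Groth.Agent.S0967

open AlgebraicGeometry in
/-- Schemes; K and L given by complexes with K K-flat and perfect, and RHom(K, L) represented by a
K-flat complex D: for every M in D(O_X) there is an isomorphism RHom(L, M) ⊗^L K ≅ RHom(D, M). The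
derived tensor functors and internal RHom functors are taken under their existence binders. -/
theorem result {X : Scheme.{u}} (K L : CochainComplex X.Modules ℤ) (hK : DCoh.IsKFlat K)
    (hKp : DCoh.IsPerfect (DerivedCategory.Q.obj K))
    [DCoh.HasLTensorCx K] [DCoh.HasRSheafHom K] [DCoh.HasLTensorCx L] [DCoh.HasRSheafHom L]
    (D : CochainComplex X.Modules ℤ) (hD : DCoh.IsKFlat D)
    (hDrep : Nonempty (DerivedCategory.Q.obj D ≅ (DCoh.RSheafHom K).obj (DerivedCategory.Q.obj L)))
    [DCoh.HasLTensorCx D] [DCoh.HasRSheafHom D] (M : DCoh.D X) :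
    Nonempty ((DCoh.LTensorCx K).obj ((DCoh.RSheafHom L).obj M) ≅ (DCoh.RSheafHom D).obj M) := by
  open Groth.Agent in
  obtain ⟨eD⟩ := hDrep
  have hK' := (KFlat.Sch.isKFlat_iff K).2 hK
  obtain ⟨K', q, hK'f, hq⟩ := RHom.exists_kflat_res (DerivedCategory.Q.objPreimage ((DCoh.RSheafHom K).obj (RHom.oD X)))
  obtain ⟨L', r, hL', hr⟩ := RHom.exists_kflat_res L
  haveI := hq
  haveI := hr
  let e' : DerivedCategory.Q.obj K' ≅ (DCoh.RSheafHom K).obj (RHom.oD X) :=
    asIso (DerivedCategory.Q.map q) ≪≫ DerivedCategory.Q.objObjPreimageIso _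
  haveI := KFlat.Sch.hasLTensorCx K'
  haveI := RHom.hasRSheafHom K'
  haveI := KFlat.Sch.hasLTensorCx L'
  haveI := RHom.hasRSheafHom L'
  let T := ((KFlat.tcx (KFlat.Sch.TX X)).obj K').obj L'
  haveI := KFlat.Sch.hasLTensorCx T
  haveI := RHom.hasRSheafHom T
  obtain ⟨bi⟩ := DMon9.nonempty_bidualIso K K' hK' hK'f hKp e'
  obtain ⟨du⟩ := RHom.nonempty_dualIso (D := K') hK' hKp e'
  haveI := RHom.isIso_counit_kflat K' L' hL'
  let eT : DerivedCategory.Q.obj D ≅ DerivedCategory.Q.obj T :=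
    eD ≪≫ (du.app _).symm ≪≫ (DCoh.LTensorCx K').mapIso (asIso (DerivedCategory.Q.map r)).symm ≪≫
      asIso ((RHom.ltCounit K').app L') ≪≫ DerivedCategory.Q.mapIso (RHom.commCx L' K')
  obtain ⟨rD⟩ := RHom.nonempty_rhomIso eT
  haveI := RHom.isIso_rhomMap r
  exact ⟨((rD ≪≫ RHom.rhomAssocIso K' L' hL' ≪≫ Functor.isoWhiskerLeft _ bi).app M ≪≫
    (DCoh.LTensorCx K).mapIso ((asIso (RHom.rhomMap r)).app M).symm).symm⟩

end Groth.Agent.S0967
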