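import Groth.Statements.S0972
import Groth.Agent.Lib.DimRes8.Sweep

set_option autoImplicit false
universe v u
open CategoryTheory CategoryTheory.Limits
open CohDer

namespace Groth.Agent.S0972




/-- Let d assign to each object of an abelian category a value in ℕ∞, invariant under isomorphism, such
that every object embeds into an object with d = 0, d of a binary biproduct is at most the maximum
of the d of the summands, and in a short exact sequence 0 → X₁ → X₂ → X₃ → 0 one has d(X₃) ≤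
max(d(X₁) - 1, d(X₂)). If K is a cochain complex with all d(Kⁿ) finite (the source allows the value
∞; we state the finite case) and n + d(Kⁿ) tending to -∞ as n → -∞, then K maps quasi-isomorphically
to a complex L all of whose terms have d = 0. -/
theorem result {A : Type u} [Category.{v} A] [Abelian A] (d : A → ℕ∞) (hiso : ∀ ⦃X Y : A⦄, Nonempty (X ≅ Y) → d X = d Y)
    (h1 : ∀ X : A, ∃ (Y : A) (ι : X ⟶ Y), Mono ι ∧ d Y = 0)
    (h2 : ∀ X Y : A, d (X ⊞ Y) ≤ max (d X) (d Y))
    (h3 : ∀ S : ShortComplex A, S.ShortExact → d S.X₃ ≤ max (d S.X₁ - 1) (d S.X₂))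
    (K : CochainComplex A ℤ) (hfin : ∀ n : ℤ, d (K.X n) ≠ ⊤)
    (hK : ∀ m : ℤ, ∃ N : ℤ, ∀ n : ℤ, n ≤ N → ∃ k : ℕ, d (K.X n) = k ∧ n + k ≤ m) :
    ∃ (L : CochainComplex A ℤ) (f : K ⟶ L), QuasiIso f ∧ ∀ n, d (L.X n) = 0 := by
  let D : Groth.Agent.DimRes8.Grading A :=
    { G := fun k X => d X ≤ (k : ℕ∞)
      iso := fun {k X Y} e h => (hiso ⟨e⟩) ▸ h
      mono := fun {k l X} hkl h => h.trans (by exact_mod_cast hkl)
      env := fun X => let ⟨Y, ι, hι, hY⟩ := h1 X; ⟨Y, ι, hι, hY.le.trans (by simp)⟩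
      sum := fun {k X Y} hX hY => (h2 X Y).trans (max_le hX hY)
      quot := fun {k} S hS a b => (h3 S hS).trans (max_le (tsub_le_iff_right.2 (by simpa using a)) b) }
  obtain ⟨L, f, hf, hL⟩ := Groth.Agent.DimRes8.exists_resolution D K fun m => by
    obtain ⟨N, hN⟩ := hK m
    exact ⟨N, fun n hn => let ⟨k, hk, hle⟩ := hN n hn; ⟨k, hk.le, hle⟩⟩
  exact ⟨L, f, hf, fun n => by simpa [D] using hL n⟩


end Groth.Agent.S0972
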