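import Groth.Statements.S0973
import Mathlib
import Groth.Agent.Lib.DerTrunc.Basic

set_option autoImplicit false
universe w v u
open CategoryTheory CategoryTheory.Limits
open CohDer

namespace Groth.Agent.S0973

open CategoryTheory CategoryTheory.Limits CategoryTheory.Pretriangulated CategoryTheory.Triangulated DerivedCategory.TStructure
set_option backward.isDefEq.respectTransparency false

noncomputable section
variable {A : Type u} [Category.{v} A] [Abelian A] [HasDerivedCategory.{w} A]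

abbrev HH (n : ℤ) : DerivedCategory A ⥤ A := DerivedCategory.homologyFunctor A n

abbrev sgl (j : ℤ) : A ⥤ DerivedCategory A := DerivedCategory.singleFunctor A j

abbrev Hsgl (X : DerivedCategory A) (j : ℤ) : DerivedCategory A := (sgl j).obj ((HH j).obj X)

theorem iso_sgl (Y : DerivedCategory A) (n : ℤ) [Y.IsGE n] [Y.IsLE n] :
    Nonempty (Y ≅ Hsgl Y n) := by
  obtain ⟨M, ⟨e⟩⟩ := DerivedCategory.exists_iso_singleFunctor_obj_of_isGE_of_isLE Y n
  exact ⟨e ≪≫ (sgl n).mapIso (((DerivedCategory.singleFunctorCompHomologyFunctorIso A n).app M).symm ≪≫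
    (HH n).mapIso e.symm)⟩

theorem iso_sgl_truncGE (X : DerivedCategory A) (c : ℤ) [X.IsLE c] :
    Nonempty ((t.truncGE c).obj X ≅ Hsgl X c) := by
  haveI : DerivedCategory.IsGE ((t.truncGE c).obj X) c := (inferInstance : t.IsGE ((t.truncGE c).obj X) c)
  haveI : DerivedCategory.IsLE ((t.truncGE c).obj X) c :=
    (inferInstance : t.IsLE ((t.truncGE c).obj X) c)
  haveI := Groth.Agent.DerTrunc.isIso_homology_truncGEπ X c c le_rfl
  obtain ⟨e⟩ := iso_sgl ((t.truncGE c).obj X) c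
  exact ⟨e ≪≫ (sgl c).mapIso (asIso ((HH c).map ((t.truncGEπ c).app X))).symm⟩

/-- Vanishing of maps into the shift from vanishing on cohomology pieces. -/
theorem hom_shift_zero (S : DerivedCategory A) (k : ℕ) : ∀ (X : DerivedCategory A) (a c : ℤ), c + 1 = a + k →
    X.IsGE a → X.IsLE c → (∀ (j : ℤ) (g : S ⟶ (Hsgl X j)⟦(1 : ℤ)⟧), g = 0) →
    ∀ f : S ⟶ X⟦(1 : ℤ)⟧, f = 0 := by
  induction k with
  | zero =>
    intro X a c hc ha hb _ f
    have h1 : IsZero X := t.isZero X c a (by omega)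
    exact ((shiftFunctor _ (1 : ℤ)).map_isZero h1).eq_of_tgt _ _
  | succ k ih =>
    intro X a c hc ha hb hv f
    have hL : DerivedCategory.IsLE ((t.truncLT c).obj X) (c - 1) := (inferInstance : t.IsLE ((t.truncLT c).obj X) (c - 1))
    have hG : DerivedCategory.IsGE ((t.truncLT c).obj X) a := (inferInstance : t.IsGE ((t.truncLT c).obj X) a)
    have hT := Triangle.shift_distinguished _ (t.triangleLTGE_distinguished c X) (1 : ℤ)
    obtain ⟨e⟩ := iso_sgl_truncGE X c
    have hz : f ≫ ((t.truncGEπ c).app X)⟦(1 : ℤ)⟧' = 0 := by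
      have := hv c (f ≫ ((t.truncGEπ c).app X)⟦(1 : ℤ)⟧' ≫ e.hom⟦(1 : ℤ)⟧')
      rw [← cancel_mono (e.hom⟦(1 : ℤ)⟧'), zero_comp, Category.assoc]
      exact this
    obtain ⟨g, hg⟩ := Triangle.coyoneda_exact₂ _ hT f (by
      show f ≫ ((1 : ℤ).negOnePow • ((t.truncGEπ c).app X)⟦(1 : ℤ)⟧') = 0
      rw [Linear.comp_units_smul, hz, smul_zero])
    have hg0 : g = 0 := by
      refine ih _ a (c - 1) (by omega) hG hL (fun j g => ?_) g
      by_cases hj : j < c
      · haveI := Groth.Agent.DerTrunc.isIso_homology_truncLTι X c j hj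
        have := hv j (g ≫ (((sgl j).map ((HH j).map ((t.truncLTι c).app X)))⟦(1 : ℤ)⟧'))
        rw [← cancel_mono (((sgl j).map ((HH j).map ((t.truncLTι c).app X)))⟦(1 : ℤ)⟧'), zero_comp]
        exact this
      · exact ((shiftFunctor _ (1 : ℤ)).map_isZero ((sgl j).map_isZero
          (DerivedCategory.isZero_of_isLE _ (c - 1) j (by omega)))).eq_of_tgt _ _
    rw [hg, hg0]
    exact zero_comp

theorem split_map (K : DerivedCategory A) (a : ℤ) [K.IsGE a] (i : ℤ) (hi : a ≤ i)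
    (hv : ∀ (j : ℤ), j < i → ∀ g : Hsgl K i ⟶ (Hsgl K j)⟦(1 : ℤ)⟧, g = 0) :
    ∃ ψ : Hsgl K i ⟶ K, IsIso ((HH i).map ψ) := by
  let X := (t.truncLT (i + 1)).obj K
  have hXL : DerivedCategory.IsLE X i := t.isLE_truncLT_obj K (i + 1) i (by omega)
  have hXG : DerivedCategory.IsGE X a := (inferInstance : t.IsGE ((t.truncLT (i + 1)).obj K) a)
  haveI := Groth.Agent.DerTrunc.isIso_homology_truncLTι K (i + 1) i (by omega)
  have hX := t.triangleLTGE_distinguished i X
  obtain ⟨e₀⟩ := iso_sgl_truncGE X i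
  let e : (t.truncGE i).obj X ≅ Hsgl K i := e₀ ≪≫ (sgl i).mapIso (asIso ((HH i).map ((t.truncLTι (i + 1)).app K)))
  let L := (t.truncLT i).obj X
  have hLL : DerivedCategory.IsLE L (i - 1) := (inferInstance : t.IsLE ((t.truncLT i).obj X) (i - 1))
  have hLG : DerivedCategory.IsGE L a := (inferInstance : t.IsGE ((t.truncLT i).obj X) a)
  obtain ⟨k, hk⟩ : ∃ k : ℕ, i = a + k := ⟨(i - a).toNat, by omega⟩
  have hvL : ∀ f : Hsgl K i ⟶ L⟦(1 : ℤ)⟧, f = 0 := by
    refine hom_shift_zero _ k L a (i - 1) (by omega) hLG hLL fun j g => ?_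
    by_cases hj : j < i
    · haveI := Groth.Agent.DerTrunc.isIso_homology_truncLTι X i j hj
      haveI := Groth.Agent.DerTrunc.isIso_homology_truncLTι K (i + 1) j (by omega)
      have := hv j hj (g ≫ (((sgl j).map ((HH j).map ((t.truncLTι i).app X) ≫ (HH j).map ((t.truncLTι (i + 1)).app K)))⟦(1 : ℤ)⟧'))
      rw [← cancel_mono (((sgl j).map ((HH j).map ((t.truncLTι i).app X) ≫ (HH j).map ((t.truncLTι (i + 1)).app K)))⟦(1 : ℤ)⟧'), zero_comp]
      exact this
    · exact ((shiftFunctor _ (1 : ℤ)).map_isZero ((sgl j).map_isZero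
        (DerivedCategory.isZero_of_isLE _ (i - 1) j (by omega)))).eq_of_tgt _ _
  obtain ⟨s, hs⟩ := Triangle.coyoneda_exact₃ _ hX e.inv (hvL _)
  refine ⟨s ≫ (t.truncLTι (i + 1)).app K, ?_⟩
  haveI := Groth.Agent.DerTrunc.isIso_homology_truncGEπ X i i le_rfl
  have hs' : (HH i).map e.inv = (HH i).map s ≫ (HH i).map ((t.truncGEπ i).app X) := by
    rw [← Functor.map_comp]; exact congrArg (HH i).map hs
  haveI : IsIso ((HH i).map s) := by
    have : IsIso ((HH i).map s ≫ (HH i).map ((t.truncGEπ i).app X)) := by rw [← hs']; infer_instance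
    exact IsIso.of_isIso_comp_right _ ((HH i).map ((t.truncGEπ i).app X))
  rw [Functor.map_comp]
  exact IsIso.comp_isIso' inferInstance inferInstance

end


/-- Let K be an object of the derived category of an abelian category with cohomology concentrated in
degrees a, …, b. Suppose that for all i > j and p ≥ 2 every morphism H^i(K) ⟶ H^j(K)[p] in the
derived category (an element of Ext^p) vanishes. Then K splits: it is isomorphic to ⨁_{a ≤ i ≤ b}
Hⁱ(K)[-i]. -/
theorem result {A : Type u} [Category.{v} A] [Abelian A] [HasDerivedCategory.{w} A]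
    (K : DerivedCategory A) (a b : ℤ) [K.IsGE a] [K.IsLE b]
    (hExt : ∀ (i j : ℤ) (p : ℕ), j < i → 2 ≤ p →
      ∀ f : (DerivedCategory.singleFunctor A 0).obj ((DerivedCategory.homologyFunctor A i).obj K) ⟶
        ((DerivedCategory.singleFunctor A 0).obj ((DerivedCategory.homologyFunctor A j).obj K))⟦(p : ℤ)⟧, f = 0)
    [HasBiproduct (fun i : Finset.Icc a b => (DerivedCategory.singleFunctor A (i : ℤ)).obj ((DerivedCategory.homologyFunctor A (i : ℤ)).obj K))] :
    Nonempty (K ≅ ⨁ (fun i : Finset.Icc a b => (DerivedCategory.singleFunctor A (i : ℤ)).obj ((DerivedCategory.homologyFunctor A (i : ℤ)).obj K))) := by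
  classical
  have hv : ∀ (i j : ℤ), j < i → ∀ g : Hsgl K i ⟶ (Hsgl K j)⟦(1 : ℤ)⟧, g = 0 := by
    intro i j hj g
    obtain ⟨p, hp⟩ : ∃ p : ℕ, (p : ℤ) = 1 + i - j := ⟨(1 + i - j).toNat, by omega⟩
    let SF := DerivedCategory.singleFunctors A
    let e₁ : (Hsgl K i)⟦i⟧ ≅ (sgl 0).obj ((HH i).obj K) := (SF.shiftIso i 0 i (by omega)).app _
    let e₂ : ((Hsgl K j)⟦(1 : ℤ)⟧)⟦i⟧ ≅ ((sgl 0).obj ((HH j).obj K))⟦(p : ℤ)⟧ :=
      ((shiftFunctorAdd' (DerivedCategory A) (1 : ℤ) i (1 + i) rfl).app _).symm ≪≫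
      (SF.shiftIso (1 + i) (-(p : ℤ)) j (by omega)).app _ ≪≫ ((SF.shiftIso (p : ℤ) (-(p : ℤ)) 0 (by omega)).app _).symm
    have h0 := hExt i j p hj (by omega) (e₁.inv ≫ g⟦i⟧' ≫ e₂.hom)
    apply (shiftFunctor (DerivedCategory A) i).map_injective
    rw [Functor.map_zero, ← cancel_epi e₁.inv, ← cancel_mono e₂.hom, Category.assoc, h0]
    simp
  have hψ : ∀ i : Finset.Icc a b, ∃ ψ : Hsgl K i ⟶ K, IsIso ((HH (i : ℤ)).map ψ) := fun i =>
    split_map K a i (Finset.mem_Icc.1 i.2).1 fun j hj => hv i j hj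
  choose ψ hψ using hψ
  let f : ⨁ (fun i : Finset.Icc a b => Hsgl K (i : ℤ)) ⟶ K := biproduct.desc ψ
  suffices IsIso f from ⟨(asIso f).symm⟩
  rw [DerivedCategory.isIso_iff]
  intro n
  have hz : ∀ i : Finset.Icc a b, (i : ℤ) ≠ n → IsZero ((HH n).obj (Hsgl K (i : ℤ))) := fun i h => by
    rcases lt_or_gt_of_ne h with h | h
    · exact DerivedCategory.isZero_of_isLE _ (i : ℤ) n h
    · exact DerivedCategory.isZero_of_isGE _ (i : ℤ) n h
  have htot : 𝟙 ((HH n).obj (⨁ fun i : Finset.Icc a b => Hsgl K (i : ℤ))) =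
      ∑ i, (HH n).map (biproduct.π (fun i : Finset.Icc a b => Hsgl K (i : ℤ)) i) ≫ (HH n).map (biproduct.ι (fun i : Finset.Icc a b => Hsgl K (i : ℤ)) i) := by
    rw [← (HH n).map_id, ← biproduct.total, Functor.map_sum]
    simp only [Functor.map_comp]
  by_cases hn : n ∈ Finset.Icc a b
  · obtain ⟨m, hm⟩ : ∃ m : Finset.Icc a b, (m : ℤ) = n := ⟨⟨n, hn⟩, rfl⟩
    subst hm
    haveI : IsIso ((HH (m : ℤ)).map (biproduct.ι (fun i : Finset.Icc a b => Hsgl K (i : ℤ)) m)) := by
      refine ⟨(HH (m : ℤ)).map (biproduct.π _ m), by rw [← Functor.map_comp, biproduct.ι_π_self, CategoryTheory.Functor.map_id], ?_⟩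
      rw [htot, Finset.sum_eq_single m (fun i _ hi => (congrArg (· ≫ _) ((hz i (fun h => hi (Subtype.ext h))).eq_of_tgt
        ((HH (m : ℤ)).map (biproduct.π (fun i : Finset.Icc a b => Hsgl K (i : ℤ)) i)) 0)).trans zero_comp) (fun h => absurd (Finset.mem_univ m) h)]
    haveI : IsIso ((HH (m : ℤ)).map (biproduct.ι _ m) ≫ (HH (m : ℤ)).map f) := by
      rw [← Functor.map_comp, biproduct.ι_desc]; exact hψ m
    exact IsIso.of_isIso_comp_left ((HH (m : ℤ)).map (biproduct.ι _ m)) _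
  · have hK : IsZero ((HH n).obj K) := by
      simp only [Finset.mem_Icc, not_and_or, not_le] at hn
      rcases hn with h | h
      · exact DerivedCategory.isZero_of_isGE K a n h
      · exact DerivedCategory.isZero_of_isLE K b n h
    have hsrc : IsZero ((HH n).obj (⨁ fun i : Finset.Icc a b => Hsgl K (i : ℤ))) := by
      rw [IsZero.iff_id_eq_zero, htot]
      refine Finset.sum_eq_zero fun i _ => ?_
      exact (congrArg (· ≫ _) ((hz i (fun h => hn (h ▸ i.2))).eq_of_tgt ((HH n).map (biproduct.π (fun i : Finset.Icc a b => Hsgl K (i : ℤ)) i)) 0)).trans zero_comp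
    exact ⟨0, hsrc.eq_of_src _ _, hK.eq_of_src _ _⟩


end Groth.Agent.S0973
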