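import Groth.Statements.S0984
import Groth.Agent.Lib.DerLimC.Compact
import Groth.Prelude.Def_DerLim

set_option autoImplicit false
universe v u
open CategoryTheory
open DerLim

namespace Groth.Agent.S0984

open CategoryTheory.Limits CategoryTheory.Pretriangulated Groth.Agent.DerLimC

variable {D : Type u} [Category.{v} D] [Preadditive D] [Limits.HasZeroObject D] [HasShift D ℤ]
  [∀ n : ℤ, (shiftFunctor D n).Additive] [Pretriangulated D] [HasCoproducts.{v} D]

theorem exists_step {ι : Type v} (E : ι → D) {X K : D} (i : K ⟶ X) :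
    ∃ (K' : D) (f : K ⟶ K') (i' : K' ⟶ X), f ≫ i' = i ∧
      (∀ (j : ι) (m : ℤ) (g : (shiftFunctor D m).obj (E j) ⟶ K), g ≫ i = 0 → g ≫ f = 0) ∧
      ∃ (κ : Type v) (a : κ → ι) (m : κ → ℤ) (y : (∐ fun k => (shiftFunctor D (m k)).obj (E (a k))) ⟶ K)
        (z : K' ⟶ (shiftFunctor D (1 : ℤ)).obj (∐ fun k => (shiftFunctor D (m k)).obj (E (a k)))),
        Triangle.mk y f z ∈ distinguishedTriangles := by
  classical
  let κ : Type v := Σ (j : ι) (m : ℤ), {g : (shiftFunctor D m).obj (E j) ⟶ K // g ≫ i = 0}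
  let y : (∐ fun k : κ => (shiftFunctor D k.2.1).obj (E k.1)) ⟶ K := Sigma.desc fun k => k.2.2.1
  obtain ⟨K', f, z, hT⟩ := distinguished_cocone_triangle y
  obtain ⟨(i' : K' ⟶ X), (hi' : i = f ≫ i')⟩ := Triangle.yoneda_exact₂ _ hT i (by
    show y ≫ i = 0
    refine Sigma.hom_ext _ _ fun k => ?_
    simp only [y, Sigma.ι_desc_assoc, comp_zero, k.2.2.2])
  refine ⟨K', f, i', hi'.symm, fun j m g hg => ?_, κ, fun k => k.1, fun k => k.2.1, y, z, hT⟩
  have h : y ≫ f = 0 := comp_distTriang_mor_zero₁₂ _ hT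
  have h1 := congrArg (fun t => Sigma.ι (fun k : κ => (shiftFunctor D k.2.1).obj (E k.1)) ⟨j, m, g, hg⟩ ≫ t) h
  simpa [y] using h1

/-- A map from a compact object to a sequential homotopy colimit factors through some stage. -/
theorem exists_factor [HasColimitsOfShape (Discrete ℕ) D] (K : ℕ → D) (f : ∀ n, K n ⟶ K (n + 1))
    {L : D} {j : ∀ n, K n ⟶ L} (hL : DerLim.IsHocolim K f L j) {C : D} (hC : CohDer.IsCompactObject C)
    (h : C ⟶ L) : ∃ (N : ℕ) (g : C ⟶ K N), h = g ≫ j N := by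
  classical
  obtain ⟨c, hT⟩ := hL
  have hjn : ∀ n, f n ≫ j (n + 1) = j n := by
    intro n
    have h0 : (𝟙 (∐ K) - DerLim.shiftMap K f) ≫ Sigma.desc j = 0 := comp_distTriang_mor_zero₁₂ _ hT
    have h1 := congrArg (fun t => Sigma.ι K n ≫ t) h0
    simp [DerLim.shiftMap, Preadditive.sub_comp, Preadditive.comp_sub, sub_eq_zero] at h1
    exact h1.symm
  have hsum : ∀ {C : D}, CohDer.IsCompactObject C → ∀ (φ : C ⟶ ∐ K),
      ∃ (s : Finset ℕ) (u : ∀ n, C ⟶ K n), φ = ∑ n ∈ s, u n ≫ Sigma.ι K n := by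
    intro C hC φ
    let K' : ULift.{v} ℕ → D := fun n => K n.down
    let e : (∐ K) ⟶ ∐ K' := Sigma.desc fun n => Sigma.ι K' ⟨n⟩
    let e' : (∐ K') ⟶ ∐ K := Sigma.desc fun n => Sigma.ι K n.down
    have he : e ≫ e' = 𝟙 _ := Sigma.hom_ext _ _ fun n => by simp [e, e', K']
    obtain ⟨s, u, hu⟩ := exists_sum hC (φ ≫ e)
    refine ⟨s.image ULift.down, fun n => u ⟨n⟩, ?_⟩
    rw [Finset.sum_image fun a _ b _ h => ULift.ext _ _ h, ← Category.comp_id φ, ← he, ← Category.assoc, hu,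
      Preadditive.sum_comp]
    exact Finset.sum_congr rfl fun n _ => by simp [e', K']
  have hzero : ∀ {C : D}, CohDer.IsCompactObject C → ∀ (s : Finset ℕ) (u : ∀ n, C ⟶ K n),
      ∑ n ∈ s, u n ≫ Sigma.ι K n = 0 → ∀ n ∈ s, u n = 0 := by
    intro C hC s u h0 n hn
    let K' : ULift.{v} ℕ → D := fun n => K n.down
    let e : (∐ K) ⟶ ∐ K' := Sigma.desc fun n => Sigma.ι K' ⟨n⟩
    have h1 := congrArg (fun t => t ≫ e) h0
    simp only [Preadditive.sum_comp, zero_comp, Category.assoc] at h1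
    refine eq_zero hC (X := K') (s := s.image ULift.up) (u := fun n => u n.down) ?_ ⟨n⟩
      (Finset.mem_image_of_mem _ hn)
    rw [Finset.sum_image fun a _ b _ h => congrArg ULift.down h, ← h1]
    exact Finset.sum_congr rfl fun n _ => by simp [e, K']
  have hinj : ∀ {C : D}, CohDer.IsCompactObject C → ∀ (y : C ⟶ ∐ K),
      y ≫ (𝟙 (∐ K) - DerLim.shiftMap K f) = 0 → y = 0 := by
    intro C hC y hy
    obtain ⟨s, u, rfl⟩ := hsum hC y
    set u' : ∀ n, C ⟶ K n := fun n => if n ∈ s then u n else 0 with hu'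
    let w : ∀ n, C ⟶ K n := fun n => u' n - match n with
      | 0 => 0
      | m + 1 => u' m ≫ f m
    set N := s.sup id + 2
    have hout : ∀ n, N ≤ n + 1 → u' n = 0 := fun n hn => if_neg fun h => by
      have := Finset.le_sup (f := id) h
      simp only [id] at this
      omega
    have hsub : ∑ n ∈ Finset.range N, u' n ≫ Sigma.ι K n = ∑ n ∈ s, u n ≫ Sigma.ι K n := by
      simp only [hu', ite_comp, zero_comp]
      rw [← Finset.sum_filter, Finset.filter_mem_eq_inter, Finset.inter_eq_right.2 fun n hn => by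
        rw [Finset.mem_range]; have := Finset.le_sup (f := id) hn; simp only [id] at this; omega]
    have hw : ∑ n ∈ Finset.range N, w n ≫ Sigma.ι K n = 0 := by
      rw [← hy, ← hsub]
      simp only [w, Preadditive.sub_comp, Preadditive.comp_sub, Finset.sum_sub_distrib, Category.comp_id,
        Preadditive.sum_comp]
      congr 1
      obtain ⟨M, hM⟩ : ∃ M, N = M + 1 := ⟨s.sup id + 1, rfl⟩
      rw [hM, Finset.sum_range_succ', Finset.sum_range_succ (fun x => (u' x ≫ Sigma.ι K x) ≫ DerLim.shiftMap K f)]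
      simp only [zero_comp, add_zero]
      rw [hout M (by omega), zero_comp, zero_comp, add_zero]
      exact Finset.sum_congr rfl fun n _ => by simp [DerLim.shiftMap]
    have hall : ∀ n, u' n = 0 := by
      intro n
      induction n with
      | zero =>
        have := hzero hC _ w hw 0 (Finset.mem_range.2 (by omega))
        simpa [w] using this
      | succ m ihm =>
        by_cases hm : m + 1 < N
        · have := hzero hC _ w hw (m + 1) (Finset.mem_range.2 hm)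
          simpa [w, ihm] using this
        · exact hout _ (by omega)
    rw [← hsub]
    simp [hall]
  let e₀ : ((shiftFunctor D (-1 : ℤ)).obj C)⟦(1 : ℤ)⟧ ≅ C := (shiftEquiv D (1 : ℤ)).counitIso.app C
  obtain ⟨y', hy'⟩ := (shiftFunctor D (1 : ℤ)).map_surjective (e₀.hom ≫ h ≫ c)
  have hy0 : y' = 0 := hinj (Groth.Agent.MVSqLib.Cpt.compact_shift hC (-1)) y' ((shiftFunctor D (1 : ℤ)).map_injective (by
    rw [Functor.map_comp, hy', Functor.map_zero, Category.assoc, Category.assoc,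
      show c ≫ (𝟙 (∐ K) - DerLim.shiftMap K f)⟦(1 : ℤ)⟧' = 0 from comp_distTriang_mor_zero₃₁ _ hT, comp_zero,
      comp_zero]))
  have hc0 : h ≫ c = 0 := by
    rw [hy0, Functor.map_zero] at hy'
    exact (cancel_epi e₀.hom).1 (hy'.symm.trans comp_zero.symm)
  obtain ⟨(y : C ⟶ ∐ K), (hy : h = y ≫ Sigma.desc j)⟩ := Triangle.coyoneda_exact₃ _ hT h hc0
  obtain ⟨s, u, rfl⟩ := hsum hC y
  rw [hy, Preadditive.sum_comp]
  simp only [Category.assoc, Sigma.ι_desc]
  suffices H : ∀ t : Finset ℕ, ∃ N g, ∑ n ∈ t, u n ≫ j n = g ≫ j N from H s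
  intro t
  have hpush : ∀ n M, n ≤ M → ∀ g : C ⟶ K n, ∃ g' : C ⟶ K M, g ≫ j n = g' ≫ j M := by
    intro n M hnM g
    induction hnM with
    | refl => exact ⟨g, rfl⟩
    | step _ ih => obtain ⟨g', hg'⟩ := ih; exact ⟨g' ≫ f _, by rw [hg', Category.assoc, hjn]⟩
  induction t using Finset.induction with
  | empty => exact ⟨0, 0, by simp⟩
  | insert b t hb iht =>
    obtain ⟨N, g, hg⟩ := iht
    obtain ⟨g₁, h₁⟩ := hpush b (max b N) (le_max_left _ _) (u b)
    obtain ⟨g₂, h₂⟩ := hpush N (max b N) (le_max_right _ _) g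
    exact ⟨max b N, g₁ + g₂, by rw [Finset.sum_insert hb, hg, h₁, h₂, Preadditive.add_comp]⟩

theorem main [HasColimitsOfShape (Discrete ℕ) D]
    {ι : Type v} (E : ι → D) (hc : ∀ i, CohDer.IsCompactObject (E i)) (hg : CohDer.Generates E) (X : D) :
    ∃ (K : ℕ → D) (f : ∀ n, K n ⟶ K (n + 1)) (i : ∀ n, K n ⟶ X),
      DerLim.IsHocolim K f X i ∧
      (∃ (κ : Type v) (a : κ → ι) (m : κ → ℤ), Nonempty (K 0 ≅ ∐ (fun k => (shiftFunctor D (m k)).obj (E (a k))))) ∧
      ∀ n, ∃ (κ : Type v) (a : κ → ι) (m : κ → ℤ) (y : (∐ fun k => (shiftFunctor D (m k)).obj (E (a k))) ⟶ K n)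
        (z : K (n + 1) ⟶ (shiftFunctor D (1 : ℤ)).obj (∐ fun k => (shiftFunctor D (m k)).obj (E (a k)))),
        Triangle.mk y (f n) z ∈ distinguishedTriangles := by
  classical
  let κ₀ : Type v := Σ (j : ι) (m : ℤ), ((shiftFunctor D m).obj (E j) ⟶ X)
  choose next fn inext hfi hkill hdist using fun S : Σ K : D, K ⟶ X => exists_step E S.2
  let S : ℕ → Σ K : D, K ⟶ X := fun n => Nat.rec
    ⟨∐ fun k : κ₀ => (shiftFunctor D k.2.1).obj (E k.1), Sigma.desc fun k => k.2.2⟩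
    (fun _ T => ⟨next T, inext T⟩) n
  let K : ℕ → D := fun n => (S n).1
  let f : ∀ n, K n ⟶ K (n + 1) := fun n => fn (S n)
  let i : ∀ n, K n ⟶ X := fun n => (S n).2
  have hfi' : ∀ n, f n ≫ i (n + 1) = i n := fun n => hfi (S n)
  obtain ⟨L, π, c, hT⟩ := distinguished_cocone_triangle (𝟙 (∐ K) - DerLim.shiftMap K f)
  have hπ : Sigma.desc (fun n => Sigma.ι K n ≫ π) = π := Sigma.hom_ext _ _ fun n => by simp
  have hL : DerLim.IsHocolim K f L (fun n => Sigma.ι K n ≫ π) := ⟨c, by rwa [hπ]⟩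
  obtain ⟨(q : L ⟶ X), (hq : Sigma.desc i = π ≫ q)⟩ := Triangle.yoneda_exact₂ _ hT (Sigma.desc i) (by
    show (𝟙 (∐ K) - DerLim.shiftMap K f) ≫ Sigma.desc i = 0
    refine Sigma.hom_ext _ _ fun n => ?_
    simp [DerLim.shiftMap, Preadditive.sub_comp, Preadditive.comp_sub, hfi'])
  have hjq : ∀ n, (Sigma.ι K n ≫ π) ≫ q = i n := fun n => by
    rw [Category.assoc, ← hq, Sigma.ι_desc]
  have hsurj : ∀ (j : ι) (m : ℤ) (φ : (shiftFunctor D m).obj (E j) ⟶ X), ∃ g, g ≫ q = φ := fun j m φ =>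
    ⟨Sigma.ι (fun k : κ₀ => (shiftFunctor D k.2.1).obj (E k.1)) ⟨j, m, φ⟩ ≫ Sigma.ι K 0 ≫ π, by
      show (Sigma.ι (fun k : κ₀ => (shiftFunctor D k.2.1).obj (E k.1)) ⟨j, m, φ⟩ ≫ Sigma.ι K 0 ≫ π) ≫ q = φ
      rw [Category.assoc]
      refine (congrArg (fun t => Sigma.ι (fun k : κ₀ => (shiftFunctor D k.2.1).obj (E k.1)) ⟨j, m, φ⟩ ≫ t) (hjq 0)).trans ?_
      simp [i, S]⟩
  have hinj : ∀ (j : ι) (m : ℤ) (h : (shiftFunctor D m).obj (E j) ⟶ L), h ≫ q = 0 → h = 0 := by
    intro j m h hh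
    obtain ⟨N, g, rfl⟩ := exists_factor K f hL (Groth.Agent.MVSqLib.Cpt.compact_shift (hc j) m) h
    rw [Category.assoc, hjq] at hh
    have h0 : g ≫ f N = 0 := hkill (S N) j m g hh
    have e : Sigma.ι K N ≫ π = f N ≫ Sigma.ι K (N + 1) ≫ π := by
      have h1 : (𝟙 (∐ K) - DerLim.shiftMap K f) ≫ π = 0 := comp_distTriang_mor_zero₁₂ _ hT
      have h2 := congrArg (fun t => Sigma.ι K N ≫ t) h1
      simp [DerLim.shiftMap, Preadditive.sub_comp, Preadditive.comp_sub, sub_eq_zero] at h2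
      exact h2
    show g ≫ Sigma.ι K N ≫ π = 0
    rw [e, ← Category.assoc, h0, zero_comp]
  obtain ⟨Z, β, δ, hZ⟩ := distinguished_cocone_triangle q
  have hzero : ∀ (j : ι) (m : ℤ) (φ : (shiftFunctor D m).obj (E j) ⟶ Z), φ = 0 := by
    intro j m φ
    let ei : (shiftFunctor D m).obj (E j) ≅ ((shiftFunctor D (m - 1)).obj (E j))⟦(1 : ℤ)⟧ :=
      (shiftFunctorAdd' D (m - 1) 1 m (by omega)).app (E j)
    obtain ⟨ψ, hψ⟩ := (shiftFunctor D (1 : ℤ)).map_surjective (ei.inv ≫ φ ≫ δ)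
    have hψ0 : ψ = 0 := hinj j (m - 1) ψ ((shiftFunctor D (1 : ℤ)).map_injective (by
      rw [Functor.map_comp, hψ, Functor.map_zero, Category.assoc, Category.assoc,
        show δ ≫ q⟦(1 : ℤ)⟧' = 0 from comp_distTriang_mor_zero₃₁ _ hZ, comp_zero, comp_zero]))
    rw [hψ0, Functor.map_zero] at hψ
    obtain ⟨(θ : _ ⟶ X), (hθ : φ = θ ≫ β)⟩ := Triangle.coyoneda_exact₃ _ hZ φ
      ((cancel_epi ei.inv).1 (hψ.symm.trans comp_zero.symm))
    obtain ⟨g, hg'⟩ := hsurj j m θ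
    rw [hθ, ← hg', Category.assoc, show q ≫ β = 0 from comp_distTriang_mor_zero₁₂ _ hZ, comp_zero]
  have hZ0 : IsZero Z := hg Z fun j n φ => by
    have h := hzero j (-n) (φ⟦-n⟧' ≫ ((shiftFunctorCompIsoId D n (-n) (by omega)).app Z).hom)
    apply (shiftFunctor D (-n)).map_injective
    rw [Functor.map_zero]
    exact (cancel_mono ((shiftFunctorCompIsoId D n (-n) (by omega)).app Z).hom).1 (h.trans zero_comp.symm)
  haveI : IsIso q := (Triangle.isZero₃_iff_isIso₁ _ hZ).1 hZ0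
  refine ⟨K, f, i, ⟨inv q ≫ c, ?_⟩, ⟨κ₀, fun k => k.1, fun k => k.2.1, ⟨Iso.refl _⟩⟩, fun n => hdist (S n)⟩
  refine isomorphic_distinguished _ hT _ (Triangle.isoMk _ _ (Iso.refl _) (Iso.refl _) (asIso q).symm ?_ ?_ ?_)
  · exact (Category.comp_id _).trans (Category.id_comp _).symm
  · show Sigma.desc i ≫ inv q = 𝟙 (∐ K) ≫ π
    rw [hq, Category.assoc, IsIso.hom_inv_id, Category.comp_id, Category.id_comp]
  · show (inv q ≫ c) ≫ (shiftFunctor D (1 : ℤ)).map (𝟙 (∐ K)) = inv q ≫ c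
    rw [CategoryTheory.Functor.map_id, Category.comp_id]

open CategoryTheory.Limits CategoryTheory.Pretriangulated in
/-- Let D be a triangulated category with all small direct sums and E a small family of compact objects
which generates D. Every object X of D is a homotopy colimit of a sequential system X₀ → X₁ → X₂ → …
in which X₀ is a direct sum of shifts of members of E and each transition map Xₙ → Xₙ₊₁ sits in a
distinguished triangle Yₙ → Xₙ → Xₙ₊₁ → Yₙ[1] with Yₙ a direct sum of shifts of members of E. -/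
theorem result {D : Type u} [Category.{v} D] [Preadditive D] [Limits.HasZeroObject D] [HasShift D ℤ]
    [∀ n : ℤ, (shiftFunctor D n).Additive] [Pretriangulated D] [IsTriangulated D] [HasCoproducts.{v} D]
    [HasColimitsOfShape (Discrete ℕ) D]
    {ι : Type v} (E : ι → D) (hc : ∀ i, CohDer.IsCompactObject (E i)) (hg : CohDer.Generates E) (X : D) :
    ∃ (K : ℕ → D) (f : ∀ n, K n ⟶ K (n + 1)) (i : ∀ n, K n ⟶ X),
      DerLim.IsHocolim K f X i ∧
      (∃ (κ : Type v) (a : κ → ι) (m : κ → ℤ), Nonempty (K 0 ≅ ∐ (fun k => (shiftFunctor D (m k)).obj (E (a k))))) ∧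
      ∀ n, ∃ (κ : Type v) (a : κ → ι) (m : κ → ℤ) (y : (∐ fun k => (shiftFunctor D (m k)).obj (E (a k))) ⟶ K n)
        (z : K (n + 1) ⟶ (shiftFunctor D (1 : ℤ)).obj (∐ fun k => (shiftFunctor D (m k)).obj (E (a k)))),
        Triangle.mk y (f n) z ∈ distinguishedTriangles := by
  exact main E hc hg X

end Groth.Agent.S0984
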