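import Groth.Statements.S1076
import Groth.Agent.Lib.DerLimC.Compact

set_option autoImplicit false
universe v u
open CategoryTheory
open DerLim

namespace Groth.Agent.S1076

open CategoryTheory.Limits CategoryTheory.Pretriangulated Groth.Agent.DerLimC

variable {D : Type u} [Category.{v} D] [Preadditive D] [Limits.HasZeroObject D] [HasShift D ℤ]
  [∀ n : ℤ, (shiftFunctor D n).Additive] [Pretriangulated D]

/-- Factoring through the envelope of finitely many members. -/
def Good {ι : Type v} (E : ι → D) {C M : D} (φ : C ⟶ M) : Prop :=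
  ∃ (s : Finset ι) (E' : D) (g : C ⟶ E') (h : E' ⟶ M),
    ObjectProperty.triangEnvelope (fun Y : D => ∃ i ∈ s, Y = E i) E' ∧ g ≫ h = φ

theorem env_mono {ι : Type v} (E : ι → D) {s t : Finset ι} (hst : s ⊆ t) {X : D}
    (hX : ObjectProperty.triangEnvelope (fun Y : D => ∃ i ∈ s, Y = E i) X) :
    ObjectProperty.triangEnvelope (fun Y : D => ∃ i ∈ t, Y = E i) X :=
  ObjectProperty.monotone_triangEnvelope (fun Y hY => by
    obtain ⟨i, hi, rfl⟩ := hY; exact ⟨i, hst hi, rfl⟩) X hX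

theorem Good.add [IsTriangulated D] {ι : Type v} {E : ι → D} {C M : D} {φ ψ : C ⟶ M}
    (h₁ : Good E φ) (h₂ : Good E ψ) : Good E (φ + ψ) := by
  classical
  obtain ⟨s, A, g, h, hA, rfl⟩ := h₁
  obtain ⟨t, B, g', h', hB, rfl⟩ := h₂
  refine ⟨s ∪ t, A ⊞ B, biprod.lift g g', biprod.desc h h', ?_, by exact biprod.lift_desc⟩
  exact ObjectProperty.ext_of_isTriangulatedClosed₂ _ (binaryBiproductTriangle A B)
    (binaryBiproductTriangle_distinguished A B) (env_mono E Finset.subset_union_left hA)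
    (env_mono E Finset.subset_union_right hB)

theorem Good.zero {ι : Type v} [Nonempty ι] (E : ι → D) (C M : D) : Good E (0 : C ⟶ M) := by
  obtain ⟨i⟩ := ‹Nonempty ι›
  exact ⟨{i}, E i, 0, 0, ObjectProperty.le_triangEnvelope _ _ ⟨i, Finset.mem_singleton_self i, rfl⟩, comp_zero⟩

theorem Good.comp {ι : Type v} {E : ι → D} {C M N : D} {φ : C ⟶ M} (h : Good E φ) (f : M ⟶ N) :
    Good E (φ ≫ f) := by
  obtain ⟨s, A, g, h, hA, rfl⟩ := h
  exact ⟨s, A, g, h ≫ f, hA, (Category.assoc _ _ _).symm⟩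

theorem good_of_coprod [IsTriangulated D] [HasCoproducts.{v} D] {ι : Type v} [Nonempty ι] {E : ι → D}
    {κ : Type v} (a : κ → ι) (m : κ → ℤ) {C : D} (hC : CohDer.IsCompactObject C)
    (φ : C ⟶ ∐ fun k => (shiftFunctor D (m k)).obj (E (a k))) : Good E φ := by
  classical
  obtain ⟨s, u, rfl⟩ := exists_sum hC φ
  refine Finset.sum_induction _ (fun ψ => Good E ψ) (fun _ _ => Good.add) (Good.zero E _ _) fun k _ => ?_
  exact ⟨{a k}, _, u k, Sigma.ι (fun k => (shiftFunctor D (m k)).obj (E (a k))) k,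
    (ObjectProperty.triangEnvelope (fun Y : D => ∃ i ∈ ({a k} : Finset ι), Y = E i)).le_shift (m k) _
      (ObjectProperty.le_triangEnvelope _ _ ⟨a k, Finset.mem_singleton_self _, rfl⟩), rfl⟩

theorem main [IsTriangulated D] [HasCoproducts.{v} D] {ι : Type v} [Nonempty ι] (E : ι → D)
    (hc : ∀ i, CohDer.IsCompactObject (E i)) (K : ℕ → D) (f : ∀ n, K n ⟶ K (n + 1))
    (h0 : ∃ (κ : Type v) (a : κ → ι) (m : κ → ℤ), Nonempty (K 0 ≅ ∐ (fun k => (shiftFunctor D (m k)).obj (E (a k)))))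
    (hstep : ∀ n, ∃ (κ : Type v) (a : κ → ι) (m : κ → ℤ) (y : (∐ fun k => (shiftFunctor D (m k)).obj (E (a k))) ⟶ K n)
      (z : K (n + 1) ⟶ (shiftFunctor D (1 : ℤ)).obj (∐ fun k => (shiftFunctor D (m k)).obj (E (a k)))),
      Triangle.mk y (f n) z ∈ distinguishedTriangles) :
    ∀ (n : ℕ) (C : D), CohDer.IsCompactObject C → ∀ φ : C ⟶ K n, Good E φ := by
  classical
  intro n
  induction n with
  | zero =>
    intro C hC φ
    obtain ⟨κ, a, m, ⟨e⟩⟩ := h0
    have := (good_of_coprod a m hC (φ ≫ e.hom)).comp e.inv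
    simpa using this
  | succ n ih =>
    intro C hC φ
    obtain ⟨κ, a, m, y, z, hT⟩ := hstep n
    let F := ∐ fun k => (shiftFunctor D (m k)).obj (E (a k))
    -- factor the composite to the shifted sum
    let ψ : C ⟶ (shiftFunctor D (1 : ℤ)).obj F := φ ≫ z
    let e₀ : ((shiftFunctor D (-1 : ℤ)).obj C)⟦(1 : ℤ)⟧ ≅ C := (shiftEquiv D (1 : ℤ)).counitIso.app C
    obtain ⟨s, Y, g₁, b, hY, hgb⟩ := good_of_coprod a m (Groth.Agent.MVSqLib.Cpt.compact_shift hC (-1))
      ((shiftFunctor D (1 : ℤ)).preimage (e₀.hom ≫ ψ))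
    let α : C ⟶ Y⟦(1 : ℤ)⟧ := e₀.inv ≫ g₁⟦(1 : ℤ)⟧'
    have hab : α ≫ b⟦(1 : ℤ)⟧' = φ ≫ z := by
      show (e₀.inv ≫ g₁⟦(1 : ℤ)⟧') ≫ b⟦(1 : ℤ)⟧' = ψ
      rw [Category.assoc, ← Functor.map_comp, hgb, Functor.map_preimage, Iso.inv_hom_id_assoc]
    obtain ⟨C', c, dd, hS⟩ := distinguished_cocone_triangle₁ α
    have hYc : CohDer.IsCompactObject Y := triangEnvelope_compact
      (fun X hX => by obtain ⟨i, _, rfl⟩ := hX; exact hc i) hY
    have hC' : CohDer.IsCompactObject C' := by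
      haveI := isTriangulated (D := D)
      haveI : ObjectProperty.IsClosedUnderIsomorphisms (fun K : D => CohDer.IsCompactObject K) :=
        ⟨fun e h => of_retract ⟨e.inv, e.hom, e.inv_hom_id⟩ h⟩
      exact ObjectProperty.ext_of_isTriangulatedClosed₁ _ _ hS hC
        (Groth.Agent.MVSqLib.Cpt.compact_shift hYc 1)
    have hR : (Triangle.mk y (f n) z).rotate ∈ distTriang D := rot_of_distTriang _ hT
    obtain ⟨χ, hχ₁, hχ₂⟩ := complete_distinguished_triangle_morphism₁ _ _ hS hR φ (b⟦(1 : ℤ)⟧') hab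
    obtain ⟨s₀, E₀, g', h', hE₀, hχ⟩ := ih C' hC' χ
    obtain ⟨E₁, uu, vv, hU⟩ := distinguished_cocone_triangle₂ (dd ≫ g'⟦(1 : ℤ)⟧')
    obtain ⟨(γ : C ⟶ E₁), hγ₁, hγ₂⟩ := complete_distinguished_triangle_morphism₂ _ _ hS hU g' (𝟙 _)
      (Category.id_comp _).symm
    obtain ⟨(η : E₁ ⟶ K (n + 1)), hη₁, hη₂⟩ := complete_distinguished_triangle_morphism₂ _ _ hU hR h' (b⟦(1 : ℤ)⟧') (by
      show (dd ≫ g'⟦(1 : ℤ)⟧') ≫ h'⟦(1 : ℤ)⟧' = _
      rw [Category.assoc, ← Functor.map_comp, hχ]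
      exact hχ₂)
    obtain ⟨r, hr⟩ := Triangle.coyoneda_exact₂ _ hR (φ - γ ≫ η) (by
      show (φ - γ ≫ η) ≫ z = 0
      have h1 : α = γ ≫ vv := (Category.comp_id α).symm.trans hγ₂
      have h2 : vv ≫ b⟦(1 : ℤ)⟧' = η ≫ z := hη₂
      rw [Preadditive.sub_comp, sub_eq_zero, Category.assoc, ← h2, ← Category.assoc, ← h1, hab])
    have hE₁ : Good E (γ ≫ η) := ⟨s₀ ∪ s, E₁, γ, η, ObjectProperty.ext_of_isTriangulatedClosed₂ _
      (Triangle.mk uu vv (dd ≫ g'⟦(1 : ℤ)⟧')) hU (env_mono E Finset.subset_union_left hE₀)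
      (env_mono E Finset.subset_union_right
        ((ObjectProperty.triangEnvelope (fun X : D => ∃ i ∈ s, X = E i)).le_shift (1 : ℤ) _ hY)), rfl⟩
    have h3 : φ = r ≫ f n + γ ≫ η := by
      rw [show r ≫ f n = φ - γ ≫ η from hr.symm, sub_add_cancel]
    rw [h3]
    exact ((ih C hC r).comp (f n)).add hE₁

open CategoryTheory.Limits CategoryTheory.Pretriangulated in
/-- Let D be a triangulated category with all small direct sums and E a small nonempty family of compact
objects (nonempty so that the envelope of a finite subfamily can contain a zero object). Let X₀ → X₁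
→ … be a sequential system in which X₀ is a direct sum of shifts of members of E and each Xₙ → Xₙ₊₁
sits in a distinguished triangle Yₙ → Xₙ → Xₙ₊₁ → Yₙ[1] with Yₙ a direct sum of shifts of members of
E. Then every morphism from a compact object C to some Xₙ factors through an object of the
triangulated envelope (closure under shifts, finite sums, summands and extensions) of finitely many
members of E. -/
theorem result {D : Type u} [Category.{v} D] [Preadditive D] [Limits.HasZeroObject D] [HasShift D ℤ]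
    [∀ n : ℤ, (shiftFunctor D n).Additive] [Pretriangulated D] [IsTriangulated D] [HasCoproducts.{v} D]
    {ι : Type v} [Nonempty ι] (E : ι → D) (hc : ∀ i, CohDer.IsCompactObject (E i))
    (K : ℕ → D) (f : ∀ n, K n ⟶ K (n + 1))
    (h0 : ∃ (κ : Type v) (a : κ → ι) (m : κ → ℤ), Nonempty (K 0 ≅ ∐ (fun k => (shiftFunctor D (m k)).obj (E (a k)))))
    (hstep : ∀ n, ∃ (κ : Type v) (a : κ → ι) (m : κ → ℤ) (y : (∐ fun k => (shiftFunctor D (m k)).obj (E (a k))) ⟶ K n)
      (z : K (n + 1) ⟶ (shiftFunctor D (1 : ℤ)).obj (∐ fun k => (shiftFunctor D (m k)).obj (E (a k)))),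
      Triangle.mk y (f n) z ∈ distinguishedTriangles)
    (C : D) (hC : CohDer.IsCompactObject C) (n : ℕ) (φ : C ⟶ K n) :
    ∃ (s : Finset ι) (E' : D) (g : C ⟶ E') (h : E' ⟶ K n),
      ObjectProperty.triangEnvelope (fun Y : D => ∃ i ∈ s, Y = E i) E' ∧ g ≫ h = φ := by
  exact main E hc K f h0 hstep n C hC φ

end Groth.Agent.S1076
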