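import Groth.Statements.S0978
import Groth.Agent.Lib.Brown.Envelope
import Groth.Agent.S0984
import Groth.Agent.S1076

set_option autoImplicit false
universe v u
open CategoryTheory
open CohDer

namespace Groth.Agent.S0978


open CategoryTheory.Limits in
/-- Let D be a triangulated category with all small direct sums and E a compact object. Then E generates
D (an object admitting only zero maps from all shifts of E is zero) if and only if D is compactly
generated and every compact object lies in the triangulated envelope of E (objects reachable from E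
by shifts, finite sums, direct summands and extensions). -/
theorem result {D : Type u} [Category.{v} D] [Preadditive D] [Limits.HasZeroObject D] [HasShift D ℤ]
    [∀ n : ℤ, (shiftFunctor D n).Additive] [Pretriangulated D] [IsTriangulated D] [HasCoproducts.{v} D]
    [HasColimitsOfShape (Discrete ℕ) D]
    (E : D) (hE : CohDer.IsCompactObject E) :
    CohDer.Generates (fun _ : Unit => E) ↔
      (CohDer.IsCompactlyGenerated D ∧ ∀ X : D, CohDer.IsCompactObject X → ObjectProperty.triangEnvelope (fun Y : D => Y = E) X) := by
  constructor
  · intro hg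
    have hg' : CohDer.Generates (fun _ : PUnit.{v + 1} => E) := fun K hK => hg K fun _ n f => hK PUnit.unit n f
    refine ⟨⟨PUnit.{v + 1}, fun _ => E, fun _ => hE, hg'⟩, fun X hX => ?_⟩
    obtain ⟨K, f, i, hL, h0, hstep⟩ := S0984.result (fun _ : PUnit.{v + 1} => E) (fun _ => hE) hg' X
    obtain ⟨N, g, hgX⟩ := S0984.exists_factor K f hL hX (𝟙 X)
    obtain ⟨s, E', g', h', hE', hfac⟩ := S1076.result (fun _ : PUnit.{v + 1} => E) (fun _ => hE) K f h0 hstep X hX N g
    refine (ObjectProperty.triangEnvelope _).prop_of_retract
      ⟨g', h' ≫ i N, by rw [← Category.assoc, hfac]; exact hgX.symm⟩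
      (ObjectProperty.monotone_triangEnvelope (fun Y hY => ?_) E' hE')
    obtain ⟨j, _, rfl⟩ := hY
    rfl
  · rintro ⟨⟨ι, F, hFc, hFg⟩, henv⟩ K hK
    refine hFg K fun i n f => ?_
    refine Brown.eq_zero_of_mem_envelope (fun Y : D => Y = E) (K⟦n⟧) (fun A hA m g => ?_) (henv _ (hFc i)) f
    subst hA
    exact (cancel_mono ((shiftFunctorAdd D n m).app K).inv).1 ((hK () (n + m) _).trans zero_comp.symm)


end Groth.Agent.S0978
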