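import Groth.Statements.S0982
import Groth.Agent.Lib.DerTrunc.Basic

set_option autoImplicit false
universe w v u
open CategoryTheory CategoryTheory.Limits
open CohDer

namespace Groth.Agent.S0982


/-- Let K : ℕ ⥤ CochainComplex A ℤ be a sequence of cochain maps K₀ → K₁ → K₂ → … in an abelian category
with Hⁱ(K₀) = 0 for i > 0 and such that for every j < n the map H⁻ʲ(Kⱼ) → H⁻ʲ(Kⱼ₊₁) is zero. Then in
the derived category the composite K₀ → Kₙ factors through the canonical truncation τ_{≤ -n}Kₙ → Kₙ. -/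
theorem result {A : Type u} [Category.{v} A] [Abelian A] [HasDerivedCategory.{w} A]
    (K : ℕ ⥤ CochainComplex A ℤ) (n : ℕ)
    (h0 : ∀ i : ℤ, 0 < i → IsZero ((K.obj 0).homology i))
    (hz : ∀ j : ℕ, j < n → HomologicalComplex.homologyMap (K.map (homOfLE (Nat.le_succ j))) (-(j : ℤ)) = 0) :
    ∃ φ : DerivedCategory.Q.obj (K.obj 0) ⟶ DerivedCategory.Q.obj ((K.obj n).truncLE (-(n : ℤ))),
      φ ≫ DerivedCategory.Q.map ((K.obj n).ιTruncLE (-(n : ℤ))) = DerivedCategory.Q.map (K.map (homOfLE (Nat.zero_le n))) := by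
  open DerivedCategory Groth.Agent.DerTrunc in
  induction n with
  | zero =>
    have : (K.obj 0).IsLE 0 := by
      rw [CochainComplex.isLE_iff]
      exact fun i hi => (HomologicalComplex.exactAt_iff_isZero_homology _ _).2 (h0 i hi)
    have : (K.obj 0).IsLE (-((0 : ℕ) : ℤ)) := by simpa using this
    refine ⟨inv (Q.map ((K.obj 0).ιTruncLE (-((0 : ℕ) : ℤ)))), ?_⟩
    rw [IsIso.inv_hom_id, show homOfLE (Nat.zero_le 0) = 𝟙 0 from rfl,
      CategoryTheory.Functor.map_id, CategoryTheory.Functor.map_id]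
  | succ n ih =>
    obtain ⟨φ, hφ⟩ := ih fun j hj => hz j (Nat.lt_succ_of_lt hj)
    have hstep : (Q.map ((K.obj n).ιTruncLE (-(n : ℤ))) ≫
        Q.map (K.map (homOfLE (Nat.le_succ n)))) ≫ Q.map ((K.obj (n + 1)).πTruncGE (-(n : ℤ))) = 0 := by
      refine hom_eq_zero_of_isLE_of_isGE (-(n : ℤ)) _ ?_
      rw [Functor.map_comp, Functor.map_comp, homology_map_Q_eq_zero _ _ (hz n (Nat.lt_succ_self n)),
        comp_zero, zero_comp]
    obtain ⟨θ, hθ⟩ := exists_fac_ιTruncLE (K.obj (n + 1)) (-((n + 1 : ℕ) : ℤ)) (-(n : ℤ)) (by lia)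
      _ hstep
    refine ⟨φ ≫ θ, ?_⟩
    erw [Category.assoc, hθ]
    rw [reassoc_of% hφ, ← Functor.map_comp, ← Functor.map_comp]
    rfl


end Groth.Agent.S0982
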