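import Groth.Statements.S0985
import Groth.Agent.Lib.Hocolim29.Colimit

set_option autoImplicit false
universe w v u
open CategoryTheory CategoryTheory.Limits
open DerLim

namespace Groth.Agent.S0985

/-- Let A be an abelian category in which colimits of sequences ℕ ⥤ A exist and are exact, and let L : ℕ
⥤ CochainComplex A ℤ be a sequence of complexes. Then the image in the derived category of the
termwise colimit of L, with the canonical maps from the Lₙ, is a homotopy colimit of the images of
the Lₙ — assuming the termwise direct sum of the Lₙ exists and is preserved by the localization
functor to D(A) (a known result, carried here as a hypothesis rather than proved), and that the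
direct sum of the images exists in D(A). -/
theorem result {A : Type u} [Category.{v} A] [Abelian A] [HasDerivedCategory.{w} A]
    [HasColimitsOfShape ℕ A] [HasExactColimitsOfShape ℕ A]
    (L : ℕ ⥤ CochainComplex A ℤ) [HasCoproduct L.obj] [PreservesColimit (Discrete.functor L.obj) (DerivedCategory.Q (C := A))]
    [HasCoproduct (fun n => DerivedCategory.Q.obj (L.obj n))] :
    DerLim.IsHocolim (fun n => DerivedCategory.Q.obj (L.obj n)) (fun n => DerivedCategory.Q.map (L.map (homOfLE (Nat.le_succ n))))
      (DerivedCategory.Q.obj (colimit L)) (fun n => DerivedCategory.Q.map (colimit.ι L n)) := by
  exact Hocolim29.isHocolim_colimit L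

end Groth.Agent.S0985
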