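import Groth.Statements.S0987
import Groth.Agent.Lib.K0Cat.Basic
import Groth.Agent.Lib.DerTrunc.Basic
import Mathlib.Algebra.Homology.DerivedCategory.SingleTriangle
import Mathlib.Algebra.BigOperators.Finprod
import Mathlib.Algebra.Ring.NegOnePow
import Mathlib.Data.Int.Interval
-- import your own Groth.Agent.* helpers here

set_option autoImplicit false
universe w v u
open CategoryTheory CategoryTheory.Limits
open KZero

namespace Groth.Agent.S0987

open CategoryTheory.Pretriangulated CategoryTheory.Triangulated DerivedCategory.TStructure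

variable {A : Type u} [Category.{v} A] [Abelian A] [HasDerivedCategory.{w} A]

/-- Boundedness of an object of the derived category. -/
def Bd (X : DerivedCategory A) : Prop := ∃ a b : ℤ, X.IsGE a ∧ X.IsLE b

/-- The terms of the Euler characteristic. -/
noncomputable def term (X : DerivedCategory A) (i : ℤ) : KZero.K0 A :=
  ((i.negOnePow : ℤˣ) : ℤ) • KZero.cl ((DerivedCategory.homologyFunctor A i).obj X)

/-- The Euler characteristic in `K₀`. -/
noncomputable def chi (X : DerivedCategory A) : KZero.K0 A := ∑ᶠ i, term X i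

theorem finite_support_term {X : DerivedCategory A} (hX : Bd X) :
    (Function.support (term X)).Finite := by
  obtain ⟨a, b, ha, hb⟩ := hX
  refine (Finset.Icc a b).finite_toSet.subset fun i hi => ?_
  by_contra h
  rw [Finset.coe_Icc, Set.mem_Icc, not_and_or] at h
  apply hi
  have : IsZero ((DerivedCategory.homologyFunctor A i).obj X) := by
    rcases h with h | h
    · exact DerivedCategory.isZero_of_isGE X a i (by omega)
    · exact DerivedCategory.isZero_of_isLE X b i (by omega)
  simp [term, K0Cat.cl_of_isZero this]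

theorem chi_tri (T : Triangle (DerivedCategory A)) (hT : T ∈ distTriang _)
    (h₁ : Bd T.obj₁) (h₂ : Bd T.obj₂) (h₃ : Bd T.obj₃) :
    chi T.obj₂ = chi T.obj₁ + chi T.obj₃ := by
  let c : ℤ → KZero.K0 A := fun i => ((i.negOnePow : ℤˣ) : ℤ) •
    K0Cat.imCl (DerivedCategory.HomologySequence.δ T i (i + 1) rfl)
  have hc : (Function.support c).Finite := by
    obtain ⟨a, b, ha, hb⟩ := h₃
    refine (Finset.Icc a b).finite_toSet.subset fun i hi => ?_
    by_contra h
    rw [Finset.coe_Icc, Set.mem_Icc, not_and_or] at h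
    apply hi
    have : IsZero ((DerivedCategory.homologyFunctor A i).obj T.obj₃) := by
      rcases h with h | h
      · exact DerivedCategory.isZero_of_isGE _ a i (by omega)
      · exact DerivedCategory.isZero_of_isLE _ b i (by omega)
    simp [c, K0Cat.imCl_eq_zero (Or.inl this)]
  have hc' : (Function.support (fun i : ℤ => c (i - 1))).Finite :=
    hc.preimage (fun i _ j _ h => by simpa using h)
  have key : ∀ i, term T.obj₁ i + term T.obj₃ i + c (i - 1) = term T.obj₂ i + c i := by
    intro i
    have hs : (((i - 1).negOnePow : ℤˣ) : ℤ) = -((i.negOnePow : ℤˣ) : ℤ) := by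
      conv_rhs => rw [← sub_add_cancel i 1, Int.negOnePow_succ]
      simp
    have hX : KZero.cl ((DerivedCategory.homologyFunctor A i).obj T.obj₁) =
        K0Cat.imCl (DerivedCategory.HomologySequence.δ T (i - 1) (i - 1 + 1) rfl) +
          K0Cat.imCl ((DerivedCategory.homologyFunctor A i).map T.mor₁) := by
      have hi : ∀ (n : ℤ) (h : i - 1 + 1 = n),
          KZero.cl ((DerivedCategory.homologyFunctor A n).obj T.obj₁) =
            K0Cat.imCl (DerivedCategory.HomologySequence.δ T (i - 1) n h) +
              K0Cat.imCl ((DerivedCategory.homologyFunctor A n).map T.mor₁) :=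
        fun n h => K0Cat.cl_eq_of_exact _
          (DerivedCategory.HomologySequence.exact₁ T hT (i - 1) n h)
      have e : ∀ (n : ℤ) (h : i - 1 + 1 = n),
          K0Cat.imCl (DerivedCategory.HomologySequence.δ T (i - 1) n h) =
            K0Cat.imCl (DerivedCategory.HomologySequence.δ T (i - 1) (i - 1 + 1) rfl) := by
        intro n h; subst h; rfl
      rw [hi i (by omega), e]
    have hY := K0Cat.cl_eq_of_exact _ (DerivedCategory.HomologySequence.exact₂ T hT i)
    have hZ := K0Cat.cl_eq_of_exact _
      (DerivedCategory.HomologySequence.exact₃ T hT i (i + 1) rfl)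
    simp only [term, c, hs, hX, hY, hZ, smul_add, neg_smul]
    abel
  have hsum : (∑ᶠ i, (term T.obj₁ i + term T.obj₃ i + c (i - 1))) =
      ∑ᶠ i, (term T.obj₂ i + c i) := finsum_congr key
  have h13 : (Function.support (fun i => term T.obj₁ i + term T.obj₃ i)).Finite :=
    ((finite_support_term h₁).union (finite_support_term h₃)).subset (Function.support_add _ _)
  rw [finsum_add_distrib h13 hc', finsum_add_distrib (finite_support_term h₂) hc,
    finsum_add_distrib (finite_support_term h₁) (finite_support_term h₃),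
    show (∑ᶠ i, c (i - 1)) = ∑ᶠ i, c i from finsum_comp_equiv (Equiv.subRight (1 : ℤ))] at hsum
  exact (add_right_cancel hsum).symm

theorem bd_single (X : A) (n : ℤ) : Bd ((DerivedCategory.singleFunctor A n).obj X) :=
  ⟨n, n, inferInstance, inferInstance⟩

theorem chi_single (X : A) :
    chi ((DerivedCategory.singleFunctor A 0).obj X) = KZero.cl X := by
  unfold chi
  rw [finsum_eq_single _ 0 fun i hi => ?_]
  · simp only [term, Int.negOnePow_zero, Units.val_one, one_smul]
    exact K0Cat.cl_iso ((DerivedCategory.singleFunctorCompHomologyFunctorIso A 0).app X)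
  · have : IsZero ((DerivedCategory.homologyFunctor A i).obj
        ((DerivedCategory.singleFunctor A 0).obj X)) := by
      rcases lt_or_gt_of_ne hi with h | h
      · exact DerivedCategory.isZero_of_isGE _ 0 i h
      · exact DerivedCategory.isZero_of_isLE _ 0 i h
    simp [term, K0Cat.cl_of_isZero this]


/-- For an abelian category A there is an isomorphism between K₀(A) and K₀ of the bounded derived
category D^b(A) (objects of D(A) with bounded cohomology, with the distinguished triangles of D(A))
which sends the class of an object X to the class of X placed in degree 0. -/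
theorem result (A : Type u) [Category.{v} A] [Abelian A] [HasDerivedCategory.{w} A] :
    ∃ φ : KZero.K0 A ≃+ KZero.K0tr (fun X : DerivedCategory A => ∃ a b : ℤ, X.IsGE a ∧ X.IsLE b),
      ∀ X : A, φ (KZero.cl X) =
        KZero.clTr (fun X : DerivedCategory A => ∃ a b : ℤ, X.IsGE a ∧ X.IsLE b) ((DerivedCategory.singleFunctor A 0).obj X) := by
  let P : ObjectProperty (DerivedCategory A) := fun X => ∃ a b : ℤ, X.IsGE a ∧ X.IsLE b
  let Z : DerivedCategory A := (DerivedCategory.singleFunctor A 0).obj (HasZeroObject.zero' A).zero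
  have hZ : IsZero Z := Functor.map_isZero _ (isZero_zero A)
  let f : A → KZero.K0tr P := fun X => KZero.clTr P ((DerivedCategory.singleFunctor A 0).obj X)
  have hf : ∀ S : ShortComplex A, S.ShortExact → f S.X₂ = f S.X₁ + f S.X₃ := fun S hS =>
    K0Cat.clTr_tri _ hS.singleTriangle_distinguished (bd_single _ 0) (bd_single _ 0) (bd_single _ 0)
  let φ : KZero.K0 A →+ KZero.K0tr P := K0Cat.lift f hf
  let ψ : KZero.K0tr P →+ KZero.K0 A := K0Cat.liftTr (fun X => chi X.1)
    (fun T h₁ h₂ h₃ hT => chi_tri T hT h₁ h₂ h₃)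
  have hinj : ∀ x, ψ (φ x) = x := fun x => by
    refine K0Cat.cl_induction (p := fun x => ψ (φ x) = x) x (by simp) (fun X => ?_) (fun a h => by simp [h])
      (fun a b ha hb => by simp [ha, hb])
    simp only [φ, K0Cat.lift_cl, ψ, f]
    exact (K0Cat.liftTr_clTr (P := P) _ _ (bd_single X 0)).trans (chi_single X)
  have hshift : ∀ (X : A) (n : ℤ), KZero.clTr P ((DerivedCategory.singleFunctor A n).obj X) =
      -KZero.clTr P ((DerivedCategory.singleFunctor A (n + 1)).obj X) := by
    intro X n
    let e := ((DerivedCategory.singleFunctors A).shiftIso 1 n (n + 1) (add_comm 1 n)).app X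
    have hb : P ((shiftFunctor (DerivedCategory A) (1 : ℤ)).obj
        ((DerivedCategory.singleFunctor A (n + 1)).obj X)) :=
      ⟨n, n, t.isGE_of_iso e.symm n, t.isLE_of_iso e.symm n⟩
    exact (K0Cat.clTr_iso e.symm hZ (bd_single X n) hb (bd_single _ 0)).trans
      (K0Cat.clTr_shift_one hZ (bd_single X (n + 1)) hb (bd_single _ 0))
  have hsingle : ∀ (n : ℤ) (X : A),
      KZero.clTr P ((DerivedCategory.singleFunctor A n).obj X) ∈ φ.range := by
    intro n X
    induction n using Int.induction_on with
    | zero => exact ⟨KZero.cl X, by simp [φ, f]⟩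
    | succ i hi =>
      rw [hshift X i] at hi
      simpa using hi
    | pred i hi =>
      rw [hshift X (-(i : ℤ) - 1), sub_add_cancel]
      exact neg_mem hi
  have hsurj : ∀ (n : ℕ) (K : DerivedCategory A) (a : ℤ), K.IsGE a → K.IsLE (a + n) →
      KZero.clTr P K ∈ φ.range := by
    intro n
    induction n with
    | zero =>
      intro K a ha hb
      have : K.IsLE a := by simpa using hb
      obtain ⟨Y, ⟨e⟩⟩ := DerivedCategory.exists_iso_singleFunctor_obj_of_isGE_of_isLE K a
      rw [K0Cat.clTr_iso (P := P) e hZ ⟨a, a, ha, this⟩ (bd_single Y a) (bd_single _ 0)]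
      exact hsingle a Y
    | succ n ih =>
      intro K a ha hb
      obtain ⟨b, hbdef⟩ : ∃ b : ℤ, a + (n + 1 : ℕ) = b := ⟨_, rfl⟩
      rw [hbdef] at hb
      have hL : DerivedCategory.IsLE ((t.truncLT b).obj K) (a + n) :=
        t.isLE_truncLT_obj K b (a + n) (by lia)
      have hG : DerivedCategory.IsGE ((t.truncLT b).obj K) a :=
        (inferInstance : t.IsGE ((t.truncLT b).obj K) a)
      have hG₃ : DerivedCategory.IsGE ((t.truncGE b).obj K) b :=
        (inferInstance : t.IsGE ((t.truncGE b).obj K) b)
      have hL₃ : DerivedCategory.IsLE ((t.truncGE b).obj K) b :=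
        (inferInstance : t.IsLE ((t.truncGE b).obj K) b)
      have h := K0Cat.clTr_tri (P := P) _ (t.triangleLTGE_distinguished b K) ⟨a, a + n, hG, hL⟩
        ⟨a, b, ha, hb⟩ ⟨b, b, hG₃, hL₃⟩
      refine (congrArg (· ∈ φ.range) h).mpr (add_mem (ih _ a hG hL) ?_)
      obtain ⟨Y, ⟨e⟩⟩ :=
        DerivedCategory.exists_iso_singleFunctor_obj_of_isGE_of_isLE ((t.truncGE b).obj K) b
      exact (congrArg (· ∈ φ.range) (K0Cat.clTr_iso (P := P) e hZ ⟨b, b, hG₃, hL₃⟩
        (bd_single Y b) (bd_single _ 0))).mpr (hsingle b Y)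
  refine ⟨AddEquiv.ofBijective φ ⟨fun x y h => by simpa [hinj] using congrArg ψ h, fun x => ?_⟩,
    fun X => K0Cat.lift_cl f hf X⟩
  refine K0Cat.clTr_induction (p := fun x => ∃ y, φ y = x) x ⟨0, map_zero φ⟩ (fun K hK => ?_) ?_ ?_
  · obtain ⟨a, b, ha, hb⟩ := hK
    rcases le_or_gt a b with h | h
    · exact hsurj (b - a).toNat K a ha (by rwa [show a + ((b - a).toNat : ℤ) = b by omega])
    · exact hsurj 0 K a ha (t.isLE_of_le K b _ (by omega))
  · rintro a ⟨y, rfl⟩; exact ⟨-y, map_neg φ y⟩
  · rintro a b ⟨y, rfl⟩ ⟨z, rfl⟩; exact ⟨y + z, map_add φ y z⟩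

end Groth.Agent.S0987
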