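import Groth.Statements.S0988
import Groth.Agent.Lib.InjMod.QCohInj
import Groth.Agent.Lib.InjMod.HomFlasque

set_option autoImplicit false
set_option linter.style.haveILetI false
set_option backward.isDefEq.respectTransparency false
universe u
open CategoryTheory AlgebraicGeometry Opposite
open Perf

namespace Groth.Agent.S0988
open Groth.Agent Groth.Agent.M1 Groth.Agent.CurveCoh17 Groth.Agent.InjMod

/-- Let X be a Noetherian scheme and J an injective object of the category QCoh(O_X) of quasi-coherent
O_X-modules (the full subcategory of all O_X-modules). Then J is flasque: for opens U ⊆ V of X the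
restriction map J(V) → J(U) is surjective. -/
theorem result (X : Scheme.{u}) [IsNoetherian X]
    (J : ObjectProperty.FullSubcategory (fun M : X.Modules => Coh.IsQCoh M)) (hJ : Injective J)
    (U V : X.Opens) (hUV : U ≤ V) :
    Function.Surjective (J.obj.val.map (homOfLE hUV).op).hom := by
  haveI := hJ
  haveI : Injective J.obj := InjMod.injective_obj_of_injective_qcoh J
  intro σ
  obtain ⟨w, hw⟩ := InjMod.exists_hom_gen U (M := CxOX.extZeroUnit V.ι)
    (M1.mres (CxOX.extZeroUnit V.ι) hUV (gen V))
  obtain ⟨k, hk⟩ := InjMod.exists_hom_gen U (M := J.obj) σ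
  haveI : Mono w := by
    refine (KFlat.Sch.mono_iff_stalk _).2 fun y => ?_
    suffices h : Function.Injective (stalkLin w y) from h
    by_cases hy : y ∈ U
    · have hgen : stalkLin w y ((CxOX.extZeroUnit U.ι).presheaf.germ U y hy (gen U)) =
          ((CxOX.extZeroUnit V.ι).presheaf.germ V y (hUV hy) (gen V) :
            (CxOX.extZeroUnit V.ι).presheaf.stalk y) := by
        rw [stalkLin_apply, M1.germ_naturality, hw, M1.germ_mres]
      refine (injective_iff_map_eq_zero _).2 fun a ha => ?_
      obtain ⟨c, rfl⟩ := InjMod.exists_smul_gen U hy a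
      rw [map_smul, hgen] at ha
      rw [smul_gen_eq_zero V (hUV hy) c ha, zero_smul]
    · intro a b _
      exact (InjMod.stalk_gen_eq_zero U hy a).trans (InjMod.stalk_gen_eq_zero U hy b).symm
  let K := Injective.factorThru k w
  refine ⟨K.app V (gen V), ?_⟩
  have h1 : (w ≫ K).app U (gen U) = σ := by rw [Injective.comp_factorThru, hk]
  rw [Scheme.Modules.Hom.comp_app] at h1
  change K.app U (w.app U (gen U)) = σ at h1
  rw [hw] at h1
  exact (NatTrans.naturality_apply K.mapPresheaf (homOfLE hUV).op (gen V)).symm.trans h1

end Groth.Agent.S0988
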