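import Groth.Statements.S0989
import Mathlib.Algebra.Homology.DerivedCategory.HomologySequence
import Mathlib.Algebra.Homology.ExactSequence

set_option autoImplicit false
universe w v u
open CategoryTheory CategoryTheory.Limits
open CohDer

namespace Groth.Agent.S0989


/-- Let P be a weak Serre class in an abelian category A: P is closed under isomorphisms, holds for a
zero object, and whenever X₀ → X₁ → X₂ → X₃ → X₄ is exact with P holding for X₀, X₁, X₃, X₄ it holds
for X₂. Then the class of objects of the derived category all of whose cohomology objects satisfy P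
is a triangulated subcategory (contains zero, stable under shifts, closed under extensions) which is
moreover closed under retracts (saturated). -/
theorem result {A : Type u} [Category.{v} A] [Abelian A] [HasDerivedCategory.{w} A]
    (P : ObjectProperty A) [P.IsClosedUnderIsomorphisms] (h0 : ∃ Z : A, IsZero Z ∧ P Z)
    (hP : ∀ S : ComposableArrows A 4, S.Exact → P (S.obj 0) → P (S.obj 1) → P (S.obj 3) → P (S.obj 4) → P (S.obj 2)) :
    ObjectProperty.IsTriangulated (fun X : DerivedCategory A => ∀ n : ℤ, P ((DerivedCategory.homologyFunctor A n).obj X)) ∧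
    ObjectProperty.IsStableUnderRetracts (fun X : DerivedCategory A => ∀ n : ℤ, P ((DerivedCategory.homologyFunctor A n).obj X)) := by
  let QP : ObjectProperty (DerivedCategory A) :=
    fun X => ∀ n : ℤ, P ((DerivedCategory.homologyFunctor A n).obj X)
  have hiso : QP.IsClosedUnderIsomorphisms := ⟨fun e h n =>
    P.prop_of_iso ((DerivedCategory.homologyFunctor A n).mapIso e) (h n)⟩
  obtain ⟨Z, hZ, hPZ⟩ := h0
  have hzero : ∀ X : A, IsZero X → P X := fun X hX => P.prop_of_iso (hZ.iso hX) hPZ
  have h5 : ∀ {X₀ X₁ X₂ X₃ X₄ : A} (a : X₀ ⟶ X₁) (b : X₁ ⟶ X₂) (c : X₂ ⟶ X₃) (d : X₃ ⟶ X₄)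
      (w₁ : a ≫ b = 0) (w₂ : b ≫ c = 0) (w₃ : c ≫ d = 0),
      (ShortComplex.mk a b w₁).Exact → (ShortComplex.mk b c w₂).Exact →
      (ShortComplex.mk c d w₃).Exact → P X₀ → P X₁ → P X₃ → P X₄ → P X₂ :=
    fun a b c d w₁ w₂ w₃ e₁ e₂ e₃ p₀ p₁ p₃ p₄ => by
      refine hP (ComposableArrows.mk₄ a b c d) ?_ p₀ p₁ p₃ p₄
      exact ComposableArrows.exact_of_δ₀ e₁.exact_toComposableArrows
        (ComposableArrows.exact_of_δ₀ e₂.exact_toComposableArrows e₃.exact_toComposableArrows)
  refine ⟨{ exists_zero := ⟨_, isZero_zero _, fun n => hzero _ (Functor.map_isZero _ (isZero_zero _))⟩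
            isStableUnderShiftBy := fun a => ⟨fun X hX n => P.prop_of_iso
              (((DerivedCategory.homologyFunctor A 0).shiftIso a n (a + n) rfl).app X).symm (hX (a + n))⟩
            ext₂' := fun T hT h₁ h₃ => QP.le_isoClosure _ fun n => ?_ }, ⟨fun {X Y} r hY n => ?_⟩⟩
  · exact h5 _ _ _ _ _ _ _
      (DerivedCategory.HomologySequence.exact₁ T hT (n - 1) n (by lia))
      (DerivedCategory.HomologySequence.exact₂ T hT n)
      (DerivedCategory.HomologySequence.exact₃ T hT n (n + 1) rfl) (h₃ _) (h₁ _) (h₃ _) (h₁ _)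
  · let F := DerivedCategory.homologyFunctor A n
    let r' := r.map F
    have hri : r'.i ≫ r'.r = 𝟙 _ := r'.retract
    refine h5 (𝟙 _ - r'.r ≫ r'.i) r'.r (0 : F.obj X ⟶ Z) (0 : Z ⟶ Z) ?_ comp_zero comp_zero
      ?_ ?_ ?_ (hY n) (hY n) (hzero _ hZ) (hzero _ hZ)
    · rw [Preadditive.sub_comp, Category.assoc, hri, Category.id_comp, Category.comp_id, sub_self]
    · rw [ShortComplex.exact_iff_exact_up_to_refinements]
      intro W x hx
      refine ⟨W, 𝟙 _, inferInstance, x, ?_⟩
      dsimp at hx ⊢
      rw [Category.id_comp, Preadditive.comp_sub, Category.comp_id, reassoc_of% hx, zero_comp,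
        sub_zero]
    · have : IsSplitEpi r'.r := ⟨⟨⟨r'.i, hri⟩⟩⟩
      exact (ShortComplex.exact_iff_epi _ rfl).2 inferInstance
    · exact ShortComplex.exact_of_isZero_X₂ _ hZ


end Groth.Agent.S0989
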