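import Groth.Statements.S0991
import Mathlib

set_option autoImplicit false
universe w w' v v' u u'
open CategoryTheory CategoryTheory.Limits
open CohDer

namespace Groth.Agent.S0991

open CategoryTheory CategoryTheory.Limits CategoryTheory.Pretriangulated
set_option backward.isDefEq.respectTransparency false
set_option maxHeartbeats 800000

noncomputable section
variable {A : Type u} [Category.{v} A] [Abelian A] {Q' : Type u'} [Category.{v'} Q'] [Abelian Q']

/-- An adjunction induces one between categories of complexes. -/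
def cxAdj {G : Q' ⥤ A} {F : A ⥤ Q'} (adj : G ⊣ F) [G.Additive] [F.Additive] :
    G.mapHomologicalComplex (ComplexShape.up ℤ) ⊣ F.mapHomologicalComplex (ComplexShape.up ℤ) where
  unit :=
    { app := fun K =>
        { f := fun n => adj.unit.app (K.X n)
          comm' := fun i j _ => (adj.unit.naturality (K.d i j)).symm }
      naturality := fun K L f => by ext n; exact adj.unit.naturality (f.f n) }
  counit :=
    { app := fun K =>
        { f := fun n => adj.counit.app (K.X n)
          comm' := fun i j _ => (adj.counit.naturality (K.d i j)).symm }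
      naturality := fun K L f => by ext n; exact adj.counit.naturality (f.f n) }
  left_triangle_components K := by ext n; exact adj.left_triangle_components (K.X n)
  right_triangle_components K := by ext n; exact adj.right_triangle_components (K.X n)

variable [HasDerivedCategory.{w} A] [HasDerivedCategory.{w'} Q']

theorem isZero_of_homology {X : DerivedCategory A} (h : ∀ n, IsZero ((DerivedCategory.homologyFunctor A n).obj X)) :
    IsZero X := by
  obtain ⟨O, hO⟩ := HasZeroObject.zero (C := DerivedCategory A)
  haveI : IsIso (0 : X ⟶ O) := (DerivedCategory.isIso_iff A (0 : X ⟶ O)).2 fun n =>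
    ⟨0, (h n).eq_of_src _ _, ((DerivedCategory.homologyFunctor A n).map_isZero hO).eq_of_src _ _⟩
  exact hO.of_iso (asIso (0 : X ⟶ O))

variable (P : ObjectProperty A) [P.IsSerreClass] (F : A ⥤ Q') [F.IsLocalization P.isoModSerre] [F.Additive]
  [PreservesFiniteLimits F] [PreservesFiniteColimits F]

theorem isZero_map_iff (Z : DerivedCategory A) :
    IsZero (F.mapDerivedCategory.obj Z) ↔ ∀ n : ℤ, P ((DerivedCategory.homologyFunctor A n).obj Z) := by
  obtain ⟨K, ⟨e⟩⟩ : ∃ K, Nonempty (DerivedCategory.Q.obj K ≅ Z) := ⟨_, ⟨DerivedCategory.Q.objObjPreimageIso Z⟩⟩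
  have key : ∀ n, (IsZero ((DerivedCategory.homologyFunctor Q' n).obj (F.mapDerivedCategory.obj Z)) ↔
      P ((DerivedCategory.homologyFunctor A n).obj Z)) := by
    intro n
    let e₁ : (DerivedCategory.homologyFunctor Q' n).obj (F.mapDerivedCategory.obj Z) ≅
        F.obj ((DerivedCategory.homologyFunctor A n).obj Z) :=
      (DerivedCategory.homologyFunctor Q' n).mapIso (F.mapDerivedCategory.mapIso e.symm ≪≫ F.mapDerivedCategoryFactors.app K) ≪≫
      (DerivedCategory.homologyFunctorFactors Q' n).app _ ≪≫ (K.sc n).mapHomologyIso F ≪≫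
      F.mapIso (((DerivedCategory.homologyFunctorFactors A n).app K).symm ≪≫ (DerivedCategory.homologyFunctor A n).mapIso e)
    exact e₁.isZero_iff.trans (ObjectProperty.SerreClassLocalization.isZero_obj_iff F P _)
  exact ⟨fun h n => (key n).1 ((DerivedCategory.homologyFunctor Q' n).map_isZero h),
    fun h => isZero_of_homology fun n => (key n).2 (h n)⟩

theorem trW_eq : ObjectProperty.trW (fun X : DerivedCategory A => ∀ n : ℤ, P ((DerivedCategory.homologyFunctor A n).obj X)) =
    (MorphismProperty.isomorphisms _).inverseImage F.mapDerivedCategory := by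
  ext X Y f
  constructor
  · rintro ⟨Z, g, h, hT, hZ⟩
    have hT' := F.mapDerivedCategory.map_distinguished _ hT
    exact (Triangle.isZero₃_iff_isIso₁ _ hT').1 ((isZero_map_iff P F Z).2 hZ)
  · intro hf
    obtain ⟨Z, g, h, hT⟩ := distinguished_cocone_triangle f
    have hT' := F.mapDerivedCategory.map_distinguished _ hT
    exact ⟨Z, g, h, hT, (isZero_map_iff P F Z).1 ((Triangle.isZero₃_iff_isIso₁ _ hT').2 hf)⟩

end


/-- Let P be a Serre class in an abelian category A and v : A ⥤ Q an exact localization at the morphisms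
with kernel and cokernel in P (a model of A/P). Suppose v has a left adjoint u whose unit 𝟭 ⟶ u ⋙ v
is an isomorphism. Then the induced functor D(A) ⥤ D(Q) is a localization at the class of morphisms
whose cone has all cohomology objects in P; that is, D(Q) is the Verdier quotient D(A)/D_P(A). -/
theorem result {A : Type u} [Category.{v} A] [Abelian A] [HasDerivedCategory.{w} A]
    (P : ObjectProperty A) [P.IsSerreClass]
    {Q : Type u'} [Category.{v'} Q] [Abelian Q] [HasDerivedCategory.{w'} Q]
    (v : A ⥤ Q) [v.IsLocalization P.isoModSerre] [v.Additive] [PreservesFiniteLimits v] [PreservesFiniteColimits v]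
    (u : Q ⥤ A) (adj : u ⊣ v) [IsIso adj.unit] :
    v.mapDerivedCategory.IsLocalization
      (ObjectProperty.trW (fun X : DerivedCategory A => ∀ n : ℤ, P ((DerivedCategory.homologyFunctor A n).obj X))) := by
  haveI : u.Additive := adj.left_adjoint_additive
  let uC := u.mapHomologicalComplex (ComplexShape.up ℤ)
  let vC := v.mapHomologicalComplex (ComplexShape.up ℤ)
  let adjC : uC ⊣ vC := cxAdj adj
  haveI : IsIso adjC.unit := by
    haveI : ∀ K, IsIso (adjC.unit.app K) := fun K => by
      haveI : ∀ n, IsIso ((adjC.unit.app K).f n) := fun n => inferInstanceAs (IsIso (adj.unit.app (K.X n)))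
      exact HomologicalComplex.Hom.isIso_of_components _
    exact NatIso.isIso_of_isIso_app _
  haveI := adjC.fullyFaithfulLOfIsIsoUnit.full
  haveI := adjC.fullyFaithfulLOfIsIsoUnit.faithful
  haveI := adjC.isLocalization'
  let W := (HomologicalComplex.quasiIso Q (ComplexShape.up ℤ)).inverseImage vC
  haveI : (vC ⋙ DerivedCategory.Q).IsLocalization W := by
    refine Functor.IsLocalization.comp vC DerivedCategory.Q ((MorphismProperty.isomorphisms _).inverseImage vC)
      (HomologicalComplex.quasiIso Q (ComplexShape.up ℤ)) W ?_ ?_ ?_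
    · intro X Y f hf
      exact (DerivedCategory.isIso_Q_map_iff_quasiIso Q _).2 hf
    · intro X Y f hf
      haveI : IsIso (vC.map f) := hf
      exact (inferInstance : QuasiIso (vC.map f))
    · intro X Y f hf
      refine ((W.map vC).arrow_mk_iso_iff (Arrow.isoMk (asIso (adjC.unit.app X)) (asIso (adjC.unit.app Y))
        (adjC.unit.naturality f).symm)).2 (W.map_mem_map vC _ ?_)
      exact ((HomologicalComplex.quasiIso Q (ComplexShape.up ℤ)).arrow_mk_iso_iff
        (Arrow.isoMk (asIso (adjC.unit.app X)) (asIso (adjC.unit.app Y)) (adjC.unit.naturality f).symm)).1 hf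
  haveI : (DerivedCategory.Q ⋙ v.mapDerivedCategory).IsLocalization W :=
    Functor.IsLocalization.of_iso W v.mapDerivedCategoryFactors.symm
  have hiso : ∀ {X Y : CochainComplex A ℤ} (f : X ⟶ Y),
      IsIso (v.mapDerivedCategory.map (DerivedCategory.Q.map f)) ↔ W f := fun f =>
    ((MorphismProperty.isomorphisms _).arrow_mk_iso_iff (Arrow.isoMk (v.mapDerivedCategoryFactors.app _)
      (v.mapDerivedCategoryFactors.app _) (v.mapDerivedCategoryFactors.hom.naturality f).symm)).trans
      (DerivedCategory.isIso_Q_map_iff_quasiIso Q _)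
  refine Functor.IsLocalization.of_comp DerivedCategory.Q v.mapDerivedCategory
    (HomologicalComplex.quasiIso A (ComplexShape.up ℤ)) _ W (fun X Y f hf => ?_) ?_
  · haveI : IsIso (DerivedCategory.Q.map f) := (DerivedCategory.isIso_Q_map_iff_quasiIso A f).2 hf
    exact (hiso f).1 inferInstance
  · rw [trW_eq P v]
    ext X Y g
    constructor
    · intro hg
      obtain ⟨K, ⟨eX⟩⟩ : ∃ K, Nonempty (DerivedCategory.Q.obj K ≅ X) := ⟨_, ⟨DerivedCategory.Q.objObjPreimageIso X⟩⟩
      obtain ⟨L, ⟨eY⟩⟩ : ∃ L, Nonempty (DerivedCategory.Q.obj L ≅ Y) := ⟨_, ⟨DerivedCategory.Q.objObjPreimageIso Y⟩⟩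
      obtain ⟨K', s, hs, f, hf⟩ := DerivedCategory.right_fac (eX.hom ≫ g ≫ eY.inv)
      haveI := hs
      have e : Arrow.mk (DerivedCategory.Q.map f) ≅ Arrow.mk g :=
        Arrow.isoMk (asIso (DerivedCategory.Q.map s) ≪≫ eX) eY (by
          change (DerivedCategory.Q.map s ≫ eX.hom) ≫ g = DerivedCategory.Q.map f ≫ eY.hom
          have := congrArg (fun m => DerivedCategory.Q.map s ≫ m ≫ eY.hom) hf
          simpa using this)
      refine ((W.map DerivedCategory.Q).arrow_mk_iso_iff e).1 (W.map_mem_map _ _ ((hiso f).1 ?_))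
      exact (((MorphismProperty.isomorphisms _).inverseImage v.mapDerivedCategory).arrow_mk_iso_iff e).2 hg
    · intro hg
      obtain ⟨K, L, f, hf, ⟨e⟩⟩ := hg
      exact (((MorphismProperty.isomorphisms _).inverseImage v.mapDerivedCategory).arrow_mk_iso_iff e).1 ((hiso f).2 hf)


end Groth.Agent.S0991
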