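import Groth.Statements.S0992
import Mathlib.Algebra.Homology.HomologicalComplexLimits
import Mathlib.Algebra.Homology.ShortComplex.Ab
import Mathlib.Algebra.Category.Grp.Limits

set_option autoImplicit false
universe w
open CategoryTheory CategoryTheory.Limits Opposite
open CohDer

namespace Groth.Agent.S0992


/-- Let I be a well-ordered type and K : Iᵒᵖ ⥤ CochainComplex Ab an inverse system of acyclic complexes
of abelian groups such that for every β and every degree n, each family of elements of the Kⁿ_γ (γ <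
β) compatible under the transition maps lifts to an element of Kⁿ_β (i.e. Kⁿ_β → lim_{γ<β} Kⁿ_γ is
surjective). Then the limit complex lim K is acyclic. -/
theorem result {I : Type w} [LinearOrder I] [WellFoundedLT I]
    (K : Iᵒᵖ ⥤ CochainComplex AddCommGrpCat.{w} ℤ)
    (hac : ∀ (β : I) (n : ℤ), (K.obj (op β)).ExactAt n)
    (hsurj : ∀ (β : I) (n : ℤ) (x : ∀ γ : {γ : I // γ < β}, (K.obj (op γ.1)).X n),
      (∀ (γ γ' : {γ : I // γ < β}) (h : γ.1 ≤ γ'.1), ((K.map (homOfLE h).op).f n).hom (x γ') = x γ) →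
      ∃ y : (K.obj (op β)).X n, ∀ γ : {γ : I // γ < β}, ((K.map (homOfLE γ.2.le).op).f n).hom y = x γ)
    (n : ℤ) : (limit K).ExactAt n := by
  classical
  -- compatible cycles below `β` are boundaries of compatible families, in every degree
  let Q : I → Prop := fun β => ∀ m : ℤ, ∀ x : ∀ γ : {γ : I // γ < β}, (K.obj (op γ.1)).X m,
      (∀ (γ γ' : {γ : I // γ < β}) (h : γ.1 ≤ γ'.1), ((K.map (homOfLE h).op).f m).hom (x γ') = x γ) →
      (∀ γ, ((K.obj (op γ.1)).d m (m + 1)).hom (x γ) = 0) →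
      ∃ y : ∀ γ : {γ : I // γ < β}, (K.obj (op γ.1)).X (m - 1),
        (∀ (γ γ' : {γ : I // γ < β}) (h : γ.1 ≤ γ'.1), ((K.map (homOfLE h).op).f (m - 1)).hom (y γ') = y γ) ∧
        ∀ γ, ((K.obj (op γ.1)).d (m - 1) m).hom (y γ) = x γ
  have rest_comp : ∀ (m : ℤ) {a b c : I} (h : a ≤ b) (h' : b ≤ c) (z : (K.obj (op c)).X m),
      ((K.map (homOfLE h).op).f m).hom (((K.map (homOfLE h').op).f m).hom z) =
        ((K.map (homOfLE (h.trans h')).op).f m).hom z := fun m a b c h h' z => by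
    rw [show (homOfLE (h.trans h')).op = (homOfLE h').op ≫ (homOfLE h).op from rfl, K.map_comp]
    rfl
  have rest_d : ∀ (m k : ℤ) {a b : I} (h : a ≤ b) (z : (K.obj (op b)).X m),
      ((K.obj (op a)).d m k).hom (((K.map (homOfLE h).op).f m).hom z) =
        ((K.map (homOfLE h).op).f k).hom (((K.obj (op b)).d m k).hom z) := fun m k a b h z =>
    ConcreteCategory.congr_hom ((K.map (homOfLE h).op).comm m k) z
  have exact' : ∀ (a : I) (i j k : ℤ), i + 1 = j → j + 1 = k → ∀ z : (K.obj (op a)).X j,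
      ((K.obj (op a)).d j k).hom z = 0 → ∃ w, ((K.obj (op a)).d i j).hom w = z := fun a i j k hij hjk z hz => by
    have h := hac a j
    rw [HomologicalComplex.exactAt_iff' _ i j k (by simp; omega) (by simp; omega),
      ShortComplex.ab_exact_iff] at h
    exact h z hz
  -- one extension step
  have step : ∀ γ : I, Q γ → ∀ (m : ℤ) (x : (K.obj (op γ)).X m), ((K.obj (op γ)).d m (m + 1)).hom x = 0 →
      ∀ y : ∀ δ : {δ : I // δ < γ}, (K.obj (op δ.1)).X (m - 1),
        (∀ (δ δ' : {δ : I // δ < γ}) (h : δ.1 ≤ δ'.1), ((K.map (homOfLE h).op).f (m - 1)).hom (y δ') = y δ) →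
        (∀ δ, ((K.obj (op δ.1)).d (m - 1) m).hom (y δ) = ((K.map (homOfLE δ.2.le).op).f m).hom x) →
        ∃ z, ((K.obj (op γ)).d (m - 1) m).hom z = x ∧
          ∀ δ : {δ : I // δ < γ}, ((K.map (homOfLE δ.2.le).op).f (m - 1)).hom z = y δ := by
    intro γ hQ m x hx y hy hdy
    obtain ⟨y', hy'⟩ := hsurj γ (m - 1) y hy
    obtain ⟨w, hw⟩ := exact' γ (m - 1) m (m + 1) (by omega) rfl (x - ((K.obj (op γ)).d (m - 1) m).hom y') (by
      rw [map_sub, hx, ← ConcreteCategory.comp_apply, HomologicalComplex.d_comp_d]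
      exact sub_zero 0)
    have hwd : ∀ δ : {δ : I // δ < γ}, ((K.obj (op δ.1)).d (m - 1) m).hom
        (((K.map (homOfLE δ.2.le).op).f (m - 1)).hom w) = 0 := fun δ => by
      rw [rest_d, hw, map_sub, ← rest_d, hy', hdy, sub_self]
    obtain ⟨v, hv, hvd⟩ := hQ (m - 1) (fun δ => ((K.map (homOfLE δ.2.le).op).f (m - 1)).hom w)
      (fun δ δ' h => rest_comp _ h δ'.2.le w) (fun δ => by rw [show m - 1 + 1 = m by omega]; exact hwd δ)
    obtain ⟨v', hv'⟩ := hsurj γ (m - 1 - 1) v hv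
    refine ⟨y' + (w - ((K.obj (op γ)).d (m - 1 - 1) (m - 1)).hom v'), ?_, fun δ => ?_⟩
    · rw [map_add, map_sub, hw, ← ConcreteCategory.comp_apply, HomologicalComplex.d_comp_d]
      simp
    · rw [map_add, map_sub, hy', ← rest_d, hv', hvd, sub_self, add_zero]
  -- recursion
  have build : ∀ (p : I → Prop), (∀ a b, a ≤ b → p b → p a) → (∀ γ, p γ → Q γ) →
      ∀ (m : ℤ) (x : ∀ γ, p γ → (K.obj (op γ)).X m),
      (∀ γ γ' (hγ : p γ) (hγ' : p γ') (h : γ ≤ γ'), ((K.map (homOfLE h).op).f m).hom (x γ' hγ') = x γ hγ) →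
      (∀ γ hγ, ((K.obj (op γ)).d m (m + 1)).hom (x γ hγ) = 0) →
      ∃ y : ∀ γ, p γ → (K.obj (op γ)).X (m - 1),
        (∀ γ γ' (hγ : p γ) (hγ' : p γ') (h : γ ≤ γ'),
          ((K.map (homOfLE h).op).f (m - 1)).hom (y γ' hγ') = y γ hγ) ∧
        ∀ γ hγ, ((K.obj (op γ)).d (m - 1) m).hom (y γ hγ) = x γ hγ := by
    intro p hp hQ m x hx hxd
    let F : ∀ γ : I, (∀ δ, δ < γ → p δ → (K.obj (op δ)).X (m - 1)) → p γ → (K.obj (op γ)).X (m - 1) :=
      fun γ ih hγ => if h : ∃ z, ((K.obj (op γ)).d (m - 1) m).hom z = x γ hγ ∧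
          ∀ δ : {δ : I // δ < γ}, ((K.map (homOfLE δ.2.le).op).f (m - 1)).hom z =
            ih δ.1 δ.2 (hp _ _ δ.2.le hγ) then h.choose else 0
    let y : ∀ γ, p γ → (K.obj (op γ)).X (m - 1) := wellFounded_lt.fix F
    have key : ∀ γ (hγ : p γ), ((K.obj (op γ)).d (m - 1) m).hom (y γ hγ) = x γ hγ ∧
        ∀ δ : {δ : I // δ < γ}, ((K.map (homOfLE δ.2.le).op).f (m - 1)).hom (y γ hγ) =
          y δ.1 (hp _ _ δ.2.le hγ) := by
      intro γ
      induction γ using WellFoundedLT.induction with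
      | ind γ ih =>
        intro hγ
        have hex : ∃ z, ((K.obj (op γ)).d (m - 1) m).hom z = x γ hγ ∧
            ∀ δ : {δ : I // δ < γ}, ((K.map (homOfLE δ.2.le).op).f (m - 1)).hom z =
              y δ.1 (hp _ _ δ.2.le hγ) :=
          step γ (hQ γ hγ) m (x γ hγ) (hxd γ hγ) (fun δ => y δ.1 (hp _ _ δ.2.le hγ))
            (fun δ δ' h => by
              rcases h.lt_or_eq with h' | h'
              · exact (ih δ'.1 δ'.2 _).2 ⟨δ.1, h'⟩
              · obtain ⟨a, ha⟩ := δ
                obtain ⟨b, hb⟩ := δ'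
                obtain rfl : a = b := h'
                rw [show (homOfLE h).op = 𝟙 (op a) from rfl, K.map_id]
                rfl)
            (fun δ => ((ih δ.1 δ.2 _).1).trans (hx δ.1 γ _ hγ δ.2.le).symm)
        have e : y γ hγ = hex.choose := by
          show wellFounded_lt.fix F γ hγ = _
          rw [WellFounded.fix_eq]
          exact dif_pos hex
        rw [e]
        exact hex.choose_spec
    refine ⟨y, fun γ γ' hγ hγ' h => ?_, fun γ hγ => (key γ hγ).1⟩
    rcases h.lt_or_eq with h' | h'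
    · exact (key γ' hγ').2 ⟨γ, h'⟩
    · subst h'
      rw [show (homOfLE h).op = 𝟙 (op γ) from rfl, K.map_id]
      rfl
  have hQall : ∀ β, Q β := fun β => by
    induction β using WellFoundedLT.induction with
    | ind β ih =>
      intro m x hx hxd
      obtain ⟨y, hy, hyd⟩ := build (fun γ => γ < β) (fun a b h h' => h.trans_lt h') ih m
        (fun γ hγ => x ⟨γ, hγ⟩) (fun γ γ' hγ hγ' h => hx ⟨γ, hγ⟩ ⟨γ', hγ'⟩ h) (fun γ hγ => hxd ⟨γ, hγ⟩)
      exact ⟨fun γ => y γ.1 γ.2, fun γ γ' h => hy _ _ _ _ h, fun γ => hyd _ _⟩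
  -- the limit
  rw [HomologicalComplex.exactAt_iff' _ (n - 1) n (n + 1) (by simp) (by simp), ShortComplex.ab_exact_iff]
  intro z hz
  obtain ⟨y, hy, hyd⟩ := build (fun _ => True) (fun _ _ _ _ => trivial) (fun γ _ => hQall γ) n
    (fun γ _ => ((limit.π K (op γ)).f n).hom z) (fun γ γ' _ _ h => by
      rw [← ConcreteCategory.comp_apply, ← HomologicalComplex.comp_f, limit.w])
    (fun γ _ => by
      rw [← ConcreteCategory.comp_apply, (limit.π K (op γ)).comm, ConcreteCategory.comp_apply]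
      exact (congrArg _ hz).trans (map_zero _))
  let c := isLimitOfPreserves (HomologicalComplex.eval AddCommGrpCat.{w} (ComplexShape.up ℤ) (n - 1)) (limit.isLimit K)
  let s : (K ⋙ HomologicalComplex.eval AddCommGrpCat.{w} (ComplexShape.up ℤ) (n - 1) ⋙ forget _).sections :=
    ⟨fun j => y j.unop trivial, fun {j k} g => hy k.unop j.unop trivial trivial g.unop.le⟩
  let e := (Types.isLimitEquivSections (isLimitOfPreserves (forget AddCommGrpCat.{w}) c)).symm
  refine ⟨e s, ?_⟩
  let c' := isLimitOfPreserves (HomologicalComplex.eval AddCommGrpCat.{w} (ComplexShape.up ℤ) n) (limit.isLimit K)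
  refine Concrete.isLimit_ext _ c' _ _ fun j => ?_
  show ((limit.π K j).f n).hom (((limit K).d (n - 1) n).hom (e s)) = ((limit.π K j).f n).hom z
  rw [← ConcreteCategory.comp_apply, ← (limit.π K j).comm, ConcreteCategory.comp_apply]
  refine (congrArg _ ?_).trans (hyd j.unop trivial)
  exact Types.isLimitEquivSections_symm_apply (isLimitOfPreserves (forget AddCommGrpCat.{w}) c) s j


end Groth.Agent.S0992
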