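import Groth.Statements.S0993
import Groth.Agent.Lib.K0Serre9.Exact

set_option autoImplicit false
set_option linter.style.haveILetI false
set_option backward.isDefEq.respectTransparency false
universe v v' u u'
open CategoryTheory CategoryTheory.Limits
open KZero

namespace Groth.Agent.S0993

/-- Let P be a Serre class in an abelian category A and L : A ⥤ Q an exact localization at the morphisms
with kernel and cokernel in P (a model of the quotient A/P). There are homomorphisms ι : K₀(P) →
K₀(A) and λ : K₀(A) → K₀(Q) given on classes of objects by the inclusion and by L; λ is surjective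
and its kernel is the image of ι (part (1)); and an element of K₀(P) lies in the kernel of ι exactly
when it has the form [H⁰] - [H¹] for a 2-periodic complex … → M → M → M → … with maps φ, ψ (φψ = 0 =
ψφ) on an object M of A whose two cohomology objects H⁰ = Ker ψ / Im φ and H¹ = Ker φ / Im ψ satisfy
P (part (2)). -/
theorem result {A : Type u} [Category.{v} A] [Abelian A] (P : ObjectProperty A) [P.IsSerreClass]
    {Q : Type u'} [Category.{v'} Q] [Abelian Q]
    (L : A ⥤ Q) [L.IsLocalization P.isoModSerre] [L.Additive] [PreservesFiniteLimits L] [PreservesFiniteColimits L] :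
    ∃ (ι : KZero.K0sub P →+ KZero.K0 A) (lam : KZero.K0 A →+ KZero.K0 Q),
      (∀ X : A, P X → ι (KZero.clSub P X) = KZero.cl X) ∧
      (∀ X : A, lam (KZero.cl X) = KZero.cl (L.obj X)) ∧
      Function.Surjective lam ∧ lam.ker = ι.range ∧
      ∀ x : KZero.K0sub P, ι x = 0 ↔
        ∃ (M : A) (φ ψ : M ⟶ M) (h₁ : φ ≫ ψ = 0) (h₂ : ψ ≫ φ = 0),
          P (ShortComplex.mk φ ψ h₁).homology ∧ P (ShortComplex.mk ψ φ h₂).homology ∧
          x = KZero.clSub P (ShortComplex.mk φ ψ h₁).homology - KZero.clSub P (ShortComplex.mk ψ φ h₂).homology := by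
  exact ⟨Groth.Agent.K0Serre9.incl P, Groth.Agent.K0Serre9.proj L,
    fun X hX => Groth.Agent.K0Serre9.incl_clSub P hX, Groth.Agent.K0Serre9.proj_cl L,
    Groth.Agent.K0Serre9.proj_surjective P L, Groth.Agent.K0Serre9.ker_proj P L,
    Groth.Agent.K0Serre9.incl_eq_zero_iff P⟩

end Groth.Agent.S0993
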