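import Groth.Statements.S0996
import Groth.Agent.Lib.RFPlus.Adapted

set_option autoImplicit false
universe w w' v v' u u'
open CategoryTheory CategoryTheory.Limits
open CohDer

namespace Groth.Agent.S0996


/-- Leray's acyclicity lemma. Let F : C ⥤ D be a left exact additive functor between abelian categories,
with C having enough injectives. If K is a bounded below cochain complex in C all of whose terms are
right F-acyclic (RⁱF(Kᵐ) = 0 for i > 0), then the canonical map F(K) → RF(K) in the bounded below
derived category D⁺(D) is an isomorphism. -/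
theorem result {C : Type u} [Category.{v} C] [Abelian C] [HasDerivedCategory.{w} C] [EnoughInjectives C]
    {D : Type u'} [Category.{v'} D] [Abelian D] [HasDerivedCategory.{w'} D]
    (F : C ⥤ D) [F.Additive] [PreservesFiniteLimits F] (K : CochainComplex.Plus C)
    (hK : ∀ (m : ℤ) (i : ℕ), 0 < i → IsZero ((F.rightDerived i).obj (K.obj.X m))) :
    IsIso (F.rightDerivedFunctorPlusUnit.app ((HomotopyCategory.Plus.quotient C).obj K)) := by
  obtain ⟨a, ha⟩ := K.property
  obtain ⟨I, j, hj, hinj, hI⟩ := CochainComplex.Plus.modelCategoryQuillen.exists_quasiIso_injective K.obj a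
  let I' : CochainComplex.Plus C := ⟨I, a, hI⟩
  let j' : K ⟶ I' := ObjectProperty.homMk j
  have : QuasiIso j'.hom := hj
  have hinj' : ∀ n, Injective (I'.obj.X n) := hinj
  rw [Groth.Agent.RFPlus.isIso_unit_iff F j']
  have : K.obj.IsStrictlyGE (a - 1 + 1) := by simpa using ha
  have : I.IsStrictlyGE (a - 1) := I.isStrictlyGE_of_ge (a - 1) a (by omega)
  exact Groth.Agent.RFPlus.quasiIso_map_of_acyclic_terms F j (a - 1) hK
    (fun m => Groth.Agent.RFPlus.isAcyclicObj_injective F _)


end Groth.Agent.S0996
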