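import Groth.Statements.S10000
import Groth.Agent.Lib.AlgSpEt.Lifts
import Groth.Agent.Lib.Weight4.GeomSum
import Groth.Agent.Lib.AlgSpace.LocP
import Mathlib.FieldTheory.IsAlgClosed.Classification
import Mathlib.AlgebraicGeometry.Morphisms.FormallyUnramified

set_option autoImplicit false
universe u
open CategoryTheory CategoryTheory.Limits AlgebraicGeometry
open AlgSp

namespace Groth.Agent.S10000

open CategoryTheory CategoryTheory.Limits AlgebraicGeometry Opposite AlgSp Groth.Agent.AlgSpace Groth.Agent.AlgSpDecent Groth.Agent.AlgSpEt Cardinal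

set_option backward.isDefEq.respectTransparency.types false

theorem exists_algHom_of_card_lt {M L K : Type u} [Field M] [Field L] [Field K] [Algebra M L] [Algebra M K]
    [IsAlgClosed K] (h : #L < #K) : Nonempty (L →ₐ[M] K) := by
  classical
  obtain ⟨B, hB⟩ := exists_isTranscendenceBasis M L
  obtain ⟨T, hT⟩ := exists_isTranscendenceBasis M K
  have hle : #B ≤ #T := by
    by_contra hlt
    have hlt : #T < #B := not_le.1 hlt
    have : Nonempty B := mk_ne_zero_iff.1 (ne_bot_of_gt hlt)
    have hinf : Infinite L := Infinite.of_injective _ hB.1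
    have hBL : #B ≤ #L := mk_le_of_injective Subtype.val_injective
    have hML : #M ≤ #L := mk_le_of_injective (algebraMap M L).injective
    have := IsAlgClosed.cardinal_le_max_transcendence_basis' _ hT
    exact not_le.2 h (this.trans (max_le (max_le hML (hlt.le.trans hBL)) (aleph0_le_mk L)))
  obtain ⟨e⟩ := hle
  let A := Algebra.adjoin M (Set.range ((↑) : B → L))
  let ψ : A →ₐ[M] K := (MvPolynomial.aeval fun i : B => (e i : K)).comp hB.1.aevalEquiv.symm.toAlgHom
  have hψ : Function.Injective ψ :=
    fun x y h => hB.1.aevalEquiv.symm.injective ((hT.1.comp _ e.injective :) h)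
  letI : Algebra A K := ψ.toRingHom.toAlgebra
  have : FaithfulSMul A K := (faithfulSMul_iff_algebraMap_injective A K).2 hψ
  have : Algebra.IsAlgebraic A L := hB.isAlgebraic
  have : Module.IsTorsionFree A K := by infer_instance
  have : IsScalarTower M A K := IsScalarTower.of_algebraMap_eq fun x => (ψ.commutes x).symm
  exact ⟨(IsAlgClosed.lift (R := A) (S := L) (M := K)).restrictScalars M⟩

theorem exists_lift_field {W U V : Scheme.{u}} (q : W ⟶ U) [Etale q] (p : W ⟶ V) {K : Type u} [Field K]
    [IsAlgClosed K] (s : Spec (.of K) ⟶ V) (w : W) (hw : p w = s (IsLocalRing.closedPoint K))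
    (hk : #(U.residueField (q w)) < #K) :
    ∃ m : Spec (.of K) ⟶ W, m ≫ p = s ∧ m (IsLocalRing.closedPoint K) = w := by
  obtain ⟨⟨v, a⟩, rfl⟩ := (Scheme.SpecToEquivOfField K V).symm.surjective s
  obtain rfl : p w = v := by simp [hw, Scheme.SpecToEquivOfField]
  have hL : #(W.residueField w) < #K := by
    letI := (q.residueFieldMap w).hom.toAlgebra
    have := Algebra.IsAlgebraic.cardinalMk_le_max (U.residueField (q w)) (W.residueField w)
    rcases lt_or_ge #(U.residueField (q w)) ℵ₀ with hf | hf
    · have : Finite (U.residueField (q w)) := lt_aleph0_iff_finite.1 hf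
      have : LocallyQuasiFinite q := Groth.Agent.AlgSpDescent.etale_le_lqf _ _ q inferInstance
      have hfin : (q.residueFieldMap w).hom.Finite := Groth.Agent.Weight.finite_residueFieldMap q w (q.quasiFiniteAt w)
      have : Module.Finite (U.residueField (q w)) (W.residueField w) := hfin
      have : Finite (W.residueField w) := Module.finite_of_finite (U.residueField (q w))
      exact (lt_aleph0_of_finite _).trans_le (aleph0_le_mk K)
    · rw [max_eq_left hf] at this
      exact this.trans_lt hk
  let M := (p.residueFieldMap w).hom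
  dsimp at M
  algebraize [M, a.hom]
  obtain ⟨b⟩ := exists_algHom_of_card_lt (M := V.residueField (p w)) hL
  have e : p.residueFieldMap w ≫ CommRingCat.ofHom b.toRingHom = a := by
    ext1; exact b.comp_algebraMap
  refine ⟨Spec.map (CommRingCat.ofHom b.toRingHom) ≫ W.fromSpecResidueField w, ?_, ?_⟩
  · simp [Scheme.SpecToEquivOfField, ← e]
    rfl
  · rw [Scheme.Hom.comp_apply]
    apply Scheme.fromSpecResidueField_apply

/-- For a morphism X ⟶ Y of algebraic spaces and an algebraically closed field k over S that is large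
compared with X, X(k) surjects onto |X| ×_{|Y|} Y(k): every pair of a point x of |X| and a k-valued
point of Y with the same image in |Y| comes from a k-valued point of X. (The published statement
measures largeness by a cardinal attached to X that bounds the residue fields of an etale atlas;
this row asks directly that every residue field of one surjective etale chart U of X have
cardinality smaller than that of k, which is how the bound enters the argument.) -/
theorem result {S : Scheme.{u}} {X Y : AlgSp.Space S} (f : X ⟶ Y)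
    {U : Over S} (a : (AlgSp.yon S).obj U ⟶ X.obj) (ha : AlgSp.RepWith @Etale a) (has : AlgSp.RepWith @Surjective a)
    (ybar : AlgSp.FieldPt Y.obj) (hy : ybar.IsGeometric)
    (hk : ∀ u : ↥U.left, Cardinal.mk ↥(U.left.residueField u) < Cardinal.mk ybar.K)
    (x : AlgSp.Points X.obj) (hx : AlgSp.Points.map f.hom x = AlgSp.Points.mk ybar) :
    ∃ xbar : (AlgSp.yon S).obj ybar.pt ⟶ X.obj, xbar ≫ f.hom = ybar.toHom ∧
      AlgSp.Points.ofPt xbar (IsLocalRing.closedPoint ybar.K) = x := by
  haveI : IsAlgClosed ybar.K := hy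
  obtain ⟨u, rfl⟩ := surjective_ofPt has x
  obtain ⟨V, b, hb, hbs⟩ := Y.property.atlas
  obtain ⟨v, hv⟩ := surjective_ofPt hbs (Points.mk ybar)
  obtain ⟨l, hl⟩ := exists_lift_of_point ybar hy ⟨CostructuredArrow.mk b, hb⟩ v hv
  have sq := hb.1.isPullback' (a ≫ f.hom)
  have : Etale (hb.1.snd (a ≫ f.hom)).left := hb.2 _ _ _ (hb.1.isPullback (a ≫ f.hom))
  obtain ⟨w, hw₁, hw₂⟩ := exists_pt_of_isPullback sq (x := Points.ofScheme V v) (t := u) (by
    rw [← Points.ofPt_eq_map_ofScheme, hv, ← Points.map_ofPt, hx])
  rw [ofPt_map_eq] at hw₁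
  have hw : (hb.1.fst' (a ≫ f.hom)).left w = l.1.left (IsLocalRing.closedPoint ybar.K) :=
    ((Points.schemeEquiv V).injective hw₁).trans hl.symm
  obtain ⟨m, hm, hm'⟩ := exists_lift_field (hb.1.snd (a ≫ f.hom)).left (hb.1.fst' (a ≫ f.hom)).left
    (show Spec (.of ybar.K) ⟶ V.left from l.1.left) w hw (hk _)
  let m₁ : ybar.pt ⟶ hb.1.pullback (a ≫ f.hom) := Over.homMk m (by
    rw [← Over.w (hb.1.fst' (a ≫ f.hom)), reassoc_of% hm]
    exact Over.w l.1)
  have e : m₁ ≫ hb.1.fst' (a ≫ f.hom) = l.1 := by ext1; exact hm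
  refine ⟨(yon S).map (m₁ ≫ hb.1.snd (a ≫ f.hom)) ≫ a, ?_, ?_⟩
  · rw [Category.assoc, (yon S).map_comp, Category.assoc, ← sq.w, ← Functor.map_comp_assoc, e]
    exact l.2
  · refine (ofPt_map_comp _ _ _).trans ?_
    rw [Over.comp_left, Scheme.Hom.comp_apply]
    exact congrArg (Points.ofPt a) ((congrArg _ hm').trans hw₂)

end Groth.Agent.S10000
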