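import Groth.Statements.S10008
import Groth.Agent.Lib.AlgSpace.Affine
import Groth.Agent.Lib.SchImage14.Space
import Mathlib.Algebra.Category.Ring.FilteredColimits
import Mathlib.CategoryTheory.Filtered.Final

set_option autoImplicit false
universe u
open CategoryTheory CategoryTheory.Limits AlgebraicGeometry
open AlgSp

namespace Groth.Agent.S10008
open Groth.Agent.AlgSpace Groth.Agent.SchImage14 Opposite

set_option backward.isDefEq.respectTransparency.types false

theorem nontrivial_colimit {J : Type u} [SmallCategory J] [IsFiltered J] (R : J ⥤ CommRingCat.{u})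
    (h : ∀ j, Nontrivial (R.obj j)) : Nontrivial ↑(colimit R) := by
  refine ⟨0, 1, fun e => ?_⟩
  obtain ⟨j₀⟩ := IsFiltered.nonempty (C := J)
  have e' : colimit.ι R j₀ (0 : R.obj j₀) = colimit.ι R j₀ (1 : R.obj j₀) := by
    rw [map_zero, map_one]; exact e
  obtain ⟨k, f, g, hk⟩ := Concrete.colimit_exists_of_rep_eq R _ _ e'
  rw [map_zero, map_one] at hk
  have := h k
  exact zero_ne_one hk

theorem main (S : Scheme.{u}) {I : Type u} [SmallCategory I] [IsCofiltered I]
    (D : I ⥤ Sp S) (hD : ∀ i, IsAlgSpace (D.obj i))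
    (hDa : ∀ (i j : I) (φ : i ⟶ j), IsAffineMor (D.map φ))
    (c : Cone D) (hc : IsLimit c)
    (hqc : ∀ i, IsQuasiCompactSp (D.obj i)) (hne : ∀ i, Nonempty (Points (D.obj i))) :
    Nonempty (Points c.pt) := by
  obtain ⟨i₀⟩ := IsCofiltered.nonempty (C := I)
  obtain ⟨W, q, hW, hqe, hqs⟩ := exists_affine_chart (hqc i₀)
  have hrep := fun j : Over i₀ => (isAffineMor_iff_repWith.1 (hDa _ _ j.hom)).1
  let V : Over i₀ → Over S := fun j => (hrep j).pullback q
  let vs : ∀ j, V j ⟶ W := fun j => (hrep j).snd q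
  let vf : ∀ j, (yon S).obj (V j) ⟶ D.obj j.left := fun j => (hrep j).fst q
  have sq : ∀ j, IsPullback (vf j) ((yon S).map (vs j)) (D.map j.hom) q := fun j => (hrep j).isPullback q
  let vm : ∀ {j k : Over i₀} (φ : j ⟶ k), V j ⟶ V k := fun {j k} φ =>
    (yon S).preimage ((sq k).lift (vf j ≫ D.map φ.left) ((yon S).map (vs j)) (by
      rw [Category.assoc, ← D.map_comp, Over.w φ, (sq j).w]))
  have vm_f : ∀ {j k : Over i₀} (φ : j ⟶ k), (yon S).map (vm φ) ≫ vf k = vf j ≫ D.map φ.left :=
    fun φ => by simp [vm]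
  have vm_s : ∀ {j k : Over i₀} (φ : j ⟶ k), vm φ ≫ vs k = vs j := fun φ =>
    (yon S).map_injective (by simp [vm])
  let W' : Over i₀ ⥤ Over S :=
    { obj := V
      map := fun φ => vm φ
      map_id := fun j => (yon S).map_injective ((sq j).hom_ext
        (by rw [vm_f]; simp) (by rw [← Functor.map_comp, vm_s]; simp))
      map_comp := fun {j k l} φ ψ => (yon S).map_injective ((sq l).hom_ext
        (by rw [vm_f, Functor.map_comp, Category.assoc, vm_f, ← Category.assoc, vm_f, Over.comp_left,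
          D.map_comp, Category.assoc])
        (by rw [← Functor.map_comp, ← Functor.map_comp, vm_s, Category.assoc, vm_s, vm_s])) }
  have hVa : ∀ j, IsAffine (V j).left := fun j => by
    have : IsAffineHom (vs j).left := (isAffineMor_iff_repWith.1 (hDa _ _ j.hom)).2 _ _ _ (sq j)
    exact isAffine_of_isAffineHom (vs j).left
  have hVn : ∀ j, Nonempty ↥(V j).left := fun j => by
    obtain ⟨y⟩ := hne j.left
    obtain ⟨v, -⟩ := surjective_ofPt (repWith_of_isPullback (sq j).flip hqs) y
    exact ⟨v⟩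
  let R : (Over i₀)ᵒᵖ ⥤ CommRingCat.{u} := (W' ⋙ Over.forget S).op ⋙ Scheme.Γ
  have hR : ∀ j, Nontrivial (R.obj j) := fun j => by
    have := hVn j.unop
    have := hVa j.unop
    have : Nonempty ↥(Spec Γ((V j.unop).left, ⊤)) := Nonempty.map (V j.unop).left.isoSpec.hom ‹_›
    exact PrimeSpectrum.nonempty_iff_nontrivial.1 this
  have := nontrivial_colimit R hR
  have : Nonempty ↥(Spec (colimit R)) := PrimeSpectrum.nonempty_iff_nontrivial.2 this
  let π : ∀ j : Over i₀, Spec (colimit R) ⟶ (V j).left := fun j =>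
    haveI := hVa j
    Spec.map (colimit.ι R (op j)) ≫ (V j).left.isoSpec.inv
  have hπ : ∀ {j k : Over i₀} (φ : j ⟶ k), π j ≫ (vm φ).left = π k := fun {j k} φ => by
    have := hVa j
    have := hVa k
    simp only [π, Category.assoc]
    erw [← Scheme.isoSpec_inv_naturality (vm φ).left, ← Spec.map_comp_assoc]
    congr 2
    exact colimit.w R φ.op
  let o : Over i₀ := Over.mk (𝟙 i₀)
  let T : Over S := Over.mk (π o ≫ (V o).hom)
  have hTπ : ∀ j, π j ≫ (V j).hom = π o ≫ (V o).hom := fun j => by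
    exact ((congrArg (π j ≫ ·) (Over.w (vm (Over.homMk j.hom (Category.comp_id _) : j ⟶ o)))).symm.trans (Category.assoc _ _ _).symm).trans (congrArg (· ≫ (V o).hom) (hπ (Over.homMk j.hom (Category.comp_id _) : j ⟶ o)))
  let p : ∀ j, T ⟶ V j := fun j => Over.homMk (π j) (hTπ j)
  have hp : ∀ {j k : Over i₀} (φ : j ⟶ k), p j ≫ vm φ = p k := fun φ => Over.OverMorphism.ext (hπ φ)
  let s : Cone (Over.forget i₀ ⋙ D) :=
    { pt := (yon S).obj T
      π :=
        { app := fun j => (yon S).map (p j) ≫ vf j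
          naturality := fun j k φ => by
            change 𝟙 _ ≫ (yon S).map (p k) ≫ vf k = ((yon S).map (p j) ≫ vf j) ≫ D.map φ.left
            rw [Category.id_comp, Category.assoc, ← vm_f, ← Functor.map_comp_assoc, hp] } }
  let g : (yon S).obj T ⟶ c.pt := ((Functor.Initial.isLimitWhiskerEquiv (Over.forget i₀) c).symm hc).lift s
  obtain ⟨t⟩ := ‹Nonempty ↥(Spec (colimit R))›
  exact ⟨Points.ofPt g (show ↥T.left from t)⟩


/-- Let `X` be the limit, in fppf sheaves over `S`, of a cofiltered system `(X_i)` of algebraic spaces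
over `S` whose transition maps are affine. If every `X_i` is quasi-compact and has at least one
point, then `X` has a point. -/
theorem result (S : Scheme.{u}) {I : Type u} [SmallCategory I] [IsCofiltered I]
    (D : I ⥤ AlgSp.Sp S) (hD : ∀ i, AlgSp.IsAlgSpace (D.obj i))
    (hDa : ∀ (i j : I) (φ : i ⟶ j), AlgSp.IsAffineMor (D.map φ))
    (c : Cone D) (hc : IsLimit c)
    (hqc : ∀ i, AlgSp.IsQuasiCompactSp (D.obj i)) (hne : ∀ i, Nonempty (AlgSp.Points (D.obj i))) :
    Nonempty (AlgSp.Points c.pt) := by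
  exact main S D hD hDa c hc hqc hne

end Groth.Agent.S10008
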