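import Groth.Statements.S1002
import Groth.Agent.Lib.DGen9.PerfMain

set_option autoImplicit false
set_option linter.style.haveILetI false
set_option backward.isDefEq.respectTransparency false
universe u
open CategoryTheory CategoryTheory.Limits AlgebraicGeometry
attribute [local instance] HasDerivedCategory.standard
open Perf

namespace Groth.Agent.S1002

/-- Let f : X ⟶ S be proper, flat and of finite presentation and E a perfect object of D(O_X). Assuming
the derived direct image Rf_* exists on the unbounded derived category, Rf_* E is again perfect, as
an object of D(O_S). (The published statement also asserts compatibility with arbitrary base change,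
which is not asserted here.) -/
theorem result {X S : Scheme.{u}} (f : X ⟶ S) [IsProper f] [Flat f] [LocallyOfFinitePresentation f]
    [DCoh.HasRpush f] (E : DCoh.D X) (hE : DCoh.IsPerfect E) : DCoh.IsPerfect ((DCoh.Rpush f).obj E) := by
  exact PerfPush9.isPerfect_rpush_flat f E hE

end Groth.Agent.S1002
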