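import Groth.Statements.S9997
import Groth.Agent.Lib.SchImage14.IdealEt
import Groth.Agent.Lib.AlgSpace.LocP

set_option autoImplicit false
universe u
open CategoryTheory CategoryTheory.Limits AlgebraicGeometry Opposite
open AlgSp

set_option backward.isDefEq.respectTransparency.types false

namespace Groth.Agent.S9997

open Groth.Agent.AlgSpace

variable {S : Scheme.{u}}

theorem lfp_iff_fg {A B : Scheme.{u}} [IsAffine B] (k : A ⟶ B) [IsClosedImmersion k] :
    LocallyOfFinitePresentation k ↔ (RingHom.ker k.appTop.hom).FG := by
  have : IsAffine A := isAffine_of_isAffineHom k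
  have hs : Function.Surjective k.appTop.hom := (IsClosedImmersion.isAffine_surjective_of_isAffine k).2
  rw [HasRingHomProperty.iff_of_isAffine (P := @LocallyOfFinitePresentation)]
  refine ⟨fun h => ?_, fun h => RingHom.FinitePresentation.of_surjective _ hs h⟩
  algebraize [k.appTop.hom]
  exact Algebra.FinitePresentation.ker_fG_of_surjective (Algebra.ofId _ _) hs

theorem main {Z X : Sp S} (hX : IsAlgSpace X) (i : Z ⟶ X) (hi : RepWith @IsClosedImmersion i) :
    LocP @LocallyOfFinitePresentation i ↔
      ∀ (E : EtOver X) (hE : IsAffine E.obj.left.left), ((idealOfRep hi.1).ideal E hE).FG := by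
  constructor
  · intro h E hE
    have := SchImage14.isClosedImmersion_snd hi E.obj.hom
    exact (lfp_iff_fg (hi.1.snd E.obj.hom).left).1
      ((repWith_of_locP hX hi.1 h).2 _ _ _ (hi.1.isPullback E.obj.hom))
  · intro h
    obtain ⟨V, b, hbe, hbs⟩ := hX.atlas
    have := SchImage14.isClosedImmersion_snd hi b
    have sq := hi.1.isPullback b
    refine locP_of_one_chart (hi.1.fst b) b (hi.1.snd b) (repWith_of_isPullback sq.flip hbe)
      (repWith_of_isPullback sq.flip hbs) hbe sq.w ?_
    refine (IsZariskiLocalAtTarget.iff_of_iSup_eq_top (P := @LocallyOfFinitePresentation)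
      (fun U : V.left.affineOpens => U.1) (iSup_affineOpens_eq_top V.left)).2 fun U => ?_
    let E := SchImage14.chartOpen b hbe U.1
    have hE : IsAffine E.obj.left.left := U.2
    have := SchImage14.isClosedImmersion_snd hi E.obj.hom
    have hlfp := (lfp_iff_fg (hi.1.snd E.obj.hom).left).2 (h E hE)
    let o : Over.mk (U.1.ι ≫ V.hom) ⟶ V := Over.homMk U.1.ι rfl
    obtain ⟨l, hl⟩ := (yon S).map_surjective (sq.lift (hi.1.fst E.obj.hom)
      ((yon S).map (hi.1.snd E.obj.hom ≫ o)) (by
        rw [Functor.map_comp, Category.assoc]; exact (hi.1.isPullback E.obj.hom).w))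
    have hl₂ : l ≫ hi.1.snd b = hi.1.snd E.obj.hom ≫ o := (yon S).map_injective (by
      rw [Functor.map_comp, hl, IsPullback.lift_snd])
    have sqo : IsPullback ((yon S).map l) ((yon S).map (hi.1.snd E.obj.hom)) ((yon S).map (hi.1.snd b))
        ((yon S).map o) :=
      IsPullback.of_right (by rw [hl, IsPullback.lift_fst]; exact hi.1.isPullback E.obj.hom)
        (by rw [← Functor.map_comp, ← Functor.map_comp, hl₂]) sq
    have sqo' := (IsPullback.of_map (yon S) hl₂ sqo).map (Over.forget S)
    rw [← (isPullback_morphismRestrict (hi.1.snd b).left U.1).flip.isoIsPullback_hom_snd _ _ sqo']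
    exact @locallyOfFinitePresentation_comp _ _ _ _ _ (inferInstance) hlfp

/-- A closed immersion i : Z ⟶ X of algebraic spaces is (locally) of finite presentation if and only if
its sheaf of ideals is of finite type; finite type is rendered chart by chart, as finite generation
of the kernel ideal Ker(Γ(U, O_U) → Γ(Z ×_X U, O)) for every affine etale chart U of X (for a
quasi-coherent sheaf of ideals the two readings agree by descent of finite generation along etale
coverings). -/
theorem result {S : Scheme.{u}} {Z X : AlgSp.Space S} (i : Z ⟶ X)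
    (hi : AlgSp.RepWith @IsClosedImmersion i.hom) :
    AlgSp.LocP @LocallyOfFinitePresentation i.hom ↔
      ∀ (E : AlgSp.EtOver X.obj) (hE : IsAffine E.obj.left.left), ((AlgSp.idealOfRep hi.1).ideal E hE).FG := by
  exact Groth.Agent.S9997.main X.property i.hom hi

end Groth.Agent.S9997
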