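import Groth.Statements.S10035
import Groth.Agent.Lib.QcohExt14.Ideal
import Groth.Agent.Lib.LimSys14.ClosedSys
import Groth.Agent.Lib.SchImage14.Valuation
import Groth.Agent.S9997

set_option autoImplicit false
universe u
open CategoryTheory CategoryTheory.Limits AlgebraicGeometry
open AlgSp

namespace Groth.Agent.S10035

open CategoryTheory.Limits Opposite Groth.Agent.AlgSpace Groth.Agent.QcohEt15 Groth.Agent.QcohExt14

set_option backward.isDefEq.respectTransparency false
set_option backward.isDefEq.respectTransparency.types false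
set_option linter.style.haveILetI false

attribute [local instance] FinLocFree14.isQuasicoherent_unit

variable {S : Scheme.{u}}

theorem exists_factor_of_points {A G Z : Sp S} (i : Z ⟶ G) [Mono i] (f : A ⟶ G)
    (h : ∀ {T : Over S} (a : (yon S).obj T ⟶ A), ∃ b, b ≫ i = a ≫ f) : ∃ g : A ⟶ Z, g ≫ i = f := by
  have : Sheaf.IsLocallySurjective (pullback.snd i f) := isLocallySurjective_of_lifts _ fun T a => by
    obtain ⟨b, hb⟩ := h a
    refine ⟨T, 𝟙 T, pullback.lift b a hb, inferInstanceAs (Flat (𝟙 T.left)),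
      inferInstanceAs (Surjective (𝟙 T.left)), inferInstanceAs (LocallyOfFinitePresentation (𝟙 T.left)), ?_⟩
    rw [pullback.lift_snd, CategoryTheory.Functor.map_id, Category.id_comp]
  have : Epi (pullback.snd i f) := Sheaf.epi_of_isLocallySurjective' _
  have : IsIso (pullback.snd i f) := isIso_of_mono_of_epi _
  exact ⟨inv (pullback.snd i f) ≫ pullback.fst i f, by
    rw [Category.assoc, pullback.condition, IsIso.inv_hom_id_assoc]⟩

/-- The sum of finitely many families. -/
noncomputable def supFam {X : Sp S} {M : ModEt X} {κ : Type u} (P : κ → Fam M) (t : Finset κ) : Fam M where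
  P E := t.sup fun a => (P a).P E
  fg E _ := by
    induction t using Finset.cons_induction with
    | empty => exact Submodule.fg_bot
    | cons a s ha ih => rw [Finset.sup_cons]; exact ((P a).fg E).sup ih
  span E E' _ _ g := by
    induction t using Finset.cons_induction with
    | empty => exact (Fam.zero (M := M)).span E E' g
    | cons a s ha ih => rw [Finset.sup_cons, Finset.sup_cons, spanT_sup, (P a).span E E' g, ih]

theorem spanT_map_app {X : Sp S} {G M : ModEt X} (g : G ⟶ M) (Q : Fam G) {E E' : EtOver X}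
    [IsAffine E.obj.left.left] [IsAffine E'.obj.left.left] (k : E' ⟶ E) :
    spanT k ((Q.P E).map (appₗ g E)) = (Q.P E').map (appₗ g E') := by
  refine le_antisymm ((spanT_le_iff _ _ _).2 ?_) ?_
  · rintro _ ⟨y, hy, rfl⟩
    exact ⟨res G k y, Q.res_mem k hy, appₗ_res g k y⟩
  · rw [Submodule.map_le_iff_le_comap, ← Q.span E E' k, spanT_le_iff]
    intro y hy
    change appₗ g E' (res G k y) ∈ spanT k _
    rw [appₗ_res]
    exact res_mem_spanT k ⟨y, hy, rfl⟩

/-- The ideal sheaf of a family in the ideal module. -/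
noncomputable def famIdeal {X : Sp S} {G : ModEt X} (g : G ⟶ unitModEt X) (Q : Fam G) : IdealEt X where
  ideal E _ := subIdl ((Q.P E).map (appₗ g E))
  map_le := fun {E E'} k hE hE' => by
    change (subIdl ((Q.P E).map (appₗ g E))).map (γ k) ≤ subIdl ((Q.P E').map (appₗ g E'))
    rw [map_subIdl, spanT_map_app g Q k]

theorem isQCoh_famIdeal {X : Sp S} {G : ModEt X} (g : G ⟶ unitModEt X) (Q : Fam G) :
    (famIdeal g Q).IsQCoh := fun E E' k hE hE' => by
  change subIdl ((Q.P E').map (appₗ g E')) ≤ (subIdl ((Q.P E).map (appₗ g E))).map (γ k)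
  rw [map_subIdl, spanT_map_app g Q k]

theorem fg_famIdeal {X : Sp S} {G : ModEt X} (g : G ⟶ unitModEt X) (Q : Fam G)
    (E : EtOver X) (hE : IsAffine E.obj.left.left) : ((famIdeal g Q).ideal E hE).FG := by
  classical
  obtain ⟨t, ht⟩ := (Q.fg E).map (appₗ g E)
  refine ⟨t.image downU, le_antisymm (Ideal.span_le.2 ?_)
    fun a (ha : upU E a ∈ (Q.P E).map (appₗ g E)) => ?_⟩
  · intro b hb
    obtain ⟨y, hy, rfl⟩ := Finset.mem_image.1 hb
    exact ht.le (Submodule.subset_span hy)
  · have hle : (Q.P E).map (appₗ g E) ≤ idealSub (Ideal.span (t.image downU : Set (Γo E))) := by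
      rw [← ht, Submodule.span_le]
      exact fun y hy => Ideal.subset_span (Finset.mem_coe.2 (Finset.mem_image_of_mem _ hy))
    exact hle ha

/-- The limit of a family of closed subspaces of finite presentation with intersection a given one. -/
theorem exists_system {Y : Sp S} {X : Sp S} (f : X ⟶ Y) (hf : RepWith @IsClosedImmersion f)
    (U : EtOver Y) (hs : Function.Surjective (Points.ofPt U.obj.hom)) {κ : Type u} [DecidableEq κ]
    (Z : Finset κ → Sp S) (i : ∀ t, Z t ⟶ Y) (hic : ∀ t, RepWith @IsClosedImmersion (i t))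
    (hk : ∀ {t t'}, t ⊆ t' → ∃ k, k ≫ i t = i t') (hl : ∀ t, ∃ l, l ≫ i t = f)
    (hsup : ∀ {T : Over S} (q : T ⟶ U.obj.left),
      (∀ t, SchImage14.subIdeal (hic t) U.obj.hom ≤ q.left.ker) → SchImage14.subIdeal hf U.obj.hom ≤ q.left.ker) :
    ∃ (D : (Finset κ)ᵒᵖ ⥤ Sp S) (τ : D ⟶ (Functor.const _).obj Y) (c : Cone D) (_ : IsLimit c) (e : c.pt ≅ X),
      (∀ t, D.obj t = Z t.unop ∧ HEq (τ.app t) (i t.unop)) ∧
      (∀ a b (φ : a ⟶ b), RepWith @IsClosedImmersion (D.map φ)) ∧
      (∀ t, e.inv ≫ c.π.app t ≫ τ.app t = f) := by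
  haveI : ∀ t, Mono (i t) := fun t => AlgSpDescent.mono_of_repWith_closedImmersion (hic t)
  haveI : Mono f := AlgSpDescent.mono_of_repWith_closedImmersion hf
  choose k hk using @hk
  choose l hl using hl
  let D : (Finset κ)ᵒᵖ ⥤ Sp S :=
    { obj := fun t => Z t.unop
      map := fun φ => k (leOfHom φ.unop)
      map_id := fun t => by rw [← cancel_mono (i t.unop), hk, Category.id_comp]
      map_comp := fun {a b c} φ ψ => by rw [← cancel_mono (i c.unop), Category.assoc, hk, hk, hk] }
  let τ : D ⟶ (Functor.const _).obj Y :=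
    { app := fun t => i t.unop
      naturality := fun a b φ => (hk _).trans (Category.comp_id _).symm }
  let c : Cone D :=
    { pt := X
      π :=
        { app := fun t => l t.unop
          naturality := fun a b φ => by
            rw [← cancel_mono (i b.unop)]
            exact (congrArg (· ≫ i b.unop) (Category.id_comp (l b.unop))).trans
              ((hl _).trans (by rw [Category.assoc, hk, hl])) } }
  have hlim : ∀ s : Cone D, ∃ m : s.pt ⟶ X, ∀ t, m ≫ l t.unop = s.π.app t := fun s => by
    let c₀ : s.pt ⟶ Y := s.π.app (op ∅) ≫ i ∅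
    have hc₀ : ∀ t, s.π.app (op t) ≫ i t = c₀ := fun t => by
      rw [show c₀ = s.π.app (op ∅) ≫ i ∅ from rfl,
        ← s.w (homOfLE (Finset.empty_subset t)).op, Category.assoc]
      congr 1
      exact (hk _).symm
    have hsurj : Sheaf.IsLocallySurjective (pullback.fst c₀ U.obj.hom) :=
      isLocallySurjective_of_etale (repWith_of_isPullback (IsPullback.of_hasPullback _ _).flip U.property)
        (repWith_of_isPullback (IsPullback.of_hasPullback _ _).flip
          (repWith_surjective_of_ofPt U.property.1 hs))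
    obtain ⟨b, hb⟩ := exists_factor_of_points f (pullback.fst c₀ U.obj.hom ≫ c₀) fun {T} a => by
      obtain ⟨q, hq⟩ := (yon S).map_surjective (a ≫ pullback.snd c₀ U.obj.hom)
      have hw : a ≫ pullback.fst c₀ U.obj.hom ≫ c₀ = (yon S).map q ≫ U.obj.hom := by
        rw [hq, Category.assoc, pullback.condition]
      obtain ⟨b, hb⟩ := (SchImage14.exists_lift_iff hf U.obj.hom q).2 (hsup q fun t =>
        (SchImage14.exists_lift_iff (hic t) U.obj.hom q).1
          ⟨a ≫ pullback.fst c₀ U.obj.hom ≫ s.π.app (op t), by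
            simp only [Category.assoc]
            rw [hc₀ t, hw]⟩)
      exact ⟨b, hb.trans hw.symm⟩
    obtain ⟨m, hm⟩ := SchImage14.exists_factor_of_locSurj f _ hsurj c₀ b hb
    exact ⟨m, fun t => by rw [← cancel_mono (i t.unop), Category.assoc, hl, hm]; exact (hc₀ _).symm⟩
  choose m hm using hlim
  refine ⟨D, τ, c,
    { lift := m
      fac := hm
      uniq := fun s m' hm' => by
        rw [← cancel_mono f, ← hl ∅, ← Category.assoc, ← Category.assoc]
        exact congrArg (· ≫ i ∅) ((hm' (op ∅)).trans (hm s (op ∅)).symm) },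
    Iso.refl _, fun t => ⟨rfl, HEq.rfl⟩, fun a b φ => ?_, fun t => (Category.id_comp _).trans (hl t.unop)⟩
  have w : D.map φ ≫ i b.unop = i a.unop := hk _
  exact repWith_of_isPullback (show IsPullback (𝟙 (D.obj a)) (D.map φ) (i a.unop) (i b.unop) from
    ⟨⟨(Category.id_comp _).trans w.symm⟩, ⟨PullbackCone.IsLimit.mk _ (fun s => s.fst)
      (fun s => Category.comp_id _)
      (fun s => by rw [← cancel_mono (i b.unop), Category.assoc, w, s.condition])
      (fun s m h _ => by rw [← h]; exact (Category.comp_id _).symm)⟩⟩) (hic a.unop)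

/-- Let `Y` be an algebraic space, quasi-compact and quasi-separated over the scheme `S`, and `f : X ⟶
Y` a closed immersion from another algebraic space. Then `X` is the limit of a directed system of
closed subspaces `X_i ⟶ Y` of finite presentation whose transition maps are closed immersions (limit
in fppf sheaves, indexed by a nonempty directed preorder, compatible with `f`). (The published
statement allows any base scheme and uses absolute quasi-separatedness; this row assumes the base
quasi-separated, over which quasi-separatedness relative to the base is the absolute notion.) -/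
theorem result (S : Scheme.{u}) [QuasiSeparatedSpace S]
    {X Y : AlgSp.Space S} (f : X ⟶ Y) (hf : AlgSp.RepWith @IsClosedImmersion f.hom) (hYqc : AlgSp.IsQuasiCompactSp Y.obj) (hYqs : AlgSp.IsQuasiSeparatedSp Y.obj) :
    ∃ (I : Type u) (_ : Preorder I) (_ : IsDirected I (fun a b => a ≤ b)) (_ : Nonempty I) (D : Iᵒᵖ ⥤ AlgSp.Sp S)
      (t : D ⟶ (Functor.const Iᵒᵖ).obj Y.obj) (c : Cone D) (_ : IsLimit c) (e : c.pt ≅ X.obj),
      (∀ i, AlgSp.IsAlgSpace (D.obj i)) ∧ (∀ (i j : Iᵒᵖ) (φ : i ⟶ j), AlgSp.RepWith @IsClosedImmersion (D.map φ)) ∧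
      (∀ i, AlgSp.RepWith @IsClosedImmersion (t.app i) ∧ AlgSp.IsFinitePresentationMor (t.app i)) ∧ (∀ i, e.inv ≫ c.π.app i ≫ t.app i = f.hom) := by
  classical
  obtain ⟨U₀, hU₀, hs⟩ := exists_charts Y hYqc
  haveI := hU₀
  have hfm : Mono f.hom := AlgSpDescent.mono_of_repWith_closedImmersion hf
  let J := idealOfRep hf.1
  have hJ : J.IsQCoh := SchImage14.isQCoh_idealOfRep_of_closed hf
  let PJ : ∀ E : EtOver Y.obj, Submodule (Γo E) (sectModEt (unitModEt Y.obj) E) := fun E =>
    if hE : IsAffine E.obj.left.left then idealSub (J.ideal E hE) else ⊥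
  have hPJ : ∀ (E : EtOver Y.obj) [hE : IsAffine E.obj.left.left], PJ E = idealSub (J.ideal E hE) :=
    fun E hE => dif_pos hE
  obtain ⟨G, g, hg, hGq, hGr⟩ := exists_spanSub PJ fun E E' hE hE' k => by
    rw [hPJ, hPJ, spanT_idealSub]
    exact congrArg idealSub (SchImage14.ideal_map_eq hJ k hE hE')
  haveI := hGq
  have hmem : ∀ a : ↥(J.ideal U₀ hU₀), ∃ P : Fam G, ∃ x ∈ P.P U₀, appₗ g U₀ x = upU U₀ a.1 := fun a => by
    obtain ⟨x, hx⟩ : upU U₀ a.1 ∈ LinearMap.range (appₗ g U₀) := by
      rw [hGr, hPJ]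
      exact a.2
    obtain ⟨P, hP⟩ := exists_fam Y hYqc hYqs U₀ x
    exact ⟨P, x, hP, hx⟩
  choose P x hx hxa using hmem
  let I : Finset ↥(J.ideal U₀ hU₀) → IdealEt Y.obj := fun t => famIdeal g (supFam P t)
  have hmono : ∀ {t t'}, t ⊆ t' → I t ≤ I t' := fun {t t'} h E hE a ha =>
    Submodule.map_mono (Finset.sup_mono h : t.sup (fun a => (P a).P E) ≤ t'.sup fun a => (P a).P E) ha
  have hle : ∀ t, I t ≤ J := fun t E hE a ha => by
    obtain ⟨y, -, hy⟩ := ha
    have : upU E a ∈ PJ E := by rw [← hGr E]; exact ⟨y, hy⟩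
    rw [hPJ] at this
    exact this
  choose Z i hi using fun t => SchImage14.exists_isCutOutBy Y (I t) (isQCoh_famIdeal g _)
  have hic : ∀ t, RepWith @IsClosedImmersion (i t).hom := fun t => (hi t).choose
  have hiI : ∀ t, idealOfRep (hic t).1 = I t := fun t => (hi t).choose_spec
  haveI : ∀ t, Mono (i t).hom := fun t => AlgSpDescent.mono_of_repWith_closedImmersion (hic t)
  obtain ⟨D, τ, c, hc, e, hD, hmap, hf'⟩ := exists_system f.hom hf U₀ hs (fun t => (Z t).obj) (fun t => (i t).hom) hic
    (fun {t t'} h => SchImage14.exists_factor_of_idealOfRep_le Y.property (Z t').property (hic t').1 (hic t)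
      (by rw [hiI, hiI]; exact hmono h))
    (fun t => SchImage14.exists_factor_of_idealOfRep_le Y.property X.property hf.1 (hic t)
      (by rw [hiI]; exact hle t))
    (fun {T} q h => Scheme.IdealSheafData.le_of_isAffine fun z hz => by
      rw [← SchImage14.idealOfRep_eq_subIdeal hf U₀ hU₀] at hz
      refine h {⟨z, hz⟩} ⟨⊤, isAffineOpen_top _⟩ ?_
      rw [← SchImage14.idealOfRep_eq_subIdeal (hic _) U₀ hU₀, hiI]
      exact ⟨x ⟨z, hz⟩, (Finset.sup_singleton (f := fun a => (P a).P U₀) (b := ⟨z, hz⟩)).ge (hx ⟨z, hz⟩),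
        hxa ⟨z, hz⟩⟩)
  refine ⟨Finset ↥(J.ideal U₀ hU₀), inferInstance, ⟨fun a b => ⟨a ∪ b, Finset.subset_union_left,
    Finset.subset_union_right⟩⟩, inferInstance, D, τ, c, hc, e, fun t => (hD t).1 ▸ (Z t.unop).property, hmap,
    fun t => ?_, hf'⟩
  have key : ∀ (A : Sp S) (a : A ⟶ Y.obj), A = (Z t.unop).obj → HEq a (i t.unop).hom →
      RepWith @IsClosedImmersion a ∧ IsFinitePresentationMor a := by
    rintro A a rfl h
    obtain rfl := eq_of_heq h
    exact ⟨hic t.unop, (S9997.result (i t.unop) (hic t.unop)).2 fun E hE => by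
        rw [hiI]; exact fg_famIdeal g _ E hE,
      LimSys14.isQuasiCompactMor_of_isAffineMor (Z t.unop).property Y.property
        (LimSys14.isAffineMor_of_closedImmersion (hic t.unop)),
      SchImage14.isQuasiSeparatedMor_of_mono (i t.unop).hom⟩
  exact key _ (τ.app t) (hD t).1 (hD t).2

end Groth.Agent.S10035
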