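import Groth.Statements.S1004
import Groth.Agent.Lib.DPerf.Tilde
-- import your own Groth.Agent.* helpers here

set_option autoImplicit false
universe u
open CategoryTheory CategoryTheory.Limits AlgebraicGeometry
attribute [local instance] HasDerivedCategory.standard
open Perf

namespace Groth.Agent.S1004

/-- Let A be a ring, M an object of D(A) and E = M~ the associated object of D(O_{Spec A}) (assuming the
tilde functor is recorded as left exact). Then m-pseudo-coherence of E in D(O_{Spec A}) is
equivalent to m-pseudo-coherence of M in D(A). -/
theorem result (A : Type u) [CommRing A] [PreservesFiniteLimits (tilde.functor (CommRingCat.of A))]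
    (M : Dual.D A) (m : ℤ) :
    DCoh.IsPseudoCoherentD m ((DCoh.tildeD (CommRingCat.of A)).obj M) ↔ DRing.IsPseudoCoherent A m M := by
  exact DPerf.pc_tilde_iff (R := CommRingCat.of A) m M

end Groth.Agent.S1004
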