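import Groth.Statements.S10045
import Groth.Agent.Lib.ThickSp15.Scheme
import Groth.Agent.Lib.AlgSpace.SchemeLocus

set_option autoImplicit false
universe u
open CategoryTheory CategoryTheory.Limits AlgebraicGeometry
open AlgSp

namespace Groth.Agent.S10045

/-- Let `X` be an algebraic space over `S` and `X_red ⟶ X` its reduction (the reduced closed subspace
with the same points). If `X_red` is a scheme, then `X` is a scheme. -/
theorem result (S : Scheme.{u}) (X Z : AlgSp.Space S) (i : Z ⟶ X)
    (hi : AlgSp.IsRedInduced Set.univ i.hom) (hZ : Z.obj.obj.IsRepresentable) : X.obj.obj.IsRepresentable := by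
  obtain ⟨hc, hr, -⟩ := hi
  let e := AlgSp.isoOfRepresentableBy Z.obj.obj.representableBy
  have ht : AlgSp.IsThickMor (e.hom ≫ i.hom) := by
    refine (Groth.Agent.AlgSpace.repWith_respectsIso_left e.hom).2 ⟨hc.1, fun T P g fst snd sq => ⟨hc.2 g fst snd sq, ⟨fun t => ?_⟩⟩⟩
    obtain ⟨z, hz⟩ : AlgSp.Points.ofPt g t ∈ Set.range (AlgSp.Points.map i.hom) := by rw [hr]; trivial
    obtain ⟨w, -, hw⟩ := Groth.Agent.AlgSpace.exists_pt_of_isPullback sq hz
    exact ⟨w, hw⟩
  obtain ⟨T', ⟨e'⟩⟩ := Groth.Agent.ThickSp15.exists_scheme_of_thick X.property ht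
  exact Groth.Agent.AlgSpace.isRepresentable_of_iso_yon e'

end Groth.Agent.S10045
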