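import Groth.Statements.S10047
import Groth.Agent.Lib.AlgSpDescent.ThickFin

set_option autoImplicit false
universe u
open CategoryTheory CategoryTheory.Limits AlgebraicGeometry
open AlgSp

namespace Groth.Agent.S10047

open CategoryTheory CategoryTheory.Limits AlgebraicGeometry Opposite MorphismProperty AlgSp Groth.Agent.AlgSpace Groth.Agent.AlgSpDecent Groth.Agent.AlgSpDescent


set_option backward.isDefEq.respectTransparency.types false

theorem lft_of_fp_thick {S : Scheme.{u}} {X X' Y Y' : Sp S} {i : X ⟶ X'} {j : Y ⟶ Y'} {f : X ⟶ Y} {f' : X' ⟶ Y'}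
    (hj : RepWith @IsClosedImmersion j) (hjl : LocP @LocallyOfFinitePresentation j) (hi : IsThickMor i)
    (hcart : IsPullback i f f' j) (hf : LocP @LocallyOfFiniteType f) : LocP @LocallyOfFiniteType f' :=
  fun U V a b h ha hb w => (HasRingHomProperty.iff_appLE (P := @LocallyOfFiniteType)).2 fun V₀ U₀ hUV => by
  let φ := h.left.appLE V₀.1 U₀.1 hUV
  let str := V₀.2.fromSpec ≫ V.hom
  let g : Over.mk str ⟶ V := Over.homMk V₀.2.fromSpec rfl
  let k : Over.mk (Spec.map φ ≫ str) ⟶ U := Over.homMk U₀.2.fromSpec (by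
    change U₀.2.fromSpec ≫ U.hom = Spec.map φ ≫ V₀.2.fromSpec ≫ V.hom
    rw [IsAffineOpen.SpecMap_appLE_fromSpec_assoc h.left V₀.2 U₀.2 hUV, Over.w h])
  have hk : k ≫ h = specArrow φ str ≫ g :=
    Over.OverMorphism.ext (IsAffineOpen.SpecMap_appLE_fromSpec h.left V₀.2 U₀.2 hUV).symm
  let β := (yon S).map g ≫ b
  let α := (yon S).map k ≫ a
  have hge : Etale g.left := inferInstanceAs (Etale V₀.2.fromSpec)
  have hke : Etale k.left := inferInstanceAs (Etale U₀.2.fromSpec)
  have hβ : RepWith @Etale β := repWith_comp ((repWith_yon_map_iff @Etale g).2 hge) hb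
  have hα : RepWith @Etale α := repWith_comp ((repWith_yon_map_iff @Etale k).2 hke) ha
  have hαβ : α ≫ f' = (yon S).map (specArrow φ str) ≫ β := by
    simp only [α, β, Category.assoc, w, ← Functor.map_comp_assoc, hk]
  obtain ⟨J, t, sqt⟩ := exists_quot_of_affine hj str β
  have ht : RepWith @Etale t := repWith_of_isPullback sqt.flip hβ
  let q := (yon S).map (quotArrow (J.map φ.hom) (Spec.map φ ≫ str))
  let r := hcart.lift (q ≫ α) ((yon S).map (quotTop J φ str) ≫ t) (by
    rw [Category.assoc, hαβ, Category.assoc, sqt.w]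
    exact (reassoc_of% (isPullback_quotTop J φ str).w) β |>.symm)
  have hr1 : r ≫ i = q ≫ α := hcart.lift_fst _ _ _
  have hr2 : r ≫ f = (yon S).map (quotTop J φ str) ≫ t := hcart.lift_snd _ _ _
  have sqX : IsPullback r q i α :=
    IsPullback.of_right (h₁₂ := f) (by rw [hr2, hαβ]; exact (isPullback_quotTop J φ str).paste_horiz sqt)
      hr1 hcart.flip
  have hs : Surjective (quotArrow (J.map φ.hom) (Spec.map φ ≫ str)).left := (hi.2 _ _ _ sqX).2
  have hnil : J.map φ.hom ≤ nilradical Γ(U.left, U₀.1) := by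
    intro x hx
    rw [nilradical_eq_sInf, Ideal.mem_sInf]
    intro p hp
    obtain ⟨z, hz⟩ := hs.surj (⟨p, hp⟩ : PrimeSpectrum Γ(U.left, U₀.1))
    rw [show p = (PrimeSpectrum.comap (Ideal.Quotient.mk (J.map φ.hom)) z).asIdeal from
      congrArg PrimeSpectrum.asIdeal hz.symm]
    change Ideal.Quotient.mk (J.map φ.hom) x ∈ z.asIdeal
    rw [Ideal.Quotient.eq_zero_iff_mem.2 hx]
    exact zero_mem _
  have hfg : J.FG := by
    have h₀ : LocallyOfFinitePresentation (quotArrow J str).left := hjl t β _ ht hβ sqt.w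
    have h₁ := (HasRingHomProperty.Spec_iff (P := @LocallyOfFinitePresentation)).1 h₀
    have : Algebra.FinitePresentation Γ(V.left, V₀.1) (Γ(V.left, V₀.1) ⧸ J) :=
      RingHom.finitePresentation_algebraMap.1 h₁
    convert Algebra.FinitePresentation.ker_fG_of_surjective (Ideal.Quotient.mkₐ Γ(V.left, V₀.1) J)
      Ideal.Quotient.mk_surjective
    exact (Ideal.mk_ker).symm
  obtain ⟨m, hm⟩ := (Ideal.FG.isNilpotent_iff_le_nilradical (hfg.map φ.hom)).2 hnil
  have hP : LocallyOfFiniteType (quotSpec J φ) := hf r t (quotTop J φ str) (repWith_of_isPullback sqX.flip hα) ht hr2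
  exact finiteType_of_nilpotent hm ((HasRingHomProperty.Spec_iff (P := @LocallyOfFiniteType)).1 hP)


/-- Let `f : X ⟶ B` and `g : B' ⟶ B` be morphisms of algebraic spaces over `S` with `g` a closed
immersion inducing a bijection on points, and suppose the base change `X ×_B B' ⟶ B'` is a closed
immersion. If `f` is of finite type or `g` is of finite presentation, then `f` is a closed
immersion. -/
theorem result (S : Scheme.{u}) {X B B' : AlgSp.Space S}
    (f : X ⟶ B) (g : B' ⟶ B) (hg : AlgSp.RepWith @IsClosedImmersion g.hom)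
    (hbij : Function.Bijective (AlgSp.Points.map g.hom))
    (X' : AlgSp.Sp S) (fst : X' ⟶ X.obj) (snd : X' ⟶ B'.obj) (hX' : IsPullback fst snd f.hom g.hom)
    (hsnd : AlgSp.RepWith @IsClosedImmersion snd)
    (hor : AlgSp.IsFiniteTypeMor f.hom ∨ AlgSp.IsFinitePresentationMor g.hom) :
    AlgSp.RepWith @IsClosedImmersion f.hom := by
  obtain ⟨hr, hc⟩ := hg
  have hg' : IsThickMor g.hom :=
    repWith_inf ⟨hr, hc⟩ (repWith_surjective_of_map hr hbij.2)
  have hi : IsThickMor fst := repWith_of_isPullback hX'.flip hg'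
  have hX'a : IsAlgSpace X' := isAlgSpace_baseChange X.property B.property B'.property hX'
  have hl : LocP @LocallyOfFiniteType f.hom :=
    hor.elim (fun h => h.1) fun h =>
      lft_of_fp_thick ⟨hr, hc⟩ h.1 hi hX' (lft_of_repWith_closedImmersion B'.property hsnd)
  exact closedImmersion_of_thick_cartesian hi hg' hl hX'a X.property B'.property B.property hX' hsnd

end Groth.Agent.S10047
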