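import Groth.Statements.S10049
import Groth.Agent.Lib.LimSys14.SchemeLimit
import Groth.Agent.Lib.LimSys14.ClosedLimMap
import Groth.Agent.Lib.LimSys14.Apps
import Groth.Agent.Lib.AlgSpace.DVRSeparated
import Groth.Agent.Lib.AlgSpDescent.MonoLft
import Mathlib.Order.Zorn
import Mathlib.CategoryTheory.Limits.Connected

set_option autoImplicit false
universe u
open CategoryTheory CategoryTheory.Limits AlgebraicGeometry
open AlgSp

namespace Groth.Agent.S10049

open CategoryTheory CategoryTheory.Limits AlgebraicGeometry Opposite AlgSp Groth.Agent.AlgSpace Groth.Agent.LimSys14 Groth.Agent.AlgSpDescent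

set_option backward.isDefEq.respectTransparency.types false
noncomputable section

variable {S : Scheme.{u}} {X : Sp S}

/-- A closed subspace. -/
structure ClSub (X : Sp S) where
  obj : Sp S
  ι : obj ⟶ X
  ci : RepWith @IsClosedImmersion ι

namespace ClSub

theorem mono (Z : ClSub X) : Mono Z.ι := mono_of_repWith_closedImmersion Z.ci

theorem ci_of_fac {Z Z' : ClSub X} (a : Z'.obj ⟶ Z.obj) (ha : a ≫ Z.ι = Z'.ι) :
    RepWith @IsClosedImmersion a := by
  have := Z.mono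
  refine repWith_of_isPullback (f := Z'.ι) (f' := a) (a := 𝟙 _) (b := Z.ι) ?_ Z'.ci
  exact IsPullback.of_isLimit' ⟨by rw [Category.id_comp, ha]⟩ (PullbackCone.IsLimit.mk _
    (fun s => s.fst) (fun s => Category.comp_id _)
    (fun s => by rw [← cancel_mono Z.ι, Category.assoc, ha]; exact s.condition)
    (fun s m h₁ _ => by rw [← h₁]; exact (Category.comp_id m).symm))

variable {U : Over S} (p : (yon S).obj U ⟶ X)

/-- The ideal of the inverse image on the atlas. -/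
def ideal (Z : ClSub X) : U.left.IdealSheafData := (Z.ci.1.snd p).left.ker

theorem ideal_le_of_fac {Z Z' : ClSub X} (a : Z'.obj ⟶ Z.obj) (ha : a ≫ Z.ι = Z'.ι) :
    Z.ideal p ≤ Z'.ideal p := by
  have h : (Z'.ci.1.fst p ≫ a) ≫ Z.ι = (yon S).map (Z'.ci.1.snd p) ≫ p := by
    rw [Category.assoc, ha]; exact Z'.ci.1.w p
  have h2 := Z.ci.1.lift_snd _ _ h
  unfold ideal
  rw [← h2, Over.comp_left]
  exact Scheme.Hom.le_ker_comp _ _

theorem exists_fac_of_ideal_le (hpe : RepWith @Etale p) (hps : RepWith @Surjective p) {Z Z' : ClSub X}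
    (h : Z.ideal p ≤ Z'.ideal p) : ∃ a : Z'.obj ⟶ Z.obj, a ≫ Z.ι = Z'.ι := by
  have sqP := IsPullback.of_hasPullback Z.ι Z'.ι
  have : IsClosedImmersion (Z.ci.1.snd p).left := Z.ci.2 _ _ _ (Z.ci.1.isPullback _)
  have : Mono (pullback.snd Z.ι Z'.ι) :=
    mono_of_repWith_closedImmersion (repWith_of_isPullback sqP Z.ci)
  have sq' := Z'.ci.1.isPullback p
  have : Sheaf.IsLocallySurjective (Z'.ci.1.fst p) :=
    isLocallySurjective_of_etale (repWith_of_isPullback sq'.flip hpe) (repWith_of_isPullback sq'.flip hps)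
  let z : Z'.ci.1.pullback p ⟶ Z.ci.1.pullback p :=
    Over.homMk (IsClosedImmersion.lift (Z.ci.1.snd p).left (Z'.ci.1.snd p).left h) (by
      rw [← Over.w (Z.ci.1.snd p), ← Category.assoc, IsClosedImmersion.lift_fac]
      exact Over.w _)
  have hz : z ≫ Z.ci.1.snd p = Z'.ci.1.snd p := Over.OverMorphism.ext (IsClosedImmersion.lift_fac _ _ _)
  let m := sqP.lift ((yon S).map z ≫ Z.ci.1.fst p) (Z'.ci.1.fst p) (by
    rw [Category.assoc, Z.ci.1.w, ← Functor.map_comp_assoc, hz]; exact (Z'.ci.1.w p).symm)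
  have : Epi (m ≫ pullback.snd Z.ι Z'.ι) := by
    rw [show m ≫ pullback.snd Z.ι Z'.ι = Z'.ci.1.fst p from sqP.lift_snd _ _ _]; infer_instance
  have : Epi (pullback.snd Z.ι Z'.ι) := epi_of_epi m _
  have : IsIso (pullback.snd Z.ι Z'.ι) := isIso_of_mono_of_epi _
  exact ⟨inv (pullback.snd Z.ι Z'.ι) ≫ pullback.fst Z.ι Z'.ι, by
    rw [Category.assoc, pullback.condition, IsIso.inv_hom_id_assoc]⟩

theorem eq_ofFac {Z Z' : ClSub X} {a b : Z'.obj ⟶ Z.obj} (ha : a ≫ Z.ι = Z'.ι) (hb : b ≫ Z.ι = Z'.ι) :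
    a = b := by
  have := Z.mono
  exact (cancel_mono Z.ι).1 (ha.trans hb.symm)

theorem qc_qs (hX : IsAlgSpace X) (hc : IsQuasiCompactSp X) (hs : IsQuasiSeparatedSp X) (Z : ClSub X) :
    IsAlgSpace Z.obj ∧ IsQuasiCompactSp Z.obj ∧ IsQuasiSeparatedSp Z.obj := by
  have hZ : IsAlgSpace Z.obj := isAlgSpace_of_representable Z.ci.1 hX
  have ha : IsAffineMor Z.ι := isAffineMor_of_closedImmersion Z.ci
  exact ⟨hZ, isQuasiCompactSp_of_mor hZ hX (isQuasiCompactMor_of_isAffineMor hZ hX ha) hc,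
    isQuasiSeparatedSp_of_mor (isQuasiSeparatedMor_of_isAffineMor hZ hX ha) hs⟩

end ClSub

theorem exists_upper [QuasiSeparatedSpace S] (hX : IsAlgSpace X) (hc : IsQuasiCompactSp X) (hs : IsQuasiSeparatedSp X)
    {U : Over S} (p : (yon S).obj U ⟶ X) (hpe : RepWith @Etale p) (hps : RepWith @Surjective p)
    (C : Set U.left.IdealSheafData) (hC : IsChain (· ≤ ·) C) (hne : C.Nonempty)
    (h : ∀ J ∈ C, ∃ Z : ClSub X, ¬ Z.obj.obj.IsRepresentable ∧ Z.ideal p = J) :
    ∃ Z : ClSub X, ¬ Z.obj.obj.IsRepresentable ∧ ∀ J ∈ C, J ≤ Z.ideal p := by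
  have : Nonempty ↥C := hne.to_subtype
  have : IsDirectedOrder ↥C := ⟨hC.directed⟩
  have : IsCofiltered (↥C)ᵒᵈ := inferInstance
  let Z (i : (↥C)ᵒᵈ) : ClSub X := (h _ (OrderDual.ofDual i).2).choose
  have hZ (i : (↥C)ᵒᵈ) : ¬ (Z i).obj.obj.IsRepresentable ∧ (Z i).ideal p = (OrderDual.ofDual i).1 :=
    (h _ (OrderDual.ofDual i).2).choose_spec
  have hfac {i j : (↥C)ᵒᵈ} (f : i ⟶ j) : ∃ a : (Z i).obj ⟶ (Z j).obj, a ≫ (Z j).ι = (Z i).ι :=
    ClSub.exists_fac_of_ideal_le p hpe hps (by rw [(hZ i).2, (hZ j).2]; exact leOfHom f)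
  let D : (↥C)ᵒᵈ ⥤ Sp S :=
    { obj := fun i => (Z i).obj
      map := fun f => (hfac f).choose
      map_id := fun i => ClSub.eq_ofFac (hfac (𝟙 i)).choose_spec (Category.id_comp _)
      map_comp := fun f g => ClSub.eq_ofFac (hfac (f ≫ g)).choose_spec (by
        rw [Category.assoc, (hfac g).choose_spec, (hfac f).choose_spec]) }
  let τ : D ⟶ (Functor.const _).obj X :=
    { app := fun i => (Z i).ι
      naturality := fun i j f => (hfac f).choose_spec.trans (Category.comp_id _).symm }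
  let i₀ : (↥C)ᵒᵈ := Classical.arbitrary _
  let g : limit D ⟶ X := limit.π D i₀ ≫ (Z i₀).ι
  have : IsConnected (↥C)ᵒᵈ := IsCofiltered.isConnected _
  have hg : ∀ i, g ≫ (constCone (↥C)ᵒᵈ X).π.app i = (limit.cone D).π.app i ≫ τ.app i := fun i => by
    have k := IsCofiltered.min i i₀
    rw [show (constCone (↥C)ᵒᵈ X).π.app i = 𝟙 X from rfl, Category.comp_id]
    show limit.π D i₀ ≫ (Z i₀).ι = limit.π D i ≫ (Z i).ι
    have w₁ := limit.w D (IsCofiltered.minToRight i i₀)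
    have w₂ := limit.w D (IsCofiltered.minToLeft i i₀)
    rw [← w₁, ← w₂, Category.assoc, Category.assoc]
    exact congrArg (limit.π D _ ≫ ·) ((hfac (IsCofiltered.minToRight i i₀)).choose_spec.trans
      (hfac (IsCofiltered.minToLeft i i₀)).choose_spec.symm)
  let L : ClSub X := ⟨limit D, g,
    closedImmersion_limMap τ (fun i => (Z i).ci) (constCone _ X) (limit.isLimit D) (isLimitConstCone _ X) g hg⟩
  refine ⟨L, fun hrep => ?_, fun J hJ => ?_⟩
  · obtain ⟨i, hi⟩ := exists_isRepresentable (limit.cone D) (fun i => ((Z i).qc_qs hX hc hs).1)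
      (fun i j f => isAffineMor_of_closedImmersion (ClSub.ci_of_fac _ (hfac f).choose_spec))
      (fun i => ((Z i).qc_qs hX hc hs).2.1) (fun i => ((Z i).qc_qs hX hc hs).2.2) (limit.isLimit D)
      (AlgSp.isoOfRepresentableBy L.obj.obj.representableBy)
    exact (hZ i).1 hi
  · let i : (↥C)ᵒᵈ := OrderDual.toDual ⟨J, hJ⟩
    refine (hZ i).2.ge.trans (ClSub.ideal_le_of_fac p (limit.π D i) ?_)
    exact (hg i).symm.trans (Category.comp_id _)

end

/-- Let `X` be an algebraic space, quasi-compact and quasi-separated over the scheme `S`, which is not a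
scheme. Then there is a closed subspace `Z ⊂ X` which is not a scheme such that every proper closed
subspace `Z' ⊊ Z` is a scheme. (The published statement allows any base scheme and uses absolute
quasi-separatedness; this row assumes the base quasi-separated, over which quasi-separatedness
relative to the base is the absolute notion.) -/
theorem result (S : Scheme.{u}) [QuasiSeparatedSpace S]
    (X : AlgSp.Space S) (hXqc : AlgSp.IsQuasiCompactSp X.obj) (hXqs : AlgSp.IsQuasiSeparatedSp X.obj) (hX : ¬ X.obj.obj.IsRepresentable) :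
    ∃ (Z : AlgSp.Space S) (i : Z ⟶ X), AlgSp.RepWith @IsClosedImmersion i.hom ∧ ¬ Z.obj.obj.IsRepresentable ∧
      ∀ (Z' : AlgSp.Space S) (i' : Z' ⟶ Z), AlgSp.RepWith @IsClosedImmersion i'.hom → ¬ IsIso i' → Z'.obj.obj.IsRepresentable := by
  obtain ⟨U, p, hpe, hps⟩ := X.property.atlas
  let X₀ : ClSub X.obj := ⟨X.obj, 𝟙 _, repWith_of_isIso @IsClosedImmersion (𝟙 X.obj)⟩
  obtain ⟨J, -, hJ⟩ := zorn_le_nonempty₀
    {J | ∃ Z : ClSub X.obj, ¬ Z.obj.obj.IsRepresentable ∧ Z.ideal p = J}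
    (fun C hC hchain J hJC => by
      obtain ⟨Z, hZ, hle⟩ := exists_upper X.property hXqc hXqs p hpe hps C hchain ⟨J, hJC⟩ hC
      exact ⟨_, ⟨Z, hZ, rfl⟩, hle⟩)
    (X₀.ideal p) ⟨X₀, hX, rfl⟩
  obtain ⟨Z, hZ, hZJ⟩ := hJ.1
  refine ⟨⟨Z.obj, (Z.qc_qs X.property hXqc hXqs).1⟩, ObjectProperty.homMk Z.ι, Z.ci, hZ,
    fun Z' i' hi' hni => ?_⟩
  by_contra hZ'
  let W : ClSub X.obj := ⟨Z'.obj, i'.hom ≫ Z.ι, repWith_comp hi' Z.ci⟩
  have h₁ : Z.ideal p ≤ W.ideal p := ClSub.ideal_le_of_fac p i'.hom rfl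
  have h₂ : W.ideal p ≤ Z.ideal p := hZJ ▸ hJ.2 ⟨W, hZ', rfl⟩ (hZJ ▸ h₁)
  obtain ⟨a, ha⟩ := ClSub.exists_fac_of_ideal_le p hpe hps (Z := W) (Z' := Z) h₂
  have := mono_of_repWith_closedImmersion hi'
  have h₃ : a ≫ i'.hom = 𝟙 _ := ClSub.eq_ofFac (Z := Z) (Z' := Z)
    ((Category.assoc _ _ _).trans ha) (Category.id_comp _)
  have : IsSplitEpi i'.hom := ⟨⟨a, h₃⟩⟩
  have : IsIso i'.hom := isIso_of_mono_of_epi _
  have : IsIso ((ObjectProperty.ι _).map i') := this
  exact hni (isIso_of_reflects_iso i' (ObjectProperty.ι _))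

end Groth.Agent.S10049
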