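import Groth.Statements.S1005
import Groth.Agent.Lib.DPerf.Noeth
-- import your own Groth.Agent.* helpers here

set_option autoImplicit false
universe u
open CategoryTheory CategoryTheory.Limits AlgebraicGeometry
attribute [local instance] HasDerivedCategory.standard
open Perf

namespace Groth.Agent.S1005

/-- Let X be a locally Noetherian scheme all of whose local rings are regular. Then every object of
D(O_X) with bounded, coherent cohomology is perfect. -/
theorem result (X : Scheme.{u}) [IsLocallyNoetherian X]
    (hreg : ∀ x : X, IsRegularLocalRing (X.presheaf.stalk x))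
    (K : DCoh.D X) (a b : ℤ) [K.IsGE a] [K.IsLE b] (hK : DCoh.IsCohD K) : DCoh.IsPerfect K := by
  exact DPerf.isPerfect_iff_approx.2 (DPerf.isPerfect_of_regular hreg (b + 1 - a).toNat a K
    inferInstance (fun i hi => DerivedCategory.isZero_of_isLE K b i (by omega)) hK)

end Groth.Agent.S1005
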