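import Groth.Statements.S10050
import Groth.Agent.Lib.TwoPiece14.Cover
import Groth.Agent.Lib.AlgSpDecent.RedInduced
import Groth.Agent.S10045
-- import your own Groth.Agent.* helpers here

set_option autoImplicit false
universe u
open CategoryTheory CategoryTheory.Limits AlgebraicGeometry
open AlgSp

namespace Groth.Agent.S10050

/-- Let `X` be an algebraic space, quasi-compact and quasi-separated over the scheme `S`, which is not a
scheme although every proper closed subspace of `X` is one. Then `X` is reduced and irreducible.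
(The published statement allows any base scheme and uses absolute quasi-separatedness; this row
assumes the base quasi-separated, over which quasi-separatedness relative to the base is the
absolute notion.) -/
theorem result (S : Scheme.{u}) [QuasiSeparatedSpace S]
    (X : AlgSp.Space S) (hXqc : AlgSp.IsQuasiCompactSp X.obj) (hXqs : AlgSp.IsQuasiSeparatedSp X.obj) (hX : ¬ X.obj.obj.IsRepresentable)
    (hmin : ∀ (Z : AlgSp.Space S) (i : Z ⟶ X), AlgSp.RepWith @IsClosedImmersion i.hom → ¬ IsIso i → Z.obj.obj.IsRepresentable) :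
    AlgSp.IsReducedSp X.obj ∧ IrreducibleSpace (AlgSp.Points X.obj) := by
  obtain ⟨Z₀, i₀, hi₀⟩ := Groth.Agent.AlgSpDecent.RedInduced.exists_isRedInduced X Set.univ isClosed_univ
  have hred : AlgSp.IsReducedSp X.obj := by
    by_cases hiso : IsIso i₀
    · have : IsIso i₀.hom := inferInstanceAs (IsIso ((ObjectProperty.ι _).map i₀))
      obtain ⟨U, a, hae, has, hU⟩ := hi₀.2.2
      exact ⟨U, a ≫ i₀.hom, (Groth.Agent.AlgSpace.repWith_respectsIso_right i₀.hom).2 hae,
        (Groth.Agent.AlgSpace.repWith_respectsIso_right i₀.hom).2 has, hU⟩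
    · exact absurd (Groth.Agent.S10045.result S X Z₀ i₀ hi₀ (hmin Z₀ i₀ hi₀.1 hiso)) hX
  have hne : Nonempty (AlgSp.Points X.obj) := by
    by_contra h
    obtain ⟨G, ⟨e⟩⟩ := Groth.Agent.AlgSpace.exists_iso_yon_of_points_cover (F := X.obj)
      (κ := PEmpty.{u + 1}) (U := fun k => k.elim) (w := fun k => k.elim) (fun k => k.elim)
      fun x => absurd ⟨x⟩ h
    exact hX (Groth.Agent.AlgSpace.isRepresentable_of_iso_yon e)
  -- proper closed subsets carry schemes
  have piece : ∀ T : Set (AlgSp.Points X.obj), IsClosed T → T ≠ Set.univ →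
      ∃ (G : Over S) (j : (AlgSp.yon S).obj G ⟶ X.obj), AlgSp.RepWith @IsClosedImmersion j ∧
        Set.range (AlgSp.Points.ofPt j) = T := by
    intro T hT hne
    obtain ⟨Z, i, hi⟩ := Groth.Agent.AlgSpDecent.RedInduced.exists_isRedInduced X T hT
    have hni : ¬ IsIso i := fun h => by
      have : IsIso i.hom := inferInstanceAs (IsIso ((ObjectProperty.ι _).map i))
      exact hne (hi.2.1 ▸ (Groth.Agent.AlgSpace.bijective_map_iso i.hom).2.range_eq)
    have := hmin Z i hi.1 hni
    let e := AlgSp.isoOfRepresentableBy Z.obj.obj.representableBy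
    refine ⟨_, e.hom ≫ i.hom, (Groth.Agent.AlgSpace.repWith_respectsIso_left e.hom).2 hi.1, ?_⟩
    rw [Groth.Agent.TwoPiece14.range_ofPt, Groth.Agent.AlgSpace.map_comp_eq,
      (Groth.Agent.AlgSpace.bijective_map_iso e.hom).2.range_comp, hi.2.1]
  refine ⟨hred, { toPreirreducibleSpace := ⟨fun u v hu hv hxu hyv => ?_⟩, toNonempty := hne }⟩
  obtain ⟨x, -, hxu⟩ := hxu
  obtain ⟨y, -, hyv⟩ := hyv
  by_contra hdisj
  obtain ⟨GY, jY, hY, rY⟩ := piece uᶜ hu.isClosed_compl
    fun h => (h.symm ▸ Set.mem_univ x : x ∈ uᶜ) hxu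
  obtain ⟨GZ, jZ, hZ, rZ⟩ := piece vᶜ hv.isClosed_compl
    fun h => (h.symm ▸ Set.mem_univ y : y ∈ vᶜ) hyv
  refine hX (Groth.Agent.TwoPiece14.isRepresentable_of_two_closed X.property hred hY hZ fun w => ?_)
  rw [rY, rZ]
  by_contra h
  simp only [Set.mem_compl_iff, not_or, not_not] at h
  exact hdisj ⟨w, Set.mem_univ w, h.1, h.2⟩

end Groth.Agent.S10050
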