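import Groth.Statements.S10051
import Groth.Agent.Lib.LocRep14.Transfer

set_option autoImplicit false
set_option linter.style.haveILetI false
universe u
open CategoryTheory CategoryTheory.Limits AlgebraicGeometry
open AlgSp

namespace Groth.Agent.S10051

open CategoryTheory.Limits Opposite Groth.Agent.AlgSpace Groth.Agent.AlgSpDecent Groth.Agent.OverBC14
  Groth.Agent.LimH13 Groth.Agent.LocRep14

set_option backward.isDefEq.respectTransparency.types false
set_option backward.isDefEq.respectTransparency false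

variable {S : Scheme.{u}} {X : Sp S} (q : X ⟶ (yon S).obj (Over.mk (𝟙 S)))

/-- The system of basic neighbourhoods over an affine open. -/
noncomputable def sys (s : S) (V : S.affineOpens) : (Nhd.Idx s V)ᵒᵖ ⥤ Over (V.1 : Scheme.{u}) where
  obj h := Over.mk (S.homOfLE (S.basicOpen_le h.unop.1))
  map {h h'} a := Over.homMk ((Nhd.diag s V).map a) (by
    change S.homOfLE ((Nhd.le_iff s V).1 a.unop.le) ≫ S.homOfLE (S.basicOpen_le h'.unop.1) =
      S.homOfLE (S.basicOpen_le h.unop.1)
    simp)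
  map_id h := Over.OverMorphism.ext ((Nhd.diag s V).map_id h)
  map_comp a b := Over.OverMorphism.ext ((Nhd.diag s V).map_comp a b)

theorem isAlgSpace_and_representable_nhd (hX : IsAlgSpace X) (hqc : IsQuasiCompactMor q)
    (hqs : IsQuasiSeparatedMor q) (s : S)
    (hs : (pullback q ((yon S).map (Over.homMk (S.fromSpecStalk s) :
      Over.mk (S.fromSpecStalk s) ⟶ Over.mk (𝟙 S)))).obj.IsRepresentable) :
    ∃ (O : S.Opens) (W : Over S) (w : (yon S).obj W ⟶ X), RepWith @IsOpenImmersion w ∧ s ∈ O ∧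
      ∀ x : Points X, (Points.schemeHomeo (Over.mk (𝟙 S))).symm (Points.map q x) ∈ O →
        x ∈ Set.range (Points.map w) := by
  obtain ⟨_, ⟨V₀, hV₀, rfl⟩, hsV, -⟩ :=
    S.isBasis_affineOpens.exists_subset_of_mem_open (Set.mem_univ s) isOpen_univ
  let V : S.affineOpens := ⟨V₀, hV₀⟩
  haveI : IsAffine (V.1 : Scheme.{u}) := hV₀
  obtain ⟨X', q', hX', hqc', hqs', hiso⟩ := exists_restrict V.1.ι q hX hqc hqs
  haveI := Nhd.isDirected s V
  let o : (Nhd.Idx s V)ᵒᵖ := op ⟨1, by rw [Scheme.basicOpen_of_isUnit _ isUnit_one]; exact hsV⟩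
  haveI : Nonempty (Nhd.Idx s V) := ⟨o.unop⟩
  haveI : IsFiltered (Nhd.Idx s V) := isFiltered_of_directed_le_nonempty _
  haveI : IsConnected (Nhd.Idx s V)ᵒᵖ := IsCofiltered.isConnected _
  have ho : ∀ j, Nonempty (j ⟶ o) := fun j => ⟨(homOfLE ((Nhd.le_iff s V).2 (by
    change S.basicOpen j.unop.1 ≤ S.basicOpen (1 : Γ(S, V.1))
    rw [Scheme.basicOpen_of_isUnit _ isUnit_one]
    exact S.basicOpen_le _))).op⟩
  let c : Cone (sys s V) :=
    { pt := Over.mk (V.1.fromSpecStalkOfMem s hsV)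
      π :=
        { app := fun h => Over.homMk ((Nhd.cone s V).π.app h) (by
            show (S.basicOpen h.unop.1).fromSpecStalkOfMem s h.unop.2 ≫ S.homOfLE (S.basicOpen_le h.unop.1) =
              V.1.fromSpecStalkOfMem s hsV
            rw [← cancel_mono V.1.ι]
            simp)
          naturality := fun h h' a => Over.OverMorphism.ext ((Nhd.cone s V).π.naturality a) } }
  have hc : IsLimit c := isLimitOfReflects (Over.forget (V.1 : Scheme.{u})) (Nhd.isLimit s V hsV)
  let mS : Over.mk (S.fromSpecStalk s) ⟶ Over.mk (𝟙 S) := Over.homMk (S.fromSpecStalk s)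
  obtain ⟨i⟩ := hiso c.pt (Over.mk (S.fromSpecStalk s)) mS (Iso.refl _)
    ((Category.id_comp _).trans (Scheme.Opens.fromSpecStalkOfMem_ι V.1 s hsV).symm)
  obtain ⟨G, -, ⟨eG⟩⟩ := LimSys14.nonempty_iso_of_L V.1.ι
    (i ≪≫ (isoOfRepresentableBy (pullback q ((yon S).map mS)).obj.representableBy).symm)
  obtain ⟨j, hj⟩ := exists_isRepresentable_stage q' (sys s V) o ho c hc
    (fun j => V.2.basicOpen _) hX' hqc' hqs' eG
  let O : S.Opens := S.basicOpen j.unop.1
  let mO : Over.mk O.ι ⟶ Over.mk (𝟙 S) := Over.homMk O.ι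
  obtain ⟨i'⟩ := hiso ((sys s V).obj j) (Over.mk O.ι) mO (Iso.refl _)
    ((Category.id_comp _).trans (S.homOfLE_ι (S.basicOpen_le j.unop.1)).symm)
  let W : Over S := (Over.map V.1.ι).obj (sub q' ((sys s V).obj j)).obj.reprX
  let e : (yon S).obj W ≅ pullback q ((yon S).map mO) :=
    (θ V.1.ι _).symm ≪≫ (L V.1.ι).mapIso
      (isoOfRepresentableBy (sub q' ((sys s V).obj j)).obj.representableBy) ≪≫ i'
  refine ⟨O, W, e.hom ≫ pullback.fst _ _, (repWith_respectsIso_left e.hom).2
    (repWith_of_isPullback (IsPullback.of_hasPullback q ((yon S).map mO)).flip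
      ((repWith_yon_map_iff @IsOpenImmersion mO).2 (show IsOpenImmersion O.ι from inferInstance))),
    j.unop.2, fun x hx => ?_⟩
  obtain ⟨y, hy⟩ : (Points.schemeHomeo (Over.mk (𝟙 S))).symm (Points.map q x) ∈ Set.range O.ι := by
    rw [Scheme.Opens.range_ι]; exact hx
  obtain ⟨z, hz, -⟩ := exists_point_lift (IsPullback.of_hasPullback q ((yon S).map mO)) x
    (Points.ofScheme (Over.mk O.ι) y) (by
      rw [← Points.ofPt_eq_map_ofScheme,
        ofPt_map_eq mO y]
      refine Eq.trans ?_ (congrArg (fun p => Points.ofScheme (Over.mk (𝟙 S)) p) hy.symm)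
      exact ((Points.schemeHomeo (Over.mk (𝟙 S))).apply_symm_apply _).symm)
  exact ⟨Points.map e.inv z, by
    rw [Points.map_comp, ← Points.map_comp e.inv, e.inv_hom_id, Points.map_id, hz]⟩


/-- Let `X` be an algebraic space whose structure morphism to the scheme `S` is quasi-compact and
quasi-separated. If for every `x ∈ |X|` with image `s ∈ S` the base change `X ×_S Spec(O_{S,s})` is
a scheme, then `X` is a scheme. -/
theorem result (S : Scheme.{u}) (X : AlgSp.Space S)
    (q : X.obj ⟶ (AlgSp.yon S).obj (Over.mk (𝟙 S))) (hqc : AlgSp.IsQuasiCompactMor q) (hqs : AlgSp.IsQuasiSeparatedMor q)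
    (h : ∀ x : AlgSp.Points X.obj, ∀ (P : AlgSp.Sp S) (fst : P ⟶ X.obj)
      (snd : P ⟶ (AlgSp.yon S).obj (Over.mk (S.fromSpecStalk ((AlgSp.Points.schemeHomeo (Over.mk (𝟙 S))).symm (AlgSp.Points.map q x))))),
      IsPullback fst snd q ((AlgSp.yon S).map (Over.homMk (S.fromSpecStalk _))) → P.obj.IsRepresentable) :
    X.obj.obj.IsRepresentable := by
  have key := fun s : {s : S // ∃ x, (Points.schemeHomeo (Over.mk (𝟙 S))).symm (Points.map q x) = s} =>
    isAlgSpace_and_representable_nhd q X.property hqc hqs s.1 (by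
      obtain ⟨_, x, rfl⟩ := s
      exact h x _ _ _ (IsPullback.of_hasPullback _ _))
  choose O W w hw hO hcov using key
  obtain ⟨G, ⟨e⟩⟩ := exists_iso_yon_of_points_cover hw
    fun x => ⟨⟨_, x, rfl⟩, hcov _ x (hO _)⟩
  exact isRepresentable_of_iso_yon e

end Groth.Agent.S10051
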