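import Groth.Statements.S10052
import Groth.Agent.Lib.LimSys14.SchemeLimit
import Mathlib.Order.Zorn

set_option autoImplicit false
universe u
open CategoryTheory CategoryTheory.Limits AlgebraicGeometry
open AlgSp

namespace Groth.Agent.S10052

open CategoryTheory CategoryTheory.Limits AlgebraicGeometry Opposite AlgSp Groth.Agent.AlgSpace

set_option backward.isDefEq.respectTransparency.types false
noncomputable section

variable {A : CommRingCat.{u}}

/-- The closed subscheme of an ideal. -/
abbrev zer (I : Ideal A) : Over (Spec A) :=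
  Over.mk (Spec.map (CommRingCat.ofHom (Ideal.Quotient.mk I)))

/-- The inclusion of the closed subscheme of an ideal. -/
abbrev zerι (I : Ideal A) : zer I ⟶ Over.mk (𝟙 (Spec A)) :=
  Over.homMk (Spec.map (CommRingCat.ofHom (Ideal.Quotient.mk I)))

/-- The comparison of closed subschemes. -/
def zerMap {I I' : Ideal A} (h : I ≤ I') : zer I' ⟶ zer I :=
  Over.homMk (Spec.map (CommRingCat.ofHom (Ideal.Quotient.factor h))) (by
    simp only [Over.mk_hom, ← Spec.map_comp, ← CommRingCat.ofHom_comp, Ideal.Quotient.factor_comp_mk])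

instance (I : Ideal A) : Mono (zerι I) :=
  (Over.forget (Spec A)).mono_of_mono_map (inferInstanceAs (Mono (Spec.map (CommRingCat.ofHom (Ideal.Quotient.mk I)))))

theorem zer_hom_ext {I : Ideal A} {T : Over (Spec A)} (a b : T ⟶ zer I) : a = b :=
  (cancel_mono (zerι I)).1 (Over.mkIdTerminal.hom_ext _ _)

theorem isIso_zerι_bot : IsIso (zerι (⊥ : Ideal A)) := by
  have : IsIso (CommRingCat.ofHom (Ideal.Quotient.mk (⊥ : Ideal A))) := by
    rw [ConcreteCategory.isIso_iff_bijective]
    refine ⟨fun x y h => ?_, Ideal.Quotient.mk_surjective⟩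
    exact sub_eq_zero.1 ((Submodule.mem_bot A).1 (Ideal.Quotient.eq.1 h))
  have : IsIso ((Over.forget (Spec A)).map (zerι (⊥ : Ideal A))) :=
    inferInstanceAs (IsIso (Spec.map (CommRingCat.ofHom (Ideal.Quotient.mk (⊥ : Ideal A)))))
  exact isIso_of_reflects_iso (zerι (⊥ : Ideal A)) (Over.forget (Spec A))

theorem nonempty_lift_zer_iff {T : Over (Spec A)} (I : Ideal A) :
    Nonempty (T ⟶ zer I) ↔ I ≤ RingHom.ker ((Scheme.ΓSpecIso A).inv ≫ T.hom.appTop).hom := by
  constructor
  · rintro ⟨g⟩ a ha
    rw [RingHom.mem_ker, ← Over.w g, Scheme.Hom.comp_appTop]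
    simp only [CommRingCat.hom_comp, RingHom.coe_comp, Function.comp_apply, Over.mk_hom]
    rw [← ConcreteCategory.comp_apply (Scheme.ΓSpecIso A).inv, ← Scheme.ΓSpecIso_inv_naturality,
      ConcreteCategory.comp_apply]
    change g.left.appTop.hom ((Scheme.ΓSpecIso _).inv.hom (Ideal.Quotient.mk I a)) = 0
    rw [Ideal.Quotient.eq_zero_iff_mem.2 ha, map_zero, map_zero]
  · intro h
    refine ⟨Over.homMk (T.left.toSpecΓ ≫ Spec.map (CommRingCat.ofHom (Ideal.Quotient.lift I
      ((Scheme.ΓSpecIso A).inv ≫ T.hom.appTop).hom h))) ?_⟩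
    simp only [Over.mk_hom, Category.assoc, ← Spec.map_comp, ← CommRingCat.ofHom_comp]
    have e : (Ideal.Quotient.lift I ((Scheme.ΓSpecIso A).inv ≫ T.hom.appTop).hom h).comp
        (Ideal.Quotient.mk I) = ((Scheme.ΓSpecIso A).inv ≫ T.hom.appTop).hom :=
      RingHom.ext fun _ => rfl
    rw [e, CommRingCat.ofHom_hom, Spec.map_comp, ← Scheme.toSpecΓ_naturality_assoc,
      toSpecΓ_SpecMap_ΓSpecIso_inv, Category.comp_id]

section Chain

variable (s : Set (Ideal A))

/-- The system of closed subschemes of a set of ideals. -/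
def zerSys : (↥s)ᵒᵈ ⥤ Over (Spec A) where
  obj i := zer (OrderDual.ofDual i).1
  map f := zerMap (leOfHom f)
  map_id _ := zer_hom_ext _ _
  map_comp _ _ := zer_hom_ext _ _

/-- The cone of the supremum. -/
def zerCone : Cone (zerSys s) where
  pt := zer (sSup s)
  π :=
    { app := fun i => zerMap (le_sSup (OrderDual.ofDual i).2)
      naturality := fun _ _ _ => zer_hom_ext _ _ }

/-- The supremum of a set of ideals cuts out the intersection. -/
def zerIsLimit : IsLimit (zerCone s) where
  lift c := ((nonempty_lift_zer_iff (sSup s)).2 (sSup_le fun I hI =>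
    (nonempty_lift_zer_iff I).1 ⟨c.π.app (OrderDual.toDual ⟨I, hI⟩)⟩)).some
  fac _ _ := zer_hom_ext _ _
  uniq _ _ _ := zer_hom_ext _ _

end Chain

variable {X : Sp (Spec A)} (q : X ⟶ (yon (Spec A)).obj (Over.mk (𝟙 (Spec A))))

/-- The restriction of the space to a closed subscheme of the base. -/
abbrev sub (I : Ideal A) : Sp (Spec A) := pullback q ((yon (Spec A)).map (zerι I))

/-- All restrictions to the closed subscheme cut out by `I` fail to be schemes. -/
def Bad (I : Ideal A) : Prop :=
  ∀ (P : Sp (Spec A)) (fst : P ⟶ X) (snd : P ⟶ (yon (Spec A)).obj (zer I)),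
    IsPullback fst snd q ((yon (Spec A)).map (zerι I)) → ¬ P.obj.IsRepresentable

theorem isRepresentable_of_iso {P Q : Sp (Spec A)} (e : P ≅ Q) (h : P.obj.IsRepresentable) :
    Q.obj.IsRepresentable :=
  (P.obj.representableBy.ofIso ((ObjectProperty.ι _).mapIso e)).isRepresentable

theorem bad_iff (I : Ideal A) : Bad q I ↔ ¬ (sub q I).obj.IsRepresentable := by
  refine ⟨fun h => h _ _ _ (IsPullback.of_hasPullback _ _), fun h P fst snd sq hP => h ?_⟩
  exact isRepresentable_of_iso (sq.isoIsPullback _ _ (IsPullback.of_hasPullback _ _)) hP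

variable (s : Set (Ideal A))

/-- The comparison of restrictions. -/
def subMap {I I' : Ideal A} (g : zer I' ⟶ zer I) : sub q I' ⟶ sub q I :=
  pullback.lift (pullback.fst _ _) (pullback.snd _ _ ≫ (yon (Spec A)).map g) (by
    rw [pullback.condition, Category.assoc, ← (yon (Spec A)).map_comp,
      Over.mkIdTerminal.hom_ext (g ≫ zerι I) (zerι I')])

theorem subMap_fst {I I' : Ideal A} (g : zer I' ⟶ zer I) :
    subMap q g ≫ pullback.fst _ _ = pullback.fst _ _ := pullback.lift_fst _ _ _

theorem subMap_snd {I I' : Ideal A} (g : zer I' ⟶ zer I) :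
    subMap q g ≫ pullback.snd _ _ = pullback.snd _ _ ≫ (yon (Spec A)).map g := pullback.lift_snd _ _ _

theorem subMap_comp {I I' I'' : Ideal A} (g : zer I' ⟶ zer I) (g' : zer I'' ⟶ zer I') (g'' : zer I'' ⟶ zer I) :
    subMap q g' ≫ subMap q g = subMap q g'' := by
  apply pullback.hom_ext
  · rw [Category.assoc, subMap_fst, subMap_fst, subMap_fst]
  · rw [Category.assoc, subMap_snd, subMap_snd, reassoc_of% (subMap_snd q g'), ← (yon (Spec A)).map_comp,
      zer_hom_ext (g' ≫ g) g'']

theorem subMap_isPullback {I I' : Ideal A} (g : zer I' ⟶ zer I) :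
    IsPullback (subMap q g) (pullback.snd _ _) (pullback.snd _ _) ((yon (Spec A)).map g) := by
  refine IsPullback.of_right (h₁₂ := pullback.fst q _) (v₁₃ := q)
    (h₂₂ := (yon (Spec A)).map (zerι I)) ?_ (subMap_snd q g) (IsPullback.of_hasPullback _ _)
  rw [subMap_fst, ← (yon (Spec A)).map_comp, Over.mkIdTerminal.hom_ext (g ≫ zerι I) (zerι I')]
  exact IsPullback.of_hasPullback q _

/-- The system of restrictions. -/
def subSys : (↥s)ᵒᵈ ⥤ Sp (Spec A) where
  obj i := sub q (OrderDual.ofDual i).1
  map f := subMap q ((zerSys s).map f)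
  map_id i := by
    apply pullback.hom_ext
    · rw [subMap_fst, Category.id_comp]
    · rw [subMap_snd, zer_hom_ext ((zerSys s).map (𝟙 i)) (𝟙 (zer (OrderDual.ofDual i).1)), CategoryTheory.Functor.map_id,
        Category.id_comp, Category.comp_id]
  map_comp f g := (subMap_comp q _ _ _).symm

theorem subSys_snd {i j : (↥s)ᵒᵈ} (f : i ⟶ j) :
    IsPullback ((subSys q s).map f) (pullback.snd _ _) (pullback.snd _ _)
      ((yon (Spec A)).map ((zerSys s).map f)) :=
  subMap_isPullback q _

theorem not_representable_sSup (hX : IsAlgSpace X) (hqc : IsQuasiCompactMor q)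
    (hqs : IsQuasiSeparatedMor q) (hs : IsChain (· ≤ ·) s) (hb : ⊥ ∈ s)
    (h : ∀ I ∈ s, ¬ (sub q I).obj.IsRepresentable) : ¬ (sub q (sSup s)).obj.IsRepresentable := by
  intro hrep
  have : Nonempty (↥s)ᵒᵈ := ⟨OrderDual.toDual ⟨⊥, hb⟩⟩
  have : IsDirectedOrder ↥s := ⟨hs.directed⟩
  have : IsCofiltered (↥s)ᵒᵈ := inferInstance
  let o : (↥s)ᵒᵈ := OrderDual.toDual ⟨⊥, hb⟩
  let W := (yon (Spec A)).obj (Over.mk (𝟙 (Spec A)))
  let α : subSys q s ⟶ zerSys s ⋙ yon (Spec A) :=
    { app := fun i => pullback.snd _ _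
      naturality := fun i j f => (subSys_snd q s f).w }
  let β : subSys q s ⟶ (Functor.const _).obj X :=
    { app := fun i => pullback.fst _ _
      naturality := fun i j f => (subMap_fst q _).trans (Category.comp_id _).symm }
  let γ : zerSys s ⋙ yon (Spec A) ⟶ (Functor.const _).obj W :=
    { app := fun i => (yon (Spec A)).map (zerι _)
      naturality := fun i j f => by
        simp only [Functor.comp_map, Functor.const_obj_map, W, Category.comp_id, ← Functor.map_comp]
        congr 1
        exact Over.mkIdTerminal.hom_ext _ _ }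
  let c : Cone (subSys q s) :=
    { pt := sub q (sSup s)
      π :=
        { app := fun i => subMap q ((zerCone s).π.app i)
          naturality := fun i j f => (Category.id_comp _).trans (subMap_comp q _ _ _).symm } }
  have hc : IsLimit c :=
    LimSys14.isLimitOfIsPullback o α β γ (fun j => (IsPullback.of_hasPullback q _).flip)
      (isLimitOfPreserves (yon (Spec A)) (zerIsLimit s)) (pullback.snd _ _)
      (fun j => (subMap_snd q _).symm)
      (fun j => ⟨homOfLE (show (⊥ : Ideal A) ≤ (OrderDual.ofDual j).1 from bot_le)⟩) (by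
        have e₁ : c.π.app o ≫ β.app o = pullback.fst _ _ := subMap_fst q _
        have e₂ : ((yon (Spec A)).mapCone (zerCone s)).π.app o ≫ γ.app o =
            (yon (Spec A)).map (zerι (sSup s)) := by
          simp only [γ, Functor.mapCone_π_app, ← Functor.map_comp]
          congr 1
          exact Over.mkIdTerminal.hom_ext _ _
        rw [e₁, e₂]
        exact (IsPullback.of_hasPullback _ _).flip)
  have hz : ∀ I : Ideal A, IsAffine (zer I).left := fun I =>
    inferInstanceAs (IsAffine (Spec (CommRingCat.of (A ⧸ I))))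
  have : QuasiSeparatedSpace ↥(Spec A) := inferInstance
  have hD : ∀ i, IsAlgSpace ((subSys q s).obj i) := fun i =>
    isAlgSpace_baseChange hX (IsAlgSpace.yon_obj _) (IsAlgSpace.yon_obj _) (IsPullback.of_hasPullback _ _)
  have hDa : ∀ (i j : (↥s)ᵒᵈ) (f : i ⟶ j), IsAffineMor ((subSys q s).map f) := fun i j f =>
    LimSys14.isAffineMor_of_closedImmersion (repWith_of_isPullback (subSys_snd q s f).flip
      ((repWith_yon_map_iff @IsClosedImmersion ((zerSys s).map f)).2 <|
        IsClosedImmersion.spec_of_surjective _ (Ideal.Quotient.factor_surjective (leOfHom f))))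
  have hDc : ∀ i, IsQuasiCompactSp ((subSys q s).obj i) := fun i => by
    have := hz (OrderDual.ofDual i).1
    exact isQuasiCompactSp_of_mor (hD i) (IsAlgSpace.yon_obj _)
      (isQuasiCompactMor_of_isPullback (IsPullback.of_hasPullback _ _) hqc)
      ((isQuasiCompactSp_iff (IsAlgSpace.yon_obj _)).2 (compactSpace_yon_of_affine (zer (OrderDual.ofDual i).1)))
  have hDs : ∀ i, IsQuasiSeparatedSp ((subSys q s).obj i) := fun i => by
    have := hz (OrderDual.ofDual i).1
    exact isQuasiSeparatedSp_of_mor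
      (isQuasiSeparatedMor_of_isPullback (IsPullback.of_hasPullback q _) hqs)
      (LimSys14.isQuasiSeparatedSp_yon (zer (OrderDual.ofDual i).1))
  obtain ⟨i, hi⟩ := LimSys14.exists_isRepresentable c hD hDa hDc hDs hc
    (AlgSp.isoOfRepresentableBy (sub q (sSup s)).obj.representableBy)
  exact h _ (OrderDual.ofDual i).2 hi

end

/-- Let `X` be an algebraic space over `Spec A` with quasi-compact and quasi-separated structure
morphism. If `X` is not a scheme, there is an ideal `I ⊂ A` such that `X_{A/I}` is not a scheme but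
`X_{A/I'}` is a scheme for every ideal `I'` strictly containing `I`. -/
theorem result (A : CommRingCat.{u}) (X : AlgSp.Space (Spec A))
    (q : X.obj ⟶ (AlgSp.yon (Spec A)).obj (Over.mk (𝟙 (Spec A))))
    (hqc : AlgSp.IsQuasiCompactMor q) (hqs : AlgSp.IsQuasiSeparatedMor q) (hX : ¬ X.obj.obj.IsRepresentable) :
    ∃ I : Ideal A,
      (∀ (P : AlgSp.Sp (Spec A)) (fst : P ⟶ X.obj)
        (snd : P ⟶ (AlgSp.yon (Spec A)).obj (Over.mk (Spec.map (CommRingCat.ofHom (Ideal.Quotient.mk I))))),
        IsPullback fst snd q ((AlgSp.yon (Spec A)).map (Over.homMk (Spec.map (CommRingCat.ofHom (Ideal.Quotient.mk I))))) →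
          ¬ P.obj.IsRepresentable) ∧
      ∀ I' : Ideal A, I < I' →
        ∀ (P : AlgSp.Sp (Spec A)) (fst : P ⟶ X.obj)
          (snd : P ⟶ (AlgSp.yon (Spec A)).obj (Over.mk (Spec.map (CommRingCat.ofHom (Ideal.Quotient.mk I'))))),
          IsPullback fst snd q ((AlgSp.yon (Spec A)).map (Over.homMk (Spec.map (CommRingCat.ofHom (Ideal.Quotient.mk I'))))) →
            P.obj.IsRepresentable := by
  have hbot : ¬ (sub q (⊥ : Ideal A)).obj.IsRepresentable := fun h => hX (by
    have := isIso_zerι_bot (A := A)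
    have : IsIso (pullback.fst q ((yon (Spec A)).map (zerι (⊥ : Ideal A)))) := inferInstance
    exact isRepresentable_of_iso (asIso (pullback.fst q ((yon (Spec A)).map (zerι (⊥ : Ideal A))))) h)
  obtain ⟨I, -, hI⟩ := zorn_le_nonempty₀ {I | ¬ (sub q I).obj.IsRepresentable}
    (fun C hC hchain J hJ => by
      refine ⟨sSup C, ?_, fun K hK => le_sSup hK⟩
      have hins : sSup (insert ⊥ C) = sSup C := by rw [sSup_insert, bot_sup_eq]
      rw [Set.mem_setOf_eq, ← hins]
      exact not_representable_sSup q _ X.property hqc hqs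
        (hchain.insert fun b _ _ => Or.inl bot_le) (Set.mem_insert _ _)
        (fun K hK => hK.elim (fun e => e ▸ hbot) fun h => hC h))
    ⊥ hbot
  refine ⟨I, (bad_iff q I).2 hI.1, fun I' hII P fst snd sq => ?_⟩
  by_contra hP
  have : ¬ (sub q I').obj.IsRepresentable := fun h =>
    hP (isRepresentable_of_iso (sq.isoIsPullback _ _ (IsPullback.of_hasPullback _ _)).symm h)
  exact not_lt_of_ge (hI.2 this hII.le) hII

end Groth.Agent.S10052
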