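import Groth.Statements.S10053
import Groth.Agent.Lib.AlgSpace.UnivClosedAffineSpace
import Groth.Agent.Lib.AlgSpace.LocP

set_option autoImplicit false
universe u
open CategoryTheory CategoryTheory.Limits AlgebraicGeometry
open AlgSp

set_option backward.isDefEq.respectTransparency.types false

namespace Groth.Agent.S10053

/-- For a quasi-compact morphism `f : X ⟶ Y` of algebraic spaces over `S` these conditions are
equivalent: (1) `f` is universally closed; (2) for every `Z ⟶ Y` locally of finite presentation,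
with `Z` an algebraic space, the map `|X ×_Y Z| → |Z|` is closed; (3) for some scheme `V` with a
surjective etale morphism `V ⟶ Y`, the maps `|X ×_Y 𝐀^n_V| → |𝐀^n_V|` are closed for all `n`. Stated
as (1) ↔ (2) and (1) ↔ (3). -/
theorem result (S : Scheme.{u}) {X Y : AlgSp.Space S} (f : X ⟶ Y)
    (hqc : AlgSp.IsQuasiCompactMor f.hom) :
    (AlgSp.IsUnivClosedMor f.hom ↔
      ∀ (Z : AlgSp.Space S) (g : Z ⟶ Y), AlgSp.LocP @LocallyOfFinitePresentation g.hom →
        ∀ (P : AlgSp.Sp S) (fst : P ⟶ X.obj) (snd : P ⟶ Z.obj), IsPullback fst snd f.hom g.hom →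
          IsClosedMap (AlgSp.Points.map snd)) ∧
    (AlgSp.IsUnivClosedMor f.hom ↔
      ∃ (V : Over S) (p : (AlgSp.yon S).obj V ⟶ Y.obj), AlgSp.RepWith @Etale p ∧ AlgSp.RepWith @Surjective p ∧
        ∀ (n : ℕ) (P : AlgSp.Sp S) (fst : P ⟶ X.obj)
          (snd : P ⟶ (AlgSp.yon S).obj (Over.mk ((𝔸(ULift.{u} (Fin n); V.left) ↘ V.left) ≫ V.hom))),
          IsPullback fst snd f.hom ((AlgSp.yon S).map (Over.homMk (𝔸(ULift.{u} (Fin n); V.left) ↘ V.left)) ≫ p) →
            IsClosedMap (AlgSp.Points.map snd)) := by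
  have h12 : AlgSp.IsUnivClosedMor f.hom → ∀ (Z : AlgSp.Space S) (g : Z ⟶ Y),
      AlgSp.LocP @LocallyOfFinitePresentation g.hom →
      ∀ (P : AlgSp.Sp S) (fst : P ⟶ X.obj) (snd : P ⟶ Z.obj), IsPullback fst snd f.hom g.hom →
        IsClosedMap (AlgSp.Points.map snd) :=
    fun h Z g _ P fst snd sq => h Z.property g.hom fst snd sq
  have h23 : (∀ (Z : AlgSp.Space S) (g : Z ⟶ Y),
      AlgSp.LocP @LocallyOfFinitePresentation g.hom →
      ∀ (P : AlgSp.Sp S) (fst : P ⟶ X.obj) (snd : P ⟶ Z.obj), IsPullback fst snd f.hom g.hom →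
        IsClosedMap (AlgSp.Points.map snd)) →
      ∃ (V : Over S) (p : (AlgSp.yon S).obj V ⟶ Y.obj), AlgSp.RepWith @Etale p ∧
        AlgSp.RepWith @Surjective p ∧
        ∀ (n : ℕ) (P : AlgSp.Sp S) (fst : P ⟶ X.obj)
          (snd : P ⟶ (AlgSp.yon S).obj (Over.mk ((𝔸(ULift.{u} (Fin n); V.left) ↘ V.left) ≫ V.hom))),
          IsPullback fst snd f.hom
            ((AlgSp.yon S).map (Over.homMk (𝔸(ULift.{u} (Fin n); V.left) ↘ V.left)) ≫ p) →
            IsClosedMap (AlgSp.Points.map snd) := by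
    intro h
    obtain ⟨V, p, hpe, hps⟩ := Y.property.atlas
    refine ⟨V, p, hpe, hps, fun n P fst snd sq => ?_⟩
    let Z : AlgSp.Space S :=
      ⟨(AlgSp.yon S).obj (Over.mk ((𝔸(ULift.{u} (Fin n); V.left) ↘ V.left) ≫ V.hom)),
        AlgSp.IsAlgSpace.yon_obj _⟩
    let q : Over.mk ((𝔸(ULift.{u} (Fin n); V.left) ↘ V.left) ≫ V.hom) ⟶ V :=
      Over.homMk (𝔸(ULift.{u} (Fin n); V.left) ↘ V.left)
    let g : Z ⟶ Y := ObjectProperty.homMk ((AlgSp.yon S).map q ≫ p)
    refine h Z g ?_ P fst snd sq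
    refine Groth.Agent.AlgSpace.locP_of_repWith Y.property (Groth.Agent.AlgSpace.repWith_comp
      ((AlgSp.repWith_yon_map_iff @LocallyOfFinitePresentation _).2 (by
        change LocallyOfFinitePresentation (𝔸(ULift.{u} (Fin n); V.left) ↘ V.left)
        infer_instance)) ?_)
    exact Groth.Agent.AlgSpace.repWith_mono
      (fun _ _ g (hg : Etale g) => (inferInstance : LocallyOfFinitePresentation g)) hpe
  have h31 : (∃ (V : Over S) (p : (AlgSp.yon S).obj V ⟶ Y.obj), AlgSp.RepWith @Etale p ∧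
        AlgSp.RepWith @Surjective p ∧
        ∀ (n : ℕ) (P : AlgSp.Sp S) (fst : P ⟶ X.obj)
          (snd : P ⟶ (AlgSp.yon S).obj (Over.mk ((𝔸(ULift.{u} (Fin n); V.left) ↘ V.left) ≫ V.hom))),
          IsPullback fst snd f.hom
            ((AlgSp.yon S).map (Over.homMk (𝔸(ULift.{u} (Fin n); V.left) ↘ V.left)) ≫ p) →
            IsClosedMap (AlgSp.Points.map snd)) → AlgSp.IsUnivClosedMor f.hom :=
    fun ⟨V, p, hpe, hps, h⟩ =>
      Groth.Agent.AlgSpace.isUnivClosedMor_of_affineSpace X.property Y.property hqc hpe hps h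
  exact ⟨⟨h12, h31 ∘ h23⟩, ⟨h23 ∘ h12, h31⟩⟩

end Groth.Agent.S10053
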