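import Groth.Statements.S10054
import Groth.Agent.Lib.AlgSpace.DVRDiagram

set_option autoImplicit false
universe u
open CategoryTheory CategoryTheory.Limits AlgebraicGeometry
open AlgSp

set_option backward.isDefEq.respectTransparency.types false

namespace Groth.Agent.S10054

/-- Let `f : X ⟶ Y` be a morphism of finite type of algebraic spaces over `S` with `Y` locally
Noetherian, and `y ∈ |Y|` a point lying in the closure of `f`'s image on points. Then one can find a
discrete valuation ring `A` with fraction field `K` and a commutative square `Spec K ⟶ X`, `Spec A ⟶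
Y` (over `f` and `Spec K ⟶ Spec A`) sending the closed point of `Spec A` to `y`. (The refinement
that the `K`-point may be taken at a codimension-0 point with `K` a residue field of an etale chart
is not included.) -/
theorem result (S : Scheme.{u}) {X Y : AlgSp.Space S} (f : X ⟶ Y)
    (hft : AlgSp.IsFiniteTypeMor f.hom) (hY : AlgSp.IsLocNoethSp Y.obj) (y : AlgSp.Points Y.obj)
    (hy : y ∈ closure (Set.range (AlgSp.Points.map f.hom))) :
    ∃ (A : Type u) (_ : CommRing A) (_ : IsDomain A) (_ : IsDiscreteValuationRing A)
      (a : Spec (CommRingCat.of A) ⟶ S)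
      (α : (AlgSp.yon S).obj (Over.mk a) ⟶ Y.obj)
      (κ : (AlgSp.yon S).obj (Over.mk (Spec.map (CommRingCat.ofHom (algebraMap A (FractionRing A))) ≫ a)) ⟶ X.obj),
      κ ≫ f.hom = (AlgSp.yon S).map (Over.homMk (Spec.map (CommRingCat.ofHom (algebraMap A (FractionRing A))))) ≫ α ∧
      AlgSp.Points.map α (AlgSp.Points.schemeEquiv (Over.mk a) (IsLocalRing.closedPoint A)) = y := by
  exact Groth.Agent.AlgSpace.dvrDiagram_of_mem_closure X.property Y.property hft hY y hy

end Groth.Agent.S10054
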