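import Groth.Statements.S10058
import Groth.Agent.Lib.LimSys14.Points

set_option autoImplicit false
universe u
open CategoryTheory CategoryTheory.Limits AlgebraicGeometry
open AlgSp

namespace Groth.Agent.S10058

/-- Let `X` be the limit, in fppf sheaves over `S`, of a cofiltered system `(X_i)` of decent algebraic
spaces over `S` with affine transition morphisms. Then `|X| = lim |X_i|` as topological spaces: the
topology of `|X|` is the one induced by the projections `|X| → |X_i|`. -/
theorem result (S : Scheme.{u}) {I : Type u} [SmallCategory I] [IsCofiltered I]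
    (D : I ⥤ AlgSp.Sp S) (hD : ∀ i, AlgSp.IsAlgSpace (D.obj i))
    (hDa : ∀ (i j : I) (φ : i ⟶ j), AlgSp.IsAffineMor (D.map φ))
    (c : Cone D) (hc : IsLimit c)
    (hdec : ∀ i, AlgSp.IsDecent (D.obj i)) :
    AlgSp.Points.topologicalSpace c.pt =
      ⨅ i, TopologicalSpace.induced (AlgSp.Points.map (c.π.app i)) (AlgSp.Points.topologicalSpace (D.obj i)) := by
  exact Groth.Agent.LimSys14.points_topology hDa c hc hD

end Groth.Agent.S10058
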