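import Groth.Statements.S1006
import Groth.Agent.Lib.DPerf.Noeth
-- import your own Groth.Agent.* helpers here

set_option autoImplicit false
universe u
open CategoryTheory CategoryTheory.Limits AlgebraicGeometry
attribute [local instance] HasDerivedCategory.standard
open Perf

namespace Groth.Agent.S1006

/-- On a Noetherian scheme X every perfect object of D(O_X) has coherent cohomology sheaves and is
bounded. -/
theorem result (X : Scheme.{u}) [IsNoetherian X] (E : DCoh.D X) (hE : DCoh.IsPerfect E) :
    DCoh.IsCohD E ∧ ∃ a b : ℤ, E.IsGE a ∧ E.IsLE b := by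
  have hpc : ∀ m, DCoh.IsPseudoCoherentD m E := fun m => DPerf.isPseudoCoherentD_of_approx
    ((DPerf.isPerfect_iff_approx.1 hE).mono_set (Set.subset_univ _))
  obtain ⟨b, hb⟩ := DPerf.exists_isLE_of_pseudoCoherent (hpc 0)
  obtain ⟨a, ha⟩ := DPerf.exists_isGE_of_perfect hE
  exact ⟨fun i => DPerf.isCoh_HD_of_pseudoCoherent (hpc i) (DPerf.isQCoh_HD (hpc (i - 1)) (by omega))
    le_rfl, a, b, ha, hb⟩

end Groth.Agent.S1006
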