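import Groth.Statements.S10064
import Groth.Agent.Lib.AlgSpace.DVRSeparated

set_option autoImplicit false
universe u
open CategoryTheory CategoryTheory.Limits AlgebraicGeometry
open AlgSp

set_option backward.isDefEq.respectTransparency.types false

namespace Groth.Agent.S10064

/-- Let `f : X ⟶ Y` be quasi-separated and locally of finite type with `Y` locally Noetherian. Then `f`
is separated if and only if every valuative test square for `f` whose valuation ring is a discrete
valuation ring admits at most one dotted arrow. (The published statement also lists the uniqueness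
part of the valuative criterion, over arbitrary valuation rings, as an equivalent condition, and a
refinement to squares hitting a codimension-0 point; neither is included in this row.) -/
theorem result (S : Scheme.{u}) {X Y : AlgSp.Space S} (f : X ⟶ Y)
    (hqs : AlgSp.IsQuasiSeparatedMor f.hom) (hft : AlgSp.LocP @LocallyOfFiniteType f.hom) (hY : AlgSp.IsLocNoethSp Y.obj) :
    AlgSp.IsSeparatedMor f.hom ↔ ∀ sq : AlgSp.ValSq f.hom, IsDiscreteValuationRing sq.A → sq.HasUniq := by
  refine ⟨fun h sq _ => Groth.Agent.AlgSpace.uniqVC_of_isSeparatedMor h sq, fun H => ?_⟩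
  refine Groth.Agent.AlgSpace.isSeparatedMor_of_dvrUniq X.property X.property Y.property hY hft hqs
    (h := 𝟙 _) ⟨Groth.Agent.AlgSpace.locP_id X.property,
      (Groth.Agent.AlgSpace.repWith_quasiCompact_iff X.property X.property
        (Groth.Agent.AlgSpace.repWith_of_isIso @QuasiCompact (𝟙 X.obj)).1).1
        (Groth.Agent.AlgSpace.repWith_of_isIso @QuasiCompact (𝟙 X.obj))⟩
    (fun x => subset_closure ⟨x, by simp [AlgSp.Points.map_id]⟩) fun sq hA l l' hl hl' => ?_
  refine H (show AlgSp.ValSq f.hom from
      { A := sq.A, K := sq.K, str := sq.str
        top := sq.top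
        bot := sq.bot
        comm := by simpa using sq.comm }) hA l l' ?_ hl.2 ?_ hl'.2
  · simpa using hl.1
  · simpa using hl'.1

end Groth.Agent.S10064
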