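import Groth.Statements.S10065
import Groth.Agent.Lib.AlgSpace.DVRSeparated
import Groth.Agent.Lib.AlgSpace.ValLift

set_option autoImplicit false
universe u
open CategoryTheory CategoryTheory.Limits AlgebraicGeometry
open AlgSp

set_option backward.isDefEq.respectTransparency.types false

namespace Groth.Agent.S10065

/-- Let `f : X ⟶ Y` be quasi-separated and of finite type with `Y` locally Noetherian. Then `f` is
proper if and only if every valuative test square for `f` whose valuation ring is a discrete
valuation ring admits exactly one dotted arrow (a lift `Spec A ⟶ X`, with no extension of `A`). (The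
published statement also lists as equivalent conditions the valuative criterion and the same
unique-lift condition over arbitrary valuation rings, and a refinement to squares hitting a
codimension-0 point; this row states only the discrete valuation ring form.) -/
theorem result (S : Scheme.{u}) {X Y : AlgSp.Space S} (f : X ⟶ Y)
    (hqs : AlgSp.IsQuasiSeparatedMor f.hom) (hft : AlgSp.IsFiniteTypeMor f.hom) (hY : AlgSp.IsLocNoethSp Y.obj) :
    AlgSp.IsProperMor f.hom ↔ ∀ sq : AlgSp.ValSq f.hom, IsDiscreteValuationRing sq.A → sq.HasLift ∧ sq.HasUniq := by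
  refine ⟨fun h sq _ => ⟨?_, Groth.Agent.AlgSpace.uniqVC_of_isSeparatedMor h.1 sq⟩, fun H => ?_⟩
  · obtain ⟨e, he⟩ := Groth.Agent.AlgSpace.existVC_of_isUnivClosedMor X.property Y.property hqs h.2.2 sq
    exact Groth.Agent.AlgSpace.hasLift_of_domExt X.property Y.property
      h.1 sq e he
  have hid : AlgSp.IsFiniteTypeMor (𝟙 X.obj) := ⟨Groth.Agent.AlgSpace.locP_id X.property,
      (Groth.Agent.AlgSpace.repWith_quasiCompact_iff X.property X.property
        (Groth.Agent.AlgSpace.repWith_of_isIso @QuasiCompact (𝟙 X.obj)).1).1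
        (Groth.Agent.AlgSpace.repWith_of_isIso @QuasiCompact (𝟙 X.obj))⟩
  have hd : DenseRange (AlgSp.Points.map (𝟙 X.obj)) :=
    fun x => subset_closure ⟨x, by simp [AlgSp.Points.map_id]⟩
  have key : ∀ sq : AlgSp.ValSq (𝟙 X.obj ≫ f.hom), IsDiscreteValuationRing sq.A →
      ∃! l : (AlgSp.yon S).obj sq.ptA ⟶ X.obj,
        (AlgSp.yon S).map sq.j ≫ l = sq.top ≫ 𝟙 X.obj ∧ l ≫ f.hom = sq.bot := by
    intro sq hA
    obtain ⟨⟨l, h₁, h₂⟩, hu⟩ := H (show AlgSp.ValSq f.hom from
      { A := sq.A, K := sq.K, str := sq.str
        top := sq.top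
        bot := sq.bot
        comm := by simpa using sq.comm }) hA
    exact ⟨l, ⟨by simpa using h₁, h₂⟩, fun m hm => hu m l (by simpa using hm.1) hm.2 h₁ h₂⟩
  exact Groth.Agent.AlgSpace.isProperMor_of_dvrLifts X.property X.property Y.property hY
    (Groth.Agent.AlgSpace.isSeparatedMor_of_dvrUniq X.property X.property Y.property hY hft.1 hqs hid
      hd fun sq hA l l' hl hl' => (key sq hA).unique hl hl')
    hft hid hd fun sq hA => (key sq hA).exists

end Groth.Agent.S10065
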