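import Groth.Statements.S10067
import Groth.Agent.Lib.LimPres14.Rel

set_option autoImplicit false
universe u
open CategoryTheory CategoryTheory.Limits AlgebraicGeometry
open AlgSp Opposite

set_option backward.isDefEq.respectTransparency.types false

namespace Groth.Agent.S10067

/-- A transformation `a : F ⟶ G` of presheaves of sets on schemes over `S` is relatively limit
preserving if and only if, for every directed limit `T = lim T_i` of affine schemes over `S` (with
`T` affine), the square formed by `colim F(T_i) → F(T)`, `colim G(T_i) → G(T)` and the two maps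
induced by `a` is cartesian in sets. -/
theorem result (S : Scheme.{u}) {F G : AlgSp.PSp S} (a : F ⟶ G) :
    AlgSp.IsRelLimitPreserving a ↔
      ∀ ⦃I : Type u⦄ [SmallCategory I] [IsCofiltered I] (D : I ⥤ Over S) (c : Cone D),
        IsLimit ((Over.forget S).mapCone c) → (∀ i, IsAffine (D.obj i).left) → IsAffine c.pt.left →
          IsPullback (colimMap (Functor.whiskerLeft D.op a)) (colimit.desc (D.op ⋙ F) (F.mapCocone c.op))
            (colimit.desc (D.op ⋙ G) (G.mapCocone c.op)) (a.app (Opposite.op c.pt)) := by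
  have nat : ∀ {I : Type u} [SmallCategory I] (D : I ⥤ Over S) (j : Iᵒᵖ) (x : F.obj (op (D.obj j.unop))),
      colimMap (Functor.whiskerLeft D.op a) (colimit.ι (D.op ⋙ F) j x) = colimit.ι (D.op ⋙ G) j (a.app _ x) :=
    fun D j x => congrArg (fun t => t x) (ι_colimMap (Functor.whiskerLeft D.op a) j)
  have dsc : ∀ {I : Type u} [SmallCategory I] (K : AlgSp.PSp S) (D : I ⥤ Over S) (c : Cone D) (j : Iᵒᵖ)
      (x : K.obj (op (D.obj j.unop))),
      colimit.desc (D.op ⋙ K) (K.mapCocone c.op) (colimit.ι (D.op ⋙ K) j x) = K.map (c.π.app j.unop).op x :=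
    fun K D c j x => congrArg (fun t => t x) (colimit.ι_desc (K.mapCocone c.op) j)
  constructor
  · intro ha I _ _ D c hc hD hT
    obtain ⟨hs, hi⟩ := LimPres14.crit_of_isRelLimitPreserving ha D c hc hD hT
    rw [Types.isPullback_iff]
    refine ⟨?_, ?_, ?_⟩
    · apply colimit.hom_ext
      intro j
      ext x
      change colimit.desc (D.op ⋙ G) (G.mapCocone c.op) (colimMap (Functor.whiskerLeft D.op a) (colimit.ι (D.op ⋙ F) j x)) =
        a.app _ (colimit.desc (D.op ⋙ F) (F.mapCocone c.op) (colimit.ι (D.op ⋙ F) j x))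
      rw [nat, dsc, dsc, LimPres14.res_eq]
      rfl
    · rintro X Y ⟨h1, h2⟩
      obtain ⟨j, x, rfl⟩ := Types.jointly_surjective' (F := D.op ⋙ F) X
      obtain ⟨j', x', rfl⟩ := Types.jointly_surjective' (F := D.op ⋙ F) Y
      rw [nat, nat] at h1
      rw [dsc, dsc] at h2
      obtain ⟨k, f, g, hfg⟩ := (Types.FilteredColimit.colimit_eq_iff _).1 h1
      obtain ⟨l, e, he⟩ := hi k.unop (F.map (D.map f.unop).op x) (F.map (D.map g.unop).op x')
        (by rw [LimPres14.res_eq, LimPres14.res_eq]; exact hfg)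
        (by rw [LimPres14.map_map _ _ (c.π.app j.unop) (c.w f.unop),
          LimPres14.map_map _ _ (c.π.app j'.unop) (c.w g.unop)]; exact h2)
      rw [Types.FilteredColimit.colimit_eq_iff]
      refine ⟨op l, f ≫ e.op, g ≫ e.op, ?_⟩
      simp only [Functor.map_comp_apply]
      exact he
    · intro Y x h
      obtain ⟨j, y, rfl⟩ := Types.jointly_surjective' (F := D.op ⋙ G) Y
      rw [dsc] at h
      obtain ⟨k, g, xk, h1, h2⟩ := hs j.unop y x h.symm
      refine ⟨colimit.ι (D.op ⋙ F) (op k) xk, ?_, ?_⟩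
      · rw [nat]
        exact (congrArg (fun t => colimit.ι (D.op ⋙ G) (op k) t) h1).trans
          (congrArg (fun t => t y) (colimit.w (D.op ⋙ G) g.op))
      · rw [dsc]; exact h2
  · intro hp
    refine LimPres14.isRelLimitPreserving_of_crit fun {I} _ _ D c hc hD hT => ?_
    obtain ⟨-, hu, he⟩ := (Types.isPullback_iff _ _ _ _).1 (hp D c hc hD hT)
    refine ⟨fun i y x h => ?_, fun i x x' h1 h2 => ?_⟩
    · obtain ⟨X, h1, h2⟩ := he (colimit.ι (D.op ⋙ G) (op i) y) x (by rw [dsc]; exact h.symm)
      obtain ⟨j, xj, rfl⟩ := Types.jointly_surjective' (F := D.op ⋙ F) X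
      rw [nat] at h1
      rw [dsc] at h2
      obtain ⟨k, f, g, hfg⟩ := (Types.FilteredColimit.colimit_eq_iff _).1 h1
      refine ⟨k.unop, g.unop, F.map (D.map f.unop).op xj, ?_, ?_⟩
      · rw [LimPres14.res_eq]; exact hfg
      · rw [LimPres14.map_map _ _ (c.π.app j.unop) (c.w f.unop)]; exact h2
    · have := hu (colimit.ι (D.op ⋙ F) (op i) x) (colimit.ι (D.op ⋙ F) (op i) x')
        ⟨(nat D (op i) x).trans ((congrArg (fun t => colimit.ι (D.op ⋙ G) (op i) t) h1).trans (nat D (op i) x').symm),
          (dsc F D c (op i) x).trans (h2.trans (dsc F D c (op i) x').symm)⟩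
      obtain ⟨k, f, g, hfg⟩ := (Types.FilteredColimit.colimit_eq_iff _).1 this
      let e := IsCofiltered.eqHom f.unop g.unop
      have hc' : f ≫ e.op = g ≫ e.op :=
        Quiver.Hom.unop_inj (IsCofiltered.eq_condition f.unop g.unop)
      refine ⟨_, e ≫ f.unop, ?_⟩
      have h3 := congrArg (fun t => (D.op ⋙ F).map e.op t) hfg
      simp only [← Functor.map_comp_apply, ← hc'] at h3
      exact h3

end Groth.Agent.S10067
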