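import Groth.Statements.S10072
import Groth.Agent.Lib.SepNbhd14.Alg
import Groth.Agent.Lib.AlgSpace.QCQS

set_option autoImplicit false
universe u
open CategoryTheory CategoryTheory.Limits AlgebraicGeometry
open AlgSp

namespace Groth.Agent.S10072

open CategoryTheory.Limits Opposite Groth.Agent.AlgSpace Groth.Agent.AlgSpDecent

set_option backward.isDefEq.respectTransparency false
set_option backward.isDefEq.respectTransparency.types false
set_option linter.style.haveILetI false
set_option maxHeartbeats 1600000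

variable {S : Scheme.{u}}

/-- An affine scheme over the base is the spectrum of its ring of functions. -/
theorem exists_spec (T : Over S) [IsAffine T.left] :
    ∃ (R : CommRingCat.{u}) (hom : Spec R ⟶ S), Nonempty (T ≅ Over.mk hom) :=
  ⟨Γ(T.left, ⊤), T.left.isoSpec.inv ≫ T.hom, ⟨Over.isoMk T.left.isoSpec (by simp)⟩⟩

theorem ofPt_iso_inv {T T' : Over S} (e : T ≅ T') {F : Sp S} (p : (yon S).obj T ⟶ F) (t : ↥T.left) :
    Points.ofPt ((yon S).map e.inv ≫ p) (e.hom.left t) = Points.ofPt p t := by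
  rw [ofPt_map_comp]
  congr 1
  exact congrArg (fun k : T ⟶ T => k.left t) e.hom_inv_id

theorem ofPt_open {T : Over S} (O : T.left.Opens) {F : Sp S} (p : (yon S).obj T ⟶ F) (u : ↥(O : Scheme.{u})) :
    Points.ofPt ((yon S).map (Over.homMk O.ι rfl : Over.mk (O.ι ≫ T.hom) ⟶ T) ≫ p) u = Points.ofPt p (O.ι u) :=
  ofPt_map_comp (T := Over.mk (O.ι ≫ T.hom)) _ p u

theorem repWith_iso_comp {P : MorphismProperty Scheme.{u}} [P.IsStableUnderBaseChange] {U U' : Over S}
    {F : Sp S} (e : U' ≅ U) {q : (yon S).obj U ⟶ F} (h : RepWith P q) : RepWith P ((yon S).map e.hom ≫ q) :=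
  (repWith_respectsIso_left ((yon S).map e.hom)).2 h

/-- Let `f : X ⟶ Y` be quasi-compact, `g : Z ⟶ Y` a morphism of algebraic spaces over `S`, `P = X ×_Y
Z`, `z ∈ |Z|` and `T ⊂ |P|` closed with `z` not in the image of `T`. Then there are an affine etale
neighbourhood `(V, v) ⟶ (Z, z)`, an affine scheme `Z'` with `b : Z' ⟶ Y` locally of finite
presentation and `a : V ⟶ Z'` over `Y`, and for every fibre product `P' = X ×_Y Z'` a closed `T' ⊂
|P'|` whose image in `|Z'|` misses `a(v)` and which contains the image of the inverse image of `T`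
in `|X ×_Y V|`. (The variant with `V` an open neighbourhood when `Z` is a scheme is not included.) -/
theorem result (S : Scheme.{u}) {X Y Z : AlgSp.Space S} (f : X ⟶ Y) (g : Z ⟶ Y)
    (hf : AlgSp.IsQuasiCompactMor f.hom)
    (P : AlgSp.Sp S) (p₁ : P ⟶ X.obj) (p₂ : P ⟶ Z.obj) (hP : IsPullback p₁ p₂ f.hom g.hom)
    (z : AlgSp.Points Z.obj) (T : Set (AlgSp.Points P)) (hT : IsClosed T) (hz : z ∉ AlgSp.Points.map p₂ '' T) :
    ∃ (V : Over S) (_ : IsAffine V.left) (e : (AlgSp.yon S).obj V ⟶ Z.obj) (_ : AlgSp.RepWith @Etale e) (v : ↥V.left)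
      (_ : AlgSp.Points.map e (AlgSp.Points.schemeEquiv V v) = z)
      (Z' : Over S) (_ : IsAffine Z'.left) (b : (AlgSp.yon S).obj Z' ⟶ Y.obj) (_ : AlgSp.LocP @LocallyOfFinitePresentation b)
      (a : V ⟶ Z') (_ : (AlgSp.yon S).map a ≫ b = e ≫ g.hom),
      ∀ (P' : AlgSp.Sp S) (q₁ : P' ⟶ X.obj) (q₂ : P' ⟶ (AlgSp.yon S).obj Z'), IsPullback q₁ q₂ f.hom b →
        ∃ T' : Set (AlgSp.Points P'), IsClosed T' ∧
          AlgSp.Points.schemeEquiv Z' (a.left v) ∉ AlgSp.Points.map q₂ '' T' ∧
          ∀ (PV : AlgSp.Sp S) (r₁ : PV ⟶ X.obj) (r₂ : PV ⟶ (AlgSp.yon S).obj V), IsPullback r₁ r₂ f.hom (e ≫ g.hom) →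
            ∀ (κ₁ : PV ⟶ P) (κ₂ : PV ⟶ P'), κ₁ ≫ p₁ = r₁ → κ₁ ≫ p₂ = r₂ ≫ e → κ₂ ≫ q₁ = r₁ → κ₂ ≫ q₂ = r₂ ≫ (AlgSp.yon S).map a →
              ∀ w : AlgSp.Points PV, AlgSp.Points.map κ₁ w ∈ T → AlgSp.Points.map κ₂ w ∈ T' := by
  classical
  -- an affine chart of `Y` at the image of `z`
  obtain ⟨U₁, q₁, hq₁e, hq₁s⟩ := Y.property.atlas
  obtain ⟨u₁, hu₁⟩ := surjective_ofPt hq₁s (Points.map g.hom z)
  obtain ⟨O, hO, hu₁O, -⟩ := exists_isAffineOpen_mem_and_subset (X := U₁.left) (x := u₁) (U := ⊤) trivial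
  let U₂ : Over S := Over.mk (O.ι ≫ U₁.hom)
  let q₂ : (yon S).obj U₂ ⟶ Y.obj := (yon S).map (Over.homMk O.ι rfl : U₂ ⟶ U₁) ≫ q₁
  haveI : IsAffine U₂.left := hO
  obtain ⟨R, σ, ⟨iU⟩⟩ := exists_spec U₂
  let U : Over S := Over.mk σ
  obtain ⟨q, hq, hqe⟩ : ∃ q : (yon S).obj U ⟶ Y.obj, q = (yon S).map iU.inv ≫ q₂ ∧ RepWith @Etale q :=
    ⟨_, rfl, repWith_iso_comp iU.symm (repWith_etale_restrict hq₁e O)⟩
  obtain ⟨u₂, hu₂⟩ : u₁ ∈ Set.range O.ι := by rw [Scheme.Opens.range_ι]; exact hu₁O
  have hu : Points.ofPt q (iU.hom.left u₂) = Points.map g.hom z := by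
    rw [← hu₁, ← hu₂]
    rw [hq, ofPt_iso_inv]
    exact ofPt_open O q₁ u₂
  -- an affine etale neighbourhood of `z` over it
  have hQ : IsAlgSpace (pullback g.hom q) :=
    isAlgSpace_baseChange Z.property Y.property (IsAlgSpace.yon_obj _) (IsPullback.of_hasPullback _ _)
  let sqP := IsPullback.of_hasPullback g.hom q
  obtain ⟨w₁, hw₁, -⟩ := exists_point_lift sqP z (Points.ofScheme U (iU.hom.left u₂))
    (by rw [← Points.ofPt_eq_map_ofScheme, hu])
  obtain ⟨Q₁, p₁, hp₁e, hp₁s⟩ := hQ.atlas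
  obtain ⟨t₁, ht₁⟩ := surjective_ofPt hp₁s w₁
  obtain ⟨O', hO', ht₁O, -⟩ := exists_isAffineOpen_mem_and_subset (X := Q₁.left) (x := t₁) (U := ⊤) trivial
  let V₂ : Over S := Over.mk (O'.ι ≫ Q₁.hom)
  let e₂ : (yon S).obj V₂ ⟶ pullback g.hom q := (yon S).map (Over.homMk O'.ι rfl : V₂ ⟶ Q₁) ≫ p₁
  haveI : IsAffine V₂.left := hO'
  obtain ⟨A, τ, ⟨iV⟩⟩ := exists_spec V₂
  let V : Over S := Over.mk τ
  obtain ⟨eP, heP, hePe⟩ : ∃ eP : (yon S).obj V ⟶ pullback g.hom q, eP = (yon S).map iV.inv ≫ e₂ ∧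
      RepWith @Etale eP := ⟨_, rfl, repWith_iso_comp iV.symm (repWith_etale_restrict hp₁e O')⟩
  let e : (yon S).obj V ⟶ Z.obj := eP ≫ pullback.fst _ _
  have he : RepWith @Etale e := repWith_comp hePe (repWith_of_isPullback sqP.flip hqe)
  obtain ⟨t₂, ht₂⟩ : t₁ ∈ Set.range O'.ι := by rw [Scheme.Opens.range_ι]; exact ht₁O
  let v : ↥V.left := iV.hom.left t₂
  have hv : Points.map e (Points.schemeEquiv V v) = z := by
    change Points.map e (Points.ofScheme V v) = z
    rw [← Points.ofPt_eq_map_ofScheme, ← hw₁, ← ht₁, ← ht₂]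
    simp only [e, v, heP]
    rw [Category.assoc, ofPt_iso_inv, Points.map_ofPt]
    simp only [e₂, Category.assoc]
    rw [ofPt_open O' _ t₂]
  obtain ⟨a₀, ha₀⟩ := (yon S).map_surjective (eP ≫ pullback.snd _ _)
  have hV : (yon S).map a₀ ≫ q = e ≫ g.hom := by
    rw [ha₀, Category.assoc, ← pullback.condition, ← Category.assoc]
  -- an affine chart of `X` over the chart
  have sqX := IsPullback.of_hasPullback f.hom q
  have hXU : IsAlgSpace (pullback f.hom q) :=
    isAlgSpace_baseChange X.property Y.property (IsAlgSpace.yon_obj _) sqX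
  have hUc : IsQuasiCompactSp ((yon S).obj U) := by
    haveI : IsAffine U.left := inferInstanceAs (IsAffine (Spec R))
    exact (isQuasiCompactSp_iff (IsAlgSpace.yon_obj _)).2 (compactSpace_yon_of_affine U)
  obtain ⟨W₂, r₂, hW₂, hr₂e, hr₂s⟩ := exists_affine_chart (hf (IsAlgSpace.yon_obj _) hUc q _ _ sqX)
  haveI : IsAffine W₂.left := hW₂
  obtain ⟨B, ρ, ⟨iW⟩⟩ := exists_spec W₂
  let W : Over S := Over.mk ρ
  obtain ⟨r, hre, hrs⟩ : ∃ r : (yon S).obj W ⟶ pullback f.hom q, RepWith @Etale r ∧ RepWith @Surjective r :=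
    ⟨_, repWith_iso_comp iW.symm hr₂e, repWith_iso_comp iW.symm hr₂s⟩
  obtain ⟨m, hm⟩ := (yon S).map_surjective (r ≫ pullback.snd _ _)
  -- rings
  obtain ⟨φB, hφB⟩ := Spec.map_surjective m.left
  obtain ⟨φA, hφA⟩ := Spec.map_surjective a₀.left
  letI : Algebra R B := φB.hom.toAlgebra
  letI : Algebra R A := φA.hom.toAlgebra
  let W' := pullback m a₀
  let uW : (yon S).obj W' ⟶ P := hP.lift ((yon S).map (pullback.fst m a₀) ≫ r ≫ pullback.fst _ _)
    ((yon S).map (pullback.snd m a₀) ≫ e) (by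
      simp only [Category.assoc]
      rw [pullback.condition, ← reassoc_of% hm, ← hV, ← Functor.map_comp_assoc, ← Functor.map_comp_assoc,
        pullback.condition])
  have sqW : IsPullback (pullback.fst m a₀).left (pullback.snd m a₀).left
      (Spec.map (CommRingCat.ofHom (algebraMap R B))) (Spec.map (CommRingCat.ofHom (algebraMap R A))) := by
    rw [show (Spec.map (CommRingCat.ofHom (algebraMap R B)) : W.left ⟶ U.left) = m.left from hφB,
      show (Spec.map (CommRingCat.ofHom (algebraMap R A)) : V.left ⟶ U.left) = a₀.left from hφA]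
    exact (IsPullback.of_hasPullback m a₀).map (Over.forget S)
  let C₀ : Set ↥W'.left := Points.ofPt uW ⁻¹' T
  have hC₀ : IsClosed C₀ := hT.preimage (Points.continuous_ofPt uW)
  have hv₀ : v ∉ (pullback.snd m a₀).left '' C₀ := by
    rintro ⟨w, hw, hwv⟩
    refine hz ⟨Points.ofPt uW w, hw, ?_⟩
    rw [Points.map_ofPt, show uW ≫ p₂ = (yon S).map (pullback.snd m a₀) ≫ e from hP.lift_snd _ _ _, ofPt_map_comp,
      hwv, Points.ofPt_eq_map_ofScheme]
    exact hv
  let iso := sqW.isoPullback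
  obtain ⟨Zc, hZc, bc, hbc, ac, wc, C', hC', hsub, hav⟩ := SepNbhd14.exists_stage_spec R B A
    (iso.inv ⁻¹' C₀) (hC₀.preimage iso.inv.continuous) v (by
      rintro ⟨w, hw, hwv⟩
      refine hv₀ ⟨iso.inv w, hw, ?_⟩
      have e : iso.inv ≫ (pullback.snd m a₀).left = pullback.snd _ _ := by
        rw [Iso.inv_comp_eq]; exact sqW.isoPullback_hom_snd.symm
      exact ((congrArg (fun k => k w) e).symm.trans (Scheme.Hom.comp_apply _ _ w)).symm.trans hwv)
  let Z' : Over S := Over.mk (bc ≫ σ)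
  haveI : IsAffine Z'.left := hZc
  let bU : Z' ⟶ U := Over.homMk bc rfl
  let a : V ⟶ Z' := Over.homMk ac (by
    show ac ≫ bc ≫ σ = τ
    rw [← Category.assoc, wc]
    exact (congrArg (· ≫ σ) hφA).trans (Over.w a₀))
  have haU : a ≫ bU = a₀ := Over.OverMorphism.ext (wc.trans hφA)
  let b : (yon S).obj Z' ⟶ Y.obj := (yon S).map bU ≫ q
  have hb : LocP @LocallyOfFinitePresentation b := locP_of_repWith Y.property (repWith_comp
    ((repWith_yon_map_iff @LocallyOfFinitePresentation bU).2 hbc)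
    (repWith_mono (fun _ _ h (_ : Etale h) => (inferInstance : LocallyOfFinitePresentation h)) hqe))
  have hab : (yon S).map a ≫ b = e ≫ g.hom := by
    rw [← Category.assoc, ← Functor.map_comp, haU, hV]
  refine ⟨V, inferInstanceAs (IsAffine (Spec A)), e, he, v, hv, Z', hZc, b, hb, a, hab, ?_⟩
  intro P' q₁' q₂' sqP'
  let PV₀ := pullback f.hom (e ≫ g.hom)
  let s₁ : PV₀ ⟶ X.obj := pullback.fst _ _
  let s₂ : PV₀ ⟶ (yon S).obj V := pullback.snd _ _
  let k₁ : PV₀ ⟶ P := hP.lift s₁ (s₂ ≫ e) (by rw [Category.assoc]; exact pullback.condition)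
  let k₂ : PV₀ ⟶ P' := sqP'.lift s₁ (s₂ ≫ (yon S).map a) (by rw [Category.assoc, hab]; exact pullback.condition)
  refine ⟨closure (Points.map k₂ '' (Points.map k₁ ⁻¹' T)), isClosed_closure, ?_, ?_⟩
  · rintro ⟨x, hx, hxv⟩
    -- the chart of `P'`
    let W₁ := pullback m bU
    let r' : (yon S).obj W₁ ⟶ P' := sqP'.lift ((yon S).map (pullback.fst m bU) ≫ r ≫ pullback.fst _ _)
      ((yon S).map (pullback.snd m bU)) (by
        simp only [Category.assoc, b]
        rw [pullback.condition, ← reassoc_of% hm, ← Functor.map_comp_assoc, ← Functor.map_comp_assoc,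
          pullback.condition])
    let π : P' ⟶ pullback f.hom q := pullback.lift q₁' (q₂' ≫ (yon S).map bU) (by
      rw [Category.assoc]; exact sqP'.w)
    have sqπ : IsPullback π q₂' (pullback.snd f.hom q) ((yon S).map bU) :=
      IsPullback.of_right (h₁₂ := pullback.fst f.hom q) (h₂₂ := q) (v₁₃ := f.hom)
        (by rw [pullback.lift_fst]; exact sqP') (pullback.lift_snd _ _ _) sqX
    have sqr : IsPullback ((yon S).map (pullback.fst m bU)) r' r π := by
      refine IsPullback.of_bot (v₂₁ := q₂') (v₂₂ := pullback.snd f.hom q) (h₃₁ := (yon S).map bU) ?_ ?_ sqπ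
      · rw [show r' ≫ q₂' = (yon S).map (pullback.snd m bU) from sqP'.lift_snd _ _ _, ← hm]
        exact (IsPullback.of_hasPullback m bU).map (yon S)
      · apply pullback.hom_ext
        · rw [Category.assoc, Category.assoc, pullback.lift_fst, sqP'.lift_fst]
        · rw [Category.assoc, Category.assoc, pullback.lift_snd, ← hm, ← Category.assoc r',
            sqP'.lift_snd, ← Functor.map_comp, ← Functor.map_comp, pullback.condition]
    have hr'e : RepWith @Etale r' := repWith_of_isPullback sqr hre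
    have hr's : RepWith @Surjective r' := repWith_of_isPullback sqr hrs
    obtain ⟨w₁', rfl⟩ := surjective_ofPt hr's x
    have hopen := isOpenQuotientMap_ofPt hr'e hr's
    replace hx := hopen.isOpenMap.preimage_closure_subset_closure_preimage hx
    have sqW₁ : IsPullback (pullback.fst m bU).left (pullback.snd m bU).left
        (Spec.map (CommRingCat.ofHom (algebraMap R B))) bc := by
      rw [show (Spec.map (CommRingCat.ofHom (algebraMap R B)) : W.left ⟶ U.left) = m.left from hφB,
        show (bc : Z'.left ⟶ U.left) = bU.left from rfl]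
      exact (IsPullback.of_hasPullback m bU).map (Over.forget S)
    let iso₁ := sqW₁.isoPullback
    let κ : W' ⟶ W₁ := pullback.map m a₀ m bU (𝟙 _) a (𝟙 _) (by simp) (by rw [Category.comp_id, haU])
    have hcl : closure (Points.ofPt r' ⁻¹' (Points.map k₂ '' (Points.map k₁ ⁻¹' T))) ⊆ iso₁.hom ⁻¹' C' := by
      refine closure_minimal ?_ (hC'.preimage iso₁.hom.continuous)
      rintro y ⟨x', hx', hxy⟩
      let uV : (yon S).obj W' ⟶ PV₀ := pullback.lift ((yon S).map (pullback.fst m a₀) ≫ r ≫ pullback.fst _ _)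
        ((yon S).map (pullback.snd m a₀)) (by
          simp only [Category.assoc]
          rw [pullback.condition, ← reassoc_of% hm, ← hV, ← Functor.map_comp_assoc, ← Functor.map_comp_assoc,
            pullback.condition])
      have huκ : uV ≫ k₂ = (yon S).map κ ≫ r' := by
        apply sqP'.hom_ext
        · rw [Category.assoc, Category.assoc, sqP'.lift_fst, sqP'.lift_fst, pullback.lift_fst,
            ← Functor.map_comp_assoc, pullback.lift_fst, Category.comp_id]
        · rw [Category.assoc, Category.assoc, sqP'.lift_snd, sqP'.lift_snd, pullback.lift_snd_assoc,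
            ← Functor.map_comp, ← Functor.map_comp, pullback.lift_snd]
      have sqk : IsPullback k₂ s₂ q₂' ((yon S).map a) :=
        IsPullback.of_right (h₁₂ := q₁') (h₂₂ := b) (v₁₃ := f.hom)
          (by rw [sqP'.lift_fst, hab]; exact IsPullback.of_hasPullback _ _) (sqP'.lift_snd _ _ _) sqP'
      have sqκ : IsPullback ((yon S).map κ) uV r' k₂ := by
        refine IsPullback.of_bot (v₂₁ := s₂) (v₂₂ := q₂') (h₃₁ := (yon S).map a) ?_ huκ.symm sqk
        rw [pullback.lift_snd, show r' ≫ q₂' = (yon S).map (pullback.snd m bU) from sqP'.lift_snd _ _ _]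
        refine IsPullback.map (yon S) ?_
        refine IsPullback.of_right (h₁₂ := pullback.fst m bU) (h₂₂ := bU) (v₁₃ := m) ?_ (pullback.lift_snd _ _ _)
          (IsPullback.of_hasPullback m bU).flip.flip
        rw [pullback.lift_fst, Category.comp_id, haU]
        exact IsPullback.of_hasPullback m a₀
      obtain ⟨p, hp₁, hp₂⟩ := exists_point_lift sqκ (Points.ofScheme W₁ y) x'
        (by rw [← Points.ofPt_eq_map_ofScheme, hxy])
      obtain ⟨y', rfl⟩ : ∃ y', Points.ofScheme W' y' = p := ⟨_, Points.ofScheme_toScheme _ p⟩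
      rw [← Points.ofPt_eq_map_ofScheme, ofPt_map_eq] at hp₁
      rw [← Points.ofPt_eq_map_ofScheme] at hp₂
      have hy : κ.left y' = y := (Points.schemeEquiv W₁).injective hp₁
      have hC : y' ∈ C₀ := by
        show Points.ofPt uW y' ∈ T
        have : uW = uV ≫ k₁ := by
          apply hP.hom_ext
          · rw [Category.assoc, hP.lift_fst, hP.lift_fst, pullback.lift_fst]
          · rw [Category.assoc, hP.lift_snd, hP.lift_snd, pullback.lift_snd_assoc]
        rw [this, ← Points.map_ofPt, hp₂]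
        exact hx'
      refine hsub ⟨iso.hom y', ?_, ?_⟩
      · show iso.inv (iso.hom y') ∈ C₀
        rw [← Scheme.Hom.comp_apply, Iso.hom_inv_id]; exact hC
      · rw [← hy]
        refine Eq.trans ?_ (Scheme.Hom.comp_apply κ.left iso₁.hom y')
        suffices key : iso.hom ≫ pullback.map (Spec.map (CommRingCat.ofHom (algebraMap R B)))
            (Spec.map (CommRingCat.ofHom (algebraMap R A))) (Spec.map (CommRingCat.ofHom (algebraMap R B))) bc
            (𝟙 _) ac (𝟙 _) (by simp) (by rw [Category.comp_id, wc]) = κ.left ≫ iso₁.hom from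
          (Scheme.Hom.comp_apply _ _ _).symm.trans (congrArg (fun k : W'.left ⟶ pullback
            (Spec.map (CommRingCat.ofHom (algebraMap R B))) bc => k y') key)
        have k₁' : (pullback.fst m a₀).left = κ.left ≫ (pullback.fst m bU).left :=
          congrArg (fun k : W' ⟶ W => k.left) (show pullback.fst m a₀ = κ ≫ pullback.fst m bU from
            ((pullback.lift_fst _ _ _).trans (Category.comp_id _)).symm)
        have k₂' : (pullback.snd m a₀).left ≫ ac = κ.left ≫ (pullback.snd m bU).left :=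
          congrArg (fun k : W' ⟶ Z' => k.left) (show pullback.snd m a₀ ≫ a = κ ≫ pullback.snd m bU from
            (pullback.lift_snd _ _ _).symm)
        apply pullback.hom_ext
        · simp only [iso, iso₁, Category.assoc, pullback.lift_fst, Category.comp_id, IsPullback.isoPullback_hom_fst]
          exact k₁'
        · simp only [iso, iso₁, Category.assoc, pullback.lift_snd, IsPullback.isoPullback_hom_snd,
            IsPullback.isoPullback_hom_snd_assoc]
          exact k₂'
    refine hav ⟨iso₁.hom w₁', hcl hx, ?_⟩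
    have h1 : Points.ofPt ((yon S).map (pullback.snd m bU)) w₁' = Points.ofScheme Z' (a.left v) := by
      rw [← show r' ≫ q₂' = (yon S).map (pullback.snd m bU) from sqP'.lift_snd _ _ _, ← Points.map_ofPt]
      exact hxv
    rw [ofPt_map_eq] at h1
    have h2 := (Points.schemeEquiv Z').injective h1
    exact (Scheme.Hom.comp_apply _ _ _).symm.trans
      ((congrArg (fun k => k w₁') sqW₁.isoPullback_hom_snd).trans h2)
  · intro PV r₁' r₂' sqPV κ₁ κ₂ h11 h12 h21 h22 w hw
    let i := sqPV.isoPullback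
    have e₁ : κ₁ = i.hom ≫ k₁ := by
      apply hP.hom_ext
      · rw [Category.assoc, hP.lift_fst, sqPV.isoPullback_hom_fst, h11]
      · rw [Category.assoc, hP.lift_snd, ← Category.assoc, sqPV.isoPullback_hom_snd, h12]
    have e₂ : κ₂ = i.hom ≫ k₂ := by
      apply sqP'.hom_ext
      · rw [Category.assoc, sqP'.lift_fst, sqPV.isoPullback_hom_fst, h21]
      · rw [Category.assoc, sqP'.lift_snd, ← Category.assoc, sqPV.isoPullback_hom_snd, h22]
    refine subset_closure ⟨Points.map i.hom w, ?_, by rw [e₂, Points.map_comp]⟩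
    show Points.map k₁ (Points.map i.hom w) ∈ T
    rw [← Points.map_comp, ← e₁]
    exact hw

end Groth.Agent.S10072
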