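import Groth.Statements.S10073
import Groth.Agent.Lib.LimSys14.ClosedSys
import Groth.Agent.Lib.LimSys14.Apps
import Groth.Agent.Lib.SchImage14.IdealApps
import Mathlib.AlgebraicGeometry.AffineTransitionLimit

set_option autoImplicit false
universe u
open CategoryTheory CategoryTheory.Limits AlgebraicGeometry
open AlgSp

namespace Groth.Agent.S10073

open CategoryTheory.Limits Opposite Groth.Agent.AlgSpace Groth.Agent.AlgSpDecent

set_option backward.isDefEq.respectTransparency false
set_option backward.isDefEq.respectTransparency.types false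
set_option linter.style.haveILetI false

variable {S : Scheme.{u}}

theorem exists_factor_of_points {A G Z : Sp S} (i : Z ⟶ G) [Mono i] (f : A ⟶ G)
    (h : ∀ {T : Over S} (a : (yon S).obj T ⟶ A), ∃ b, b ≫ i = a ≫ f) : ∃ g : A ⟶ Z, g ≫ i = f := by
  have : Sheaf.IsLocallySurjective (pullback.snd i f) := isLocallySurjective_of_lifts _ fun T a => by
    obtain ⟨b, hb⟩ := h a
    refine ⟨T, 𝟙 T, pullback.lift b a hb, inferInstanceAs (Flat (𝟙 T.left)),
      inferInstanceAs (Surjective (𝟙 T.left)), inferInstanceAs (LocallyOfFinitePresentation (𝟙 T.left)), ?_⟩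
    rw [pullback.lift_snd, CategoryTheory.Functor.map_id, Category.id_comp]
  have : Epi (pullback.snd i f) := Sheaf.epi_of_isLocallySurjective' _
  have : IsIso (pullback.snd i f) := isIso_of_mono_of_epi _
  exact ⟨inv (pullback.snd i f) ≫ pullback.fst i f, by
    rw [Category.assoc, pullback.condition, IsIso.inv_hom_id_assoc]⟩

theorem le_ker_of_appTop {T C : Scheme.{u}} [IsAffine C] (q : T ⟶ C) {J : C.IdealSheafData}
    (h : ∀ z ∈ J.ideal ⟨⊤, isAffineOpen_top _⟩, q.appTop z = 0) : J ≤ q.ker := by
  let g := Spec.map q.appTop ≫ C.isoSpec.inv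
  have e : T.toSpecΓ ≫ g = q := by
    rw [← Category.assoc, Iso.comp_inv_eq, Scheme.isoSpec_hom]
    exact (Scheme.toSpecΓ_naturality q).symm
  refine le_trans (Scheme.IdealSheafData.le_of_isAffine fun z hz => ?_)
    ((Scheme.Hom.le_ker_comp T.toSpecΓ g).trans (le_of_eq (congrArg Scheme.Hom.ker e)))
  rw [Scheme.Hom.ker_apply, RingHom.mem_ker]
  have : IsIso T.toSpecΓ.appTop := by rw [Scheme.toSpecΓ_appTop]; infer_instance
  apply (ConcreteCategory.bijective_of_isIso T.toSpecΓ.appTop).1
  rw [map_zero]
  refine (ConcreteCategory.comp_apply g.appTop T.toSpecΓ.appTop z).symm.trans ?_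
  rw [← Scheme.Hom.comp_appTop, e]
  exact h z hz

/-- Let `B = lim B_i` be a cofiltered limit (in fppf sheaves over `S`) of Noetherian algebraic spaces
(quasi-compact and quasi-separated over `S`, locally Noetherian) whose transition maps are affine,
`X ⟶ B` quasi-separated of finite type, and `X ⟶ W` over `B ⟶ B_i` with `W ⟶ B_i` of finite type and
`X ⟶ B ×_{B_i} W` a closed immersion. For `i'` over `i` write `X_{i'}` for the scheme-theoretic
image of `X` in `B_{i'} ×_{B_i} W`, with the induced transition maps. Then `X = lim_{i'} X_{i'}`: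
the cone of maps `X ⟶ X_{i'}` is a limit cone. (The published statement allows any base scheme and
uses absolute quasi-separatedness; this row assumes the base quasi-separated, over which
quasi-separatedness relative to the base is the absolute notion.) -/
theorem result (S : Scheme.{u}) [QuasiSeparatedSpace S] {I : Type u} [SmallCategory I] [IsCofiltered I]
    (D : I ⥤ AlgSp.Sp S) (hD : ∀ i, AlgSp.IsAlgSpace (D.obj i))
    (hDa : ∀ (i j : I) (φ : i ⟶ j), AlgSp.IsAffineMor (D.map φ))
    (hqc : ∀ i, AlgSp.IsQuasiCompactSp (D.obj i)) (hqs : ∀ i, AlgSp.IsQuasiSeparatedSp (D.obj i))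
    (c : Cone D) (hc : IsLimit c)
    (hln : ∀ i, AlgSp.IsLocNoethSp (D.obj i))
    (X : AlgSp.Space S) (a : X.obj ⟶ c.pt) (hXqs : AlgSp.IsQuasiSeparatedMor a) (hXft : AlgSp.IsFiniteTypeMor a)
    (i : I) (W : AlgSp.Space S) (w : W.obj ⟶ D.obj i) (hw : AlgSp.IsFiniteTypeMor w) (b : X.obj ⟶ W.obj)
    (hb : b ≫ w = a ≫ c.π.app i)
    (hci : ∀ (P : AlgSp.Sp S) (fst : P ⟶ c.pt) (snd : P ⟶ W.obj), IsPullback fst snd (c.π.app i) w →
      ∀ k : X.obj ⟶ P, k ≫ fst = a → k ≫ snd = b → AlgSp.RepWith @IsClosedImmersion k)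
    (DP : Over i ⥤ AlgSp.Sp S) (π₁ : DP ⟶ Over.forget i ⋙ D) (π₂ : DP ⟶ (Functor.const (Over i)).obj W.obj)
    (hDP : ∀ i' : Over i, IsPullback (π₁.app i') (π₂.app i') (D.map i'.hom) w)
    (DX : Over i ⥤ AlgSp.Sp S) (hDX : ∀ i', AlgSp.IsAlgSpace (DX.obj i')) (ε : DX ⟶ DP)
    (ξ : (Functor.const (Over i)).obj X.obj ⟶ DX)
    (hξ : ∀ i' : Over i, ξ.app i' ≫ ε.app i' ≫ π₁.app i' = a ≫ c.π.app i'.left ∧ ξ.app i' ≫ ε.app i' ≫ π₂.app i' = b)
    (himg : ∀ i' : Over i, AlgSp.IsSchImage (ξ.app i' ≫ ε.app i') (ε.app i')) :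
    Nonempty (IsLimit (Cone.mk X.obj ξ)) := by
  haveI : IsCofiltered (Over i) := inferInstance
  let o : Over i := Over.mk (𝟙 i)
  have ho : ∀ j, Nonempty (j ⟶ o) := LimSys14.hom_terminal i
  let t := LimSys14.overSp (D := D) i
  let dP : Cone DP := ⟨pullback (c.π.app i) w,
    { app := fun j => (hDP j).lift (pullback.fst _ _ ≫ c.π.app j.left) (pullback.snd _ _) (by
        rw [Category.assoc, c.w, pullback.condition])
      naturality := fun j l φ => by
        refine (Category.id_comp _).trans ((hDP l).hom_ext ?_ ?_)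
        · refine (IsPullback.lift_fst _ _ _ _).trans (Eq.symm ?_)
          refine (Category.assoc _ _ _).trans ?_
          refine (congrArg (_ ≫ ·) (π₁.naturality φ)).trans ?_
          refine (Category.assoc _ _ _).symm.trans ?_
          refine (congrArg (· ≫ (Over.forget i ⋙ D).map φ) (IsPullback.lift_fst _ _ _ _)).trans ?_
          exact (Category.assoc _ _ _).trans (congrArg (pullback.fst _ _ ≫ ·) (c.w φ.left))
        · refine (IsPullback.lift_snd _ _ _ _).trans (Eq.symm ?_)
          refine (Category.assoc _ _ _).trans ?_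
          refine (congrArg (_ ≫ ·) ((π₂.naturality φ).trans (Category.comp_id _))).trans ?_
          exact IsPullback.lift_snd _ _ _ _ }⟩
  have hdP : IsLimit dP := LimSys14.isLimitOfIsPullback o π₁ π₂ t hDP (LimSys14.restrictIsLimit c hc i)
    (pullback.fst (c.π.app i) w) (fun j => (IsPullback.lift_fst (hDP j) _ _ _).symm) ho (by
      have e1 : dP.π.app o ≫ π₂.app o = pullback.snd _ _ := IsPullback.lift_snd (hDP o) _ _ _
      have e2 : (LimSys14.restrictCone c i).π.app o ≫ t.app o = c.π.app i := c.w (𝟙 i)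
      rw [e1, e2]
      exact IsPullback.of_hasPullback _ _)
  let k : X.obj ⟶ dP.pt := pullback.lift a b hb.symm
  have hk : RepWith @IsClosedImmersion k :=
    hci _ _ _ (IsPullback.of_hasPullback _ _) k (pullback.lift_fst _ _ _) (pullback.lift_snd _ _ _)
  have hkξ : ∀ j, k ≫ dP.π.app j = ξ.app j ≫ ε.app j := fun j => by
    apply (hDP j).hom_ext
    · rw [Category.assoc, IsPullback.lift_fst, pullback.lift_fst_assoc, Category.assoc, (hξ j).1]
    · rw [Category.assoc, IsPullback.lift_snd, pullback.lift_snd, Category.assoc, (hξ j).2]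
  haveI : Mono k := AlgSpDescent.mono_of_repWith_closedImmersion hk
  haveI : ∀ j, Mono (ε.app j) := fun j => AlgSpDescent.mono_of_repWith_closedImmersion (himg j).1
  have hDPs : ∀ j, IsAlgSpace (DP.obj j) := fun j =>
    isAlgSpace_baseChange (hD _) (hD i) W.property (hDP j)
  have hDPa : ∀ (j l : Over i) (φ : j ⟶ l), IsAffineMor (DP.map φ) := fun j l φ => by
    refine LimSys14.isAffineMor_of_isPullback (fst := π₁.app j) (g := π₁.app l) ?_ (hDa _ _ φ.left)
    refine (IsPullback.of_right ?_ (π₁.naturality φ) (hDP l).flip).flip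
    have e : DP.map φ ≫ π₂.app l = π₂.app j := (π₂.naturality φ).trans (Category.comp_id _)
    have e' : D.map φ.left ≫ D.map l.hom = D.map j.hom :=
      (D.map_comp _ _).symm.trans (congrArg D.map (Over.w φ))
    exact e.symm ▸ e'.symm ▸ (hDP j).flip
  have hWc : IsQuasiCompactSp W.obj := isQuasiCompactSp_of_mor W.property (hD i) hw.2 (hqc i)
  have hDPc : IsQuasiCompactSp (DP.obj o) := by
    have : IsIso (π₂.app o) := by
      haveI : IsIso (D.map o.hom) := by rw [show D.map o.hom = 𝟙 _ from D.map_id i]; infer_instance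
      exact (hDP o).isIso_snd_of_isIso
    have : CompactSpace (Points (((Functor.const (Over i)).obj W.obj).obj o)) :=
      (isQuasiCompactSp_iff W.property).1 hWc
    exact (isQuasiCompactSp_iff (hDPs o)).2
      (compactSpace_of_surjective (asIso (π₂.app o)).symm.hom (bijective_map_iso (e := (asIso (π₂.app o)).symm.hom)).2)
  obtain ⟨V, φ, hV, hφe, hφs⟩ := exists_affine_chart hDPc
  haveI : IsAffine V.left := hV
  let C := LimSys14.chartPt hDPa φ dP hdP
  let E := LimSys14.chartSys hDPa φ ⋙ Over.forget S
  haveI : ∀ j, IsAffine (E.obj j) := fun j => LimSys14.isAffine_chartSys hDPa φ j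
  haveI : ∀ j, IsAffine ((LimSys14.chartSys hDPa φ).obj j).left := fun j => LimSys14.isAffine_chartSys hDPa φ j
  haveI hCaff : IsAffine C.left := by
    haveI : IsAffineHom (LimSys14.chartPtSnd hDPa φ dP hdP).left := (isAffineMor_iff_repWith.1 (LimSys14.isAffineMor_π hDPa dP hdP o)).2 _ _ _
      (LimSys14.chartPt_sq hDPa φ dP hdP)
    exact isAffine_of_isAffineHom (LimSys14.chartPtSnd hDPa φ dP hdP).left
  have hCe : RepWith @Etale (LimSys14.chartPtFst hDPa φ dP hdP) :=
    repWith_of_isPullback (LimSys14.chartPt_sq hDPa φ dP hdP).flip hφe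
  have hCs : RepWith @Surjective (LimSys14.chartPtFst hDPa φ dP hdP) :=
    repWith_of_isPullback (LimSys14.chartPt_sq hDPa φ dP hdP).flip hφs
  have hlim : ∀ s : Cone DX, ∃ m : s.pt ⟶ X.obj, ∀ j, m ≫ ξ.app j = s.π.app j := fun s => by
    let c₀ : s.pt ⟶ dP.pt := hdP.lift ((Cone.postcompose ε).obj s)
    have hc₀ : ∀ j, c₀ ≫ dP.π.app j = s.π.app j ≫ ε.app j := fun j => hdP.fac _ j
    have hsurj : Sheaf.IsLocallySurjective (pullback.fst c₀ (LimSys14.chartPtFst hDPa φ dP hdP)) :=
      isLocallySurjective_of_etale (repWith_of_isPullback (IsPullback.of_hasPullback _ _).flip hCe)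
        (repWith_of_isPullback (IsPullback.of_hasPullback _ _).flip hCs)
    obtain ⟨b', hb'⟩ := exists_factor_of_points k
        (pullback.fst c₀ (LimSys14.chartPtFst hDPa φ dP hdP) ≫ c₀) fun {T} α => by
      obtain ⟨q, hq⟩ := (yon S).map_surjective (α ≫ pullback.snd c₀ (LimSys14.chartPtFst hDPa φ dP hdP))
      have hw' : α ≫ pullback.fst c₀ _ ≫ c₀ = (yon S).map q ≫ LimSys14.chartPtFst hDPa φ dP hdP := by
        rw [hq, Category.assoc, pullback.condition]
      obtain ⟨β, hβ⟩ := (SchImage14.exists_lift_iff hk (LimSys14.chartPtFst hDPa φ dP hdP) q).2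
        (le_ker_of_appTop q.left fun z hz => by
          obtain ⟨j, y, hy⟩ := exists_appTop_π_eq_of_isAffine_of_isLimit E _
            (LimSys14.chartIsLimitScheme hDPa φ dP hdP) z
          let π := LimSys14.chartPi hDPa φ dP hdP j
          let yj := (LimSys14.chartFst hDPa φ).app j
          have hye : RepWith @Etale yj := repWith_of_isPullback (LimSys14.chart_sq hDPa φ j).flip hφe
          have hle := (SchImage14.exists_lift_iff (himg j.left).1 yj (q ≫ π)).1
            ⟨α ≫ pullback.fst c₀ _ ≫ s.π.app j.left, by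
              simp only [Category.assoc]
              rw [← hc₀ j.left, ← Category.assoc (pullback.fst _ _), ← Category.assoc α, hw', Functor.map_comp,
                Category.assoc, Category.assoc, LimSys14.chartPi_fst]⟩
          suffices hy' : y ∈ (SchImage14.subIdeal (himg j.left).1 yj).ideal ⟨⊤, isAffineOpen_top _⟩ by
            have h0 := Scheme.Hom.ideal_ker_le (q ≫ π).left ⟨⊤, isAffineOpen_top _⟩ (hle _ hy')
            rw [← hy]
            refine (ConcreteCategory.comp_apply _ _ y).symm.trans ?_
            rw [← Scheme.Hom.comp_appTop]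
            exact RingHom.mem_ker.1 h0
          have hfa : IsAffineMor (ξ.app j.left ≫ ε.app j.left) := by
            rw [← hkξ]
            exact isAffineMor_iff_repWith.2 (repWith_comp
              (isAffineMor_iff_repWith.1 (LimSys14.isAffineMor_of_closedImmersion hk))
              (isAffineMor_iff_repWith.1 (LimSys14.isAffineMor_π hDPa dP hdP _)))
          let Y' : Space S := ⟨DP.obj j.left, hDPs _⟩
          let Z' : Space S := ⟨DX.obj j.left, hDX _⟩
          let f' : X ⟶ Y' := ObjectProperty.homMk (ξ.app j.left ≫ ε.app j.left)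
          have hf' : Representable f'.hom := (isAffineMor_iff_repWith.1 hfa).1
          have hq' : IsQuasiCompactMor f'.hom :=
            LimSys14.isQuasiCompactMor_of_isAffineMor X.property (hDPs _) hfa
          have himg' : IsSchImage f'.hom (ObjectProperty.homMk (ε.app j.left) : Z' ⟶ Y').hom := himg j.left
          have e := SchImage14.subIdeal_eq_ker_snd hf' hq' himg' yj hye
          haveI : QuasiCompact (hf'.snd yj).left := SchImage14.quasiCompact_snd hf' hq' yj
          rw [show SchImage14.subIdeal (himg j.left).1 yj = _ from e, Scheme.Hom.ker_apply, RingHom.mem_ker]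
          have w₁ : k ≫ dP.π.app o = (ξ.app j.left ≫ ε.app j.left) ≫ DP.map j.hom :=
            (congrArg (k ≫ ·) (dP.w j.hom).symm).trans ((Category.assoc _ _ _).symm.trans
              (congrArg (· ≫ DP.map j.hom) (hkξ j.left)))
          have w₂ : hf'.fst yj ≫ ξ.app j.left ≫ ε.app j.left = (yon S).map (hf'.snd yj) ≫ yj :=
            (hf'.isPullback yj).w
          have w₃ : yj ≫ DP.map j.hom = (yon S).map ((LimSys14.chartSnd hDPa φ).app j) ≫ φ :=
            (LimSys14.chart_sq hDPa φ j).w
          have w₄ : (hf'.fst yj ≫ k) ≫ dP.π.app o =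
              (yon S).map (hf'.snd yj ≫ (LimSys14.chartSnd hDPa φ).app j) ≫ φ := by
            refine (Category.assoc _ _ _).trans ((congrArg (fun m => hf'.fst yj ≫ m) w₁).trans ?_)
            refine (Category.assoc _ _ _).symm.trans ((congrArg (fun m => m ≫ DP.map j.hom) w₂).trans ?_)
            refine (Category.assoc _ _ _).trans ((congrArg (fun m => (yon S).map (hf'.snd yj) ≫ m) w₃).trans ?_)
            exact (Category.assoc _ _ _).symm.trans (congrArg (· ≫ φ) ((yon S).map_comp _ _).symm)
          obtain ⟨l, hl⟩ := (yon S).map_surjective ((LimSys14.chartPt_sq hDPa φ dP hdP).lift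
            (hf'.fst yj ≫ k) ((yon S).map (hf'.snd yj ≫ (LimSys14.chartSnd hDPa φ).app j)) w₄)
          have hl1 : (yon S).map l ≫ LimSys14.chartPtFst hDPa φ dP hdP = hf'.fst yj ≫ k := by
            rw [hl, IsPullback.lift_fst]
          have hl2 : l ≫ π = hf'.snd yj := by
            apply (yon S).map_injective
            refine (LimSys14.chart_sq hDPa φ j).hom_ext ?_ ?_
            · rw [Functor.map_comp, Category.assoc, LimSys14.chartPi_fst, reassoc_of% hl1, hkξ]
              exact (hf'.isPullback yj).w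
            · rw [Functor.map_comp, Category.assoc, LimSys14.chartPi_snd, hl, IsPullback.lift_snd,
                Functor.map_comp]
          have h1 := (SchImage14.exists_lift_iff hk (LimSys14.chartPtFst hDPa φ dP hdP) l).1
            ⟨hf'.fst yj, hl1.symm⟩ ⟨⊤, isAffineOpen_top _⟩ hz
          have h2 := RingHom.mem_ker.1 (Scheme.Hom.ideal_ker_le l.left ⟨⊤, isAffineOpen_top _⟩ h1)
          rw [← hl2]
          change (l.left ≫ π.left).appTop y = 0
          rw [Scheme.Hom.comp_appTop, ConcreteCategory.comp_apply]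
          exact (congrArg _ hy).trans h2)
      exact ⟨β, hβ.trans hw'.symm⟩
    obtain ⟨m, hm⟩ := SchImage14.exists_factor_of_locSurj k _ hsurj c₀ b' hb'
    exact ⟨m, fun j => by rw [← cancel_mono (ε.app j), Category.assoc, ← hkξ, ← Category.assoc, hm, hc₀]⟩
  choose m hm using hlim
  exact ⟨{ lift := m
           fac := hm
           uniq := fun s m' hm' => by
             rw [← cancel_mono k]
             refine hdP.hom_ext fun j => ?_
             rw [Category.assoc, Category.assoc, hkξ, ← Category.assoc, ← Category.assoc]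
             exact congrArg (· ≫ ε.app j) ((hm' j).trans (hm s j).symm) }⟩

end Groth.Agent.S10073
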