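import Groth.Statements.S10074
import Groth.Agent.Lib.LimSys14.HomColimit
import Groth.Agent.Lib.SchImage14.Valuation
import Groth.Agent.S10073

set_option autoImplicit false
universe u
open CategoryTheory CategoryTheory.Limits AlgebraicGeometry
open AlgSp

namespace Groth.Agent.S10074

open CategoryTheory.Limits Opposite Groth.Agent.AlgSpace Groth.Agent.AlgSpDecent

set_option backward.isDefEq.respectTransparency false
set_option backward.isDefEq.respectTransparency.types false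
set_option linter.style.haveILetI false

variable {S : Scheme.{u}}

theorem factor_through_schImage {F G Z P Q : Sp S} {f : F ⟶ G} {i : Z ⟶ G} (hi : IsSchImage f i)
    (hP : IsAlgSpace P) (hZ : IsAlgSpace Z) (hQ : IsAlgSpace Q) (f' : F ⟶ Z) (hf : f' ≫ i = f)
    {e : Q ⟶ P} (he : RepWith @IsClosedImmersion e) (g : Z ⟶ P) (x : F ⟶ Q) (hx : x ≫ e = f' ≫ g) :
    ∃ k : Z ⟶ Q, k ≫ e = g := by
  have sq := IsPullback.of_hasPullback e g
  have hsn : RepWith @IsClosedImmersion (pullback.snd e g) := repWith_of_isPullback sq he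
  obtain ⟨k, hk⟩ := hi.2.2 (pullback.snd e g ≫ i) (isAlgSpace_baseChange hQ hP hZ sq)
    (repWith_comp hsn hi.1) ⟨pullback.lift x f' hx, by rw [pullback.lift_snd_assoc, hf]⟩
  haveI : Mono i := AlgSpDescent.mono_of_repWith_closedImmersion hi.1
  refine ⟨k ≫ pullback.fst e g, ?_⟩
  have : k ≫ pullback.snd e g = 𝟙 Z := by
    rw [← cancel_mono i, Category.assoc, hk, Category.id_comp]
  rw [Category.assoc, pullback.condition, reassoc_of% this]

/-- Let `B = lim B_i` be a cofiltered limit (in fppf sheaves over `S`) of Noetherian algebraic spaces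
(quasi-compact and quasi-separated over `S`, locally Noetherian) whose transition maps are affine,
`f : X ⟶ Y` a morphism over `B` between algebraic spaces each of finite type and quasi-separated
over `B`, and `X ⟶ W` over `B_{i₁}`, `Y ⟶ V` over `B_{i₂}` good diagrams (`W ⟶ B_{i₁}` and `V ⟶
B_{i₂}` of finite presentation, `X ⟶ B ×_{B_{i₁}} W` and `Y ⟶ B ×_{B_{i₂}} V` closed immersions)
with their systems of scheme-theoretic images `(X_i)`, `(Y_i)`. Then for some `i₀` over `i₁`, `i₂`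
there is a morphism of systems `(f_i : X_i ⟶ Y_i)_{i ≥ i₀}` over `(B_i)` with `f = lim f_i`
(compatible with `X ⟶ X_i`, `Y ⟶ Y_i`), and any two such families agree for all `i` over some index.
(The published statement takes `W` and `V` only of finite type over `B_{i₁}`, `B_{i₂}`; this row
takes them of finite presentation, which its proof uses.) (The published statement allows any base
scheme and uses absolute quasi-separatedness; this row assumes the base quasi-separated, over which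
quasi-separatedness relative to the base is the absolute notion.) -/
theorem result (S : Scheme.{u}) [QuasiSeparatedSpace S] {I : Type u} [SmallCategory I] [IsCofiltered I]
    (D : I ⥤ AlgSp.Sp S) (hD : ∀ i, AlgSp.IsAlgSpace (D.obj i))
    (hDa : ∀ (i j : I) (φ : i ⟶ j), AlgSp.IsAffineMor (D.map φ))
    (hqc : ∀ i, AlgSp.IsQuasiCompactSp (D.obj i)) (hqs : ∀ i, AlgSp.IsQuasiSeparatedSp (D.obj i))
    (c : Cone D) (hc : IsLimit c)
    (hln : ∀ i, AlgSp.IsLocNoethSp (D.obj i))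
    (X Y : AlgSp.Space S) (aX : X.obj ⟶ c.pt) (aY : Y.obj ⟶ c.pt) (f : X.obj ⟶ Y.obj) (hf : f ≫ aY = aX)
    (hXqs : AlgSp.IsQuasiSeparatedMor aX) (hXft : AlgSp.IsFiniteTypeMor aX)
    (hYqs : AlgSp.IsQuasiSeparatedMor aY) (hYft : AlgSp.IsFiniteTypeMor aY)
    (i₁ : I) (W : AlgSp.Space S) (w : W.obj ⟶ D.obj i₁) (hw : AlgSp.IsFinitePresentationMor w) (bX : X.obj ⟶ W.obj)
    (hbX : bX ≫ w = aX ≫ c.π.app i₁)
    (hciX : ∀ (P : AlgSp.Sp S) (fst : P ⟶ c.pt) (snd : P ⟶ W.obj), IsPullback fst snd (c.π.app i₁) w →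
      ∀ k : X.obj ⟶ P, k ≫ fst = aX → k ≫ snd = bX → AlgSp.RepWith @IsClosedImmersion k)
    (PX : Over i₁ ⥤ AlgSp.Sp S) (PXπ₁ : PX ⟶ Over.forget i₁ ⋙ D) (PXπ₂ : PX ⟶ (Functor.const (Over i₁)).obj W.obj)
    (hPX : ∀ i' : Over i₁, IsPullback (PXπ₁.app i') (PXπ₂.app i') (D.map i'.hom) w)
    (DX : Over i₁ ⥤ AlgSp.Sp S) (hDX : ∀ i', AlgSp.IsAlgSpace (DX.obj i')) (εX : DX ⟶ PX)
    (ξX : (Functor.const (Over i₁)).obj X.obj ⟶ DX)
    (hξX : ∀ i' : Over i₁, ξX.app i' ≫ εX.app i' ≫ PXπ₁.app i' = aX ≫ c.π.app i'.left ∧ ξX.app i' ≫ εX.app i' ≫ PXπ₂.app i' = bX)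
    (himgX : ∀ i' : Over i₁, AlgSp.IsSchImage (ξX.app i' ≫ εX.app i') (εX.app i'))
    (i₂ : I) (V : AlgSp.Space S) (v : V.obj ⟶ D.obj i₂) (hv : AlgSp.IsFinitePresentationMor v) (bY : Y.obj ⟶ V.obj)
    (hbY : bY ≫ v = aY ≫ c.π.app i₂)
    (hciY : ∀ (P : AlgSp.Sp S) (fst : P ⟶ c.pt) (snd : P ⟶ V.obj), IsPullback fst snd (c.π.app i₂) v →
      ∀ k : Y.obj ⟶ P, k ≫ fst = aY → k ≫ snd = bY → AlgSp.RepWith @IsClosedImmersion k)
    (PY : Over i₂ ⥤ AlgSp.Sp S) (PYπ₁ : PY ⟶ Over.forget i₂ ⋙ D) (PYπ₂ : PY ⟶ (Functor.const (Over i₂)).obj V.obj)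
    (hPY : ∀ i' : Over i₂, IsPullback (PYπ₁.app i') (PYπ₂.app i') (D.map i'.hom) v)
    (DY : Over i₂ ⥤ AlgSp.Sp S) (hDY : ∀ i', AlgSp.IsAlgSpace (DY.obj i')) (εY : DY ⟶ PY)
    (ξY : (Functor.const (Over i₂)).obj Y.obj ⟶ DY)
    (hξY : ∀ i' : Over i₂, ξY.app i' ≫ εY.app i' ≫ PYπ₁.app i' = aY ≫ c.π.app i'.left ∧ ξY.app i' ≫ εY.app i' ≫ PYπ₂.app i' = bY)
    (himgY : ∀ i' : Over i₂, AlgSp.IsSchImage (ξY.app i' ≫ εY.app i') (εY.app i')) :
    ∃ (i₀ : I) (φ₁ : i₀ ⟶ i₁) (φ₂ : i₀ ⟶ i₂) (fam : Over.map φ₁ ⋙ DX ⟶ Over.map φ₂ ⋙ DY),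
      (∀ i' : Over i₀, ξX.app ((Over.map φ₁).obj i') ≫ fam.app i' = f ≫ ξY.app ((Over.map φ₂).obj i')) ∧
        (∀ i' : Over i₀, fam.app i' ≫ εY.app ((Over.map φ₂).obj i') ≫ PYπ₁.app ((Over.map φ₂).obj i') =
          εX.app ((Over.map φ₁).obj i') ≫ PXπ₁.app ((Over.map φ₁).obj i')) ∧
      ∀ gam : Over.map φ₁ ⋙ DX ⟶ Over.map φ₂ ⋙ DY,
        (∀ i' : Over i₀, ξX.app ((Over.map φ₁).obj i') ≫ gam.app i' = f ≫ ξY.app ((Over.map φ₂).obj i')) ∧
        (∀ i' : Over i₀, gam.app i' ≫ εY.app ((Over.map φ₂).obj i') ≫ PYπ₁.app ((Over.map φ₂).obj i') =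
          εX.app ((Over.map φ₁).obj i') ≫ PXπ₁.app ((Over.map φ₁).obj i')) →
        ∃ (j₀ : I) (ψ : j₀ ⟶ i₀), ∀ j : Over j₀, fam.app ((Over.map ψ).obj j) = gam.app ((Over.map ψ).obj j) := by
  have hle : (@LocallyOfFinitePresentation : MorphismProperty Scheme.{u}) ≤ @LocallyOfFiniteType :=
    fun _ _ g (_ : LocallyOfFinitePresentation g) => (inferInstance : LocallyOfFiniteType g)
  have hwft : IsFiniteTypeMor w := ⟨locP_mono hle hw.1, hw.2.1⟩
  let cX : Cone DX := Cone.mk X.obj ξX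
  obtain ⟨hcX⟩ := S10073.result S D hD hDa hqc hqs c hc hln X aX hXqs hXft i₁ W w hwft bX hbX hciX
    PX PXπ₁ PXπ₂ hPX DX hDX εX ξX hξX himgX
  have hεX : ∀ j, Mono (εX.app j) := fun j => AlgSpDescent.mono_of_repWith_closedImmersion (himgX j).1
  have hεY : ∀ j, Mono (εY.app j) := fun j => AlgSpDescent.mono_of_repWith_closedImmersion (himgY j).1
  have hPXπ : ∀ j, IsAffineMor (PXπ₂.app j) := fun j =>
    LimSys14.isAffineMor_of_isPullback (hPX j) (hDa _ _ j.hom)
  have hPXs : ∀ j, IsAlgSpace (PX.obj j) := fun j =>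
    isAlgSpace_baseChange (hD _) (hD i₁) W.property (hPX j)
  have hPYs : ∀ j, IsAlgSpace (PY.obj j) := fun j =>
    isAlgSpace_baseChange (hD _) (hD i₂) V.property (hPY j)
  have hWc : IsQuasiCompactSp W.obj := isQuasiCompactSp_of_mor W.property (hD i₁) hw.2.1 (hqc i₁)
  have hWs : IsQuasiSeparatedSp W.obj := isQuasiSeparatedSp_of_mor hw.2.2 (hqs i₁)
  have hXc : ∀ j, IsQuasiCompactSp (DX.obj j) := fun j =>
    isQuasiCompactSp_of_mor (hDX j) (hPXs j) (LimSys14.isQuasiCompactMor_of_isAffineMor (hDX j) (hPXs j)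
      (LimSys14.isAffineMor_of_closedImmersion (himgX j).1))
      (isQuasiCompactSp_of_mor (hPXs j) W.property
        (LimSys14.isQuasiCompactMor_of_isAffineMor (hPXs j) W.property (hPXπ j)) hWc)
  have hXs : ∀ j, IsQuasiSeparatedSp (DX.obj j) := fun j =>
    haveI := hεX j
    isQuasiSeparatedSp_of_mor (SchImage14.isQuasiSeparatedMor_of_mono (εX.app j))
      (isQuasiSeparatedSp_of_mor
        (LimSys14.isQuasiSeparatedMor_of_isAffineMor (hPXs j) W.property (hPXπ j)) hWs)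
  have hXa : ∀ (j l : Over i₁) (φ : j ⟶ l), IsAffineMor (DX.map φ) := fun j l φ => by
    haveI := hεX l
    have hP : IsAffineMor (PX.map φ) := by
      refine LimSys14.isAffineMor_of_isPullback (fst := PXπ₁.app j) (g := PXπ₁.app l) ?_ (hDa _ _ φ.left)
      refine (IsPullback.of_right ?_ (PXπ₁.naturality φ) (hPX l).flip).flip
      have e : PX.map φ ≫ PXπ₂.app l = PXπ₂.app j := (PXπ₂.naturality φ).trans (Category.comp_id _)
      have e' : D.map φ.left ≫ D.map l.hom = D.map j.hom :=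
        (D.map_comp _ _).symm.trans (congrArg D.map (Over.w φ))
      exact e.symm ▸ e'.symm ▸ (hPX j).flip
    have w' : DX.map φ ≫ εX.app l = εX.app j ≫ PX.map φ := εX.naturality φ
    have hc' : RepWith @IsAffineHom (εX.app j ≫ PX.map φ) := repWith_comp
      (repWith_mono (fun _ _ g (_ : IsClosedImmersion g) => (inferInstance : IsAffineHom g)) (himgX j).1)
      (isAffineMor_iff_repWith.1 hP)
    exact isAffineMor_iff_repWith.2 (repWith_of_isPullback
      (show IsPullback (𝟙 (DX.obj j)) (DX.map φ) (εX.app j ≫ PX.map φ) (εX.app l) from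
        ⟨⟨(Category.id_comp _).trans w'.symm⟩, ⟨PullbackCone.IsLimit.mk _ (fun s => s.fst)
          (fun s => Category.comp_id _)
          (fun s => by rw [← cancel_mono (εX.app l), Category.assoc, w', s.condition])
          (fun s m h _ => by rw [← h]; exact (Category.comp_id _).symm)⟩⟩) hc')
  let D₂ : Space S := ⟨D.obj i₂, hD i₂⟩
  let v' : V ⟶ D₂ := ObjectProperty.homMk v
  haveI : IsCofiltered (Over i₁) := inferInstance
  let i₃ := IsCofiltered.min i₁ i₂
  let o₁ : Over i₁ := Over.mk (IsCofiltered.minToLeft i₁ i₂)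
  obtain ⟨k, ψ, xk, hxk, hxk'⟩ := LimSys14.exists_factor_of_lfp v' hv.1 (D := DX) hDX hXa cX hcX hXc hXs
    (i := o₁) (εX.app o₁ ≫ PXπ₁.app o₁ ≫ D.map (IsCofiltered.minToRight i₁ i₂)) (f ≫ bY) (by
      refine (Category.assoc _ _ _).trans ((congrArg (f ≫ ·) hbY).trans ?_)
      rw [← Category.assoc f, hf]
      refine Eq.trans ?_ (((Category.assoc _ _ _).trans (congrArg (ξX.app o₁ ≫ ·) (Category.assoc _ _ _))).symm.trans
        (by simp only [Category.assoc]; rfl))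
      have e := congrArg (· ≫ D.map (IsCofiltered.minToRight i₁ i₂)) (hξX o₁).1
      simp only [Category.assoc] at e ⊢
      refine Eq.trans ?_ e.symm
      exact congrArg (aX ≫ ·) (c.w (IsCofiltered.minToRight i₁ i₂)).symm)
  replace hxk : xk ≫ v = DX.map ψ ≫ εX.app o₁ ≫ PXπ₁.app o₁ ≫ D.map (IsCofiltered.minToRight i₁ i₂) := hxk
  replace hxk' : ξX.app k ≫ xk = f ≫ bY := hxk'
  let φ₁ : k.left ⟶ i₁ := k.hom
  let φ₂ : k.left ⟶ i₂ := ψ.left ≫ IsCofiltered.minToRight i₁ i₂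
  let F₁ : Over k.left ⥤ Over i₁ := Over.map φ₁
  let F₂ : Over k.left ⥤ Over i₂ := Over.map φ₂
  let m : ∀ i' : Over k.left, F₁.obj i' ⟶ k := fun i' => Over.homMk i'.hom rfl
  have hg : ∀ i' : Over k.left, (εX.app (F₁.obj i') ≫ PXπ₁.app (F₁.obj i')) ≫ D.map (F₂.obj i').hom =
      (DX.map (m i') ≫ xk) ≫ v := fun i' => by
    rw [Category.assoc (DX.map (m i')), hxk, ← Category.assoc (DX.map (m i')), ← DX.map_comp]
    have e₁ : DX.map (m i' ≫ ψ) ≫ εX.app o₁ = εX.app (F₁.obj i') ≫ PX.map (m i' ≫ ψ) := εX.naturality _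
    have e₂ : PX.map (m i' ≫ ψ) ≫ PXπ₁.app o₁ = PXπ₁.app (F₁.obj i') ≫ D.map (i'.hom ≫ ψ.left) :=
      PXπ₁.naturality _
    have e₃ : D.map (F₂.obj i').hom = D.map (i'.hom ≫ ψ.left) ≫ D.map (IsCofiltered.minToRight i₁ i₂) :=
      (congrArg D.map (show (F₂.obj i').hom = (i'.hom ≫ ψ.left) ≫ IsCofiltered.minToRight i₁ i₂ from
        (Category.assoc _ _ _).symm)).trans (D.map_comp _ _)
    refine Eq.trans ?_ (((congrArg (fun q => q ≫ PXπ₁.app o₁ ≫ D.map (IsCofiltered.minToRight i₁ i₂)) e₁).symm).trans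
      (Category.assoc _ _ _))
    refine Eq.trans ?_ (Category.assoc _ _ _).symm
    refine (Category.assoc _ _ _).trans (congrArg (fun q => εX.app (F₁.obj i') ≫ q) ?_)
    exact ((congrArg (fun q => PXπ₁.app (F₁.obj i') ≫ q) e₃).trans (Category.assoc _ _ _).symm).trans
      ((congrArg (fun q => q ≫ D.map (IsCofiltered.minToRight i₁ i₂)) e₂.symm).trans (Category.assoc _ _ _))
  let g : ∀ i' : Over k.left, DX.obj (F₁.obj i') ⟶ PY.obj (F₂.obj i') := fun i' =>
    (hPY (F₂.obj i')).lift _ _ (hg i')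
  have hg₁ : ∀ i', g i' ≫ PYπ₁.app (F₂.obj i') = εX.app (F₁.obj i') ≫ PXπ₁.app (F₁.obj i') := fun i' =>
    IsPullback.lift_fst _ _ _ _
  have hg₂ : ∀ i', g i' ≫ PYπ₂.app (F₂.obj i') = DX.map (m i') ≫ xk := fun i' =>
    IsPullback.lift_snd _ _ _ _
  have hξm : ∀ {a b : Over i₁} (n : a ⟶ b), ξX.app a ≫ DX.map n = ξX.app b := fun n =>
    (ξX.naturality n).symm.trans (Category.id_comp _)
  have hx : ∀ i', (f ≫ ξY.app (F₂.obj i')) ≫ εY.app (F₂.obj i') = ξX.app (F₁.obj i') ≫ g i' := fun i' => by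
    apply (hPY (F₂.obj i')).hom_ext
    · rw [Category.assoc _ (g i'), hg₁, (hξX _).1, Category.assoc, Category.assoc, (hξY _).1,
        ← Category.assoc, hf]
      rfl
    · rw [Category.assoc _ (g i'), hg₂, Category.assoc, Category.assoc, (hξY _).2, ← Category.assoc (ξX.app _)]
      exact hxk'.symm.trans (congrArg (· ≫ xk) (hξm (m i')).symm)
  choose fa hfa using fun i' : Over k.left => factor_through_schImage (himgX (F₁.obj i')) (hPYs _)
    (hDX _) (hDY (F₂.obj i')) (ξX.app (F₁.obj i')) rfl (himgY (F₂.obj i')).1 (g i') _ (hx i')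
  let fam : Over.map φ₁ ⋙ DX ⟶ Over.map φ₂ ⋙ DY :=
    { app := fa
      naturality := fun a b n => by
        haveI := hεY (F₂.obj b)
        show DX.map (F₁.map n) ≫ fa b = fa a ≫ DY.map (F₂.map n)
        rw [← cancel_mono (εY.app (F₂.obj b)), Category.assoc, hfa, Category.assoc]
        refine Eq.trans ?_ ((congrArg (fa a ≫ ·) (εY.naturality (F₂.map n)).symm))
        rw [reassoc_of% (hfa a)]
        apply (hPY (F₂.obj b)).hom_ext
        · refine ((Category.assoc _ _ _).trans (congrArg (_ ≫ ·) (hg₁ b))).trans (Eq.symm ?_)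
          refine (Category.assoc _ _ _).trans ((congrArg (g a ≫ ·) (PYπ₁.naturality (F₂.map n))).trans ?_)
          refine (Category.assoc _ _ _).symm.trans ((congrArg (· ≫ _) (hg₁ a)).trans ?_)
          refine (Category.assoc _ _ _).trans ((congrArg (εX.app (F₁.obj a) ≫ ·)
            (PXπ₁.naturality (F₁.map n)).symm).trans ?_)
          exact (Category.assoc _ _ _).symm.trans ((congrArg (· ≫ PXπ₁.app (F₁.obj b))
            (εX.naturality (F₁.map n)).symm).trans (Category.assoc _ _ _))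
        · refine ((Category.assoc _ _ _).trans (congrArg (_ ≫ ·) (hg₂ b))).trans (Eq.symm ?_)
          refine (Category.assoc _ _ _).trans ((congrArg (g a ≫ ·)
            ((PYπ₂.naturality (F₂.map n)).trans (Category.comp_id _))).trans ((hg₂ a).trans ?_))
          rw [← Category.assoc, ← DX.map_comp]
          congr 2
          exact Over.OverMorphism.ext (Over.w n).symm }
  refine ⟨k.left, φ₁, φ₂, fam, fun i' => ?_, fun i' => ?_, fun gam hgam => ?_⟩
  · haveI := hεY (F₂.obj i')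
    rw [← cancel_mono (εY.app (F₂.obj i'))]
    exact ((Category.assoc _ _ _).trans (congrArg (ξX.app (F₁.obj i') ≫ ·) (hfa i'))).trans (hx i').symm
  · exact (Category.assoc _ _ _).symm.trans ((congrArg (· ≫ PYπ₁.app (F₂.obj i')) (hfa i')).trans (hg₁ i'))
  let o : Over k.left := Over.mk (𝟙 k.left)
  let π : ∀ i' : Over k.left, DY.obj (F₂.obj i') ⟶ V.obj := fun i' =>
    εY.app (F₂.obj i') ≫ PYπ₂.app (F₂.obj i')
  have hπv : ∀ (p : DX.obj (F₁.obj o) ⟶ DY.obj (F₂.obj o)), (p ≫ π o) ≫ v'.hom =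
      (p ≫ εY.app (F₂.obj o) ≫ PYπ₁.app (F₂.obj o)) ≫ D.map (F₂.obj o).hom := fun p => by
    simp only [π, Category.assoc]
    exact congrArg (p ≫ ·) (congrArg (εY.app (F₂.obj o) ≫ ·) (hPY (F₂.obj o)).w.symm)
  obtain ⟨l, χ, hl⟩ := LimSys14.exists_eq_of_lfp v' hv.1 (D := DX) hXa cX hcX hXc
    (i := F₁.obj o) (fa o ≫ π o) (gam.app o ≫ π o) (by
      refine (hπv _).trans (Eq.trans ?_ (hπv _).symm)
      congr 1
      exact ((Category.assoc _ _ _).symm.trans ((congrArg (· ≫ _) (hfa o)).trans (hg₁ o))).trans (hgam.2 o).symm) (by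
      refine ((Category.assoc _ _ _).symm.trans (congrArg (· ≫ π o) ?_)).trans (Category.assoc _ _ _)
      haveI := hεY (F₂.obj o)
      rw [← cancel_mono (εY.app (F₂.obj o))]
      exact (((Category.assoc _ _ _).trans (congrArg (ξX.app (F₁.obj o) ≫ ·) (hfa o))).trans (hx o).symm).trans
        (congrArg (· ≫ εY.app (F₂.obj o)) (hgam.1 o).symm))
  refine ⟨l.left, χ.left, fun j => ?_⟩
  let j' : Over k.left := (Over.map χ.left).obj j
  let n : j' ⟶ o := Over.homMk j'.hom (Category.comp_id _)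
  let p : F₁.obj j' ⟶ l := Over.homMk j.hom (by
    show j.hom ≫ l.hom = (j.hom ≫ χ.left) ≫ φ₁
    rw [Category.assoc]
    congr 1
    have := Over.w χ
    exact this.symm.trans (congrArg (χ.left ≫ ·) (Category.id_comp _)))
  have hp : p ≫ χ = F₁.map n := Over.OverMorphism.ext rfl
  have key : ∀ δ : Over.map φ₁ ⋙ DX ⟶ Over.map φ₂ ⋙ DY,
      δ.app j' ≫ π j' = DX.map p ≫ DX.map χ ≫ δ.app o ≫ π o := fun δ => by
    rw [← Category.assoc (DX.map p), ← DX.map_comp, hp, ← Category.assoc (DX.map (F₁.map n)),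
      show DX.map (F₁.map n) ≫ δ.app o = δ.app j' ≫ DY.map (F₂.map n) from δ.naturality n, Category.assoc]
    congr 1
    simp only [π]
    rw [← Category.assoc, show DY.map (F₂.map n) ≫ εY.app (F₂.obj o) =
      εY.app (F₂.obj j') ≫ PY.map (F₂.map n) from εY.naturality _, Category.assoc]
    congr 1
    exact ((PYπ₂.naturality (F₂.map n)).trans (Category.comp_id _)).symm
  haveI := hεY (F₂.obj j')
  show fa j' = gam.app j'
  rw [← cancel_mono (εY.app (F₂.obj j'))]
  apply (hPY (F₂.obj j')).hom_ext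
  · exact ((congrArg (· ≫ PYπ₁.app (F₂.obj j')) (hfa j')).trans (hg₁ j')).trans
      ((hgam.2 j').symm.trans (Category.assoc _ _ _).symm)
  · exact (Category.assoc _ _ _).trans ((key fam).trans ((congrArg (DX.map p ≫ ·) hl).trans
      ((key gam).symm.trans (Category.assoc _ _ _).symm)))

end Groth.Agent.S10074
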