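import Groth.Statements.S10203
import Groth.Agent.Lib.AlgSpace.Chart

set_option autoImplicit false
universe u
open CategoryTheory CategoryTheory.Limits AlgebraicGeometry Topology TopologicalSpace
open AlgSp

namespace Groth.Agent.S10203

/-- If X is a quasi-compact, locally Noetherian algebraic space over a scheme S, then |X| is a
Noetherian topological space. -/
theorem result {S : Scheme.{u}} (X : AlgSp.Space S)
    (hqc : AlgSp.IsQuasiCompactSp X.obj) (hX : AlgSp.IsLocNoethSp X.obj) :
    NoetherianSpace (AlgSp.Points X.obj) := by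
  have := (Groth.Agent.AlgSpace.isQuasiCompactSp_iff X.property).1 hqc
  obtain ⟨U, p, hpe, hps, hU⟩ := hX
  obtain ⟨W, hW, hWs⟩ := Groth.Agent.AlgSpace.exists_compact_open_surjOn hpe hps
  have : IsLocallyNoetherian U.left := hU
  have : CompactSpace ↥W.toScheme := isCompact_iff_compactSpace.1 hW
  have : IsNoetherian W.toScheme := {}
  refine noetherianSpace_of_surjective (fun w => AlgSp.Points.ofPt p (W.ι w))
    ((AlgSp.Points.continuous_ofPt p).comp W.ι.continuous) fun x => ?_
  obtain ⟨u, hu, rfl⟩ := hWs.symm.subset (Set.mem_univ x)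
  exact ⟨⟨u, hu⟩, rfl⟩

end Groth.Agent.S10203
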