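import Groth.Statements.S9951
import Groth.Agent.Lib.AlgSpace.LocP
import Groth.Agent.Lib.AlgSpDecent.LocNoeth

set_option autoImplicit false
universe u
open CategoryTheory CategoryTheory.Limits AlgebraicGeometry
open AlgSp

set_option backward.isDefEq.respectTransparency.types false

namespace Groth.Agent.S9951

/-- The source of a morphism locally of finite type with locally Noetherian target is locally
Noetherian. -/
theorem result {S : Scheme.{u}} {X Y : AlgSp.Space S} (f : X ⟶ Y)
    (hf : AlgSp.LocP @LocallyOfFiniteType f.hom) (hY : AlgSp.IsLocNoethSp Y.obj) : AlgSp.IsLocNoethSp X.obj := by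
  obtain ⟨V, b, hbe, hbs⟩ := Y.property.atlas
  obtain ⟨U, a, α, hae, has, w⟩ := Groth.Agent.AlgSpace.exists_chart_over X.property Y.property f.hom b hbe hbs
  have := Groth.Agent.AlgSpDecent.isLocallyNoetherian_of_etale_chart hY hbe
  have : LocallyOfFiniteType α.left := hf a b α hae hbe w
  exact ⟨U, a, hae, has, LocallyOfFiniteType.isLocallyNoetherian α.left⟩

end Groth.Agent.S9951
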