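import Groth.Statements.S10076
import Groth.Agent.Lib.AffImm14.Space
import Groth.Agent.Lib.AffStrat4.Noeth
import Groth.Agent.S10203
import Groth.Agent.S9951

set_option autoImplicit false
universe u
open CategoryTheory CategoryTheory.Limits AlgebraicGeometry
open AlgSp

namespace Groth.Agent.S10076

open Groth.Agent.AlgSpace Groth.Agent.AlgSpDecent Topology TopologicalSpace Groth.Agent.AffImm14

set_option backward.isDefEq.respectTransparency false
set_option backward.isDefEq.respectTransparency.types false
set_option linter.style.haveILetI false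

/-- Let `X` be a Noetherian algebraic space over `S` (quasi-compact and quasi-separated over `S`,
locally Noetherian) and `f : Y ⟶ X` of finite presentation. Then there are a dense open subspace `V
⊂ Y`, an `n`, and an immersion `V ⟶ 𝐀^n_X = X ×_S 𝐀^n_S` over `X`. (The published statement allows
any base scheme and uses absolute quasi-separatedness; this row assumes the base quasi-separated,
over which quasi-separatedness relative to the base is the absolute notion.) -/
theorem result (S : Scheme.{u}) [QuasiSeparatedSpace S]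
    {Y X : AlgSp.Space S} (f : Y ⟶ X) (hf : AlgSp.IsFinitePresentationMor f.hom)
    (hXqc : AlgSp.IsQuasiCompactSp X.obj) (hXqs : AlgSp.IsQuasiSeparatedSp X.obj) (hXln : AlgSp.IsLocNoethSp X.obj) :
    ∃ (V : AlgSp.Space S) (j : V ⟶ Y) (n : ℕ)
      (i : V.obj ⟶ X.obj ⨯ (AlgSp.yon S).obj (Over.mk (𝔸(ULift.{u} (Fin n); S) ↘ S))),
      AlgSp.RepWith @IsOpenImmersion j.hom ∧ Dense (Set.range (AlgSp.Points.map j.hom)) ∧
      i ≫ prod.fst = j.hom ≫ f.hom ∧ AlgSp.RepWith @IsImmersion i := by
  obtain ⟨hlfp, hfqc, hfqs⟩ := hf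
  have hlft : LocP @LocallyOfFiniteType f.hom :=
    locP_mono (fun _ _ q (hq : LocallyOfFinitePresentation q) => (inferInstance : LocallyOfFiniteType q)) hlfp
  have hYqc := isQuasiCompactSp_of_mor Y.property X.property hfqc hXqc
  have hYqs := isQuasiSeparatedSp_of_mor hfqs hXqs
  have hYln := S9951.result f hlft hXln
  obtain ⟨Y₀, j, hj, hY₀, hd⟩ := exists_dense_of_isDecent Y (isDecent_of_isQuasiSeparatedSp Y.property hYqs)
  obtain ⟨T, ⟨e⟩⟩ := exists_yon_iso_of_isRepresentable hY₀
  let a : (yon S).obj T ⟶ Y.obj := e.hom ≫ j.hom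
  have ha : RepWith @IsOpenImmersion a := (repWith_respectsIso_left e.hom).2 hj
  have hae : RepWith @Etale a := repWith_mono (fun _ _ q (hq : IsOpenImmersion q) => (inferInstance : Etale q)) ha
  haveI : NoetherianSpace (Points Y.obj) := S10203.result Y hYqc hYln
  have hai : IsInducing (fun t : T.left => Points.map a (Points.schemeHomeo T t)) :=
    ((isEmbedding_map_of_immersion Y.property (repWith_mono (fun _ _ q (hq : IsOpenImmersion q) =>
      (inferInstance : IsImmersion q)) ha)).1.comp (Points.schemeHomeo T).isEmbedding).isInducing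
  haveI : NoetherianSpace T.left := hai.noetherianSpace
  haveI : IsLocallyNoetherian T.left := isLocallyNoetherian_of_etale_chart hYln hae
  haveI : IsNoetherian T.left := {}
  let g : (yon S).obj T ⟶ X.obj := a ≫ f.hom
  have hXd := isDecent_of_isQuasiSeparatedSp X.property hXqs
  -- the union of the good opens
  let G : T.left.Opens := ⨆ G : {G : T.left.Opens // Good g G}, G.1
  have hGd : Dense (G : Set T.left) := dense_iff_inter_open.2 fun N hN hne => by
    obtain ⟨G₁, hle, ⟨x, hx⟩, hg⟩ := exists_good hXd g (N := ⟨N, hN⟩) hne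
    exact ⟨x, hle hx, Opens.mem_iSup.2 ⟨⟨G₁, hg⟩, hx⟩⟩
  haveI : IsLocallyNoetherian G.toScheme := isLocallyNoetherian_of_isOpenImmersion G.ι
  haveI : NoetherianSpace G.toScheme := G.ι.isOpenEmbedding.isInducing.noetherianSpace
  haveI : IsNoetherian G.toScheme := {}
  obtain ⟨U₀, hU₀, -, hU₀d⟩ := AffStrat4.exists_dense_affine G.toScheme
  have hU₀dense : Dense (U₀ : Set G.toScheme) := fun x => by
    let C := irreducibleComponent x
    have hC := irreducibleComponent_mem_irreducibleComponents x
    obtain ⟨y, hyC, hyU⟩ := Set.not_disjoint_iff.1 (hU₀d C hC)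
    exact closure_mono Set.inter_subset_right
      (subset_closure_inter_of_isPreirreducible_of_isOpen hC.1.2 U₀.isOpen ⟨y, hyC, hyU⟩ mem_irreducibleComponent)
  let U : Over S := Over.mk (U₀.ι ≫ G.ι ≫ T.hom)
  let jU : U ⟶ T := Over.homMk (U₀.ι ≫ G.ι) (Category.assoc _ _ _)
  haveI hjU : IsOpenImmersion jU.left := inferInstanceAs (IsOpenImmersion (U₀.ι ≫ G.ι))
  let gU : (yon S).obj U ⟶ X.obj := (yon S).map jU ≫ g
  let b : (yon S).obj U ⟶ Y.obj := (yon S).map jU ≫ a
  have hb : RepWith @IsOpenImmersion b := repWith_comp ((repWith_yon_map_iff _ jU).2 hjU) ha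
  have hgU : LocP @LocallyOfFiniteType gU := by
    rw [show gU = b ≫ f.hom by simp [gU, b, g]]
    exact locP_comp (IsAlgSpace.yon_obj _) Y.property X.property (locP_of_repWith Y.property
      (repWith_mono (fun _ _ q (hq : IsOpenImmersion q) => (inferInstance : LocallyOfFiniteType q)) hb)) hlft
  obtain ⟨n, i, hi₁, hi₂⟩ := exists_immersion_affineSpace S X hXqs U hU₀ gU hgU
    (fun V p _ hp W w₁ w₂ sq => isImmersion_graph hXqs (fun u => by
      obtain ⟨⟨G₁, hg₁⟩, hu⟩ := Opens.mem_iSup.1
        (show jU.left u ∈ G from (U₀.ι u : G.toScheme).2)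
      exact ⟨jU.left ⁻¹ᵁ G₁, hu, hg₁.restrict jU⟩) hp sq)
  refine ⟨⟨(yon S).obj U, IsAlgSpace.yon_obj U⟩, ObjectProperty.homMk b, n, i, hb, ?_,
    by rw [hi₁]; simp [gU, b, g, a], hi₂⟩
  show Dense (Set.range (Points.map b))
  have hr : Set.range (Points.map b) = (fun t : T.left => Points.map a (Points.schemeHomeo T t)) '' Set.range jU.left := by
    rw [← Set.range_comp, ← (Points.schemeHomeo U).surjective.range_comp (Points.map b)]
    congr 1
    funext u
    show Points.map b (Points.ofScheme U u) = Points.map a (Points.ofScheme T (jU.left u))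
    rw [← Points.ofPt_eq_map_ofScheme, ← Points.ofPt_eq_map_ofScheme, ofPt_map_comp]
  have hjd : Dense (Set.range jU.left) := by
    have h1 : Dense (G.ι '' (U₀ : Set G.toScheme)) := fun x => by
      refine closure_minimal ?_ isClosed_closure (hGd x)
      intro y hy
      exact mem_closure_image G.ι.continuous.continuousAt (hU₀dense ⟨y, hy⟩)
    refine h1.mono ?_
    rintro _ ⟨y, hy, rfl⟩
    exact ⟨⟨y, hy⟩, rfl⟩
  rw [hr]
  have hda : DenseRange (fun t : T.left => Points.map a (Points.schemeHomeo T t)) := by
    rw [DenseRange, show Set.range (fun t : T.left => Points.map a (Points.schemeHomeo T t)) =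
      Set.range (Points.map j.hom) by
        rw [show (fun t : T.left => Points.map a (Points.schemeHomeo T t)) = Points.map a ∘ Points.schemeHomeo T from rfl,
          (Points.schemeHomeo T).surjective.range_comp, map_comp_eq,
          (bijective_map_iso e.hom).2.range_comp]]
    exact hd
  exact hda.dense_image hai.continuous hjd

end Groth.Agent.S10076
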