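import Groth.Statements.S10077
import Groth.Agent.Lib.LimSys14.HomColimit

set_option autoImplicit false
universe u
open CategoryTheory CategoryTheory.Limits AlgebraicGeometry
open AlgSp

namespace Groth.Agent.S10077

open Opposite in
set_option backward.isDefEq.respectTransparency.types false in
theorem colim_nat {S : Scheme.{u}} {X Y : AlgSp.Sp S} (f : X ⟶ Y) {I : Type u} [SmallCategory I]
    (D : I ⥤ AlgSp.Sp S) (j : Iᵒᵖ) (x : D.obj j.unop ⟶ X) :
    colimMap (Functor.whiskerLeft D.op (yoneda.map f)) (colimit.ι (D.op ⋙ yoneda.obj X) j x) =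
      colimit.ι (D.op ⋙ yoneda.obj Y) j (x ≫ f) :=
  congrArg (fun t => t x) (ι_colimMap (Functor.whiskerLeft D.op (yoneda.map f)) j)

open Opposite in
set_option backward.isDefEq.respectTransparency.types false in
theorem colim_desc {S : Scheme.{u}} (K : AlgSp.Sp S) {I : Type u} [SmallCategory I]
    (D : I ⥤ AlgSp.Sp S) (c : Cone D) (j : Iᵒᵖ) (x : D.obj j.unop ⟶ K) :
    colimit.desc (D.op ⋙ yoneda.obj K) ((yoneda.obj K).mapCocone c.op) (colimit.ι (D.op ⋙ yoneda.obj K) j x) =
      c.π.app j.unop ≫ x :=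
  congrArg (fun t => t x) (colimit.ι_desc ((yoneda.obj K).mapCocone c.op) j)


/-- A morphism `f : X ⟶ Y` of algebraic spaces over `S` is locally of finite presentation if and only if
for every directed limit `T = lim T_i` of algebraic spaces over `S`, each quasi-compact and
quasi-separated over `S`, with affine transition maps, the square formed by `colim Mor(T_i, X) →
Mor(T, X)`, `colim Mor(T_i, Y) → Mor(T, Y)` and composition with `f` is cartesian in sets. (The
published statement allows any base scheme and uses absolute quasi-separatedness; this row assumes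
the base quasi-separated, over which quasi-separatedness relative to the base is the absolute
notion.) -/
theorem result (S : Scheme.{u}) [QuasiSeparatedSpace S]
    {X Y : AlgSp.Space S} (f : X ⟶ Y) :
    AlgSp.LocP @LocallyOfFinitePresentation f.hom ↔
      ∀ ⦃I : Type u⦄ [SmallCategory I] [IsCofiltered I] (D : I ⥤ AlgSp.Sp S),
        (∀ i, AlgSp.IsAlgSpace (D.obj i)) → (∀ (i j : I) (φ : i ⟶ j), AlgSp.IsAffineMor (D.map φ)) →
        (∀ i, AlgSp.IsQuasiCompactSp (D.obj i)) → (∀ i, AlgSp.IsQuasiSeparatedSp (D.obj i)) →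
        ∀ (c : Cone D) (_ : IsLimit c),
          IsPullback (colimMap (Functor.whiskerLeft D.op (yoneda.map f.hom)))
            (colimit.desc (D.op ⋙ yoneda.obj X.obj) ((yoneda.obj X.obj).mapCocone c.op))
            (colimit.desc (D.op ⋙ yoneda.obj Y.obj) ((yoneda.obj Y.obj).mapCocone c.op))
            ((yoneda.map f.hom).app (Opposite.op c.pt)) := by
  constructor
  · intro hf I _ _ D hD hDa hqc hqs c hc
    rw [Types.isPullback_iff]
    refine ⟨?_, ?_, ?_⟩
    · apply colimit.hom_ext
      intro j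
      ext x
      change colimit.desc (D.op ⋙ yoneda.obj Y.obj) ((yoneda.obj Y.obj).mapCocone c.op)
          (colimMap (Functor.whiskerLeft D.op (yoneda.map f.hom)) (colimit.ι (D.op ⋙ yoneda.obj X.obj) j x)) =
        (colimit.desc (D.op ⋙ yoneda.obj X.obj) ((yoneda.obj X.obj).mapCocone c.op)
          (colimit.ι (D.op ⋙ yoneda.obj X.obj) j x) : c.pt ⟶ X.obj) ≫ f.hom
      rw [colim_nat, colim_desc, colim_desc, Category.assoc]
    · rintro A B ⟨h1, h2⟩
      obtain ⟨j, x, rfl⟩ := Types.jointly_surjective' (F := D.op ⋙ yoneda.obj X.obj) A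
      obtain ⟨j', x', rfl⟩ := Types.jointly_surjective' (F := D.op ⋙ yoneda.obj X.obj) B
      rw [colim_nat, colim_nat] at h1
      rw [colim_desc, colim_desc] at h2
      obtain ⟨k, a, b, hab⟩ := (Types.FilteredColimit.colimit_eq_iff _).1 h1
      replace hab : D.map a.unop ≫ x ≫ f.hom = D.map b.unop ≫ x' ≫ f.hom := hab
      obtain ⟨l, e, he⟩ := Groth.Agent.LimSys14.exists_eq_of_lfp f hf hDa c hc hqc
        (D.map a.unop ≫ x) (D.map b.unop ≫ x') (by rw [Category.assoc, Category.assoc, hab])
        (by rw [← Category.assoc, c.w, ← Category.assoc, c.w]; exact h2)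
      rw [Types.FilteredColimit.colimit_eq_iff]
      refine ⟨Opposite.op l, a ≫ e.op, b ≫ e.op, ?_⟩
      show D.map (e ≫ a.unop) ≫ x = D.map (e ≫ b.unop) ≫ x'
      rw [D.map_comp, D.map_comp, Category.assoc, Category.assoc, he]
    · intro B x h
      obtain ⟨j, y, rfl⟩ := Types.jointly_surjective' (F := D.op ⋙ yoneda.obj Y.obj) B
      rw [colim_desc] at h
      obtain ⟨k, φ, xk, h1, h2⟩ :=
        Groth.Agent.LimSys14.exists_factor_of_lfp f hf hD hDa c hc hqc hqs y x h.symm
      refine ⟨colimit.ι (D.op ⋙ yoneda.obj X.obj) (Opposite.op k) xk, ?_, ?_⟩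
      · rw [colim_nat, h1]
        exact congrArg (fun t => t y) (colimit.w (D.op ⋙ yoneda.obj Y.obj) φ.op)
      · rw [colim_desc]; exact h2
  · intro H
    refine Groth.Agent.LimShf14.locP_lfp_of_lifting f fun {I} _ _ D c hc hD hT x i y h => ?_
    have : ∀ j, IsAffine (D.obj j).left := hD
    haveI := IsCofiltered.isConnected I
    obtain ⟨-, -, he⟩ := (Types.isPullback_iff _ _ _ _).1 (H (D ⋙ yon S)
      (fun j => IsAlgSpace.yon_obj (D.obj j))
      (fun j k φ => Groth.Agent.AlgSpace.isAffineMor_iff_repWith.2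
        ((repWith_yon_map_iff _ _).2 (isAffineHom_of_isAffine (D.map φ).left)))
      (fun j => (Groth.Agent.AlgSpace.isQuasiCompactSp_iff (IsAlgSpace.yon_obj (D.obj j))).2
        (Groth.Agent.AlgSpace.compactSpace_yon_of_affine (D.obj j)))
      (fun j => Groth.Agent.LimSys14.isQuasiSeparatedSp_yon (D.obj j))
      ((yon S).mapCone c) (isLimitOfPreserves (yon S) (isLimitOfReflects (Over.forget S) hc)))
    obtain ⟨A, h1, h2⟩ := he (colimit.ι ((D ⋙ yon S).op ⋙ yoneda.obj Y.obj) (Opposite.op i) y) x
      (by rw [colim_desc]; exact h.symm)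
    obtain ⟨j, xj, rfl⟩ := Types.jointly_surjective' (F := (D ⋙ yon S).op ⋙ yoneda.obj X.obj) A
    rw [colim_nat] at h1
    rw [colim_desc] at h2
    obtain ⟨k, a, b, hab⟩ := (Types.FilteredColimit.colimit_eq_iff _).1 h1
    replace hab : (yon S).map (D.map a.unop) ≫ xj ≫ f.hom = (yon S).map (D.map b.unop) ≫ y := hab
    refine ⟨k.unop, b.unop, (yon S).map (D.map a.unop) ≫ xj, ?_, by rw [Category.assoc, hab]⟩
    rw [← Functor.map_comp_assoc, c.w]
    exact h2

end Groth.Agent.S10077
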