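import Groth.Statements.S10085
import Groth.Agent.Lib.QcohSub14.Supp

set_option autoImplicit false
universe u
open CategoryTheory CategoryTheory.Limits AlgebraicGeometry Opposite
open AlgSp

namespace Groth.Agent.S10085

/-- Let `X` be an algebraic space over a scheme `S`, `j : U ⟶ X` an open subspace whose inclusion is
quasi-compact, `T` the closed subset of points of `X` complementary to the image of `U`, and `F` a
quasi-coherent `O_X`-module on the small etale site of `X`. Then, first, on every affine object `W ⟶
X` of the site the inverse image of `T` is the zero locus of a finitely generated ideal of the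
global functions on `W`; second, the subsheaf of sections of `F` supported on `T` is a
quasi-coherent submodule: there is a monomorphism `F' ⟶ F` with `F'` quasi-coherent whose image over
every affine object `W` is the set of sections `x` of `F` over `W` whose support (the zero locus of
the annihilator ideal of `x` in the global functions on `W`) lies in the inverse image of `T`, and
is also, for any finitely generated ideal `I` of the functions on `W` with zero locus the inverse
image of `T`, the set of sections of `F` over `W` annihilated by some power of `I`. -/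
theorem result {S : Scheme.{u}} (X : AlgSp.Space S)
    (U : AlgSp.Space S) (j : U ⟶ X) (hj : AlgSp.RepWith @IsOpenImmersion j.hom)
    (hjqc : AlgSp.IsQuasiCompactMor j.hom)
    (T : Set (AlgSp.Points X.obj)) (hT : T = (Set.range (AlgSp.Points.map j.hom))ᶜ)
    (F : AlgSp.ModEt X.obj) [F.IsQuasicoherent] :
    (∀ (W : AlgSp.EtOver X.obj), IsAffine W.obj.left.left →
      ∃ I : Ideal Γ(W.obj.left.left, ⊤), I.FG ∧
        W.obj.left.left.zeroLocus (U := ⊤) (I : Set Γ(W.obj.left.left, ⊤)) =
          {w | AlgSp.Points.ofPt W.obj.hom w ∈ T}) ∧
    ∃ (F' : AlgSp.ModEt X.obj) (ι : F' ⟶ F), Mono ι ∧ F'.IsQuasicoherent ∧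
      (∀ (W : AlgSp.EtOver X.obj), IsAffine W.obj.left.left →
        Set.range (ι.val.app (op W)).hom =
          {x : AlgSp.sectModEt F W | W.obj.left.left.zeroLocus (U := ⊤)
              ((AlgSp.annSect x : Ideal Γ(W.obj.left.left, ⊤)) : Set Γ(W.obj.left.left, ⊤)) ⊆
            {w | AlgSp.Points.ofPt W.obj.hom w ∈ T}}) ∧
      ∀ (W : AlgSp.EtOver X.obj), IsAffine W.obj.left.left →
        ∀ I : Ideal Γ(W.obj.left.left, ⊤), I.FG →
          W.obj.left.left.zeroLocus (U := ⊤) (I : Set Γ(W.obj.left.left, ⊤)) =
            {w | AlgSp.Points.ofPt W.obj.hom w ∈ T} →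
          Set.range (ι.val.app (op W)).hom =
            {x : AlgSp.sectModEt F W | ∃ n : ℕ, ∀ a ∈ I ^ n, (AlgSp.upΓ W a) • x = 0} := by
  subst hT
  exact Groth.Agent.QcohSub14.exists_supported X.property
    (Groth.Agent.QcohSub14.isQcClosed_compl_range X.property U.property hj hjqc) F

end Groth.Agent.S10085
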