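import Groth.Statements.S10090
import Groth.Agent.Lib.AlgSpace.Rep

set_option autoImplicit false
universe u
open CategoryTheory CategoryTheory.Limits AlgebraicGeometry
open AlgSp

namespace Groth.Agent.S10090

/-- Let `a : F ⟶ G` be a map of presheaves of sets on schemes over `S` which is representable by
algebraic spaces. Then the relative diagonal `F ⟶ F ×_G F` is representable by algebraic spaces. -/
theorem result (S : Scheme.{u}) (F G : AlgSp.PSp S) (a : F ⟶ G)
    (ha : AlgSp.RepBySp a) : AlgSp.RepBySp (pullback.diagonal a) := by
  exact AlgSpace.repBySp_diagonal a ha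

end Groth.Agent.S10090
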