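import Groth.Statements.S10094
import Groth.Agent.Lib.AlgSpace.Rep

set_option autoImplicit false
universe u
open CategoryTheory CategoryTheory.Limits AlgebraicGeometry
open AlgSp

namespace Groth.Agent.S10094

/-- If `a₁ : F₁ ⟶ G₁` and `a₂ : F₂ ⟶ G₂` are maps of presheaves of sets on schemes over `S`
representable by algebraic spaces, then so is `a₁ × a₂ : F₁ × F₂ ⟶ G₁ × G₂`. -/
theorem result (S : Scheme.{u}) (F₁ G₁ F₂ G₂ : AlgSp.PSp S) (a₁ : F₁ ⟶ G₁) (a₂ : F₂ ⟶ G₂)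
    (h₁ : AlgSp.RepBySp a₁) (h₂ : AlgSp.RepBySp a₂) : AlgSp.RepBySp (prod.map a₁ a₂) := by
  have sq₁ : IsPullback (prod.fst : F₁ ⨯ F₂ ⟶ F₁) (prod.map a₁ (𝟙 F₂)) a₁ (prod.fst : G₁ ⨯ F₂ ⟶ G₁) :=
    AlgSpace.isPullback_prod_map_left a₁ F₂
  have sq₂ : IsPullback (prod.snd : G₁ ⨯ F₂ ⟶ F₂) (prod.map (𝟙 G₁) a₂) a₂ (prod.snd : G₁ ⨯ G₂ ⟶ G₂) :=
    AlgSpace.isPullback_prod_map_right a₂ G₁
  have := AlgSpace.repBySp_comp _ _ (AlgSpace.repBySp_of_isPullback sq₁ h₁)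
    (AlgSpace.repBySp_of_isPullback sq₂ h₂)
  rwa [prod.map_map, Category.comp_id, Category.id_comp] at this

end Groth.Agent.S10094
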