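import Groth.Statements.S10096
import Groth.Agent.Lib.AlgSpace.Bootstrap

set_option autoImplicit false
universe u
open CategoryTheory CategoryTheory.Limits AlgebraicGeometry
open AlgSp

set_option backward.isDefEq.respectTransparency.types false

namespace Groth.Agent.S10096

/-- Let `a : F ⟶ G` be a map of fppf sheaves of sets over `S` that is flat, surjective, locally of
finite presentation and representable by algebraic spaces (every base change `h_U ×_G F ⟶ h_U` to a
scheme is such a morphism of algebraic spaces). Then `a` is surjective as a map of sheaves (an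
epimorphism of fppf sheaves). -/
theorem result (S : Scheme.{u}) (F G : AlgSp.Sp S) (a : F ⟶ G)
    (ha : AlgSp.RepBySpWith (AlgSp.IsSurjectiveMor ⊓ AlgSp.LocP @Flat ⊓ AlgSp.LocP @LocallyOfFinitePresentation) a.hom) :
    Epi a := by
  rw [← CategoryTheory.Sheaf.isLocallySurjective_iff_epi]
  refine Groth.Agent.AlgSpace.isLocallySurjective_of_lifts a fun T g => ?_
  obtain ⟨V, v, l, h₁, h₂, h₃, hl⟩ := Groth.Agent.AlgSpace.exists_flat_cover_lift a ha g
  exact ⟨V, v, l, h₁, h₂, h₃, hl⟩

end Groth.Agent.S10096
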