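import Groth.Statements.S10097
import Groth.Agent.Lib.AlgSpace.Rep

set_option autoImplicit false
universe u
open CategoryTheory CategoryTheory.Limits AlgebraicGeometry
open AlgSp

namespace Groth.Agent.S10097

/-- (1) ⇔ (2): for a presheaf of sets `F` on schemes over `S`, the diagonal `F ⟶ F × F` is representable
by algebraic spaces if and only if every map `h_T ⟶ F` from a scheme `T` over `S` is representable
by algebraic spaces. -/
theorem result (S : Scheme.{u}) (F : AlgSp.PSp S) :
    AlgSp.RepBySp (Limits.diag F) ↔
      ∀ (T : Over S) (ξ : (AlgSp.pyon S).obj T ⟶ F), AlgSp.RepBySp ξ := by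
  exact AlgSpace.repBySp_diag_iff F

end Groth.Agent.S10097
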