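import Groth.Statements.S10100
import Groth.Agent.Lib.AlgSpace.Bootstrap

set_option autoImplicit false
universe u
open CategoryTheory CategoryTheory.Limits AlgebraicGeometry
open AlgSp

set_option backward.isDefEq.respectTransparency.types false

namespace Groth.Agent.S10100

/-- Let `F` be a presheaf of sets on schemes over `S`, `X` a scheme over `S` and `h_X ⟶ F` a map which
is representable by algebraic spaces and locally quasi-finite. Then `h_X ⟶ F` is representable by
schemes. -/
theorem result (S : Scheme.{u}) (F : AlgSp.PSp S) (X : Over S)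
    (p : (AlgSp.pyon S).obj X ⟶ F)
    (hp : AlgSp.RepBySpWith (AlgSp.LocP (@LocallyQuasiFinite ⊓ @LocallyOfFiniteType)) p) :
    (AlgSp.pyon S).relativelyRepresentable p := by
  intro T ξ
  have sq := IsPullback.of_hasPullback p ξ
  obtain ⟨h, hA, hlqf⟩ := hp ξ _ _ sq
  let P : AlgSp.Sp S := ⟨pullback p ξ, h⟩
  let fst : P ⟶ (AlgSp.yon S).obj X := ObjectProperty.homMk (pullback.fst p ξ)
  let snd : P ⟶ (AlgSp.yon S).obj T := ObjectProperty.homMk (pullback.snd p ξ)
  let j : P ⟶ (AlgSp.yon S).obj (T ⨯ X) :=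
    prod.lift snd fst ≫ inv (prodComparison (AlgSp.yon S) T X)
  have hj₁ : j ≫ (AlgSp.yon S).map prod.fst = snd := by
    simp only [j, Category.assoc]
    rw [inv_prodComparison_map_fst, prod.lift_fst]
  have : Mono (prod.lift snd fst) := ⟨fun x y e => by
    apply ObjectProperty.hom_ext
    refine sq.hom_ext ?_ ?_
    · exact congrArg (fun γ : _ ⟶ (AlgSp.yon S).obj X => γ.hom)
        ((by simpa [prod.lift_snd] using e =≫ prod.snd) : x ≫ fst = y ≫ fst)
    · exact congrArg (fun γ : _ ⟶ (AlgSp.yon S).obj T => γ.hom)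
        ((by simpa [prod.lift_fst] using e =≫ prod.fst) : x ≫ snd = y ≫ snd)⟩
  have : Mono j := mono_comp _ _
  have hj : AlgSp.LocP @LocallyOfFiniteType j :=
    Groth.Agent.AlgSpace.locP_of_comp (Q' := @LocallyOfFiniteType) (R := ⊤)
      (fun A B C k l hkl _ => by
        have : LocallyOfFiniteType (k ≫ l) := hkl
        exact locallyOfFiniteType_of_comp k l)
      hA (AlgSp.IsAlgSpace.yon_obj _) (AlgSp.IsAlgSpace.yon_obj T) (g := (AlgSp.yon S).map prod.fst)
      (by rw [hj₁]; exact Groth.Agent.AlgSpace.locP_mono (fun _ _ g hg => hg.2) hlqf)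
      (Groth.Agent.AlgSpace.locP_top _)
  obtain ⟨V, ⟨e⟩⟩ := Groth.Agent.AlgSpace.exists_iso_yon_of_mono_lft hA j hj
  obtain ⟨v, hv⟩ := (AlgSp.yon S).map_surjective (e.hom ≫ snd)
  refine ⟨V, v, (e.hom ≫ fst).hom, ?_⟩
  let e' : (AlgSp.pyon S).obj V ≅ pullback p ξ :=
    (sheafToPresheaf (AlgSp.J S) (Type (u + 1))).mapIso e
  refine IsPullback.of_iso sq e'.symm (Iso.refl _) (Iso.refl _) (Iso.refl _) ?_ ?_ (by simp) (by simp)
  · simp only [Iso.refl_hom, Category.comp_id]
    exact (Iso.eq_inv_comp e').2 rfl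
  · simp only [Iso.refl_hom, Category.comp_id]
    refine (Iso.eq_inv_comp e').2 ?_
    exact (congrArg (fun γ : _ ⟶ (AlgSp.yon S).obj T => γ.hom) hv.symm)

end Groth.Agent.S10100
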