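import Groth.Statements.S10108
import Groth.Agent.Lib.AlgSpace.EtaleSheaf

set_option autoImplicit false
universe u
open CategoryTheory CategoryTheory.Limits AlgebraicGeometry
open AlgSp

set_option backward.isDefEq.respectTransparency.types false

namespace Groth.Agent.S10108

/-- A presheaf of sets on schemes over `S` which is a sheaf for the etale topology, has diagonal
representable by schemes, and receives a representable surjective etale map from a scheme over `S`,
is an algebraic space (in particular an fppf sheaf): algebraic spaces defined with the etale
topology are the same as with the fppf topology. -/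
theorem result (S : Scheme.{u}) (F : AlgSp.PSp S)
    (h1 : Presheaf.IsSheaf (QuotSh.J Scheme.etalePrecoverage S) F)
    (h2 : (AlgSp.pyon S).relativelyRepresentable (Limits.diag F))
    (U : Over S) (p : (AlgSp.pyon S).obj U ⟶ F)
    (h3 : (MorphismProperty.inverseImage @Etale (Over.forget S)).relative (AlgSp.pyon S) p ∧
      (MorphismProperty.inverseImage @Surjective (Over.forget S)).relative (AlgSp.pyon S) p) :
    AlgSp.IsAlgSpaceP F := by
  exact Groth.Agent.AlgSpace.isAlgSpaceP_of_smooth_cover h1 (U := (AlgSp.yon S).obj U)
    (AlgSp.IsAlgSpace.yon_obj U) p (Groth.Agent.AlgSpace.repBySpWith_smooth_of_relative p h3.1 h3.2)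

end Groth.Agent.S10108
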