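import Groth.Statements.S10109
import Groth.Agent.Lib.AlgSpace.EtaleSheaf

set_option autoImplicit false
universe u
open CategoryTheory CategoryTheory.Limits AlgebraicGeometry
open AlgSp

set_option backward.isDefEq.respectTransparency.types false

namespace Groth.Agent.S10109

/-- A presheaf of sets on schemes over `S` which is a sheaf for the etale topology and receives a map
from an algebraic space which is representable by algebraic spaces, surjective and etale, is an
algebraic space (in particular an fppf sheaf). -/
theorem result (S : Scheme.{u}) (F : AlgSp.PSp S)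
    (h1 : Presheaf.IsSheaf (QuotSh.J Scheme.etalePrecoverage S) F) (U : AlgSp.Space S) (p : U.obj.obj ⟶ F)
    (h2 : AlgSp.RepBySpWith (AlgSp.IsSurjectiveMor ⊓ AlgSp.IsEtaleMor) p) :
    AlgSp.IsAlgSpaceP F := by
  exact Groth.Agent.AlgSpace.isAlgSpaceP_of_smooth_cover h1 U.property p
    (Groth.Agent.AlgSpace.repBySpWith_smooth_of_etale h2)

end Groth.Agent.S10109
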