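import Groth.Statements.S10113
import Groth.Agent.Lib.QuotEpi14.Basic

set_option autoImplicit false
universe u
open CategoryTheory CategoryTheory.Limits AlgebraicGeometry
open AlgSp

set_option backward.isDefEq.respectTransparency.types false

namespace Groth.Agent.S10113

/-- Let `s, t : R ⟶ U` be a pre-relation of algebraic spaces, `M` an algebraic space and `U ⟶ M` a
morphism which coequalizes `s, t`, is a surjection of sheaves, and for which `(t, s) : R ⟶ U ×_M U`
is a surjection of sheaves. Then the induced map `U/R ⟶ M` is an isomorphism: `M` represents the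
quotient sheaf. -/
theorem result (S : Scheme.{u}) (R U M : AlgSp.Sp S)
    (hR : AlgSp.IsAlgSpace R) (hU : AlgSp.IsAlgSpace U) (hM : AlgSp.IsAlgSpace M) (s t : R ⟶ U)
    (q : U ⟶ M) (w : s ≫ q = t ≫ q) [Epi q] [Epi (pullback.lift t s w.symm : R ⟶ pullback q q)] :
    IsIso (AlgSp.quotSpDesc q w) := by
  haveI : EffectiveEpi q := (isRegularEpi_iff_effectiveEpi q).1 (IsRegularEpiCategory.regularEpiOfEpi q)
  exact QuotEpi14.isIso_coequalizerDesc s t q w (IsPullback.of_hasPullback q q)
    (pullback.lift t s w.symm) (pullback.lift_fst _ _ _) (pullback.lift_snd _ _ _)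

end Groth.Agent.S10113
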