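import Groth.Statements.S10116
import Groth.Agent.Lib.AlgSpace.GroupDiag
import Groth.Agent.Lib.AlgSpace.QC

set_option autoImplicit false
universe u
open CategoryTheory CategoryTheory.Limits AlgebraicGeometry MonoidalCategory MonObj
open AlgSp

set_option backward.isDefEq.respectTransparency.types false

namespace Groth.Agent.S10116

/-- Let `G` be a group algebraic space over an algebraic space `B` with unit `e : B ⟶ G`. Then `G ⟶ B`
is separated if and only if `e` is a closed immersion, quasi-separated if and only if `e` is
quasi-compact, and if `G ⟶ B` is locally separated then `e` is an immersion. (The published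
statement makes the last part an equivalence as well; this row states only that a locally separated
`G ⟶ B` has `e` an immersion.) -/
theorem result (S : Scheme.{u}) (B : AlgSp.Sp S) (hB : AlgSp.IsAlgSpace B)
    (G : Over B) [GrpObj G] (hG : AlgSp.IsAlgSpace G.left) :
    (AlgSp.IsSeparatedMor G.hom ↔ AlgSp.RepWith @IsClosedImmersion (η[G]).left) ∧
      (AlgSp.IsQuasiSeparatedMor G.hom ↔ AlgSp.IsQuasiCompactMor (η[G]).left) ∧
      (AlgSp.IsLocallySeparatedMor G.hom → AlgSp.RepWith @IsImmersion (η[G]).left) := by
  have sq₁ := Groth.Agent.AlgSpace.isPullback_section G.hom (η[G]).left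
    (Groth.Agent.AlgSpace.one_left_comp_hom G)
  obtain ⟨ψ, sq₂⟩ := Groth.Agent.AlgSpace.exists_isPullback_diagonal_one G
  have hd : AlgSp.Representable (pullback.diagonal G.hom) :=
    Groth.Agent.AlgSpace.representable_diagonal hG G.hom
  have he : AlgSp.Representable (η[G]).left := Groth.Agent.AlgSpace.representable_of_isPullback sq₁ hd
  have hq := Groth.Agent.AlgSpace.repWith_quasiCompact_iff hB hG he
  refine ⟨⟨fun h => Groth.Agent.AlgSpace.repWith_of_isPullback sq₁ h,
    fun h => Groth.Agent.AlgSpace.repWith_of_isPullback sq₂ h⟩,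
    ⟨fun h => hq.1 (Groth.Agent.AlgSpace.repWith_of_isPullback sq₁ h),
      fun h => Groth.Agent.AlgSpace.repWith_of_isPullback sq₂ (hq.2 h)⟩,
    fun h => Groth.Agent.AlgSpace.repWith_of_isPullback sq₁ h⟩

end Groth.Agent.S10116
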