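import Groth.Statements.S10117
import Groth.Agent.Lib.AlgSpace.Space
import Mathlib.CategoryTheory.Monoidal.Cartesian.Grp

set_option autoImplicit false
universe u
open CategoryTheory CategoryTheory.Limits AlgebraicGeometry MonoidalCategory MonObj
open AlgSp AlgSp.GAction

set_option backward.isDefEq.respectTransparency.types false

namespace Groth.Agent.S10117

/-- If a group algebraic space `G` over `B` acts freely on an algebraic space `X` over `B`, then `G ×_B
X ⟶ X ×_B X`, `(g, x) ↦ (g x, x)`, is a monomorphism. (The published statement is an equivalence;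
this row states only the direction from free to monomorphism.) -/
theorem result (S : Scheme.{u}) (B : AlgSp.Sp S) (hB : AlgSp.IsAlgSpace B)
    (G X : Over B) [GrpObj G] (hG : AlgSp.IsAlgSpace G.left) (hX : AlgSp.IsAlgSpace X.left)
    (a : AlgSp.GAction G X) (ha : a.IsFree) :
    Mono (CartesianMonoidalCategory.lift a.act (CartesianMonoidalCategory.snd G X)).left := by
  refine Groth.Agent.AlgSpace.mono_of_yon _ fun T p q e => ?_
  let β : (AlgSp.yon S).obj T ⟶ B := p ≫ (G ⊗ X).hom
  let l := CartesianMonoidalCategory.lift a.act (CartesianMonoidalCategory.snd G X)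
  have hq : q ≫ (G ⊗ X).hom = β := by
    have h := Over.w l
    change q ≫ (G ⊗ X).hom = p ≫ (G ⊗ X).hom
    rw [← h, ← Category.assoc, ← Category.assoc, e]
  let P : Over.mk β ⟶ G ⊗ X := Over.homMk p rfl
  let Q : Over.mk β ⟶ G ⊗ X := Over.homMk q hq
  have el : P ≫ l = Q ≫ l := Over.OverMorphism.ext e
  have ea := el =≫ CartesianMonoidalCategory.fst _ _
  have es := el =≫ CartesianMonoidalCategory.snd _ _
  simp only [l, Category.assoc, CartesianMonoidalCategory.lift_fst,
    CartesianMonoidalCategory.lift_snd] at ea es
  let g := P ≫ CartesianMonoidalCategory.fst _ _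
  let g' := Q ≫ CartesianMonoidalCategory.fst _ _
  let x := P ≫ CartesianMonoidalCategory.snd _ _
  have hP : P = CartesianMonoidalCategory.lift g x :=
    CartesianMonoidalCategory.hom_ext _ _ (by simp [g]) (by simp [x])
  have hQ : Q = CartesianMonoidalCategory.lift g' x :=
    CartesianMonoidalCategory.hom_ext _ _ (by simp [g']) (by simp [x, es])
  have assoc : ∀ m n : Over.mk β ⟶ G, CartesianMonoidalCategory.lift (m * n) x ≫ a.act =
      CartesianMonoidalCategory.lift m (CartesianMonoidalCategory.lift n x ≫ a.act) ≫ a.act := by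
    intro m n
    have h := congrArg (CartesianMonoidalCategory.lift (CartesianMonoidalCategory.lift m n) x ≫ ·) a.mul_act
    rw [CategoryTheory.Hom.mul_def]
    simpa using h
  have one : CartesianMonoidalCategory.lift (1 : Over.mk β ⟶ G) x ≫ a.act = x := by
    have h := congrArg (CartesianMonoidalCategory.lift (CartesianMonoidalCategory.toUnit _) x ≫ ·) a.one_act
    rw [CategoryTheory.Hom.one_def]
    simpa using h
  rw [hP, hQ] at ea
  have key := ha β (g'⁻¹ * g) x (by rw [assoc, ea, ← assoc, inv_mul_cancel, one])
  rw [← CategoryTheory.Hom.one_def, inv_mul_eq_one] at key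
  have : P = Q := by rw [hP, hQ, key]
  exact congrArg (fun f : Over.mk β ⟶ G ⊗ X => f.left) this

end Groth.Agent.S10117
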