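import Groth.Statements.S10118
import Groth.Agent.Lib.GrpLocus14.Basic

set_option autoImplicit false
universe u
open CategoryTheory CategoryTheory.Limits AlgebraicGeometry MonoidalCategory MonObj
open AlgSp AlgSp.GAction

namespace Groth.Agent.S10118

/-- Let `X` be a pseudo-torsor under a group algebraic space `G` over an algebraic space `B`, where both
`G` and `X` are locally of finite type over `B`. Whenever `G ⟶ B` is unramified, `X ⟶ B` is
unramified too; likewise, local quasi-finiteness passes from `G ⟶ B` to `X ⟶ B`. -/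
theorem result (S : Scheme.{u}) (B : AlgSp.Sp S) (hB : AlgSp.IsAlgSpace B)
    (G X : Over B) [GrpObj G] (hG : AlgSp.IsAlgSpace G.left) (hX : AlgSp.IsAlgSpace X.left)
    (a : AlgSp.GAction G X) (ha : a.IsPseudoTorsor)
    (hGt : AlgSp.LocP @LocallyOfFiniteType G.hom) (hXt : AlgSp.LocP @LocallyOfFiniteType X.hom) :
    (AlgSp.LocP (@LocallyOfFiniteType ⊓ @FormallyUnramified) G.hom →
        AlgSp.LocP (@LocallyOfFiniteType ⊓ @FormallyUnramified) X.hom) ∧
      (AlgSp.LocP (@LocallyQuasiFinite ⊓ @LocallyOfFiniteType) G.hom →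
        AlgSp.LocP (@LocallyQuasiFinite ⊓ @LocallyOfFiniteType) X.hom) := by
  exact ⟨Groth.Agent.GrpLocus14.locP_of_isPseudoTorsor (Groth.Agent.GrpLocus14.bcInv_unr S) hB G hG hGt hX a ha hXt,
    Groth.Agent.GrpLocus14.locP_of_isPseudoTorsor (Groth.Agent.GrpLocus14.bcInv_lqf S) hB G hG hGt hX a ha hXt⟩

end Groth.Agent.S10118
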