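import Groth.Statements.S10119
import Groth.Agent.Lib.GrpScheme14.Basic

set_option autoImplicit false
universe u
open CategoryTheory CategoryTheory.Limits AlgebraicGeometry MonoidalCategory MonObj
open AlgSp

namespace Groth.Agent.S10119

/-- Let `k` be a field with algebraic closure `k̄` and `G` a separated group algebraic space over `k`.
Then `G_{k̄}` is a scheme. -/
theorem result (k : Type u) [Field k]
    (G : Over ((AlgSp.yon (Spec (CommRingCat.of k))).obj (Over.mk (𝟙 _)))) [GrpObj G]
    (hG : AlgSp.IsAlgSpace G.left) (hsep : AlgSp.IsSeparatedSp G.left) :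
    (G.left ⨯ ((AlgSp.yon (Spec (CommRingCat.of k))).obj (Over.mk (Spec.map (CommRingCat.ofHom (algebraMap k (AlgebraicClosure k))))))).obj.IsRepresentable := by
  exact Groth.Agent.GrpScheme14.rep_bc_of_group G hG (Groth.Agent.AlgSpace.repWith_mono (fun _ _ u (_ : IsClosedImmersion u) => (inferInstance : QuasiCompact u)) hsep)

end Groth.Agent.S10119
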