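import Groth.Statements.S1012
import Groth.Agent.Lib.CountD9.Hocolim

set_option autoImplicit false
set_option linter.style.haveILetI false
set_option backward.isDefEq.respectTransparency false
universe u
open CategoryTheory CategoryTheory.Limits AlgebraicGeometry
attribute [local instance] HasDerivedCategory.standard
open Opposite
open Perf

namespace Groth.Agent.S1012

/-- Let the scheme X be quasi-compact and quasi-separated, with O_X(U) countable for every affine open
U, and let K ∈ D(O_X) have quasi-coherent cohomology sheaves. Assuming countable direct sums exist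
in D(O_X) (they do), K is a homotopy colimit of a sequence of perfect objects if and only if every
cohomology sheaf Hⁱ(K) has countably many sections over every affine open. -/
theorem result (X : Scheme.{u}) [CompactSpace ↥X] [QuasiSeparatedSpace ↥X]
    (hX : ∀ U : X.Opens, IsAffineOpen U → Countable (X.presheaf.obj (op U)))
    [HasColimitsOfShape (Discrete ℕ) (DCoh.D X)]
    (K : DCoh.D X) (hK : DCoh.IsQCohD K) :
    (∃ (E : ℕ → DCoh.D X) (f : ∀ n, E n ⟶ E (n + 1)) (i : ∀ n, E n ⟶ K),
      (∀ n, DCoh.IsPerfect (E n)) ∧ DerLim.IsHocolim E f K i) ↔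
    ∀ (U : X.Opens), IsAffineOpen U → ∀ i : ℤ, Countable ((DCoh.HD K i).val.obj (op U)) := by
  refine ⟨?_, fun h => CountD9.exists_isHocolim hX hK h⟩
  rintro ⟨E, f, i, hE, hL⟩
  exact CountD9.csec_of_isHocolim hX hK E f i hE hL

end Groth.Agent.S1012
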