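import Groth.Statements.S10122
import Groth.Agent.Lib.AlgSpace.GroupoidCalc
import Groth.Agent.Lib.AlgSpace.MorDiag
import Groth.Agent.Lib.AlgSpace.QC

set_option autoImplicit false
universe u
open CategoryTheory CategoryTheory.Limits AlgebraicGeometry
open AlgSp AlgSp.GroupoidSp

namespace Groth.Agent.S10122
open Groth.Agent.AlgSpace

set_option backward.isDefEq.respectTransparency.types false

variable {S : Scheme.{u}} {B : Sp S} (G : GroupoidSp B) (eG : G.U ⟶ G.stabilizer)
  (heG : eG ≫ G.stabilizerι = G.e)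

theorem j₁ : G.j ≫ pullback.fst G.pU G.pU = G.t := pullback.lift_fst _ _ _

theorem j₂ : G.j ≫ pullback.snd G.pU G.pU = G.s := pullback.lift_snd _ _ _

theorem d₁ : G.diag ≫ pullback.fst G.pU G.pU = 𝟙 G.U := pullback.lift_fst _ _ _

theorem d₂ : G.diag ≫ pullback.snd G.pU G.pU = 𝟙 G.U := pullback.lift_snd _ _ _

theorem stab_s : G.stabilizerι ≫ G.s = G.stabilizerToU := by
  have h := congrArg (· ≫ pullback.snd G.pU G.pU) (pullback.condition (f := G.j) (g := G.diag))
  simp only [Category.assoc, j₂, d₂, Category.comp_id] at h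
  exact h

include heG in
theorem eG_toU : eG ≫ G.stabilizerToU = 𝟙 G.U := by
  rw [← stab_s, ← Category.assoc, heG, G.e_s]

theorem eq_of_cmp {T : Sp S} (α β : T ⟶ G.R) (hts : α ≫ G.s = β ≫ G.s) (htt : α ≫ G.t = β ≫ G.t)
    (hg : cmp G (β ≫ G.i) α (by rw [Category.assoc, G.i_s, htt]) = α ≫ G.s ≫ G.e) : α = β := by
  calc α = cmp G (β ≫ G.t ≫ G.e) α (by rw [Category.assoc β, Category.assoc G.t, G.e_s, Category.comp_id, htt]) := by
        exact (cmp_id_left (by rw [← Category.assoc, ← htt, Category.assoc]) _).symm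
    _ = cmp G (cmp G β (β ≫ G.i) (by rw [Category.assoc, G.i_t])) α (by
          rw [cmp_s, Category.assoc, G.i_s, htt]) := cmp_congr (cmp_inv_right β).symm rfl _
    _ = cmp G β (cmp G (β ≫ G.i) α (by rw [Category.assoc, G.i_s, htt])) (by
          rw [cmp_t, Category.assoc, G.i_t]) :=
        cmp_assoc _ _ _ (by rw [Category.assoc, G.i_t]) (by rw [Category.assoc, G.i_s, htt])
    _ = cmp G β (β ≫ G.s ≫ G.e) (by rw [Category.assoc β, Category.assoc G.s, G.e_t, Category.comp_id]) :=
        cmp_congr rfl (by rw [hg, ← Category.assoc, hts, Category.assoc]) _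
    _ = β := cmp_id_right rfl _

include heG in
theorem exists_isPullback_diag_j : ∃ ψ : pullback G.j G.j ⟶ G.stabilizer,
    IsPullback G.s (pullback.diagonal G.j) eG ψ := by
  let a := pullback.fst G.j G.j
  let b := pullback.snd G.j G.j
  have ht : a ≫ G.t = b ≫ G.t := by
    have h := congrArg (· ≫ pullback.fst G.pU G.pU) (pullback.condition (f := G.j) (g := G.j))
    simp only [Category.assoc, j₁] at h
    exact h
  have hs : a ≫ G.s = b ≫ G.s := by
    have h := congrArg (· ≫ pullback.snd G.pU G.pU) (pullback.condition (f := G.j) (g := G.j))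
    simp only [Category.assoc, j₂] at h
    exact h
  have hc : (b ≫ G.i) ≫ G.s = a ≫ G.t := by rw [Category.assoc, G.i_s, ht]
  let γ := cmp G (b ≫ G.i) a hc
  have hγs : γ ≫ G.s = a ≫ G.s := cmp_s _ _ _
  have hγt : γ ≫ G.t = a ≫ G.s := by rw [cmp_t, Category.assoc, G.i_t, hs]
  let ψ : pullback G.j G.j ⟶ G.stabilizer := pullback.lift γ (a ≫ G.s) (by
    apply pullback.hom_ext
    · rw [Category.assoc, Category.assoc, j₁, d₁, hγt, Category.comp_id]
    · rw [Category.assoc, Category.assoc, j₂, d₂, hγs, Category.comp_id])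
  have hψι : ψ ≫ G.stabilizerι = γ := pullback.lift_fst _ _ _
  have hψU : ψ ≫ G.stabilizerToU = a ≫ G.s := pullback.lift_snd _ _ _
  have hΔa : pullback.diagonal G.j ≫ a = 𝟙 G.R := pullback.diagonal_fst _
  have hΔb : pullback.diagonal G.j ≫ b = 𝟙 G.R := pullback.diagonal_snd _
  have w : G.s ≫ eG = pullback.diagonal G.j ≫ ψ := by
    refine pullback.hom_ext ?_ ?_
    · change (G.s ≫ eG) ≫ G.stabilizerι = (pullback.diagonal G.j ≫ ψ) ≫ G.stabilizerι
      rw [Category.assoc, heG, Category.assoc, hψι, cmp_nat,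
        cmp_congr (show pullback.diagonal G.j ≫ b ≫ G.i = 𝟙 G.R ≫ G.i by rw [← Category.assoc, hΔb]) hΔa,
        cmp_inv_left, Category.id_comp]
    · change (G.s ≫ eG) ≫ G.stabilizerToU = (pullback.diagonal G.j ≫ ψ) ≫ G.stabilizerToU
      rw [Category.assoc, eG_toU G eG heG, Category.comp_id, Category.assoc, hψU, ← Category.assoc,
        hΔa, Category.id_comp]
  have key : ∀ c : PullbackCone eG ψ, c.snd ≫ a = c.snd ≫ b ∧ c.fst = (c.snd ≫ a) ≫ G.s := by
    intro c
    have h₁ := congrArg (· ≫ G.stabilizerι) c.condition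
    have h₂ := congrArg (· ≫ G.stabilizerToU) c.condition
    simp only [Category.assoc, heG, hψι, hψU, eG_toU G eG heG, Category.comp_id] at h₁ h₂
    rw [← Category.assoc] at h₂
    refine ⟨?_, h₂⟩
    set α := c.snd ≫ a
    set β := c.snd ≫ b
    have hts : α ≫ G.s = β ≫ G.s := by simp only [α, β, Category.assoc, hs]
    have htt : α ≫ G.t = β ≫ G.t := by simp only [α, β, Category.assoc, ht]
    have hg : cmp G (β ≫ G.i) α (by rw [Category.assoc, G.i_s, htt]) = α ≫ G.s ≫ G.e := by
      refine Eq.trans ?_ ((h₁.symm.trans (congrArg (· ≫ G.e) h₂)).trans (Category.assoc _ _ _))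
      rw [cmp_nat]
      exact cmp_congr (Category.assoc _ _ _) rfl _
    exact eq_of_cmp G α β hts htt hg
  refine ⟨ψ, ⟨⟨w⟩, ⟨PullbackCone.IsLimit.mk w (fun c => c.snd ≫ a) ?_ ?_ ?_⟩⟩⟩
  · exact fun c => (key c).2.symm
  · intro c
    refine pullback.hom_ext ?_ ?_
    · rw [Category.assoc, pullback.diagonal_fst, Category.comp_id]
    · rw [Category.assoc, pullback.diagonal_snd, Category.comp_id]
      exact (key c).1
  · intro c m h₁ h₂
    rw [← h₂, Category.assoc, hΔa, Category.comp_id]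

include heG in
theorem main (hB : IsAlgSpace B) (hU : IsAlgSpace G.U) (hR : IsAlgSpace G.R) :
    ((IsSeparatedMor G.j ↔ IsSeparatedMor G.stabilizerToU) ∧
        (IsSeparatedMor G.j ↔ RepWith @IsClosedImmersion eG)) ∧
      ((IsQuasiSeparatedMor G.j ↔ IsQuasiSeparatedMor G.stabilizerToU) ∧
        (IsQuasiSeparatedMor G.j ↔ IsQuasiCompactMor eG)) ∧
      ((IsLocallySeparatedMor G.j → RepWith @IsImmersion eG) ∧
        (IsLocallySeparatedMor G.stabilizerToU → RepWith @IsImmersion eG)) := by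
  obtain ⟨ψ, sqC⟩ := exists_isPullback_diag_j G eG heG
  have sqA := isPullback_diagonal_baseChange (IsPullback.of_hasPullback G.j G.diag)
  have sqB := isPullback_section G.stabilizerToU eG (eG_toU G eG heG)
  have hUU : IsAlgSpace (pullback G.pU G.pU) :=
    isAlgSpace_pullback hB hU hU (IsPullback.of_hasPullback _ _)
  have hSt : IsAlgSpace G.stabilizer :=
    isAlgSpace_pullback hUU hR hU (IsPullback.of_hasPullback G.j G.diag)
  have hrep : Representable eG := (repWith_of_isPullback (P := ⊤) sqB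
    ⟨representable_diagonal hSt G.stabilizerToU, fun _ _ _ _ _ _ => trivial⟩).1
  have cyc : ∀ (P : MorphismProperty Scheme.{u}) [P.IsStableUnderBaseChange],
      (RepWith P (pullback.diagonal G.j) → RepWith P (pullback.diagonal G.stabilizerToU)) ∧
      (RepWith P (pullback.diagonal G.stabilizerToU) → RepWith P eG) ∧
      (RepWith P eG → RepWith P (pullback.diagonal G.j)) := fun P _ =>
    ⟨fun h => repWith_of_isPullback sqA h, fun h => repWith_of_isPullback sqB h,
      fun h => repWith_of_isPullback sqC h⟩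
  obtain ⟨c₁, c₂, c₃⟩ := cyc @IsClosedImmersion
  obtain ⟨q₁, q₂, q₃⟩ := cyc @QuasiCompact
  have : MorphismProperty.IsStableUnderBaseChange (@IsImmersion : MorphismProperty Scheme.{u}) := inferInstance
  obtain ⟨i₁, i₂, i₃⟩ := cyc @IsImmersion
  have hq := repWith_quasiCompact_iff hU hSt hrep
  exact ⟨⟨⟨c₁, fun h => c₃ (c₂ h)⟩, ⟨fun h => c₂ (c₁ h), c₃⟩⟩,
    ⟨⟨q₁, fun h => q₃ (q₂ h)⟩, ⟨fun h => hq.1 (q₂ (q₁ h)), fun h => q₃ (hq.2 h)⟩⟩,
    fun h => i₂ (i₁ h), i₂⟩


/-- Let `(U, R, s, t, c)` be a groupoid in algebraic spaces over `B` with stabilizer `G ⟶ U` and unit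
section `e : U ⟶ G`. Then (1) `j : R ⟶ U ×_B U` is separated iff `G ⟶ U` is separated iff `e` is a
closed immersion; (3) `j` is quasi-separated iff `G ⟶ U` is quasi-separated iff `e` is
quasi-compact; (2) if `j` or `G ⟶ U` is locally separated then `e` is an immersion. The unit section
is written as any morphism `U ⟶ G` lifting the identity `e : U ⟶ R` of the groupoid. (The published
part (2) is a three-way equivalence; this row states only that `j` locally separated, or `G ⟶ U`
locally separated, implies that `e` is an immersion.) -/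
theorem result (S : Scheme.{u}) (B : AlgSp.Sp S) (hB : AlgSp.IsAlgSpace B)
    (G : AlgSp.GroupoidSp B) (hU : AlgSp.IsAlgSpace G.U) (hR : AlgSp.IsAlgSpace G.R)
    (eG : G.U ⟶ G.stabilizer) (heG : eG ≫ G.stabilizerι = G.e) :
    ((AlgSp.IsSeparatedMor G.j ↔ AlgSp.IsSeparatedMor G.stabilizerToU) ∧
        (AlgSp.IsSeparatedMor G.j ↔ AlgSp.RepWith @IsClosedImmersion eG)) ∧
      ((AlgSp.IsQuasiSeparatedMor G.j ↔ AlgSp.IsQuasiSeparatedMor G.stabilizerToU) ∧
        (AlgSp.IsQuasiSeparatedMor G.j ↔ AlgSp.IsQuasiCompactMor eG)) ∧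
      ((AlgSp.IsLocallySeparatedMor G.j → AlgSp.RepWith @IsImmersion eG) ∧
        (AlgSp.IsLocallySeparatedMor G.stabilizerToU → AlgSp.RepWith @IsImmersion eG)) := by
  exact main G eG heG hB hU hR

end Groth.Agent.S10122
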