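import Groth.Statements.S10127
import Groth.Agent.S10116
import Groth.Agent.Lib.AlgSpace.QCQS
import Groth.Agent.Lib.AlgSpDecent.ClosedPoints

set_option autoImplicit false
universe u
open CategoryTheory CategoryTheory.Limits AlgebraicGeometry MonoidalCategory MonObj
open AlgSp

namespace Groth.Agent.S10127


theorem isClosedImmersion_unit (k : Type u) [Field k] (F : AlgSp.Sp (Spec (CommRingCat.of k)))
    (hF : AlgSp.IsAlgSpace F) (hd : AlgSp.IsDecent F)
    (e : (AlgSp.yon (Spec (CommRingCat.of k))).obj (Over.mk (𝟙 _)) ⟶ F) :
    AlgSp.RepWith @IsClosedImmersion e := by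
  let s : ↥(Spec (CommRingCat.of k)) := IsLocalRing.closedPoint k
  have hs : IsClosed ({s} : Set ↥(Spec (CommRingCat.of k))) := by
    have h : ({s} : Set ↥(Spec (CommRingCat.of k))) = Set.univ :=
      Set.eq_univ_of_forall (fun x => (Subsingleton.elim x s : x = s))
    rw [h]
    exact isClosed_univ
  have hi : IsIso ((Spec (CommRingCat.of k)).fromSpecResidueField s) := by
    have : IsClosedImmersion ((Spec (CommRingCat.of k)).fromSpecResidueField s) := by
      refine IsClosedImmersion.of_isPreimmersion _ ?_
      rw [Scheme.range_fromSpecResidueField]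
      exact hs
    have : IsReduced (Spec (CommRingCat.of k)) := inferInstance
    have : Surjective ((Spec (CommRingCat.of k)).fromSpecResidueField s) :=
      ⟨fun x => ⟨IsLocalRing.closedPoint _, Subsingleton.elim _ _⟩⟩
    exact isIso_of_isClosedImmersion_of_surjective _
  let φ : (Spec (CommRingCat.of k)).residueField s ⟶ CommRingCat.of k :=
    Spec.preimage (inv ((Spec (CommRingCat.of k)).fromSpecResidueField s))
  have hφ : Spec.map φ = inv ((Spec (CommRingCat.of k)).fromSpecResidueField s) :=
    Spec.map_preimage _
  have hφi : IsIso φ := by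
    have : IsIso (Scheme.Spec.map φ.op) := by
      change IsIso (Spec.map φ)
      rw [hφ]
      infer_instance
    have := isIso_of_reflects_iso φ.op Scheme.Spec
    exact isIso_of_op φ
  have hb : Function.Bijective φ.hom := ConcreteCategory.bijective_of_isIso φ
  let j : Over.mk (Spec.map φ ≫ (Spec (CommRingCat.of k)).fromSpecResidueField s) ≅
      Over.mk (𝟙 (Spec (CommRingCat.of k))) := Over.isoMk (Iso.refl _) (by simp [hφ])
  have h := Groth.Agent.AlgSpDecent.isClosedImmersion_repWith_point hF hd hs
    ((AlgSp.yon (Spec (CommRingCat.of k))).map j.hom ≫ e) hb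
  rwa [Groth.Agent.AlgSpace.repWith_respectsIso_left] at h

/-- A group algebraic space over a field `k` which is a decent algebraic space is separated. (The
published situation allows any base scheme `S` with `k` a field over `S`; this row takes `S = Spec
k`.) -/
theorem result (k : Type u) [Field k]
    (G : Over ((AlgSp.yon (Spec (CommRingCat.of k))).obj (Over.mk (𝟙 _)))) [GrpObj G]
    (hG : AlgSp.IsAlgSpace G.left) (hd : AlgSp.IsDecent G.left) : AlgSp.IsSeparatedSp G.left := by
  have he := isClosedImmersion_unit k G.left hG hd (η[G]).left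
  have h := (Groth.Agent.S10116.result _ _ (AlgSp.IsAlgSpace.yon_obj _) G hG).1.2 he
  have e : G.hom = Groth.Agent.AlgSpace.toBase G.left :=
    Groth.Agent.AlgSpace.isTerminalBase.hom_ext _ _
  rw [AlgSp.IsSeparatedMor, e] at h
  exact Groth.Agent.AlgSpace.repWith_diag_of_diagonal_toBase h

end Groth.Agent.S10127
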