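import Groth.Statements.S10128
import Groth.Agent.Lib.AlgSpace.QCQS
import Groth.Agent.Lib.AlgSpDecent.ClosedPoints
import Groth.Agent.Lib.AlgSpDecent.MonoPointApps

set_option autoImplicit false
universe u
open CategoryTheory CategoryTheory.Limits AlgebraicGeometry
open AlgSp AlgSp.GroupoidSp

namespace Groth.Agent.S10128


theorem isClosedImmersion_section {S : Scheme.{u}} {F : AlgSp.Sp S} (hX : AlgSp.IsAlgSpace F)
    (h : AlgSp.IsDecent F) {k : Type u} [Field k] {σ : Spec (CommRingCat.of k) ⟶ S}
    (p : (AlgSp.yon S).obj (Over.mk σ) ⟶ F) (r : F ⟶ (AlgSp.yon S).obj (Over.mk σ))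
    (hr : p ≫ r = 𝟙 _) : AlgSp.RepWith @IsClosedImmersion p := by
  have := Groth.Agent.FpqcDesc.descendsAlong_isFinite.{u}
  have := Groth.Agent.AlgSpace.isLocalAtTarget_fppf (@IsFinite : MorphismProperty Scheme.{u})
  have : Mono p := mono_of_mono_fac (h := 𝟙 _) hr
  have hfin : AlgSp.RepWith @IsFinite p := by
    refine Groth.Agent.AlgSpDecent.repWith_of_affine_charts hX
      (Functor.relativelyRepresentable.of_diag hX.diag p) fun {U W} hU ψ hψ fst a sq => ?_
    obtain ⟨c, rfl⟩ := (AlgSp.yon S).map_surjective fst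
    obtain ⟨t, ht⟩ := (AlgSp.yon S).map_surjective (ψ ≫ r)
    have hc : IsFinite c.left := Groth.Agent.AlgSpDecent.isFinite_snd_point h p hψ sq.flip
    have e : a ≫ t = c := (AlgSp.yon S).map_injective (by
      rw [Functor.map_comp, ht, ← sq.w_assoc, hr, Category.comp_id])
    have : IsFinite (a.left ≫ t.left) := by
      rw [← Over.comp_left, e]
      exact hc
    have : IsSeparated t.left := inferInstance
    exact IsFinite.of_comp a.left t.left
  refine ⟨hfin.1, fun U W g fst a sq => ?_⟩
  have : IsFinite a.left := hfin.2 g _ _ sq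
  have : Mono ((AlgSp.yon S).map a) := sq.mono_snd_of_mono
  have := Groth.Agent.AlgSpDecent.mono_left a
  exact (IsClosedImmersion.iff_isFinite_and_mono _).2 ⟨‹_›, ‹_›⟩

theorem exists_isPullback_diagonal_e {S : Scheme.{u}} {B : AlgSp.Sp S} (G : AlgSp.GroupoidSp B) :
    ∃ ψ : pullback G.s G.s ⟶ G.R, IsPullback G.t (pullback.diagonal G.s) G.e ψ := by
  let P := pullback G.s G.s
  have h₀ : pullback.fst G.s G.s ≫ G.s = (pullback.snd G.s G.s ≫ G.i) ≫ G.t := by
    rw [Category.assoc, G.i_t, pullback.condition]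
  let ψ : P ⟶ G.R := pullback.lift (pullback.fst G.s G.s) (pullback.snd G.s G.s ≫ G.i) h₀ ≫ G.c
  have ev : ∀ {T : AlgSp.Sp S} (z : T ⟶ P) (α β : T ⟶ G.R) (hα : z ≫ pullback.fst _ _ = α)
      (hβ : z ≫ pullback.snd _ _ = β), ∃ h : α ≫ G.s = (β ≫ G.i) ≫ G.t,
      z ≫ ψ = pullback.lift α (β ≫ G.i) h ≫ G.c := by
    intro T z α β hα hβ
    refine ⟨by rw [Category.assoc, G.i_t, ← hα, ← hβ, Category.assoc, Category.assoc,
      pullback.condition], ?_⟩
    have hz : z ≫ pullback.lift (pullback.fst G.s G.s) (pullback.snd G.s G.s ≫ G.i) h₀ =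
        pullback.lift α (β ≫ G.i) (by rw [Category.assoc, G.i_t, ← hα, ← hβ, Category.assoc,
          Category.assoc, pullback.condition]) := by
      apply pullback.hom_ext
      · rw [Category.assoc, pullback.lift_fst, pullback.lift_fst, hα]
      · rw [Category.assoc, pullback.lift_snd, pullback.lift_snd, ← Category.assoc, hβ]
    exact (Category.assoc _ _ _).symm.trans (congrArg (· ≫ G.c) hz)
  refine ⟨ψ, IsPullback.of_isLimit (PullbackCone.IsLimit.mk ?_
    (fun c => c.snd ≫ pullback.fst _ _) ?_ ?_ ?_)⟩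
  · change G.t ≫ G.e = pullback.diagonal G.s ≫ ψ
    obtain ⟨h, e⟩ := ev (pullback.diagonal G.s) (𝟙 _) (𝟙 _) (pullback.diagonal_fst _)
      (pullback.diagonal_snd _)
    refine ((G.comp_i (𝟙 G.R)).trans (Category.id_comp _)).symm.trans (e.trans ?_).symm
    congr 1
  · intro c
    obtain ⟨h, e⟩ := ev c.snd _ _ rfl rfl
    have he : c.fst ≫ G.e = c.snd ≫ ψ := c.condition
    rw [e] at he
    have := congrArg (· ≫ G.t) he
    simp only [Category.assoc, G.e_t, Category.comp_id] at this
    exact (this.trans ((Category.assoc _ _ _).symm.trans (G.comp_t _ _ h))).symm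
  · intro c
    set α := c.snd ≫ pullback.fst G.s G.s with hα
    set β := c.snd ≫ pullback.snd G.s G.s with hβ
    obtain ⟨h, e⟩ := ev c.snd α β rfl rfl
    have he : c.fst ≫ G.e = pullback.lift α (β ≫ G.i) h ≫ G.c := c.condition.trans e
    have hu : c.fst = (β ≫ G.i) ≫ G.s := by
      have := congrArg (· ≫ G.s) he
      simp only [Category.assoc, G.e_s, Category.comp_id] at this
      exact this.trans ((Category.assoc _ _ _).symm.trans (G.comp_s _ _ h))
    have hu' : c.fst = β ≫ G.t := by rw [hu, Category.assoc, G.i_s]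
    have h₂ : (β ≫ G.i) ≫ G.s = β ≫ G.t := by rw [Category.assoc, G.i_s]
    have hs' : α ≫ G.s = β ≫ G.s := by
      rw [hα, hβ, Category.assoc, Category.assoc, pullback.condition]
    have hA := G.assoc α (β ≫ G.i) β h h₂
    have hl : pullback.lift (pullback.lift α (β ≫ G.i) h ≫ G.c) β
        ((G.comp_s α (β ≫ G.i) h).trans h₂) ≫ G.c = β := by
      refine (Eq.trans ?_ (G.e_comp β))
      congr 1
      apply pullback.hom_ext
      · simp only [pullback.lift_fst]
        rw [← he, hu', Category.assoc]
      · simp only [pullback.lift_snd]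
    have hr : pullback.lift α (pullback.lift (β ≫ G.i) β h₂ ≫ G.c)
        (h.trans (G.comp_t (β ≫ G.i) β h₂).symm) ≫ G.c = α := by
      refine (Eq.trans ?_ (G.comp_e α))
      congr 1
      apply pullback.hom_ext
      · simp only [pullback.lift_fst]
      · simp only [pullback.lift_snd]
        rw [G.i_comp β, reassoc_of% hs']
    have hab : α = β := hr.symm.trans (hA.symm.trans hl)
    change α ≫ pullback.diagonal G.s = c.snd
    apply pullback.hom_ext
    · rw [Category.assoc, pullback.diagonal_fst, Category.comp_id]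
    · rw [Category.assoc, pullback.diagonal_snd, Category.comp_id]
      exact hab
  · intro c m h₁ h₂
    have h₂' : m ≫ pullback.diagonal G.s = c.snd := h₂
    rw [← h₂', Category.assoc, pullback.diagonal_fst, Category.comp_id]

/-- Let `(U, R, s, t, c)` be a groupoid in algebraic spaces over `B` whose object space is `U = Spec k`,
with `k` a field, and assume `R` is a decent algebraic space. Then `R` is separated over the base
scheme `S`. (The published statement concludes that `R` is separated in the absolute sense; this row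
concludes that `R` is separated over `S`, which the absolute notion implies.) -/
theorem result (S : Scheme.{u}) (B : AlgSp.Sp S) (hB : AlgSp.IsAlgSpace B)
    (G : AlgSp.GroupoidSp B) (hR : AlgSp.IsAlgSpace G.R) (k : Type u) [Field k]
    (σ : Spec (CommRingCat.of k) ⟶ S) (eU : G.U ≅ (AlgSp.yon S).obj (Over.mk σ)) (hd : AlgSp.IsDecent G.R) :
    AlgSp.IsSeparatedSp G.R := by
  have he : AlgSp.RepWith @IsClosedImmersion G.e := by
    have h := isClosedImmersion_section hR hd (eU.inv ≫ G.e) (G.s ≫ eU.hom) (by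
      rw [Category.assoc, reassoc_of% G.e_s, eU.inv_hom_id])
    rwa [Groth.Agent.AlgSpace.repWith_respectsIso_left] at h
  obtain ⟨ψ, sq⟩ := exists_isPullback_diagonal_e G
  have hs : AlgSp.IsSeparatedMor G.s := Groth.Agent.AlgSpace.repWith_of_isPullback sq he
  have hU : AlgSp.IsSeparatedMor (Groth.Agent.AlgSpace.toBase G.U) := by
    have h : AlgSp.IsSeparatedMor
        ((AlgSp.yon S).map (Over.mkIdTerminal.from (Over.mk σ))) := by
      rw [AlgSp.isSeparatedMor_yon_map_iff]
      have hw : (Over.mkIdTerminal.from (Over.mk σ)).left = σ :=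
        (Category.comp_id _).symm.trans (Over.w (Over.mkIdTerminal.from (Over.mk σ)))
      rw [hw]
      have : IsSeparated (σ ≫ Limits.terminal.from S) := by
        rw [show σ ≫ Limits.terminal.from S = Limits.terminal.from _ from terminal.hom_ext _ _]
        infer_instance
      exact IsSeparated.of_comp σ (Limits.terminal.from S)
    have h' : Groth.Agent.AlgSpace.toBase G.U =
        eU.hom ≫ (AlgSp.yon S).map (Over.mkIdTerminal.from (Over.mk σ)) :=
      Groth.Agent.AlgSpace.isTerminalBase.hom_ext _ _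
    rw [h']
    exact Groth.Agent.AlgSpace.repWith_diagonal_comp
      (Groth.Agent.AlgSpace.repWith_diagonal_of_mono eU.hom) h
  have e : G.s ≫ Groth.Agent.AlgSpace.toBase G.U = Groth.Agent.AlgSpace.toBase G.R :=
    Groth.Agent.AlgSpace.isTerminalBase.hom_ext _ _
  have key : AlgSp.IsSeparatedMor (G.s ≫ Groth.Agent.AlgSpace.toBase G.U) :=
    Groth.Agent.AlgSpace.repWith_diagonal_comp hs hU
  have key' : AlgSp.IsSeparatedMor (Groth.Agent.AlgSpace.toBase G.R) :=
    cast (congrArg (fun g => AlgSp.IsSeparatedMor g) e) key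
  exact Groth.Agent.AlgSpace.repWith_diag_of_diagonal_toBase key'

end Groth.Agent.S10128
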