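import Groth.Statements.S10129
import Groth.Agent.Lib.SchImage14.Apps
import Groth.Agent.Lib.Residual14.Main
import Mathlib.CategoryTheory.Sites.RegularEpi

set_option autoImplicit false
universe u
open CategoryTheory CategoryTheory.Limits AlgebraicGeometry
open AlgSp

set_option backward.isDefEq.respectTransparency.types false

namespace Groth.Agent.S10129

open Groth.Agent.AlgSpace

variable {S : Scheme.{u}}

theorem isLocallySurjective_of_fppf {X Z : Space S} (g : X.obj ⟶ Z.obj) (hs : IsSurjectiveMor g)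
    (hfl : LocP @Flat g) (hfp : LocP @LocallyOfFinitePresentation g) :
    Sheaf.IsLocallySurjective g := by
  obtain ⟨U, a, hae, has⟩ := X.property.atlas
  have h := Residual14.isLocallySurjective_of_fppf Z.property (p := a ≫ g)
    (locP_comp (IsAlgSpace.yon_obj U) X.property Z.property
      (locP_of_repWith X.property (repWith_mono etale_le_flat hae)) hfl)
    (locP_comp (IsAlgSpace.yon_obj U) X.property Z.property
      (locP_of_repWith X.property (repWith_mono etale_le_lfp hae)) hfp)
    (fun z => by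
      obtain ⟨x, rfl⟩ := hs z
      obtain ⟨w, rfl⟩ := surjective_map_of_repWith has x
      exact ⟨w, Points.map_comp _ _ _⟩)
  exact Presheaf.isLocallySurjective_of_isLocallySurjective_fac (AlgSp.J S)
    (f₁ := a.hom) (f₂ := g.hom) (f₃ := (a ≫ g).hom) rfl

theorem main {B : Sp S} (hB : IsAlgSpace B)
    {X Y Z : Space S} (pX : X.obj ⟶ B) (pY : Y.obj ⟶ B) (pZ : Z.obj ⟶ B)
    (f : X.obj ⟶ Y.obj) (g : X.obj ⟶ Z.obj) (hf : f ≫ pY = pX) (hg : g ≫ pZ = pX)
    (hY : IsSeparatedMor pY)
    (hgs : IsSurjectiveMor g) (hgf : LocP @Flat g) (hgp : LocP @LocallyOfFinitePresentation g)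
    {V : Sp S} (v : V ⟶ Z.obj) (hv : IsSchDense v) (hvq : IsQuasiCompactMor v)
    (hfac : ∃ φ : V ⟶ Y.obj, pullback.fst g v ≫ f = pullback.snd g v ≫ φ) :
    ∃ h : Z.obj ⟶ Y.obj, g ≫ h = f := by
  have sqR := IsPullback.of_hasPullback g g
  let R := pullback g g
  let p₁ : R ⟶ X.obj := pullback.fst g g
  let p₂ : R ⟶ X.obj := pullback.snd g g
  have hR : IsAlgSpace R := isAlgSpace_baseChange X.property Z.property X.property sqR
  have hV : IsAlgSpace V := isAlgSpace_of_representable hv.1.1 Z.property
  have hp₂ : LocP @Flat p₂ := locP_of_isPullback X.property Z.property X.property sqR hgf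
  have hgR : LocP @Flat (p₁ ≫ g) := by
    rw [pullback.condition]; exact locP_comp hR X.property Z.property hp₂ hgf
  have sqV := IsPullback.of_hasPullback v (p₁ ≫ g)
  let q := pullback.fst v (p₁ ≫ g)
  let jR := pullback.snd v (p₁ ≫ g)
  have hid : IsSchImage jR (𝟙 R) := SchImage14.isSchImage_flat_base_change hR Z.property hV
    Z.property hgR hvq ((SchImage14.isSchDense_iff_isSchImage_id (U := ⟨V, hV⟩) (X := Z)
      (ObjectProperty.homMk v) hv.1 hvq).1 hv) sqV (IsPullback.id_vert (p₁ ≫ g))
  have hfY : (p₁ ≫ f) ≫ pY = (p₂ ≫ f) ≫ pY := by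
    rw [Category.assoc, Category.assoc, hf, ← hg, ← Category.assoc, ← Category.assoc, pullback.condition]
  let m := pullback.lift (p₁ ≫ f) (p₂ ≫ f) hfY
  have sqE := (IsPullback.of_hasPullback (pullback.diagonal pY) m)
  have hE : RepWith @IsClosedImmersion (pullback.snd (pullback.diagonal pY) m) :=
    repWith_of_isPullback sqE hY
  obtain ⟨φ, hφ⟩ := hfac
  have key : ∀ p : R ⟶ X.obj, p ≫ g = p₁ ≫ g → jR ≫ p ≫ f = q ≫ φ := by
    intro p hp
    have w : (jR ≫ p) ≫ g = q ≫ v := by rw [Category.assoc, hp]; exact sqV.w.symm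
    rw [← Category.assoc, ← pullback.lift_fst (jR ≫ p) q w, Category.assoc, hφ, ← Category.assoc,
      pullback.lift_snd]
  have hj : jR ≫ m = (q ≫ φ) ≫ pullback.diagonal pY := by
    apply pullback.hom_ext
    · rw [Category.assoc, pullback.lift_fst, key p₁ rfl, Category.assoc, pullback.diagonal_fst,
        Category.comp_id]
    · rw [Category.assoc, pullback.lift_snd, key p₂ pullback.condition.symm, Category.assoc,
        pullback.diagonal_snd, Category.comp_id]
  obtain ⟨k, hk⟩ := hid.2.2 (pullback.snd (pullback.diagonal pY) m)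
    (isAlgSpace_of_representable hE.1 hR) hE
    ⟨pullback.lift (q ≫ φ) jR hj.symm, pullback.lift_snd _ _ _⟩
  have heq : p₁ ≫ f = p₂ ≫ f := by
    have h : m = (k ≫ pullback.fst (pullback.diagonal pY) m) ≫ pullback.diagonal pY := by
      rw [Category.assoc, pullback.condition, ← Category.assoc, hk, Category.id_comp]
    have h₁ := congrArg (· ≫ pullback.fst pY pY) h
    have h₂ := congrArg (· ≫ pullback.snd pY pY) h
    simp only [m, Category.assoc, pullback.lift_fst, pullback.lift_snd, pullback.diagonal_fst,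
      pullback.diagonal_snd, Category.comp_id] at h₁ h₂
    exact h₁.trans h₂.symm
  have := isLocallySurjective_of_fppf g hgs hgf hgp
  have : Epi g := Sheaf.epi_of_isLocallySurjective' g
  have : IsRegularEpi g := IsRegularEpiCategory.regularEpiOfEpi g
  have : EffectiveEpi g := inferInstance
  refine ⟨EffectiveEpi.desc g f fun a b hab => ?_, EffectiveEpi.fac g f _⟩
  rw [← pullback.lift_fst a b hab]
  conv_rhs => rw [← pullback.lift_snd a b hab]
  rw [Category.assoc, Category.assoc]
  exact congrArg (pullback.lift a b hab ≫ ·) heq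

/-- Consider morphisms `g : X ⟶ Z` and `f : X ⟶ Y` of algebraic spaces over `B`, with `Y ⟶ B` separated
and `g` surjective, flat and locally of finite presentation, and let `V ⊂ Z` be a scheme
theoretically dense open subspace with `V ⟶ Z` quasi-compact such that `f` restricted to `g⁻¹(V)`
factors through `g⁻¹(V) ⟶ V`. Then `f` factors through `g`. (The published statement does not ask
the open immersion `V ⟶ Z` to be quasi-compact; the published proof pulls the scheme theoretic
density of `V` back along a flat morphism by a lemma that requires it, so this row assumes it.) -/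
theorem result (S : Scheme.{u}) (B : AlgSp.Sp S) (hB : AlgSp.IsAlgSpace B)
    (X Y Z : AlgSp.Space S) (pX : X.obj ⟶ B) (pY : Y.obj ⟶ B) (pZ : Z.obj ⟶ B)
    (f : X.obj ⟶ Y.obj) (g : X.obj ⟶ Z.obj) (hf : f ≫ pY = pX) (hg : g ≫ pZ = pX)
    (hY : AlgSp.IsSeparatedMor pY)
    (hgs : AlgSp.IsSurjectiveMor g) (hgf : AlgSp.LocP @Flat g) (hgp : AlgSp.LocP @LocallyOfFinitePresentation g)
    (V : AlgSp.Sp S) (v : V ⟶ Z.obj) (hv : AlgSp.IsSchDense v) (hvq : AlgSp.IsQuasiCompactMor v)
    (hfac : ∃ φ : V ⟶ Y.obj, pullback.fst g v ≫ f = pullback.snd g v ≫ φ) :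
    ∃ h : Z.obj ⟶ Y.obj, g ≫ h = f := by
  exact Groth.Agent.S10129.main hB pX pY pZ f g hf hg hY hgs hgf hgp v hv hvq hfac

end Groth.Agent.S10129
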