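import Groth.Statements.S10131
import Groth.Agent.Lib.GpdRestrict14.Basic
import Groth.Agent.Lib.AlgSpace.QC
import Groth.Agent.Lib.AlgSpace.Chart
import Groth.Agent.Lib.AlgSpace.ImmDescent

set_option autoImplicit false
universe u
open CategoryTheory CategoryTheory.Limits AlgebraicGeometry
open AlgSp AlgSp.GroupoidSp

set_option backward.isDefEq.respectTransparency.types false

namespace Groth.Agent.S10131
open Groth.Agent.AlgSpace Groth.Agent.AlgSpDecent Groth.Agent.GpdRestrict14

/-- Let `(U, R, s, t, c)` be a groupoid in algebraic spaces over `B` with `s, t` open and quasi-compact.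
Then `U` has an open covering by `R`-invariant quasi-compact open subspaces. -/
theorem result (S : Scheme.{u}) (B : AlgSp.Sp S) (hB : AlgSp.IsAlgSpace B)
    (G : AlgSp.GroupoidSp B) (hU : AlgSp.IsAlgSpace G.U) (hR : AlgSp.IsAlgSpace G.R)
    (hs : AlgSp.IsOpenMor G.s ∧ AlgSp.IsQuasiCompactMor G.s) (ht : AlgSp.IsOpenMor G.t ∧ AlgSp.IsQuasiCompactMor G.t)
    (x : AlgSp.Points G.U) :
    ∃ (W : AlgSp.Sp S) (w : W ⟶ G.U), AlgSp.RepWith @IsOpenImmersion w ∧ G.IsInvariant w ∧
      AlgSp.IsQuasiCompactSp W ∧ x ∈ Set.range (AlgSp.Points.map w) := by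
  obtain ⟨A, a, hae, has⟩ := hU.atlas
  obtain ⟨v, rfl⟩ := surjective_ofPt has x
  obtain ⟨O, hO, hvO, -⟩ := exists_isAffineOpen_mem_and_subset (X := A.left) (x := v) (U := ⊤) trivial
  let K : Set (AlgSp.Points G.U) := AlgSp.Points.ofPt a '' (O : Set A.left)
  have hKo : IsOpen K := isOpenMap_ofPt a hae _ O.isOpen
  have hKc : IsCompact K := hO.isCompact.image (AlgSp.Points.continuous_ofPt a)
  have hKalg := isAlgSpace_of_representable (repWith_openSubι hKo).1 hU
  have : CompactSpace (AlgSp.Points (openSub K)) := by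
    have he := isEmbedding_map_of_immersion hU
      (repWith_mono (fun _ _ g (_ : IsOpenImmersion g) => (inferInstance : IsImmersion g)) (repWith_openSubι hKo))
    refine ⟨he.1.isInducing.isCompact_iff.2 ?_⟩
    rw [Set.image_univ, range_openSubι]
    exact hKc
  have sq := IsPullback.of_hasPullback G.t (openSubι K)
  have := compactSpace_of_isQuasiCompactMor hR hU ht.2 hKalg sq
  have hpre : Set.range (AlgSp.Points.map (pullback.fst G.t (openSubι K))) = AlgSp.Points.map G.t ⁻¹' K := by
    ext r
    refine ⟨fun ⟨z, hz⟩ => ?_, fun hr => ?_⟩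
    · rw [Set.mem_preimage, ← hz, ← AlgSp.Points.map_comp, pullback.condition, AlgSp.Points.map_comp]
      exact (range_openSubι K).subset ⟨_, rfl⟩
    · obtain ⟨y, hy⟩ := (range_openSubι K).symm.subset hr
      obtain ⟨z, hz, -⟩ := exists_point_lift sq r y hy.symm
      exact ⟨z, hz⟩
  let E : Set (AlgSp.Points G.U) := AlgSp.Points.map G.s '' (AlgSp.Points.map G.t ⁻¹' K)
  have hEo : IsOpen E := hs.1 _ (hKo.preimage (AlgSp.Points.continuous_map _))
  have hEc : IsCompact E := by
    simp only [E, ← hpre]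
    exact (isCompact_range (AlgSp.Points.continuous_map _)).image (AlgSp.Points.continuous_map _)
  refine ⟨openSub E, openSubι E, repWith_openSubι hEo, ?_, ?_, ?_⟩
  · exact isInvariant_saturation G K _ (repWith_openSubι hEo) (range_openSubι E)
  · refine (isQuasiCompactSp_iff (isAlgSpace_of_representable (repWith_openSubι hEo).1 hU)).2 ?_
    have he := isEmbedding_map_of_immersion hU
      (repWith_mono (fun _ _ g (_ : IsOpenImmersion g) => (inferInstance : IsImmersion g)) (repWith_openSubι hEo))
    refine ⟨he.1.isInducing.isCompact_iff.2 ?_⟩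
    rw [Set.image_univ, range_openSubι]
    exact hEc
  · rw [range_openSubι]
    refine ⟨AlgSp.Points.map G.e (AlgSp.Points.ofPt a v), ?_, ?_⟩
    · rw [Set.mem_preimage, ← AlgSp.Points.map_comp, G.e_t, AlgSp.Points.map_id]
      exact ⟨v, hvO, rfl⟩
    · rw [← AlgSp.Points.map_comp, G.e_s, AlgSp.Points.map_id]

end Groth.Agent.S10131
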