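import Groth.Statements.S10132
import Groth.Agent.Lib.GpdRestrict14.Field

set_option autoImplicit false
universe u
open CategoryTheory CategoryTheory.Limits AlgebraicGeometry
open AlgSp AlgSp.GroupoidSp

set_option backward.isDefEq.respectTransparency.types false

namespace Groth.Agent.S10132

/-- Let `(U, R, s, t, c)` be a groupoid in algebraic spaces over `B` whose object space is `U = Spec k`,
let `k ⊂ k'` be a field extension and `(U', R', s', t', c')` the restriction along `Spec k' ⟶ Spec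
k`. Then `s, t, s', t'`, `Spec k' ⟶ Spec k` and `R' ⟶ R` are surjective, flat and universally open,
and `R' ⟶ R` is moreover affine. (The published statement lists every arrow of the restriction
diagram; this row omits the six arrows through `R ×_{s,U} U'` and `U' ×_{U,t} R`, each a base change
of `s`, `t` or `Spec k' ⟶ Spec k`.) -/
theorem result (S : Scheme.{u}) (B : AlgSp.Sp S) (hB : AlgSp.IsAlgSpace B)
    (G G' : AlgSp.GroupoidSp B) (hR : AlgSp.IsAlgSpace G.R) (hR' : AlgSp.IsAlgSpace G'.R)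
    (k k' : Type u) [Field k] [Field k'] [Algebra k k'] (σ : Spec (CommRingCat.of k) ⟶ S)
    (eU : G.U ≅ ((AlgSp.yon S).obj (Over.mk σ)))
    (eU' : G'.U ≅ ((AlgSp.yon S).obj (Over.mk (Spec.map (CommRingCat.ofHom (algebraMap k k')) ≫ σ))))
    (φ : AlgSp.GroupoidSp.Hom G' G) (hφ : φ.IsRestriction)
    (hfU : φ.fU = eU'.hom ≫ (AlgSp.yon S).map (Over.homMk (Spec.map (CommRingCat.ofHom (algebraMap k k'))) rfl :
      Over.mk (Spec.map (CommRingCat.ofHom (algebraMap k k')) ≫ σ) ⟶ Over.mk σ) ≫ eU.inv) :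
    (∀ f ∈ [G.s, G.t], AlgSp.IsSurjectiveMor f ∧ AlgSp.LocP @Flat f ∧ AlgSp.IsUnivOpenMor f) ∧
      (∀ f ∈ [G'.s, G'.t], AlgSp.IsSurjectiveMor f ∧ AlgSp.LocP @Flat f ∧ AlgSp.IsUnivOpenMor f) ∧
      (AlgSp.IsSurjectiveMor φ.fU ∧ AlgSp.LocP @Flat φ.fU ∧ AlgSp.IsUnivOpenMor φ.fU) ∧
      (AlgSp.IsSurjectiveMor φ.fR ∧ AlgSp.LocP @Flat φ.fR ∧ AlgSp.IsUnivOpenMor φ.fR ∧ AlgSp.IsAffineMor φ.fR) := by
  have : IsAffineHom (Over.homMk (Spec.map (CommRingCat.ofHom (algebraMap k k'))) rfl :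
      Over.mk (Spec.map (CommRingCat.ofHom (algebraMap k k')) ≫ σ) ⟶ Over.mk σ).left :=
    inferInstanceAs (IsAffineHom (Spec.map (CommRingCat.ofHom (algebraMap k k'))))
  exact Groth.Agent.GpdRestrict14.restrict_fieldExt hR hR' σ _ eU eU' φ hφ _ hfU

end Groth.Agent.S10132
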