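import Groth.Statements.S10227
import Groth.Agent.Lib.AlgSpEt14.Branches

set_option autoImplicit false
universe u
open CategoryTheory CategoryTheory.Limits AlgebraicGeometry Topology TopologicalSpace
open AlgSp

namespace Groth.Agent.S10227

open Groth.Agent.StalkHens14

/-- (1) ⇔ (4) ⇔ (5): let X be an algebraic space over a scheme S and x ∈ |X|. The following are
equivalent: for every scheme U, every etale h_U ⟶ X and every point u of U over x, the local ring of
U at u has a unique minimal prime; for every such (U, u), the local ring of U at u is geometrically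
unibranch; for every geometric point x̄ over x, the etale local ring of X at x̄ has a unique minimal
prime. -/
theorem result {S : Scheme.{u}} (X : AlgSp.Space S) (x : AlgSp.Points X.obj) :
    ((∀ (U : Over S) (a : (AlgSp.yon S).obj U ⟶ X.obj) (u : ↥U.left),
        AlgSp.RepWith @Etale a → AlgSp.Points.ofPt a u = x → CAlgX.HasUniqueMinimalPrime ↥(U.left.presheaf.stalk u)) ↔
      (∀ (U : Over S) (a : (AlgSp.yon S).obj U ⟶ X.obj) (u : ↥U.left),
        AlgSp.RepWith @Etale a → AlgSp.Points.ofPt a u = x → CAlg2.IsGeomUnibranch ↥(U.left.presheaf.stalk u))) ∧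
    ((∀ (U : Over S) (a : (AlgSp.yon S).obj U ⟶ X.obj) (u : ↥U.left),
        AlgSp.RepWith @Etale a → AlgSp.Points.ofPt a u = x → CAlgX.HasUniqueMinimalPrime ↥(U.left.presheaf.stalk u)) ↔
      ∀ p : AlgSp.FieldPt X.obj, p.IsGeometric → AlgSp.Points.mk p = x →
        CAlgX.HasUniqueMinimalPrime ↥(AlgSp.OEtStalk p)) := by
  have card1 : ∀ (R : Type (u + 1)) [CommRing R],
      (minimalPrimes R).encard = 1 ↔ CAlgX.HasUniqueMinimalPrime R := fun R _ => by
    rw [Set.encard_eq_one]
    exact ⟨fun ⟨p, hp⟩ => ⟨p, hp ▸ rfl, fun q hq => by rwa [hp] at hq⟩,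
      fun ⟨p, hp, hu⟩ => ⟨p, Set.ext fun q => ⟨hu q, fun h => h.symm ▸ hp⟩⟩⟩
  have card1' : ∀ (R : Type u) [CommRing R],
      (minimalPrimes R).encard = 1 ↔ CAlgX.HasUniqueMinimalPrime R :=
    fun R _ => Groth.Agent.Branch14.card_minimalPrimes_eq_one_iff R
  have h32 : (∀ p : AlgSp.FieldPt X.obj, p.IsGeometric → AlgSp.Points.mk p = x →
      CAlgX.HasUniqueMinimalPrime ↥(AlgSp.OEtStalk p)) →
      ∀ (U : Over S) (a : (AlgSp.yon S).obj U ⟶ X.obj) (u : ↥U.left),
        AlgSp.RepWith @Etale a → AlgSp.Points.ofPt a u = x →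
          CAlg2.IsGeomUnibranch ↥(U.left.presheaf.stalk u) := by
    intro h U a u ha hu
    obtain ⟨p, hp, hpx⟩ := exists_geometric_over a ha u
    rw [← Groth.Agent.Branch14.numGeomBranches_eq_one_iff]
    show Brnch.numGeomBranchesAt U.left u = 1
    rw [← encard_minimalPrimes_OEtStalk X.property p hp a ha u hpx.symm, card1]
    exact h p hp (hpx.trans hu)
  have h21 : ∀ (U : Over S) (a : (AlgSp.yon S).obj U ⟶ X.obj) (u : ↥U.left),
      AlgSp.RepWith @Etale a → AlgSp.Points.ofPt a u = x →
      CAlg2.IsGeomUnibranch ↥(U.left.presheaf.stalk u) →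
      CAlgX.HasUniqueMinimalPrime ↥(U.left.presheaf.stalk u) := by
    intro U a u ha hu h
    obtain ⟨p, hp, hpx⟩ := exists_geometric_over a ha u
    rw [← card1']
    refine le_antisymm ((encard_minimalPrimes_le X.property p hp a ha u hpx.symm).trans
      (le_of_eq ?_)) ?_
    · rw [encard_minimalPrimes_OEtStalk X.property p hp a ha u hpx.symm]
      exact (Groth.Agent.Branch14.numGeomBranches_eq_one_iff _).2 h
    · rw [Set.one_le_encard_iff_nonempty]
      obtain ⟨q, hq, -⟩ := Ideal.exists_minimalPrimes_le (I := ⊥)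
        (J := IsLocalRing.maximalIdeal ↥(U.left.presheaf.stalk u)) bot_le
      exact ⟨q, hq⟩
  have h13 : (∀ (U : Over S) (a : (AlgSp.yon S).obj U ⟶ X.obj) (u : ↥U.left),
      AlgSp.RepWith @Etale a → AlgSp.Points.ofPt a u = x →
        CAlgX.HasUniqueMinimalPrime ↥(U.left.presheaf.stalk u)) →
      ∀ p : AlgSp.FieldPt X.obj, p.IsGeometric → AlgSp.Points.mk p = x →
        CAlgX.HasUniqueMinimalPrime ↥(AlgSp.OEtStalk p) := by
    intro h p hp hpx
    rw [← card1]
    refine le_antisymm ?_ ?_
    · by_contra hlt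
      obtain ⟨U, a, u, ha, hu, h2⟩ := exists_chart_encard_ge X.property p hp 2
        (Order.add_one_le_of_lt (not_le.1 hlt))
      rw [(card1' _).2 (h U a u ha (hu.trans hpx))] at h2
      exact absurd h2 (by decide)
    · obtain ⟨U, a, u, ha, hu⟩ := exists_chart X.property (AlgSp.Points.mk p)
      rw [← (card1' _).2 (h U a u ha (hu.trans hpx))]
      exact encard_minimalPrimes_le X.property p hp a ha u hu
  exact ⟨⟨fun h => h32 (h13 h), fun h U a u ha hu => h21 U a u ha hu (h U a u ha hu)⟩,
    ⟨h13, fun h U a u ha hu => h21 U a u ha hu (h32 h U a u ha hu)⟩⟩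

end Groth.Agent.S10227
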