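import Groth.Statements.S10133
import Groth.Agent.Lib.GrpUnibr14.Main
import Groth.Agent.S10227
import Groth.Agent.Lib.AlgSpEt14.Branches

set_option autoImplicit false
universe u
open CategoryTheory CategoryTheory.Limits AlgebraicGeometry MonoidalCategory MonObj
open AlgSp

namespace Groth.Agent.S10133

set_option backward.isDefEq.respectTransparency.types false
set_option backward.isDefEq.respectTransparency false

open Groth.Agent.AlgSpace Groth.Agent.AlgSpDecent Groth.Agent.FieldSpread14 in
theorem unique_chart {k : Type u} [Field k]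
    (G : Over ((AlgSp.yon (Spec (CommRingCat.of k))).obj (Over.mk (𝟙 _)))) [GrpObj G]
    (U : Over (Spec (CommRingCat.of k))) (a : (AlgSp.yon _).obj U ⟶ G.left) (v : ↥U.left)
    (ha : AlgSp.RepWith @Etale a) : CAlgX.HasUniqueMinimalPrime ↥(U.left.presheaf.stalk v) := by
  obtain ⟨O, hO, hvO, -⟩ := exists_isAffineOpen_mem_and_subset (X := U.left) (x := v) (U := ⊤) trivial
  haveI : IsAffine O.toScheme := hO
  let B : Type u := Γ(O.toScheme, ⊤)
  let : Algebra k B := (Spec.preimage (O.toScheme.isoSpec.inv ≫ O.ι ≫ U.hom)).hom.toAlgebra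
  let o : spec k B ⟶ U := Over.homMk (O.toScheme.isoSpec.inv ≫ O.ι) (by
    show (O.toScheme.isoSpec.inv ≫ O.ι) ≫ U.hom = Spec.map _
    rw [Category.assoc]
    exact (Spec.map_preimage _).symm)
  have : IsOpenImmersion o.left := inferInstanceAs (IsOpenImmersion (O.toScheme.isoSpec.inv ≫ O.ι))
  let P : PrimeSpectrum B := O.toScheme.isoSpec.hom ⟨v, hvO⟩
  have hP : o.left P = v := by
    show (O.toScheme.isoSpec.hom ≫ O.toScheme.isoSpec.inv ≫ O.ι) ⟨v, hvO⟩ = v
    rw [Iso.hom_inv_id_assoc]
    rfl
  have hoe : AlgSp.RepWith @Etale ((AlgSp.yon _).map o ≫ a) :=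
    repWith_comp ((repWith_yon_map_iff _ _).2 (show Etale o.left from inferInstance)) ha
  have h := Groth.Agent.GrpUnibr14.hasUniqueMinimalPrime_chart G _ hoe P.asIdeal
  rw [← Groth.Agent.Branch14.card_minimalPrimes_eq_one_iff] at h ⊢
  let : Algebra B ((Spec (CommRingCat.of B)).presheaf.stalk P) := StructureSheaf.stalkAlgebra B P
  haveI : IsLocalization.AtPrime ((Spec (CommRingCat.of B)).presheaf.stalk P) P.asIdeal :=
    StructureSheaf.IsLocalization.to_stalk B P
  have e := Groth.Agent.StalkHens14.encard_minimalPrimes_of_ringEquiv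
    ((asIso (o.left.stalkMap P)).commRingCatIsoToRingEquiv.trans
      (IsLocalization.algEquiv P.asIdeal.primeCompl ((Spec (CommRingCat.of B)).presheaf.stalk P)
        (Localization.AtPrime P.asIdeal)).toRingEquiv)
  rw [← hP]
  refine Eq.trans ?_ h
  exact e

/-- A group algebraic space over a field is geometrically unibranch. (The published situation allows any
base scheme `S` with `k` a field over `S`; this row takes `S = Spec k`.) -/
theorem result (k : Type u) [Field k]
    (G : Over ((AlgSp.yon (Spec (CommRingCat.of k))).obj (Over.mk (𝟙 _)))) [GrpObj G] (hG : AlgSp.IsAlgSpace G.left) (x : AlgSp.Points G.left) :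
    AlgSp.HasAt (fun U u => Brnch.numGeomBranchesAt U u = 1) G.left x := by
  obtain ⟨U, a, hU, ha, v, rfl⟩ := Groth.Agent.AlgSpDecent.exists_affine_chart_at hG x
  refine ⟨U, a, v, ha, rfl, ?_⟩
  have h := ((Groth.Agent.S10227.result ⟨G.left, hG⟩ (AlgSp.Points.ofPt a v)).1).1
    (fun U' a' v' ha' _ => unique_chart G U' a' v' ha') U a v ha rfl
  exact (Groth.Agent.Branch14.numGeomBranches_eq_one_iff _).2 h

end Groth.Agent.S10133
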