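import Groth.Statements.S10134
import Groth.Agent.Lib.GrpUnibr14.Gpd
import Groth.Agent.Lib.AlgSpDecent.Basic2
import Groth.Agent.S10227
import Groth.Agent.Lib.AlgSpEt14.Branches

set_option autoImplicit false
universe u
open CategoryTheory CategoryTheory.Limits AlgebraicGeometry
open AlgSp AlgSp.GroupoidSp

namespace Groth.Agent.S10134

set_option backward.isDefEq.respectTransparency.types false
set_option backward.isDefEq.respectTransparency false

open Groth.Agent.AlgSpace Groth.Agent.AlgSpDecent in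
theorem unique_chart {S : Scheme.{u}} {B₀ : AlgSp.Sp S} (G : AlgSp.GroupoidSp B₀) {k : Type u} [Field k]
    (σ : Spec (CommRingCat.of k) ⟶ S) (eU : G.U ≅ (AlgSp.yon S).obj (Over.mk σ))
    (U : Over S) (a : (AlgSp.yon _).obj U ⟶ G.R) (v : ↥U.left)
    (ha : AlgSp.RepWith @Etale a) : CAlgX.HasUniqueMinimalPrime ↥(U.left.presheaf.stalk v) := by
  obtain ⟨O, hO, hvO, -⟩ := exists_isAffineOpen_mem_and_subset (X := U.left) (x := v) (U := ⊤) trivial
  haveI : IsAffine O.toScheme := hO
  let B : Type u := Γ(O.toScheme, ⊤)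
  let sB : Spec (CommRingCat.of B) ⟶ S := (O.toScheme.isoSpec.inv ≫ O.ι) ≫ U.hom
  let o : GrpUnibr14.Gpd.ob sB ⟶ U := Over.homMk (O.toScheme.isoSpec.inv ≫ O.ι) rfl
  have : IsOpenImmersion o.left := inferInstanceAs (IsOpenImmersion (O.toScheme.isoSpec.inv ≫ O.ι))
  let P : PrimeSpectrum B := O.toScheme.isoSpec.hom ⟨v, hvO⟩
  have hP : o.left P = v := by
    show (O.toScheme.isoSpec.hom ≫ O.toScheme.isoSpec.inv ≫ O.ι) ⟨v, hvO⟩ = v
    rw [Iso.hom_inv_id_assoc]
    rfl
  have hoe : AlgSp.RepWith @Etale ((AlgSp.yon _).map o ≫ a) :=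
    repWith_comp ((repWith_yon_map_iff _ _).2 (show Etale o.left from inferInstance)) ha
  have h := GrpUnibr14.Gpd.hasUniqueMinimalPrime_chart G σ _ hoe eU P.asIdeal
  rw [← Groth.Agent.Branch14.card_minimalPrimes_eq_one_iff] at h ⊢
  let : Algebra B ((Spec (CommRingCat.of B)).presheaf.stalk P) := StructureSheaf.stalkAlgebra B P
  haveI : IsLocalization.AtPrime ((Spec (CommRingCat.of B)).presheaf.stalk P) P.asIdeal :=
    StructureSheaf.IsLocalization.to_stalk B P
  have e := Groth.Agent.StalkHens14.encard_minimalPrimes_of_ringEquiv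
    ((asIso (o.left.stalkMap P)).commRingCatIsoToRingEquiv.trans
      (IsLocalization.algEquiv P.asIdeal.primeCompl ((Spec (CommRingCat.of B)).presheaf.stalk P)
        (Localization.AtPrime P.asIdeal)).toRingEquiv)
  rw [← hP]
  refine Eq.trans ?_ h
  exact e

/-- For a groupoid in algebraic spaces `(U, R, s, t, c)` over `B` with `U` the spectrum of a field, the
algebraic space `R` is geometrically unibranch. -/
theorem result (S : Scheme.{u}) (B : AlgSp.Sp S) (hB : AlgSp.IsAlgSpace B)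
    (G : AlgSp.GroupoidSp B) (hR : AlgSp.IsAlgSpace G.R) (k : Type u) [Field k]
    (σ : Spec (CommRingCat.of k) ⟶ S) (eU : G.U ≅ (AlgSp.yon S).obj (Over.mk σ)) (r : AlgSp.Points G.R) :
    AlgSp.HasAt (fun V v => Brnch.numGeomBranchesAt V v = 1) G.R r := by
  obtain ⟨U, a, hU, ha, v, rfl⟩ := Groth.Agent.AlgSpDecent.exists_affine_chart_at hR r
  refine ⟨U, a, v, ha, rfl, ?_⟩
  have h := ((Groth.Agent.S10227.result ⟨G.R, hR⟩ (AlgSp.Points.ofPt a v)).1).1
    (fun U' a' v' ha' _ => unique_chart G σ eU U' a' v' ha') U a v ha rfl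
  exact (Groth.Agent.Branch14.numGeomBranches_eq_one_iff _).2 h

end Groth.Agent.S10134
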