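import Groth.Statements.S10136
import Groth.Agent.Lib.GrpDim14.Basic

set_option autoImplicit false
universe u
open CategoryTheory CategoryTheory.Limits AlgebraicGeometry MonoidalCategory MonObj
open AlgSp

namespace Groth.Agent.S10136

open Groth.Agent.AlgSpace Groth.Agent.AlgSpDecent

/-- For a group algebraic space `G` locally of finite type over a field `k`, `dim_g(G) = dim(G)` for
every point `g` of `G`. (The published situation allows any base scheme `S` with `k` a field over
`S`; this row takes `S = Spec k`.) -/
theorem result (k : Type u) [Field k]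
    (G : Over ((AlgSp.yon (Spec (CommRingCat.of k))).obj (Over.mk (𝟙 _)))) [GrpObj G] (hG : AlgSp.IsAlgSpace G.left)
    (hlft : AlgSp.LocP @LocallyOfFiniteType G.hom) (g : AlgSp.Points G.left) :
    AlgSp.HasAt (fun V v => FlatMor.localDim ↥V v = AlgSp.dim G.left) G.left g := by
  obtain ⟨U, a, hae, has⟩ := hG.atlas
  obtain ⟨u, rfl⟩ := surjective_ofPt has g
  have : Nonempty (AlgSp.Points G.left) := ⟨Points.ofPt a u⟩
  exact ⟨U, a, u, hae, rfl, (GrpDim14.dim_eq_of_const hG _ fun U' a' u' ha' =>
    GrpDim14.localDim_const G hG hlft ha' hae u' u).symm⟩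

end Groth.Agent.S10136
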