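import Groth.Statements.S10138
import Groth.Agent.Lib.AlgSpace.FppfLocal

set_option autoImplicit false
universe u
open CategoryTheory CategoryTheory.Limits AlgebraicGeometry
open AlgSp

set_option backward.isDefEq.respectTransparency.types false

namespace Groth.Agent.S10138

/-- Let `{X_i ⟶ X}` be an fppf covering of algebraic spaces over `S`. Then every descent datum for
algebraic spaces relative to it is effective; concretely, an fppf sheaf `F ⟶ X` all of whose base
changes `F ×_X X_i` are algebraic spaces is an algebraic space. (The published statement asks the
index set to be countable, which is only a size condition and may be ignored; this row allows any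
index type in the universe of `S`. The published part (2), which asks the `Y_i ⟶ X_i` to be of
finite type instead, is then a special case of this row.) -/
theorem result (S : Scheme.{u}) (X : AlgSp.Space S) {ι : Type u}
    (Xi : ι → AlgSp.Space S) (g : ∀ i, (Xi i).obj ⟶ X.obj) (hcov : AlgSp.IsFppfCover (fun i => (Xi i).obj) g)
    (F : AlgSp.Sp S) (p : F ⟶ X.obj)
    (h : ∀ (i : ι) (P : AlgSp.Sp S) (fst : P ⟶ F) (snd : P ⟶ (Xi i).obj), IsPullback fst snd p (g i) → AlgSp.IsAlgSpace P) :
    AlgSp.IsAlgSpace F := by
  exact Groth.Agent.AlgSpace.isAlgSpace_of_fppf_cover X.property (fun i => (Xi i).property) hcov p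
    (fun i => h i _ _ _ (IsPullback.of_hasPullback p (g i)))

end Groth.Agent.S10138
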