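import Groth.Statements.S10140
import Groth.Agent.Lib.SubQuot19.Groupoid
import Groth.Agent.Lib.GrpQuot.FppfQuot
import Groth.Agent.Lib.FinQuot.Scheme

set_option autoImplicit false
universe u
open CategoryTheory CategoryTheory.Limits AlgebraicGeometry
open Grpd

namespace Groth.Agent.S10140

/-- Let `(U, R, s, t, c)` be a groupoid scheme over `S` with `U` affine and `j : R ⟶ U ×_S U` separated
and locally quasi-finite, and let `P ⟶ R` be a monomorphism such that `(U, P, s|_P, t|_P, c|_P)` is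
a groupoid scheme, `s|_P, t|_P` are finite locally free and `j|_P` is a monomorphism. Then `U/P` is
represented by an affine scheme `Ū`, the quotient map `U ⟶ Ū` is finite locally free with `P = U ×_Ū
U`, and `R` is the restriction along `U ⟶ Ū` of a groupoid scheme `(Ū, R̄, s̄, t̄, c̄)`. -/
theorem result (S : Scheme.{u}) (G : Grpd.GroupoidScheme S) [IsAffine G.U]
    [IsSeparated G.j] [LocallyQuasiFinite G.j] [LocallyOfFiniteType G.j]
    (P : Scheme.{u}) (ιP : P ⟶ G.R) [Mono ιP]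
    (he : ∃ eP : G.U ⟶ P, eP ≫ ιP = G.e) (hi : ∃ iP : P ⟶ P, iP ≫ ιP = ιP ≫ G.i)
    (hc : ∃ cP : pullback (ιP ≫ G.s) (ιP ≫ G.t) ⟶ P,
      cP ≫ ιP = pullback.map (ιP ≫ G.s) (ιP ≫ G.t) G.s G.t ιP ιP (𝟙 G.U) (Category.comp_id _) (Category.comp_id _) ≫ G.c)
    [IsFinite (ιP ≫ G.s)] [Flat (ιP ≫ G.s)] [LocallyOfFinitePresentation (ιP ≫ G.s)]
    [IsFinite (ιP ≫ G.t)] [Flat (ιP ≫ G.t)] [LocallyOfFinitePresentation (ιP ≫ G.t)] [Mono (ιP ≫ G.j)] :
    ∃ (H : Grpd.GroupoidScheme S) (φ : Grpd.GroupoidScheme.Hom G H),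
      IsAffine H.U ∧
      QuotSh.IsQuotient Scheme.fppfPrecoverage
        (Over.homMk (ιP ≫ G.s) ((Category.assoc _ _ _).trans (congrArg (ιP ≫ ·) G.s_over)) :
          (Over.mk (ιP ≫ G.pR) : Over S) ⟶ Over.mk G.pU)
        (Over.homMk (ιP ≫ G.t) ((Category.assoc _ _ _).trans (congrArg (ιP ≫ ·) G.t_over)) :
          (Over.mk (ιP ≫ G.pR) : Over S) ⟶ Over.mk G.pU)
        (Over.homMk φ.fU φ.fU_over : Over.mk G.pU ⟶ Over.mk H.pU) ∧
      IsFinite φ.fU ∧ Flat φ.fU ∧ LocallyOfFinitePresentation φ.fU ∧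
      IsPullback (ιP ≫ G.t) (ιP ≫ G.s) φ.fU φ.fU ∧
      IsPullback φ.fR G.j H.j
        (pullback.map G.pU G.pU H.pU H.pU φ.fU φ.fU (𝟙 S)
          ((Category.comp_id _).trans φ.fU_over.symm) ((Category.comp_id _).trans φ.fU_over.symm)) := by
  have hext : ∀ {T : Scheme.{u}} (a b : T ⟶ P), a ≫ ιP ≫ G.s = b ≫ ιP ≫ G.s →
      a ≫ ιP ≫ G.t = b ≫ ιP ≫ G.t → a = b := fun a b h₁ h₂ => by
    rw [← cancel_mono (ιP ≫ G.j)]
    apply pullback.hom_ext
    · simpa only [Category.assoc, GrpdB.j_fst] using h₂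
    · simpa only [Category.assoc, GrpdB.j_snd] using h₁
  have hEqv : FinQuot.SchEqv (ιP ≫ G.s) (ιP ≫ G.t) := by
    refine ⟨fun a b h₁ h₂ => hext a b h₁ h₂, ?_, ?_, fun {T} a b hab => ?_⟩
    · obtain ⟨eP, heP⟩ := he
      exact ⟨eP, by rw [← Category.assoc, heP, G.e_s], by rw [← Category.assoc, heP, G.e_t]⟩
    · obtain ⟨iP, hiP⟩ := hi
      exact ⟨iP, by rw [← Category.assoc, hiP, Category.assoc, G.i_s],
        by rw [← Category.assoc, hiP, Category.assoc, G.i_t]⟩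
    · obtain ⟨cP, hcP⟩ := hc
      let m : T ⟶ pullback (ιP ≫ G.s) (ιP ≫ G.t) := pullback.lift b a hab.symm
      have hm : (m ≫ cP) ≫ ιP = pullback.lift (b ≫ ιP) (a ≫ ιP)
          (by rw [Category.assoc, Category.assoc, hab]) ≫ G.c := by
        rw [Category.assoc, hcP, ← Category.assoc]
        congr 1
        apply pullback.hom_ext
        · rw [Category.assoc, pullback.lift_fst, pullback.lift_fst_assoc, pullback.lift_fst]
        · rw [Category.assoc, pullback.lift_snd, pullback.lift_snd_assoc, pullback.lift_snd]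
      refine ⟨m ≫ cP, ?_, ?_⟩
      · rw [← Category.assoc, hm, G.comp_s, Category.assoc]
      · rw [← Category.assoc, hm, G.comp_t, Category.assoc]
  obtain ⟨hfin, hflat, hlfp, hsurj, hsq⟩ := hEqv.quotient
  haveI := hfin
  haveI := hflat
  haveI := hlfp
  haveI := hsurj
  let q := FinQuot.toInv (ιP ≫ G.s) (ιP ≫ G.t)
  have hwd : ∀ {Z : Scheme.{u}} (a b : Z ⟶ G.U), a ≫ q = b ≫ q → a ≫ G.pU = b ≫ G.pU := fun a b e => by
    rw [← hsq.lift_fst a b e]
    conv_rhs => rw [← hsq.lift_snd a b e]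
    simp only [Category.assoc, G.s_over, G.t_over]
  let pUb := EffectiveEpi.desc q G.pU hwd
  have hp : q ≫ pUb = G.pU := EffectiveEpi.fac q G.pU hwd
  have hsub : SubQuot19.Sub G ιP q := ⟨he, hi, hc, hsq⟩
  obtain ⟨Rb, jb, ρ, hsqR, hinv⟩ := SubQuot19.exists_descend hsub pUb hp
  let D : SubQuot19.QData G :=
    ⟨P, ιP, _, q, hsub, pUb, hp, Rb, jb, ρ, hsqR, hinv, hfin, hflat, hsurj, hlfp⟩
  refine ⟨D.quot, D.proj, inferInstanceAs (IsAffine (Spec _)), ?_, hfin, hflat, hlfp, hsq.flip, D.isPullback_proj⟩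
  let qO : (Over.mk G.pU : Over S) ⟶ Over.mk D.quot.pU := Over.homMk D.proj.fU D.proj.fU_over
  haveI : Flat qO.left := hflat
  haveI : Surjective qO.left := hsurj
  haveI : LocallyOfFinitePresentation qO.left := hlfp
  refine GrpQuot.isQuotient_of_isKernelPair ?_
  exact IsPullback.of_map (Over.forget S) (by apply Over.OverMorphism.ext; exact hsq.w) hsq

end Groth.Agent.S10140
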