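import Groth.Statements.S10141
import Groth.Agent.Lib.AlgSpace.QuotRestrict2

set_option autoImplicit false
universe u
open CategoryTheory CategoryTheory.Limits AlgebraicGeometry
open AlgSp

set_option backward.isDefEq.respectTransparency.types false

namespace Groth.Agent.S10141

/-- Let `(U, R, s, t, c)` be a groupoid scheme over `S` and `g : U' ⟶ U` a morphism such that the
composite `h : U' ×_{g, U, t} R ⟶ R ⟶ U` of the projection with `s` has open image `W ⊂ U` and `h :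
U' ×_{g, U, t} R ⟶ W` is a surjection of fppf sheaves. Then for the restriction `R' = R|_{U'}` the
map of fppf quotient sheaves `U'/R' ⟶ U/R` is representable and an open immersion. -/
theorem result (S : Scheme.{u}) (G : Grpd.GroupoidScheme S)
    (U' : Scheme.{u}) (g : U' ⟶ G.U) (W : G.U.Opens)
    (hW : (W : Set ↥G.U) = Set.range ⇑(pullback.snd g G.t ≫ G.s))
    (hlift : pullback g G.t ⟶ ↑W) (hh : hlift ≫ W.ι = pullback.snd g G.t ≫ G.s)
    (hsurj : Sheaf.IsLocallySurjective ((AlgSp.yon S).map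
      (Over.homMk hlift ((Category.assoc _ _ _).symm.trans (congrArg (· ≫ G.pU) hh)) :
        Over.mk ((pullback.snd g G.t ≫ G.s) ≫ G.pU) ⟶ Over.mk (W.ι ≫ G.pU))))
    (R' : Over S) (s' t' : R' ⟶ Over.mk (g ≫ G.pU)) (r : R' ⟶ Over.mk G.pR)
    (hsq : IsPullback (prod.lift t' s') r
      (prod.map (Over.homMk g rfl : Over.mk (g ≫ G.pU) ⟶ Over.mk G.pU) (Over.homMk g rfl : Over.mk (g ≫ G.pU) ⟶ Over.mk G.pU))
      (prod.lift (Over.homMk G.t G.t_over : Over.mk G.pR ⟶ Over.mk G.pU) (Over.homMk G.s G.s_over : Over.mk G.pR ⟶ Over.mk G.pU)))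
    (ψ : QuotSh.quot Scheme.fppfPrecoverage s' t' ⟶
      QuotSh.quot Scheme.fppfPrecoverage (Over.homMk G.s G.s_over : Over.mk G.pR ⟶ Over.mk G.pU) (Over.homMk G.t G.t_over : Over.mk G.pR ⟶ Over.mk G.pU))
    (hψ : QuotSh.quotπ Scheme.fppfPrecoverage s' t' ≫ ψ =
      QuotSh.repMap Scheme.fppfPrecoverage (Over.homMk g rfl : Over.mk (g ≫ G.pU) ⟶ Over.mk G.pU) ≫ QuotSh.quotπ Scheme.fppfPrecoverage _ _) :
    AlgSp.RepWith @IsOpenImmersion ψ := by
  refine Groth.Agent.AlgSpace.repWith_isOpenImmersion_of_saturation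
    (Groth.Agent.AlgSpace.groupoid_orbit_equivalence G) hsq W hW hlift hh (fun w => ?_) ψ hψ
  let e : Over.mk (pullback.snd g G.t ≫ G.pR) ≅ Over.mk ((pullback.snd g G.t ≫ G.s) ≫ G.pU) :=
    Over.isoMk (Iso.refl _) (by simp [G.s_over])
  have he : (Over.homMk hlift w : Over.mk (pullback.snd g G.t ≫ G.pR) ⟶ Over.mk (W.ι ≫ G.pU)) =
      e.hom ≫ (Over.homMk hlift ((Category.assoc _ _ _).symm.trans (congrArg (· ≫ G.pU) hh)) :
        Over.mk ((pullback.snd g G.t ≫ G.s) ≫ G.pU) ⟶ Over.mk (W.ι ≫ G.pU)) :=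
    Over.OverMorphism.ext (Category.id_comp _).symm
  rw [CategoryTheory.Sheaf.isLocallySurjective_iff_epi] at hsurj ⊢
  change Epi ((yon S).map (Over.homMk hlift w : Over.mk (pullback.snd g G.t ≫ G.pR) ⟶ Over.mk (W.ι ≫ G.pU)))
  rw [he, Functor.map_comp]
  exact @epi_comp _ _ _ _ _ ((yon S).map e.hom) inferInstance _ hsurj

end Groth.Agent.S10141
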