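import Groth.Statements.S10142
import Groth.Agent.Lib.AlgSpace.GroupoidCalc

set_option autoImplicit false
universe u
open CategoryTheory CategoryTheory.Limits AlgebraicGeometry
open AlgSp AlgSp.GroupoidSp

set_option backward.isDefEq.respectTransparency.types false

namespace Groth.Agent.S10142

/-- For a groupoid in algebraic spaces `(U, R, s, t, c, e, i)` over `B`: the square with sides `c : R
×_{s,U,t} R ⟶ R`, `pr_1 : R ×_{s,U,t} R ⟶ R`, `s` and `s` is cartesian, and the morphism `R
×_{t,U,t} R ⟶ R ×_{s,U,t} R`, `(α, β) ↦ (α, i(α) ∘ β)`, is an isomorphism whose composite with `c`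
is the second projection `pr_1 : R ×_{t,U,t} R ⟶ R`. (The published statement also lists the square
formed by `pr_0`, `pr_1`, `s`, `t`, which is cartesian by definition of the fibre product.) -/
theorem result (S : Scheme.{u}) (B : AlgSp.Sp S) (hB : AlgSp.IsAlgSpace B)
    (G : AlgSp.GroupoidSp B) (hU : AlgSp.IsAlgSpace G.U) (hR : AlgSp.IsAlgSpace G.R) :
    IsPullback G.c (pullback.snd G.s G.t) G.s G.s ∧
      ∀ φ : pullback G.t G.t ⟶ pullback G.s G.t,
        φ ≫ pullback.fst G.s G.t = pullback.fst G.t G.t →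
        φ ≫ pullback.snd G.s G.t =
          pullback.lift (pullback.fst G.t G.t ≫ G.i) (pullback.snd G.t G.t)
            ((Category.assoc _ _ _).trans ((congrArg (pullback.fst G.t G.t ≫ ·) G.i_s).trans pullback.condition)) ≫ G.c →
        IsIso φ ∧ φ ≫ G.c = pullback.snd G.t G.t := by
  exact ⟨Groth.Agent.AlgSpace.isPullback_c_snd,
    fun φ h₁ h₂ => Groth.Agent.AlgSpace.isIso_shear φ h₁ h₂⟩

end Groth.Agent.S10142
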