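import Groth.Statements.S10145
import Groth.Agent.Lib.AlgSpace.GroupoidCalc

set_option autoImplicit false
universe u
open CategoryTheory CategoryTheory.Limits AlgebraicGeometry
open AlgSp AlgSp.GroupoidSp

set_option backward.isDefEq.respectTransparency.types false

namespace Groth.Agent.S10145

/-- Let `(U, R, s, t, c)` be a groupoid in algebraic spaces over `B` whose object space is `U = Spec k`,
and let `r : Spec k ⟶ R` be such that `s ∘ r` and `t ∘ r` are automorphisms of `Spec k`; write `a =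
r ∘ (s ∘ r)⁻¹`, so that `s ∘ a = id` and `t ∘ a` is an automorphism. Then `R ⟶ R`, `f ↦ c(a ∘ t ∘ f,
f)`, is an automorphism of `R` mapping `e` to `a` (the point `r`). -/
theorem result (S : Scheme.{u}) (B : AlgSp.Sp S) (hB : AlgSp.IsAlgSpace B)
    (G : AlgSp.GroupoidSp B) (hR : AlgSp.IsAlgSpace G.R) (k : Type u) [Field k]
    (σ : Spec (CommRingCat.of k) ⟶ S) (eU : G.U ≅ (AlgSp.yon S).obj (Over.mk σ))
    (a : G.U ⟶ G.R) (ha : a ≫ G.s = 𝟙 G.U) [IsIso (a ≫ G.t)] :
    IsIso (pullback.lift (G.t ≫ a) (𝟙 G.R) (((Category.assoc _ _ _).trans (congrArg (G.t ≫ ·) ha)).trans ((Category.comp_id _).trans (Category.id_comp _).symm)) ≫ G.c) ∧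
      G.e ≫ (pullback.lift (G.t ≫ a) (𝟙 G.R) (((Category.assoc _ _ _).trans (congrArg (G.t ≫ ·) ha)).trans ((Category.comp_id _).trans (Category.id_comp _).symm)) ≫ G.c) = a := by
  exact Groth.Agent.AlgSpace.isIso_translation a ha _

end Groth.Agent.S10145
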