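import Groth.Statements.S10146
import Mathlib.FieldTheory.IsAlgClosed.Classification
import Mathlib.FieldTheory.IsAlgClosed.AlgebraicClosure
import Groth.Prelude.Def_AlgSpDec

set_option autoImplicit false
universe u
open CategoryTheory CategoryTheory.Limits AlgebraicGeometry
open AlgSp AlgSp.GroupoidSp

namespace Groth.Agent.S10146

open Cardinal

/-- Alg. closed extensions of `k` with equipotent transcendence bases are isomorphic over `k`. -/
theorem exists_equiv_over (k : Type u) [Field k] (K L : Type u) [Field K] [Field L] [IsAlgClosed K] [IsAlgClosed L]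
    (iK : k →+* K) (iL : k →+* L) (hK : ℵ₀ < #K) (hk : #k < #K) (h : #K = #L) :
    ∃ β : K ≃+* L, ∀ x, β (iK x) = iL x := by
  let := iK.toAlgebra
  let := iL.toAlgebra
  obtain ⟨s, hs⟩ := exists_isTranscendenceBasis k K
  obtain ⟨t, ht⟩ := exists_isTranscendenceBasis k L
  have cs : #s = #K := by
    refine le_antisymm (mk_set_le s) ?_
    have := IsAlgClosed.cardinal_le_max_transcendence_basis' _ hs
    rcases le_max_iff.1 this with h1 | h1
    · rcases le_max_iff.1 h1 with h2 | h2
      · exact absurd h2 (not_le_of_gt hk)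
      · exact h2
    · exact absurd h1 (not_le_of_gt hK)
  have ct : #t = #L := by
    refine le_antisymm (mk_set_le t) ?_
    have := IsAlgClosed.cardinal_le_max_transcendence_basis' _ ht
    rcases le_max_iff.1 this with h1 | h1
    · rcases le_max_iff.1 h1 with h2 | h2
      · exact absurd h2 (not_le_of_gt (h ▸ hk))
      · exact h2
    · exact absurd h1 (not_le_of_gt (h ▸ hK))
  obtain ⟨e⟩ := Cardinal.eq.1 (cs.trans (h.trans ct.symm))
  let e' : Algebra.adjoin k (Set.range ((↑) : s → K)) ≃ₐ[k] Algebra.adjoin k (Set.range ((↑) : t → L)) :=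
    hs.1.aevalEquiv.symm.trans ((MvPolynomial.renameEquiv k e).trans ht.1.aevalEquiv)
  let := IsAlgClosed.isAlgClosure_of_transcendence_basis _ hs
  let := IsAlgClosed.isAlgClosure_of_transcendence_basis _ ht
  refine ⟨IsAlgClosure.equivOfEquiv K L e'.toRingEquiv, fun x => ?_⟩
  have h1 := IsAlgClosure.equivOfEquiv_algebraMap K L e'.toRingEquiv (algebraMap k _ x)
  rw [show e'.toRingEquiv (algebraMap k _ x) = algebraMap k _ x from e'.commutes x] at h1
  exact h1

/-- A field has a very large algebraically closed extension. -/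
theorem exists_big (L : Type u) [Field L] :
    ∃ (K : Type u) (_ : Field K) (_ : L →+* K), IsAlgClosed K ∧ ℵ₀ < #K ∧ #L < #K := by
  let ι := Set (L ⊕ ULift.{u} ℕ)
  let F := FractionRing (MvPolynomial ι L)
  refine ⟨AlgebraicClosure F, inferInstance, (algebraMap F (AlgebraicClosure F)).comp (algebraMap L F),
    inferInstance, ?_⟩
  have hι : #ι ≤ #(AlgebraicClosure F) := by
    refine mk_le_of_injective (f := fun i : ι => algebraMap F (AlgebraicClosure F)
      (algebraMap (MvPolynomial ι L) F (MvPolynomial.X i))) ?_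
    exact ((algebraMap F (AlgebraicClosure F)).injective.comp
      (IsFractionRing.injective (MvPolynomial ι L) F)).comp MvPolynomial.X_injective
  have hlt : #(L ⊕ ULift.{u} ℕ) < #ι := by
    rw [show #ι = 2 ^ #(L ⊕ ULift.{u} ℕ) from mk_set]
    exact cantor _
  constructor
  · refine lt_of_le_of_lt ?_ (lt_of_lt_of_le hlt hι)
    exact aleph0_le_mk _
  · refine lt_of_le_of_lt ?_ (lt_of_lt_of_le hlt hι)
    exact mk_le_of_injective Sum.inl_injective
theorem prodMap_fst {S : Scheme.{u}} {B : Sp S} {G₁ G₂ : GroupoidSp B} (φ : GroupoidSp.Hom G₁ G₂) :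
    φ.prodMap ≫ pullback.fst _ _ = pullback.fst _ _ ≫ φ.fU := pullback.lift_fst _ _ _

theorem prodMap_snd {S : Scheme.{u}} {B : Sp S} {G₁ G₂ : GroupoidSp B} (φ : GroupoidSp.Hom G₁ G₂) :
    φ.prodMap ≫ pullback.snd _ _ = pullback.snd _ _ ≫ φ.fU := pullback.lift_snd _ _ _

/-- Let `(U, R, s, t, c)` be a groupoid in algebraic spaces over `B` whose object space is `U = Spec k`.
For every point `r` of `R` there are an algebraically closed field extension `k'` of `k` and, on the
restriction `(U', R', s', t', c')` along `Spec k' ⟶ Spec k`, a morphism `r' : Spec k' ⟶ R'` mapping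
to `r` in `R` such that `s' ∘ r'` and `t' ∘ r'` are automorphisms of `Spec k'`. -/
theorem result (S : Scheme.{u}) (B : AlgSp.Sp S) (hB : AlgSp.IsAlgSpace B)
    (G : AlgSp.GroupoidSp B) (hR : AlgSp.IsAlgSpace G.R) (k : Type u) [Field k]
    (σ : Spec (CommRingCat.of k) ⟶ S) (eU : G.U ≅ (AlgSp.yon S).obj (Over.mk σ)) (r : AlgSp.Points G.R) :
    ∃ (k' : Type u) (_ : Field k') (_ : Algebra k k'), IsAlgClosed k' ∧
      ∀ (G' : AlgSp.GroupoidSp B) (φ : AlgSp.GroupoidSp.Hom G' G), φ.IsRestriction → AlgSp.IsAlgSpace G'.R →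
        ∀ (eU' : G'.U ≅ (AlgSp.yon S).obj (Over.mk (Spec.map (CommRingCat.ofHom (algebraMap k k')) ≫ σ))),
          φ.fU = eU'.hom ≫ (AlgSp.yon S).map (Over.homMk (Spec.map (CommRingCat.ofHom (algebraMap k k'))) rfl :
            Over.mk (Spec.map (CommRingCat.ofHom (algebraMap k k')) ≫ σ) ⟶ Over.mk σ) ≫ eU.inv →
          ∃ r' : G'.U ⟶ G'.R, (∀ x : AlgSp.Points G'.U, AlgSp.Points.map (r' ≫ φ.fR) x = r) ∧
            IsIso (r' ≫ G'.s) ∧ IsIso (r' ≫ G'.t) := by
  classical
  obtain ⟨p, hp⟩ := Points.mk_surjective r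
  obtain ⟨as, has⟩ := (yon S).map_surjective (p.toHom ≫ G.s ≫ eU.hom)
  obtain ⟨at', hat⟩ := (yon S).map_surjective (p.toHom ≫ G.t ≫ eU.hom)
  obtain ⟨σs, hσs⟩ : ∃ f : CommRingCat.of k ⟶ CommRingCat.of p.K, Spec.map f = as.left :=
    ⟨Spec.preimage as.left, Spec.map_preimage _⟩
  obtain ⟨σt, hσt⟩ : ∃ f : CommRingCat.of k ⟶ CommRingCat.of p.K, Spec.map f = at'.left :=
    ⟨Spec.preimage at'.left, Spec.map_preimage _⟩
  obtain ⟨k', _, j, hk', hal, hLk⟩ := exists_big p.K
  refine ⟨k', inferInstance, (j.comp σs.hom).toAlgebra, hk', ?_⟩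
  obtain ⟨β, hβ⟩ := exists_equiv_over k k' k' (j.comp σs.hom) (j.comp σt.hom) hal
    (lt_of_le_of_lt (mk_le_of_injective σs.hom.injective) hLk) rfl
  intro G' φ hφ _ eU' hfU
  let π : Spec (CommRingCat.of k') ⟶ Spec (CommRingCat.of k) :=
    Spec.map (CommRingCat.ofHom (j.comp σs.hom))
  let X : Over S := Over.mk (π ≫ σ)
  let J' : Spec (CommRingCat.of k') ⟶ Spec (CommRingCat.of p.K) := Spec.map (CommRingCat.ofHom j)
  have hJs : J' ≫ as.left = π := by
    rw [← hσs, ← Spec.map_comp]
    rfl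
  have hJt : J' ≫ at'.left = Spec.map (CommRingCat.ofHom β.toRingHom) ≫ π := by
    rw [← hσt, ← Spec.map_comp, ← Spec.map_comp]
    congr 1
    ext x
    exact (hβ x).symm
  let ψ : X ⟶ p.pt := Over.homMk J' (by
    have := Over.w as
    simp only [Over.mk_hom] at this ⊢
    rw [← this, ← Category.assoc, hJs]
    rfl)
  let b : X ⟶ X := Over.homMk (Spec.map (CommRingCat.ofHom β.toRingHom)) (by
    have h1 := Over.w at'
    have h2 := Over.w as
    simp only [Over.mk_hom, X] at h1 h2 ⊢
    rw [← Category.assoc, ← hJt, Category.assoc]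
    refine (congrArg (J' ≫ ·) (h1.trans h2.symm)).trans ?_
    rw [← Category.assoc, hJs])
  let πo : X ⟶ Over.mk σ := Over.homMk π rfl
  have hψs : ψ ≫ as = πo := Over.OverMorphism.ext hJs
  have hψt : ψ ≫ at' = b ≫ πo := Over.OverMorphism.ext hJt
  have : IsIso b := by
    have : IsIso b.left :=
      inferInstanceAs (IsIso (Spec.map (β.toCommRingCatIso.hom : CommRingCat.of k' ⟶ CommRingCat.of k')))
    have : IsIso ((Over.forget S).map b) := ‹IsIso b.left›
    exact isIso_of_reflects_iso b (Over.forget S)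
  have hfU' : φ.fU = eU'.hom ≫ (yon S).map πo ≫ eU.inv := hfU
  let T1 : G'.U ⟶ G'.U := eU'.hom ≫ (yon S).map b ≫ eU'.inv
  let ρ' : G'.U ⟶ G.R := eU'.hom ≫ (yon S).map ψ ≫ p.toHom
  have hs : ρ' ≫ G.s = φ.fU := by
    rw [hfU', ← hψs, (yon S).map_comp, has]
    simp only [ρ', Category.assoc, Iso.hom_inv_id, Category.comp_id]
  have ht : ρ' ≫ G.t = T1 ≫ φ.fU := by
    simp only [hfU', T1, ρ', Category.assoc, Iso.inv_hom_id_assoc]
    rw [← reassoc_of% ((yon S).map_comp b πo), ← hψt, (yon S).map_comp_assoc, hat]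
    simp only [Category.assoc, Iso.hom_inv_id, Category.comp_id]
  have hT1 : T1 ≫ G'.pU = 𝟙 _ ≫ G'.pU := by
    rw [Category.id_comp, ← φ.fU_over, ← Category.assoc, ← ht, Category.assoc, G.t_over, ← G.s_over,
      ← Category.assoc, hs]
  have hc : ρ' ≫ G.j = pullback.lift T1 (𝟙 _) hT1 ≫ φ.prodMap := by
    refine pullback.hom_ext ?_ ?_
    · refine (Category.assoc _ _ _).trans ((congrArg (ρ' ≫ ·) G.j_fst).trans (ht.trans ?_))
      exact ((congrArg (· ≫ φ.fU) (pullback.lift_fst _ _ hT1)).symm.trans (Category.assoc _ _ _)).trans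
        ((congrArg (_ ≫ ·) (prodMap_fst φ)).symm.trans (Category.assoc _ _ _).symm)
    · refine (Category.assoc _ _ _).trans ((congrArg (ρ' ≫ ·) G.j_snd).trans
        (hs.trans ((Category.id_comp φ.fU).symm.trans ?_)))
      exact ((congrArg (· ≫ φ.fU) (pullback.lift_snd _ _ hT1)).symm.trans (Category.assoc _ _ _)).trans
        ((congrArg (_ ≫ ·) (prodMap_snd φ)).symm.trans (Category.assoc _ _ _).symm)
  refine ⟨hφ.lift ρ' _ hc, fun x => ?_, ?_, ?_⟩
  · rw [IsPullback.lift_fst]
    obtain ⟨t, ht'⟩ := (Points.schemeEquiv X).surjective (Points.map eU'.hom x)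
    change Points.ofScheme X t = _ at ht'
    rw [Points.map_comp, ← ht', Points.map_comp, Points.map_ofPt, Category.id_comp]
    have : Points.ofPt ((yon S).map ψ) t = Points.ofScheme p.pt (ψ.left t) := by
      rw [← Points.ofScheme_toScheme p.pt (Points.ofPt ((yon S).map ψ) t), Points.toScheme_ofPt]
    rw [this, Points.map_ofPt, Category.id_comp, Points.ofPt_toHom, hp]
  · have : hφ.lift ρ' _ hc ≫ G'.s = 𝟙 _ := by
      rw [← GroupoidSp.j_snd, ← Category.assoc, IsPullback.lift_snd]
      exact pullback.lift_snd _ _ _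
    rw [this]
    infer_instance
  · have : hφ.lift ρ' _ hc ≫ G'.t = T1 := by
      rw [← GroupoidSp.j_fst, ← Category.assoc, IsPullback.lift_snd]
      exact pullback.lift_fst _ _ _
    rw [this]
    infer_instance

end Groth.Agent.S10146
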