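import Groth.Statements.S10148
import Groth.Agent.Lib.LinTop.Complete
import Mathlib.RingTheory.Henselian
import Mathlib.Algebra.Polynomial.Identities
import Mathlib.Topology.Algebra.Polynomial

set_option autoImplicit false
universe u
open LinTop

namespace Groth.Agent.S10148

/-- Let A be a weakly admissible topological ring (linearly topologized, Hausdorff and complete, having
a weak ideal of definition) and let I be a weak ideal of definition of A, that is, an open ideal
consisting of topologically nilpotent elements. Then (A, I) is a henselian pair. -/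
theorem result
    (A : Type u) [CommRing A] [UniformSpace A] [IsUniformAddGroup A] [IsTopologicalRing A]
    (hA : LinTop.IsWeaklyAdmissible A) (I : Ideal A) (hI : LinTop.IsWeakIdealOfDefinition A I) :
    HenselianRing A I := by
  obtain ⟨⟨hlin, -⟩, ht, hc⟩ := hA
  have hj := LinTopH7.le_jacobson hI.2
  refine { jac := hj, is_henselian := fun f hf a₀ h₁ h₂ => ?_ }
  have := isLocalHom_of_le_jacobson_bot I hj
  let c : ℕ → A := fun n => Nat.rec a₀ (fun _ b => b - f.eval b * Ring.inverse (f.derivative.eval b)) n
  let t := f.eval a₀
  have key : ∀ n, c n - a₀ ∈ Ideal.span {t} ∧ f.eval (c n) ∈ Ideal.span {t ^ (2 ^ n)} := by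
    intro n
    induction n with
    | zero => exact ⟨by simp [c], by simp [c, t]⟩
    | succ n ih =>
      obtain ⟨ih1, ih2⟩ := ih
      have hu : IsUnit (f.derivative.eval (c n)) := by
        refine IsUnit.of_map (Ideal.Quotient.mk I) _ ?_
        convert! h₂ using 1
        rw [Ideal.Quotient.eq]
        exact I.mem_of_dvd (Polynomial.sub_dvd_eval_sub _ _ _)
          ((Ideal.span_singleton_le_iff_mem I).2 h₁ ih1)
      set w := Ring.inverse (f.derivative.eval (c n)) with hw
      have hc' : c (n + 1) = c n + -(f.eval (c n) * w) := sub_eq_add_neg _ _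
      constructor
      · have hpow : t ^ 2 ^ n ∈ Ideal.span {t} :=
          Ideal.pow_mem_of_mem _ (Ideal.mem_span_singleton_self t) _ (by positivity)
        rw [hc', show c n + -(f.eval (c n) * w) - a₀ = (c n - a₀) - f.eval (c n) * w by ring]
        exact Ideal.sub_mem _ ih1 (Ideal.mul_mem_right _ _
          ((Ideal.span_singleton_le_iff_mem _).2 hpow ih2))
      · obtain ⟨k, hk⟩ := Polynomial.binomExpansion f (c n) (-(f.eval (c n) * w))
        obtain ⟨q, hq⟩ := Ideal.mem_span_singleton'.1 ih2
        have hwm : f.derivative.eval (c n) * w = 1 := Ring.mul_inverse_cancel _ hu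
        refine Ideal.mem_span_singleton'.2 ⟨k * w ^ 2 * q ^ 2, ?_⟩
        rw [hc', hk, pow_succ 2 n, pow_mul]
        have : f.eval (c n) + f.derivative.eval (c n) * -(f.eval (c n) * w) = 0 := by
          linear_combination -(f.eval (c n)) * hwm
        rw [this, ← hq]
        ring
  have hsmall : ∀ U : Ideal A, IsOpen (U : Set A) → ∀ᶠ n in Filter.atTop, f.eval (c n) ∈ U := by
    intro U hU
    have h2 : Filter.Tendsto (fun n : ℕ => 2 ^ n) Filter.atTop Filter.atTop :=
      Filter.tendsto_atTop_mono (fun n => (Nat.lt_two_pow_self).le) Filter.tendsto_id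
    filter_upwards [h2.eventually ((hI.2 t h₁).eventually_mem (LinTopH7.nhds_of_open hU))] with n hn
    exact (Ideal.span_singleton_le_iff_mem U).2 hn (key n).2
  obtain ⟨a, ha⟩ := LinTopH7.exists_tendsto (x := c) fun U hU => by
    filter_upwards [hsmall U hU] with n hn
    rw [show c (n + 1) - c n = -(f.eval (c n) * Ring.inverse (f.derivative.eval (c n))) by
      show c n - _ - c n = _
      ring]
    exact U.neg_mem (U.mul_mem_right _ hn)
  refine ⟨a, tendsto_nhds_unique ((f.continuous.tendsto a).comp ha)
    (LinTopH7.tendsto_of_eventually_sub_mem fun U hU => by simpa using hsmall U hU), ?_⟩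
  exact (LinTopH7.isClosed_of_open hI.1).mem_of_tendsto (ha.sub_const a₀)
    (Filter.Eventually.of_forall fun n => (Ideal.span_singleton_le_iff_mem I).2 h₁ (key n).1)

end Groth.Agent.S10148
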