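import Groth.Statements.S1015
import Groth.Agent.Lib.DBC9.Good
import Groth.Agent.Lib.DPush.QCoh

set_option autoImplicit false
set_option linter.style.haveILetI false
set_option backward.isDefEq.respectTransparency false
universe u
open CategoryTheory CategoryTheory.Limits AlgebraicGeometry
attribute [local instance] HasDerivedCategory.standard
open Perf

namespace Groth.Agent.S1015

/-- Let U ⊆ X be an open subscheme whose inclusion is quasi-compact. Every object F of D(O_U) with
quasi-coherent cohomology sheaves is the restriction of such an object on X: there is a complex G of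
O_X-modules with quasi-coherent cohomology sheaves whose termwise restriction to U is isomorphic to
F in D(O_U). -/
theorem result (X : Scheme.{u}) (U : X.Opens) [QuasiCompact U.ι]
    (F : DCoh.D (U : Scheme.{u})) (hF : DCoh.IsQCohD F) :
    ∃ G : CochainComplex X.Modules ℤ, DCoh.IsQCohD (DCoh.toD X G) ∧
      Nonempty (DerivedCategory.Q.obj ((DCoh.restrictCx U).obj G) ≅ F) := by
  haveI : DCoh.HasRpush U.ι := DBC9.hasRpush U.ι
  haveI := DBC9.isIso_counit_openImmersion U.ι
  haveI : QuasiSeparated U.ι := inferInstance
  let G := (DCoh.Rpush U.ι).obj F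
  let P := (DerivedCategory.Q (C := X.Modules)).objPreimage G
  let eP : DCoh.toD X P ≅ G := (DerivedCategory.Q (C := X.Modules)).objObjPreimageIso G
  exact ⟨P, DQC.isQCohD_of_iso eP.symm (DPush.isQCohD_rpush U.ι F hF),
    ⟨((Scheme.Modules.restrictFunctor U.ι).mapDerivedCategoryFactors.app P).symm ≪≫ (DPerf.resD U.ι).mapIso eP ≪≫
      (DMon9.lPRes U.ι).symm.app G ≪≫ (asIso (DMon9.adjLP U.ι).counit).app F⟩⟩

end Groth.Agent.S1015
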