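import Groth.Statements.S10155
import Groth.Agent.Lib.LinTop.Complete

set_option autoImplicit false
universe u v
open LinTop

namespace Groth.Agent.S10155

/-- Let φ : A → B be a taut homomorphism of linearly topologized rings with dense image. Assume A is
Hausdorff and complete with a countable fundamental system of open ideals and B is Hausdorff. Then φ
is surjective and open, so that B is the quotient of A by the closed ideal ker φ with the quotient
topology, and B is complete. -/
theorem result
    (A : Type u) [CommRing A] [UniformSpace A] [IsUniformAddGroup A] [IsTopologicalRing A]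
    [IsLinearTopology A A] [T2Space A] [CompleteSpace A] (hA : (nhds (0 : A)).IsCountablyGenerated)
    (B : Type v) [CommRing B] [UniformSpace B] [IsUniformAddGroup B] [IsTopologicalRing B]
    [IsLinearTopology B B] [T2Space B]
    (φ : A →+* B) (hφ : LinTop.IsTaut φ) (hd : DenseRange φ) :
    Function.Surjective φ ∧ IsOpenQuotientMap φ ∧ CompleteSpace B := by
  obtain ⟨s, hs⟩ := (IsLinearTopology.hasBasis_open_ideal (R := A)).exists_antitone_subbasis
  have himg : ∀ I : Ideal A, IsOpen (closure (φ '' (I : Set A))) ↔
      IsOpen (((I.map φ).closure : Ideal B) : Set B) := fun I => by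
    rw [Ideal.coe_closure, LinTopH7.closure_map_eq_closure_image hd]
  have hmain : ∀ I : Ideal A, IsOpen (I : Set A) → (((I.map φ).closure : Ideal B) : Set B) ⊆ φ '' (I : Set A) := by
    intro I hI b hb
    let T : ℕ → Ideal A := fun n => if n = 0 then I else I ⊓ s (n - 1)
    have hT : ∀ n, IsOpen (T n : Set A) := fun n => by
      by_cases h : n = 0
      · simp [T, h, hI]
      · simp only [T, h, if_false]
        exact hI.inter (hs.1 _)
    have hTI : ∀ n, T n ≤ I := fun n => by
      by_cases h : n = 0
      · simp [T, h]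
      · simp [T, h]
    let J : ℕ → Ideal B := fun n => ((T n).map φ).closure
    have hJo : ∀ n, IsOpen (J n : Set B) := fun n => LinTopH7.taut_closure_open hφ (hT n)
    have hstep : ∀ n, ∀ r ∈ J n, ∃ a ∈ T n, r - φ a ∈ J (n + 1) := by
      intro n r hr
      have hr' : r ∈ closure (φ '' (T n : Set A)) := by
        rw [← LinTopH7.closure_map_eq_closure_image hd]
        exact hr
      have hnh : (fun y => r - y) ⁻¹' (J (n + 1) : Set B) ∈ nhds r :=
        ((hJo (n + 1)).preimage (continuous_const.sub continuous_id)).mem_nhds (by simp)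
      obtain ⟨_, h1, a, ha, rfl⟩ := mem_closure_iff_nhds.1 hr' _ hnh
      exact ⟨a, ha, h1⟩
    choose g hg hg' using hstep
    let r : (n : ℕ) → {y // y ∈ J n} := fun n =>
      Nat.rec ⟨b, hb⟩ (fun k y => ⟨y.1 - φ (g k y.1 y.2), hg' k y.1 y.2⟩) n
    let S : ℕ → A := fun N => ∑ k ∈ Finset.range N, g k (r k).1 (r k).2
    have hev : ∀ U : Ideal A, IsOpen (U : Set A) → ∀ᶠ n in Filter.atTop, T n ≤ U := by
      intro U hU
      obtain ⟨k, hk⟩ := hs.2.mem_iff.1 (LinTopH7.nhds_of_open hU)
      refine Filter.eventually_atTop.2 ⟨k + 1, fun n hn => ?_⟩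
      have h : n ≠ 0 := by omega
      simp only [T, h, if_false]
      exact inf_le_right.trans ((hs.2.antitone (show k ≤ n - 1 by omega)).trans hk)
    obtain ⟨z, hz⟩ := LinTopH7.exists_tendsto (x := S) fun U hU => by
      filter_upwards [hev U hU] with n hn
      simpa [S, Finset.sum_range_succ] using hn (hg n (r n).1 (r n).2)
    refine ⟨z, (LinTopH7.isClosed_of_open hI).mem_of_tendsto hz (Filter.Eventually.of_forall
      fun N => Submodule.sum_mem _ fun k _ => hTI k (hg k _ _)), ?_⟩
    refine tendsto_nhds_unique ((hφ.1.tendsto z).comp hz)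
      (LinTopH7.tendsto_of_eventually_sub_mem fun U hU => ?_)
    have hSr : ∀ N, φ (S N) - b = -(r N).1 := by
      intro N
      induction N with
      | zero => simp [S, r]
      | succ N ih =>
        show φ (S (N + 1)) - b = -((r N).1 - φ (g N (r N).1 (r N).2))
        simp only [S, Finset.sum_range_succ, map_add] at ih ⊢
        linear_combination ih
    filter_upwards [hev _ (LinTopH7.comap_open hφ.1 hU)] with N hN
    rw [Function.comp_apply, hSr, U.neg_mem_iff]
    exact LinTopH7.closure_le_of_open ((Ideal.map_mono hN).trans Ideal.map_comap_le) hU (r N).2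
  have hsurj : Function.Surjective φ := fun b => by
    obtain ⟨a, -, ha⟩ := hmain ⊤ isOpen_univ (show b ∈ closure _ by
      rw [LinTopH7.closure_map_eq_closure_image hd]
      simp [hd.closure_range])
    exact ⟨a, ha⟩
  have hopen : IsOpenMap φ := by
    refine IsTopologicalAddGroup.isOpenMap_iff_nhds_zero.2 fun V hV => ?_
    obtain ⟨I, hI, hIV⟩ := LinTopH7.exists_open_ideal (Filter.mem_map.1 hV)
    exact Filter.mem_of_superset (LinTopH7.nhds_of_open (LinTopH7.taut_closure_open hφ hI))
      (subset_trans (hmain I hI) (Set.image_subset_iff.2 hIV))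
  refine ⟨hsurj, ⟨hsurj, hφ.1, hopen⟩, ?_⟩
  haveI := hA
  haveI : FirstCountableTopology A := ⟨fun x => by
    rw [← map_add_left_nhds_zero x]
    infer_instance⟩
  let N := φ.toAddMonoidHom.ker
  letI : UniformSpace (A ⧸ N) := IsTopologicalAddGroup.rightUniformSpace (A ⧸ N)
  haveI : IsUniformAddGroup (A ⧸ N) := isUniformAddGroup_of_addCommGroup
  haveI : CompleteSpace (A ⧸ N) := QuotientAddGroup.completeSpace_right A N
  let e : (A ⧸ N) ≃+ B := QuotientAddGroup.quotientKerEquivOfSurjective φ.toAddMonoidHom hsurj
  have hc : Continuous e := (QuotientAddGroup.isQuotientMap_mk N).continuous_iff.2 hφ.1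
  have ho : IsOpenMap e :=
    IsOpenMap.of_comp (f := (QuotientAddGroup.mk : A → A ⧸ N)) continuous_quot_mk Quotient.mk''_surjective hopen
  have hcs : Continuous e.symm := by
    refine continuous_def.2 fun U hU => ?_
    convert ho U hU using 1
    exact (e.toEquiv.image_eq_preimage_symm U).symm
  exact (UniformEquiv.completeSpace_iff
    { e.toEquiv with
      uniformContinuous_toFun := uniformContinuous_addMonoidHom_of_continuous (f := e.toAddMonoidHom) hc
      uniformContinuous_invFun := uniformContinuous_addMonoidHom_of_continuous (f := e.symm.toAddMonoidHom) hcs }).1 ‹_›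

end Groth.Agent.S10155
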