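import Groth.Statements.S10156
import Groth.Agent.Lib.LinTop.Basic

set_option autoImplicit false
universe u v w
open LinTop

namespace Groth.Agent.S10156

/-- Given pre-adic rings A, B, C and continuous ring maps ψ : B → C and φ : A → B, adicness of the
composite A → C implies that ψ is adic. -/
theorem result
    (A : Type u) [CommRing A] [TopologicalSpace A] [IsTopologicalRing A] (hA : LinTop.IsPreadic A)
    (B : Type v) [CommRing B] [TopologicalSpace B] [IsTopologicalRing B] (hB : LinTop.IsPreadic B)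
    (C : Type w) [CommRing C] [TopologicalSpace C] [IsTopologicalRing C] (hC : LinTop.IsPreadic C)
    (φ : A →+* B) (ψ : B →+* C) (hφ : Continuous φ) (hψ : Continuous ψ)
    (h : LinTop.IsAdicHom (ψ.comp φ)) : LinTop.IsAdicHom ψ := by
  obtain ⟨I, hI, hIC⟩ := h
  obtain ⟨J₀, hJ₀⟩ := hB
  have hJ₀' := LinTopH7.isIdealOfDefinition_of_isAdic hJ₀
  obtain ⟨m, -, hm⟩ := LinTopH7.pow_le_of_open hI (LinTopH7.comap_open hφ hJ₀'.1)
  have hJ : LinTop.IsIdealOfDefinition B (J₀ ⊔ I.map φ) := by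
    refine LinTopH7.isIdealOfDefinition_of_pow_le hJ₀' (LinTopH7.isOpen_of_le le_sup_left hJ₀'.1)
      (LinTopH7.sup_pow_le (n := m) ?_)
    rw [← Ideal.map_pow]
    exact Ideal.map_le_iff_le_comap.2 hm
  have hle : I.map (ψ.comp φ) ≤ (J₀ ⊔ I.map φ).map ψ := by
    rw [← Ideal.map_map]
    exact Ideal.map_mono le_sup_right
  refine ⟨_, hJ, isAdic_iff.2 ⟨fun n => ?_, fun s hs => ?_⟩⟩
  · exact LinTopH7.isOpen_of_le (Ideal.pow_right_mono hle n) ((isAdic_iff.1 hIC).1 n)
  · obtain ⟨n, hn⟩ := (isAdic_iff.1 hIC).2 s hs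
    obtain ⟨k, -, hk⟩ := LinTopH7.pow_le_of_open hJ
      (LinTopH7.comap_open hψ ((isAdic_iff.1 hIC).1 n))
    refine ⟨k, subset_trans ?_ hn⟩
    rw [← Ideal.map_pow]
    exact Ideal.map_le_iff_le_comap.2 hk

end Groth.Agent.S10156
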