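import Groth.Statements.S10159
import Groth.Agent.Lib.LinTop.Basic

set_option autoImplicit false
universe u
open LinTop

namespace Groth.Agent.S10159

open Topology Filter

/-- A copy of `A` carrying the `I`-adic topology. -/
def AdicCopy (A : Type u) [CommRing A] (_I : Ideal A) : Type u := A

instance (A : Type u) [CommRing A] (I : Ideal A) : CommRing (AdicCopy A I) := ‹CommRing A›

instance (A : Type u) [CommRing A] (I : Ideal A) : WithIdeal (AdicCopy A I) := ⟨I⟩

/-- The identity map. -/
def AdicCopy.toA (A : Type u) [CommRing A] (I : Ideal A) : AdicCopy A I →+* A := RingHom.id A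

theorem AdicCopy.taut (A : Type u) [CommRing A] [TopologicalSpace A] [IsTopologicalRing A]
    [IsLinearTopology A A] (I : Ideal A)
    (ho : ∀ n : ℕ, IsOpen (closure ((I ^ n : Ideal A) : Set A)))
    (hb : ∀ U ∈ nhds (0 : A), ∃ n : ℕ, closure ((I ^ n : Ideal A) : Set A) ⊆ U) :
    LinTop.IsTaut (AdicCopy.toA A I) := by
  have hb0 := Ideal.hasBasis_nhds_zero_adic (R := AdicCopy A I) I
  refine LinTopH7.taut_of_open ?_ fun K hK => ?_
  · refine continuous_of_continuousAt_zero (AdicCopy.toA A I).toAddMonoidHom ?_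
    intro U hU
    rw [map_zero] at hU
    obtain ⟨n, hn⟩ := hb U hU
    exact hb0.mem_iff.2 ⟨n, trivial, fun x hx => hn (subset_closure hx)⟩
  · obtain ⟨n, -, hn⟩ := hb0.mem_iff.1 (hK.mem_nhds K.zero_mem)
    refine LinTopH7.isOpen_of_le (J := (K.map (AdicCopy.toA A I)).closure) (I := (I ^ n).closure)
      (LinTopH7.closure_mono' ?_) (ho n)
    intro x hx
    exact Ideal.mem_map_of_mem (AdicCopy.toA A I) (hn hx)

/-- For a ring A carrying a linear topology, the following four conditions are equivalent: (1) A is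
weakly pre-adic; (2) there exist a pre-adic topological ring A' and a taut continuous ring
homomorphism A' → A (A' is taken in the universe of A, which suffices since A with an adic topology
serves); (3) A has an ideal of definition, and for at least one ideal of definition I every closure
cl(I^n) with n ≥ 1 is open; (4) A has an ideal of definition, and for each of its ideals of
definition I every closure cl(I^n) with n ≥ 1 is open. -/
theorem result
    (A : Type u) [CommRing A] [TopologicalSpace A] [IsTopologicalRing A] [IsLinearTopology A A] :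
    List.TFAE [LinTop.IsWeaklyPreadic A,
      ∃ (A' : Type u) (_ : CommRing A') (_ : TopologicalSpace A') (_ : IsTopologicalRing A')
        (φ : A' →+* A), LinTop.IsPreadic A' ∧ LinTop.IsTaut φ,
      LinTop.IsPreadmissible A ∧ ∃ I : Ideal A, LinTop.IsIdealOfDefinition A I ∧
        ∀ n : ℕ, 0 < n → IsOpen (closure ((I ^ n : Ideal A) : Set A)),
      LinTop.IsPreadmissible A ∧ ∀ I : Ideal A, LinTop.IsIdealOfDefinition A I →
        ∀ n : ℕ, 0 < n → IsOpen (closure ((I ^ n : Ideal A) : Set A))] := by
  tfae_have 1 → 2 := by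
    rintro ⟨-, I, ho, hb⟩
    exact ⟨AdicCopy A I, inferInstance, inferInstance, inferInstance, AdicCopy.toA A I, ⟨_, rfl⟩,
      AdicCopy.taut A I ho hb⟩
  tfae_have 2 → 3 := by
    rintro ⟨A', _, _, _, φ, ⟨J, hJ⟩, hφ⟩
    have hI := LinTopH7.isPreadmissible_of_taut hφ (LinTopH7.isIdealOfDefinition_of_isAdic hJ)
    refine ⟨⟨inferInstance, _, hI⟩, _, hI, fun n _ => ?_⟩
    refine LinTopH7.isOpen_of_le (J := ((J.map φ).closure ^ n).closure)
      (LinTopH7.closure_mono' ?_) (LinTopH7.taut_closure_open hφ ((isAdic_iff.1 hJ).1 n))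
    rw [Ideal.map_pow]
    exact Ideal.pow_right_mono (LinTopH7.le_closure _) n
  tfae_have 3 → 4 := by
    rintro ⟨hA, I, hI, h⟩
    exact ⟨hA, fun I' hI' n _ => LinTopH7.closure_pow_open_transfer hI hI'.1 h n⟩
  tfae_have 4 → 1 := by
    rintro ⟨⟨-, I, hI⟩, h⟩
    exact LinTopH7.weaklyPreadic_of_iod hI (h I hI)
  tfae_finish

end Groth.Agent.S10159
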