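import Groth.Statements.S10164
import Groth.Agent.Lib.LinTop.Complete

set_option autoImplicit false
universe u
open LinTop

namespace Groth.Agent.S10164

/-- Let A be weakly adic and I an ideal of definition of A with I/I₂ finitely generated, where I₂
denotes the closure of I^2 (here: I maps onto a finitely generated ideal of A/I₂). Then A is adic,
and some finitely generated ideal of A is an ideal of definition. -/
theorem result
    (A : Type u) [CommRing A] [UniformSpace A] [IsUniformAddGroup A] [IsTopologicalRing A] (hA : LinTop.IsWeaklyAdic A)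
    (I : Ideal A) (hI : LinTop.IsIdealOfDefinition A I)
    (hfg : (I.map (Ideal.Quotient.mk ((I ^ 2).closure))).FG) :
    LinTop.IsAdicRing A ∧ ∃ J : Ideal A, LinTop.IsIdealOfDefinition A J ∧ J.FG := by
  obtain ⟨hwp, ht, hc⟩ := hA
  haveI := hwp.1
  have hop := fun n => LinTopH7.closure_pow_open hwp hI n
  obtain ⟨s, hs⟩ := hfg
  have hlift : ∀ y : s, ∃ x ∈ I, Ideal.Quotient.mk ((I ^ 2).closure) x = y := fun y => by
    refine (Ideal.mem_map_iff_of_surjective _ Ideal.Quotient.mk_surjective).1 ?_
    rw [← hs]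
    exact Ideal.subset_span y.2
  choose g hg hg' using hlift
  let J : Ideal A := Ideal.span (Set.range g)
  have hJI : J ≤ I := Ideal.span_le.2 (Set.range_subset_iff.2 hg)
  have hJfg : J.FG := Submodule.fg_span (Set.finite_range g)
  have h2 : I ≤ J ⊔ (I ^ 2).closure := by
    intro x hx
    have hle : I.map (Ideal.Quotient.mk ((I ^ 2).closure)) ≤ J.map (Ideal.Quotient.mk ((I ^ 2).closure)) := by
      rw [← hs]
      refine Ideal.span_le.2 fun y hy => ?_
      rw [show y = _ from (hg' ⟨y, hy⟩).symm]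
      exact Ideal.mem_map_of_mem _ (Ideal.subset_span ⟨_, rfl⟩)
    obtain ⟨y, hy, hxy⟩ := (Ideal.mem_map_iff_of_surjective _ Ideal.Quotient.mk_surjective).1
      (hle (Ideal.mem_map_of_mem _ hx))
    exact Submodule.mem_sup.2 ⟨y, hy, x - y, Ideal.Quotient.eq.1 hxy.symm, by ring⟩
  have hm : ∀ m, I ≤ J ⊔ (I ^ (m + 2)).closure := by
    intro m
    induction m with
    | zero => exact h2
    | succ m ih =>
      refine h2.trans (sup_le le_sup_left (LinTopH7.closure_le_of_open ?_
        (LinTopH7.isOpen_of_le le_sup_right (hop (m + 1 + 2)))))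
      rw [sq]
      calc I * I ≤ I * (J ⊔ (I ^ (m + 2)).closure) := Ideal.mul_mono le_rfl ih
        _ = I * J ⊔ I * (I ^ (m + 2)).closure := Ideal.mul_sup _ _ _
        _ ≤ J ⊔ (I ^ (m + 1 + 2)).closure := by
          refine sup_le_sup Ideal.mul_le_right ((Ideal.mul_mono (LinTopH7.le_closure I) le_rfl).trans
            ((LinTopH7.closure_mul_le _ _).trans (LinTopH7.closure_mono' ?_)))
          rw [← pow_succ']
  have hcl : I ≤ J.closure := by
    rw [LinTopH7.le_closure_iff]
    intro U hU
    obtain ⟨n, -, hn⟩ := LinTopH7.pow_le_of_open hI hU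
    exact (hm n).trans (sup_le_sup le_rfl
      (LinTopH7.closure_le_of_open ((Ideal.pow_le_pow_right (by omega)).trans hn) hU))
  have hadic : IsAdic J := LinTopH7.isAdic_of_fg hJfg (fun n => LinTopH7.isOpen_of_le
    (J := (J ^ n).closure)
    (LinTopH7.closure_closure' ((Ideal.pow_right_mono hcl n).trans (LinTopH7.closure_pow_le J n)))
    (hop n)) fun U hU => by
    obtain ⟨V, hV, hVU⟩ := LinTopH7.exists_open_ideal hU
    obtain ⟨n, -, hn⟩ := LinTopH7.pow_le_of_open hI hV
    exact ⟨n, subset_trans (LinTopH7.closure_le_of_open ((Ideal.pow_right_mono hJI n).trans hn) hV) hVU⟩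
  exact ⟨⟨⟨J, hadic⟩, ht, hc⟩, J, LinTopH7.isIdealOfDefinition_of_isAdic hadic, hJfg⟩

end Groth.Agent.S10164
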