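import Groth.Statements.S10166
import Groth.Agent.Lib.LinTop.Basic

set_option autoImplicit false
universe u v
open LinTop

namespace Groth.Agent.S10166

/-- Let φ : A → B be a taut homomorphism of linearly topologized rings such that for every open ideal I
of A, with J the closure of φ(I)B, the induced map A/I → B/J is faithfully flat. If B has a
countable fundamental system of open ideals, then so does A. -/
theorem result
    (A : Type u) [CommRing A] [TopologicalSpace A] [IsTopologicalRing A] [IsLinearTopology A A]
    (B : Type v) [CommRing B] [TopologicalSpace B] [IsTopologicalRing B] [IsLinearTopology B B]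
    (φ : A →+* B) (hφ : LinTop.IsTautFFlat φ) (hB : (nhds (0 : B)).IsCountablyGenerated) :
    (nhds (0 : A)).IsCountablyGenerated := by
  obtain ⟨s, hs⟩ := (IsLinearTopology.hasBasis_open_ideal (R := B)).exists_antitone_subbasis
  refine Filter.HasBasis.isCountablyGenerated (ι := ℕ) (p := fun _ => True)
    (s := fun n => (((s n).comap φ : Ideal A) : Set A)) ⟨fun U => ⟨fun hU => ?_, fun ⟨n, _, hn⟩ => ?_⟩⟩
  · obtain ⟨I, hI, hIU⟩ := LinTopH7.exists_open_ideal hU
    obtain ⟨n, hn⟩ := hs.2.mem_iff.1 (LinTopH7.nhds_of_open (LinTopH7.taut_closure_open hφ.1 hI))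
    refine ⟨n, trivial, subset_trans ?_ hIU⟩
    rw [← LinTopH7.comap_closure_map_eq hφ hI]
    exact Ideal.comap_mono hn
  · exact Filter.mem_of_superset (LinTopH7.nhds_of_open (LinTopH7.comap_open hφ.1.1 (hs.1 n))) hn

end Groth.Agent.S10166
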