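import Groth.Statements.S1017
import Groth.Agent.Lib.DGen9.Coherent

set_option autoImplicit false
set_option linter.style.haveILetI false
set_option backward.isDefEq.respectTransparency false
universe u
open CategoryTheory CategoryTheory.Limits AlgebraicGeometry
attribute [local instance] HasDerivedCategory.standard
open Perf

namespace Groth.Agent.S1017

/-- Let X be a Noetherian scheme and U ⊆ X an open subscheme. Every bounded object F of D(O_U) with
coherent cohomology sheaves is the restriction of such an object on X: there is a complex G of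
O_X-modules, bounded with coherent cohomology as an object of D(O_X), whose termwise restriction to
U is isomorphic to F in D(O_U). -/
theorem result (X : Scheme.{u}) [IsNoetherian X] (U : X.Opens)
    (F : DCoh.D (U : Scheme.{u})) (hF : DCoh.IsCohD F) (a b : ℤ) [F.IsGE a] [F.IsLE b] :
    ∃ (G : CochainComplex X.Modules ℤ) (a' b' : ℤ), DCoh.IsCohD (DCoh.toD X G) ∧ (DCoh.toD X G).IsGE a' ∧ (DCoh.toD X G).IsLE b' ∧
      Nonempty (DerivedCategory.Q.obj ((DCoh.restrictCx U).obj G) ≅ F) := by
  obtain ⟨G, b', hG, ha, hb, ⟨e⟩⟩ := DGen9.exists_coherent_extension U F hF a b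
  let p := DerivedCategory.Q.objObjPreimageIso G
  haveI := DPush9.isWeakSerre_coh X
  exact ⟨DerivedCategory.Q.objPreimage G, a, b', WayOut.cohIn_of_iso (fun M : X.Modules => Coh.IsCoh M) p.symm hG,
    DerivedCategory.TStructure.t.isGE_of_iso p.symm a, DerivedCategory.TStructure.t.isLE_of_iso p.symm b',
    ⟨((DPerf.resFac U.ι).app _).symm ≪≫ (DPerf.resD U.ι).mapIso p ≪≫ e⟩⟩

end Groth.Agent.S1017
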