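import Groth.Statements.S10170
import Groth.Agent.Lib.LinTop.Complete

set_option autoImplicit false
universe u v
open LinTop

namespace Groth.Agent.S10170

/-- Let φ : A → B be a taut homomorphism of linearly topologized rings such that for every open ideal I
of A the induced ring map A/I → B/J, where J denotes the closure of φ(I)B, is faithfully flat.
Suppose A is Hausdorff and complete, and B is adic with some finitely generated ideal of definition.
Then A is adic, and some finitely generated ideal of A is an ideal of definition. -/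
theorem result
    (A : Type u) [CommRing A] [UniformSpace A] [IsUniformAddGroup A] [IsTopologicalRing A] [IsLinearTopology A A] [T2Space A] [CompleteSpace A]
    (B : Type v) [CommRing B] [UniformSpace B] [IsUniformAddGroup B] [IsTopologicalRing B] (hB : LinTop.IsAdicRing B)
    (hJ : ∃ J : Ideal B, LinTop.IsIdealOfDefinition B J ∧ J.FG)
    (φ : A →+* B) (hφ : LinTop.IsTautFFlat φ) :
    LinTop.IsAdicRing A ∧ ∃ I : Ideal A, LinTop.IsIdealOfDefinition A I ∧ I.FG := by
  obtain ⟨J, hJ, hJfg⟩ := hJ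
  obtain ⟨hBp, -, -⟩ := hB
  have hadic := isAdic_iff.1 (LinTopH7.isAdic_of_isPreadic hBp hJ)
  haveI := LinTopH7.isLinearTopology_of_isAdic (LinTopH7.isAdic_of_isPreadic hBp hJ)
  have hI₀ := LinTopH7.iod_comap hφ hJ
  obtain ⟨m, -, hm⟩ := LinTopH7.pow_le_of_open hJ (LinTopH7.taut_closure_open hφ.1 hI₀.1)
  have hfin : ∀ s : Finset B, (↑s ⊆ ((J ^ m : Ideal B) : Set B)) → ∃ a : Ideal A, a.FG ∧ a ≤ J.comap φ ∧
      (↑s : Set B) ⊆ ((a.map φ ⊔ J ^ (m + 1) : Ideal B) : Set B) := by
    classical
    intro s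
    induction s using Finset.induction with
    | empty => exact fun _ => ⟨⊥, Submodule.fg_bot, bot_le, by simp⟩
    | insert x s _ ih =>
      intro hxs
      rw [Finset.coe_insert, Set.insert_subset_iff] at hxs
      obtain ⟨a, ha, hale, has⟩ := ih hxs.2
      obtain ⟨w, hw, z, hz, rfl⟩ := Submodule.mem_sup.1
        (LinTopH7.closure_le_sup_open _ (hadic.1 (m + 1)) (hm hxs.1))
      obtain ⟨T, hT, hwT⟩ := Submodule.mem_span_finite_of_mem_span hw
      obtain ⟨T', hT', rfl⟩ := Finset.subset_set_image_iff.1 hT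
      refine ⟨a ⊔ Ideal.span ↑T', Submodule.FG.sup ha ⟨T', rfl⟩, sup_le hale (Ideal.span_le.2 hT'), ?_⟩
      rw [Finset.coe_insert, Set.insert_subset_iff]
      refine ⟨Submodule.add_mem_sup (Ideal.map_mono le_sup_right ?_) hz, subset_trans has ?_⟩
      · rw [Ideal.map_span, ← Finset.coe_image]
        exact hwT
      · exact SetLike.coe_subset_coe.2 (sup_le_sup (Ideal.map_mono le_sup_left) le_rfl)
  obtain ⟨s, hs⟩ := hJfg.pow (n := m)
  obtain ⟨a, hafg, hale, has⟩ := hfin s (hs ▸ Submodule.subset_span)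
  have hk : ∀ k, J ^ m ≤ a.map φ ⊔ J ^ (m + k) := by
    intro k
    induction k with
    | zero => exact le_sup_right
    | succ k ih =>
      refine ih.trans (sup_le le_sup_left ?_)
      rw [add_comm m k, pow_add]
      calc J ^ k * J ^ m ≤ J ^ k * (a.map φ ⊔ J ^ (m + 1)) :=
            Ideal.mul_mono le_rfl (hs ▸ Submodule.span_le.2 has)
        _ = J ^ k * a.map φ ⊔ J ^ k * J ^ (m + 1) := Ideal.mul_sup _ _ _
        _ ≤ a.map φ ⊔ J ^ (m + (k + 1)) :=
          sup_le_sup Ideal.mul_le_right (le_of_eq (by rw [← pow_add]; ring_nf))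
  have hcl : J ^ m ≤ (a.map φ).closure := by
    rw [LinTopH7.le_closure_iff]
    intro U hU
    obtain ⟨n, -, hn⟩ := LinTopH7.pow_le_of_open hJ hU
    exact (hk n).trans (sup_le_sup le_rfl ((Ideal.pow_le_pow_right (by omega)).trans hn))
  have hadicA : IsAdic a := LinTopH7.isAdic_of_fg hafg (fun n => by
    refine LinTopH7.open_closure_of_map hφ (LinTopH7.isOpen_of_le (I := (J ^ m) ^ n) ?_ ?_)
    · rw [Ideal.map_pow]
      exact (Ideal.pow_right_mono hcl n).trans (LinTopH7.closure_pow_le _ n)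
    · rw [← pow_mul]
      exact hadic.1 _) fun U hU => by
    obtain ⟨V, hV, hVU⟩ := LinTopH7.exists_open_ideal hU
    obtain ⟨n, -, hn⟩ := LinTopH7.pow_le_of_open hI₀ hV
    exact ⟨n, subset_trans (LinTopH7.closure_le_of_open ((Ideal.pow_right_mono hale n).trans hn) hV) hVU⟩
  exact ⟨⟨⟨a, hadicA⟩, inferInstance, inferInstance⟩, a, LinTopH7.isIdealOfDefinition_of_isAdic hadicA, hafg⟩

end Groth.Agent.S10170
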