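import Groth.Statements.S10173
import Groth.Agent.Lib.LinTopH7.Adic

set_option autoImplicit false
universe u v
open LinTop

namespace Groth.Agent.S10173

/-- Let R be a commutative ring, I a finitely generated ideal and M a topological R-module (additive
uniform structure, each scalar acting uniformly continuously) having an open submodule M' whose
topology is the I-adic one, i.e. the I^n M' are open in M and form a fundamental system of
neighbourhoods of 0. Then the separated completion M^ has an open submodule whose topology is I-adic
in the same sense, and for every n ≥ 1 the map M → M^/I^n M^ is surjective with kernel I^n M,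
identifying M^/I^n M^ with M/I^n M. -/
theorem result
    {R : Type u} [CommRing R] (I : Ideal R) (hI : I.FG)
    {M : Type v} [AddCommGroup M] [Module R M] [UniformSpace M] [IsUniformAddGroup M]
    [UniformContinuousConstSMul R M]
    (M' : Submodule R M) (hopen : ∀ n : ℕ, IsOpen ((I ^ n • M' : Submodule R M) : Set M))
    (hbasis : ∀ U ∈ nhds (0 : M), ∃ n : ℕ, ((I ^ n • M' : Submodule R M) : Set M) ⊆ U) :
    (∃ M'' : Submodule R (UniformSpace.Completion M),
        (∀ n : ℕ, IsOpen ((I ^ n • M'' : Submodule R (UniformSpace.Completion M)) :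
          Set (UniformSpace.Completion M))) ∧
        ∀ U ∈ nhds (0 : UniformSpace.Completion M), ∃ n : ℕ,
          ((I ^ n • M'' : Submodule R (UniformSpace.Completion M)) :
            Set (UniformSpace.Completion M)) ⊆ U) ∧
      ∀ n : ℕ, 0 < n →
        Function.Surjective ((QuotientAddGroup.mk' (I ^ n • ⊤ : Submodule R (UniformSpace.Completion M)).toAddSubgroup).comp
          (UniformSpace.Completion.toCompl : M →+ UniformSpace.Completion M)) ∧
        ((QuotientAddGroup.mk' (I ^ n • ⊤ : Submodule R (UniformSpace.Completion M)).toAddSubgroup).comp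
          (UniformSpace.Completion.toCompl : M →+ UniformSpace.Completion M)).ker = (I ^ n • ⊤ : Submodule R M).toAddSubgroup := by

  haveI : NonarchimedeanAddGroup M := Groth.Agent.LinTopH7.nonarchimedean M' hopen hbasis
  have key := Groth.Agent.LinTopH7.clMod_pow_smul M' hI hopen hbasis
  have hn : ∀ n, ((I ^ n • M' : Submodule R M).toAddSubgroup : Set M) ∈ nhds (0 : M) := fun n =>
    (hopen n).mem_nhds (zero_mem _)
  refine ⟨⟨Groth.Agent.LinTopH7.clMod M', fun n => ?_, fun U hU => ?_⟩, fun n hn0 => ⟨?_, ?_⟩⟩
  · rw [key]
    exact Groth.Agent.LinTopH7.isOpen_cl (hn n)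
  · obtain ⟨W, hW, hWU⟩ := Groth.Agent.LinTopH7.exists_cl_subset hU
    obtain ⟨n, hn⟩ := hbasis _ hW
    refine ⟨n, ?_⟩
    rw [key]
    exact (closure_mono (Set.image_mono hn)).trans hWU
  · intro z
    obtain ⟨y, rfl⟩ := QuotientAddGroup.mk_surjective z
    obtain ⟨m, hm⟩ := Groth.Agent.LinTopH7.exists_sub_mem (hn n) y
    refine ⟨m, (QuotientAddGroup.eq (s := (I ^ n • ⊤ : Submodule R (UniformSpace.Completion M)).toAddSubgroup)).mpr ?_⟩
    rw [neg_add_eq_sub]
    exact (Submodule.smul_mono le_rfl le_top : I ^ n • Groth.Agent.LinTopH7.clMod M' ≤ I ^ n • ⊤)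
      (key n ▸ hm)
  · ext m
    rw [AddMonoidHom.mem_ker, AddMonoidHom.comp_apply, QuotientAddGroup.mk'_apply,
      QuotientAddGroup.eq_zero_iff, Submodule.mem_toAddSubgroup, Submodule.mem_toAddSubgroup]
    constructor
    · intro h
      have : ∀ x ∈ (I ^ n • ⊤ : Submodule R (UniformSpace.Completion M)),
          ∃ t ∈ (I ^ n • ⊤ : Submodule R M),
            x - (t : UniformSpace.Completion M) ∈ I ^ n • Groth.Agent.LinTopH7.clMod M' := by
        intro x hx
        induction hx using Submodule.smul_induction_on' with
        | smul r hr z _ =>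
          obtain ⟨t, ht⟩ := Groth.Agent.LinTopH7.exists_sub_mem
            (N := M'.toAddSubgroup) (by simpa using hn 0) z
          refine ⟨r • t, Submodule.smul_mem_smul hr trivial, ?_⟩
          rw [UniformSpace.Completion.coe_smul, ← smul_sub]
          exact Submodule.smul_mem_smul hr ht
        | add x _ y _ hx hy =>
          obtain ⟨t, ht, htx⟩ := hx
          obtain ⟨t', ht', hty⟩ := hy
          refine ⟨t + t', add_mem ht ht', ?_⟩
          rw [UniformSpace.Completion.coe_add, add_sub_add_comm]
          exact add_mem htx hty
      obtain ⟨t, ht, htm⟩ := this _ h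
      rw [key] at htm
      have h2 : m - t ∈ (I ^ n • M' : Submodule R M) := by
        refine Groth.Agent.LinTopH7.mem_of_coe_mem_cl (hn n) ?_
        rw [UniformSpace.Completion.coe_sub]
        exact htm
      simpa using add_mem (Submodule.smul_mono le_rfl le_top h2 : m - t ∈ (I ^ n • ⊤ : Submodule R M)) ht
    · intro h
      have h0 : m ∈ (I ^ n • ⊤ : Submodule R M) := h
      induction h0 using Submodule.smul_induction_on' with
      | smul r hr z _ =>
        show ((r • z : M) : UniformSpace.Completion M) ∈ _
        rw [UniformSpace.Completion.coe_smul]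
        exact Submodule.smul_mem_smul hr trivial
      | add x hx y hy ihx ihy =>
        show ((x + y : M) : UniformSpace.Completion M) ∈ _
        rw [UniformSpace.Completion.coe_add]
        exact add_mem (ihx hx) (ihy hy)

end Groth.Agent.S10173
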