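import Groth.Statements.S1018
import Groth.Agent.Lib.DGen9.FreeExt

set_option autoImplicit false
set_option linter.style.haveILetI false
set_option backward.isDefEq.respectTransparency false
universe u
open CategoryTheory CategoryTheory.Limits AlgebraicGeometry
attribute [local instance] HasDerivedCategory.standard
open Perf

namespace Groth.Agent.S1018

/-- Let X be an affine scheme, U a quasi-compact open subscheme and E a pseudo-coherent object of D(O_U)
(m-pseudo-coherent for all m). Then there is a bounded above complex G of finite free O_X-modules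
whose termwise restriction to U is isomorphic to E in D(O_U). -/
theorem result (X : Scheme.{u}) [IsAffine X] (U : X.Opens) (hU : IsCompact (U : Set X))
    (E : DCoh.D (U : Scheme.{u})) (hE : ∀ m : ℤ, DCoh.IsPseudoCoherentD m E) :
    ∃ (G : CochainComplex X.Modules ℤ) (b : ℤ), (∀ i : ℤ, b < i → IsZero (G.X i)) ∧
      (∀ i : ℤ, ∃ n : ℕ, Nonempty (G.X i ≅ FlatMod.freeMod X n)) ∧
      Nonempty (DerivedCategory.Q.obj ((DCoh.restrictCx U).obj G) ≅ E) := by
  classical
  obtain ⟨L, ⟨Ecx, b, hb, hF, ⟨eL⟩⟩, ⟨eU⟩⟩ := DGen9.exists_free_extension hU hE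
  let e := X.isoSpec
  let G := (DPerf.resX e.hom).obj ((DPerf.tildeX Γ(X, ⊤)).obj Ecx)
  refine ⟨G, b, fun i hi => (Scheme.Modules.restrictFunctor e.hom).map_isZero ((tilde.functor Γ(X, ⊤)).map_isZero (hb i hi)), fun i => ?_, ?_⟩
  · haveI := (hF i).1
    haveI := (hF i).2
    let β := Module.Free.chooseBasis Γ(X, ⊤) (Ecx.X i)
    let n := Fintype.card (Module.Free.ChooseBasisIndex Γ(X, ⊤) (Ecx.X i))
    let eM : Ecx.X i ≅ ModuleCat.of Γ(X, ⊤) (ULift.{u} (Fin n) →₀ Γ(X, ⊤)) :=
      (β.repr ≪≫ₗ Finsupp.domLCongr ((Fintype.equivFin _).trans Equiv.ulift.symm)).toModuleIso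
    exact ⟨n, ⟨(Scheme.Modules.restrictFunctor e.hom).mapIso ((tilde.functor Γ(X, ⊤)).mapIso eM ≪≫
      (M1.frTildeIso _).trans (M1.freeModFrIso _ n).symm) ≪≫ M2.freeModRestrictIso e.hom n⟩⟩
  · exact ⟨((DPerf.resFac U.ι).app G).symm ≪≫ (DPerf.resD U.ι).mapIso (((DPerf.resFac e.hom).app _).symm ≪≫
      (DPerf.resD e.hom).mapIso (((tilde.functor Γ(X, ⊤)).mapDerivedCategoryFactors.app Ecx).symm ≪≫
        (DPerf.tildeDD Γ(X, ⊤)).mapIso eL)) ≪≫ eU⟩

end Groth.Agent.S1018
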