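import Groth.Statements.S10181
import Groth.Agent.Lib.AlgSpace.Diag

set_option autoImplicit false
universe u
open CategoryTheory CategoryTheory.Limits AlgebraicGeometry Topology TopologicalSpace
open AlgSp

namespace Groth.Agent.S10181

/-- Let X be an algebraic space over a scheme S and a : h_U ⟶ X a representable etale map from a scheme
U over S whose underlying scheme is separated. Then a is (representable and) separated, and the
scheme R = U ×_X U representing the fibre product h_U ×_X h_U is separated. -/
theorem result {S : Scheme.{u}} (X : AlgSp.Space S) {U : Over S}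
    (a : (AlgSp.yon S).obj U ⟶ X.obj) (ha : AlgSp.RepWith @Etale a) [U.left.IsSeparated] :
    AlgSp.RepWith @IsSeparated a ∧
      ∀ (R : Over S) (s t : R ⟶ U), IsPullback ((AlgSp.yon S).map t) ((AlgSp.yon S).map s) a a →
        R.left.IsSeparated := by
  have hU : IsSeparated U.hom := inferInstance
  constructor
  · refine ⟨ha.1, fun T V g fst snd sq => ?_⟩
    obtain ⟨k, rfl⟩ := (AlgSp.yon S).map_surjective fst
    have : Mono (prod.lift k snd).left :=
      AlgSpace.prop_lift_of_repWith_diag (AlgSpace.repWith_diag_mono X.property.diag) sq
    have : IsSeparated (prod.snd : U ⨯ T ⟶ T).left :=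
      MorphismProperty.of_isPullback (P := @IsSeparated) (AlgSpace.isPullback_fst_left U T) hU
    show IsSeparated snd.left
    rw [← AlgSpace.lift_left_snd k snd]
    infer_instance
  · intro R s t sq
    have : Mono (prod.lift t s).left :=
      AlgSpace.prop_lift_of_repWith_diag (AlgSpace.repWith_diag_mono X.property.diag) sq
    have : (U ⨯ U).left.IsSeparated := AlgSpace.isSeparated_prod_left U U
    rw [Scheme.isSeparated_iff, show terminal.from R.left =
      (prod.lift t s).left ≫ terminal.from (U ⨯ U).left from terminal.hom_ext _ _]
    infer_instance

end Groth.Agent.S10181
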