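import Groth.Statements.S10183
import Groth.Agent.Lib.AlgSpDecent.MonoPointApps

set_option autoImplicit false
universe u
open CategoryTheory CategoryTheory.Limits AlgebraicGeometry Topology TopologicalSpace
open AlgSp

set_option backward.isDefEq.respectTransparency.types false

namespace Groth.Agent.S10183

/-- Let X be an algebraic space over a scheme S, a : h_U ⟶ X a representable etale map from a scheme U
over S, and R a scheme over S with h_R = h_U ×_X h_U whose two projections s, t : R ⟶ U are
quasi-compact (for instance if a is quasi-compact). Then the maps |U| → |X| and |R| → |X| have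
finite fibres. -/
theorem result {S : Scheme.{u}} (X : AlgSp.Space S) {R U : Over S}
    (a : (AlgSp.yon S).obj U ⟶ X.obj) (ha : AlgSp.RepWith @Etale a) (s t : R ⟶ U)
    (hR : IsPullback ((AlgSp.yon S).map t) ((AlgSp.yon S).map s) a a)
    [QuasiCompact s.left] [QuasiCompact t.left] (x : AlgSp.Points X.obj) :
    (AlgSp.Points.ofPt a ⁻¹' {x}).Finite ∧
      (AlgSp.Points.ofPt ((AlgSp.yon S).map t ≫ a) ⁻¹' {x}).Finite := by
  have : Etale t.left := ha.2 a ((AlgSp.yon S).map s) t hR.flip
  have : Etale s.left := ha.2 a ((AlgSp.yon S).map t) s hR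
  have : LocallyQuasiFinite s.left := Groth.Agent.AlgSpDecent.locallyQuasiFinite_of_etale _
  have : LocallyQuasiFinite t.left := Groth.Agent.AlgSpDecent.locallyQuasiFinite_of_etale _
  have hfin : (AlgSp.Points.ofPt a ⁻¹' {x}).Finite := by
    by_cases hne : (AlgSp.Points.ofPt a ⁻¹' {x}).Nonempty
    · obtain ⟨u, hu⟩ := hne
      refine ((s.left.finite_preimage_singleton u).image t.left).subset fun u' hu' => ?_
      obtain ⟨r, hr₁, hr₂⟩ := Groth.Agent.AlgSpace.exists_pt_of_isPullback hR
        (x := AlgSp.Points.ofScheme U u') (t := u)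
        (by rw [← AlgSp.Points.ofPt_eq_map_ofScheme]; exact hu'.trans hu.symm)
      rw [Groth.Agent.AlgSpDecent.ofPt_map_eq] at hr₁
      exact ⟨r, hr₂, (AlgSp.Points.schemeEquiv U).injective hr₁⟩
    · rw [Set.not_nonempty_iff_eq_empty.1 hne]; exact Set.finite_empty
  refine ⟨hfin, (t.left.finite_preimage hfin).subset fun r hr => ?_⟩
  rw [Set.mem_preimage, Groth.Agent.AlgSpDecent.ofPt_map_comp] at hr
  exact hr

end Groth.Agent.S10183
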