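import Groth.Statements.S10186
import Groth.Agent.Lib.AlgSpace.Diag

set_option autoImplicit false
universe u
open CategoryTheory CategoryTheory.Limits AlgebraicGeometry Topology TopologicalSpace
open AlgSp

namespace Groth.Agent.S10186

/-- Let X be an algebraic space over a scheme S such that for all affine schemes U, V over S mapping to
X and every scheme P over S representing h_U ×_X h_V, the scheme P is affine and the ring map from
the tensor product over the integers of the global sections of U and V to the global sections of P,
induced by the two projections, is surjective. Then X is separated over S. (The published statement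
concerns absolute separatedness, over the integers, which this hypothesis also gives and which
implies separatedness over S.) -/
theorem result {S : Scheme.{u}} (X : AlgSp.Space S)
    (h : ∀ (U V P : Over S) (a : (AlgSp.yon S).obj U ⟶ X.obj) (b : (AlgSp.yon S).obj V ⟶ X.obj)
      (fst : P ⟶ U) (snd : P ⟶ V),
      IsAffine U.left → IsAffine V.left →
      IsPullback ((AlgSp.yon S).map fst) ((AlgSp.yon S).map snd) a b →
        IsAffine P.left ∧ Function.Surjective
          (Algebra.TensorProduct.productMap fst.left.appTop.hom.toIntAlgHom snd.left.appTop.hom.toIntAlgHom)) :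
    AlgSp.IsSeparatedSp X.obj := by
  refine AlgSpace.repWith_diag_of_affine X.property.diag fun T hT a b W x y sq => ?_
  obtain ⟨hW, hs⟩ := h T T W a b x y hT hT sq
  have : IsAffine T.left := hT
  have : IsAffine W.left := hW
  have : (T ⨯ T).left.IsSeparated := AlgSpace.isSeparated_prod_left T T
  let φ := (Algebra.TensorProduct.productMap (prod.fst : T ⨯ T ⟶ T).left.appTop.hom.toIntAlgHom
    (prod.snd : T ⨯ T ⟶ T).left.appTop.hom.toIntAlgHom).toRingHom
  let ψ := (Algebra.TensorProduct.productMap x.left.appTop.hom.toIntAlgHom
    y.left.appTop.hom.toIntAlgHom).toRingHom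
  have key : CommRingCat.ofHom φ ≫ (prod.lift x y).left.appTop = CommRingCat.ofHom ψ := by
    ext : 1
    refine Algebra.TensorProduct.ringHom_ext ?_ ?_
    · ext r
      simp [φ, ψ]
      change ((prod.fst : T ⨯ T ⟶ T).left.appTop ≫ (prod.lift x y).left.appTop) r = x.left.appTop r
      rw [← Scheme.Hom.comp_appTop, AlgSpace.lift_left_fst]
    · ext r
      simp [φ, ψ]
      change ((prod.snd : T ⨯ T ⟶ T).left.appTop ≫ (prod.lift x y).left.appTop) r = y.left.appTop r
      rw [← Scheme.Hom.comp_appTop, AlgSpace.lift_left_snd]
  have : IsClosedImmersion (Spec.map (CommRingCat.ofHom ψ)) := IsClosedImmersion.spec_of_surjective _ hs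
  have e : (prod.lift x y).left ≫ ((T ⨯ T).left.toSpecΓ ≫ Spec.map (CommRingCat.ofHom φ)) =
      W.left.toSpecΓ ≫ Spec.map (CommRingCat.ofHom ψ) := by
    rw [← Category.assoc, Scheme.toSpecΓ_naturality, Category.assoc, ← Spec.map_comp, key]
  have : IsClosedImmersion ((prod.lift x y).left ≫ ((T ⨯ T).left.toSpecΓ ≫ Spec.map (CommRingCat.ofHom φ))) := by
    rw [e]; infer_instance
  have : IsSeparated ((T ⨯ T).left.toSpecΓ ≫ Spec.map (CommRingCat.ofHom φ)) := inferInstance
  exact IsClosedImmersion.of_comp (prod.lift x y).left ((T ⨯ T).left.toSpecΓ ≫ Spec.map (CommRingCat.ofHom φ))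

end Groth.Agent.S10186
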