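import Groth.Statements.S10188
import Groth.Agent.Lib.AlgSpace.Points

set_option autoImplicit false
universe u
open CategoryTheory CategoryTheory.Limits AlgebraicGeometry Topology TopologicalSpace
open AlgSp

namespace Groth.Agent.S10188

/-- Let P be a property of schemes that is local in the etale topology (for every scheme V and every
etale covering family of V, V has P if and only if all members have P), and let X be an algebraic
space over a scheme S. Then X has P etale locally (some surjective etale chart from a scheme with P)
if and only if every scheme admitting a representable etale map to X has P. -/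
theorem result {S : Scheme.{u}} (P : Scheme.{u} → Prop)
    (hP : ∀ (V : Scheme.{u}) (𝒰 : Scheme.Cover.{u} (Scheme.precoverage @Etale) V), P V ↔ ∀ i, P (𝒰.X i))
    (X : AlgSp.Space S) :
    AlgSp.EtaleLocally P X.obj ↔
      ∀ (U : Over S) (a : (AlgSp.yon S).obj U ⟶ X.obj), AlgSp.RepWith @Etale a → P U.left := by
  refine ⟨fun ⟨W, p, he, hs, hW⟩ U a ha => ?_, fun h => ?_⟩
  · have sq := he.1.isPullback a
    obtain ⟨k, hk⟩ := (AlgSp.yon S).map_surjective (he.1.fst a)
    rw [← hk] at sq
    have h₁ : Etale (he.1.snd a).left := he.2 a _ _ sq
    have h₂ : Surjective (he.1.snd a).left := hs.2 a _ _ sq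
    have h₃ : Etale k.left := ha.2 p _ _ sq.flip
    have hR : P (he.1.pullback a).left :=
      (hP _ (Scheme.Cover.mkOfCovers (Option PUnit) (fun i => i.elim W.left fun _ => (he.1.pullback a).left)
        (fun i => match i with | none => 𝟙 _ | some _ => k.left) (fun x => ⟨none, x, rfl⟩)
        (fun i => match i with | none => inferInstanceAs (Etale (𝟙 _)) | some _ => h₃))).1 hW (some ⟨⟩)
    exact (hP _ (Scheme.Cover.mkOfCovers PUnit (fun _ => (he.1.pullback a).left) (fun _ => (he.1.snd a).left)
      (fun x => ⟨⟨⟩, (he.1.snd a).left.surjective x⟩) (fun _ => h₁))).2 fun _ => hR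
  · obtain ⟨U, p, he, hs⟩ := X.property.atlas
    exact ⟨U, p, he, hs, h U p he⟩

end Groth.Agent.S10188
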