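import Groth.Statements.S10189
import Groth.Agent.Lib.AlgSpace.Points

set_option autoImplicit false
universe u
open CategoryTheory CategoryTheory.Limits AlgebraicGeometry Topology TopologicalSpace
open AlgSp

namespace Groth.Agent.S10189

/-- Let X be an algebraic space over a scheme S and E a subset of |X|. If the inverse image of E under
some representable etale surjective map h_U ⟶ X from a scheme U is a locally constructible subset of
U, then its inverse image under every representable etale map h_V ⟶ X from a scheme V is locally
constructible in V. -/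
theorem result {S : Scheme.{u}} (X : AlgSp.Space S)
    (E : Set (AlgSp.Points X.obj)) {U : Over S} (p : (AlgSp.yon S).obj U ⟶ X.obj)
    (hp : AlgSp.RepWith @Etale p) (hs : AlgSp.RepWith @Surjective p)
    (hE : IsLocallyConstructible (AlgSp.Points.ofPt p ⁻¹' E))
    {V : Over S} (a : (AlgSp.yon S).obj V ⟶ X.obj) (ha : AlgSp.RepWith @Etale a) :
    IsLocallyConstructible (AlgSp.Points.ofPt a ⁻¹' E) := by
  obtain ⟨k, hk⟩ := (AlgSp.yon S).map_surjective (hp.1.fst a)
  have sq := hp.1.isPullback a
  rw [← hk] at sq
  have : Etale (hp.1.snd a).left := hp.2 a _ _ sq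
  have : Surjective (hp.1.snd a).left := hs.2 a _ _ sq
  have : Etale k.left := ha.2 p _ _ sq.flip
  apply AlgSpace.isLocallyConstructible_of_preimage (hp.1.snd a).left
  have e : (hp.1.snd a).left ⁻¹' (AlgSp.Points.ofPt a ⁻¹' E) =
      k.left ⁻¹' (AlgSp.Points.ofPt p ⁻¹' E) := by
    ext v
    simp only [Set.mem_preimage]
    rw [← AlgSpDecent.ofPt_map_comp, ← AlgSpDecent.ofPt_map_comp, sq.w]
  rw [e]
  exact AlgSpace.isLocallyConstructible_preimage k.left hE

end Groth.Agent.S10189
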