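import Groth.Statements.S10190
import Groth.Agent.Lib.AlgSpace.Points

set_option autoImplicit false
universe u
open CategoryTheory CategoryTheory.Limits AlgebraicGeometry Topology TopologicalSpace
open AlgSp

set_option backward.isDefEq.respectTransparency.types false

namespace Groth.Agent.S10190

/-- For an algebraic space X over a scheme S, the set of codimension 0 points of X (points x of |X| such
that, for some representable etale h_U ⟶ X from a scheme U and some point u of U mapping to x, the
local ring of U at u has dimension 0) is dense in |X|. -/
theorem result {S : Scheme.{u}} (X : AlgSp.Space S) :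
    Dense {x : AlgSp.Points X.obj |
      AlgSp.HasAt (fun U u => ringKrullDim ↥(U.presheaf.stalk u) = 0) X.obj x} := by
  rw [dense_iff_inter_open]
  intro W hW ⟨x, hx⟩
  obtain ⟨U, p, hpe, hps⟩ := X.property.atlas
  obtain ⟨u, rfl⟩ := Groth.Agent.AlgSpace.surjective_ofPt hps x
  obtain ⟨η, hη⟩ : ∃ η : ↥U.left, IsGenericPoint η (irreducibleComponent u) :=
    QuasiSober.sober isIrreducible_irreducibleComponent isClosed_irreducibleComponent
  have hηu : η ⤳ u := hη.specializes mem_irreducibleComponent
  refine ⟨AlgSp.Points.ofPt p η, (hηu.map (AlgSp.Points.continuous_ofPt p)).mem_open hW hx,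
    U, p, η, hpe, rfl, ?_⟩
  change ringKrullDim ↥(U.left.presheaf.stalk η) = 0
  rw [ringKrullDim_stalk_eq_coheight]
  have hmax : IsMax η := fun y hy => by
    change η ⤳ y
    have hy' : y ⤳ η := hy
    have hmem : irreducibleComponent u ⊆ closure {y} := by
      rw [← hη.def]
      exact closure_minimal (Set.singleton_subset_iff.2 hy'.mem_closure) isClosed_closure
    have : irreducibleComponent u = closure {y} :=
      eq_irreducibleComponent isIrreducible_singleton.closure.isPreirreducible hmem |>.symm
    exact hη.specializes (this ▸ subset_closure rfl)
  rw [Order.coheight_eq_zero.2 hmax]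
  rfl

end Groth.Agent.S10190
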