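import Groth.Statements.S10191
import Groth.Agent.Lib.AlgSpace.Sub

set_option autoImplicit false
universe u
open CategoryTheory CategoryTheory.Limits AlgebraicGeometry Topology TopologicalSpace
open AlgSp

namespace Groth.Agent.S10191

/-- Let i : Z ⟶ X be an immersion of algebraic spaces over a scheme S (a morphism representable by
immersions of schemes). Then |i| : |Z| → |X| is a homeomorphism onto its image, and this image is a
locally closed subset of |X|. -/
theorem result {S : Scheme.{u}} {Z X : AlgSp.Space S} (i : Z ⟶ X)
    (hi : AlgSp.RepWith @IsImmersion i.hom) :
    IsEmbedding (AlgSp.Points.map i.hom) ∧ IsLocallyClosed (Set.range (AlgSp.Points.map i.hom)) := by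
  exact Groth.Agent.AlgSpace.isEmbedding_map_of_immersion X.property hi

end Groth.Agent.S10191
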