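import Groth.Statements.S10196
import Groth.Agent.Lib.AlgSpace.Sub
import Groth.Agent.Lib.AlgSpace.Atlas

set_option autoImplicit false
universe u
open CategoryTheory CategoryTheory.Limits AlgebraicGeometry Topology TopologicalSpace
open AlgSp

namespace Groth.Agent.S10196

/-- Let X be an algebraic space over a scheme S, a : h_U ⟶ X a representable etale map from a scheme U
over S, and X' ⟶ X the open subspace whose image in |X| is the (open) image of U. Then a factors
through a representable etale and surjective a' : h_U ⟶ X', and if R is a scheme over S with h_R =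
h_U ×_X h_U then also h_R = h_U ×_{X'} h_U and (U, R, a') is a presentation of X'. -/
theorem result {S : Scheme.{u}} {X X' : AlgSp.Space S} {U : Over S}
    (a : (AlgSp.yon S).obj U ⟶ X.obj) (ha : AlgSp.RepWith @Etale a)
    (j : X' ⟶ X) (hj : AlgSp.RepWith @IsOpenImmersion j.hom)
    (himage : Set.range (AlgSp.Points.map j.hom) = Set.range (AlgSp.Points.ofPt a)) :
    ∃ a' : (AlgSp.yon S).obj U ⟶ X'.obj, a' ≫ j.hom = a ∧ AlgSp.RepWith @Etale a' ∧ AlgSp.RepWith @Surjective a' ∧
      ∀ (R : Over S) (s t : R ⟶ U), IsPullback ((AlgSp.yon S).map t) ((AlgSp.yon S).map s) a a →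
        AlgSp.IsPresentation s t a' := by
  obtain ⟨a', ha'⟩ := Groth.Agent.AlgSpace.exists_factor_of_range hj a (by
    rintro _ ⟨x, rfl⟩
    obtain ⟨u, rfl⟩ := (AlgSp.Points.schemeEquiv U).surjective x
    rw [himage]
    exact ⟨u, AlgSp.Points.ofPt_eq_map_ofScheme a u⟩)
  have hjm : Mono j.hom := Groth.Agent.AlgSpace.mono_of_repWith j.hom
    (Groth.Agent.AlgSpace.repWith_mono (fun _ _ g (_ : IsOpenImmersion g) => (inferInstance : Mono g)) hj)
  have hinj := (Groth.Agent.AlgSpace.isEmbedding_map_of_immersion X.property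
    (Groth.Agent.AlgSpace.repWith_mono (Q := @IsImmersion)
      (fun _ _ g (_ : IsOpenImmersion g) => inferInstance) hj)).1.injective
  have he : AlgSp.RepWith @Etale a' := Groth.Agent.AlgSpace.repWith_of_isPullback
    (Groth.Agent.AlgSpace.isPullback_of_mono a' j.hom).flip.flip (by rwa [ha'])
  have hs : AlgSp.RepWith @Surjective a' :=
    Groth.Agent.AlgSpace.repWith_surjective_of_ofPt he.1 fun x => by
      obtain ⟨u, hu⟩ : AlgSp.Points.map j.hom x ∈ Set.range (AlgSp.Points.ofPt a) := by
        rw [← himage]; exact ⟨x, rfl⟩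
      exact ⟨u, hinj (by rw [AlgSp.Points.map_ofPt, ha', hu])⟩
  refine ⟨a', ha', he, hs, fun R s t sq => Groth.Agent.AlgSpace.isPresentation_of_isPullback he hs ?_⟩
  rw [← ha'] at sq
  exact ⟨⟨by rw [← cancel_mono j.hom]; simpa using sq.w⟩, ⟨PullbackCone.IsLimit.mk _
    (fun c => sq.lift c.fst c.snd (by rw [← Category.assoc, c.condition, Category.assoc]))
    (fun c => sq.lift_fst _ _ _) (fun c => sq.lift_snd _ _ _)
    (fun c m h₁ h₂ => sq.hom_ext (h₁.trans (sq.lift_fst _ _ _).symm) (h₂.trans (sq.lift_snd _ _ _).symm))⟩⟩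

end Groth.Agent.S10196
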