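import Groth.Statements.S10197
import Groth.Agent.Lib.AlgSpace.SchemeLocus
import Groth.Agent.Lib.AlgSpDecent.OnePoint

set_option autoImplicit false
universe u
open CategoryTheory CategoryTheory.Limits AlgebraicGeometry Topology TopologicalSpace
open AlgSp

set_option backward.isDefEq.respectTransparency.types false

namespace Groth.Agent.S10197

/-- An algebraic space X over a scheme S has a largest open subspace which is a scheme: there is an open
subspace X' ⟶ X whose underlying sheaf is representable by a scheme over S, through which every open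
subspace of X with representable underlying sheaf factors. -/
theorem result {S : Scheme.{u}} (X : AlgSp.Space S) :
    ∃ (X' : AlgSp.Space S) (j : X' ⟶ X), AlgSp.RepWith @IsOpenImmersion j.hom ∧ X'.obj.obj.IsRepresentable ∧
      ∀ (X'' : AlgSp.Space S) (j'' : X'' ⟶ X), AlgSp.RepWith @IsOpenImmersion j''.hom →
        X''.obj.obj.IsRepresentable → ∃ k : X'' ⟶ X', k ≫ j = j'' := by
  obtain ⟨W, G, hW, ⟨e⟩, hmax⟩ := Groth.Agent.AlgSpace.exists_schematic_locus X.property
  have hr := Groth.Agent.AlgSpace.repWith_openSubι hW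
  refine ⟨⟨_, Groth.Agent.AlgSpace.isAlgSpace_of_representable hr.1 X.property⟩,
    ObjectProperty.homMk (Groth.Agent.AlgSpace.openSubι W), hr,
    Groth.Agent.AlgSpace.isRepresentable_of_iso_yon e, fun X'' j'' hj'' hrep => ?_⟩
  obtain ⟨U, ⟨r⟩⟩ := hrep.has_representation
  let i := AlgSp.isoOfRepresentableBy r
  obtain ⟨k, hk⟩ := Groth.Agent.AlgSpace.exists_factor_openSub (W := W) j''.hom fun x hx => by
    refine hmax U (i.hom ≫ j''.hom)
      ((Groth.Agent.AlgSpace.repWith_respectsIso_left i.hom).2 hj'') ?_
    obtain ⟨y, rfl⟩ := hx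
    obtain ⟨z, rfl⟩ := (Groth.Agent.AlgSpace.bijective_map_iso (e := i.hom)).2 y
    exact ⟨z, AlgSp.Points.map_comp _ _ _⟩
  exact ⟨ObjectProperty.homMk k, ObjectProperty.hom_ext _ hk⟩

end Groth.Agent.S10197
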