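import Groth.Statements.S10198
import Groth.Agent.Lib.QcChart14.Basic

set_option autoImplicit false
universe u
open CategoryTheory CategoryTheory.Limits AlgebraicGeometry Topology TopologicalSpace
open AlgSp

namespace Groth.Agent.S10198

/-- (1) if and only if (3): for an algebraic space X over a scheme S, X is Zariski locally
quasi-separated over S (it has a Zariski covering by open subspaces whose diagonals over S are
quasi-compact) if and only if X has a Zariski covering by open subspaces each of which admits a
quasi-compact, etale, surjective map from an affine scheme. Since the second condition does not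
mention S, being Zariski locally quasi-separated does not depend on the base. -/
theorem result {S : Scheme.{u}} (X : AlgSp.Space S) :
    (∃ (ι : Type u) (Xi : ι → AlgSp.Space S) (j : ∀ i, Xi i ⟶ X),
        AlgSp.IsZarCover (fun i => (Xi i).obj) (fun i => (j i).hom) ∧ ∀ i, AlgSp.IsQuasiSeparatedSp (Xi i).obj) ↔
      (∃ (ι : Type u) (Xi : ι → AlgSp.Space S) (j : ∀ i, Xi i ⟶ X),
        AlgSp.IsZarCover (fun i => (Xi i).obj) (fun i => (j i).hom) ∧
          ∀ i, ∃ (U : Over S) (p : (AlgSp.yon S).obj U ⟶ (Xi i).obj), IsAffine U.left ∧
            AlgSp.RepWith @QuasiCompact p ∧ AlgSp.RepWith @Etale p ∧ AlgSp.RepWith @Surjective p) := by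
  exact Groth.Agent.QcChart14.zarLocQS_iff X

end Groth.Agent.S10198
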