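import Groth.Statements.S10364
import Groth.Agent.Lib.AlgSpDecent.Basic2
-- import your own Groth.Agent.* helpers here

set_option autoImplicit false
universe u
open CategoryTheory CategoryTheory.Limits AlgebraicGeometry Topology TopologicalSpace
open AlgSp

namespace Groth.Agent.S10364

/-- Let X be an algebraic space over a scheme S with a Zariski covering by open subspaces X_i ⟶ X. If
each X_i is decent then X is decent. -/
theorem result {S : Scheme.{u}} (X : AlgSp.Space S) {ι : Type u} (Xi : ι → AlgSp.Space S)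
    (j : ∀ i, Xi i ⟶ X) (hj : AlgSp.IsZarCover (fun i => (Xi i).obj) (fun i => (j i).hom))
    (hd : ∀ i, AlgSp.IsDecent (Xi i).obj) : AlgSp.IsDecent X.obj := by
  intro x
  obtain ⟨k, y, rfl⟩ := hj.2 x
  have hmono : ∀ i, Mono (j i).hom := fun i => Groth.Agent.AlgSpace.mono_of_isImmersion
    ⟨(hj.1 i).1, fun _ _ g f s sq => by
      have : IsOpenImmersion s.left := (hj.1 i).2 g f s sq
      exact inferInstanceAs (IsImmersion s.left)⟩
  have hinj : ∀ i, Function.Injective (AlgSp.Points.map (j i).hom) := fun i => by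
    have := hmono i
    intro a b h
    obtain ⟨w, hw₁, hw₂⟩ := Groth.Agent.AlgSpDecent.exists_point_lift
      (IsKernelPair.id_of_mono (j i).hom : IsPullback (𝟙 _) (𝟙 _) (j i).hom (j i).hom) a b h
    rw [← hw₁, ← hw₂]
  have hfin : Groth.Agent.AlgSpDecent.FinFibres (AlgSp.Points.map (j k).hom y) := by
    intro B ψ hB hψ
    have := hB
    have hloc : ∀ b : B.left, ∃ O : B.left.Opens, b ∈ O ∧
        ((O : Set B.left) ∩ AlgSp.Points.ofPt ψ ⁻¹' {AlgSp.Points.map (j k).hom y}).Finite := by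
      intro b
      obtain ⟨i, z, hz⟩ := hj.2 (AlgSp.Points.ofPt ψ b)
      obtain ⟨Bi, s, fB, sq⟩ := (hj.1 i).1 ψ
      have hs : IsOpenImmersion s.left := (hj.1 i).2 ψ _ _ sq
      obtain ⟨w, -, hw⟩ := Groth.Agent.AlgSpace.exists_pt_of_isPullback sq (x := z) (t := b) hz
      obtain ⟨O, hO, hwO, -⟩ := exists_isAffineOpen_mem_and_subset (X := Bi.left) (x := w) (U := ⊤) trivial
      refine ⟨s.left ''ᵁ O, ⟨w, hwO, hw⟩, ?_⟩
      by_cases hmem : AlgSp.Points.map (j k).hom y ∈ Set.range (AlgSp.Points.map (j i).hom)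
      · obtain ⟨z', hz'⟩ := hmem
        have hBe : AlgSp.RepWith @Etale fB := Groth.Agent.AlgSpace.repWith_of_isPullback sq.flip hψ
        refine ((Groth.Agent.AlgSpDecent.finFibres_of_isDecent (Xi i).property.diag (hd i) z' (Over.mk (O.ι ≫ Bi.hom)) _ hO
          (Groth.Agent.AlgSpace.repWith_etale_restrict hBe O)).image (fun v => s.left (O.ι v))).subset ?_
        rintro _ ⟨⟨v, hv, rfl⟩, hx⟩
        refine ⟨⟨v, hv⟩, hinj i ?_, rfl⟩
        rw [Groth.Agent.AlgSpDecent.ofPt_map_comp, hz', Groth.Agent.AlgSpace.ofPt_sq sq.w]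
        exact hx
      · refine Set.finite_empty.subset ?_
        rintro _ ⟨⟨v, hv, rfl⟩, hx⟩
        exact hmem ⟨AlgSp.Points.ofPt fB v, (Groth.Agent.AlgSpace.ofPt_sq sq.w v).trans hx⟩
    choose O hbO hO using hloc
    obtain ⟨t, ht⟩ := (CompactSpace.isCompact_univ (X := B.left)).elim_finite_subcover
      (fun b => (O b : Set B.left)) (fun b => (O b).isOpen) (fun b _ => Set.mem_iUnion.2 ⟨b, hbO b⟩)
    refine (t.finite_toSet.biUnion fun b _ => hO b).subset fun z hz => ?_
    obtain ⟨b, hb, hzb⟩ := Set.mem_iUnion₂.1 (ht (Set.mem_univ z))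
    exact Set.mem_iUnion₂.2 ⟨b, hb, hzb, hz⟩
  obtain ⟨U, φ, hU, hφ, hy⟩ := Groth.Agent.AlgSpDecent.exists_affine_chart_at (Xi k).property y
  obtain ⟨p, hp, -, hq⟩ := hd k y
  have := hU
  have := hmono k
  have hje : AlgSp.RepWith @Etale (j k).hom :=
    ⟨(hj.1 k).1, fun _ _ g f s sq => by
      have : IsOpenImmersion s.left := (hj.1 k).2 g f s sq
      exact inferInstanceAs (Etale s.left)⟩
  obtain ⟨u, hu⟩ := hy
  refine Groth.Agent.AlgSpDecent.hasMonoQC_of_finFibres X.property hfin hU (Groth.Agent.AlgSpace.repWith_comp hφ hje)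
    ⟨u, by rw [← AlgSp.Points.map_ofPt, hu]⟩ fun R s t sq => ?_
  have sq' : IsPullback ((AlgSp.yon S).map t) ((AlgSp.yon S).map s) φ φ :=
    ⟨⟨(cancel_mono (j k).hom).1 (by simpa only [Category.assoc] using sq.w)⟩,
      ⟨PullbackCone.IsLimit.mk _ (fun c => sq.lift c.fst c.snd (by rw [c.condition_assoc]))
        (fun c => sq.lift_fst _ _ _) (fun c => sq.lift_snd _ _ _)
        (fun c m h1 h2 => sq.hom_ext (h1.trans (sq.lift_fst _ _ _).symm)
          (h2.trans (sq.lift_snd _ _ _).symm))⟩⟩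
  refine ((Groth.Agent.AlgSpDecent.finite_fibres_of_qc_fieldPt (Xi k).property.diag p hq hφ).2 R s t sq').subset fun r hr => ?_
  rw [Set.mem_preimage, Set.mem_singleton_iff, hp]
  apply hinj k
  rw [AlgSp.Points.map_ofPt, Category.assoc]
  exact hr

end Groth.Agent.S10364
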