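import Groth.Statements.S10202
import Groth.Agent.Lib.AlgSpace.Chart

set_option autoImplicit false
universe u
open CategoryTheory CategoryTheory.Limits AlgebraicGeometry Topology TopologicalSpace
open AlgSp

namespace Groth.Agent.S10202

/-- If X is a locally Noetherian algebraic space over a scheme S, then the space |X| is locally
Noetherian: every point of |X| has an open neighbourhood which is a Noetherian topological space in
the induced topology. -/
theorem result {S : Scheme.{u}} (X : AlgSp.Space S)
    (hX : AlgSp.IsLocNoethSp X.obj) (x : AlgSp.Points X.obj) :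
    ∃ W : Set (AlgSp.Points X.obj), IsOpen W ∧ x ∈ W ∧ NoetherianSpace ↥W := by
  obtain ⟨U, p, hpe, hps, hU⟩ := hX
  obtain ⟨u, rfl⟩ := Groth.Agent.AlgSpace.surjective_ofPt hps x
  obtain ⟨V, hV, hu, -⟩ :=
    exists_isAffineOpen_mem_and_subset (X := U.left) (x := u) (U := ⊤) trivial
  have : IsLocallyNoetherian U.left := hU
  have : CompactSpace ↥V.toScheme := isCompact_iff_compactSpace.1 hV.isCompact
  have : IsNoetherian V.toScheme := {}
  refine ⟨AlgSp.Points.ofPt p '' (V : Set ↥U.left),
    Groth.Agent.AlgSpace.isOpenMap_ofPt p hpe _ V.isOpen, ⟨u, hu, rfl⟩, ?_⟩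
  have e : AlgSp.Points.ofPt p '' (V : Set ↥U.left) = Set.range (fun v => AlgSp.Points.ofPt p (V.ι v)) := by
    rw [← V.range_ι, ← Set.range_comp]; rfl
  rw [e]
  exact NoetherianSpace.range _ ((AlgSp.Points.continuous_ofPt p).comp V.ι.continuous)

end Groth.Agent.S10202
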