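import Groth.Statements.S10204
import Groth.Agent.Lib.AlgSpDecent.FiniteGeneric
import Groth.Agent.Lib.AlgSpDecent.HasAtChart
import Groth.Agent.Lib.AlgSpDecent.DenseOpen

set_option autoImplicit false
universe u
open CategoryTheory CategoryTheory.Limits AlgebraicGeometry Topology TopologicalSpace
open AlgSp

namespace Groth.Agent.S10204

open Groth.Agent.AlgSpace Groth.Agent.AlgSpDecent


/-- Let X be an algebraic space over a scheme S that admits a map h_U ⟶ X from a quasi-separated scheme
U which is representable finite, etale and surjective. Then X contains an open subspace X' ⟶ X that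
is a scheme (its underlying sheaf is representable), whose points form a dense subset of |X| that
includes every codimension 0 point of X (every point x of |X| such that some etale chart h_V ⟶ X and
some point v of V over x have a zero-dimensional local ring O_{V,v}). -/
theorem result {S : Scheme.{u}} (X : AlgSp.Space S) {U : Over S}
    (a : (AlgSp.yon S).obj U ⟶ X.obj) (hf : AlgSp.RepWith @IsFinite a) (he : AlgSp.RepWith @Etale a)
    (hs : AlgSp.RepWith @Surjective a) [QuasiSeparatedSpace ↥U.left] :
    ∃ (X' : AlgSp.Space S) (j : X' ⟶ X), AlgSp.RepWith @IsOpenImmersion j.hom ∧ X'.obj.obj.IsRepresentable ∧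
      Dense (Set.range (AlgSp.Points.map j.hom)) ∧
      ∀ x : AlgSp.Points X.obj, AlgSp.HasAt (fun U u => ringKrullDim ↥(U.presheaf.stalk u) = 0) X.obj x →
        x ∈ Set.range (AlgSp.Points.map j.hom) := by
  -- a codimension zero point lies in an open subscheme
  have key : ∀ x : Points X.obj, HasAt (fun U u => ringKrullDim ↥(U.presheaf.stalk u) = 0) X.obj x →
      ∃ W : Set (Points X.obj), IsOpen W ∧ x ∈ W ∧ ∃ Y : Over S, Nonempty ((yon S).obj Y ≅ openSub W) := by
    intro x hx
    obtain ⟨u₀, rfl⟩ := surjective_ofPt hs x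
    obtain ⟨O, hO, huO, -⟩ := exists_isAffineOpen_mem_and_subset (X := U.left) (x := u₀) (U := ⊤) trivial
    let V : Over S := Over.mk (O.ι ≫ U.hom)
    have : IsAffine V.left := hO
    let i : V ⟶ U := Over.homMk O.ι rfl
    let φ : (yon S).obj V ⟶ X.obj := (yon S).map i ≫ a
    have hφ : RepWith @Etale φ :=
      repWith_comp ((repWith_yon_map_iff _ _).2 (inferInstanceAs (Etale O.ι))) he
    obtain ⟨R, s, fst, sq⟩ := hφ.1 φ
    obtain ⟨t, rfl⟩ := (yon S).map_surjective fst
    have : Etale s.left := hφ.2 φ _ _ sq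
    have := isSeparated_rel sq
    -- the projection is quasi-compact
    have hqi : QuasiCompact O.ι := ⟨fun W hW hWc => by
      have h1 : IsCompact ((O : Set U.left) ∩ W) :=
        QuasiSeparatedSpace.inter_isCompact _ _ O.isOpen hO.isCompact hW hWc
      rw [O.ι.isOpenEmbedding.isEmbedding.isCompact_iff, Set.image_preimage_eq_inter_range, O.range_ι,
        Set.inter_comm]
      exact h1⟩
    have hφq : RepWith @QuasiCompact φ := repWith_comp ((repWith_yon_map_iff _ _).2 hqi)
      (repWith_mono (P := @IsFinite) (Q := @QuasiCompact) (fun _ _ k (_ : IsFinite k) => inferInstance) hf)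
    have : QuasiCompact s.left := hφq.2 φ _ _ sq
    -- minimality
    let v : ↥V.left := ⟨u₀, huO⟩
    have hxv : Points.ofPt φ v = Points.ofPt a u₀ := ofPt_map_comp _ _ _
    have hmin : ∀ v', v' ⤳ v → v' = v := (hasAt_dim_zero_iff hφ v).1 (hxv.symm ▸ hx)
    have hminR : ∀ r, s.left r = v → ∀ r', r' ⤳ r → r' = r := fun r hr r' h' => by
      refine eq_of_specializes_of_dim_zero ?_ h'
      rw [ringKrullDim_stalk_eq_coheight, coheight_eq_of_etale s.left r, ← ringKrullDim_stalk_eq_coheight, hr]
      exact (dim_zero_iff_isMin v).2 hmin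
    obtain ⟨-, hiso⟩ := fibre_of_isMin s.left v hminR
    obtain ⟨Q, hQ, hvQ, -, hQf⟩ := exists_affine_isFinite_restrict s.left hmin ⊤ trivial hiso
    obtain ⟨W, hW, hvW, -, hY⟩ := exists_open_scheme_of_finite hφ sq Q hQ hvQ
    exact ⟨W, hW, hxv ▸ hvW, hY⟩
  obtain ⟨W, hW, hd, Y, ⟨e⟩, hmax⟩ := exists_max_open_scheme X fun G hG hne => by
    obtain ⟨x, hxG, hx⟩ := exists_dim_zero_mem X.property hG hne
    obtain ⟨V, hV, hxV, Y, ⟨e⟩⟩ := key x hx
    obtain ⟨Y', ⟨e'⟩⟩ : ∃ Y' : Over S, Nonempty ((yon S).obj Y' ≅ openSub (V ∩ G)) := by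
      obtain ⟨m, hm⟩ := exists_factor_openSub (openSubι (V ∩ G)) (W := V)
        (by rw [range_openSubι]; exact Set.inter_subset_left)
      have hmo : RepWith @IsOpenImmersion (m ≫ e.inv) := by
        refine (repWith_respectsIso_right e.inv).2 ?_
        have : Mono (openSubι V) := mono_of_repWith _ (repWith_mono (fun _ _ g (_ : IsOpenImmersion g) =>
          (inferInstance : Mono g)) (repWith_openSubι hV))
        have sqm := isPullback_of_mono m (openSubι V)
        rw [hm] at sqm
        exact repWith_of_isPullback sqm (repWith_openSubι (hV.inter hG))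
      obtain ⟨Z, k, c, sqc⟩ := hmo.1 (𝟙 _)
      have := sqc.isIso_fst_of_isIso
      exact ⟨Z, ⟨asIso c⟩⟩
    exact ⟨V ∩ G, hV.inter hG, ⟨x, hxV, hxG⟩, Set.inter_subset_right, Y', ⟨e'⟩⟩
  let X' : AlgSp.Space S :=
    ⟨openSub W, isAlgSpace_of_representable (repWith_openSubι hW).1 X.property⟩
  refine ⟨X', ObjectProperty.homMk (openSubι W), repWith_openSubι hW, ?_, ?_, fun x hx => ?_⟩
  · exact (representableByOfIso e).isRepresentable
  · change Dense (Set.range (Points.map (openSubι W)))
    rw [range_openSubι]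
    exact hd
  · obtain ⟨V, hV, hxV, hY⟩ := key x hx
    exact (range_openSubι W).symm ▸ hmax V hV hY hxV

end Groth.Agent.S10204
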