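import Groth.Statements.S10206
import Groth.Agent.Lib.AlgSpace.SchemeLocus
import Groth.Agent.Lib.AlgSpDecent.OnePoint

set_option autoImplicit false
universe u
open CategoryTheory CategoryTheory.Limits AlgebraicGeometry Topology TopologicalSpace
open AlgSp

set_option backward.isDefEq.respectTransparency.types false

namespace Groth.Agent.S10206

/-- Let X be an algebraic space over a scheme S and X ⟶ h_{Spec k} an etale morphism of algebraic spaces
over S, where k is a field and Spec k is given a structure morphism to S. Then X is a scheme (its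
underlying sheaf is representable by a scheme over S). -/
theorem result {S : Scheme.{u}} (X : AlgSp.Space S)
    (k : Type u) [Field k] (str : Spec (CommRingCat.of k) ⟶ S)
    (f : X.obj ⟶ (AlgSp.yon S).obj (Over.mk str)) (hf : AlgSp.IsEtaleMor f) :
    X.obj.obj.IsRepresentable := by
  have hG : AlgSp.IsAlgSpace ((AlgSp.yon S).obj (Over.mk str)) := AlgSp.IsAlgSpace.yon_obj _
  have hdec : AlgSp.IsDecent X.obj := Groth.Agent.AlgSpDecent.isDecent_of_isEtaleMor X.property hG hf
    (Groth.Agent.AlgSpDecent.isDecent_yon _)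
  obtain ⟨A, p, hpe, hps⟩ := X.property.atlas
  have hd : ∀ x : AlgSp.Points X.obj, IsOpen ({x} : Set (AlgSp.Points X.obj)) := fun x => by
    obtain ⟨a, rfl⟩ := Groth.Agent.AlgSpace.surjective_ofPt hps x
    obtain ⟨c, hc⟩ := (AlgSp.yon S).map_surjective (p ≫ f)
    have : Etale c.left := (AlgSp.repWith_yon_map_iff _ _).1 (hc ▸ hf p hpe)
    rw [← Set.image_singleton (f := AlgSp.Points.ofPt p)]
    exact Groth.Agent.AlgSpace.isOpenMap_ofPt p hpe _
      (Groth.Agent.AlgSpDecent.isOpen_singleton_of_etale_field (K := k) c.left a)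
  let P := AlgSp.Points.ofPt p
  have key : ∀ a : ↥A.left, ∃ (U : Over S) (w : (AlgSp.yon S).obj U ⟶ X.obj),
      AlgSp.RepWith @IsOpenImmersion w ∧ P a ∈ Set.range (AlgSp.Points.map w) := fun a => by
    have hr := Groth.Agent.AlgSpace.repWith_openSubι (hd (P a))
    have hX₀ := Groth.Agent.AlgSpace.isAlgSpace_of_representable hr.1 X.property
    have he := (Groth.Agent.AlgSpace.isEmbedding_map_of_immersion X.property
      (Groth.Agent.AlgSpace.repWith_mono (fun A B g (hg : IsOpenImmersion g) =>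
        (inferInstance : IsImmersion g)) hr)).1
    have hrange := Groth.Agent.AlgSpace.range_openSubι ({P a} : Set (AlgSp.Points X.obj))
    obtain ⟨y, hy⟩ : P a ∈ Set.range (AlgSp.Points.map
        (Groth.Agent.AlgSpace.openSubι ({P a} : Set (AlgSp.Points X.obj)))) := by rw [hrange]; rfl
    have : Nonempty (AlgSp.Points (Groth.Agent.AlgSpace.openSub ({P a} : Set (AlgSp.Points X.obj)))) := ⟨y⟩
    have : Subsingleton (AlgSp.Points (Groth.Agent.AlgSpace.openSub ({P a} : Set (AlgSp.Points X.obj)))) :=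
      ⟨fun u v => he.injective ((Set.mem_singleton_iff.1 (hrange.le ⟨u, rfl⟩)).trans
        (Set.mem_singleton_iff.1 (hrange.le ⟨v, rfl⟩)).symm)⟩
    have hdec₀ : AlgSp.IsDecent (Groth.Agent.AlgSpace.openSub ({P a} : Set (AlgSp.Points X.obj))) :=
      Groth.Agent.AlgSpDecent.isDecent_of_isEtaleMor hX₀ X.property
        (fun V φ hφ => Groth.Agent.AlgSpace.repWith_comp hφ (Groth.Agent.AlgSpace.repWith_mono
          (fun A B g (hg : IsOpenImmersion g) => (inferInstance : Etale g)) hr)) hdec
    obtain ⟨T, ⟨e⟩⟩ := Groth.Agent.AlgSpDecent.exists_iso_yon_of_subsingleton ⟨_, hX₀⟩ hdec₀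
    refine ⟨T, e.hom ≫ Groth.Agent.AlgSpace.openSubι _,
      (Groth.Agent.AlgSpace.repWith_respectsIso_left e.hom).2 hr, ?_⟩
    obtain ⟨z, hz⟩ := (Groth.Agent.AlgSpace.bijective_map_iso (e := e.hom)).2 y
    exact ⟨z, by rw [AlgSp.Points.map_comp, hz]; exact hy⟩
  choose U w hw hmem using key
  obtain ⟨G, ⟨e⟩⟩ := Groth.Agent.AlgSpace.exists_iso_yon_of_points_cover hw fun x => by
    obtain ⟨a, rfl⟩ := Groth.Agent.AlgSpace.surjective_ofPt hps x
    exact ⟨a, hmem a⟩
  exact Groth.Agent.AlgSpace.isRepresentable_of_iso_yon e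

end Groth.Agent.S10206
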