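import Groth.Statements.S1021
import Groth.Agent.Lib.DGen9.Bounded

set_option autoImplicit false
set_option linter.style.haveILetI false
set_option backward.isDefEq.respectTransparency false
universe u
open CategoryTheory CategoryTheory.Limits AlgebraicGeometry
attribute [local instance] HasDerivedCategory.standard
open Perf

namespace Groth.Agent.S1021

/-- Let the scheme X be quasi-compact and quasi-separated, G a perfect object of D(O_X) generating
D_QCoh(O_X), and E ∈ D_QCoh(O_X). Then E is bounded above if and only if there is an N such that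
every morphism G[-i] ⟶ E with N ≤ i is zero. -/
theorem result (X : Scheme.{u}) [CompactSpace ↥X] [QuasiSeparatedSpace ↥X]
    (G : DCoh.D X) (hG : DCoh.IsPerfect G)
    (hgen : ∀ E : DCoh.D X, DCoh.IsQCohD E → (∀ (n : ℤ) (φ : G⟦n⟧ ⟶ E), φ = 0) → IsZero E)
    (E : DCoh.D X) (hE : DCoh.IsQCohD E) :
    (∃ b : ℤ, E.IsLE b) ↔ ∃ N : ℤ, ∀ i : ℤ, N ≤ i → ∀ φ : G⟦-i⟧ ⟶ E, φ = 0 := by
  refine Iff.trans ⟨?_, ?_⟩ ((DGen9.evAc_iff_evOrth DGen9.niceDir_atTop hG hgen hE).trans Filter.eventually_atTop)
  · rintro ⟨b, hb⟩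
    exact Filter.eventually_atTop.2 ⟨b + 1, fun i hi => (DerivedCategory.isLE_iff _ _).1 hb i (by omega)⟩
  · intro h
    obtain ⟨N, hN⟩ := Filter.eventually_atTop.1 h
    exact ⟨N - 1, (DerivedCategory.isLE_iff _ _).2 fun i hi => hN i (by omega)⟩

end Groth.Agent.S1021
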