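import Groth.Statements.S10211
import Groth.Agent.Lib.AlgSpace.Points

set_option autoImplicit false
universe u
open CategoryTheory CategoryTheory.Limits AlgebraicGeometry Topology TopologicalSpace
open AlgSp

namespace Groth.Agent.S10211

/-- If f : X ⟶ Y is an etale morphism of algebraic spaces over a scheme S, then the induced map of
topological spaces |X| → |Y| is open. -/
theorem result {S : Scheme.{u}} {X Y : AlgSp.Space S} (f : X ⟶ Y)
    (hf : AlgSp.IsEtaleMor f.hom) :
    IsOpenMap (AlgSp.Points.map f.hom) := by
  intro O hO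
  obtain ⟨U, p, he, hs⟩ := X.property.atlas
  have e : AlgSp.Points.map f.hom '' O = AlgSp.Points.ofPt (p ≫ f.hom) '' (AlgSp.Points.ofPt p ⁻¹' O) := by
    conv_lhs => rw [← (AlgSpace.surjective_ofPt hs).image_preimage O, ← Set.image_comp]
    rfl
  rw [e]
  exact AlgSpace.isOpenMap_ofPt _ (hf p he) _ (hO.preimage (AlgSp.Points.continuous_ofPt p))

end Groth.Agent.S10211
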