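import Groth.Statements.S10213
import Groth.Agent.Lib.AlgSpace.Chart

set_option autoImplicit false
universe u

set_option backward.isDefEq.respectTransparency.types false
open CategoryTheory CategoryTheory.Limits AlgebraicGeometry Topology TopologicalSpace
open AlgSp

namespace Groth.Agent.S10213

/-- For an algebraic space X over a scheme S there is a surjective etale map h_U ⟶ X where U is a
disjoint union of affine schemes, each of which maps into an affine open of S. -/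
theorem result {S : Scheme.{u}} (X : AlgSp.Space S) :
    ∃ (ι : Type u) (V : ι → Scheme.{u}) (_ : ∀ i, IsAffine (V i)) (q : (∐ V) ⟶ S)
      (p : (AlgSp.yon S).obj (Over.mk q) ⟶ X.obj),
      AlgSp.RepWith @Etale p ∧ AlgSp.RepWith @Surjective p ∧
        ∀ i, ∃ W : S.Opens, IsAffineOpen W ∧ ∀ v : ↥(V i), (Sigma.ι V i ≫ q) v ∈ W := by
  obtain ⟨U, p, hpe, hps⟩ := X.property.atlas
  let ι := { VW : U.left.Opens × S.Opens // IsAffineOpen VW.1 ∧ IsAffineOpen VW.2 ∧ ∀ v ∈ VW.1, U.hom v ∈ VW.2 }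
  let d : (∐ fun i : ι => i.1.1.toScheme) ⟶ U.left := Sigma.desc fun i : ι => i.1.1.ι
  have hd : Etale d := IsZariskiLocalAtSource.sigmaDesc (P := @Etale) fun i => (inferInstance : Etale i.1.1.ι)
  have hds : Surjective d := ⟨fun u => by
    obtain ⟨W, hW, hu, -⟩ :=
      exists_isAffineOpen_mem_and_subset (X := S) (x := U.hom u) (U := ⊤) trivial
    obtain ⟨V, hV, hu', hVW⟩ :=
      exists_isAffineOpen_mem_and_subset (X := U.left) (x := u) (U := U.hom ⁻¹ᵁ W) hu
    refine ⟨Sigma.ι (fun i : ι => i.1.1.toScheme) ⟨(V, W), hV, hW, fun v hv => hVW hv⟩ ⟨u, hu'⟩, ?_⟩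
    exact congrArg (fun m : V.toScheme ⟶ U.left => m ⟨u, hu'⟩)
      (Sigma.ι_desc (fun i : ι => i.1.1.ι) ⟨(V, W), hV, hW, fun v hv => hVW hv⟩)⟩
  refine ⟨ι, fun i => i.1.1.toScheme, fun i => i.2.1, d ≫ U.hom,
    (AlgSp.yon S).map (Groth.Agent.AlgSpace.overArrow d) ≫ p,
    Groth.Agent.AlgSpace.repWith_comp ((AlgSp.repWith_yon_map_iff _ _).2 hd) hpe,
    Groth.Agent.AlgSpace.repWith_comp ((AlgSp.repWith_yon_map_iff _ _).2 hds) hps,
    fun i => ⟨i.1.2, i.2.2.1, fun v => ?_⟩⟩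
  have e : Sigma.ι (fun i : ι => i.1.1.toScheme) i ≫ d ≫ U.hom = i.1.1.ι ≫ U.hom := by
    rw [← Category.assoc, Sigma.ι_desc]
  rw [e]
  exact i.2.2.2 _ (i.1.1.range_ι.subset ⟨v, rfl⟩)

end Groth.Agent.S10213
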