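import Groth.Statements.S10214
import Groth.Agent.Lib.AlgSpace.Chart
import Groth.Agent.Lib.AlgSpace.Space

set_option autoImplicit false
universe u
open CategoryTheory CategoryTheory.Limits AlgebraicGeometry Topology TopologicalSpace
open AlgSp

namespace Groth.Agent.S10214

/-- Every algebraic space X over a scheme S has a Zariski covering by open subspaces X_i such that each
X_i has a surjective etale map from an affine scheme; moreover the affine schemes may be taken to
map into affine opens of S. -/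
theorem result {S : Scheme.{u}} (X : AlgSp.Space S) :
    ∃ (ι : Type u) (Xi : ι → AlgSp.Space S) (j : ∀ i, Xi i ⟶ X),
      AlgSp.IsZarCover (fun i => (Xi i).obj) (fun i => (j i).hom) ∧
        ∀ i, ∃ (U : Over S) (p : (AlgSp.yon S).obj U ⟶ (Xi i).obj), IsAffine U.left ∧
          AlgSp.RepWith @Etale p ∧ AlgSp.RepWith @Surjective p ∧
          ∃ W : S.Opens, IsAffineOpen W ∧ ∀ v : ↥U.left, U.hom v ∈ W := by
  obtain ⟨U, p, hpe, hps⟩ := X.property.atlas
  let ι := { VW : U.left.Opens × S.Opens // IsAffineOpen VW.1 ∧ IsAffineOpen VW.2 ∧ ∀ v ∈ VW.1, U.hom v ∈ VW.2 }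
  let a : ∀ i : ι, (AlgSp.yon S).obj (Over.mk (i.1.1.ι ≫ U.hom)) ⟶ X.obj := fun i =>
    (AlgSp.yon S).map (Over.homMk i.1.1.ι rfl) ≫ p
  have hae : ∀ i, AlgSp.RepWith @Etale (a i) := fun i =>
    Groth.Agent.AlgSpace.repWith_etale_restrict hpe i.1.1
  let W : ι → Set (AlgSp.Points X.obj) := fun i => Set.range (AlgSp.Points.ofPt (a i))
  have hW : ∀ i, IsOpen (W i) := fun i => by
    change IsOpen (Set.range _)
    rw [← Set.image_univ]
    exact Groth.Agent.AlgSpace.isOpenMap_ofPt (a i) (hae i) _ isOpen_univ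
  have hj := fun i => Groth.Agent.AlgSpace.repWith_openSubι (hW i)
  refine ⟨ι, fun i => ⟨Groth.Agent.AlgSpace.openSub (W i),
      Groth.Agent.AlgSpace.isAlgSpace_of_representable (hj i).1 X.property⟩,
    fun i => ObjectProperty.homMk (Groth.Agent.AlgSpace.openSubι (W i)),
    ⟨hj, fun x => ?_⟩, fun i => ?_⟩
  · obtain ⟨u, rfl⟩ := Groth.Agent.AlgSpace.surjective_ofPt hps x
    obtain ⟨O, hO, hu, -⟩ :=
      exists_isAffineOpen_mem_and_subset (X := S) (x := U.hom u) (U := ⊤) trivial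
    obtain ⟨V, hV, hu', hVO⟩ :=
      exists_isAffineOpen_mem_and_subset (X := U.left) (x := u) (U := U.hom ⁻¹ᵁ O) hu
    refine ⟨⟨(V, O), hV, hO, fun v hv => hVO hv⟩, ?_⟩
    apply (Groth.Agent.AlgSpace.range_openSubι _).symm.subset
    exact (Groth.Agent.AlgSpace.range_ofPt_restrict p V).symm.subset ⟨u, hu', rfl⟩
  · obtain ⟨a', -, he, hs⟩ :=
      Groth.Agent.AlgSpace.exists_atlas_openSub_image (a i) (hae i) (W := W i) rfl
    exact ⟨_, a', i.2.1, he, hs, i.1.2, i.2.2.1, fun v => i.2.2.2 _ (i.1.1.range_ι.subset ⟨v, rfl⟩)⟩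

end Groth.Agent.S10214
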