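import Groth.Statements.S10215
import Groth.Agent.Lib.AlgSpace.UI
import Groth.Agent.Lib.AlgSpDecent.Basic

set_option autoImplicit false
universe u
open CategoryTheory CategoryTheory.Limits AlgebraicGeometry Topology TopologicalSpace
open AlgSp

set_option backward.isDefEq.respectTransparency.types false

namespace Groth.Agent.S10215

/-- Let X be an algebraic space over a scheme S and p : Spec K ⟶ X, q : Spec L ⟶ X morphisms from
spectra of fields over S which determine the same point of |X|, with p a monomorphism. Then q
factors uniquely through p. -/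
theorem result {S : Scheme.{u}} (X : AlgSp.Space S) (p q : AlgSp.FieldPt X.obj)
    (h : AlgSp.Points.mk p = AlgSp.Points.mk q) [Mono p.toHom] :
    ∃! c : q.pt ⟶ p.pt, (AlgSp.yon S).map c ≫ p.toHom = q.toHom := by
  obtain ⟨V, snd, fst, sq⟩ := Functor.relativelyRepresentable.of_diag X.property.diag p.toHom q.toHom
  obtain ⟨c₀, hc₀⟩ := (AlgSp.yon S).map_surjective fst
  have : Mono snd := ⟨fun a b e => (AlgSp.yon S).map_injective (sq.hom_ext
    (by rw [← cancel_mono p.toHom, Category.assoc, Category.assoc, sq.w, ← Functor.map_comp_assoc,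
      ← Functor.map_comp_assoc, e])
    (by rw [← Functor.map_comp, ← Functor.map_comp, e]))⟩
  have : Mono snd.left := inferInstanceAs (Mono ((Over.forget S).map snd))
  obtain ⟨Ω, _, w, a, b, hab⟩ := Groth.Agent.AlgSpDecent.exists_common_of_mk_eq h
  obtain ⟨m, hm⟩ := (AlgSp.yon S).map_surjective (sq.lift _ _ hab)
  have : Nonempty ↥V.left := ⟨m.left (IsLocalRing.closedPoint Ω)⟩
  have : IsIso snd.left := Groth.Agent.AlgSpace.isIso_of_mono_field snd.left
  have : IsIso ((Over.forget S).map snd) := this
  have : IsIso snd := isIso_of_reflects_iso snd (Over.forget S)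
  refine ⟨inv snd ≫ c₀, ?_, fun c hc => (AlgSp.yon S).map_injective ?_⟩
  · beta_reduce
    rw [Functor.map_comp, Category.assoc, hc₀, sq.w, ← Functor.map_comp_assoc, IsIso.inv_hom_id]
    erw [(AlgSp.yon S).map_id]
    rw [Category.id_comp]
  · rw [← cancel_mono p.toHom, hc, Functor.map_comp, Category.assoc, hc₀, sq.w,
      ← Functor.map_comp_assoc, IsIso.inv_hom_id]
    erw [(AlgSp.yon S).map_id]
    rw [Category.id_comp]

end Groth.Agent.S10215
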