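import Groth.Statements.S10216
import Groth.Agent.Lib.AlgSpace.Points
import Mathlib.AlgebraicGeometry.AlgClosed.Basic
import Groth.Agent.Lib.AlgSpDecent.MonoPointApps

set_option autoImplicit false
universe u
open CategoryTheory CategoryTheory.Limits AlgebraicGeometry Topology TopologicalSpace
open AlgSp

set_option backward.isDefEq.respectTransparency.types false

namespace Groth.Agent.S10216

/-- Let φ : U ⟶ X be an etale morphism of algebraic spaces over a scheme S, take a geometric point x̄ :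
Spec k ⟶ X of X whose image in |X| is x, and let u ∈ |U| with φ(u) = x. Then there is a geometric
point ū : Spec k ⟶ U (with the same field k) lying over u and with φ ∘ ū = x̄. -/
theorem result {S : Scheme.{u}} {U X : AlgSp.Space S} (φ : U ⟶ X)
    (hφ : AlgSp.IsEtaleMor φ.hom) (xbar : AlgSp.FieldPt X.obj) (hx : xbar.IsGeometric)
    (u : AlgSp.Points U.obj) (hu : AlgSp.Points.map φ.hom u = AlgSp.Points.mk xbar) :
    ∃ ubar : (AlgSp.yon S).obj xbar.pt ⟶ U.obj,
      ubar ≫ φ.hom = xbar.toHom ∧ AlgSp.Points.ofPt ubar (IsLocalRing.closedPoint xbar.K) = u := by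
  obtain ⟨A, p, hpe, hps⟩ := U.property.atlas
  obtain ⟨a, rfl⟩ := Groth.Agent.AlgSpace.surjective_ofPt hps u
  have hψ := hφ p hpe
  let ψ := p ≫ φ.hom
  let t : ↥xbar.pt.left := IsLocalRing.closedPoint xbar.K
  have sq := hψ.1.isPullback xbar.toHom
  obtain ⟨v, hv₁, hv₂⟩ := Groth.Agent.AlgSpace.exists_pt_of_isPullback sq
    (x := AlgSp.Points.ofScheme A a) (t := t)
    (by rw [← AlgSp.Points.ofPt_eq_map_ofScheme]; exact hu.trans (AlgSp.Points.ofPt_toHom xbar _).symm)
  let c : (hψ.1.pullback xbar.toHom).left ⟶ Spec (CommRingCat.of xbar.K) :=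
    (hψ.1.snd xbar.toHom).left
  have hc : Etale c := hψ.2 xbar.toHom _ _ sq
  have : LocallyQuasiFinite c := Groth.Agent.AlgSpDecent.locallyQuasiFinite_of_etale c
  have : IsLocallyArtinian (hψ.1.pullback xbar.toHom).left := IsLocallyArtinian.of_locallyQuasiFinite c
  have : IsAlgClosed xbar.K := hx
  let σ := pointOfClosedPoint c v (isClosed_discrete _)
  let σ' : xbar.pt ⟶ hψ.1.pullback xbar.toHom := Over.homMk σ (by
    rw [← Over.w (hψ.1.snd xbar.toHom)]
    exact (pointOfClosedPoint_comp_assoc c v (isClosed_discrete _) xbar.str))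
  refine ⟨(AlgSp.yon S).map σ' ≫ hψ.1.fst xbar.toHom ≫ p, ?_, ?_⟩
  · have hs : σ' ≫ hψ.1.snd xbar.toHom = 𝟙 _ :=
      Over.OverMorphism.ext (pointOfClosedPoint_comp c v (isClosed_discrete _))
    rw [Category.assoc, Category.assoc, sq.w, ← Functor.map_comp_assoc, hs]
    erw [(AlgSp.yon S).map_id]
    rw [Category.id_comp]
  · have hσ : σ'.left t = v := pointOfClosedPoint_apply c v (isClosed_discrete _) _
    rw [Groth.Agent.AlgSpDecent.ofPt_map_comp, hσ, ← AlgSp.Points.map_ofPt, hv₁,
      ← AlgSp.Points.ofPt_eq_map_ofScheme]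

end Groth.Agent.S10216
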