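import Groth.Statements.S10221
import Groth.Agent.Lib.AlgSpEt.Sections

set_option autoImplicit false
universe u
open CategoryTheory CategoryTheory.Limits AlgebraicGeometry Topology TopologicalSpace
open AlgSp

set_option backward.isDefEq.respectTransparency.types false

namespace Groth.Agent.S10221

/-- Let X be an algebraic space over a scheme S. A short complex of abelian sheaves on the small etale
site of X (maps f, g with g ∘ f = 0) is exact if and only if it is exact on stalks at all geometric
points x̄ of X: every element of the middle stalk killed by g_x̄ is in the image of f_x̄. -/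
theorem result {S : Scheme.{u}} (X : AlgSp.Space S) (C : ShortComplex (AlgSp.AbEt X.obj)) :
    C.Exact ↔ ∀ p : AlgSp.FieldPt X.obj, p.IsGeometric →
      ∀ y : ↥((AlgSp.stalkEtFunctor AddCommGrpCat.{u + 1} p).obj C.X₂),
        ((AlgSp.stalkEtFunctor AddCommGrpCat.{u + 1} p).map C.g) y = 0 →
          ∃ x : ↥((AlgSp.stalkEtFunctor AddCommGrpCat.{u + 1} p).obj C.X₁),
            ((AlgSp.stalkEtFunctor AddCommGrpCat.{u + 1} p).map C.f) x = y := by
  exact Groth.Agent.AlgSpEt.exact_iff_stalk X.property C

end Groth.Agent.S10221
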