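import Groth.Statements.S10222
import Groth.Agent.Lib.AlgSpDecent.HasAtChart

set_option autoImplicit false
universe u
open CategoryTheory CategoryTheory.Limits AlgebraicGeometry Topology TopologicalSpace
open AlgSp

set_option backward.isDefEq.respectTransparency.types false

namespace Groth.Agent.S10222

/-- (1) if and only if (2): an algebraic space X over a scheme S is reduced if and only if at each x ∈
|X| the local ring of X is reduced, the latter meaning that for some scheme U, some representable
etale h_U ⟶ X and some point u of U mapping to x, the local ring of U at u is reduced. (The
assertions about global sections in the published statement are not part of this row.) -/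
theorem result {S : Scheme.{u}} (X : AlgSp.Space S) :
    AlgSp.IsReducedSp X.obj ↔
      ∀ x : AlgSp.Points X.obj, AlgSp.HasAt (fun U u => _root_.IsReduced ↥(U.presheaf.stalk u)) X.obj x := by
  exact Groth.Agent.AlgSpDecent.isReducedSp_iff_forall_hasAt X.property

end Groth.Agent.S10222
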