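import Groth.Statements.S10223
import Groth.Agent.Lib.AlgSpEt14.StalkProps
import Groth.Agent.Lib.RInv29.Henselian

set_option autoImplicit false
universe u
open CategoryTheory CategoryTheory.Limits AlgebraicGeometry Topology TopologicalSpace
open AlgSp

namespace Groth.Agent.S10223

open Groth.Agent.StalkHens14


/-- Let X be an algebraic space over a scheme S and x̄ a geometric point of X. Then the etale local ring
of X at x̄ (the stalk at x̄ of the structure sheaf of the small etale site) is a strictly henselian
local ring. (The published statement identifies this ring with the strict henselisation of the local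
ring of any etale neighbourhood (U, ū) at the image point of ū; this row records the resulting
property of the ring, not the identification.) -/
theorem result {S : Scheme.{u}} (X : AlgSp.Space S) (p : AlgSp.FieldPt X.obj)
    (hp : p.IsGeometric) :
    IsLocalRing ↥(AlgSp.OEtStalk p) ∧ EtCoh.IsStrictlyHenselianLocalRing ↥(AlgSp.OEtStalk p) := by
  obtain ⟨U, a, v, ha, hv⟩ := exists_chart X.property (AlgSp.Points.mk p)
  obtain ⟨H, _, _, _, _, hH, ⟨e⟩⟩ := exists_strictHenselization X.property p hp a ha v hv
  have := e.isLocalRing
  have : HenselianLocalRing H :=
    Hensel.IsStrictHenselization.henselian (R := ↥(U.left.presheaf.stalk v))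
  have hsc := Hensel.IsStrictHenselization.isSepClosure
    (R := ↥(U.left.presheaf.stalk v)) (S := H)
  have := hsc.sep_closed
  refine ⟨inferInstance, RInv29.henselian_of_ringEquiv e, ?_⟩
  exact RInv29.isSepClosed_of_ringEquiv (IsLocalRing.ResidueField.mapEquiv e)

end Groth.Agent.S10223
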