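import Groth.Statements.S10230
import Groth.Agent.Lib.AlgSpEt14.Basic

set_option autoImplicit false
universe u
open CategoryTheory CategoryTheory.Limits AlgebraicGeometry Topology TopologicalSpace
open AlgSp

set_option backward.isDefEq.respectTransparency.types false

namespace Groth.Agent.S10230

/-- Let X be an algebraic space over a scheme S and F a subsheaf of the final object of the small etale
topos of X, i.e. a sheaf of sets all of whose section sets have at most one element. Then there is a
unique open W of |X| with F = h_W: for every U etale over X, F(U) is nonempty if and only if U ⟶ X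
maps |U| into W. -/
theorem result {S : Scheme.{u}} (X : AlgSp.Space S)
    (F : AlgSp.EtSh X.obj (Type (u + 1))) (hF : ∀ E : AlgSp.EtOver X.obj, Subsingleton (F.obj.obj (Opposite.op E))) :
    ∃! W : Set (AlgSp.Points X.obj), IsOpen W ∧
      ∀ E : AlgSp.EtOver X.obj, Nonempty (F.obj.obj (Opposite.op E)) ↔ Set.range (AlgSp.Points.ofPt E.obj.hom) ⊆ W := by
  exact Groth.Agent.AlgSpEt14.existsUnique_open X.property F hF

end Groth.Agent.S10230
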