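import Groth.Statements.S10232
import Groth.Agent.Lib.AlgSpEt14.StalkProps

set_option autoImplicit false
universe u
open CategoryTheory CategoryTheory.Limits AlgebraicGeometry Topology TopologicalSpace
open AlgSp

namespace Groth.Agent.S10232

open Groth.Agent.StalkHens14


/-- Let X be an algebraic space over a scheme S and x ∈ |X|. Then X is regular at x (for some etale
chart h_U ⟶ X and some point u of U over x, the local ring of U at u is regular) if and only if the
etale local ring of X at x̄ is regular for every geometric point x̄ lying over x, if and only if it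
is regular for some geometric point x̄ lying over x. -/
theorem result {S : Scheme.{u}} (X : AlgSp.Space S) (x : AlgSp.Points X.obj) :
    (AlgSp.HasAt (fun U u => IsRegularLocalRing ↥(U.presheaf.stalk u)) X.obj x ↔
      ∀ p : AlgSp.FieldPt X.obj, p.IsGeometric → AlgSp.Points.mk p = x → IsRegularLocalRing ↥(AlgSp.OEtStalk p)) ∧
    (AlgSp.HasAt (fun U u => IsRegularLocalRing ↥(U.presheaf.stalk u)) X.obj x ↔
      ∃ p : AlgSp.FieldPt X.obj, p.IsGeometric ∧ AlgSp.Points.mk p = x ∧ IsRegularLocalRing ↥(AlgSp.OEtStalk p)) := by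
  have h1 : AlgSp.HasAt (fun U u => IsRegularLocalRing ↥(U.presheaf.stalk u)) X.obj x →
      ∀ p : AlgSp.FieldPt X.obj, p.IsGeometric → AlgSp.Points.mk p = x →
        IsRegularLocalRing ↥(AlgSp.OEtStalk p) := by
    rintro ⟨U, a, v, ha, hv, hd⟩ p hp hpx
    exact (isRegularLocalRing_OEtStalk_iff X.property p hp a ha v (hv.trans hpx.symm)).2 hd
  have h2 : (∃ p : AlgSp.FieldPt X.obj, p.IsGeometric ∧ AlgSp.Points.mk p = x ∧
      IsRegularLocalRing ↥(AlgSp.OEtStalk p)) →
      AlgSp.HasAt (fun U u => IsRegularLocalRing ↥(U.presheaf.stalk u)) X.obj x := by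
    rintro ⟨p, hp, hpx, hreg⟩
    obtain ⟨U, a, v, ha, hv⟩ := exists_chart X.property x
    exact ⟨U, a, v, ha, hv,
      (isRegularLocalRing_OEtStalk_iff X.property p hp a ha v (hv.trans hpx.symm)).1 hreg⟩
  have h3 : (∀ p : AlgSp.FieldPt X.obj, p.IsGeometric → AlgSp.Points.mk p = x →
      IsRegularLocalRing ↥(AlgSp.OEtStalk p)) →
      ∃ p : AlgSp.FieldPt X.obj, p.IsGeometric ∧ AlgSp.Points.mk p = x ∧
        IsRegularLocalRing ↥(AlgSp.OEtStalk p) := fun h => by
    obtain ⟨p, hp, hpx⟩ := exists_geometric_mk X.property x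
    exact ⟨p, hp, hpx, h p hp hpx⟩
  exact ⟨⟨h1, fun h => h2 (h3 h)⟩, ⟨fun h => h3 (h1 h), h2⟩⟩

end Groth.Agent.S10232
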