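import Groth.Statements.S10233
import Groth.Agent.Lib.AlgSpDecent.RedInduced

set_option autoImplicit false
universe u
open CategoryTheory CategoryTheory.Limits AlgebraicGeometry Topology TopologicalSpace
open AlgSp

set_option backward.isDefEq.respectTransparency.types false

namespace Groth.Agent.S10233

/-- Let X be an algebraic space over a scheme S with a presentation (U, R, s, t, p), and let i' : Z' ⟶ U
be an immersion of schemes that is R-invariant, meaning that one locally closed subscheme R' of R is
at the same time the inverse image of Z' under s and under t. Then Z' descends to a locally closed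
subspace of X: there is a morphism of algebraic spaces i : Z ⟶ X representable by immersions
together with a map h_{Z'} ⟶ Z making h_{Z'} the fibre product Z ×_X h_U; moreover i is a closed
(resp. open) immersion when i' is. -/
theorem result {S : Scheme.{u}} (X : AlgSp.Space S) {R U : Over S} (s t : R ⟶ U)
    (p : (AlgSp.yon S).obj U ⟶ X.obj) (hp : AlgSp.IsPresentation s t p)
    {Z' R' : Scheme.{u}} (i' : Z' ⟶ U.left) [IsImmersion i'] (k : R' ⟶ R.left) (s' t' : R' ⟶ Z')
    (hs : IsPullback k s' s.left i') (ht : IsPullback k t' t.left i') :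
    ∃ (Z : AlgSp.Space S) (i : Z ⟶ X) (q : (AlgSp.yon S).obj (Over.mk (i' ≫ U.hom)) ⟶ Z.obj),
      AlgSp.RepWith @IsImmersion i.hom ∧
      IsPullback q ((AlgSp.yon S).map (Over.homMk i' rfl : Over.mk (i' ≫ U.hom) ⟶ U)) i.hom p ∧
      (IsClosedImmersion i' → AlgSp.RepWith @IsClosedImmersion i.hom) ∧
      (IsOpenImmersion i' → AlgSp.RepWith @IsOpenImmersion i.hom) := by
  open Groth.Agent.AlgSpace Groth.Agent.AlgSpDecent in
  exact (by
    let Z₀ : Over S := Over.mk (i' ≫ U.hom)
    let ι : Z₀ ⟶ U := Over.homMk i' rfl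
    let RZ : Over S := Over.mk (k ≫ R.hom)
    let a : RZ ⟶ R := Over.homMk k rfl
    let b : RZ ⟶ Z₀ := Over.homMk s' (by
      show s' ≫ i' ≫ U.hom = k ≫ R.hom
      rw [← Category.assoc, ← hs.w, Category.assoc, Over.w s])
    let b' : RZ ⟶ Z₀ := Over.homMk t' (by
      show t' ≫ i' ≫ U.hom = k ≫ R.hom
      rw [← Category.assoc, ← ht.w, Category.assoc, Over.w t])
    have : IsImmersion ι.left := ‹IsImmersion i'›
    have : Mono ι := (Over.forget S).mono_of_mono_map (inferInstanceAs (Mono ι.left))
    have sqs : IsPullback a b s ι := IsPullback.of_map_of_faithful (Over.forget S) hs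
    have hb' : b' ≫ ι = a ≫ t := Over.OverMorphism.ext ht.w.symm
    let m := Sheaf.imageι ((AlgSp.yon S).map ι ≫ p)
    have sqP : IsPullback (Sheaf.toImage ((AlgSp.yon S).map ι ≫ p)) ((AlgSp.yon S).map ι) m p :=
      RedInduced.isPullback_image hp.isPullback ι sqs hb'
    have hm : AlgSp.RepWith @IsImmersion m := repWith_immersion_of_etale_cover hp.etale hp.surjective sqP
      ((AlgSp.repWith_yon_map_iff _ _).2 ‹_›)
    refine ⟨⟨Sheaf.image ((AlgSp.yon S).map ι ≫ p), isAlgSpace_of_representable hm.1 X.property⟩,
      ObjectProperty.homMk m, Sheaf.toImage ((AlgSp.yon S).map ι ≫ p), hm, sqP, fun hc => ?_, fun ho => ?_⟩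
    · exact repWith_closedImmersion_of_etale_cover m p hp.etale hp.surjective sqP
        ((AlgSp.repWith_yon_map_iff _ _).2 hc)
    · exact repWith_openImmersion_of_etale_cover hp.etale hp.surjective sqP
        ((AlgSp.repWith_yon_map_iff _ _).2 ho))

end Groth.Agent.S10233
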