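import Groth.Statements.S10236
import Groth.Agent.Lib.AlgSpace.Quot

set_option autoImplicit false
universe u
open CategoryTheory CategoryTheory.Limits AlgebraicGeometry Topology TopologicalSpace
open AlgSp

namespace Groth.Agent.S10236


theorem universallyClosed_map {U M Z : Scheme.{u}} (m : U ⟶ M) [UniversallyClosed m] (c : M ⟶ Z) :
    UniversallyClosed (pullback.map (m ≫ c) (m ≫ c) c c m m (𝟙 Z) (Category.comp_id _) (Category.comp_id _)) :=
  MorphismProperty.pullbackMap (P := @UniversallyClosed) ‹_› ‹_› rfl rfl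

theorem isSeparated_of_comp_surjective {U M Z : Scheme.{u}} (m : U ⟶ M) [Surjective m]
    [UniversallyClosed m] (c : M ⟶ Z) (h : IsSeparated (m ≫ c)) : IsSeparated c := by
  have := universallyClosed_map m c
  have e : m ≫ pullback.diagonal c = pullback.diagonal (m ≫ c) ≫
      pullback.map (m ≫ c) (m ≫ c) c c m m (𝟙 Z) (Category.comp_id _) (Category.comp_id _) := by
    apply pullback.hom_ext
    · rw [Category.assoc, Category.assoc, pullback.diagonal_fst, Category.comp_id, pullback.lift_fst,
        ← Category.assoc, pullback.diagonal_fst, Category.id_comp]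
    · rw [Category.assoc, Category.assoc, pullback.diagonal_snd, Category.comp_id, pullback.lift_snd,
        ← Category.assoc, pullback.diagonal_snd, Category.id_comp]
  have : UniversallyClosed (m ≫ pullback.diagonal c) := by
    rw [e]
    infer_instance
  have : UniversallyClosed (pullback.diagonal c) := UniversallyClosed.of_comp_surjective m _
  exact ⟨IsClosedImmersion.of_isPreimmersion _ (pullback.diagonal c).isClosedMap.isClosed_range⟩

theorem quasiCompact_of_comp_surjective {U M Z : Scheme.{u}} (m : U ⟶ M) [Surjective m]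
    (f : M ⟶ Z) [QuasiCompact (m ≫ f)] : QuasiCompact f := by
  rw [quasiCompact_iff]
  intro V hV hc
  have h := QuasiCompact.isCompact_preimage (f := m ≫ f) V hV hc
  have e : f ⁻¹' V = m '' ((m ≫ f) ⁻¹' V) := by
    rw [Scheme.Hom.comp_base, TopCat.coe_comp, Set.preimage_comp,
      Set.image_preimage_eq _ m.surjective]
  rw [e]
  exact h.image m.continuous

theorem quasiSeparated_of_comp_surjective {U M Z : Scheme.{u}} (m : U ⟶ M) [Surjective m]
    [QuasiCompact m] (c : M ⟶ Z) (h : QuasiSeparated (m ≫ c)) : QuasiSeparated c := by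
  have : QuasiCompact (pullback.map (m ≫ c) (m ≫ c) c c m m (𝟙 Z) (Category.comp_id _) (Category.comp_id _)) :=
    MorphismProperty.pullbackMap (P := @QuasiCompact) ‹_› ‹_› rfl rfl
  have e : m ≫ pullback.diagonal c = pullback.diagonal (m ≫ c) ≫
      pullback.map (m ≫ c) (m ≫ c) c c m m (𝟙 Z) (Category.comp_id _) (Category.comp_id _) := by
    apply pullback.hom_ext
    · rw [Category.assoc, Category.assoc, pullback.diagonal_fst, Category.comp_id, pullback.lift_fst,
        ← Category.assoc, pullback.diagonal_fst, Category.id_comp]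
    · rw [Category.assoc, Category.assoc, pullback.diagonal_snd, Category.comp_id, pullback.lift_snd,
        ← Category.assoc, pullback.diagonal_snd, Category.id_comp]
  have : QuasiCompact (m ≫ pullback.diagonal c) := by
    rw [e]
    infer_instance
  exact ⟨quasiCompact_of_comp_surjective m _⟩

theorem repMap_naturality {S : Scheme.{u}} {R U : Over S} (g : R ⟶ U) :
    (AlgSp.yon S).map g ≫ (QuotSh.repIsoUliftYoneda Scheme.fppfPrecoverage U).inv =
      (QuotSh.repIsoUliftYoneda Scheme.fppfPrecoverage R).inv ≫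
        QuotSh.repMap Scheme.fppfPrecoverage g := by
  let eR := QuotSh.repIsoUliftYoneda Scheme.fppfPrecoverage R
  let eU := QuotSh.repIsoUliftYoneda Scheme.fppfPrecoverage U
  change (AlgSp.yon S).map g ≫ eU.inv = eR.inv ≫ QuotSh.repMap Scheme.fppfPrecoverage g
  rw [Iso.eq_inv_comp, ← Category.assoc, Iso.comp_inv_eq]
  apply ObjectProperty.hom_ext
  apply sheafify_hom_ext _ _ _ ((AlgSp.yon S).obj U).property
  simp only [eR, eU, QuotSh.repIsoUliftYoneda, QuotSh.repMap]
  simp [sheafificationIso]
  have k₁ := toSheafify_sheafifyLift (QuotSh.J Scheme.fppfPrecoverage S)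
    (𝟙 ((AlgSp.yon S).obj R).obj) ((AlgSp.yon S).obj R).property
  have k₂ := toSheafify_naturality (QuotSh.J Scheme.fppfPrecoverage S)
    (Functor.whiskerRight (yoneda.map g) uliftFunctor.{u + 1, u})
  refine ((Category.assoc _ _ _).symm.trans ((congrArg (· ≫ ((AlgSp.yon S).map g).hom) k₁).trans
    (Category.id_comp _))).trans ?_
  refine Eq.trans ?_ ((Category.assoc _ _ _).trans rfl)
  refine Eq.trans ?_ (congrArg (· ≫ _) k₂)
  refine Eq.trans ?_ (Category.assoc _ _ _).symm
  refine Eq.trans ?_ (congrArg (_ ≫ ·) (toSheafify_sheafifyLift _ _ ((AlgSp.yon S).obj U).property).symm)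
  exact (Category.comp_id _).symm

theorem surjective_of_isQuotient {S : Scheme.{u}} {R U M : Over S} {s t : R ⟶ U} {m : U ⟶ M}
    (hq : QuotSh.IsQuotient Scheme.fppfPrecoverage s t m) : Surjective m.left := by
  obtain ⟨w, hw⟩ := hq
  have h₁ : (QuotSh.repIsoUliftYoneda Scheme.fppfPrecoverage U).inv ≫
      QuotSh.quotπ Scheme.fppfPrecoverage s t ≫ QuotSh.quotDesc Scheme.fppfPrecoverage m w =
        (AlgSp.yon S).map m ≫ (QuotSh.repIsoUliftYoneda Scheme.fppfPrecoverage M).inv :=
    (congrArg (_ ≫ ·) (coequalizer.π_desc _ _)).trans (repMap_naturality m).symm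
  have := Groth.Agent.AlgSpace.isLocallySurjective_quotπ s t
  have h₂ : Epi ((AlgSp.yon S).map m ≫ (QuotSh.repIsoUliftYoneda Scheme.fppfPrecoverage M).inv) := by
    rw [← h₁, ← Category.assoc]
    have : Epi ((QuotSh.repIsoUliftYoneda Scheme.fppfPrecoverage U).inv ≫
        QuotSh.quotπ Scheme.fppfPrecoverage s t) :=
      (CategoryTheory.Sheaf.isLocallySurjective_iff_epi _).1 this
    have := hw
    exact epi_comp _ _
  have h₃ : Sheaf.IsLocallySurjective ((AlgSp.yon S).map m ≫
      (QuotSh.repIsoUliftYoneda Scheme.fppfPrecoverage M).inv) := by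
    rw [CategoryTheory.Sheaf.isLocallySurjective_iff_epi]
    exact h₂
  obtain ⟨V, v, l, -, hvs, -, hl⟩ := Groth.Agent.AlgSpace.exists_single_cover_lift
    ((AlgSp.yon S).map m ≫ (QuotSh.repIsoUliftYoneda Scheme.fppfPrecoverage M).inv)
    ((QuotSh.repIsoUliftYoneda Scheme.fppfPrecoverage M).inv)
  obtain ⟨r, rfl⟩ := (AlgSp.yon S).map_surjective l
  rw [← Category.assoc, cancel_mono, ← Functor.map_comp] at hl
  have e := (AlgSp.yon S).map_injective hl
  have : Surjective (r.left ≫ m.left) := by
    rw [← Over.comp_left, e]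
    exact hvs
  exact Surjective.of_comp r.left m.left

/-- Let (U, R, s, t, c) be a groupoid scheme over a scheme S with s, t finite locally free and j = (t,
s) an equivalence relation, such that in each nonempty closed subset of U some point has its whole
equivalence class inside an affine open of U; let U ⟶ M be a finite locally free morphism over S
with R = U ×_M U (the square with t, s cartesian) such that h_M is the quotient of h_U by h_R ⇉ h_U
in fppf sheaves. Then (1) if U ⟶ S is quasi-separated so is M ⟶ S; (2) if U is quasi-separated so is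
M; (3) if U ⟶ S is separated so is M ⟶ S; (4) if U is separated so is M. -/
theorem result {S : Scheme.{u}} (G : Grpd.GroupoidScheme S)
    (hs : Mor2.IsFinLocFree G.s) (ht : Mor2.IsFinLocFree G.t)
    (heq : AlgSp.IsEqvRel (Over.homMk G.s G.s_over : Over.mk G.pR ⟶ Over.mk G.pU) (Over.homMk G.t G.t_over : Over.mk G.pR ⟶ Over.mk G.pU))
    (h3 : ∀ Z : Set ↥G.U, IsClosed Z → Z.Nonempty →
      ∃ u ∈ Z, ∃ W : G.U.Opens, IsAffineOpen W ∧ ∀ r : ↥G.R, G.s r = u → G.t r ∈ W)
    (M : Over S) (m : Over.mk G.pU ⟶ M) (hm : Mor2.IsFinLocFree m.left) (hR : IsPullback G.t G.s m.left m.left)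
    (hq : QuotSh.IsQuotient Scheme.fppfPrecoverage (Over.homMk G.s G.s_over : Over.mk G.pR ⟶ Over.mk G.pU) (Over.homMk G.t G.t_over : Over.mk G.pR ⟶ Over.mk G.pU) m) :
    (QuasiSeparated G.pU → QuasiSeparated M.hom) ∧ (QuasiSeparatedSpace ↥G.U → QuasiSeparatedSpace ↥M.left) ∧
      (IsSeparated G.pU → IsSeparated M.hom) ∧ (G.U.IsSeparated → M.left.IsSeparated) := by
  have hms : Surjective m.left := surjective_of_isQuotient hq
  have : IsFinite m.left := hm.1
  refine ⟨fun h => quasiSeparated_of_comp_surjective m.left M.hom (by rw [Over.w m]; exact h),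
    fun h => ?_, fun h => isSeparated_of_comp_surjective m.left M.hom (by rw [Over.w m]; exact h),
    fun h => ?_⟩
  · rw [quasiSeparatedSpace_iff_quasiSeparated]
    refine quasiSeparated_of_comp_surjective m.left _ ?_
    rw [terminal.comp_from, ← quasiSeparatedSpace_iff_quasiSeparated]
    exact h
  · refine ⟨isSeparated_of_comp_surjective m.left _ ?_⟩
    rw [terminal.comp_from]
    exact h.isSeparated_terminal_from

end Groth.Agent.S10236
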