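import Groth.Statements.S10239
import Groth.Agent.Lib.AlgSpEt14.Branches

set_option autoImplicit false
universe u
open CategoryTheory CategoryTheory.Limits AlgebraicGeometry Topology TopologicalSpace
open AlgSp

namespace Groth.Agent.S10239

open Groth.Agent.StalkHens14

/-- (1) ⇔ (4) ⇔ (5): let X be an algebraic space over a scheme S, x ∈ |X| and n ≥ 1 an integer. The
following are equivalent: (1) for every scheme U, etale h_U ⟶ X and u ∈ U over x the local ring of U
at u has at most n minimal primes, and for some such (U, u) exactly n; (4) for every such (U, u) the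
number of geometric branches of U at u is n; (5) for every geometric point x̄ over x the etale local
ring of X at x̄ has exactly n minimal primes. -/
theorem result {S : Scheme.{u}} (X : AlgSp.Space S) (x : AlgSp.Points X.obj)
    (n : ℕ) (hn : 1 ≤ n) :
    (((∀ (U : Over S) (a : (AlgSp.yon S).obj U ⟶ X.obj) (u : ↥U.left),
        AlgSp.RepWith @Etale a → AlgSp.Points.ofPt a u = x → (minimalPrimes ↥(U.left.presheaf.stalk u)).encard ≤ n) ∧
        AlgSp.HasAt (fun U u => (minimalPrimes ↥(U.presheaf.stalk u)).encard = n) X.obj x) ↔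
      (∀ (U : Over S) (a : (AlgSp.yon S).obj U ⟶ X.obj) (u : ↥U.left),
        AlgSp.RepWith @Etale a → AlgSp.Points.ofPt a u = x → Brnch.numGeomBranchesAt U.left u = n)) ∧
    ((∀ (U : Over S) (a : (AlgSp.yon S).obj U ⟶ X.obj) (u : ↥U.left),
        AlgSp.RepWith @Etale a → AlgSp.Points.ofPt a u = x → Brnch.numGeomBranchesAt U.left u = n) ↔
      ∀ p : AlgSp.FieldPt X.obj, p.IsGeometric → AlgSp.Points.mk p = x →
        (minimalPrimes ↥(AlgSp.OEtStalk p)).encard = n) := by
  have h23 : (∀ (U : Over S) (a : (AlgSp.yon S).obj U ⟶ X.obj) (u : ↥U.left),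
        AlgSp.RepWith @Etale a → AlgSp.Points.ofPt a u = x → Brnch.numGeomBranchesAt U.left u = n) →
      ∀ p : AlgSp.FieldPt X.obj, p.IsGeometric → AlgSp.Points.mk p = x →
        (minimalPrimes ↥(AlgSp.OEtStalk p)).encard = n := by
    intro h p hp hpx
    obtain ⟨U, a, u, ha, hu⟩ := exists_chart X.property (AlgSp.Points.mk p)
    rw [encard_minimalPrimes_OEtStalk X.property p hp a ha u hu]
    exact h U a u ha (hu.trans hpx)
  have h32 : (∀ p : AlgSp.FieldPt X.obj, p.IsGeometric → AlgSp.Points.mk p = x →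
        (minimalPrimes ↥(AlgSp.OEtStalk p)).encard = n) →
      ∀ (U : Over S) (a : (AlgSp.yon S).obj U ⟶ X.obj) (u : ↥U.left),
        AlgSp.RepWith @Etale a → AlgSp.Points.ofPt a u = x →
          Brnch.numGeomBranchesAt U.left u = n := by
    intro h U a u ha hu
    obtain ⟨p, hp, hpx⟩ := exists_geometric_over a ha u
    rw [← encard_minimalPrimes_OEtStalk X.property p hp a ha u hpx.symm]
    exact h p hp (hpx.trans hu)
  refine ⟨⟨fun h => h32 ?_, fun h => ?_⟩, ⟨h23, h32⟩⟩
  · intro p hp hpx
    obtain ⟨hle, U₀, a₀, u₀, ha₀, hu₀, he₀⟩ := h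
    refine le_antisymm ?_ ?_
    · by_contra hlt
      obtain ⟨U, a, u, ha, hu, h2⟩ := exists_chart_encard_ge X.property p hp (n + 1) (by
        push_cast
        exact Order.add_one_le_of_lt (not_le.1 hlt))
      have h3 := h2.trans (hle U a u ha (hu.trans hpx))
      norm_cast at h3
      omega
    · rw [← he₀]
      exact encard_minimalPrimes_le X.property p hp a₀ ha₀ u₀ (hu₀.trans hpx.symm)
  · have h3 := h23 h
    have hle : ∀ (U : Over S) (a : (AlgSp.yon S).obj U ⟶ X.obj) (u : ↥U.left),
        AlgSp.RepWith @Etale a → AlgSp.Points.ofPt a u = x →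
          (minimalPrimes ↥(U.left.presheaf.stalk u)).encard ≤ n := by
      intro U a u ha hu
      obtain ⟨p, hp, hpx⟩ := exists_geometric_over a ha u
      exact (encard_minimalPrimes_le X.property p hp a ha u hpx.symm).trans
        (h3 p hp (hpx.trans hu)).le
    refine ⟨hle, ?_⟩
    obtain ⟨p, hp, hpx⟩ := exists_geometric_mk X.property x
    obtain ⟨U, a, u, ha, hu, h2⟩ := exists_chart_encard_ge X.property p hp n (h3 p hp hpx).ge
    exact ⟨U, a, u, ha, hu.trans hpx, le_antisymm (hle U a u ha (hu.trans hpx)) h2⟩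

end Groth.Agent.S10239
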