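import Groth.Statements.S1024
import Mathlib.CategoryTheory.Adjunction.PartialAdjoint

set_option autoImplicit false
universe v u u'
open CategoryTheory Opposite
open CohDer

namespace Groth.Agent.S1024
open CategoryTheory Opposite



/-- Let u : A ⥤ B be a functor between abelian categories and P a family of objects of B such that each
object of B receives an epimorphism from some member of P, and such that for every member Pᵢ there
is an object Q of A with Hom_A(Q, -) ≅ Hom_B(Pᵢ, u(-)) naturally. Then u is a right adjoint (has a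
left adjoint). -/
theorem result {A : Type u} [Category.{v} A] [Abelian A] {B : Type u'} [Category.{v} B] [Abelian B]
    (u : A ⥤ B) {ι : Type*} (P : ι → B)
    (h1 : ∀ X : B, ∃ (i : ι) (π : P i ⟶ X), Epi π)
    (h2 : ∀ i : ι, ∃ Q : A, Nonempty (coyoneda.obj (op Q) ≅ u ⋙ coyoneda.obj (op (P i)))) :
    u.IsRightAdjoint := by
  apply Functor.isRightAdjoint_of_leftAdjointObjIsDefined_eq_top
  rw [eq_top_iff]
  intro X _
  obtain ⟨i, π, hπ⟩ := h1 X
  obtain ⟨j, π', hπ'⟩ := h1 (Limits.kernel π)
  have hd : (π' ≫ Limits.kernel.ι π) ≫ π = 0 := by rw [Category.assoc, Limits.kernel.condition, Limits.comp_zero]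
  have key : ∀ {Z : B} (g : P i ⟶ Z), (π' ≫ Limits.kernel.ι π) ≫ g = 0 → ∃ l : X ⟶ Z, π ≫ l = g := by
    intro Z g hg
    have hg' : Limits.kernel.ι π ≫ g = 0 := by
      rw [← cancel_epi π']
      simpa using hg
    exact ⟨_, (Abelian.epiIsCokernelOfKernel _ (Limits.kernelIsKernel π)).fac (Limits.CokernelCofork.ofπ g hg')
      Limits.WalkingParallelPair.one⟩
  have hcok : Limits.IsColimit (Limits.CokernelCofork.ofπ π hd) :=
    Limits.CokernelCofork.IsColimit.ofπ _ _ (fun g hg => (key g hg).choose) (fun g hg => (key g hg).choose_spec)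
      (fun g hg m hm => by rw [← cancel_epi π, hm, (key g hg).choose_spec])
  have hP : ∀ k, u.leftAdjointObjIsDefined (P k) := fun k => by
    obtain ⟨Q, ⟨e⟩⟩ := h2 k
    exact (Functor.corepresentableByEquiv.symm e).isCorepresentable
  exact Functor.leftAdjointObjIsDefined_of_isColimit (F := u) hcok (fun k => by cases k <;> exact hP _)


end Groth.Agent.S1024
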