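import Groth.Statements.S10240
import Groth.Agent.Lib.QcohEt15.Coprod
-- import your own Groth.Agent.* helpers here

set_option autoImplicit false
universe u
open CategoryTheory CategoryTheory.Limits AlgebraicGeometry Topology TopologicalSpace
open AlgSp

namespace Groth.Agent.S10240

/-- Let X be an algebraic space over a scheme S. Colimits of quasi-coherent O_X-modules are
quasi-coherent; kernels and cokernels of maps between quasi-coherent O_X-modules are quasi-coherent;
and in a short exact sequence of O_X-modules, if two out of three are quasi-coherent then so is the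
third. -/
theorem result {S : Scheme.{u}} (X : AlgSp.Space S) :
    (∀ (J : Type u) [SmallCategory J] (D : J ⥤ AlgSp.ModEt X.obj) [HasColimit D],
        (∀ j, (D.obj j).IsQuasicoherent) → (colimit D).IsQuasicoherent) ∧
    (∀ (F G : AlgSp.ModEt X.obj) (φ : F ⟶ G), F.IsQuasicoherent → G.IsQuasicoherent →
        (kernel φ).IsQuasicoherent ∧ (cokernel φ).IsQuasicoherent) ∧
    (∀ C : ShortComplex (AlgSp.ModEt X.obj), C.ShortExact →
        (C.X₁.IsQuasicoherent → C.X₂.IsQuasicoherent → C.X₃.IsQuasicoherent) ∧
        (C.X₁.IsQuasicoherent → C.X₃.IsQuasicoherent → C.X₂.IsQuasicoherent) ∧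
        (C.X₂.IsQuasicoherent → C.X₃.IsQuasicoherent → C.X₁.IsQuasicoherent)) := by
  refine ⟨fun J _ D _ hD => ?_, fun F G φ hF hG => ⟨?_, ?_⟩, fun C hC => ⟨fun h₁ h₂ => ?_, fun h₁ h₃ => ?_, fun h₂ h₃ => ?_⟩⟩
  · exact Groth.Agent.QcohEt15.isQuasicoherent_of_good fun E _ =>
      Groth.Agent.QcohEt15.good_colimit D (fun j E _ => have := hD j; Groth.Agent.QcohEt15.good_of_isQuasicoherent E) E
  · exact Groth.Agent.QcohEt15.isQuasicoherent_of_good fun E _ =>
      Groth.Agent.QcohEt15.good_kernel φ (Groth.Agent.QcohEt15.good_of_isQuasicoherent E)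
        (Groth.Agent.QcohEt15.good_of_isQuasicoherent E)
  · exact Groth.Agent.QcohEt15.isQuasicoherent_of_good fun E _ =>
      (Groth.Agent.QcohEt15.cokernel_sections φ (E := E) (fun Z _ => Groth.Agent.QcohEt15.good_of_isQuasicoherent Z)
        (fun Z _ => Groth.Agent.QcohEt15.good_of_isQuasicoherent Z)).1
  · have := hC.epi_g
    have hq : (cokernel C.f).IsQuasicoherent := Groth.Agent.QcohEt15.isQuasicoherent_of_good fun E _ =>
      (Groth.Agent.QcohEt15.cokernel_sections C.f (E := E) (fun Z _ => Groth.Agent.QcohEt15.good_of_isQuasicoherent Z)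
        (fun Z _ => Groth.Agent.QcohEt15.good_of_isQuasicoherent Z)).1
    exact (SheafOfModules.isQuasicoherent (AlgSp.OEtRing X.obj)).prop_of_iso
      ((cokernelIsCokernel C.f).coconePointUniqueUpToIso hC.exact.gIsCokernel) hq
  · exact Groth.Agent.QcohEt15.isQuasicoherent_of_good fun E _ =>
      Groth.Agent.QcohEt15.good_middle C hC (fun Z _ => Groth.Agent.QcohEt15.good_of_isQuasicoherent Z)
        (fun Z _ => Groth.Agent.QcohEt15.good_of_isQuasicoherent Z) E
  · have := hC.mono_f
    have hq : (kernel C.g).IsQuasicoherent := Groth.Agent.QcohEt15.isQuasicoherent_of_good fun E _ =>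
      Groth.Agent.QcohEt15.good_kernel C.g (Groth.Agent.QcohEt15.good_of_isQuasicoherent E)
        (Groth.Agent.QcohEt15.good_of_isQuasicoherent E)
    exact (SheafOfModules.isQuasicoherent (AlgSp.OEtRing X.obj)).prop_of_iso
      ((kernelIsKernel C.g).conePointUniqueUpToIso hC.exact.fIsKernel) hq


end Groth.Agent.S10240
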