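import Groth.Statements.S10246
import Groth.Agent.Lib.AlgSpDescent.SpaceThick
import Groth.Agent.Lib.AlgSpace.Atlas

set_option autoImplicit false
universe u
open CategoryTheory CategoryTheory.Limits AlgebraicGeometry Topology TopologicalSpace
open AlgSp

namespace Groth.Agent.S10246

set_option backward.isDefEq.respectTransparency false

theorem exists_hom_appTop {Y T : Scheme.{u}} [IsAffine T] (ψ : Γ(T, ⊤) ⟶ Γ(Y, ⊤)) :
    ∃ g : Y ⟶ T, g.appTop = ψ := by
  refine ⟨Y.toSpecΓ ≫ Spec.map ψ ≫ T.isoSpec.inv, ?_⟩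
  have key : (Y.toSpecΓ ≫ Spec.map ψ ≫ T.isoSpec.inv) ≫ T.toSpecΓ = Y.toSpecΓ ≫ Spec.map ψ := by
    simp only [Category.assoc, ← Scheme.isoSpec_hom, Iso.inv_hom_id, Category.comp_id]
  generalize Y.toSpecΓ ≫ Spec.map ψ ≫ T.isoSpec.inv = g at key
  have h := congrArg Scheme.Hom.appTop key
  rw [Scheme.Hom.comp_appTop, Scheme.Hom.comp_appTop, Scheme.toSpecΓ_appTop, Scheme.toSpecΓ_appTop,
    Scheme.ΓSpecIso_naturality] at h
  exact (cancel_epi _).1 h

/-- Let X be an algebraic space over a terminal base scheme (so that morphisms over the base are all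
morphisms) and T an affine scheme. Then f ↦ f♯ is a bijection from morphisms X ⟶ T to ring maps Γ(T,
O_T) ⟶ Γ(X, O_X), where Γ(X, O_X) is the ring of global sections of the structure sheaf on the small
etale site and f♯ is characterised by: for every scheme U etale over X, following f♯ by the
restriction Γ(X, O_X) ⟶ Γ(U, O_U) gives the map on global sections of the induced morphism U ⟶ T. -/
theorem result {S : Scheme.{u}} (hS : IsTerminal S) (X : AlgSp.Space S)
    (T : Over S) [IsAffine T.left] (φ : Γ(T.left, ⊤) →+* ↥(AlgSp.gsectEt (AlgSp.OEt X.obj))) :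
    ∃! f : X.obj ⟶ (AlgSp.yon S).obj T,
      ∀ (E : AlgSp.EtOver X.obj) (r : Γ(T.left, ⊤)),
        ((limit.π (AlgSp.OEt X.obj).obj (Opposite.op E)) (φ r)).down =
          ((AlgSp.yon S).preimage (E.obj.hom ≫ f)).left.appTop r := by
  obtain ⟨U, a, hae, has⟩ := X.property.atlas
  have := Groth.Agent.AlgSpace.isLocallySurjective_of_etale hae has
  have : Epi a := inferInstance
  have sq := hae.1.isPullback' a
  let ψ : ∀ E : AlgSp.EtOver X.obj, Γ(T.left, ⊤) →+* Γ(E.obj.left.left, ⊤) := fun E =>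
    ((ULift.ringEquiv (R := Γ(E.obj.left.left, ⊤))).toRingHom.comp
      (limit.π (AlgSp.OEt X.obj).obj (Opposite.op E)).hom).comp φ
  choose g₀ hg₀ using fun E : AlgSp.EtOver X.obj => exists_hom_appTop (CommRingCat.ofHom (ψ E))
  let g : ∀ E : AlgSp.EtOver X.obj, E.obj.left ⟶ T := fun E => Over.homMk (g₀ E) (hS.hom_ext _ _)
  have hg : ∀ (E : AlgSp.EtOver X.obj) (h : E.obj.left ⟶ T),
      (∀ r, h.left.appTop r = ψ E r) → h = g E := fun E h hh => by
    ext1
    refine ext_of_isAffine ?_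
    ext r
    rw [hh r]
    exact (congr($(hg₀ E) r)).symm
  have hgapp : ∀ E r, (g E).left.appTop r = ψ E r := fun E r => congr($(hg₀ E) r)
  have hnat : ∀ (E E' : AlgSp.EtOver X.obj) (k : E ⟶ E'), k.hom.left ≫ g E' = g E := fun E E' k => by
    refine hg E _ fun r => ?_
    show ((k.hom.left.left ≫ (g E').left).appTop) r = _
    rw [Scheme.Hom.comp_appTop, CommRingCat.comp_apply, hgapp]
    exact congrArg ULift.down
      (congr($(limit.w (AlgSp.OEt X.obj).obj k.op) (φ r)))
  let EU : AlgSp.EtOver X.obj := AlgSp.EtOver.mk a hae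
  let R := hae.1.pullback a
  let t := hae.1.fst' a
  let s := hae.1.snd a
  let ER : AlgSp.EtOver X.obj := AlgSp.EtOver.mk ((yon S).map s ≫ a)
    ((AlgSp.repWith_isMultiplicative (S := S) @Etale).comp_mem _ _
      (Groth.Agent.AlgSpace.repWith_of_isPullback sq hae) hae)
  let ks : ER ⟶ EU := AlgSp.EtOver.homMk s rfl
  let kt : ER ⟶ EU := AlgSp.EtOver.homMk t sq.w
  obtain ⟨hc⟩ := Groth.Agent.AlgSpace.nonempty_isColimit_cofork a sq
  let c : Cofork ((yon S).map t) ((yon S).map s) := Cofork.ofπ ((yon S).map (g EU)) (by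
    rw [← Functor.map_comp, ← Functor.map_comp]
    exact congrArg _ ((hnat _ _ kt).trans (hnat _ _ ks).symm))
  let f : X.obj ⟶ (yon S).obj T := hc.desc c
  have hf : a ≫ f = (yon S).map (g EU) := hc.fac c WalkingParallelPair.one
  have hE : ∀ E : AlgSp.EtOver X.obj, E.obj.hom ≫ f = (yon S).map (g E) := fun E => by
    have sqE := hae.1.isPullback' E.obj.hom
    let e := hae.1.snd E.obj.hom
    let e' := hae.1.fst' E.obj.hom
    have hee := Groth.Agent.AlgSpace.repWith_of_isPullback sqE hae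
    have hes := Groth.Agent.AlgSpace.repWith_of_isPullback sqE has
    have := Groth.Agent.AlgSpace.isLocallySurjective_of_etale hee hes
    let EP : AlgSp.EtOver X.obj := AlgSp.EtOver.mk ((yon S).map e ≫ E.obj.hom)
      ((AlgSp.repWith_isMultiplicative (S := S) @Etale).comp_mem _ _ hee E.property)
    let k₁ : EP ⟶ E := AlgSp.EtOver.homMk e rfl
    let k₂ : EP ⟶ EU := AlgSp.EtOver.homMk e' sqE.w
    have h1 : (yon S).map (k₁.hom.left) ≫ E.obj.hom ≫ f =
        (yon S).map k₁.hom.left ≫ (yon S).map (g E) := by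
      rw [← Functor.map_comp, hnat _ _ k₁, ← hnat _ _ k₂, Functor.map_comp, ← hf]
      show (yon S).map e ≫ E.obj.hom ≫ f = (yon S).map e' ≫ a ≫ f
      rw [reassoc_of% sqE.w]
    have : Epi ((yon S).map e) := inferInstance
    exact (cancel_epi ((yon S).map e)).1 h1
  refine ⟨f, fun E r => ?_, fun f' hf' => ?_⟩
  · rw [hE, (yon S).preimage_map, hgapp]
    rfl
  · rw [← cancel_epi a, hf]
    have h1 : (yon S).preimage (a ≫ f') = g EU := hg EU _ fun r => (hf' EU r).symm
    rw [← h1, (yon S).map_preimage]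

end Groth.Agent.S10246
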