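import Groth.Statements.S10257
import Groth.Agent.Lib.AlgSpEt.Support

set_option autoImplicit false
universe u
open CategoryTheory CategoryTheory.Limits AlgebraicGeometry Topology TopologicalSpace
open AlgSp

set_option backward.isDefEq.respectTransparency.types false

namespace Groth.Agent.S10257

/-- Let X be an algebraic space over a scheme S and O' a sheaf of commutative rings on the small etale
site of X. Then the support of O', the set of points x ∈ |X| such that the stalk O'_x̄ is not the
zero ring for some geometric point x̄ over x, is closed in |X|. (The published definition of the
support allows any, equivalently some, geometric point over x; this row uses the existential form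
and does not assert that the two readings agree.) -/
theorem result {S : Scheme.{u}} (X : AlgSp.Space S)
    (O' : AlgSp.EtSh X.obj CommRingCat.{u + 1}) :
    IsClosed {x : AlgSp.Points X.obj |
      ∃ p : AlgSp.FieldPt X.obj, p.IsGeometric ∧ AlgSp.Points.mk p = x ∧ Nontrivial ↥(AlgSp.stalkEt p O')} := by
  exact Groth.Agent.AlgSpEt.isClosed_support_ring X.property O'

end Groth.Agent.S10257
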