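import Groth.Statements.S10269
import Groth.Agent.Lib.AlgSpace.Proper

set_option autoImplicit false
universe u
open CategoryTheory CategoryTheory.Limits AlgebraicGeometry
open AlgSp

namespace Groth.Agent.S10269

/-- A finite morphism of algebraic spaces is integral; an integral morphism locally of finite type is
finite. -/
theorem result {S : Scheme.{u}} {X Y : AlgSp.Space S} (f : X ⟶ Y) :
    (AlgSp.IsFiniteMor f.hom → AlgSp.IsIntegralMor f.hom) ∧
    (AlgSp.IsIntegralMor f.hom → AlgSp.LocP @LocallyOfFiniteType f.hom → AlgSp.IsFiniteMor f.hom) := by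
  refine ⟨Groth.Agent.AlgSpace.isFiniteMor_le_isIntegralMor, fun hi hl => ?_⟩
  rw [Groth.Agent.AlgSpace.isIntegralMor_iff_repWith] at hi
  rw [Groth.Agent.AlgSpace.isFiniteMor_iff_repWith]
  have hl' := Groth.Agent.AlgSpace.repWith_of_locP Y.property hi.1 hl
  refine ⟨hi.1, fun T W g fst snd sq => ?_⟩
  have : IsIntegralHom snd.left := hi.2 g fst snd sq
  have : LocallyOfFiniteType snd.left := hl'.2 g fst snd sq
  exact (IsFinite.iff_isIntegralHom_and_locallyOfFiniteType _).2 ⟨‹_›, ‹_›⟩

end Groth.Agent.S10269
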