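import Groth.Statements.S1061
import Groth.Agent.Lib.RelPCS8.TorTensor
import Groth.Agent.Lib.RelPCS8.PerfAt
import Groth.Agent.Lib.DPerf.OneDegree

set_option autoImplicit false
universe u
open CategoryTheory CategoryTheory.Limits AlgebraicGeometry Opposite
attribute [local instance] HasDerivedCategory.standard
open Perf

namespace Groth.Agent.S1061

open Groth.Agent Groth.Agent.RelPCS8
set_option backward.isDefEq.respectTransparency false
set_option linter.style.haveILetI false

theorem subsingleton_stalk_HD {X S : Scheme.{u}} (f : X ⟶ S) (F : CochainComplex X.Modules ℤ) (i : ℤ) (x : X)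
    (h : ((DerSch.stalkCxOver f x).obj F).ExactAt i) :
    Subsingleton ((DCoh.HD (DCoh.toD X F) i).presheaf.stalk x) := by
  haveI := (StalkId.preservesFiniteLimits_stalkOver f x).1
  haveI := (StalkId.preservesFiniteLimits_stalkOver f x).2
  let e : (DerSch.stalkOver f x).obj (DCoh.HD (DCoh.toD X F) i) ≅ ((DerSch.stalkCxOver f x).obj F).homology i :=
    (DerSch.stalkOver f x).mapIso ((DerivedCategory.homologyFunctorFactors X.Modules i).app F) ≪≫
      (ShortComplex.mapHomologyIso (F.sc i) (DerSch.stalkOver f x)).symm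
  exact ModuleCat.subsingleton_of_isZero (((HomologicalComplex.exactAt_iff_isZero_homology _ i).1 h).of_iso e)

theorem exactAt_of_amplitude {A : Type u} [CommRing A] {P : DRing.Cx A} {a b : ℤ}
    (h : DRing.HasTorAmplitudeIn A a b (DRing.toD P)) {i : ℤ} (hi : i < a ∨ b < i) : P.ExactAt i := by
  obtain ⟨E, hv, -, ⟨e⟩⟩ := h
  refine (HomologicalComplex.exactAt_iff_isZero_homology P i).2 (IsZero.of_iso ?_
    ((((DerivedCategory.homologyFunctorFactors _ i).app P).symm ≪≫
      (DerivedCategory.homologyFunctor _ i).mapIso e.symm ≪≫ (DerivedCategory.homologyFunctorFactors _ i).app E)))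
  exact (HomologicalComplex.exactAt_iff_isZero_homology E i).1
    ((HomologicalComplex.exactAt_iff _ i).2 (ShortComplex.exact_of_isZero_X₂ _ (hv i hi)))


/-- In the case of a single module: let S be Noetherian, f : X ⟶ S locally of finite type, E a perfect
object of D(O_X) and G a coherent O_X-module which is flat over S and whose support is proper over
S. Assuming the derived functors - ⊗^L G and Rf_* exist, Rf_*(E ⊗^L_{O_X} G) is a perfect object of
D(O_S). (The source allows a bounded complex of such modules G.) -/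
theorem result {X S : Scheme.{u}} [IsNoetherian S] (f : X ⟶ S) [LocallyOfFiniteType f]
    (E : DCoh.D X) (hE : DCoh.IsPerfect E) (G : X.Modules) (hG : Coh.IsCoh G) (hflat : FlatMod.IsFlatOver f G)
    (hsupp : ClSub.IsProperOver f (CohB1.support G)) [DCoh.HasLTensorMod G] [DCoh.HasRpush f] :
    DCoh.IsPerfect ((DCoh.Rpush f).obj ((DCoh.LTensorMod G).obj E)) := by
  classical
  haveI : IsLocallyNoetherian X := LocallyOfFiniteType.isLocallyNoetherian f
  obtain ⟨K, hK, ⟨eK⟩⟩ := KFlat.Sch.exists_adapted_rep E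
  let L := ((DCoh.tensorRightMod G).mapHomologicalComplex (ComplexShape.up ℤ)).obj K
  let e : (DCoh.LTensorMod G).obj E ≅ DCoh.toD X L :=
    (DCoh.LTensorMod G).mapIso eK.symm ≪≫ KFlat.Sch.lTensorModObjIso G K hK
  have hKp : DCoh.IsPerfect (DCoh.toD X K) := DPerf.isPerfect_iff_approx.2 ((DPerf.isPerfect_iff_approx.1 hE).of_iso eK.symm)
  -- tor amplitude over the base
  have hloc : ∀ x : X, ∃ (U : X.Opens) (a b : ℤ), x ∈ U ∧ ∀ x' ∈ U,
      DerSch.HasTorAmplitudeAt f a b L x' := fun x => by
    obtain ⟨U, a, b, hx, -, hU⟩ := DPerf.exists_flatAmplitude_of_isPerfect hKp x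
    obtain ⟨E', hv, hf, ⟨e'⟩⟩ := hU
    have hA : DerSch.HasTorAmplitude (𝟙 (U : Scheme.{u})) a b ((DCoh.restrictCx U).obj K) :=
      StalkId.torAmp_stalks_of_flatAmplitude ⟨E', hv, hf, ⟨e' ≪≫ (DPerf.resFac U.ι).app K⟩⟩
    refine ⟨U, a, b, hx, fun x' hx' => TorTensor.stalk_amplitude f G hflat K hK x' ?_⟩
    have h1 : DerSch.HasTorAmplitudeAt (U.ι ≫ 𝟙 X) a b ((DCoh.restrictCx U).obj K) ⟨x', hx'⟩ := by
      have hc : ∀ g : (U : Scheme.{u}) ⟶ X, g = U.ι → DerSch.HasTorAmplitudeAt g a b ((DCoh.restrictCx U).obj K) ⟨x', hx'⟩ := by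
        rintro g rfl
        have h2 := (TorMV.torAmplitudeAt_comp_iff (𝟙 (U : Scheme.{u})) U.ι ⟨x', hx'⟩ (TorMV.bijective_stalkMap U.ι _) a b
          ((DCoh.restrictCx U).obj K)).2 (hA _)
        exact (Category.id_comp U.ι) ▸ h2
      exact hc _ (Category.comp_id _)
    exact (RestrictStalk.torAmplitudeAt_restrict_iff (𝟙 X) U ⟨x', hx'⟩ a b K).1 h1
  choose U a b hxU hU using hloc
  -- supports
  have hsub : ∀ (i : ℤ) (x : X), x ∉ CohB1.support G → ((DerSch.stalkCxOver f x).obj L).ExactAt i := fun i x hx => by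
    refine (HomologicalComplex.exactAt_iff _ i).2 (ShortComplex.exact_of_isZero_X₂ _ ?_)
    refine (ModuleCat.restrictScalars.{u} (f.stalkMap x).hom).map_isZero ?_
    haveI : Subsingleton ((KFlat.Sch.stF x).obj G) := not_not.1 hx
    exact IsZero.of_iso ((MonoidalCategory.tensorLeft _).map_isZero (ModuleCat.isZero_of_subsingleton _))
      ((TorTensor.stalkFunctorIso x).app _ ≪≫ (StalkId.stTensorRightIso x G).app (K.X i))
  have hTc : IsCompact (CohB1.support G) := by
    obtain ⟨W, j, _, hr, _⟩ := (ClSub24.isProperOver_iff_exists f _).1 hsupp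
    haveI : CompactSpace W := QuasiCompact.compactSpace_of_compactSpace (j ≫ f)
    rw [← hr]
    exact isCompact_range j.continuous
  obtain ⟨t, ht⟩ := hTc.elim_finite_subcover (fun x => (U x : Set X)) (fun x => (U x).2)
    fun x _ => Set.mem_iUnion.2 ⟨x, hxU x⟩
  obtain ⟨c, hc⟩ := (t.image a).bddBelow
  obtain ⟨d, hd⟩ := (t.image b).bddAbove
  have hz : ∀ i, (i < c ∨ d < i) → IsZero (DCoh.HD (DCoh.toD X L) i) := fun i hi => by
    refine DPerf.isZero_of_stalks fun x => subsingleton_stalk_HD f L i x ?_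
    by_cases hx : x ∈ CohB1.support G
    · obtain ⟨z, hzt, hxz⟩ := Set.mem_iUnion₂.1 (ht hx)
      refine exactAt_of_amplitude (hU z x hxz) ?_
      have h1 := hc (Finset.mem_image_of_mem a hzt)
      have h2 := hd (Finset.mem_image_of_mem b hzt)
      omega
    · exact hsub i x hx
  haveI : (DCoh.toD X L).IsGE c := (DerivedCategory.isGE_iff _ c).2 fun i hi => hz i (Or.inl hi)
  haveI : (DCoh.toD X L).IsLE d := (DerivedCategory.isLE_iff _ d).2 fun i hi => hz i (Or.inr hi)
  refine DPerf.isPerfect_iff_approx.2 (DPerf.Approx.of_iso ((DCoh.Rpush f).mapIso e.symm) (DPerf.isPerfect_iff_approx.1 ?_))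
  refine TorTensor.isPerfect_rpush_of_support f (DCoh.toD X L) (fun i => TorTensor.isCoh_HD_tensor G hG K hK hKp i)
    (CohB1.support G) hsupp (fun i x hx => not_not.1 fun h => hx (subsingleton_stalk_HD f L i x (hsub i x h)))
    (fun x => ⟨U x, a x, b x, hxU x, fun x' hx' =>
      StalkTor.hasTorAmplitudeIn_congr (((DerSch.stalkOver f x').mapDerivedCategoryFactors.app L).symm) (hU x x' hx')⟩) c d


end Groth.Agent.S1061
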