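import Groth.Statements.S1027
import Groth.Agent.Lib.TwistBC9.LocFree
import Groth.Agent.S1061

set_option autoImplicit false
set_option linter.style.haveILetI false
set_option backward.isDefEq.respectTransparency false
set_option linter.style.haveILetI false
set_option backward.isDefEq.respectTransparency false
universe u
open CategoryTheory CategoryTheory.Limits AlgebraicGeometry
open Perf

namespace Groth.Agent.S1027

/-- Let f : X ⟶ S be of finite presentation (locally of finite presentation, quasi-compact and
quasi-separated) and F a finitely presented O_X-module which is S-flat and whose support is proper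
over S. If the higher direct images Rⁱf_*F vanish for all i > 0 (computed with injective resolutions
of O_X-modules, whose existence is assumed as an instance), then f_*F is a finite locally free
O_S-module. (The source adds that its formation commutes with base change.) -/
theorem result {X S : Scheme.{u}} (f : X ⟶ S) [LocallyOfFinitePresentation f]
    [QuasiCompact f] [QuasiSeparated f] [HasInjectiveResolutions X.Modules]
    (F : X.Modules) (hF : CohB1.IsFP F) (hflat : FlatMod.IsFlatOver f F) (hsupp : ClSub.IsProperOver f (CohB1.support F))
    (hvan : ∀ i : ℕ, 0 < i → IsZero ((Coh.Rpush f i).obj F)) :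
    FlatMod.IsFinLocFree ((Coh.push f).obj F) := by
  refine TwistBC9.isFinLocFree_push ?_ f F hF hflat hsupp hvan
  intro R _ X' f' _ _ E' hE' G' hG' hflat' hsupp'
  haveI : DCoh.HasRpush f' := DBC9.hasRpush f'
  haveI := KFlat.Sch.hasLTensorMod G'
  obtain ⟨a⟩ := TwistBC9.nonempty_ltensorMod_iso G' E'
  exact DGen9.isPerfect_of_iso ((DCoh.Rpush f').mapIso a) (S1061.result f' E' hE' G' hG' hflat' hsupp')

end Groth.Agent.S1027
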