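import Groth.Statements.S10274
import Groth.Agent.Lib.AlgSpace.Proper

set_option autoImplicit false
universe u
open CategoryTheory CategoryTheory.Limits AlgebraicGeometry
open AlgSp

namespace Groth.Agent.S10274

/-- (4) ⇒ (1): properness of a morphism of algebraic spaces descends along a surjective etale base
change from a scheme. -/
theorem result {S : Scheme.{u}} {X Y : AlgSp.Space S} (f : X ⟶ Y) (V : Over S)
    (p : (AlgSp.yon S).obj V ⟶ Y.obj) (hp : AlgSp.RepWith @Etale p) (hps : AlgSp.RepWith @Surjective p)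
    {P : AlgSp.Sp S} (fst : P ⟶ X.obj) (snd : P ⟶ (AlgSp.yon S).obj V) (sq : IsPullback fst snd f.hom p)
    (h : AlgSp.IsProperMor snd) : AlgSp.IsProperMor f.hom := by
  have := Groth.Agent.AlgSpace.isLocalAtTarget_fppf_isClosedImmersion.{u}
  refine ⟨Groth.Agent.AlgSpace.repWith_diagonal_of_etale_cover X.property hp hps sq h.1,
    ⟨Groth.Agent.AlgSpace.locP_of_target_cover X.property Y.property hp hps sq h.2.1.1, ?_⟩,
    Groth.Agent.AlgSpace.univSp_of_etale_cover Groth.Agent.AlgSpace.ptsLocal_isClosedMor Y.property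
      hp hps sq h.2.2⟩
  exact Groth.Agent.AlgSpace.isQuasiCompactMor_of_univOpen_cover X.property Y.property
    (AlgSp.IsAlgSpace.yon_obj V) sq
    ((Groth.Agent.AlgSpace.repWith_universallyOpen_iff hp.1).1
      (Groth.Agent.AlgSpace.repWith_mono (Q := @UniversallyOpen) (fun _ _ k (_ : Etale k) => inferInstance) hp))
    (Groth.Agent.AlgSpace.surjective_map_of_repWith hps) h.2.1.2

end Groth.Agent.S10274
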