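import Groth.Statements.S10279
import Groth.Agent.Lib.AlgSpace.Proper

set_option autoImplicit false
universe u
open CategoryTheory CategoryTheory.Limits AlgebraicGeometry
open AlgSp

namespace Groth.Agent.S10279

/-- The target of a surjective morphism over B from a space universally closed over B is universally
closed over B (hence proper over B as soon as it is also separated and of finite type over B, by
definition). -/
theorem result {S : Scheme.{u}} {X Y B : AlgSp.Space S} (f : X ⟶ Y) (p : X ⟶ B)
    (q : Y ⟶ B) (comm : f ≫ q = p) (hp : AlgSp.IsUnivClosedMor p.hom) (hf : AlgSp.IsSurjectiveMor f.hom) :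
    AlgSp.IsUnivClosedMor q.hom := by
  subst comm
  exact Groth.Agent.AlgSpace.isUnivClosedMor_of_surjective_source hf hp

end Groth.Agent.S10279
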