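import Groth.Statements.S1028
import Groth.Agent.Lib.K0Perf9.Basic

set_option autoImplicit false
set_option linter.style.haveILetI false
set_option backward.isDefEq.respectTransparency false
universe u
open CategoryTheory CategoryTheory.Limits AlgebraicGeometry
attribute [local instance] HasDerivedCategory.standard
open KZero

namespace Groth.Agent.S1028

/-- Let the scheme X be quasi-compact, quasi-separated and have the resolution property. There is an
isomorphism between K₀(Vect(X)) (free abelian group on finite locally free O_X-modules modulo short
exact sequences of such) and K₀(X) = K₀(D_perf(O_X)) (free abelian group on perfect objects of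
D(O_X) modulo distinguished triangles of perfect objects) sending the class of a finite locally free
module E to the class of E placed in degree 0. -/
theorem result (X : Scheme.{u}) [CompactSpace ↥X] [QuasiSeparatedSpace ↥X] (hX : PerfAux.HasResolutionProperty X) :
    ∃ φ : KZero.K0sub (fun M : X.Modules => FlatMod.IsFinLocFree M) ≃+ KZero.K0tr (fun K : DCoh.D X => DCoh.IsPerfect K),
      ∀ E : X.Modules, FlatMod.IsFinLocFree E →
        φ (KZero.clSub (fun M : X.Modules => FlatMod.IsFinLocFree M) E) = KZero.clTr (fun K : DCoh.D X => DCoh.IsPerfect K) (DCoh.inD X E) := by
  refine ⟨Groth.Agent.K0Perf9.equiv X hX, fun E hE => ?_⟩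
  exact Groth.Agent.K0Perf9.toTr_clSub hE

end Groth.Agent.S1028
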