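import Groth.Statements.S10280
import Groth.Agent.Lib.AlgSpace.Proper
import Mathlib.AlgebraicGeometry.ZariskisMainTheorem

set_option autoImplicit false
universe u
open CategoryTheory CategoryTheory.Limits AlgebraicGeometry
open AlgSp

namespace Groth.Agent.S10280

/-- F is separated if and only if its diagonal is universally closed, if and only if its diagonal is
proper. -/
theorem result {S : Scheme.{u}} {X Y : AlgSp.Space S} (f : X ⟶ Y) :
    (AlgSp.IsSeparatedMor f.hom ↔ AlgSp.IsUnivClosedMor (pullback.diagonal f.hom)) ∧
    (AlgSp.IsSeparatedMor f.hom ↔ AlgSp.IsProperMor (pullback.diagonal f.hom)) := by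
  have hP : AlgSp.IsAlgSpace (pullback f.hom f.hom) :=
    Groth.Agent.AlgSpace.isAlgSpace_baseChange X.property Y.property X.property
      (IsPullback.of_hasPullback _ _)
  have hr := Groth.Agent.AlgSpace.representable_diagonal X.property f.hom
  have h₁ : AlgSp.IsUnivClosedMor (pullback.diagonal f.hom) → AlgSp.IsSeparatedMor f.hom := fun h => by
    have hc := (Groth.Agent.AlgSpace.repWith_universallyClosed_iff hr).2 h
    have hm := Groth.Agent.AlgSpace.repWith_diagonal_mono X.property f.hom
    have hl := Groth.Agent.AlgSpace.repWith_diagonal_lft X.property f.hom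
    refine ⟨hr, fun T W g fst snd sq => ?_⟩
    have : UniversallyClosed snd.left := hc.2 g fst snd sq
    have : Mono snd.left := hm.2 g fst snd sq
    have : LocallyOfFiniteType snd.left := hl.2 g fst snd sq
    have : IsProper snd.left := (isProper_iff snd.left).2 ⟨inferInstance, ‹_›, ‹_›⟩
    exact (IsClosedImmersion.iff_isProper_and_mono _).2 ⟨‹_›, ‹_›⟩
  refine ⟨⟨Groth.Agent.AlgSpace.isUnivClosedMor_of_repWith_closedImmersion, h₁⟩,
    ⟨fun h => (Groth.Agent.AlgSpace.repWith_isProper_iff X.property hP hr).1
      (Groth.Agent.AlgSpace.repWith_mono (fun _ _ k (hk : IsClosedImmersion k) => ?_) h),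
    fun h => h₁ h.2.2⟩⟩
  infer_instance

end Groth.Agent.S10280
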