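import Groth.Statements.S10281
import Groth.Agent.Lib.SchImage14.Valuation
import Groth.Agent.Lib.AlgSpace.Proper
import Groth.Agent.Lib.AlgSpace.SepDescend

set_option autoImplicit false
universe u
open CategoryTheory CategoryTheory.Limits AlgebraicGeometry
open AlgSp

set_option backward.isDefEq.respectTransparency.types false

namespace Groth.Agent.S10281

/-- The scheme theoretic image of a space proper over B in a space separated and locally of finite type
over B is proper over B, and the source surjects onto it. -/
theorem result {S : Scheme.{u}} {X Y Z B : AlgSp.Space S} (h : X ⟶ Y) (f : X ⟶ B)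
    (g : Y ⟶ B) (comm : h ≫ g = f) (hf : AlgSp.IsProperMor f.hom) (hg : AlgSp.IsSeparatedMor g.hom)
    (hg' : AlgSp.LocP @LocallyOfFiniteType g.hom) (i : Z ⟶ Y) (hZ : AlgSp.IsSchImage h.hom i.hom)
    (h' : X ⟶ Z) (fac : h' ≫ i = h) :
    AlgSp.IsProperMor (i ≫ g).hom ∧ AlgSp.IsSurjectiveMor h'.hom := by
  open Groth.Agent.AlgSpace in
  exact (by
    have := Groth.Agent.AlgSpDescent.mono_of_repWith_closedImmersion hZ.1
    have hi : AlgSp.IsSeparatedMor i.hom :=
      repWith_mono (Q := @IsClosedImmersion) (fun _ _ g (hg : IsIso g) => inferInstance)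
        (Groth.Agent.AlgSpDescent.repWith_isomorphisms_of_isIso (pullback.diagonal i.hom))
    have hcomp : h.hom ≫ g.hom = f.hom := congrArg (fun q => q.hom) comm
    have hfac : h'.hom ≫ i.hom = h.hom := congrArg (fun q => q.hom) fac
    have hh : AlgSp.IsProperMor h.hom := isProperMor_of_comp X.property Y.property B.property (hcomp ▸ hf) hg
    have hh' : AlgSp.IsProperMor h'.hom := isProperMor_of_comp X.property Z.property Y.property (hfac ▸ hh) hi
    have hd := Groth.Agent.SchImage14.denseRange_factor X.property Y.property hh.2.1.2 hZ h'.hom hfac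
    have hs : AlgSp.IsSurjectiveMor h'.hom := fun z => by
      have hc : IsClosedMap (AlgSp.Points.map h'.hom) := isClosedMap_of_isUnivClosedMor Z.property hh'.2.2
      have := hc.isClosed_range.closure_eq
      rw [hd.closure_range] at this
      exact this.le (Set.mem_univ z)
    have e : h'.hom ≫ (i ≫ g).hom = f.hom := by
      rw [← hcomp, ← hfac, Category.assoc]; rfl
    refine ⟨⟨repWith_diagonal_comp hi hg, ⟨?_, ?_⟩, ?_⟩, hs⟩
    · exact locP_comp Z.property Y.property B.property
        (Groth.Agent.AlgSpDescent.lft_of_repWith_closedImmersion Y.property hZ.1) hg'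
    · exact isQuasiCompactMor_of_surjective_source X.property Z.property B.property hs (e ▸ hf.2.1.2)
    · exact isUnivClosedMor_of_surjective_source hs (e ▸ hf.2.2))

end Groth.Agent.S10281
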