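import Groth.Statements.S1029
import Groth.Agent.Lib.K0Proj9.Transfer
import Groth.Agent.S0997
import Groth.Agent.S1105
import Groth.Agent.Lib.DGen9.Basics
import Groth.Agent.Lib.ModM1.Affine

set_option autoImplicit false
set_option linter.style.haveILetI false
set_option backward.isDefEq.respectTransparency false
universe u
open CategoryTheory CategoryTheory.Limits AlgebraicGeometry
attribute [local instance] HasDerivedCategory.standard
open KZero

namespace Groth.Agent.S1029

/-- Let A be a ring and X = Spec A. There is an isomorphism from K₀(A) (free abelian group on finite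
projective A-modules modulo short exact sequences of such) to K₀(X) = K₀(D_perf(O_X)) (free abelian
group on perfect objects of D(O_X) modulo distinguished triangles among them) sending the class of M
to the class of M~ placed in degree 0. -/
theorem result (A : Type u) [CommRing A] :
    ∃ φ : KZero.K0sub (fun M : ModuleCat.{u} A => Module.Finite A M ∧ Module.Projective A M) ≃+
        KZero.K0tr (fun K : DCoh.D (Spec (CommRingCat.of A)) => DCoh.IsPerfect K),
      ∀ (M : ModuleCat.{u} A), Module.Finite A M → Module.Projective A M →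
        φ (KZero.clSub (fun M : ModuleCat.{u} A => Module.Finite A M ∧ Module.Projective A M) M) =
          KZero.clTr (fun K : DCoh.D (Spec (CommRingCat.of A)) => DCoh.IsPerfect K) (DCoh.inD (Spec (CommRingCat.of A)) (tilde M)) := by
  haveI : PreservesFiniteLimits (tilde.functor (CommRingCat.of A)) := M1.tilde_preservesFiniteLimits (R := (CommRingCat.of A))
  haveI : PreservesFiniteColimits (tilde.functor (CommRingCat.of A)) :=
    haveI : PreservesColimitsOfSize.{0, 0} (tilde.functor (CommRingCat.of A)) :=
      (tilde.adjunction (R := (CommRingCat.of A))).leftAdjoint_preservesColimits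
    PreservesColimitsOfSize.preservesFiniteColimits _
  haveI : (tilde.functor (CommRingCat.of A)).Additive :=
    haveI := preservesBinaryBiproducts_of_preservesBinaryCoproducts (tilde.functor (CommRingCat.of A))
    Functor.additive_of_preservesBinaryBiproducts _
  obtain ⟨hfull, hfaith, hQC⟩ := S0997.result (CommRingCat.of A)
  haveI := hfull
  haveI := hfaith
  obtain ⟨φ, hφ⟩ := K0Proj9.nonempty_transfer (DCoh.tildeD (CommRingCat.of A)) (fun K => DRing.IsPerfect A K)
    (fun K : DCoh.D (Spec (CommRingCat.of A)) => DCoh.IsPerfect K) (fun X => S1105.result A X)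
    (fun Y hY => (hQC Y).1 (DGen9.isQCohD_of_isPerfect hY))
    (fun Y Y' e h => DGen9.isPerfect_of_iso e h)
    (fun Z hZ => K0Proj9.pf_isZero hZ)
    (fun Z hZ => DGen9.isPerfect_of_iso ((((DCoh.tildeD (CommRingCat.of A)).map_isZero (isZero_zero _)).iso hZ))
      ((S1105.result A _).2 (K0Proj9.pf_isZero (isZero_zero _))))
  refine ⟨(K0Proj9.equiv A).trans φ, fun M h h' => ?_⟩
  let e : (DCoh.tildeD (CommRingCat.of A)).obj (K0Proj9.sD 0 M) ≅ DCoh.inD (Spec (CommRingCat.of A)) (tilde M) :=
    (DCoh.tildeD (CommRingCat.of A)).mapIso ((DerivedCategory.singleFunctorIsoCompQ _ 0).app M) ≪≫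
      (tilde.functor (CommRingCat.of A)).mapDerivedCategoryFactors.app _ ≪≫
      DerivedCategory.Q.mapIso ((HomologicalComplex.singleMapHomologicalComplex (tilde.functor (CommRingCat.of A)) (ComplexShape.up ℤ) 0).app M) ≪≫
      ((DerivedCategory.singleFunctorIsoCompQ _ 0).app _).symm
  rw [AddEquiv.trans_apply]
  refine (congrArg φ (K0Proj9.toTr_clSub ⟨h, h'⟩)).trans ((hφ _ (K0Proj9.pf_sD 0 ⟨h, h'⟩)).trans ?_)
  exact K0Cat.clTr_iso e ((DCoh.tildeD (CommRingCat.of A)).map_isZero (isZero_zero _))
    ((S1105.result A _).2 (K0Proj9.pf_sD 0 ⟨h, h'⟩))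
    (DGen9.isPerfect_of_iso e ((S1105.result A _).2 (K0Proj9.pf_sD 0 ⟨h, h'⟩)))
    ((S1105.result A _).2 (K0Proj9.pf_isZero (isZero_zero _)))

end Groth.Agent.S1029
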