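import Groth.Statements.S10293
import Groth.Agent.Lib.AlgSpace.Affine
import Groth.Agent.Lib.AlgSpDescent.Instances

set_option autoImplicit false
universe u
open CategoryTheory CategoryTheory.Limits AlgebraicGeometry
open AlgSp

set_option backward.isDefEq.respectTransparency.types false

namespace Groth.Agent.S10293

/-- (3) ⇒ (1): being finite locally free descends along a surjective etale base change from a scheme. -/
theorem result {S : Scheme.{u}} {X Y : AlgSp.Space S} (f : X ⟶ Y) (V : Over S)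
    (p : (AlgSp.yon S).obj V ⟶ Y.obj) (hp : AlgSp.RepWith @Etale p) (hps : AlgSp.RepWith @Surjective p)
    {P : AlgSp.Sp S} (fst : P ⟶ X.obj) (snd : P ⟶ (AlgSp.yon S).obj V) (sq : IsPullback fst snd f.hom p)
    (h : AlgSp.IsFinLocFreeMor snd) : AlgSp.IsFinLocFreeMor f.hom := by
  let Q : MorphismProperty Scheme.{u} := (@IsFinite ⊓ @Flat) ⊓ @LocallyOfFinitePresentation
  have : Q.IsStableUnderBaseChange := MorphismProperty.IsStableUnderBaseChange.inf
  have := FpqcDesc.descendsAlong_isFinite.{u}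
  have := FpqcDesc.descendsAlong_inf (@IsFinite) (@Flat)
    (@Surjective ⊓ @Flat ⊓ @QuasiCompact : MorphismProperty Scheme.{u})
  have : Q.DescendsAlong (@Surjective ⊓ @Flat ⊓ @QuasiCompact) :=
    FpqcDesc.descendsAlong_inf _ _ _
  have : IsZariskiLocalAtTarget Q := by infer_instance
  refine AlgSpace.repWith_mono (fun A B g hg => ⟨hg.1.1, hg.1.2, hg.2⟩)
    (AlgSpace.repWith_of_affine_family (P := Q) fun Z hZ g => ?_)
  obtain ⟨A, i, a, sqA, -, hi⟩ := AlgSpace.exists_affine_square_of_etale_cover (P := Q) f.hom p hp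
    hps sq (fun Z' hZ' g' => by
      obtain ⟨h1, h2, h3⟩ := h.2 g' _ _ (h.1.isPullback g')
      have : IsFinite (h.1.snd g').left := h1
      exact ⟨_, _, _, h.1.isPullback g', isAffine_of_isAffineHom (h.1.snd g').left, ⟨⟨h1, h2⟩, h3⟩⟩)
      hZ g
  exact ⟨A, i, a, sqA, hi⟩

end Groth.Agent.S10293
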