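import Groth.Statements.S10294
import Groth.Agent.Lib.AlgSpace.Affine
import Groth.Agent.Lib.AlgSpace.LocP
import Groth.Agent.Lib.AlgSpDecent.LocNoeth

set_option autoImplicit false
universe u
open CategoryTheory CategoryTheory.Limits AlgebraicGeometry
open AlgSp

set_option backward.isDefEq.respectTransparency.types false

namespace Groth.Agent.S10294

/-- Finite locally free is the same as finite, flat and locally of finite presentation; over a locally
Noetherian target it is the same as finite and flat. -/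
theorem result {S : Scheme.{u}} {X Y : AlgSp.Space S} (f : X ⟶ Y) :
    (AlgSp.IsFinLocFreeMor f.hom ↔
      (AlgSp.IsFiniteMor f.hom ∧ AlgSp.LocP @Flat f.hom ∧ AlgSp.LocP @LocallyOfFinitePresentation f.hom)) ∧
    (AlgSp.IsLocNoethSp Y.obj →
      (AlgSp.IsFinLocFreeMor f.hom ↔ (AlgSp.IsFiniteMor f.hom ∧ AlgSp.LocP @Flat f.hom))) := by
  have hfwd : AlgSp.IsFinLocFreeMor f.hom → (AlgSp.IsFiniteMor f.hom ∧ AlgSp.LocP @Flat f.hom ∧
      AlgSp.LocP @LocallyOfFinitePresentation f.hom) := fun h =>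
    ⟨Groth.Agent.AlgSpace.isFiniteMor_iff_repWith.2
      (Groth.Agent.AlgSpace.repWith_mono (fun _ _ _ hg => hg.1) h),
      Groth.Agent.AlgSpace.locP_of_repWith Y.property
        (Groth.Agent.AlgSpace.repWith_mono (fun _ _ _ hg => hg.2.1) h),
      Groth.Agent.AlgSpace.locP_of_repWith Y.property
        (Groth.Agent.AlgSpace.repWith_mono (fun _ _ _ hg => hg.2.2) h)⟩
  have hback : AlgSp.IsFiniteMor f.hom ∧ AlgSp.LocP @Flat f.hom ∧
      AlgSp.LocP @LocallyOfFinitePresentation f.hom → AlgSp.IsFinLocFreeMor f.hom := fun h => by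
    have hf := Groth.Agent.AlgSpace.isFiniteMor_iff_repWith.1 h.1
    exact ⟨hf.1, fun U V g fst snd sq => ⟨hf.2 g fst snd sq,
      (Groth.Agent.AlgSpace.repWith_of_locP Y.property hf.1 h.2.1).2 g fst snd sq,
      (Groth.Agent.AlgSpace.repWith_of_locP Y.property hf.1 h.2.2).2 g fst snd sq⟩⟩
  refine ⟨⟨hfwd, hback⟩, fun hN => ⟨fun h => ⟨(hfwd h).1, (hfwd h).2.1⟩, fun h =>
    hback ⟨h.1, h.2, ?_⟩⟩⟩
  have hf := Groth.Agent.AlgSpace.isFiniteMor_iff_repWith.1 h.1
  obtain ⟨V, b, hbe, hbs, hV⟩ := hN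
  have sq := hf.1.isPullback b
  have : IsFinite (hf.1.snd b).left := hf.2 b _ _ sq
  refine Groth.Agent.AlgSpace.locP_of_one_chart (hf.1.fst b) b (hf.1.snd b)
    (Groth.Agent.AlgSpace.repWith_of_isPullback sq.flip hbe)
    (Groth.Agent.AlgSpace.repWith_of_isPullback sq.flip hbs) hbe sq.w ?_
  rw [HasRingHomProperty.iff_appLE (P := @LocallyOfFinitePresentation)]
  intro O O' e
  have : IsNoetherianRing Γ(V.left, O.1) := IsLocallyNoetherian.component_noetherian O
  have hft : ((hf.1.snd b).left.appLE O.1 O'.1 e).hom.FiniteType :=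
    HasRingHomProperty.appLE (P := @LocallyOfFiniteType) _ inferInstance O O' e
  exact RingHom.FinitePresentation.of_finiteType.1 hft

end Groth.Agent.S10294
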