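import Groth.Statements.S10296
import Groth.Agent.Lib.AlgSpace.MorDiag
import Groth.Agent.Lib.AlgSpace.Affine
import Groth.Agent.Lib.AlgSpace.Proper

set_option autoImplicit false
universe u
open CategoryTheory CategoryTheory.Limits AlgebraicGeometry
open AlgSp

set_option backward.isDefEq.respectTransparency.types false

namespace Groth.Agent.S10296

open Groth.Agent.AlgSpace

variable {S : Scheme.{u}}

theorem main {Y X X' Z : Space S} (f : Y.obj ⟶ X.obj) {ν : X'.obj ⟶ X.obj} {f' : Y.obj ⟶ X'.obj}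
    (hn : IsRelNormalization f ν f') (π : Z.obj ⟶ X.obj) (hπ : IsIntegralMor π)
    (g : Y.obj ⟶ Z.obj) (hg : g ≫ π = f) (h : X'.obj ⟶ Z.obj) (h1 : f' ≫ h = g) (h2 : h ≫ π = ν) :
    IsRelNormalization g h f' := by
  have hr := isIntegralMor_iff_repWith.1 hπ
  have hsep : IsSeparatedMor π := (isSeparatedMor_iff_of_representable Z.property X.property hr.1).2
    (repWith_mono (Q := @IsSeparated) (fun _ _ g (hg : IsIntegralHom g) => inferInstance) hr)
  have hh : IsIntegralMor h := by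
    subst h2
    let L : X'.obj ⟶ pullback (h ≫ π) π := pullback.lift (𝟙 _) h (by simp)
    have sqL := isPullback_graph h π (L := L) (pullback.lift_fst _ _ _) (pullback.lift_snd _ _ _)
      (M := pullback.map (h ≫ π) π π π h (𝟙 _) (𝟙 _) (by simp) (by simp))
      (pullback.lift_fst _ _ _) (by rw [pullback.lift_snd, Category.comp_id])
    have hL : RepWith @IsClosedImmersion L := repWith_of_isPullback sqL hsep
    have hsnd : RepWith @IsIntegralHom (pullback.snd (h ≫ π) π) :=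
      repWith_of_isPullback (IsPullback.of_hasPullback (h ≫ π) π) (isIntegralMor_iff_repWith.1 hn.2.1)
    refine isIntegralMor_iff_repWith.2 ?_
    rw [← pullback.lift_snd (𝟙 _) h (show 𝟙 _ ≫ h ≫ π = h ≫ π by simp)]
    exact repWith_comp (repWith_mono (Q := @IsIntegralHom) (fun _ _ g (hg : IsClosedImmersion g) => inferInstance) hL) hsnd
  refine ⟨h1, hh, fun W hW σ e hσ he => ?_⟩
  have hc : IsIntegralMor (σ ≫ π) :=
    isIntegralMor_iff_repWith.2 (repWith_comp (isIntegralMor_iff_repWith.1 hσ) hr)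
  obtain ⟨k, ⟨hk₁, hk₂⟩, hu⟩ := hn.2.2 hW (σ ≫ π) e hc (by rw [← Category.assoc, he, hg])
  obtain ⟨k₀, -, hu₀⟩ := hn.2.2 Z.property π g hπ hg
  have hkσ : k ≫ σ = h := by
    rw [hu₀ h ⟨h1, h2⟩]
    exact hu₀ _ ⟨by rw [← Category.assoc, hk₁, he], by rw [Category.assoc, hk₂]⟩
  exact ⟨k, ⟨hk₁, hkσ⟩, fun k' ⟨h₁', h₂'⟩ => hu k' ⟨h₁', by rw [← Category.assoc, h₂', h2]⟩⟩

/-- The induced morphism from the normalization of X in Y to any integral Z -> X through which Y -> X
factors is the normalization of Z in Y. -/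
theorem result {S : Scheme.{u}} {Y X X' Z : AlgSp.Space S} (f : Y ⟶ X)
    (hqc : AlgSp.IsQuasiCompactMor f.hom) (hqs : AlgSp.IsQuasiSeparatedMor f.hom) (ν : X' ⟶ X) (f' : Y ⟶ X')
    (hn : AlgSp.IsRelNormalization f.hom ν.hom f'.hom) (π : Z ⟶ X) (hπ : AlgSp.IsIntegralMor π.hom) (g : Y ⟶ Z)
    (hg : g ≫ π = f) (h : X' ⟶ Z) (h1 : f' ≫ h = g) (h2 : h ≫ π = ν) :
    AlgSp.IsRelNormalization g.hom h.hom f'.hom := by
  exact Groth.Agent.S10296.main f.hom hn π.hom hπ g.hom (congrArg (fun q => q.hom) hg) h.hom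
    (congrArg (fun q => q.hom) h1) (congrArg (fun q => q.hom) h2)

end Groth.Agent.S10296
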