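import Groth.Statements.S10299
import Groth.Agent.Lib.NormEt14.Chart
import Groth.Agent.Lib.AlgSpDescent.RedNoeth
import Groth.Agent.Lib.NormFin18.Apps
import Groth.Agent.Lib.CAlgLow.NagataFinite
import Groth.Agent.Lib.AlgSpace.Affine

set_option autoImplicit false
universe u
open CategoryTheory CategoryTheory.Limits AlgebraicGeometry
open AlgSp

namespace Groth.Agent.S10299

open Groth.Agent.NormEt14 Groth.Agent.AlgSpDescent Groth.Agent.AlgSpace Groth.Agent.EtSmLoc15

theorem finite_of_closure {A N W : Scheme.{u}} [IsAffine A] [IsAffine N] [IsAffine W] [IsReduced A]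
    (c : A ⟶ W) [LocallyOfFiniteType c] (hW : ∀ V : W.Opens, IsAffineOpen V → CAlg.IsNagata Γ(W, V))
    (l : A ⟶ N) (n : N ⟶ W) [IsIntegralHom n] (hln : l ≫ n = c) (hl : Function.Injective l.appTop) :
    IsFinite n := by
  have hfin := Groth.Agent.NormFin18.isFinite_of_nagata_of_finiteType c fun V => hW V.1 V.2
  have h := hfin.finite_app (⊤ : W.Opens) (isAffineOpen_top W)
  rw [c.fromNormalization_app (isAffineOpen_top W), CommRingCat.hom_comp] at h
  let := (c.app ⊤).hom.toAlgebra
  have : IsNoetherianRing Γ(W, ⊤) := (hW ⊤ (isAffineOpen_top W)).1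
  have e := (RingHom.finite_respectsIso.cancel_right_isIso
    (CommRingCat.ofHom (algebraMap Γ(W, ⊤) (integralClosure Γ(W, ⊤) Γ(A, c ⁻¹ᵁ ⊤))))
    (c.normalizationObjIso (isAffineOpen_top W)).inv).1 h
  have : Module.Finite Γ(W, ⊤) (integralClosure Γ(W, ⊤) Γ(A, c ⁻¹ᵁ ⊤)) :=
    RingHom.finite_algebraMap.1 e
  let := n.appTop.hom.toAlgebra
  have hlc : ∀ r, l.appTop (n.appTop r) = c.appTop r := fun r => by
    rw [← hln, Scheme.Hom.comp_appTop]; rfl
  let la : Γ(N, ⊤) →ₐ[Γ(W, ⊤)] Γ(A, c ⁻¹ᵁ ⊤) := { l.appTop.hom with commutes' := hlc }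
  have hint : n.appTop.hom.IsIntegral :=
    ((HasAffineProperty.iff_of_isAffine (P := @IsIntegralHom) (f := n)).1 ‹_›).2
  let g : Γ(N, ⊤) →ₗ[Γ(W, ⊤)] integralClosure Γ(W, ⊤) Γ(A, c ⁻¹ᵁ ⊤) :=
    (la.codRestrict _ fun x => (show IsIntegral Γ(W, ⊤) x from hint x).map la).toLinearMap
  have : Module.Finite Γ(W, ⊤) Γ(N, ⊤) :=
    Module.Finite.of_injective g fun a b hab => hl (congrArg Subtype.val hab :)
  exact (HasAffineProperty.iff_of_isAffine (P := @IsFinite)).2
    ⟨inferInstance, RingHom.finite_algebraMap.2 this⟩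


/-- Over a Nagata algebraic space, the normalization of the target in a reduced source of finite type
and quasi-separated over it is finite. -/
theorem result {S : Scheme.{u}} {X Y Y' : AlgSp.Space S} (f : X ⟶ Y)
    (hY : AlgSp.EtaleLocally (fun U => ∀ V : U.Opens, IsAffineOpen V → CAlg.IsNagata ↑Γ(U, V)) Y.obj)
    (hqs : AlgSp.IsQuasiSeparatedMor f.hom) (hft : AlgSp.IsFiniteTypeMor f.hom)
    (hX : AlgSp.EtaleLocally (fun U => IsReduced U) X.obj) (ν : Y' ⟶ Y) (f' : X ⟶ Y')
    (hn : AlgSp.IsRelNormalization f.hom ν.hom f'.hom) : AlgSp.IsFiniteMor ν.hom := by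
  obtain ⟨U, y, hye, hys, hU⟩ := hY
  have hν := isIntegralMor_iff_repWith.1 hn.2.1
  have sqN := hν.1.isPullback y
  refine isFiniteMor_of_etale_cover ν.hom y hye hys sqN
    (isFiniteMor_iff_repWith.2 ((repWith_yon_map_iff _ _).2 ?_))
  refine IsZariskiLocalAtTarget.of_iSup_eq_top (fun O : U.left.affineOpens => O.1)
    (iSup_affineOpens_eq_top _) fun O => ?_
  let W : Over S := Over.mk (O.1.ι ≫ U.hom)
  let iO : W ⟶ U := Over.homMk O.1.ι rfl
  have sqO := IsPullback.of_hasPullback (hν.1.snd y) iO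
  suffices hfin : IsFinite (pullback.snd (hν.1.snd y) iO).left by
    have sq₁ := (isPullback_morphismRestrict (hν.1.snd y).left O.1).flip
    have sq₂ := sqO.map (Over.forget S)
    exact (MorphismProperty.arrow_mk_iso_iff @IsFinite (Arrow.isoMk
      (f := Arrow.mk ((hν.1.snd y).left ∣_ O.1)) (g := Arrow.mk (pullback.snd (hν.1.snd y) iO).left)
      (sq₁.isoIsPullback _ _ sq₂) (Iso.refl _)
      ((sq₁.isoIsPullback_hom_snd _ _ sq₂).trans (Category.comp_id _).symm))).2 hfin
  have sqW := (sqO.map (yon S)).paste_horiz sqN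
  let w := (yon S).map iO ≫ y
  have hwe : RepWith @Etale w := repWith_comp ((repWith_yon_map_iff _ _).2
    (inferInstanceAs (Etale O.1.ι))) hye
  have sqP := IsPullback.of_hasPullback f.hom w
  have hP := isAlgSpace_pullback Y.property X.property (IsAlgSpace.yon_obj W) sqP
  have hqc' := isQuasiCompactMor_of_isPullback sqP hft.2
  have hqs' := isQuasiSeparatedMor_of_isPullback sqP hqs
  let g := sqW.lift (pullback.fst f.hom w ≫ f'.hom) (pullback.snd f.hom w)
    (by rw [Category.assoc, hn.1, pullback.condition])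
  have hrel := isRelNormalization_of_isLocNorm hP (IsAlgSpace.yon_obj W) hqc' hqs'
    (isLocNorm_baseChange X.property Y.property (IsAlgSpace.yon_obj W) hft.2 hqs
      (isLocNorm_of_isRelNormalization f.hom X.property Y.property hft.2 hqs Y'.property hn)
      (locP_smooth_of_repWith Y.property
        (repWith_mono (P := @Etale) (Q := @Smooth) (fun _ _ k (hk : Etale k) => inferInstance) hwe))
      sqP sqW (sqW.lift_snd _ _ _) (f₂' := g) (sqW.lift_fst _ _ _))
  have : IsAffine W.left := O.2
  have hnI : IsIntegralHom (pullback.snd (hν.1.snd y) iO).left :=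
    (repWith_yon_map_iff _ _).1 (isIntegralMor_iff_repWith.1 hrel.2.1)
  have : IsAffine (pullback (hν.1.snd y) iO).left :=
    isAffine_of_isAffineHom (pullback.snd (hν.1.snd y) iO).left
  obtain ⟨D⟩ := exists_atlas hP hqc' hqs'
  have := D.hA
  have hc := isEqClosure_of_isNormAff D (isNormAff_of_isRelNormalization hrel)
  have hae : RepWith @Etale (D.a ≫ pullback.fst f.hom w) :=
    repWith_comp D.hae (repWith_of_isPullback sqP.flip hwe)
  have : IsReduced D.A.left := prop_of_etale_chart isReduced_up isReduced_down hX hae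
  have : LocallyOfFiniteType D.c.left := hft.1 _ w D.c hae hwe (by
    rw [D.map_c, Category.assoc, Category.assoc, pullback.condition])
  refine finite_of_closure D.c.left (fun V hV => ?_) ((yon S).preimage (D.a ≫ g)).left _ ?_ hc.1
  · exact Groth.Agent.CAlgLow.isNagata_of_surjective (hU _ (hV.image_of_isOpenImmersion O.1.ι))
      (O.1.ι.appIso V).hom.hom (ConcreteCategory.bijective_of_isIso (O.1.ι.appIso V).hom).2
  · rw [← Over.comp_left]
    have e : (yon S).preimage (D.a ≫ g) ≫ pullback.snd (hν.1.snd y) iO = D.c := (yon S).map_injective (by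
      rw [Functor.map_comp, Functor.map_preimage, D.map_c, Category.assoc]
      exact congrArg _ (sqW.lift_snd _ _ _))
    rw [e]

end Groth.Agent.S10299
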