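import Groth.Statements.S10300
import Groth.Agent.Lib.NormEt14.Chart
import Groth.Agent.Lib.AlgSpace.ImmDescent
import Groth.Agent.Lib.AlgSpace.LqfScheme
import Groth.Agent.Lib.AlgSpace.MorDiag

set_option autoImplicit false
universe u
open CategoryTheory CategoryTheory.Limits AlgebraicGeometry
open AlgSp

namespace Groth.Agent.S10300

open Groth.Agent.NormEt14 Groth.Agent.AlgSpDescent Groth.Agent.AlgSpace Groth.Agent.EtSmLoc15

theorem qa_of_square {S : Scheme.{u}} {W M Z : Over S} (k : W ⟶ M) [IsOpenImmersion k.left]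
    [QuasiCompact k.left] [IsAffine M.left] : W.left.IsQuasiAffine := by
  have := QuasiCompact.compactSpace_of_compactSpace k.left
  exact Scheme.IsQuasiAffine.of_isImmersion k.left


/-- For f quasi-finite and separated, the map from X to the normalization of Y in X is a quasi-compact
open immersion, and f is quasi-affine. -/
theorem result {S : Scheme.{u}} {X Y Y' : AlgSp.Space S}
    (f : X ⟶ Y) (hqf : AlgSp.LocP (@LocallyQuasiFinite ⊓ @LocallyOfFiniteType) f.hom)
    (hqc : AlgSp.IsQuasiCompactMor f.hom) (hsep : AlgSp.IsSeparatedMor f.hom) (ν : Y' ⟶ Y) (f' : X ⟶ Y')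
    (hn : AlgSp.IsRelNormalization f.hom ν.hom f'.hom) :
    AlgSp.RepWith @IsOpenImmersion f'.hom ∧ AlgSp.IsQuasiCompactMor f'.hom ∧ AlgSp.IsQuasiAffineMor f.hom := by
  have hX := X.property
  have hY := Y.property
  have hY' := Y'.property
  have hqs : IsQuasiSeparatedMor f.hom :=
    repWith_mono (P := @IsClosedImmersion) (Q := @QuasiCompact) (fun _ _ k (hk : IsClosedImmersion k) => inferInstance) hsep
  have hν := isIntegralMor_iff_repWith.1 hn.2.1
  obtain ⟨U, y, hye, hys⟩ := hY.atlas
  have hysm : LocP @Smooth y := locP_smooth_of_repWith hY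
    (repWith_mono (P := @Etale) (Q := @Smooth) (fun _ _ k (hk : Etale k) => inferInstance) hye)
  have sqf := IsPullback.of_hasPullback f.hom y
  have hXU : IsAlgSpace (pullback f.hom y) := isAlgSpace_pullback hY hX (IsAlgSpace.yon_obj _) sqf
  obtain ⟨A, ⟨e⟩⟩ := exists_iso_yon_of_lqf_separated hXU (pullback.snd f.hom y)
    (isSeparatedMor_of_isPullback sqf hsep) (locP_of_isPullback hX hY (IsAlgSpace.yon_obj _) sqf hqf)
  obtain ⟨h, hh⟩ := (yon S).map_surjective (e.hom ≫ pullback.snd f.hom y)
  have sqA : IsPullback (e.hom ≫ pullback.fst f.hom y) ((yon S).map h) f.hom y :=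
    IsPullback.of_iso sqf e.symm (Iso.refl _) (Iso.refl _) (Iso.refl _) (by simp) (by simp [hh])
      (by simp) (by simp)
  have := quasiCompact_left_of_isQuasiCompactMor (isQuasiCompactMor_of_isPullback sqA hqc)
  have : IsSeparated h.left := (isSeparatedMor_yon_map_iff h).1 (isSeparatedMor_of_isPullback sqA hsep)
  obtain ⟨hq₁, hq₂⟩ := hqf (e.hom ≫ pullback.fst f.hom y) y h
    (repWith_of_isPullback sqA.flip hye) hye sqA.w
  obtain ⟨z, sqz, sqt⟩ := exists_scheme_chart hX hY hY' hqc hqs hn y hysm sqA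
  have hoi : RepWith @IsOpenImmersion f'.hom := repWith_openImmersion_of_etale_cover
    (repWith_of_isPullback sqz.flip hye) (repWith_of_isPullback sqz.flip hys) sqt
    ((repWith_yon_map_iff _ _).2 (inferInstanceAs (IsOpenImmersion h.left.toNormalization)))
  have hrf : Representable f.hom := representable_of_lqf_separated hX hY f.hom hsep hqf
  have hνs : IsSeparatedMor ν.hom := (isSeparatedMor_iff_of_representable hY' hY hν.1).2
    (repWith_mono (P := @IsIntegralHom) (Q := @IsSeparated) (fun _ _ k (hk : IsIntegralHom k) => inferInstance) hν)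
  have hfq : RepWith @QuasiCompact f'.hom := repWith_of_comp_of_diagonal (g := ν.hom)
    (by rw [hn.1]; exact (repWith_quasiCompact_iff hX hY hrf).2 hqc)
    (repWith_mono (P := @IsClosedImmersion) (Q := @QuasiCompact) (fun _ _ k (hk : IsClosedImmersion k) => inferInstance) hνs)
  refine ⟨hoi, (repWith_quasiCompact_iff hX hY' hoi.1).1 hfq, fun Z hZ g => ?_⟩
  obtain ⟨M, i, c, sqM, hM, -⟩ := hn.2.1 hZ g
  have sqW := hoi.1.isPullback c
  have : IsOpenImmersion (hoi.1.snd c).left := hoi.2 _ _ _ sqW
  have : QuasiCompact (hoi.1.snd c).left := hfq.2 _ _ _ sqW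
  refine ⟨hoi.1.pullback c, hoi.1.snd c ≫ i, hoi.1.fst c, ?_, qa_of_square (Z := Z) (hoi.1.snd c)⟩
  have := sqW.paste_vert sqM
  rwa [hn.1, ← Functor.map_comp] at this

end Groth.Agent.S10300
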