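import Groth.Statements.S10302
import Groth.Agent.Lib.AlgSpDecent.HasAtChart

set_option autoImplicit false
universe u
open CategoryTheory CategoryTheory.Limits AlgebraicGeometry
open AlgSp

set_option backward.isDefEq.respectTransparency.types false

namespace Groth.Agent.S10302

/-- A flat morphism of algebraic spaces maps points of codimension 0 to points of codimension 0. -/
theorem result {S : Scheme.{u}} {X Y : AlgSp.Space S} (f : X ⟶ Y) (hf : AlgSp.LocP @Flat f.hom)
    (x : AlgSp.Points X.obj) (hx : AlgSp.HasAt (fun U u => ringKrullDim ↥(U.presheaf.stalk u) = 0) X.obj x) :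
    AlgSp.HasAt (fun U u => ringKrullDim ↥(U.presheaf.stalk u) = 0) Y.obj (AlgSp.Points.map f.hom x) := by
  exact Groth.Agent.AlgSpDecent.hasAt_ringKrullDim_zero_map X.property Y.property hf x hx

end Groth.Agent.S10302
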