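import Groth.Statements.S10304
import Groth.Agent.Lib.NormEt14.LocFinComp
import Groth.Agent.Lib.AlgSpace.Chart

set_option autoImplicit false
universe u
open CategoryTheory CategoryTheory.Limits AlgebraicGeometry
open AlgSp

namespace Groth.Agent.S10304

open Groth.Agent.NormEt14 Groth.Agent.AlgSpDescent Groth.Agent.AlgSpace Groth.Agent.AlgSpDecent


/-- Equivalent forms of the condition that the schemes etale over X have locally finitely many
irreducible components: one etale surjective chart, every etale chart, finiteness of codimension-0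
points of quasi-compact spaces etale over X, finiteness of irreducible components of such spaces. -/
theorem result {S : Scheme.{u}} (X : AlgSp.Space S) :
    (AlgSp.EtaleLocally (fun U => ∀ W : U.Opens, IsCompact (W : Set ↥U) → (irreducibleComponents ↥W).Finite) X.obj ↔
      ∀ (U : Over S) (a : (AlgSp.yon S).obj U ⟶ X.obj), AlgSp.RepWith @Etale a →
        ∀ W : U.left.Opens, IsCompact (W : Set ↥U.left) → (irreducibleComponents ↥W).Finite) ∧
    (AlgSp.EtaleLocally (fun U => ∀ W : U.Opens, IsCompact (W : Set ↥U) → (irreducibleComponents ↥W).Finite) X.obj ↔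
      ∀ (Y : AlgSp.Space S) (g : Y ⟶ X), AlgSp.IsEtaleMor g.hom → AlgSp.IsQuasiCompactSp Y.obj →
        {y : AlgSp.Points Y.obj |
          AlgSp.HasAt (fun U u => ringKrullDim ↥(U.presheaf.stalk u) = 0) Y.obj y}.Finite) ∧
    (AlgSp.EtaleLocally (fun U => ∀ W : U.Opens, IsCompact (W : Set ↥U) → (irreducibleComponents ↥W).Finite) X.obj ↔
      ∀ (Y : AlgSp.Space S) (g : Y ⟶ X), AlgSp.IsEtaleMor g.hom → AlgSp.IsQuasiCompactSp Y.obj →
        (irreducibleComponents (AlgSp.Points Y.obj)).Finite) := by
  have hX := X.property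
  have hall := locFin_space_iff hX
  have hWsub : ∀ (U : Over S) (a : (yon S).obj U ⟶ X.obj), RepWith @Etale a → ∀ W : U.left.Opens,
      IsCompact (W : Set U.left) → ∃ (T : Over S) (g : (yon S).obj T ⟶ X.obj), T.left = W.toScheme ∧
        IsEtaleMor g ∧ IsQuasiCompactSp ((yon S).obj T) := fun U a ha W hW => by
    let T : Over S := Over.mk (W.ι ≫ U.hom)
    let i : T ⟶ U := Over.homMk W.ι rfl
    have hg : RepWith @Etale ((yon S).map i ≫ a) :=
      repWith_comp ((repWith_yon_map_iff _ _).2 (inferInstanceAs (Etale W.ι))) ha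
    refine ⟨T, (yon S).map i ≫ a, rfl, fun A b hb => repWith_comp hb hg, ?_⟩
    exact ⟨T, 𝟙 _, repWith_id _ T, repWith_id _ T, isCompact_iff_compactSpace.1 hW⟩
  refine ⟨hall, ⟨fun h Y g hg hc => ?_, fun h => hall.2 fun U a ha W hW => ?_⟩,
    ⟨fun h Y g hg hc => ?_, fun h => hall.2 fun U a ha W hW => ?_⟩⟩
  · obtain ⟨A, a, hA, hae, has, hfin⟩ := finite_isMin_of_etale h hg hc
    refine ((finite_setOf_isMin hfin).image (Points.ofPt a)).subset fun y hy => ?_
    obtain ⟨u, rfl⟩ := surjective_ofPt has y
    exact ⟨u, (hasAt_dim_zero_iff hae u).1 hy, rfl⟩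
  · obtain ⟨T, g, hT, hg, hc⟩ := hWsub U a ha W hW
    have hf := h ⟨(yon S).obj T, IsAlgSpace.yon_obj T⟩ ⟨g⟩ hg hc
    have hfin : (irreducibleComponents T.left).Finite := by
      refine finite_components_of_finite_isMin (Set.Finite.of_finite_image (f := Points.ofScheme T)
        (hf.subset ?_) (Points.schemeEquiv T).injective.injOn)
      rintro _ ⟨t, ht, rfl⟩
      exact ⟨T, 𝟙 _, t, repWith_id _ T, by rw [← (yon S).map_id]; exact ofPt_map_eq (𝟙 T) t,
        (dim_zero_iff_isMin t).2 ht⟩
    rwa [hT] at hfin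
  · obtain ⟨A, a, hA, hae, has, hfin⟩ := finite_isMin_of_etale h hg hc
    exact finite_components_of_denseRange (Points.continuous_ofPt a)
      (surjective_ofPt has).denseRange hfin
  · obtain ⟨T, g, hT, hg, hc⟩ := hWsub U a ha W hW
    have hf := h ⟨(yon S).obj T, IsAlgSpace.yon_obj T⟩ ⟨g⟩ hg hc
    have hfin : (irreducibleComponents T.left).Finite :=
      finite_components_of_denseRange (Points.schemeHomeo T).symm.continuous
        (Points.schemeHomeo T).symm.surjective.denseRange hf
    rwa [hT] at hfin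

end Groth.Agent.S10304
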