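import Groth.Statements.S10306
import Groth.Agent.Lib.AlgSpace.ValRefined

set_option autoImplicit false
universe u
open CategoryTheory CategoryTheory.Limits AlgebraicGeometry
open AlgSp

set_option backward.isDefEq.respectTransparency.types false

namespace Groth.Agent.S10306

/-- A refined valuative criterion: if f and h : U -> X are quasi-compact with |U| dense in |X|, and
valuative squares whose top arrow factors through U have at most one lift and a lift after a
dominating extension, then f is universally closed, and separated if it is quasi-separated. -/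
theorem result {S : Scheme.{u}} {U X Y : AlgSp.Space S} (f : X ⟶ Y) (h : U ⟶ X)
    (hf : AlgSp.IsQuasiCompactMor f.hom) (hh : AlgSp.IsQuasiCompactMor h.hom)
    (hd : DenseRange (AlgSp.Points.map h.hom))
    (hv : ∀ sq : AlgSp.ValSq f.hom, (∃ t : (AlgSp.yon S).obj sq.ptK ⟶ U.obj, t ≫ h.hom = sq.top) →
      sq.HasUniq ∧ sq.HasLiftExt) :
    AlgSp.IsUnivClosedMor f.hom ∧ (AlgSp.IsQuasiSeparatedMor f.hom → AlgSp.IsSeparatedMor f.hom) := by
  exact ⟨Groth.Agent.AlgSpace.isUnivClosedMor_of_refined U.property X.property Y.property hf hh hd hv,
    fun hqs => Groth.Agent.AlgSpace.isSeparatedMor_of_refined U.property X.property Y.property hh hd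
      (fun sq h => (hv sq h).1) hqs⟩

end Groth.Agent.S10306
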