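import Groth.Statements.S10307
import Groth.Agent.Lib.EtPush14.Site

set_option autoImplicit false
universe u
open CategoryTheory CategoryTheory.Limits AlgebraicGeometry
open AlgSp

namespace Groth.Agent.S10307

/-- For an integral universally injective morphism f of algebraic spaces, f_* on small etale sites is
fully faithful on sheaves of sets and on abelian sheaves, and the counit from the pullback of the
pushforward to the identity is an isomorphism. (The description of the essential image is not
included here.) -/
theorem result {S : Scheme.{u}} {Y X : AlgSp.Space S} (f : Y ⟶ X)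
    (hi : AlgSp.RepWith @IsIntegralHom f.hom) (hu : AlgSp.IsUnivInjectiveMor f.hom) :
    ((AlgSp.pushEt hi.1 (Type (u + 1))).Full ∧ (AlgSp.pushEt hi.1 (Type (u + 1))).Faithful) ∧
    ((AlgSp.pushEt hi.1 AddCommGrpCat.{u + 1}).Full ∧ (AlgSp.pushEt hi.1 AddCommGrpCat.{u + 1}).Faithful) ∧
    IsIso (AlgSp.pullPushAdjEt hi.1 (Type (u + 1))).counit := by
  exact Groth.Agent.EtPush14.pushEt_fullyFaithful_all _ X.property (Groth.Agent.EtPush14.isIntUI_of hi hu)

end Groth.Agent.S10307
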