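import Groth.Statements.S10309
import Groth.Agent.Lib.AlgSpRel14.RelDim

set_option autoImplicit false
universe u
open CategoryTheory CategoryTheory.Limits AlgebraicGeometry
open AlgSp

set_option backward.isDefEq.respectTransparency.types false

namespace Groth.Agent.S10309

/-- For f locally of finite presentation, the locus where the relative dimension is at most n is
retrocompact in |X|. -/
theorem result {S : Scheme.{u}} {X Y : AlgSp.Space S} (f : X ⟶ Y)
    (hf : AlgSp.LocP @LocallyOfFinitePresentation f.hom) (n : ℕ) (V : Set (AlgSp.Points X.obj))
    (hV : IsOpen V) (hVc : IsCompact V) :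
    IsCompact (V ∩ {x : AlgSp.Points X.obj |
      AlgSp.HasAtMor (fun _ _ h u => FlatMor.fibreDimAt h u ≤ (n : WithBot ℕ∞)) f.hom x}) := by
  exact AlgSpRel14.isRetrocompact_relDim_le X.property Y.property hf n V hV hVc

end Groth.Agent.S10309
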