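import Groth.Statements.S1031

set_option autoImplicit false
universe v u
open CategoryTheory
open CohDer

namespace Groth.Agent.S1031

open Limits Pretriangulated

/-- Closed under products of two objects. -/
def PC {C : Type u} [Category.{v} C] [HasFiniteProducts C] (P : ObjectProperty C) : Prop :=
  ∀ f : WalkingPair → C, (∀ j, P (f j)) → P (∏ᶜ f)

section

variable {C : Type u} [Category.{v} C] [Preadditive C] [Limits.HasZeroObject C] [HasShift C ℤ]
    [∀ n : ℤ, (shiftFunctor C n).Additive] [Pretriangulated C] [HasFiniteProducts C]

theorem PC.closed {P : ObjectProperty C} [P.IsClosedUnderIsomorphisms] (h : PC P) :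
    P.IsClosedUnderBinaryProducts where
  limitsOfShape_le := by
    rintro X ⟨p⟩
    refine P.prop_of_iso ?_ (h (fun j => p.diag.obj ⟨j⟩) fun j => p.prop_diag_obj ⟨j⟩)
    exact IsLimit.conePointUniqueUpToIso (limit.isLimit _)
      ((IsLimit.postcomposeHomEquiv Discrete.natIsoFunctor _).2 p.isLimit)

theorem PC.of_closed (P : ObjectProperty C) [P.IsClosedUnderBinaryProducts] : PC P :=
  fun f hf => P.prop_limit (J := Discrete WalkingPair) (Discrete.functor f) fun j => hf j.as

theorem PC.retractClosure {P : ObjectProperty C} (h : PC P) : PC P.retractClosure := by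
  intro f hf
  choose Y hY r using hf
  exact ⟨∏ᶜ Y, h Y hY, ⟨⟨Limits.Pi.map fun j => (r j).some.i, Limits.Pi.map fun j => (r j).some.r,
    Limits.Pi.hom_ext _ _ fun j => by simp⟩⟩⟩

theorem PC.extensionProduct {P Q : ObjectProperty C} (hP : PC P) (hQ : PC Q) :
    PC (ObjectProperty.extensionProduct P Q) := by
  intro f hf
  choose Y Z a b c hT hY hZ using hf
  exact ⟨_, _, _, _, _, productTriangle_distinguished (fun j => Triangle.mk (a j) (b j) (c j)) hT,
    hP Y hY, hQ Z hZ⟩

theorem closed_triangEnvelopeIter (P : ObjectProperty C) (n : ℕ) :
    (P.triangEnvelopeIter n).IsClosedUnderBinaryProducts := by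
  have h0 : PC (P.shiftClosure ℤ).binaryProductsClosure.retractClosure :=
    (PC.of_closed _).retractClosure
  have h : ∀ k, PC ((P.shiftClosure ℤ).binaryProductsClosure.retractClosure.extensionProductIter k) := by
    intro k
    induction k with
    | zero => exact h0
    | succ k ih =>
      rw [ObjectProperty.extensionProductIter_succ]
      exact h0.extensionProduct ih
  exact (h n).retractClosure.closed

end


/-- Let D be a triangulated category admitting a strong generator G (every object is reached from G by
shifts, finite sums, summands and a uniformly bounded number of extensions). Then every classical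
generator E of D (every object reached from E with some finite number of extensions) is itself a
strong generator. -/
theorem result {D : Type u} [Category.{v} D] [Preadditive D] [Limits.HasZeroObject D] [HasShift D ℤ]
    [∀ n : ℤ, (shiftFunctor D n).Additive] [Pretriangulated D] [IsTriangulated D]
    (G E : D) (hG : ObjectProperty.IsStrongTriangulatedGenerator (fun X : D => X = G))
    (hE : ObjectProperty.IsClassicalTriangulatedGenerator (fun X : D => X = E)) :
    ObjectProperty.IsStrongTriangulatedGenerator (fun X : D => X = E) := by
  obtain ⟨n, hn⟩ := hG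
  obtain ⟨m, hm⟩ : ∃ m, ObjectProperty.triangEnvelopeIter (fun X : D => X = E) m G := by
    rw [← ObjectProperty.prop_triangEnvelope_iff, hE]
    trivial
  haveI : ObjectProperty.Nonempty (fun X : D => X = E) := ⟨⟨E, rfl⟩⟩
  haveI := closed_triangEnvelopeIter (fun X : D => X = E) m
  have key : ∀ k, ∃ N, ObjectProperty.triangEnvelopeIter (fun X : D => X = G) k ≤
      ObjectProperty.triangEnvelopeIter (fun X : D => X = E) N := by
    have h0 : ((ObjectProperty.shiftClosure (fun X : D => X = G) ℤ).binaryProductsClosure).retractClosure ≤
        ObjectProperty.triangEnvelopeIter (fun X : D => X = E) m := by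
      rw [ObjectProperty.retractClosure_le_iff, ObjectProperty.binaryProductsClosure_le_iff,
        ObjectProperty.shiftClosure_le_iff]
      rintro X rfl
      exact hm
    intro k
    induction k with
    | zero => exact ⟨m, by rw [ObjectProperty.triangEnvelopeIter_zero]; exact h0⟩
    | succ k ih =>
      obtain ⟨N, hN⟩ := ih
      refine ⟨m + (N + 1), ?_⟩
      rw [ObjectProperty.triangEnvelopeIter_succ, ObjectProperty.triangEnvelopeIter_add' _ (m' := N) rfl]
      exact ObjectProperty.monotone_retractClosure fun X ⟨A, B, f, g, h, hT, h₁, h₂⟩ =>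
        ⟨A, B, f, g, h, hT, h0 _ h₁, hN _ h₂⟩
  obtain ⟨N, hN⟩ := key n
  exact ⟨N, top_le_iff.1 (hn ▸ hN)⟩


end Groth.Agent.S1031
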