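import Groth.Statements.S10310
import Groth.Agent.Lib.AlgSpRel14.RelDim

set_option autoImplicit false
universe u
open CategoryTheory CategoryTheory.Limits AlgebraicGeometry
open AlgSp

set_option backward.isDefEq.respectTransparency.types false

namespace Groth.Agent.S10310

/-- A morphism locally of finite type is locally quasi-finite if and only if it has relative dimension 0
at every point. -/
theorem result {S : Scheme.{u}} {X Y : AlgSp.Space S} (f : X ⟶ Y)
    (hf : AlgSp.LocP @LocallyOfFiniteType f.hom) :
    AlgSp.LocP (@LocallyQuasiFinite ⊓ @LocallyOfFiniteType) f.hom ↔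
      ∀ x : AlgSp.Points X.obj, AlgSp.HasAtMor (fun _ _ h u => FlatMor.fibreDimAt h u = 0) f.hom x := by
  constructor
  · intro hq x
    obtain ⟨U, V, a, b, h, u, ha, hb, w, rfl⟩ := AlgSpRel14.exists_diagram X.property Y.property f.hom x
    obtain ⟨h1, h2⟩ := hq a b h ha hb w
    haveI := h1
    haveI := h2
    exact ⟨U, V, a, b, h, u, ha, hb, w, rfl, FibDim14.fibreDimAt_eq_zero h.left u⟩
  · intro hz U V a b h ha hb w
    haveI : LocallyOfFiniteType h.left := hf a b h ha hb w
    refine ⟨?_, this⟩
    rw [← Scheme.Hom.quasiFiniteLocus_eq_top_iff, eq_top_iff]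
    intro u _
    exact (FibDim14.fibreDimAt_eq_zero_iff h.left u).1
      ((AlgSpRel14.hasAtMor_fibreDimAt_iff (R := (· = 0)) hf ha hb w u).1 (hz _))

end Groth.Agent.S10310
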