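import Groth.Statements.S10311
import Groth.Agent.Lib.AlgSpRel14.RelDim

set_option autoImplicit false
universe u
open CategoryTheory CategoryTheory.Limits AlgebraicGeometry
open AlgSp

set_option backward.isDefEq.respectTransparency.types false

namespace Groth.Agent.S10311

/-- The relative dimension at a point of a morphism locally of finite type is preserved by base change. -/
theorem result {S : Scheme.{u}} {X Y Y' X' : AlgSp.Space S} (f : X ⟶ Y) (g : Y' ⟶ Y)
    (g' : X' ⟶ X) (f' : X' ⟶ Y') (sq : IsPullback g'.hom f'.hom f.hom g.hom)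
    (hf : AlgSp.LocP @LocallyOfFiniteType f.hom) (x' : AlgSp.Points X'.obj) (d : WithBot ℕ∞)
    (hd : AlgSp.HasAtMor (fun _ _ h u => FlatMor.fibreDimAt h u = d) f.hom (AlgSp.Points.map g'.hom x')) :
    AlgSp.HasAtMor (fun _ _ h u => FlatMor.fibreDimAt h u = d) f'.hom x' := by
  obtain ⟨U, V, U', V', a, b, h, a', b', h', p, β, hae, -, hbe, -, hae', has', hbe', -, w, w', wp, -, hsq⟩ :=
    AlgSpRel14.exists_cart_diagram X.property Y.property Y'.property sq
  obtain ⟨u', rfl⟩ := Groth.Agent.AlgSpace.surjective_ofPt has' x'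
  rw [Points.map_ofPt, wp, Groth.Agent.AlgSpDecent.ofPt_map_comp] at hd
  rw [AlgSpRel14.hasAtMor_fibreDimAt_iff (R := (· = d)) hf hae hbe w] at hd
  haveI : LocallyOfFiniteType h.left := hf a b h hae hbe w
  haveI : LocallyOfFiniteType h'.left := MorphismProperty.of_isPullback hsq inferInstance
  exact ⟨U', V', a', b', h', u', hae', hbe', w', rfl, (FibDim14.fibreDimAt_baseChange hsq u').trans hd⟩

end Groth.Agent.S10311
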