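import Groth.Statements.S10313
import Groth.Agent.Lib.AlgSpRel14.Lqf

set_option autoImplicit false
universe u
open CategoryTheory CategoryTheory.Limits AlgebraicGeometry
open AlgSp

set_option backward.isDefEq.respectTransparency.types false

namespace Groth.Agent.S10313

/-- For f locally of finite type there is an open subspace of X on which f is locally quasi-finite,
outside of which the relative dimension is at least 1, and whose formation commutes with base
change. -/
theorem result {S : Scheme.{u}} {X Y : AlgSp.Space S} (f : X ⟶ Y)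
    (hf : AlgSp.LocP @LocallyOfFiniteType f.hom) :
    ∃ (X' : AlgSp.Space S) (j : X' ⟶ X), AlgSp.RepWith @IsOpenImmersion j.hom ∧
      AlgSp.LocP (@LocallyQuasiFinite ⊓ @LocallyOfFiniteType) (j ≫ f).hom ∧
      (∀ x : AlgSp.Points X.obj, x ∉ Set.range (AlgSp.Points.map j.hom) →
        AlgSp.HasAtMor (fun _ _ h u => 1 ≤ FlatMor.fibreDimAt h u) f.hom x) ∧
      ∀ (Y'' X'' : AlgSp.Space S) (g : Y'' ⟶ Y) (b : X'' ⟶ X) (f'' : X'' ⟶ Y''),
        IsPullback b.hom f''.hom f.hom g.hom → ∀ x'' : AlgSp.Points X''.obj,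
          AlgSp.Points.map b.hom x'' ∈ Set.range (AlgSp.Points.map j.hom) ↔ AlgSp.HasAtMor (fun U _ h u => ∃ W : U.Opens, u ∈ W ∧ LocallyQuasiFinite (W.ι ≫ h) ∧ LocallyOfFiniteType (W.ι ≫ h)) f''.hom x'' := by
  obtain ⟨X', j, hj, hloc, hr⟩ := AlgSpRel14.exists_lqf_open f
  refine ⟨X', j, hj, hloc, fun x hx => ?_, fun Y'' X'' g b f'' sq x'' => ?_⟩
  · obtain ⟨U, V, a, c, h, u, hae, hce, w, rfl⟩ := AlgSpRel14.exists_diagram X.property Y.property f.hom x
    have := AlgSpRel14.lft_of_chart hf hae hce w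
    rw [hr, Set.mem_setOf_eq, AlgSpRel14.hasAtMor_near_iff AlgSpRel14.LqfLft hae hce w] at hx
    exact ⟨U, V, a, c, h, u, hae, hce, w, rfl, AlgSpRel14.one_le_fibreDimAt h.left hx⟩
  · rw [hr, Set.mem_setOf_eq,
      AlgSpRel14.hasAtMor_near_lqf_baseChange X.property Y.property Y''.property hf sq x'']
    exact Iff.rfl

end Groth.Agent.S10313
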