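import Groth.Statements.S10314
import Groth.Agent.Lib.AlgSpRel14.FlatDim
import Groth.Agent.Lib.AlgSpDecent.LocNoeth

set_option autoImplicit false
universe u
open CategoryTheory CategoryTheory.Limits AlgebraicGeometry
open AlgSp

set_option backward.isDefEq.respectTransparency.types false

namespace Groth.Agent.S10314

/-- For a flat morphism locally of finite type of relative dimension d between locally Noetherian
algebraic spaces, the dimension of X at a point equals the dimension of Y at the image point plus d. -/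
theorem result {S : Scheme.{u}} {X Y : AlgSp.Space S} (f : X ⟶ Y)
    (hX : AlgSp.IsLocNoethSp X.obj) (hY : AlgSp.IsLocNoethSp Y.obj) (hf : AlgSp.LocP @Flat f.hom)
    (hf' : AlgSp.LocP @LocallyOfFiniteType f.hom) (d : ℕ)
    (hd : ∀ x : AlgSp.Points X.obj, AlgSp.HasAtMor (fun _ _ h u => FlatMor.fibreDimAt h u = (d : WithBot ℕ∞)) f.hom x)
    (x : AlgSp.Points X.obj) (dX dY : WithBot ℕ∞) (hx : AlgSp.HasAt (fun U u => FlatMor.localDim ↥U u = dX) X.obj x)
    (hy : AlgSp.HasAt (fun U u => FlatMor.localDim ↥U u = dY) Y.obj (AlgSp.Points.map f.hom x)) :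
    dX = dY + (d : WithBot ℕ∞) := by
  obtain ⟨U, V, a, b, h, u, hae, hbe, w, rfl⟩ := AlgSpRel14.exists_diagram X.property Y.property f.hom x
  have := AlgSpDecent.isLocallyNoetherian_of_etale_chart hX hae
  have := AlgSpDecent.isLocallyNoetherian_of_etale_chart hY hbe
  haveI : Flat h.left := hf a b h hae hbe w
  haveI : LocallyOfFiniteType h.left := hf' a b h hae hbe w
  rw [AlgSp.Points.map_ofPt, w, AlgSpDecent.ofPt_map_comp,
    AlgSpDecent.hasAt_iff_of_chart (fun A B g _ a => by rw [AlgSpDecent.localDim_etale g a]) hbe] at hy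
  rw [AlgSpDecent.hasAt_iff_of_chart (fun A B g _ a => by rw [AlgSpDecent.localDim_etale g a]) hae] at hx
  rw [← hx, ← hy]
  exact AlgSpRel14.localDim_eq_of_flat h.left d (fun v =>
    (AlgSpRel14.hasAtMor_fibreDimAt_iff (R := (· = (d : WithBot ℕ∞))) hf' hae hbe w v).1 (hd _)) u

end Groth.Agent.S10314
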