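import Groth.Statements.S10315
import Groth.Agent.Lib.AlgSpRel14.SmoothDim
import Groth.Agent.Lib.AlgSpDecent.LocNoeth

set_option autoImplicit false
universe u
open CategoryTheory CategoryTheory.Limits AlgebraicGeometry
open AlgSp

set_option backward.isDefEq.respectTransparency.types false

namespace Groth.Agent.S10315

/-- For a smooth morphism of locally Noetherian algebraic spaces, the dimension of X at x is the
dimension of Y at the image of x plus the relative dimension of f at x. -/
theorem result {S : Scheme.{u}} {X Y : AlgSp.Space S} (f : X ⟶ Y)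
    (hX : AlgSp.IsLocNoethSp X.obj) (hY : AlgSp.IsLocNoethSp Y.obj) (hf : AlgSp.LocP @Smooth f.hom)
    (x : AlgSp.Points X.obj) (d dX dY : WithBot ℕ∞)
    (hd : AlgSp.HasAtMor (fun _ _ h u => FlatMor.fibreDimAt h u = d) f.hom x)
    (hx : AlgSp.HasAt (fun U u => FlatMor.localDim ↥U u = dX) X.obj x)
    (hy : AlgSp.HasAt (fun U u => FlatMor.localDim ↥U u = dY) Y.obj (AlgSp.Points.map f.hom x)) :
    dX = dY + d := by
  have hf' : AlgSp.LocP @LocallyOfFiniteType f.hom := AlgSpace.locP_mono (fun A B g hg => by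
    have : Smooth g := hg
    exact inferInstanceAs (LocallyOfFiniteType g)) hf
  obtain ⟨U, V, a, b, h, u, hae, hbe, w, rfl⟩ := AlgSpRel14.exists_diagram X.property Y.property f.hom x
  have := AlgSpDecent.isLocallyNoetherian_of_etale_chart hX hae
  have := AlgSpDecent.isLocallyNoetherian_of_etale_chart hY hbe
  haveI : Smooth h.left := hf a b h hae hbe w
  rw [AlgSp.Points.map_ofPt, w, AlgSpDecent.ofPt_map_comp,
    AlgSpDecent.hasAt_iff_of_chart (fun A B g _ a => by rw [AlgSpDecent.localDim_etale g a]) hbe] at hy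
  rw [AlgSpDecent.hasAt_iff_of_chart (fun A B g _ a => by rw [AlgSpDecent.localDim_etale g a]) hae] at hx
  rw [AlgSpRel14.hasAtMor_fibreDimAt_iff (R := (· = d)) hf' hae hbe w] at hd
  obtain ⟨m, W, hW, hm⟩ := AlgSpRel14.exists_nhd_fibreDimAt_of_smooth h.left u
  rw [← hx, ← hy, ← hd, hm u hW]
  refine (AlgSpDecent.localDim_etale W.ι ⟨u, hW⟩).symm.trans ?_
  exact AlgSpRel14.localDim_eq_of_flat (W.ι ≫ h.left) m (fun v =>
    (FibDim14.fibreDimAt_etale_comp W.ι h.left v).trans (hm _ v.2)) ⟨u, hW⟩

end Groth.Agent.S10315
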