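import Groth.Statements.S10316
import Groth.Agent.Lib.AlgSpRel14.RelDim

set_option autoImplicit false
universe u
open CategoryTheory CategoryTheory.Limits AlgebraicGeometry
open AlgSp

set_option backward.isDefEq.respectTransparency.types false

namespace Groth.Agent.S10316

/-- For X -> Y locally quasi-finite and Y -> Z locally of finite type, the transcendence degree of x
over Z equals that of its image y over Z. -/
theorem result {S : Scheme.{u}} {X Y Z : AlgSp.Space S} (f : X ⟶ Y) (g : Y ⟶ Z)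
    (hf : AlgSp.LocP (@LocallyQuasiFinite ⊓ @LocallyOfFiniteType) f.hom) (hg : AlgSp.LocP @LocallyOfFiniteType g.hom)
    (x : AlgSp.Points X.obj) (r : Cardinal.{u}) :
    AlgSp.HasAtMor (fun _ _ h u => Dual3.resTrdeg h u = r) (f ≫ g).hom x ↔
      AlgSp.HasAtMor (fun _ _ h u => Dual3.resTrdeg h u = r) g.hom (AlgSp.Points.map f.hom x) := by
  have hf' : AlgSp.LocP @LocallyOfFiniteType f.hom := AlgSpace.locP_mono (fun _ _ _ h => h.2) hf
  have hfg := AlgSpRel14.locP_comp_lft Y.property X.property Z.property hf' hg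
  obtain ⟨U, V, W, a, b, c, h, k, u, ha, hb, hc, w, wk, wc, rfl, hv⟩ :=
    AlgSpRel14.exists_triangle X.property Y.property Z.property f.hom g.hom x
  obtain ⟨h1, h2⟩ := hf a b h ha hb w
  haveI := h1
  haveI := h2
  haveI : LocallyOfFiniteType k.left := hg b c k hb hc wk
  haveI : LocallyOfFiniteType (h ≫ k).left := inferInstanceAs (LocallyOfFiniteType (h.left ≫ k.left))
  rw [← hv, AlgSpRel14.hasAtMor_iff_of_chart (AlgSpRel14.etInvOn_rd (· = r)) hg hb hc wk,
    show (f ≫ g).hom = f.hom ≫ g.hom from rfl,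
    AlgSpRel14.hasAtMor_iff_of_chart (AlgSpRel14.etInvOn_rd (· = r)) hfg ha hc wc,
    AlgSpRel14.resTrdeg_eq_rd, show (h ≫ k).left = h.left ≫ k.left from rfl, AlgSpRel14.resTrdeg_eq_rd,
    FibDim14.rd_comp, AlgSpRel14.rd_eq_zero_of_lqf h.left, add_zero]

end Groth.Agent.S10316
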