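import Groth.Statements.S10317
import Groth.Agent.Lib.NormEt14.Descend
import Groth.Agent.Lib.AlgSpDecent.FiniteGeneric

set_option autoImplicit false
universe u
open CategoryTheory CategoryTheory.Limits AlgebraicGeometry
open AlgSp

namespace Groth.Agent.S10317

open Groth.Agent.NormEt14 Groth.Agent.AlgSpDescent Groth.Agent.AlgSpace Groth.Agent.AlgSpDecent

/-- Points without generisation of an affine scheme lift along maps injective on functions. -/
theorem exists_min_lift {A N : Scheme.{u}} [IsAffine A] [IsAffine N] (l : A ⟶ N)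
    (hl : Function.Injective l.appTop) (n : N) (hn : ∀ n', n' ⤳ n → n' = n) :
    ∃ a : A, l a = n ∧ ∀ a', a' ⤳ a → a' = a := by
  let hA := A.isoSpec.hom.homeomorph
  let hN := N.isoSpec.hom.homeomorph
  have hnat : ∀ a, hN (l a) = PrimeSpectrum.comap l.appTop.hom (hA a) := fun a =>
    congrArg (fun k => k a) (Scheme.isoSpec_hom_naturality l).symm
  have hp : (hN n).asIdeal ∈ minimalPrimes Γ(N, ⊤) := by
    refine PrimeSpectrum.isMin_iff.1 fun q hq => ?_
    have e : hN.symm q = n := hn _ (by
      have := ((PrimeSpectrum.le_iff_specializes _ _).1 hq).map hN.symm.continuous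
      simpa using this)
    rw [← e]; simp
  obtain ⟨p', hp', hcomap⟩ := Ideal.exists_minimalPrimes_comap_eq (I := ⊥) l.appTop.hom _
    (by rw [Ideal.comap_bot_of_injective _ hl]; exact hp)
  have := hp'.isPrime
  refine ⟨hA.symm ⟨p', inferInstance⟩, hN.injective ?_, fun a' ha' => hA.injective ?_⟩
  · rw [hnat, Homeomorph.apply_symm_apply]
    exact PrimeSpectrum.ext hcomap
  · rw [Homeomorph.apply_symm_apply]
    have h2 := ha'.map hA.continuous
    rw [Homeomorph.apply_symm_apply] at h2
    let q : PrimeSpectrum Γ(A, ⊤) := hA a'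
    let P : PrimeSpectrum Γ(A, ⊤) := ⟨p', inferInstance⟩
    have hle : q ≤ P := (PrimeSpectrum.le_iff_specializes q P).2 h2
    exact (le_antisymm hle ((PrimeSpectrum.isMin_iff (x := P)).2 hp' hle) : q = P)


/-- A codimension-0 point of the normalization X' of X in Y is the image of a codimension-0 point of Y.
(The published statement is phrased for a morphism of schemes; this row states it for a
quasi-compact quasi-separated morphism of algebraic spaces.) -/
theorem result {S : Scheme.{u}} {Y X X' : AlgSp.Space S} (f : Y ⟶ X)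
    (hqc : AlgSp.IsQuasiCompactMor f.hom) (hqs : AlgSp.IsQuasiSeparatedMor f.hom) (ν : X' ⟶ X) (f' : Y ⟶ X')
    (hn : AlgSp.IsRelNormalization f.hom ν.hom f'.hom) (x' : AlgSp.Points X'.obj) (hx' : AlgSp.HasAt (fun U u => ringKrullDim ↥(U.presheaf.stalk u) = 0) X'.obj x') :
    ∃ y : AlgSp.Points Y.obj, AlgSp.HasAt (fun U u => ringKrullDim ↥(U.presheaf.stalk u) = 0) Y.obj y ∧ AlgSp.Points.map f'.hom y = x' := by
  obtain ⟨-, hν, κ, W, φ, hW, hφe, hφs, hAt⟩ :=
    isLocNorm_of_isRelNormalization f.hom Y.property X.property hqc hqs X'.property hn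
  obtain ⟨u, hu⟩ := surjective_ofPt hφs (Points.map ν.hom x')
  obtain ⟨k, v, hv⟩ := (sigmaOpenCover fun j => (W j).left).exists_eq u
  obtain ⟨N, n, z, P, a, b, g, sqN, sqb, hg₁, hg₂, hN⟩ := hAt k
  let w := (yon S).map (coprodOverι W k) ≫ φ
  have hwe : RepWith @Etale w := repWith_comp ((repWith_yon_map_iff _ _).2
    (have := isOpenImmersion_coprodOverι W k; inferInstance)) hφe
  have hv' : (coprodOverι W k).left v = u := hv
  have hvw : Points.map ν.hom x' = Points.ofPt w v := by
    rw [← hu, ← hv', ← ofPt_map_comp]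
  obtain ⟨n₀, hn₁, -⟩ := exists_pt_of_isPullback sqN (x := x') (t := v) hvw
  have hze : RepWith @Etale z := repWith_of_isPullback sqN.flip hwe
  subst hn₁
  have hmin := (hasAt_dim_zero_iff hze n₀).1 hx'
  have : IsAffine (W k).left := hW k
  have : IsAffine N.left := hN.1
  obtain ⟨D⟩ := exists_atlas (isAlgSpace_pullback X.property Y.property (IsAlgSpace.yon_obj _) sqb)
    (isQuasiCompactMor_of_isPullback sqb hqc) (isQuasiSeparatedMor_of_isPullback sqb hqs)
  have := D.hA
  have hc := isEqClosure_of_isNormAff D hN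
  obtain ⟨a₀, ha₀, hamin⟩ := exists_min_lift ((yon S).preimage (D.a ≫ g)).left hc.1 n₀ hmin
  have hye : RepWith @Etale (D.a ≫ a) := repWith_comp D.hae (repWith_of_isPullback sqb.flip hwe)
  refine ⟨Points.ofPt (D.a ≫ a) a₀, (hasAt_dim_zero_iff hye a₀).2 hamin, ?_⟩
  rw [Points.map_ofPt, Category.assoc, ← hg₁, ← Category.assoc, ← (yon S).map_preimage (D.a ≫ g),
    ofPt_map_comp, ha₀]

end Groth.Agent.S10317
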