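import Groth.Statements.S10318
import Groth.Agent.Lib.AlgSpRel14.RelDim
import Groth.Agent.Lib.AlgSpDecent.HasAtChart

set_option autoImplicit false
universe u
open CategoryTheory CategoryTheory.Limits AlgebraicGeometry
open AlgSp

set_option backward.isDefEq.respectTransparency.types false

namespace Groth.Agent.S10318

/-- Over a Jacobson algebraic space, a finite type point of a space locally of finite type over it has
transcendence degree 0 over its image. -/
theorem result {S : Scheme.{u}} {X Y : AlgSp.Space S} (f : X ⟶ Y)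
    (hf : AlgSp.LocP @LocallyOfFiniteType f.hom) (hY : AlgSp.EtaleLocally (fun U => JacobsonSpace ↥U) Y.obj)
    (x : AlgSp.Points X.obj) (hx : AlgSp.HasAt (fun U u => IsClosed ({u} : Set ↥U)) X.obj x) :
    AlgSp.HasAtMor (fun _ _ h u => Dual3.resTrdeg h u = 0) f.hom x := by
  obtain ⟨U, a, u, hae, rfl, hu⟩ := hx
  obtain ⟨V, b, hbe, hbs⟩ := Y.property.atlas
  have sq := hbe.1.isPullback' (a ≫ f.hom)
  let q := hbe.1.fst' (a ≫ f.hom)
  let p := hbe.1.snd (a ≫ f.hom)
  have : Etale p.left := hbe.2 _ _ _ (hbe.1.isPullback _)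
  have : Surjective p.left := hbs.2 _ _ _ (hbe.1.isPullback _)
  obtain ⟨z, rfl⟩ := p.left.surjective u
  have hpa : AlgSp.RepWith @Etale ((AlgSp.yon S).map p ≫ a) :=
    AlgSpace.repWith_comp ((AlgSp.repWith_yon_map_iff @Etale p).2 inferInstance) hae
  have w : ((AlgSp.yon S).map p ≫ a) ≫ f.hom = (AlgSp.yon S).map q ≫ b :=
    (Category.assoc _ _ _).trans sq.w.symm
  refine ⟨_, _, _, b, q, z, hpa, hbe, w, AlgSpDecent.ofPt_map_comp p a z, ?_⟩
  haveI : LocallyOfFiniteType q.left := hf _ b q hpa hbe w
  have := AlgSpDecent.locallyQuasiFinite_of_etale p.left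
  have hzc : IsClosed ({z} : Set _) := by
    rw [← closure_subset_iff_isClosed]
    intro z' hz'
    have hs : z ⤳ z' := specializes_iff_mem_closure.2 hz'
    have hp : p.left z' = p.left z := hu.closure_subset (specializes_iff_mem_closure.1 (hs.map p.left.continuous))
    exact (AlgSpDecent.eq_of_specializes_of_lqf p.left hs hp.symm).symm
  show Dual3.resTrdeg q.left z = 0
  rw [AlgSpRel14.resTrdeg_eq_rd, ← q.left.fiberι_asFiber z, FibDim14.rd_fiberι,
    (VarDim.sdim_eq_zero_iff_isClosed _ _).2 ?_, Nat.cast_zero]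
  convert hzc.preimage (q.left.fiberι (q.left z)).continuous using 1
  ext w'
  constructor
  · rintro rfl
    exact q.left.fiberι_asFiber z
  · exact fun hw => (q.left.fiberι (q.left z)).isEmbedding.injective
      ((show q.left.fiberι (q.left z) w' = z from hw).trans (q.left.fiberι_asFiber z).symm)

end Groth.Agent.S10318
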