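import Groth.Statements.S10319
import Groth.Agent.Lib.AlgSpRel14.RelDim

set_option autoImplicit false
universe u
open CategoryTheory CategoryTheory.Limits AlgebraicGeometry
open AlgSp

set_option backward.isDefEq.respectTransparency.types false

namespace Groth.Agent.S10319

/-- Transcendence degrees at a point add up along a composition of morphisms locally of finite type. -/
theorem result {S : Scheme.{u}} {X Y Z : AlgSp.Space S} (f : X ⟶ Y) (g : Y ⟶ Z)
    (hf : AlgSp.LocP @LocallyOfFiniteType f.hom) (hg : AlgSp.LocP @LocallyOfFiniteType g.hom)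
    (x : AlgSp.Points X.obj) (r₁ r₂ : Cardinal.{u})
    (h1 : AlgSp.HasAtMor (fun _ _ h u => Dual3.resTrdeg h u = r₁) f.hom x)
    (h2 : AlgSp.HasAtMor (fun _ _ h u => Dual3.resTrdeg h u = r₂) g.hom (AlgSp.Points.map f.hom x)) :
    AlgSp.HasAtMor (fun _ _ h u => Dual3.resTrdeg h u = r₁ + r₂) (f ≫ g).hom x := by
  have hfg := AlgSpRel14.locP_comp_lft Y.property X.property Z.property hf hg
  obtain ⟨U, V, W, a, b, c, h, k, u, ha, hb, hc, w, wk, wc, rfl, hv⟩ :=
    AlgSpRel14.exists_triangle X.property Y.property Z.property f.hom g.hom x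
  haveI : LocallyOfFiniteType h.left := hf a b h ha hb w
  haveI : LocallyOfFiniteType k.left := hg b c k hb hc wk
  rw [← hv, AlgSpRel14.hasAtMor_iff_of_chart (AlgSpRel14.etInvOn_rd (· = r₂)) hg hb hc wk] at h2
  rw [AlgSpRel14.hasAtMor_iff_of_chart (AlgSpRel14.etInvOn_rd (· = r₁)) hf ha hb w] at h1
  refine ⟨U, W, a, c, h ≫ k, u, ha, hc, wc, rfl, ?_⟩
  rw [AlgSpRel14.resTrdeg_eq_rd] at h1 h2
  rw [show (h ≫ k).left = h.left ≫ k.left from rfl, AlgSpRel14.resTrdeg_eq_rd, FibDim14.rd_comp, ← h1, ← h2,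
    Nat.cast_add, add_comm]

end Groth.Agent.S10319
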