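import Groth.Statements.S10320
import Groth.Agent.Lib.AlgSpRel14.RelDim

set_option autoImplicit false
universe u
open CategoryTheory CategoryTheory.Limits AlgebraicGeometry
open AlgSp

set_option backward.isDefEq.respectTransparency.types false

namespace Groth.Agent.S10320

/-- For f locally of finite type, the relative dimension of f at x equals the dimension of the local
ring of the fibre at x plus the transcendence degree of x over its image. -/
theorem result {S : Scheme.{u}} {X Y : AlgSp.Space S} (f : X ⟶ Y)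
    (hf : AlgSp.LocP @LocallyOfFiniteType f.hom) (x : AlgSp.Points X.obj) (d e : WithBot ℕ∞) (r : Cardinal.{u})
    (hd : AlgSp.HasAtMor (fun _ _ h u => FlatMor.fibreDimAt h u = d) f.hom x)
    (he : AlgSp.HasAtMor (fun _ _ h u => ringKrullDim ↥((h.fiber (h u)).presheaf.stalk (h.asFiber u)) = e) f.hom x)
    (hr : AlgSp.HasAtMor (fun _ _ h u => Dual3.resTrdeg h u = r) f.hom x) :
    d = e + ((Cardinal.toENat r : ℕ∞) : WithBot ℕ∞) := by
  obtain ⟨U, V, a, b, h, u, ha, hb, w, rfl, he⟩ := he
  haveI : LocallyOfFiniteType h.left := hf a b h ha hb w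
  rw [AlgSpRel14.hasAtMor_fibreDimAt_iff (R := (· = d)) hf ha hb w] at hd
  rw [AlgSpRel14.hasAtMor_iff_of_chart (AlgSpRel14.etInvOn_rd (· = r)) hf ha hb w] at hr
  rw [← hd, ← he, ← hr, AlgSpRel14.toENat_resTrdeg, ← FibDim14.localDim_asFiber_eq]

end Groth.Agent.S10320
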