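import Groth.Statements.S10321
import Groth.Agent.Lib.AlgSpace.EtaleApps

set_option autoImplicit false
universe u
open CategoryTheory CategoryTheory.Limits AlgebraicGeometry
open AlgSp

set_option backward.isDefEq.respectTransparency.types false

namespace Groth.Agent.S10321

/-- Let X be separated and locally quasi-finite over an affine scheme T, let T' -> T be etale with T'
affine, and let V' be an open subspace of T' ×_T X that is quasi-affine over T'. Then V' maps onto a
quasi-compact open subspace of X that is itself a scheme. -/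
theorem result {S : Scheme.{u}} {T T' : Over S} [IsAffine T.left]
    [IsAffine T'.left] (e : T' ⟶ T) [Etale e.left] {X P V' : AlgSp.Space S} (f : X ⟶ (AlgSp.ofScheme S).obj T)
    (hsep : AlgSp.IsSeparatedMor f.hom) (hqf : AlgSp.LocP (@LocallyQuasiFinite ⊓ @LocallyOfFiniteType) f.hom)
    (p1 : P ⟶ (AlgSp.ofScheme S).obj T') (p2 : P ⟶ X)
    (sq : IsPullback p2.hom p1.hom f.hom ((AlgSp.yon S).map e)) (j : V' ⟶ P)
    (hj : AlgSp.RepWith @IsOpenImmersion j.hom) (hqa : AlgSp.IsQuasiAffineMor (j ≫ p1).hom) :
    ∃ (W : Over S) (i : (AlgSp.yon S).obj W ⟶ X.obj), AlgSp.RepWith @IsOpenImmersion i ∧ CompactSpace ↥W.left ∧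
      Set.range (AlgSp.Points.map i) = Set.range (AlgSp.Points.map (j ≫ p2).hom) := by
  obtain ⟨A, i, a, sqA, hA⟩ := hqa (Z := T') inferInstance (𝟙 _)
  have : IsIso (𝟙 ((AlgSp.yon S).obj T')) := IsIso.id _
  have : IsIso a := sqA.isIso_fst_of_isIso (inst := this)
  have : CompactSpace (AlgSp.Points ((AlgSp.yon S).obj A)) :=
    (AlgSpace.compactSpace_yon_iff A).2 inferInstance
  have : CompactSpace (AlgSp.Points V'.obj) :=
    AlgSpace.compactSpace_of_surjective a (AlgSpace.bijective_map_iso (e := a)).2
  have hp : AlgSp.RepWith @Etale p2.hom :=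
    AlgSpace.repWith_of_isPullback sq.flip ((AlgSp.repWith_yon_map_iff _ _).2 ‹_›)
  have hopen : IsOpenMap (AlgSp.Points.map p2.hom) :=
    (AlgSpace.isUnivOpenMor_of_flat_lfp P.property X.property
      (AlgSpace.locP_of_repWith X.property (AlgSpace.repWith_mono AlgSpace.etale_le_flat hp))
      (AlgSpace.locP_of_repWith X.property (AlgSpace.repWith_mono AlgSpace.etale_le_lfp hp)))
      X.property (𝟙 _) (𝟙 _) p2.hom (IsPullback.of_vert_isIso ⟨by simp⟩).flip
  have hO : IsOpen (Set.range (AlgSp.Points.map (j ≫ p2).hom)) := by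
    change IsOpen (Set.range (AlgSp.Points.map (j.hom ≫ p2.hom)))
    rw [AlgSpace.map_comp_eq, Set.range_comp]
    exact hopen _ (AlgSpace.isOpen_range_map_of_openImmersion hj)
  exact AlgSpace.exists_open_scheme_of_range X.property f.hom hsep hqf hO
    (isCompact_range (AlgSp.Points.continuous_map _))

end Groth.Agent.S10321
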