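import Groth.Statements.S10322
import Groth.Agent.Lib.AlgSpace.OpenFlat

set_option autoImplicit false
universe u
open CategoryTheory CategoryTheory.Limits AlgebraicGeometry
open AlgSp

namespace Groth.Agent.S10322

/-- Unramified at a point implies quasi-finite at that point; an unramified morphism of algebraic spaces
is locally quasi-finite. -/
theorem result {S : Scheme.{u}} {X Y : AlgSp.Space S} (f : X ⟶ Y) :
    (∀ x : AlgSp.Points X.obj, AlgSp.HasAtMor (fun U _ h u => ∃ W : U.Opens, u ∈ W ∧ LocallyOfFiniteType (W.ι ≫ h) ∧ FormallyUnramified (W.ι ≫ h)) f.hom x → AlgSp.HasAtMor (fun U _ h u => ∃ W : U.Opens, u ∈ W ∧ LocallyQuasiFinite (W.ι ≫ h) ∧ LocallyOfFiniteType (W.ι ≫ h)) f.hom x) ∧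
    (AlgSp.LocP (@LocallyOfFiniteType ⊓ @FormallyUnramified) f.hom →
      AlgSp.LocP (@LocallyQuasiFinite ⊓ @LocallyOfFiniteType) f.hom) := by
  refine ⟨fun x ⟨U, V, a, b, h, u, ha, hb, w, hx, W, hu, h₁, h₂⟩ => ⟨U, V, a, b, h, u, ha, hb, w, hx, W, hu,
    @AlgSpace.locallyQuasiFinite_of_unramified _ _ (W.ι ≫ h.left) h₁ h₂, h₁⟩,
    fun hf U V a b h ha hb w => ?_⟩
  obtain ⟨h₁, h₂⟩ := hf a b h ha hb w
  exact ⟨@AlgSpace.locallyQuasiFinite_of_unramified _ _ h.left h₁ h₂, h₁⟩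

end Groth.Agent.S10322
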