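import Groth.Statements.S10323
import Groth.Agent.Lib.DimFormula14.Scheme
import Groth.Agent.Lib.AlgSpDecent.LocNoeth

set_option autoImplicit false
universe u
open CategoryTheory CategoryTheory.Limits AlgebraicGeometry
open AlgSp

set_option backward.isDefEq.respectTransparency.types false

namespace Groth.Agent.S10323

/-- For Y locally Noetherian and f locally of finite type, the dimension of the local ring of X at x is
at most the dimension of the local ring of Y at the image point plus E minus the transcendence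
degree of x over its image, where E bounds the transcendence degrees of the codimension-0 points
specializing to x. -/
theorem result {S : Scheme.{u}} {X Y : AlgSp.Space S} (f : X ⟶ Y)
    (hY : AlgSp.IsLocNoethSp Y.obj) (hf : AlgSp.LocP @LocallyOfFiniteType f.hom) (x : AlgSp.Points X.obj)
    (E : Cardinal.{u})
    (hE : ∀ ξ : AlgSp.Points X.obj, ξ ⤳ x → AlgSp.HasAt (fun U u => ringKrullDim ↥(U.presheaf.stalk u) = 0) X.obj ξ →
      ∀ s : Cardinal.{u}, AlgSp.HasAtMor (fun _ _ h u => Dual3.resTrdeg h u = s) f.hom ξ → s ≤ E)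
    (a b : WithBot ℕ∞) (r : Cardinal.{u})
    (ha : AlgSp.HasAt (fun U u => ringKrullDim ↥(U.presheaf.stalk u) = a) X.obj x)
    (hb : AlgSp.HasAt (fun U u => ringKrullDim ↥(U.presheaf.stalk u) = b) Y.obj (AlgSp.Points.map f.hom x))
    (hr : AlgSp.HasAtMor (fun _ _ h u => Dual3.resTrdeg h u = r) f.hom x) :
    a + ((Cardinal.toENat r : ℕ∞) : WithBot ℕ∞) ≤ b + ((Cardinal.toENat E : ℕ∞) : WithBot ℕ∞) := by
  obtain ⟨U, V, a', b', h, u, hae, hbe, w, rfl⟩ := AlgSpRel14.exists_diagram X.property Y.property f.hom x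
  have := AlgSpDecent.isLocallyNoetherian_of_etale_chart hY hbe
  haveI : LocallyOfFiniteType h.left := hf a' b' h hae hbe w
  have hQ : ∀ c : WithBot ℕ∞, ∀ ⦃A B : Scheme.{u}⦄ (g : A ⟶ B), Etale g → ∀ z,
      ringKrullDim ↥(A.presheaf.stalk z) = c ↔ ringKrullDim ↥(B.presheaf.stalk (g z)) = c :=
    fun c A B g _ z => by rw [AlgSpDecent.ringKrullDim_stalk_etale g z]
  rw [AlgSp.Points.map_ofPt, w, AlgSpDecent.ofPt_map_comp, AlgSpDecent.hasAt_iff_of_chart (hQ b) hbe] at hb
  rw [AlgSpDecent.hasAt_iff_of_chart (hQ a) hae] at ha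
  rw [AlgSpRel14.hasAtMor_iff_of_chart (AlgSpRel14.etInvOn_rd (· = r)) hf hae hbe w] at hr
  obtain ⟨ξ, hξ, h0, hle⟩ := DimFormula14.exists_stalkDim_add_rd_le h.left u
  have hE' := hE _ (hξ.map (AlgSp.Points.continuous_ofPt a')) ⟨U, a', ξ, hae, rfl, h0⟩ _
    ⟨U, V, a', b', h, ξ, hae, hbe, w, rfl, rfl⟩
  rw [← ha, ← hb, ← hr, AlgSpRel14.toENat_resTrdeg]
  refine hle.trans (add_le_add le_rfl ?_)
  rw [← AlgSpRel14.toENat_resTrdeg]
  exact WithBot.coe_le_coe.2 (OrderHomClass.mono Cardinal.toENat hE')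

end Groth.Agent.S10323
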