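import Groth.Statements.S10324
import Groth.Agent.Lib.DimFormula14.Scheme
import Groth.Agent.Lib.AlgSpDecent.LocNoeth

set_option autoImplicit false
universe u
open CategoryTheory CategoryTheory.Limits AlgebraicGeometry
open AlgSp

set_option backward.isDefEq.respectTransparency.types false

namespace Groth.Agent.S10324

/-- For Y locally Noetherian and f : X -> Y locally of finite type, dim X ≤ dim Y + E where E bounds the
transcendence degrees over Y of the codimension-0 points of X. -/
theorem result {S : Scheme.{u}} {X Y : AlgSp.Space S} (f : X ⟶ Y)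
    (hY : AlgSp.IsLocNoethSp Y.obj) (hf : AlgSp.LocP @LocallyOfFiniteType f.hom) (E : Cardinal.{u})
    (hE : ∀ ξ : AlgSp.Points X.obj, AlgSp.HasAt (fun U u => ringKrullDim ↥(U.presheaf.stalk u) = 0) X.obj ξ → ∀ s : Cardinal.{u}, AlgSp.HasAtMor (fun _ _ h u => Dual3.resTrdeg h u = s) f.hom ξ → s ≤ E) :
    AlgSp.dim X.obj ≤ AlgSp.dim Y.obj + ((Cardinal.toENat E : ℕ∞) : WithBot ℕ∞) := by
  obtain ⟨U, V, a', b', h, hae, has, hbe, hbs, w⟩ := AlgSpace.exists_chart_square X.property Y.property f.hom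
  have := AlgSpDecent.isLocallyNoetherian_of_etale_chart hY hbe
  haveI : LocallyOfFiniteType h.left := hf a' b' h hae hbe w
  rw [AlgSpDecent.dim_eq_of_chart hae has, AlgSpDecent.dim_eq_of_chart hbe hbs, AlgSpRel14.dim_eq_iSup_stalk U.left]
  refine iSup_le fun u => ?_
  obtain ⟨ξ, hξ, h0, hle⟩ := DimFormula14.exists_stalkDim_add_rd_le h.left u
  have hE' := hE _ ⟨U, a', ξ, hae, rfl, h0⟩ _ ⟨U, V, a', b', h, ξ, hae, hbe, w, rfl, rfl⟩
  refine (le_add_of_nonneg_right (by exact_mod_cast Nat.zero_le (FibDim14.rd h.left u))).trans (hle.trans ?_)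
  refine add_le_add (AlgSpRel14.stalkDim_le_dim V.left _) ?_
  rw [← AlgSpRel14.toENat_resTrdeg]
  exact WithBot.coe_le_coe.2 (OrderHomClass.mono Cardinal.toENat hE')

end Groth.Agent.S10324
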