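import Groth.Statements.S10325
import Groth.Agent.Lib.AlgSpace.Affine
import Groth.Agent.Lib.AlgSpDescent.AffineCrit
import Groth.Agent.Lib.HTop25.Basic
import Mathlib.CategoryTheory.Extensive

set_option autoImplicit false
universe u
open CategoryTheory CategoryTheory.Limits AlgebraicGeometry
open AlgSp

namespace Groth.Agent.S10325
open Groth.Agent.AlgSpace Groth.Agent.AlgSpDescent

set_option backward.isDefEq.respectTransparency.types false

theorem main {S : Scheme.{u}} {n : ℕ} (X : Fin n → Sp S) (Y : Sp S)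
    (g : ∀ i, X i ⟶ Y) (hg : ∀ i, RepWith @IsFinite (g i)) (c : Cofan X) (hc : IsColimit c)
    (d : c.pt ⟶ Y) (hd : ∀ i, c.inj i ≫ d = g i) : RepWith @IsFinite d := by
  refine repWith_mk fun T t => ?_
  let N : ULift.{u} (Fin n) → Over S := fun k => (hg k.down).1.pullback t
  let nn : ∀ k, N k ⟶ T := fun k => (hg k.down).1.snd t
  have sqN : ∀ k, IsPullback ((hg k.down).1.fst t) ((yon S).map (nn k)) (g k.down) t := fun k =>
    (hg k.down).1.isPullback t
  have hnn : ∀ k, IsFinite (nn k).left := fun k => (hg k.down).2 _ _ _ (sqN k)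
  let P := pullback d t
  let p : ∀ i : Fin n, (yon S).obj (N ⟨i⟩) ⟶ P := fun i =>
    pullback.lift ((hg i).1.fst t ≫ c.inj i) ((yon S).map (nn ⟨i⟩))
      (by rw [Category.assoc, hd]; exact (sqN ⟨i⟩).w)
  let c' : Cofan fun i : Fin n => (yon S).obj (N ⟨i⟩) := Cofan.mk P p
  have hp : ∀ i, IsPullback (p i) ((hg i).1.fst t) (pullback.fst d t) (c.inj i) := by
    intro i
    refine (IsPullback.of_bot ?_ ?_ (IsPullback.of_hasPullback d t)).flip
    · rw [pullback.lift_snd, hd]
      exact sqN ⟨i⟩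
    · exact (pullback.lift_fst _ _ _).symm
  obtain ⟨hc'⟩ := FinitaryPreExtensive.isUniversal_finiteCoproducts hc c'
    (Discrete.natTrans fun i => (hg i.as).1.fst t) (pullback.fst d t)
    (NatTrans.ext (funext fun ⟨i⟩ => (hp i).w.symm))
    (NatTrans.Equifibered.of_discrete _) (fun ⟨i⟩ => hp i)
  obtain ⟨hcol⟩ := nonempty_isColimit_coprodOver N
  let m : coprodOver N ⟶ T := Over.homMk (Limits.Sigma.desc fun k => (nn k).left) (by
    apply Sigma.hom_ext; intro k; simp)
  let e : (yon S).obj (coprodOver N) ⟶ P := Cofan.IsColimit.desc hcol fun k => p k.down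
  have he : ∀ k, (yon S).map (coprodOverι N k) ≫ e = p k.down := fun k =>
    Cofan.IsColimit.fac hcol _ k
  let e' : P ⟶ (yon S).obj (coprodOver N) :=
    Cofan.IsColimit.desc hc' fun i => (yon S).map (coprodOverι N ⟨i⟩)
  have he' : ∀ i, p i ≫ e' = (yon S).map (coprodOverι N ⟨i⟩) := fun i =>
    Cofan.IsColimit.fac hc' _ i
  have h1 : e ≫ e' = 𝟙 _ := Cofan.IsColimit.hom_ext hcol _ _ fun k => by
    change (yon S).map (coprodOverι N k) ≫ e ≫ e' = (yon S).map (coprodOverι N k) ≫ 𝟙 _
    rw [← Category.assoc, he, he', Category.comp_id]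
  have h2 : e' ≫ e = 𝟙 _ := Cofan.IsColimit.hom_ext hc' _ _ fun i => by
    change p i ≫ e' ≫ e = p i ≫ 𝟙 _
    rw [← Category.assoc, he', he, Category.comp_id]
  have hem : e ≫ pullback.snd d t = (yon S).map m := Cofan.IsColimit.hom_ext hcol _ _ fun k => by
    change (yon S).map (coprodOverι N k) ≫ e ≫ pullback.snd d t = (yon S).map (coprodOverι N k) ≫ _
    rw [← Category.assoc, he, pullback.lift_snd, ← Functor.map_comp]
    congr 1
    exact Over.OverMorphism.ext (Sigma.ι_desc (fun k => (nn k).left) k).symm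
  refine ⟨coprodOver N, e ≫ pullback.fst d t, m, ?_, ?_⟩
  · exact (IsPullback.of_hasPullback d t).of_iso ⟨e', e, h2, h1⟩ (Iso.refl _) (Iso.refl _) (Iso.refl _)
      (by simp [reassoc_of% h2]) (by simp [← hem, reassoc_of% h2]) (by simp) (by simp)
  · exact Groth.Agent.HTop25.isFinite_sigmaDesc fun k => (nn k).left


/-- A finite disjoint union of algebraic spaces finite over Y is finite over Y. -/
theorem result {S : Scheme.{u}} {n : ℕ} (X : Fin n → AlgSp.Space S) (Y : AlgSp.Space S)
    (g : ∀ i, X i ⟶ Y) (hg : ∀ i, AlgSp.IsFiniteMor (g i).hom) (c : Cofan fun i => (X i).obj) (hc : IsColimit c)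
    (d : c.pt ⟶ Y.obj) (hd : ∀ i, c.inj i ≫ d = (g i).hom) : AlgSp.IsFiniteMor d := by
  exact Groth.Agent.AlgSpace.isFiniteMor_iff_repWith.2 (main (fun i => (X i).obj) Y.obj (fun i => (g i).hom)
    (fun i => Groth.Agent.AlgSpace.isFiniteMor_iff_repWith.1 (hg i)) c hc d hd)

end Groth.Agent.S10325
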