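import Groth.Statements.S10327
import Groth.Agent.Lib.AlgSpace.ValLift

set_option autoImplicit false
universe u
open CategoryTheory CategoryTheory.Limits AlgebraicGeometry
open AlgSp

set_option backward.isDefEq.respectTransparency.types false

namespace Groth.Agent.S10327

/-- For f quasi-compact and quasi-separated, f is separated and universally closed if and only if the
valuative criterion holds, if and only if every valuative square has a unique lift. -/
theorem result {S : Scheme.{u}} {X Y : AlgSp.Space S} (f : X ⟶ Y)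
    (hqc : AlgSp.IsQuasiCompactMor f.hom) (hqs : AlgSp.IsQuasiSeparatedMor f.hom) :
    ((AlgSp.IsSeparatedMor f.hom ∧ AlgSp.IsUnivClosedMor f.hom) ↔ AlgSp.VC f.hom) ∧
    ((AlgSp.IsSeparatedMor f.hom ∧ AlgSp.IsUnivClosedMor f.hom) ↔
      (AlgSp.UniqVC f.hom ∧ AlgSp.ExistVCStrict f.hom)) := by
  have key : (AlgSp.IsSeparatedMor f.hom ∧ AlgSp.IsUnivClosedMor f.hom) ↔ AlgSp.VC f.hom :=
    ⟨fun h => ⟨Groth.Agent.AlgSpace.uniqVC_of_isSeparatedMor h.1,
        Groth.Agent.AlgSpace.existVC_of_isUnivClosedMor X.property Y.property hqs h.2⟩,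
      fun h => ⟨Groth.Agent.AlgSpace.isSeparatedMor_of_uniqVC X.property hqs h.1,
        Groth.Agent.AlgSpace.isUnivClosedMor_of_existVC X.property Y.property hqc h.2⟩⟩
  refine ⟨key, fun h => ⟨(key.1 h).1, fun sq => ?_⟩, fun h => key.2 ⟨h.1, fun sq => ?_⟩⟩
  · obtain ⟨e, he⟩ := (key.1 h).2 sq
    exact Groth.Agent.AlgSpace.hasLift_of_domExt X.property Y.property h.1 sq e he
  · obtain ⟨l, h₁, h₂⟩ := h.2 sq
    refine ⟨{ A' := sq.A, K' := sq.K, φ := RingHom.id _, ψ := RingHom.id _, comm := rfl,
              isLocalHom := ⟨fun a ha => ha⟩ },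
      (AlgSp.yon S).map (Groth.Agent.AlgSpace.castOver (by simp)) ≫ l, ?_, ?_⟩
    · rw [← Functor.map_comp_assoc, ← h₁, ← Functor.map_comp_assoc]
      congr 2
      ext1
      simp
    · rw [Category.assoc, h₂]
      congr 2
      ext1
      simp

end Groth.Agent.S10327
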