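import Groth.Statements.S10328
import Groth.Agent.Lib.AlgSpRel14.RelDim

set_option autoImplicit false
universe u
open CategoryTheory CategoryTheory.Limits AlgebraicGeometry
open AlgSp

set_option backward.isDefEq.respectTransparency.types false

namespace Groth.Agent.S10328

/-- The relative dimension of a composite at a point is at most the sum of the relative dimensions, with
equality when the first morphism is flat at the point. (The published part (2) allows more generally
flatness of a fibre of X -> Y over a field point of Z; only the case f flat at x is stated.) -/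
theorem result {S : Scheme.{u}} {X Y Z : AlgSp.Space S} (f : X ⟶ Y) (g : Y ⟶ Z)
    (hf : AlgSp.LocP @LocallyOfFiniteType f.hom) (hg : AlgSp.LocP @LocallyOfFiniteType g.hom)
    (x : AlgSp.Points X.obj) (a b : WithBot ℕ∞)
    (ha : AlgSp.HasAtMor (fun _ _ h u => FlatMor.fibreDimAt h u = a) f.hom x)
    (hb : AlgSp.HasAtMor (fun _ _ h u => FlatMor.fibreDimAt h u = b) g.hom (AlgSp.Points.map f.hom x)) :
    AlgSp.HasAtMor (fun _ _ h u => FlatMor.fibreDimAt h u ≤ a + b) (f ≫ g).hom x ∧
    (AlgSp.IsFlatAtMor f.hom x → AlgSp.HasAtMor (fun _ _ h u => FlatMor.fibreDimAt h u = a + b) (f ≫ g).hom x) := by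
  have hfg := AlgSpRel14.locP_comp_lft Y.property X.property Z.property hf hg
  obtain ⟨U, V, W, pa, pb, pc, h, k, u, hpa, hpb, hpc, w, wk, wc, rfl, hv⟩ :=
    AlgSpRel14.exists_triangle X.property Y.property Z.property f.hom g.hom x
  haveI : LocallyOfFiniteType h.left := hf pa pb h hpa hpb w
  haveI : LocallyOfFiniteType k.left := hg pb pc k hpb hpc wk
  rw [← hv, AlgSpRel14.hasAtMor_fibreDimAt_iff (R := (· = b)) hg hpb hpc wk] at hb
  rw [AlgSpRel14.hasAtMor_fibreDimAt_iff (R := (· = a)) hf hpa hpb w] at ha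
  refine ⟨⟨U, W, pa, pc, h ≫ k, u, hpa, hpc, wc, rfl, ?_⟩, fun hfl => ⟨U, W, pa, pc, h ≫ k, u, hpa, hpc, wc, rfl, ?_⟩⟩
  · rw [← ha, ← hb]; exact FibDim14.fibreDimAt_comp_le h.left k.left u
  · rw [← ha, ← hb]
    exact FibDim14.fibreDimAt_comp_eq h.left k.left
      (FibDim14.goDown_of_flat_stalk h.left u (hfl pa pb h u hpa hpb w rfl))

end Groth.Agent.S10328
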