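import Groth.Statements.S10329
import Groth.Agent.Lib.AlgSpRel14.Lqf
import Groth.Agent.Lib.AlgSpDecent.HasAtChart

set_option autoImplicit false
universe u
open CategoryTheory CategoryTheory.Limits AlgebraicGeometry
open AlgSp

set_option backward.isDefEq.respectTransparency.types false

namespace Groth.Agent.S10329

/-- If the fibre of a morphism locally of finite type has dimension 0 at a point, then the morphism is
locally quasi-finite on some open subspace containing the image of that point. -/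
theorem result {S : Scheme.{u}} {X Y F : AlgSp.Space S} (f : X ⟶ Y)
    (hf : AlgSp.LocP @LocallyOfFiniteType f.hom) (k : Type u) [Field k] (str : Spec (.of k) ⟶ S)
    (y : (AlgSp.yon S).obj (Over.mk str) ⟶ Y.obj) (p : F ⟶ X) (q : F.obj ⟶ (AlgSp.yon S).obj (Over.mk str))
    (sq : IsPullback p.hom q f.hom y) (z : AlgSp.Points F.obj)
    (hz : AlgSp.HasAt (fun U u => FlatMor.localDim ↥U u = 0) F.obj z) :
    ∃ (X' : AlgSp.Space S) (j : X' ⟶ X), AlgSp.RepWith @IsOpenImmersion j.hom ∧
      AlgSp.Points.map p.hom z ∈ Set.range (AlgSp.Points.map j.hom) ∧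
      AlgSp.LocP (@LocallyQuasiFinite ⊓ @LocallyOfFiniteType) (j ≫ f).hom := by
  obtain ⟨X', j, hj, hloc, hr⟩ := AlgSpRel14.exists_lqf_open f
  refine ⟨X', j, hj, ?_, hloc⟩
  rw [hr, Set.mem_setOf_eq]
  obtain ⟨U, V, U', V', a, b, h, a', b', h', π, β, hae, -, hbe, -, ha'e, ha's, -, -, w, w', wp, -, sqs⟩ :=
    AlgSpRel14.exists_cart_diagram X.property Y.property (AlgSp.IsAlgSpace.yon_obj (Over.mk str)) sq
  have := AlgSpRel14.lft_of_chart hf hae hbe w
  haveI : LocallyOfFiniteType h'.left := MorphismProperty.of_isPullback sqs inferInstance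
  obtain ⟨u', rfl⟩ := AlgSpace.surjective_ofPt ha's z
  rw [AlgSpDecent.hasAt_iff_of_chart (fun A B g _ a => by rw [AlgSpDecent.localDim_etale g a]) ha'e] at hz
  rw [AlgSp.Points.map_ofPt, wp, AlgSpDecent.ofPt_map_comp, AlgSpRel14.hasAtMor_near_iff AlgSpRel14.LqfLft hae hbe w,
    AlgSpRel14.near_lqf_iff, ← FibDim14.fibreDimAt_baseChange sqs]
  obtain ⟨y, -, -, hd, -⟩ := FibDim14.exists_fibreDimAt_eq h'.left u'
  refine le_antisymm ?_ (hd.symm ▸ by exact_mod_cast Nat.zero_le _)
  rw [FibDim14.fibreDimAt_eq_localDim_preimage]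
  exact (FibDim14.localDim_le_of_isEmbedding Topology.IsEmbedding.subtypeVal _).trans hz.le

end Groth.Agent.S10329
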