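import Groth.Statements.S1033
import Groth.Agent.Lib.DerAlg.Efface
import Mathlib.Algebra.Homology.DerivedCategory.Ext.ExactSequences

set_option autoImplicit false
universe w v u
open CategoryTheory CategoryTheory.Abelian
open CohDer

open CategoryTheory.Limits

namespace Groth.Agent.S1033


/-- Let A be an abelian category (with Ext groups in some universe) and p ≥ 0. If Extᵖ(B, C) = 0 for all
objects B, C, then Extⁱ(B, C) = 0 for all i ≥ p and all B, C. -/
theorem result {A : Type u} [Category.{v} A] [Abelian A] [HasExt.{w} A] (p : ℕ)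
    (h : ∀ (B C : A) (x : Ext B C p), x = 0) (i : ℕ) (hi : p ≤ i) (B C : A) (x : Ext B C i) : x = 0 := by
  induction i, hi using Nat.le_induction generalizing B C with
  | base => exact h B C x
  | succ i hi ih =>
    let := HasDerivedCategory.standard A
    obtain ⟨B', π, hπ, hk⟩ : ∃ (B' : A) (π : B' ⟶ B), Epi π ∧ (Ext.mk₀ π).comp x (zero_add _) = 0 := by
      have : (((DerivedCategory.singleFunctor A 0).obj C)⟦((i + 1 : ℕ) : ℤ)⟧).IsLE (-1) := by
        have := DerivedCategory.TStructure.t.isLE_shift ((DerivedCategory.singleFunctor A 0).obj C) 0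
          ((i + 1 : ℕ) : ℤ) (-((i + 1 : ℕ) : ℤ))
        exact DerivedCategory.TStructure.t.isLE_of_le _ (-((i + 1 : ℕ) : ℤ)) (-1)
      obtain ⟨B', p, hp, h0⟩ := Groth.Agent.DerAlg.exists_epi_comp_eq_zero x.hom
      refine ⟨B', p, hp, ?_⟩
      apply Ext.ext
      simp [Ext.comp_hom, Ext.mk₀_hom, ShiftedHom.mk₀_comp, h0]
    have hS : (ShortComplex.mk _ _ (kernel.condition π)).ShortExact :=
      { exact := ShortComplex.exact_kernel π }
    obtain ⟨y, rfl⟩ := Ext.contravariant_sequence_exact₃ hS C x hk (n₀ := i) (by omega)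
    rw [ih (kernel π) C y, Ext.comp_zero]


end Groth.Agent.S1033
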