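import Groth.Statements.S10331
import Groth.Agent.Lib.MonicUC14.Global

set_option autoImplicit false
universe u
open CategoryTheory CategoryTheory.Limits AlgebraicGeometry Opposite
open AlgSp

namespace Groth.Agent.S10331

/-- Let f : X -> h_V be a quasi-compact, quasi-separated and universally closed morphism from an
algebraic space over S to an affine scheme V over S. Then every global section of O_X (a compatible
family of functions on the schemes etale over X) satisfies a monic polynomial with coefficients in
Γ(V, O_V). (The published statement has an arbitrary algebraic space as target and says that f_*O_X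
is integral over O_Y, which is this assertion for the base change of f to every affine scheme etale
over the target; the reformulation through the relative spectrum of f_*O_X is not included.) -/
theorem result {S : Scheme.{u}} (V : Over S) [IsAffine V.left] (X : AlgSp.Space S)
    (f : X ⟶ (AlgSp.ofScheme S).obj V) (hqc : AlgSp.IsQuasiCompactMor f.hom)
    (hqs : AlgSp.IsQuasiSeparatedMor f.hom) (huc : AlgSp.IsUnivClosedMor f.hom)
    (s : ↥(AlgSp.gsectEt (AlgSp.OEt X.obj) : CommRingCat.{u + 1})) :
    ∃ p : Polynomial Γ(V.left, ⊤), p.Monic ∧
      ∀ E : AlgSp.EtOver X.obj,
        Polynomial.eval₂ ((AlgSp.yon S).preimage (E.obj.hom ≫ f.hom)).left.appTop.hom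
          ((limit.π (AlgSp.OEt X.obj).obj (op E)) s).down p = 0 := by
  exact Groth.Agent.MonicUC14.exists_monic f.hom hqc huc s

end Groth.Agent.S10331
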