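import Groth.Statements.S10332
import Groth.Agent.Lib.QcohSub14.IntClosure

set_option autoImplicit false
universe u
open CategoryTheory CategoryTheory.Limits AlgebraicGeometry Opposite
open AlgSp

namespace Groth.Agent.S10332

/-- For an algebraic space X over S and a quasi-coherent sheaf of O_X-algebras A on the small etale site
of X (a sheaf of commutative rings A with O_X -> A, quasi-coherent as an O_X-module), there is a
quasi-coherent O_X-subalgebra A' of A whose sections over every affine object U of the site are
exactly the elements of A(U) integral over O_X(U). -/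
theorem result {S : Scheme.{u}} (X : AlgSp.Space S)
    (A : AlgSp.EtSh X.obj CommRingCat.{u + 1}) (φ : AlgSp.OEt X.obj ⟶ A)
    [((SheafOfModules.restrictScalars
        ((sheafCompose (AlgSp.etTop X.obj) (forget₂ CommRingCat.{u + 1} RingCat.{u + 1})).map φ)).obj
      (SheafOfModules.unit
        ((sheafCompose (AlgSp.etTop X.obj) (forget₂ CommRingCat.{u + 1} RingCat.{u + 1})).obj A))).IsQuasicoherent] :
    ∃ (A' : AlgSp.EtSh X.obj CommRingCat.{u + 1}) (ι : A' ⟶ A) (φ' : AlgSp.OEt X.obj ⟶ A'),
      φ' ≫ ι = φ ∧ (∀ E : AlgSp.EtOver X.obj, Function.Injective (ι.hom.app (op E))) ∧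
      (∀ E : AlgSp.EtOver X.obj, IsAffine E.obj.left.left → ∀ x : A.obj.obj (op E),
        x ∈ Set.range (ι.hom.app (op E)) ↔ (φ.hom.app (op E)).hom.IsIntegralElem x) ∧
      ((SheafOfModules.restrictScalars
          ((sheafCompose (AlgSp.etTop X.obj) (forget₂ CommRingCat.{u + 1} RingCat.{u + 1})).map φ')).obj
        (SheafOfModules.unit
          ((sheafCompose (AlgSp.etTop X.obj) (forget₂ CommRingCat.{u + 1} RingCat.{u + 1})).obj A'))).IsQuasicoherent := by
  exact Groth.Agent.QcohSub14.exists_integralClosure φ

end Groth.Agent.S10332
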