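import Groth.Statements.S10333
import Groth.Agent.S10193
import Groth.Agent.Lib.AlgSpDescent.MonoLft
import Groth.Agent.Lib.AlgSpDecent.RedInduced
import Groth.Agent.Lib.AlgSpace.Affine

set_option autoImplicit false
universe u
open CategoryTheory CategoryTheory.Limits AlgebraicGeometry
open AlgSp

set_option backward.isDefEq.respectTransparency.types false

namespace Groth.Agent.S10333

open Groth.Agent.AlgSpace Groth.Agent.AlgSpDecent

variable {S : Scheme.{u}}

theorem main {Y X X' : Space S} (f : Y ⟶ X) {ν : X' ⟶ X} {f' : Y ⟶ X'}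
    (hn : IsRelNormalization f.hom ν.hom f'.hom) (hY : IsReducedSp Y.obj) : IsReducedSp X'.obj := by
  obtain ⟨Z, i, hi, hT, hZ⟩ := RedInduced.exists_isRedInduced X'
    (closure (Set.range (Points.map f'.hom))) isClosed_closure
  obtain ⟨g, hg⟩ := (S10193.result i hi hY f').2 (subset_closure.trans hT.ge)
  have hg' : g.hom ≫ i.hom = f'.hom := congrArg (fun q => q.hom) hg
  have hint : IsIntegralMor (i.hom ≫ ν.hom) := isIntegralMor_iff_repWith.2
    (repWith_comp (repWith_mono (Q := @IsIntegralHom) (fun _ _ g (hg : IsClosedImmersion g) => inferInstance) hi)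
      (isIntegralMor_iff_repWith.1 hn.2.1))
  obtain ⟨k, ⟨hk₁, hk₂⟩, -⟩ := hn.2.2 Z.property (i.hom ≫ ν.hom) g.hom hint
    (by rw [← Category.assoc, hg', hn.1])
  obtain ⟨k₀, -, hu⟩ := hn.2.2 X'.property ν.hom f'.hom hn.2.1 hn.1
  have e : k ≫ i.hom = 𝟙 X'.obj := by
    rw [hu (𝟙 _) ⟨Category.comp_id _, Category.id_comp _⟩]
    exact hu _ ⟨by rw [← Category.assoc, hk₁, hg'], by rw [Category.assoc, hk₂]⟩
  have := AlgSpDescent.mono_of_repWith_closedImmersion hi
  have : IsIso i.hom := ⟨k, by rw [← cancel_mono i.hom, Category.assoc, e, Category.comp_id, Category.id_comp], e⟩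
  obtain ⟨U, a, hae, has, hU⟩ := hZ
  exact ⟨U, a ≫ i.hom, (repWith_respectsIso_right i.hom).2 hae, (repWith_respectsIso_right i.hom).2 has, hU⟩

/-- Let f : Y -> X be a morphism of algebraic spaces over S that is quasi-compact and quasi-separated,
and X' -> X the normalization of X in Y (an integral morphism through which f factors, initial among
such factorizations). If Y is reduced then X' is reduced. -/
theorem result {S : Scheme.{u}} {Y X X' : AlgSp.Space S} (f : Y ⟶ X)
    (hqc : AlgSp.IsQuasiCompactMor f.hom) (hqs : AlgSp.IsQuasiSeparatedMor f.hom) (ν : X' ⟶ X) (f' : Y ⟶ X')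
    (hn : AlgSp.IsRelNormalization f.hom ν.hom f'.hom) (hY : AlgSp.IsReducedSp Y.obj) :
    AlgSp.IsReducedSp X'.obj := by
  exact Groth.Agent.S10333.main f hn hY

end Groth.Agent.S10333
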