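import Groth.Statements.S10334
import Groth.Agent.Lib.EtPush14.EssImage

set_option autoImplicit false
universe u
open CategoryTheory CategoryTheory.Limits AlgebraicGeometry Opposite
open AlgSp

namespace Groth.Agent.S10334

/-- Let f : Y -> X be an integral, universally injective morphism of algebraic spaces over S. A sheaf of
sets on the small etale site of X is isomorphic to a pushforward f_*F if and only if its value is a
one-element set on every etale scheme over X whose image misses f(|Y|); an abelian sheaf is
isomorphic to a pushforward if and only if its value is zero on every such scheme. (The published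
statement says 'restriction to the complement of f(|Y|) is a final object' and 'support contained in
f(|Y|)'; both conditions are written out on the etale schemes over the complement.) -/
theorem result {S : Scheme.{u}} {Y X : AlgSp.Space S} (f : Y ⟶ X)
    (hi : AlgSp.RepWith @IsIntegralHom f.hom) (hu : AlgSp.IsUnivInjectiveMor f.hom) :
    (∀ G : AlgSp.EtSh X.obj (Type (u + 1)),
      (AlgSp.pushEt hi.1 (Type (u + 1))).essImage G ↔
        ∀ E : AlgSp.EtOver X.obj,
          Disjoint (Set.range (AlgSp.Points.map E.obj.hom)) (Set.range (AlgSp.Points.map f.hom)) →
            Nonempty (Unique (G.obj.obj (op E)))) ∧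
    (∀ G : AlgSp.AbEt X.obj,
      (AlgSp.pushEt hi.1 AddCommGrpCat.{u + 1}).essImage G ↔
        ∀ E : AlgSp.EtOver X.obj,
          Disjoint (Set.range (AlgSp.Points.map E.obj.hom)) (Set.range (AlgSp.Points.map f.hom)) →
            Subsingleton ↥(G.obj.obj (op E))) := by
  have h := Groth.Agent.EtPush14.isIntUI_of hi hu
  refine ⟨fun G => Groth.Agent.EtPush14.essImage_type_iff hi.1 Y.property X.property h G, fun G => ?_⟩
  rw [Groth.Agent.EtPush14.essImage_ab_iff hi.1 Y.property X.property h G]
  refine forall_congr' fun E => imp_congr_right fun _ => ⟨fun ⟨i⟩ => @Unique.instSubsingleton _ i, fun i => ?_⟩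
  exact ⟨@uniqueOfSubsingleton _ i (0 : ↥(G.obj.obj (op E)))⟩

end Groth.Agent.S10334
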