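import Groth.Statements.S10335
import Groth.Agent.Lib.AlgSpRel14.RelDim

set_option autoImplicit false
universe u
open CategoryTheory CategoryTheory.Limits AlgebraicGeometry
open AlgSp

set_option backward.isDefEq.respectTransparency.types false

namespace Groth.Agent.S10335

/-- In a base change square of algebraic spaces with f : X -> Y locally of finite type and f' : X' -> Y'
its base change along g : Y' -> Y, take a point x' of X' over x. The fibre of f' has a local ring at
x' whose dimension exceeds the corresponding dimension for the fibre of f at x by exactly the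
transcendence degree of x over f(x) minus that of x' over f'(x'), and this excess is never negative;
and for x in X and y' in Y' over the same point of Y some x' over both has excess zero. All four
quantities are read on some chart diagram through the point. -/
theorem result {S : Scheme.{u}} {X Y Y' X' : AlgSp.Space S} (f : X ⟶ Y) (g : Y' ⟶ Y)
    (g' : X' ⟶ X) (f' : X' ⟶ Y') (sq : IsPullback g'.hom f'.hom f.hom g.hom)
    (hf : AlgSp.LocP @LocallyOfFiniteType f.hom) :
    (∀ (x' : AlgSp.Points X'.obj) (e e' : WithBot ℕ∞) (r r' : Cardinal.{u}),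
      AlgSp.HasAtMor (fun _ _ h u => ringKrullDim ↥((h.fiber (h u)).presheaf.stalk (h.asFiber u)) = e) f.hom
          (AlgSp.Points.map g'.hom x') →
      AlgSp.HasAtMor (fun _ _ h u => Dual3.resTrdeg h u = r) f.hom (AlgSp.Points.map g'.hom x') →
      AlgSp.HasAtMor (fun _ _ h u => ringKrullDim ↥((h.fiber (h u)).presheaf.stalk (h.asFiber u)) = e') f'.hom x' →
      AlgSp.HasAtMor (fun _ _ h u => Dual3.resTrdeg h u = r') f'.hom x' →
        e' + ((Cardinal.toENat r' : ℕ∞) : WithBot ℕ∞) = e + ((Cardinal.toENat r : ℕ∞) : WithBot ℕ∞) ∧ e ≤ e') ∧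
    (∀ (x : AlgSp.Points X.obj) (y' : AlgSp.Points Y'.obj) (e : WithBot ℕ∞),
      AlgSp.Points.map f.hom x = AlgSp.Points.map g.hom y' →
      AlgSp.HasAtMor (fun _ _ h u => ringKrullDim ↥((h.fiber (h u)).presheaf.stalk (h.asFiber u)) = e) f.hom x →
        ∃ x' : AlgSp.Points X'.obj, AlgSp.Points.map g'.hom x' = x ∧ AlgSp.Points.map f'.hom x' = y' ∧
          AlgSp.HasAtMor (fun _ _ h u => ringKrullDim ↥((h.fiber (h u)).presheaf.stalk (h.asFiber u)) = e)
            f'.hom x') := by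
  obtain ⟨U, V, U', V', a, b, h, a', b', h', p, β, hae, -, hbe, -, hae', has', hbe', -, w, w', wp, -, hsq⟩ :=
    AlgSpRel14.exists_cart_diagram X.property Y.property Y'.property sq
  haveI : LocallyOfFiniteType h.left := hf a b h hae hbe w
  haveI : LocallyOfFiniteType h'.left := MorphismProperty.of_isPullback hsq inferInstance
  have hmap : ∀ u' : U'.left, AlgSp.Points.map g'.hom (AlgSp.Points.ofPt a' u') = AlgSp.Points.ofPt a (p.left u') :=
    fun u' => by rw [Points.map_ofPt, wp, Groth.Agent.AlgSpDecent.ofPt_map_comp]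
  have hf' : AlgSp.LocP @LocallyOfFiniteType f'.hom :=
    AlgSpace.locP_of_one_chart a' b' h' hae' has' hbe' w' inferInstance
  -- the fibre data of a diagram determine those of the fixed chart
  have key : ∀ {A B : AlgSp.Space S} (φ : A ⟶ B) (hφ : AlgSp.LocP @LocallyOfFiniteType φ.hom) {P Q : Over S}
      (ca : (AlgSp.yon S).obj P ⟶ A.obj) (cb : (AlgSp.yon S).obj Q ⟶ B.obj) (m : P ⟶ Q) (q : P.left)
      (hca : AlgSp.RepWith @Etale ca) (hcb : AlgSp.RepWith @Etale cb) (wm : ca ≫ φ.hom = (AlgSp.yon S).map m ≫ cb)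
      [LocallyOfFiniteType m.left] (e : WithBot ℕ∞),
      AlgSp.HasAtMor (fun _ _ h u => ringKrullDim ↥((h.fiber (h u)).presheaf.stalk (h.asFiber u)) = e) φ.hom
          (AlgSp.Points.ofPt ca q) →
      e = ringKrullDim ↥((m.left.fiber (m.left q)).presheaf.stalk (m.left.asFiber q)) := by
    intro A B φ hφ P Q ca cb m q hca hcb wm _ e ⟨P₂, Q₂, ca₂, cb₂, m₂, q₂, hca₂, hcb₂, wm₂, hq₂, he₂⟩
    haveI : LocallyOfFiniteType m₂.left := hφ ca₂ cb₂ m₂ hca₂ hcb₂ wm₂
    obtain ⟨n, hn, hfd⟩ := AlgSpRel14.exists_stalkDim m.left q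
    obtain ⟨n₂, hn₂, hfd₂⟩ := AlgSpRel14.exists_stalkDim m₂.left q₂
    have h1 : FlatMor.fibreDimAt m.left q = FlatMor.fibreDimAt m₂.left q₂ :=
      (AlgSpRel14.hasAtMor_fibreDimAt_iff (R := (· = FlatMor.fibreDimAt m₂.left q₂)) hφ hca hcb wm q).1
        ⟨P₂, Q₂, ca₂, cb₂, m₂, q₂, hca₂, hcb₂, wm₂, hq₂, rfl⟩
    have h2 : Dual3.resTrdeg m.left q = Dual3.resTrdeg m₂.left q₂ :=
      (AlgSpRel14.hasAtMor_iff_of_chart (AlgSpRel14.etInvOn_rd (· = Dual3.resTrdeg m₂.left q₂)) hφ hca hcb wm q).1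
        ⟨P₂, Q₂, ca₂, cb₂, m₂, q₂, hca₂, hcb₂, wm₂, hq₂, rfl⟩
    rw [AlgSpRel14.resTrdeg_eq_rd, AlgSpRel14.resTrdeg_eq_rd] at h2
    rw [hfd, hfd₂] at h1
    rw [← he₂, hn₂, hn]
    have h1' : n + FibDim14.rd m.left q = n₂ + FibDim14.rd m₂.left q₂ := by exact_mod_cast h1
    have h2' : FibDim14.rd m.left q = FibDim14.rd m₂.left q₂ := by exact_mod_cast h2
    exact_mod_cast (by omega : n₂ = n)
  constructor
  · intro x' e e' r r' he hr he' hr'
    obtain ⟨u', rfl⟩ := Groth.Agent.AlgSpace.surjective_ofPt has' x'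
    rw [hmap] at he hr
    rw [AlgSpRel14.hasAtMor_iff_of_chart (AlgSpRel14.etInvOn_rd (· = r)) hf hae hbe w] at hr
    rw [AlgSpRel14.hasAtMor_iff_of_chart (AlgSpRel14.etInvOn_rd (· = r')) hf' hae' hbe' w'] at hr'
    rw [key f hf a b h (p.left u') hae hbe w e he, key f' hf' a' b' h' u' hae' hbe' w' e' he', ← hr, ← hr',
      AlgSpRel14.toENat_resTrdeg, AlgSpRel14.toENat_resTrdeg]
    obtain ⟨n, hn, hfd⟩ := AlgSpRel14.exists_stalkDim h.left (p.left u')
    obtain ⟨n', hn', hfd'⟩ := AlgSpRel14.exists_stalkDim h'.left u'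
    have hle := FibDim14.rd_baseChange_le hsq u'
    have heq := FibDim14.fibreDimAt_baseChange hsq u'
    rw [hfd, hfd'] at heq
    have heq' : n' + FibDim14.rd h'.left u' = n + FibDim14.rd h.left (p.left u') := by exact_mod_cast heq
    rw [hn, hn']
    exact ⟨by exact_mod_cast heq', by exact_mod_cast (by omega : n ≤ n')⟩
  · intro x y' e hxy he
    obtain ⟨x₀, hx₀, hy₀⟩ := Groth.Agent.AlgSpDecent.exists_point_lift sq x y' hxy
    obtain ⟨u₀, rfl⟩ := Groth.Agent.AlgSpace.surjective_ofPt has' x₀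
    rw [hmap] at hx₀
    rw [← hx₀] at he
    have hh : h.left (p.left u₀) = β.left (h'.left u₀) := by
      rw [← Scheme.Hom.comp_apply, hsq.w, Scheme.Hom.comp_apply]
    obtain ⟨u', h1, h2, h3⟩ := FibDim14.exists_over_rd_eq hsq (p.left u₀) (h'.left u₀) hh
    refine ⟨AlgSp.Points.ofPt a' u', by rw [hmap, h1, hx₀], ?_, U', V', a', b', h', u', hae', hbe', w', rfl, ?_⟩
    · rw [← hy₀, Points.map_ofPt, Points.map_ofPt, w', Groth.Agent.AlgSpDecent.ofPt_map_comp, Groth.Agent.AlgSpDecent.ofPt_map_comp, h2]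
    · rw [key f hf a b h (p.left u₀) hae hbe w e he]
      obtain ⟨n, hn, hfd⟩ := AlgSpRel14.exists_stalkDim h.left (p.left u₀)
      obtain ⟨n', hn', hfd'⟩ := AlgSpRel14.exists_stalkDim h'.left u'
      have heq := FibDim14.fibreDimAt_baseChange hsq u'
      rw [h1, hfd, hfd', h3] at heq
      have heq' : n' + FibDim14.rd h.left (p.left u₀) = n + FibDim14.rd h.left (p.left u₀) := by exact_mod_cast heq
      rw [hn, hn']
      exact_mod_cast (by omega : n' = n)

end Groth.Agent.S10335
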