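import Groth.Statements.S10342
import Groth.Agent.Lib.AlgSpDecent.LocNoeth
-- import your own Groth.Agent.* helpers here

set_option autoImplicit false
universe u
open CategoryTheory CategoryTheory.Limits AlgebraicGeometry Topology TopologicalSpace
open AlgSp

namespace Groth.Agent.S10342

/-- Let X be a locally Noetherian algebraic space over a scheme S and a : h_U ⟶ X a representable etale
map from a scheme U. If two points u, u' of U have the same image in |X| and u' specializes to u,
then u = u'. -/
theorem result {S : Scheme.{u}} (X : AlgSp.Space S)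
    (hX : AlgSp.IsLocNoethSp X.obj) {U : Over S} (a : (AlgSp.yon S).obj U ⟶ X.obj) (ha : AlgSp.RepWith @Etale a)
    (u u' : ↥U.left) (he : AlgSp.Points.ofPt a u = AlgSp.Points.ofPt a u') (hs : u' ⤳ u) : u = u' := by
  have := Groth.Agent.AlgSpDecent.isLocallyNoetherian_of_etale_chart hX ha
  exact (Groth.Agent.AlgSpDecent.eq_of_specializes_of_no_chain ha (x := AlgSp.Points.ofPt a u)
    (fun d _ => Groth.Agent.AlgSpDecent.no_chain_of_isLocallyNoetherian d) rfl he.symm hs).symm


end Groth.Agent.S10342
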