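import Groth.Statements.S10344
import Groth.Agent.Lib.AlgSpDecent.Basic2
import Groth.Agent.Lib.AlgSpace.LocP
-- import your own Groth.Agent.* helpers here

set_option autoImplicit false
universe u
open CategoryTheory CategoryTheory.Limits AlgebraicGeometry Topology TopologicalSpace
open AlgSp

namespace Groth.Agent.S10344

/-- Let S be a scheme, Y and X algebraic spaces over S, and f : Y ⟶ X a flat morphism, and let x' ⤳ x be
a specialization in |X|, where x' is represented by a monomorphism Spec k ⟶ X which is representable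
quasi-compact (for instance X decent). Then generalizations lift along f at x: every y ∈ |Y| over x
has a generization y' over x'. -/
theorem result {S : Scheme.{u}} {X Y : AlgSp.Space S} (f : Y ⟶ X)
    (hf : AlgSp.LocP @Flat f.hom) (x x' : AlgSp.Points X.obj) (h : x' ⤳ x)
    (hx' : ∃ p : AlgSp.FieldPt X.obj, AlgSp.Points.mk p = x' ∧ Mono p.toHom ∧ AlgSp.RepWith @QuasiCompact p.toHom)
    (y : AlgSp.Points Y.obj) (hy : AlgSp.Points.map f.hom y = x) :
    ∃ y' : AlgSp.Points Y.obj, y' ⤳ y ∧ AlgSp.Points.map f.hom y' = x' := by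
  obtain ⟨p, rfl, -, hq⟩ := hx'
  obtain ⟨U, V, a, b, g, hae, has, hbe, -, w⟩ := Groth.Agent.AlgSpace.exists_chart_square Y.property X.property f.hom
  obtain ⟨u, rfl⟩ := Groth.Agent.AlgSpace.surjective_ofPt has y
  have key : ∀ z : U.left, AlgSp.Points.map f.hom (AlgSp.Points.ofPt a z) = AlgSp.Points.ofPt b (g.left z) :=
    fun z => by rw [AlgSp.Points.map_ofPt, w, Groth.Agent.AlgSpDecent.ofPt_map_comp]
  obtain ⟨v', hv', hv'x⟩ := Groth.Agent.AlgSpDecent.exists_specializes_lift hbe h
    (Groth.Agent.AlgSpDecent.finFibres_of_qc_fieldPt X.property.diag p hq) ((key u).symm.trans hy)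
  have : Flat g.left := hf a b g hae hbe w
  obtain ⟨u', hu', hu'v⟩ := Flat.generalizingMap g.left hv'
  exact ⟨_, hu'.map (AlgSp.Points.continuous_ofPt a), by rw [key, hu'v, hv'x]⟩


end Groth.Agent.S10344
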