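import Groth.Statements.S10345
import Groth.Agent.Lib.AlgSpDecent.Dim
-- import your own Groth.Agent.* helpers here

set_option autoImplicit false
universe u
open CategoryTheory CategoryTheory.Limits AlgebraicGeometry Topology TopologicalSpace
open AlgSp

namespace Groth.Agent.S10345

/-- For a decent algebraic space X over a scheme S the Krull dimension of the topological space |X|
equals the dimension of X (the supremum of the Krull dimensions of the schemes etale over X). -/
theorem result {S : Scheme.{u}} (X : AlgSp.Space S)
    (hX : AlgSp.IsDecent X.obj) :
    topologicalKrullDim (AlgSp.Points X.obj) = AlgSp.dim X.obj := by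
  exact Groth.Agent.AlgSpDecent.topologicalKrullDim_points X.property hX


end Groth.Agent.S10345
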