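import Groth.Statements.S10347
import Groth.Agent.Lib.AlgSpDecent.DimMor
-- import your own Groth.Agent.* helpers here

set_option autoImplicit false
universe u
open CategoryTheory CategoryTheory.Limits AlgebraicGeometry Topology TopologicalSpace
open AlgSp

namespace Groth.Agent.S10347

/-- For a locally quasi-finite morphism f : X ⟶ Y of algebraic spaces over a scheme S (locally
quasi-finite and locally of finite type, etale locally on source and target), dim X ≤ dim Y. -/
theorem result {S : Scheme.{u}} {X Y : AlgSp.Space S} (f : X ⟶ Y)
    (hf : AlgSp.LocP (@LocallyQuasiFinite ⊓ @LocallyOfFiniteType) f.hom) :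
    AlgSp.dim X.obj ≤ AlgSp.dim Y.obj := by
  exact Groth.Agent.AlgSpDecent.dim_le_of_lqf X.property Y.property hf


end Groth.Agent.S10347
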