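import Groth.Statements.S1035
import Groth.Agent.Lib.DPush9.Compute

set_option autoImplicit false
set_option linter.style.haveILetI false
set_option backward.isDefEq.respectTransparency false
universe u
open CategoryTheory CategoryTheory.Limits AlgebraicGeometry
attribute [local instance] HasDerivedCategory.standard
open Perf

namespace Groth.Agent.S1035

/-- Let f : X ⟶ S be quasi-compact and quasi-separated and F a cochain complex whose terms are
quasi-coherent O_X-modules that are right acyclic for f_* (the higher direct images Rⁱf_*Fⁿ vanish
for i > 0; computed with injective resolutions, whose existence is assumed as an instance). Assuming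
Rf_* exists on the unbounded derived category, the canonical map f_*F ⟶ Rf_*F in D(O_S) is an
isomorphism. -/
theorem result {X S : Scheme.{u}} (f : X ⟶ S) [QuasiCompact f] [QuasiSeparated f]
    [HasInjectiveResolutions X.Modules] [DCoh.HasRpush f]
    (F : CochainComplex X.Modules ℤ) (hq : ∀ n : ℤ, Coh.IsQCoh (F.X n))
    (hac : ∀ (n : ℤ) (i : ℕ), 0 < i → IsZero ((Coh.Rpush f i).obj (F.X n))) :
    IsIso (((DCoh.pushKh f).totalRightDerivedUnit DerivedCategory.Qh (HomotopyCategory.quasiIso X.Modules (ComplexShape.up ℤ))).app
      ((HomotopyCategory.quotient X.Modules (ComplexShape.up ℤ)).obj F)) := by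
  exact Groth.Agent.DPush9.isIso_unit f F hq hac

end Groth.Agent.S1035
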