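import Groth.Statements.S10354
import Groth.Agent.Lib.AlgSpDecent.QSDecent
-- import your own Groth.Agent.* helpers here

set_option autoImplicit false
universe u
open CategoryTheory CategoryTheory.Limits AlgebraicGeometry Topology TopologicalSpace
open AlgSp

namespace Groth.Agent.S10354

/-- A locally Noetherian decent algebraic space X over a scheme S is quasi-separated over S (its
diagonal X ⟶ X ×_S X is representable quasi-compact). (The published statement concludes
quasi-separatedness in the absolute sense, i.e. for the diagonal over the integers; this row
concludes the relative notion over S, which the absolute one implies.) -/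
theorem result {S : Scheme.{u}} (X : AlgSp.Space S)
    (hN : AlgSp.IsLocNoethSp X.obj) (hX : AlgSp.IsDecent X.obj) : AlgSp.IsQuasiSeparatedSp X.obj := by
  exact Groth.Agent.AlgSpDecent.isQuasiSeparatedSp_of_isDecent X.property hN hX


end Groth.Agent.S10354
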