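import Groth.Statements.S10360
import Groth.Agent.Lib.AlgSpDecent.Basic2
-- import your own Groth.Agent.* helpers here

set_option autoImplicit false
universe u
open CategoryTheory CategoryTheory.Limits AlgebraicGeometry Topology TopologicalSpace
open AlgSp

namespace Groth.Agent.S10360

/-- (1) ⇔ (4): for an algebraic space X over a scheme S and x ∈ |X|, the fibres over x of |U| → |X| and
|U ×_X U| → |X| are finite for every etale h_U ⟶ X with U affine, if and only if x is represented by
a monomorphism Spec k ⟶ X which is representable quasi-compact. -/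
theorem result {S : Scheme.{u}} (X : AlgSp.Space S)
    (x : AlgSp.Points X.obj) :
    (∀ (U : Over S) (φ : (AlgSp.yon S).obj U ⟶ X.obj), IsAffine U.left → AlgSp.RepWith @Etale φ →
        ∀ (R : Over S) (s t : R ⟶ U), IsPullback ((AlgSp.yon S).map t) ((AlgSp.yon S).map s) φ φ →
          (AlgSp.Points.ofPt φ ⁻¹' {x}).Finite ∧ (AlgSp.Points.ofPt ((AlgSp.yon S).map t ≫ φ) ⁻¹' {x}).Finite) ↔
      ∃ p : AlgSp.FieldPt X.obj, AlgSp.Points.mk p = x ∧ Mono p.toHom ∧ AlgSp.RepWith @QuasiCompact p.toHom := by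
  constructor
  · intro h
    have hfin : Groth.Agent.AlgSpDecent.FinFibres x := fun B ψ hB hψ => by
      obtain ⟨R, s, fst, sq⟩ := hψ.1 ψ
      obtain ⟨t, rfl⟩ := (AlgSp.yon S).map_surjective fst
      exact (h B ψ hB hψ R s t sq).1
    obtain ⟨U, φ, hU, hφ, hx⟩ := Groth.Agent.AlgSpDecent.exists_affine_chart_at X.property x
    exact Groth.Agent.AlgSpDecent.hasMonoQC_of_finFibres X.property hfin hU hφ hx fun R s t sq => (h U φ hU hφ R s t sq).2
  · rintro ⟨p, rfl, -, hq⟩ U φ hU hφ R s t sq
    have := hU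
    exact ⟨(Groth.Agent.AlgSpDecent.finite_fibres_of_qc_fieldPt X.property.diag p hq hφ).1,
      (Groth.Agent.AlgSpDecent.finite_fibres_of_qc_fieldPt X.property.diag p hq hφ).2 R s t sq⟩

end Groth.Agent.S10360
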