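import Groth.Statements.S10362
import Groth.Agent.Lib.AlgSpDecent.Basic2
-- import your own Groth.Agent.* helpers here

set_option autoImplicit false
universe u
open CategoryTheory CategoryTheory.Limits AlgebraicGeometry Topology TopologicalSpace
open AlgSp

namespace Groth.Agent.S10362

/-- (4) ⇒ (6): let X be an algebraic space over a scheme S and x ∈ |X| a point represented by a
monomorphism Spec k ⟶ X which is representable quasi-compact. Then every morphism Spec k' ⟶ X in the
class of x, where k' is a field, is representable quasi-compact. -/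
theorem result {S : Scheme.{u}} (X : AlgSp.Space S)
    (p q : AlgSp.FieldPt X.obj) (hm : Mono p.toHom) (hp : AlgSp.RepWith @QuasiCompact p.toHom)
    (h : AlgSp.Points.mk q = AlgSp.Points.mk p) : AlgSp.RepWith @QuasiCompact q.toHom := by
  have := hm
  obtain ⟨T, c, fst, sq⟩ := (Functor.relativelyRepresentable.of_diag X.property.diag p.toHom) q.toHom
  obtain ⟨a, rfl⟩ := (AlgSp.yon S).map_surjective fst
  have : Mono ((AlgSp.yon S).map c) := sq.mono_snd_of_mono
  have := Groth.Agent.AlgSpDecent.mono_left c
  obtain ⟨w, -⟩ := Groth.Agent.AlgSpace.exists_pt_of_isPullback sq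
    (x := AlgSp.Points.ofScheme p.pt (IsLocalRing.closedPoint p.K)) (t := (IsLocalRing.closedPoint q.K : ↥q.pt.left))
    (by rw [Groth.Agent.AlgSpDecent.map_toHom_eq, AlgSp.Points.ofPt_toHom]; exact h.symm)
  have : Nonempty ↥T.left := ⟨w⟩
  have : IsIso c.left := Groth.Agent.AlgSpace.isIso_of_mono_field (K := q.K) c.left
  have : IsIso c := by
    have : IsIso ((Over.forget S).map c) := ‹IsIso c.left›
    exact isIso_of_reflects_iso c (Over.forget S)
  have hq' : q.toHom = (AlgSp.yon S).map (inv c ≫ a) ≫ p.toHom := by
    rw [Functor.map_comp, Category.assoc, sq.w, ← Category.assoc, ← Functor.map_comp, IsIso.inv_hom_id,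
      CategoryTheory.Functor.map_id, Category.id_comp]
  rw [hq']
  refine (AlgSp.RepWith (S := S) @QuasiCompact).comp_mem _ _ ((AlgSp.repWith_yon_map_iff _ _).2 ?_) hp
  have : Subsingleton ↥q.pt.left := inferInstanceAs (Subsingleton (PrimeSpectrum q.K))
  exact Groth.Agent.AlgSpDecent.quasiCompact_of_subsingleton _

end Groth.Agent.S10362
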