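import Groth.Statements.S10363
import Groth.Agent.Lib.AlgSpDecent.Basic2
-- import your own Groth.Agent.* helpers here

set_option autoImplicit false
universe u
open CategoryTheory CategoryTheory.Limits AlgebraicGeometry Topology TopologicalSpace
open AlgSp

namespace Groth.Agent.S10363

/-- Let X be an algebraic space over a scheme S and x ∈ |X|. If there is a family of etale maps U_i ⟶ X
from schemes, jointly surjective on points, each with finite fibre of |U_i| → |X| over x, then every
etale V ⟶ X with V an affine scheme has finite fibre of |V| → |X| over x. (The converse implication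
is immediate.) -/
theorem result {S : Scheme.{u}} (X : AlgSp.Space S)
    (x : AlgSp.Points X.obj) {ι : Type u} (U : ι → Over S) (φ : ∀ i, (AlgSp.yon S).obj (U i) ⟶ X.obj)
    (hφ : ∀ i, AlgSp.RepWith @Etale (φ i))
    (hsurj : ∀ y : AlgSp.Points X.obj, ∃ (i : ι) (v : ↥(U i).left), AlgSp.Points.ofPt (φ i) v = y)
    (hfin : ∀ i, (AlgSp.Points.ofPt (φ i) ⁻¹' {x}).Finite)
    {V : Over S} [IsAffine V.left] (ψ : (AlgSp.yon S).obj V ⟶ X.obj) (hψ : AlgSp.RepWith @Etale ψ) :
    (AlgSp.Points.ofPt ψ ⁻¹' {x}).Finite := by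
  have hloc : ∀ v : V.left, ∃ (i : ι) (W : Over S) (a : W ⟶ V) (b : W ⟶ U i), IsAffine W.left ∧
      Etale a.left ∧ Etale b.left ∧ (AlgSp.yon S).map a ≫ ψ = (AlgSp.yon S).map b ≫ φ i ∧ v ∈ Set.range a.left := by
    intro v
    obtain ⟨i, u, hu⟩ := hsurj (AlgSp.Points.ofPt ψ v)
    obtain ⟨R, b, fb, sq⟩ := hψ.1 (φ i)
    obtain ⟨a, rfl⟩ := (AlgSp.yon S).map_surjective fb
    have : Etale b.left := hψ.2 (φ i) _ _ sq
    have : Etale a.left := (hφ i).2 ψ _ _ sq.flip
    obtain ⟨w, hw, hw'⟩ := Groth.Agent.AlgSpace.exists_pt_of_isPullback sq (x := AlgSp.Points.ofScheme V v) (t := u)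
      (by rw [← AlgSp.Points.ofPt_eq_map_ofScheme]; exact hu.symm)
    rw [Groth.Agent.AlgSpDecent.ofPt_map_eq] at hw
    have hwv : a.left w = v := (AlgSp.Points.schemeEquiv V).injective hw
    obtain ⟨O, hO, hwO, -⟩ := exists_isAffineOpen_mem_and_subset (X := R.left) (x := w) (U := ⊤) trivial
    let o : Over.mk (O.ι ≫ R.hom) ⟶ R := Over.homMk O.ι rfl
    have : Etale (o ≫ a).left := by change Etale (O.ι ≫ a.left); infer_instance
    have : Etale (o ≫ b).left := by change Etale (O.ι ≫ b.left); infer_instance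
    refine ⟨i, _, o ≫ a, o ≫ b, hO, ‹_›, ‹_›, ?_, ⟨⟨w, hwO⟩, hwv⟩⟩
    simp only [Functor.map_comp, Category.assoc]
    rw [sq.w]
  choose i W a b hW ha hb hw hv using hloc
  obtain ⟨t, ht⟩ := (CompactSpace.isCompact_univ (X := V.left)).elim_finite_subcover
    (fun v => Set.range (a v).left) (fun v => have := ha v; (a v).left.isOpenMap.isOpen_range)
    (fun v _ => Set.mem_iUnion.2 ⟨v, hv v⟩)
  have hbfin : ∀ v u, ((b v).left ⁻¹' {u}).Finite := by
    intro v u
    have := hW v; have := hb v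
    obtain ⟨n, hn⟩ := Groth.Agent.AlgSpDecent.exists_finLE_of_etale (b v).left
    have : Finite ↥(pullback (b v).left ((U (i v)).left.fromSpecResidueField u)) :=
      (Groth.Agent.AlgSpDecent.FinLE.discrete (K := (U (i v)).left.residueField u) (hn _ ((U (i v)).left.fromSpecResidueField u))).1
    refine (Set.finite_range (pullback.fst (b v).left ((U (i v)).left.fromSpecResidueField u))).subset ?_
    rw [Scheme.Pullback.range_fst, Scheme.range_fromSpecResidueField]
  refine (t.finite_toSet.biUnion fun v _ => (((hfin (i v)).biUnion fun u _ => hbfin v u).image (a v).left)).subset ?_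
  intro y hy
  obtain ⟨v, hvt, w, rfl⟩ := Set.mem_iUnion₂.1 (ht (Set.mem_univ y))
  refine Set.mem_iUnion₂.2 ⟨v, hvt, w, Set.mem_iUnion₂.2 ⟨(b v).left w, ?_, rfl⟩, rfl⟩
  rw [Set.mem_preimage, ← Groth.Agent.AlgSpDecent.ofPt_map_comp, ← hw v, Groth.Agent.AlgSpDecent.ofPt_map_comp]
  exact hy

end Groth.Agent.S10363
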