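import Groth.Statements.S10366
import Groth.Agent.Lib.Residual14.Main

set_option autoImplicit false
universe u
open CategoryTheory CategoryTheory.Limits AlgebraicGeometry Topology TopologicalSpace
open AlgSp

set_option backward.isDefEq.respectTransparency.types false

namespace Groth.Agent.S10366

/-- (1) ⇔ (2): an algebraic space Z over a scheme S is reduced with |Z| a single point if and only if
there is a surjective flat morphism Spec k ⟶ Z from the spectrum of a field. -/
theorem result {S : Scheme.{u}} (Z : AlgSp.Space S) :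
    (AlgSp.EtaleLocally (fun U => IsReduced U) Z.obj ∧ Nonempty (AlgSp.Points Z.obj) ∧ Subsingleton (AlgSp.Points Z.obj)) ↔
      ∃ (k : Type u) (_ : Field k) (str : Spec (CommRingCat.of k) ⟶ S) (p : (AlgSp.yon S).obj (Over.mk str) ⟶ Z.obj),
        AlgSp.LocP @Flat p ∧ AlgSp.IsSurjectiveMor p := by
  refine ⟨fun ⟨h1, h2, h3⟩ => ?_, fun ⟨k, _, str, p, hf, hs⟩ =>
    Groth.Agent.Residual14.reduced_singleton_of_flat_surjective Z hf hs⟩
  obtain ⟨k', hk', str', q, -, b, c, -⟩ := Groth.Agent.Residual14.exists_lft_flat_surjective Z h1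
  exact ⟨k', hk', str', q, b, c⟩

end Groth.Agent.S10366
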