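import Groth.Statements.S10368
import Groth.Agent.Lib.Residual14.Main

set_option autoImplicit false
universe u
open CategoryTheory CategoryTheory.Limits AlgebraicGeometry Topology TopologicalSpace
open AlgSp

set_option backward.isDefEq.respectTransparency.types false

namespace Groth.Agent.S10368

/-- An algebraic space Z over a scheme S is reduced, locally Noetherian and has |Z| a single point if
and only if there is a locally finitely presented, flat, surjective morphism Spec k ⟶ Z from the
spectrum of a field. -/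
theorem result {S : Scheme.{u}} (Z : AlgSp.Space S) :
    (AlgSp.EtaleLocally (fun U => IsReduced U) Z.obj ∧ AlgSp.IsLocNoethSp Z.obj ∧ Nonempty (AlgSp.Points Z.obj) ∧ Subsingleton (AlgSp.Points Z.obj)) ↔
      ∃ (k : Type u) (_ : Field k) (str : Spec (CommRingCat.of k) ⟶ S) (p : (AlgSp.yon S).obj (Over.mk str) ⟶ Z.obj),
        AlgSp.LocP @LocallyOfFinitePresentation p ∧ AlgSp.LocP @Flat p ∧ AlgSp.IsSurjectiveMor p := by
  refine ⟨fun ⟨h1, hn, h2, h3⟩ => ?_, fun ⟨k, _, str, p, hp, hf, hs⟩ => ?_⟩
  · obtain ⟨k', hk', str', q, -, b, c, d⟩ := Groth.Agent.Residual14.exists_lft_flat_surjective Z h1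
    exact ⟨k', hk', str', q, d hn, b, c⟩
  · obtain ⟨h1, h2, h3⟩ := Groth.Agent.Residual14.reduced_singleton_of_flat_surjective Z hf hs
    exact ⟨h1, Groth.Agent.AlgSpDescent.isLocNoethSp_of_fppf_surjective (AlgSp.IsAlgSpace.yon_obj _) Z.property hp hf hs
      ⟨Over.mk str, 𝟙 _, AlgSp.repWith_id @Etale _, AlgSp.repWith_id @Surjective _,
        inferInstanceAs (IsLocallyNoetherian (Spec (CommRingCat.of k)))⟩, h2, h3⟩

end Groth.Agent.S10368
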