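import Groth.Statements.S10369
import Groth.Agent.Lib.Residual14.Main

set_option autoImplicit false
universe u
open CategoryTheory CategoryTheory.Limits AlgebraicGeometry Topology TopologicalSpace
open AlgSp

set_option backward.isDefEq.respectTransparency.types false

namespace Groth.Agent.S10369

/-- Let S be a scheme, Z' and Z algebraic spaces over S, and Z' ⟶ Z a monomorphism, and suppose there is
a locally finitely presented, flat, surjective morphism Spec k ⟶ Z from the spectrum of a field.
Then Z' is empty or Z' ⟶ Z is an isomorphism. -/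
theorem result {S : Scheme.{u}} {Z' Z : AlgSp.Space S} (f : Z' ⟶ Z)
    [Mono f.hom]
    (hZ : ∃ (k : Type u) (_ : Field k) (str : Spec (CommRingCat.of k) ⟶ S) (p : (AlgSp.yon S).obj (Over.mk str) ⟶ Z.obj),
        AlgSp.LocP @LocallyOfFinitePresentation p ∧ AlgSp.LocP @Flat p ∧ AlgSp.IsSurjectiveMor p) :
    IsEmpty (AlgSp.Points Z'.obj) ∨ IsIso f := by
  obtain ⟨k, _, str, p, hp, hf, hs⟩ := hZ
  rcases isEmpty_or_nonempty (AlgSp.Points Z'.obj) with h | h
  · exact Or.inl h
  · have := Groth.Agent.Residual14.isIso_of_mono f.hom hp hf hs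
    have : IsIso ((ObjectProperty.ι AlgSp.IsAlgSpace).map f) := this
    exact Or.inr ((ObjectProperty.fullyFaithfulι _).isIso_of_isIso_map f)

end Groth.Agent.S10369
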