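import Groth.Statements.S10372
import Groth.Agent.Lib.AlgSpDecent.FiniteGeneric
import Groth.Agent.Lib.AlgSpDescent.RedNoeth
import Groth.Agent.Lib.H12.Dim
import Mathlib.RingTheory.RegularLocalRing.Defs
-- import your own Groth.Agent.* helpers here

set_option autoImplicit false
universe u
open CategoryTheory CategoryTheory.Limits AlgebraicGeometry Topology TopologicalSpace
open AlgSp

namespace Groth.Agent.S10372

/-- A reduced, locally Noetherian algebraic space Z over a scheme S whose space of points is a single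
point is regular (etale locally a regular scheme). -/
theorem result {S : Scheme.{u}} (Z : AlgSp.Space S)
    (hr : AlgSp.EtaleLocally (fun U => IsReduced U) Z.obj) (hN : AlgSp.IsLocNoethSp Z.obj)
    [Nonempty (AlgSp.Points Z.obj)] [Subsingleton (AlgSp.Points Z.obj)] :
    AlgSp.EtaleLocally (fun U => IsLocallyNoetherian U ∧ ∀ u : ↥U, IsRegularLocalRing ↥(U.presheaf.stalk u)) Z.obj := by
  obtain ⟨U, a, ha, has, hUN⟩ := hN
  have hUN : IsLocallyNoetherian U.left := hUN
  have hUr : IsReduced U.left := Groth.Agent.AlgSpDescent.prop_of_etale_chart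
    Groth.Agent.AlgSpDescent.isReduced_up Groth.Agent.AlgSpDescent.isReduced_down hr ha
  refine ⟨U, a, ha, has, hUN, fun u => ?_⟩
  obtain ⟨u₀, -, hmin⟩ := Groth.Agent.AlgSpDecent.exists_isMin_specializes u
  have h0 := (Groth.Agent.AlgSpDecent.hasAt_dim_zero_iff ha u₀).2 hmin
  rw [Subsingleton.elim (AlgSp.Points.ofPt a u₀) (AlgSp.Points.ofPt a u)] at h0
  have hdim : ringKrullDim ↥(U.left.presheaf.stalk u) = 0 :=
    (Groth.Agent.AlgSpDecent.dim_zero_iff_isMin u).2 ((Groth.Agent.AlgSpDecent.hasAt_dim_zero_iff ha u).1 h0)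
  have : Ring.KrullDimLE 0 ↥(U.left.presheaf.stalk u) := Ring.krullDimLE_iff.2 hdim.le
  have hf : IsField ↥(U.left.presheaf.stalk u) := Ring.KrullDimLE.isField_of_isReduced
  have : IsNoetherianRing ↥(U.left.presheaf.stalk u) := inferInstance
  refine IsRegularLocalRing.of_spanFinrank_maximalIdeal_le (R := ↥(U.left.presheaf.stalk u)) ?_
  rw [(IsLocalRing.isField_iff_maximalIdeal_eq.1 hf), Submodule.spanFinrank_bot, hdim]
  rfl

end Groth.Agent.S10372
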