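import Groth.Statements.S10374
import Groth.Agent.Lib.AlgSpDecent.Strat

set_option autoImplicit false
universe u
open CategoryTheory CategoryTheory.Limits AlgebraicGeometry Topology TopologicalSpace
open AlgSp

namespace Groth.Agent.S10374

open CategoryTheory CategoryTheory.Limits AlgebraicGeometry Opposite AlgSp Groth.Agent.AlgSpace Groth.Agent.AlgSpDecent

set_option backward.isDefEq.respectTransparency.types false


/-- Let S be a scheme and X a decent algebraic space over S. Every point x ∈ |X| admits an etale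
neighbourhood (U, u) ⟶ (X, x) which is elementary, with U an affine scheme and u the only point of U
over x; being elementary means that Spec κ(u) ⟶ X is a monomorphism, equivalently that the residue
field of X at x maps isomorphically to κ(u). -/
theorem result {S : Scheme.{u}} (X : AlgSp.Space S) (hX : AlgSp.IsDecent X.obj)
    (x : AlgSp.Points X.obj) :
    ∃ (U : Over S) (a : (AlgSp.yon S).obj U ⟶ X.obj) (u : ↥U.left), IsAffine U.left ∧
      AlgSp.IsElemEtaleNbhd a u x ∧ AlgSp.Points.ofPt a ⁻¹' {x} = {u} := by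
  classical
  obtain ⟨p, rfl, -, hpq⟩ := hX x
  obtain ⟨V₀, φ₀, hφ₀, hφ₀s⟩ := X.property.atlas
  obtain ⟨w₀, hw₀⟩ := surjective_ofPt hφ₀s (Points.mk p)
  obtain ⟨Q, hQ, hwQ, -⟩ := exists_isAffineOpen_mem_and_subset (X := V₀.left) (x := w₀) (U := ⊤) trivial
  let U₀ : Over S := Over.mk (Q.ι ≫ V₀.hom)
  haveI : IsAffine U₀.left := hQ
  let ι₀ : U₀ ⟶ V₀ := Over.homMk Q.ι rfl
  let φ := (yon S).map ι₀ ≫ φ₀
  have hφ : RepWith @Etale φ :=
    repWith_comp ((repWith_yon_map_iff @Etale ι₀).2 (inferInstanceAs (Etale Q.ι))) hφ₀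
  let u₀ : U₀.left := ⟨w₀, hwQ⟩
  have e₀ : Points.ofPt φ u₀ = Points.ofPt φ₀ (ι₀.left u₀) := ofPt_map_comp ι₀ φ₀ u₀
  have h0 : Points.mk p ∈ distImage φ 0 := by
    rw [← hw₀]
    exact e₀ ▸ mem_distImage_zero (φ := φ) u₀
  obtain ⟨m, hm⟩ := exists_notMem_distImage hφ p hpq
  obtain ⟨n, hn, hn'⟩ : ∃ n, Points.mk p ∈ distImage φ n ∧ Points.mk p ∉ distImage φ (n + 1) := by
    by_contra hne
    push Not at hne
    exact hm (Nat.rec h0 (fun k hk => hne k hk) m)
  obtain ⟨V, v, -, hve, hvr, -, hv⟩ := exists_symPower X.property hφ n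
  obtain ⟨w, hw⟩ : Points.mk p ∈ Set.range (Points.ofPt v) := hvr.symm ▸ hn
  have huniq : ∀ w' : V.left, Points.ofPt v w' = Points.mk p → w' = w := fun w' hw' => by
    obtain ⟨R, snd, fr, sq⟩ := hve.1 v
    obtain ⟨fst, rfl⟩ := (yon S).map_surjective fr
    obtain ⟨r, hr₁, hr₂⟩ := exists_rel_of_ofPt_eq sq (hw'.trans hw.symm)
    let T : Over S := Over.mk (R.left.fromSpecResidueField r ≫ R.hom)
    let j : T ⟶ R := Over.homMk (R.left.fromSpecResidueField r) rfl
    have hj : ∀ τ, j.left τ = r := fun τ => R.left.fromSpecResidueField_apply r τ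
    have e := hv (j ≫ fst) (j ≫ snd) (by simp only [Functor.map_comp, Category.assoc, sq.w]) fun τ => by
      rw [ofPt_map_comp, Over.comp_left, Scheme.Hom.comp_apply, hj, hr₁, hw']
      exact hn'
    have e' := congrArg (fun k => k.left (IsLocalRing.closedPoint (R.left.residueField r))) e
    simp only [Over.comp_left, Scheme.Hom.comp_apply, hj, hr₁, hr₂] at e'
    exact e'
  obtain ⟨O, hO, hwO, -⟩ := exists_isAffineOpen_mem_and_subset (X := V.left) (x := w) (U := ⊤) trivial
  let U : Over S := Over.mk (O.ι ≫ V.hom)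
  let ι : U ⟶ V := Over.homMk O.ι rfl
  let u : U.left := ⟨w, hwO⟩
  have ha : RepWith @Etale ((yon S).map ι ≫ v) :=
    repWith_comp ((repWith_yon_map_iff @Etale ι).2 (inferInstanceAs (Etale O.ι))) hve
  have hu : Points.ofPt ((yon S).map ι ≫ v) u = Points.mk p :=
    (ofPt_map_comp ι v u).trans ((congrArg (Points.ofPt v) (rfl : ι.left u = w)).trans hw)
  refine ⟨U, (yon S).map ι ≫ v, u, hO, ⟨ha, hu, ?_⟩, ?_⟩
  · let q := FieldPt.ofPt ((yon S).map ι ≫ v) u
    let κ : q.pt ⟶ U := Over.homMk (U.left.fromSpecResidueField _) rfl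
    have hq : q.toHom = (yon S).map κ ≫ (yon S).map ι ≫ v := FieldPt.toHom_ofPt _ _
    refine mono_of_yon _ fun T x y hxy => ?_
    obtain ⟨x', rfl⟩ := (yon S).map_surjective x
    obtain ⟨y', rfl⟩ := (yon S).map_surjective y
    rw [hq] at hxy
    have e := hv (x' ≫ κ ≫ ι) (y' ≫ κ ≫ ι) (by simpa [Functor.map_comp, Category.assoc] using hxy)
      fun τ => by
        rw [ofPt_map_comp, Over.comp_left, Over.comp_left, Scheme.Hom.comp_apply, Scheme.Hom.comp_apply]
        change Points.ofPt v (O.ι (U.left.fromSpecResidueField _ (x'.left τ))) ∉ _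
        rw [Scheme.fromSpecResidueField_apply]
        exact fun h => hn' (hw ▸ h)
    have : Mono κ.left := inferInstanceAs (Mono (U.left.fromSpecResidueField _))
    have : Mono κ := (Over.forget S).mono_of_mono_map ‹_›
    have : Mono ι := (Over.forget S).mono_of_mono_map (inferInstanceAs (Mono O.ι))
    rw [(cancel_mono (κ ≫ ι)).1 e]
  · refine Set.eq_singleton_iff_unique_mem.2 ⟨hu, fun u' hu' => Subtype.ext ?_⟩
    exact huniq _ ((ofPt_map_comp ι v u').symm.trans hu')

end Groth.Agent.S10374
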