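import Groth.Statements.S10376
import Groth.Agent.Lib.RelNorm14.Main
import Groth.Agent.S10297
import Groth.Agent.Lib.AlgSpace.Proper
-- import your own Groth.Agent.* helpers here

set_option autoImplicit false
set_option backward.isDefEq.respectTransparency.types false
universe u
open CategoryTheory CategoryTheory.Limits AlgebraicGeometry Topology TopologicalSpace
open AlgSp

namespace Groth.Agent.S10376
open Groth.Agent.AlgSpace Groth.Agent.RelNorm14 Groth.Agent.NormEt14 Groth.Agent.AlgSpDecent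

/-- Let S be a scheme, Y and V algebraic spaces over S, j : V ⟶ Y a quasi-compact open immersion, and π
: Z ⟶ V an integral morphism. Then one can find an integral morphism ν : Y' ⟶ Y for which Z is
isomorphic over V to the preimage in Y' of V: there is j' : Z ⟶ Y' making the square (j', π, ν, j)
cartesian. -/
theorem result {S : Scheme.{u}} {V Y Z : AlgSp.Space S} (j : V ⟶ Y)
    (hj : AlgSp.RepWith @IsOpenImmersion j.hom) (hjq : AlgSp.IsQuasiCompactMor j.hom) (π : Z ⟶ V)
    (hπ : AlgSp.IsIntegralMor π.hom) :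
    ∃ (Y' : AlgSp.Space S) (ν : Y' ⟶ Y) (j' : Z ⟶ Y'), AlgSp.IsIntegralMor ν.hom ∧
      IsPullback j'.hom π.hom ν.hom j.hom := by
  have hjm : Mono j.hom := mono_of_repWith _ (repWith_mono
    (fun _ _ g (_ : IsOpenImmersion g) => (inferInstance : Mono g)) hj)
  have hje : AlgSp.RepWith @Etale j.hom :=
    repWith_mono (fun _ _ i (_ : IsOpenImmersion i) => inferInstanceAs (Etale i)) hj
  have hπqc : AlgSp.IsQuasiCompactMor π.hom :=
    isQuasiCompactMor_of_isUnivClosedMor Z.property V.property (isIntegralMor_iff_affine_univClosed.1 hπ).2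
  have hqc : AlgSp.IsQuasiCompactMor (π ≫ j).hom :=
    isQuasiCompactMor_comp V.property Y.property hπqc hjq
  have hjqs : AlgSp.IsQuasiSeparatedMor j.hom := repWith_diagonal_of_mono j.hom
  have hqs : AlgSp.IsQuasiSeparatedMor (π ≫ j).hom :=
    repWith_diagonal_comp (isQuasiSeparatedMor_of_separated (isSeparatedMor_of_integral Z.property V.property hπ)) hjqs
  obtain ⟨Y', ν, f', hn⟩ := exists_relNormalization (π ≫ j) hqc
  have sqP := IsPullback.of_hasPullback ν.hom j.hom
  let P : AlgSp.Space S := ⟨pullback ν.hom j.hom,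
    isAlgSpace_pullback Y.property Y'.property V.property sqP⟩
  let b : P ⟶ Y' := ObjectProperty.homMk (pullback.fst ν.hom j.hom)
  let νV : P ⟶ V := ObjectProperty.homMk (pullback.snd ν.hom j.hom)
  let l : Z ⟶ P := ObjectProperty.homMk (pullback.lift f'.hom π.hom hn.1)
  have sq1 : IsPullback (𝟙 Z : Z ⟶ Z).hom π.hom (π ≫ j).hom j.hom := by
    refine ⟨⟨Category.id_comp _⟩, ⟨PullbackCone.IsLimit.mk _ (fun s => s.fst) (fun s => Category.comp_id _)
      (fun s => ?_) fun s m h _ => ?_⟩⟩
    · rw [← cancel_mono j.hom, Category.assoc]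
      exact s.condition
    · exact (Category.comp_id m).symm.trans h
  have c1 : l ≫ νV = π := ObjectProperty.hom_ext _ (pullback.lift_snd _ _ _)
  have c2 : l ≫ b = 𝟙 Z ≫ f' := by
    rw [Category.id_comp]
    exact ObjectProperty.hom_ext _ (pullback.lift_fst _ _ _)
  have hn' := Groth.Agent.S10297.result (π ≫ j) hqc hqs ν f' hn j (fun U φ hφ => repWith_comp hφ hje)
    (𝟙 Z) π sq1 b νV sqP l c1 c2
  obtain ⟨h, ⟨h1, h2⟩, -⟩ := hn'.2.2 Z.property π.hom (𝟙 Z.obj) hπ (Category.id_comp _)
  obtain ⟨e, -, he⟩ := hn'.2.2 P.property νV.hom l.hom hn'.2.1 (congrArg (fun k => k.hom) c1)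
  have h3 : h ≫ l.hom = 𝟙 _ :=
    (he _ ⟨by rw [reassoc_of% h1], by rw [Category.assoc, ← ObjectProperty.FullSubcategory.comp_hom, c1, h2]⟩).trans
      (he _ ⟨Category.comp_id _, Category.id_comp _⟩).symm
  refine ⟨Y', ν, f', hn.2.1, IsPullback.of_iso_pullback ⟨hn.1⟩ ⟨l.hom, h, h1, h3⟩ ?_ ?_⟩
  · exact pullback.lift_fst _ _ _
  · exact pullback.lift_snd _ _ _

end Groth.Agent.S10376
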