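import Groth.Statements.S10377
import Groth.Agent.Lib.AlgSpace.Constr15
-- import your own Groth.Agent.* helpers here

set_option autoImplicit false
universe u
open CategoryTheory CategoryTheory.Limits AlgebraicGeometry Topology TopologicalSpace
open AlgSp

namespace Groth.Agent.S10377

/-- Let S be a scheme with quasi-separated underlying space, X an algebraic space over S which is
quasi-separated over S, and E ⊆ |X|. Then E is etale locally constructible (its inverse image in
every scheme etale over X is locally constructible) exactly when E, as a subset of the topological
space |X|, is locally constructible. (The published statement assumes X quasi-separated in the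
absolute sense; this row assumes S has quasi-separated underlying space and X quasi-separated over
S, which together imply it.) -/
theorem result {S : Scheme.{u}} [QuasiSeparatedSpace ↥S]
    (X : AlgSp.Space S) (hX : AlgSp.IsQuasiSeparatedSp X.obj) (E : Set (AlgSp.Points X.obj)) :
    (∀ (U : Over S) (a : (AlgSp.yon S).obj U ⟶ X.obj), AlgSp.RepWith @Etale a →
        IsLocallyConstructible (AlgSp.Points.ofPt a ⁻¹' E)) ↔
      IsLocallyConstructible E := by
  exact Groth.Agent.AlgSpConstr15.isLocallyConstructible_iff X.property hX E


end Groth.Agent.S10377
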