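import Groth.Statements.S10382
import Groth.Agent.Lib.AlgSpDecent.Mor

set_option autoImplicit false
universe u
open CategoryTheory CategoryTheory.Limits AlgebraicGeometry Topology TopologicalSpace
open AlgSp

namespace Groth.Agent.S10382

/-- The composition of two decent morphisms of algebraic spaces over a scheme S is decent. -/
theorem result {S : Scheme.{u}} {X Y Z : AlgSp.Space S} (f : X ⟶ Y) (g : Y ⟶ Z)
    (hf : AlgSp.IsDecentMor f.hom) (hg : AlgSp.IsDecentMor g.hom) : AlgSp.IsDecentMor (f ≫ g).hom := by
  exact Groth.Agent.AlgSpDecent.isDecentMor_comp hf hg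

end Groth.Agent.S10382
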