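import Groth.Statements.S10387
import Groth.Agent.Lib.AlgSpDecent.Descend
-- import your own Groth.Agent.* helpers here

set_option autoImplicit false
universe u
open CategoryTheory CategoryTheory.Limits AlgebraicGeometry Topology TopologicalSpace
open AlgSp

namespace Groth.Agent.S10387

/-- (5) ⇒ (1): let S be a scheme, X and Y algebraic spaces over S, f : X ⟶ Y a morphism, and V ⟶ Y a
surjective etale morphism from a scheme. If the base change V ×_Y X ⟶ V is a decent morphism, then f
is decent. -/
theorem result {S : Scheme.{u}} {X Y : AlgSp.Space S} (f : X ⟶ Y) {V : Over S}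
    (p : (AlgSp.yon S).obj V ⟶ Y.obj) (hp : AlgSp.RepWith @Etale p) (hps : AlgSp.RepWith @Surjective p)
    (X' : AlgSp.Sp S) (fst : X' ⟶ X.obj) (snd : X' ⟶ (AlgSp.yon S).obj V) (hsq : IsPullback fst snd f.hom p)
    (h : AlgSp.IsDecentMor snd) : AlgSp.IsDecentMor f.hom := by
  exact Groth.Agent.AlgSpDecent.isDecentMor_of_etale_cover X.property Y.property hp hps hsq h


end Groth.Agent.S10387
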