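import Groth.Statements.S10388
import Groth.Agent.Lib.AlgSpace.ValDecent15
-- import your own Groth.Agent.* helpers here

set_option autoImplicit false
universe u
open CategoryTheory CategoryTheory.Limits AlgebraicGeometry Topology TopologicalSpace
open AlgSp

namespace Groth.Agent.S10388

/-- Let S be a scheme, X and Y algebraic spaces over S, and f : X ⟶ Y a quasi-compact decent morphism.
If f is universally closed, then the valuative criterion's existence part holds for f. (The
published statement is the equivalence of the two conditions; the converse implication holds for
every quasi-compact f and is not part of this row.) -/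
theorem result {S : Scheme.{u}} {X Y : AlgSp.Space S} (f : X ⟶ Y)
    (hq : AlgSp.IsQuasiCompactMor f.hom) (hd : AlgSp.IsDecentMor f.hom) (hc : AlgSp.IsUnivClosedMor f.hom) :
    AlgSp.ExistVC f.hom := by
  exact Groth.Agent.AlgSpace.existVC_of_isUnivClosedMor_of_decent X.property Y.property
    (fun s => hd s.bot _ _ (IsPullback.of_hasPullback f.hom s.bot)) hc


end Groth.Agent.S10388
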