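import Groth.Statements.S10389
import Groth.Agent.Lib.AlgSpRel14.LqfFinite
import Groth.Agent.Lib.AlgSpDecent.MonoPointApps
import Groth.Agent.Lib.AlgSpDecent.ClosedPoints
import Groth.Agent.Lib.EtBase.Unramified
-- import your own Groth.Agent.* helpers here

set_option autoImplicit false
universe u
open CategoryTheory CategoryTheory.Limits AlgebraicGeometry Topology TopologicalSpace
open AlgSp

set_option backward.isDefEq.respectTransparency.types false

namespace Groth.Agent.S10389

open Groth.Agent.AlgSpace Groth.Agent.AlgSpDecent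

theorem exists_factor_mono_point' {S : Scheme.{u}} {F : Sp S} (hd : Representable (Limits.diag F)) {k : Type u} [Field k]
    {str : Spec (CommRingCat.of k) ⟶ S} (g : (yon S).obj (Over.mk str) ⟶ F) (q : FieldPt F)
    [Mono q.toHom] (he : Points.mk q = Points.ofPt g (IsLocalRing.closedPoint k)) :
    ∃ m : Over.mk str ⟶ q.pt, (yon S).map m ≫ q.toHom = g := by
  obtain ⟨W, snd, fst, sq⟩ := (Functor.relativelyRepresentable.of_diag hd q.toHom) g
  obtain ⟨f, rfl⟩ := (yon S).map_surjective fst
  have : Mono ((yon S).map snd) := sq.mono_snd_of_mono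
  have := mono_left snd
  have : Subsingleton W.left :=
    @Function.Injective.subsingleton _ _ _ snd.left.injective (inferInstanceAs (Subsingleton (PrimeSpectrum k)))
  have : QuasiCompact snd.left := quasiCompact_of_subsingleton _
  obtain ⟨z, -, hz⟩ := exists_pt_of_isPullback sq
    (x := Points.ofScheme q.pt (IsLocalRing.closedPoint q.K)) (t := IsLocalRing.closedPoint k)
    (by rw [← Points.ofPt_eq_map_ofScheme, Points.ofPt_toHom]; exact he)
  have : Nonempty W.left := ⟨z⟩
  have : Flat snd.left := (flat_fieldTest (K := k) snd.left).1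
  have : Surjective snd.left := (flat_fieldTest (K := k) snd.left).2
  have : IsIso snd.left := Flat.isIso_of_surjective_of_mono snd.left
  have : IsIso ((Over.forget S).map snd) := ‹_›
  have : IsIso snd := isIso_of_reflects_iso snd (Over.forget S)
  refine ⟨inv snd ≫ f, ?_⟩
  rw [Functor.map_comp, Category.assoc, sq.w, ← Functor.map_comp_assoc, IsIso.inv_hom_id]
  erw [(yon S).map_id]
  rw [Category.id_comp]

theorem finite_preimage_of_lqf {K : Type u} [Field K] {A : Scheme.{u}} (p : A ⟶ Spec (CommRingCat.of K))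
    [LocallyQuasiFinite p] [QuasiCompact p] : Finite A := by
  rw [← Set.finite_univ_iff]
  convert! p.finite_preimage_singleton (IsLocalRing.closedPoint K)
  ext z
  simp only [Set.mem_univ, Set.mem_preimage, Set.mem_singleton_iff, true_iff]
  exact Subsingleton.elim (α := PrimeSpectrum K) _ _

theorem finite_fibre_core {S : Scheme.{u}} {X Y Z W : AlgSp.Space S} {f : X ⟶ Y}
    {g : Z ⟶ Y} {p : W ⟶ X} {q : W ⟶ Z} (hW : IsPullback p.hom q.hom f.hom g.hom) (x : AlgSp.Points X.obj)
    (z : AlgSp.Points Z.obj) (hxz : AlgSp.Points.map f.hom x = AlgSp.Points.map g.hom z)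
    (hy : ∃ r : AlgSp.FieldPt Y.obj, AlgSp.Points.mk r = AlgSp.Points.map g.hom z ∧ Mono r.toHom)
    (hg : AlgSp.HasAtMor (AlgSpRel14.Near AlgSpRel14.LqfLft) g.hom z) :
    {w : AlgSp.Points W.obj | AlgSp.Points.map p.hom w = x ∧ AlgSp.Points.map q.hom w = z}.Finite := by
  obtain ⟨r, hry, hm⟩ := hy
  obtain ⟨U0, V, a0, b, h0, u0, ha0, hb, w0, rfl, W0, hu0, hlq, hlft⟩ := hg
  let U : Over S := Over.mk (W0.ι ≫ U0.hom)
  let i : U ⟶ U0 := Over.homMk W0.ι
  let a : (yon S).obj U ⟶ Z.obj := (yon S).map i ≫ a0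
  let h : U ⟶ V := i ≫ h0
  let u : U.left := ⟨u0, hu0⟩
  haveI : LocallyQuasiFinite h.left := hlq
  haveI : LocallyOfFiniteType h.left := hlft
  have w : a ≫ g.hom = (yon S).map h ≫ b := by
    simp only [a, h, Category.assoc, w0, Functor.map_comp]
  have hau : Points.ofPt a u = Points.ofPt a0 u0 := ofPt_map_comp i a0 u
  rw [← hau] at hxz hry ⊢
  obtain ⟨TV, cV, fst, sqV⟩ := hb.1 r.toHom
  obtain ⟨aV, rfl⟩ := (yon S).map_surjective fst
  haveI : Etale cV.left := hb.2 _ _ _ sqV
  haveI : LocallyQuasiFinite cV.left := EtBase.locallyQuasiFinite_of_formallyUnramified cV.left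
  have sT := IsPullback.of_hasPullback h aV
  let T := pullback h aV
  let j : T ⟶ U := pullback.fst h aV
  let cT : T ⟶ r.pt := pullback.snd h aV ≫ cV
  haveI : LocallyQuasiFinite (pullback.snd h aV).left :=
    MorphismProperty.of_isPullback (P := @LocallyQuasiFinite) (sT.map (Over.forget S)) ‹_›
  haveI : LocallyQuasiFinite cT.left := inferInstanceAs (LocallyQuasiFinite ((pullback.snd h aV).left ≫ cV.left))
  have sqT : IsPullback ((yon S).map j) ((yon S).map cT) (a ≫ g.hom) r.toHom := by
    rw [w, Functor.map_comp]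
    exact (sT.map (yon S)).paste_vert sqV
  haveI : Mono ((yon S).map j) := sqT.mono_fst_of_mono
  haveI := mono_left j
  induction x using Points.ind with
  | h ξ =>
  have hξ : Points.map f.hom (Points.mk ξ) = Points.ofPt (ξ.toHom ≫ f.hom) (IsLocalRing.closedPoint ξ.K) := by
    rw [← Points.map_ofPt, Points.ofPt_toHom]
  obtain ⟨m, hmf⟩ := exists_factor_mono_point' Y.property.diag (ξ.toHom ≫ f.hom) r (hry.trans (hxz.symm.trans hξ))
  have sK := IsPullback.of_hasPullback cT m
  let TK := pullback cT m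
  let k : TK ⟶ U := pullback.fst cT m ≫ j
  have sqK : IsPullback ((yon S).map k) ((yon S).map (pullback.snd cT m)) (a ≫ g.hom) (ξ.toHom ≫ f.hom) := by
    rw [← hmf, Functor.map_comp]
    exact (sK.map (yon S)).paste_horiz sqT
  let ω : (yon S).obj TK ⟶ W.obj := hW.lift ((yon S).map (pullback.snd cT m) ≫ ξ.toHom) ((yon S).map k ≫ a)
    (by rw [Category.assoc, Category.assoc, sqK.w])
  have hfin : {tk : TK.left | k.left tk = u}.Finite := by
    rcases Set.eq_empty_or_nonempty {tk : TK.left | k.left tk = u} with he | ⟨tk0, h0'⟩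
    · rw [he]; exact Set.finite_empty
    obtain ⟨T0, hT0, ht0, -⟩ := exists_isAffineOpen_mem_and_subset (x := (pullback.fst cT m).left tk0)
      (U := (⊤ : T.left.Opens)) trivial
    haveI : IsAffineHom (pullback.fst cT m).left :=
      MorphismProperty.of_isPullback (P := @IsAffineHom) (sK.map (Over.forget S)).flip
        (inferInstanceAs (IsAffineHom m.left))
    haveI : LocallyQuasiFinite (pullback.snd cT m).left :=
      MorphismProperty.of_isPullback (P := @LocallyQuasiFinite) (sK.map (Over.forget S)) ‹_›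
    have hP : IsAffineOpen ((pullback.fst cT m).left ⁻¹ᵁ T0) := hT0.preimage _
    haveI : IsAffine ((pullback.fst cT m).left ⁻¹ᵁ T0).toScheme := hP
    let e : ((pullback.fst cT m).left ⁻¹ᵁ T0).toScheme ⟶ Spec (CommRingCat.of ξ.K) :=
      ((pullback.fst cT m).left ⁻¹ᵁ T0).ι ≫ (pullback.snd cT m).left
    haveI : QuasiCompact e := inferInstance
    haveI : LocallyQuasiFinite e :=
      inferInstanceAs (LocallyQuasiFinite (((pullback.fst cT m).left ⁻¹ᵁ T0).ι ≫ (pullback.snd cT m).left))
    haveI := finite_preimage_of_lqf e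
    refine (Set.finite_range ((pullback.fst cT m).left ⁻¹ᵁ T0).ι).subset fun tk htk => ⟨⟨tk, ?_⟩, rfl⟩
    have he : (pullback.fst cT m).left tk = (pullback.fst cT m).left tk0 :=
      j.left.injective ((show k.left tk = u from htk).trans (show k.left tk0 = u from h0').symm)
    exact show (pullback.fst cT m).left tk ∈ T0 from he ▸ ht0
  refine (hfin.image (Points.ofPt ω)).subset ?_
  rintro wp ⟨hwx, hwz⟩
  have sq1 := IsPullback.of_hasPullback p.hom ξ.toHom
  obtain ⟨w1, hw1, -⟩ := exists_point_lift sq1 wp (Points.ofScheme ξ.pt (IsLocalRing.closedPoint ξ.K))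
    (hwx.trans (map_toHom_eq ξ _).symm)
  have sq1' := sq1.paste_horiz hW.flip
  have sq2 := IsPullback.of_hasPullback (pullback.fst p.hom ξ.toHom ≫ q.hom) a
  obtain ⟨w2, hw2, hw2'⟩ := exists_point_lift sq2 w1 (Points.ofScheme U u)
    (by rw [Points.map_comp, hw1, hwz, Points.ofPt_eq_map_ofScheme])
  have sqP := sq2.flip.paste_vert sq1'
  let e := sqP.isoIsPullback _ _ sqK
  obtain ⟨tk, htk⟩ := (Points.schemeEquiv TK).surjective (Points.map e.hom w2)
  have heω : e.hom ≫ ω = pullback.fst _ a ≫ pullback.fst p.hom ξ.toHom := by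
    refine hW.hom_ext ?_ ?_
    · rw [Category.assoc, hW.lift_fst, IsPullback.isoIsPullback_hom_snd_assoc, Category.assoc, Category.assoc, sq1.w]
    · rw [Category.assoc, hW.lift_snd, IsPullback.isoIsPullback_hom_fst_assoc, ← sq2.w, Category.assoc]
  refine ⟨tk, ?_, ?_⟩
  · show k.left tk = u
    refine (Points.schemeEquiv U).injective ?_
    change Points.ofScheme U (k.left tk) = Points.ofScheme U u
    rw [← ofPt_map_eq, Points.ofPt_eq_map_ofScheme, show Points.ofScheme TK tk = _ from htk, ← Points.map_comp,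
      IsPullback.isoIsPullback_hom_fst]
    exact hw2'
  · rw [Points.ofPt_eq_map_ofScheme, show Points.ofScheme TK tk = _ from htk, ← Points.map_comp, heω,
      Points.map_comp, hw2, hw1]

/-- Let W = X ×_Y Z be a fibre product of algebraic spaces over a scheme S with projections p, q, and
let x ∈ |X|, z ∈ |Z| lie over the same point y ∈ |Y|. If y is represented by a monomorphism Spec k ⟶
Y from the spectrum of a field and g : Z ⟶ Y is quasi-finite at z, then the set of points of |W|
mapping to x and to z is finite. (Special case: Y decent and g etale.) -/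
theorem result {S : Scheme.{u}} {X Y Z W : AlgSp.Space S} (f : X ⟶ Y)
    (g : Z ⟶ Y) (p : W ⟶ X) (q : W ⟶ Z) (hW : IsPullback p.hom q.hom f.hom g.hom) (x : AlgSp.Points X.obj)
    (z : AlgSp.Points Z.obj) (hxz : AlgSp.Points.map f.hom x = AlgSp.Points.map g.hom z)
    (hy : ∃ r : AlgSp.FieldPt Y.obj, AlgSp.Points.mk r = AlgSp.Points.map g.hom z ∧ Mono r.toHom)
    (hg : AlgSp.HasAtMor (fun U _ h u => ∃ W : U.Opens, u ∈ W ∧ LocallyQuasiFinite (W.ι ≫ h) ∧ LocallyOfFiniteType (W.ι ≫ h)) g.hom z) :
    {w : AlgSp.Points W.obj | AlgSp.Points.map p.hom w = x ∧ AlgSp.Points.map q.hom w = z}.Finite := by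
  exact finite_fibre_core hW x z hxz hy hg

end Groth.Agent.S10389
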