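import Groth.Statements.S10391
import Groth.Agent.Lib.AlgSpDecent.FieldDim
-- import your own Groth.Agent.* helpers here

set_option autoImplicit false
universe u
open CategoryTheory CategoryTheory.Limits AlgebraicGeometry Topology TopologicalSpace
open AlgSp

namespace Groth.Agent.S10391

/-- Let k be a field, X an algebraic space over k which is locally of finite type, and x ∈ |X|. The
conditions (2) x is closed in |X| and has no proper generization, (3) x is an isolated point of |X|,
(4) dim_x(X) = 0 are equivalent; if X is decent they are also equivalent to (1) dim_x(|X|) = 0. (The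
equivalence with quasi-finiteness of X → Spec k at x is not part of this row.) -/
theorem result (k : Type u) [Field k] (X : AlgSp.Space (Spec (CommRingCat.of k)))
    (p : X.obj ⟶ (AlgSp.yon (Spec (CommRingCat.of k))).obj (Over.mk (𝟙 _))) (hp : AlgSp.LocP @LocallyOfFiniteType p) (x : AlgSp.Points X.obj) :
    (IsOpen ({x} : Set (AlgSp.Points X.obj)) ↔
        (IsClosed ({x} : Set (AlgSp.Points X.obj)) ∧ ∀ x' : AlgSp.Points X.obj, x' ⤳ x → x' = x)) ∧
      (IsOpen ({x} : Set (AlgSp.Points X.obj)) ↔ AlgSp.HasAt (fun U u => FlatMor.localDim ↥U u = 0) X.obj x) ∧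
      (AlgSp.IsDecent X.obj →
        (FlatMor.localDim (AlgSp.Points X.obj) x = 0 ↔ IsOpen ({x} : Set (AlgSp.Points X.obj)))) := by
  exact Groth.Agent.AlgSpDecent.point_conditions X.property hp x


end Groth.Agent.S10391
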