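import Groth.Statements.S10393
import Groth.Agent.Lib.AlgSpDecent.FieldDim
-- import your own Groth.Agent.* helpers here

set_option autoImplicit false
universe u
open CategoryTheory CategoryTheory.Limits AlgebraicGeometry Topology TopologicalSpace
open AlgSp

namespace Groth.Agent.S10393

/-- Let S be a scheme, Y a scheme over S whose underlying topological space is discrete (equivalently, Y
is a disjoint union of spectra of local rings of dimension zero), and X an algebraic space over S
with a monomorphism X ⟶ Y over S. Then X is a scheme. -/
theorem result {S : Scheme.{u}} (Y : Over S) [DiscreteTopology ↥Y.left]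
    (X : AlgSp.Space S) (f : X ⟶ (AlgSp.ofScheme S).obj Y) [Mono f.hom] : X.obj.obj.IsRepresentable := by
  exact @Groth.Agent.AlgSpDecent.isRepresentable_of_mono_discrete _ X Y _ f.hom ‹_›


end Groth.Agent.S10393
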