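import Groth.Statements.S10398
import Groth.Agent.Lib.AlgSpDecent.FiniteNhd
import Groth.Agent.Lib.AlgSpace.LocP
import Groth.Agent.Lib.AlgSpace.MorDiag
-- import your own Groth.Agent.* helpers here

set_option autoImplicit false
universe u
open CategoryTheory CategoryTheory.Limits AlgebraicGeometry Topology TopologicalSpace
open AlgSp
open Groth.Agent.AlgSpace Groth.Agent.AlgSpDecent

set_option backward.isDefEq.respectTransparency.types false

namespace Groth.Agent.S10398

/-- (2) ⇒ (3): let S be a scheme, X and Y algebraic spaces over S, and f : X ⟶ Y a quasi-separated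
morphism of finite type, and let y ∈ |Y| be a codimension 0 point of Y. Suppose that at every point
of |X| lying over y the morphism f is quasi-finite. Then there is an open subspace Y' ⊆ Y containing
y for which the morphism Y' ×_Y X ⟶ Y' is finite. -/
theorem result {S : Scheme.{u}} {X Y : AlgSp.Space S} (f : X ⟶ Y)
    (hqs : AlgSp.IsQuasiSeparatedMor f.hom) (hft : AlgSp.IsFiniteTypeMor f.hom) (y : AlgSp.Points Y.obj)
    (hy : AlgSp.HasAt (fun U u => ringKrullDim ↥(U.presheaf.stalk u) = 0) Y.obj y)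
    (hqf : ∀ x : AlgSp.Points X.obj, AlgSp.Points.map f.hom x = y → AlgSp.HasAtMor (fun U _ h u => ∃ W : U.Opens, u ∈ W ∧ LocallyQuasiFinite (W.ι ≫ h) ∧ LocallyOfFiniteType (W.ι ≫ h)) f.hom x) :
    ∃ (Y' X' : AlgSp.Space S) (j : Y' ⟶ Y) (fst : X' ⟶ Y') (snd : X' ⟶ X), AlgSp.RepWith @IsOpenImmersion j.hom ∧
      y ∈ Set.range (AlgSp.Points.map j.hom) ∧ IsPullback fst.hom snd.hom j.hom f.hom ∧
      AlgSp.IsFiniteMor fst.hom := by
  obtain ⟨U, a, u, ha, rfl, hu⟩ := hy
  obtain ⟨O, hO, huO, -⟩ := exists_isAffineOpen_mem_and_subset (X := U.left) (x := u) (U := ⊤) trivial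
  let V : Over S := Over.mk (O.ι ≫ U.hom)
  let b : (yon S).obj V ⟶ Y.obj := (yon S).map (Over.homMk O.ι rfl : V ⟶ U) ≫ a
  have hb : RepWith @Etale b := repWith_etale_restrict ha O
  have : IsAffine V.left := hO
  let v : ↥V.left := ⟨u, huO⟩
  have hv : ∀ v' : ↥V.left, v' ⤳ v → v' = v := fun v' h =>
    Subtype.ext (eq_of_specializes_of_dim_zero hu (h.map O.ι.continuous))
  have sq := IsPullback.of_hasPullback f.hom b
  have hP : IsAlgSpace (pullback f.hom b) :=
    isAlgSpace_pullback Y.property X.property (IsAlgSpace.yon_obj V) sq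
  have := compactSpace_yon_of_affine V
  have hc : IsQuasiCompactSp (pullback f.hom b) := (isQuasiCompactSp_iff hP).2
    (compactSpace_of_isQuasiCompactMor X.property Y.property hft.2 (IsAlgSpace.yon_obj V) sq)
  obtain ⟨Q, Pf, fstP, sndP, hvQ, sqP, hfin⟩ := exists_finite_over_min hP (pullback.snd f.hom b)
    (locP_of_isPullback X.property Y.property (IsAlgSpace.yon_obj V) sq hft.1)
    (isQuasiSeparatedMor_of_isPullback sq hqs) hc hv
    (fun W φ k w hφ hk hw => by
      have w₂ : (φ ≫ pullback.fst f.hom b) ≫ f.hom = (yon S).map k ≫ b := by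
        rw [Category.assoc, pullback.condition, ← Category.assoc, hk]
      have hx : Points.map f.hom (Points.ofPt (φ ≫ pullback.fst f.hom b) w) = Points.ofPt a u := by
        rw [map_ofPt, w₂, ofPt_map_comp, hw, ofPt_map_comp]
        rfl
      obtain ⟨U₁, V₁, a₁, b₁, h₁, u₁, ha₁, hb₁, w₁, he, W₁, hu₁, hqf₁, -⟩ := hqf _ hx
      refine isoIn_of_diagram X.property Y.property ha₁ hb₁ w₁
        (repWith_comp hφ (repWith_of_isPullback sq.flip hb)) hb w₂ he ?_
      exact (isoIn_of_lqf (W₁.ι ≫ h₁.left) ⟨u₁, hu₁⟩).of_isOpenMap W₁.ι.isOpenMap)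
  let VQ : Over S := Over.mk (Q.ι ≫ V.hom)
  let bQ : (yon S).obj VQ ⟶ Y.obj := (yon S).map (Over.homMk Q.ι rfl : VQ ⟶ V) ≫ b
  have hbQ : RepWith @Etale bQ := repWith_etale_restrict hb Q
  let G : Set (Points Y.obj) := Points.ofPt b '' (Q : Set V.left)
  have hG : IsOpen G := isOpenMap_ofPt b hb _ Q.isOpen
  have hι := repWith_openSubι hG
  have hY' : IsAlgSpace (openSub G) := isAlgSpace_of_representable hι.1 Y.property
  obtain ⟨p, hp⟩ := exists_factor_openSub (W := G) bQ (by
    rintro _ ⟨x, rfl⟩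
    obtain ⟨z, rfl⟩ := (Points.schemeEquiv VQ).surjective x
    change Points.map _ (Points.ofScheme VQ z) ∈ _
    rw [← Points.ofPt_eq_map_ofScheme, ofPt_map_comp]
    exact ⟨_, z.2, rfl⟩)
  have hpe : RepWith @Etale p := by
    refine repWith_of_isPullback (isPullback_of_mono p (openSubι G)) ?_
    rw [hp]; exact hbQ
  have hps : RepWith @Surjective p := by
    refine repWith_surjective_of_ofPt (hY'.representable_from_yon p) fun y => ?_
    obtain ⟨z, hz, hzy⟩ : Points.map (openSubι G) y ∈ G := (range_openSubι G).le ⟨y, rfl⟩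
    refine ⟨⟨z, hz⟩, injective_map_of_openImmersion hι ?_⟩
    rw [map_ofPt, hp, ofPt_map_comp]
    exact hzy
  have sq₀ := IsPullback.of_hasPullback f.hom (openSubι G)
  have hX' : IsAlgSpace (pullback f.hom (openSubι G)) :=
    isAlgSpace_pullback Y.property X.property hY' sq₀
  have sqB : IsPullback (fstP ≫ pullback.fst f.hom b) sndP f.hom (p ≫ openSubι G) := by
    rw [hp]; exact sqP.paste_horiz sq
  refine ⟨⟨openSub G, hY'⟩, ⟨_, hX'⟩, ObjectProperty.homMk (openSubι G),
    ObjectProperty.homMk (pullback.snd f.hom (openSubι G)),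
    ObjectProperty.homMk (pullback.fst f.hom (openSubι G)), hι, ?_, sq₀.flip, ?_⟩
  · exact (range_openSubι G).ge ⟨v, hvQ, by rw [ofPt_map_comp]; rfl⟩
  · refine isFiniteMor_of_etale_cover _ p hpe hps
      (fst := sq₀.lift (fstP ≫ pullback.fst f.hom b) (sndP ≫ p) (by rw [Category.assoc sndP]; exact sqB.w))
      (IsPullback.of_right (by rw [sq₀.lift_fst]; exact sqB) (sq₀.lift_snd _ _ _) sq₀) hfin

end Groth.Agent.S10398
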