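import Groth.Statements.S10400
import Groth.Agent.Lib.AlgSpDecent.FiniteGeneric
import Groth.Agent.Lib.AlgSpace.QC
-- import your own Groth.Agent.* helpers here

set_option autoImplicit false
universe u
open CategoryTheory CategoryTheory.Limits AlgebraicGeometry Topology TopologicalSpace
open AlgSp
open Groth.Agent.AlgSpace Groth.Agent.AlgSpDecent

set_option backward.isDefEq.respectTransparency.types false

namespace Groth.Agent.S10400

/-- Let f : X ⟶ Y be a morphism locally of finite type of algebraic spaces over a scheme S with Y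
decent. Assume the codimension 0 points of X and of Y form finite sets, that a point of X has
codimension 0 exactly when its image does, and that f is quasi-compact or separated. Then there is a
dense open subspace V ⊆ Y with f⁻¹(V) ⟶ V finite. -/
theorem result {S : Scheme.{u}} {X Y : AlgSp.Space S} (f : X ⟶ Y)
    (hf : AlgSp.LocP @LocallyOfFiniteType f.hom) (hY : AlgSp.IsDecent Y.obj)
    (hX0 : {x : AlgSp.Points X.obj | AlgSp.HasAt (fun U u => ringKrullDim ↥(U.presheaf.stalk u) = 0) X.obj x}.Finite)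
    (hY0 : {y : AlgSp.Points Y.obj | AlgSp.HasAt (fun U u => ringKrullDim ↥(U.presheaf.stalk u) = 0) Y.obj y}.Finite)
    (hpre : ∀ x : AlgSp.Points X.obj, AlgSp.HasAt (fun U u => ringKrullDim ↥(U.presheaf.stalk u) = 0) X.obj x ↔ AlgSp.HasAt (fun U u => ringKrullDim ↥(U.presheaf.stalk u) = 0) Y.obj (AlgSp.Points.map f.hom x))
    (hqs : AlgSp.IsQuasiCompactMor f.hom ∨ AlgSp.IsSeparatedMor f.hom) :
    ∃ (V X' : AlgSp.Space S) (j : V ⟶ Y) (fst : X' ⟶ V) (snd : X' ⟶ X), AlgSp.RepWith @IsOpenImmersion j.hom ∧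
      Dense (Set.range (AlgSp.Points.map j.hom)) ∧ IsPullback fst.hom snd.hom j.hom f.hom ∧
      AlgSp.IsFiniteMor fst.hom := by
  obtain ⟨Z'', i₀, hi₀, hrep, hd⟩ := exists_dense_of_isDecent Y hY
  obtain ⟨Z, ⟨e⟩⟩ := hrep.has_representation
  let e' := isoOfRepresentableBy e
  let c : (yon S).obj Z ⟶ Y.obj := e'.hom ≫ i₀.hom
  have hc : RepWith @IsOpenImmersion c := (repWith_respectsIso_left e'.hom).2 hi₀
  have hce : RepWith @Etale c :=
    repWith_mono (fun _ _ g (_ : IsOpenImmersion g) => inferInstanceAs (Etale g)) hc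
  have hcinj : Function.Injective (Points.ofPt c) := fun x y h =>
    (Points.schemeEquiv Z).injective (injective_map_of_openImmersion hc (by
      change Points.map c (Points.ofScheme Z x) = Points.map c (Points.ofScheme Z y)
      rw [← Points.ofPt_eq_map_ofScheme, ← Points.ofPt_eq_map_ofScheme, h]))
  let M : Set Z.left := {z | ∀ z', z' ⤳ z → z' = z}
  have hM : M.Finite := (hY0.preimage hcinj.injOn).subset fun z hz =>
    (hasAt_dim_zero_iff hce z).2 hz
  have hgood : ∀ z : M, ∃ (Q : Z.left.Opens), z.1 ∈ Q ∧ ∃ (Pf : Sp S) (fst : Pf ⟶ X.obj)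
      (snd : Pf ⟶ (yon S).obj (Over.mk (Q.ι ≫ Z.hom))), IsPullback fst snd f.hom
        ((yon S).map (Over.homMk Q.ι rfl : Over.mk (Q.ι ≫ Z.hom) ⟶ Z) ≫ c) ∧ IsFiniteMor snd := by
    rintro ⟨z, hz⟩
    obtain ⟨O, hO, hzO, hOM⟩ := exists_nhd_avoid hz hM
    obtain ⟨N, hN, hzN, hNO⟩ :=
      exists_isAffineOpen_mem_and_subset (X := Z.left) (x := z) (U := ⟨O, hO⟩) hzO
    let V : Over S := Over.mk (N.ι ≫ Z.hom)
    have : IsAffine V.left := hN
    let ιN : V ⟶ Z := Over.homMk N.ι rfl
    let b : (yon S).obj V ⟶ Y.obj := (yon S).map ιN ≫ c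
    have hb : RepWith @IsOpenImmersion b :=
      repWith_comp ((repWith_yon_map_iff _ _).2 (inferInstanceAs (IsOpenImmersion N.ι))) hc
    have hbe : RepWith @Etale b :=
      repWith_mono (fun _ _ g (_ : IsOpenImmersion g) => inferInstanceAs (Etale g)) hb
    let v : ↥V.left := ⟨z, hzN⟩
    have hgen : ∀ v' : ↥V.left, v ⤳ v' := fun v' => by
      obtain ⟨z₀, hz₀, hmin⟩ := exists_isMin_specializes (X := Z.left) v'.1
      obtain rfl : z₀ = z := hOM v'.1 (hNO v'.2) z₀ hmin hz₀
      exact (subtype_specializes_iff _ _).2 hz₀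
    have hvmin : ∀ v' : ↥V.left, v' ⤳ v → v' = v := fun v' h => (h.antisymm (hgen v')).eq
    have sq := IsPullback.of_hasPullback f.hom b
    have hP : IsAlgSpace (pullback f.hom b) :=
      isAlgSpace_pullback Y.property X.property (IsAlgSpace.yon_obj V) sq
    have hfste : RepWith @Etale (pullback.fst f.hom b) := repWith_of_isPullback sq.flip hbe
    have hpre' : ∀ p : Points (pullback f.hom b),
        HasAt (fun U u => ringKrullDim ↥(U.presheaf.stalk u) = 0) (pullback f.hom b) p ↔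
          Points.map (pullback.snd f.hom b) p = Points.ofScheme V v := by
      intro p
      obtain ⟨w, hw⟩ := (Points.schemeEquiv V).surjective (Points.map (pullback.snd f.hom b) p)
      rw [← hasAt_dim_zero_map hP hfste, hpre, ← Points.map_comp, pullback.condition,
        Points.map_comp, ← hw]
      change HasAt _ _ (Points.map b (Points.ofScheme V w)) ↔ Points.ofScheme V w = _
      rw [← Points.ofPt_eq_map_ofScheme, hasAt_dim_zero_iff hbe]
      refine ⟨fun h => ?_, fun h => ?_⟩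
      · rw [h v (hgen w)]
      · rw [(Points.schemeEquiv V).injective h]; exact hvmin
    have hfin' : {p : Points (pullback f.hom b) |
        Points.map (pullback.snd f.hom b) p = Points.ofScheme V v}.Finite :=
      (hX0.preimage (injective_map_of_openImmersion
        (repWith_of_isPullback sq.flip hb)).injOn).subset fun p hp =>
          (hasAt_dim_zero_map hP hfste p).2 ((hpre' p).2 hp)
    have hor : IsQuasiCompactSp (pullback f.hom b) ∨ IsSeparatedMor (pullback.snd f.hom b) := by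
      rcases hqs with h | h
      · have := compactSpace_yon_of_affine V
        exact .inl ((isQuasiCompactSp_iff hP).2
          (compactSpace_of_isQuasiCompactMor X.property Y.property h (IsAlgSpace.yon_obj V) sq))
      · exact .inr (isSeparatedMor_of_isPullback sq h)
    obtain ⟨Q, Pf, fst, snd, hvQ, sqP, hfinite⟩ := exists_finite_over_generic' hP
      (pullback.snd f.hom b) (locP_of_isPullback X.property Y.property (IsAlgSpace.yon_obj V) sq hf)
      hgen hpre' hfin' hor
    let Q' : Z.left.Opens := N.ι ''ᵁ Q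
    let ε : Over.mk (Q'.ι ≫ Z.hom) ⟶ Over.mk (Q.ι ≫ V.hom) :=
      Over.homMk (N.ι.isoImage Q).inv (by
        change (N.ι.isoImage Q).inv ≫ Q.ι ≫ N.ι ≫ Z.hom = Q'.ι ≫ Z.hom
        rw [Scheme.Hom.isoImage_inv_ι_assoc])
    have : IsIso ε := by
      have : IsIso ((Over.forget S).map ε) := inferInstanceAs (IsIso (N.ι.isoImage Q).inv)
      exact isIso_of_reflects_iso ε (Over.forget S)
    have hε : ε ≫ (Over.homMk Q.ι rfl : Over.mk (Q.ι ≫ V.hom) ⟶ V) ≫ ιN =
        Over.homMk Q'.ι rfl := Over.OverMorphism.ext (N.ι.isoImage_inv_ι Q)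
    refine ⟨Q', ⟨v, hvQ, rfl⟩, Pf, fst ≫ pullback.fst f.hom b, snd ≫ inv ((yon S).map ε), ?_, ?_⟩
    · refine (sqP.paste_horiz sq).of_iso (Iso.refl _) (Iso.refl _) (asIso (inv ((yon S).map ε)))
        (Iso.refl _) (by simp) (by simp) (by simp) ?_
      simp only [asIso_hom, Iso.refl_hom, Category.comp_id, IsIso.eq_inv_comp, b,
        ← Functor.map_comp_assoc, hε]
    · rw [isFiniteMor_iff_repWith] at hfinite ⊢
      exact repWith_comp hfinite (MorphismProperty.of_isIso (RepWith (S := S) @IsFinite) _)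
  choose Q hzQ Pf fstP sndP sqP hfinP using hgood
  let U : Z.left.Opens := ⨆ z, Q z
  let ZU : Over S := Over.mk (U.ι ≫ Z.hom)
  let ιU : ZU ⟶ Z := Over.homMk U.ι rfl
  let j : (yon S).obj ZU ⟶ Y.obj := (yon S).map ιU ≫ c
  have hj : RepWith @IsOpenImmersion j :=
    repWith_comp ((repWith_yon_map_iff _ _).2 (inferInstanceAs (IsOpenImmersion U.ι))) hc
  have sqX := IsPullback.of_hasPullback f.hom j
  have hX' : IsAlgSpace (pullback f.hom j) :=
    isAlgSpace_pullback Y.property X.property (IsAlgSpace.yon_obj ZU) sqX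
  refine ⟨⟨(yon S).obj ZU, IsAlgSpace.yon_obj ZU⟩, ⟨_, hX'⟩, ObjectProperty.homMk j,
    ObjectProperty.homMk (pullback.snd f.hom j), ObjectProperty.homMk (pullback.fst f.hom j), hj,
    ?_, sqX.flip, ?_⟩
  · rw [dense_iff_inter_open]
    intro G hG hne
    obtain ⟨_, hyG, y', rfl⟩ := hd.inter_open_nonempty G hG hne
    obtain ⟨y'', rfl⟩ := (bijective_map_iso e'.hom).2 y'
    obtain ⟨z', rfl⟩ := (Points.schemeEquiv Z).surjective y''
    obtain ⟨z₀, hz₀, hmin⟩ := exists_isMin_specializes z'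
    have hzU : z₀ ∈ U := TopologicalSpace.Opens.mem_iSup.2 ⟨⟨z₀, hmin⟩, hzQ ⟨z₀, hmin⟩⟩
    refine ⟨Points.ofPt c z₀, hz₀.mem_open (hG.preimage (Points.continuous_ofPt c)) ?_,
      Points.ofScheme ZU ⟨z₀, hzU⟩, ?_⟩
    · change Points.ofPt c z' ∈ G
      rw [Points.ofPt_eq_map_ofScheme, Points.map_comp]
      exact hyG
    · change Points.map j (Points.ofScheme ZU ⟨z₀, hzU⟩) = _
      rw [← Points.ofPt_eq_map_ofScheme, ofPt_map_comp]
      rfl
  · refine isFiniteMor_of_openCover (P := pullback f.hom j) (pullback.snd f.hom j) fun u => ?_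
    obtain ⟨z, hz⟩ := TopologicalSpace.Opens.mem_iSup.1 u.2
    let Qu : ZU.left.Opens := U.ι ⁻¹ᵁ Q z
    have hle : Q z ≤ U := le_iSup Q z
    let ε : Over.mk (Qu.ι ≫ ZU.hom) ⟶ Over.mk ((Q z).ι ≫ Z.hom) :=
      Over.homMk (U.ι ∣_ Q z) (by
        change (U.ι ∣_ Q z) ≫ (Q z).ι ≫ Z.hom = Qu.ι ≫ U.ι ≫ Z.hom
        rw [morphismRestrict_ι_assoc])
    have : IsIso ε := by
      have : IsIso (U.ι ∣_ Q z) := by
        have : Surjective (U.ι ∣_ Q z) := ⟨fun ⟨x, hx⟩ =>
          ⟨⟨⟨x, hle hx⟩, hx⟩, Subtype.ext (morphismRestrict_base_coe U.ι (Q z) _)⟩⟩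
        have : Epi (U.ι ∣_ Q z).base := ConcreteCategory.epi_of_surjective _ (U.ι ∣_ Q z).surjective
        exact IsOpenImmersion.isIso (U.ι ∣_ Q z)
      have : IsIso ((Over.forget S).map ε) := this
      exact isIso_of_reflects_iso ε (Over.forget S)
    have hε : ε ≫ (Over.homMk (Q z).ι rfl : Over.mk ((Q z).ι ≫ Z.hom) ⟶ Z) =
        (Over.homMk Qu.ι rfl : Over.mk (Qu.ι ≫ ZU.hom) ⟶ ZU) ≫ ιU :=
      Over.OverMorphism.ext (morphismRestrict_ι U.ι (Q z))
    have sq' : IsPullback (fstP z) (sndP z ≫ inv ((yon S).map ε)) f.hom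
        ((yon S).map (Over.homMk Qu.ι rfl : Over.mk (Qu.ι ≫ ZU.hom) ⟶ ZU) ≫ j) := by
      refine (sqP z).of_iso (Iso.refl _) (Iso.refl _) (asIso (inv ((yon S).map ε)))
        (Iso.refl _) (by simp) (by simp) (by simp) ?_
      simp only [asIso_hom, Iso.refl_hom, Category.comp_id, IsIso.eq_inv_comp, j,
        ← Functor.map_comp_assoc, hε]
    refine ⟨Qu, Pf z, sqX.lift (fstP z) ((sndP z ≫ inv ((yon S).map ε)) ≫ (yon S).map
        (Over.homMk Qu.ι rfl : Over.mk (Qu.ι ≫ ZU.hom) ⟶ ZU))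
        (by rw [Category.assoc _ _ j]; exact sq'.w), sndP z ≫ inv ((yon S).map ε), hz,
      IsPullback.of_right (by rw [sqX.lift_fst]; exact sq') (sqX.lift_snd _ _ _) sqX, ?_⟩
    have hfinite := hfinP z
    rw [isFiniteMor_iff_repWith] at hfinite ⊢
    exact repWith_comp hfinite (MorphismProperty.of_isIso (RepWith (S := S) @IsFinite) _)

end Groth.Agent.S10400
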