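import Groth.Statements.S10406
import Groth.Agent.Lib.AlgSpDecent.DimMor
import Groth.Agent.Lib.AlgSpDecent.Dim
-- import your own Groth.Agent.* helpers here

set_option autoImplicit false
universe u
open CategoryTheory CategoryTheory.Limits AlgebraicGeometry Topology TopologicalSpace
open AlgSp

namespace Groth.Agent.S10406

set_option backward.isDefEq.respectTransparency.types false
open Groth.Agent.AlgSpace Groth.Agent.AlgSpDecent

/-- Let S be a scheme, Y and X decent, locally Noetherian algebraic spaces over S, and f : Y ⟶ X a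
surjective finite morphism, and let δ : |X| → ℤ be a function. Suppose δ ∘ |f| is a dimension
function on |Y| (it decreases strictly along nontrivial specializations and by exactly one along
immediate specializations). Then δ is a dimension function on |X|. -/
theorem result {S : Scheme.{u}} {X Y : AlgSp.Space S} (f : Y ⟶ X)
    (hf : AlgSp.IsFiniteMor f.hom) (hs : AlgSp.IsSurjectiveMor f.hom) (hX : AlgSp.IsDecent X.obj)
    (hY : AlgSp.IsDecent Y.obj) (hXN : AlgSp.IsLocNoethSp X.obj) (hYN : AlgSp.IsLocNoethSp Y.obj)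
    (δ : AlgSp.Points X.obj → ℤ)
    (hδ : (∀ a b : AlgSp.Points Y.obj, a ⤳ b → a ≠ b → (δ ∘ AlgSp.Points.map f.hom) b < (δ ∘ AlgSp.Points.map f.hom) a ∧ ((∀ c : AlgSp.Points Y.obj, a ⤳ c → c ⤳ b → c = a ∨ c = b) → (δ ∘ AlgSp.Points.map f.hom) a = (δ ∘ AlgSp.Points.map f.hom) b + 1))) :
    (∀ a b : AlgSp.Points X.obj, a ⤳ b → a ≠ b → δ b < δ a ∧ ((∀ c : AlgSp.Points X.obj, a ⤳ c → c ⤳ b → c = a ∨ c = b) → δ a = δ b + 1)) := by
  have hsec : ∀ x : AlgSp.Points X.obj, ∃ (U : Over S) (φ : (AlgSp.yon S).obj U ⟶ X.obj) (u : ↥U.left)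
      (W : Over S) (i : W ⟶ U) (fst : (AlgSp.yon S).obj W ⟶ Y.obj), AlgSp.RepWith @Etale φ ∧
        Points.ofPt φ u = x ∧ IsPullback fst ((AlgSp.yon S).map i) f.hom φ ∧ IsFinite i.left ∧
        AlgSp.RepWith @Etale fst := by
    intro x
    obtain ⟨U, φ, hU, hφ, u, hu⟩ := exists_affine_chart_at X.property x
    obtain ⟨W, i, fst, sq, -, hi⟩ := hf hU φ
    exact ⟨U, φ, u, W, i, fst, hφ, hu, sq, hi, repWith_of_isPullback sq.flip hφ⟩
  have hinc : ∀ y y' : AlgSp.Points Y.obj, y ⤳ y' →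
      Points.map f.hom y = Points.map f.hom y' → y = y' := by
    intro y y' hyy' he
    obtain ⟨U, φ, u, W, i, fst, hφ, hu, sq, hi, hfst⟩ := hsec (Points.map f.hom y')
    obtain ⟨w, hw, hwu⟩ := exists_pt_of_isPullback sq hu.symm
    obtain ⟨w', hw', rfl⟩ := exists_lift_of_specializes Y.property hY hfst (u := w) (x' := y) (hw ▸ hyy')
    have hii : i.left w' = i.left w := eq_of_specializes_of_isDecent X.property hX hφ (by
      rw [← ofPt_sq sq.w, ← ofPt_sq sq.w, he, hw]) (hw'.map i.left.continuous)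
    rw [← hw, eq_of_specializes_of_lqf i.left hw' hii]
  have hup : ∀ (a b : AlgSp.Points X.obj) (a' : AlgSp.Points Y.obj), a ⤳ b → Points.map f.hom a' = a →
      ∃ b', a' ⤳ b' ∧ Points.map f.hom b' = b := by
    intro a b a' hab ha'
    obtain ⟨U, φ, u, W, i, fst, hφ, hu, sq, hi, hfst⟩ := hsec b
    subst hu
    obtain ⟨u', hu', hu'a⟩ := exists_lift_of_specializes X.property hX hφ hab
    obtain ⟨w', hw', hwu⟩ := exists_pt_of_isPullback sq (ha'.trans hu'a.symm)
    obtain ⟨w, hw, hiw⟩ := i.left.isClosedMap.specializingMap (hwu ▸ hu' : i.left w' ⤳ u)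
    exact ⟨Points.ofPt fst w, hw' ▸ hw.map (Points.continuous_ofPt fst), by rw [ofPt_sq sq.w, hiw]⟩
  intro a b hab hne
  obtain ⟨a', rfl⟩ := hs a
  obtain ⟨b', hab', rfl⟩ := hup _ _ a' hab rfl
  obtain ⟨h1, h2⟩ := hδ a' b' hab' fun e => hne (congrArg _ e)
  refine ⟨h1, fun hc => h2 fun c hac hcb => ?_⟩
  rcases hc (Points.map f.hom c) (hac.map (Points.continuous_map _)) (hcb.map (Points.continuous_map _)) with e | e
  · exact Or.inl (hinc a' c hac e.symm).symm
  · exact Or.inr (hinc c b' hcb e)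


end Groth.Agent.S10406
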