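import Groth.Statements.S10409
import Groth.Agent.Lib.AlgSpDecent.MonoPointApps
-- import your own Groth.Agent.* helpers here

set_option autoImplicit false
universe u
open CategoryTheory CategoryTheory.Limits AlgebraicGeometry Topology TopologicalSpace
open AlgSp

namespace Groth.Agent.S10409

/-- (3) ⇔ (4): for an algebraic space X over a scheme S and x ∈ |X|, there is a monomorphism Spec k ⟶ X
representing x if and only if there is a morphism Spec k' ⟶ X representing x whose
self-fibre-product has etale and quasi-compact projections to Spec k'. -/
theorem result {S : Scheme.{u}} (X : AlgSp.Space S)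
    (x : AlgSp.Points X.obj) :
    (∃ p : AlgSp.FieldPt X.obj, AlgSp.Points.mk p = x ∧ Mono p.toHom) ↔
      ∃ q : AlgSp.FieldPt X.obj, AlgSp.Points.mk q = x ∧
        ∀ (P : AlgSp.Sp S) (fst snd : P ⟶ (AlgSp.yon S).obj q.pt), IsPullback fst snd q.toHom q.toHom →
          AlgSp.RepWith @Etale fst ∧ AlgSp.RepWith @QuasiCompact fst := by
  exact Groth.Agent.AlgSpDecent.exists_mono_iff_self_product X.property.diag x

end Groth.Agent.S10409
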