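import Groth.Statements.S10412
import Groth.Agent.Lib.QcChart14.Basic
import Groth.Agent.Lib.AlgSpace.Sub
import Groth.Agent.Lib.AlgSpDescent.MonoLft
-- import your own Groth.Agent.* helpers here

set_option autoImplicit false
universe u
open CategoryTheory CategoryTheory.Limits AlgebraicGeometry Topology TopologicalSpace
open AlgSp

namespace Groth.Agent.S10412

/-- For an algebraic space X over a scheme S the following are equivalent: (1) X has a Zariski covering
by open subspaces X_i, each X_i admitting a surjective, etale and quasi-compact morphism U_i ⟶ X_i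
with U_i a scheme; (2) there are etale morphisms U_i ⟶ X from schemes, jointly surjective, such that
for each i both projection morphisms from U_i ×_X U_i to U_i are quasi-compact. -/
theorem result {S : Scheme.{u}} (X : AlgSp.Space S) :
    (∃ (ι : Type u) (Xi : ι → AlgSp.Space S) (j : ∀ i, Xi i ⟶ X) (U : ι → Over S)
        (a : ∀ i, (AlgSp.yon S).obj (U i) ⟶ (Xi i).obj),
        AlgSp.IsZarCover (fun i => (Xi i).obj) (fun i => (j i).hom) ∧
          ∀ i, AlgSp.RepWith @Etale (a i) ∧ AlgSp.RepWith @Surjective (a i) ∧ AlgSp.RepWith @QuasiCompact (a i)) ↔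
      ∃ (ι : Type u) (U : ι → Over S) (φ : ∀ i, (AlgSp.yon S).obj (U i) ⟶ X.obj),
        (∀ i, AlgSp.RepWith @Etale (φ i)) ∧
          (∀ x : AlgSp.Points X.obj, ∃ (i : ι) (v : ↥(U i).left), AlgSp.Points.ofPt (φ i) v = x) ∧
          ∀ (i : ι) (R : Over S) (s t : R ⟶ U i), IsPullback ((AlgSp.yon S).map t) ((AlgSp.yon S).map s) (φ i) (φ i) →
            QuasiCompact s.left ∧ QuasiCompact t.left := by
  constructor
  · rintro ⟨ι, Xi, j, U, a, ⟨hj, hcov⟩, ha⟩
    have hje : ∀ i, AlgSp.RepWith @Etale (j i).hom := fun i =>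
      Groth.Agent.AlgSpace.repWith_mono (Q := @Etale) (fun _ _ _ h => by
        have : IsOpenImmersion _ := h
        infer_instance) (hj i)
    refine ⟨ι, U, fun i => a i ≫ (j i).hom, fun i => Groth.Agent.AlgSpace.repWith_comp (ha i).1 (hje i),
      fun x => ?_, fun i R s t sq => ?_⟩
    · obtain ⟨i, y, hy⟩ := hcov x
      obtain ⟨v, hv⟩ := Groth.Agent.AlgSpace.surjective_ofPt (ha i).2.1 y
      exact ⟨i, v, by rw [← AlgSp.Points.map_ofPt, hv]; exact hy⟩
    · have : Mono (j i).hom := Groth.Agent.AlgSpace.mono_of_isImmersion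
        (Groth.Agent.AlgSpace.repWith_mono (Q := @IsImmersion) (fun _ _ _ h => by
          have : IsOpenImmersion _ := h
          infer_instance) (hj i))
      have w : (AlgSp.yon S).map t ≫ a i = (AlgSp.yon S).map s ≫ a i := by
        rw [← cancel_mono (j i).hom, Category.assoc, Category.assoc]
        exact sq.w
      have sq' : IsPullback ((AlgSp.yon S).map t) ((AlgSp.yon S).map s) (a i) (a i) :=
        ⟨⟨w⟩, ⟨PullbackCone.IsLimit.mk _
          (fun c => sq.lift c.fst c.snd (by rw [← Category.assoc, c.condition, Category.assoc]))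
          (fun c => sq.lift_fst _ _ _) (fun c => sq.lift_snd _ _ _)
          (fun c m h₁ h₂ => sq.hom_ext (by rw [sq.lift_fst]; exact h₁) (by rw [sq.lift_snd]; exact h₂))⟩⟩
      exact ⟨(AlgSp.repWith_yon_map_iff @QuasiCompact s).1
          (Groth.Agent.AlgSpace.repWith_of_isPullback sq' (ha i).2.2),
        (AlgSp.repWith_yon_map_iff @QuasiCompact t).1
          (Groth.Agent.AlgSpace.repWith_of_isPullback sq'.flip (ha i).2.2)⟩
  · rintro ⟨ι, U, φ, hφ, hcov, hqc⟩
    let E : ι → Set (AlgSp.Points X.obj) := fun i => Set.range (AlgSp.Points.ofPt (φ i))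
    have hE : ∀ i, IsOpen (E i) := fun i => (Groth.Agent.AlgSpace.isOpenMap_ofPt (φ i) (hφ i)).isOpen_range
    have hrep := fun i => Groth.Agent.AlgSpace.repWith_openSubι (hE i)
    have hsp : ∀ i, AlgSp.IsAlgSpace (Groth.Agent.AlgSpace.openSub (E i)) := fun i =>
      Groth.Agent.AlgSpace.isAlgSpace_of_representable (hrep i).1 X.property
    choose p hp using fun i => Groth.Agent.AlgSpace.exists_lift_openSub (W := E i) (φ i) fun w => ⟨w, rfl⟩
    have sq0 : ∀ i, IsPullback (𝟙 _) (p i) (φ i) (Groth.Agent.AlgSpace.openSubι (E i)) := fun i =>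
      ⟨⟨by rw [hp, Category.id_comp]⟩, ⟨PullbackCone.IsLimit.mk _ (fun c => c.fst)
        (fun c => Category.comp_id _) (fun c => by
          rw [← cancel_mono (Groth.Agent.AlgSpace.openSubι (E i)), Category.assoc, hp, c.condition])
        (fun c m h₁ h₂ => by simpa using h₁)⟩⟩
    have hpe : ∀ i, AlgSp.RepWith @Etale (p i) := fun i => Groth.Agent.AlgSpace.repWith_of_isPullback (sq0 i) (hφ i)
    have hmap : ∀ i z, ∃ w, AlgSp.Points.ofPt (p i) w = z := fun i z => by
      obtain ⟨w, hw⟩ : AlgSp.Points.map (Groth.Agent.AlgSpace.openSubι (E i)) z ∈ E i :=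
        (Groth.Agent.AlgSpace.range_openSubι (E i)).le ⟨z, rfl⟩
      obtain ⟨v, hv, hv'⟩ := Groth.Agent.AlgSpDecent.exists_point_lift (sq0 i)
        (AlgSp.Points.ofScheme (U i) w) z (by rw [← AlgSp.Points.ofPt_eq_map_ofScheme]; exact hw)
      obtain ⟨v', rfl⟩ := (AlgSp.Points.schemeEquiv (U i)).surjective v
      exact ⟨v', by rw [AlgSp.Points.ofPt_eq_map_ofScheme]; exact hv'⟩
    have hps : ∀ i, AlgSp.RepWith @Surjective (p i) := fun i =>
      Groth.Agent.AlgSpace.repWith_surjective_of_ofPt (hpe i).1 (hmap i)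
    refine ⟨ι, fun i => ⟨_, hsp i⟩, fun i => ObjectProperty.homMk (Groth.Agent.AlgSpace.openSubι (E i)), U, p,
      ⟨hrep, fun x => ?_⟩, fun i => ⟨hpe i, hps i, ?_⟩⟩
    · obtain ⟨i, v, hv⟩ := hcov x
      exact ⟨i, (Groth.Agent.AlgSpace.range_openSubι (E i)).ge ⟨v, hv⟩⟩
    · have sq := (hpe i).1.isPullback (p i)
      obtain ⟨t, ht⟩ := (AlgSp.yon S).map_surjective ((hpe i).1.fst (p i))
      rw [← ht] at sq
      have sq' : IsPullback ((AlgSp.yon S).map t) ((AlgSp.yon S).map ((hpe i).1.snd (p i))) (φ i) (φ i) := by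
        have := sq.paste_horiz (sq0 i)
        rwa [Category.comp_id, hp] at this
      have := (hqc i _ _ _ sq').1
      exact Groth.Agent.QcChart14.repWith_qc_of_snd (hsp i) (hpe i) (hps i) sq

end Groth.Agent.S10412
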