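import Groth.Statements.S10414
import Groth.Agent.Lib.Residual15.Factor
-- import your own Groth.Agent.* helpers here

set_option autoImplicit false
set_option backward.isDefEq.respectTransparency.types false
universe u
open CategoryTheory CategoryTheory.Limits AlgebraicGeometry Topology TopologicalSpace
open AlgSp Groth.Agent.AlgSpace

namespace Groth.Agent.S10414

/-- Let S be a scheme, X an algebraic space over S, x ∈ |X|, and Z_x ⟶ X the residual space of x (a
monomorphism with image {x} from a space which admits a locally finitely presented, flat, surjective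
morphism whose source is the spectrum of a field). Then Z_x is isomorphic to Spec k' for some field
k' if and only if the point x is represented by some monomorphism Spec k ⟶ X. (The decent case, in
which the right side holds at every point, is not part of this row.) -/
theorem result {S : Scheme.{u}} (X : AlgSp.Space S) (x : AlgSp.Points X.obj)
    {Z : AlgSp.Space S} (i : Z ⟶ X) [Mono i.hom] (hi : Set.range (AlgSp.Points.map i.hom) = {x})
    (hZ : ∃ (k : Type u) (_ : Field k) (str : Spec (CommRingCat.of k) ⟶ S) (p : (AlgSp.yon S).obj (Over.mk str) ⟶ Z.obj),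
        AlgSp.LocP @LocallyOfFinitePresentation p ∧ AlgSp.LocP @Flat p ∧ AlgSp.IsSurjectiveMor p) :
    (∃ (k : Type u) (_ : Field k) (str : Spec (CommRingCat.of k) ⟶ S), Nonempty (Z.obj ≅ (AlgSp.yon S).obj (Over.mk str))) ↔
      ∃ p : AlgSp.FieldPt X.obj, AlgSp.Points.mk p = x ∧ Mono p.toHom := by
  obtain ⟨k₀, _, str₀, p₀, h1, h2, h3⟩ := hZ
  constructor
  · rintro ⟨k, _, str, ⟨e⟩⟩
    let ξ : (AlgSp.yon S).obj (Over.mk str) ⟶ X.obj := e.inv ≫ i.hom
    let p : AlgSp.FieldPt X.obj := ⟨k, str, (AlgSp.J S).uliftYonedaEquiv ξ⟩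
    have hp : p.toHom = ξ := Equiv.symm_apply_apply _ _
    refine ⟨p, ?_, ?_⟩
    · rw [← AlgSp.Points.ofPt_toHom p (IsLocalRing.closedPoint k), hp, ← Set.mem_singleton_iff, ← hi]
      exact ⟨AlgSp.Points.ofPt e.inv (IsLocalRing.closedPoint k), AlgSp.Points.map_ofPt _ _ _⟩
    · rw [hp]
      exact mono_comp _ _
  · rintro ⟨p, hp, hm⟩
    let Z' : AlgSp.Space S := ⟨(AlgSp.yon S).obj p.pt, AlgSp.IsAlgSpace.yon_obj _⟩
    let i' : Z' ⟶ X := ObjectProperty.homMk p.toHom
    have : Mono i'.hom := hm
    have hi' : Set.range (AlgSp.Points.map i'.hom) = {x} := by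
      refine Set.eq_singleton_iff_unique_mem.2 ⟨?_, ?_⟩
      · obtain ⟨z, hz⟩ := Groth.Agent.AlgSpDecent.exists_map_toHom_eq p
        exact ⟨z, hz.trans hp⟩
      · rintro _ ⟨z, rfl⟩
        exact (Groth.Agent.AlgSpDecent.map_toHom_eq p z).trans hp
    have hid : AlgSp.RepWith @Etale (𝟙 ((AlgSp.yon S).obj p.pt)) := AlgSp.repWith_id @Etale _
    obtain ⟨e, -⟩ := Groth.Agent.Residual14.residual_unique X x i i' hi hi' h1 h2 h3
      (p' := (𝟙 ((AlgSp.yon S).obj (Over.mk p.str))))
      (Groth.Agent.AlgSpace.locP_of_repWith Z'.property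
        (repWith_mono etale_le_lfp hid))
      (Groth.Agent.AlgSpace.locP_of_repWith Z'.property
        (repWith_mono etale_le_flat hid))
      (surjective_map_of_repWith (AlgSp.repWith_id @Surjective _))
    exact ⟨p.K, inferInstance, p.str, ⟨(ObjectProperty.ι AlgSp.IsAlgSpace).mapIso e.symm⟩⟩


end Groth.Agent.S10414
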