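import Groth.Statements.S10416
import Groth.Agent.Lib.Residual15.Factor
import Groth.Agent.Lib.AlgSpDecent.RedInduced
import Groth.Agent.Lib.AlgSpDescent.MonoLft
-- import your own Groth.Agent.* helpers here

set_option autoImplicit false
set_option backward.isDefEq.respectTransparency.types false
universe u
open CategoryTheory CategoryTheory.Limits AlgebraicGeometry Topology TopologicalSpace
open AlgSp Groth.Agent.AlgSpace

namespace Groth.Agent.S10416

/-- Let S be a scheme, X a locally Noetherian algebraic space over S, x ∈ |X|, and i : Z_x ⟶ X the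
residual space at x. Then x is closed in |X| if and only if i is a closed immersion. -/
theorem result {S : Scheme.{u}} {X Z : AlgSp.Space S}
    (hX : AlgSp.IsLocNoethSp X.obj) (x : AlgSp.Points X.obj) (i : Z ⟶ X) [Mono i.hom]
    (hi : Set.range (AlgSp.Points.map i.hom) = {x}) (hZ : ∃ (k : Type u) (_ : Field k) (str : Spec (CommRingCat.of k) ⟶ S) (p : (AlgSp.yon S).obj (Over.mk str) ⟶ Z.obj),
        AlgSp.LocP @LocallyOfFinitePresentation p ∧ AlgSp.LocP @Flat p ∧ AlgSp.IsSurjectiveMor p) :
    IsClosed ({x} : Set (AlgSp.Points X.obj)) ↔ AlgSp.RepWith @IsClosedImmersion i.hom := by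
  obtain ⟨k₀, _, str₀, p₀, h1, h2, h3⟩ := hZ
  constructor
  · intro hx
    obtain ⟨Z', i', hc, hr, hred⟩ := Groth.Agent.AlgSpDecent.RedInduced.exists_isRedInduced X {x} hx
    have : Mono i'.hom := Groth.Agent.AlgSpDescent.mono_of_repWith_closedImmersion hc
    have hN : AlgSp.IsLocNoethSp Z'.obj :=
      Groth.Agent.AlgSpace.isLocNoethSp_of_locP_lft Z'.property X.property
        (Groth.Agent.AlgSpace.locP_of_repWith X.property
          (repWith_mono (fun _ _ f (_ : IsClosedImmersion f) => inferInstanceAs (LocallyOfFiniteType f)) hc))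
        hX
    have : Nonempty (AlgSp.Points Z'.obj) := by
      obtain ⟨z, -⟩ : x ∈ Set.range (AlgSp.Points.map i'.hom) := hr ▸ rfl
      exact ⟨z⟩
    have : Subsingleton (AlgSp.Points Z'.obj) := ⟨fun a b =>
      Groth.Agent.AlgSpDecent.injective_map_of_mono i'.hom
        ((hr.le ⟨a, rfl⟩ : _ = x).trans (hr.le ⟨b, rfl⟩ : _ = x).symm)⟩
    obtain ⟨k', _, str', q, -, hq2, hq3, hq4⟩ :=
      Groth.Agent.Residual14.exists_lft_flat_surjective Z' hred
    obtain ⟨e, he⟩ := Groth.Agent.Residual14.residual_unique X x i i' hi hr h1 h2 h3 (hq4 hN) hq2 hq3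
    have he' : i.hom = e.inv.hom ≫ i'.hom :=
      congrArg InducedCategory.Hom.hom ((Iso.eq_inv_comp e).2 he)
    have : IsIso e.inv.hom := inferInstanceAs (IsIso ((ObjectProperty.ι AlgSp.IsAlgSpace).map e.inv))
    rw [he']
    exact Groth.Agent.AlgSpace.repWith_comp
      (Groth.Agent.AlgSpace.repWith_of_isIso @IsClosedImmersion _) hc
  · intro hc
    rw [← hi]
    exact Groth.Agent.AlgSpDecent.isClosed_range_map_of_universallyClosed
      (repWith_mono (fun _ _ f (_ : IsClosedImmersion f) => inferInstanceAs (UniversallyClosed f)) hc)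


end Groth.Agent.S10416
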