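import Groth.Statements.S10418
import Groth.Agent.Lib.AlgSpDecent.Strat
-- import your own Groth.Agent.* helpers here

set_option autoImplicit false
universe u
open CategoryTheory CategoryTheory.Limits AlgebraicGeometry Topology TopologicalSpace
open AlgSp
open Groth.Agent.AlgSpace Groth.Agent.AlgSpDecent

set_option backward.isDefEq.respectTransparency.types false

namespace Groth.Agent.S10418

/-- Let S be a scheme and X an algebraic space over S which is quasi-compact. There are open subspaces X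
= U_1 ⊇ U_2 ⊇ U_3 ⊇ ⋯ such that (1) with T_p = U_p ∖ U_{p+1} (reduced induced subspace structure)
there is a separated scheme V_p with a surjective etale f_p : V_p ⟶ U_p for which the map f_p⁻¹(T_p)
⟶ T_p is an isomorphism, and (2) every x ∈ |X| admitting a representative given by a quasi-compact
morphism from the spectrum of a field lies in T_p for some p. -/
theorem result {S : Scheme.{u}} (X : AlgSp.Space S)
    (hX : AlgSp.IsQuasiCompactSp X.obj) :
    ∃ (Uo : ℕ → AlgSp.Space S) (j : ∀ p, Uo p ⟶ X) (k : ∀ p, Uo (p + 1) ⟶ Uo p)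
      (T : ℕ → AlgSp.Space S) (i : ∀ p, T p ⟶ Uo p),
      (∀ p, AlgSp.RepWith @IsOpenImmersion (j p).hom) ∧ (∀ p, k p ≫ j p = j (p + 1)) ∧ IsIso (j 1) ∧
      (∀ p, AlgSp.IsRedInduced (Set.range (AlgSp.Points.map (k p).hom))ᶜ (i p).hom) ∧
      (∀ p, 1 ≤ p → ∃ (V : Over S) (f : (AlgSp.yon S).obj V ⟶ (Uo p).obj), V.left.IsSeparated ∧
        AlgSp.RepWith @Etale f ∧ AlgSp.RepWith @Surjective f ∧
        ∀ (P : AlgSp.Sp S) (fst : P ⟶ (T p).obj) (snd : P ⟶ (AlgSp.yon S).obj V),
          IsPullback fst snd (i p).hom f → IsIso fst) ∧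
      (∀ x : AlgSp.Points X.obj, (∃ q : AlgSp.FieldPt X.obj, AlgSp.Points.mk q = x ∧ AlgSp.RepWith @QuasiCompact q.toHom) →
        ∃ p, 1 ≤ p ∧ x ∈ Set.range (AlgSp.Points.map ((i p) ≫ (j p)).hom)) := by
  classical
  obtain ⟨U, φ, hU, hφ, hφs⟩ := exists_affine_chart hX
  obtain ⟨Uo, j, k, T, i, hj, hkj, h1, hi, hr, hcov, hV⟩ := exists_strat X hφ hφs
  refine ⟨Uo, j, k, T, i, hj, hkj, h1, hi, fun p hp => ?_, fun x ⟨q, hqx, hq⟩ => ?_⟩
  · obtain ⟨V, f, hsep, he, hs, -, hiso⟩ := hV p hp
    exact ⟨V, f, hsep, he, hs, hiso⟩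
  · subst hqx
    obtain ⟨m, hm⟩ := exists_notMem_distImage hφ q hq
    have h0 : Points.mk q ∈ distImage φ 0 := by
      obtain ⟨u, hu⟩ := surjective_ofPt hφs (Points.mk q)
      exact hu ▸ mem_distImage_zero u
    by_contra hc
    push Not at hc
    have : ∀ n, Points.mk q ∈ distImage φ n := fun n => by
      induction n with
      | zero => exact h0
      | succ n ih => exact by_contra fun h => hc (n + 1) (by omega) (hcov n _ ih h)
    exact hm (this m)

end Groth.Agent.S10418
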