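import Groth.Statements.S10422
import Mathlib.RingTheory.TensorProduct.Nontrivial
import Mathlib.RingTheory.TensorProduct.Maps
import Mathlib.RingTheory.Spectrum.Prime.RingHom
import Mathlib.LinearAlgebra.Dimension.Constructions
import Mathlib.LinearAlgebra.FiniteDimensional.Basic

set_option autoImplicit false
universe u
open Topology TopologicalSpace TensorProduct
open AlgSp

namespace Groth.Agent.S10422

/-- A closure missing `V(J)` is separated from it by a function. -/
theorem exists_mem_of_closure_inter {R : Type u} [CommRing R] (U : Set (PrimeSpectrum R))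
    (J : Ideal R) (h : closure U ∩ PrimeSpectrum.zeroLocus (J : Set R) = ∅) :
    ∃ e : R, (∀ q ∈ U, e ∈ q.asIdeal) ∧ 1 - e ∈ J := by
  rw [← PrimeSpectrum.zeroLocus_vanishingIdeal_eq_closure U,
    ← PrimeSpectrum.zeroLocus_sup, PrimeSpectrum.zeroLocus_empty_iff_eq_top] at h
  obtain ⟨e, he, d, hd, hed⟩ := Submodule.mem_sup.1 ((Ideal.eq_top_iff_one _).1 h)
  exact ⟨e, fun q hq => (PrimeSpectrum.mem_vanishingIdeal _ _).1 he q hq, by
    rw [← hed, add_sub_cancel_left]; exact hd⟩

open TensorProduct in
/-- Finitely many field extensions embed into a common one. -/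
theorem exists_common_field (k : Type u) [Field k] (K : ℕ → Type u) [∀ n, Field (K n)]
    [∀ n, Algebra k (K n)] (N : ℕ) :
    ∃ (Ω : Type u) (_ : Field Ω) (_ : Algebra k Ω), ∀ i < N, Nonempty (K i →ₐ[k] Ω) := by
  induction N with
  | zero => exact ⟨k, inferInstance, inferInstance, fun i hi => absurd hi (Nat.not_lt_zero i)⟩
  | succ N ih =>
    obtain ⟨Ω, _, _, h⟩ := ih
    have : Nontrivial (Ω ⊗[k] K N) :=
      Algebra.TensorProduct.nontrivial_of_algebraMap_injective_of_isDomain k Ω (K N)
        (algebraMap k Ω).injective (algebraMap k (K N)).injective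
    obtain ⟨m, hm⟩ := Ideal.exists_maximal (Ω ⊗[k] K N)
    let _ := Ideal.Quotient.field m
    refine ⟨(Ω ⊗[k] K N) ⧸ m, inferInstance, inferInstance, fun i hi => ?_⟩
    rcases Nat.lt_succ_iff_lt_or_eq.1 hi with hi | rfl
    · exact (h i hi).map fun φ =>
        ((Ideal.Quotient.mkₐ k m).comp Algebra.TensorProduct.includeLeft).comp φ
    · exact ⟨(Ideal.Quotient.mkₐ k m).comp Algebra.TensorProduct.includeRight⟩

/-- Let A be a ring, k a field, (p_n) a sequence of primes of A which are pairwise distinct, and k →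
κ(p_n) field embeddings. Then the closure in Spec(A ⊗ A) of the image of ∐_{n ≠ m} Spec(κ(p_n) ⊗_k
κ(p_m)) meets the diagonal. Here κ(p_n) is any A-algebra K_n which is a field whose structure map
has kernel p_n and whose elements are quotients of images of elements of A. -/
theorem result (A : Type u) [CommRing A] (k : Type u) [Field k]
    (p : ℕ → PrimeSpectrum A) (hp : Function.Injective p) (K : ℕ → Type u) [∀ n, Field (K n)]
    [∀ n, Algebra A (K n)] [∀ n, Algebra k (K n)]
    (hker : ∀ n, RingHom.ker (algebraMap A (K n)) = (p n).asIdeal)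
    (hfrac : ∀ n (x : K n), ∃ a b : A, algebraMap A (K n) b ≠ 0 ∧ x * algebraMap A (K n) b = algebraMap A (K n) a) :
    (closure (⋃ (n : ℕ) (m : ℕ) (_ : n ≠ m),
        Set.range (PrimeSpectrum.comap
          (Algebra.TensorProduct.lift
            ((Algebra.TensorProduct.includeLeft (R := k) (S := ℤ) (A := K n) (B := K m)).toRingHom.toIntAlgHom.comp
              (Algebra.ofId A (K n)).toRingHom.toIntAlgHom)
            ((Algebra.TensorProduct.includeRight (R := k) (A := K n) (B := K m)).toRingHom.toIntAlgHom.comp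
              (Algebra.ofId A (K m)).toRingHom.toIntAlgHom)
            (fun _ _ => Commute.all _ _)).toRingHom)) ∩
      Set.range (PrimeSpectrum.comap (Algebra.TensorProduct.lmul' (S := A) ℤ).toRingHom)).Nonempty := by
  by_contra hne
  rw [Set.not_nonempty_iff_eq_empty] at hne
  set μ := (Algebra.TensorProduct.lmul' (S := A) ℤ).toRingHom with hμ
  have hμs : Function.Surjective μ := fun a => ⟨a ⊗ₜ 1, by simp [hμ]⟩
  rw [range_comap_of_surjective _ μ hμs] at hne
  obtain ⟨e, he, hd⟩ := exists_mem_of_closure_inter _ _ hne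
  have hμe : μ e = 1 := by
    have := RingHom.mem_ker.1 hd
    rw [map_sub, map_one, sub_eq_zero] at this
    exact this.symm
  obtain ⟨s, hs⟩ := TensorProduct.exists_finset e
  obtain ⟨Ω, _, _, hΩ⟩ := exists_common_field k K (s.card + 1)
  let ψ : ∀ i : Fin (s.card + 1), K i →ₐ[k] Ω := fun i => (hΩ i i.2).some
  let v : Fin (s.card + 1) → (↥s → Ω) := fun i j => ψ i (algebraMap A (K i) j.1.1)
  let w : Fin (s.card + 1) → (↥s → Ω) := fun i j => ψ i (algebraMap A (K i) j.1.2)
  have hdiag : ∀ i, ∑ j, v i j * w i j = 1 := by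
    intro i
    have h1 : ∑ j ∈ s, j.1 * j.2 = 1 := by
      rw [← hμe, hs]; simp [hμ]
    calc ∑ j, v i j * w i j = ψ i (algebraMap A (K i) (∑ j ∈ s, j.1 * j.2)) := by
            rw [← Finset.sum_coe_sort s]; simp [v, w]
      _ = 1 := by rw [h1, map_one, map_one]
  have hoff : ∀ i l, i ≠ l → ∑ j, v i j * w l j = 0 := by
    intro i l hil
    let Φ := Algebra.TensorProduct.lift
      ((Algebra.TensorProduct.includeLeft (R := k) (S := ℤ) (A := K i) (B := K l)).toRingHom.toIntAlgHom.comp
              (Algebra.ofId A (K i)).toRingHom.toIntAlgHom)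
      ((Algebra.TensorProduct.includeRight (R := k) (A := K i) (B := K l)).toRingHom.toIntAlgHom.comp
              (Algebra.ofId A (K l)).toRingHom.toIntAlgHom)
      (fun _ _ => Commute.all _ _)
    have hnil : IsNilpotent (Φ e) := by
      rw [← mem_nilradical, nilradical_eq_sInf, Submodule.mem_sInf]
      intro q hq
      exact he (PrimeSpectrum.comap Φ.toRingHom ⟨q, hq⟩)
        (Set.mem_iUnion.2 ⟨i, Set.mem_iUnion.2 ⟨l, Set.mem_iUnion.2
          ⟨Fin.val_injective.ne hil, ⟨⟨q, hq⟩, rfl⟩⟩⟩⟩)
    have h0 := (hnil.map (Algebra.TensorProduct.lift (ψ i) (ψ l) fun _ _ => Commute.all _ _)).eq_zero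
    rw [hs] at h0
    rw [← h0, ← Finset.sum_coe_sort s]
    simp [Φ, v, w]
  have hli : LinearIndependent Ω v := by
    rw [Fintype.linearIndependent_iff]
    intro g hg l
    have := congrArg (fun x : ↥s → Ω => ∑ j, x j * w l j) hg
    simp only [Finset.sum_apply, Pi.smul_apply, smul_eq_mul, Finset.sum_mul, Pi.zero_apply,
      zero_mul, Finset.sum_const_zero] at this
    rw [Finset.sum_comm] at this
    simp_rw [mul_assoc, ← Finset.mul_sum] at this
    rw [Finset.sum_eq_single l (fun b _ hb => by rw [hoff b l hb, mul_zero])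
      (by simp), hdiag, mul_one] at this
    exact this
  have := hli.fintype_card_le_finrank
  simp [Module.finrank_pi] at this

end Groth.Agent.S10422
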