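import Groth.Statements.S10430
import Groth.Agent.Lib.AlgSpDecent.MonoPointApps
import Groth.Agent.Lib.AlgSpDecent.UnivBddEtale
import Groth.Agent.Lib.AlgSpace.Diag
-- import your own Groth.Agent.* helpers here

set_option autoImplicit false
universe u
open CategoryTheory CategoryTheory.Limits AlgebraicGeometry Topology TopologicalSpace
open AlgSp Groth.Agent.AlgSpDecent Groth.Agent.AlgSpace

namespace Groth.Agent.S10430

/-- If every etale morphism U ⟶ X from an affine scheme to the algebraic space X has universally bounded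
fibres, then X is decent. -/
theorem result {S : Scheme.{u}} (X : AlgSp.Space S)
    (h : ∀ (U : Over S) (φ : (AlgSp.yon S).obj U ⟶ X.obj), IsAffine U.left → AlgSp.RepWith @Etale φ → W4dec.HasUnivBddFibres φ) :
    AlgSp.IsDecent X.obj := by
  intro x
  have hd := X.property.diag
  have hrep : ∀ {A : Over S} (φ : (AlgSp.yon S).obj A ⟶ X.obj), AlgSp.Representable φ :=
    fun φ => Functor.relativelyRepresentable.of_diag hd φ
  obtain ⟨A, q, hqe, hqs⟩ := X.property.atlas
  have hchart : ∀ y : AlgSp.Points X.obj, ∃ (U : Over S) (φ : (AlgSp.yon S).obj U ⟶ X.obj),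
      IsAffine U.left ∧ AlgSp.RepWith @Etale φ ∧ y ∈ Set.range (AlgSp.Points.ofPt φ) := fun y => by
    obtain ⟨a, rfl⟩ := surjective_ofPt hqs y
    obtain ⟨O, hO, haO, -⟩ := exists_isAffineOpen_mem_and_subset (X := A.left) (x := a) (U := ⊤) trivial
    exact ⟨Over.mk (O.ι ≫ A.hom), _, hO, repWith_etale_restrict hqe O, ⟨a, haO⟩, ofPt_map_comp _ q _⟩
  have hbd : ∀ {U : Over S} (φ : (AlgSp.yon S).obj U ⟶ X.obj), IsAffine U.left → AlgSp.RepWith @Etale φ →
      ∀ y, (AlgSp.Points.ofPt φ ⁻¹' {y}).Finite := fun {U} φ hU hφ y => by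
    obtain ⟨n, hn⟩ := h U φ hU hφ
    exact Set.finite_of_encard_le_coe (encard_fibre_le (hrep φ) hn y)
  obtain ⟨U, φ, hU, hφ, hxU⟩ := hchart x
  obtain ⟨n, hn⟩ := h U φ hU hφ
  obtain ⟨p, hp, hm, -⟩ := exists_mono_of_finite_fibres hd hφ hxU (hbd φ hU hφ x) fun R s t sq =>
    Set.finite_of_encard_le_coe (encard_fibre_le (hrep _)
      (degFibresLE_comp (hrep φ) (degFibresLE_of_isPullback hn sq.flip) hn) x)
  refine ⟨p, hp, hm, repWith_of_affine (hrep _) fun {T} hT g => ?_⟩
  obtain ⟨V, snd, fst, sqV⟩ := hrep p.toHom g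
  refine ⟨V, fst, snd, sqV, (quasiCompact_iff_compactSpace _).2 ?_⟩
  have hloc : ∀ v : T.left, ∃ (W : Over S) (w : W ⟶ V) (O : T.left.Opens),
      CompactSpace W.left ∧ v ∈ O ∧ snd.left ⁻¹' O ⊆ Set.range w.left := by
    intro v
    obtain ⟨B, ψ, hB, hψ, hvB⟩ := hchart (AlgSp.Points.ofPt g v)
    obtain ⟨W, b, fW, sqW⟩ := hψ.1 g
    obtain ⟨a, rfl⟩ := (AlgSp.yon S).map_surjective fW
    obtain ⟨b₀, hb₀⟩ := hvB
    obtain ⟨w₀, hw₀, hw₀'⟩ := exists_pt_of_isPullback sqW (x := AlgSp.Points.ofScheme B b₀) (t := v)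
      (by rw [← AlgSp.Points.ofPt_eq_map_ofScheme]; exact hb₀)
    obtain ⟨O', hO', hwO', -⟩ := exists_isAffineOpen_mem_and_subset (X := W.left) (x := w₀) (U := ⊤) trivial
    have : Etale b.left := hψ.2 g _ _ sqW
    let o : Over.mk (O'.ι ≫ W.hom) ⟶ W := Over.homMk O'.ι rfl
    obtain ⟨Z, c, fZ, sqZ⟩ := hrep ψ p.toHom
    obtain ⟨z, rfl⟩ := (AlgSp.yon S).map_surjective fZ
    have hfin : Finite Z.left := by
      have := (hbd ψ hB hψ (AlgSp.Points.mk p)).to_subtype
      exact Finite.of_injective (fun t => (⟨z.left t, by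
        rw [preimage_mk_eq_range sqZ.flip]; exact ⟨t, rfl⟩⟩ : AlgSp.Points.ofPt ψ ⁻¹' {AlgSp.Points.mk p}))
        fun t t' e => injective_of_mono_point sqZ.flip (congrArg Subtype.val e)
    have : CompactSpace Z.left := Finite.compactSpace
    have : IsAffine (Over.mk (O'.ι ≫ W.hom)).left := hO'
    have : QuasiCompact z.left := (quasiCompact_iff_compactSpace _).2 inferInstance
    have sP := IsPullback.of_hasPullback (o ≫ a) z
    have : QuasiCompact (pullback.fst (o ≫ a) z).left :=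
      MorphismProperty.of_isPullback (P := @QuasiCompact) (sP.map (Over.forget S)).flip ‹_›
    have : CompactSpace (pullback (o ≫ a) z).left :=
      QuasiCompact.compactSpace_of_compactSpace (pullback.fst (o ≫ a) z).left
    obtain ⟨l, hl⟩ := (AlgSp.yon S).map_surjective (sqV.lift
      ((AlgSp.yon S).map (pullback.snd (o ≫ a) z ≫ c)) ((AlgSp.yon S).map (pullback.fst (o ≫ a) z ≫ o ≫ b)) (by
        simp only [Functor.map_comp, Category.assoc, ← sqW.w, ← sqZ.w]
        rw [← Functor.map_comp_assoc, ← Functor.map_comp_assoc, ← Functor.map_comp_assoc, Category.assoc,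
          pullback.condition]))
    have hlsnd : l ≫ snd = pullback.fst (o ≫ a) z ≫ o ≫ b :=
      (AlgSp.yon S).map_injective (by rw [Functor.map_comp, hl, IsPullback.lift_snd])
    refine ⟨_, l, ⟨b.left '' O', b.left.isOpenMap _ O'.isOpen⟩, ‹_›, ⟨w₀, hwO', hw₀'⟩, fun y hy => ?_⟩
    obtain ⟨w, hw, hwy⟩ := hy
    have haw : a.left w ∈ Set.range z.left := by
      rw [← preimage_mk_eq_range sqZ.flip, Set.mem_preimage, Set.mem_singleton_iff, ← ofPt_map_comp,
        sqW.w, ofPt_map_comp, hwy, ← ofPt_map_comp, ← sqV.w]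
      obtain ⟨f₀, rfl⟩ := (AlgSp.yon S).map_surjective fst
      rw [ofPt_map_comp]
      exact AlgSp.Points.ofPt_toHom p _
    obtain ⟨t, ht⟩ := haw
    obtain ⟨e, he, -⟩ := Scheme.Pullback.exists_preimage_pullback (f := (o ≫ a).left) (g := z.left)
      (⟨w, hw⟩ : O'.toScheme) t (by rw [ht]; rfl)
    have : Mono ((AlgSp.yon S).map snd) := sqV.mono_snd_of_mono
    have := mono_left snd
    refine ⟨(sP.map (Over.forget S)).isoPullback.inv e, snd.left.injective ?_⟩
    rw [← hwy, ← Scheme.Hom.comp_apply l.left, ← Over.comp_left, hlsnd, Over.comp_left, Over.comp_left,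
      Scheme.Hom.comp_apply, Scheme.Hom.comp_apply]
    have hfst : (sP.map (Over.forget S)).isoPullback.inv ≫ (pullback.fst (o ≫ a) z).left =
        pullback.fst (o ≫ a).left z.left := (sP.map (Over.forget S)).isoPullback_inv_fst
    exact congrArg (fun q : O'.toScheme => b.left (O'.ι q)) ((congr($hfst e)).trans he)
  choose W w O hW hvO hO using hloc
  have := hT
  obtain ⟨s, hs⟩ := (CompactSpace.isCompact_univ (X := T.left)).elim_finite_subcover
    (fun v => (O v : Set T.left)) (fun v => (O v).isOpen) (fun v _ => Set.mem_iUnion.2 ⟨v, hvO v⟩)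
  refine ⟨?_⟩
  rw [show (Set.univ : Set V.left) = ⋃ v ∈ s, Set.range (w v).left from
    (Set.eq_univ_iff_forall.2 fun y => by
      obtain ⟨v, hv, hy⟩ := Set.mem_iUnion₂.1 (hs (Set.mem_univ (snd.left y)))
      exact Set.mem_iUnion₂.2 ⟨v, hv, hO v hy⟩).symm]
  exact s.finite_toSet.isCompact_biUnion fun v _ => isCompact_range (w v).left.continuous

end Groth.Agent.S10430
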