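import Groth.Statements.S10431
import Groth.Agent.Lib.AlgSpDecent.UnivBddEtale
-- import your own Groth.Agent.* helpers here

set_option autoImplicit false
universe u
open CategoryTheory CategoryTheory.Limits AlgebraicGeometry Topology TopologicalSpace
open AlgSp

namespace Groth.Agent.S10431

/-- Let S be a scheme, X and Y algebraic spaces over S, and X ⟶ Y a representable morphism. If every
etale morphism from an affine scheme to Y has universally bounded fibres, then so does every etale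
morphism from an affine scheme to X. -/
theorem result {S : Scheme.{u}} {X Y : AlgSp.Space S} (f : X ⟶ Y)
    (hf : AlgSp.Representable f.hom)
    (hY : ∀ (V : Over S) (ψ : (AlgSp.yon S).obj V ⟶ Y.obj), IsAffine V.left → AlgSp.RepWith @Etale ψ → W4dec.HasUnivBddFibres ψ)
    (U : Over S) (φ : (AlgSp.yon S).obj U ⟶ X.obj) (hU : IsAffine U.left) (hφ : AlgSp.RepWith @Etale φ) :
    W4dec.HasUnivBddFibres φ := by
  have := hU
  refine Groth.Agent.AlgSpDecent.exists_degFibresLE_of_cover X.property (fun x => ?_) φ hφ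
  obtain ⟨A, q, hqe, hqs⟩ := Y.property.atlas
  obtain ⟨v, hv⟩ := Groth.Agent.AlgSpace.surjective_ofPt hqs (AlgSp.Points.map f.hom x)
  obtain ⟨O, hO, hvO, -⟩ := exists_isAffineOpen_mem_and_subset (X := A.left) (x := v) (U := ⊤) trivial
  let o : Over.mk (O.ι ≫ A.hom) ⟶ A := Over.homMk O.ι rfl
  have hψ := Groth.Agent.AlgSpace.repWith_etale_restrict hqe O
  obtain ⟨n, hn⟩ := hY (Over.mk (O.ι ≫ A.hom)) _ hO hψ
  obtain ⟨R, r, fstR, sqR⟩ := hf ((AlgSp.yon S).map o ≫ q)
  obtain ⟨z, hz, -⟩ := Groth.Agent.AlgSpace.exists_pt_of_isPullback sqR (x := x) (t := ⟨v, hvO⟩)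
    (by rw [Groth.Agent.AlgSpDecent.ofPt_map_comp]; exact hv.symm)
  have hfe : AlgSp.RepWith @Etale fstR := Groth.Agent.AlgSpace.repWith_of_isPullback sqR.flip hψ
  have hfn := Groth.Agent.AlgSpDecent.degFibresLE_of_isPullback hn sqR.flip
  obtain ⟨O', hO', hzO, -⟩ := exists_isAffineOpen_mem_and_subset (X := R.left) (x := z) (U := ⊤) trivial
  let o' : Over.mk (O'.ι ≫ R.hom) ⟶ R := Over.homMk O'.ι rfl
  have : IsAffine (Over.mk (O'.ι ≫ R.hom)).left := hO'
  have : Etale o'.left := show Etale O'.ι from inferInstance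
  obtain ⟨m, hm⟩ := Groth.Agent.AlgSpDecent.exists_degFibresLE_map_of_etale o'
  exact ⟨_, _, Groth.Agent.AlgSpace.repWith_etale_restrict hfe O',
    ⟨⟨z, hzO⟩, (Groth.Agent.AlgSpDecent.ofPt_map_comp o' fstR _).trans hz⟩, _,
    Groth.Agent.AlgSpDecent.degFibresLE_comp
      (Functor.relativelyRepresentable.of_diag X.property.diag _) hm hfn⟩

end Groth.Agent.S10431
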