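import Groth.Statements.S10432
import Groth.Agent.Lib.AlgSpDecent.UnivBddEtale
-- import your own Groth.Agent.* helpers here

set_option autoImplicit false
universe u
open CategoryTheory CategoryTheory.Limits AlgebraicGeometry Topology TopologicalSpace
open AlgSp

namespace Groth.Agent.S10432

/-- Let X be an algebraic space over a scheme S with a Zariski covering by open subspaces X_i ⟶ X such
that every etale morphism from an affine scheme to X_i has universally bounded fibres. Then every
etale morphism from an affine scheme to X has universally bounded fibres. -/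
theorem result {S : Scheme.{u}} (X : AlgSp.Space S) {ι : Type u}
    (Xi : ι → AlgSp.Space S) (j : ∀ i, Xi i ⟶ X) (hj : AlgSp.IsZarCover (fun i => (Xi i).obj) (fun i => (j i).hom))
    (h : ∀ (i : ι) (V : Over S) (ψ : (AlgSp.yon S).obj V ⟶ (Xi i).obj), IsAffine V.left → AlgSp.RepWith @Etale ψ → W4dec.HasUnivBddFibres ψ)
    (U : Over S) (φ : (AlgSp.yon S).obj U ⟶ X.obj) (hU : IsAffine U.left) (hφ : AlgSp.RepWith @Etale φ) :
    W4dec.HasUnivBddFibres φ := by
  have := hU
  refine Groth.Agent.AlgSpDecent.exists_degFibresLE_of_cover X.property (fun x => ?_) φ hφ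
  obtain ⟨i, y, rfl⟩ := hj.2 x
  obtain ⟨A, p, hpe, hps⟩ := (Xi i).property.atlas
  obtain ⟨a, rfl⟩ := Groth.Agent.AlgSpace.surjective_ofPt hps y
  obtain ⟨O, hO, haO, -⟩ := exists_isAffineOpen_mem_and_subset (X := A.left) (x := a) (U := ⊤) trivial
  have he := Groth.Agent.AlgSpace.repWith_etale_restrict hpe O
  have hje : AlgSp.RepWith @Etale (j i).hom :=
    ⟨(hj.1 i).1, fun _ _ g f s sq => by have : IsOpenImmersion s.left := (hj.1 i).2 g f s sq; first | exact (inferInstanceAs (Etale s.left)) | exact (inferInstanceAs (IsImmersion s.left))⟩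
  have : Mono (j i).hom := Groth.Agent.AlgSpace.mono_of_isImmersion
    ⟨(hj.1 i).1, fun _ _ g f s sq => by have : IsOpenImmersion s.left := (hj.1 i).2 g f s sq; first | exact (inferInstanceAs (Etale s.left)) | exact (inferInstanceAs (IsImmersion s.left))⟩
  obtain ⟨n, hn⟩ := h i (Over.mk (O.ι ≫ A.hom)) _ hO he
  refine ⟨_, _, Groth.Agent.AlgSpace.repWith_comp he hje, ⟨⟨a, haO⟩, ?_⟩,
    n, Groth.Agent.AlgSpDecent.degFibresLE_comp_mono hn _⟩
  rw [Category.assoc, Groth.Agent.AlgSpDecent.ofPt_map_comp, AlgSp.Points.map_ofPt]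
  rfl

end Groth.Agent.S10432
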