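import Groth.Statements.S10433
import Groth.Agent.Lib.AlgSpDecent.DegStrat
import Groth.Agent.Lib.AlgSpDecent.RedInduced
import Groth.Agent.Lib.AlgSpDecent.UnivBdd
-- import your own Groth.Agent.* helpers here

set_option autoImplicit false
universe u
open CategoryTheory CategoryTheory.Limits AlgebraicGeometry Topology TopologicalSpace
open AlgSp
open Groth.Agent.AlgSpace Groth.Agent.AlgSpDecent Groth.Agent.AlgSpDecent.DegStrat Groth.Agent.AlgSpDecent.RedInduced

set_option backward.isDefEq.respectTransparency.types false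

namespace Groth.Agent.S10433

/-- Let S be a scheme, X an algebraic space over S, W a scheme over S, and W ⟶ X a morphism which is
flat, separated, locally of finite presentation and locally quasi-finite, with universally bounded
fibres. Then X has closed subspaces, each reduced, ∅ = Z_{-1} ⊆ Z_0 ⊆ ⋯ ⊆ Z_n with |Z_n| = |X| such
that, putting X_r = Z_r ∖ Z_{r-1}, for every morphism g : T ⟶ X the second projection W ×_X T ⟶ T is
a finite locally free morphism of degree r exactly when g(|T|) ⊆ |X_r|. (Indexing: Zs 0 = Z_{-1}, Zs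
(r+1) = Z_r.) -/
theorem result {S : Scheme.{u}} (X : AlgSp.Space S) {W : Over S}
    (w : (AlgSp.yon S).obj W ⟶ X.obj) (hfl : AlgSp.RepWith @Flat w) (hfp : AlgSp.RepWith @LocallyOfFinitePresentation w)
    (hsep : AlgSp.RepWith @IsSeparated w) (hqf : AlgSp.RepWith @LocallyQuasiFinite w) (hb : W4dec.HasUnivBddFibres w) :
    ∃ (n : ℕ) (Zs : ℕ → AlgSp.Space S) (i : ∀ r, Zs r ⟶ X),
      (∀ r, AlgSp.IsRedInduced (Set.range (AlgSp.Points.map (i r).hom)) (i r).hom) ∧
      IsEmpty (AlgSp.Points (Zs 0).obj) ∧ Set.range (AlgSp.Points.map (i (n + 1)).hom) = Set.univ ∧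
      (∀ r, Set.range (AlgSp.Points.map (i r).hom) ⊆ Set.range (AlgSp.Points.map (i (r + 1)).hom)) ∧
      ∀ (r : ℕ) (T : AlgSp.Space S) (g : T ⟶ X) (P : AlgSp.Sp S) (fst : P ⟶ (AlgSp.yon S).obj W) (snd : P ⟶ T.obj),
        IsPullback fst snd w g.hom →
          (AlgSp.IsFinLocFreeOfDegMor r snd ↔
            Set.range (AlgSp.Points.map g.hom) ⊆
              Set.range (AlgSp.Points.map (i (r + 1)).hom) \ Set.range (AlgSp.Points.map (i r).hom)) := by
  obtain ⟨N, hN⟩ := hb
  obtain ⟨V, b, hbe, hbs⟩ := X.property.atlas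
  -- the base change of `w` to a scheme
  have hbc : ∀ (T : Over S) (g : (yon S).obj T ⟶ X.obj) (t : ↥T.left),
      IsFinite ((hfl.1.snd g).left.fiberToSpecResidueField t) ∧
        deg (hfl.1.snd g).left t ≤ N := fun T g t => by
    let y : Over.mk (T.left.fromSpecResidueField t ≫ T.hom) ⟶ T :=
      Over.homMk (T.left.fromSpecResidueField t) rfl
    have sq := (hfl.1.isPullback' g)
    have sq' := ((IsPullback.of_hasPullback (hfl.1.snd g) y).map (yon S)).paste_horiz sq
    rw [← Functor.map_comp] at sq'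
    have h := finLE_of_degFibresLE (K := T.left.residueField t) hN sq'.flip
    have sqS : IsPullback (pullback.fst (hfl.1.snd g) y).left (pullback.snd (hfl.1.snd g) y).left
        (hfl.1.snd g).left (T.left.fromSpecResidueField t) :=
      (IsPullback.of_hasPullback (hfl.1.snd g) y).map (Over.forget S)
    have h' := (finLE_iso_comp_iff (K := T.left.residueField t) sqS.isoPullback.symm _).2 h
    rw [Iso.symm_hom, sqS.isoPullback_inv_snd] at h'
    exact ⟨h'.1, h'.2 _⟩
  let d₀ : ↥V.left → ℕ := fun v => deg (hfl.1.snd b).left v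
  choose v₀ hv₀ using surjective_ofPt hbs
  let d : Points X.obj → ℕ := fun x => d₀ (v₀ x)
  have hflat : ∀ (T : Over S) (g : (yon S).obj T ⟶ X.obj), Flat (hfl.1.snd g).left :=
    fun T g => hfl.2 g _ _ (hfl.1.isPullback g)
  have hd : ∀ (T : Over S) (g : (yon S).obj T ⟶ X.obj) (t : ↥T.left),
      d (Points.ofPt g t) = deg (hfl.1.snd g).left t := by
    intro T g t
    have sqR := hbe.1.isPullback' g
    let e₁ := hbe.1.fst' g
    let e₂ := hbe.1.snd g
    obtain ⟨z, hz₁, hz₂⟩ := exists_pt_of_isPullback sqR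
      (x := Points.ofScheme V (v₀ (Points.ofPt g t))) (t := t)
      (by rw [← Points.ofPt_eq_map_ofScheme]; exact hv₀ _)
    rw [ofPt_map_eq] at hz₁
    replace hz₁ := (Points.schemeEquiv V).injective hz₁
    let gR := (yon S).map e₁ ≫ b
    have hgR : (yon S).map e₂ ≫ g = gR := sqR.w.symm
    have bc : ∀ {T' : Over S} (g' : (yon S).obj T' ⟶ X.obj) (e : hbe.1.pullback g ⟶ T'),
        (yon S).map e ≫ g' = gR → deg (hfl.1.snd gR).left z = deg (hfl.1.snd g').left (e.left z) := by
      intro T' g' e he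
      have sq := hfl.1.isPullback' g'
      have sq₁ := hfl.1.isPullback' gR
      obtain ⟨l, hl⟩ := (yon S).map_surjective (sq.lift ((yon S).map (hfl.1.fst' gR))
        ((yon S).map (hfl.1.snd gR ≫ e))
        (by rw [Functor.map_comp, Category.assoc, he]; exact sq₁.w))
      have hw : l ≫ hfl.1.snd g' = hfl.1.snd gR ≫ e :=
        (yon S).map_injective (by rw [Functor.map_comp, hl, sq.lift_snd])
      have sql : IsPullback l (hfl.1.snd gR) (hfl.1.snd g') e := by
        refine IsPullback.of_map (yon S) hw (IsPullback.of_right ?_ ?_ sq)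
        · rw [hl, sq.lift_fst, he]; exact sq₁
        · rw [← Functor.map_comp, ← Functor.map_comp, hw]
      have := hflat T' g'
      have := (hbc T' g' (e.left z)).1
      have sqlS : IsPullback l.left (hfl.1.snd gR).left (hfl.1.snd g').left e.left :=
        sql.map (Over.forget S)
      exact deg_baseChange sqlS z
    show deg (hfl.1.snd b).left (v₀ (Points.ofPt g t)) = _
    rw [← hz₁, ← bc b e₁ rfl, bc g e₂ hgR, hz₂]
  have hprop : ∀ (T : Over S) (g : (yon S).obj T ⟶ X.obj), LocallyOfFinitePresentation (hfl.1.snd g).left ∧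
      IsSeparated (hfl.1.snd g).left ∧ LocallyQuasiFinite (hfl.1.snd g).left := fun T g =>
    ⟨hfp.2 g _ _ (hfl.1.isPullback g), hsep.2 g _ _ (hfl.1.isPullback g),
      hqf.2 g _ _ (hfl.1.isPullback g)⟩
  have hclosed : ∀ r : ℕ, IsClosed {x | d x < r} := fun r => by
    rw [← isOpen_compl_iff, ← (isOpenQuotientMap_ofPt hbe hbs).isQuotientMap.isOpen_preimage]
    obtain ⟨h1, h2, h3⟩ := hprop V b
    have := hflat V b
    convert isOpen_deg_ge (hfl.1.snd b).left (fun v => (hbc V b v).1) r using 1
    ext v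
    simp [hd]
  choose Zs i hi using fun r : ℕ => exists_isRedInduced X {x | d x < r} (hclosed r)
  have hrange : ∀ r, Set.range (Points.map (i r).hom) = {x | d x < r} := fun r => (hi r).2.1
  have hdN : ∀ x, d x ≤ N := fun x => (hbc V b (v₀ x)).2
  refine ⟨N, Zs, i, fun r => by rw [hrange r]; exact hi r, ?_, ?_, fun r x hx => ?_, ?_⟩
  · exact ⟨fun z => Nat.not_lt_zero _ ((hrange 0).le ⟨z, rfl⟩)⟩
  · rw [hrange]; exact Set.eq_univ_of_forall fun x => Nat.lt_succ_of_le (hdN x)
  · rw [hrange] at hx ⊢; exact Nat.lt_succ_of_lt hx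
  intro r T g P fst snd sq
  have hset : Set.range (Points.map (i (r + 1)).hom) \ Set.range (Points.map (i r).hom) =
      {x | d x = r} := by
    rw [hrange, hrange]
    ext x
    show d x < r + 1 ∧ ¬ d x < r ↔ d x = r
    omega
  rw [hset]
  constructor
  · rintro h _ ⟨y, rfl⟩
    obtain ⟨T', c, t, rfl⟩ := exists_ofPt_eq y
    show d (Points.map g.hom (Points.ofPt c t)) = r
    rw [Points.ofPt_eq_map_ofScheme, ← Points.map_comp, ← Points.ofPt_eq_map_ofScheme, hd]
    have sqc := h.1.isPullback c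
    obtain ⟨⟨hfinite, hflat', -⟩, hrk⟩ := h.2 c _ _ sqc
    have big := sqc.paste_horiz sq
    have sq₀ := hfl.1.isPullback' (c ≫ g.hom)
    obtain ⟨l, hl⟩ := (yon S).map_surjective (big.isoIsPullback _ _ sq₀).hom
    have hls : l ≫ hfl.1.snd (c ≫ g.hom) = h.1.snd c := (yon S).map_injective (by
      rw [Functor.map_comp, hl, IsPullback.isoIsPullback_hom_snd])
    have : IsIso ((yon S).map l) := hl ▸ inferInstance
    have : IsIso l := isIso_of_reflects_iso l (yon S)
    have : IsIso l.left := inferInstanceAs (IsIso ((Over.forget S).map l))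
    have hs : (hfl.1.snd (c ≫ g.hom)).left = inv l.left ≫ (h.1.snd c).left := by
      rw [IsIso.eq_inv_comp, ← Over.comp_left, hls]
    rw [hs]
    have : IsFinite (h.1.snd c).left := hfinite
    have : Flat (h.1.snd c).left := hflat'
    rw [deg_eq_finrank, Scheme.Hom.finrank_comp_left_of_isIso]
    exact hrk t
  · intro h
    refine ⟨fun T' c => ?_, fun T' W' c a k sqk => ?_⟩
    · have sq₀ := hfl.1.isPullback' (c ≫ g.hom)
      refine ⟨_, hfl.1.snd (c ≫ g.hom), sq.lift ((yon S).map (hfl.1.fst' (c ≫ g.hom)))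
        ((yon S).map (hfl.1.snd (c ≫ g.hom)) ≫ c) (by rw [Category.assoc]; exact sq₀.w), ?_⟩
      exact IsPullback.of_right (by rw [sq.lift_fst]; exact sq₀) (sq.lift_snd _ _ _) sq
    · have big := sqk.paste_horiz sq
      obtain ⟨fstW, hfstW⟩ := (yon S).map_surjective (a ≫ fst)
      have sq₀ := hfl.1.isPullback' (c ≫ g.hom)
      obtain ⟨l, hl⟩ := (yon S).map_surjective (big.isoIsPullback _ _ sq₀).hom
      have hls : l ≫ hfl.1.snd (c ≫ g.hom) = k := (yon S).map_injective (by
        rw [Functor.map_comp, hl, IsPullback.isoIsPullback_hom_snd])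
      have : IsIso ((yon S).map l) := hl ▸ inferInstance
      have : IsIso l := isIso_of_reflects_iso l (yon S)
      have : IsIso l.left := inferInstanceAs (IsIso ((Over.forget S).map l))
      obtain ⟨h1, h2, h3⟩ := hprop T' (c ≫ g.hom)
      have := hflat T' (c ≫ g.hom)
      obtain ⟨⟨hf1, hf2, hf3⟩, hrk⟩ := isFinLocFreeOfDeg_of_deg (hfl.1.snd (c ≫ g.hom)).left
        (fun t => (hbc T' _ t).1) (r := r) fun t => by
          rw [← hd]
          refine h ⟨Points.ofPt c t, ?_⟩
          rw [Points.ofPt_eq_map_ofScheme, ← Points.map_comp, ← Points.ofPt_eq_map_ofScheme]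
      show Mor2.IsFinLocFreeOfDeg r k.left
      rw [← hls, Over.comp_left]
      exact ⟨⟨inferInstance, inferInstance, inferInstance⟩, fun y => by
        rw [Scheme.Hom.finrank_comp_left_of_isIso]; exact hrk y⟩

end Groth.Agent.S10433
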