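import Groth.Statements.S10435
import Groth.Agent.Lib.AlgSpBirat4.Main
-- import your own Groth.Agent.* helpers here

set_option autoImplicit false
universe u
open CategoryTheory CategoryTheory.Limits AlgebraicGeometry Topology TopologicalSpace
open AlgSp

namespace Groth.Agent.S10435

/-- Take decent algebraic spaces X and Y over a scheme S, each with only finitely many irreducible
components in its space of points, and a birational f : X ⟶ Y. Suppose f is locally of finite type
with Y reduced, or else locally of finite presentation. Then X and Y contain dense open subspaces U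
and V, which may be taken to be schemes, such that f carries U into V and induces an isomorphism U ⟶
V. -/
theorem result {S : Scheme.{u}} {X Y : AlgSp.Space S} (f : X ⟶ Y)
    (hX : AlgSp.IsDecent X.obj) (hY : AlgSp.IsDecent Y.obj)
    (hXf : (irreducibleComponents (AlgSp.Points X.obj)).Finite)
    (hYf : (irreducibleComponents (AlgSp.Points Y.obj)).Finite)
    (hf : W4stk3decentspacesp2.IsBirational f.hom)
    (h : (AlgSp.LocP @LocallyOfFiniteType f.hom ∧ AlgSp.EtaleLocally (fun T => IsReduced T) Y.obj) ∨
      AlgSp.LocP @LocallyOfFinitePresentation f.hom) :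
    ∃ (U V : Over S) (a : (AlgSp.yon S).obj U ⟶ X.obj) (b : (AlgSp.yon S).obj V ⟶ Y.obj) (g : U ⟶ V),
      AlgSp.RepWith @IsOpenImmersion a ∧ AlgSp.RepWith @IsOpenImmersion b ∧
        Dense (Set.range (AlgSp.Points.ofPt a)) ∧ Dense (Set.range (AlgSp.Points.ofPt b)) ∧
          a ≫ f.hom = (AlgSp.yon S).map g ≫ b ∧ IsIso g.left := by
  exact Groth.Agent.AlgSpBirat4.exists_dense_open_isIso f hX hY hXf hYf hf h

end Groth.Agent.S10435
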