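import Groth.Statements.S10436
import Groth.Agent.Lib.AlgSpBirat4.Pullback
-- import your own Groth.Agent.* helpers here

set_option autoImplicit false
universe u
open CategoryTheory CategoryTheory.Limits AlgebraicGeometry Topology TopologicalSpace
open AlgSp

namespace Groth.Agent.S10436

/-- Take decent algebraic spaces X and Y over a scheme S, each with only finitely many irreducible
components in its space of points, and a birational f : X ⟶ Y. Suppose f is quasi-compact or
separated, and in addition that f is locally of finite type with Y reduced, or locally of finite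
presentation. Then Y contains a dense open subspace V, which may be taken to be a scheme, such that
f⁻¹(V) ⟶ V is an isomorphism. -/
theorem result {S : Scheme.{u}} {X Y : AlgSp.Space S} (f : X ⟶ Y)
    (hX : AlgSp.IsDecent X.obj) (hY : AlgSp.IsDecent Y.obj)
    (hXf : (irreducibleComponents (AlgSp.Points X.obj)).Finite)
    (hYf : (irreducibleComponents (AlgSp.Points Y.obj)).Finite)
    (hf : W4stk3decentspacesp2.IsBirational f.hom) (h₁ : AlgSp.IsQuasiCompactMor f.hom ∨ AlgSp.IsSeparatedMor f.hom)
    (h₂ : (AlgSp.LocP @LocallyOfFiniteType f.hom ∧ AlgSp.EtaleLocally (fun T => IsReduced T) Y.obj) ∨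
      AlgSp.LocP @LocallyOfFinitePresentation f.hom) :
    ∃ (V : Over S) (b : (AlgSp.yon S).obj V ⟶ Y.obj), AlgSp.RepWith @IsOpenImmersion b ∧
      Dense (Set.range (AlgSp.Points.ofPt b)) ∧
        ∀ ⦃P : AlgSp.Sp S⦄ (fst : P ⟶ X.obj) (snd : P ⟶ (AlgSp.yon S).obj V),
          IsPullback fst snd f.hom b → IsIso snd := by
  exact Groth.Agent.AlgSpBirat4.exists_pullback_open f hX hY hXf hYf hf h₁ h₂

end Groth.Agent.S10436
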