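import Groth.Statements.S10439
import Groth.Agent.Lib.AlgSpDecent.Sober
import Groth.Agent.Lib.AlgSpDecent.Basic2
-- import your own Groth.Agent.* helpers here

set_option autoImplicit false
universe u
open CategoryTheory CategoryTheory.Limits AlgebraicGeometry Topology TopologicalSpace
open AlgSp

namespace Groth.Agent.S10439

/-- A birational morphism between decent algebraic spaces over a scheme S, each with only finitely many
irreducible components, is dominant: the image of |X| is dense in |Y|. -/
theorem result {S : Scheme.{u}} {X Y : AlgSp.Space S} (f : X ⟶ Y)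
    (hX : AlgSp.IsDecent X.obj) (hY : AlgSp.IsDecent Y.obj)
    (hXf : (irreducibleComponents (AlgSp.Points X.obj)).Finite)
    (hYf : (irreducibleComponents (AlgSp.Points Y.obj)).Finite)
    (hf : W4stk3decentspacesp2.IsBirational f.hom) : AlgSp.IsDominantMor f.hom := by
  have := Groth.Agent.AlgSpDecent.quasiSober_of_isDecent Y.property hY
  intro y
  obtain ⟨η, hη⟩ := QuasiSober.sober (isIrreducible_irreducibleComponent (x := y))
    isClosed_irreducibleComponent
  have hg : η ∈ genericPoints (AlgSp.Points Y.obj) := by
    show closure {η} ∈ irreducibleComponents (AlgSp.Points Y.obj)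
    rw [hη.def]
    exact irreducibleComponent_mem_irreducibleComponents y
  obtain ⟨x, -, rfl⟩ := hf.bijOn.surjOn hg
  exact closure_mono (Set.singleton_subset_iff.2 (Set.mem_range_self x))
    (by rw [hη.def]; exact mem_irreducibleComponent)


end Groth.Agent.S10439
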