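import Groth.Statements.S10441
import Groth.Agent.Lib.ElemBranch27.Basic
-- import your own Groth.Agent.* helpers here

set_option autoImplicit false
universe u
open CategoryTheory CategoryTheory.Limits AlgebraicGeometry Topology TopologicalSpace
open AlgSp

namespace Groth.Agent.S10441

/-- For a decent algebraic space X over a scheme S and x ∈ |X|, fix an elementary etale neighbourhood
(U₀, u₀) of (X, x) and a henselization R of O_{U₀, u₀} (a model of the henselian local ring at x).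
The following are equivalent: (1) O_{U, u} has exactly one minimal prime whenever (U, u) is an
elementary etale neighbourhood of (X, x); (2) a unique irreducible component of U passes through u
for all such (U, u); (3) O_{U, u} is unibranch for all such (U, u); (4) R has exactly one minimal
prime. -/
theorem result {S : Scheme.{u}} (X : AlgSp.Space S)
    (hX : AlgSp.IsDecent X.obj) (x : AlgSp.Points X.obj) {U₀ : Over S}
    (a₀ : (AlgSp.yon S).obj U₀ ⟶ X.obj) (u₀ : ↥U₀.left) (h₀ : AlgSp.IsElemEtaleNbhd a₀ u₀ x)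
    (R : Type u) [CommRing R] [IsLocalRing R] [Algebra ↥(U₀.left.presheaf.stalk u₀) R]
    [IsLocalHom (algebraMap ↥(U₀.left.presheaf.stalk u₀) R)] [Hensel.IsHenselization ↥(U₀.left.presheaf.stalk u₀) R] :
    ((∀ (U : Over S) (a : (AlgSp.yon S).obj U ⟶ X.obj) (u : ↥U.left), AlgSp.IsElemEtaleNbhd a u x →
        CAlgX.HasUniqueMinimalPrime ↥(U.left.presheaf.stalk u)) ↔
      (∀ (U : Over S) (a : (AlgSp.yon S).obj U ⟶ X.obj) (u : ↥U.left), AlgSp.IsElemEtaleNbhd a u x →
        {Z : Set ↥U.left | Z ∈ irreducibleComponents ↥U.left ∧ u ∈ Z}.encard = 1)) ∧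
    ((∀ (U : Over S) (a : (AlgSp.yon S).obj U ⟶ X.obj) (u : ↥U.left), AlgSp.IsElemEtaleNbhd a u x →
        {Z : Set ↥U.left | Z ∈ irreducibleComponents ↥U.left ∧ u ∈ Z}.encard = 1) ↔
      (∀ (U : Over S) (a : (AlgSp.yon S).obj U ⟶ X.obj) (u : ↥U.left), AlgSp.IsElemEtaleNbhd a u x →
        CAlg2.IsUnibranch ↥(U.left.presheaf.stalk u))) ∧
    ((∀ (U : Over S) (a : (AlgSp.yon S).obj U ⟶ X.obj) (u : ↥U.left), AlgSp.IsElemEtaleNbhd a u x →
        CAlg2.IsUnibranch ↥(U.left.presheaf.stalk u)) ↔ CAlgX.HasUniqueMinimalPrime R) := by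
  have hum : ∀ (A : Type u) [CommRing A], CAlgX.HasUniqueMinimalPrime A ↔ (minimalPrimes A).encard = 1 := by
    intro A _
    rw [Set.encard_eq_one]
    constructor
    · rintro ⟨p, hp, hu⟩
      exact ⟨p, Set.ext fun q => ⟨fun hq => hu q hq, fun hq => hq ▸ hp⟩⟩
    · rintro ⟨p, hp⟩
      exact ⟨p, hp ▸ rfl, fun q hq => by rw [hp] at hq; exact hq⟩
  have hR : (minimalPrimes R).encard = Brnch.numBranchesAt U₀.left u₀ :=
    Groth.Agent.Branch14.card_minimalPrimes_henselization ↥(U₀.left.presheaf.stalk u₀) R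
  have h2 := Groth.Agent.ElemBranch27.components_eq_one_iff hX h₀
  have h3 : (∀ (U : Over S) (a : (AlgSp.yon S).obj U ⟶ X.obj) (u : ↥U.left), AlgSp.IsElemEtaleNbhd a u x →
      CAlg2.IsUnibranch ↥(U.left.presheaf.stalk u)) ↔ Brnch.numBranchesAt U₀.left u₀ = 1 :=
    ⟨fun h => (Groth.Agent.Branch14.numBranches_eq_one_iff _).2 (h U₀ a₀ u₀ h₀),
      fun h U a u hu => (Groth.Agent.Branch14.numBranches_eq_one_iff _).1
        ((Groth.Agent.ElemBranch27.numBranchesAt_eq hX hu h₀).trans h)⟩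
  refine ⟨?_, h2.trans h3.symm, ?_⟩
  · simp only [hum, Groth.Agent.Branch14.encard_minimalPrimes_stalk]
  · rw [hum, hR]
    exact h3


end Groth.Agent.S10441
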