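import Groth.Statements.S10443
import Groth.Agent.Lib.AlgSpDecent.Basic2
import Groth.Agent.Lib.UCat26.DimFun
-- import your own Groth.Agent.* helpers here

set_option autoImplicit false
universe u
open CategoryTheory CategoryTheory.Limits AlgebraicGeometry Topology TopologicalSpace
open AlgSp

namespace Groth.Agent.S10443

/-- Let S be a locally Noetherian, universally catenary scheme carrying a dimension function δ, and X a
decent algebraic space over S that is locally of finite type over S. Define δ_X : |X| → ℤ by δ_X(x)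
= δ(s) + (transcendence degree of x over s), s the image of x in S; concretely, for an etale
surjective chart U ⟶ X with U locally of finite type over S, the composite of δ_X with |U| → |X| is
the function induced from δ along U ⟶ S. Then δ_X is a dimension function: strictly decreasing along
nontrivial specializations, and dropping by one along immediate ones. -/
theorem result {S : Scheme.{u}} (δ : ↥S → ℤ) (hS : Cyc.IsSetup S δ)
    (X : AlgSp.Space S) (hX : AlgSp.IsDecent X.obj) {U : Over S} (a : (AlgSp.yon S).obj U ⟶ X.obj)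
    (ha : AlgSp.RepWith @Etale a) (hs : AlgSp.RepWith @Surjective a) [LocallyOfFiniteType U.hom]
    (δX : AlgSp.Points X.obj → ℤ) (hδ : Cyc.DeltaCompat U.hom (δX ∘ AlgSp.Points.ofPt a) δ) :
    ∀ x y : AlgSp.Points X.obj, x ⤳ y → x ≠ y →
      δX y < δX x ∧ ((∀ z : AlgSp.Points X.obj, x ⤳ z → z ⤳ y → z = x ∨ z = y) → δX x = δX y + 1) := by
  haveI := hS.1
  have hU : Cyc.IsDimFun U.left (δX ∘ AlgSp.Points.ofPt a) :=
    Groth.Agent.UCat26.isDimFun_of_deltaCompat U.hom hS.2.1 hS.2.2 hδ
  intro x y hxy hne
  have hfin := fun z => Groth.Agent.AlgSpDecent.finFibres_of_isDecent X.property.diag hX z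
  obtain ⟨v, hv⟩ := Groth.Agent.AlgSpace.surjective_ofPt hs y
  obtain ⟨v', hv'v, hv'⟩ := Groth.Agent.AlgSpDecent.exists_specializes_lift ha hxy (hfin x) hv
  have hne' : v' ≠ v := fun e => hne (by rw [← hv', e, hv])
  obtain ⟨h1, h2⟩ := hU v' v hv'v hne'
  simp only [Function.comp_apply, hv, hv'] at h1 h2
  refine ⟨h1, fun him => h2 fun w hw hw' => ?_⟩
  rcases him (AlgSp.Points.ofPt a w) (hv' ▸ hw.map (AlgSp.Points.continuous_ofPt a))
    (hv ▸ hw'.map (AlgSp.Points.continuous_ofPt a)) with he | he
  · exact Or.inl (Groth.Agent.AlgSpDecent.eq_of_specializes_of_finFibres ha (hfin x) he hv' hw).symm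
  · exact Or.inr (Groth.Agent.AlgSpDecent.eq_of_specializes_of_finFibres ha (hfin y) hv he hw')


end Groth.Agent.S10443
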