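import Groth.Statements.S10444
import Groth.Agent.Lib.AlgSpDecent27.FieldFibre
-- import your own Groth.Agent.* helpers here

set_option autoImplicit false
universe u
open CategoryTheory CategoryTheory.Limits AlgebraicGeometry Topology TopologicalSpace
open AlgSp

namespace Groth.Agent.S10444

/-- Take f : X ⟶ Y locally of finite type between algebraic spaces over a scheme S, a field-valued point
Spec k ⟶ Y whose class y ∈ |Y| lies in the image of |f|, the fibre product X_k = Spec k ×_Y X, and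
the fibre F = |f|⁻¹(y) ⊆ |X| with the induced topology. Numbering the conditions (1) F finite, (2) F
discrete, (3) dim F = 0, (4) |X_k| finite, (5) |X_k| discrete, (6) dim |X_k| = 0, (7) dim X_k = 0,
(8) f quasi-finite at all points over y: (5) ⇔ (7) ⇔ (8); (5) ⇒ (6), with the converse when X_k is
decent; (4) ⇒ (5) when X_k is decent; (4) ⇒ (1); (2) ⇒ (3); if Y is decent then (2) ⇔ (5); if X and
Y are decent then (3) ⇒ (2) and (1) ⇒ (2). (The published statement asserts (5) ⇔ (6) for every f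
and (2) ⇔ (3) whenever Y is decent, and does not exclude an empty fibre; for the quotient of the
affine line over a field of characteristic zero by an infinite cyclic group of translations, mapping
to the point, the space of points is infinite and indiscrete, so (3) and (6) hold while (2) and (5)
fail, and for y outside the image (5) holds while (6) and (7) fail; hence the decency hypotheses on
those two converses and the hypothesis that y is in the image. Finiteness of |X_k| for an arbitrary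
field k in the class of y is not derived here from (1).) -/
theorem result {S : Scheme.{u}} {X Y : AlgSp.Space S} (f : X ⟶ Y)
    (hf : AlgSp.LocP @LocallyOfFiniteType f.hom) (r : AlgSp.FieldPt Y.obj)
    (hy : AlgSp.Points.mk r ∈ Set.range (AlgSp.Points.map f.hom)) (Xk : AlgSp.Space S) (fst : Xk ⟶ X)
    (snd : Xk.obj ⟶ (AlgSp.yon S).obj r.pt) (hsq : IsPullback fst.hom snd f.hom r.toHom) :
    (DiscreteTopology (AlgSp.Points Xk.obj) ↔ AlgSp.dim Xk.obj = 0) ∧
    (AlgSp.dim Xk.obj = 0 ↔
      ∀ x : AlgSp.Points X.obj, AlgSp.Points.map f.hom x = AlgSp.Points.mk r → AlgSp.HasAtMor (fun U _ h u => ∃ W : U.Opens, u ∈ W ∧ LocallyQuasiFinite (W.ι ≫ h) ∧ LocallyOfFiniteType (W.ι ≫ h)) f.hom x) ∧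
    (DiscreteTopology (AlgSp.Points Xk.obj) → topologicalKrullDim (AlgSp.Points Xk.obj) = 0) ∧
    (AlgSp.IsDecent Xk.obj → topologicalKrullDim (AlgSp.Points Xk.obj) = 0 →
      DiscreteTopology (AlgSp.Points Xk.obj)) ∧
    (AlgSp.IsDecent Xk.obj → Finite (AlgSp.Points Xk.obj) → DiscreteTopology (AlgSp.Points Xk.obj)) ∧
    (Finite (AlgSp.Points Xk.obj) → (AlgSp.Points.map f.hom ⁻¹' {AlgSp.Points.mk r}).Finite) ∧
    (DiscreteTopology ↥(AlgSp.Points.map f.hom ⁻¹' {AlgSp.Points.mk r}) → topologicalKrullDim ↥(AlgSp.Points.map f.hom ⁻¹' {AlgSp.Points.mk r}) = 0) ∧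
    (AlgSp.IsDecent Y.obj → (DiscreteTopology ↥(AlgSp.Points.map f.hom ⁻¹' {AlgSp.Points.mk r}) ↔ DiscreteTopology (AlgSp.Points Xk.obj))) ∧
    (AlgSp.IsDecent Y.obj → AlgSp.IsDecent X.obj →
      (topologicalKrullDim ↥(AlgSp.Points.map f.hom ⁻¹' {AlgSp.Points.mk r}) = 0 → DiscreteTopology ↥(AlgSp.Points.map f.hom ⁻¹' {AlgSp.Points.mk r})) ∧
        ((AlgSp.Points.map f.hom ⁻¹' {AlgSp.Points.mk r}).Finite → DiscreteTopology ↥(AlgSp.Points.map f.hom ⁻¹' {AlgSp.Points.mk r}))) := by
  have hne : Nonempty (AlgSp.Points Xk.obj) := by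
    obtain ⟨x, hx⟩ := hy
    obtain ⟨xt, -⟩ := Groth.Agent.AlgSpDecent27.exists_over f hsq hx.symm.symm
    exact ⟨xt⟩
  have hsnd := Groth.Agent.AlgSpDecent27.locP_snd f hf hsq
  obtain ⟨h1, h2, h3, h4⟩ := Groth.Agent.AlgSpDecent27.discrete_iff_dim (k := r.K) Xk.property hsnd
  have hqf := Groth.Agent.AlgSpDecent27.discrete_iff_qf f hf hsq
  have hYf : AlgSp.IsDecent Y.obj →
      (DiscreteTopology ↥(AlgSp.Points.map f.hom ⁻¹' {AlgSp.Points.mk r}) ↔
        DiscreteTopology (AlgSp.Points Xk.obj)) := fun hY => by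
    obtain ⟨r0, X0, snd0, e, -, -, hopen⟩ :=
      Groth.Agent.AlgSpDecent27.exists_mono_fibre f hf hY (AlgSp.Points.mk r)
    rw [hqf]
    constructor
    · intro h x hx
      have hz := (hopen (e.symm ⟨x, hx⟩)).1 (by
        haveI : DiscreteTopology (AlgSp.Points X0.obj) := e.isEmbedding.discreteTopology
        exact isOpen_discrete _)
      rwa [e.apply_symm_apply] at hz
    · intro h
      haveI : DiscreteTopology (AlgSp.Points X0.obj) :=
        discreteTopology_iff_isOpen_singleton.2 fun z => (hopen z).2 (h _ (e z).2)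
      exact e.symm.isEmbedding.discreteTopology
  refine ⟨h1, ?_, h2, h3, fun hd hfin => h1.2 (h4 hd hfin), fun hfin => ?_, fun hF => ?_, hYf, fun hY hX => ?_⟩
  · rw [← h1, hqf]
    exact Iff.rfl
  · refine (Set.finite_range (AlgSp.Points.map fst.hom)).subset fun x hx => ?_
    exact Groth.Agent.AlgSpDecent27.exists_over f hsq hx
  · obtain ⟨xt⟩ := hne
    haveI : Nonempty ↥(AlgSp.Points.map f.hom ⁻¹' {AlgSp.Points.mk r}) :=
      ⟨⟨_, Groth.Agent.AlgSpDecent27.map_fst_mem f hsq xt⟩⟩
    exact le_antisymm (topologicalKrullDim_zero_of_discreteTopology _) Groth.Agent.TopDimLib.zero_le_dim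
  · obtain ⟨r0, X0, snd0, e, hsnd0, hd0, -⟩ :=
      Groth.Agent.AlgSpDecent27.exists_mono_fibre f hf hY (AlgSp.Points.mk r)
    obtain ⟨xt⟩ := hne
    haveI : Nonempty (AlgSp.Points X0.obj) :=
      ⟨e.symm ⟨_, Groth.Agent.AlgSpDecent27.map_fst_mem f hsq xt⟩⟩
    obtain ⟨g1, g2, g3, g4⟩ := Groth.Agent.AlgSpDecent27.discrete_iff_dim (k := r0.K) X0.property hsnd0
    refine ⟨fun h => ?_, fun h => ?_⟩
    · haveI := g3 (hd0 hX) (by rw [e.isHomeomorph.topologicalKrullDim_eq]; exact h)
      exact e.symm.isEmbedding.discreteTopology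
    · haveI := h.to_subtype
      haveI := g1.2 (g4 (hd0 hX) (Finite.of_equiv _ e.toEquiv.symm))
      exact e.symm.isEmbedding.discreteTopology

end Groth.Agent.S10444
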