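import Groth.Statements.S10445
import Groth.Agent.Lib.AlgSpDecent27.FieldFibre
-- import your own Groth.Agent.* helpers here

set_option autoImplicit false
universe u
open CategoryTheory CategoryTheory.Limits AlgebraicGeometry Topology TopologicalSpace
open AlgSp

namespace Groth.Agent.S10445

/-- Take f : X ⟶ Y locally of finite type between algebraic spaces over a scheme S, a field-valued point
Spec k ⟶ Y with class y, the fibre product X_k = Spec k ×_Y X, x ∈ |X| over y, x̃ ∈ |X_k| over x,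
and F = |f|⁻¹(y) with the induced topology. Numbering the conditions (1) dim_x F = 0, (2) x isolated
in F, (3) x closed in F with no proper generization in F, (4) dim_{x̃} |X_k| = 0, (5) x̃ isolated in
|X_k|, (6) x̃ closed in |X_k| with no proper generization, (7) dim_{x̃}(X_k) = 0 (local dimension of
an etale chart), (8) f quasi-finite at x: (5) ⇔ (6) ⇔ (7) ⇔ (8); (4) ⇔ (5) when X_k is decent; (2) ⇔
(5) and (3) ⇔ (6) when Y is decent; (1) ⇔ (2) when X and Y are decent. -/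
theorem result {S : Scheme.{u}} {X Y : AlgSp.Space S} (f : X ⟶ Y)
    (hf : AlgSp.LocP @LocallyOfFiniteType f.hom) (r : AlgSp.FieldPt Y.obj) (Xk : AlgSp.Space S) (fst : Xk ⟶ X)
    (snd : Xk.obj ⟶ (AlgSp.yon S).obj r.pt) (hsq : IsPullback fst.hom snd f.hom r.toHom)
    (x : AlgSp.Points X.obj) (hx : x ∈ (AlgSp.Points.map f.hom ⁻¹' {AlgSp.Points.mk r})) (xt : AlgSp.Points Xk.obj)
    (hxt : AlgSp.Points.map fst.hom xt = x) :
    ((IsOpen ({xt} : Set (AlgSp.Points Xk.obj)) ↔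
      IsClosed ({xt} : Set (AlgSp.Points Xk.obj)) ∧ ∀ x' : AlgSp.Points Xk.obj, x' ⤳ xt → x' = xt) ∧
    (IsOpen ({xt} : Set (AlgSp.Points Xk.obj)) ↔ AlgSp.HasAt (fun U u => FlatMor.localDim ↥U u = 0) Xk.obj xt) ∧
    (AlgSp.HasAt (fun U u => FlatMor.localDim ↥U u = 0) Xk.obj xt ↔ AlgSp.HasAtMor (fun U _ h u => ∃ W : U.Opens, u ∈ W ∧ LocallyQuasiFinite (W.ι ≫ h) ∧ LocallyOfFiniteType (W.ι ≫ h)) f.hom x) ∧
    (AlgSp.IsDecent Xk.obj →
      (FlatMor.localDim (AlgSp.Points Xk.obj) xt = 0 ↔ IsOpen ({xt} : Set (AlgSp.Points Xk.obj)))) ∧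
    (AlgSp.IsDecent Y.obj →
      (IsOpen ({(⟨x, hx⟩ : ↥(AlgSp.Points.map f.hom ⁻¹' {AlgSp.Points.mk r}))} : Set ↥(AlgSp.Points.map f.hom ⁻¹' {AlgSp.Points.mk r})) ↔ IsOpen ({xt} : Set (AlgSp.Points Xk.obj))) ∧
      ((IsClosed ({(⟨x, hx⟩ : ↥(AlgSp.Points.map f.hom ⁻¹' {AlgSp.Points.mk r}))} : Set ↥(AlgSp.Points.map f.hom ⁻¹' {AlgSp.Points.mk r})) ∧ ∀ x' : ↥(AlgSp.Points.map f.hom ⁻¹' {AlgSp.Points.mk r}), x' ⤳ (⟨x, hx⟩ : ↥(AlgSp.Points.map f.hom ⁻¹' {AlgSp.Points.mk r})) → x' = (⟨x, hx⟩ : ↥(AlgSp.Points.map f.hom ⁻¹' {AlgSp.Points.mk r}))) ↔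
        IsClosed ({xt} : Set (AlgSp.Points Xk.obj)) ∧ ∀ x' : AlgSp.Points Xk.obj, x' ⤳ xt → x' = xt)) ∧
    (AlgSp.IsDecent Y.obj → AlgSp.IsDecent X.obj →
      (FlatMor.localDim ↥(AlgSp.Points.map f.hom ⁻¹' {AlgSp.Points.mk r}) (⟨x, hx⟩ : ↥(AlgSp.Points.map f.hom ⁻¹' {AlgSp.Points.mk r})) = 0 ↔ IsOpen ({(⟨x, hx⟩ : ↥(AlgSp.Points.map f.hom ⁻¹' {AlgSp.Points.mk r}))} : Set ↥(AlgSp.Points.map f.hom ⁻¹' {AlgSp.Points.mk r}))))) := by
  subst hxt
  have hsnd := Groth.Agent.AlgSpDecent27.locP_snd f hf hsq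
  obtain ⟨p1, p2, p3⟩ := Groth.Agent.AlgSpDecent27.point_conditions (k := r.K) Xk.property hsnd xt
  have hqf := Groth.Agent.AlgSpDecent27.isOpen_iff_qf f hf hsq xt
  refine ⟨p1, p2, p2.symm.trans hqf, p3, fun hY => ?_, fun hY hX => ?_⟩
  · obtain ⟨r0, X0, snd0, e, hsnd0, -, hopen⟩ :=
      Groth.Agent.AlgSpDecent27.exists_mono_fibre f hf hY (AlgSp.Points.mk r)
    obtain ⟨z, hz⟩ := e.surjective ⟨AlgSp.Points.map fst.hom xt, hx⟩
    rw [← hz]
    have ho : IsOpen ({e z} : Set ↥(AlgSp.Points.map f.hom ⁻¹' {AlgSp.Points.mk r})) ↔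
        IsOpen ({z} : Set (AlgSp.Points X0.obj)) := by
      simpa using e.isOpen_image (s := {z})
    have key : IsOpen ({e z} : Set ↥(AlgSp.Points.map f.hom ⁻¹' {AlgSp.Points.mk r})) ↔
        IsOpen ({xt} : Set (AlgSp.Points Xk.obj)) := by
      rw [ho, hopen z, hqf, hz]
    refine ⟨key, ?_⟩
    rw [Groth.Agent.AlgSpDecent27.closed_gen_iff e z, ← p1, ← key,
      ← (Groth.Agent.AlgSpDecent27.point_conditions (k := r0.K) X0.property hsnd0 z).1, ho]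
  · obtain ⟨r0, X0, snd0, e, hsnd0, hd0, -⟩ :=
      Groth.Agent.AlgSpDecent27.exists_mono_fibre f hf hY (AlgSp.Points.mk r)
    obtain ⟨z, hz⟩ := e.surjective ⟨AlgSp.Points.map fst.hom xt, hx⟩
    have ho : IsOpen ({e z} : Set ↥(AlgSp.Points.map f.hom ⁻¹' {AlgSp.Points.mk r})) ↔
        IsOpen ({z} : Set (AlgSp.Points X0.obj)) := by
      simpa using e.isOpen_image (s := {z})
    rw [← hz, Groth.Agent.AlgSpDecent27.localDim_congr e z, ho]
    exact (Groth.Agent.AlgSpDecent27.point_conditions (k := r0.K) X0.property hsnd0 z).2.2 (hd0 hX)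

end Groth.Agent.S10445
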