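import Groth.Statements.S1045
import Groth.Agent.Lib.DGen9.KoszulOrth

set_option autoImplicit false
set_option linter.style.haveILetI false
set_option backward.isDefEq.respectTransparency false
universe u
open CategoryTheory CategoryTheory.Limits AlgebraicGeometry
attribute [local instance] HasDerivedCategory.standard
open Perf

namespace Groth.Agent.S1045

/-- Let A be a ring, f₁, …, f_r elements of A, X = Spec A and U ⊆ X the open complement of V(f₁, …,
f_r). Let E ∈ D(O_X) have quasi-coherent cohomology sheaves with Hⁱ(E)|_U = 0 for -r < i ≤ 0. Then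
(tilde being recorded as exact) every morphism s : O_X ⟶ E in D(O_X) factors as O_X ⟶ K_e ⟶ E for
some e ≥ 0, where K_e is the object of D(O_X) associated with the Koszul complex on f₁^e, …, f_r^e. -/
theorem result (A : Type u) [CommRing A] (fs : List A) [PreservesFiniteLimits (tilde.functor (CommRingCat.of A))]
    (E : DCoh.D (Spec (CommRingCat.of A))) (hE : DCoh.IsQCohD E)
    (hU : ∀ i : ℤ, -(fs.length : ℤ) < i → i ≤ 0 → IsZero ((DCoh.HD E i).restrict (LocCoh.puncturedOpen A (Ideal.span {a | a ∈ fs})).ι))
    (s : DCoh.inD (Spec (CommRingCat.of A)) (Coh.structureModule (Spec (CommRingCat.of A))) ⟶ E) :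
    ∃ (e : ℕ) (ψ : (DCoh.tildeD (CommRingCat.of A)).obj (DerivedCategory.Q.obj (Koszul.koszul A (fs.map (fun a => a ^ e)))) ⟶ E)
      (t : DCoh.inD (Spec (CommRingCat.of A)) (Coh.structureModule (Spec (CommRingCat.of A))) ⟶
        (DCoh.tildeD (CommRingCat.of A)).obj (DerivedCategory.Q.obj (Koszul.koszul A (fs.map (fun a => a ^ e))))),
      t ≫ ψ = s := by
  exact Groth.Agent.DGen9.KO.section_factors (R := CommRingCat.of A) fs hE hU s

end Groth.Agent.S1045
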