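import Groth.Statements.S10452
import Groth.Agent.Lib.AlgSpDecent.Dim
import Groth.Agent.Lib.AlgSpDecent.Sober
import Groth.Agent.Lib.AlgSpDecent.Basic2
-- import your own Groth.Agent.* helpers here

set_option autoImplicit false
universe u
open CategoryTheory CategoryTheory.Limits AlgebraicGeometry Topology TopologicalSpace
open AlgSp

namespace Groth.Agent.S10452

/-- (2) ⇔ (3): let X be a quasi-separated algebraic space over a quasi-separated scheme S and x a point
of X. Then the local ring of X at x is zero-dimensional exactly when x is the generic point of an
irreducible component of |X|. (The published statement allows any base scheme S and takes X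
quasi-separated in the absolute sense; this row asks S to be quasi-separated and X quasi-separated
over S, which together imply absolute quasi-separatedness.) -/
theorem result {S : Scheme.{u}} [QuasiSeparatedSpace S]
    (X : AlgSp.Space S) (hqs : AlgSp.IsQuasiSeparatedSp X.obj) (x : AlgSp.Points X.obj) :
    AlgSp.HasAt (fun U u => ringKrullDim ↥(U.presheaf.stalk u) = 0) X.obj x ↔
      ∃ Z ∈ irreducibleComponents (AlgSp.Points X.obj), IsGenericPoint x Z := by
  have h := Groth.Agent.AlgSpDecent.isDecent_of_isQuasiSeparatedSp X.property hqs
  have := Groth.Agent.AlgSpDecent.t0Space_of_finFibres X.property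
    (Groth.Agent.AlgSpDecent.finFibres_of_isDecent X.property.diag h)
  have := Groth.Agent.AlgSpDecent.quasiSober_of_isDecent X.property h
  rw [Groth.Agent.AlgSpDecent.hasAt_ringKrullDim_iff X.property h x 0,
    Groth.Agent.AlgSpDecent.isGenericPoint_component_iff]
  exact WithBot.coe_eq_coe

end Groth.Agent.S10452
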