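import Groth.Statements.S10458
import Groth.Agent.Lib.GenFinite13.Basic
import Groth.Agent.Lib.ProperSub15.Basic
import Groth.Agent.Lib.AlgSpDecent.RedInduced
import Groth.Agent.Lib.AlgSpDecent.Sober
-- import your own Groth.Agent.* helpers here

set_option autoImplicit false
set_option backward.isDefEq.respectTransparency.types false
universe u
open CategoryTheory CategoryTheory.Limits AlgebraicGeometry Topology TopologicalSpace
open AlgSp

namespace Groth.Agent.S10458
open Groth.Agent.AlgSpace Groth.Agent.AlgSpDecent Groth.Agent.GenFinite13 Topology TopologicalSpace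

/-- A quasi-compact morphism to a decent irreducible space has compact generic fibre. -/
theorem isCompact_generic_fibre {S : Scheme.{u}} {X Y : AlgSp.Space S} (hYd : AlgSp.IsDecent Y.obj)
    (f : X ⟶ Y) (hf : AlgSp.IsQuasiCompactMor f.hom) {y : AlgSp.Points Y.obj}
    (hy : IsGenericPoint y (Set.univ : Set (AlgSp.Points Y.obj))) :
    IsCompact (AlgSp.Points.map f.hom ⁻¹' {y}) := by
  obtain ⟨V, b, v, hV, hb, hv, -⟩ := exists_affine_generic Y hYd hy isOpen_univ trivial
  have := hV
  have sqP := IsPullback.of_hasPullback f.hom b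
  have hP : AlgSp.IsAlgSpace (pullback f.hom b) :=
    isAlgSpace_pullback Y.property X.property (AlgSp.IsAlgSpace.yon_obj V) sqP
  have hPc : AlgSp.IsQuasiCompactSp (pullback f.hom b) :=
    hf (AlgSp.IsAlgSpace.yon_obj V) ((isQuasiCompactSp_iff (AlgSp.IsAlgSpace.yon_obj V)).2
      (AlgSp.Points.schemeHomeo V).compactSpace) b _ _ sqP
  obtain ⟨W, φ, hW, hφe, hφs⟩ := exists_affine_chart hPc
  obtain ⟨k, hk⟩ := (AlgSp.yon S).map_surjective (φ ≫ pullback.snd f.hom b)
  have := hW
  have hc : IsCompact (k.left ⁻¹' {v}) := k.left.isCompact_preimage_singleton v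
  have hφ : ∀ w, AlgSp.Points.map f.hom (AlgSp.Points.ofPt (φ ≫ pullback.fst f.hom b) w) =
      AlgSp.Points.ofPt b (k.left w) := fun w =>
    ofPt_sq (by rw [Category.assoc, sqP.w, reassoc_of% hk]) w
  have himg : AlgSp.Points.map f.hom ⁻¹' {y} =
      AlgSp.Points.ofPt (φ ≫ pullback.fst f.hom b) '' (k.left ⁻¹' {v}) := by
    ext x
    constructor
    · intro hx
      obtain ⟨p, hp1, hp2⟩ := exists_point_lift sqP x (AlgSp.Points.ofScheme V v) (by
        rw [← AlgSp.Points.ofPt_eq_map_ofScheme, hv]; exact hx)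
      obtain ⟨w, rfl⟩ := surjective_ofPt hφs p
      refine ⟨w, ?_, by rw [← AlgSp.Points.map_ofPt]; exact hp1⟩
      rw [AlgSp.Points.map_ofPt, ← hk, ofPt_map_eq] at hp2
      exact (AlgSp.Points.schemeEquiv V).injective hp2
    · rintro ⟨w, hw, rfl⟩
      rw [Set.mem_preimage, hφ, hw, hv]; rfl
  rw [himg]
  exact hc.image (AlgSp.Points.continuous_ofPt _)


/-- Suppose f : X ⟶ Y is a morphism of algebraic spaces over a scheme S that is proper and surjective,
with Y integral. Then there is an integral closed subspace X' of X such that the restriction X' ⟶ Y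
is an alteration: proper and dominant with X' integral, and finite over some nonempty open subspace
of Y. -/
theorem result {S : Scheme.{u}} {X Y : AlgSp.Space S} (f : X ⟶ Y)
    (hf : AlgSp.IsProperMor f.hom) (hs : AlgSp.IsSurjectiveMor f.hom) (hY : AlgSp.IsIntegralSp Y.obj) :
    ∃ (X' : AlgSp.Space S) (i : X' ⟶ X), AlgSp.RepWith @IsClosedImmersion i.hom ∧ AlgSp.IsIntegralSp X'.obj ∧
      AlgSp.IsProperMor (i ≫ f).hom ∧ AlgSp.IsDominantMor (i ≫ f).hom ∧
      ∃ (V : AlgSp.Space S) (j : V ⟶ Y), AlgSp.RepWith @IsOpenImmersion j.hom ∧ Nonempty (AlgSp.Points V.obj) ∧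
        ∀ (P : AlgSp.Space S) (fst : P ⟶ V) (snd : P ⟶ X'), IsPullback fst.hom snd.hom j.hom (i ≫ f).hom →
          AlgSp.IsFiniteMor fst.hom := by
  have hYd := hY.2.1
  have : IrreducibleSpace (AlgSp.Points Y.obj) := hY.2.2
  have : QuasiSober (AlgSp.Points Y.obj) := quasiSober_of_isDecent Y.property hYd
  obtain ⟨y, hy⟩ := QuasiSober.sober (IrreducibleSpace.isIrreducible_univ (AlgSp.Points Y.obj)) isClosed_univ
  have hXd : AlgSp.IsDecent X.obj := isDecent_source (isDecentMor_of_isQuasiSeparatedMor X.property Y.property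
    (repWith_mono (fun _ _ i (_ : IsClosedImmersion i) => inferInstanceAs (QuasiCompact i)) hf.1)) hYd
  -- a closed point of the generic fibre
  have : T0Space (AlgSp.Points X.obj) :=
    t0Space_of_finFibres X.property (finFibres_of_isDecent X.property.diag hXd)
  let F := AlgSp.Points.map f.hom ⁻¹' ({y} : Set (AlgSp.Points Y.obj))
  have : CompactSpace F := isCompact_iff_compactSpace.1 (isCompact_generic_fibre hYd f hf.2.1.2 hy)
  obtain ⟨x₀, hx₀⟩ := hs y
  obtain ⟨⟨x, hxy⟩, -, hxc⟩ := (isClosed_univ (X := F)).exists_closed_singleton ⟨⟨x₀, hx₀⟩, trivial⟩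
  -- its closure
  obtain ⟨Z, i, hci, hr, hred⟩ := RedInduced.exists_isRedInduced X (closure {x}) isClosed_closure
  have hZd : AlgSp.IsDecent Z.obj := isDecent_source (isDecentMor_of_representable hci.1) hXd
  have he := (isEmbedding_map_of_immersion X.property
    (repWith_mono (fun _ _ g (_ : IsClosedImmersion g) => inferInstanceAs (IsImmersion g)) hci)).1
  obtain ⟨z, hz⟩ := hr.ge (subset_closure (Set.mem_singleton x))
  have hzg : IsGenericPoint z (Set.univ : Set (AlgSp.Points Z.obj)) := by
    refine isGenericPoint_iff_specializes.2 fun w => iff_of_true ?_ trivial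
    rw [← he.isInducing.specializes_iff, hz]
    exact specializes_iff_mem_closure.2 (hr.le ⟨w, rfl⟩)
  have hZi : AlgSp.IsIntegralSp Z.obj := by
    refine ⟨hred, hZd, ?_⟩
    have h1 : IsIrreducible (Set.univ : Set (AlgSp.Points Z.obj)) := hzg.isIrreducible
    exact (irreducibleSpace_def _).2 h1
  have hprop : AlgSp.IsProperMor (i ≫ f).hom :=
    isProperMor_comp Z.property X.property Y.property
      (ProperSub15.isProperMor_of_closedImmersion Z.property X.property hci) hf
  have hzy : AlgSp.Points.map (i ≫ f).hom z = y := by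
    rw [ObjectProperty.FullSubcategory.comp_hom, AlgSp.Points.map_comp, hz]; exact hxy
  have hdom : AlgSp.IsDominantMor (i ≫ f).hom := by
    refine dense_iff_closure_eq.2 (Set.eq_univ_of_univ_subset ?_)
    rw [← hy.def]
    exact closure_mono (Set.singleton_subset_iff.2 ⟨z, hzy⟩)
  have halone : ∀ z', AlgSp.Points.map (i ≫ f).hom z' = y → z' = z := fun z' hz' => by
    rw [ObjectProperty.FullSubcategory.comp_hom, AlgSp.Points.map_comp] at hz'
    refine he.injective ?_
    have hsp : (⟨x, hxy⟩ : F) ⤳ ⟨AlgSp.Points.map i.hom z', hz'⟩ :=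
      (subtype_specializes_iff _ _).2 (specializes_iff_mem_closure.2 (hr.le ⟨z', rfl⟩))
    rw [hz]
    exact congrArg Subtype.val (hxc.closure_subset (specializes_iff_mem_closure.1 hsp))
  obtain ⟨V, b, U, g, a, hV, hne, hb, sq, hU, hg⟩ := exists_finite_preimage hZd hYd (i ≫ f)
    hprop.2.1.1 hdom hzg hy (Or.inr hprop.2.1.2) halone
  refine ⟨Z, i, hci, hZi, hprop, hdom, (AlgSp.ofScheme S).obj V, ObjectProperty.homMk b, hb,
    ⟨AlgSp.Points.schemeEquiv V (Classical.arbitrary _)⟩, fun P fst snd h => ?_⟩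
  have hgf : AlgSp.IsFiniteMor ((AlgSp.yon S).map g) :=
    isFiniteMor_iff_repWith.2 ((AlgSp.repWith_yon_map_iff _ _).2 hg)
  have e : fst.hom = (h.flip.isoIsPullback _ _ sq).hom ≫ (AlgSp.yon S).map g :=
    (h.flip.isoIsPullback_hom_snd _ _ sq).symm
  rw [e, isFiniteMor_iff_repWith]
  exact (repWith_respectsIso_left (h.flip.isoIsPullback _ _ sq).hom).2
    (isFiniteMor_iff_repWith.1 hgf)

end Groth.Agent.S10458
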