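import Groth.Statements.S10459
import Groth.Agent.S10324
import Groth.Agent.Lib.AlgSpDecent.Dim
import Groth.Agent.Lib.AlgSpDecent.Basic2
import Groth.Agent.Lib.AlgSpRel14.RelDim
import Groth.Agent.Lib.AlgSpRel14.Chart
-- import your own Groth.Agent.* helpers here

set_option autoImplicit false
universe u
open CategoryTheory CategoryTheory.Limits AlgebraicGeometry Topology TopologicalSpace
open AlgSp

namespace Groth.Agent.S10459

/-- Let f : X ⟶ Y be a dominant morphism locally of finite type between integral algebraic spaces over a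
scheme S, with Y locally Noetherian, and let r be the transcendence degree of the generic point of X
over its image (the generic point of Y). Then dim X ≤ dim Y + r. -/
theorem result {S : Scheme.{u}} {X Y : AlgSp.Space S} (f : X ⟶ Y)
    (hY : AlgSp.IsLocNoethSp Y.obj) (hXi : AlgSp.IsIntegralSp X.obj) (hYi : AlgSp.IsIntegralSp Y.obj)
    (hd : AlgSp.IsDominantMor f.hom) (hft : AlgSp.LocP @LocallyOfFiniteType f.hom)
    (x : AlgSp.Points X.obj) (hx : IsGenericPoint x (Set.univ : Set (AlgSp.Points X.obj))) (r : ℕ)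
    (hr : AlgSp.HasAtMor (fun _ _ h u => Dual3.resTrdeg h u = (r : Cardinal.{u})) f.hom x) :
    AlgSp.dim X.obj ≤ AlgSp.dim Y.obj + ((r : ℕ∞) : WithBot ℕ∞) := by
  letI := specializationPreorder (AlgSp.Points X.obj)
  haveI := Groth.Agent.AlgSpDecent.t0Space_of_finFibres X.property
    (Groth.Agent.AlgSpDecent.finFibres_of_isDecent X.property.diag hXi.2.1)
  have h := Groth.Agent.S10324.result f hY hft ((r : ℕ) : Cardinal.{u}) (fun ξ hξ s hs => ?_)
  · simpa using h
  · have hco : Order.coheight ξ = 0 := by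
      exact_mod_cast (Groth.Agent.AlgSpDecent.hasAt_ringKrullDim_iff X.property hXi.2.1 ξ 0).1 hξ
    have hmax : IsMax ξ := Order.coheight_eq_zero.1 hco
    have hs1 : x ⤳ ξ := hx.specializes (Set.mem_univ ξ)
    obtain rfl : ξ = x := (show ξ ⤳ x from hmax (show ξ ≤ x from hs1)).antisymm hs1 |>.eq
    obtain ⟨U, V, a, b, h, u, ha, hb, w, rfl, hru⟩ := hr
    have h2 := (Groth.Agent.AlgSpRel14.hasAtMor_iff_of_chart
      (Groth.Agent.AlgSpRel14.etInvOn_rd (· = s)) hft ha hb w u).1 hs
    exact le_of_eq (h2.symm.trans hru)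

end Groth.Agent.S10459
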