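import Groth.Statements.S1046
import Groth.Agent.Lib.DGam9.Plus
import Groth.Agent.Lib.DPush.QCoh
import Groth.Agent.Lib.DQC.Pull
import Groth.Agent.Lib.RHom.Support
import Groth.Agent.Lib.SiteCmp16.CohIn

set_option autoImplicit false
set_option linter.style.haveILetI false
set_option backward.isDefEq.respectTransparency false
universe u
open CategoryTheory CategoryTheory.Limits AlgebraicGeometry
attribute [local instance] HasDerivedCategory.standard
open Perf

namespace Groth.Agent.S1046

/-- Let U ⊆ X be an open subscheme with quasi-compact inclusion and T = X ∖ U. Assuming O_X-modules have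
enough injectives (true, not recorded), for every bounded below E ∈ D(O_X) with quasi-coherent
cohomology sheaves, the derived sections with support RΓ_T(E) (right derived functor of F ↦ ker(F →
j_*(F|_U))) has quasi-coherent cohomology sheaves, all supported on T. -/
theorem result (X : Scheme.{u}) (U : X.Opens) [QuasiCompact U.ι] [EnoughInjectives X.Modules]
    (E : DerivedCategory.Plus X.Modules) (hE : DCoh.IsQCohD E.obj) :
    DCoh.IsQCohD ((DCoh.RgammaZPlus U.ι).obj E).obj ∧
    ∀ i : ℤ, CohB1.support (DCoh.HD ((DCoh.RgammaZPlus U.ι).obj E).obj i) ⊆ (U : Set X)ᶜ := by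
  haveI := DBC9.hasRpush U.ι
  obtain ⟨hz, a, b, c, hT⟩ := DGam9.exists_triangle_plus U.ι E
  refine ⟨WayOut.cohIn_obj₂ (fun M : X.Modules => Coh.IsQCoh M) _ (Pretriangulated.inv_rot_of_distTriang _ hT)
    (WayOut.cohIn_shift (fun M : X.Modules => Coh.IsQCoh M) (-1)
      (DPush.isQCohD_rpush U.ι _ (DQC.isQCohD_resD U.ι hE))) hE, fun i x hx hxU => hx ?_⟩
  have h : RHom.StalkZero (⟨x, hxU⟩ : (U : Scheme.{u})) ((Scheme.Modules.restrictFunctor U.ι).obj
      (DCoh.HD ((DCoh.RgammaZPlus U.ι).obj E).obj i)) :=
    ((M1.stalkAb _).map_isZero ((DerivedCategory.homologyFunctor _ i).map_isZero hz)).of_iso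
      ((M1.stalkAb _).mapIso (DPerf.hdResIso U.ι _ i).symm)
  exact AddCommGrpCat.subsingleton_of_isZero ((RHom.stalkZero_restrict_iff U.ι ⟨x, hxU⟩ _).1 h)

end Groth.Agent.S1046
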