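import Groth.Statements.S10466
import Groth.Agent.Lib.GeomRed15.Conn
-- import your own Groth.Agent.* helpers here

set_option autoImplicit false
universe u
open CategoryTheory CategoryTheory.Limits AlgebraicGeometry Topology TopologicalSpace
open AlgSp

namespace Groth.Agent.S10466

/-- Let k be a field and X, Y algebraic spaces over k with X geometrically connected over k. Then the
projection X ×_k Y ⟶ Y induces a bijection between connected components of |X ×_k Y| and of |Y|. -/
theorem result (k : Type u) [Field k]
    (X Y : AlgSp.Space (Spec (CommRingCat.of k))) (hX : (∀ (K : Type u) [Field K] [Algebra k K], ConnectedSpace (AlgSp.Points (X.obj ⨯ (AlgSp.yon (Spec (CommRingCat.of k))).obj (Over.mk (Spec.map (CommRingCat.ofHom (algebraMap k K)))))))) :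
    Function.Bijective (Continuous.connectedComponentsMap
      (AlgSp.Points.continuous_map (Limits.prod.snd : X.obj ⨯ Y.obj ⟶ Y.obj))) := by
  have hf := Groth.Agent.GeomRed15.isConnected_fibre_snd (F := X.obj) hX (Y := Y.obj)
  exact ((Groth.Agent.GeomRed15.isOpenMap_snd X.property Y.property).isQuotientMap (AlgSp.Points.continuous_map _)
    (fun y => (hf y).nonempty)).isCoinducing.connectedComponentsMap_bijective hf

end Groth.Agent.S10466
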