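import Groth.Statements.S1047
import Groth.Agent.Lib.DModR9.Main
import Groth.Agent.Lib.SiteCmp16.WayOut

set_option autoImplicit false
set_option linter.style.haveILetI false
set_option backward.isDefEq.respectTransparency false
universe u
open CategoryTheory CategoryTheory.Limits CategoryTheory.Pretriangulated
attribute [local instance] HasDerivedCategory.standard
open Perf

namespace Groth.Agent.S1047

/-- Let A be a commutative ring and R an A-algebra, not necessarily commutative, whose underlying
A-module is finite free. Restriction of scalars being exact (carried as instance hypotheses), if an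
object M of D(R) becomes pseudo-coherent in D(A) after restriction of scalars (isomorphic to a
bounded above complex of finite free A-modules), then M is represented by a bounded above complex of
finite free R-modules. (The source phrases this for right modules; we use left modules, which is the
same statement for the opposite algebra.) -/
theorem result (A : Type u) [CommRing A] (R : Type u) [Ring R] [Algebra A R]
    [Module.Finite A R] [Module.Free A R]
    [PreservesFiniteLimits (ModuleCat.restrictScalars.{u} (algebraMap A R))] [PreservesFiniteColimits (ModuleCat.restrictScalars.{u} (algebraMap A R))]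
    (M : DerivedCategory (ModuleCat.{u} R))
    (hM : DRing.IsPseudoCoherent' A (((ModuleCat.restrictScalars.{u} (algebraMap A R)).mapDerivedCategory).obj M)) :
    ∃ (F : CochainComplex (ModuleCat.{u} R) ℤ) (b : ℤ), (∀ i : ℤ, b < i → IsZero (F.X i)) ∧
      (∀ i : ℤ, Module.Finite R (F.X i) ∧ Module.Free R (F.X i)) ∧ Nonempty (DerivedCategory.Q.obj F ≅ M) := by
  let G := ModuleCat.restrictScalars.{u} (algebraMap A R)
  have hm := (DMod.pc'_iff _).1 hM
  obtain ⟨b, hb⟩ := DMod.pc_bddAbove (hm 0)
  haveI : M.IsLE b := (DerivedCategory.isLE_iff M b).2 fun i hi => by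
    have h := ((DerivedCategory.isLE_iff _ b).1 hb i hi).of_iso ((WayOut.mapDerivedHomologyIso G i).app M).symm
    have := ModuleCat.subsingleton_of_isZero h
    exact @ModuleCat.isZero_of_subsingleton _ _ _ this
  haveI : (M⟦b⟧).IsLE 0 := DerivedCategory.TStructure.t.isLE_shift M b b 0
  obtain ⟨L, hL, ⟨e⟩⟩ := (M⟦b⟧).exists_iso_Q_obj_of_isLE 0
  let e' : G.mapDerivedCategory.obj (M⟦b⟧) ≅ DRing.toD (DModR9.resA A L) :=
    G.mapDerivedCategory.mapIso e ≪≫ G.mapDerivedCategoryFactors.app L
  obtain ⟨E, hE, hF, ⟨f⟩⟩ := DModR9.exists_resolution_aux A L fun m =>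
    DMod.pc_of_iso (((G.mapDerivedCategory.commShiftIso b).app M).symm ≪≫ e')
      (DMod.pc_shift (m := m + b) rfl (hm _))
  refine ⟨(shiftFunctor (CochainComplex (ModuleCat.{u} R) ℤ) (-b)).obj E, b, fun i hi => hE (i + -b) (by omega),
    fun i => hF (i + -b), ⟨(DerivedCategory.Q.commShiftIso (-b)).app E ≪≫
      (shiftFunctor _ (-b)).mapIso (f ≪≫ e.symm) ≪≫ (shiftFunctorCompIsoId _ b (-b) (by omega)).app M⟩⟩

end Groth.Agent.S1047
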