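import Groth.Statements.S10470
import Groth.Agent.Lib.GeomRed15.Conn
-- import your own Groth.Agent.* helpers here

set_option autoImplicit false
universe u
open CategoryTheory CategoryTheory.Limits AlgebraicGeometry Topology TopologicalSpace
open AlgSp

namespace Groth.Agent.S10470

/-- Let k be a field, K/k a (possibly infinite) Galois extension and X an algebraic space over k. A
closed subset of |X_K| stable under the action of every element of Gal(K/k) is the inverse image of
a closed subset of |X|. -/
theorem result (k : Type u) [Field k] (X : AlgSp.Space (Spec (CommRingCat.of k))) (K : Type u) [Field K] [Algebra k K] [IsGalois k K]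
    (T : Set (AlgSp.Points (X.obj ⨯ (AlgSp.yon (Spec (CommRingCat.of k))).obj (Over.mk (Spec.map (CommRingCat.ofHom (algebraMap k K))))))) (hT : IsClosed T)
    (hσ : ∀ (σ : K ≃ₐ[k] K) (g : (Over.mk (Spec.map (CommRingCat.ofHom (algebraMap k K))) : Over (Spec (CommRingCat.of k))) ⟶ Over.mk (Spec.map (CommRingCat.ofHom (algebraMap k K)))),
      g.left = Spec.map (CommRingCat.ofHom (σ : K ≃ₐ[k] K).toRingHom) →
        AlgSp.Points.map (Limits.prod.map (𝟙 X.obj) ((AlgSp.yon (Spec (CommRingCat.of k))).map g)) '' T = T) :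
    ∃ T₀ : Set (AlgSp.Points X.obj), IsClosed T₀ ∧
      AlgSp.Points.map (Limits.prod.fst : (X.obj ⨯ (AlgSp.yon (Spec (CommRingCat.of k))).obj (Over.mk (Spec.map (CommRingCat.ofHom (algebraMap k K))))) ⟶ X.obj) ⁻¹' T₀ = T := by
  refine Groth.Agent.GeomRed15.exists_closed_descent X.property hT fun σ x hx => ?_
  exact (hσ σ (Groth.Agent.GeomRed15.gHom (σ : K →ₐ[k] K)) rfl).le ⟨x, hx, rfl⟩

end Groth.Agent.S10470
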