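import Groth.Statements.S10473
import Groth.Agent.Lib.GeomRed15.Basic
-- import your own Groth.Agent.* helpers here

set_option autoImplicit false
universe u
open CategoryTheory CategoryTheory.Limits AlgebraicGeometry Topology TopologicalSpace
open AlgSp

namespace Groth.Agent.S10473

/-- (2) ⇔ (3): let k be a field, X an algebraic space over k and x a point of X. Then some etale
neighbourhood (U, u) of (X, x) with U a scheme is geometrically reduced at u, if and only if every
such etale neighbourhood is geometrically reduced at its point over x. -/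
theorem result (k : Type u) [Field k] (X : AlgSp.Space (Spec (CommRingCat.of k))) (x : AlgSp.Points X.obj) :
    (∃ (U : Over (Spec (CommRingCat.of k))) (a : (AlgSp.yon (Spec (CommRingCat.of k))).obj U ⟶ X.obj) (u : ↥U.left),
      AlgSp.RepWith @Etale a ∧ AlgSp.Points.ofPt a u = x ∧ FBase.IsGeomReducedAt U.hom u) ↔
      ∀ (U : Over (Spec (CommRingCat.of k))) (a : (AlgSp.yon (Spec (CommRingCat.of k))).obj U ⟶ X.obj) (u : ↥U.left),
        AlgSp.RepWith @Etale a → AlgSp.Points.ofPt a u = x → FBase.IsGeomReducedAt U.hom u := by
  constructor
  · intro h U a u ha hx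
    exact Groth.Agent.GeomRed15.of_exists ha hx h
  · intro h
    obtain ⟨U, a, hae, has⟩ := X.property.atlas
    obtain ⟨u, rfl⟩ := Groth.Agent.AlgSpace.surjective_ofPt has x
    exact ⟨U, a, u, hae, rfl, h U a u hae rfl⟩


end Groth.Agent.S10473
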