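import Groth.Statements.S10474
import Groth.Agent.Lib.GeomRed15.Basic
-- import your own Groth.Agent.* helpers here

set_option autoImplicit false
universe u
open CategoryTheory CategoryTheory.Limits AlgebraicGeometry Topology TopologicalSpace
open AlgSp

namespace Groth.Agent.S10474

/-- (2) ⇒ (3): let k be a field and X an algebraic space over k. If some surjective etale chart U ⟶ X
from a scheme has U geometrically reduced over k, then every scheme etale over X is geometrically
reduced over k. -/
theorem result (k : Type u) [Field k] (X : AlgSp.Space (Spec (CommRingCat.of k)))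
    (U : Over (Spec (CommRingCat.of k))) (a : (AlgSp.yon (Spec (CommRingCat.of k))).obj U ⟶ X.obj) (ha : AlgSp.RepWith @Etale a)
    (hs : AlgSp.RepWith @Surjective a) (hU : ∀ u : ↥U.left, FBase.IsGeomReducedAt U.hom u)
    (V : Over (Spec (CommRingCat.of k))) (b : (AlgSp.yon (Spec (CommRingCat.of k))).obj V ⟶ X.obj) (hb : AlgSp.RepWith @Etale b) (v : ↥V.left) :
    FBase.IsGeomReducedAt V.hom v := by
  obtain ⟨u, hu⟩ := Groth.Agent.AlgSpace.surjective_ofPt hs (AlgSp.Points.ofPt b v)
  exact (Groth.Agent.GeomRed15.iff_of_charts hb ha hu.symm).2 (hU u)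


end Groth.Agent.S10474
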