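import Groth.Statements.S10475
import Groth.Agent.Lib.GeomRed15.Basic
-- import your own Groth.Agent.* helpers here

set_option autoImplicit false
universe u
open CategoryTheory CategoryTheory.Limits AlgebraicGeometry Topology TopologicalSpace
open AlgSp

namespace Groth.Agent.S10475

/-- Let k be a perfect field and X a reduced algebraic space over k. Then X is geometrically reduced
over k (geometrically reduced at every point). -/
theorem result (k : Type u) [Field k] [PerfectField k]
    (X : AlgSp.Space (Spec (CommRingCat.of k))) (hX : AlgSp.EtaleLocally (fun U => IsReduced U) X.obj) (x : AlgSp.Points X.obj) :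
    (∃ (U : Over (Spec (CommRingCat.of k))) (a : (AlgSp.yon (Spec (CommRingCat.of k))).obj U ⟶ X.obj) (u : ↥U.left),
      AlgSp.RepWith @Etale a ∧ AlgSp.Points.ofPt a u = x ∧ FBase.IsGeomReducedAt U.hom u) := by
  obtain ⟨U, a, hae, has⟩ := X.property.atlas
  have : AlgebraicGeometry.IsReduced U.left := Groth.Agent.AlgSpDescent.prop_of_etale_chart
    Groth.Agent.AlgSpDescent.isReduced_up Groth.Agent.AlgSpDescent.isReduced_down hX hae
  obtain ⟨u, rfl⟩ := Groth.Agent.AlgSpace.surjective_ofPt has x
  refine ⟨U, a, u, hae, rfl, ?_⟩
  let _ : U.left.Over (Spec (CommRingCat.of k)) := ⟨U.hom⟩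
  exact Groth.Agent.GeomRed.isGeomReducedAt_of_perfectField u


end Groth.Agent.S10475
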