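import Groth.Statements.S10476
import Groth.Agent.Lib.GeomRed15.Basic
-- import your own Groth.Agent.* helpers here

set_option autoImplicit false
universe u
open CategoryTheory CategoryTheory.Limits AlgebraicGeometry Topology TopologicalSpace
open AlgSp

namespace Groth.Agent.S10476

/-- (1) ⇔ (2): let k be a field of characteristic p > 0 and X an algebraic space over k. Then X is
geometrically reduced over k exactly when X_K is reduced for all field extensions K of k. -/
theorem result (k : Type u) [Field k] (p : ℕ) [Fact p.Prime] [CharP k p]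
    (X : AlgSp.Space (Spec (CommRingCat.of k))) :
    (∀ x : AlgSp.Points X.obj, (∃ (U : Over (Spec (CommRingCat.of k))) (a : (AlgSp.yon (Spec (CommRingCat.of k))).obj U ⟶ X.obj) (u : ↥U.left),
      AlgSp.RepWith @Etale a ∧ AlgSp.Points.ofPt a u = x ∧ FBase.IsGeomReducedAt U.hom u)) ↔
      ∀ (K : Type u) [Field K] [Algebra k K], AlgSp.EtaleLocally (fun U => IsReduced U) (X.obj ⨯ (AlgSp.yon (Spec (CommRingCat.of k))).obj (Over.mk (Spec.map (CommRingCat.ofHom (algebraMap k K))))) := by
  refine ⟨fun h K _ _ => ?_, fun h x => ?_⟩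
  · exact Groth.Agent.GeomRed15.etaleLocally_bc_of_forall K X.property fun U a hae _ u =>
      Groth.Agent.GeomRed15.of_exists hae rfl (h (AlgSp.Points.ofPt a u))
  · obtain ⟨U, a, hae, has⟩ := X.property.atlas
    obtain ⟨u, rfl⟩ := Groth.Agent.AlgSpace.surjective_ofPt has x
    refine ⟨U, a, u, hae, rfl, fun K _ _ z _ => ?_⟩
    have := Groth.Agent.GeomRed15.isReduced_bc_of_etaleLocally K hae (h K)
    infer_instance


end Groth.Agent.S10476
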