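import Groth.Statements.S10477
import Groth.Agent.Lib.GeomRed15.Basic
-- import your own Groth.Agent.* helpers here

set_option autoImplicit false
universe u
open CategoryTheory CategoryTheory.Limits AlgebraicGeometry Topology TopologicalSpace
open AlgSp

namespace Groth.Agent.S10477

/-- (6) ⇒ (2): let k be a field of characteristic p > 0 with algebraic closure k̄ and X an algebraic
space over k. If X_{k̄} is reduced, then X_K is reduced for every field extension K of k. -/
theorem result (k : Type u) [Field k] (p : ℕ) [Fact p.Prime] [CharP k p]
    (X : AlgSp.Space (Spec (CommRingCat.of k))) (kbar : Type u) [Field kbar] [Algebra k kbar] [IsAlgClosure k kbar]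
    (h : AlgSp.EtaleLocally (fun U => IsReduced U) (X.obj ⨯ (AlgSp.yon (Spec (CommRingCat.of k))).obj (Over.mk (Spec.map (CommRingCat.ofHom (algebraMap k kbar))))))
    (K : Type u) [Field K] [Algebra k K] : AlgSp.EtaleLocally (fun U => IsReduced U) (X.obj ⨯ (AlgSp.yon (Spec (CommRingCat.of k))).obj (Over.mk (Spec.map (CommRingCat.ofHom (algebraMap k K))))) := by
  have : IsAlgClosed kbar := IsAlgClosure.isAlgClosed k
  exact Groth.Agent.GeomRed15.etaleLocally_bc_of_forall K X.property fun U a hae _ u =>
    Groth.Agent.GeomRed15.forall_of_perfect kbar h hae u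


end Groth.Agent.S10477
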