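import Groth.Statements.S10479
import Groth.Agent.Lib.GeomRed15.Basic
-- import your own Groth.Agent.* helpers here

set_option autoImplicit false
universe u
open CategoryTheory CategoryTheory.Limits AlgebraicGeometry Topology TopologicalSpace
open AlgSp

namespace Groth.Agent.S10479

/-- Let k be a field, X an algebraic space over k, K/k a field extension, x a point of X and x' a point
of X_K lying over x. Then X is geometrically reduced at x (over k) if and only if X_K is
geometrically reduced at x' (over K). -/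
theorem result (k : Type u) [Field k] (X : AlgSp.Space (Spec (CommRingCat.of k))) (K : Type u) [Field K] [Algebra k K]
    (x : AlgSp.Points X.obj) (x' : AlgSp.Points (X.obj ⨯ (AlgSp.yon (Spec (CommRingCat.of k))).obj (Over.mk (Spec.map (CommRingCat.ofHom (algebraMap k K))))))
    (hx' : AlgSp.Points.map (Limits.prod.fst : (X.obj ⨯ (AlgSp.yon (Spec (CommRingCat.of k))).obj (Over.mk (Spec.map (CommRingCat.ofHom (algebraMap k K))))) ⟶ X.obj) x' = x) :
    (∃ (U : Over (Spec (CommRingCat.of k))) (a : (AlgSp.yon (Spec (CommRingCat.of k))).obj U ⟶ X.obj) (u : ↥U.left),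
      AlgSp.RepWith @Etale a ∧ AlgSp.Points.ofPt a u = x ∧ FBase.IsGeomReducedAt U.hom u) ↔
      ∃ (U' : Over (Spec (CommRingCat.of k))) (a' : (AlgSp.yon (Spec (CommRingCat.of k))).obj U' ⟶ (X.obj ⨯ (AlgSp.yon (Spec (CommRingCat.of k))).obj (Over.mk (Spec.map (CommRingCat.ofHom (algebraMap k K))))))
        (q : U' ⟶ Over.mk (Spec.map (CommRingCat.ofHom (algebraMap k K)))) (u' : ↥U'.left),
        AlgSp.RepWith @Etale a' ∧ a' ≫ Limits.prod.snd = (AlgSp.yon (Spec (CommRingCat.of k))).map q ∧
          AlgSp.Points.ofPt a' u' = x' ∧ FBase.IsGeomReducedAt q.left u' := by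
  constructor
  · rintro ⟨U, a, u, ha, hu, h⟩
    obtain ⟨z, rfl, hz⟩ := Groth.Agent.GeomRed15.exists_point_bcChart K a (hu.trans hx'.symm)
    exact ⟨_, _, Groth.Agent.GeomRed15.bcq K U, z, Groth.Agent.GeomRed15.bcChart_etale K ha, Groth.Agent.GeomRed15.bcChart_snd' K a, hz, (Groth.Agent.GeomRed15.iff_bc K U.hom z).1 h⟩
  · rintro ⟨U', a', q, u', ha', hq, hu', h⟩
    obtain ⟨U, a, hae, has⟩ := X.property.atlas
    obtain ⟨u, hu⟩ := Groth.Agent.AlgSpace.surjective_ofPt has x
    obtain ⟨z, rfl, hz⟩ := Groth.Agent.GeomRed15.exists_point_bcChart K a (hu.trans hx'.symm)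
    obtain ⟨Z, p, r, t, hp, hr, hc, rfl, hrt⟩ :=
      Groth.Agent.GeomRed15.exists_common_chart' ha' (Groth.Agent.GeomRed15.bcChart_etale K hae) (hu'.trans hz.symm)
    have hw : p ≫ q = r ≫ Groth.Agent.GeomRed15.bcq K U := (AlgSp.yon _).map_injective (by
      rw [Functor.map_comp, Functor.map_comp, ← hq, ← Groth.Agent.GeomRed15.bcChart_snd' K a, ← Category.assoc, hc, Category.assoc])
    refine ⟨U, a, _, hae, hu, (Groth.Agent.GeomRed15.iff_bc K U.hom z).2 ?_⟩
    rw [← Groth.Agent.GeomRed15.iff_of_etale q.left p.left t, show p.left ≫ q.left = r.left ≫ FBase.bcStr U.hom K from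
      congrArg (fun m => m.left) hw] at h
    exact hrt ▸ (Groth.Agent.GeomRed15.iff_of_etale (FBase.bcStr U.hom K) r.left t).1 h


end Groth.Agent.S10479
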