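import Groth.Statements.S1048
import Groth.Agent.Lib.DGen9.QCD

set_option autoImplicit false
set_option linter.style.haveILetI false
set_option backward.isDefEq.respectTransparency false
universe u
open CategoryTheory CategoryTheory.Limits AlgebraicGeometry
attribute [local instance] HasDerivedCategory.standard
open Perf

namespace Groth.Agent.S1048

/-- Let the scheme X be quasi-compact with affine diagonal (intersections of affine opens are affine).
Granting that quasi-coherent modules contain zero and are closed under kernels, cokernels and finite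
products in all O_X-modules, with exact inclusion (true facts, carried as instance hypotheses; they
make QCoh(O_X) an abelian category), the induced functor D(QCoh(O_X)) ⥤ D(O_X) is full and faithful,
and an object of D(O_X) lies in its essential image if and only if its cohomology sheaves are
quasi-coherent. -/
theorem result (X : Scheme.{u}) [CompactSpace ↥X]
    (hdiag : ∀ U V : X.Opens, IsAffineOpen U → IsAffineOpen V → IsAffineOpen (U ⊓ V))
    [ObjectProperty.ContainsZero (fun M : X.Modules => Coh.IsQCoh M)] [ObjectProperty.IsClosedUnderKernels (fun M : X.Modules => Coh.IsQCoh M)]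
    [ObjectProperty.IsClosedUnderCokernels (fun M : X.Modules => Coh.IsQCoh M)] [ObjectProperty.IsClosedUnderFiniteProducts (fun M : X.Modules => Coh.IsQCoh M)]
    [PreservesFiniteLimits (ObjectProperty.ι (fun M : X.Modules => Coh.IsQCoh M))] [PreservesFiniteColimits (ObjectProperty.ι (fun M : X.Modules => Coh.IsQCoh M))] :
    (ObjectProperty.ι (fun M : X.Modules => Coh.IsQCoh M)).mapDerivedCategory.Full ∧ (ObjectProperty.ι (fun M : X.Modules => Coh.IsQCoh M)).mapDerivedCategory.Faithful ∧
    ∀ K : DCoh.D X, DCoh.IsQCohD K ↔ ∃ M, Nonempty ((ObjectProperty.ι (fun M : X.Modules => Coh.IsQCoh M)).mapDerivedCategory.obj M ≅ K) := by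
  have hb := @QCD.bijective_Φ_map X _ hdiag
  refine ⟨⟨fun {M N} g => ⟨((hb M N).2 g).choose, ((hb M N).2 g).choose_spec⟩⟩, ⟨fun {M N} f g h => (hb M N).1 h⟩,
    fun K => ⟨fun hK => QCD.exists_Φ_iso_of_affine_diagonal hdiag hK, ?_⟩⟩
  rintro ⟨M, ⟨e⟩⟩
  exact DQC.isQCohD_of_iso e (QCD.isQCohD_Φ M)

end Groth.Agent.S1048
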