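import Groth.Statements.S10481
import Groth.Agent.Lib.GeomRed15.Basic
-- import your own Groth.Agent.* helpers here

set_option autoImplicit false
universe u
open CategoryTheory CategoryTheory.Limits AlgebraicGeometry Topology TopologicalSpace
open AlgSp

namespace Groth.Agent.S10481

/-- Let k be a field, f : X ⟶ Y a morphism of algebraic spaces over k and x a point of X at which f is
etale. Then X is geometrically reduced at x if and only if Y is geometrically reduced at the image
of x. -/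
theorem result (k : Type u) [Field k] {X Y : AlgSp.Space (Spec (CommRingCat.of k))} (f : X ⟶ Y)
    (x : AlgSp.Points X.obj)
    (he : AlgSp.HasAtMor (fun U _ h u => ∃ W : U.Opens, u ∈ W ∧ Etale (W.ι ≫ h)) f.hom x) :
    (∃ (U : Over (Spec (CommRingCat.of k))) (a : (AlgSp.yon (Spec (CommRingCat.of k))).obj U ⟶ X.obj) (u : ↥U.left),
      AlgSp.RepWith @Etale a ∧ AlgSp.Points.ofPt a u = x ∧ FBase.IsGeomReducedAt U.hom u) ↔ (∃ (U : Over (Spec (CommRingCat.of k))) (a : (AlgSp.yon (Spec (CommRingCat.of k))).obj U ⟶ Y.obj) (u : ↥U.left),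
      AlgSp.RepWith @Etale a ∧ AlgSp.Points.ofPt a u = (AlgSp.Points.map f.hom x) ∧ FBase.IsGeomReducedAt U.hom u) := by
  obtain ⟨U, V, a, b, g, u, ha, hb, w, hu, W, huW, hW⟩ := he
  have h1 := Groth.Agent.GeomRed15.iff_of_etale U.hom W.ι ⟨u, huW⟩
  have h2 := Groth.Agent.GeomRed15.iff_of_etale V.hom (W.ι ≫ g.left) ⟨u, huW⟩
  rw [Category.assoc, Over.w g] at h2
  have hy : AlgSp.Points.ofPt b (g.left u) = AlgSp.Points.map f.hom x := by
    rw [← hu, Groth.Agent.AlgSpace.ofPt_sq w u]
  constructor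
  · intro h
    exact ⟨V, b, _, hb, hy, h2.1 (h1.2 (Groth.Agent.GeomRed15.of_exists ha hu h))⟩
  · intro h
    exact ⟨U, a, u, ha, hu, h1.1 (h2.2 (Groth.Agent.GeomRed15.of_exists hb hy h))⟩


end Groth.Agent.S10481
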