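import Groth.Statements.S10483
import Groth.Agent.Lib.AlgSpDecent.FieldDim
-- import your own Groth.Agent.* helpers here

set_option autoImplicit false
set_option backward.isDefEq.respectTransparency.types false
universe u
open CategoryTheory CategoryTheory.Limits AlgebraicGeometry Topology TopologicalSpace
open AlgSp

namespace Groth.Agent.S10483
open Groth.Agent.AlgSpDecent Groth.Agent.AlgSpace Topology

variable {k : Type u} [Field k]

theorem chart_artinian {F : AlgSp.Sp (Spec (CommRingCat.of k))}
    {p : F ⟶ (AlgSp.yon (Spec (CommRingCat.of k))).obj (Over.mk (𝟙 _))}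
    (hp : AlgSp.LocP (@LocallyQuasiFinite ⊓ @LocallyOfFiniteType : MorphismProperty Scheme.{u}) p)
    {U : Over (Spec (CommRingCat.of k))} {a : (AlgSp.yon _).obj U ⟶ F} (ha : AlgSp.RepWith @Etale a) :
    LocallyQuasiFinite U.hom ∧ LocallyOfFiniteType U.hom ∧ IsLocallyArtinian U.left := by
  obtain ⟨hq, hl⟩ := chart_lft hp ha
  have : LocallyQuasiFinite U.hom := hq
  exact ⟨hq, hl, IsLocallyArtinian.of_locallyQuasiFinite U.hom⟩

theorem isDecent_lqf {F : AlgSp.Sp (Spec (CommRingCat.of k))} (hF : AlgSp.IsAlgSpace F)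
    {p : F ⟶ (AlgSp.yon (Spec (CommRingCat.of k))).obj (Over.mk (𝟙 _))}
    (hp : AlgSp.LocP (@LocallyQuasiFinite ⊓ @LocallyOfFiniteType : MorphismProperty Scheme.{u}) p) :
    AlgSp.IsDecent F := by
  intro x
  have hfin : FinFibres x := fun B ψ hB hψ => by
    obtain ⟨_, _, _⟩ := chart_artinian hp hψ
    have : Finite B.left := finite_of_compact_of_discrete
    exact Set.toFinite _
  obtain ⟨U, φ, hU, hφ, hx⟩ := exists_affine_chart_at hF x
  refine hasMonoQC_of_finFibres hF hfin hU hφ hx fun R s t sq => ?_
  obtain ⟨_, _, _⟩ := chart_artinian hp hφ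
  let l : R.left ⟶ pullback U.hom U.hom :=
    pullback.lift t.left s.left (by rw [Over.w t, Over.w s])
  have : Mono l := ⟨fun {T} a b e => by
    have e1 : a ≫ t.left = b ≫ t.left := by
      have h := congrArg (· ≫ pullback.fst U.hom U.hom) e
      simp only [Category.assoc] at h
      erw [pullback.lift_fst] at h
      exact h
    have e2 : a ≫ s.left = b ≫ s.left := by
      have h := congrArg (· ≫ pullback.snd U.hom U.hom) e
      simp only [Category.assoc] at h
      erw [pullback.lift_snd] at h
      exact h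
    let T' : Over (Spec (CommRingCat.of k)) := Over.mk (a ≫ R.hom)
    let a' : T' ⟶ R := Over.homMk a rfl
    let b' : T' ⟶ R := Over.homMk b (by
      change b ≫ R.hom = a ≫ R.hom
      rw [← Over.w t, reassoc_of% e1])
    have h1 : a' ≫ t = b' ≫ t := by ext1; exact e1
    have h2 : a' ≫ s = b' ≫ s := by ext1; exact e2
    have : a' = b' := (AlgSp.yon _).map_injective (sq.hom_ext
      (by rw [← Functor.map_comp, ← Functor.map_comp, h1])
      (by rw [← Functor.map_comp, ← Functor.map_comp, h2]))
    exact congrArg (fun f => f.left) this⟩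
  have := hU
  have : LocallyQuasiFinite (pullback.fst U.hom U.hom ≫ U.hom) := inferInstance
  have : IsLocallyArtinian (pullback U.hom U.hom) :=
    IsLocallyArtinian.of_locallyQuasiFinite (pullback.fst U.hom U.hom ≫ U.hom)
  have : Finite ↥(pullback U.hom U.hom) := finite_of_compact_of_discrete
  have : Finite R.left := Finite.of_injective _ l.injective
  exact Set.toFinite _

theorem discreteTopology_points {F : AlgSp.Sp (Spec (CommRingCat.of k))} (hF : AlgSp.IsAlgSpace F)
    {p : F ⟶ (AlgSp.yon (Spec (CommRingCat.of k))).obj (Over.mk (𝟙 _))}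
    (hp : AlgSp.LocP (@LocallyQuasiFinite ⊓ @LocallyOfFiniteType : MorphismProperty Scheme.{u}) p) :
    DiscreteTopology (AlgSp.Points F) := by
  obtain ⟨V, q, hqe, hqs⟩ := hF.atlas
  obtain ⟨_, _, _⟩ := chart_artinian hp hqe
  refine discreteTopology_iff_isOpen_singleton.2 fun x => ?_
  obtain ⟨v, rfl⟩ := surjective_ofPt hqs x
  have := isOpenMap_ofPt q hqe _ (isOpen_discrete ({v} : Set V.left))
  rwa [Set.image_singleton] at this


/-- (1) ⇔ (5): let k be a field and X an algebraic space over k. Then X is locally quasi-finite over k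
if and only if X decomposes as a disjoint union of spectra of finite-dimensional Artinian local
k-algebras: X is a scheme every point of which has an affine open neighbourhood with Artinian local
coordinate ring, finite over k. -/
theorem result (k : Type u) [Field k] (X : AlgSp.Space (Spec (CommRingCat.of k))) (p : X.obj ⟶ (AlgSp.yon (Spec (CommRingCat.of k))).obj (Over.mk (𝟙 _))) :
    AlgSp.LocP (@LocallyQuasiFinite ⊓ @LocallyOfFiniteType : MorphismProperty Scheme.{u}) p ↔
      ∃ (U : Over (Spec (CommRingCat.of k))) (_ : (AlgSp.yon (Spec (CommRingCat.of k))).obj U ≅ X.obj), ∀ u : ↥U.left, ∃ V : U.left.Opens,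
        u ∈ V ∧ IsAffineOpen V ∧ IsArtinianRing ↥Γ(U.left, V) ∧ IsLocalRing ↥Γ(U.left, V) ∧
          IsFinite (V.ι ≫ U.hom) := by
  constructor
  · intro hp
    have := discreteTopology_points X.property hp
    obtain ⟨U, ⟨e⟩⟩ := exists_yon_iso_of_isRepresentable
      (isRepresentable_of_discrete_points X (isDecent_lqf X.property hp))
    obtain ⟨_, _, _⟩ := chart_artinian hp (a := e.hom)
      (MorphismProperty.of_isIso (AlgSp.RepWith (S := Spec (CommRingCat.of k)) @Etale) _)
    refine ⟨U, e, fun u => ?_⟩
    let V : U.left.Opens := ⟨{u}, isOpen_discrete _⟩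
    have hsV : Subsingleton V := ⟨fun a b => Subtype.ext (a.2.trans b.2.symm)⟩
    have : Finite V.toScheme := @Finite.of_subsingleton _ hsV
    have : DiscreteTopology V.toScheme := inferInstanceAs (DiscreteTopology V)
    have hV : IsAffineOpen V := (inferInstance : IsAffine V.toScheme)
    have hloc : IsLocalRing Γ(U.left, V) := by
      have hsub : Subsingleton (Spec Γ(U.left, V)) :=
        @Equiv.subsingleton _ _ hV.isoSpec.hom.homeomorph.toEquiv.symm hsV
      have : Nonempty (Spec Γ(U.left, V)) := ⟨hV.isoSpec.hom (⟨u, rfl⟩ : V)⟩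
      have : Nontrivial Γ(U.left, V) := by
        rw [← PrimeSpectrum.nonempty_iff_nontrivial]; assumption
      refine IsLocalRing.of_unique_max_ideal ?_
      obtain ⟨m, hm⟩ := Ideal.exists_maximal Γ(U.left, V)
      refine ⟨m, hm, fun m' hm' => ?_⟩
      exact congrArg PrimeSpectrum.asIdeal (@Subsingleton.elim (PrimeSpectrum Γ(U.left, V)) hsub
        ⟨m', hm'.isPrime⟩ ⟨m, hm.isPrime⟩)
    have : IsLocallyArtinian (Spec (CommRingCat.of k)) :=
      Scheme.isLocallyArtinianScheme_Spec.2 inferInstance
    have : QuasiCompact (V.ι ≫ U.hom) :=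
      (quasiCompact_iff_compactSpace _).2 inferInstance
    exact ⟨V, rfl, hV, IsLocallyArtinian.isArtinianRing_presheaf_obj ⟨V, hV⟩, hloc,
      IsFinite.of_locallyQuasiFinite _⟩
  · rintro ⟨U, e, hU⟩
    choose V hu hV _ _ hfin using hU
    have hO : iSup V = ⊤ := eq_top_iff.2 fun x _ => TopologicalSpace.Opens.mem_iSup.2 ⟨x, hu x⟩
    have hq : LocallyQuasiFinite U.hom := by
      rw [IsZariskiLocalAtSource.iff_of_openCover (P := @LocallyQuasiFinite)
        (U.left.openCoverOfIsOpenCover V hO)]
      intro (x : U.left)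
      change LocallyQuasiFinite ((V x).ι ≫ U.hom)
      have := hfin x
      infer_instance
    have hl : LocallyOfFiniteType U.hom := by
      rw [IsZariskiLocalAtSource.iff_of_openCover (P := @LocallyOfFiniteType)
        (U.left.openCoverOfIsOpenCover V hO)]
      intro (x : U.left)
      change LocallyOfFiniteType ((V x).ι ≫ U.hom)
      have := hfin x
      infer_instance
    intro A B a b h ha hb _
    obtain ⟨c, hc⟩ := (AlgSp.yon _).map_surjective (a ≫ e.inv)
    have hce : AlgSp.RepWith @Etale ((AlgSp.yon _).map c) := by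
      rw [hc, repWith_respectsIso_right]; exact ha
    have : Etale c.left := (AlgSp.repWith_yon_map_iff _ _).1 hce
    have e1 : h.left ≫ B.hom = c.left ≫ U.hom := by rw [Over.w h, Over.w c]
    have := locallyQuasiFinite_of_etale c.left
    have h1 : LocallyQuasiFinite (h.left ≫ B.hom) := by rw [e1]; infer_instance
    have h2 : LocallyOfFiniteType (h.left ≫ B.hom) := by rw [e1]; infer_instance
    exact ⟨LocallyQuasiFinite.of_comp h.left B.hom, locallyOfFiniteType_of_comp h.left B.hom⟩

end Groth.Agent.S10483
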