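import Groth.Statements.S10484
import Groth.Agent.Lib.AlgSpDecent.FieldDim
-- import your own Groth.Agent.* helpers here

set_option autoImplicit false
universe u
open CategoryTheory CategoryTheory.Limits AlgebraicGeometry Topology TopologicalSpace
open AlgSp

namespace Groth.Agent.S10484

/-- For a field k, local quasi-finiteness over k passes from the target Y of a monomorphism f : X ⟶ Y of
algebraic spaces over k to its source X. -/
theorem result (k : Type u) [Field k] {X Y : AlgSp.Space (Spec (CommRingCat.of k))} (f : X ⟶ Y)
    [Mono f.hom] (q : Y.obj ⟶ (AlgSp.yon (Spec (CommRingCat.of k))).obj (Over.mk (𝟙 _))) (hq : AlgSp.LocP (@LocallyQuasiFinite ⊓ @LocallyOfFiniteType : MorphismProperty Scheme.{u}) q) :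
    AlgSp.LocP (@LocallyQuasiFinite ⊓ @LocallyOfFiniteType : MorphismProperty Scheme.{u}) (f.hom ≫ q) := by
  exact Groth.Agent.AlgSpDecent.lqf_field_of_mono X.property Y.property f.hom q hq


end Groth.Agent.S10484
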