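import Groth.Statements.S10486
import Groth.Agent.Lib.FiniteMor15.Generic
-- import your own Groth.Agent.* helpers here

set_option autoImplicit false
universe u
open CategoryTheory CategoryTheory.Limits AlgebraicGeometry Topology TopologicalSpace
open AlgSp

namespace Groth.Agent.S10486

/-- (1) ⇔ (5): let f : X ⟶ Y be a dominant morphism locally of finite type between integral algebraic
spaces over a scheme S, with generic points x and y. Then the transcendence degree of x over y is 0
if and only if x is the only point of X mapping to y. -/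
theorem result {S : Scheme.{u}} {X Y : AlgSp.Space S} (hXi : AlgSp.IsIntegralSp X.obj) (hYi : AlgSp.IsIntegralSp Y.obj)
    (f : X ⟶ Y) (hft : AlgSp.LocP @LocallyOfFiniteType f.hom) (hd : AlgSp.IsDominantMor f.hom)
    (x : AlgSp.Points X.obj) (hx : IsGenericPoint x (Set.univ : Set (AlgSp.Points X.obj)))
    (y : AlgSp.Points Y.obj) (hy : IsGenericPoint y (Set.univ : Set (AlgSp.Points Y.obj))) :
    AlgSp.HasAtMor (fun _ _ h u => Dual3.resTrdeg h u = 0) f.hom x ↔ (∀ x' : AlgSp.Points X.obj, AlgSp.Points.map f.hom x' = y → x' = x) := by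
  open Groth.Agent.AlgSpRel14 in
  exact (by
    rw [← Groth.Agent.FiniteMor15.near_generic_iff hXi.2.1 hYi.2.1 f hft hd hx hy]
    obtain ⟨U, V, a, b, h, u, hae, hbe, w, rfl⟩ := exists_diagram X.property Y.property f.hom x
    have := lft_of_chart hft hae hbe w
    rw [hasAtMor_iff_of_chart (etInvOn_rd (fun c => c = 0)) hft hae hbe w, hasAtMor_near_iff LqfLft hae hbe w,
      near_lqf_iff, resTrdeg_eq_rd]
    have hmin := (Groth.Agent.AlgSpDecent.hasAt_dim_zero_iff hae u).1
      ((Groth.Agent.FiniteMor15.codimZero_iff_generic hXi.2.1 hx _).2 rfl)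
    obtain ⟨x', hsp, -, hdd, -⟩ := Groth.Agent.FibDim14.exists_fibreDimAt_eq h.left u
    obtain rfl := hmin x' hsp
    rw [hdd, Nat.cast_eq_zero, Nat.cast_eq_zero])

end Groth.Agent.S10486
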