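import Groth.Statements.S10489
import Groth.Agent.Lib.AlgSpace.LocP
import Groth.Agent.Lib.SmoothReg17.Basic
-- import your own Groth.Agent.* helpers here

set_option autoImplicit false
universe u
open CategoryTheory CategoryTheory.Limits AlgebraicGeometry Topology TopologicalSpace
open AlgSp

namespace Groth.Agent.S10489

/-- Let k be a field and X an algebraic space which is smooth over k. Then X is regular as an algebraic
space. -/
theorem result (k : Type u) [Field k] (X : AlgSp.Space (Spec (CommRingCat.of k))) (p : X.obj ⟶ (AlgSp.yon (Spec (CommRingCat.of k))).obj (Over.mk (𝟙 _))) (hp : AlgSp.LocP @Smooth p) :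
    AlgSp.EtaleLocally (fun U => IsLocallyNoetherian U ∧ ∀ u : ↥U, IsRegularLocalRing ↥(U.presheaf.stalk u)) X.obj := by
  obtain ⟨U, a, ha, has⟩ := X.property.atlas
  obtain ⟨h, hh⟩ := (AlgSp.yon _).map_surjective (a ≫ p)
  have hs : Smooth h.left := hp a (𝟙 _) h ha (AlgSp.repWith_id _ _) (by rw [Category.comp_id, hh])
  have : IsLocallyNoetherian (Over.mk (𝟙 (Spec (CommRingCat.of k)))).left :=
    inferInstanceAs (IsLocallyNoetherian (Spec (CommRingCat.of k)))
  exact ⟨U, a, ha, has, LocallyOfFiniteType.isLocallyNoetherian h.left,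
    fun u => Groth.Agent.SmoothReg17.isRegularLocalRing_stalk h.left u⟩

end Groth.Agent.S10489
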