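import Groth.Statements.S1550
import Groth.Agent.Lib.GeomRed18.Smooth

set_option autoImplicit false
universe u
open CategoryTheory CategoryTheory.Limits AlgebraicGeometry
attribute [local instance] Curv2.resAlgebra
open Variety

namespace Groth.Agent.S1550

/-- If X is smooth over a field k, then the set of closed points of X whose residue field is finite
separable over k is dense in X. -/
theorem result (k : Type u) [Field k] (X : Scheme.{u}) [X.Over (Spec (CommRingCat.of k))] [Smooth (X ↘ (Spec (CommRingCat.of k)))] :
    Dense {x : X | IsClosed ({x} : Set X) ∧ FiniteDimensional k (X.residueField x) ∧ Algebra.IsSeparable k (X.residueField x)} := by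
  rw [dense_iff_inter_open]
  rintro O hO ⟨x, hx⟩
  let U : X.Opens := ⟨O, hO⟩
  haveI : Smooth (U.ι ≫ (X ↘ (Spec (CommRingCat.of k)))) := inferInstance
  obtain ⟨y, hy, hyc⟩ := GeomRed.exists_separable_point (k := k) U hx
  exact ⟨y, hy, hyc⟩

end Groth.Agent.S1550
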