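import Groth.Statements.S10490
import Groth.Agent.S1550
import Groth.Agent.Lib.AlgSpDecent.Basic
import Groth.Agent.Lib.AlgSpace.Space
import Groth.Agent.Lib.AlgSpace.Points
-- import your own Groth.Agent.* helpers here

set_option autoImplicit false
universe u
open CategoryTheory CategoryTheory.Limits AlgebraicGeometry Topology TopologicalSpace
open AlgSp

namespace Groth.Agent.S10490

/-- Let k be a field and X an algebraic space smooth over k. Then the points of X which are images of
morphisms Spec k' ⟶ X over k with k' a finite separable extension of k form a dense subset of |X|. -/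
theorem result (k : Type u) [Field k] (X : AlgSp.Space (Spec (CommRingCat.of k))) (p : X.obj ⟶ (AlgSp.yon (Spec (CommRingCat.of k))).obj (Over.mk (𝟙 _))) (hp : AlgSp.LocP @Smooth p) :
    Dense {x : AlgSp.Points X.obj | ∃ (k' : Type u) (_ : Field k') (_ : Algebra k k'),
      Module.Finite k k' ∧ Algebra.IsSeparable k k' ∧
        ∃ v : X.obj.obj.obj (Opposite.op (Over.mk (Spec.map (CommRingCat.ofHom (algebraMap k k'))))),
          AlgSp.Points.mk ⟨k', Spec.map (CommRingCat.ofHom (algebraMap k k')), v⟩ = x} := by
  rw [dense_iff_inter_open]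
  rintro O hO ⟨x, hx⟩
  obtain ⟨U, a, hae, has⟩ := X.property.atlas
  obtain ⟨u, rfl⟩ := Groth.Agent.AlgSpace.surjective_ofPt has x
  obtain ⟨h, hh⟩ := (AlgSp.yon _).map_surjective (a ≫ p)
  have hs : Smooth h.left := hp a (𝟙 _) h hae (AlgSp.repWith_id _ _) (by rw [Category.comp_id, hh])
  have hU : h.left = U.hom := (Category.comp_id _).symm.trans (Over.w h)
  rw [hU] at hs
  letI : U.left.Over (Spec (CommRingCat.of k)) := ⟨U.hom⟩
  haveI : Smooth (U.left ↘ Spec (CommRingCat.of k)) := hs
  letI : ∀ y : U.left, Algebra k (U.left.residueField y) := fun y => Curv2.resAlgebra k U.left y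
  obtain ⟨y, hy, -, hfin, hsep⟩ := (Groth.Agent.S1550.result k U.left).inter_open_nonempty _
    (hO.preimage (AlgSp.Points.continuous_ofPt a)) ⟨u, hx⟩
  refine ⟨AlgSp.Points.ofPt a y, hy, U.left.residueField y, inferInstance, inferInstance, hfin, hsep, ?_⟩
  have hstr : Spec.map (CommRingCat.ofHom (algebraMap k (U.left.residueField y))) =
      U.left.fromSpecResidueField y ≫ U.hom := Groth.Agent.GeomIrr.spec_resMap k U.left y
  rw [hstr]
  exact ⟨_, rfl⟩

end Groth.Agent.S10490
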