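import Groth.Statements.S10491
import Groth.Agent.Lib.AlgSpDecent.NoethComp
-- import your own Groth.Agent.* helpers here

set_option autoImplicit false
universe u
open CategoryTheory CategoryTheory.Limits AlgebraicGeometry Topology TopologicalSpace
open AlgSp

namespace Groth.Agent.S10491

/-- Let X be an algebraic space over a scheme S which is locally Noetherian, and T ⊂ |X| a closed
subset. Then every point of |X| has a neighbourhood meeting only finitely many irreducible
components of T. -/
theorem result {S : Scheme.{u}} (X : AlgSp.Space S)
    (hX : AlgSp.IsLocNoethSp X.obj) (T : Set (AlgSp.Points X.obj)) (hT : IsClosed T) :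
    LocallyFinite (fun Z : ↥(irreducibleComponents ↥T) => ((↑) : ↥T → AlgSp.Points X.obj) '' (Z : Set ↥T)) := by
  exact Groth.Agent.AlgSpDecent.locallyFinite_components_closed X.property hX hT


end Groth.Agent.S10491
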