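import Groth.Statements.S10493
import Groth.Agent.Lib.EnoughAff14.Main

set_option autoImplicit false
universe u
open CategoryTheory CategoryTheory.Limits AlgebraicGeometry Topology TopologicalSpace
open AlgSp

namespace Groth.Agent.S10493

/-- Let k be a field with algebraic closure k̄ and X an algebraic space over k which is decent and
locally of finite type over k, such that X_{k̄} is a scheme in which every finite set of k̄-rational
points is contained in an affine open. Then X is a scheme. -/
theorem result (k : Type u) [Field k] (X : AlgSp.Space (Spec (CommRingCat.of k)))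
    (hdec : AlgSp.IsDecent X.obj) (p : X.obj ⟶ (AlgSp.yon (Spec (CommRingCat.of k))).obj (Over.mk (𝟙 _))) (hp : AlgSp.LocP @LocallyOfFiniteType p)
    (kbar : Type u) [Field kbar] [Algebra k kbar] [IsAlgClosure k kbar]
    (T : Over (Spec (CommRingCat.of k))) (e : (AlgSp.yon (Spec (CommRingCat.of k))).obj T ≅ (X.obj ⨯ (AlgSp.yon (Spec (CommRingCat.of k))).obj (Over.mk (Spec.map (CommRingCat.ofHom (algebraMap k kbar))))))
    (q : T ⟶ Over.mk (Spec.map (CommRingCat.ofHom (algebraMap k kbar))))
    (hq : (AlgSp.yon (Spec (CommRingCat.of k))).map q = e.hom ≫ Limits.prod.snd)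
    (h3 : ∀ s : Finset ↥T.left,
      (∀ t ∈ s, ∃ σ : Spec (CommRingCat.of kbar) ⟶ T.left, σ ≫ q.left = 𝟙 _ ∧ σ (IsLocalRing.closedPoint kbar) = t) →
        ∃ W : T.left.Opens, IsAffineOpen W ∧ ∀ t ∈ s, t ∈ W) :
    X.obj.obj.IsRepresentable := by
  exact Groth.Agent.EnoughAff14.isRepresentable_of_enough X hdec p hp kbar T e q hq h3

end Groth.Agent.S10493
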