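import Groth.Statements.S10496
import Groth.Agent.Lib.AlgSpDecent.MorApps
import Groth.Agent.Lib.AlgSpDecent.RedInduced
import Groth.Agent.Lib.AlgSpace.Sub
-- import your own Groth.Agent.* helpers here

set_option autoImplicit false
universe u
open CategoryTheory CategoryTheory.Limits AlgebraicGeometry Topology TopologicalSpace
open AlgSp

namespace Groth.Agent.S10496

/-- Let X be a decent algebraic space over a scheme S. For every irreducible closed subset T of |X|
there is an integral closed subspace Z of X with |Z| = T. -/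
theorem result {S : Scheme.{u}} (X : AlgSp.Space S)
    (hX : AlgSp.IsDecent X.obj) (T : Set (AlgSp.Points X.obj)) (hT : IsClosed T) (hTi : IsIrreducible T) :
    ∃ (Z : AlgSp.Space S) (i : Z ⟶ X), AlgSp.RepWith @IsClosedImmersion i.hom ∧ AlgSp.IsIntegralSp Z.obj ∧
      Set.range (AlgSp.Points.map i.hom) = T := by
  obtain ⟨Z, i, hci, hr, hred⟩ := Groth.Agent.AlgSpDecent.RedInduced.exists_isRedInduced X T hT
  refine ⟨Z, i, hci, ⟨hred, Groth.Agent.AlgSpDecent.isDecent_source
    (Groth.Agent.AlgSpDecent.isDecentMor_of_representable hci.1) hX, ?_⟩, hr⟩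
  have himm : AlgSp.RepWith @IsImmersion i.hom :=
    ⟨hci.1, fun _ _ t a b sq => show IsImmersion b.left from
      have : IsClosedImmersion b.left := hci.2 t a b sq; inferInstance⟩
  have he := (Groth.Agent.AlgSpace.isEmbedding_map_of_immersion X.property himm).1
  rw [← hr] at hTi
  obtain ⟨x, z, rfl⟩ := hTi.1
  have hpre : PreirreducibleSpace (AlgSp.Points Z.obj) := ⟨fun u v hu hv ⟨a, _, ha⟩ ⟨b, _, hb⟩ => by
    obtain ⟨u', hu', rfl⟩ := he.isOpen_iff.1 hu
    obtain ⟨v', hv', rfl⟩ := he.isOpen_iff.1 hv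
    obtain ⟨_, ⟨c, rfl⟩, h1, h2⟩ := hTi.2 u' v' hu' hv' ⟨_, ⟨a, rfl⟩, ha⟩ ⟨_, ⟨b, rfl⟩, hb⟩
    exact ⟨c, trivial, h1, h2⟩⟩
  exact { toPreirreducibleSpace := hpre, toNonempty := ⟨z⟩ }

end Groth.Agent.S10496
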