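import Groth.Statements.S10497
import Groth.Agent.Lib.GeomRed15.ConnFin
import Groth.Agent.S10383
-- import your own Groth.Agent.* helpers here

set_option autoImplicit false
universe u
open CategoryTheory CategoryTheory.Limits AlgebraicGeometry Topology TopologicalSpace
open AlgSp

namespace Groth.Agent.S10497

/-- Let k be a field and X a decent algebraic space over k. Then all base changes X_K to field
extensions K of k are integral exactly when X is geometrically reduced over k and every |X_K| is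
irreducible. -/
theorem result (k : Type u) [Field k] (X : AlgSp.Space (Spec (CommRingCat.of k))) (hX : AlgSp.IsDecent X.obj) :
    (∀ (K : Type u) [Field K] [Algebra k K], AlgSp.IsIntegralSp (X.obj ⨯ (AlgSp.yon (Spec (CommRingCat.of k))).obj (Over.mk (Spec.map (CommRingCat.ofHom (algebraMap k K)))))) ↔
      (∀ x : AlgSp.Points X.obj, (∃ (U : Over (Spec (CommRingCat.of k))) (a : (AlgSp.yon (Spec (CommRingCat.of k))).obj U ⟶ X.obj) (u : ↥U.left),
      AlgSp.RepWith @Etale a ∧ AlgSp.Points.ofPt a u = x ∧ FBase.IsGeomReducedAt U.hom u)) ∧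
        ∀ (K : Type u) [Field K] [Algebra k K], IrreducibleSpace (AlgSp.Points (X.obj ⨯ (AlgSp.yon (Spec (CommRingCat.of k))).obj (Over.mk (Spec.map (CommRingCat.ofHom (algebraMap k K)))))) := by
  constructor
  · intro h
    refine ⟨fun x => ?_, fun K _ _ => (h K).2.2⟩
    obtain ⟨U, a, hae, has⟩ := X.property.atlas
    obtain ⟨u, hu⟩ := Groth.Agent.AlgSpace.surjective_ofPt has x
    exact ⟨U, a, u, hae, hu, Groth.Agent.GeomRed15.forall_of_perfect (AlgebraicClosure k)
      (h (AlgebraicClosure k)).1 hae u⟩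
  · rintro ⟨hred, hirr⟩ K _ _
    refine ⟨Groth.Agent.GeomRed15.etaleLocally_bc_of_forall K X.property
      (fun U a hae _ u => Groth.Agent.GeomRed15.of_exists hae rfl (hred _)), ?_, hirr K⟩
    obtain ⟨z, φ, sq, -⟩ := Groth.Agent.GeomRed15.exists_isPullback_fst (F := X.obj) K
    let B : AlgSp.Space (Spec (CommRingCat.of k)) := ⟨_, AlgSp.IsAlgSpace.yon_obj (Over.mk (𝟙 _))⟩
    let T : AlgSp.Space (Spec (CommRingCat.of k)) := ⟨_, AlgSp.IsAlgSpace.yon_obj (Groth.Agent.GeomRed15.TK k K)⟩
    let P : AlgSp.Space (Spec (CommRingCat.of k)) := ⟨_, Groth.Agent.GeomRed15.isAlgSpace_bcSp X.property K⟩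
    exact Groth.Agent.S10383.result (X := X) (Y := B) (Z := T) (P := P) ⟨z⟩
      ⟨(AlgSp.yon (Spec (CommRingCat.of k))).map φ⟩ ⟨Limits.prod.fst⟩ ⟨Limits.prod.snd⟩ sq hX
      (Groth.Agent.AlgSpDecent.isDecent_yon _)

end Groth.Agent.S10497
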