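import Groth.Statements.S10498
import Groth.Agent.Lib.HsRed6.Basic

set_option autoImplicit false
universe u
open TensorProduct
open Hensel

namespace Groth.Agent.S10498

/-- (1) ⇔ (2): let k be a field, A a local k-algebra and R a strict henselization of A. Then A is
geometrically reduced over k (K ⊗_k A reduced for every field extension K of k) if and only if R is
geometrically reduced over k. -/
theorem result (k : Type u) [Field k]
    (A : Type u) [CommRing A] [IsLocalRing A] [Algebra k A]
    (R : Type u) [CommRing R] [IsLocalRing R] [Algebra A R] [IsLocalHom (algebraMap A R)]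
    [Hensel.IsStrictHenselization A R] [Algebra k R] [IsScalarTower k A R] :
    (∀ (K : Type u) [Field K] [Algebra k K], IsReduced (TensorProduct k K A)) ↔
      ∀ (K : Type u) [Field K] [Algebra k K], IsReduced (TensorProduct k K R) := by
  obtain ⟨e⟩ := Hens.exists_strictHenselization_equiv A R
  refine ⟨fun h K _ _ => ?_, fun h K _ _ => ?_⟩
  · haveI : IsReduced (A ⊗[k] K) :=
      haveI := h K
      isReduced_of_injective (Algebra.TensorProduct.comm k A K).toRingHom
        (Algebra.TensorProduct.comm k A K).injective
    haveI := HsRed6.isReduced_tensor_hs (A := A) (κ := SeparableClosure (IsLocalRing.ResidueField A)) (A ⊗[k] K)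
    let g : K ⊗[k] R →+* (A ⊗[k] K) ⊗[A] Hens.Hsh A :=
      ((Algebra.TensorProduct.comm A _ _).toRingHom.comp
        ((Algebra.TensorProduct.map e.symm.toAlgHom (AlgHom.id A (A ⊗[k] K))).toRingHom.comp
          ((Algebra.TensorProduct.cancelBaseChange k A A R K).symm.toRingHom.comp
            (Algebra.TensorProduct.comm k K R).toRingHom)))
    exact isReduced_of_injective g ((Algebra.TensorProduct.comm A _ _).injective.comp
      ((Algebra.TensorProduct.congr e.symm AlgEquiv.refl).injective.comp
        ((Algebra.TensorProduct.cancelBaseChange k A A R K).symm.injective.comp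
          (Algebra.TensorProduct.comm k K R).injective)))
  · haveI := Hens.strictHenselization_faithfullyFlat A R
    haveI := h K
    refine isReduced_of_injective (Algebra.TensorProduct.map (AlgHom.id k K) (IsScalarTower.toAlgHom k A R)) ?_
    exact Module.Flat.lTensor_preserves_injective_linearMap (IsScalarTower.toAlgHom k A R).toLinearMap
      (FaithfulSMul.algebraMap_injective A R)

end Groth.Agent.S10498
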