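import Groth.Statements.S1050
import Groth.Agent.Lib.SubRes8.Dual
import Groth.Agent.Lib.Roofs8.Basic
import Mathlib.Algebra.Homology.DerivedCategory.ExactFunctor
import Mathlib.Algebra.Homology.DerivedCategory.TStructure
import Mathlib.CategoryTheory.Abelian.SerreClass.Basic

set_option autoImplicit false
universe w w' v u
open CategoryTheory CategoryTheory.Limits
open CohDer

namespace Groth.Agent.S1050

open CategoryTheory CategoryTheory.Limits


/-- Let P be a Serre class in an abelian category A (so that the full subcategory on P is abelian; its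
closure under kernels, cokernels, finite products and the exactness of the inclusion are carried as
instance hypotheses) such that for every epimorphism X ⟶ Y with P Y there is a subobject X' of X
with P X' mapping onto Y. Then the induced functor D(P) ⥤ D(A) is fully faithful on bounded above
objects, and every bounded above object of D(A) all of whose cohomology objects satisfy P is in its
essential image from a bounded above object; that is, D⁻(P) ≃ D⁻_P(A). -/
theorem result {A : Type u} [Category.{v} A] [Abelian A] [HasDerivedCategory.{w} A]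
    (P : ObjectProperty A) [P.IsSerreClass] [P.IsClosedUnderKernels] [P.IsClosedUnderCokernels]
    [P.IsClosedUnderFiniteProducts] [HasDerivedCategory.{w'} P.FullSubcategory]
    [PreservesFiniteLimits P.ι] [PreservesFiniteColimits P.ι]
    (hlift : ∀ (X Y : A) (π : X ⟶ Y), Epi π → P Y → ∃ (X' : A) (i : X' ⟶ X), Mono i ∧ P X' ∧ Epi (i ≫ π)) :
    (∀ (M N : DerivedCategory P.FullSubcategory) (b : ℤ), M.IsLE b → N.IsLE b →
      Function.Bijective (fun φ : M ⟶ N => P.ι.mapDerivedCategory.map φ)) ∧
    ∀ (K : DerivedCategory A) (b : ℤ), K.IsLE b → (∀ n : ℤ, P ((DerivedCategory.homologyFunctor A n).obj K)) →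
      ∃ M : DerivedCategory P.FullSubcategory, M.IsLE b ∧ Nonempty (P.ι.mapDerivedCategory.obj M ≅ K) := by
  haveI : P.IsClosedUnderIsomorphisms := inferInstance
  let ι := P.ι
  let F := ι.mapHomologicalComplex (ComplexShape.up ℤ)
  let Q' : CochainComplex P.FullSubcategory ℤ ⥤ _ := DerivedCategory.Q
  let T := ι.mapDerivedCategory
  have hres : ∀ (C : CochainComplex A ℤ) (b : ℤ), C.IsLE b → (∀ i, P (C.homology i)) →
      ∃ (R : CochainComplex P.FullSubcategory ℤ) (α : F.obj R ⟶ C), R.IsStrictlyLE b ∧ _root_.QuasiIso α := by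
    intro C b hC hH
    haveI := hC
    obtain ⟨Z, hZ⟩ := HasZeroObject.zero (C := P.FullSubcategory)
    obtain ⟨L, α, hLE, hL, hα⟩ := Groth.Agent.SubRes8.exists_leftResolution (P := P) (J := P)
      (fun X Y e hX => P.prop_of_iso e hX) (fun X Y f hX hY => P.prop_kernel f hX hY)
      (fun S hS h1 h3 => P.prop_X₂_of_shortExact hS h1 h3) (fun X hX => hX)
      (fun X Y π hπ hY => by
        obtain ⟨X', i, _, hX', hi⟩ := hlift X Y π hπ hY
        exact ⟨X', i, hX', hi⟩)
      ⟨ι.obj Z, ι.map_isZero hZ, Z.property⟩ C b hH
    obtain ⟨R, -, ⟨e⟩⟩ := Groth.Agent.SubRes8.exists_lift_complex ι L (fun _ => True)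
      (fun n => ⟨⟨L.X n, hL n⟩, trivial, ⟨Iso.refl _⟩⟩)
    haveI := hLE
    haveI : CochainComplex.IsStrictlyLE (F.obj R) b := CochainComplex.isStrictlyLE_of_iso e.symm b
    haveI := hα
    exact ⟨R, e.hom ≫ α, Groth.Agent.SubRes8.isStrictlyLE_of_map ι R b, inferInstance⟩
  have hH : ∀ (C : CochainComplex P.FullSubcategory ℤ) (i : ℤ), P ((F.obj C).homology i) := fun C i =>
    P.prop_of_iso (((C.sc i).mapHomologyIso ι)).symm (((C.sc i).homology).property)
  have hqis : ∀ {C D : CochainComplex P.FullSubcategory ℤ} (f : C ⟶ D),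
      _root_.QuasiIso (F.map f) → _root_.QuasiIso f := fun f hf => by
    haveI := hf
    exact (HomologicalComplex.quasiIso_map_iff_of_preservesHomology f ι).mp hf
  have hQ : ∀ {C D : CochainComplex A ℤ} (f : C ⟶ D), _root_.QuasiIso f → IsIso (DerivedCategory.Q.map f) :=
    fun f hf => (DerivedCategory.isIso_Q_map_iff_quasiIso (φ := f)).mpr hf
  constructor
  · intro M N b hM hN
    haveI := hM
    haveI := hN
    obtain ⟨CM, hCM, ⟨eM⟩⟩ := DerivedCategory.exists_iso_Q_obj_of_isLE M b
    obtain ⟨CN, hCN, ⟨eN⟩⟩ := DerivedCategory.exists_iso_Q_obj_of_isLE N b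
    haveI := hCM
    haveI := hCN
    let e := ι.mapDerivedCategoryFactors
    have key : Function.Bijective (fun φ : DerivedCategory.Q.obj CM ⟶ DerivedCategory.Q.obj CN =>
        e.inv.app CM ≫ T.map φ ≫ e.hom.app CN) := by
      have hnat : ∀ {C D : CochainComplex P.FullSubcategory ℤ} (f : C ⟶ D),
          e.inv.app C ≫ T.map (DerivedCategory.Q.map f) ≫ e.hom.app D = DerivedCategory.Q.map (F.map f) := by
        intro C D f
        erw [e.hom.naturality f]
        exact e.inv_hom_id_app_assoc C _
      constructor
      · intro φ₁ φ₂ h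
        rw [← sub_eq_zero]
        have h0 : e.inv.app CM ≫ T.map (φ₁ - φ₂) ≫ e.hom.app CN = 0 := by
          rw [Functor.map_sub, Preadditive.sub_comp, Preadditive.comp_sub, sub_eq_zero]; exact h
        obtain ⟨R, hR, s, hs, g, hg⟩ := DerivedCategory.right_fac_of_isStrictlyLE (φ₁ - φ₂) b
        haveI := hR
        rw [hg] at h0 ⊢
        haveI := hs
        suffices hg0 : DerivedCategory.Q.map g = 0 by rw [hg0, comp_zero]
        have h1 : DerivedCategory.Q.map (F.map g) = 0 := by
          rw [← hnat g]
          rw [Functor.map_comp, Functor.map_inv, Category.assoc] at h0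
          have h3 := (cancel_epi (e.inv.app CM)).1 (h0.trans comp_zero.symm)
          have h2 := (IsIso.inv_comp_eq _).1 h3
          rw [h2]; simp
        haveI : CochainComplex.IsStrictlyLE (F.obj R) b := by
          rw [CochainComplex.isStrictlyLE_iff]
          exact fun i hi => ι.map_isZero (R.isZero_of_isStrictlyLE b i hi)
        obtain ⟨X', hX', t, ht, et⟩ := Groth.Agent.Roofs8.exists_precomp b (F.map g) 0 (by
          show DerivedCategory.Q.map (F.map g) = DerivedCategory.Q.map (0 : F.obj R ⟶ F.obj CN)
          rw [h1, Functor.map_zero])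
        haveI := hX'
        haveI := ht
        obtain ⟨R', α, hR', hα⟩ := hres X' b inferInstance
          (fun i => P.prop_of_iso (asIso (HomologicalComplex.homologyMap t i)).symm (hH R i))
        haveI := hα
        obtain ⟨u, hu⟩ := F.map_surjective (α ≫ t)
        haveI : _root_.QuasiIso u := hqis u (by rw [hu]; infer_instance)
        have hz : (HomotopyCategory.quotient _ _).map (u ≫ g) = 0 := by
          apply (ι.mapHomotopyCategory (ComplexShape.up ℤ)).map_injective
          rw [Functor.map_zero]
          show (HomotopyCategory.quotient _ _).map (F.map (u ≫ g)) = 0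
          rw [F.map_comp, hu, Functor.map_comp, Functor.map_comp, Category.assoc, et, Functor.map_zero,
            comp_zero, comp_zero]
        have hQu : IsIso (DerivedCategory.Q.map u) :=
          (DerivedCategory.isIso_Q_map_iff_quasiIso (φ := u)).mpr inferInstance
        haveI := hQu
        rw [← cancel_epi (DerivedCategory.Q.map u), comp_zero, ← Functor.map_comp]
        exact (congrArg DerivedCategory.Qh.map hz).trans (Functor.map_zero _ _ _)
      · intro φ
        haveI : CochainComplex.IsStrictlyLE (F.obj CM) b := by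
          rw [CochainComplex.isStrictlyLE_iff]
          exact fun i hi => ι.map_isZero (CM.isZero_of_isStrictlyLE b i hi)
        obtain ⟨X', hX', s, hs, g, hg⟩ := DerivedCategory.right_fac_of_isStrictlyLE φ b
        haveI := hX'
        haveI : _root_.QuasiIso s := (DerivedCategory.isIso_Q_map_iff_quasiIso (φ := s)).mp hs
        obtain ⟨R, α, hR, hα⟩ := hres X' b inferInstance
          (fun i => P.prop_of_iso (asIso (HomologicalComplex.homologyMap s i)).symm (hH CM i))
        haveI := hα
        obtain ⟨u, hu⟩ := F.map_surjective (α ≫ s)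
        obtain ⟨v, hv⟩ := F.map_surjective (α ≫ g)
        haveI hQu : IsIso (DerivedCategory.Q.map u) :=
          (DerivedCategory.isIso_Q_map_iff_quasiIso (φ := u)).mpr (hqis u (by rw [hu]; infer_instance))
        refine ⟨inv (DerivedCategory.Q.map u) ≫ DerivedCategory.Q.map v, ?_⟩
        show e.inv.app CM ≫ T.map (inv (DerivedCategory.Q.map u) ≫ DerivedCategory.Q.map v) ≫ e.hom.app CN = φ
        haveI := hs
        haveI := hQ α inferInstance
        rw [hg, ← cancel_epi (DerivedCategory.Q.map s), IsIso.hom_inv_id_assoc,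
          ← cancel_epi (DerivedCategory.Q.map α), ← Category.assoc, ← Functor.map_comp,
          ← Functor.map_comp, ← hu, ← hv, ← hnat u, ← hnat v]
        simp
    have hfin : Function.Bijective (fun φ : DerivedCategory.Q.obj CM ⟶ DerivedCategory.Q.obj CN => T.map φ) := by
      have := ((e.app CM).homCongr (e.app CN)).symm.bijective.comp key
      change Function.Bijective (fun φ : DerivedCategory.Q.obj CM ⟶ DerivedCategory.Q.obj CN => T.map φ)
      refine (funext fun φ => ?_ : _ = (fun φ : DerivedCategory.Q.obj CM ⟶ DerivedCategory.Q.obj CN => T.map φ)) ▸ this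
      show e.hom.app CM ≫ (e.inv.app CM ≫ T.map φ ≫ e.hom.app CN) ≫ e.inv.app CN = T.map φ
      simp only [Category.assoc, Iso.hom_inv_id_app_assoc]
      erw [Iso.hom_inv_id_app]
      exact Category.comp_id _
    have hcomp := (((T.mapIso eM).homCongr (T.mapIso eN)).symm.bijective.comp
      (hfin.comp (eM.homCongr eN).bijective))
    convert hcomp using 1
    funext φ
    simp [Iso.homCongr, T, ι]
  · intro K b hK hKP
    haveI := hK
    obtain ⟨C, hC, ⟨eC⟩⟩ := DerivedCategory.exists_iso_Q_obj_of_isLE K b
    haveI := hC
    obtain ⟨R, α, hR, hα⟩ := hres C b inferInstance (fun i => P.prop_of_iso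
      (((DerivedCategory.homologyFunctor A i).mapIso eC) ≪≫ (DerivedCategory.homologyFunctorFactors A i).app C) (hKP i))
    haveI := hR
    exact ⟨DerivedCategory.Q.obj R, inferInstance, ⟨ι.mapDerivedCategoryFactors.app R ≪≫
      @asIso _ _ _ _ (DerivedCategory.Q.map α) (hQ α hα) ≪≫ eC.symm⟩⟩


end Groth.Agent.S1050
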