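import Groth.Statements.S10500
import Groth.Agent.Lib.FiniteMor15.Generic
-- import your own Groth.Agent.* helpers here

set_option autoImplicit false
universe u
open CategoryTheory CategoryTheory.Limits AlgebraicGeometry Topology TopologicalSpace
open AlgSp

namespace Groth.Agent.S10500

/-- Let X and Y be integral algebraic spaces over a scheme S with generic points x and y, and f : X ⟶ Y
a morphism which is proper and dominant. Then f is an alteration (finite over some nonempty open
subspace of Y) if and only if x is the only point of X mapping to y. -/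
theorem result {S : Scheme.{u}} {X Y : AlgSp.Space S}
    (hXi : AlgSp.IsIntegralSp X.obj) (hYi : AlgSp.IsIntegralSp Y.obj) (f : X ⟶ Y) (hp : AlgSp.IsProperMor f.hom)
    (hd : AlgSp.IsDominantMor f.hom)
    (x : AlgSp.Points X.obj) (hx : IsGenericPoint x (Set.univ : Set (AlgSp.Points X.obj)))
    (y : AlgSp.Points Y.obj) (hy : IsGenericPoint y (Set.univ : Set (AlgSp.Points Y.obj))) :
    (∃ (V : AlgSp.Space S) (j : V ⟶ Y), AlgSp.RepWith @IsOpenImmersion j.hom ∧ Nonempty (AlgSp.Points V.obj) ∧
      ∀ (P : AlgSp.Space S) (fst : P ⟶ V) (snd : P ⟶ X), IsPullback fst.hom snd.hom j.hom f.hom →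
        AlgSp.IsFiniteMor fst.hom) ↔ (∀ x' : AlgSp.Points X.obj, AlgSp.Points.map f.hom x' = y → x' = x) := by
  have hp' : AlgSp.IsProperMor f.hom := hp
  constructor
  · rintro ⟨V, j, hj, ⟨v⟩, hV⟩
    have sq := IsPullback.of_hasPullback f.hom j.hom
    let P : AlgSp.Space S := ⟨_, Groth.Agent.AlgSpace.isAlgSpace_baseChange X.property Y.property V.property sq⟩
    let g : P ⟶ V := ObjectProperty.homMk (pullback.snd f.hom j.hom)
    let c : P ⟶ X := ObjectProperty.homMk (pullback.fst f.hom j.hom)
    have hfin : AlgSp.IsFiniteMor g.hom := hV P g c sq.flip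
    have hyV : y ∈ Set.range (AlgSp.Points.map j.hom) :=
      (hy.specializes (trivial : AlgSp.Points.map j.hom v ∈ Set.univ)).mem_open
        (Groth.Agent.AlgSpace.isOpen_range_map_of_openImmersion hj) ⟨v, rfl⟩
    obtain ⟨v', hv'⟩ := hyV
    have hxy := Groth.Agent.FiniteMor15.map_generic hYi.2.1 f hd hx hy
    obtain ⟨p, hpe, -⟩ := Groth.Agent.AlgSpDecent.exists_point_lift sq x v' (hxy.trans hv'.symm)
    refine (Groth.Agent.FiniteMor15.near_generic_iff hXi.2.1 hYi.2.1 f hp'.2.1.1 hd hx hy).1 ?_
    rw [← hpe, Groth.Agent.AlgSpRel14.hasAtMor_near_lqf_baseChange X.property Y.property V.property hp'.2.1.1 sq p]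
    exact (Groth.Agent.AlgSpRel14.locP_iff_forall_hasAtMor_near _ P.property V.property g.hom).1
      (Groth.Agent.FiniteMor15.locP_lqf_of_isFiniteMor V.property hfin) p
  · intro h
    obtain ⟨V, j, hj, ⟨v, -⟩, hV⟩ := Groth.Agent.FiniteMor15.exists_finite_nhd f y hp'
      fun x' hx' => by
        rw [h x' hx']
        exact (Groth.Agent.FiniteMor15.near_generic_iff hXi.2.1 hYi.2.1 f hp'.2.1.1 hd hx hy).2 h
    exact ⟨V, j, hj, ⟨v⟩, fun P fst snd sq => hV P snd fst sq.flip⟩

end Groth.Agent.S10500
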