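import Groth.Statements.S10505
import Groth.Agent.Lib.AlgSpDescent.Covers

set_option autoImplicit false
universe u
open CategoryTheory CategoryTheory.Limits AlgebraicGeometry
open AlgSp

namespace Groth.Agent.S10505

/-- An fppf covering of an algebraic space `X` over `S` by algebraic spaces (each member flat and
locally of finite presentation etale locally on source and target, the family jointly surjective on
points) is an fpqc covering of `X` (each member flat, and every morphism from an affine scheme to
`X` admits a standard fpqc covering of the affine scheme whose members lift through members of the
family). -/
theorem result {S : Scheme.{u}} (X : AlgSp.Space S) {ι : Type u}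
    (Xi : ι → AlgSp.Space S) (g : ∀ i, Xi i ⟶ X)
    (h : AlgSp.IsFppfCover (fun i => (Xi i).obj) (fun i => (g i).hom)) :
    AlgSp.IsFpqcCover (fun i => (Xi i).obj) (fun i => (g i).hom) := by
  exact Groth.Agent.AlgSpDescent.isFpqcCover_of_isFppfCover X.property (fun i => (Xi i).property) h

end Groth.Agent.S10505
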