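import Groth.Statements.S10506
import Groth.Agent.Lib.AlgSpDescent.FpqcCalc

set_option autoImplicit false
universe u
open CategoryTheory CategoryTheory.Limits AlgebraicGeometry
open AlgSp

namespace Groth.Agent.S10506

/-- The base change of an fpqc covering of an algebraic space `X` by algebraic spaces along a morphism
of algebraic spaces `X' ⟶ X` is an fpqc covering of `X'`; the base changes `X' ×_X X_i ⟶ X'` are
given as pullback squares of sheaves whose corners `X'_i` are algebraic spaces. -/
theorem result {S : Scheme.{u}} {X X' : AlgSp.Space S} (a : X' ⟶ X) {ι : Type u}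
    (Xi : ι → AlgSp.Space S) (g : ∀ i, Xi i ⟶ X) (Xi' : ι → AlgSp.Space S) (q : ∀ i, Xi' i ⟶ X')
    (p : ∀ i, Xi' i ⟶ Xi i) (sq : ∀ i, IsPullback (q i).hom (p i).hom a.hom (g i).hom)
    (h : AlgSp.IsFpqcCover (fun i => (Xi i).obj) (fun i => (g i).hom)) :
    AlgSp.IsFpqcCover (fun i => (Xi' i).obj) (fun i => (q i).hom) := by
  exact Groth.Agent.AlgSpDescent.isFpqcCover_of_isPullback X.property X'.property a.hom
    (fun i => (Xi i).property) sq h

end Groth.Agent.S10506
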