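import Groth.Statements.S10509
import Groth.Agent.Lib.SmoothSection.Scheme
import Groth.Agent.Lib.AlgSpace.Space
import Groth.Agent.Lib.AlgSpace.Points
import Groth.Agent.Lib.AlgSpDescent.Instances
-- import your own Groth.Agent.* helpers here

set_option autoImplicit false
universe u
open CategoryTheory CategoryTheory.Limits AlgebraicGeometry
open AlgSp

namespace Groth.Agent.S10509

/-- A smooth covering of an algebraic space `X` over `S` by algebraic spaces can be refined by an etale
covering of `X` by algebraic spaces: there is an etale covering `{U_j ⟶ X}` each member of which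
factors through some member of the given smooth covering. -/
theorem result {S : Scheme.{u}} (X : AlgSp.Space S) {ι : Type u}
    (Xi : ι → AlgSp.Space S) (g : ∀ i, Xi i ⟶ X)
    (h : AlgSp.IsSmCover (fun i => (Xi i).obj) (fun i => (g i).hom)) :
    ∃ (κ : Type u) (U : κ → AlgSp.Space S) (c : ∀ j, U j ⟶ X),
      AlgSp.IsEtCover (fun j => (U j).obj) (fun j => (c j).hom) ∧
      ∀ j, ∃ (i : ι) (r : U j ⟶ Xi i), r ≫ g i = c j := by
  obtain ⟨hsm, hcov⟩ := h
  obtain ⟨V, p, hpe, hps⟩ := X.property.atlas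
  have key : ∀ v : ↥V.left, ∃ (T : Over S) (t : T ⟶ V), Etale t.left ∧ v ∈ Set.range t.left ∧
      ∃ (i : ι) (r : (AlgSp.yon S).obj T ⟶ (Xi i).obj), r ≫ (g i).hom = (AlgSp.yon S).map t ≫ p := by
    intro v
    obtain ⟨i, y, hy⟩ := hcov (AlgSp.Points.ofPt p v)
    have sq := IsPullback.of_hasPullback (g i).hom p
    obtain ⟨U, r, hre, hrs⟩ := (AlgSpace.isAlgSpace_pullback X.property (Xi i).property
      (AlgSp.IsAlgSpace.yon_obj V) sq).atlas
    obtain ⟨h, hh⟩ := (AlgSp.yon S).map_surjective (r ≫ pullback.snd (g i).hom p)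
    have : Smooth h.left := hsm i (r ≫ pullback.fst _ _) p h
      (AlgSpace.repWith_comp hre (AlgSpace.repWith_of_isPullback sq.flip hpe)) hpe
      (by rw [hh, Category.assoc, Category.assoc, sq.w])
    obtain ⟨q, -, hq⟩ := AlgSpDecent.exists_point_lift sq y (AlgSp.Points.ofScheme V v)
      (by rw [← AlgSp.Points.ofPt_eq_map_ofScheme]; exact hy)
    obtain ⟨w, rfl⟩ := AlgSpace.surjective_ofPt hrs q
    rw [AlgSp.Points.map_ofPt, ← hh, AlgSpDecent.ofPt_map_eq] at hq
    have hv : h.left w = v := (AlgSp.Points.schemeEquiv V).injective hq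
    obtain ⟨S', t, s', ht, hs', l, hl⟩ := SmoothSection.exists_etale_section h.left w
    let T : Over S := Over.mk (t ≫ V.hom)
    let t' : T ⟶ V := Over.homMk t rfl
    let l' : T ⟶ U := Over.homMk l (by
      show l ≫ U.hom = t ≫ V.hom
      rw [← Over.w h, reassoc_of% hl])
    have hlt : l' ≫ h = t' := Over.OverMorphism.ext hl
    refine ⟨T, t', ht, ⟨s', hs'.trans hv⟩, i,
      (AlgSp.yon S).map l' ≫ r ≫ pullback.fst _ _, ?_⟩
    simp only [Category.assoc, sq.w]
    rw [← Category.assoc r, ← hh, ← Functor.map_comp_assoc, hlt]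
  choose T t ht hv i r hr using key
  refine ⟨↥V.left, fun v => ⟨(AlgSp.yon S).obj (T v), AlgSp.IsAlgSpace.yon_obj _⟩,
    fun v => InducedCategory.homMk ((AlgSp.yon S).map (t v) ≫ p), ⟨fun v => ?_, fun x => ?_⟩,
    fun v => ⟨i v, InducedCategory.homMk (r v), InducedCategory.hom_ext (hr v)⟩⟩
  · intro W φ hφ
    exact AlgSpace.repWith_comp hφ (AlgSpace.repWith_comp ((AlgSp.repWith_yon_map_iff _ _).2 (ht v)) hpe)
  · obtain ⟨v, rfl⟩ := AlgSpace.surjective_ofPt hps x
    obtain ⟨s, hs⟩ := hv v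
    refine ⟨v, AlgSp.Points.ofScheme (T v) s, ?_⟩
    refine (AlgSp.Points.ofPt_eq_map_ofScheme ((AlgSp.yon S).map (t v) ≫ p) s).symm.trans ?_
    rw [AlgSpDecent.ofPt_map_comp, hs]


end Groth.Agent.S10509
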