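import Groth.Statements.S1051
import Groth.Agent.Lib.Postnikov.System

set_option autoImplicit false
universe v u
open CategoryTheory
open CohDer

namespace Groth.Agent.S1051


open CategoryTheory.Pretriangulated in
/-- Let X be a chain complex in a triangulated category D and n a natural number; consider the finite
complex Xₙ → Xₙ₋₁ → … → X₀. If every morphism Xᵢ[i - j - 2] ⟶ Xⱼ with j + 2 < i ≤ n vanishes, then
there is a Postnikov system for it: objects Yₖ (k ≤ n), an isomorphism Y₀ ⟶ X₀, and for each k < n a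
distinguished triangle Yₖ₊₁ ⟶ Xₖ₊₁ ⟶ Yₖ ⟶ Yₖ₊₁[1] such that Xₖ₊₁ ⟶ Yₖ ⟶ Xₖ is the differential of X. -/
theorem result {D : Type u} [Category.{v} D] [Preadditive D] [Limits.HasZeroObject D] [HasShift D ℤ]
    [∀ n : ℤ, (shiftFunctor D n).Additive] [Pretriangulated D] [IsTriangulated D]
    (X : ChainComplex D ℕ) (n : ℕ)
    (hX : ∀ i j : ℕ, j + 2 < i → i ≤ n → ∀ φ : (shiftFunctor D ((i : ℤ) - j - 2)).obj (X.X i) ⟶ X.X j, φ = 0) :
    ∃ (Y : ℕ → D) (a : ∀ k, Y k ⟶ X.X k) (b : ∀ k, X.X (k + 1) ⟶ Y k) (c : ∀ k, Y k ⟶ (shiftFunctor D (1 : ℤ)).obj (Y (k + 1))),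
      IsIso (a 0) ∧ ∀ k, k < n → Triangle.mk (a (k + 1)) (b k) (c k) ∈ distinguishedTriangles ∧ b k ≫ a k = X.d (k + 1) k := by
  classical
  let P := fun k (p : Σ Y : D, Y ⟶ X.X k) =>
    (∀ (A : D) (s : ℤ), (∀ i < k, Postnikov.Van A (X.X i) 0 (s + i - k)) →
      ∀ f : A ⟶ (shiftFunctor D s).obj p.1, f ≫ (shiftFunctor D s).map p.2 = 0 → f = 0) ∧
    (k < n → ∃ b : X.X (k + 1) ⟶ p.1, b ≫ p.2 = X.d (k + 1) k)
  have triv : ∀ k, P k ⟨X.X k, 𝟙 _⟩ := fun k =>
    ⟨fun A s _ f hf => by simpa using hf, fun _ => ⟨_, Category.comp_id _⟩⟩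
  have step : ∀ k (p : {p // P k p}), ∃ (q : {q // P (k + 1) q}) (b : X.X (k + 1) ⟶ p.1.1)
      (c : p.1.1 ⟶ (shiftFunctor D (1 : ℤ)).obj q.1.1),
      k < n → Triangle.mk q.1.2 b c ∈ distinguishedTriangles ∧ b ≫ p.1.2 = X.d (k + 1) k := by
    rintro k ⟨⟨Y, a⟩, hv, hb⟩
    by_cases hk : k < n
    · obtain ⟨b, hb⟩ := hb hk
      obtain ⟨Y', a', c, hT⟩ := distinguished_cocone_triangle₁ b
      have hprop : P (k + 1) ⟨Y', a'⟩ := by
        refine ⟨fun A s hA f hf => Postnikov.eq_zero_into _ hT f hf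
          (Postnikov.van_left fun g => hv A (s - 1) (fun i hi => (hA i (by omega)).shift (by omega)) g
            (((hA k (by omega)).shift (a' := 0) (b' := s - 1) (by omega)).left _)), fun hk' => ?_⟩
        have hz : X.d (k + 1 + 1) (k + 1) ≫ b = 0 := by
          have h := hv (X.X (k + 1 + 1)) 0 (fun i hi => (Postnikov.van_right
              (hX (k + 1 + 1) i (by omega) (by omega))).shift (by omega))
            ((X.d (k + 1 + 1) (k + 1) ≫ b) ≫ (shiftFunctorZero D ℤ).inv.app Y) (by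
            erw [Category.assoc, ← (shiftFunctorZero D ℤ).inv.naturality]
            dsimp only [Functor.id_map]
            rw [← Category.assoc, Category.assoc _ b a, hb, X.d_comp_d, Limits.zero_comp])
          rwa [Preadditive.IsIso.comp_right_eq_zero] at h
        obtain ⟨β, hβ⟩ := Triangle.coyoneda_exact₂ _ hT _ hz
        exact ⟨β, hβ.symm⟩
      exact ⟨⟨⟨Y', a'⟩, hprop⟩, b, c, fun _ => ⟨hT, hb⟩⟩
    · exact ⟨⟨_, triv (k + 1)⟩, 0, 0, fun h => absurd h hk⟩
  choose next b c hbc using step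
  let S : ∀ k, {p // P k p} := fun k => Nat.rec ⟨_, triv 0⟩ (fun k t => next k t) k
  exact ⟨fun k => (S k).1.1, fun k => (S k).1.2, fun k => b k (S k), fun k => c k (S k),
    show IsIso (𝟙 (X.X 0)) from inferInstance, fun k hk => hbc k (S k) hk⟩


end Groth.Agent.S1051
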