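import Groth.Statements.S10511
import Groth.Agent.Lib.CechAff15.Basic
-- import your own Groth.Agent.* helpers here

set_option autoImplicit false
universe u
open CategoryTheory CategoryTheory.Limits AlgebraicGeometry
open AlgSp

namespace Groth.Agent.S10511

/-- Let `X` be an algebraic space over `S` and `P` a property of sheaves over `X` such that, for every
algebraic space `U` over `X` and every fppf covering `{U_i ⟶ U}` by algebraic spaces, `P` holds for
`U` as soon as it holds for all the iterated fibre products `U_{i_0} ×_U ⋯ ×_U U_{i_n}` (`n ≥ 0`,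
taken in fppf sheaves) over `X`. If `P` holds for every sheaf over `X` that is isomorphic to an
affine scheme and flat and locally of finite presentation over `X`, then `P` holds for `X`. -/
theorem result {S : Scheme.{u}} (X : AlgSp.Space S)
    (P : ∀ ⦃U : AlgSp.Sp S⦄, (U ⟶ X.obj) → Prop)
    (hP : ∀ ⦃U : AlgSp.Sp S⦄ (a : U ⟶ X.obj), AlgSp.IsAlgSpace U →
      ∀ ⦃ι : Type u⦄ (Ui : ι → AlgSp.Sp S) (g : ∀ i, Ui i ⟶ U), (∀ i, AlgSp.IsAlgSpace (Ui i)) →
      AlgSp.IsFppfCover Ui g →
      (∀ (n : ℕ) (c : Fin (n + 1) → ι),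
        P (WidePullback.base (fun k : Fin (n + 1) => g (c k)) ≫ a)) → P a)
    (haff : ∀ ⦃U : AlgSp.Sp S⦄ (a : U ⟶ X.obj) (T : Over S) (e : U ≅ (AlgSp.yon S).obj T), IsAffine T.left →
      AlgSp.LocP @Flat a → AlgSp.LocP @LocallyOfFinitePresentation a → P a) :
    P (𝟙 X.obj) := by
  exact Groth.Agent.CechAff15.descending_property X.property P hP haff


end Groth.Agent.S10511
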