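import Groth.Statements.S10517
import Groth.Agent.Lib.AlgSpace.Proper
import Groth.Agent.Lib.HTop26.PhBind
-- import your own Groth.Agent.* helpers here

set_option autoImplicit false
universe u
open CategoryTheory CategoryTheory.Limits AlgebraicGeometry
open AlgSp

namespace Groth.Agent.S10517

/-- If `{X_i ⟶ X}` is a ph covering of the algebraic space `X` by algebraic spaces and each `X_i` has a
ph covering `{X_ij ⟶ X_i}` by algebraic spaces, then the composites `X_ij ⟶ X_i ⟶ X`, indexed by the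
pairs `(i, j)`, form a ph covering of `X`. -/
theorem result {S : Scheme.{u}} (X : AlgSp.Space S) {ι : Type u}
    (Xi : ι → AlgSp.Space S) (g : ∀ i, Xi i ⟶ X) (κ : ι → Type u) (Xij : ∀ i, κ i → AlgSp.Space S)
    (gij : ∀ i j, Xij i j ⟶ Xi i)
    (h : AlgSp.IsPhCover (fun i => (Xi i).obj) (fun i => (g i).hom))
    (hij : ∀ i, AlgSp.IsPhCover (fun j => (Xij i j).obj) (fun j => (gij i j).hom)) :
    AlgSp.IsPhCover (fun r : Σ i, κ i => (Xij r.1 r.2).obj) (fun r => (gij r.1 r.2 ≫ g r.1).hom) := by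
  refine ⟨fun r => Groth.Agent.AlgSpace.locP_comp (Xij r.1 r.2).property (Xi r.1).property X.property
    ((hij r.1).1 r.2) (h.1 r.1), fun Z hZ t => ?_⟩
  haveI := hZ
  obtain ⟨F, hF, hl⟩ := h.2 Z hZ t
  choose i l hl using hl
  choose G hG hk using fun j : F.I₀ => (hij (i j)).2 (Over.mk (F.f j ≫ Z.hom)) (hF.isAffine_obj j) (l j)
  choose i' l' hl' using hk
  obtain ⟨F', hF', ⟨φ⟩⟩ := _root_.HTop26.exists_isStandardPh_bind hF (F := G) hG
  refine ⟨F', hF', fun a => ?_⟩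
  let b := φ.s₀ a
  let c : Over.mk (F'.f a ≫ Z.hom) ⟶ Over.mk ((G b.1).f b.2 ≫ F.f b.1 ≫ Z.hom) :=
    Over.homMk (φ.h₀ a) (show φ.h₀ a ≫ (G b.1).f b.2 ≫ F.f b.1 ≫ Z.hom = F'.f a ≫ Z.hom by
      have hw : φ.h₀ a ≫ (G b.1).f b.2 ≫ F.f b.1 = F'.f a := φ.w₀ a
      rw [← hw, Category.assoc, Category.assoc])
  refine ⟨⟨i b.1, i' b.1 b.2⟩, (AlgSp.yon S).map c ≫ l' b.1 b.2, ?_⟩
  show ((AlgSp.yon S).map c ≫ l' b.1 b.2) ≫ (gij (i b.1) (i' b.1 b.2)).hom ≫ (g (i b.1)).hom = _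
  rw [Category.assoc, ← Category.assoc (l' b.1 b.2), hl' b.1 b.2, Category.assoc, hl b.1,
    ← Functor.map_comp_assoc, ← Functor.map_comp_assoc]
  congr 2
  apply Over.OverMorphism.ext
  have hw : φ.h₀ a ≫ (G b.1).f b.2 ≫ F.f b.1 = F'.f a := φ.w₀ a
  simp [c]
  exact hw

end Groth.Agent.S10517
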