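import Groth.Statements.S1053
import Mathlib.Algebra.Homology.DerivedCategory.KProjective
import Mathlib.Algebra.Homology.HomotopyCategory.KProjective

set_option autoImplicit false
universe w v u
open CategoryTheory CategoryTheory.Limits
open CohDer

namespace Groth.Agent.S1053


/-- Let P and K be cochain complexes in an abelian category with P bounded, consisting of projective
objects and zero in degrees below n, and with Hⁱ(K) = 0 for all i ≥ n. Then every morphism P ⟶ K in
the homotopy category and every morphism P ⟶ K in the derived category is zero. -/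
theorem result {A : Type u} [Category.{v} A] [Abelian A] [HasDerivedCategory.{w} A]
    (P K : CochainComplex A ℤ) (n b : ℤ) [P.IsStrictlyGE n] [P.IsStrictlyLE b] (hP : ∀ i : ℤ, Projective (P.X i))
    (hK : ∀ i : ℤ, n ≤ i → IsZero (K.homology i)) :
    (∀ φ : (HomotopyCategory.quotient A (ComplexShape.up ℤ)).obj P ⟶ (HomotopyCategory.quotient A (ComplexShape.up ℤ)).obj K, φ = 0) ∧
    (∀ φ : DerivedCategory.Q.obj P ⟶ DerivedCategory.Q.obj K, φ = 0) := by
  haveI : P.IsKProjective := P.isKProjective_of_projective b
  let q := HomotopyCategory.quotient A (ComplexShape.up ℤ)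
  let e := DerivedCategory.quotientCompQhIso A
  have hL : QuasiIso (K.ιTruncLE (n - 1)) := ⟨fun i => by
    by_cases hi : i ≤ n - 1
    · exact CochainComplex.quasiIsoAt_ιTruncLE _ _ _ hi
    · rw [quasiIsoAt_iff_exactAt' _ _ ((HomologicalComplex.exactAt_iff_isZero_homology _ _).2 (hK i (by omega)))]
      exact CochainComplex.exactAt_of_isLE (K.truncLE (n - 1)) (n - 1) i (by omega)⟩
  haveI := hL
  have hD : ∀ φ : DerivedCategory.Q.obj P ⟶ DerivedCategory.Q.obj K, φ = 0 := by
    intro φ
    obtain ⟨g, hg⟩ := (CochainComplex.IsKProjective.Qh_map_bijective P _).surjective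
      (e.hom.app P ≫ (φ ≫ inv (DerivedCategory.Q.map (K.ιTruncLE (n - 1)))) ≫ e.inv.app (K.truncLE (n - 1)))
    obtain ⟨g, rfl⟩ := q.map_surjective g
    have hg0 : g = 0 := by
      ext1 i
      by_cases hi : i < n
      · exact (P.isZero_of_isStrictlyGE n i hi).eq_of_src _ _
      · exact ((K.truncLE (n - 1)).isZero_of_isStrictlyLE (n - 1) i (by omega)).eq_of_tgt _ _
    rw [hg0, Functor.map_zero, Functor.map_zero] at hg
    have h := congrArg (fun t => e.inv.app P ≫ t ≫ e.hom.app (K.truncLE (n - 1)) ≫
      DerivedCategory.Q.map (K.ιTruncLE (n - 1))) hg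
    simp only [zero_comp, comp_zero, Category.assoc, Iso.inv_hom_id_app_assoc, IsIso.inv_hom_id, Category.comp_id] at h
    exact h.symm
  refine ⟨fun φ => (CochainComplex.IsKProjective.Qh_map_bijective P _).injective ?_, hD⟩
  rw [Functor.map_zero]
  have h := hD (e.inv.app P ≫ DerivedCategory.Qh.map φ ≫ e.hom.app K)
  rw [← cancel_epi (e.inv.app P), ← cancel_mono (e.hom.app K), Category.assoc, h, comp_zero, zero_comp]


end Groth.Agent.S1053
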