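import Groth.Statements.S1055
import Groth.Agent.Lib.KFlat.LpullTilde
-- import your own Groth.Agent.* helpers here

set_option autoImplicit false
universe u
open CategoryTheory CategoryTheory.Limits AlgebraicGeometry Opposite
attribute [local instance] HasDerivedCategory.standard
open Perf

namespace Groth.Agent.S1055

/-- Let φ : A → B be a ring map and f : Spec B ⟶ Spec A the corresponding morphism. Assuming the derived
functors involved exist (and tilde is recorded as exact), derived base change - ⊗^L_A B : D(A) ⥤
D(B) followed by M ↦ M~ is isomorphic to M ↦ M~ followed by Lf^*. -/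
theorem result {A B : Type u} [CommRing A] [CommRing B] (φ : A →+* B)
    [PreservesFiniteLimits (tilde.functor (CommRingCat.of A))] [PreservesFiniteLimits (tilde.functor (CommRingCat.of B))]
    [DRing.HasLBaseChange φ] [DCoh.HasLpull (Spec.map (CommRingCat.ofHom φ))] :
    Nonempty (DRing.LBaseChange φ ⋙ DCoh.tildeD (CommRingCat.of B) ≅
      DCoh.tildeD (CommRingCat.of A) ⋙ DCoh.Lpull (Spec.map (CommRingCat.ofHom φ))) := by
  exact ⟨Groth.Agent.KFlat.Sch.lpullTildeIso (A := CommRingCat.of A) (B := CommRingCat.of B) (CommRingCat.ofHom φ)⟩

end Groth.Agent.S1055
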