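import Groth.Statements.S10551
import Groth.Agent.Lib.AlgSpDescent.OpenSource

set_option autoImplicit false
universe u
open CategoryTheory CategoryTheory.Limits AlgebraicGeometry
open AlgSp

namespace Groth.Agent.S10551

/-- The property of morphisms of algebraic spaces over S given by f is open (the induced map on spaces
of points is open) is fppf local on the source: for a morphism f : X ⟶ Y of algebraic spaces and a
fppf covering of X by algebraic spaces X_i, f has the property if and only if every composite X_i ⟶
X ⟶ Y has it. -/
theorem result (S : Scheme.{u}) :
    AlgSp.IsLocalOnSource (AlgSp.IsFppfCover (S := S)) AlgSp.IsOpenMor := by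
  exact Groth.Agent.AlgSpDescent.isLocalOnSource_fppf_isOpenMor

end Groth.Agent.S10551
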