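import Groth.Statements.S10557
import Groth.Agent.Lib.AlgSpDescent.FppfComp
-- import your own Groth.Agent.* helpers here

set_option autoImplicit false
universe u
open CategoryTheory CategoryTheory.Limits AlgebraicGeometry
open AlgSp

set_option backward.isDefEq.respectTransparency.types false

namespace Groth.Agent.S10557

/-- Let g : X ⟶ Y and h : Y ⟶ Z be morphisms of algebraic spaces over S with g a surjection of fppf
sheaves (locally surjective for the fppf topology). For P one of flat, locally of finite type,
locally of finite presentation (checked on etale charts): if the composite X ⟶ Z has P then h has P. -/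
theorem result {S : Scheme.{u}} {X Y Z : AlgSp.Space S} (g : X ⟶ Y) (h : Y ⟶ Z)
    (hg : Sheaf.IsLocallySurjective g.hom) :
    (AlgSp.LocP @Flat (g ≫ h).hom → AlgSp.LocP @Flat h.hom) ∧
    (AlgSp.LocP @LocallyOfFiniteType (g ≫ h).hom → AlgSp.LocP @LocallyOfFiniteType h.hom) ∧
    (AlgSp.LocP @LocallyOfFinitePresentation (g ≫ h).hom →
      AlgSp.LocP @LocallyOfFinitePresentation h.hom) := by
  exact ⟨Groth.Agent.AlgSpDescent.locP_of_comp_isLocallySurjective (P := @Flat) (fun _ _ _ h _ => h) (fun _ _ _ => Groth.Agent.AlgSpDescent.flat_of_retract)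
      (fun _ _ _ a b ha _ hs hab => have := ha; have := hs; have := hab; Groth.Agent.AlgSpDescent.flat_of_comp_flat_surjective a b) X.property Y.property Z.property g.hom h.hom,
    Groth.Agent.AlgSpDescent.locP_of_comp_isLocallySurjective (P := @LocallyOfFiniteType) (fun _ _ a _ h => have := h; inferInstance) (fun _ _ _ => Groth.Agent.AlgSpDescent.locallyOfFiniteType_of_retract)
      (fun _ _ _ => Groth.Agent.AlgSpDescent.locallyOfFiniteType_of_fppf_comp) X.property Y.property Z.property g.hom h.hom,
    Groth.Agent.AlgSpDescent.locP_of_comp_isLocallySurjective (P := @LocallyOfFinitePresentation) (fun _ _ _ _ h => h) (fun _ _ _ => Groth.Agent.AlgSpDescent.locallyOfFinitePresentation_of_retract)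
      (fun _ _ _ a b ha hb hs hab => have := ha; have := hb; have := hs; have := hab; Groth.Agent.FppfSource.locallyOfFinitePresentation_of_fppf_comp a b) X.property Y.property Z.property g.hom h.hom⟩

end Groth.Agent.S10557
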