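import Groth.Statements.S10559
import Groth.Agent.Lib.AlgSpDescent.SchemeSmooth

set_option autoImplicit false
universe u
open CategoryTheory CategoryTheory.Limits AlgebraicGeometry
open AlgSp

namespace Groth.Agent.S10559

/-- Let f : X ⟶ Y and q : Y ⟶ B be morphisms of algebraic spaces over S. If f is surjective and smooth
and f ≫ q is smooth, then q is smooth; if f is surjective and etale and f ≫ q is etale, then q is
etale. (The syntomic case of the published statement is not included.) -/
theorem result {S : Scheme.{u}} {X Y B : AlgSp.Space S} (f : X ⟶ Y) (q : Y ⟶ B)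
    (hs : AlgSp.IsSurjectiveMor f.hom) :
    (AlgSp.LocP @Smooth f.hom → AlgSp.LocP @Smooth (f ≫ q).hom → AlgSp.LocP @Smooth q.hom) ∧
    (AlgSp.IsEtaleMor f.hom → AlgSp.IsEtaleMor (f ≫ q).hom → AlgSp.IsEtaleMor q.hom) := by
  have hsurj : ∀ x : AlgSp.Points Y.obj, ∃ _i : PUnit.{u+1}, x ∈ Set.range (AlgSp.Points.map f.hom) :=
    fun x => ⟨⟨⟩, hs x⟩
  refine ⟨fun hf hfq => ?_, fun hf hfq => ?_⟩
  · exact (Groth.Agent.AlgSpDescent.isLocalOnSource_sm_smooth (fun _ : PUnit.{u+1} => X.obj) (fun _ => f.hom)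
      Y.property (fun _ => X.property) ⟨fun _ => hf, hsurj⟩ q.hom B.property).2 fun _ => hfq
  · exact (Groth.Agent.AlgSpDescent.isLocalOnSource_et_isEtaleMor (fun _ : PUnit.{u+1} => X.obj) (fun _ => f.hom)
      Y.property (fun _ => X.property) ⟨fun _ => hf, hsurj⟩ q.hom B.property).2 fun _ => hfq

end Groth.Agent.S10559
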