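import Groth.Statements.S10560
import Groth.Agent.Lib.AlgSpDescent.FppfComp
-- import your own Groth.Agent.* helpers here

set_option autoImplicit false
universe u
open CategoryTheory CategoryTheory.Limits AlgebraicGeometry
open AlgSp

set_option backward.isDefEq.respectTransparency.types false

namespace Groth.Agent.S10560

/-- Let f : X ⟶ Y and q : Y ⟶ B be morphisms of algebraic spaces over S with f surjective, flat and
locally of finite presentation. If f ≫ q is smooth then q is smooth; if f ≫ q is etale then q is
etale. -/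
theorem result {S : Scheme.{u}} {X Y B : AlgSp.Space S} (f : X ⟶ Y) (q : Y ⟶ B)
    (hs : AlgSp.IsSurjectiveMor f.hom) (hfl : AlgSp.LocP @Flat f.hom)
    (hfp : AlgSp.LocP @LocallyOfFinitePresentation f.hom) :
    (AlgSp.LocP @Smooth (f ≫ q).hom → AlgSp.LocP @Smooth q.hom) ∧
    (AlgSp.IsEtaleMor (f ≫ q).hom → AlgSp.IsEtaleMor q.hom) := by
  exact ⟨Groth.Agent.AlgSpDescent.locP_of_fppf_comp (P := @Smooth) (fun _ _ _ => Groth.Agent.AlgSpDescent.smooth_of_fppf_comp)
      X.property Y.property B.property f.hom q.hom hs hfl hfp,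
    fun h => Groth.Agent.AlgSpDescent.isEtaleMor_of_locP_etale Y.property B.property
      (Groth.Agent.AlgSpDescent.locP_of_fppf_comp (P := @Etale) (fun _ _ _ => Groth.Agent.AlgSpDescent.etale_of_fppf_comp)
        X.property Y.property B.property f.hom q.hom hs hfl hfp (Groth.Agent.AlgSpDescent.locP_etale_of_isEtaleMor h))⟩

end Groth.Agent.S10560
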