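import Groth.Statements.S10561
import Groth.Agent.Lib.AlgSpDescent.RedNoeth

set_option autoImplicit false
universe u
open CategoryTheory CategoryTheory.Limits AlgebraicGeometry
open AlgSp

namespace Groth.Agent.S10561

/-- Let f : X ⟶ Y be a flat and surjective morphism of algebraic spaces over S. If X is reduced then Y
is reduced. -/
theorem result {S : Scheme.{u}} {X Y : AlgSp.Space S} (f : X ⟶ Y)
    (hfl : AlgSp.LocP @Flat f.hom) (hs : AlgSp.IsSurjectiveMor f.hom) (hX : AlgSp.IsReducedSp X.obj) :
    AlgSp.IsReducedSp Y.obj := by
  exact Groth.Agent.AlgSpDescent.isReducedSp_of_flat_surjective X.property Y.property hfl hs hX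

end Groth.Agent.S10561
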