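import Groth.Statements.S10565
import Groth.Agent.Lib.AlgSpDescent.LocalST

set_option autoImplicit false
universe u
open CategoryTheory CategoryTheory.Limits AlgebraicGeometry
open AlgSp AlgSp.IsSmoothLocalST

namespace Groth.Agent.S10565

/-- A property P of morphisms of algebraic spaces over S that is smooth local on source-and-target is
(1) smooth local on the source, (2) smooth local on the base, and (3) stable under postcomposition
with smooth morphisms: whenever g : Y ⟶ Z is smooth and f : X ⟶ Y has P, the composite f ≫ g has P. -/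
theorem result {S : Scheme.{u}} {P : MorphismProperty (AlgSp.Sp S)}
    (hP : AlgSp.IsSmoothLocalST P) :
    AlgSp.IsLocalOnSource (AlgSp.IsSmCover (S := S)) P ∧
    AlgSp.IsLocalOnBase (AlgSp.IsSmCover (S := S)) P ∧
    (∀ ⦃X Y Z : AlgSp.Space S⦄ (f : X ⟶ Y) (g : Y ⟶ Z), P f.hom → AlgSp.LocP @Smooth g.hom → P (f ≫ g).hom) := by
  obtain ⟨h1, h2, h3⟩ := Groth.Agent.AlgSpDescent.local_of_isSmoothLocalST hP
  exact ⟨h1, h2, fun X Y Z f g => h3 X.property Y.property Z.property f.hom g.hom⟩

end Groth.Agent.S10565
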