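import Groth.Statements.S10573
import Groth.Agent.Lib.AlgSpDescent.FpqcTop
-- import your own Groth.Agent.* helpers here

set_option autoImplicit false
universe u
open CategoryTheory CategoryTheory.Limits AlgebraicGeometry
open AlgSp Groth.Agent.AlgSpDescent Groth.Agent.AlgSpace Groth.Agent.AlgSpDecent

namespace Groth.Agent.S10573

/-- Let {g_i : T_i ⟶ T} be a family of algebraic spaces over S forming an fpqc covering, and let W_i ⊂
|T_i| be open subsets (open subspaces) such that for all i, j the two projections T_i ×_T T_j ⟶ T_i,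
T_j pull W_i and W_j back to the same subset of |T_i ×_T T_j|. Then there is a unique open subset W
⊂ |T| with g_i⁻¹(W) = W_i for every i. -/
theorem result {S : Scheme.{u}} {ι : Type u} {T : AlgSp.Space S}
    (Ti : ι → AlgSp.Space S) (g : ∀ i, Ti i ⟶ T)
    (hg : AlgSp.IsFpqcCover (fun i => (Ti i).obj) (fun i => (g i).hom))
    (Wi : ∀ i, Set (AlgSp.Points (Ti i).obj)) (hW : ∀ i, IsOpen (Wi i))
    (hc : ∀ i j, AlgSp.Points.map (pullback.fst (g i).hom (g j).hom) ⁻¹' Wi i =
      AlgSp.Points.map (pullback.snd (g i).hom (g j).hom) ⁻¹' Wi j) :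
    ∃! W : TopologicalSpace.Opens (AlgSp.Points T.obj), ∀ i, AlgSp.Points.map (g i).hom ⁻¹' (W : Set (AlgSp.Points T.obj)) = Wi i := by
  have hsat : ∀ i, AlgSp.Points.map (g i).hom ⁻¹' (⋃ j, AlgSp.Points.map (g j).hom '' Wi j) = Wi i := by
    intro i
    ext x
    simp only [Set.mem_preimage, Set.mem_iUnion]
    refine ⟨?_, fun hx => ⟨i, x, hx, rfl⟩⟩
    rintro ⟨j, y, hy, he⟩
    obtain ⟨z, rfl, rfl⟩ := exists_point_lift (IsPullback.of_hasPullback (g i).hom (g j).hom) x y he.symm
    exact (Set.ext_iff.1 (hc i j) z).2 hy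
  refine ⟨⟨_, isOpen_of_affine_test hg (𝟙 T.obj) fun W _ w i l hl => ?_⟩, hsat, fun V hV => ?_⟩
  · have : AlgSp.Points.map w = AlgSp.Points.map (g i).hom ∘ AlgSp.Points.map l := funext fun v => by
      rw [Function.comp_apply, ← AlgSp.Points.map_comp, hl, Category.comp_id]
    show IsOpen (AlgSp.Points.map w ⁻¹' (⋃ j, AlgSp.Points.map (g j).hom '' Wi j))
    rw [this, Set.preimage_comp, hsat]
    exact (hW i).preimage (AlgSp.Points.continuous_map l)
  · refine TopologicalSpace.Opens.ext (Set.ext fun t => ?_)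
    obtain ⟨W, _, w, i, l, hl, v, rfl⟩ := exists_affine_test hg (𝟙 T.obj) t
    rw [Category.comp_id] at hl
    rw [← hl, AlgSp.Points.map_comp, ← Set.mem_preimage, hV, ← Set.mem_preimage (f := AlgSp.Points.map (g i).hom)]
    exact (Set.ext_iff.1 (hsat i) _).symm

end Groth.Agent.S10573
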