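import Groth.Statements.S10574
import Groth.Agent.Lib.LargestOpen15.Main
-- import your own Groth.Agent.* helpers here

set_option autoImplicit false
universe u
open CategoryTheory CategoryTheory.Limits AlgebraicGeometry Topology TopologicalSpace
open AlgSp

namespace Groth.Agent.S10574

/-- For a property P of morphisms of algebraic spaces over S that is fppf local on the base and a
morphism f : X ⟶ Y of algebraic spaces, there is a largest open subspace W(f) of Y over which the
restriction of f has P (open subspaces are recorded as open subsets of |Y|, and having P over V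
means that for every open immersion W ⟶ Y with image V the base change X ×_Y W ⟶ W has P). Moreover
(1) every flat and locally finitely presented g : Y' ⟶ Y whose base change X ×_Y Y' ⟶ Y' has P has
image inside W(f), and (2) for every flat and locally finitely presented g : Y' ⟶ Y with base change
f', the largest open of Y' over which f' has P is the inverse image of W(f); in particular this
applies to the members of an fppf covering of Y. (The syntomic topology case of the published
statement is not included.) -/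
theorem result {S : Scheme.{u}} {P : MorphismProperty (AlgSp.Sp S)}
    (hP : AlgSp.IsLocalOnBase (AlgSp.IsFppfCover (S := S)) P) {X Y : AlgSp.Space S} (f : X ⟶ Y) :
    ∃ W : TopologicalSpace.Opens (AlgSp.Points Y.obj),
      (∀ (W₀ X₀ : AlgSp.Space S) (j₀ : W₀ ⟶ Y) (j₀' : X₀ ⟶ X) (f₀ : X₀ ⟶ W₀),
        AlgSp.RepWith @IsOpenImmersion j₀.hom → Set.range (AlgSp.Points.map j₀.hom) = (W : Set (AlgSp.Points Y.obj)) →
        IsPullback j₀'.hom f₀.hom f.hom j₀.hom → P f₀.hom) ∧
      (∀ V : TopologicalSpace.Opens (AlgSp.Points Y.obj),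
        (∀ (W₁ X₁ : AlgSp.Space S) (j₁ : W₁ ⟶ Y) (j₁' : X₁ ⟶ X) (f₁ : X₁ ⟶ W₁),
        AlgSp.RepWith @IsOpenImmersion j₁.hom → Set.range (AlgSp.Points.map j₁.hom) = (V : Set (AlgSp.Points Y.obj)) →
        IsPullback j₁'.hom f₁.hom f.hom j₁.hom → P f₁.hom) → V ≤ W) ∧
      (∀ (Y' X' : AlgSp.Space S) (g : Y' ⟶ Y) (g' : X' ⟶ X) (f' : X' ⟶ Y'),
        AlgSp.LocP @Flat g.hom → AlgSp.LocP @LocallyOfFinitePresentation g.hom → IsPullback g'.hom f'.hom f.hom g.hom → P f'.hom →
        Set.range (AlgSp.Points.map g.hom) ⊆ (W : Set (AlgSp.Points Y.obj))) ∧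
      (∀ (Y' X' : AlgSp.Space S) (g : Y' ⟶ Y) (g' : X' ⟶ X) (f' : X' ⟶ Y'),
        AlgSp.LocP @Flat g.hom → AlgSp.LocP @LocallyOfFinitePresentation g.hom → IsPullback g'.hom f'.hom f.hom g.hom →
        ∀ W' : TopologicalSpace.Opens (AlgSp.Points Y'.obj),
          (∀ (W₂ X₂ : AlgSp.Space S) (j₂ : W₂ ⟶ Y') (j₂' : X₂ ⟶ X') (f₂ : X₂ ⟶ W₂),
        AlgSp.RepWith @IsOpenImmersion j₂.hom → Set.range (AlgSp.Points.map j₂.hom) = (W' : Set (AlgSp.Points Y'.obj)) →
        IsPullback j₂'.hom f₂.hom f'.hom j₂.hom → P f₂.hom) →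
          (∀ V' : TopologicalSpace.Opens (AlgSp.Points Y'.obj),
            (∀ (W₃ X₃ : AlgSp.Space S) (j₃ : W₃ ⟶ Y') (j₃' : X₃ ⟶ X') (f₃ : X₃ ⟶ W₃),
        AlgSp.RepWith @IsOpenImmersion j₃.hom → Set.range (AlgSp.Points.map j₃.hom) = (V' : Set (AlgSp.Points Y'.obj)) →
        IsPullback j₃'.hom f₃.hom f'.hom j₃.hom → P f₃.hom) → V' ≤ W') →
          (W' : Set (AlgSp.Points Y'.obj)) = AlgSp.Points.map g.hom ⁻¹' (W : Set (AlgSp.Points Y.obj))) := by
  have := Groth.Agent.AlgSpace.etaleLocal_of_cases (P := @Flat) (Or.inr (Or.inr (Or.inl rfl)))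
  have := Groth.Agent.AlgSpace.etaleLocal_of_cases (P := @LocallyOfFinitePresentation) (Or.inr (Or.inl rfl))
  have hG : Groth.Agent.LargestOpen15.CoverClass (S := S) (fun _ _ g => AlgSp.LocP @Flat g ∧ AlgSp.LocP @LocallyOfFinitePresentation g) := 
    { openImm := fun _ _ j hX hY hj => ⟨Groth.Agent.LargestOpen15.coverClass_locP_aux @Flat j hY hj,
        Groth.Agent.LargestOpen15.coverClass_locP_aux @LocallyOfFinitePresentation j hY hj⟩
      id := fun _ hX => ⟨Groth.Agent.AlgSpace.locP_id hX, Groth.Agent.AlgSpace.locP_id hX⟩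
      comp := fun _ _ _ _ _ hX hY hZ hf hg => ⟨Groth.Agent.AlgSpace.locP_comp hX hY hZ hf.1 hg.1,
        Groth.Agent.AlgSpace.locP_comp hX hY hZ hf.2 hg.2⟩
      baseChange := fun _ _ _ _ _ _ _ _ hX hY hY' sq hf => ⟨Groth.Agent.AlgSpace.locP_of_isPullback hX hY hY' sq hf.1,
        Groth.Agent.AlgSpace.locP_of_isPullback hX hY hY' sq hf.2⟩
      isOpen_range := fun _ _ g hX hY hg => Groth.Agent.LargestOpen15.isOpen_range_fppf hX hY hg.1 hg.2 }
  refine ⟨Groth.Agent.LargestOpen15.largest P f, Groth.Agent.LargestOpen15.good_largest hG hP f, fun V hV => Groth.Agent.LargestOpen15.le_largest f hV,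
    fun Y' X' g g' f' hg1 hg2 sq hf' => Groth.Agent.LargestOpen15.range_subset_largest hG hP f g g' f' ⟨hg1, hg2⟩ sq hf',
    fun Y' X' g g' f' hg1 hg2 sq W' hW' hmax => Groth.Agent.LargestOpen15.largest_pullback hG hP f g g' f' ⟨hg1, hg2⟩ sq W' hW' hmax⟩

end Groth.Agent.S10574
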