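import Groth.Statements.S10577
import Groth.Agent.Lib.QcohEt15.FP
-- import your own Groth.Agent.* helpers here

set_option autoImplicit false
universe u
open CategoryTheory CategoryTheory.Limits AlgebraicGeometry
open AlgSp

namespace Groth.Agent.S10577

open scoped Groth.Agent.QcohEt15

/-- Let f : X ⟶ Y be a finite morphism of algebraic spaces over S and F a quasi-coherent O_X-module (on
the small etale site). Then F is of finite type exactly when its direct image f_*F is of finite type
as an O_Y-module. (A finite morphism is representable; the row carries representability of f as an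
explicit hypothesis because the direct image functor is defined for representable morphisms.) -/
theorem result {S : Scheme.{u}} {X Y : AlgSp.Space S} (f : X ⟶ Y)
    (hrep : AlgSp.Representable f.hom) (hfin : AlgSp.IsFiniteMor f.hom)
    (F : AlgSp.ModEt X.obj) [F.IsQuasicoherent] :
    F.IsFiniteType ↔ ((AlgSp.pushModEt hrep).obj F).IsFiniteType := by
  have haff := Groth.Agent.QcohEt15.isAffineMor_of_isFiniteMor hfin
  have hgood := fun (E : AlgSp.EtOver Y.obj) [IsAffine E.obj.left.left] =>
    Groth.Agent.QcohEt15.good_push_of_isQuasicoherent (M := F) hrep haff E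
  refine ⟨fun h => Groth.Agent.QcohEt15.isFiniteType_of_good_of_finite hgood (fun E _ => ?_), fun h => ?_⟩
  · have := Groth.Agent.QcohEt15.isAffine_bcObj hrep haff E
    have := Groth.Agent.QcohEt15.finite_sections_of_isFiniteType (M := F) (AlgSp.EtOver.bcObj hrep E)
    exact Groth.Agent.QcohEt15.finite_push hrep hfin E
  · have := Groth.Agent.QcohEt15.isQuasicoherent_push (M := F) hrep haff
    refine Groth.Agent.QcohEt15.isFiniteType_of_good_of_finite (fun E _ => Groth.Agent.QcohEt15.good_of_isQuasicoherent E)
      (fun E hE => Groth.Agent.QcohEt15.finite_sections_of_bc hrep E hE haff fun E _ => ?_)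
    have := Groth.Agent.QcohEt15.finite_sections_of_isFiniteType (M := (AlgSp.pushModEt hrep).obj F) E
    exact Groth.Agent.QcohEt15.finite_of_push hrep E


end Groth.Agent.S10577
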