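import Groth.Statements.S10578
import Groth.Agent.Lib.QcohEt15.FP
-- import your own Groth.Agent.* helpers here

set_option autoImplicit false
universe u
open CategoryTheory CategoryTheory.Limits AlgebraicGeometry
open AlgSp

namespace Groth.Agent.S10578

open scoped Groth.Agent.QcohEt15

/-- Let f : X ⟶ Y be a morphism of algebraic spaces over S which is finite and of finite presentation,
and F a quasi-coherent O_X-module (on the small etale site). Then F is of finite presentation
exactly when its direct image f_*F is of finite presentation as an O_Y-module. (Representability of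
f, implied by finiteness, is carried as an explicit hypothesis because the direct image functor is
defined for representable morphisms.) -/
theorem result {S : Scheme.{u}} {X Y : AlgSp.Space S} (f : X ⟶ Y)
    (hrep : AlgSp.Representable f.hom) (hfin : AlgSp.IsFiniteMor f.hom) (hfp : AlgSp.IsFinitePresentationMor f.hom)
    (F : AlgSp.ModEt X.obj) [F.IsQuasicoherent] :
    F.IsFinitePresentation ↔ ((AlgSp.pushModEt hrep).obj F).IsFinitePresentation := by
  have haff := Groth.Agent.QcohEt15.isAffineMor_of_isFiniteMor hfin
  have hgood := fun (E : AlgSp.EtOver Y.obj) [IsAffine E.obj.left.left] =>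
    Groth.Agent.QcohEt15.good_push_of_isQuasicoherent (M := F) hrep haff E
  refine ⟨fun h => Groth.Agent.QcohEt15.isFinitePresentation_of_good_of_finitePresentation hgood (fun E _ => ?_), fun h => ?_⟩
  · have := Groth.Agent.QcohEt15.isAffine_bcObj hrep haff E
    have := Groth.Agent.QcohEt15.finitePresentation_sections (M := F) (AlgSp.EtOver.bcObj hrep E)
    exact Groth.Agent.QcohEt15.finitePresentation_push hrep hfin hfp.1 E
  · refine Groth.Agent.QcohEt15.isFinitePresentation_of_good_of_finitePresentation (fun E _ => Groth.Agent.QcohEt15.good_of_isQuasicoherent E)
      (fun E hE => Groth.Agent.QcohEt15.finitePresentation_sections_of_bc hrep E hE haff fun E _ => ?_)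
    have := Groth.Agent.QcohEt15.finitePresentation_sections (M := (AlgSp.pushModEt hrep).obj F) E
    exact Groth.Agent.QcohEt15.finitePresentation_of_push hrep hfin E


end Groth.Agent.S10578
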