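import Groth.Statements.S10579
import Groth.Agent.Lib.UnibrDesc27.Basic
import Groth.Agent.Lib.AlgSpRel14.Nbhd
-- import your own Groth.Agent.* helpers here

set_option autoImplicit false
universe u
open CategoryTheory CategoryTheory.Limits AlgebraicGeometry
open AlgSp

namespace Groth.Agent.S10579

/-- Let f : X ⟶ Y be a morphism of algebraic spaces over S and x ∈ |X|. If X is geometrically unibranch
at x and f is flat at x, then Y is geometrically unibranch at the image point f(x). Here an
algebraic space is geometrically unibranch at a point when for every etale chart from a scheme U and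
every point u of U over it the local ring of U at u is geometrically unibranch. -/
theorem result {S : Scheme.{u}} {X Y : AlgSp.Space S} (f : X ⟶ Y) (x : AlgSp.Points X.obj)
    (hf : AlgSp.IsFlatAtMor f.hom x)
    (hX : ∀ (U : Over S) (a : (AlgSp.yon S).obj U ⟶ X.obj) (v : ↥U.left), AlgSp.RepWith @Etale a →
      AlgSp.Points.ofPt a v = x → CAlg2.IsGeomUnibranch ↥(U.left.presheaf.stalk v))
    (V : Over S) (b : (AlgSp.yon S).obj V ⟶ Y.obj) (w : ↥V.left) (hb : AlgSp.RepWith @Etale b)
    (hw : AlgSp.Points.ofPt b w = AlgSp.Points.map f.hom x) :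
    CAlg2.IsGeomUnibranch ↥(V.left.presheaf.stalk w) := by
  obtain ⟨P, fst, snd, sq⟩ : ∃ (P : AlgSp.Sp S) (fst : P ⟶ X.obj) (snd : P ⟶ (AlgSp.yon S).obj V),
      IsPullback fst snd f.hom b := ⟨_, _, _, IsPullback.of_hasPullback f.hom b⟩
  obtain ⟨U, r, hre, hrs⟩ :=
    (AlgSpace.isAlgSpace_pullback Y.property X.property (AlgSp.IsAlgSpace.yon_obj V) sq).atlas
  obtain ⟨α, hα⟩ := (AlgSp.yon S).map_surjective (r ≫ snd)
  have ha : AlgSp.RepWith @Etale (r ≫ fst) :=
    AlgSpace.repWith_comp hre (AlgSpace.repWith_of_isPullback sq.flip hb)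
  have wsq : (r ≫ fst) ≫ f.hom = (AlgSp.yon S).map α ≫ b := by
    rw [Category.assoc, sq.w, ← Category.assoc, hα]
  obtain ⟨p, hp₁, hp₂⟩ := AlgSpDecent.exists_point_lift sq x (AlgSp.Points.ofScheme V w) (by
    rw [← AlgSp.Points.ofPt_eq_map_ofScheme, hw])
  obtain ⟨u, hu⟩ := AlgSpace.surjective_ofPt hrs p
  subst hu
  have hux : AlgSp.Points.ofPt (r ≫ fst) u = x := by rw [← hp₁, AlgSp.Points.map_ofPt]
  have hwu : α.left u = w := by
    apply (AlgSp.Points.schemeEquiv V).injective
    change AlgSp.Points.ofScheme V (α.left u) = AlgSp.Points.ofScheme V w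
    rw [← hp₂, AlgSp.Points.map_ofPt, ← hα, AlgSpDecent.ofPt_map_eq]
  subst hwu
  exact UnibrDesc27.isGeomUnibranch_of_flat α.left u (hf (r ≫ fst) b α u ha hb wsq hux)
    (hX U (r ≫ fst) u ha hux)


end Groth.Agent.S10579
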