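import Groth.Statements.S10580
import Groth.Agent.Lib.AlgSpDescent.SrcOfLocal

set_option autoImplicit false
universe u
open CategoryTheory CategoryTheory.Limits AlgebraicGeometry
open AlgSp

namespace Groth.Agent.S10580

/-- Let P be a property of morphisms of schemes and P_spaces the induced property of morphisms of
algebraic spaces over S (P on every etale chart diagram). For τ one of fpqc, fppf, smooth, etale: if
P is τ local on the source for morphisms of schemes, then P_spaces is τ local on the source for
morphisms of algebraic spaces. (The published statement assumes P etale local on the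
source-and-target, which is what makes the chart-wise property the right notion; the implication
itself holds for every P and is stated that way. The syntomic case is not included. τ-locality on
the source for schemes is taken in the form that includes invariance of P under isomorphisms, which
the published definition requires implicitly.) -/
theorem result (S : Scheme.{u}) (P : MorphismProperty Scheme.{u}) :
    (P.IsLocalAtSource Scheme.fpqcPrecoverage → AlgSp.IsLocalOnSource (AlgSp.IsFpqcCover (S := S)) (AlgSp.LocP P)) ∧
    (P.IsLocalAtSource Scheme.fppfPrecoverage → AlgSp.IsLocalOnSource (AlgSp.IsFppfCover (S := S)) (AlgSp.LocP P)) ∧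
    (P.IsLocalAtSource (Scheme.precoverage @Smooth) → AlgSp.IsLocalOnSource (AlgSp.IsSmCover (S := S)) (AlgSp.LocP P)) ∧
    (P.IsLocalAtSource Scheme.etalePrecoverage → AlgSp.IsLocalOnSource (AlgSp.IsEtCover (S := S)) (AlgSp.LocP P)) := by
  have := MorphismProperty.ContainsIdentities.mk (W := (@Smooth : MorphismProperty Scheme.{u})) fun X =>
    inferInstanceAs (Smooth (𝟙 X))
  refine ⟨fun h => ?_, fun h => ?_, fun h => ?_, fun h => ?_⟩
  · exact Groth.Agent.AlgSpDescent.isLocalOnSource_fpqc_of_local P
  · have : P.IsLocalAtSource (Scheme.precoverage (@Flat ⊓ @LocallyOfFinitePresentation)) := h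
    exact Groth.Agent.AlgSpDescent.isLocalOnSource_cover_of_local
      (K := @Flat ⊓ @LocallyOfFinitePresentation) (fun _ _ f (_ : Etale f) => ⟨inferInstance, inferInstance⟩)
      fun _ _ _ _ hg => ⟨fun i U V a b k ha hb w => ⟨(hg.1 i).1 a b k ha hb w, (hg.1 i).2 a b k ha hb w⟩, hg.2⟩
  · exact Groth.Agent.AlgSpDescent.isLocalOnSource_cover_of_local (K := @Smooth)
      (fun _ _ f (_ : Etale f) => inferInstance) fun _ _ _ _ hg => hg
  · have : P.IsLocalAtSource (Scheme.precoverage @Etale) := h
    exact Groth.Agent.AlgSpDescent.isLocalOnSource_cover_of_local (K := @Etale) le_rfl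
      fun _ _ _ _ hg => ⟨fun i => Groth.Agent.AlgSpDescent.locP_etale_of_isEtaleMor (hg.1 i), hg.2⟩

end Groth.Agent.S10580
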