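import Groth.Statements.S10591
import Groth.Agent.Lib.AlgSpDeform15.Apps
-- import your own Groth.Agent.* helpers here

set_option autoImplicit false
universe u
open CategoryTheory CategoryTheory.Limits AlgebraicGeometry
open AlgSp

namespace Groth.Agent.S10591

/-- Consider a morphism (f, f') from the thickening X ⊂ X' to the thickening Y ⊂ Y' of algebraic spaces
over S, meaning: i : X ⟶ X' and j : Y ⟶ Y' are thickenings (representable, every base change to a
scheme a surjective closed immersion) and i ≫ f' = f ≫ j. Assume moreover that the square is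
cartesian (X = Y ×_{Y'} X') and that i is a finite order thickening (for one n, on every affine
etale scheme chart of X' the (n+1)-st power of the ideal of the base change of X vanishes). Then f
is locally of finite type of relative dimension d, resp. locally of finite type, resp. locally
quasi-finite, resp. unramified, if and only if f' is (relative dimension d at a point: some chart
diagram through the point has fibre of local dimension d there) (all in the etale-local sense,
locally quasi-finite and unramified including locally of finite type). -/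
theorem result {S : Scheme.{u}} {X X' Y Y' : AlgSp.Space S} (i : X ⟶ X') (j : Y ⟶ Y')
    (f : X ⟶ Y) (f' : X' ⟶ Y')
    (hi : AlgSp.IsThickMor i.hom)
    (hj : AlgSp.IsThickMor j.hom) (w : i ≫ f' = f ≫ j)
    (hcart : IsPullback i.hom f.hom f'.hom j.hom)
    (hfo : AlgSp.IsFinThickMor i.hom) (d : ℕ) :
    ((AlgSp.LocP @LocallyOfFiniteType f.hom ∧
        ∀ x, AlgSp.HasAtMor (fun _ _ h u => FlatMor.fibreDimAt h u = (d : WithBot ℕ∞)) f.hom x) ↔
      (AlgSp.LocP @LocallyOfFiniteType f'.hom ∧
        ∀ x', AlgSp.HasAtMor (fun _ _ h u => FlatMor.fibreDimAt h u = (d : WithBot ℕ∞)) f'.hom x')) ∧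
    (AlgSp.LocP @LocallyOfFiniteType f.hom ↔ AlgSp.LocP @LocallyOfFiniteType f'.hom) ∧
    (AlgSp.LocP (@LocallyQuasiFinite ⊓ @LocallyOfFiniteType) f.hom ↔
      AlgSp.LocP (@LocallyQuasiFinite ⊓ @LocallyOfFiniteType) f'.hom) ∧
    (AlgSp.LocP (@LocallyOfFiniteType ⊓ @FormallyUnramified) f.hom ↔
      AlgSp.LocP (@LocallyOfFiniteType ⊓ @FormallyUnramified) f'.hom) := by
  obtain ⟨n, -, hn⟩ := hfo
  have hcX : IsPullback i.hom (f.hom ≫ 𝟙 _) (f'.hom ≫ 𝟙 _) j.hom := by simpa using hcart
  have hcY : IsPullback j.hom (𝟙 Y.obj) (𝟙 Y'.obj) j.hom := IsPullback.of_vert_isIso ⟨by simp⟩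
  obtain ⟨c⟩ := Groth.Agent.AlgSpDeform15.exists_dchart hcX hcY (congrArg (fun m => m.hom) w) hj
    X'.property Y'.property Y'.property
  open Groth.Agent.AlgSpDescent Groth.Agent.AlgSpace in
  have lft := fun (h : AlgSp.LocP @LocallyOfFiniteType f.hom) =>
    lft_of_thick (closedImmersion_of_thick hj) hi hn hcart h
  open Groth.Agent.AlgSpDescent Groth.Agent.AlgSpace in
  exact ⟨⟨fun ⟨h₁, h₂⟩ => ⟨lft h₁, (c.forall_fibreDim_iff h₁ (lft h₁) (· = (d : WithBot ℕ∞))).1 h₂⟩,
      fun ⟨h₁, h₂⟩ => ⟨locP_of_isPullback X'.property Y'.property Y.property hcart h₁,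
        (c.forall_fibreDim_iff (locP_of_isPullback X'.property Y'.property Y.property hcart h₁) h₁
          (· = (d : WithBot ℕ∞))).2 h₂⟩⟩,
    ⟨lft, locP_of_isPullback X'.property Y'.property Y.property hcart⟩,
    ⟨fun h => lqf_of_thick (closedImmersion_of_thick hj) hi hcart
        (lft (locP_mono (fun _ _ v hv => hv.2) h)) h,
      locP_of_isPullback X'.property Y'.property Y.property hcart⟩,
    ⟨fun h => unramified_of_thick (closedImmersion_of_thick hj) hi hcart
        (lft (locP_mono (fun _ _ v hv => hv.1) h)) h,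
      locP_of_isPullback X'.property Y'.property Y.property hcart⟩⟩

end Groth.Agent.S10591
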