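import Groth.Statements.S10594
import Groth.Agent.Lib.AlgSpDescent.ThickFin
-- import your own Groth.Agent.* helpers here

set_option autoImplicit false
universe u
open CategoryTheory CategoryTheory.Limits AlgebraicGeometry
open AlgSp

namespace Groth.Agent.S10594

/-- Consider a morphism (f, f') from the thickening X ⊂ X' to the thickening Y ⊂ Y' of algebraic spaces
over S, meaning: i : X ⟶ X' and j : Y ⟶ Y' are thickenings (representable, every base change to a
scheme a surjective closed immersion) and i ≫ f' = f ≫ j. Assume moreover that the square is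
cartesian (X = Y ×_{Y'} X') and that f and f' are locally of finite type. Then f is finite, resp. a
closed immersion, resp. an immersion, resp. proper, if and only if f' is (immersions of algebraic
spaces being the representable ones). -/
theorem result {S : Scheme.{u}} {X X' Y Y' : AlgSp.Space S} (i : X ⟶ X') (j : Y ⟶ Y')
    (f : X ⟶ Y) (f' : X' ⟶ Y')
    (hi : AlgSp.IsThickMor i.hom)
    (hj : AlgSp.IsThickMor j.hom) (w : i ≫ f' = f ≫ j)
    (hcart : IsPullback i.hom f.hom f'.hom j.hom)
    (hft : AlgSp.LocP @LocallyOfFiniteType f.hom) (hft' : AlgSp.LocP @LocallyOfFiniteType f'.hom) :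
    (AlgSp.IsFiniteMor f.hom ↔ AlgSp.IsFiniteMor f'.hom) ∧
    (AlgSp.RepWith @IsClosedImmersion f.hom ↔ AlgSp.RepWith @IsClosedImmersion f'.hom) ∧
    (AlgSp.RepWith @IsImmersion f.hom ↔ AlgSp.RepWith @IsImmersion f'.hom) ∧
    (AlgSp.IsProperMor f.hom ↔ AlgSp.IsProperMor f'.hom) := by
  open Groth.Agent.AlgSpDescent Groth.Agent.AlgSpace in
  exact ⟨⟨finite_of_thick_cartesian hi hj hft' X.property X'.property Y.property Y'.property hcart,
      fun h => isFiniteMor_iff_repWith.2 (repWith_of_isPullback hcart (isFiniteMor_iff_repWith.1 h))⟩,
    ⟨closedImmersion_of_thick_cartesian hi hj hft' X.property X'.property Y.property Y'.property hcart,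
      fun h => repWith_of_isPullback hcart h⟩,
    ⟨immersion_of_thick_cartesian hi hj hft' X.property X'.property Y.property Y'.property hcart,
      fun h => repWith_of_isPullback hcart h⟩,
    ⟨proper_of_thick_cartesian hi hj hft' X.property X'.property Y.property Y'.property hcart,
      fun h => isProperMor_of_isPullback X'.property Y'.property Y.property hcart h⟩⟩

end Groth.Agent.S10594
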