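import Groth.Statements.S10602
import Groth.Agent.Lib.SmoothLift15.SmallExtSpace
-- import your own Groth.Agent.* helpers here

set_option autoImplicit false
universe u
open CategoryTheory CategoryTheory.Limits AlgebraicGeometry
open AlgSp

namespace Groth.Agent.S10602

/-- Take a morphism f : X ⟶ Y of algebraic spaces over S that is locally of finite type, with Y locally
Noetherian. Then f is smooth if and only if for every surjection π : B' → B of Artinian local rings
whose kernel is principal and killed by the maximal ideal of B', every structure map Spec B' ⟶ S,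
every α : Spec B ⟶ X and every β : Spec B' ⟶ Y locally of finite type with α ≫ f = Spec(π) ≫ β,
there is γ : Spec B' ⟶ X with Spec(π) ≫ γ = α and γ ≫ f = β. (The published statement asks for lifts
only against β of finite type, which can be vacuous when Y is not quasi-separated; this row asks for
lifts against every β locally of finite type.) -/
theorem result {S : Scheme.{u}} {X Y : AlgSp.Space S} (f : X ⟶ Y)
    (hY : AlgSp.IsLocNoethSp Y.obj) (hft : AlgSp.LocP @LocallyOfFiniteType f.hom) :
    AlgSp.LocP @Smooth f.hom ↔
      ∀ (B' B : Type u) [CommRing B'] [CommRing B] [IsLocalRing B'] [IsLocalRing B]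
        [IsArtinianRing B'] [IsArtinianRing B] (π : B' →+* B), Function.Surjective π →
        (∃ t : B', RingHom.ker π = Ideal.span {t} ∧ ∀ a ∈ IsLocalRing.maximalIdeal B', a * t = 0) →
        ∀ (s : Spec (CommRingCat.of B') ⟶ S)
          (α : (AlgSp.yon S).obj (Over.mk (Spec.map (CommRingCat.ofHom π) ≫ s)) ⟶ X.obj)
          (β : (AlgSp.yon S).obj (Over.mk s) ⟶ Y.obj),
          AlgSp.LocP @LocallyOfFiniteType β →
          α ≫ f.hom = (AlgSp.yon S).map
            (Over.homMk (Spec.map (CommRingCat.ofHom π)) :
              Over.mk (Spec.map (CommRingCat.ofHom π) ≫ s) ⟶ Over.mk s) ≫ β →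
          ∃ γ : (AlgSp.yon S).obj (Over.mk s) ⟶ X.obj,
            (AlgSp.yon S).map (Over.homMk (Spec.map (CommRingCat.ofHom π)) :
              Over.mk (Spec.map (CommRingCat.ofHom π) ≫ s) ⟶ Over.mk s) ≫ γ = α ∧ γ ≫ f.hom = β := by

  refine ⟨fun hs B' B _ _ _ _ _ _ π hπ hk s α β _ w => ?_, fun H => ?_⟩
  · exact Groth.Agent.SmoothLift15.exists_lift_of_surjective_mor
      (Groth.Agent.SmoothLift15.isFormallySmoothMor_of_locP_smooth X.property Y.property f.hom hs) π hπ
      (Groth.Agent.SmoothLift15.ker_sq_of_small π hk) s α β w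
  · obtain ⟨U, V, a, b, h, ha, has, hb, _, w⟩ :=
      Groth.Agent.SmoothLift15.exists_noetherian_chart X.property Y.property f.hom hY
    have : LocallyOfFiniteType h.left := hft a b h ha hb w
    have := Groth.Agent.AlgSpace.etaleLocal_of_cases (P := @Smooth) (Or.inr (Or.inr (Or.inr (Or.inl rfl))))
    refine Groth.Agent.AlgSpace.locP_of_one_chart a b h ha has hb w
      (Groth.Agent.SmoothLift15.smooth_of_ptLifts h.left fun u => ?_)
    refine Groth.Agent.SmoothLift15.smallLiftsPt_chart Y.property ha hb w u True ?_
    intro A _ _ _ t ht _ s α β _ hP wsq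
    exact H A (A ⧸ Ideal.span {t}) (Ideal.Quotient.mk _) Ideal.Quotient.mk_surjective
      ⟨t, Ideal.mk_ker, ht⟩ s α β (hP trivial) wsq

end Groth.Agent.S10602
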