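import Groth.Statements.S10603
import Groth.Agent.Lib.AlgSpace.LocP
import Groth.Agent.Lib.AlgSpace.MorDiag
import Groth.Agent.Lib.AlgSpace.DiagChart
import Groth.Agent.Lib.AlgSpace.Points
import Groth.Agent.Lib.FlatH4.FibreCritScheme
-- import your own Groth.Agent.* helpers here

set_option autoImplicit false
universe u
open CategoryTheory CategoryTheory.Limits AlgebraicGeometry
open AlgSp

set_option backward.isDefEq.respectTransparency.types false

namespace Groth.Agent.S10603

/-- Base change in `Over S` and in schemes agree. -/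
theorem flat_baseChange {S : Scheme.{u}} {U V W T : Over S} (m : U ⟶ V) (k : V ⟶ W) (ι : T ⟶ W)
    (mT : pullback (m ≫ k) ι ⟶ pullback k ι) (h : Flat mT.left)
    (h₁ : mT ≫ pullback.fst k ι = pullback.fst (m ≫ k) ι ≫ m)
    (h₂ : mT ≫ pullback.snd k ι = pullback.snd (m ≫ k) ι) :
    Flat (pullback.map (m.left ≫ k.left) ι.left k.left ι.left m.left (𝟙 _) (𝟙 _) (by simp) (by simp)) := by
  have sU : IsPullback (pullback.fst (m ≫ k) ι).left (pullback.snd (m ≫ k) ι).left
      (m.left ≫ k.left) ι.left := (IsPullback.of_hasPullback (m ≫ k) ι).map (Over.forget S)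
  have sV : IsPullback (pullback.fst k ι).left (pullback.snd k ι).left k.left ι.left :=
    (IsPullback.of_hasPullback k ι).map (Over.forget S)
  suffices e : sU.isoPullback.inv ≫ mT.left ≫ sV.isoPullback.hom =
      pullback.map (m.left ≫ k.left) ι.left k.left ι.left m.left (𝟙 _) (𝟙 _) (by simp) (by simp) by
    rw [← e]
    infer_instance
  rw [Iso.inv_comp_eq]
  apply pullback.hom_ext
  · simp only [Category.assoc, pullback.map, pullback.lift_fst, sV.isoPullback_hom_fst,
      sU.isoPullback_hom_fst_assoc]
    rw [← Over.comp_left, h₁, Over.comp_left]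
  · simp only [Category.assoc, pullback.map, pullback.lift_snd, Category.comp_id,
      sV.isoPullback_hom_snd, sU.isoPullback_hom_snd]
    rw [← Over.comp_left, h₂]

open Groth.Agent.AlgSpace in
/-- The lift of a chart to a base change is a chart. -/
theorem etale_lift {S : Scheme.{u}} {X Z : Sp S} (hX : IsAlgSpace X) (hZ : IsAlgSpace Z)
    {g : X ⟶ Z} {U W : Over S} {a : (yon S).obj U ⟶ X} {c : (yon S).obj W ⟶ Z} (ha : RepWith @Etale a)
    (hc : RepWith @Etale c) (m : U ⟶ W) (w : a ≫ g = (yon S).map m ≫ c) :
    RepWith @Etale (pullback.lift a ((yon S).map m) w : (yon S).obj U ⟶ pullback g c) := by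
  have sq := IsPullback.of_hasPullback g c
  have hP : IsAlgSpace (pullback g c) := isAlgSpace_pullback hZ hX (IsAlgSpace.yon_obj W) sq
  have hfst : RepWith @Etale (pullback.fst g c) := repWith_of_isPullback sq.flip hc
  have hd : RepWith @Etale (pullback.diagonal (pullback.fst g c)) :=
    repWith_mono (fun _ _ i (_ : IsOpenImmersion i) => inferInstanceAs (Etale i))
      (repWith_diagonal_isOpenImmersion_of_unramified hP hX
        (locP_of_repWith hX
          (repWith_mono (le_inf AlgSpDescent.etale_le_lft AlgSpDescent.etale_le_fu) hfst)))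
  exact repWith_of_comp_of_diagonal (by rw [pullback.lift_fst]; exact ha) hd

open Groth.Agent.AlgSpace in
/-- Let f : X ⟶ Y and h : Y ⟶ Z be morphisms of algebraic spaces over S. Suppose X is flat and locally
of finite presentation over Z, Y is locally of finite type over Z, and for every field K and every z
: Spec K ⟶ Z the base change X_z ⟶ Y_z of f is flat (fibres taken as pullback squares of fppf
sheaves). Then f is flat; if moreover f is surjective, then h is flat. -/
theorem result {S : Scheme.{u}} {X Y Z : AlgSp.Space S} (f : X ⟶ Y) (h : Y ⟶ Z)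
    (hfp : AlgSp.LocP @LocallyOfFinitePresentation (f ≫ h).hom) (hfl : AlgSp.LocP @Flat (f ≫ h).hom)
    (hft : AlgSp.LocP @LocallyOfFiniteType h.hom)
    (hfib : ∀ (K : Type u) [Field K] (sK : Spec (CommRingCat.of K) ⟶ S)
      (z : (AlgSp.yon S).obj (Over.mk sK) ⟶ Z.obj) (Xz Yz : AlgSp.Sp S)
      (pX : Xz ⟶ X.obj) (qX : Xz ⟶ (AlgSp.yon S).obj (Over.mk sK))
      (pY : Yz ⟶ Y.obj) (qY : Yz ⟶ (AlgSp.yon S).obj (Over.mk sK)) (fz : Xz ⟶ Yz),
      IsPullback pX qX (f ≫ h).hom z → IsPullback pY qY h.hom z → fz ≫ pY = pX ≫ f.hom → fz ≫ qY = qX →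
      AlgSp.LocP @Flat fz) :
    AlgSp.LocP @Flat f.hom ∧ (AlgSp.IsSurjectiveMor f.hom → AlgSp.LocP @Flat h.hom) := by
  obtain ⟨V, W, b, c, k, hbe, hbs, hce, hcs, wg⟩ := exists_chart_square Y.property Z.property h.hom
  obtain ⟨U, a, m, hae, has, wf⟩ := exists_chart_over X.property Y.property f.hom b hbe hbs
  have wfg : a ≫ (f ≫ h).hom = (yon S).map (m ≫ k) ≫ c := by
    show a ≫ f.hom ≫ h.hom = _
    rw [Functor.map_comp, Category.assoc, ← wg, ← Category.assoc, wf, Category.assoc]
  have hlfp : LocallyOfFinitePresentation (m.left ≫ k.left) := hfp a c (m ≫ k) hae hce wfg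
  have hflat : Flat (m.left ≫ k.left) := hfl a c (m ≫ k) hae hce wfg
  have hk : LocallyOfFiniteType k.left := hft b c k hbe hce wg
  have hm : Flat m.left := by
    refine Flat.of_stalkMap _ fun x => ?_
    let w := k.left (m.left x)
    let φ := W.left.fromSpecResidueField w
    let T : Over S := Over.mk (φ ≫ W.hom)
    let ι : T ⟶ W := Over.homMk φ
    let gX := (f ≫ h).hom
    let pX := pullback gX c
    let pY := pullback h.hom c
    let aW : (yon S).obj U ⟶ pX := pullback.lift a ((yon S).map (m ≫ k)) wfg
    let bW : (yon S).obj V ⟶ pY := pullback.lift b ((yon S).map k) wg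
    have haW : RepWith @Etale aW := etale_lift X.property Z.property hae hce _ wfg
    have hbW : RepWith @Etale bW := etale_lift Y.property Z.property hbe hce _ wg
    let fW : pX ⟶ pY := pullback.lift (pullback.fst gX c ≫ f.hom) (pullback.snd gX c)
      (by rw [Category.assoc]; exact pullback.condition)
    have wW : aW ≫ fW = (yon S).map m ≫ bW := by
      apply pullback.hom_ext
      · rw [Category.assoc, pullback.lift_fst, ← Category.assoc, pullback.lift_fst, wf,
          Category.assoc, pullback.lift_fst]
      · rw [Category.assoc, pullback.lift_snd, pullback.lift_snd, Category.assoc,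
          pullback.lift_snd, Functor.map_comp]
    let sX := pullback.snd gX c
    let sY := pullback.snd h.hom c
    let Xz := pullback sX ((yon S).map ι)
    let Yz := pullback sY ((yon S).map ι)
    have sqXz := (IsPullback.of_hasPullback sX ((yon S).map ι))
    have sqYz := (IsPullback.of_hasPullback sY ((yon S).map ι))
    let fz : Xz ⟶ Yz := pullback.lift (pullback.fst sX ((yon S).map ι) ≫ fW)
      (pullback.snd sX ((yon S).map ι))
      (by rw [Category.assoc, pullback.lift_snd]; exact pullback.condition)
    have hfz : LocP @Flat fz := hfib (W.left.residueField w) (φ ≫ W.hom) ((yon S).map ι ≫ c) Xz Yz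
      (pullback.fst sX _ ≫ pullback.fst gX c) (pullback.snd sX _)
      (pullback.fst sY _ ≫ pullback.fst h.hom c) (pullback.snd sY _) fz
      (sqXz.paste_horiz (IsPullback.of_hasPullback gX c))
      (sqYz.paste_horiz (IsPullback.of_hasPullback h.hom c))
      (by rw [← Category.assoc, pullback.lift_fst, Category.assoc, pullback.lift_fst, Category.assoc])
      (pullback.lift_snd _ _ _)
    have sqU := (IsPullback.of_hasPullback (m ≫ k) ι).map (yon S)
    have sqV := (IsPullback.of_hasPullback k ι).map (yon S)
    let aT : (yon S).obj (pullback (m ≫ k) ι) ⟶ Xz :=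
      pullback.lift ((yon S).map (pullback.fst (m ≫ k) ι) ≫ aW) ((yon S).map (pullback.snd (m ≫ k) ι))
        (by rw [Category.assoc, pullback.lift_snd]; exact sqU.w)
    let bT : (yon S).obj (pullback k ι) ⟶ Yz :=
      pullback.lift ((yon S).map (pullback.fst k ι) ≫ bW) ((yon S).map (pullback.snd k ι))
        (by rw [Category.assoc, pullback.lift_snd]; exact sqV.w)
    have haT : IsPullback ((yon S).map (pullback.fst (m ≫ k) ι)) aT aW (pullback.fst sX _) :=
      IsPullback.of_bot (by
        rw [show aT ≫ pullback.snd sX _ = _ from pullback.lift_snd _ _ _,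
          show aW ≫ sX = _ from pullback.lift_snd _ _ _]
        exact sqU) (pullback.lift_fst _ _ _).symm sqXz
    have hbT : IsPullback ((yon S).map (pullback.fst k ι)) bT bW (pullback.fst sY _) :=
      IsPullback.of_bot (by
        rw [show bT ≫ pullback.snd sY _ = _ from pullback.lift_snd _ _ _,
          show bW ≫ sY = _ from pullback.lift_snd _ _ _]
        exact sqV) (pullback.lift_fst _ _ _).symm sqYz
    let mT : pullback (m ≫ k) ι ⟶ pullback k ι :=
      pullback.lift (pullback.fst _ _ ≫ m) (pullback.snd _ _)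
        (by rw [Category.assoc]; exact pullback.condition)
    have hmT : Flat mT.left := by
      refine hfz aT bT mT (repWith_of_isPullback haT haW) (repWith_of_isPullback hbT hbW) ?_
      apply pullback.hom_ext
      · simp only [aT, bT, fz, mT, Category.assoc, pullback.lift_fst, pullback.lift_fst_assoc, wW,
          ← Functor.map_comp_assoc]
      · simp only [aT, bT, fz, mT, Category.assoc, pullback.lift_snd, ← Functor.map_comp]
    have : Flat (Groth.Agent.FlatH4.fibreMapAt' m.left k.left φ) := flat_baseChange m k ι mT hmT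
      (pullback.lift_fst _ _ _) (pullback.lift_snd _ _ _)
    obtain ⟨z, hz, -⟩ := Scheme.Pullback.exists_preimage_pullback (f := m.left ≫ k.left) (g := φ) x
      (IsLocalRing.closedPoint _) (W.left.fromSpecResidueField_apply w _).symm
    have := Groth.Agent.FlatH4.flat_of_flat_fibreMapAt' m.left k.left φ z
      (Flat.stalkMap _ _) (Flat.stalkMap (f := Groth.Agent.FlatH4.fibreMapAt' m.left k.left φ) z)
    exact Groth.Agent.FlatH4.flat_stalkMap_of_eq m.left hz this
  refine ⟨locP_of_one_chart a b m hae has hbe wf hm, fun hs => ?_⟩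
  refine locP_of_one_chart b c k hbe hbs hce wg (Flat.of_stalkMap _ fun v => ?_)
  have haf : RepWith @Surjective (a ≫ f.hom) :=
    repWith_surjective_of_map (Y.property.representable_from_yon _) fun y => by
      obtain ⟨x, rfl⟩ := hs y
      obtain ⟨u, rfl⟩ := surjective_map_of_repWith has x
      exact ⟨u, Points.map_comp _ _ u⟩
  have sq := haf.1.isPullback' b
  have hsurj : Surjective (haf.1.snd b).left := haf.2 b _ _ (haf.1.isPullback b)
  obtain ⟨u, rfl⟩ := (haf.1.snd b).left.surjective v
  have hae' : RepWith @Etale ((yon S).map (haf.1.fst' b) ≫ a) :=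
    repWith_comp (repWith_of_isPullback sq.flip hbe) hae
  have w1 : ((yon S).map (haf.1.fst' b) ≫ a) ≫ f.hom = (yon S).map (haf.1.snd b) ≫ b := by
    rw [Category.assoc]; exact sq.w
  have h1 : Flat (haf.1.snd b).left :=
    (locP_of_one_chart a b m hae has hbe wf hm) _ b (haf.1.snd b) hae' hbe w1
  have h2 : Flat ((haf.1.snd b).left ≫ k.left) := hfl _ c (haf.1.snd b ≫ k) hae' hce (by
    show _ ≫ f.hom ≫ h.hom = _
    rw [← Category.assoc, w1, Functor.map_comp, Category.assoc, Category.assoc, wg])
  exact Groth.Agent.FlatH4.flat_stalkMap_of_comp_of_flat _ _ u (Flat.stalkMap _ u) (Flat.stalkMap _ u)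

end Groth.Agent.S10603
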