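import Groth.Statements.S10605
import Groth.Agent.Lib.AlgSpDescent.RepBase2
-- import your own Groth.Agent.* helpers here

set_option autoImplicit false
universe u
open CategoryTheory CategoryTheory.Limits AlgebraicGeometry
open AlgSp

namespace Groth.Agent.S10605

/-- The property of a morphism of algebraic spaces over S of being a thickening (representable, every
base change to a scheme a surjective closed immersion) is local on the base for the fpqc topology.
(The published statement also claims the same for first order thickenings; this row states only the
thickening clause.) -/
theorem result {S : Scheme.{u}} :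
    AlgSp.IsLocalOnBase (S := S) AlgSp.IsFpqcCover
      AlgSp.IsThickMor := by
  have := Groth.Agent.FpqcDesc.descendsAlong_isClosedImmersion.{u}
  have := MorphismProperty.IsStableUnderBaseChange.inf (P := @IsClosedImmersion.{u}) (Q := @Surjective)
  have : (AlgSp.thick.{u}).IsStableUnderBaseChange := inferInstance
  have : IsZariskiLocalAtTarget (AlgSp.thick.{u}) := by
    unfold AlgSp.thick; infer_instance
  have : (AlgSp.thick.{u}).DescendsAlong (@Surjective ⊓ @Flat ⊓ @QuasiCompact) := by
    unfold AlgSp.thick
    exact Groth.Agent.AlgSpDescent.descendsAlong_inf
  exact Groth.Agent.AlgSpDescent.isLocalOnBase_fpqc_repWith_sepLqf _ fun _ _ j hj =>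
    have := hj.1; Groth.Agent.AlgSpDescent.sepLqf_of_isImmersion j

end Groth.Agent.S10605
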