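import Groth.Statements.S9993
import Groth.Agent.Lib.AlgSpRel14.Nbhd

set_option autoImplicit false
universe u
open CategoryTheory CategoryTheory.Limits AlgebraicGeometry
open AlgSp

set_option backward.isDefEq.respectTransparency.types false

namespace Groth.Agent.S9993

/-- A morphism f : X ⟶ Y of algebraic spaces has P at the point x in the neighbourhood sense (some chart
diagram through x whose top arrow has P on an open neighbourhood of the chosen point) if and only if
some open subspace X' of X through x has its restriction X' ⟶ Y in the class P etale locally on the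
source and target. -/
theorem result {S : Scheme.{u}} (P : MorphismProperty Scheme.{u})
    (hP : P = @LocallyOfFiniteType ∨ P = @LocallyOfFinitePresentation ∨ P = @Flat ∨ P = @Smooth ∨ P = @Etale ∨
      (∀ ⦃A B : Scheme.{u}⦄ (g : A ⟶ B), P g ↔ (LocallyQuasiFinite g ∧ LocallyOfFiniteType g)) ∨
      (∀ ⦃A B : Scheme.{u}⦄ (g : A ⟶ B), P g ↔ (LocallyOfFiniteType g ∧ FormallyUnramified g)))
    {X Y : AlgSp.Space S} (f : X ⟶ Y) (x : AlgSp.Points X.obj) :
    AlgSp.HasAtMor (fun U _ h u => ∃ W : U.Opens, u ∈ W ∧ P (W.ι ≫ h)) f.hom x ↔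
      ∃ (X' : AlgSp.Space S) (j : X' ⟶ X), AlgSp.RepWith @IsOpenImmersion j.hom ∧
        x ∈ Set.range (AlgSp.Points.map j.hom) ∧ AlgSp.LocP P (j ≫ f).hom := by
  have := Groth.Agent.AlgSpace.etaleLocal_of_cases hP
  have : IsZariskiLocalAtSource P := by
    rcases hP with rfl | rfl | rfl | rfl | rfl | h | h
    iterate 5 infer_instance
    · obtain rfl : P = (@LocallyQuasiFinite ⊓ @LocallyOfFiniteType : MorphismProperty Scheme.{u}) := by
        ext A B g; exact h g
      infer_instance
    · obtain rfl : P = (@LocallyOfFiniteType ⊓ @FormallyUnramified : MorphismProperty Scheme.{u}) := by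
        ext A B g; exact h g
      infer_instance
  change AlgSp.HasAtMor (AlgSpRel14.Near P) f.hom x ↔ _
  constructor
  · intro hx
    obtain ⟨X', j, hj, hr⟩ := AlgSpRel14.exists_open_space X
      (AlgSpRel14.isOpen_setOf_hasAtMor_near P X.property Y.property f.hom)
    refine ⟨X', j, hj, hr.symm ▸ hx, ?_⟩
    rw [AlgSpRel14.locP_iff_forall_hasAtMor_near P X'.property Y.property]
    intro y
    rw [show (j ≫ f).hom = j.hom ≫ f.hom from rfl, AlgSpRel14.hasAtMor_near_comp_openImmersion P X'.property Y.property hj]
    exact hr.subset ⟨y, rfl⟩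
  · rintro ⟨X', j, hj, ⟨y, rfl⟩, hloc⟩
    exact (AlgSpRel14.hasAtMor_near_comp_openImmersion P X'.property Y.property hj f.hom y).1
      ((AlgSpRel14.locP_iff_forall_hasAtMor_near P X'.property Y.property _).1 hloc y)

end Groth.Agent.S9993
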