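import Groth.Statements.S10608
import Groth.Agent.Lib.SmoothLift15.SmallExtSpace
import Groth.Agent.S9993
-- import your own Groth.Agent.* helpers here

set_option autoImplicit false
universe u
open CategoryTheory CategoryTheory.Limits AlgebraicGeometry
open AlgSp

namespace Groth.Agent.S10608

/-- Take a morphism f : X ⟶ Y of algebraic spaces over S that is locally of finite type, with Y locally
Noetherian, and let x be a point of X. The following are equivalent: (1) f is smooth at x (in some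
chart diagram through x the chart morphism is smooth on an open neighbourhood); (2) for every
surjection π : B' → B of local rings with kernel of square zero, every structure map Spec B' ⟶ S,
every α : Spec B ⟶ X sending the closed point to x and every β : Spec B' ⟶ Y with α ≫ f = Spec(π) ≫
β there is γ : Spec B' ⟶ X with Spec(π) ≫ γ = α and γ ≫ f = β; (3) the same for π ranging over
surjections of Artinian local rings with kernel principal and killed by the maximal ideal. Stated as
(1) ↔ (2) and (1) ↔ (3). -/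
theorem result {S : Scheme.{u}} {X Y : AlgSp.Space S} (f : X ⟶ Y)
    (hY : AlgSp.IsLocNoethSp Y.obj) (hft : AlgSp.LocP @LocallyOfFiniteType f.hom) (x : AlgSp.Points X.obj) :
    (AlgSp.HasAtMor (fun U _ h u => ∃ W : U.Opens, u ∈ W ∧ Smooth (W.ι ≫ h)) f.hom x ↔
      ∀ (B' B : Type u) [CommRing B'] [CommRing B] [IsLocalRing B'] [IsLocalRing B] (π : B' →+* B),
        Function.Surjective π → RingHom.ker π ^ 2 = ⊥ →
        ∀ (s : Spec (CommRingCat.of B') ⟶ S)
          (α : (AlgSp.yon S).obj (Over.mk (Spec.map (CommRingCat.ofHom π) ≫ s)) ⟶ X.obj)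
          (β : (AlgSp.yon S).obj (Over.mk s) ⟶ Y.obj),
          AlgSp.Points.ofPt α (IsLocalRing.closedPoint B) = x →
          α ≫ f.hom = (AlgSp.yon S).map
            (Over.homMk (Spec.map (CommRingCat.ofHom π)) :
              Over.mk (Spec.map (CommRingCat.ofHom π) ≫ s) ⟶ Over.mk s) ≫ β →
          ∃ γ : (AlgSp.yon S).obj (Over.mk s) ⟶ X.obj,
            (AlgSp.yon S).map (Over.homMk (Spec.map (CommRingCat.ofHom π)) :
              Over.mk (Spec.map (CommRingCat.ofHom π) ≫ s) ⟶ Over.mk s) ≫ γ = α ∧ γ ≫ f.hom = β) ∧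
    (AlgSp.HasAtMor (fun U _ h u => ∃ W : U.Opens, u ∈ W ∧ Smooth (W.ι ≫ h)) f.hom x ↔
      ∀ (B' B : Type u) [CommRing B'] [CommRing B] [IsLocalRing B'] [IsLocalRing B]
        [IsArtinianRing B'] [IsArtinianRing B] (π : B' →+* B), Function.Surjective π →
        (∃ t : B', RingHom.ker π = Ideal.span {t} ∧ ∀ a ∈ IsLocalRing.maximalIdeal B', a * t = 0) →
        ∀ (s : Spec (CommRingCat.of B') ⟶ S)
          (α : (AlgSp.yon S).obj (Over.mk (Spec.map (CommRingCat.ofHom π) ≫ s)) ⟶ X.obj)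
          (β : (AlgSp.yon S).obj (Over.mk s) ⟶ Y.obj),
          AlgSp.Points.ofPt α (IsLocalRing.closedPoint B) = x →
          α ≫ f.hom = (AlgSp.yon S).map
            (Over.homMk (Spec.map (CommRingCat.ofHom π)) :
              Over.mk (Spec.map (CommRingCat.ofHom π) ≫ s) ⟶ Over.mk s) ≫ β →
          ∃ γ : (AlgSp.yon S).obj (Over.mk s) ⟶ X.obj,
            (AlgSp.yon S).map (Over.homMk (Spec.map (CommRingCat.ofHom π)) :
              Over.mk (Spec.map (CommRingCat.ofHom π) ≫ s) ⟶ Over.mk s) ≫ γ = α ∧ γ ≫ f.hom = β) := by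

  have fwd : AlgSp.HasAtMor (fun U _ h u => ∃ W : U.Opens, u ∈ W ∧ Smooth (W.ι ≫ h)) f.hom x →
      ∀ (B' B : Type u) [CommRing B'] [CommRing B] [IsLocalRing B'] [IsLocalRing B] (π : B' →+* B),
        Function.Surjective π → RingHom.ker π ^ 2 = ⊥ →
        ∀ (s : Spec (CommRingCat.of B') ⟶ S)
          (α : (AlgSp.yon S).obj (Over.mk (Spec.map (CommRingCat.ofHom π) ≫ s)) ⟶ X.obj)
          (β : (AlgSp.yon S).obj (Over.mk s) ⟶ Y.obj),
          AlgSp.Points.ofPt α (IsLocalRing.closedPoint B) = x →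
          α ≫ f.hom = (AlgSp.yon S).map (Groth.Agent.SmoothLift15.piHom π s) ≫ β →
          ∃ γ : (AlgSp.yon S).obj (Over.mk s) ⟶ X.obj,
            (AlgSp.yon S).map (Groth.Agent.SmoothLift15.piHom π s) ≫ γ = α ∧ γ ≫ f.hom = β := by
    intro hx B' B _ _ _ _ π hπ hsq s α β hα w
    obtain ⟨X', j, hj, hxj, hloc⟩ :=
      (Groth.Agent.S9993.result @Smooth (Or.inr (Or.inr (Or.inr (Or.inl rfl)))) f x).1 hx
    obtain ⟨g, hg⟩ := Groth.Agent.SmoothLift15.exists_factor_local hj α (hα.symm ▸ hxj)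
    obtain ⟨γ, h1, h2⟩ := Groth.Agent.SmoothLift15.exists_lift_of_surjective_mor
      (Groth.Agent.SmoothLift15.isFormallySmoothMor_of_locP_smooth X'.property Y.property (j.hom ≫ f.hom) hloc)
      π hπ hsq s g β (by rw [← Category.assoc, hg]; exact w)
    exact ⟨γ ≫ j.hom, by rw [← Category.assoc, h1, hg], by rw [Category.assoc, h2]⟩
  have bwd : (∀ (B' B : Type u) [CommRing B'] [CommRing B] [IsLocalRing B'] [IsLocalRing B]
        [IsArtinianRing B'] [IsArtinianRing B] (π : B' →+* B), Function.Surjective π →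
        (∃ t : B', RingHom.ker π = Ideal.span {t} ∧ ∀ a ∈ IsLocalRing.maximalIdeal B', a * t = 0) →
        ∀ (s : Spec (CommRingCat.of B') ⟶ S)
          (α : (AlgSp.yon S).obj (Over.mk (Spec.map (CommRingCat.ofHom π) ≫ s)) ⟶ X.obj)
          (β : (AlgSp.yon S).obj (Over.mk s) ⟶ Y.obj),
          AlgSp.Points.ofPt α (IsLocalRing.closedPoint B) = x →
          α ≫ f.hom = (AlgSp.yon S).map (Groth.Agent.SmoothLift15.piHom π s) ≫ β →
          ∃ γ : (AlgSp.yon S).obj (Over.mk s) ⟶ X.obj,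
            (AlgSp.yon S).map (Groth.Agent.SmoothLift15.piHom π s) ≫ γ = α ∧ γ ≫ f.hom = β) →
      AlgSp.HasAtMor (fun U _ h u => ∃ W : U.Opens, u ∈ W ∧ Smooth (W.ι ≫ h)) f.hom x := by
    intro H
    obtain ⟨U, V, a, b, h, ha, has, hb, _, w⟩ :=
      Groth.Agent.SmoothLift15.exists_noetherian_chart X.property Y.property f.hom hY
    have : LocallyOfFiniteType h.left := hft a b h ha hb w
    obtain ⟨u, hu⟩ := Groth.Agent.AlgSpace.surjective_ofPt has x
    refine ⟨U, V, a, b, h, u, ha, hb, w, hu, Groth.Agent.SmoothLift15.exists_smooth_nbhd_of_lifts h.left u ?_⟩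
    refine Groth.Agent.SmoothLift15.smallLiftsPt_chart Y.property ha hb w u False ?_
    intro A _ _ _ t ht _ s α β hα _ wsq
    exact H A (A ⧸ Ideal.span {t}) (Ideal.Quotient.mk _) Ideal.Quotient.mk_surjective
      ⟨t, Ideal.mk_ker, ht⟩ s α β (hα.trans hu) wsq
  refine ⟨⟨fwd, fun H => bwd ?_⟩, ⟨?_, bwd⟩⟩
  · intro B' B _ _ _ _ _ _ π hπ hk
    exact H B' B π hπ (Groth.Agent.SmoothLift15.ker_sq_of_small π hk)
  · intro hx B' B _ _ _ _ _ _ π hπ hk
    exact fwd hx B' B π hπ (Groth.Agent.SmoothLift15.ker_sq_of_small π hk)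

end Groth.Agent.S10608
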