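import Groth.Statements.S10612
import Groth.Agent.Lib.NormEt14.Descend

set_option autoImplicit false
universe u
open CategoryTheory CategoryTheory.Limits AlgebraicGeometry
open AlgSp

namespace Groth.Agent.S10612

open Groth.Agent.NormEt14 Groth.Agent.AlgSpDescent Groth.Agent.AlgSpace


/-- Normalization commutes with smooth base change. Let f₁ : Y₁ ⟶ X₁ be a quasi-compact and
quasi-separated morphism of algebraic spaces over S, φ : X₂ ⟶ X₁ a smooth morphism, Y₂ = X₂ ×_{X₁}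
Y₁ with projection f₂ : Y₂ ⟶ X₂, and Y₁ ⟶ X₁' ⟶ X₁ the normalization of X₁ in Y₁. Then the base
change P = X₂ ×_{X₁} X₁' ⟶ X₂ together with the induced morphism Y₂ ⟶ P is the normalization of X₂
in Y₂ (all fibre products as pullback squares of fppf sheaves with algebraic corners). -/
theorem result {S : Scheme.{u}} {X₁ X₂ Y₁ Y₂ X₁' P : AlgSp.Space S}
    (f₁ : Y₁ ⟶ X₁) (φ : X₂ ⟶ X₁) (f₂ : Y₂ ⟶ X₂) (ψ : Y₂ ⟶ Y₁) (hsq : IsPullback ψ.hom f₂.hom f₁.hom φ.hom)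
    (hqc : AlgSp.IsQuasiCompactMor f₁.hom) (hqs : AlgSp.IsQuasiSeparatedMor f₁.hom) (hφ : AlgSp.LocP @Smooth φ.hom)
    (ν₁ : X₁' ⟶ X₁) (f₁' : Y₁ ⟶ X₁') (hn : AlgSp.IsRelNormalization f₁.hom ν₁.hom f₁'.hom)
    (ν₂ : P ⟶ X₂) (ρ : P ⟶ X₁') (hP : IsPullback ρ.hom ν₂.hom ν₁.hom φ.hom)
    (f₂' : Y₂ ⟶ P) (w₁ : f₂' ≫ ν₂ = f₂) (w₂ : f₂' ≫ ρ = ψ ≫ f₁') :
    AlgSp.IsRelNormalization f₂.hom ν₂.hom f₂'.hom := by
  have hqc₂ := isQuasiCompactMor_of_isPullback hsq hqc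
  have hqs₂ := isQuasiSeparatedMor_of_isPullback hsq hqs
  exact isRelNormalization_of_isLocNorm Y₂.property X₂.property hqc₂ hqs₂
    (isLocNorm_baseChange Y₁.property X₁.property X₂.property hqc hqs
      (isLocNorm_of_isRelNormalization f₁.hom Y₁.property X₁.property hqc hqs X₁'.property hn) hφ hsq hP
      (congrArg (fun k => k.hom) w₁) (congrArg (fun k => k.hom) w₂))

end Groth.Agent.S10612
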