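import Groth.Statements.S10613
import Groth.Agent.Lib.AlgSpDescent.MonoLft
-- import your own Groth.Agent.* helpers here

set_option autoImplicit false
universe u
open CategoryTheory CategoryTheory.Limits AlgebraicGeometry
open AlgSp

namespace Groth.Agent.S10613

/-- For a morphism f : X ⟶ Y of algebraic spaces over S, these four conditions on f are equivalent: (a)
unramified plus monomorphism; (b) unramified plus universally injective; (c) a monomorphism that is
locally of finite type; (d) universally injective, locally of finite type and formally unramified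
(lifting sense). In that case f is representable by schemes, separated and locally quasi-finite.
(Unramified is the etale-local condition locally of finite type and formally unramified on charts;
monomorphisms are taken in fppf sheaves.) -/
theorem result {S : Scheme.{u}} {X Y : AlgSp.Space S} (f : X ⟶ Y) :
    ((AlgSp.LocP (@LocallyOfFiniteType ⊓ @FormallyUnramified) f.hom ∧ Mono f.hom) ↔
      (AlgSp.LocP (@LocallyOfFiniteType ⊓ @FormallyUnramified) f.hom ∧ AlgSp.IsUnivInjectiveMor f.hom)) ∧
    ((AlgSp.LocP (@LocallyOfFiniteType ⊓ @FormallyUnramified) f.hom ∧ Mono f.hom) ↔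
      (AlgSp.LocP @LocallyOfFiniteType f.hom ∧ Mono f.hom)) ∧
    ((AlgSp.LocP (@LocallyOfFiniteType ⊓ @FormallyUnramified) f.hom ∧ Mono f.hom) ↔
      (AlgSp.IsUnivInjectiveMor f.hom ∧ AlgSp.LocP @LocallyOfFiniteType f.hom ∧ AlgSp.IsFormallyUnramifiedMor f.hom)) ∧
    (AlgSp.LocP @LocallyOfFiniteType f.hom ∧ Mono f.hom →
      AlgSp.Representable f.hom ∧ AlgSp.IsSeparatedMor f.hom ∧
        AlgSp.LocP (@LocallyQuasiFinite ⊓ @LocallyOfFiniteType) f.hom) := by
  have hX := X.property
  have hY := Y.property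
  refine ⟨⟨fun ⟨hu, hm⟩ => ⟨hu, Groth.Agent.AlgSpDescent.isUnivInjectiveMor_of_mono f.hom⟩,
      fun ⟨hu, hi⟩ => ⟨hu, Groth.Agent.AlgSpDescent.mono_of_unramified_univInjective hX hY hu hi⟩⟩,
    ⟨fun ⟨hu, hm⟩ => ⟨fun U V a b h ha hb w => (hu a b h ha hb w).1, hm⟩,
      fun ⟨hf, hm⟩ => ⟨Groth.Agent.AlgSpDescent.unramified_of_mono hX hY hf, hm⟩⟩,
    ⟨fun ⟨hu, hm⟩ => ⟨Groth.Agent.AlgSpDescent.isUnivInjectiveMor_of_mono f.hom,
        fun U V a b h ha hb w => (hu a b h ha hb w).1,
        Groth.Agent.AlgSpDescent.formallyUnramified_of_mono f.hom⟩,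
      fun ⟨hi, hf, hu⟩ => ?_⟩, fun ⟨hf, hm⟩ => ?_⟩
  · have h := Groth.Agent.AlgSpDescent.unramified_of_lft_formallyUnramified hX hY hf hu
    exact ⟨h, Groth.Agent.AlgSpDescent.mono_of_unramified_univInjective hX hY h hi⟩
  · exact ⟨Groth.Agent.AlgSpDescent.representable_of_mono_lft hX hY hf,
      Groth.Agent.AlgSpace.repWith_diagonal_of_mono f.hom,
      Groth.Agent.AlgSpDescent.lqf_of_mono_lft hX hY hf⟩

end Groth.Agent.S10613
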