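import Groth.Statements.S10614
import Groth.Agent.Lib.AlgSpDescent.MonoLft
-- import your own Groth.Agent.* helpers here

set_option autoImplicit false
universe u
open CategoryTheory CategoryTheory.Limits AlgebraicGeometry
open AlgSp

namespace Groth.Agent.S10614

/-- For a morphism f : X ⟶ Y of algebraic spaces over S, being a closed immersion (representable by
closed immersions) is equivalent to each of: (a) universally closed plus unramified plus
monomorphism; (b) universally closed plus unramified plus universally injective; (c) a universally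
closed monomorphism that is locally of finite type; (d) universally closed, universally injective,
locally of finite type and formally unramified (lifting sense). (Unramified is the etale-local
condition locally of finite type and formally unramified on charts; monomorphisms are taken in fppf
sheaves.) -/
theorem result {S : Scheme.{u}} {X Y : AlgSp.Space S} (f : X ⟶ Y) :
    (AlgSp.RepWith @IsClosedImmersion f.hom ↔
      (AlgSp.IsUnivClosedMor f.hom ∧ AlgSp.LocP (@LocallyOfFiniteType ⊓ @FormallyUnramified) f.hom ∧ Mono f.hom)) ∧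
    (AlgSp.RepWith @IsClosedImmersion f.hom ↔
      (AlgSp.IsUnivClosedMor f.hom ∧ AlgSp.LocP (@LocallyOfFiniteType ⊓ @FormallyUnramified) f.hom ∧ AlgSp.IsUnivInjectiveMor f.hom)) ∧
    (AlgSp.RepWith @IsClosedImmersion f.hom ↔
      (AlgSp.IsUnivClosedMor f.hom ∧ AlgSp.LocP @LocallyOfFiniteType f.hom ∧ Mono f.hom)) ∧
    (AlgSp.RepWith @IsClosedImmersion f.hom ↔
      (AlgSp.IsUnivClosedMor f.hom ∧ AlgSp.IsUnivInjectiveMor f.hom ∧ AlgSp.LocP @LocallyOfFiniteType f.hom ∧
        AlgSp.IsFormallyUnramifiedMor f.hom)) := by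
  have hX := X.property
  have hY := Y.property
  have fwd : AlgSp.RepWith @IsClosedImmersion f.hom →
      AlgSp.IsUnivClosedMor f.hom ∧ Mono f.hom ∧ AlgSp.LocP @LocallyOfFiniteType f.hom := fun h =>
    ⟨Groth.Agent.AlgSpace.isUnivClosedMor_of_repWith_closedImmersion h,
      Groth.Agent.AlgSpDescent.mono_of_repWith_closedImmersion h,
      Groth.Agent.AlgSpDescent.lft_of_repWith_closedImmersion hY h⟩
  refine ⟨⟨fun h => ?_, fun ⟨hc, hu, hm⟩ => ?_⟩, ⟨fun h => ?_, fun ⟨hc, hu, hi⟩ => ?_⟩,
    ⟨fun h => ?_, fun ⟨hc, hf, hm⟩ =>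
      Groth.Agent.AlgSpDescent.repWith_closedImmersion_of_univClosed hX hY hc hf⟩,
    ⟨fun h => ?_, fun ⟨hc, hi, hf, hu⟩ => ?_⟩⟩
  · obtain ⟨h1, hm, h2⟩ := fwd h
    exact ⟨h1, Groth.Agent.AlgSpDescent.unramified_of_mono hX hY h2, hm⟩
  · exact Groth.Agent.AlgSpDescent.repWith_closedImmersion_of_univClosed hX hY hc
      fun U V a b h ha hb w => (hu a b h ha hb w).1
  · obtain ⟨h1, hm, h2⟩ := fwd h
    exact ⟨h1, Groth.Agent.AlgSpDescent.unramified_of_mono hX hY h2,
      Groth.Agent.AlgSpDescent.isUnivInjectiveMor_of_mono f.hom⟩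
  · have := Groth.Agent.AlgSpDescent.mono_of_unramified_univInjective hX hY hu hi
    exact Groth.Agent.AlgSpDescent.repWith_closedImmersion_of_univClosed hX hY hc
      fun U V a b h ha hb w => (hu a b h ha hb w).1
  · obtain ⟨h1, hm, h2⟩ := fwd h
    exact ⟨h1, h2, hm⟩
  · obtain ⟨h1, hm, h2⟩ := fwd h
    exact ⟨h1, Groth.Agent.AlgSpDescent.isUnivInjectiveMor_of_mono f.hom, h2,
      Groth.Agent.AlgSpDescent.formallyUnramified_of_mono f.hom⟩
  · have h := Groth.Agent.AlgSpDescent.unramified_of_lft_formallyUnramified hX hY hf hu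
    have := Groth.Agent.AlgSpDescent.mono_of_unramified_univInjective hX hY h hi
    exact Groth.Agent.AlgSpDescent.repWith_closedImmersion_of_univClosed hX hY hc hf

end Groth.Agent.S10614
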