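import Groth.Statements.S1062
import Groth.Agent.Lib.DQC.Tensor
-- import your own Groth.Agent.* helpers here

set_option autoImplicit false
universe u
open CategoryTheory CategoryTheory.Limits AlgebraicGeometry Opposite
attribute [local instance] HasDerivedCategory.standard
open Perf

namespace Groth.Agent.S1062

/-- Let X be a scheme, E ∈ D(O_X) with quasi-coherent cohomology sheaves and F a cochain complex of
O_X-modules whose image in D(O_X) has quasi-coherent cohomology sheaves. Assuming the derived
functor - ⊗^L F exists, E ⊗^L_{O_X} F has quasi-coherent cohomology sheaves. -/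
theorem result (X : Scheme.{u}) (F : CochainComplex X.Modules ℤ) (hF : DCoh.IsQCohD (DCoh.toD X F)) [DCoh.HasLTensorCx F]
    (E : DCoh.D X) (hE : DCoh.IsQCohD E) : DCoh.IsQCohD ((DCoh.LTensorCx F).obj E) := by
  exact DQC.isQCohD_lTensorCx F hF hE

end Groth.Agent.S1062
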