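import Groth.Statements.S10623
import Groth.Agent.Lib.FSmoothCharts27.Space
-- import your own Groth.Agent.* helpers here

set_option autoImplicit false
universe u
open CategoryTheory CategoryTheory.Limits AlgebraicGeometry
open AlgSp

namespace Groth.Agent.S10623

/-- For a morphism f : X ⟶ Y of algebraic spaces over S, these conditions are equivalent: f is formally
smooth (lifting along square-zero thickenings of affine schemes); for every scheme U with a
representable etale U ⟶ X, every scheme V with a representable etale V ⟶ Y and every compatible U ⟶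
V, the morphism of schemes U ⟶ V is formally smooth; and this holds as soon as it holds for one such
diagram in which both charts are moreover surjective. -/
theorem result {S : Scheme.{u}} {X Y : AlgSp.Space S} (f : X ⟶ Y) :
    (AlgSp.IsFormallySmoothMor f.hom ↔ AlgSp.LocP @MoreMor.IsFormallySmoothHom f.hom) ∧
    (∀ (U V : Over S) (a : (AlgSp.yon S).obj U ⟶ X.obj) (b : (AlgSp.yon S).obj V ⟶ Y.obj) (h : U ⟶ V),
      AlgSp.RepWith @Etale a → AlgSp.RepWith @Surjective a → AlgSp.RepWith @Etale b → AlgSp.RepWith @Surjective b →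
      a ≫ f.hom = (AlgSp.yon S).map h ≫ b → MoreMor.IsFormallySmoothHom h.left → AlgSp.IsFormallySmoothMor f.hom) := by
  open Groth.Agent.AlgSpace in
  refine ⟨⟨fun hf U V a b h ha hb w => SmoothLift15.formallySmooth_chart ha hb w hf, fun hf => ?_⟩,
    fun U V a b h ha has hb _ w hh =>
      FSmoothCharts27.isFormallySmoothMor_of_charts f.hom a b h ha has hb w hh⟩
  obtain ⟨U, p, hpe, hps⟩ := X.property.atlas
  obtain ⟨V, q, hqe, hqs⟩ := Y.property.atlas
  have sq := hqe.1.isPullback (p ≫ f.hom)
  obtain ⟨h, hh⟩ := (yon S).map_surjective (hqe.1.fst (p ≫ f.hom))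
  have hse : RepWith @Etale ((yon S).map (hqe.1.snd (p ≫ f.hom))) :=
    Groth.Agent.AlgSpace.repWith_of_isPullback sq hqe
  have hss : RepWith @Surjective ((yon S).map (hqe.1.snd (p ≫ f.hom))) :=
    Groth.Agent.AlgSpace.repWith_of_isPullback sq hqs
  have hae := Groth.Agent.AlgSpace.repWith_comp hse hpe
  have has := Groth.Agent.AlgSpace.repWith_comp hss hps
  have w : ((yon S).map (hqe.1.snd (p ≫ f.hom)) ≫ p) ≫ f.hom = (yon S).map h ≫ q := by
    rw [hh, Category.assoc]
    exact sq.w.symm
  exact FSmoothCharts27.isFormallySmoothMor_of_charts f.hom _ q h hae has hqe w (hf _ q h hae hqe w)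


end Groth.Agent.S10623
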