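import Groth.Statements.S10627
import Groth.Agent.Lib.AlgSpDescent.FormallyLift
import Groth.Agent.Lib.AlgSpDescent.Instances
import Groth.Agent.S1489
-- import your own Groth.Agent.* helpers here

set_option autoImplicit false
universe u
open CategoryTheory CategoryTheory.Limits AlgebraicGeometry
open AlgSp

namespace Groth.Agent.S10627

/-- A morphism f : X ⟶ Y of algebraic spaces over S is etale if and only if it is locally of finite
presentation and formally etale (lifting sense). -/
theorem result {S : Scheme.{u}} {X Y : AlgSp.Space S} (f : X ⟶ Y) :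
    AlgSp.IsEtaleMor f.hom ↔ AlgSp.LocP @LocallyOfFinitePresentation f.hom ∧ AlgSp.IsFormallyEtaleMor f.hom := by
  rw [Groth.Agent.AlgSpDescent.isEtaleMor_iff_locP X.property Y.property,
    Groth.Agent.AlgSpDescent.isFormallyEtaleMor_iff_locP X.property Y.property]
  exact ⟨fun h => ⟨fun U V a b k ha hb w => ((Groth.Agent.S1489.result k.left).1 (h a b k ha hb w)).1,
      fun U V a b k ha hb w => ((Groth.Agent.S1489.result k.left).1 (h a b k ha hb w)).2⟩,
    fun h U V a b k ha hb w => (Groth.Agent.S1489.result k.left).2 ⟨h.1 a b k ha hb w, h.2 a b k ha hb w⟩⟩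

end Groth.Agent.S10627
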