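import Groth.Statements.S10631
import Groth.Agent.Lib.AlgSpDescent.UnivThick
-- import your own Groth.Agent.* helpers here

set_option autoImplicit false
universe u
open CategoryTheory CategoryTheory.Limits AlgebraicGeometry
open AlgSp

namespace Groth.Agent.S10631

/-- Consider morphisms Z ⟶ Y ⟶ X of algebraic spaces over S. If (i : Z ⟶ Z', h' : Z' ⟶ Y) is, over Y, a
universal first order thickening of Z and g : Y ⟶ X is formally etale, then (i, h' ≫ g) is, over X,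
a universal first order thickening of Z. -/
theorem result {S : Scheme.{u}} {Z Z' Y X : AlgSp.Space S} (hZ : Z ⟶ Y) (g : Y ⟶ X)
    (i : Z ⟶ Z') (h' : Z' ⟶ Y) (HU : AlgSp.IsUnivFOThick hZ.hom i.hom h'.hom) (hg : AlgSp.IsFormallyEtaleMor g.hom) :
    AlgSp.IsUnivFOThick (hZ ≫ g).hom i.hom (h' ≫ g).hom := by
  refine ⟨HU.1, congrArg (· ≫ g.hom) HU.2.1 |> fun e => (Category.assoc _ _ _).symm.trans e, ?_⟩
  intro T T' hT hT' j a b hj e
  obtain ⟨l, ⟨hl, hlg⟩, hlu⟩ := Groth.Agent.AlgSpDescent.existsUnique_thick (a := a ≫ hZ.hom) (b := b)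
    hg hj hT' (by rw [Category.assoc]; exact e.symm)
  obtain ⟨a', ⟨ha, hah⟩, hau⟩ := HU.2.2 hT hT' j a l hj hl
  refine ⟨a', ⟨ha, ?_⟩, fun c hc => hau c ⟨hc.1, hlu _ ⟨?_, ?_⟩⟩⟩
  · change a' ≫ h'.hom ≫ g.hom = b
    rw [← Category.assoc, hah, hlg]
  · rw [← Category.assoc, hc.1, Category.assoc, HU.2.1]
  · rw [Category.assoc]; exact hc.2

end Groth.Agent.S10631
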