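import Groth.Statements.S10632
import Groth.Agent.Lib.AlgSpDescent.ThickBC
-- import your own Groth.Agent.* helpers here

set_option autoImplicit false
universe u
open CategoryTheory CategoryTheory.Limits AlgebraicGeometry
open AlgSp

namespace Groth.Agent.S10632

/-- Let e : Z ⟶ Y be an etale morphism of algebraic spaces over S, hY : Y ⟶ X, and let (iY : Y ⟶ Y', hY'
: Y' ⟶ X) be a universal first order thickening of Y over X. Let e' : Z' ⟶ Y' be etale with iZ : Z ⟶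
Z' making Z = Y ×_{Y'} Z' a pullback square. Then (iZ, e' ≫ hY') is a universal first order
thickening of Z over X. -/
theorem result {S : Scheme.{u}} {Z Y Y' Z' X : AlgSp.Space S} (e : Z ⟶ Y)
    (he : AlgSp.IsEtaleMor e.hom) (hY : Y ⟶ X) (iY : Y ⟶ Y') (hY' : Y' ⟶ X)
    (HU : AlgSp.IsUnivFOThick hY.hom iY.hom hY'.hom) (iZ : Z ⟶ Z') (e' : Z' ⟶ Y') (he' : AlgSp.IsEtaleMor e'.hom)
    (sq : IsPullback e.hom iZ.hom iY.hom e'.hom) :
    AlgSp.IsUnivFOThick (e ≫ hY).hom iZ.hom (e' ≫ hY').hom := by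
  have hi := Groth.Agent.AlgSpDescent.isFOThickMor_baseChange HU.1 Y'.property sq
  refine ⟨hi, ?_, ?_⟩
  · change iZ.hom ≫ e'.hom ≫ hY'.hom = e.hom ≫ hY.hom
    rw [← Category.assoc, ← sq.w, Category.assoc, HU.2.1]
  intro T T' hT hT' j a b hj w
  obtain ⟨y, ⟨hy₁, hy₂⟩, hy⟩ := HU.2.2 hT hT' j (a ≫ e.hom) b hj (w.trans (Category.assoc _ _ _).symm)
  obtain ⟨z, ⟨hz₁, hz₂⟩, hz⟩ := Groth.Agent.AlgSpDescent.existsUnique_thick
    (Groth.Agent.AlgSpDescent.formallyEtale_of_isEtaleMor Z'.property he') hj hT'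
    (a := a ≫ iZ.hom) (b := y) (by rw [Category.assoc, ← sq.w, hy₁, Category.assoc])
  refine ⟨z, ⟨hz₁, ?_⟩, fun c hc => hz c ⟨hc.1, hy _ ⟨?_, ?_⟩⟩⟩
  · change z ≫ e'.hom ≫ hY'.hom = b
    rw [← Category.assoc, hz₂, hy₂]
  · rw [← Category.assoc, hc.1, Category.assoc, ← sq.w, Category.assoc]
  · rw [Category.assoc]; exact hc.2

end Groth.Agent.S10632
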