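import Groth.Statements.S10633
import Groth.Agent.Lib.AlgSpDescent.UnivDescend
-- import your own Groth.Agent.* helpers here

set_option autoImplicit false
universe u
open CategoryTheory CategoryTheory.Limits AlgebraicGeometry
open AlgSp

namespace Groth.Agent.S10633

/-- Let e : Z ⟶ Y be a surjective etale morphism of algebraic spaces over S, hY : Y ⟶ X, and let (Z ⊂
Z') ⟶ (Y ⊂ Y') be an etale morphism of first order thickenings over X: iZ : Z ⟶ Z' and iY : Y ⟶ Y'
first order thickenings, f' : Z' ⟶ Y' etale with iZ ≫ f' = e ≫ iY, hY' : Y' ⟶ X with iY ≫ hY' = hY.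
If (iZ, f' ≫ hY') is a universal first order thickening of Z over X, then (iY, hY') is a universal
first order thickening of Y over X. -/
theorem result {S : Scheme.{u}} {Z Y Z' Y' X : AlgSp.Space S} (e : Z ⟶ Y)
    (he : AlgSp.IsEtaleMor e.hom) (hes : AlgSp.IsSurjectiveMor e.hom) (hY : Y ⟶ X)
    (iZ : Z ⟶ Z') (iY : Y ⟶ Y') (hiZ : AlgSp.IsFOThickMor iZ.hom) (hiY : AlgSp.IsFOThickMor iY.hom)
    (f' : Z' ⟶ Y') (hf' : AlgSp.IsEtaleMor f'.hom) (w : iZ ≫ f' = e ≫ iY) (hY' : Y' ⟶ X) (w' : iY ≫ hY' = hY)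
    (HU : AlgSp.IsUnivFOThick (e ≫ hY).hom iZ.hom (f' ≫ hY').hom) :
    AlgSp.IsUnivFOThick hY.hom iY.hom hY'.hom := by
  exact Groth.Agent.AlgSpDescent.isUnivFOThick_descend Z.property Y.property Z'.property Y'.property
    X.property he hes hiY hf' (congrArg InducedCategory.Hom.hom w) (congrArg InducedCategory.Hom.hom w') HU

end Groth.Agent.S10633
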