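import Groth.Statements.S10638
import Groth.Agent.S10586
import Groth.Agent.S10632
import Groth.Agent.S10637
import Groth.Agent.Lib.AlgSpDescent.Instances
import Groth.Agent.Lib.AlgSpDescent.FormallyLift
-- import your own Groth.Agent.* helpers here

set_option autoImplicit false
universe u
open CategoryTheory CategoryTheory.Limits AlgebraicGeometry
open AlgSp

namespace Groth.Agent.S10638

open CategoryTheory.Limits
open AlgSp in
theorem isEtaleMor_comp' {S : Scheme.{u}} {A B C : Sp S} {f : A ⟶ B} {g : B ⟶ C} (hf : IsEtaleMor f)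
    (hg : IsEtaleMor g) : IsEtaleMor (f ≫ g) := fun _ φ hφ => by
  rw [← Category.assoc]; exact hg _ (hf φ hφ)

open AlgSp in
theorem isEtaleMor_baseChange' {S : Scheme.{u}} {X Y X' Y' : Sp S} (hX : IsAlgSpace X) (hY : IsAlgSpace Y)
    (hX' : IsAlgSpace X') (hY' : IsAlgSpace Y') {fst : X' ⟶ X} {f' : X' ⟶ Y'} {f : X ⟶ Y} {g : Y' ⟶ Y}
    (sq : IsPullback fst f' f g) (hf : IsEtaleMor f) : IsEtaleMor f' :=
  AlgSpDescent.isEtaleMor_of_locP_etale hX' hY'
    (AlgSpace.locP_of_isPullback hX hY hY' sq (AlgSpDescent.locP_etale_of_isEtaleMor hf))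

open AlgSp in
/-- An étale cover of a thickened space pulls back from one of the thickening. -/
theorem exists_etale_chart_thick {S : Scheme.{u}} {V V' : AlgSp.Space S} (i : V ⟶ V')
    (hi : AlgSp.IsThickMor i.hom) {U : Over S} (φ : (yon S).obj U ⟶ V.obj) (hφ : RepWith @Etale φ) :
    ∃ (E : Over S) (φ' : (yon S).obj E ⟶ V'.obj) (π : U ⟶ E), RepWith @Etale φ' ∧
      IsPullback φ ((yon S).map π) i.hom φ' := by
  haveI := S10586.result i hi
  let E := (AlgSp.EtOver.bc hi.1).objPreimage (EtOver.mk φ hφ)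
  let η := (AlgSp.EtOver.bc hi.1).objObjPreimageIso (EtOver.mk φ hφ)
  let e : ((AlgSp.EtOver.bc hi.1).obj E).obj.left ≅ U := (EtOver.forget V.obj).mapIso η
  refine ⟨E.obj.left, E.obj.hom, e.inv ≫ EtOver.bcπ hi.1 E, E.property, ?_⟩
  refine (EtOver.isPullback_bcObj hi.1 E).of_iso ((yon S).mapIso e) (Iso.refl _) (Iso.refl _) (Iso.refl _)
    ?_ ?_ (by simp) (by simp)
  · rw [Iso.refl_hom, Category.comp_id]
    exact (EtOver.w η.hom).symm
  · rw [Iso.refl_hom, Category.comp_id, Functor.mapIso_hom, ← Functor.map_comp]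
    exact congrArg (yon S).map (e.hom_inv_id_assoc _).symm

open AlgSp in
/-- Two universal thickenings of the same morphism are isomorphic. -/
theorem exists_iso_univ {S : Scheme.{u}} {A U Z₀ Z₁ : Sp S} (hA : IsAlgSpace A) (hZ₀ : IsAlgSpace Z₀)
    (hZ₁ : IsAlgSpace Z₁) {a : A ⟶ U} {i₀ : A ⟶ Z₀} {p₀ : Z₀ ⟶ U} {i₁ : A ⟶ Z₁} {p₁ : Z₁ ⟶ U}
    (H₀ : IsUnivFOThick a i₀ p₀) (H₁ : IsUnivFOThick a i₁ p₁) :
    ∃ g : Z₀ ⟶ Z₁, i₀ ≫ g = i₁ ∧ g ≫ p₁ = p₀ ∧ IsIso g := by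
  obtain ⟨g, ⟨hg₁, hg₂⟩, -⟩ := H₁.2.2 hA hZ₀ i₀ (𝟙 _) p₀ H₀.1 (by rw [Category.id_comp]; exact H₀.2.1)
  obtain ⟨g', ⟨hg'₁, hg'₂⟩, -⟩ := H₀.2.2 hA hZ₁ i₁ (𝟙 _) p₁ H₁.1 (by rw [Category.id_comp]; exact H₁.2.1)
  rw [Category.id_comp] at hg₁ hg'₁
  have hgg : g ≫ g' = 𝟙 _ := (H₀.2.2 hA hZ₀ i₀ (𝟙 _) p₀ H₀.1 (by rw [Category.id_comp]; exact H₀.2.1)).unique
    ⟨by rw [← Category.assoc, hg₁, hg'₁, Category.id_comp], by rw [Category.assoc, hg'₂, hg₂]⟩
    ⟨by rw [Category.comp_id, Category.id_comp], Category.id_comp _⟩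
  have hg'g : g' ≫ g = 𝟙 _ := (H₁.2.2 hA hZ₁ i₁ (𝟙 _) p₁ H₁.1 (by rw [Category.id_comp]; exact H₁.2.1)).unique
    ⟨by rw [← Category.assoc, hg'₁, hg₁, Category.id_comp], by rw [Category.assoc, hg₂, hg'₂]⟩
    ⟨by rw [Category.comp_id, Category.id_comp], Category.id_comp _⟩
  exact ⟨g, hg₁, hg₂, g', hgg, hg'g⟩

open AlgSp in
/-- A morphism surjective after pulling back along a thickening is surjective. -/
theorem surjective_of_thick {S : Scheme.{u}} {V V' : AlgSp.Space S} (i : V ⟶ V')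
    (hi : AlgSp.IsThickMor i.hom) {U E : Over S} {φ : (yon S).obj U ⟶ V.obj} {φ' : (yon S).obj E ⟶ V'.obj}
    (hφ' : RepWith @Etale φ') {π : U ⟶ E} (sq : IsPullback φ ((yon S).map π) i.hom φ')
    (hs : RepWith @Surjective φ) : RepWith @Surjective φ' := by
  refine AlgSpace.repWith_mk fun T g => ⟨_, hφ'.1.fst g, hφ'.1.snd g, hφ'.1.isPullback g, ?_⟩
  let j := hi.1.snd g
  let a₁ := hi.1.fst g
  haveI hj : Surjective j.left := (hi.2 g _ _ (hi.1.isPullback g)).2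
  let r := hs.1.snd a₁
  haveI hr : Surjective r.left := hs.2 a₁ _ _ (hs.1.isPullback a₁)
  have sqQ := hφ'.1.isPullback g
  let l : hs.1.pullback a₁ ⟶ hφ'.1.pullback g := (yon S).preimage (sqQ.lift
    (hs.1.fst a₁ ≫ (yon S).map π) ((yon S).map (r ≫ j)) (by
      rw [Category.assoc, ← sq.w, ← Category.assoc, hs.1.w, Functor.map_comp, Category.assoc, Category.assoc]
      exact congrArg (fun m => (yon S).map r ≫ m) (hi.1.w g)))
  have hl : l ≫ hφ'.1.snd g = r ≫ j := (yon S).map_injective (by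
    rw [Functor.map_comp, (yon S).map_preimage, sqQ.lift_snd])
  haveI : Surjective (l.left ≫ (hφ'.1.snd g).left) := by
    rw [← Over.comp_left, hl, Over.comp_left]; infer_instance
  exact Surjective.of_comp l.left _


set_option linter.style.haveILetI false
set_option backward.isDefEq.respectTransparency.types false


/-- Take a formally unramified morphism h : Z ⟶ X of algebraic spaces over S with universal first order
thickening (iZ : Z ⟶ Z', hZ' : Z' ⟶ X). Let v : V ⟶ Z and w : U ⟶ X be etale morphisms of algebraic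
spaces and ψ : V ⟶ U with ψ ≫ w = v ≫ h. Then ψ is formally unramified, and for a universal first
order thickening (iV : V ⟶ V', hV' : V' ⟶ U) of V over U, every e' : V' ⟶ Z' with iV ≫ e' = v ≫ iZ
and e' ≫ hZ' = hV' ≫ w (there is exactly one) is etale. (The published statement also identifies the
conormal sheaf of V over U with the restriction of that of Z over X; this row omits that clause.) -/
theorem result {S : Scheme.{u}} {Z X Z' V U V' : AlgSp.Space S} (h : Z ⟶ X)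
    (hh : AlgSp.IsFormallyUnramifiedMor h.hom) (iZ : Z ⟶ Z') (hZ' : Z' ⟶ X) (HZ : AlgSp.IsUnivFOThick h.hom iZ.hom hZ'.hom)
    (v : V ⟶ Z) (w : U ⟶ X) (hv : AlgSp.IsEtaleMor v.hom) (hw : AlgSp.IsEtaleMor w.hom) (ψ : V ⟶ U)
    (c : ψ ≫ w = v ≫ h) :
    AlgSp.IsFormallyUnramifiedMor ψ.hom ∧
    ∀ (iV : V ⟶ V') (hV' : V' ⟶ U), AlgSp.IsUnivFOThick ψ.hom iV.hom hV'.hom →
      ∀ e' : V' ⟶ Z', iV ≫ e' = v ≫ iZ → e' ≫ hZ' = hV' ≫ w → AlgSp.IsEtaleMor e'.hom := by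
  classical
have hψ : AlgSp.IsFormallyUnramifiedMor ψ.hom := by
  refine AlgSpDescent.formallyUnramified_of_comp (b := w.hom) ?_
  rw [show ψ.hom ≫ w.hom = v.hom ≫ h.hom from congrArg InducedCategory.Hom.hom c]
  exact AlgSpDescent.formallyUnramified_comp
    (AlgSpDescent.formallyEtale_iff.1 (AlgSpDescent.formallyEtale_of_isEtaleMor V.property hv)).2 hh
refine ⟨hψ, fun iV hV' HV e' we₁ we₂ => ?_⟩
have we₁' : iV.hom ≫ e'.hom = v.hom ≫ iZ.hom := congrArg InducedCategory.Hom.hom we₁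
have we₂' : e'.hom ≫ hZ'.hom = hV'.hom ≫ w.hom := congrArg InducedCategory.Hom.hom we₂
have hc : ψ.hom ≫ w.hom = v.hom ≫ h.hom := congrArg InducedCategory.Hom.hom c
obtain ⟨W₀, φ, hφe, hφs⟩ := V.property.atlas
obtain ⟨E₀, φ', π₀, hφ'e, sq₀⟩ := exists_etale_chart_thick iV HV.1.1 φ hφe
have hφ's := surjective_of_thick iV HV.1.1 hφ'e sq₀ hφs
let sW : AlgSp.Space S := (AlgSp.ofScheme S).obj W₀
have HU0 := S10632.result (Z := sW) (Z' := (AlgSp.ofScheme S).obj E₀) (ObjectProperty.homMk φ)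
  (AlgSp.isEtaleMor_of_repWith φ hφe) ψ iV hV' HV (ObjectProperty.homMk ((AlgSp.yon S).map π₀))
  (ObjectProperty.homMk φ') (AlgSp.isEtaleMor_of_repWith φ' hφ'e) sq₀
-- the thickening pulled back from `Z'`
have sqZ := IsPullback.of_hasPullback w.hom h.hom
let ZU : AlgSp.Space S := ⟨pullback w.hom h.hom, AlgSpace.isAlgSpace_pullback X.property U.property Z.property sqZ⟩
have sqP := IsPullback.of_hasPullback w.hom hZ'.hom
let P : AlgSp.Space S := ⟨pullback w.hom hZ'.hom, AlgSpace.isAlgSpace_pullback X.property U.property Z'.property sqP⟩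
have hwi : iZ.hom ≫ hZ'.hom = h.hom := HZ.2.1
let iU : ZU ⟶ P := ObjectProperty.homMk (sqP.lift (pullback.fst _ _) (pullback.snd _ _ ≫ iZ.hom)
  (by rw [Category.assoc, hwi]; exact sqZ.w))
let pX : P ⟶ U := ObjectProperty.homMk (pullback.fst _ _)
let pW : P ⟶ Z' := ObjectProperty.homMk (pullback.snd _ _)
have HP := S10637.result (Z := ZU) (ObjectProperty.homMk (pullback.fst w.hom h.hom))
  (ObjectProperty.homMk (pullback.snd w.hom h.hom)) w h sqZ hh iZ hZ' HZ pX pW sqP iU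
  (ObjectProperty.hom_ext _ (sqP.lift_fst _ _ _)) (ObjectProperty.hom_ext _ (sqP.lift_snd _ _ _))
let t : (AlgSp.yon S).obj W₀ ⟶ ZU.obj := sqZ.lift (φ ≫ ψ.hom) (φ ≫ v.hom)
  (by rw [Category.assoc, hc, Category.assoc])
have hpr : AlgSp.IsEtaleMor (pullback.snd w.hom h.hom : ZU.obj ⟶ Z.obj) :=
  isEtaleMor_baseChange' U.property X.property ZU.property Z.property sqZ hw
have ht : AlgSp.IsEtaleMor t := by
  refine AlgSpDescent.isEtaleMor_of_locP_etale (AlgSp.IsAlgSpace.yon_obj _) ZU.property ?_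
  refine AlgSpace.locP_of_comp (Q' := @Etale) (R := @Etale) (fun A B C k l hkl hl => ?_) (AlgSp.IsAlgSpace.yon_obj _) ZU.property
    Z.property (g := (pullback.snd w.hom h.hom : ZU.obj ⟶ Z.obj)) ?_
    (AlgSpDescent.locP_etale_of_isEtaleMor hpr)
  · haveI := hkl; haveI := hl
    exact Etale.of_comp k l
  · rw [sqZ.lift_snd]
    exact AlgSpDescent.locP_etale_of_isEtaleMor (isEtaleMor_comp' (AlgSp.isEtaleMor_of_repWith φ hφe) hv)
have ht' : AlgSp.RepWith @Etale t := by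
  have := ht (𝟙 _) (AlgSp.repWith_id _ W₀)
  rwa [Category.id_comp] at this
obtain ⟨E₁, t', π₁, ht'e, sq₁⟩ := exists_etale_chart_thick iU HP.1.1 t ht'
have HU1 := S10632.result (Z := sW) (Z' := (AlgSp.ofScheme S).obj E₁) (ObjectProperty.homMk t)
  (AlgSp.isEtaleMor_of_repWith t ht') (ObjectProperty.homMk (pullback.fst w.hom h.hom)) iU pX HP
  (ObjectProperty.homMk ((AlgSp.yon S).map π₁))
  (ObjectProperty.homMk t') (AlgSp.isEtaleMor_of_repWith t' ht'e) sq₁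
have hE : t ≫ pullback.fst w.hom h.hom = φ ≫ ψ.hom := sqZ.lift_fst _ _ _
have HU0' : AlgSp.IsUnivFOThick (φ ≫ ψ.hom) ((AlgSp.yon S).map π₀) (φ' ≫ hV'.hom) := HU0
have HU1' : AlgSp.IsUnivFOThick (φ ≫ ψ.hom) ((AlgSp.yon S).map π₁) (t' ≫ pX.hom) := hE ▸ HU1
have c₀ : (AlgSp.yon S).map π₀ ≫ φ' ≫ hV'.hom = φ ≫ ψ.hom := HU0'.2.1
have hW₀ : (AlgSp.yon S).map π₀ ≫ φ' = φ ≫ iV.hom := sq₀.w.symm
have hW₁ : (AlgSp.yon S).map π₁ ≫ t' = t ≫ iU.hom := sq₁.w.symm
obtain ⟨g, hg₁, hg₂, hgiso⟩ := exists_iso_univ (AlgSp.IsAlgSpace.yon_obj W₀) (AlgSp.IsAlgSpace.yon_obj E₀)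
  (AlgSp.IsAlgSpace.yon_obj E₁) HU0' HU1'
have hge : AlgSp.IsEtaleMor g := by
  obtain ⟨g₀, rfl⟩ := (AlgSp.yon S).map_surjective g
  haveI : IsIso ((AlgSp.yon S).map g₀) := hgiso
  haveI : IsIso g₀ := isIso_of_reflects_iso g₀ (AlgSp.yon S)
  haveI : IsIso g₀.left := inferInstanceAs (IsIso ((Over.forget S).map g₀))
  exact (AlgSp.isEtaleMor_yon_map_iff g₀).2 inferInstance
have hkey : φ' ≫ e'.hom = g ≫ t' ≫ pW.hom := by
  have hHZ : (φ ≫ v.hom) ≫ h.hom = ((AlgSp.yon S).map π₀) ≫ φ' ≫ hV'.hom ≫ w.hom := by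
    rw [reassoc_of% c₀, hc, Category.assoc]
  refine (HZ.2.2 (AlgSp.IsAlgSpace.yon_obj W₀) (AlgSp.IsAlgSpace.yon_obj E₀) ((AlgSp.yon S).map π₀)
    (φ ≫ v.hom) (φ' ≫ hV'.hom ≫ w.hom) HU0'.1 hHZ.symm).unique ⟨?_, ?_⟩ ⟨?_, ?_⟩
  · rw [reassoc_of% hW₀, we₁', Category.assoc]
  · rw [Category.assoc, we₂']
  · rw [reassoc_of% hg₁, reassoc_of% hW₁,
      show iU.hom ≫ pW.hom = pullback.snd w.hom h.hom ≫ iZ.hom from sqP.lift_snd _ _ _,
      ← Category.assoc, sqZ.lift_snd]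
  · rw [Category.assoc, Category.assoc, ← show pX.hom ≫ w.hom = pW.hom ≫ hZ'.hom from sqP.w,
      reassoc_of% hg₂]
refine AlgSpDescent.isEtaleMor_of_locP_etale V'.property Z'.property
  (AlgSpace.locP_of_source_cover Z'.property hφ'e hφ's ?_)
rw [hkey]
exact AlgSpDescent.locP_etale_of_isEtaleMor (isEtaleMor_comp' hge (isEtaleMor_comp' (AlgSp.isEtaleMor_of_repWith t' ht'e)
  (isEtaleMor_baseChange' U.property X.property P.property Z'.property sqP hw)))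

end Groth.Agent.S10638
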