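import Groth.Statements.S1064
import Groth.Agent.Lib.DPerf.OneDegree
-- import your own Groth.Agent.* helpers here

set_option autoImplicit false
universe u
open CategoryTheory CategoryTheory.Limits AlgebraicGeometry Opposite
attribute [local instance] HasDerivedCategory.standard
open Perf

namespace Groth.Agent.S1064

/-- Let E be a perfect object of D(O_X), i ∈ ℤ and r ∈ ℕ. There is an open subset U ⊆ X such that for
every morphism f : Y ⟶ X whose derived pullback Lf^* exists, f has its image inside U exactly when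
Lf^*E is isomorphic in D(O_Y) to a finite locally free O_Y-module of rank r placed in degree i. -/
theorem result (X : Scheme.{u}) (E : DCoh.D X) (hE : DCoh.IsPerfect E) (i : ℤ) (r : ℕ) :
    ∃ U : X.Opens, ∀ (Y : Scheme.{u}) (f : Y ⟶ X) [DCoh.HasLpull f],
      Set.range f.base ⊆ (U : Set X) ↔
        ∃ V : Y.Modules, FlatMod.IsFinLocFreeOfRank r V ∧ Nonempty ((DCoh.Lpull f).obj E ≅ (DCoh.inD Y V)⟦-i⟧) := by
  haveI : ∀ x : X, DCoh.HasLpull (X.fromSpecResidueField x) := fun x => Groth.Agent.KFlat.Sch.hasLpull _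
  refine ⟨⟨_, Groth.Agent.DPerf.isOpen_profile hE i r⟩, fun Y f hf => ?_⟩
  haveI : ∀ y : Y, DCoh.HasLpull (Y.fromSpecResidueField y) := fun y => Groth.Agent.KFlat.Sch.hasLpull _
  have hE' := Groth.Agent.KFlat.Sch.isPerfect_lpull f hE
  let es : ∀ V : Y.Modules, (DCoh.inD Y V)⟦-i⟧ ≅ (DerivedCategory.singleFunctor Y.Modules i).obj V :=
    fun V => ((DerivedCategory.singleFunctors Y.Modules).shiftIso (-i) i 0 (neg_add_cancel i)).app V
  constructor
  · intro h
    obtain ⟨V, hV, ⟨e⟩⟩ := Groth.Agent.DPerf.exists_iso_of_profile hE' i r fun y l => by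
      rw [Groth.Agent.DPerf.betti_lpull hE f y l]
      exact h ⟨y, rfl⟩ l
    exact ⟨V, hV, ⟨e ≪≫ (es V).symm⟩⟩
  · rintro ⟨V, hV, ⟨e⟩⟩ _ ⟨y, rfl⟩ l
    have := Groth.Agent.DPerf.profile_of_iso V r hV i (e ≪≫ es V) y l
    rwa [Groth.Agent.DPerf.betti_lpull hE f y l] at this

end Groth.Agent.S1064
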