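import Groth.Statements.S10640
import Groth.Agent.Lib.Where15.Main
-- import your own Groth.Agent.* helpers here

set_option autoImplicit false
universe u
open CategoryTheory CategoryTheory.Limits AlgebraicGeometry
open AlgSp

namespace Groth.Agent.S10640

/-- For morphisms f : X ⟶ Y, p : X ⟶ Z and q : Y ⟶ Z of algebraic spaces over S with f ≫ q = p, write XX
= X ×_Y X with projections pr0, pr1, and assume that p is closed and locally of finite type and that
the composite XX ⟶ X ⟶ Z (through pr1 and p) is closed as well. Then there is an open subspace W of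
Z with the following property: a morphism of algebraic spaces g : Z' ⟶ Z factors through W exactly
when the base change X' ⟶ Y' of f along g is unramified and universally injective. Here the base
change of f along g is any f' : X' ⟶ Y' obtained from pullback squares Y' = Y ×_Z Z' and X' = X ×_Y
Y' of algebraic spaces over S, and W ⊂ Z is given as a representable open immersion w : W ⟶ Z. -/
theorem result {S : Scheme.{u}} {X Y Z : AlgSp.Space S}
    (f : X ⟶ Y) (p : X ⟶ Z) (q : Y ⟶ Z) (hc : f ≫ q = p)
    (XX : AlgSp.Space S) (pr0 pr1 : XX ⟶ X) (hXX : IsPullback pr0.hom pr1.hom f.hom f.hom)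
    (hp1 : AlgSp.LocP @LocallyOfFiniteType p.hom) (hp2 : AlgSp.IsClosedMor p.hom)
    (hp3 : AlgSp.IsClosedMor (pr1 ≫ p).hom) :
    ∃ (W : AlgSp.Space S) (w : W ⟶ Z), AlgSp.RepWith @IsOpenImmersion w.hom ∧
      ∀ (Z' : AlgSp.Space S) (g : Z' ⟶ Z),
        (∃ k : Z' ⟶ W, k ≫ w = g) ↔
          ∀ (Y' : AlgSp.Space S) (gY : Y' ⟶ Y) (q' : Y' ⟶ Z'),
            IsPullback gY.hom q'.hom q.hom g.hom →
            ∀ (X' : AlgSp.Space S) (gX : X' ⟶ X) (f' : X' ⟶ Y'),
              IsPullback gX.hom f'.hom f.hom gY.hom →
                (AlgSp.LocP (@LocallyOfFiniteType ⊓ @FormallyUnramified) f'.hom ∧ AlgSp.IsUnivInjectiveMor f'.hom) := by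
  subst hc
  open Groth.Agent.Where15 in
  exact wrap (f := f) (q := q)
    (P := fun a => AlgSp.LocP (@LocallyOfFiniteType ⊓ @FormallyUnramified) a ∧ AlgSp.IsUnivInjectiveMor a)
    (exists_where_unrInj hp1 hp2 (isClosedMor_snd_of_square hXX hp3))

end Groth.Agent.S10640
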