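import Groth.Statements.S10646
import Groth.Agent.Lib.NormEt14.Piece
import Groth.Agent.Lib.AlgSpRel14.Nbhd
import Groth.Agent.Lib.AlgSpDecent.Basic2

set_option autoImplicit false
universe u
open CategoryTheory CategoryTheory.Limits AlgebraicGeometry
open AlgSp

namespace Groth.Agent.S10646

open Groth.Agent.NormEt14 Groth.Agent.AlgSpDescent Groth.Agent.AlgSpace Groth.Agent.AlgSpDecent
open Groth.Agent.EtSmLoc15 Groth.Agent.AlgSpRel14

/-- The property of a set of points of the normalization to split off the source. -/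
def Good {S : Scheme.{u}} {X Y Y' : Sp S} (f : X ⟶ Y) (f' : X ⟶ Y') (O : Set (Points Y')) : Prop :=
  IsOpen O ∧ IsIso (pullback.snd f' (openSubι O)) ∧
    ∀ x, Points.map f' x ∈ O → HasAtMor (Near (@LocallyQuasiFinite ⊓ @LocallyOfFiniteType)) f x

theorem isIso_of_good {S : Scheme.{u}} {X Y Y' U' P : Sp S} {f : X ⟶ Y} {f' : X ⟶ Y'} {j : U' ⟶ Y'}
    (hj : RepWith @IsOpenImmersion j)
    (hcov : ∀ p, ∃ O : Set (Points Y'), Good f f' O ∧ Points.map j p ∈ O ∧ O ⊆ Set.range (Points.map j))
    {fst : P ⟶ X} {snd : P ⟶ U'} (sq : IsPullback fst snd f' j) : IsIso snd := by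
  choose O hO hpO hsub using hcov
  have hm : ∀ p, ∃ m : openSub (O p) ⟶ U', m ≫ j = openSubι (O p) := fun p =>
    exists_factor_of_range hj _ (by rw [range_openSubι]; exact hsub p)
  choose m hm using hm
  have hiso : ∀ p, IsIso (pullback.snd f' (openSubι (O p))) := fun p => (hO p).2.1
  have hmono : ∀ {T : Over S} (p : Points U') (a b : (yon S).obj T ⟶ P) (t : (yon S).obj T ⟶ openSub (O p)),
      a ≫ snd = t ≫ m p → b ≫ snd = t ≫ m p → a = b := by
    intro T p a b t ha hb
    have := hiso p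
    let la := pullback.lift (a ≫ fst) t (by rw [Category.assoc, sq.w, reassoc_of% ha, hm])
    let lb := pullback.lift (b ≫ fst) t (by rw [Category.assoc, sq.w, reassoc_of% hb, hm])
    have e : la = lb := by
      rw [← cancel_mono (pullback.snd f' (openSubι (O p))), pullback.lift_snd, pullback.lift_snd]
    have e' := congrArg (· ≫ pullback.fst f' (openSubι (O p))) e
    simp only [la, lb, pullback.lift_fst] at e'
    exact sq.hom_ext e' (ha.trans hb.symm)
  have hpieces : ∀ {T : Over S} (t : (yon S).obj T ⟶ U'), ∀ x : ↥T.left,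
      ∃ (W : T.left.Opens) (s : (yon S).obj (Over.mk (W.ι ≫ T.hom)) ⟶ openSub (O (Points.ofPt t x))),
        x ∈ W ∧ s ≫ m _ = (yon S).map (Over.homMk W.ι rfl : Over.mk (W.ι ≫ T.hom) ⟶ T) ≫ t := by
    intro T t x
    let p := Points.ofPt t x
    let W : T.left.Opens := ⟨Points.ofPt (t ≫ j) ⁻¹' O p, (hO p).1.preimage (Points.continuous_ofPt _)⟩
    have hxW : x ∈ W := by
      show Points.ofPt (t ≫ j) x ∈ O p
      rw [← Points.map_ofPt]
      exact hpO p
    let π : Over.mk (W.ι ≫ T.hom) ⟶ T := Over.homMk W.ι rfl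
    obtain ⟨s, hs⟩ := exists_factor_openSub ((yon S).map π ≫ t ≫ j) (W := O p) (by
      rintro _ ⟨y, rfl⟩
      obtain ⟨y, rfl⟩ := (Points.schemeEquiv _).surjective y
      change Points.map _ (Points.ofScheme _ y) ∈ _
      rw [← Points.ofPt_eq_map_ofScheme, ofPt_map_comp]
      exact y.2)
    have : Mono j := mono_of_repWith _ (repWith_mono (fun _ _ g (_ : IsOpenImmersion g) =>
      (inferInstance : Mono g)) hj)
    exact ⟨W, s, hxW, by rw [← cancel_mono j, Category.assoc, hm, hs, Category.assoc]⟩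
  have hsnd : Mono snd := mono_of_yon _ fun T a b hab => by
    choose W s hW hs using hpieces (a ≫ snd)
    refine hom_ext_glue (κ := T.left) (T' := fun x => Over.mk ((W x).ι ≫ T.hom))
      (fun x => Over.homMk (W x).ι rfl) (fun x => inferInstanceAs (IsOpenImmersion (W x).ι))
      (fun x => ⟨x, ⟨x, hW x⟩, rfl⟩) fun x => ?_
    exact hmono _ _ _ (s x) (by rw [Category.assoc, hs x]) (by rw [Category.assoc, ← hab, hs x])
  refine isIso_of_mono_of_lifts snd fun T t => ?_
  choose W s hW hs using hpieces t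
  let π : ∀ x, Over.mk ((W x).ι ≫ T.hom) ⟶ T := fun x => Over.homMk (W x).ι rfl
  have hl : ∀ x, ∃ l : (yon S).obj (Over.mk ((W x).ι ≫ T.hom)) ⟶ P, l ≫ snd = (yon S).map (π x) ≫ t := by
    intro x
    have := hiso (Points.ofPt t x)
    refine ⟨sq.lift (s x ≫ inv (pullback.snd f' (openSubι (O (Points.ofPt t x)))) ≫ pullback.fst _ _)
      (s x ≫ m _) ?_, ?_⟩
    · simp only [Category.assoc, pullback.condition, IsIso.inv_hom_id_assoc, hm]
    · rw [sq.lift_snd, hs x]
  choose l hl using hl
  obtain ⟨g, hg, -⟩ := existsUnique_glue π (fun x => inferInstanceAs (IsOpenImmersion (W x).ι))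
    (fun x => ⟨x, ⟨x, hW x⟩, rfl⟩) l fun i k Q a b hab => by
      rw [← cancel_mono snd, Category.assoc, Category.assoc, hl, hl, ← Functor.map_comp_assoc, hab,
        Functor.map_comp_assoc]
  exact ⟨g, hom_ext_glue π (fun x => inferInstanceAs (IsOpenImmersion (W x).ι))
    (fun x => ⟨x, ⟨x, hW x⟩, rfl⟩) fun x => by rw [← Category.assoc, hg, hl]⟩

theorem exists_good {S : Scheme.{u}} {X Y Y' : AlgSp.Space S} (f : X ⟶ Y) (ν : Y' ⟶ Y) (f' : X ⟶ Y')
    (hf1 : AlgSp.IsFiniteTypeMor f.hom) (hf2 : AlgSp.IsSeparatedMor f.hom)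
    (hn : AlgSp.IsRelNormalization f.hom ν.hom f'.hom) (x : Points X.obj)
    (hx : HasAtMor (Near (@LocallyQuasiFinite ⊓ @LocallyOfFiniteType)) f.hom x) :
    ∃ O, Good f.hom f'.hom O ∧ Points.map f'.hom x ∈ O := by
  have := Groth.Agent.AlgSpace.etaleLocal_of_cases (P := @LocallyQuasiFinite ⊓ @LocallyOfFiniteType)
    (Or.inr (Or.inr (Or.inr (Or.inr (Or.inr (Or.inl fun _ _ g => Iff.rfl))))))
  have hX := X.property
  have hY := Y.property
  have hqs : IsQuasiSeparatedMor f.hom :=
    repWith_mono (P := @IsClosedImmersion) (Q := @QuasiCompact)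
      (fun _ _ k (_ : IsClosedImmersion k) => inferInstance) hf2
  have hν := isIntegralMor_iff_repWith.1 hn.2.1
  -- an affine chart through the point
  obtain ⟨U, w, hU, hwe, u₀, hu₀⟩ := exists_affine_chart_at hY (Points.map f.hom x)
  have sqV := IsPullback.of_hasPullback f.hom w
  have hV : IsAlgSpace (pullback f.hom w) := isAlgSpace_pullback hY hX (IsAlgSpace.yon_obj _) sqV
  obtain ⟨p, hp₁, -⟩ := exists_point_lift sqV x (Points.ofScheme U u₀)
    (by rw [← Points.ofPt_eq_map_ofScheme]; exact hu₀.symm)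
  obtain ⟨A, a, hA, hae, a₀, ha₀⟩ := exists_affine_chart_at hV p
  obtain ⟨h, hh⟩ := (yon S).map_surjective (a ≫ pullback.snd f.hom w)
  have haX : RepWith @Etale (a ≫ pullback.fst f.hom w) :=
    repWith_comp hae (repWith_of_isPullback sqV.flip hwe)
  have hsq : (a ≫ pullback.fst f.hom w) ≫ f.hom = (yon S).map h ≫ w := by
    rw [hh, Category.assoc, Category.assoc, pullback.condition]
  have hhl : LocallyOfFiniteType h.left := hf1.1 _ w h haX hwe hsq
  have hxa : Points.ofPt (a ≫ pullback.fst f.hom w) a₀ = x := by rw [← Points.map_ofPt, ha₀, hp₁]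
  obtain ⟨W, haW, hWq, -⟩ := (hasAtMor_near_iff (@LocallyQuasiFinite ⊓ @LocallyOfFiniteType) haX hwe hsq a₀).1 (hxa ▸ hx)
  have hqa : h.left.QuasiFiniteAt a₀ := by
    have : LocallyQuasiFinite (W.ι ≫ h.left) := hWq
    have h1 := (W.ι ≫ h.left).quasiFiniteAt ⟨a₀, haW⟩
    exact (Scheme.Hom.quasiFiniteAt_comp_iff_of_isOpenImmersion).1 h1
  -- a finite piece
  obtain ⟨U₂, u, K, kι, k₀, hU₂, hue, hkι, hkfin, hk₀⟩ := exists_finite_piece h a₀ hqa
  let w₂ := (yon S).map u ≫ w
  have hw₂ : RepWith @Etale w₂ := repWith_comp ((repWith_yon_map_iff _ _).2 hue) hwe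
  have sqV₂ := IsPullback.of_hasPullback f.hom w₂
  have hV₂ : IsAlgSpace (pullback f.hom w₂) := isAlgSpace_pullback hY hX (IsAlgSpace.yon_obj _) sqV₂
  have sqA := (IsPullback.of_hasPullback h u).map (yon S)
  let a₂ : (yon S).obj (pullback h u) ⟶ pullback f.hom w₂ :=
    pullback.lift ((yon S).map (pullback.fst h u) ≫ a ≫ pullback.fst f.hom w)
      ((yon S).map (pullback.snd h u)) (by
        rw [Category.assoc, Category.assoc, pullback.condition, ← Category.assoc a, ← hh]
        simp only [w₂, ← Functor.map_comp_assoc, pullback.condition])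
  have ha₂e : RepWith @Etale a₂ := by
    let l : pullback f.hom w₂ ⟶ pullback f.hom w :=
      pullback.lift (pullback.fst f.hom w₂) (pullback.snd f.hom w₂ ≫ (yon S).map u)
        (by rw [Category.assoc]; exact pullback.condition)
    have hl₁ : l ≫ pullback.fst f.hom w = pullback.fst f.hom w₂ := pullback.lift_fst _ _ _
    have hl₂ : l ≫ pullback.snd f.hom w = pullback.snd f.hom w₂ ≫ (yon S).map u := pullback.lift_snd _ _ _
    have sql : IsPullback l (pullback.snd f.hom w₂) (pullback.snd f.hom w) ((yon S).map u) :=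
      IsPullback.of_right (by rw [hl₁]; exact sqV₂) hl₂ sqV
    have : IsPullback ((yon S).map (pullback.fst h u)) a₂ a l := IsPullback.of_bot
      (by rw [pullback.lift_snd, ← hh]; exact sqA) (by
        apply pullback.hom_ext
        · rw [Category.assoc, Category.assoc, hl₁, pullback.lift_fst]
        · rw [Category.assoc, Category.assoc, hl₂, pullback.lift_snd_assoc, ← hh]
          exact sqA.w) sql
    exact repWith_of_isPullback this hae
  let c : (yon S).obj K ⟶ pullback f.hom w₂ := (yon S).map kι ≫ a₂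
  have hce : RepWith @Etale c :=
    repWith_comp ((repWith_yon_map_iff _ _).2 (inferInstanceAs (Etale kι.left))) ha₂e
  have hcq : c ≫ pullback.snd f.hom w₂ = (yon S).map (kι ≫ pullback.snd h u) := by
    rw [Category.assoc, pullback.lift_snd, Functor.map_comp]
  have hc₀ : Points.map (pullback.fst f.hom w₂) (Points.ofPt c k₀) = x := by
    rw [Points.map_ofPt, Category.assoc, pullback.lift_fst, ← Functor.map_comp_assoc, ofPt_map_comp,
      hk₀, hxa]
  -- the normalization over the neighbourhood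
  have sqN := hν.1.isPullback w₂
  let g := sqN.lift (pullback.fst f.hom w₂ ≫ f'.hom) (pullback.snd f.hom w₂)
    (by rw [Category.assoc, hn.1, pullback.condition])
  have hg₁ : g ≫ hν.1.fst w₂ = pullback.fst f.hom w₂ ≫ f'.hom := sqN.lift_fst _ _ _
  have hg₂ : g ≫ (yon S).map (hν.1.snd w₂) = pullback.snd f.hom w₂ := sqN.lift_snd _ _ _
  have hqc₂ := isQuasiCompactMor_of_isPullback sqV₂ hf1.2
  have hrel := isRelNormalization_of_isLocNorm hV₂ (IsAlgSpace.yon_obj U₂) hqc₂
    (isQuasiSeparatedMor_of_isPullback sqV₂ hqs)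
    (isLocNorm_baseChange hX hY (IsAlgSpace.yon_obj U₂) hf1.2 hqs
      (isLocNorm_of_isRelNormalization f.hom hX hY hf1.2 hqs Y'.property hn)
      (locP_smooth_of_repWith hY
        (repWith_mono (P := @Etale) (Q := @Smooth) (fun _ _ k (_ : Etale k) => inferInstance) hw₂))
      sqV₂ sqN hg₂ hg₁)
  have : EtaleLocal @LocallyOfFiniteType := etaleLocal_of_cases (Or.inl rfl)
  obtain ⟨Ω, i, VI, ι, r, hi, hifin, hriso, sqI, hι, hcI⟩ := exists_split_piece hV₂
    (isSeparatedMor_of_isPullback sqV₂ hf2) (locP_of_isPullback hX hY (IsAlgSpace.yon_obj _) sqV₂ hf1.1)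
    hrel hce hcq hkfin
  let z := hν.1.fst w₂
  have hze : RepWith @Etale z := repWith_of_isPullback sqN.flip hw₂
  let zΩ : (yon S).obj Ω ⟶ Y'.obj := (yon S).map i ≫ z
  have hzΩ : RepWith @Etale zΩ :=
    repWith_comp ((repWith_yon_map_iff _ _).2 (inferInstanceAs (Etale i.left))) hze
  let O : Set (Points Y'.obj) := Set.range (Points.ofPt zΩ)
  have hO : IsOpen O := (isOpenMap_ofPt zΩ hzΩ).isOpen_range
  have sqg : IsPullback (pullback.fst f.hom w₂) g f'.hom z :=
    IsPullback.of_bot (by rw [hg₂, hn.1]; exact sqV₂) hg₁.symm sqN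
  have sqΩ : IsPullback (ι ≫ pullback.fst f.hom w₂) r f'.hom zΩ := sqI.paste_horiz sqg
  have hfx : Points.map f'.hom x ∈ O := by
    obtain ⟨v, hv⟩ := hcI ⟨_, (Points.ofPt_eq_map_ofScheme c k₀).symm⟩
    obtain ⟨y, hy⟩ := (Points.schemeEquiv Ω).surjective (Points.map r v)
    refine ⟨y, ?_⟩
    rw [← hc₀, ← hv, ← Points.map_comp, ← Points.map_comp, ← Category.assoc, sqΩ.w, Points.map_comp, ← hy,
      Points.ofPt_eq_map_ofScheme]
    rfl
  refine ⟨O, ⟨hO, ?_, fun x' hx' => ?_⟩, hfx⟩
  · have hj := repWith_openSubι hO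
    have : Mono (openSubι O) := mono_of_repWith _ (repWith_mono (fun _ _ k (_ : IsOpenImmersion k) =>
      (inferInstance : Mono k)) hj)
    obtain ⟨m, hm⟩ := exists_factor_openSub zΩ (W := O) (by
      rintro _ ⟨y, rfl⟩
      obtain ⟨y, rfl⟩ := (Points.schemeEquiv Ω).surjective y
      exact ⟨y, Points.ofPt_eq_map_ofScheme zΩ y⟩)
    have hme : RepWith @Etale m := by
      have sqm := isPullback_of_mono m (openSubι O)
      rw [hm] at sqm
      exact repWith_of_isPullback sqm hzΩ
    have hms : RepWith @Surjective m := repWith_surjective_of_map hme.1 fun y => by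
      obtain ⟨ω, hω⟩ : Points.map (openSubι O) y ∈ O := (range_openSubι O).le ⟨y, rfl⟩
      refine ⟨Points.ofScheme Ω ω, injective_map_of_openImmersion hj ?_⟩
      rw [← Points.map_comp, hm, ← Points.ofPt_eq_map_ofScheme, hω]
    let L : VI ⟶ pullback f'.hom (openSubι O) :=
      pullback.lift (ι ≫ pullback.fst f.hom w₂) (r ≫ m) (by rw [Category.assoc r m, hm]; exact sqΩ.w)
    have sqL : IsPullback L r (pullback.snd f'.hom (openSubι O)) m := by
      refine IsPullback.of_right ?_ (pullback.lift_snd _ _ _) (IsPullback.of_hasPullback f'.hom (openSubι O))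
      rw [pullback.lift_fst, hm]
      exact sqΩ
    exact isIso_of_etale_cover _ m hme hms sqL
  · obtain ⟨y, hy⟩ := hx'
    obtain ⟨v, hv₁, hv₂⟩ := exists_point_lift sqΩ x' (Points.ofScheme Ω y)
      (by rw [← Points.ofPt_eq_map_ofScheme]; exact hy.symm)
    have hbe : RepWith @Etale (inv r ≫ ι ≫ pullback.fst f.hom w₂) := by
      refine (repWith_respectsIso_left (inv r)).2 (repWith_comp
        (repWith_mono (Q := @Etale) (fun _ _ k (_ : IsOpenImmersion k) => inferInstance) hι)
        (repWith_of_isPullback sqV₂.flip hw₂))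
    have hb : (inv r ≫ ι ≫ pullback.fst f.hom w₂) ≫ f.hom = (yon S).map (i ≫ hν.1.snd w₂) ≫ w₂ := by
      rw [Category.assoc, Category.assoc, pullback.condition, ← hg₂, Category.assoc, Functor.map_comp,
        Category.assoc, ← sqN.w, reassoc_of% sqI.w, IsIso.inv_hom_id_assoc]
    have hx'' : x' = Points.ofPt (inv r ≫ ι ≫ pullback.fst f.hom w₂) y := by
      rw [← hv₁, Points.ofPt_eq_map_ofScheme, Points.map_comp (inv r), ← hv₂, ← Points.map_comp r,
        IsIso.hom_inv_id]
      rw [Points.map_id]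
    rw [hx'']
    refine (hasAtMor_near_iff _ hbe hw₂ hb y).2 (near_of_property _ ?_ y)
    have : IsFinite (i ≫ hν.1.snd w₂).left := hifin
    exact ⟨inferInstance, inferInstance⟩


/-- For a separated morphism f : X ⟶ Y of finite type between algebraic spaces over S, with X ⟶ Y' ⟶ Y
(f' followed by ν) the normalization of Y in X, there is an open subspace U' of Y' (a representable
open immersion j : U' ⟶ Y') such that for the inverse image P = X ×_{Y'} U' the projection P ⟶ U' is
an isomorphism and the image of |P| in |X| consists exactly of those points of |X| where f is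
quasi-finite (some etale chart diagram through the point on which the top arrow is locally
quasi-finite and locally of finite type on an open neighbourhood). -/
theorem result {S : Scheme.{u}} {X Y Y' : AlgSp.Space S} (f : X ⟶ Y) (ν : Y' ⟶ Y) (f' : X ⟶ Y')
    (hf1 : AlgSp.IsFiniteTypeMor f.hom) (hf2 : AlgSp.IsSeparatedMor f.hom)
    (hn : AlgSp.IsRelNormalization f.hom ν.hom f'.hom) :
    ∃ (U' : AlgSp.Space S) (j : U' ⟶ Y'), AlgSp.RepWith @IsOpenImmersion j.hom ∧
      ∀ (P : AlgSp.Space S) (fst : P ⟶ X) (snd : P ⟶ U'), IsPullback fst.hom snd.hom f'.hom j.hom →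
        IsIso snd.hom ∧
          Set.range (AlgSp.Points.map fst.hom) = {x | AlgSp.HasAtMor (fun U _ h u => ∃ W : U.Opens, u ∈ W ∧ LocallyQuasiFinite (W.ι ≫ h) ∧ LocallyOfFiniteType (W.ι ≫ h)) f.hom x} := by
  obtain ⟨U', j, hj, hjr⟩ : ∃ (U' : AlgSp.Space S) (j : U' ⟶ Y'), RepWith @IsOpenImmersion j.hom ∧
      Set.range (Points.map j.hom) = ⋃₀ {O | Good f.hom f'.hom O} :=
    exists_open_space Y' (isOpen_sUnion fun O hO => hO.1)
  refine ⟨U', j, hj, fun P fst snd sq => ⟨?_, ?_⟩⟩
  · have : IsIso snd.hom := isIso_of_good hj (fun p => by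
      obtain ⟨O, hO, hp⟩ : Points.map j.hom p ∈ ⋃₀ {O | Good f.hom f'.hom O} := hjr.le ⟨p, rfl⟩
      exact ⟨O, hO, hp, hjr.symm ▸ Set.subset_sUnion_of_mem hO⟩) sq
    exact this
  · rw [range_eq_preimage_range sq.flip, hjr]
    ext x
    constructor
    · rintro ⟨O, hO, hxO⟩
      exact hO.2.2 x hxO
    · intro hx
      obtain ⟨O, hO, hxO⟩ := exists_good f ν f' hf1 hf2 hn x hx
      exact ⟨O, hO, hxO⟩

end Groth.Agent.S10646
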