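import Groth.Statements.S10654
import Groth.Agent.Lib.FiniteMor15.FlatDense
-- import your own Groth.Agent.* helpers here

set_option autoImplicit false
universe u
open CategoryTheory CategoryTheory.Limits AlgebraicGeometry
open AlgSp

namespace Groth.Agent.S10654

/-- For a flat proper morphism f : X ⟶ Y of algebraic spaces over S and an open subspace j : V ⟶ Y with
|V| dense in |Y| such that the base change X ×_Y V ⟶ V is finite: f is finite over all of Y,
provided either j is quasi-compact or f is locally of finite presentation. -/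
theorem result {S : Scheme.{u}} {X Y V : AlgSp.Space S} (f : X ⟶ Y) (j : V ⟶ Y)
    (hf1 : AlgSp.LocP @Flat f.hom) (hf2 : AlgSp.IsProperMor f.hom)
    (hj1 : AlgSp.RepWith @IsOpenImmersion j.hom) (hj2 : Dense (Set.range (AlgSp.Points.map j.hom)))
    (P : AlgSp.Space S) (fst : P ⟶ X) (snd : P ⟶ V) (hP : IsPullback fst.hom snd.hom f.hom j.hom)
    (hV : AlgSp.IsFiniteMor snd.hom)
    (h : AlgSp.LocP @LocallyOfFinitePresentation f.hom ∨ AlgSp.IsQuasiCompactMor j.hom) :
    AlgSp.IsFiniteMor f.hom := by
  exact Groth.Agent.FiniteMor15.isFiniteMor_of_flat_proper f j hf1 hf2 hj1 hj2 fst snd hP hV h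

end Groth.Agent.S10654
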