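import Groth.Statements.S10659
import Groth.Agent.Lib.AlgSpDescent.SrcOfLocal

set_option autoImplicit false
universe u
open CategoryTheory CategoryTheory.Limits AlgebraicGeometry
open AlgSp

namespace Groth.Agent.S10659

/-- For a property P of morphisms of schemes that is etale local on the target (local for the etale
precoverage) and a representable morphism f : X ⟶ Y of algebraic spaces over S: if for one scheme V
with a representable etale surjective b : h_V ⟶ Y and one pullback square of f along b with corner
h_W the projection W ⟶ V has P, then f has P etale locally on the target in the representable sense,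
i.e. every such projection along every etale h_V ⟶ Y has P. (The published statement also asserts
the converse direction and that, for X and Y representable, the condition is equivalent to f having
P; this row states only that one surjective etale chart suffices.) -/
theorem result {S : Scheme.{u}} (P : MorphismProperty Scheme.{u}) [P.IsLocalAtTarget Scheme.etalePrecoverage]
    {X Y : AlgSp.Space S} (f : X ⟶ Y) (hf : AlgSp.Representable f.hom)
    {V W : Over S} (b : (AlgSp.yon S).obj V ⟶ Y.obj) (hb1 : AlgSp.RepWith @Etale b) (hb2 : AlgSp.RepWith @Surjective b)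
    (fst : (AlgSp.yon S).obj W ⟶ X.obj) (snd : W ⟶ V)
    (sq : IsPullback fst ((AlgSp.yon S).map snd) f.hom b) (hP : P snd.left) :
    AlgSp.RepLocT P f.hom := by
  refine ⟨hf, fun V' W' b' fst' snd' hb' sq' => ?_⟩
  have : Etale (hb1.1.snd b').left := hb1.2 b' _ _ (hb1.1.isPullback b')
  have : Surjective (hb1.1.snd b').left := hb2.2 b' _ _ (hb1.1.isPullback b')
  obtain ⟨k, hk⟩ := (AlgSp.yon S).map_surjective (hb1.1.fst b')
  have sqk : IsPullback ((AlgSp.yon S).map k) ((AlgSp.yon S).map (hb1.1.snd b')) b b' := by
    rw [hk]; exact hb1.1.isPullback b'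
  have hke : Etale k.left := hb'.2 b _ _ sqk.flip
  have s1 := IsPullback.of_hasPullback snd k
  have s2 := IsPullback.of_hasPullback snd' (hb1.1.snd b')
  have t1 := (s1.map (AlgSp.yon S)).paste_horiz sq
  have t2 := (s2.map (AlgSp.yon S)).paste_horiz sq'
  rw [sqk.w] at t1
  let e := (AlgSp.yon S).preimageIso (t2.isoIsPullback _ _ t1)
  have he : e.hom ≫ pullback.snd snd k = pullback.snd snd' (hb1.1.snd b') :=
    (AlgSp.yon S).map_injective (by simp [e])
  have : HasPullback snd.left k.left := inferInstance
  have : P.IsLocalAtTarget (Scheme.precoverage @Etale) := ‹P.IsLocalAtTarget Scheme.etalePrecoverage›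
  obtain ⟨R, hR, hRk⟩ := Groth.Agent.AlgSpDescent.exists_pair_mem (P := @Etale) k.left hke
  have h1 : P (pullback.snd snd.left k.left) :=
    MorphismProperty.IsLocalAtTarget.pullbackSnd hR hRk hP
  have h1' : P (pullback.snd snd k).left :=
    (P.arrow_mk_iso_iff (Arrow.isoMk' (pullback.snd snd k).left (pullback.snd snd.left k.left)
      (s1.map (Over.forget S)).isoPullback (Iso.refl _) (by
        rw [Iso.refl_hom, Category.comp_id]; exact (s1.map (Over.forget S)).isoPullback_hom_snd))).2 h1
  refine MorphismProperty.IsLocalAtTarget.of_forall_pullbackSnd (K := Scheme.etalePrecoverage)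
    (Groth.Agent.AlgSpDescent.singleton_mem_of_etale le_rfl (hb1.1.snd b').left inferInstance inferInstance) ?_
  rintro _ _ _ ⟨⟩
  have h2 : P (pullback.snd snd' (hb1.1.snd b')).left := by
    rw [← he, Over.comp_left]
    exact (P.cancel_left_of_respectsIso e.hom.left _).2 h1'
  exact (P.arrow_mk_iso_iff (Arrow.isoMk' (pullback.snd snd' (hb1.1.snd b')).left
    (pullback.snd snd'.left (hb1.1.snd b').left)
      (s2.map (Over.forget S)).isoPullback (Iso.refl _) (by
        rw [Iso.refl_hom, Category.comp_id]; exact (s2.map (Over.forget S)).isoPullback_hom_snd))).1 h2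

end Groth.Agent.S10659
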