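import Groth.Statements.S10663
import Groth.Agent.Lib.RegImmKinds2.Space
import Groth.Agent.S8654

set_option autoImplicit false
set_option backward.isDefEq.respectTransparency.types false
universe u
open CategoryTheory CategoryTheory.Limits AlgebraicGeometry
open AlgSp

namespace Groth.Agent.S10663

/-- For immersions i : Z ⟶ Y and j : Y ⟶ X of algebraic spaces over S, the composite i ≫ j is
Koszul-regular when i and j both are; likewise for H_1-regular; and it is quasi-regular when i is
H_1-regular and j quasi-regular. -/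
theorem result {S : Scheme.{u}} {Z Y X : AlgSp.Space S} (i : Z ⟶ Y) (j : Y ⟶ X)
    (hi : AlgSp.RepWith @IsImmersion i.hom) (hj : AlgSp.RepWith @IsImmersion j.hom) :
    (AlgSp.IsRegImmMor RegImm.Kind.koszul i.hom → AlgSp.IsRegImmMor RegImm.Kind.koszul j.hom →
        AlgSp.IsRegImmMor RegImm.Kind.koszul (i ≫ j).hom) ∧
      (AlgSp.IsRegImmMor RegImm.Kind.h1 i.hom → AlgSp.IsRegImmMor RegImm.Kind.h1 j.hom →
        AlgSp.IsRegImmMor RegImm.Kind.h1 (i ≫ j).hom) ∧
      (AlgSp.IsRegImmMor RegImm.Kind.h1 i.hom → AlgSp.IsRegImmMor RegImm.Kind.quasi j.hom →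
        AlgSp.IsRegImmMor RegImm.Kind.quasi (i ≫ j).hom) := by
  refine ⟨fun a b => ?_, fun a b => ?_, fun a b => ?_⟩
  · exact Groth.Agent.RegImmKinds2.isRegImmMor_comp
      (fun f g hf hg => Groth.Agent.S8654.result g f hg hf) a b
  · exact Groth.Agent.RegImmKinds2.isRegImmMor_comp
      (fun f g hf hg => Groth.Agent.RegImmKinds2.comp_h1_quasi g f (Or.inl rfl) hg hf) a b
  · exact Groth.Agent.RegImmKinds2.isRegImmMor_comp
      (fun f g hf hg => Groth.Agent.RegImmKinds2.comp_h1_quasi g f (Or.inr rfl) hg hf) a b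

end Groth.Agent.S10663
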