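import Groth.Statements.S10664
import Groth.Agent.Lib.LciSp27.Imm
-- import your own Groth.Agent.* helpers here

set_option autoImplicit false
universe u
open CategoryTheory CategoryTheory.Limits AlgebraicGeometry
open AlgSp

namespace Groth.Agent.S10664

/-- For a local complete intersection (Koszul) morphism f : X ⟶ Y of algebraic spaces over S, a smooth g
: P ⟶ Y, an etale e : U ⟶ X and a representable immersion i : U ⟶ P with i ≫ g = e ≫ f, the
immersion i is Koszul-regular as an immersion of algebraic spaces. -/
theorem result {S : Scheme.{u}} {X Y P U : AlgSp.Space S} (f : X ⟶ Y) (g : P ⟶ Y) (e : U ⟶ X) (i : U ⟶ P)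
    (hc : i ≫ g = e ≫ f) (hf : AlgSp.IsLCIMor f.hom) (hg : AlgSp.LocP @Smooth g.hom)
    (he : AlgSp.IsEtaleMor e.hom) (hi : AlgSp.RepWith @IsImmersion i.hom) :
    AlgSp.IsRegImmMor RegImm.Kind.koszul i.hom := by
  exact LciSp27.regImm_of_lci_into_smooth (congrArg InducedCategory.Hom.hom hc) hf hg he hi

end Groth.Agent.S10664
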