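import Groth.Statements.S10665
import Groth.Agent.Lib.LciSp27.Imm
-- import your own Groth.Agent.* helpers here

set_option autoImplicit false
universe u
open CategoryTheory CategoryTheory.Limits AlgebraicGeometry
open AlgSp

namespace Groth.Agent.S10665

/-- A Koszul-regular immersion between algebraic spaces over S (representable, Koszul-regular immersion
on every etale scheme chart of the target) is a local complete intersection morphism (Koszul at
every point, etale locally on source and target). -/
theorem result {S : Scheme.{u}} {X Y : AlgSp.Space S} (i : X ⟶ Y) (hi : AlgSp.IsRegImmMor RegImm.Kind.koszul i.hom) :
    AlgSp.IsLCIMor i.hom := by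
  exact LciSp27.isLCIMor_of_regImm hi

end Groth.Agent.S10665
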