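import Groth.Statements.S10666
import Groth.Agent.Lib.AlgSpace.LocP
import Groth.Agent.Lib.StAlg16.LCICancel
import Groth.Agent.Lib.CI2.SyntScheme
import Groth.Agent.S9730
-- import your own Groth.Agent.* helpers here

set_option autoImplicit false
universe u
open CategoryTheory CategoryTheory.Limits AlgebraicGeometry
open AlgSp

namespace Groth.Agent.S10666

open CategoryTheory.Limits

theorem koszulAt_of_smooth {A B : Scheme.{u}} (e : A ⟶ B) [Smooth e] (x : A) : Synt.IsKoszulAt e x := by
  have h1 : ∀ y : B, Synt.IsKoszulAt (𝟙 B) y := fun y => by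
    refine ⟨⊤, (⊤ : B.Opens).toScheme, 𝟙 _, (⊤ : B.Opens).ι ≫ 𝟙 B, trivial, inferInstance, ?_, inferInstance,
      Category.id_comp _⟩
    refine CI2.isRegularImmersion_of_forall_isKR (𝟙 _) fun z => ?_
    obtain ⟨O, hO, hzO, -⟩ := exists_isAffineOpen_mem_and_subset (X := (⊤ : B.Opens).toScheme) (x := z) (U := ⊤) trivial
    refine ⟨O, hO, hzO, IsZariskiLocalAtTarget.restrict (inferInstance : IsClosedImmersion (𝟙 _)) O, ?_⟩
    rw [show RingHom.ker (Scheme.Hom.app (𝟙 (⊤ : B.Opens).toScheme) O).hom = ⊥ from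
      (RingHom.injective_iff_ker_eq_bot _).1
        (ConcreteCategory.bijective_of_isIso (Scheme.Hom.app (𝟙 (⊤ : B.Opens).toScheme) O)).1]
    exact PCMor4.isKR_bot _
  simpa using StAlg16.lci_precomp_smooth e (𝟙 B) h1 x


set_option linter.style.haveILetI false
set_option backward.isDefEq.respectTransparency.types false


/-- For morphisms f : X ⟶ Y, p : X ⟶ Z, q : Y ⟶ Z of algebraic spaces over S with f ≫ q = p: if q is
smooth and p is a local complete intersection morphism, then so is f. -/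
theorem result {S : Scheme.{u}} {X Y Z : AlgSp.Space S} (f : X ⟶ Y) (p : X ⟶ Z) (q : Y ⟶ Z) (hc : f ≫ q = p)
    (hq : AlgSp.LocP @Smooth q.hom) (hp : AlgSp.IsLCIMor p.hom) :
    AlgSp.IsLCIMor f.hom := by
  classical
intro U V a b h ha hb w
obtain ⟨W, c, hce, hcs⟩ := Z.property.atlas
have sq := hcs.1.isPullback' (b ≫ q.hom)
let V' := hcs.1.pullback (b ≫ q.hom)
let e : V' ⟶ V := hcs.1.snd (b ≫ q.hom)
let k : V' ⟶ W := hcs.1.fst' (b ≫ q.hom)
haveI he : Etale e.left := hce.2 (b ≫ q.hom) _ _ (hcs.1.isPullback (b ≫ q.hom))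
haveI hes : Surjective e.left := hcs.2 (b ≫ q.hom) _ _ (hcs.1.isPullback (b ≫ q.hom))
let U' := pullback h e
let π : U' ⟶ U := pullback.fst h e
let h' : U' ⟶ V' := pullback.snd h e
have sql : IsPullback π.left h'.left h.left e.left :=
  (IsPullback.of_hasPullback h e).map (Over.forget S)
haveI : Etale π.left := MorphismProperty.of_isPullback sql.flip he
haveI : Surjective π.left := MorphismProperty.of_isPullback sql.flip hes
haveI : Smooth k.left := hq ((AlgSp.yon S).map e ≫ b) c k
  (AlgSpace.repWith_comp ((AlgSp.repWith_yon_map_iff _ _).2 he) hb) hce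
  (by rw [Category.assoc]; exact sq.w.symm)
have hl : ∀ x, Synt.IsKoszulAt (h' ≫ k).left x := hp ((AlgSp.yon S).map π ≫ a) c (h' ≫ k)
  (AlgSpace.repWith_comp ((AlgSp.repWith_yon_map_iff _ _).2 (inferInstance : Etale π.left)) ha) hce (by
    have e1 : f.hom ≫ q.hom = p.hom := congrArg InducedCategory.Hom.hom hc
    rw [Functor.map_comp, Category.assoc, Category.assoc, sq.w, ← e1, ← Category.assoc a, w]
    simp only [Category.assoc, ← Functor.map_comp_assoc]
    exact congrArg (fun m => (AlgSp.yon S).map m ≫ b ≫ q.hom) pullback.condition)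
have h2 : ∀ x, Synt.IsKoszulAt h'.left x :=
  StAlg16.lci_of_comp_smooth h'.left k.left hl
have h3 : ∀ x, Synt.IsKoszulAt (π.left ≫ h.left) x := fun x => by
  rw [sql.w]
  exact CI2.isKoszulAt_comp h'.left e.left h2 (fun y => koszulAt_of_smooth e.left y) x
exact (S9730.result π.left (CI2.syntMor_of_smooth π.left) h.left).1 h3

end Groth.Agent.S10666
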