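import Groth.Statements.S10669
import Groth.Agent.Lib.RedDVR15.Space
-- import your own Groth.Agent.* helpers here

set_option autoImplicit false
universe u
open CategoryTheory CategoryTheory.Limits AlgebraicGeometry
open AlgSp

namespace Groth.Agent.S10669

/-- For a discrete valuation ring R with residue field κ and fraction field K and an algebraic space X
over Spec R whose structure morphism s (to the terminal sheaf h_{Spec R}) is flat and proper: if the
special fibre X ×_{Spec R} Spec κ is reduced (some etale surjective scheme chart is reduced), then X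
is reduced and so is the generic fibre X ×_{Spec R} Spec K. -/
theorem result (R : Type u) [CommRing R] [IsDomain R] [IsDiscreteValuationRing R]
    {X : AlgSp.Space (Spec (CommRingCat.of R))}
    (s : X.obj ⟶ (AlgSp.yon (Spec (CommRingCat.of R))).obj (Over.mk (𝟙 _)))
    (hs1 : AlgSp.IsProperMor s) (hs2 : AlgSp.LocP @Flat s)
    (h0 : ∀ (X0 : AlgSp.Sp (Spec (CommRingCat.of R))) (fst : X0 ⟶ X.obj)
      (snd : X0 ⟶ (AlgSp.yon (Spec (CommRingCat.of R))).obj
        (Over.mk (Spec.map (CommRingCat.ofHom (IsLocalRing.residue R))))),
      IsPullback fst snd s ((AlgSp.yon (Spec (CommRingCat.of R))).map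
        (Over.homMk (Spec.map (CommRingCat.ofHom (IsLocalRing.residue R))) (Category.comp_id _) :
          Over.mk (Spec.map (CommRingCat.ofHom (IsLocalRing.residue R))) ⟶ Over.mk (𝟙 _))) →
      AlgSp.EtaleLocally (fun U => IsReduced U) X0) :
    AlgSp.EtaleLocally (fun U => IsReduced U) X.obj ∧
      ∀ (Xη : AlgSp.Sp (Spec (CommRingCat.of R))) (fst : Xη ⟶ X.obj)
        (snd : Xη ⟶ (AlgSp.yon (Spec (CommRingCat.of R))).obj
          (Over.mk (Spec.map (CommRingCat.ofHom (algebraMap R (FractionRing R)))))),
        IsPullback fst snd s ((AlgSp.yon (Spec (CommRingCat.of R))).map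
          (Over.homMk (Spec.map (CommRingCat.ofHom (algebraMap R (FractionRing R)))) (Category.comp_id _) :
            Over.mk (Spec.map (CommRingCat.ofHom (algebraMap R (FractionRing R)))) ⟶ Over.mk (𝟙 _))) →
        AlgSp.EtaleLocally (fun U => IsReduced U) Xη := by
  have h := Groth.Agent.RedDVR15.isReducedSp_of_proper_flat X.property hs1 hs2 h0
  exact ⟨h, fun Xη fst snd sq => Groth.Agent.RedDVR15.isReduced_genericFibre X.property h sq⟩

end Groth.Agent.S10669
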