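import Groth.Statements.S10676
import Groth.Agent.Lib.AlgSpDecent.Split
import Groth.Agent.Lib.AlgSpDecent.ClosedPoints
import Groth.Agent.Lib.AlgSpace.QC
-- import your own Groth.Agent.* helpers here

set_option autoImplicit false
universe u
open CategoryTheory CategoryTheory.Limits AlgebraicGeometry
open AlgSp
open Groth.Agent.AlgSpace Groth.Agent.AlgSpDecent

set_option backward.isDefEq.respectTransparency.types false

namespace Groth.Agent.S10676

/-- For a separated morphism f : X ⟶ Y of algebraic spaces over S which is locally of finite type, a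
point y of |Y| and a finite set xs of points of |X| mapping to y at each of which f is quasi-finite
(some etale chart diagram through the point has top arrow locally quasi-finite and locally of finite
type on an open neighbourhood), assuming moreover that f is quasi-compact or Y is decent: there are
an etale morphism of algebraic spaces a : U ⟶ Y and a point u of |U| over y such that for the base
change P = U ×_Y X there is an open and closed subspace V ⊂ P, finite over U, such that every point
of |V| over u maps into xs and no point of |P| outside |V| lying over u maps into xs. -/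
theorem result {S : Scheme.{u}} {X Y : AlgSp.Space S} (f : X ⟶ Y) (y : AlgSp.Points Y.obj)
    (xs : Finset (AlgSp.Points X.obj)) (hxs : ∀ x ∈ xs, AlgSp.Points.map f.hom x = y)
    (hf1 : AlgSp.LocP @LocallyOfFiniteType f.hom) (hf2 : AlgSp.IsSeparatedMor f.hom)
    (hf3 : ∀ x ∈ xs, AlgSp.HasAtMor (fun U _ h u => ∃ W : U.Opens, u ∈ W ∧ LocallyQuasiFinite (W.ι ≫ h) ∧ LocallyOfFiniteType (W.ι ≫ h)) f.hom x)
    (hf4 : AlgSp.IsQuasiCompactMor f.hom ∨ AlgSp.IsDecent Y.obj) :
    ∃ (U : AlgSp.Space S) (a : U ⟶ Y) (u : AlgSp.Points U.obj), AlgSp.IsEtaleMor a.hom ∧ AlgSp.Points.map a.hom u = y ∧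
      ∀ (P : AlgSp.Space S) (prX : P ⟶ X) (prU : P ⟶ U), IsPullback prX.hom prU.hom f.hom a.hom →
        ∃ (V : AlgSp.Space S) (jV : V ⟶ P), AlgSp.RepWith @IsOpenImmersion jV.hom ∧ AlgSp.RepWith @IsClosedImmersion jV.hom ∧
          AlgSp.IsFiniteMor (jV ≫ prU).hom ∧
          (∀ v : AlgSp.Points V.obj, AlgSp.Points.map (jV ≫ prU).hom v = u → AlgSp.Points.map (jV ≫ prX).hom v ∈ xs) ∧
          ∀ w : AlgSp.Points P.obj, w ∉ Set.range (AlgSp.Points.map jV.hom) → AlgSp.Points.map prU.hom w = u →
            AlgSp.Points.map prX.hom w ∉ xs := by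
  obtain ⟨V, b, hV, hb, v, rfl⟩ := exists_affine_chart_at Y.property y
  have sq := IsPullback.of_hasPullback f.hom b
  let F : Set (Points (pullback f.hom b)) :=
    {z | Points.map (pullback.snd f.hom b) z = Points.ofScheme V v ∧
      Points.map (pullback.fst f.hom b) z ∈ xs}
  have hF : F.Finite := by
    rcases hf4 with hqc | hdec
    · have hP : IsAlgSpace (pullback f.hom b) :=
        isAlgSpace_pullback Y.property X.property (IsAlgSpace.yon_obj V) sq
      have := compactSpace_yon_of_affine V
      obtain ⟨W, φ, hW, hφe, hφs⟩ := exists_affine_chart ((isQuasiCompactSp_iff hP).2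
        (compactSpace_of_isQuasiCompactMor X.property Y.property hqc (IsAlgSpace.yon_obj V) sq))
      obtain ⟨k, hk⟩ := (yon S).map_surjective (φ ≫ pullback.snd f.hom b)
      have : LocallyOfFiniteType k.left :=
        locP_of_isPullback X.property Y.property (IsAlgSpace.yon_obj V) sq hf1 φ (𝟙 _) k hφe
          (repWith_id _ V) (by rw [hk, Category.comp_id])
      refine ((finite_isoIn_fibre k.left v).image (Points.ofPt φ)).subset fun z hz => ?_
      obtain ⟨w, rfl⟩ := surjective_ofPt hφs z
      obtain ⟨hz₁, hz₂⟩ := hz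
      refine ⟨w, ⟨?_, ?_⟩, rfl⟩
      · rw [map_ofPt, ← hk, ofPt_map_eq] at hz₁
        exact (Points.schemeEquiv V).injective hz₁
      obtain ⟨U₁, V₁, a₁, b₁, h₁, u₁, ha₁, hb₁, w₁, he, W₁, hu₁, hqf₁, -⟩ := hf3 _ hz₂
      refine isoIn_of_diagram X.property Y.property ha₁ hb₁ w₁
        (repWith_comp hφe (repWith_of_isPullback sq.flip hb)) hb ?_ (by rw [he, map_ofPt]) ?_
      · rw [Category.assoc, pullback.condition, ← Category.assoc, hk]
      · exact (isoIn_of_lqf (W₁.ι ≫ h₁.left) ⟨u₁, hu₁⟩).of_isOpenMap W₁.ι.isOpenMap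
    · refine (Set.Finite.biUnion (t := fun x => {z | Points.map (pullback.fst f.hom b) z = x})
        xs.finite_toSet fun x _ => ?_).subset fun z hz => Set.mem_biUnion hz.2 rfl
      obtain ⟨p, rfl, -⟩ : ∃ p : FieldPt X.obj, Points.mk p = x ∧ True := by
        induction x using Quotient.inductionOn with
        | h p => exact ⟨p, rfl, trivial⟩
      obtain ⟨T, c, fst, sqb⟩ := hb.1 (p.toHom ≫ f.hom)
      obtain ⟨a, rfl⟩ := (yon S).map_surjective fst
      have : IsFinite c.left := isFinite_snd_point hdec (k := p.K) (p.toHom ≫ f.hom) hb sqb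
      have : Finite T.left := Set.finite_univ_iff.1 (by
        simpa using c.left.finite_preimage (Set.finite_univ (α := Spec (CommRingCat.of p.K))))
      let m : (yon S).obj T ⟶ pullback f.hom b :=
        sq.lift ((yon S).map c ≫ p.toHom) ((yon S).map a) (by rw [Category.assoc]; exact sqb.w.symm)
      have sqm : IsPullback m ((yon S).map c) (pullback.fst f.hom b) p.toHom :=
        (IsPullback.of_bot (by simpa [m] using sqb.flip) (by simp [m]) sq).flip
      refine (Set.finite_range (Points.ofPt m)).subset fun z hz => ?_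
      obtain ⟨τ, hτ, -⟩ := exists_pt_of_isPullback sqm (x := z)
        (t := IsLocalRing.closedPoint p.K) (hz.trans (Points.ofPt_toHom p _).symm)
      exact ⟨τ, hτ⟩
  have := hV
  obtain ⟨U, a, u, hae, hau, hU⟩ := exists_split_space f hf1 hf2 b hb v F hF (fun z hz => hz.1)
    fun z hz => hf3 _ hz.2
  refine ⟨U, a, u, hae, hau, fun P prX prU hP => ?_⟩
  obtain ⟨N, j, hjo, hjc, hjf, hmem, -⟩ := hU P prX prU hP
  refine ⟨N, j, hjo, hjc, hjf, fun w hw => ?_, fun w hwn hw hx => ?_⟩
  · rw [show (j ≫ prX).hom = j.hom ≫ prX.hom from rfl, Points.map_comp]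
    rw [show (j ≫ prU).hom = j.hom ≫ prU.hom from rfl, Points.map_comp] at hw
    obtain ⟨z, -, hz₁, hz⟩ := hmem _ hw
    rw [← hz₁]
    exact (hz.1 ⟨w, rfl⟩).2
  · obtain ⟨z, hz₀, hz₁, hz⟩ := hmem w hw
    exact hwn (hz.2 ⟨hz₀, by rw [hz₁]; exact hx⟩)

end Groth.Agent.S10676
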