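import Groth.Statements.S10677
import Groth.Agent.Lib.AlgSpDecent.Split
import Groth.Agent.Lib.AlgSpDecent.ClosedPoints
import Groth.Agent.Lib.AlgSpace.QC
-- import your own Groth.Agent.* helpers here

set_option autoImplicit false
universe u
open CategoryTheory CategoryTheory.Limits AlgebraicGeometry
open AlgSp
open Groth.Agent.AlgSpace Groth.Agent.AlgSpDecent

set_option backward.isDefEq.respectTransparency.types false

namespace Groth.Agent.S10677

/-- For a separated morphism f : X ⟶ Y of algebraic spaces over S which is locally of finite type and a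
point x of |X| with image y at which f is quasi-finite (some etale chart diagram through x has top
arrow locally quasi-finite and locally of finite type on an open neighbourhood), there are an etale
morphism a : U ⟶ Y and a point u of |U| over y such that for the base change P = U ×_Y X there is an
open and closed subspace V ⊂ P, finite over U, containing a point mapping to x in |X| and to u in
|U|. -/
theorem result {S : Scheme.{u}} {X Y : AlgSp.Space S} (f : X ⟶ Y) (x : AlgSp.Points X.obj)
    (hf1 : AlgSp.LocP @LocallyOfFiniteType f.hom) (hf2 : AlgSp.IsSeparatedMor f.hom)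
    (hf3 : AlgSp.HasAtMor (fun U _ h u => ∃ W : U.Opens, u ∈ W ∧ LocallyQuasiFinite (W.ι ≫ h) ∧ LocallyOfFiniteType (W.ι ≫ h)) f.hom x) :
    ∃ (U : AlgSp.Space S) (a : U ⟶ Y) (u : AlgSp.Points U.obj), AlgSp.IsEtaleMor a.hom ∧
      AlgSp.Points.map a.hom u = AlgSp.Points.map f.hom x ∧
      ∀ (P : AlgSp.Space S) (prX : P ⟶ X) (prU : P ⟶ U), IsPullback prX.hom prU.hom f.hom a.hom →
        ∃ (V : AlgSp.Space S) (jV : V ⟶ P), AlgSp.RepWith @IsOpenImmersion jV.hom ∧ AlgSp.RepWith @IsClosedImmersion jV.hom ∧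
          AlgSp.IsFiniteMor (jV ≫ prU).hom ∧
          ∃ v : AlgSp.Points V.obj, AlgSp.Points.map (jV ≫ prX).hom v = x ∧ AlgSp.Points.map (jV ≫ prU).hom v = u := by
  obtain ⟨V, b, hV, hb, v, hv⟩ := exists_affine_chart_at Y.property (Points.map f.hom x)
  obtain ⟨z, hz₁, hz₂⟩ := Groth.Agent.AlgSpDecent.exists_point_lift
    (IsPullback.of_hasPullback f.hom b) x (Points.ofScheme V v)
    (hv.symm.trans (Points.ofPt_eq_map_ofScheme b v))
  have := hV
  obtain ⟨U, a, u, hae, hau, hU⟩ := exists_split_space f hf1 hf2 b hb v {z} (Set.finite_singleton z)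
    (by rintro _ rfl; exact hz₂) (by rintro _ rfl; rw [hz₁]; exact hf3)
  refine ⟨U, a, u, hae, hau.trans hv, fun P prX prU hP => ?_⟩
  obtain ⟨N, j, hjo, hjc, hjf, -, hlift⟩ := hU P prX prU hP
  obtain ⟨_, ⟨w, rfl⟩, hw₁, hw₂⟩ := hlift z rfl
  refine ⟨N, j, hjo, hjc, hjf, w, ?_, ?_⟩
  · rw [show (j ≫ prX).hom = j.hom ≫ prX.hom from rfl, Points.map_comp, hw₂, hz₁]
  · rw [show (j ≫ prU).hom = j.hom ≫ prU.hom from rfl, Points.map_comp, hw₁]

end Groth.Agent.S10677
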