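import Groth.Statements.S1068
import Groth.Agent.Lib.TwistBC9.H0Push
import Groth.Agent.S1061
import Groth.Agent.S0980

set_option autoImplicit false
set_option linter.style.haveILetI false
set_option backward.isDefEq.respectTransparency false
set_option linter.style.haveILetI false
set_option backward.isDefEq.respectTransparency false
universe u
open CategoryTheory CategoryTheory.Limits AlgebraicGeometry Opposite
attribute [local instance] HasDerivedCategory.standard
open Perf

namespace Groth.Agent.S1068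

/-- Let f : X ⟶ S be proper, flat and of finite presentation, with global functions on every fibre X_s
reduced to κ(s) (pullback along X_s ⟶ Spec κ(s) is an isomorphism on global sections). Then every
point s of S has an open neighbourhood V over which, writing f_V : f⁻¹V ⟶ V and assuming Rf_{V,*}
exists and binary direct sums in D(O_V) are available, Rf_{V,*}O_{f⁻¹V} ≅ O_V ⊕ P for some perfect P
∈ D(O_V) of tor amplitude in [1, b] for some b. -/
theorem result {X S : Scheme.{u}} (f : X ⟶ S) [IsProper f] [Flat f]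
    [LocallyOfFinitePresentation f] (h : ∀ s : S, IsIso (f.fiberToSpecResidueField s).appTop) (s : S) :
    ∃ V : S.Opens, s ∈ V ∧ ∀ [DCoh.HasRpush (f ∣_ V)] [∀ A B : DCoh.D (V : Scheme.{u}), HasBinaryBiproduct A B],
      ∃ (P : DCoh.D (V : Scheme.{u})) (b : ℤ), DCoh.IsPerfect P ∧ DCoh.HasTorAmplitudeIn 1 b P ∧
        Nonempty ((DCoh.Rpush (f ∣_ V)).obj (DCoh.inD (f ⁻¹ᵁ V : Scheme.{u}) (Coh.structureModule (f ⁻¹ᵁ V : Scheme.{u}))) ≅
          DCoh.inD (V : Scheme.{u}) (Coh.structureModule (V : Scheme.{u})) ⊞ P) := by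
  obtain ⟨V, hsV, P, b, hP, hamp, ⟨e⟩⟩ := TwistBC9.exists_split_of_h0 (fun {R} _ {X'} f' _ _ E' hE' G' hG' hflat' hsupp' => by
    haveI : DCoh.HasRpush f' := DBC9.hasRpush f'
    haveI := KFlat.Sch.hasLTensorMod G'
    obtain ⟨a⟩ := TwistBC9.nonempty_ltensorMod_iso G' E'
    exact DGen9.isPerfect_of_iso ((DCoh.Rpush f').mapIso a) (S1061.result f' E' hE' G' hG' hflat' hsupp'))
    f (S0980.result f h) h s
  exact ⟨V, hsV, fun {_} {_} => ⟨P, b, hP, hamp, ⟨e⟩⟩⟩

end Groth.Agent.S1068
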