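import Groth.Statements.S10681
-- import your own Groth.Agent.* helpers here
import Groth.Agent.Lib.GeomConn25.Fibre

set_option autoImplicit false
universe u
open CategoryTheory CategoryTheory.Limits AlgebraicGeometry
open AlgSp

set_option backward.isDefEq.respectTransparency.types false
set_option maxHeartbeats 1600000
namespace Groth.Agent.S10681

/-- For a morphism f : X ⟶ Y between algebraic spaces over S and a geometric point ȳ of Y (an
algebraically closed field point), the geometric fibre X_ȳ (pullback in fppf sheaves) has connected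
space of points if and only if for every scheme V with a representable etale a : h_V ⟶ Y and every
point v of V through which ȳ factors, the fibre of X ×_Y V ⟶ V over v (pullback along the residue
field point of v) has connected space of points. -/
theorem result {S : Scheme.{u}} {X Y : AlgSp.Space S} (f : X ⟶ Y) (yb : AlgSp.FieldPt Y.obj) (hyb : yb.IsGeometric)
    (Xyb : AlgSp.Sp S) (fst : Xyb ⟶ X.obj) (snd : Xyb ⟶ (AlgSp.yon S).obj yb.pt) (h : IsPullback fst snd f.hom yb.toHom) :
    ConnectedSpace (AlgSp.Points Xyb) ↔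
      ∀ (V : Over S) (a : (AlgSp.yon S).obj V ⟶ Y.obj), AlgSp.RepWith @Etale a →
        ∀ (v : ↥V.left) (c : yb.pt ⟶ V), (AlgSp.yon S).map c ≫ a = yb.toHom → c.left (IsLocalRing.closedPoint yb.K) = v →
          ∀ (Xv : AlgSp.Sp S) (fst' : Xv ⟶ X.obj)
            (snd' : Xv ⟶ (AlgSp.yon S).obj (Over.mk (V.left.fromSpecResidueField v ≫ V.hom))),
            IsPullback fst' snd' f.hom ((AlgSp.yon S).map (Over.homMk (V.left.fromSpecResidueField v) rfl :
              Over.mk (V.left.fromSpecResidueField v ≫ V.hom) ⟶ V) ≫ a) →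
            ConnectedSpace (AlgSp.Points Xv) := by
  have : IsAlgClosed yb.K := hyb
  constructor
  · intro hc V a ha v c hca hcv Xv fst' snd' h'
    obtain ⟨r, hr⟩ := Groth.Agent.GeomConn25.exists_factor_residueField c v hcv
    have sqP := IsPullback.of_hasPullback snd' ((AlgSp.yon S).map r)
    have big := sqP.paste_horiz h'
    rw [← Functor.map_comp_assoc, hr, hca] at big
    have := Groth.Agent.GeomConn25.connectedSpace_of_iso (h.isoIsPullback _ _ big)
    have hXv : AlgSp.IsAlgSpace Xv :=
      Groth.Agent.AlgSpace.isAlgSpace_baseChange X.property Y.property (AlgSp.IsAlgSpace.yon_obj _) h'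
    have : Surjective r.left := ⟨fun x => ⟨IsLocalRing.closedPoint yb.K,
      Subsingleton.elim (α := PrimeSpectrum (V.left.residueField v)) _ _⟩⟩
    exact (Groth.Agent.GeomRed15.surjective_bc sqP hXv).connectedSpace (AlgSp.Points.continuous_map _)
  · intro hV
    obtain ⟨A, _, s, a, φ, c, ha, hc, hca⟩ := Groth.Agent.GeomConn25.exists_affine_lift yb
    let p : Ideal A := RingHom.ker φ
    have : p.IsPrime := RingHom.ker_isPrime φ
    let φK : p.ResidueField →+* yb.K := Ideal.ResidueField.lift p φ le_rfl
      (fun x hx => Ne.isUnit (fun h => hx h))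
    let _ : Algebra p.ResidueField yb.K := φK.toAlgebra
    let σ : Spec (CommRingCat.of p.ResidueField) ⟶ S := Spec.map (CommRingCat.ofHom (algebraMap A p.ResidueField)) ≫ s
    let j : Over.mk σ ⟶ Over.mk s := Over.homMk (Spec.map (CommRingCat.ofHom (algebraMap A p.ResidueField))) rfl
    let y : (AlgSp.yon S).obj (Over.mk σ) ⟶ Y.obj := (AlgSp.yon S).map j ≫ a
    obtain ⟨F, hF⟩ := Groth.Agent.GeomConn25.exists_fibre_space f.hom σ y
    have hψ : Spec.map (CommRingCat.ofHom (algebraMap p.ResidueField yb.K)) ≫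
        Spec.map (CommRingCat.ofHom (algebraMap A p.ResidueField)) = c.left := by
      rw [hc, ← Spec.map_comp, ← CommRingCat.ofHom_comp]
      exact congrArg (fun k => Spec.map (CommRingCat.ofHom k)) (RingHom.ext fun x => Ideal.ResidueField.lift_algebraMap p φ le_rfl (fun y hy => Ne.isUnit (fun h => hy h)) x)
    let ψ : Over.mk yb.str ⟶ Over.mk σ := Over.homMk (Spec.map (CommRingCat.ofHom (algebraMap p.ResidueField yb.K))) (by
      change _ ≫ _ ≫ s = yb.str
      rw [← Category.assoc, hψ]
      exact Over.w c)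
    have hy : (AlgSp.yon S).map ψ ≫ y = yb.toHom := by
      rw [← hca, ← Functor.map_comp_assoc]
      exact congrArg (fun k => (AlgSp.yon S).map k ≫ a) (Over.OverMorphism.ext hψ)
    refine (hF yb.K yb.str ψ rfl Xyb fst snd (by rw [hy]; exact h)).2
      ((Groth.Agent.S10469.result p.ResidueField F).2 (fun M _ _ _ _ => ?_) yb.K)
    -- an etale neighbourhood realising `M`
    let _ : Algebra A M := ((algebraMap p.ResidueField M).comp (algebraMap A p.ResidueField)).toAlgebra
    have : IsScalarTower A p.ResidueField M := IsScalarTower.of_algebraMap_eq' rfl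
    obtain ⟨R', _, _, _, q, _, hq, ⟨eqv⟩⟩ := Groth.Agent.ER4.exists_etale_residueField_ext p M
    let e : Spec (CommRingCat.of R') ⟶ Spec (CommRingCat.of A) := Spec.map (CommRingCat.ofHom (algebraMap A R'))
    have : Etale e := (HasRingHomProperty.Spec_iff (P := @Etale)).mpr (RingHom.etale_algebraMap.mpr inferInstance)
    let V' : Over S := Over.mk (e ≫ s)
    let u : Spec (CommRingCat.of R') := ⟨q, inferInstance⟩
    let θ : Spec (CommRingCat.of M) ⟶ Spec ((Spec (CommRingCat.of R')).residueField u) :=
      Spec.map ((Scheme.Spec.residueFieldIso (CommRingCat.of R') u).hom ≫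
        (show q.ResidueField ≃+* M from eqv.symm.toRingEquiv).toCommRingCatIso.hom)
    have : IsIso θ := inferInstance
    have hθ : θ ≫ (Spec (CommRingCat.of R')).fromSpecResidueField u ≫ e =
        Spec.map (CommRingCat.ofHom (algebraMap p.ResidueField M)) ≫
          Spec.map (CommRingCat.ofHom (algebraMap A p.ResidueField)) := by
      rw [← Scheme.Spec.map_residueFieldIso_inv_eq_fromSpecResidueField]
      show Spec.map _ ≫ (Spec.map _ ≫ Spec.map _) ≫ Spec.map _ = Spec.map _ ≫ Spec.map _
      simp only [← Spec.map_comp_assoc, ← Spec.map_comp, Category.assoc]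
      congr 1
      ext x
      show eqv.symm ((Scheme.Spec.residueFieldIso (CommRingCat.of R') u).hom
        ((Scheme.Spec.residueFieldIso (CommRingCat.of R') u).inv (algebraMap R' _ (algebraMap A R' x)))) = algebraMap A M x
      rw [Iso.inv_hom_id_apply, ← IsScalarTower.algebraMap_apply A R' q.ResidueField, AlgEquiv.commutes]
    let g : V' ⟶ Over.mk s := Over.homMk e rfl
    have hge : RepWith @Etale ((AlgSp.yon S).map g ≫ a) :=
      Groth.Agent.AlgSpace.repWith_comp ((repWith_yon_map_iff _ _).2 ‹Etale e›) ha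
    let τ : M →ₐ[p.ResidueField] yb.K := IsAlgClosed.lift
    let ψM : Over.mk (Spec.map (CommRingCat.ofHom (algebraMap p.ResidueField M)) ≫ σ) ⟶ Over.mk σ :=
      Over.homMk (Spec.map (CommRingCat.ofHom (algebraMap p.ResidueField M))) rfl
    let θ' : Over.mk (Spec.map (CommRingCat.ofHom (algebraMap p.ResidueField M)) ≫ σ) ⟶
        Over.mk (V'.left.fromSpecResidueField u ≫ V'.hom) := Over.homMk θ (by
      change θ ≫ (Spec (CommRingCat.of R')).fromSpecResidueField u ≫ e ≫ s = _ ≫ _ ≫ s
      rw [reassoc_of% hθ])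
    have hθ' : θ' ≫ (Over.homMk (V'.left.fromSpecResidueField u) rfl :
        Over.mk (V'.left.fromSpecResidueField u ≫ V'.hom) ⟶ V') ≫ g = ψM ≫ j := Over.OverMorphism.ext hθ
    let t : Over.mk yb.str ⟶ Over.mk (Spec.map (CommRingCat.ofHom (algebraMap p.ResidueField M)) ≫ σ) :=
      Over.homMk (Spec.map (CommRingCat.ofHom τ.toRingHom)) (by
        change _ ≫ _ ≫ σ = yb.str
        rw [← Spec.map_comp_assoc, ← CommRingCat.ofHom_comp, τ.toRingHom_eq_coe, τ.comp_algebraMap]
        exact Over.w ψ)
    have ht : t ≫ ψM = ψ := Over.OverMorphism.ext (by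
      change Spec.map _ ≫ Spec.map _ = Spec.map _
      rw [← Spec.map_comp, ← CommRingCat.ofHom_comp, τ.toRingHom_eq_coe, τ.comp_algebraMap])
    let gv : (AlgSp.yon S).obj (Over.mk (V'.left.fromSpecResidueField u ≫ V'.hom)) ⟶ Y.obj :=
      (AlgSp.yon S).map (Over.homMk (V'.left.fromSpecResidueField u) rfl :
        Over.mk (V'.left.fromSpecResidueField u ≫ V'.hom) ⟶ V') ≫ (AlgSp.yon S).map g ≫ a
    let c' : yb.pt ⟶ V' := t ≫ θ' ≫ Over.homMk (V'.left.fromSpecResidueField u) rfl
    have hc' : (AlgSp.yon S).map c' ≫ (AlgSp.yon S).map g ≫ a = yb.toHom := by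
      rw [← Functor.map_comp_assoc, ← hy]
      change _ = (AlgSp.yon S).map ψ ≫ (AlgSp.yon S).map j ≫ a
      rw [← Functor.map_comp_assoc, ← ht]
      simp only [c', Category.assoc, hθ']
    have := hV V' _ hge u c' hc' (Scheme.fromSpecResidueField_apply u _) _ _ _ (IsPullback.of_hasPullback f.hom gv)
    have : IsIso θ' := by
      have : IsIso ((Over.forget S).map θ') := ‹IsIso θ›
      exact isIso_of_reflects_iso θ' (Over.forget S)
    have sqQ := IsPullback.of_hasPullback (pullback.snd f.hom gv) ((AlgSp.yon S).map θ')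
    have : IsIso (pullback.fst (pullback.snd f.hom gv) ((AlgSp.yon S).map θ')) := sqQ.isIso_fst_of_isIso
    have := Groth.Agent.GeomConn25.connectedSpace_of_iso
      (asIso (pullback.fst (pullback.snd f.hom gv) ((AlgSp.yon S).map θ'))).symm
    have e' : (AlgSp.yon S).map θ' ≫ gv = (AlgSp.yon S).map ψM ≫ y := by
      simp only [gv, y, ← Functor.map_comp_assoc, Category.assoc, hθ']
    have big := sqQ.paste_horiz (IsPullback.of_hasPullback f.hom gv)
    rw [e'] at big
    exact (hF M _ ψM rfl _ _ _ big).1 inferInstance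

end Groth.Agent.S10681
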