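import Groth.Statements.S10682
import Groth.Agent.Lib.GeomRedOpen27.Fibre
-- import your own Groth.Agent.* helpers here

set_option autoImplicit false
universe u
open CategoryTheory CategoryTheory.Limits AlgebraicGeometry
open AlgSp

namespace Groth.Agent.S10682

/-- For a flat proper morphism f : X ⟶ Y between algebraic spaces over S which is of finite
presentation, the set of points y of |Y| at which the fibre of f is geometrically reduced is open in
|Y|; here the fibre of f at y being geometrically reduced means: for every field point k of Y in the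
class of y and every field homomorphism k ⟶ k', the base change X_{k'} (pullback in fppf sheaves) is
reduced (some etale surjective scheme chart is reduced). -/
theorem result {S : Scheme.{u}} {X Y : AlgSp.Space S} (f : X ⟶ Y)
    (hf1 : AlgSp.LocP @Flat f.hom) (hf2 : AlgSp.IsProperMor f.hom) (hf3 : AlgSp.IsFinitePresentationMor f.hom) :
    IsOpen {y : AlgSp.Points Y.obj | ∀ (k : AlgSp.FieldPt Y.obj), AlgSp.Points.mk k = y →
        ∀ (k' : Type u) [Field k'] (φ : k.K →+* k') (Xk' : AlgSp.Sp S) (a : Xk' ⟶ X.obj)
          (b : Xk' ⟶ (AlgSp.yon S).obj (Over.mk (Spec.map (CommRingCat.ofHom φ) ≫ k.str))),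
          IsPullback a b f.hom ((AlgSp.yon S).map (Over.homMk (Spec.map (CommRingCat.ofHom φ)) rfl :
            Over.mk (Spec.map (CommRingCat.ofHom φ) ≫ k.str) ⟶ k.pt) ≫ k.toHom) →
          AlgSp.EtaleLocally (fun U => IsReduced U) Xk'} := by
  exact Groth.Agent.GeomRedOpen27.isOpen_locus f hf1 hf3.1 hf2.2.2


end Groth.Agent.S10682
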