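import Groth.Statements.S10683
import Groth.Agent.Lib.GeomRedOpen27.Constr
-- import your own Groth.Agent.* helpers here

set_option autoImplicit false
universe u
open CategoryTheory CategoryTheory.Limits AlgebraicGeometry
open AlgSp

namespace Groth.Agent.S10683

/-- For a quasi-compact morphism f : X ⟶ Y between algebraic spaces over S which is locally of finite
presentation, the set E of points of |Y| at which the fibre of f is geometrically reduced is etale
locally constructible: for every affine scheme V with a representable etale a : h_V ⟶ Y, the inverse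
image of E in V is a constructible subset. Here the fibre of f at y being geometrically reduced
means: for every field point k of Y in the class of y and every field homomorphism k ⟶ k', the base
change X_{k'} (pullback in fppf sheaves) is reduced (some etale surjective scheme chart is reduced). -/
theorem result {S : Scheme.{u}} {X Y : AlgSp.Space S} (f : X ⟶ Y)
    (hf1 : AlgSp.IsQuasiCompactMor f.hom) (hf2 : AlgSp.LocP @LocallyOfFinitePresentation f.hom)
    (V : Over S) (hV : IsAffine V.left) (a : (AlgSp.yon S).obj V ⟶ Y.obj) (ha : AlgSp.RepWith @Etale a) :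
    Topology.IsConstructible ((AlgSp.Points.ofPt a) ⁻¹' {y : AlgSp.Points Y.obj | ∀ (k : AlgSp.FieldPt Y.obj), AlgSp.Points.mk k = y →
        ∀ (k' : Type u) [Field k'] (φ : k.K →+* k') (Xk' : AlgSp.Sp S) (a : Xk' ⟶ X.obj)
          (b : Xk' ⟶ (AlgSp.yon S).obj (Over.mk (Spec.map (CommRingCat.ofHom φ) ≫ k.str))),
          IsPullback a b f.hom ((AlgSp.yon S).map (Over.homMk (Spec.map (CommRingCat.ofHom φ)) rfl :
            Over.mk (Spec.map (CommRingCat.ofHom φ) ≫ k.str) ⟶ k.pt) ≫ k.toHom) →
          AlgSp.EtaleLocally (fun U => IsReduced U) Xk'}) := by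
  haveI := hV
  exact Groth.Agent.GeomRedOpen27.isConstructible_locus f hf1 hf2 V a ha


end Groth.Agent.S10683
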