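import Groth.Statements.S10687
import Groth.Agent.Lib.AlgSpDecent.GorensteinAt
import Groth.Agent.Lib.AlgSpace.LocP
import Groth.Agent.Lib.AlgSpace.Points
-- import your own Groth.Agent.* helpers here

set_option autoImplicit false
universe u
open CategoryTheory CategoryTheory.Limits AlgebraicGeometry
open AlgSp

namespace Groth.Agent.S10687

/-- For morphisms f : X ⟶ Y and g : Y ⟶ Z between algebraic spaces over S whose fibres, and those of f ≫
g, are locally Noetherian, and a point x of |X|: (1) if g is Gorenstein at the image of x and f is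
Gorenstein at x itself, then so is f ≫ g at x; (2) if f ≫ g is Gorenstein at x and f is flat there,
then f is Gorenstein at x and g at the image of x. Here f is Gorenstein at x when in every etale
chart diagram through x the top arrow is Gorenstein at the point over x (flat there, with Gorenstein
local ring of its fibre), and the fibres of a morphism are locally Noetherian when every fibre over
a field point (pullback in fppf sheaves) is a locally Noetherian algebraic space. -/
theorem result {S : Scheme.{u}} {X Y Z : AlgSp.Space S} (f : X ⟶ Y) (g : Y ⟶ Z)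
    (hf : ∀ (k : AlgSp.FieldPt Y.obj) (Xk : AlgSp.Sp S) (a : Xk ⟶ X.obj) (b : Xk ⟶ (AlgSp.yon S).obj k.pt),
        IsPullback a b f.hom k.toHom → AlgSp.IsLocNoethSp Xk)
    (hg : ∀ (k : AlgSp.FieldPt Z.obj) (Xk : AlgSp.Sp S) (a : Xk ⟶ Y.obj) (b : Xk ⟶ (AlgSp.yon S).obj k.pt),
        IsPullback a b g.hom k.toHom → AlgSp.IsLocNoethSp Xk)
    (hfg : ∀ (k : AlgSp.FieldPt Z.obj) (Xk : AlgSp.Sp S) (a : Xk ⟶ X.obj) (b : Xk ⟶ (AlgSp.yon S).obj k.pt),
        IsPullback a b (f ≫ g).hom k.toHom → AlgSp.IsLocNoethSp Xk)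
    (x : AlgSp.Points X.obj) :
    (AlgSp.LocPAt (fun h u => Dual3.IsGorensteinAt h u) f.hom x → AlgSp.LocPAt (fun h u => Dual3.IsGorensteinAt h u) g.hom (AlgSp.Points.map f.hom x) →
        AlgSp.LocPAt (fun h u => Dual3.IsGorensteinAt h u) (f ≫ g).hom x) ∧
      (AlgSp.LocPAt (fun h u => Dual3.IsGorensteinAt h u) (f ≫ g).hom x → AlgSp.IsFlatAtMor f.hom x →
        AlgSp.LocPAt (fun h u => Dual3.IsGorensteinAt h u) f.hom x ∧ AlgSp.LocPAt (fun h u => Dual3.IsGorensteinAt h u) g.hom (AlgSp.Points.map f.hom x)) := by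
  open Groth.Agent.AlgSpace Groth.Agent.AlgSpDecent Groth.Agent.AlgSpDecent.GorAt in
  obtain ⟨V, W, b, c, k, hbe, hbs, hce, hcs, wg⟩ := exists_chart_square Y.property Z.property g.hom
  open Groth.Agent.AlgSpace Groth.Agent.AlgSpDecent Groth.Agent.AlgSpDecent.GorAt in
  obtain ⟨U, a, h, hae, has, wf⟩ := exists_chart_over X.property Y.property f.hom b hbe hbs
  obtain ⟨u, rfl⟩ := Groth.Agent.AlgSpace.surjective_ofPt has x
  have wfg : a ≫ (f ≫ g).hom = (AlgSp.yon S).map (h ≫ k) ≫ c := by
    show a ≫ f.hom ≫ g.hom = _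
    rw [Functor.map_comp, Category.assoc, ← wg, ← Category.assoc, wf, Category.assoc]
  have hpt : AlgSp.Points.map f.hom (AlgSp.Points.ofPt a u) = AlgSp.Points.ofPt b (h.left u) := by
    rw [AlgSp.Points.map_ofPt, wf, Groth.Agent.AlgSpDecent.ofPt_map_comp]
  rw [hpt, Groth.Agent.AlgSpDecent.GorAt.locPAt_gorenstein_iff hf hae hbe wf u,
    Groth.Agent.AlgSpDecent.GorAt.locPAt_gorenstein_iff hg hbe hce wg (h.left u),
    Groth.Agent.AlgSpDecent.GorAt.locPAt_gorenstein_iff hfg hae hce wfg u,
    Groth.Agent.AlgSpDecent.FlatAt.isFlatAtMor_iff hae hbe wf u]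
  exact Groth.Agent.Goren15.isGorensteinAt_comp h.left k.left u
    (Groth.Agent.AlgSpDecent.GorAt.isLocallyNoetherian_fiber hg hbe hce wg _)
    (Groth.Agent.AlgSpDecent.GorAt.isLocallyNoetherian_fiber hfg hae hce wfg _)

end Groth.Agent.S10687
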