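import Groth.Statements.S10688
import Groth.Agent.Lib.AlgSpDecent.GorensteinAt
import Groth.Agent.Lib.Goren15.BaseChange
import Groth.Agent.Lib.AlgSpace.LocP
import Groth.Agent.Lib.AlgSpace.Points
-- import your own Groth.Agent.* helpers here

set_option autoImplicit false
universe u
open CategoryTheory CategoryTheory.Limits AlgebraicGeometry
open AlgSp

namespace Groth.Agent.S10688

/-- For a morphism f : X ⟶ Y between algebraic spaces over S with locally Noetherian fibres, g : Y' ⟶ Y
locally of finite type, f' : X' ⟶ Y' the base change (a pullback square of algebraic spaces) with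
projection g' : X' ⟶ X, and x' a point of |X'| with image x: (1) if f is Gorenstein at x then so is
f' at x'; (2) when f is flat at x, Gorensteinness of f' at x' implies that of f at x; (3) the same
conclusion holds if instead g is flat at the image of x' and f' is Gorenstein at x'. Here f is
Gorenstein at x when in every etale chart diagram through x the top arrow is Gorenstein at the point
over x (flat there, with Gorenstein local ring of its fibre), and the fibres of a morphism are
locally Noetherian when every fibre over a field point (pullback in fppf sheaves) is a locally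
Noetherian algebraic space. -/
theorem result {S : Scheme.{u}} {X Y X' Y' : AlgSp.Space S} (f : X ⟶ Y) (g : Y' ⟶ Y) (g' : X' ⟶ X) (f' : X' ⟶ Y')
    (hsq : IsPullback g'.hom f'.hom f.hom g.hom)
    (hf : ∀ (k : AlgSp.FieldPt Y.obj) (Xk : AlgSp.Sp S) (a : Xk ⟶ X.obj) (b : Xk ⟶ (AlgSp.yon S).obj k.pt),
        IsPullback a b f.hom k.toHom → AlgSp.IsLocNoethSp Xk)
    (hg : AlgSp.LocP @LocallyOfFiniteType g.hom) (x' : AlgSp.Points X'.obj) :
    (AlgSp.LocPAt (fun h u => Dual3.IsGorensteinAt h u) f.hom (AlgSp.Points.map g'.hom x') → AlgSp.LocPAt (fun h u => Dual3.IsGorensteinAt h u) f'.hom x') ∧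
      (AlgSp.IsFlatAtMor f.hom (AlgSp.Points.map g'.hom x') → AlgSp.LocPAt (fun h u => Dual3.IsGorensteinAt h u) f'.hom x' →
        AlgSp.LocPAt (fun h u => Dual3.IsGorensteinAt h u) f.hom (AlgSp.Points.map g'.hom x')) ∧
      (AlgSp.IsFlatAtMor g.hom (AlgSp.Points.map f'.hom x') → AlgSp.LocPAt (fun h u => Dual3.IsGorensteinAt h u) f'.hom x' →
        AlgSp.LocPAt (fun h u => Dual3.IsGorensteinAt h u) f.hom (AlgSp.Points.map g'.hom x')) := by
  have hf' : Groth.Agent.AlgSpDecent.GorAt.NoethFibres f'.hom := fun k Xk a b sqk =>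
    hf (AlgSp.FieldPt.map g.hom k) Xk (a ≫ g'.hom) b (by
      rw [AlgSp.FieldPt.toHom_map]
      exact sqk.paste_horiz hsq)
  obtain ⟨U, V, a, b, h, hae, has, hbe, hbs, w⟩ :=
    Groth.Agent.AlgSpace.exists_chart_square X.property Y.property f.hom
  let nZ := pullback.fst g.hom b
  let nW := pullback.snd g.hom b
  have sqN : IsPullback nZ nW g.hom b := IsPullback.of_hasPullback g.hom b
  obtain ⟨W', r, hre, hrs⟩ := (Groth.Agent.AlgSpace.isAlgSpace_pullback Y.property Y'.property
    (AlgSp.IsAlgSpace.yon_obj V) sqN).atlas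
  obtain ⟨γ, hγ⟩ := (AlgSp.yon S).map_surjective (r ≫ nW)
  obtain ⟨a', hae', has', w1, w2⟩ :=
    Groth.Agent.AlgSpDecent.FlatAt.exists_bc_chart hsq hae has w sqN hre hrs hγ
  obtain ⟨u', rfl⟩ := Groth.Agent.AlgSpace.surjective_ofPt has' x'
  have hcY : AlgSp.RepWith @Etale (r ≫ nZ) :=
    Groth.Agent.AlgSpace.repWith_comp hre (Groth.Agent.AlgSpace.repWith_of_isPullback sqN.flip hbe)
  have wg : (r ≫ nZ) ≫ g.hom = (AlgSp.yon S).map γ ≫ b := by
    rw [hγ, Category.assoc, Category.assoc, sqN.w]
  haveI : LocallyOfFiniteType γ.left := hg (r ≫ nZ) b γ hcY hbe wg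
  have hx : AlgSp.Points.map g'.hom (AlgSp.Points.ofPt a' u') =
      AlgSp.Points.ofPt a ((pullback.fst h γ).left u') := by
    rw [AlgSp.Points.map_ofPt, w1, Groth.Agent.AlgSpDecent.ofPt_map_comp]
  have hy : AlgSp.Points.map f'.hom (AlgSp.Points.ofPt a' u') =
      AlgSp.Points.ofPt (r ≫ nZ) ((pullback.snd h γ).left u') := by
    rw [AlgSp.Points.map_ofPt, w2, Groth.Agent.AlgSpDecent.ofPt_map_comp]
  rw [hx, hy, Groth.Agent.AlgSpDecent.GorAt.locPAt_gorenstein_iff hf' hae' hcY w2 u',
    Groth.Agent.AlgSpDecent.GorAt.locPAt_gorenstein_iff hf hae hbe w _,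
    Groth.Agent.AlgSpDecent.FlatAt.isFlatAtMor_iff hae hbe w _,
    Groth.Agent.AlgSpDecent.FlatAt.isFlatAtMor_iff hcY hbe wg _]
  exact Groth.Agent.Goren15.isGorensteinAt_baseChange h.left γ.left (pullback.snd h γ).left
    (pullback.fst h γ).left ((IsPullback.of_hasPullback h γ).map (Over.forget S)) u'
    (Groth.Agent.AlgSpDecent.GorAt.isLocallyNoetherian_fiber hf hae hbe w _)

end Groth.Agent.S10688
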