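import Groth.Statements.S10689
import Groth.Agent.Lib.GorOpen27.Global
import Groth.Agent.Lib.AlgSpDecent.GorensteinAt
import Groth.Agent.Lib.AlgSpDecent.FlatAt
import Groth.Agent.S10802

set_option backward.isDefEq.respectTransparency.types false
-- import your own Groth.Agent.* helpers here

set_option autoImplicit false
universe u
open CategoryTheory CategoryTheory.Limits AlgebraicGeometry
open AlgSp

namespace Groth.Agent.S10689

/-- For a flat morphism f : X ⟶ Y between algebraic spaces over S which is locally of finite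
presentation, the set W of points of |X| at which f is Gorenstein (in every etale chart diagram
through the point the top arrow is flat there with Gorenstein local ring of its fibre) is open in
|X|, and for any morphism of algebraic spaces g : Y' ⟶ Y with base change f' : X' ⟶ Y' and
projection g' : X' ⟶ X the corresponding set for f' is the inverse image of W under |g'|. -/
theorem result {S : Scheme.{u}} {X Y : AlgSp.Space S} (f : X ⟶ Y)
    (hf1 : AlgSp.LocP @Flat f.hom) (hf2 : AlgSp.LocP @LocallyOfFinitePresentation f.hom) :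
    IsOpen {x : AlgSp.Points X.obj | AlgSp.LocPAt (fun h u => Dual3.IsGorensteinAt h u) f.hom x} ∧
      ∀ (X' Y' : AlgSp.Space S) (g : Y' ⟶ Y) (g' : X' ⟶ X) (f' : X' ⟶ Y'), IsPullback g'.hom f'.hom f.hom g.hom →
        {x' : AlgSp.Points X'.obj | AlgSp.LocPAt (fun h u => Dual3.IsGorensteinAt h u) f'.hom x'} =
          AlgSp.Points.map g'.hom ⁻¹' {x : AlgSp.Points X.obj | AlgSp.LocPAt (fun h u => Dual3.IsGorensteinAt h u) f.hom x} := by
  have hlft : AlgSp.LocP @LocallyOfFiniteType f.hom := Groth.Agent.AlgSpace.locP_mono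
    (P := @LocallyOfFinitePresentation) (Q := @LocallyOfFiniteType)
    (fun _ _ g (_ : LocallyOfFinitePresentation g) => inferInstance) hf2
  have hf : Groth.Agent.AlgSpDecent.GorAt.NoethFibres f.hom := fun k Xk a b sq =>
    Groth.Agent.S10802.result X Y f hlft k a b sq
  obtain ⟨U, V, a, b, h, hae, has, hbe, hbs, w⟩ :=
    Groth.Agent.AlgSpace.exists_chart_square X.property Y.property f.hom
  haveI : Flat h.left := hf1 a b h hae hbe w
  haveI : LocallyOfFinitePresentation h.left := hf2 a b h hae hbe w
  refine ⟨?_, fun X' Y' g g' f' hsq => ?_⟩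
  · rw [← (Groth.Agent.AlgSpace.isOpenQuotientMap_ofPt hae has).isQuotientMap.isOpen_preimage]
    convert Groth.Agent.GorOpen27.isOpen_gorensteinLocus h.left using 1
    ext u
    exact Groth.Agent.AlgSpDecent.GorAt.locPAt_gorenstein_iff hf hae hbe w u
  have hf' : Groth.Agent.AlgSpDecent.GorAt.NoethFibres f'.hom := fun k Xk a b sqk =>
    hf (AlgSp.FieldPt.map g.hom k) Xk (a ≫ g'.hom) b (by
      rw [AlgSp.FieldPt.toHom_map]
      exact sqk.paste_horiz hsq)
  let nZ := pullback.fst g.hom b
  let nW := pullback.snd g.hom b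
  have sqN : IsPullback nZ nW g.hom b := IsPullback.of_hasPullback g.hom b
  obtain ⟨W', r, hre, hrs⟩ := (Groth.Agent.AlgSpace.isAlgSpace_pullback Y.property Y'.property
    (AlgSp.IsAlgSpace.yon_obj V) sqN).atlas
  obtain ⟨γ, hγ⟩ := (AlgSp.yon S).map_surjective (r ≫ nW)
  obtain ⟨a', hae', has', w1, w2⟩ :=
    Groth.Agent.AlgSpDecent.FlatAt.exists_bc_chart hsq hae has w sqN hre hrs hγ
  have hcY : AlgSp.RepWith @Etale (r ≫ nZ) :=
    Groth.Agent.AlgSpace.repWith_comp hre (Groth.Agent.AlgSpace.repWith_of_isPullback sqN.flip hbe)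
  ext x'
  obtain ⟨u', rfl⟩ := Groth.Agent.AlgSpace.surjective_ofPt has' x'
  have hx : AlgSp.Points.map g'.hom (AlgSp.Points.ofPt a' u') =
      AlgSp.Points.ofPt a ((pullback.fst h γ).left u') := by
    rw [AlgSp.Points.map_ofPt, w1, Groth.Agent.AlgSpDecent.ofPt_map_comp]
  rw [Set.mem_preimage, Set.mem_setOf_eq, Set.mem_setOf_eq, hx,
    Groth.Agent.AlgSpDecent.GorAt.locPAt_gorenstein_iff hf' hae' hcY w2 u',
    Groth.Agent.AlgSpDecent.GorAt.locPAt_gorenstein_iff hf hae hbe w _]
  exact Groth.Agent.Goren15.isGorensteinAt_baseChange_iff_of_flat h.left γ.left (pullback.snd h γ).left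
    (pullback.fst h γ).left ((IsPullback.of_hasPullback h γ).map (Over.forget S)) u'


end Groth.Agent.S10689
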