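import Groth.Statements.S1069
import Groth.Agent.Lib.AmpleNZ9.Main
-- import your own Groth.Agent.* helpers here

set_option autoImplicit false
universe u
open CategoryTheory CategoryTheory.Limits AlgebraicGeometry Opposite
attribute [local instance] HasDerivedCategory.standard
open Perf

namespace Groth.Agent.S1069

/-- Let X be a scheme with an ample invertible O_X-module L and K a nonzero object of D(O_X) with
quasi-coherent cohomology sheaves. Assuming RΓ(X, -) and the derived functors - ⊗^L L^{⊗n} exist,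
there are n ≥ 0 and p ∈ ℤ with Hᵖ(X, K ⊗^L L^{⊗n}) ≠ 0, i.e. the p-th cohomology of RΓ(X, K ⊗^L
L^{⊗n}) is a nonzero abelian group. -/
theorem result (X : Scheme.{u}) (L : X.Modules) (hL : CohB1.IsAmple L) [DCoh.HasRΓ X]
    [∀ n : ℕ, DCoh.HasLTensorMod (CohB1.tensorPow L n)]
    (K : DCoh.D X) (hK : DCoh.IsQCohD K) (hK0 : ¬ IsZero K) :
    ∃ (n : ℕ) (p : ℤ), ¬ IsZero ((DerivedCategory.homologyFunctor AddCommGrpCat.{u} p).obj
      ((DCoh.RΓ X).obj ((DCoh.LTensorMod (CohB1.tensorPow L n)).obj K))) := by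
  exact Groth.Agent.AmpleNZ9.cohomology_twist_nonzero L hL K hK hK0

end Groth.Agent.S1069
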