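import Groth.Statements.S10690
import Groth.Agent.Lib.AlgSpDecent.GorensteinFibre
-- import your own Groth.Agent.* helpers here

set_option autoImplicit false
universe u
open CategoryTheory CategoryTheory.Limits AlgebraicGeometry
open AlgSp

namespace Groth.Agent.S10690

/-- For a morphism f : X ⟶ Y between algebraic spaces over S whose fibres are locally Noetherian, the
following are equivalent: (1) f is Gorenstein at every point of |X|; (2) f is flat and for some
scheme V with a representable etale surjective b : h_V ⟶ Y every fibre of X ×_Y V ⟶ V over a point v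
of V (pullback along the residue field point of v) is a Gorenstein algebraic space (some etale
surjective scheme chart is a Gorenstein scheme); (3) f is flat and the same holds for every scheme V
with a representable etale b : h_V ⟶ Y. Here f is Gorenstein at x when in every etale chart diagram
through x the top arrow is Gorenstein at the point over x (flat there, with Gorenstein local ring of
its fibre), and the fibres of a morphism are locally Noetherian when every fibre over a field point
(pullback in fppf sheaves) is a locally Noetherian algebraic space. (The published statement also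
characterises being Gorenstein at a single point through strict henselizations; that part is stated
separately and not included here.) -/
theorem result {S : Scheme.{u}} {X Y : AlgSp.Space S} (f : X ⟶ Y)
    (hf : ∀ (k : AlgSp.FieldPt Y.obj) (Xk : AlgSp.Sp S) (a : Xk ⟶ X.obj) (b : Xk ⟶ (AlgSp.yon S).obj k.pt),
        IsPullback a b f.hom k.toHom → AlgSp.IsLocNoethSp Xk) :
    [∀ x : AlgSp.Points X.obj, AlgSp.LocPAt (fun h u => Dual3.IsGorensteinAt h u) f.hom x,
      AlgSp.LocP @Flat f.hom ∧ ∃ (V : Over S) (b : (AlgSp.yon S).obj V ⟶ Y.obj),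
        AlgSp.RepWith @Etale b ∧ AlgSp.RepWith @Surjective b ∧
          ∀ (v : ↥V.left) (Xv : AlgSp.Sp S) (a : Xv ⟶ X.obj)
            (c : Xv ⟶ (AlgSp.yon S).obj (Over.mk (V.left.fromSpecResidueField v ≫ V.hom))),
            IsPullback a c f.hom ((AlgSp.yon S).map (Over.homMk (V.left.fromSpecResidueField v) rfl :
              Over.mk (V.left.fromSpecResidueField v ≫ V.hom) ⟶ V) ≫ b) →
            AlgSp.EtaleLocally Dual3.IsGorenstein Xv,
      AlgSp.LocP @Flat f.hom ∧ ∀ (V : Over S) (b : (AlgSp.yon S).obj V ⟶ Y.obj), AlgSp.RepWith @Etale b →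
          ∀ (v : ↥V.left) (Xv : AlgSp.Sp S) (a : Xv ⟶ X.obj)
            (c : Xv ⟶ (AlgSp.yon S).obj (Over.mk (V.left.fromSpecResidueField v ≫ V.hom))),
            IsPullback a c f.hom ((AlgSp.yon S).map (Over.homMk (V.left.fromSpecResidueField v) rfl :
              Over.mk (V.left.fromSpecResidueField v ≫ V.hom) ⟶ V) ≫ b) →
            AlgSp.EtaleLocally Dual3.IsGorenstein Xv].TFAE := by
  tfae_have 1 → 3 := by
    intro H
    refine ⟨Groth.Agent.AlgSpDecent.GorAt.locP_flat_of_gorensteinAt H, fun V b hb v Xv a c sq => ?_⟩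
    obtain ⟨U, aU, h, hae, -, w, hfib⟩ :=
      Groth.Agent.AlgSpDecent.GorAt.exists_chart_fibres X.property Y.property f.hom hb
    obtain ⟨T, p, hpe, hps, ⟨e⟩⟩ := hfib v Xv a c sq
    have hG := Groth.Agent.AlgSpDecent.GorAt.isGorenstein_fiber hf hae hb w
      (fun u => H _ aU b h u hae hb w rfl) v
    haveI := hG.1
    exact ⟨T, p, hpe, hps, isLocallyNoetherian_of_isOpenImmersion e.hom,
      Groth.Agent.AlgSpDecent.GorAt.gorenstein_stalk_of_iso e.symm hG.2⟩
  tfae_have 3 → 2 := by
    rintro ⟨hfl, H⟩
    obtain ⟨V, b, hbe, hbs⟩ := Y.property.atlas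
    exact ⟨hfl, V, b, hbe, hbs, H V b hbe⟩
  tfae_have 2 → 1 := by
    rintro ⟨hfl, V, b, hbe, hbs, H⟩ x
    obtain ⟨U, a, h, hae, has, w, hfib⟩ :=
      Groth.Agent.AlgSpDecent.GorAt.exists_chart_fibres X.property Y.property f.hom hbe
    obtain ⟨u, rfl⟩ := Groth.Agent.AlgSpace.surjective_ofPt (has hbs) x
    haveI : Flat h.left := hfl a b h hae hbe w
    rw [Groth.Agent.AlgSpDecent.GorAt.locPAt_gorenstein_iff hf hae hbe w u]
    refine ⟨Flat.stalkMap _ _, ?_⟩
    let res : Over.mk (V.left.fromSpecResidueField (h.left u) ≫ V.hom) ⟶ V :=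
      Over.homMk (V.left.fromSpecResidueField (h.left u)) rfl
    have sq := IsPullback.of_hasPullback f.hom ((AlgSp.yon S).map res ≫ b)
    obtain ⟨T, p, hpe, hps, ⟨e⟩⟩ := hfib (h.left u) _ _ _ sq
    exact Groth.Agent.AlgSpDecent.GorAt.gorenstein_stalk_of_iso e
      (fun t => Groth.Agent.AlgSpDecent.GorAt.gorenstein_stalk_of_chart (H _ _ _ _ sq) hpe t) _
  tfae_finish

end Groth.Agent.S10690
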