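import Groth.Statements.S10693
import Groth.Agent.Lib.AlgSpDecent.GorensteinAt
import Groth.Agent.Lib.WEtaleH7.IndEtale15
import Groth.Agent.Lib.WEtaleH7.Misc
import Groth.Agent.Lib.Hens15.Quotient
import Groth.Agent.S12237
import Groth.Agent.S0538
import Groth.Agent.S0539
-- import your own Groth.Agent.* helpers here

set_option autoImplicit false
universe u
open CategoryTheory CategoryTheory.Limits AlgebraicGeometry
open AlgSp

namespace Groth.Agent.S10693

/-- (pointwise part) for a morphism f : X ⟶ Y between algebraic spaces over S with locally Noetherian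
fibres and a point x of |X|, take an etale chart diagram through x: schemes U, V over S with
representable etale a : h_U ⟶ X, b : h_V ⟶ Y, a morphism h : U ⟶ V over S with a ≫ f = h_h ≫ b, and
a point u of U over x; let R be a strict henselization of the local ring of U at u, R' one of the
local ring of V at h u, and φ : R' ⟶ R a local homomorphism compatible with the map of local rings
induced by h (these present the etale local rings of Y and X at compatible geometric points). Then f
is Gorenstein at x if and only if φ is flat and R / m_{R'} R is a Gorenstein local ring. Here f is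
Gorenstein at x when in every etale chart diagram through x the top arrow is Gorenstein at the point
over x (flat there, with Gorenstein local ring of its fibre), and the fibres of a morphism are
locally Noetherian when every fibre over a field point (pullback in fppf sheaves) is a locally
Noetherian algebraic space. -/
theorem result {S : Scheme.{u}} {X Y : AlgSp.Space S} (f : X ⟶ Y)
    (hf : ∀ (k : AlgSp.FieldPt Y.obj) (Xk : AlgSp.Sp S) (a : Xk ⟶ X.obj) (b : Xk ⟶ (AlgSp.yon S).obj k.pt),
        IsPullback a b f.hom k.toHom → AlgSp.IsLocNoethSp Xk)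
    (x : AlgSp.Points X.obj) {U V : Over S} (a : (AlgSp.yon S).obj U ⟶ X.obj) (b : (AlgSp.yon S).obj V ⟶ Y.obj)
    (h : U ⟶ V) (ha : AlgSp.RepWith @Etale a) (hb : AlgSp.RepWith @Etale b) (hc : a ≫ f.hom = (AlgSp.yon S).map h ≫ b)
    (u : ↥U.left) (hu : AlgSp.Points.ofPt a u = x)
    (R : Type u) [CommRing R] [IsLocalRing R] [Algebra ↥(U.left.presheaf.stalk u) R]
    [IsLocalHom (algebraMap ↥(U.left.presheaf.stalk u) R)] [Hensel.IsStrictHenselization ↥(U.left.presheaf.stalk u) R]
    (R' : Type u) [CommRing R'] [IsLocalRing R'] [Algebra ↥(V.left.presheaf.stalk (h.left u)) R']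
    [IsLocalHom (algebraMap ↥(V.left.presheaf.stalk (h.left u)) R')]
    [Hensel.IsStrictHenselization ↥(V.left.presheaf.stalk (h.left u)) R']
    (φ : R' →+* R) [IsLocalHom φ]
    (hφ : φ.comp (algebraMap ↥(V.left.presheaf.stalk (h.left u)) R') =
      (algebraMap ↥(U.left.presheaf.stalk u) R).comp (h.left.stalkMap u).hom) :
    AlgSp.LocPAt (fun h u => Dual3.IsGorensteinAt h u) f.hom x ↔
      φ.Flat ∧ LocCoh.IsGorensteinLocalRing (R ⧸ (IsLocalRing.maximalIdeal R').map φ) := by
  let ψ := (h.left.stalkMap u).hom
  let ι := algebraMap ↥(U.left.presheaf.stalk u) R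
  let ι' := algebraMap ↥(V.left.presheaf.stalk (h.left u)) R'
  let I := (IsLocalRing.maximalIdeal ↥(V.left.presheaf.stalk (h.left u))).map ψ
  have hι : ι.FaithfullyFlat := (RingHom.faithfullyFlat_algebraMap_iff).2
    (Groth.Agent.S0539.result _ R)
  rw [← hu, Groth.Agent.AlgSpDecent.GorAt.locPAt_gorenstein_iff hf ha hb hc u,
    Groth.Agent.Goren15.isGorensteinAt_iff]
  have hflat : ψ.Flat ↔ φ.Flat := by
    constructor
    · intro hψ
      have h1 : (φ.comp ι').Flat := by rw [hφ]; exact hψ.comp hι.flat
      letI := φ.toAlgebra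
      letI := (φ.comp ι').toAlgebra
      haveI : IsScalarTower ↥(V.left.presheaf.stalk (h.left u)) R' R :=
        IsScalarTower.of_algebraMap_eq fun _ => rfl
      haveI : Module.Flat ↥(V.left.presheaf.stalk (h.left u)) R := h1
      haveI := Groth.Agent.WEtaleH7.weaklyEtale_of_isIndEtale
        (Groth.Agent.S12237.result ↥(V.left.presheaf.stalk (h.left u)) R')
      exact Groth.Agent.WEtaleH7.flat_of_flat_lmul ↥(V.left.presheaf.stalk (h.left u)) R
        (Algebra.WeaklyEtale.flat_lmul' _ R')
    · intro hφf
      have h1 : (ι.comp ψ).Flat := by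
        rw [← hφ]
        exact ((RingHom.flat_algebraMap_iff).2 (Groth.Agent.S0539.result _ R').toFlat).comp hφf
      exact Groth.Agent.WEtaleH7.flat_of_comp_faithfullyFlat ψ ι hι h1
  have hm : (IsLocalRing.maximalIdeal R').map φ = I.map ι := by
    rw [← Groth.Agent.S0538.result ↥(V.left.presheaf.stalk (h.left u)) R', Ideal.map_map, hφ,
      ← Ideal.map_map]
  have nB : IsNoetherianRing (↥(U.left.presheaf.stalk u) ⧸ I) :=
    Groth.Agent.AlgSpDecent.GorAt.isNoetherianRing_fibQuot hf ha hb hc u
  have hI : I ≠ ⊤ := ne_top_of_le_ne_top (IsLocalRing.maximalIdeal.isMaximal _).ne_top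
    (((IsLocalRing.local_hom_TFAE ψ).out 0 2).mp (inferInstance : IsLocalHom (h.left.stalkMap u).hom))
  have nC : IsNoetherianRing (R ⧸ (IsLocalRing.maximalIdeal _).map (ι.comp ψ)) := by
    rw [← Ideal.map_map]
    exact Groth.Agent.Hens15.isNoetherianRing_quotient I hI nB
  have hgor : LocCoh.IsGorensteinLocalRing (↥(U.left.presheaf.stalk u) ⧸ I) ↔
      LocCoh.IsGorensteinLocalRing (R ⧸ (IsLocalRing.maximalIdeal R').map φ) := by
    rw [Groth.Agent.Goren15.isGorensteinLocalRing_iff_of_ringEquiv
      (Ideal.quotEquivOfEq (hm.trans (Ideal.map_map _ _))),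
      Groth.Agent.Goren15.gorenstein_fibre_comp ψ ι hι.flat nB nC, iff_self_and]
    intro _
    have hmax : (IsLocalRing.maximalIdeal _).map ι = IsLocalRing.maximalIdeal R :=
      Groth.Agent.S0538.result _ R
    haveI : Nontrivial (R ⧸ IsLocalRing.maximalIdeal R) :=
      Ideal.Quotient.nontrivial_iff.2 (IsLocalRing.maximalIdeal.isMaximal _).ne_top
    letI : Field (R ⧸ IsLocalRing.maximalIdeal R) := Ideal.Quotient.field _
    refine (Groth.Agent.Goren15.isGorensteinLocalRing_iff_of_ringEquiv (Ideal.quotEquivOfEq hmax)).2 ?_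
    exact Groth.Agent.Goren15.gorenstein_of_injective _ (Module.injective_of_isSemisimpleRing _ _)
  exact and_congr hflat hgor

end Groth.Agent.S10693
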