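import Groth.Statements.S10699
-- import your own Groth.Agent.* helpers here
import Groth.Agent.Lib.ThickPush25.Span
import Groth.Agent.S10716

set_option autoImplicit false
set_option backward.isDefEq.respectTransparency.types false
universe u
open CategoryTheory CategoryTheory.Limits AlgebraicGeometry
open AlgSp

namespace Groth.Agent.S10699

/-- Let `t : X → X'` be a thickening of schemes over `S` and `a : X → Y` an affine morphism of schemes
over `S`, and let `Y'` be a pushout of `t` and `a` in the category of schemes over `S`. Then `Y'`
remains a pushout when the square is viewed among algebraic spaces over `S`. -/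
theorem result {S : Scheme.{u}} {X X' Y Y' : Over S} (t : X ⟶ X') (a : X ⟶ Y)
    (a' : X' ⟶ Y') (b : Y ⟶ Y') (ht : MoreMor.IsThickening t.left) [IsAffineHom a.left]
    (hpo : IsPushout t a a' b) :
    IsPushout ((AlgSp.ofScheme S).map t) ((AlgSp.ofScheme S).map a) ((AlgSp.ofScheme S).map a')
      ((AlgSp.ofScheme S).map b) := by
  have : IsClosedImmersion t.left := ht.1
  have : Surjective t.left := ht.2
  have H₀ : Groth.Agent.Pinch4.IsPinch t.left a.left a'.left b.left :=
    Groth.Agent.Pinch4.isPinch_of_cond (Groth.Agent.Pinch4.cond_of_surjective t.left.surjective)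
      (hpo.map (Over.forget S))
  let c : Cocone (span t a) := Groth.Agent.ThickPush25.mkCocone (P := Y') a' b hpo.w
  obtain ⟨hc⟩ := Groth.Agent.S10716.result (span t a) c
    (Groth.Agent.ThickPush25.nonempty_isColimit_of_isPushout _ (hpo.map (Over.forget S))).some
    (fun x => by
      obtain ⟨y, hy⟩ := H₀.surjective_b t.left.surjective x
      exact ⟨WalkingSpan.right, y, hy⟩)
    (fun D' α c' e he hp => by
      refine Groth.Agent.ThickPush25.nonempty_isColimit_of_isPushout _ ?_
      have hs : ∀ j, IsPullback (c'.ι.app j).left (α.app j).left e.left (c.ι.app j).left := fun j =>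
        (hp j).map (Over.forget S)
      have hn : ∀ {i j : WalkingSpan} (g : i ⟶ j),
          (D'.map g).left ≫ (α.app j).left = (α.app i).left ≫ ((span t a).map g).left := fun g =>
        congrArg (fun k => k.left) (α.naturality g)
      have hw : ∀ {i j : WalkingSpan} (g : i ⟶ j), (D'.map g).left ≫ (c'.ι.app j).left = (c'.ι.app i).left :=
        fun g => congrArg (fun k => k.left) (c'.w g)
      have hwc : ∀ {i j : WalkingSpan} (g : i ⟶ j),
          ((span t a).map g).left ≫ (c.ι.app j).left = (c.ι.app i).left :=
        fun g => congrArg (fun k => k.left) (c.w g)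
      have hZ : IsPullback (α.app WalkingSpan.zero).left (D'.map WalkingSpan.Hom.fst).left
          t.left (α.app WalkingSpan.left).left := by
        refine IsPullback.of_bot ?_ (hn WalkingSpan.Hom.fst).symm (hs WalkingSpan.left).flip
        rw [hw]
        have := (hs WalkingSpan.zero).flip
        rw [← hwc WalkingSpan.Hom.fst] at this
        exact this
      let e' : c'.pt.left ⟶ Y'.left := e.left
      have : AlgebraicGeometry.Etale e' := he
      exact (H₀.baseChange (sP' := 𝟙 c'.pt.left) (s := 𝟙 Y'.left) (g := e')
        (IsPullback.of_vert_isIso ⟨(Category.comp_id _).trans (Category.id_comp _).symm⟩) (hs WalkingSpan.left).flip (hs WalkingSpan.right).flip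
        hZ (hn WalkingSpan.Hom.snd) ((hw WalkingSpan.Hom.fst).trans (hw WalkingSpan.Hom.snd).symm)
        (Or.inl inferInstance)).isPushout)
    (fun D' α hα he hs => by
      let uL : (D'.obj WalkingSpan.left).left ⟶ X'.left := (α.app WalkingSpan.left).left
      let uR : (D'.obj WalkingSpan.right).left ⟶ Y.left := (α.app WalkingSpan.right).left
      have hL : AlgebraicGeometry.Etale uL := he WalkingSpan.left
      have hR : AlgebraicGeometry.Etale uR := he WalkingSpan.right
      obtain ⟨G, g, cU, cV, hg, sU, sV, hw, big⟩ := Groth.Agent.ThickPush25.exists_glue H₀ uL uR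
        ((hα WalkingSpan.Hom.fst).map (Over.forget S)) ((hα WalkingSpan.Hom.snd).map (Over.forget S))
      let GO : Over S := Over.mk (g ≫ Y'.hom)
      let cUO : D'.obj WalkingSpan.left ⟶ GO := Over.homMk cU (by
        change cU ≫ g ≫ Y'.hom = _
        rw [reassoc_of% sU.w]
        exact (congrArg ((α.app WalkingSpan.left).left ≫ ·) (Over.w a')).trans (Over.w _))
      let cVO : D'.obj WalkingSpan.right ⟶ GO := Over.homMk cV (by
        change cV ≫ g ≫ Y'.hom = _
        rw [reassoc_of% sV.w]
        exact (congrArg ((α.app WalkingSpan.right).left ≫ ·) (Over.w b)).trans (Over.w _))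
      refine ⟨Groth.Agent.ThickPush25.mkCocone cUO cVO (Over.OverMorphism.ext hw),
        Over.homMk (U := GO) (V := Y') g rfl, hg, fun j => ?_⟩
      rcases j with (_ | _ | _)
      · refine IsPullback.of_map (Over.forget S) (Over.OverMorphism.ext ?_) ?_
        · exact (congrArg (· ≫ g) hw).trans big.w
        · change IsPullback ((D'.map WalkingSpan.Hom.fst).left ≫ cU) _ _ (t.left ≫ a'.left)
          exact big |> fun h => by rw [← hw] at h; exact h
      · exact IsPullback.of_map (Over.forget S) (Over.OverMorphism.ext sU.w) sU
      · exact IsPullback.of_map (Over.forget S) (Over.OverMorphism.ext sV.w) sV)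
  exact IsPushout.of_isColimit ((isColimitMapCoconePushoutCoconeEquiv (AlgSp.ofScheme S) hpo.w)
    (hc.ofIsoColimit ((Cocones.functoriality _ (AlgSp.ofScheme S)).mapIso
      (Cocones.ext (Iso.refl Y') (fun j => by rcases j with (_ | _ | _) <;> exact Category.comp_id _) :
        c ≅ PushoutCocone.mk a' b hpo.w))))


end Groth.Agent.S10699
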