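import Groth.Statements.S10705
import Groth.Agent.Lib.Gabber15.ModifCover
import Groth.Agent.Lib.AlgSpDescent.RepBase2
-- import your own Groth.Agent.* helpers here

set_option autoImplicit false
universe u
open CategoryTheory CategoryTheory.Limits AlgebraicGeometry
open AlgSp

namespace Groth.Agent.S10705

/-- Let `f : Y → X` be a quasi-compact quasi-separated morphism of algebraic spaces over `S`, `i : Z →
X` a closed immersion of finite presentation such that `f⁻¹Z → Z` is an isomorphism and `f` is flat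
at every point of `|f⁻¹Z|`, and let `U ⊂ X` be the open subspace complementary to `Z`. Let `a : X₁ →
X₂` be a morphism of algebraic spaces over `X`. If the base change of `a` to `U` and the base change
of `a` to `Y` are isomorphisms, then `a` is an isomorphism: the formal glueing functor reflects
isomorphisms. -/
theorem result {S : Scheme.{u}} {X Y Z FZ U : AlgSp.Space S} (f : Y ⟶ X)
    (hqc : AlgSp.IsQuasiCompactMor f.hom) (hqs : AlgSp.IsQuasiSeparatedMor f.hom) (i : Z ⟶ X)
    (hi : AlgSp.RepWith @IsClosedImmersion i.hom) (hifp : AlgSp.LocP @LocallyOfFinitePresentation i.hom)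
    (iY : FZ ⟶ Y) (fZ : FZ ⟶ Z) (hFZ : IsPullback iY.hom fZ.hom f.hom i.hom) [IsIso fZ]
    (hflat : ∀ y ∈ Set.range (AlgSp.Points.map iY.hom), AlgSp.IsFlatAtMor f.hom y) (j : U ⟶ X)
    (hj : AlgSp.RepWith @IsOpenImmersion j.hom)
    (hU : Set.range (AlgSp.Points.map j.hom) = (Set.range (AlgSp.Points.map i.hom))ᶜ)
    {X₁ X₂ QU QU₁ QY QY₁ : AlgSp.Space S} (p₂ : X₂ ⟶ X) (a : X₁ ⟶ X₂)
    (qU : QU ⟶ X₂) (rU : QU ⟶ U) (hQU : IsPullback qU.hom rU.hom p₂.hom j.hom) (aU : QU₁ ⟶ QU)
    (bU : QU₁ ⟶ X₁) (hQU₁ : IsPullback bU.hom aU.hom a.hom qU.hom) [IsIso aU] (qY : QY ⟶ X₂) (rY : QY ⟶ Y)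
    (hQY : IsPullback qY.hom rY.hom p₂.hom f.hom) (aY : QY₁ ⟶ QY) (bY : QY₁ ⟶ X₁)
    (hQY₁ : IsPullback bY.hom aY.hom a.hom qY.hom) [IsIso aY] : IsIso a := by
  obtain ⟨ι, W, w, hw, hl⟩ := Gabber15.exists_cover hqc hi hifp hFZ hflat hj hU
  have hcov := AlgSpDescent.isFpqcCover_of_isPullback X.property X₂.property p₂.hom
    (fun k => (W k).property) (fun k => IsPullback.of_hasPullback p₂.hom (w k)) hw
  have hP : ∀ k, AlgSp.IsAlgSpace (Limits.pullback p₂.hom (w k)) := fun k =>
    AlgSpace.isAlgSpace_pullback X.property X₂.property (W k).property (IsPullback.of_hasPullback _ _)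
  have h := (AlgSpDescent.isLocalOnBase_fpqc_isomorphisms _ _ X₂.property hP hcov a.hom X₁.property
    _ (fun k => pullback.snd a.hom (pullback.fst p₂.hom (w k))) _
    (fun k => AlgSpace.isAlgSpace_pullback X₂.property X₁.property (hP k) (IsPullback.of_hasPullback _ _))
    (fun k => IsPullback.of_hasPullback _ _)).2 fun k => ?_
  · have : IsIso a.hom := h
    have : IsIso ((ObjectProperty.ι _).map a) := this
    exact isIso_of_fully_faithful (ObjectProperty.ι _) a
  have step : ∀ {Q Q₁ : AlgSp.Sp S} {q : Q ⟶ X₂.obj} {b : Q₁ ⟶ X₁.obj} {aq : Q₁ ⟶ Q},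
      IsPullback b aq a.hom q → IsIso aq → ∀ (m : Limits.pullback p₂.hom (w k) ⟶ Q),
        m ≫ q = pullback.fst p₂.hom (w k) → IsIso (pullback.snd a.hom (pullback.fst p₂.hom (w k))) := by
    intro Q Q₁ q b aq sq _ m hm
    have sq' := (IsPullback.of_hasPullback aq m).paste_horiz sq
    rw [hm] at sq'
    rw [← (IsPullback.of_hasPullback a.hom (pullback.fst p₂.hom (w k))).isoIsPullback_hom_snd _ _ sq']
    infer_instance
  have hiso : ∀ {A B : AlgSp.Space S} (e : A ⟶ B), IsIso e → IsIso e.hom := fun e _ =>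
    inferInstanceAs (IsIso ((ObjectProperty.ι _).map e))
  show IsIso _
  rcases hl k with ⟨l, e⟩ | ⟨l, e⟩
  · refine step hQU₁ (hiso aU inferInstance) (hQU.lift (pullback.fst _ _) (pullback.snd _ _ ≫ l) ?_)
      (hQU.lift_fst _ _ _)
    rw [Category.assoc, e, pullback.condition]
  · refine step hQY₁ (hiso aY inferInstance) (hQY.lift (pullback.fst _ _) (pullback.snd _ _ ≫ l) ?_)
      (hQY.lift_fst _ _ _)
    rw [Category.assoc, e, pullback.condition]


end Groth.Agent.S10705
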