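import Groth.Statements.S10719
import Groth.Agent.Lib.Gabber15.HomSheaf
import Groth.Agent.Lib.AlgSpDescent.FpqcCalc
-- import your own Groth.Agent.* helpers here

set_option autoImplicit false
universe w v u
open CategoryTheory CategoryTheory.Limits AlgebraicGeometry
open AlgSp

namespace Groth.Agent.S10719

/-- Let `B` be an algebraic space over `S`, `D : I ⥤ Over B` a diagram of algebraic spaces over `B` with
a cocone `c`, and `{U_a → c.pt}` an fpqc covering (by algebraic spaces over `B`). If (1) for every
`a`, every cocone of cartesian squares `D_i ×_{c.pt} U_a → U_a` is a colimit in algebraic spaces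
over `B`, and (2) the same holds for every fibre product `U_a ×_{c.pt} U_b`, then `c` is a colimit
in algebraic spaces over `B`. -/
theorem result {S : Scheme.{u}} {B : AlgSp.Space S} {I : Type v} [Category.{w} I] (D : I ⥤ Over B)
    (c : Cocone D) {κ : Type u} (Ua : κ → Over B) (ua : ∀ a, Ua a ⟶ c.pt)
    (hcov : AlgSp.IsFpqcCover (fun a => (Ua a).left.obj) (fun a => (ua a).left.hom))
    (h₁ : ∀ (a : κ) (Da : I ⥤ Over B) (α : Da ⟶ D) (ι : Da ⟶ (Functor.const I).obj (Ua a)),
      (∀ i, IsPullback (ι.app i).left.hom (α.app i).left.hom (ua a).left.hom (c.ι.app i).left.hom) →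
        Nonempty (IsColimit (Cocone.mk (Ua a) ι)))
    (h₂ : ∀ (a b : κ) (Uab : Over B) (pa : Uab ⟶ Ua a) (pb : Uab ⟶ Ua b),
      IsPullback pa.left.hom pb.left.hom (ua a).left.hom (ua b).left.hom →
      ∀ (Dab : I ⥤ Over B) (α : Dab ⟶ D) (ι : Dab ⟶ (Functor.const I).obj Uab),
        (∀ i, IsPullback (ι.app i).left.hom (α.app i).left.hom (pa ≫ ua a).left.hom (c.ι.app i).left.hom) →
          Nonempty (IsColimit (Cocone.mk Uab ι))) :
    Nonempty (IsColimit c) := by
  have pulled : ∀ (U : Over B) (u : U ⟶ c.pt), ∃ (Du : I ⥤ Over B) (α : Du ⟶ D)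
      (ι : Du ⟶ (Functor.const I).obj U),
      ∀ i, IsPullback (ι.app i).left.hom (α.app i).left.hom u.left.hom (c.ι.app i).left.hom := by
    intro U u
    let P : I → AlgSp.Space S := fun i =>
      ⟨Limits.pullback u.left.hom (c.ι.app i).left.hom,
        AlgSpace.isAlgSpace_pullback c.pt.left.property U.left.property (D.obj i).left.property
          (IsPullback.of_hasPullback _ _)⟩
    let fstP : ∀ i, P i ⟶ U.left := fun i => InducedCategory.homMk (pullback.fst _ _)
    let sndP : ∀ i, P i ⟶ (D.obj i).left := fun i => InducedCategory.homMk (pullback.snd _ _)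
    have hw : ∀ i, fstP i ≫ u.left = sndP i ≫ (c.ι.app i).left := fun i =>
      InducedCategory.hom_ext pullback.condition
    let mp : ∀ {i j : I} (g : i ⟶ j), P i ⟶ P j := fun {i j} g => InducedCategory.homMk
      (pullback.lift (pullback.fst _ _) (pullback.snd _ _ ≫ (D.map g).left.hom) (by
        have := congrArg (fun m => m.left.hom) (c.w g)
        simp only [Over.comp_left] at this
        rw [Category.assoc]
        exact pullback.condition.trans (congrArg (pullback.snd _ _ ≫ ·) this.symm)))
    let Du : I ⥤ Over B :=
      { obj := fun i => Over.mk (fstP i ≫ U.hom)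
        map := fun {i j} g => Over.homMk (mp g) (by
          change mp g ≫ fstP j ≫ U.hom = fstP i ≫ U.hom
          rw [← Category.assoc]
          congr 1
          exact InducedCategory.hom_ext (pullback.lift_fst _ _ _))
        map_id := fun i => by
          apply Over.OverMorphism.ext
          apply InducedCategory.hom_ext
          change pullback.lift _ _ _ = 𝟙 _
          apply pullback.hom_ext <;> simp [pullback.lift_fst, pullback.lift_snd]
        map_comp := fun {i j k} g g' => by
          apply Over.OverMorphism.ext
          apply InducedCategory.hom_ext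
          change pullback.lift _ _ _ = pullback.lift _ _ _ ≫ pullback.lift _ _ _
          apply pullback.hom_ext
          · simp [pullback.lift_fst]
          · simp [pullback.lift_snd, pullback.lift_snd_assoc] }
    refine ⟨Du,
      { app := fun i => Over.homMk (sndP i) (by
          change sndP i ≫ (D.obj i).hom = fstP i ≫ U.hom
          rw [← Over.w (c.ι.app i), ← Over.w u, ← Category.assoc, ← Category.assoc, hw]
          rfl)
        naturality := fun i j g => Over.OverMorphism.ext (InducedCategory.hom_ext
          (pullback.lift_snd _ _ _)) },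
      { app := fun i => Over.homMk (fstP i) rfl
        naturality := fun i j g => Over.OverMorphism.ext (InducedCategory.hom_ext
          ((pullback.lift_fst _ _ _).trans (Category.comp_id _).symm)) },
      fun i => IsPullback.of_hasPullback _ _⟩
  choose Da αa ιa hpa using fun a => pulled (Ua a) (ua a)
  have hC : ∀ a, IsColimit (Cocone.mk (Ua a) (ιa a)) := fun a => (h₁ a _ _ _ (hpa a)).some
  let ma : ∀ (_ : Cocone D) a, Ua a ⟶ _ := fun s a => (hC a).desc (Cocone.mk s.pt (αa a ≫ s.ι))
  have hma : ∀ (s : Cocone D) a i, (ιa a).app i ≫ ma s a = (αa a).app i ≫ s.ι.app i := fun s a i =>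
    (hC a).fac (Cocone.mk s.pt (αa a ≫ s.ι)) i
  have hag : ∀ (s : Cocone D) a b,
      pullback.fst (ua a).left.hom (ua b).left.hom ≫ (ma s a).left.hom =
        pullback.snd (ua a).left.hom (ua b).left.hom ≫ (ma s b).left.hom := by
    intro s a b
    let Uab : AlgSp.Space S := ⟨Limits.pullback (ua a).left.hom (ua b).left.hom,
      AlgSpace.isAlgSpace_pullback c.pt.left.property (Ua a).left.property (Ua b).left.property
        (IsPullback.of_hasPullback _ _)⟩
    let fa : Uab ⟶ (Ua a).left := InducedCategory.homMk (pullback.fst _ _)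
    let fb : Uab ⟶ (Ua b).left := InducedCategory.homMk (pullback.snd _ _)
    let pa : Over.mk (fa ≫ (Ua a).hom) ⟶ Ua a := Over.homMk fa rfl
    let pb : Over.mk (fa ≫ (Ua a).hom) ⟶ Ua b := Over.homMk fb (by
      change fb ≫ (Ua b).hom = fa ≫ (Ua a).hom
      rw [← Over.w (ua a), ← Over.w (ua b), ← Category.assoc, ← Category.assoc]
      congr 1
      exact InducedCategory.hom_ext pullback.condition.symm)
    obtain ⟨Dab, αab, ιab, hab⟩ := pulled _ (pa ≫ ua a)
    obtain ⟨hCab⟩ := h₂ a b _ pa pb (IsPullback.of_hasPullback _ _) Dab αab ιab hab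
    have key : ∀ (e : κ) (pe : Over.mk (fa ≫ (Ua a).hom) ⟶ Ua e), pe ≫ ua e = pa ≫ ua a →
        ∀ i, ιab.app i ≫ pe ≫ ma s e = αab.app i ≫ s.ι.app i := by
      intro e pe he i
      have w : (ιab.app i ≫ pe).left.hom ≫ (ua e).left.hom =
          (αab.app i).left.hom ≫ (c.ι.app i).left.hom := by
        rw [← (hab i).w, ← he]
        exact Category.assoc _ _ _
      let l : (Dab.obj i).left ⟶ ((Da e).obj i).left :=
        InducedCategory.homMk ((hpa e i).lift _ _ w)
      have l₁ : l ≫ ((ιa e).app i).left = (ιab.app i ≫ pe).left :=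
        InducedCategory.hom_ext ((hpa e i).lift_fst _ _ w)
      have l₂ : l ≫ ((αa e).app i).left = (αab.app i).left :=
        InducedCategory.hom_ext ((hpa e i).lift_snd _ _ w)
      apply Over.OverMorphism.ext
      rw [← Category.assoc]
      change (ιab.app i ≫ pe).left ≫ (ma s e).left = (αab.app i).left ≫ (s.ι.app i).left
      rw [← l₁, ← l₂, Category.assoc, Category.assoc]
      exact congrArg (l ≫ ·) (congrArg (fun m => m.left) (hma s e i))
    have e : pa ≫ ma s a = pb ≫ ma s b := hCab.hom_ext fun i =>
      (key a pa rfl i).trans (key b pb (Over.OverMorphism.ext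
        (InducedCategory.hom_ext pullback.condition.symm)) i).symm
    exact congrArg (fun m => m.left.hom) e
  choose G hG using fun s => Gabber15.exists_hom_glue c.pt.left.property hcov s.pt.left.property
    (fun a => (ma s a).left.hom) (hag s)
  let d : ∀ s : Cocone D, c.pt ⟶ s.pt := fun s => Over.homMk (InducedCategory.homMk (G s))
    (InducedCategory.hom_ext (Gabber15.hom_ext_cover hcov B.property fun a => by
      change (ua a).left.hom ≫ G s ≫ s.pt.hom.hom = (ua a).left.hom ≫ c.pt.hom.hom
      rw [← Category.assoc, hG s a]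
      exact (congrArg (fun m => m.hom) (Over.w (ma s a))).trans
        (congrArg (fun m => m.hom) (Over.w (ua a))).symm))
  refine ⟨{ desc := d, fac := fun s i => ?_, uniq := fun s m hm => ?_ }⟩
  · apply Over.OverMorphism.ext
    apply InducedCategory.hom_ext
    have hcov' := AlgSpDescent.isFpqcCover_of_isPullback c.pt.left.property (D.obj i).left.property
      (c.ι.app i).left.hom (fun a => (Ua a).left.property)
      (fun a => (hpa a i).flip) hcov
    refine Gabber15.hom_ext_cover hcov' s.pt.left.property fun a => ?_
    change ((αa a).app i).left.hom ≫ (c.ι.app i).left.hom ≫ G s =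
      ((αa a).app i).left.hom ≫ (s.ι.app i).left.hom
    rw [← Category.assoc, ← (hpa a i).w, Category.assoc, hG s a]
    exact congrArg (fun m => m.left.hom) (hma s a i)
  · apply Over.OverMorphism.ext
    apply InducedCategory.hom_ext
    refine Gabber15.hom_ext_cover hcov s.pt.left.property fun a => ?_
    have e : ua a ≫ m = ua a ≫ d s := (hC a).hom_ext fun i => by
      apply Over.OverMorphism.ext
      apply InducedCategory.hom_ext
      change ((ιa a).app i).left.hom ≫ (ua a).left.hom ≫ m.left.hom =
        ((ιa a).app i).left.hom ≫ (ua a).left.hom ≫ G s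
      rw [hG s a, ← Category.assoc, (hpa a i).w, Category.assoc]
      refine (congrArg (((αa a).app i).left.hom ≫ ·) ?_).trans
        (congrArg (fun m => m.left.hom) (hma s a i)).symm
      exact congrArg (fun m => m.left.hom) (hm i)
    exact congrArg (fun m => m.left.hom) e


end Groth.Agent.S10719
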