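import Groth.Statements.S10721
import Groth.Agent.Lib.GlueH7.Glueable

set_option autoImplicit false
universe u
open TensorProduct
open EtAlg

namespace Groth.Agent.S10721

/-- Glueing along a glueing pair detects closed immersions of affine schemes, stated for coordinate
rings. Let `(R → R', f)` be a glueing pair and `φ : A → B` a homomorphism of `R`-algebras with `A`,
`B` glueable as `R`-modules (so `Spec A`, `Spec B` are affine and glueable over `Spec R`). Then `φ`
is surjective (a closed immersion on spectra) if and only if `A_f → B_f` and `R' ⊗_R A → R' ⊗_R B`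
are surjective. -/
theorem result (R : Type u) [CommRing R] (R' : Type u) [CommRing R'] [Algebra R R'] (f : R)
    (hRR' : EtGlue.IsGlueingPair R R' f) (A B : Type u) [CommRing A] [Algebra R A] [CommRing B] [Algebra R B]
    (hA : EtGlue.IsGlueable R R' f A) (hB : EtGlue.IsGlueable R R' f B) (φ : A →ₐ[R] B) :
    Function.Surjective φ ↔
      Function.Surjective (Localization.awayMap φ.toRingHom (algebraMap R A f)) ∧ Function.Surjective (Algebra.TensorProduct.map (AlgHom.id R R') φ).toRingHom := by
  constructor
  · intro h
    refine ⟨?_, Algebra.TensorProduct.map_surjective _ _ Function.surjective_id h⟩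
    intro z
    obtain ⟨n, b, hb⟩ := IsLocalization.Away.surj (φ (algebraMap R A f)) z
    obtain ⟨a, rfl⟩ := h b
    obtain ⟨v, hv⟩ := ((IsLocalization.Away.algebraMap_isUnit (S := Localization.Away (algebraMap R A f)) (algebraMap R A f)).pow n).exists_left_inv
    refine ⟨algebraMap A _ a * v, ?_⟩
    have hmap : ∀ x : A, Localization.awayMap φ.toRingHom (algebraMap R A f) (algebraMap A _ x) =
        algebraMap B _ (φ x) := fun x => by
      rw [Localization.awayMap, IsLocalization.Away.map, IsLocalization.map_eq]
      rfl
    have hv' := congrArg (Localization.awayMap φ.toRingHom (algebraMap R A f)) hv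
    rw [map_mul, map_pow, hmap, map_one] at hv'
    rw [map_mul, hmap]
    calc algebraMap B _ (φ a) * Localization.awayMap φ.toRingHom (algebraMap R A f) v
        = z * (algebraMap B _ (φ (algebraMap R A f))) ^ n * Localization.awayMap φ.toRingHom (algebraMap R A f) v := by
          rw [← hb]
      _ = z := by rw [mul_assoc, mul_comm (_ ^ n), hv', mul_one]
  · rintro ⟨h1, h2⟩
    have htop : LinearMap.range φ.toLinearMap = ⊤ := by
      refine Groth.Agent.GlueH7.eq_top_of_pair hRR'.1 _ (fun x => ?_) (fun b => ?_)
      · obtain ⟨y, rfl⟩ := h2 x
        refine ⟨(φ.toLinearMap.rangeRestrict).lTensor R' y, ?_⟩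
        rw [← LinearMap.comp_apply, ← LinearMap.lTensor_comp, LinearMap.subtype_comp_codRestrict]
        induction y using TensorProduct.induction_on with
        | zero => simp
        | tmul a m => simp
        | add a b ha hb => simp only [map_add] at ha hb ⊢; rw [ha, hb]
      · obtain ⟨y, hy⟩ := h1 (algebraMap B _ b)
        obtain ⟨n, a, ha⟩ := IsLocalization.Away.surj (algebraMap R A f) y
        have hmap : ∀ x : A, Localization.awayMap φ.toRingHom (algebraMap R A f) (algebraMap A _ x) =
            algebraMap B _ (φ x) := fun x => by
          rw [Localization.awayMap, IsLocalization.Away.map, IsLocalization.map_eq]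
          rfl
        have h3 := congrArg (Localization.awayMap φ.toRingHom (algebraMap R A f)) ha
        rw [map_mul, map_pow, hy, hmap, hmap, ← map_pow, ← map_mul] at h3
        obtain ⟨⟨_, k, rfl⟩, hk⟩ := (IsLocalization.eq_iff_exists (Submonoid.powers (φ (algebraMap R A f)))
          (Localization.Away (φ (algebraMap R A f)))).1 h3
        refine ⟨k + n, algebraMap R A f ^ k * a, ?_⟩
        have hk' : φ (algebraMap R A f) ^ k * (b * φ (algebraMap R A f) ^ n) = φ (algebraMap R A f) ^ k * φ a := hk
        show φ (algebraMap R A f ^ k * a) = f ^ (k + n) • b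
        rw [map_mul, map_pow, ← hk', Algebra.smul_def, map_pow, φ.commutes, pow_add]
        ring
    exact LinearMap.range_eq_top.1 htop

end Groth.Agent.S10721
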