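import Groth.Statements.S10723
import Groth.Agent.Lib.GlueH7.Bridge

set_option autoImplicit false
universe u
open TensorProduct
open EtAlg

namespace Groth.Agent.S10723

/-- Glueing along a glueing pair detects morphisms of affine schemes that are flat and of finite
presentation, stated for coordinate rings. Let `(R → R', f)` be a glueing pair and `φ : A → B` a
homomorphism of `R`-algebras with `A`, `B` glueable as `R`-modules (so `Spec A`, `Spec B` are affine
and glueable over `Spec R`). Then `φ` is flat and of finite presentation if and only if `A_f → B_f`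
and `R' ⊗_R A → R' ⊗_R B` are. -/
theorem result (R : Type u) [CommRing R] (R' : Type u) [CommRing R'] [Algebra R R'] (f : R)
    (hRR' : EtGlue.IsGlueingPair R R' f) (A B : Type u) [CommRing A] [Algebra R A] [CommRing B] [Algebra R B]
    (hA : EtGlue.IsGlueable R R' f A) (hB : EtGlue.IsGlueable R R' f B) (φ : A →ₐ[R] B) :
    (φ.toRingHom.Flat ∧ φ.toRingHom.FinitePresentation) ↔
      ((Localization.awayMap φ.toRingHom (algebraMap R A f)).Flat ∧ (Localization.awayMap φ.toRingHom (algebraMap R A f)).FinitePresentation) ∧
        ((Algebra.TensorProduct.map (AlgHom.id R R') φ).toRingHom.Flat ∧ (Algebra.TensorProduct.map (AlgHom.id R R') φ).toRingHom.FinitePresentation) := by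
  letI := Algebra.TensorProduct.rightAlgebra (R := R) (A := R') (B := A)
  letI := φ.toRingHom.toAlgebra
  have : IsScalarTower R A B := IsScalarTower.of_algebraMap_eq fun r => (φ.commutes r).symm
  have hp := Groth.Agent.GlueH7.isGlueingPair_baseChange hRR' A hA
  have hφ : φ.toRingHom = algebraMap A B := rfl
  obtain ⟨h1, h2⟩ := Groth.Agent.GlueH7.bridge (R' := R') φ (algebraMap R A f) @RingHom.Flat RingHom.Flat.respectsIso
  obtain ⟨h3, h4⟩ := Groth.Agent.GlueH7.bridge (R' := R') φ (algebraMap R A f) @RingHom.FinitePresentation RingHom.finitePresentation_respectsIso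
  rw [h1, h2, h3, h4, hφ, RingHom.flat_algebraMap_iff, RingHom.flat_algebraMap_iff, RingHom.flat_algebraMap_iff,
    RingHom.finitePresentation_algebraMap, RingHom.finitePresentation_algebraMap, RingHom.finitePresentation_algebraMap]
  refine ⟨fun ⟨_, _⟩ => ⟨⟨inferInstance, inferInstance⟩, inferInstance, inferInstance⟩,
    fun ⟨⟨_, _⟩, _, _⟩ => Groth.Agent.GlueH7.flat_finitePresentation_of_pair hp⟩

end Groth.Agent.S10723
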