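import Groth.Statements.S10727
import Groth.Agent.Lib.GlueH7.Exists
import Mathlib.RingTheory.Localization.BaseChange

set_option autoImplicit false
universe u
open TensorProduct
open EtAlg

namespace Groth.Agent.S10727

/-- Glueing affine schemes along a glueing pair, stated for their coordinate rings. Let `(R → R', f)` be
a glueing pair, `A₁` an `R`-algebra in which `f` is invertible, `A'` an `R'`-algebra and `φ : A'_f ≅
R' ⊗_R A₁` an isomorphism of `R'`-algebras. Then there is an `R`-algebra `A`, glueable as an
`R`-module, with isomorphisms `A_f ≅ A₁` of `R`-algebras and `R' ⊗_R A ≅ A'` of `R'`-algebras under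
which `φ` is the canonical identification `(R' ⊗_R A)_f = R' ⊗_R A_f`. (The published statement is
that base change is an equivalence between affine schemes over `Spec R` that are glueable and
triples of affine schemes over `Spec R_f`, `Spec R'_f`, `Spec R'` with cartesian squares; this row
states only that every such triple arises, on coordinate rings.) -/
theorem result (R : Type u) [CommRing R] (R' : Type u) [CommRing R'] [Algebra R R']
    (f : R) (hRR' : EtGlue.IsGlueingPair R R' f) (A₁ : Type u) [CommRing A₁] [Algebra R A₁]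
    (h₁ : IsUnit (algebraMap R A₁ f)) (A' : Type u) [CommRing A'] [Algebra R A'] [Algebra R' A']
    [IsScalarTower R R' A'] (φ : Localization.Away (algebraMap R A' f) ≃ₐ[R'] R' ⊗[R] A₁) :
    ∃ (A : Type u) (_ : CommRing A) (_ : Algebra R A) (_ : EtGlue.IsGlueable R R' f A)
      (e₁ : Localization.Away (algebraMap R A f) ≃ₐ[R] A₁) (e' : R' ⊗[R] A ≃ₐ[R'] A'),
      ∀ a : A, φ (algebraMap A' (Localization.Away (algebraMap R A' f)) (e' ((1 : R') ⊗ₜ[R] a))) =
        (1 : R') ⊗ₜ[R] e₁ (algebraMap A (Localization.Away (algebraMap R A f)) a) := by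
  let j : A' →ₐ[R] R' ⊗[R] A₁ :=
    (φ.toAlgHom.comp (IsScalarTower.toAlgHom R' A' (Localization.Away (algebraMap R A' f)))).restrictScalars R
  let β : A' →ₗ[R'] R' ⊗[R] A₁ := φ.toLinearEquiv.toLinearMap.comp
    (IsScalarTower.toAlgHom R' A' (Localization.Away (algebraMap R A' f))).toLinearMap
  haveI : IsLocalizedModule (Submonoid.powers (algebraMap R R' f))
      (IsScalarTower.toAlgHom R' A' (Localization.Away (algebraMap R A' f))).toLinearMap := by
    rw [isLocalizedModule_iff_isLocalization, Algebra.algebraMapSubmonoid_powers,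
      ← IsScalarTower.algebraMap_apply]
    exact inferInstanceAs (IsLocalization.Away (algebraMap R A' f) (Localization.Away (algebraMap R A' f)))
  haveI : IsLocalizedModule (Submonoid.powers (algebraMap R R' f)) β := IsLocalizedModule.of_linearEquiv _ _ _
  let A : Subalgebra R (A' × A₁) :=
    AlgHom.equalizer (j.comp (AlgHom.fst R A' A₁))
      ((Algebra.TensorProduct.includeRight (R := R) (A := R') (B := A₁)).comp (AlgHom.snd R A' A₁))
  let q₁ : A →ₐ[R] A' := (AlgHom.fst R A' A₁).comp A.val
  let q₂ : A →ₐ[R] A₁ := (AlgHom.snd R A' A₁).comp A.val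
  have d : Groth.Agent.GlueH7.GlueData β q₁.toLinearMap q₂.toLinearMap :=
    ⟨fun m => m.2, fun m h1 h2 => Subtype.ext (Prod.ext h1 h2), fun x y h => ⟨⟨(x, y), h⟩, rfl, rfl⟩⟩
  have hf : Function.Bijective fun x : A₁ => f • x := by
    simp only [Algebra.smul_def]
    exact IsUnit.isUnit_iff_mulLeft_bijective.1 h₁
  letI : Algebra A A₁ := q₂.toRingHom.toAlgebra
  haveI : IsScalarTower R A A₁ := IsScalarTower.of_algebraMap_eq fun r => (q₂.commutes r).symm
  haveI : IsLocalization.Away (algebraMap R A f) A₁ := by
    have h := d.isLocalizedModule hf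
    have heq : q₂.toLinearMap = (IsScalarTower.toAlgHom R A A₁).toLinearMap := rfl
    rw [heq, isLocalizedModule_iff_isLocalization, Algebra.algebraMapSubmonoid_powers] at h
    exact h
  let E := (IsLocalization.algEquiv (Submonoid.powers (algebraMap R A f))
    (Localization.Away (algebraMap R A f)) A₁).restrictScalars R
  let T : R' ⊗[R] A →ₐ[R'] A' := Algebra.TensorProduct.lift (Algebra.ofId R' A') q₁ (fun _ _ => Commute.all _ _)
  have hT : (T : R' ⊗[R] A → A') = LinearMap.liftBaseChange R' q₁.toLinearMap := by
    funext z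
    induction z using TensorProduct.induction_on with
    | zero => simp
    | tmul r a => simp [T, Algebra.smul_def]
    | add a b ha hb => simp only [map_add, ha, hb]
  refine ⟨A, inferInstance, inferInstance, d.isGlueable hRR' hf, E,
    AlgEquiv.ofBijective T (by rw [hT]; exact d.bijective hRR' hf), fun a => ?_⟩
  have hE : E (algebraMap A (Localization.Away (algebraMap R A f)) a) = q₂ a :=
    AlgEquiv.commutes (IsLocalization.algEquiv (Submonoid.powers (algebraMap R A f))
      (Localization.Away (algebraMap R A f)) A₁) a
  rw [hE]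
  have hz : AlgEquiv.ofBijective T (by rw [hT]; exact d.bijective hRR' hf) ((1 : R') ⊗ₜ[R] a) = q₁ a := by
    simp [T]
  rw [hz]
  exact d.comm a

end Groth.Agent.S10727
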