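import Groth.Statements.S10728
-- import your own Groth.Agent.* helpers here
import Groth.Agent.Lib.SepColim25.Basic

set_option autoImplicit false
universe w v u
open CategoryTheory CategoryTheory.Limits AlgebraicGeometry
open AlgSp

open Groth.Agent.SepColim25 Groth.Agent.AlgSpace
namespace Groth.Agent.S10728

/-- Let `B` be an algebraic space over `S`, `P` the property 'separated over `B`' on algebraic spaces
over `B`, `D` a diagram in the full subcategory it defines and `c` a cocone on `D` that is a colimit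
there. Assume the coprojections are jointly surjective, that for every separated etale `U → c.pt`
every cocone of cartesian squares `D_i ×_{c.pt} U → U` is a colimit in that subcategory, and that
every system of separated etale `U_i → D_i` with cartesian transition squares arises from some
separated etale `U → c.pt` by base change. Then `c` is also a colimit when viewed among all
algebraic spaces over `B`. -/
theorem result {S : Scheme.{u}} {B : AlgSp.Space S} (P : ObjectProperty (Over B))
    (hP : ∀ T : Over B, P T ↔ AlgSp.IsSeparatedMor T.hom.hom) {I : Type v} [Category.{w} I]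
    (D : I ⥤ P.FullSubcategory) (c : Cocone D) (h₂ : IsColimit c)
    (h₃ : ∀ x : AlgSp.Points c.pt.obj.left.obj, ∃ (i : I) (y : AlgSp.Points (D.obj i).obj.left.obj),
      AlgSp.Points.map (c.ι.app i).hom.left.hom y = x)
    (h₄ : ∀ (D' : I ⥤ P.FullSubcategory) (α : D' ⟶ D) (c' : Cocone D') (a : c'.pt ⟶ c.pt),
      AlgSp.IsEtaleMor a.hom.left.hom → AlgSp.IsSeparatedMor a.hom.left.hom →
      (∀ i, IsPullback (c'.ι.app i).hom.left.hom (α.app i).hom.left.hom a.hom.left.hom (c.ι.app i).hom.left.hom) →
        Nonempty (IsColimit c'))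
    (h₅ : ∀ (D' : I ⥤ P.FullSubcategory) (α : D' ⟶ D),
      (∀ ⦃i j : I⦄ (g : i ⟶ j), IsPullback (D'.map g).hom.left.hom (α.app i).hom.left.hom (α.app j).hom.left.hom
        (D.map g).hom.left.hom) →
      (∀ i, AlgSp.IsEtaleMor (α.app i).hom.left.hom) → (∀ i, AlgSp.IsSeparatedMor (α.app i).hom.left.hom) →
        ∃ (c' : Cocone D') (a : c'.pt ⟶ c.pt), AlgSp.IsEtaleMor a.hom.left.hom ∧ AlgSp.IsSeparatedMor a.hom.left.hom ∧
          ∀ i, IsPullback (c'.ι.app i).hom.left.hom (α.app i).hom.left.hom a.hom.left.hom (c.ι.app i).hom.left.hom) :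
    Nonempty (IsColimit (P.ι.mapCocone c)) := by
  classical
  suffices H : ∀ s : Cocone (D ⋙ P.ι), ∃! d : c.pt.obj.left.obj ⟶ s.pt.left.obj,
      d ≫ s.pt.hom.hom = c.pt.obj.hom.hom ∧ ∀ i, (c.ι.app i).hom.left.hom ≫ d = (s.ι.app i).left.hom by
    choose d hd huniq using H
    refine ⟨{ desc := fun s => Over.homMk (ObjectProperty.homMk (d s)) (InducedCategory.hom_ext (hd s).1)
              fac := fun s i => Over.OverMorphism.ext (InducedCategory.hom_ext ((hd s).2 i))
              uniq := fun s m hm => Over.OverMorphism.ext (InducedCategory.hom_ext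
                (huniq s m.left.hom ⟨congrArg InducedCategory.Hom.hom (Over.w m), fun i => ?_⟩)) }⟩
    exact congrArg (fun e => e.left.hom) (hm i)
  intro s
  let β : s.pt.left.obj ⟶ B.obj := s.pt.hom.hom
  let π : c.pt.obj.left.obj ⟶ B.obj := str c.pt
  let ψ : ∀ i, (sp (D.obj i)).obj ⟶ s.pt.left.obj := fun i => (s.ι.app i).left.hom
  have hψβ : ∀ i, ψ i ≫ β = str (D.obj i) := fun i => congrArg InducedCategory.Hom.hom (Over.w (s.ι.app i))
  have hψ : ∀ ⦃i j : I⦄ (g : i ⟶ j), (D.map g).hom.left.hom ≫ ψ j = ψ i := fun i j g => by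
    exact congrArg (fun e => e.left.hom) (s.w g)
  let ι : ∀ i, (sp (D.obj i)).obj ⟶ c.pt.obj.left.obj := fun i => (c.ι.app i).hom.left.hom
  have hι : ∀ ⦃i j : I⦄ (g : i ⟶ j), (D.map g).hom.left.hom ≫ ι j = ι i := fun i j g => by
    exact congrArg (fun e => e.hom.left.hom) (c.w g)
  obtain ⟨κ, V, q, hV, hq, hcovq⟩ := Groth.Agent.AlgSpace.exists_affine_cover s.pt.left.property
  have hV' : ∀ k, IsAffine (V k).left := hV
  let Vs : κ → AlgSp.Space S := fun k => ⟨(AlgSp.yon S).obj (V k), AlgSp.IsAlgSpace.yon_obj _⟩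
  have hqe : ∀ k, AlgSp.IsEtaleMor (q k) := fun k U φ hφ => Groth.Agent.AlgSpace.repWith_comp hφ (hq k)
  have hqs : ∀ k, AlgSp.IsSeparatedMor (q k) := fun k => isSeparatedMor_of_affine (q k)
  let VP : κ → P.FullSubcategory := fun k => ⟨Over.mk (ObjectProperty.homMk (q k ≫ β) : Vs k ⟶ B),
    (hP _).2 (isSeparatedMor_of_affine _)⟩
  -- two maps to charts agreeing on the pieces agree
  have agree : ∀ (R : AlgSp.Space S) (a : R.obj ⟶ c.pt.obj.left.obj), AlgSp.IsEtaleMor a →
      AlgSp.IsSeparatedMor a → ∀ (k l : κ) (u : R.obj ⟶ (Vs k).obj) (v : R.obj ⟶ (Vs l).obj),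
      (u ≫ q k) ≫ β = a ≫ π → (v ≫ q l) ≫ β = a ≫ π →
      (∀ (T : AlgSp.Sp S) (i : I) (x : T ⟶ (sp (D.obj i)).obj) (y : T ⟶ R.obj), x ≫ ι i = y ≫ a →
        y ≫ u ≫ q k = x ≫ ψ i ∧ y ≫ v ≫ q l = x ≫ ψ i) → u ≫ q k = v ≫ q l := by
    intro R a ha has k l u v hu hv huv
    obtain ⟨D', α, σ, hσ, hsq, he, hs', -⟩ := exists_pullSys hP ι hι a ha has
    let RP : P.FullSubcategory := ⟨Over.mk (ObjectProperty.homMk (a ≫ π) : R ⟶ B),
      (hP _).2 (sep_comp has ((hP _).1 c.pt.property))⟩
    let c' : Cocone D' :=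
      { pt := RP
        ι :=
          { app := fun i => mkHom (Y := RP) (σ i) (by
              change σ i ≫ a ≫ π = _
              rw [← Category.assoc, ← (hsq i).w, Category.assoc, ← w_val (α.app i)]
              exact congrArg (_ ≫ ·) (w_val (c.ι.app i)))
            naturality := fun i j g => hom_ext' (by
              change (D'.map g).hom.left.hom ≫ σ j = σ i ≫ 𝟙 _
              rw [hσ g, Category.comp_id]) } }
    obtain ⟨hc'⟩ := h₄ D' α c' (mkHom (X := RP) a rfl) ha has fun i => (hsq i).flip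
    let WP : P.FullSubcategory := ⟨Over.mk (ObjectProperty.homMk (pullback.fst (q k) (q l) ≫ q k ≫ β) :
      pb (A := Vs k) (B := Vs l) (C := s.pt.left) (q k) (q l) ⟶ B), (hP _).2 (sep_comp
        (isSeparatedMor_of_isPullback (IsPullback.of_hasPullback (q k) (q l)).flip (hqs l))
        ((hP _).1 (VP k).property))⟩
    have huv' : ∀ i, σ i ≫ u ≫ q k = σ i ≫ v ≫ q l := fun i => by
      obtain ⟨e₁, e₂⟩ := huv _ i (α.app i).hom.left.hom (σ i) (hsq i).w
      rw [e₁, e₂]
    let cW : Cocone D' :=
      { pt := WP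
        ι :=
          { app := fun i => mkHom (Y := WP) (pullback.lift (σ i ≫ u) (σ i ≫ v) (by
              simpa only [Category.assoc] using huv' i)) (by
              change pullback.lift (σ i ≫ u) (σ i ≫ v) _ ≫ pullback.fst (q k) (q l) ≫ q k ≫ β = _
              rw [pullback.lift_fst_assoc, Category.assoc, ← Category.assoc u, hu]
              exact w_val (c'.ι.app i))
            naturality := fun i j g => hom_ext' (by
              change (D'.map g).hom.left.hom ≫ pullback.lift (σ j ≫ u) (σ j ≫ v) _ =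
                pullback.lift (σ i ≫ u) (σ i ≫ v) _ ≫ 𝟙 _
              rw [Category.comp_id]
              apply pullback.hom_ext <;>
                simp only [Category.assoc, pullback.lift_fst, pullback.lift_snd, reassoc_of% (hσ g)]) } }
    let w := hc'.desc cW
    have hw : ∀ i, σ i ≫ w.hom.left.hom = pullback.lift (σ i ≫ u) (σ i ≫ v) (by
        simpa only [Category.assoc] using huv' i) := fun i =>
      congrArg (fun e => e.hom.left.hom) (hc'.fac cW i)
    let fW : WP ⟶ VP k := mkHom (pullback.fst (q k) (q l)) rfl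
    let gW : WP ⟶ VP l := mkHom (pullback.snd (q k) (q l)) (by
      change pullback.snd (q k) (q l) ≫ q l ≫ β = pullback.fst (q k) (q l) ≫ q k ≫ β
      rw [pullback.condition_assoc])
    let uR : RP ⟶ VP k := mkHom u ((Category.assoc u (q k) β).symm.trans hu)
    let vR : RP ⟶ VP l := mkHom v ((Category.assoc v (q l) β).symm.trans hv)
    have e₁ : w ≫ fW = uR := hc'.hom_ext fun i => hom_ext' (by
      change σ i ≫ w.hom.left.hom ≫ pullback.fst (q k) (q l) = σ i ≫ u
      rw [reassoc_of% (hw i), pullback.lift_fst])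
    have e₂ : w ≫ gW = vR := hc'.hom_ext fun i => hom_ext' (by
      change σ i ≫ w.hom.left.hom ≫ pullback.snd (q k) (q l) = σ i ≫ v
      rw [reassoc_of% (hw i), pullback.lift_snd])
    have e₁' : w.hom.left.hom ≫ pullback.fst (q k) (q l) = u := congrArg (fun e => e.hom.left.hom) e₁
    have e₂' : w.hom.left.hom ≫ pullback.snd (q k) (q l) = v := congrArg (fun e => e.hom.left.hom) e₂
    rw [← e₁', ← e₂', Category.assoc, Category.assoc, pullback.condition]
  -- the charts of the colimit
  have hdata : ∀ k, ∃ (U : AlgSp.Space S) (a : U.obj ⟶ c.pt.obj.left.obj) (g : U.obj ⟶ (Vs k).obj),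
      AlgSp.IsEtaleMor a ∧ AlgSp.IsSeparatedMor a ∧ (g ≫ q k) ≫ β = a ≫ π ∧
      (∀ (T : AlgSp.Sp S) (i : I) (x : T ⟶ (sp (D.obj i)).obj) (y : T ⟶ U.obj), x ≫ ι i = y ≫ a →
        y ≫ g ≫ q k = x ≫ ψ i) ∧
      ∀ x, ∀ i y, AlgSp.Points.map (ι i) y = x →
        AlgSp.Points.map (ψ i) y ∈ Set.range (AlgSp.Points.map (q k)) → x ∈ Set.range (AlgSp.Points.map a) := by
    intro k
    obtain ⟨D', α, σ, hσ, hsq, he, hs', hcart⟩ := exists_pullSys (Q := Vs k) hP ψ hψ (q k) (hqe k) (hqs k)
    obtain ⟨c', a, ha, has, hpb⟩ := h₅ D' α hcart he hs'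
    obtain ⟨hc'⟩ := h₄ D' α c' a ha has hpb
    let cV : Cocone D' :=
      { pt := VP k
        ι :=
          { app := fun i => mkHom (Y := VP k) (σ i) (by
              change σ i ≫ q k ≫ β = _
              rw [← Category.assoc, ← (hsq i).w, Category.assoc, hψβ, w_val (α.app i)])
            naturality := fun i j g => hom_ext' (by
              change (D'.map g).hom.left.hom ≫ σ j = σ i ≫ 𝟙 _
              rw [hσ g, Category.comp_id]) } }
    have hm : ∀ i, (c'.ι.app i).hom.left.hom ≫ (hc'.desc cV).hom.left.hom = σ i := fun i =>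
      congrArg (fun e => e.hom.left.hom) (hc'.fac cV i)
    refine ⟨c'.pt.obj.left, a.hom.left.hom, (hc'.desc cV).hom.left.hom, ha, has,
      ((Category.assoc _ _ _).trans (w_val (hc'.desc cV))).trans (w_val a).symm, fun T i x y h => ?_,
      fun x i y hy hz => ?_⟩
    · rw [← (hpb i).lift_fst y x h.symm, Category.assoc, reassoc_of% (hm i), ← (hsq i).w,
        ← Category.assoc, (hpb i).lift_snd]
    · obtain ⟨z, hz⟩ := hz
      obtain ⟨w, hw, -⟩ := Groth.Agent.AlgSpDecent.exists_point_lift (hsq i) y z hz.symm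
      refine ⟨AlgSp.Points.map (c'.ι.app i).hom.left.hom w, ?_⟩
      rw [← AlgSp.Points.map_comp, (hpb i).w, AlgSp.Points.map_comp, hw]
      exact hy
  choose U a g ha has hgβ hg hrange using hdata
  have hcov : AlgSp.IsFpqcCover (fun k => (U k).obj) a := isFpqcCover_etale ha fun x => by
    obtain ⟨i, y, hy⟩ := h₃ x
    obtain ⟨k, w, hw⟩ := hcovq (AlgSp.Points.map (ψ i) y)
    exact ⟨k, hrange k x i y hy ⟨w, hw⟩⟩
  obtain ⟨m, hm⟩ := Groth.Agent.Gabber15.exists_hom_glue c.pt.obj.left.property hcov s.pt.left.property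
    (fun k => g k ≫ q k) (fun k l => by
      rw [← Category.assoc, ← Category.assoc]
      refine agree (pb (a k) (a l)) (pullback.fst (a k) (a l) ≫ a k)
        (etale_comp (etale_of_isPullback (X' := pb (a k) (a l))
          (IsPullback.of_hasPullback (a k) (a l)).flip (ha l)) (ha k))
        (sep_comp (isSeparatedMor_of_isPullback (IsPullback.of_hasPullback (a k) (a l)).flip (has l)) (has k))
        k l _ _ ?_ ?_ fun T i x y h => ⟨?_, ?_⟩
      · simp only [Category.assoc]
        rw [← Category.assoc (g k), hgβ k]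
      · simp only [Category.assoc]
        rw [← Category.assoc (g l), hgβ l, pullback.condition_assoc]
      · have e := hg k T i x (y ≫ pullback.fst _ _) (by rw [Category.assoc]; exact h)
        simpa only [Category.assoc] using e
      · have e := hg l T i x (y ≫ pullback.snd _ _) (by rw [Category.assoc, ← pullback.condition]; exact h)
        simpa only [Category.assoc] using e)
  refine ⟨m, ⟨Groth.Agent.Gabber15.hom_ext_cover hcov B.property fun k => ?_, fun i => ?_⟩, fun m' hm' => ?_⟩
  · rw [reassoc_of% (hm k)]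
    simpa only [Category.assoc] using hgβ k
  · have hcovi := Groth.Agent.AlgSpDescent.isFpqcCover_of_isPullback c.pt.obj.left.property
      (sp (D.obj i)).property (ι i) (fun k => (U k).property) (fun k => IsPullback.of_hasPullback (ι i) (a k)) hcov
    refine Groth.Agent.Gabber15.hom_ext_cover hcovi s.pt.left.property fun k => ?_
    show pullback.fst (ι i) (a k) ≫ ι i ≫ m = pullback.fst (ι i) (a k) ≫ ψ i
    rw [pullback.condition_assoc, hm k]
    exact hg k _ i _ _ pullback.condition
  · refine Groth.Agent.Gabber15.hom_ext_cover hcov s.pt.left.property fun k => ?_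
    rw [hm k]
    let p : ∀ l, pullback (a k ≫ m') (q l) ⟶ (U k).obj := fun l => pullback.fst (a k ≫ m') (q l)
    have hpe : ∀ l, AlgSp.IsEtaleMor (p l) := fun l =>
      etale_of_isPullback (X := Vs l) (Y := s.pt.left) (Y' := U k) (X' := pb (B := Vs l) (C := s.pt.left) (a k ≫ m') (q l))
        (IsPullback.of_hasPullback (a k ≫ m') (q l)).flip (hqe l)
    have hcovk : AlgSp.IsFpqcCover (fun l => (pb (B := Vs l) (C := s.pt.left) (a k ≫ m') (q l)).obj) p :=
      isFpqcCover_etale hpe fun z => by
        obtain ⟨l, w, hw⟩ := hcovq (AlgSp.Points.map (a k ≫ m') z)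
        obtain ⟨w', hw', -⟩ := Groth.Agent.AlgSpDecent.exists_point_lift
          (IsPullback.of_hasPullback (a k ≫ m') (q l)) z w hw.symm
        exact ⟨l, w', hw'⟩
    refine Groth.Agent.Gabber15.hom_ext_cover hcovk s.pt.left.property fun l => ?_
    show pullback.fst (a k ≫ m') (q l) ≫ a k ≫ m' = pullback.fst (a k ≫ m') (q l) ≫ g k ≫ q k
    rw [pullback.condition, ← Category.assoc]
    symm
    refine agree (pb (B := Vs l) (C := s.pt.left) (a k ≫ m') (q l)) (p l ≫ a k) (etale_comp (hpe l) (ha k))
      (sep_comp (isSeparatedMor_of_isPullback (IsPullback.of_hasPullback (a k ≫ m') (q l)).flip (hqs l)) (has k))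
      k l _ _ ?_ ?_ fun T i x y h => ⟨?_, ?_⟩
    · simp only [Category.assoc, p]
      rw [← Category.assoc (g k), hgβ k]
    · rw [← pullback.condition]
      simp only [Category.assoc, p]
      rw [show m' ≫ β = π from hm'.1]
    · have e := hg k T i x (y ≫ p l) (by rw [Category.assoc]; exact h)
      simpa only [Category.assoc] using e
    · rw [← pullback.condition]
      simp only [p, ← Category.assoc] at h ⊢
      rw [← h, Category.assoc]
      exact congrArg (x ≫ ·) (hm'.2 i)


end Groth.Agent.S10728
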