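import Groth.Statements.S1073
import Groth.Agent.Lib.DQC.TestMod
-- import your own Groth.Agent.* helpers here

set_option autoImplicit false
universe u
open CategoryTheory CategoryTheory.Limits AlgebraicGeometry Opposite
attribute [local instance] HasDerivedCategory.standard
open Perf

namespace Groth.Agent.S1073

/-- Let X be a quasi-separated scheme, E ∈ D(O_X) with quasi-coherent cohomology sheaves, and a ≤ b.
Then E has tor amplitude in [a, b] (Hⁱ(E ⊗^L F) = 0 outside [a, b] for every O_X-module F, whenever
the derived functor is available) if and only if the same vanishing holds for every quasi-coherent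
O_X-module F. -/
theorem result (X : Scheme.{u}) [QuasiSeparatedSpace ↥X] (E : DCoh.D X) (hE : DCoh.IsQCohD E)
    (a b : ℤ) (hab : a ≤ b) :
    DCoh.HasTorAmplitudeIn a b E ↔
      ∀ (F : X.Modules), Coh.IsQCoh F → ∀ [DCoh.HasLTensorMod F] (i : ℤ), (i < a ∨ b < i) →
        IsZero (DCoh.HD ((DCoh.LTensorMod F).obj E) i) := by
  exact ⟨fun h F _ => fun {_} i hi => h F i hi,
    fun h => KFlat.Sch.torAmplitude_of_flatAmplitude (DQC.flatAmplitude_of_qcoh_tests hE a b h)⟩

end Groth.Agent.S1073
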