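import Groth.Statements.S10730
-- import your own Groth.Agent.* helpers here
import Groth.Agent.Lib.EtColim25.Extend

set_option autoImplicit false
universe w v u
open CategoryTheory CategoryTheory.Limits AlgebraicGeometry
open AlgSp

open Groth.Agent.SepColim25 Groth.Agent.EtColim25
namespace Groth.Agent.S10730

/-- Let `B` be an algebraic space over `S`, `D : I ⥤ Over B` a diagram of algebraic spaces over `B` and
`c` a cocone. Assume (1) the base change functor from algebraic spaces etale over `c.pt` to systems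
of algebraic spaces etale over the `D_i` with cartesian transition squares is an equivalence: every
such system is the base change of some etale `U → c.pt`, and every morphism between the base-change
systems of two etale `U, U' → c.pt` comes from a unique morphism `U → U'` over `c.pt`; and (2) for
every affine scheme `B'` etale over `B`, affine scheme `Z` over `B'`, affine scheme `U` etale over
`c.pt ×_B B'` and cocone of morphisms `U ×_{c.pt} D_i → Z` over `B'`, there is a unique `U → Z` over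
`B'` inducing it. Then `c` is a colimit in algebraic spaces over `B`. -/
theorem result {S : Scheme.{u}} {B : AlgSp.Space S} {I : Type v} [Category.{w} I]
    (D : I ⥤ Over B) (c : Cocone D)
    (h₁ : ∀ (D' : I ⥤ Over B) (α : D' ⟶ D),
      (∀ ⦃i j : I⦄ (g : i ⟶ j), IsPullback (D'.map g).left.hom (α.app i).left.hom (α.app j).left.hom (D.map g).left.hom) →
      (∀ i, AlgSp.IsEtaleMor (α.app i).left.hom) →
        ∃ (c' : Cocone D') (a : c'.pt ⟶ c.pt), AlgSp.IsEtaleMor a.left.hom ∧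
          ∀ i, IsPullback (c'.ι.app i).left.hom (α.app i).left.hom a.left.hom (c.ι.app i).left.hom)
    (h₁' : ∀ (U U' : Over B) (u : U ⟶ c.pt) (u' : U' ⟶ c.pt), AlgSp.IsEtaleMor u.left.hom → AlgSp.IsEtaleMor u'.left.hom →
      ∀ (DU DU' : I ⥤ Over B) (αU : DU ⟶ D) (αU' : DU' ⟶ D) (ιU : DU ⟶ (Functor.const I).obj U)
        (ιU' : DU' ⟶ (Functor.const I).obj U'),
        (∀ i, IsPullback (ιU.app i).left.hom (αU.app i).left.hom u.left.hom (c.ι.app i).left.hom) →
        (∀ i, IsPullback (ιU'.app i).left.hom (αU'.app i).left.hom u'.left.hom (c.ι.app i).left.hom) →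
        ∀ (β : DU ⟶ DU'), β ≫ αU' = αU →
          ∃! m : U ⟶ U', m ≫ u' = u ∧ ∀ i, ιU.app i ≫ m = β.app i ≫ ιU'.app i)
    (h₂ : ∀ (B' Zs Us : Over S) (b : (AlgSp.yon S).obj B' ⟶ B.obj) (z : Zs ⟶ B') {XB : AlgSp.Space S}
      (x₁ : XB ⟶ c.pt.left) (x₂ : XB.obj ⟶ (AlgSp.yon S).obj B') (uu : (AlgSp.yon S).obj Us ⟶ XB.obj)
      (DU : I ⥤ AlgSp.Space S) (αU : DU ⟶ D ⋙ Over.forget B)
      (ιU : DU ⟶ (Functor.const I).obj ((AlgSp.ofScheme S).obj Us))
      (φ : DU ⟶ (Functor.const I).obj ((AlgSp.ofScheme S).obj Zs)),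
      IsAffine B'.left → IsAffine Zs.left → IsAffine Us.left → AlgSp.RepWith @Etale b →
      IsPullback x₁.hom x₂ c.pt.hom.hom b → AlgSp.RepWith @Etale uu →
      (∀ i, IsPullback (ιU.app i).hom (αU.app i).hom (uu ≫ x₁.hom) (c.ι.app i).left.hom) →
      (∀ i, (φ.app i).hom ≫ (AlgSp.yon S).map z = (ιU.app i).hom ≫ uu ≫ x₂) →
        ∃! fz : Us ⟶ Zs, (AlgSp.yon S).map fz ≫ (AlgSp.yon S).map z = uu ≫ x₂ ∧
          ∀ i, (ιU.app i).hom ≫ (AlgSp.yon S).map fz = (φ.app i).hom) :
    Nonempty (IsColimit c) := by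
  have hff : Groth.Agent.EtColim25.FF c := h₁'
  have hext : Groth.Agent.EtColim25.AffExt c := h₂
  suffices H : ∀ s : Cocone D, ∃! d : c.pt.left.obj ⟶ s.pt.left.obj,
      d ≫ s.pt.hom.hom = c.pt.hom.hom ∧ ∀ i, (c.ι.app i).left.hom ≫ d = (s.ι.app i).left.hom by
    choose d hd huniq using H
    refine ⟨{ desc := fun s => mkOver (d s) (hd s).1
              fac := fun s i => over_ext ((hd s).2 i)
              uniq := fun s m hm => over_ext (huniq s m.left.hom ⟨w_over m, fun i => ?_⟩) }⟩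
    exact congrArg (fun e => e.left.hom) (hm i)
  intro s
  let β : s.pt.left.obj ⟶ B.obj := s.pt.hom.hom
  let π : c.pt.left.obj ⟶ B.obj := c.pt.hom.hom
  let ψ : ∀ i, (D.obj i).left.obj ⟶ s.pt.left.obj := fun i => (s.ι.app i).left.hom
  have hψ := cocone_w s
  let ι : ∀ i, (D.obj i).left.obj ⟶ c.pt.left.obj := fun i => (c.ι.app i).left.hom
  obtain ⟨Λ, B', b, hB', hb, hcovb⟩ := Groth.Agent.AlgSpace.exists_affine_cover B.property
  let B'' : Λ → AlgSp.Space S := fun l => ⟨(AlgSp.yon S).obj (B' l), AlgSp.IsAlgSpace.yon_obj _⟩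
  let Tl : Λ → AlgSp.Space S := fun l => pb (A := s.pt.left) (B := B'' l) (C := B) β (b l)
  choose κ Zk r hZk hr hcovr using fun l => Groth.Agent.AlgSpace.exists_affine_cover (Tl l).property
  let Vs : (Σ l, κ l) → AlgSp.Space S := fun k => ⟨(AlgSp.yon S).obj (Zk k.1 k.2), AlgSp.IsAlgSpace.yon_obj _⟩
  obtain ⟨q, z, hqe, hqβ, hcovq⟩ : ∃ (q : ∀ k : Σ l, κ l, (Vs k).obj ⟶ s.pt.left.obj)
      (z : ∀ k : Σ l, κ l, Zk k.1 k.2 ⟶ B' k.1), (∀ k, AlgSp.IsEtaleMor (q k)) ∧
        (∀ k, q k ≫ β = (AlgSp.yon S).map (z k) ≫ b k.1) ∧ ∀ x, ∃ k w, AlgSp.Points.map (q k) w = x := by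
    let q : ∀ k : Σ l, κ l, (Vs k).obj ⟶ s.pt.left.obj := fun k => r k.1 k.2 ≫ pullback.fst β (b k.1)
    choose z hz using fun k : Σ l, κ l => (AlgSp.yon S).map_surjective (r k.1 k.2 ≫ pullback.snd β (b k.1))
    have hbe : ∀ l, AlgSp.IsEtaleMor (b l) := fun l U φ hφ => Groth.Agent.AlgSpace.repWith_comp hφ (hb l)
    have hqe : ∀ k, AlgSp.IsEtaleMor (q k) := fun k => etale_comp
      (fun U φ hφ => Groth.Agent.AlgSpace.repWith_comp hφ (hr k.1 k.2))
      (etale_of_isPullback (X := B'' k.1) (Y := B) (Y' := s.pt.left) (X' := Tl k.1)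
        (IsPullback.of_hasPullback β (b k.1)).flip (hbe k.1))
    have hqβ : ∀ k, q k ≫ β = (AlgSp.yon S).map (z k) ≫ b k.1 := fun k => by
      rw [hz k, Category.assoc, Category.assoc, pullback.condition]
    have hcovq : ∀ x, ∃ k w, AlgSp.Points.map (q k) w = x := fun x => by
      obtain ⟨l, y, hy⟩ := hcovb (AlgSp.Points.map β x)
      obtain ⟨p, hp, -⟩ := Groth.Agent.AlgSpDecent.exists_point_lift (IsPullback.of_hasPullback β (b l)) x y hy.symm
      obtain ⟨m, w, hw⟩ := hcovr l p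
      exact ⟨⟨l, m⟩, w, by rw [AlgSp.Points.map_comp, hw, hp]⟩
    exact ⟨q, z, hqe, hqβ, hcovq⟩
  have hbe : ∀ l, AlgSp.IsEtaleMor (b l) := fun l U φ hφ => Groth.Agent.AlgSpace.repWith_comp hφ (hb l)
  -- two maps to charts agreeing on the pieces agree
  have agree : ∀ (R : AlgSp.Space S) (a : R.obj ⟶ c.pt.left.obj), AlgSp.IsEtaleMor a →
      ∀ (k l : Σ l, κ l) (u : R.obj ⟶ (Vs k).obj) (v : R.obj ⟶ (Vs l).obj),
      (u ≫ q k) ≫ β = a ≫ π → (v ≫ q l) ≫ β = a ≫ π →
      (∀ (T : AlgSp.Sp S) (i : I) (x : T ⟶ (D.obj i).left.obj) (y : T ⟶ R.obj), x ≫ ι i = y ≫ a →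
        y ≫ u ≫ q k = x ≫ ψ i ∧ y ≫ v ≫ q l = x ≫ ψ i) → u ≫ q k = v ≫ q l := by
    intro R a ha k l u v hu hv huv
    obtain ⟨D', α, σ, hσ, hsq, -, -⟩ := exists_sys ι (cocone_w c) a ha
    have huv' : ∀ i, σ i ≫ u ≫ q k = σ i ≫ v ≫ q l := fun i => by
      obtain ⟨e₁, e₂⟩ := huv _ i (α.app i).left.hom (σ i) (hsq i).w
      rw [e₁, e₂]
    let W := pb (A := R) (B := Vs l) (C := s.pt.left) (u ≫ q k) (q l)
    have hwe : AlgSp.IsEtaleMor (pullback.fst (u ≫ q k) (q l)) :=
      etale_of_isPullback (X := Vs l) (Y := s.pt.left) (Y' := R) (X' := W)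
        (IsPullback.of_hasPullback (u ≫ q k) (q l)).flip (hqe l)
    let τ : ∀ i, (D'.obj i).left.obj ⟶ W.obj := fun i =>
      pullback.lift (σ i) (σ i ≫ v) (by simpa only [Category.assoc] using huv' i)
    obtain ⟨m, ⟨hm₁, hm₂⟩, -⟩ := existsUnique_sect hff ha hσ hsq (W := W) (pullback.fst (u ≫ q k) (q l)) hwe τ
      (fun i => pullback.lift_fst _ _ _) (fun i j g => by
        apply pullback.hom_ext <;> simp only [τ, Category.assoc, pullback.lift_fst, pullback.lift_snd]
        · exact hσ g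
        · rw [reassoc_of% (hσ g)])
    let v' := m ≫ pullback.snd (u ≫ q k) (q l)
    have hv'q : v' ≫ q l = u ≫ q k := by
      rw [Category.assoc, ← pullback.condition, reassoc_of% hm₁]
    have hv's : ∀ i, σ i ≫ v' = σ i ≫ v := fun i => by
      rw [reassoc_of% (hm₂ i), pullback.lift_snd]
    have hvb : (v ≫ (AlgSp.yon S).map (z l)) ≫ b l.1 = a ≫ π := by
      rw [Category.assoc, ← hqβ l, ← Category.assoc, hv]
    have hzz : v' ≫ (AlgSp.yon S).map (z l) = v ≫ (AlgSp.yon S).map (z l) :=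
      eq_of_sect hff ha hσ hsq (E := B'' l.1) (T := B) (b l.1) (hbe l.1) _ _
        (by rw [hvb, Category.assoc, ← hqβ l, ← Category.assoc, hv'q, hu])
        (fun i => by rw [reassoc_of% (hv's i)])
    have hB'i : IsAffine (B' l.1).left := hB' l.1
    have hZi : IsAffine (Zk l.1 l.2).left := hZk l.1 l.2
    obtain ⟨g, -, hg⟩ := existsUnique_extend hext ha hσ hsq (b l.1) (hb l.1) (z l)
      (v ≫ (AlgSp.yon S).map (z l)) hvb (fun i => σ i ≫ v) (fun i j g => by rw [reassoc_of% (hσ g)])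
      (fun i => Category.assoc _ _ _)
    rw [← hv'q, hg v' ⟨hzz, hv's⟩, ← hg v ⟨rfl, fun i => rfl⟩]
  have hdata : ∀ k, ∃ (U : AlgSp.Space S) (a : U.obj ⟶ c.pt.left.obj) (g : U.obj ⟶ (Vs k).obj),
      AlgSp.IsEtaleMor a ∧ (g ≫ q k) ≫ β = a ≫ π ∧
      (∀ (T : AlgSp.Sp S) (i : I) (x : T ⟶ (D.obj i).left.obj) (y : T ⟶ U.obj), x ≫ ι i = y ≫ a →
        y ≫ g ≫ q k = x ≫ ψ i) ∧
      ∀ i y, AlgSp.Points.map (ψ i) y ∈ Set.range (AlgSp.Points.map (q k)) →
        AlgSp.Points.map (ι i) y ∈ Set.range (AlgSp.Points.map a) := by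
    intro k
    obtain ⟨D', α, σ, hσ, hsq, he, hcart⟩ := exists_sys (Q := Vs k) ψ hψ (q k) (hqe k)
    obtain ⟨c', a, ha, hpb⟩ := h₁ D' α hcart he
    let σc : ∀ i, (D'.obj i).left.obj ⟶ c'.pt.left.obj := fun i => (c'.ι.app i).left.hom
    have hσc := cocone_w c'
    have hsqc : ∀ i, IsPullback (α.app i).left.hom (σc i) (ι i) a.left.hom := fun i => (hpb i).flip
    have haπ : a.left.hom ≫ π = c'.pt.hom.hom := w_over a
    let W := pb (A := c'.pt.left) (B := B'' k.1) (C := B) (a.left.hom ≫ π) (b k.1)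
    have hwe : AlgSp.IsEtaleMor (pullback.fst (a.left.hom ≫ π) (b k.1)) :=
      etale_of_isPullback (X := B'' k.1) (Y := B) (Y' := c'.pt.left) (X' := W)
        (IsPullback.of_hasPullback (a.left.hom ≫ π) (b k.1)).flip (hbe k.1)
    let τ : ∀ i, (D'.obj i).left.obj ⟶ W.obj := fun i => pullback.lift (σc i) (σ i ≫ (AlgSp.yon S).map (z k)) (by
      rw [Category.assoc, ← hqβ k, ← Category.assoc (σ i), ← (hsq i).w, Category.assoc, haπ]
      exact (w_over (c'.ι.app i)).trans ((w_over (α.app i)).symm.trans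
        (congrArg ((α.app i).left.hom ≫ ·) (w_over (s.ι.app i)).symm)))
    obtain ⟨m, ⟨hm₁, hm₂⟩, -⟩ := existsUnique_sect hff ha hσc hsqc (W := W) (pullback.fst _ _) hwe τ
      (fun i => pullback.lift_fst _ _ _) (fun i j g => by
        apply pullback.hom_ext <;> simp only [τ, Category.assoc, pullback.lift_fst, pullback.lift_snd]
        · exact hσc g
        · rw [reassoc_of% (hσ g)])
    let x₂ := m ≫ pullback.snd (a.left.hom ≫ π) (b k.1)
    have hx₂ : x₂ ≫ b k.1 = a.left.hom ≫ c.pt.hom.hom := by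
      rw [Category.assoc, ← pullback.condition, reassoc_of% hm₁]
    have hB'i : IsAffine (B' k.1).left := hB' k.1
    have hZi : IsAffine (Zk k.1 k.2).left := hZk k.1 k.2
    obtain ⟨g, ⟨hg₁, hg₂⟩, -⟩ := existsUnique_extend hext ha hσc hsqc (b k.1) (hb k.1) (z k) x₂ hx₂ σ hσ
      (fun i => by rw [reassoc_of% (hm₂ i), pullback.lift_snd])
    refine ⟨c'.pt.left, a.left.hom, g, ha, ?_, fun T i x y h => ?_, fun i y hy => ?_⟩
    · rw [Category.assoc, hqβ k, ← Category.assoc, hg₁, hx₂]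
    · rw [← (hsqc i).lift_snd x y h, Category.assoc, reassoc_of% (hg₂ i), ← (hsq i).w,
        ← Category.assoc, (hsqc i).lift_fst]
    · obtain ⟨w, hw⟩ := hy
      obtain ⟨p, hp, -⟩ := Groth.Agent.AlgSpDecent.exists_point_lift (hsq i) y w hw.symm
      refine ⟨AlgSp.Points.map (σc i) p, ?_⟩
      rw [← AlgSp.Points.map_comp, ← (hsqc i).w, AlgSp.Points.map_comp, hp]
  choose U a g ha hgβ hg hrange using hdata
  let W : Set (AlgSp.Points c.pt.left.obj) := ⋃ k, Set.range (AlgSp.Points.map (a k))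
  have hW : IsOpen W := isOpen_iUnion fun k => by
    obtain ⟨U₀, p, hp, hps⟩ := (U k).property.atlas
    have e : Set.range (AlgSp.Points.map (a k)) = Set.range (AlgSp.Points.ofPt (p ≫ a k)) := by
      ext x
      constructor
      · rintro ⟨w, rfl⟩
        obtain ⟨t, rfl⟩ := Groth.Agent.AlgSpace.surjective_ofPt hps w
        exact ⟨t, (AlgSp.Points.map_ofPt _ _ _).symm⟩
      · rintro ⟨t, rfl⟩
        exact ⟨_, AlgSp.Points.map_ofPt _ _ _⟩
    rw [e]
    exact (Groth.Agent.AlgSpace.isOpenMap_ofPt (p ≫ a k) (ha k p hp)).isOpen_range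
  have hWι := Groth.Agent.AlgSpace.repWith_openSubι hW
  let WS : AlgSp.Space S := ⟨Groth.Agent.AlgSpace.openSub W,
    Groth.Agent.AlgSpace.isAlgSpace_of_representable hWι.1 c.pt.left.property⟩
  choose τW hτW using fun i => Groth.Agent.AlgSpace.exists_factor_openSub (W := W) (ι i) (by
    rintro _ ⟨y, rfl⟩
    obtain ⟨k, w, hw⟩ := hcovq (AlgSp.Points.map (ψ i) y)
    exact Set.mem_iUnion.2 ⟨k, hrange k i y ⟨w, hw⟩⟩)
  obtain ⟨mW, ⟨hmW, -⟩, -⟩ := existsUnique_sect (D' := D) (α := 𝟙 D) (a := 𝟙 c.pt.left.obj) (σ := ι)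
    hff (fun V φ hφ => by rw [Category.comp_id]; exact hφ) (cocone_w c)
    (fun i => (IsPullback.of_horiz_isIso ⟨(Category.id_comp (ι i)).trans (Category.comp_id (ι i)).symm⟩ : IsPullback (𝟙 _) (ι i) (ι i) (𝟙 _))) (W := WS)
    (Groth.Agent.AlgSpace.openSubι W) (fun V φ hφ => Groth.Agent.AlgSpace.repWith_comp hφ
      (Groth.Agent.AlgSpace.repWith_mono (fun _ _ e (_ : IsOpenImmersion e) => (inferInstance : Etale e)) hWι))
    τW hτW (fun i j e => by
      rw [← cancel_mono (Groth.Agent.AlgSpace.openSubι W), Category.assoc, hτW, hτW]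
      exact cocone_w c e)
  have hcov : AlgSp.IsFpqcCover (fun k => (U k).obj) a := isFpqcCover_etale ha fun x => by
    have hx : x ∈ W := by
      rw [← Groth.Agent.AlgSpace.range_openSubι W]
      exact ⟨AlgSp.Points.map mW x, by rw [← AlgSp.Points.map_comp, hmW, AlgSp.Points.map_id]⟩
    exact Set.mem_iUnion.1 hx
  obtain ⟨m, hm⟩ := Groth.Agent.Gabber15.exists_hom_glue c.pt.left.property hcov s.pt.left.property
    (fun k => g k ≫ q k) (fun k l => by
      rw [← Category.assoc, ← Category.assoc]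
      refine agree (pb (a k) (a l)) (pullback.fst (a k) (a l) ≫ a k)
        (etale_comp (etale_of_isPullback (X' := pb (a k) (a l))
          (IsPullback.of_hasPullback (a k) (a l)).flip (ha l)) (ha k))
        k l _ _ ?_ ?_ fun T i x y h => ⟨?_, ?_⟩
      · simp only [Category.assoc]
        rw [← Category.assoc (g k), hgβ k]
      · simp only [Category.assoc]
        rw [← Category.assoc (g l), hgβ l, pullback.condition_assoc]
      · have e := hg k T i x (y ≫ pullback.fst _ _) (by rw [Category.assoc]; exact h)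
        simpa only [Category.assoc] using e
      · have e := hg l T i x (y ≫ pullback.snd _ _) (by rw [Category.assoc, ← pullback.condition]; exact h)
        simpa only [Category.assoc] using e)
  refine ⟨m, ⟨Groth.Agent.Gabber15.hom_ext_cover hcov B.property fun k => ?_, fun i => ?_⟩, fun m' hm' => ?_⟩
  · rw [reassoc_of% (hm k)]
    simpa only [Category.assoc] using hgβ k
  · have hcovi := Groth.Agent.AlgSpDescent.isFpqcCover_of_isPullback c.pt.left.property
      (D.obj i).left.property (ι i) (fun k => (U k).property) (fun k => IsPullback.of_hasPullback (ι i) (a k)) hcov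
    refine Groth.Agent.Gabber15.hom_ext_cover hcovi s.pt.left.property fun k => ?_
    show pullback.fst (ι i) (a k) ≫ ι i ≫ m = pullback.fst (ι i) (a k) ≫ ψ i
    rw [pullback.condition_assoc, hm k]
    exact hg k _ i _ _ pullback.condition
  · refine Groth.Agent.Gabber15.hom_ext_cover hcov s.pt.left.property fun k => ?_
    rw [hm k]
    let p : ∀ l, pullback (a k ≫ m') (q l) ⟶ (U k).obj := fun l => pullback.fst (a k ≫ m') (q l)
    have hpe : ∀ l, AlgSp.IsEtaleMor (p l) := fun l =>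
      etale_of_isPullback (X := Vs l) (Y := s.pt.left) (Y' := U k)
        (X' := pb (B := Vs l) (C := s.pt.left) (a k ≫ m') (q l))
        (IsPullback.of_hasPullback (a k ≫ m') (q l)).flip (hqe l)
    have hcovk : AlgSp.IsFpqcCover (fun l => (pb (B := Vs l) (C := s.pt.left) (a k ≫ m') (q l)).obj) p :=
      isFpqcCover_etale hpe fun x => by
        obtain ⟨l, w, hw⟩ := hcovq (AlgSp.Points.map (a k ≫ m') x)
        obtain ⟨w', hw', -⟩ := Groth.Agent.AlgSpDecent.exists_point_lift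
          (IsPullback.of_hasPullback (a k ≫ m') (q l)) x w hw.symm
        exact ⟨l, w', hw'⟩
    refine Groth.Agent.Gabber15.hom_ext_cover hcovk s.pt.left.property fun l => ?_
    show pullback.fst (a k ≫ m') (q l) ≫ a k ≫ m' = pullback.fst (a k ≫ m') (q l) ≫ g k ≫ q k
    rw [pullback.condition, ← Category.assoc]
    symm
    refine agree (pb (B := Vs l) (C := s.pt.left) (a k ≫ m') (q l)) (p l ≫ a k) (etale_comp (hpe l) (ha k))
      k l _ _ ?_ ?_ fun T i x y h => ⟨?_, ?_⟩
    · simp only [Category.assoc, p]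
      rw [← Category.assoc (g k), hgβ k]
    · rw [← pullback.condition]
      simp only [Category.assoc, p]
      rw [show m' ≫ β = π from hm'.1]
    · have e := hg k T i x (y ≫ p l) (by rw [Category.assoc]; exact h)
      simpa only [Category.assoc] using e
    · rw [← pullback.condition]
      simp only [p, ← Category.assoc] at h ⊢
      rw [← h, Category.assoc]
      exact congrArg (x ≫ ·) (hm'.2 i)


end Groth.Agent.S10730
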