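import Groth.Statements.S10736
import Groth.Agent.Lib.QcohEt15.Colim.Site
-- import your own Groth.Agent.* helpers here

set_option autoImplicit false
universe u
open CategoryTheory CategoryTheory.Limits AlgebraicGeometry Opposite
open AlgSp

namespace Groth.Agent.S10736

/-- Let X be a quasi-compact algebraic space, quasi-separated over a quasi-separated base scheme S. Then
for every p and every small filtered category J, the functor F ↦ H^p(X_et, F) on abelian sheaves on
the small etale site of X preserves colimits of shape J: for a filtered diagram (F_i) the canonical
map colim_i H^p(X, F_i) ⟶ H^p(X, colim_i F_i) is an isomorphism. (Quasi-separatedness is relative to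
S with S quasi-separated, giving the absolute notion of the published statement.) -/
theorem result {S : Scheme.{u}}
    [QuasiSeparatedSpace ↥S] (X : AlgSp.Space S) (hqc : AlgSp.IsQuasiCompactSp X.obj)
    (hqs : AlgSp.IsQuasiSeparatedSp X.obj) (J : Type (u + 1)) [SmallCategory J] [IsFiltered J] (p : ℕ) :
    PreservesColimitsOfShape J (AlgSp.HEtF X.obj p) := by
  exact Groth.Agent.QcohEt15.Colim.preservesColimitsOfShape_HEtF X.obj X.property hqc hqs p J


end Groth.Agent.S10736
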