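import Groth.Statements.S10743
import Groth.Agent.Lib.QcohEt15.H1
-- import your own Groth.Agent.* helpers here

set_option autoImplicit false
universe u
open CategoryTheory CategoryTheory.Limits AlgebraicGeometry Opposite
open AlgSp

namespace Groth.Agent.S10743

open scoped Groth.Agent.QcohEt15

/-- Let X be a locally Noetherian algebraic space over S and 0 ⟶ M₁ ⟶ M₂ ⟶ M₃ ⟶ 0 a short exact sequence
of O_X-modules on the small etale site of X with M₁ and M₃ coherent (of finite presentation, X being
locally Noetherian). Then M₂ is coherent. -/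
theorem result {S : Scheme.{u}} (X : AlgSp.Space S)
    (hX : AlgSp.IsLocNoethSp X.obj) (T : ShortComplex (AlgSp.ModEt X.obj)) (hT : T.ShortExact)
    [T.X₁.IsFinitePresentation] [T.X₃.IsFinitePresentation] :
    T.X₂.IsFinitePresentation := by
  have hg : ∀ (E : AlgSp.EtOver X.obj) [IsAffine E.obj.left.left], Groth.Agent.QcohEt15.Good T.X₂ E := fun E _ =>
    Groth.Agent.QcohEt15.good_middle T hT (fun Z _ => Groth.Agent.QcohEt15.good_of_isQuasicoherent Z) (fun Z _ => Groth.Agent.QcohEt15.good_of_isQuasicoherent Z) E
  refine Groth.Agent.QcohEt15.isFinitePresentation_of_finite hX hg (fun E _ => ?_)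
  obtain ⟨hi, he, hs⟩ := Groth.Agent.QcohEt15.shortExact_sections T hT (fun Z _ => Groth.Agent.QcohEt15.good_of_isQuasicoherent Z) E
  have := Groth.Agent.QcohEt15.finite_of_isFinitePresentation (M := T.X₁) E
  have := Groth.Agent.QcohEt15.finite_of_isFinitePresentation (M := T.X₃) E
  refine Module.Finite.of_fg_top (Submodule.fg_of_fg_map_of_fg_inf_ker (Groth.Agent.QcohEt15.appₗ T.g E) ?_ ?_)
  · rw [Submodule.map_top, LinearMap.range_eq_top.2 hs]
    exact Module.Finite.fg_top
  · rw [top_inf_eq, he.linearMap_ker_eq, LinearMap.range_eq_map]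
    exact Submodule.FG.map _ Module.Finite.fg_top


end Groth.Agent.S10743
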