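import Groth.Statements.S10747
import Groth.Agent.Lib.QcohEt15.Coherent
import Groth.Agent.Lib.QcohEt15.ClosedImm
-- import your own Groth.Agent.* helpers here

set_option autoImplicit false
set_option backward.isDefEq.respectTransparency false
universe u
open CategoryTheory CategoryTheory.Limits AlgebraicGeometry Opposite
open AlgSp

namespace Groth.Agent.S10747

open scoped Groth.Agent.QcohEt15 TensorProduct

/-- Let X be a Noetherian algebraic space over S (quasi-compact, quasi-separated, locally Noetherian)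
and M a coherent O_X-module on the small etale site of X (of finite presentation, X being locally
Noetherian). Then every increasing sequence N₁ ≤ N₂ ≤ … of subobjects of M whose underlying modules
are quasi-coherent is eventually constant. -/
theorem result {S : Scheme.{u}} (X : AlgSp.Space S)
    (hqc : AlgSp.IsQuasiCompactSp X.obj) (hqs : AlgSp.IsQuasiSeparatedSp X.obj) (hN : AlgSp.IsLocNoethSp X.obj)
    (M : AlgSp.ModEt X.obj) [M.IsFinitePresentation] (N : ℕ →o Subobject M)
    (hq : ∀ n, (Subobject.underlying.obj (N n)).IsQuasicoherent) :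
    ∃ n, ∀ m, n ≤ m → N m = N n := by
  obtain ⟨U₀, p, hU, hpe, hps⟩ := Groth.Agent.AlgSpace.exists_affine_chart hqc
  obtain ⟨U, hUa, hUs⟩ : ∃ U : AlgSp.EtOver X.obj, IsAffine U.obj.left.left ∧
      Function.Surjective (AlgSp.Points.ofPt U.obj.hom) :=
    ⟨AlgSp.EtOver.mk p hpe, hU, Groth.Agent.AlgSpace.surjective_ofPt hps⟩
  have hM : ∀ (E : AlgSp.EtOver X.obj) [IsAffine E.obj.left.left], Groth.Agent.QcohEt15.Good M E :=
    fun E _ => Groth.Agent.QcohEt15.good_of_isQuasicoherent E
  have hg : ∀ n (E : AlgSp.EtOver X.obj) [IsAffine E.obj.left.left],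
      Groth.Agent.QcohEt15.Good (Subobject.underlying.obj (N n)) E := fun n E _ =>
    have := hq n
    Groth.Agent.QcohEt15.good_of_isQuasicoherent E
  let I : ℕ →o Submodule (Groth.Agent.QcohEt15.Γo U) (AlgSp.sectModEt M U) :=
    { toFun := fun n => LinearMap.range (Groth.Agent.QcohEt15.appₗ (N n).arrow U)
      monotone' := fun a b hab => by
        rintro _ ⟨x, rfl⟩
        refine ⟨Groth.Agent.QcohEt15.appₗ (Subobject.ofLE _ _ (N.monotone hab)) U x, ?_⟩
        exact congrArg (fun q => Groth.Agent.QcohEt15.appₗ q U x) (Subobject.ofLE_arrow (N.monotone hab)) }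
  have := Groth.Agent.QcohEt15.isNoetherianRing_Γo hN U
  have := Groth.Agent.QcohEt15.finite_of_isFinitePresentation (M := M) U
  obtain ⟨n, hn⟩ := monotone_stabilizes_iff_noetherian.2 (inferInstance : _root_.IsNoetherian (Groth.Agent.QcohEt15.Γo U) (AlgSp.sectModEt M U)) I
  refine ⟨n, fun m hm => le_antisymm ?_ (N.monotone hm)⟩
  let j := Subobject.ofLE _ _ (N.monotone hm)
  have : IsIso j := Groth.Agent.QcohEt15.isIso_of_bijective_affine j fun E hE => by
    refine ⟨Groth.Agent.QcohEt15.appₗ_injective j E, fun s => ?_⟩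
    choose u hu using fun v : ↥E.obj.left.left => hUs (AlgSp.Points.ofPt E.obj.hom v)
    choose W hW k₁ k₂ w hw₁ hw₂ using fun v : ↥E.obj.left.left =>
      Groth.Agent.QcohEt15.exists_common_affine v (u v) (hu v).symm
    refine Groth.Agent.QcohEt15.mem_submodule_of_local (hg m E) (LinearMap.range (Groth.Agent.QcohEt15.appₗ j E)) s
      (Sieve.generate (Presieve.ofArrows W k₁)) (AlgSp.ofArrows_mem_etTop W k₁ fun v => ⟨v, w v, hw₁ v⟩)
      fun Z hZ g hg' => ?_
    obtain ⟨T, a, b, ⟨v⟩, rfl⟩ := hg'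
    obtain ⟨z, hz⟩ := (hg m U (a ≫ k₂ v)).2 (Groth.Agent.QcohEt15.res _ (a ≫ k₁ v) s)
    have hsur : ∀ x, ∃ y, Groth.Agent.QcohEt15.appₗ j U y = x := fun x => by
      obtain ⟨y, hy⟩ := (show Groth.Agent.QcohEt15.appₗ (N m).arrow U x ∈ I n from (hn m hm).symm ▸ ⟨x, rfl⟩)
      refine ⟨y, Groth.Agent.QcohEt15.appₗ_injective (N m).arrow U ?_⟩
      rw [← hy]
      exact congrArg (fun q => Groth.Agent.QcohEt15.appₗ q U y) (Subobject.ofLE_arrow (N.monotone hm))
    obtain ⟨z', hz'⟩ := LinearMap.lTensor_surjective _ hsur z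
    rw [← hz, ← hz', ← Groth.Agent.QcohEt15.lift_appₗ_id]
    exact Groth.Agent.QcohEt15.appₗ_mem_range_lift j (hg n E) (a ≫ k₁ v) _
  exact Subobject.le_of_comm (inv j) (by rw [IsIso.inv_comp_eq, Subobject.ofLE_arrow])


end Groth.Agent.S10747
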