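import Groth.Statements.S10748
import Groth.Agent.Lib.QcohEt15.Coherent
-- import your own Groth.Agent.* helpers here

set_option autoImplicit false
universe u
open CategoryTheory CategoryTheory.Limits AlgebraicGeometry Opposite
open AlgSp

namespace Groth.Agent.S10748

/-- Let X be a Noetherian algebraic space (quasi-compact, quasi-separated, locally Noetherian) over a
quasi-separated scheme S and M a quasi-coherent O_X-module on the small etale site of X. Then M is
the union, as a filtered colimit, of those of its submodules that are coherent: the full subcategory
of monomorphisms N ⟶ M with N of finite presentation is filtered, and the cocone on their sources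
with vertex M given by the inclusions is a colimit. -/
theorem result {S : Scheme.{u}} [QuasiSeparatedSpace ↥S]
    (X : AlgSp.Space S) (hqc : AlgSp.IsQuasiCompactSp X.obj) (hqs : AlgSp.IsQuasiSeparatedSp X.obj)
    (hN : AlgSp.IsLocNoethSp X.obj) (M : AlgSp.ModEt X.obj) [M.IsQuasicoherent] :
    IsFiltered (ObjectProperty.FullSubcategory
        (fun N : MonoOver M => SheafOfModules.IsFinitePresentation N.obj.left)) ∧
      Nonempty (IsColimit ((Over.forgetCocone M).whisker
        (ObjectProperty.ι (fun N : MonoOver M => SheafOfModules.IsFinitePresentation N.obj.left) ⋙
          MonoOver.forget M))) := by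
  obtain ⟨U, p, hU, hpe, hps⟩ := Groth.Agent.AlgSpace.exists_affine_chart hqc
  have : IsAffine (EtOver.mk p hpe).obj.left.left := hU
  exact Groth.Agent.QcohEt15.isColimit_coherent_subobjects (U := EtOver.mk p hpe) hqs hN
    (Groth.Agent.AlgSpace.surjective_ofPt hps)


end Groth.Agent.S10748
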