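import Groth.Statements.S10749
import Groth.Agent.Lib.QcohEt15.CohColim
import Groth.Agent.Lib.AlgSpace.Affine
-- import your own Groth.Agent.* helpers here

set_option autoImplicit false
universe u
open CategoryTheory CategoryTheory.Limits AlgebraicGeometry Opposite
open AlgSp

namespace Groth.Agent.S10749

/-- Let f : X ⟶ Y be an affine morphism of algebraic spaces over a quasi-separated scheme S with Y
Noetherian (quasi-compact, quasi-separated, locally Noetherian). Then every quasi-coherent
O_X-module M on the small etale site of X is a filtered colimit of O_X-modules of finite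
presentation. -/
theorem result {S : Scheme.{u}} [QuasiSeparatedSpace ↥S]
    {X Y : AlgSp.Space S} (f : X ⟶ Y) (haff : AlgSp.IsAffineMor f.hom) (hqc : AlgSp.IsQuasiCompactSp Y.obj)
    (hqs : AlgSp.IsQuasiSeparatedSp Y.obj) (hN : AlgSp.IsLocNoethSp Y.obj) (M : AlgSp.ModEt X.obj)
    [M.IsQuasicoherent] :
    ∃ (J : Type (u + 1)) (_ : SmallCategory J) (_ : IsFiltered J) (D : J ⥤ AlgSp.ModEt X.obj)
      (ι : D ⟶ (Functor.const J).obj M),
      (∀ j, (D.obj j).IsFinitePresentation) ∧ Nonempty (IsColimit (Cocone.mk M ι)) := by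
  obtain ⟨U, p, hU, hpe, hps⟩ := Groth.Agent.AlgSpace.exists_affine_chart hqc
  have hf : AlgSp.Representable f.hom := (Groth.Agent.AlgSpace.isAffineMor_iff_repWith.1 haff).1
  let C : Groth.Agent.QcohEt15.CohColim.Ctx X.obj Y :=
    { f := f.hom, hf := hf, haff := haff, U := EtOver.mk p hpe, hU := hU,
      hsurj := Groth.Agent.AlgSpace.surjective_ofPt hps, hqs := hqs, hN := hN }
  have hM : ∀ (E : AlgSp.EtOver X.obj) [IsAffine E.obj.left.left], Groth.Agent.QcohEt15.Good M E :=
    fun E _ => Groth.Agent.QcohEt15.good_of_isQuasicoherent E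
  obtain ⟨hfil, hcol⟩ := Groth.Agent.QcohEt15.CohColim.isColimit_cocone C hM
  exact ⟨Groth.Agent.QcohEt15.CohColim.Idx C M hM, inferInstance, hfil, Groth.Agent.QcohEt15.CohColim.diag C hM,
    Groth.Agent.QcohEt15.CohColim.cocone C hM, fun j => Groth.Agent.QcohEt15.CohColim.isFinitePresentation_obj C hM j,
    hcol⟩


end Groth.Agent.S10749
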