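import Groth.Statements.S1075
import Groth.Agent.Lib.KInj.Derived
import Mathlib.Algebra.Homology.DerivedCategory.DerivabilityStructureInjectives

set_option autoImplicit false
universe w v u
open CategoryTheory CategoryTheory.Limits
open CohDer

namespace Groth.Agent.S1075


/-- In D(A), for A abelian with enough injectives and countable products, every sequence of
bounded-below objects has a product, so derived limits of such sequences exist. -/
theorem result {A : Type u} [Category.{v} A] [Abelian A] [HasDerivedCategory.{w} A]
    [HasLimitsOfShape (Discrete ℕ) A] [EnoughInjectives A]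
    (K : ℕ → DerivedCategory A) (hK : ∀ n, ∃ a : ℤ, (K n).IsGE a) : HasProduct K := by
---
  have h : ∀ n, ∃ (J : CochainComplex A ℤ), J.IsKInjective ∧ Nonempty (K n ≅ DerivedCategory.Q.obj J) := fun n => by
    obtain ⟨a, ha⟩ := hK n
    obtain ⟨L, hL, ⟨e⟩⟩ := DerivedCategory.exists_iso_Q_obj_of_isGE (K n) a
    obtain ⟨J, i, hJ1, hJ2, hJ3⟩ := CochainComplex.Plus.modelCategoryQuillen.exists_quasiIso_injective L a
    haveI := hJ1; haveI := hJ2; haveI := hJ3
    exact ⟨J, CochainComplex.isKInjective_of_injective J a, ⟨e ≪≫ asIso (DerivedCategory.Q.map i)⟩⟩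
  choose J hJ he using h
  exact KInjLib.hasProduct_derivedCategory K J hJ fun n => (he n).some


end Groth.Agent.S1075
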