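import Groth.Statements.S10750
import Groth.Agent.Lib.FiniteMor15.Basic
import Groth.Agent.Lib.AlgSpDecent.MorApps
import Groth.Agent.Lib.AlgSpDecent.Jacobson
-- import your own Groth.Agent.* helpers here

set_option autoImplicit false
universe u
open CategoryTheory CategoryTheory.Limits AlgebraicGeometry Opposite
open AlgSp

namespace Groth.Agent.S10750

/-- Take a proper morphism f : X ⟶ Y of algebraic spaces over S whose target Y is locally Noetherian,
and let y be a geometric point of Y such that the fibre X_y (a pullback of f along the corresponding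
morphism from the spectrum of the algebraically closed field) has finitely many points. Then there
is an open subspace V of Y containing the image of y such that the base change X ×_Y V ⟶ V is
finite. -/
theorem result {S : Scheme.{u}} {X Y : AlgSp.Space S}
    (f : X ⟶ Y) (hY : AlgSp.IsLocNoethSp Y.obj) (hf : AlgSp.IsProperMor f.hom) (y : AlgSp.FieldPt Y.obj)
    (hy : y.IsGeometric) (Xy : AlgSp.Sp S) (fst : Xy ⟶ X.obj) (snd : Xy ⟶ (AlgSp.yon S).obj y.pt)
    (hsq : IsPullback fst snd f.hom y.toHom) (hfin : Finite (AlgSp.Points Xy)) :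
    ∃ (V : AlgSp.Space S) (j : V ⟶ Y), AlgSp.RepWith @IsOpenImmersion j.hom ∧
      AlgSp.Points.mk y ∈ Set.range (AlgSp.Points.map j.hom) ∧
        ∀ (P : AlgSp.Space S) (fst' : P ⟶ X) (snd' : P ⟶ V), IsPullback fst'.hom snd'.hom f.hom j.hom →
          AlgSp.IsFiniteMor snd'.hom := by
  have hP : AlgSp.IsAlgSpace Xy :=
    Groth.Agent.AlgSpace.isAlgSpace_baseChange X.property Y.property (AlgSp.IsAlgSpace.yon_obj _) hsq
  have hqs : AlgSp.IsQuasiSeparatedMor f.hom := Groth.Agent.AlgSpace.repWith_mono
    (Q := @QuasiCompact) (fun _ _ _ (h : IsClosedImmersion _) => inferInstance) hf.1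
  have hd : AlgSp.IsDecent Xy :=
    Groth.Agent.AlgSpDecent.isDecentMor_of_isQuasiSeparatedMor X.property Y.property hqs _ _ _ hsq
  have hlft : AlgSp.LocP @LocallyOfFiniteType snd :=
    Groth.Agent.AlgSpace.locP_of_isPullback X.property Y.property (AlgSp.IsAlgSpace.yon_obj _) hsq hf.2.1.1
  have hj : JacobsonSpace (AlgSp.Points Xy) :=
    (Groth.Agent.AlgSpDecent.jacobson_iff_points hP hd).1
      (Groth.Agent.AlgSpDecent.etaleLocally_jacobson_of_locP_lft hP
        ⟨y.pt, 𝟙 _, AlgSp.repWith_id _ y.pt, AlgSp.repWith_id _ y.pt,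
          inferInstanceAs (JacobsonSpace (PrimeSpectrum y.K))⟩ hlft)
  have : T0Space (AlgSp.Points Xy) := Groth.Agent.AlgSpDecent.t0Space_of_finFibres hP
    (Groth.Agent.AlgSpDecent.finFibres_of_isDecent hP.diag hd)
  have : DiscreteTopology (AlgSp.Points Xy) := inferInstance
  obtain ⟨V, j, hj, hy, hV⟩ := Groth.Agent.FiniteMor15.exists_finite_nhd f (AlgSp.Points.mk y) hf
    fun x hx => by
      obtain ⟨z, hz, -⟩ := Groth.Agent.AlgSpDecent.exists_point_lift hsq x
        (AlgSp.Points.ofScheme y.pt (IsLocalRing.closedPoint y.K))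
        (by rw [← AlgSp.Points.ofPt_eq_map_ofScheme, AlgSp.Points.ofPt_toHom]; exact hx)
      rw [← hz]
      exact Groth.Agent.AlgSpRel14.hasAtMor_near_of_discrete f hf.2.1.1 hsq z
  exact ⟨V, j, hj, hy, fun P fst' snd' sq => hV P fst' snd' sq⟩

end Groth.Agent.S10750
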