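import Groth.Statements.S10755
import Groth.Agent.Lib.QcohEt15.SuppAnn
-- import your own Groth.Agent.* helpers here

set_option autoImplicit false
universe u
open CategoryTheory CategoryTheory.Limits AlgebraicGeometry Opposite
open AlgSp

namespace Groth.Agent.S10755

/-- Let X be a Noetherian algebraic space over S (quasi-compact, quasi-separated, locally Noetherian), M
a coherent O_X-module on the small etale site of X (of finite presentation, X being locally
Noetherian), I a quasi-coherent sheaf of ideals on X and i : Z ⟶ X the closed subspace cut out by I.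
Then I^n M = 0 for some n ≥ 0 (on every affine object U of the site the ideal I^n(U) annihilates
every section of M over U) if and only if the support of M is contained in |Z| set-theoretically
(the stalk of M at every geometric point of X whose image in |X| is not in |Z| vanishes). -/
theorem result {S : Scheme.{u}} (X : AlgSp.Space S)
    (hqc : AlgSp.IsQuasiCompactSp X.obj) (hqs : AlgSp.IsQuasiSeparatedSp X.obj) (hN : AlgSp.IsLocNoethSp X.obj)
    (M : AlgSp.ModEt X.obj) [M.IsFinitePresentation] (I : AlgSp.IdealEt X.obj) (hI : I.IsQCoh)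
    {Z : AlgSp.Space S} (i : Z ⟶ X) (hZ : AlgSp.IsCutOutBy I i.hom) :
    (∃ n : ℕ, ∀ (E : AlgSp.EtOver X.obj) (hE : IsAffine E.obj.left.left) (s : AlgSp.sectModEt M E),
        (I ^ n).ideal E hE ≤ AlgSp.annSect s) ↔
      ∀ x : AlgSp.FieldPt X.obj, x.IsGeometric → AlgSp.Points.mk x ∉ Set.range (AlgSp.Points.map i.hom) →
        IsZero (AlgSp.stalkEt x ((AlgSp.toAbEt X.obj).obj M)) := by
  obtain ⟨hi', hIi⟩ := hZ
  refine ⟨fun ⟨n, hn⟩ x hx hxZ => Groth.Agent.QcohEt15.isZero_stalk_of_pow_le_annSect X.property hi' n
    (fun E hE s => by rw [hIi]; exact hn E hE s) x hx hxZ, fun h => ?_⟩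
  obtain ⟨U₀, p, hU, hpe, hps⟩ := Groth.Agent.AlgSpace.exists_affine_chart hqc
  exact Groth.Agent.QcohEt15.exists_pow_le_annSect (U := AlgSp.EtOver.mk p hpe) (hU := hU) X.property hN
    (Groth.Agent.AlgSpace.surjective_ofPt hps) hi' hI hIi h


end Groth.Agent.S10755
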