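import Groth.Statements.S10756
import Groth.Agent.Lib.QcohEt15.ClosedImm
-- import your own Groth.Agent.* helpers here

set_option autoImplicit false
universe u
open CategoryTheory CategoryTheory.Limits AlgebraicGeometry Opposite
open AlgSp

namespace Groth.Agent.S10756

open scoped Groth.Agent.QcohEt15

/-- Take a closed immersion i : Z ⟶ X between algebraic spaces over S that are both locally Noetherian,
and write I for the quasi-coherent sheaf of ideals cutting out Z. Then the direct image i_* carries
coherent O_Z-modules (of finite presentation) to coherent O_X-modules annihilated by I (on every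
affine object U of the small etale site of X, the ideal I(U) annihilates all sections over U), and
every coherent O_X-module annihilated by I is isomorphic to i_* G for some coherent O_Z-module G.
(Together with the full faithfulness of i_* on modules, a separate result, this is the equivalence
between coherent O_Z-modules and coherent O_X-modules annihilated by I.) -/
theorem result {S : Scheme.{u}} {Z X : AlgSp.Space S} (i : Z ⟶ X)
    (hi : AlgSp.RepWith @IsClosedImmersion i.hom) (hX : AlgSp.IsLocNoethSp X.obj) (hZN : AlgSp.IsLocNoethSp Z.obj)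
    (I : AlgSp.IdealEt X.obj) (hI : I.IsQCoh) (hZ : AlgSp.IsCutOutBy I i.hom) :
    (∀ (G : AlgSp.ModEt Z.obj), G.IsFinitePresentation →
        ((AlgSp.pushModEt hi.1).obj G).IsFinitePresentation ∧
          ∀ (E : AlgSp.EtOver X.obj) (hE : IsAffine E.obj.left.left)
            (s : AlgSp.sectModEt ((AlgSp.pushModEt hi.1).obj G) E), I.ideal E hE ≤ AlgSp.annSect s) ∧
      ∀ (M : AlgSp.ModEt X.obj), M.IsFinitePresentation →
        (∀ (E : AlgSp.EtOver X.obj) (hE : IsAffine E.obj.left.left) (s : AlgSp.sectModEt M E),
            I.ideal E hE ≤ AlgSp.annSect s) →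
          ∃ G : AlgSp.ModEt Z.obj, G.IsFinitePresentation ∧ Nonempty ((AlgSp.pushModEt hi.1).obj G ≅ M) := by
  obtain ⟨hi', rfl⟩ := hZ
  refine ⟨fun G hG => ?_, fun M hM hann => ?_⟩
  · have hfin := Groth.Agent.QcohEt15.isFiniteMor_of_repWith_closedImmersion hi
    refine ⟨Groth.Agent.QcohEt15.isFinitePresentation_of_finite hX (fun E _ =>
      Groth.Agent.QcohEt15.good_push_of_isQuasicoherent hi.1 (Groth.Agent.QcohEt15.isAffineMor_of_isFiniteMor hfin) E)
      (fun E _ => ?_), fun E hE s a ha => ?_⟩
    · have := Groth.Agent.QcohEt15.isAffine_bcObj hi.1 (Groth.Agent.QcohEt15.isAffineMor_of_isFiniteMor hfin) E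
      have := Groth.Agent.QcohEt15.finite_of_isFinitePresentation (M := G) (AlgSp.EtOver.bcObj hi.1 E)
      exact Groth.Agent.QcohEt15.finite_push hi.1 hfin E
    · rw [AlgSp.mem_annSect_iff]
      have ha' : Groth.Agent.QcohEt15.bγ hi.1 E a = 0 := ha
      change Groth.Agent.QcohEt15.pushIn hi.1 (Groth.Agent.QcohEt15.bγ hi.1 E a • Groth.Agent.QcohEt15.pushOut hi.1 s) = 0
      rw [ha', zero_smul]
      rfl
  · have hM' : ∀ (E : AlgSp.EtOver X.obj) [IsAffine E.obj.left.left], Groth.Agent.QcohEt15.Good M E :=
      fun E _ => Groth.Agent.QcohEt15.good_of_isQuasicoherent E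
    have hb : ∀ (E : AlgSp.EtOver X.obj) [IsAffine E.obj.left.left],
        Function.Bijective (Groth.Agent.QcohEt15.appₗ (Groth.Agent.QcohEt15.Pull.unitQ hi.1 hM') E) :=
      fun E hE => Groth.Agent.QcohEt15.bijective_unit hi hM'
        (fun E' hE' a ha s => (AlgSp.mem_annSect_iff s a).1 (hann E' hE' s ha)) E
    have := Groth.Agent.QcohEt15.isIso_of_bijective_affine _ hb
    exact ⟨_, Groth.Agent.QcohEt15.Pull.isFinitePresentation_pullQ hi.1 hM'
      (fun V _ => Groth.Agent.QcohEt15.finitePresentation_sections (M := M) V),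
      ⟨(asIso (Groth.Agent.QcohEt15.Pull.unitQ hi.1 hM')).symm⟩⟩


end Groth.Agent.S10756
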