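import Groth.Statements.S10758
import Groth.Agent.Lib.QcohEt15.Nbhd
-- import your own Groth.Agent.* helpers here

set_option autoImplicit false
universe u
open CategoryTheory CategoryTheory.Limits AlgebraicGeometry Opposite
open AlgSp

namespace Groth.Agent.S10758

open scoped Groth.Agent.QcohEt15

/-- Let X be a locally Noetherian algebraic space over S, φ : G ⟶ F a morphism of coherent O_X-modules
on the small etale site of X (of finite presentation, X being locally Noetherian) and x̄ a geometric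
point of X. If the map φ_x̄ on stalks at x̄ (of the underlying abelian sheaves) is bijective, then
there is an open subspace X' ⊂ X containing the image of x̄ such that φ|_{X'} is an isomorphism: φ
is bijective on sections over every scheme etale over X whose image in |X| lies in |X'|. -/
theorem result {S : Scheme.{u}} (X : AlgSp.Space S)
    (hX : AlgSp.IsLocNoethSp X.obj) {G F : AlgSp.ModEt X.obj} [G.IsFinitePresentation] [F.IsFinitePresentation]
    (φ : G ⟶ F) (xbar : AlgSp.FieldPt X.obj) (hx : xbar.IsGeometric)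
    (hbij : IsIso ((AlgSp.stalkEtFunctor AddCommGrpCat.{u + 1} xbar).map ((AlgSp.toAbEt X.obj).map φ))) :
    ∃ (X' : AlgSp.Space S) (j : X' ⟶ X), AlgSp.RepWith @IsOpenImmersion j.hom ∧
      AlgSp.Points.mk xbar ∈ Set.range (AlgSp.Points.map j.hom) ∧
        ∀ E : AlgSp.EtOver X.obj, Set.range (AlgSp.Points.ofPt E.obj.hom) ⊆ Set.range (AlgSp.Points.map j.hom) →
          IsIso (φ.val.app (op E)) := by
  have hK : ∀ (E : AlgSp.EtOver X.obj) [IsAffine E.obj.left.left], Groth.Agent.QcohEt15.Good (kernel φ) E := fun E _ =>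
    Groth.Agent.QcohEt15.good_kernel φ (Groth.Agent.QcohEt15.good_of_isQuasicoherent E) (Groth.Agent.QcohEt15.good_of_isQuasicoherent E)
  have hKf : ∀ (E : AlgSp.EtOver X.obj) [IsAffine E.obj.left.left],
      Module.Finite (Groth.Agent.QcohEt15.Γo E) (AlgSp.sectModEt (kernel φ) E) := fun E _ => by
    have := Groth.Agent.QcohEt15.finite_of_isFinitePresentation (M := G) E
    exact Groth.Agent.QcohEt15.finite_of_mono (kernel.ι φ) hX E
  have hC : ∀ (E : AlgSp.EtOver X.obj) [IsAffine E.obj.left.left], Groth.Agent.QcohEt15.Good (cokernel φ) E := fun E _ =>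
    (Groth.Agent.QcohEt15.cokernel_sections φ (fun Z _ => Groth.Agent.QcohEt15.good_of_isQuasicoherent Z) (fun Z _ => Groth.Agent.QcohEt15.good_of_isQuasicoherent Z)).1
  have hCf : ∀ (E : AlgSp.EtOver X.obj) [IsAffine E.obj.left.left],
      Module.Finite (Groth.Agent.QcohEt15.Γo E) (AlgSp.sectModEt (cokernel φ) E) := fun E _ => by
    have := Groth.Agent.QcohEt15.finite_of_isFinitePresentation (M := F) E
    exact Module.Finite.of_surjective _ (Groth.Agent.QcohEt15.cokernel_sections (E := E) φ (fun Z _ => Groth.Agent.QcohEt15.good_of_isQuasicoherent Z)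
      (fun Z _ => Groth.Agent.QcohEt15.good_of_isQuasicoherent Z)).2
  obtain ⟨W₁, hW₁, hxW₁, h₁⟩ := Groth.Agent.QcohEt15.exists_zero_nbhd X.property xbar hx hK hKf
    (Groth.Agent.QcohEt15.isZero_stalk_kernel X.property φ xbar hx inferInstance)
  obtain ⟨W₂, hW₂, hxW₂, h₂⟩ := Groth.Agent.QcohEt15.exists_zero_nbhd X.property xbar hx hC hCf
    (Groth.Agent.QcohEt15.isZero_stalk_cokernel X.property φ xbar hx inferInstance)
  obtain ⟨X', j, hj, hr⟩ := Groth.Agent.AlgSpRel14.exists_open_space X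
    ((Groth.Agent.AlgSpace.isOpenMap_ofPt W₁.obj.hom W₁.property).isOpen_range.inter
      (Groth.Agent.AlgSpace.isOpenMap_ofPt W₂.obj.hom W₂.property).isOpen_range)
  refine ⟨X', j, hj, hr ▸ ⟨hxW₁, hxW₂⟩, fun E hE => ?_⟩
  rw [hr] at hE
  have hinj : ∀ Z : AlgSp.EtOver X.obj, Set.range (AlgSp.Points.ofPt Z.obj.hom) ⊆ Set.range (AlgSp.Points.ofPt W₁.obj.hom) →
      Mono (φ.val.app (op Z)) := fun Z hZ => Groth.Agent.QcohEt15.mono_app_of_kernel_zero φ Z (Groth.Agent.QcohEt15.subsingleton_of_range (hK W₁) h₁ Z hZ)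
  have hsurj : Function.Surjective (φ.val.app (op E)) := by
    intro s
    choose Z k t hk ht using fun v : ↥E.obj.left.left =>
      Groth.Agent.QcohEt15.exists_local_preimage φ h₂ v (hE ⟨v, rfl⟩).2 s
    obtain ⟨t₀, ht₀⟩ := Groth.Agent.QcohEt15.exists_glue_family G (ι := ULift.{u + 1} ↥E.obj.left.left) (fun v => Z v.down)
      (fun v => k v.down) (fun v => ⟨⟨v⟩, hk v⟩) (fun v => t v.down) fun i i' Y a b e => by
        refine (ModuleCat.mono_iff_injective _).1 (hinj Y fun y hy => ?_) ?_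
        · obtain ⟨y, rfl⟩ := hy
          refine (hE ⟨(a ≫ k i.down).hom.left.left y, ?_⟩).1
          rw [← AlgSp.EtOver.w (a ≫ k i.down), Groth.Agent.AlgSpDecent.ofPt_map_comp]
        · change Groth.Agent.QcohEt15.appₗ φ Y _ = Groth.Agent.QcohEt15.appₗ φ Y _
          rw [Groth.Agent.QcohEt15.appₗ_res, Groth.Agent.QcohEt15.appₗ_res, ht, ht, ← Groth.Agent.QcohEt15.res_comp, ← Groth.Agent.QcohEt15.res_comp, e]
    refine ⟨t₀, Groth.Agent.QcohEt15.sections_ext_family F Z k (fun v => ⟨v, hk v⟩) fun v => ?_⟩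
    change Groth.Agent.QcohEt15.res F (k v) (Groth.Agent.QcohEt15.appₗ φ E t₀) = _
    rw [← Groth.Agent.QcohEt15.appₗ_res, ← ht v]
    exact congrArg _ (ht₀ ⟨v⟩)
  have := hinj E fun y hy => (hE hy).1
  have := (ModuleCat.epi_iff_surjective _).2 hsurj
  exact isIso_of_mono_of_epi _


end Groth.Agent.S10758
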