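import Groth.Statements.S10760
import Groth.Agent.Lib.ProperSub15.Basic
-- import your own Groth.Agent.* helpers here

set_option autoImplicit false
universe u
open CategoryTheory CategoryTheory.Limits AlgebraicGeometry
open AlgSp

namespace Groth.Agent.S10760

/-- Let f : X ⟶ Y be a morphism of algebraic spaces over S that is locally of finite type, and let i : Z
⟶ X, i' : Z' ⟶ X be closed subspaces (representable closed immersions) with the same image in |X|.
If the composite Z ⟶ Y is proper, then so is Z' ⟶ Y. (That properness of every closed subspace with
support T implies properness of the reduced one, and that this implies properness of some closed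
subspace with support T, is immediate.) -/
theorem result {S : Scheme.{u}} {X Y Z Z' : AlgSp.Space S}
    (f : X ⟶ Y) (hf : AlgSp.LocP @LocallyOfFiniteType f.hom)
    (i : Z ⟶ X) (i' : Z' ⟶ X)
    (hi : AlgSp.RepWith @IsClosedImmersion i.hom) (hi' : AlgSp.RepWith @IsClosedImmersion i'.hom)
    (heq : Set.range (AlgSp.Points.map i.hom) = Set.range (AlgSp.Points.map i'.hom))
    (hZ : AlgSp.IsProperMor (i ≫ f).hom) :
    AlgSp.IsProperMor (i' ≫ f).hom := by
  open Groth.Agent.AlgSpace Groth.Agent.ProperSub15 in
  exact isProperMor_of_subset_iUnion (κ := Unit) X.property Y.property Z'.property (fun _ => Z.property)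
    hf (fun _ => hi) hi' (by rw [heq, Set.iUnion_const]) fun _ => hZ

end Groth.Agent.S10760
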