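import Groth.Statements.S10764
import Groth.Agent.Lib.ProperSub15.Basic
-- import your own Groth.Agent.* helpers here

set_option autoImplicit false
universe u
open CategoryTheory CategoryTheory.Limits AlgebraicGeometry
open AlgSp

namespace Groth.Agent.S10764

/-- Let B be an algebraic space over S, let a : X ⟶ B and b : Y ⟶ B be locally of finite type, let f : X
⟶ Y be a proper morphism over B, let i : Z ⟶ Y be a closed subspace with Z ⟶ B proper, and let i' :
Z' ⟶ X be its inverse image under f (a cartesian square Z' = Z ×_Y X). Then Z' ⟶ B is proper and the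
image of |Z'| in |X| is the inverse image of the image of |Z| under |f|; that is, the inverse image
of a closed subset proper over B is proper over B. -/
theorem result {S : Scheme.{u}} {X Y B Z Z' : AlgSp.Space S}
    (a : X ⟶ B) (b : Y ⟶ B) (f : X ⟶ Y) (hcomm : f ≫ b = a)
    (ha : AlgSp.LocP @LocallyOfFiniteType a.hom) (hb : AlgSp.LocP @LocallyOfFiniteType b.hom)
    (hfp : AlgSp.IsProperMor f.hom)
    (i : Z ⟶ Y) (hi : AlgSp.RepWith @IsClosedImmersion i.hom) (hZ : AlgSp.IsProperMor (i ≫ b).hom)
    (i' : Z' ⟶ X) (q : Z' ⟶ Z) (hsq : IsPullback q.hom i'.hom i.hom f.hom) :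
    AlgSp.IsProperMor (i' ≫ a).hom ∧
      Set.range (AlgSp.Points.map i'.hom) = AlgSp.Points.map f.hom ⁻¹' Set.range (AlgSp.Points.map i.hom) := by
  refine ⟨?_, by rw [← Set.image_univ, ← Set.image_univ,
    Groth.Agent.AlgSpace.preimage_image_map hsq, Set.preimage_univ]⟩
  have e : (i' ≫ a).hom = q.hom ≫ (i ≫ b).hom := by
    show i'.hom ≫ a.hom = q.hom ≫ i.hom ≫ b.hom
    rw [← show f.hom ≫ b.hom = a.hom from congrArg InducedCategory.Hom.hom hcomm, ← Category.assoc,
      ← hsq.w, Category.assoc]
  rw [e]
  exact Groth.Agent.AlgSpace.isProperMor_comp Z'.property Z.property B.property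
    (Groth.Agent.AlgSpace.isProperMor_of_isPullback X.property Y.property Z.property hsq.flip hfp) hZ

end Groth.Agent.S10764
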