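import Groth.Statements.S10766
import Groth.Agent.Lib.Induction15.Family
-- import your own Groth.Agent.* helpers here

set_option autoImplicit false
universe u
open CategoryTheory CategoryTheory.Limits AlgebraicGeometry
open AlgSp

namespace Groth.Agent.S10766

/-- Let X be a quasi-compact and quasi-separated algebraic space over S and P a property of the objects
of the site of algebraic spaces etale over X. Assume (1) P holds for every object whose underlying
space is isomorphic to an affine scheme, and (2) for every elementary distinguished square (U ⊂ W, V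
⟶ W) of objects, with W quasi-compact and quasi-separated, U quasi-compact, V affine and any fibre
product U ×_W V, whenever P is true of U, V and U ×_W V it is true of W. The conclusion is that
every quasi-compact and quasi-separated object, X itself included, has property P.
Quasi-separatedness is taken relative to S with S quasi-separated, so that it agrees with the
absolute notion. -/
theorem result {S : Scheme.{u}} [QuasiSeparatedSpace ↥S] (X : AlgSp.Space S)
    (hXc : AlgSp.IsQuasiCompactSp X.obj) (hXs : AlgSp.IsQuasiSeparatedSp X.obj)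
    (P : AlgSp.EtSpOver X → Prop)
    (h1 : ∀ (W : AlgSp.EtSpOver X) (T : Over S), IsAffine T.left →
      Nonempty ((AlgSp.yon S).obj T ≅ W.obj.left.obj) → P W)
    (h2 : ∀ (W U V UV : AlgSp.EtSpOver X) (j : U ⟶ W) (f : V ⟶ W) (p : UV ⟶ U) (q : UV ⟶ V),
      AlgSp.IsQuasiCompactSp W.obj.left.obj → AlgSp.IsQuasiSeparatedSp W.obj.left.obj →
      AlgSp.IsQuasiCompactSp U.obj.left.obj →
      (∃ T : Over S, IsAffine T.left ∧ Nonempty ((AlgSp.yon S).obj T ≅ V.obj.left.obj)) →
      AlgSp.IsElemDistSq j.hom.left.hom f.hom.left.hom →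
      IsPullback p.hom.left.hom q.hom.left.hom j.hom.left.hom f.hom.left.hom →
      P U → P V → P UV → P W) :
    ∀ W : AlgSp.EtSpOver X, AlgSp.IsQuasiCompactSp W.obj.left.obj → AlgSp.IsQuasiSeparatedSp W.obj.left.obj → P W := by
  exact fun W hc hs => Groth.Agent.Induction15.family_induction
    (fun W => AlgSp.IsQuasiCompactSp W.obj.left.obj ∧ AlgSp.IsQuasiSeparatedSp W.obj.left.obj) P
    (fun W U j hW hj hU => ⟨hU, Groth.Agent.Induction15.isQuasiSeparatedSp_openImm hj hW.2⟩)
    (fun V T hT ⟨e⟩ => ⟨@Groth.Agent.Induction15.qc_qs_of_iso_affine _ _ T hT e, h1 V T hT ⟨e⟩⟩)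
    (fun W U V UV j f p q hW hU hV hsq hpb hPU hPV hPUV =>
      h2 W U V UV j f p q hW.1 hW.2 hU hV hsq hpb hPU hPV hPUV)
    (fun _ h => h) W ⟨hc, hs⟩

end Groth.Agent.S10766
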