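import Groth.Statements.S10769
import Groth.Agent.Lib.QcohEt15.Coprod
import Groth.Agent.Lib.KInj.Derived
import Groth.Agent.Lib.ModGab32.Basic
import Mathlib.CategoryTheory.Abelian.GrothendieckAxioms.Basic
import Mathlib.CategoryTheory.Abelian.FunctorCategory
-- import your own Groth.Agent.* helpers here

set_option autoImplicit false
universe u
open CategoryTheory CategoryTheory.Limits AlgebraicGeometry
attribute [local instance] HasDerivedCategory.standard
open AlgSp

namespace Groth.Agent.S10769

section
variable {A : Type*} [Category A] [Abelian A] {T : Type*}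

/-- The homology of a coproduct of complexes, when coproducts of the given shape are exact. -/
noncomputable def sigmaHomologyIso [HasColimitsOfShape (Discrete T) A]
    [HasExactColimitsOfShape (Discrete T) A] (F : T → CochainComplex A ℤ) (i : ℤ) :
    (∐ fun a => (F a).homology i) ≅ (∐ F).homology i := by
  have : HasFiniteBiproducts A := Abelian.hasFiniteBiproducts
  let S : ShortComplex (Discrete T ⥤ A) :=
    ShortComplex.mk (X₁ := Discrete.functor fun a => (F a).X (i - 1))
      (X₂ := Discrete.functor fun a => (F a).X i) (X₃ := Discrete.functor fun a => (F a).X (i + 1))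
      (Discrete.natTrans fun a => (F a.as).d (i - 1) i) (Discrete.natTrans fun a => (F a.as).d i (i + 1))
      (by ext a; simp)
  let ev : ∀ k, colim.obj (Discrete.functor fun a => (F a).X k) ≅ (∐ F).X k := fun k =>
    (PreservesCoproduct.iso (HomologicalComplex.eval A (ComplexShape.up ℤ) k) F).symm
  have hev : ∀ k a, colimit.ι (Discrete.functor fun a => (F a).X k) ⟨a⟩ ≫ (ev k).hom =
      (Sigma.ι F a).f k := fun k a => by
    simp only [ev, Iso.symm_hom, PreservesCoproduct.inv_hom]
    exact ι_comp_sigmaComparison (HomologicalComplex.eval A (ComplexShape.up ℤ) k) F a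
  have hd : ∀ k l (α : (Discrete.functor fun a => (F a).X k) ⟶ Discrete.functor fun a => (F a).X l),
      (∀ a, α.app ⟨a⟩ = (F a).d k l) → colimMap α ≫ (ev l).hom = (ev k).hom ≫ (∐ F).d k l := by
    intro k l α hα
    refine colimit.hom_ext fun ⟨a⟩ => ?_
    rw [ι_colimMap_assoc, hev, hα a, reassoc_of% (hev k a), ← (Sigma.ι F a).comm]
  let e : S.map colim ≅ (∐ F).sc' (i - 1) i (i + 1) :=
    ShortComplex.isoMk (ev (i - 1)) (ev i) (ev (i + 1))
      (hd (i - 1) i S.f fun _ => rfl).symm (hd i (i + 1) S.g fun _ => rfl).symm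
  let d : S.homology ≅ Discrete.functor fun a => (F a).homology i :=
    Discrete.natIso fun a => (S.mapHomologyIso ((evaluation _ _).obj a)).symm ≪≫
      ((F a.as).homologyIsoSc' (i - 1) i (i + 1) (by simp) (by simp)).symm
  exact colim.mapIso d.symm ≪≫ (S.mapHomologyIso colim).symm ≪≫ ShortComplex.homologyMapIso e ≪≫
      ((∐ F).homologyIsoSc' (i - 1) i (i + 1) (by simp) (by simp)).symm

end

/-- Let X be an algebraic space over S and E_i a family of objects of D(O_X) (modules on the small etale
site) with quasi-coherent cohomology sheaves. Granted that the direct sum of the E_i exists in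
D(O_X) (it does), the direct sum again has quasi-coherent cohomology sheaves; thus D_QCoh(O_X) has
direct sums and they agree with those of D(O_X). -/
theorem result {S : Scheme.{u}} (X : AlgSp.Space S) {ι : Type (u + 1)}
    (E : ι → AlgSp.DModEt X.obj) [HasCoproduct E]
    (hE : ∀ i, DCoh.IsQCohDMod (AlgSp.OEtRing X.obj) (E i)) :
    DCoh.IsQCohDMod (AlgSp.OEtRing X.obj) (∐ E) := by
  haveI : IsGrothendieckAbelian.{u + 1} (AlgSp.ModEt X.obj) :=
    Groth.Agent.ModGab32.isGrothendieckAbelian (AlgSp.OEtRing X.obj)
  haveI : HasFiniteBiproducts (AlgSp.ModEt X.obj) := Abelian.hasFiniteBiproducts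
  haveI : AB4OfSize.{u + 1} (AlgSp.ModEt X.obj) := AB4.of_AB5 _
  let F : ι → CochainComplex (AlgSp.ModEt X.obj) ℤ := fun a =>
    (DerivedCategory.Q (C := AlgSp.ModEt X.obj)).objPreimage (E a)
  let e : ∀ a, DerivedCategory.Q.obj (F a) ≅ E a := fun a =>
    (DerivedCategory.Q (C := AlgSp.ModEt X.obj)).objObjPreimageIso (E a)
  let h₁ := KInjLib.isColimitSigma F
  let c : Cofan E := Cofan.mk (DerivedCategory.Q.obj (∐ F)) fun a =>
    (e a).inv ≫ DerivedCategory.Q.map (Sigma.ι F a)
  have hc : IsColimit c := by
    refine Cofan.IsColimit.mk _ (fun s => Cofan.IsColimit.desc h₁ fun a => (e a).hom ≫ s.inj a)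
      (fun s a => ?_) (fun s m hm => Cofan.IsColimit.hom_ext h₁ _ _ fun a => ?_)
    · exact (Category.assoc _ _ _).trans
        ((congrArg ((e a).inv ≫ ·) (Cofan.IsColimit.fac h₁ _ a)).trans (Iso.inv_hom_id_assoc _ _))
    · refine Eq.trans ?_ (Cofan.IsColimit.fac h₁ _ a).symm
      rw [← hm a]
      simp [c]
  intro i
  have hF : ∀ a, ((F a).homology i).IsQuasicoherent := fun a =>
    (SheafOfModules.isQuasicoherent (AlgSp.OEtRing X.obj)).prop_of_iso
      (((DerivedCategory.homologyFunctor _ i).mapIso (e a)).symm ≪≫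
        (DerivedCategory.homologyFunctorFactors _ i).app (F a)) (hE a i)
  have hsum : (∐ fun a => (F a).homology i).IsQuasicoherent :=
    Groth.Agent.QcohEt15.isQuasicoherent_of_good fun Y _ =>
      Groth.Agent.QcohEt15.good_coprod (fun a => (F a).homology i) fun a => by
        haveI := hF a
        exact Groth.Agent.QcohEt15.good_of_isQuasicoherent Y
  exact (SheafOfModules.isQuasicoherent (AlgSp.OEtRing X.obj)).prop_of_iso
    (sigmaHomologyIso F i ≪≫ ((DerivedCategory.homologyFunctorFactors _ i).app (∐ F)).symm ≪≫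
      (DerivedCategory.homologyFunctor _ i).mapIso (hc.coconePointUniqueUpToIso (coproductIsCoproduct E))) hsum

end Groth.Agent.S10769
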