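import Groth.Statements.S10770
import Groth.Agent.Lib.Rlim10.Basic
import Groth.Agent.Lib.QcohEt15.CechGood
import Mathlib.CategoryTheory.Abelian.GrothendieckCategory.EnoughInjectives

set_option autoImplicit false
set_option backward.isDefEq.respectTransparency false
set_option linter.style.haveILetI false
universe u
open CategoryTheory CategoryTheory.Limits AlgebraicGeometry
attribute [local instance] HasDerivedCategory.standard
open AlgSp

namespace Groth.Agent.S10770

/-- Let X be an algebraic space over S and E an object of D(O_X) (modules on the small etale site) with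
quasi-coherent cohomology sheaves. Then the canonical map from E to the derived limit of its
truncations τ_{≥ -n}E is an isomorphism; concretely (granted the countable product of the
truncations exists in D(O_X), which holds): the map E ⟶ ∏ τ_{≥-n}E with components the truncation
morphisms, followed by identity minus transition, extends to a distinguished triangle E ⟶ ∏ τ_{≥-n}E
⟶ ∏ τ_{≥-n}E ⟶ E[1]. -/
theorem result {S : Scheme.{u}} (X : AlgSp.Space S) (E : AlgSp.DModEt X.obj)
    (hE : DCoh.IsQCohDMod (AlgSp.OEtRing X.obj) E)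
    [HasProduct (fun n : ℕ => ((DerivedCategory.TStructure.t : CategoryTheory.Triangulated.TStructure (AlgSp.DModEt X.obj)).truncGE (-(n : ℤ))).obj E)] :
    ∃ c : (∏ᶜ fun n : ℕ => ((DerivedCategory.TStructure.t : CategoryTheory.Triangulated.TStructure (AlgSp.DModEt X.obj)).truncGE (-(n : ℤ))).obj E) ⟶ E⟦(1 : ℤ)⟧,
      CategoryTheory.Pretriangulated.Triangle.mk
        (Pi.lift fun n : ℕ => ((DerivedCategory.TStructure.t : CategoryTheory.Triangulated.TStructure (AlgSp.DModEt X.obj)).truncGEπ (-(n : ℤ))).app E)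
        (Pi.lift fun n : ℕ => Pi.π (fun n : ℕ => ((DerivedCategory.TStructure.t : CategoryTheory.Triangulated.TStructure (AlgSp.DModEt X.obj)).truncGE (-(n : ℤ))).obj E) n -
          Pi.π (fun n : ℕ => ((DerivedCategory.TStructure.t : CategoryTheory.Triangulated.TStructure (AlgSp.DModEt X.obj)).truncGE (-(n : ℤ))).obj E) (n + 1) ≫
            ((DerivedCategory.TStructure.t : CategoryTheory.Triangulated.TStructure (AlgSp.DModEt X.obj)).natTransTruncGEOfLE (-((n + 1 : ℕ) : ℤ)) (-(n : ℤ)) (Int.neg_le_neg (Int.ofNat_le.mpr (Nat.le_succ n)))).app E)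
        c ∈ CategoryTheory.Pretriangulated.distinguishedTriangles := by
  haveI : IsGrothendieckAbelian.{u + 1} (AlgSp.ModEt X.obj) :=
    Groth.Agent.ModGab32.isGrothendieckAbelian (AlgSp.OEtRing X.obj)
  haveI : HasExt.{u + 1} (AlgSp.ModEt X.obj) := hasExt_of_enoughInjectives _
  haveI : HasProduct (CohCx.truncTower E) := by assumption
  have h : CohCx.IsRlimVia (CohCx.truncTower E) (CohCx.truncTowerMap E) E (CohCx.toTruncTower E) := by
    refine Groth.Agent.SiteRlim.isRlimVia_truncTower (Groth.Agent.Rlim10.localGen_genEt (X := X.obj)) E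
      {V | IsAffine V.obj.left.left} (fun U => ?_) fun m V hV => ⟨(-m).toNat, fun T hT => ?_⟩
    · obtain ⟨R, hR, hRY⟩ := Groth.Agent.Rlim10.exists_affine_sieve U
      exact ⟨R, hR, fun W g hg => let ⟨Y, p, q, hY, hpq⟩ := hRY g hg; ⟨Y, p, q, hY, hpq⟩⟩
    · choose R hR hRY using fun (W : AlgSp.EtOver X.obj) => Groth.Agent.Rlim10.exists_affine_sieve W
      refine ⟨Sieve.bind T.arrows fun W _ _ => R W,
        (AlgSp.etTop X.obj).bind_covering hT (fun W _ _ => hR W), ?_⟩
      rintro W g ⟨Z, a, f, hf, ha, rfl⟩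
      obtain ⟨Y, p, q, hY, rfl⟩ := hRY Z a ha
      haveI : IsAffine Y.obj.left.left := hY
      refine ⟨Y, p, q ≫ f, T.downward_closed hf q, (Category.assoc _ _ _).symm,
        Groth.Agent.SiteRlim.stable_truncTower E m _ fun n hn k hk₁ hk₂ => ?_⟩
      obtain ⟨k, rfl⟩ : ∃ k', k = k' + 1 := ⟨k - 1, by omega⟩
      haveI := hE (-(n : ℤ) - 1)
      exact Groth.Agent.Rlim10.subsingleton_ext_genEt Y k _
        Groth.Agent.QcohEt15.acycAff_toAbEt
  obtain ⟨c, hc⟩ := h
  exact ⟨c, hc⟩

end Groth.Agent.S10770
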