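import Groth.Statements.S10779
import Groth.Agent.Lib.QcohEt15.Site
import Groth.Agent.Lib.SiteCmp16.WayOut
import Groth.Agent.Lib.AlgSpDecent.Basic
import Groth.Agent.Lib.DistSq15.Square
-- import your own Groth.Agent.* helpers here

set_option autoImplicit false
universe u
open CategoryTheory CategoryTheory.Limits AlgebraicGeometry Opposite
attribute [local instance] HasDerivedCategory.standard
open AlgSp

namespace Groth.Agent.S10779

open Groth.Agent.AlgSpace Groth.Agent.AlgSpDecent in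
theorem mem_range_snd {S : Scheme.{u}} {X : AlgSp.Sp S} (A W : AlgSp.EtOver X) (x : ↥W.obj.left.left)
    (hx : Points.ofPt W.obj.hom x ∈ Set.range (Points.map A.obj.hom)) :
    x ∈ Set.range (Limits.prod.snd : A ⨯ W ⟶ W).hom.left.left := by
  obtain ⟨z, hz⟩ := hx
  obtain ⟨v, -, hv⟩ := exists_pt_of_isPullback (A.property.1.isPullback W.obj.hom) hz
  let m : EtOver.prodObj W A ⟶ A ⨯ W := Limits.prod.lift (EtOver.prodSnd W A) (EtOver.prodFst W A)
  have e : m ≫ (Limits.prod.snd : A ⨯ W ⟶ W) = EtOver.prodFst W A := Limits.prod.lift_snd _ _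
  exact ⟨m.hom.left.left v, (congrArg (fun k => k.hom.left.left v) e).trans hv⟩

theorem isZero_of_local {S : Scheme.{u}} {X : AlgSp.Sp S} (M : AlgSp.ModEt X) {ι : Type*} (V : ι → AlgSp.EtOver X)
    (hV : ∀ i, IsZero ((AlgSp.resModEt (V i)).obj M))
    (hc : ∀ p : AlgSp.Points X, ∃ i, p ∈ Set.range (AlgSp.Points.map (V i).obj.hom)) : IsZero M := by
  rw [IsZero.iff_id_eq_zero]
  ext ⟨W⟩ m
  refine Groth.Agent.QcohEt15.sections_ext_family M (fun i => V i ⨯ W) (fun _ => Limits.prod.snd)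
    (fun x => (hc (AlgSp.Points.ofPt W.obj.hom x)).imp fun i h => mem_range_snd (V i) W x h) fun i => ?_
  exact ((congrArg (fun φ : (AlgSp.resModEt (V i)).obj M ⟶ (AlgSp.resModEt (V i)).obj M =>
    φ.val.app (op (Over.mk (Limits.prod.fst : V i ⨯ W ⟶ V i)))
      (Groth.Agent.QcohEt15.res M (Limits.prod.snd : V i ⨯ W ⟶ W) m)) ((hV i).eq_of_src (𝟙 _) 0))).trans
    (map_zero _).symm

theorem exists_isLE {S : Scheme.{u}} (X : AlgSp.Space S) (hXc : AlgSp.IsQuasiCompactSp X.obj)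
    (P : AlgSp.DModEt X.obj) (hP : AlgSp.IsPerfectEtD P) : ∃ b : ℤ, P.IsLE b := by
  classical
  obtain ⟨U, p, hp, hs, hU⟩ := hXc
  let E := AlgSp.EtOver.mk p hp
  obtain ⟨ι, V, g, hcov, hloc⟩ := hP E
  rw [AlgSp.ofArrows_mem_etPre_iff] at hcov
  haveI : CompactSpace ↥E.obj.left.left := hU
  have hopen : ∀ i, IsOpen (Set.range (g i).hom.left.left) := fun i => by
    have := AlgSp.EtOver.etale_left (g i)
    exact (g i).hom.left.left.isOpenMap.isOpen_range
  obtain ⟨s, hs'⟩ := isCompact_univ.elim_finite_subcover _ hopen fun x _ =>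
    Set.mem_iUnion.2 (hcov x)
  choose C hC hiso using hloc
  choose a b hb using fun i => (hC i).1
  obtain ⟨B, hB⟩ := (s.image b).exists_le
  refine ⟨B, (DerivedCategory.isLE_iff P B).2 fun j hj => ?_⟩
  refine isZero_of_local _ (fun i : s => V i.1) (fun i => ?_) fun q => ?_
  · have hle : (DCoh.toDMod (AlgSp.OEtOn (V i.1)) (C i.1)).IsLE B := by
      refine (DerivedCategory.isLE_iff _ B).2 fun n hn => ?_
      refine IsZero.of_iso ?_ ((DerivedCategory.homologyFunctorFactors _ n).app (C i.1))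
      exact ShortComplex.isZero_homology_of_isZero_X₂ _
        (hb i.1 n (Or.inr (lt_of_le_of_lt (hB _ (Finset.mem_image_of_mem b i.2)) hn)))
    refine IsZero.of_iso ?_
      ((Groth.Agent.WayOut.mapDerivedHomologyIso (AlgSp.resModEt (V i.1)) j).app P).symm
    exact ((DerivedCategory.isLE_iff _ B).1 hle j hj).of_iso
      ((DerivedCategory.homologyFunctor _ j).mapIso (hiso i.1).some)
  · obtain ⟨x, hx⟩ := Groth.Agent.AlgSpace.surjective_ofPt hs q
    obtain ⟨i, hi, y, hy⟩ : ∃ i, i ∈ s ∧ x ∈ Set.range (g i).hom.left.left := by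
      simpa using hs' (Set.mem_univ x)
    refine ⟨⟨i, hi⟩, AlgSp.Points.ofScheme (V i).obj.left y, ?_⟩
    rw [← AlgSp.Points.ofPt_eq_map_ofScheme, ← AlgSp.EtOver.w (g i), Groth.Agent.AlgSpDecent.ofPt_map_comp]
    exact (congrArg (AlgSp.Points.ofPt p) hy).trans hx

/-- Let X be a quasi-compact and quasi-separated algebraic space over S, P a perfect object of D(O_X)
(modules on the small etale site), E an object of D_QCoh(O_X) and a ∈ ℤ. Then the morphisms P[-i] ⟶
E vanish for all sufficiently negative i if and only if the morphisms P[-i] ⟶ τ_{≤ a}E vanish for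
all sufficiently negative i. Quasi-separatedness is relative to S with S quasi-separated. -/
theorem result {S : Scheme.{u}} [QuasiSeparatedSpace ↥S] (X : AlgSp.Space S)
    (hXc : AlgSp.IsQuasiCompactSp X.obj) (hXs : AlgSp.IsQuasiSeparatedSp X.obj)
    (P : AlgSp.DModEt X.obj) (hP : AlgSp.IsPerfectEtD P)
    (E : AlgSp.DModEt X.obj) (hE : DCoh.IsQCohDMod (AlgSp.OEtRing X.obj) E) (a : ℤ) :
    (∃ N : ℤ, ∀ i : ℤ, i ≤ N → ∀ φ : P⟦-i⟧ ⟶ E, φ = 0) ↔
      (∃ N : ℤ, ∀ i : ℤ, i ≤ N → ∀ φ : P⟦-i⟧ ⟶ ((DerivedCategory.TStructure.t : CategoryTheory.Triangulated.TStructure (AlgSp.DModEt X.obj)).truncLE a).obj E, φ = 0) := by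
  obtain ⟨b, hb⟩ := exists_isLE X hXc P hP
  let t : CategoryTheory.Triangulated.TStructure (AlgSp.DModEt X.obj) := DerivedCategory.TStructure.t
  let T := (t.triangleLEGE a (a + 1) rfl).obj E
  have hT : T ∈ Pretriangulated.distinguishedTriangles := t.triangleLEGE_distinguished a (a + 1) rfl E
  haveI : t.IsLE P b := hb
  haveI : t.IsGE T.obj₃ (a + 1) := inferInstanceAs (t.IsGE ((t.truncGE (a + 1)).obj E) (a + 1))
  have hzero : ∀ i : ℤ, i ≤ a - b → ∀ φ : P⟦-i⟧ ⟶ T.obj₃, φ = 0 := fun i hi φ => by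
    haveI := t.isLE_shift P b (-i) (b + i)
    exact t.zero φ (b + i) (a + 1) (by lia)
  have hzero' : ∀ i : ℤ, i ≤ a - b → ∀ φ : P⟦-i⟧ ⟶ T.obj₃⟦(-1 : ℤ)⟧, φ = 0 := fun i hi φ => by
    haveI := t.isLE_shift P b (-i) (b + i)
    haveI := t.isGE_shift T.obj₃ (a + 1) (-1) (a + 2)
    exact t.zero φ (b + i) (a + 2) (by lia)
  constructor
  · rintro ⟨N, hN⟩
    refine ⟨min N (a - b), fun i hi φ => ?_⟩
    have h0 : φ ≫ T.mor₁ = 0 := hN i (hi.trans (min_le_left _ _)) _
    obtain ⟨g, hg⟩ := Pretriangulated.Triangle.coyoneda_exact₂ T.invRotate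
      (Pretriangulated.inv_rot_of_distTriang _ hT) φ h0
    rw [hg, show g = 0 from hzero' i (hi.trans (min_le_right _ _)) g]
    exact zero_comp
  · rintro ⟨N, hN⟩
    refine ⟨min N (a - b), fun i hi φ => ?_⟩
    obtain ⟨g, hg⟩ := Pretriangulated.Triangle.coyoneda_exact₂ T hT φ
      (hzero i (hi.trans (min_le_right _ _)) _)
    rw [hg, show g = 0 from hN i (hi.trans (min_le_left _ _)) g]
    exact zero_comp

end Groth.Agent.S10779
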