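import Groth.Statements.S1078
import Groth.Agent.Lib.SubobjJH8.Basic

set_option autoImplicit false
universe v u
open CategoryTheory CategoryTheory.Limits
open CohDer

namespace Groth.Agent.S1078


/-- Let X be an object of an abelian category with two finite chains of subobjects ⊥ = F₀ ≤ … ≤ Fₙ = ⊤
and ⊥ = G₀ ≤ … ≤ Gₘ = ⊤ whose successive quotients are simple. Then n = m, and after transporting
along this equality there is a permutation σ of the indices with Fᵢ₊₁/Fᵢ ≅ G_{σ(i)+1}/G_{σ(i)} for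
all i. -/
theorem result {A : Type u} [Category.{v} A] [Abelian A] (X : A)
    (n : ℕ) (F : Fin (n + 1) → Subobject X) (hF : Monotone F) (hF0 : F 0 = ⊥) (hFn : F (Fin.last n) = ⊤) (hFs : ∀ i : Fin n, Simple (cokernel (Subobject.ofLE (F (Fin.castSucc i)) (F (Fin.succ i)) (hF (Fin.castSucc_lt_succ (i := i)).le))))
    (m : ℕ) (G : Fin (m + 1) → Subobject X) (hG : Monotone G) (hG0 : G 0 = ⊥) (hGm : G (Fin.last m) = ⊤) (hGs : ∀ j : Fin m, Simple (cokernel (Subobject.ofLE (G (Fin.castSucc j)) (G (Fin.succ j)) (hG (Fin.castSucc_lt_succ (i := j)).le)))) :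
    ∃ (e : n = m) (σ : Equiv.Perm (Fin m)), ∀ i : Fin n,
      Nonempty (cokernel (Subobject.ofLE (F (Fin.castSucc i)) (F (Fin.succ i)) (hF (Fin.castSucc_lt_succ (i := i)).le)) ≅
        cokernel (Subobject.ofLE (G (Fin.castSucc (σ (Fin.cast e i)))) (G (Fin.succ (σ (Fin.cast e i)))) (hG (Fin.castSucc_lt_succ (i := σ (Fin.cast e i))).le))) := by
  exact Groth.Agent.SubobjJH8.jordan_holder n F hF hF0 hFn hFs m G hG hG0 hGm hGs


end Groth.Agent.S1078
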