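import Groth.Statements.S10787
import Groth.Agent.Lib.CI2.InjColim
import Mathlib

set_option autoImplicit false
universe u
open CategoryTheory CategoryTheory.Limits
open CAlg

namespace Groth.Agent.S10787
open CategoryTheory CategoryTheory.Limits

/-- Let A be a Noetherian ring and J an injective A-module (an injective object of QCoh of the affine
scheme Spec A, through the equivalence with A-modules). Then J is a filtered colimit of A-modules
each of which is a finite module over some Artinian A-algebra B, the A-module structure being
restricted from B; these are the modules underlying pushforwards to Spec A of coherent sheaves on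
spectra of Artinian rings. -/
theorem result (A : Type u) [CommRing A] [IsNoetherianRing A]
    (J : Type u) [AddCommGroup J] [Module A J] [Module.Injective A J] :
    ∃ (ι : Type u) (_ : SmallCategory ι) (_ : IsFiltered ι) (D : ι ⥤ ModuleCat.{u} A)
      (c : Cocone D) (_ : IsColimit c), Nonempty (c.pt ≅ ModuleCat.of A J) ∧
      ∀ i : ι, ∃ (B : Type u) (_ : CommRing B) (_ : Algebra A B) (_ : IsArtinianRing B)
        (_ : Module B (D.obj i)) (_ : IsScalarTower A B (D.obj i)), Module.Finite B (D.obj i) := by
  classical
  obtain ⟨ι, iP, iD, iN, D, hD, hx, hgood⟩ := Groth.Agent.CI2.InjColim.exists_family (A := A) J ‹_›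
  let f : ∀ i j, i ≤ j → (D i) →ₗ[A] (D j) := fun i j h => Submodule.inclusion (hD h)
  haveI : DirectedSystem (fun i => (D i : Submodule A J)) fun i j h => f i j h :=
    ⟨fun i x => rfl, fun {k j i} _ _ x => rfl⟩
  refine ⟨ι, inferInstance, inferInstance, ModuleCat.directLimitDiagram (fun i => (D i : Submodule A J)) f,
    ModuleCat.directLimitCocone (fun i => (D i : Submodule A J)) f,
    ModuleCat.directLimitIsColimit (fun i => (D i : Submodule A J)) f, ⟨?_⟩, fun i => hgood i⟩
  let L := Module.DirectLimit.lift A ι (fun i => (D i : Submodule A J)) f (fun i => (D i).subtype) fun _ _ _ _ => rfl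
  refine (LinearEquiv.ofBijective L ⟨Module.DirectLimit.lift_injective _ _ fun i => Subtype.val_injective, fun x => ?_⟩).toModuleIso
  obtain ⟨i, hi⟩ := hx x
  exact ⟨Module.DirectLimit.of A ι _ f i ⟨x, hi⟩, Module.DirectLimit.lift_of _ _ _⟩

end Groth.Agent.S10787
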