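import Groth.Statements.S1079
import Groth.Agent.Lib.Brown.Tower
import Mathlib.CategoryTheory.Idempotents.Basic
import Mathlib.CategoryTheory.Limits.Opposites
import Mathlib.CategoryTheory.Triangulated.Opposite.Pretriangulated

set_option autoImplicit false
universe v u
open CategoryTheory CategoryTheory.Limits
open CohDer

namespace Groth.Agent.S1079

open CategoryTheory.Pretriangulated in
theorem of_countable_coproducts (C : Type u) [Category.{v} C] [Preadditive C] [Limits.HasZeroObject C]
    [HasShift C ℤ] [∀ n : ℤ, (shiftFunctor C n).Additive] [Pretriangulated C]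
    [Limits.HasColimitsOfShape (Discrete ℕ) C] : IsIdempotentComplete C := by
  refine ⟨fun X e he => ?_⟩
  let s := Brown.cshift X
  let r := Brown.cretr X
  let E := Limits.Sigma.map (fun _ : ℕ => e)
  let fold : (∐ fun _ : ℕ => X) ⟶ X := Limits.Sigma.desc fun _ => 𝟙 X
  let ι₀ := Limits.Sigma.ι (fun _ : ℕ => X) 0
  have hEs : E ≫ s = s ≫ E := Limits.Sigma.hom_ext _ _ fun n => by simp [E, s]
  have hE : E ≫ E = E := Limits.Sigma.hom_ext _ _ fun n => by simp [E, reassoc_of% he]
  let d := 𝟙 _ - E ≫ s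
  let ρ := E ≫ r + (𝟙 _ - E)
  have hd₁ : d ≫ E = E ≫ (𝟙 _ - s) := by
    simp only [d, Preadditive.sub_comp, Preadditive.comp_sub, Category.assoc, Category.id_comp,
      Category.comp_id]
    rw [← hEs, reassoc_of% hE]
  have hd₂ : d ≫ (𝟙 _ - E) = 𝟙 _ - E := by
    simp only [d, Preadditive.sub_comp, Preadditive.comp_sub, Category.assoc, Category.id_comp,
      Category.comp_id]
    rw [← hEs, reassoc_of% hE]
    abel
  have hdρ : d ≫ ρ = 𝟙 _ := by
    simp only [ρ, Preadditive.comp_add, hd₂]
    rw [← Category.assoc, hd₁, Category.assoc, Brown.cshift_cretr, Category.comp_id]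
    abel
  have hEr : E ≫ r = r ≫ E := by
    refine Limits.Sigma.hom_ext _ _ fun n => ?_
    simp only [E, r, Limits.Sigma.ι_map_assoc, Limits.Sigma.ι_desc, Limits.Sigma.ι_desc_assoc]
    induction n with
    | zero => simp [Brown.cretrComp]
    | succ n ih => simp [Brown.cretrComp, Preadditive.comp_sub, Preadditive.sub_comp, ih]
  have hq : 𝟙 _ - ρ ≫ d = fold ≫ e ≫ ι₀ := by
    have h₁ : E ≫ r ≫ d = E ≫ (r ≫ (𝟙 _ - s)) := by
      simp only [d, Preadditive.comp_sub, Category.comp_id]
      rw [← Category.assoc r E s, ← hEr, Category.assoc, reassoc_of% hE]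
    have h₂ : (𝟙 _ - E) ≫ d = 𝟙 _ - E := by
      simp only [d, Preadditive.sub_comp, Preadditive.comp_sub, Category.id_comp, Category.comp_id,
        reassoc_of% hE]
      abel
    simp only [ρ, Preadditive.add_comp, Category.assoc, h₁, h₂]
    rw [show r ≫ (𝟙 _ - s) = _ from Brown.cretr_cshift X]
    refine Limits.Sigma.hom_ext _ _ fun n => ?_
    simp [E, fold, ι₀, Preadditive.comp_sub, Preadditive.comp_add]
  obtain ⟨Y, π, δ, hT⟩ := distinguished_cocone_triangle d
  have hδ : δ = 0 := by
    have h31 : δ ≫ d⟦(1 : ℤ)⟧' = 0 := comp_distTriang_mor_zero₃₁ _ hT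
    have := congrArg (· ≫ ρ⟦(1 : ℤ)⟧') h31
    simpa [← Functor.map_comp, hdρ] using this
  have hπ : Epi π := Preadditive.epi_of_cancel_zero _ fun {W} g hg => by
    obtain ⟨g', hg'⟩ := Triangle.yoneda_exact₃ _ hT g hg
    rw [hg']
    exact (congrArg (· ≫ g') hδ).trans Limits.zero_comp
  have hdq : d ≫ (𝟙 _ - ρ ≫ d) = 0 := by
    rw [Preadditive.comp_sub, Category.comp_id, reassoc_of% hdρ, sub_self]
  obtain ⟨j, hj⟩ : ∃ j : Y ⟶ _, 𝟙 _ - ρ ≫ d = π ≫ j := Triangle.yoneda_exact₂ _ hT _ hdq
  have hqπ : (𝟙 _ - ρ ≫ d) ≫ π = π := by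
    have h12 : d ≫ π = 0 := comp_distTriang_mor_zero₁₂ _ hT
    rw [Preadditive.sub_comp, Category.assoc, h12, Limits.comp_zero, sub_zero, Category.id_comp]
  have hι : ι₀ ≫ fold = 𝟙 X := by simp [ι₀, fold]
  refine ⟨Y, j ≫ fold, ι₀ ≫ π, ?_, ?_⟩
  · rw [← cancel_epi π, Category.comp_id, Category.assoc, ← Category.assoc π j _, ← hj, hq]
    simp only [Category.assoc, reassoc_of% hι]
    rw [hq] at hqπ
    simpa only [Category.assoc] using hqπ
  · rw [Category.assoc, ← Category.assoc π j _, ← hj, hq]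
    simp only [Category.assoc, hι, Category.comp_id, reassoc_of% hι]


/-- A pretriangulated category which has countable coproducts, or countable products, is Karoubian
(idempotent complete). -/
theorem result {D : Type u} [Category.{v} D] [Preadditive D] [Limits.HasZeroObject D] [HasShift D ℤ]
    [∀ n : ℤ, (shiftFunctor D n).Additive] [Pretriangulated D]
    (h : HasColimitsOfShape (Discrete ℕ) D ∨ HasLimitsOfShape (Discrete ℕ) D) : IsIdempotentComplete D := by
  rcases h with h | h
  · exact of_countable_coproducts D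
  · have : Limits.HasLimitsOfShape (Discrete ℕ)ᵒᵖ D :=
      Limits.hasLimitsOfShape_of_equivalence (Discrete.opposite ℕ).symm
    have : Limits.HasColimitsOfShape (Discrete ℕ) Dᵒᵖ :=
      Limits.hasColimitsOfShape_op_of_hasLimitsOfShape
    open CategoryTheory.Pretriangulated.Opposite in
    exact Idempotents.isIdempotentComplete_iff_opposite.1 (of_countable_coproducts Dᵒᵖ)


end Groth.Agent.S1079
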