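import Groth.Statements.S10800
import Groth.Agent.Lib.CartAff15.Scheme
import Groth.Agent.Lib.AlgSpCartier.Space
import Groth.Agent.Lib.AlgSpDecent.RedInduced
import Groth.Agent.Lib.AlgSpDescent.FppfComp
import Groth.Agent.Lib.AlgSpace.SepAffine
import Groth.Agent.Lib.RegLoc.UFD
-- import your own Groth.Agent.* helpers here

set_option autoImplicit false
universe u
open CategoryTheory CategoryTheory.Limits AlgebraicGeometry Topology TopologicalSpace
open AlgSp

namespace Groth.Agent.S10800

/-- Let S be a separated scheme and X an algebraic space over S which is Noetherian, separated and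
regular: X is quasi-compact, quasi-separated and separated over S, and some etale surjective chart
of X is a locally Noetherian scheme whose local rings are regular. Let T be an affine scheme with a
representable open immersion h_T ⟶ X whose image is dense in |X| (a dense affine open subspace U).
Then there is an effective Cartier divisor D ⟶ X (one-chart sense) with |D| = |X| ∖ |U|. (The
published statement asks X to be separated in the absolute sense; this row asks X separated over a
separated base scheme S, which implies it. Separatedness over S alone does not suffice: over the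
affine plane with doubled origin as S, with X = S and U one of the two affine planes, the complement
is a point of codimension 2.) -/
theorem result {S : Scheme.{u}} [S.IsSeparated] (X : AlgSp.Space S)
    (hreg : AlgSp.EtaleLocally (fun U => IsLocallyNoetherian U ∧ ∀ u : ↥U, IsRegularLocalRing ↥(U.presheaf.stalk u)) X.obj)
    (hqc : AlgSp.IsQuasiCompactSp X.obj) (hqs : AlgSp.IsQuasiSeparatedSp X.obj) (hsep : AlgSp.IsSeparatedSp X.obj)
    (T : Over S) [IsAffine T.left] (j : (AlgSp.yon S).obj T ⟶ X.obj) (hj : AlgSp.RepWith @IsOpenImmersion j)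
    (hdense : Dense (Set.range (AlgSp.Points.ofPt j))) :
    ∃ (D : AlgSp.Space S) (i : D ⟶ X), AlgSp.IsEffCartierSub i.hom ∧
      Set.range (AlgSp.Points.map i.hom) = (Set.range (AlgSp.Points.ofPt j))ᶜ := by
  classical
  let T0 : Set (Points X.obj) := (Set.range (Points.ofPt j))ᶜ
  have hopen : IsOpen (Set.range (Points.ofPt j)) :=
    (AlgSpace.isOpenMap_ofPt j (AlgSpace.repWith_mono (fun _ _ f hf => (haveI : IsOpenImmersion f := hf; inferInstance : Etale f)) hj)).isOpen_range
  obtain ⟨Z, i, hi⟩ := AlgSpDecent.RedInduced.exists_isRedInduced X T0 hopen.isClosed_compl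
  refine ⟨Z, i, ?_, hi.2.1⟩
  obtain ⟨U, φ, hU, hφe, hφs⟩ := AlgSpace.exists_affine_chart hqc
  obtain ⟨I, fst, sq⟩ := AlgSpCartier.exists_ideal_square hi.1 φ
  refine ⟨hi.1, U, φ, I, fst, hφe, hφs, sq, ?_⟩
  obtain ⟨hN, hreg'⟩ := AlgSpDescent.prop_of_etale_chart (fun _ _ f h => AlgSpDescent.regular_up f h)
    (fun _ _ f (_ : Etale f) h2 h => AlgSpDescent.regular_down f inferInstance inferInstance h2 h) hreg hφe
  have : IsNoetherian U.left := ⟨⟩
  obtain ⟨W, w, fT, sqW⟩ := hj.1 φ
  obtain ⟨t, rfl⟩ := (yon S).map_surjective fT
  have : IsOpenImmersion w.left := hj.2 _ _ _ sqW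
  have hWa : IsAffine W.left := (AlgSpace.isAffine_surjective_of_separated hsep sqW).1
  have hWo : IsAffineOpen w.left.opensRange := isAffineOpen_opensRange w.left
  have hpre : ∀ v : U.left, v ∈ w.left.opensRange ↔ Points.ofPt φ v ∈ Set.range (Points.ofPt j) := by
    intro v
    constructor
    · rintro ⟨z, rfl⟩
      refine ⟨t.left z, ?_⟩
      rw [← AlgSpDecent.ofPt_map_comp, ← AlgSpDecent.ofPt_map_comp, sqW.w]
    · rintro ⟨x, hx⟩
      obtain ⟨z, -, hz⟩ := AlgSpace.exists_pt_of_isPullback sqW (x := Points.ofScheme T x) (t := v)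
        (by rw [← Points.ofPt_eq_map_ofScheme]; exact hx)
      exact ⟨z, hz⟩
  have : IsReduced (Over.mk (I.subschemeι ≫ U.hom)).left :=
    AlgSpDescent.prop_of_etale_chart AlgSpDescent.isReduced_up AlgSpDescent.isReduced_down hi.2.2
      (AlgSpace.repWith_of_isPullback sq.flip hφe)
  have : IsReduced I.subscheme := this
  have hsupp : (I.support : Set U.left) = (w.left.opensRange : Set U.left)ᶜ := by
    ext v
    rw [SetLike.mem_coe, AlgSpCartier.support_eq_preimage sq v, hi.2.1]
    exact not_congr (hpre v).symm
  have hI : I = Scheme.IdealSheafData.vanishingIdeal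
      (⟨(w.left.opensRange : Set U.left)ᶜ, w.left.opensRange.isOpen.isClosed_compl⟩ : Closeds U.left) := by
    conv_lhs => rw [← Scheme.IdealSheafData.ker_subschemeι I, RedSepLib.ker_eq_vanishingIdeal]
    congr 1
    ext1
    show closure (Set.range I.subschemeι) = _
    rw [I.range_subschemeι, I.support.isClosed.closure_eq, hsupp]
    rfl
  rw [hI]
  refine CartAff15.isEffCartierIdeal_vanishingIdeal_compl (fun V V' hV hV' => hV.inf hV') _ hWo ?_ fun x _ => ?_
  · have h := hdense.preimage (AlgSpace.isOpenMap_ofPt φ hφe)
    convert h using 1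
    ext v
    exact hpre v
  · have := hreg' x
    exact ⟨RegLoc.isDomain _, RegLoc.ufd_of_isRegularLocalRing _⟩

end Groth.Agent.S10800
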