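import Groth.Statements.S10801
import Groth.Agent.Lib.ValDiv15.Space
-- import your own Groth.Agent.* helpers here

set_option autoImplicit false
universe u
open CategoryTheory CategoryTheory.Limits AlgebraicGeometry Topology TopologicalSpace
open AlgSp

namespace Groth.Agent.S10801

/-- Suppose R is a valuation ring with fraction field K, S is a scheme equipped with a morphism Spec R ⟶
S, and X is an algebraic space over S together with a smooth morphism X ⟶ h_{Spec R}. Take X_K ⟶ X
to be the base change to Spec K (given as a pullback square along h_{Spec K} ⟶ h_{Spec R}), and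
consider an effective Cartier divisor D ⟶ X_K (in the one-chart sense). Then D extends to an
effective Cartier divisor D' ⟶ X restricting to D over X_K: there is a morphism D ⟶ D' exhibiting D
as the pullback of D' ⟶ X along X_K ⟶ X. -/
theorem result {S : Scheme.{u}}
    (R : Type u) [CommRing R] [IsDomain R] [ValuationRing R] (K : Type u) [Field K] [Algebra R K] [IsFractionRing R K]
    (str : Spec (CommRingCat.of R) ⟶ S) (X : AlgSp.Space S)
    (f : X.obj ⟶ (AlgSp.yon S).obj (Over.mk str)) (hf : AlgSp.LocP @Smooth f)
    (XK : AlgSp.Space S) (gK : XK ⟶ X)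
    (fK : XK.obj ⟶ (AlgSp.yon S).obj (Over.mk ((Spec.map (CommRingCat.ofHom (algebraMap R K))) ≫ str)))
    (hXK : IsPullback gK.hom fK f ((AlgSp.yon S).map (Over.homMk (Spec.map (CommRingCat.ofHom (algebraMap R K))) rfl : Over.mk ((Spec.map (CommRingCat.ofHom (algebraMap R K))) ≫ str) ⟶ Over.mk str)))
    (D : AlgSp.Space S) (i : D ⟶ XK) (hD : AlgSp.IsEffCartierSub i.hom) :
    ∃ (D' : AlgSp.Space S) (i' : D' ⟶ X) (k : D ⟶ D'),
      AlgSp.IsEffCartierSub i'.hom ∧ IsPullback k.hom i.hom i'.hom gK.hom := by
  exact ValDiv15.exists_extension str X f hf XK gK fK hXK D i hD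

end Groth.Agent.S10801
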