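import Groth.Statements.S10803
import Groth.Agent.Lib.NoethFibre15.Basic
-- import your own Groth.Agent.* helpers here

set_option autoImplicit false
universe u
open CategoryTheory CategoryTheory.Limits AlgebraicGeometry Topology TopologicalSpace
open AlgSp

namespace Groth.Agent.S10803

/-- (3) ⇒ (2) (with (2) ⇒ (1) ⇒ (3) immediate, this gives the equivalence of the three conditions
defining a locally Noetherian fibre over y): take a morphism f : X ⟶ Y of algebraic spaces over a
scheme S and a point y of |Y|. Suppose that for some field k and some point p : Spec k ⟶ Y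
representing y the fibre X_p (any pullback of f along the morphism of p) is locally Noetherian. Then
for every scheme V, every representable etale h_V ⟶ Y and every point v of V mapping to y, the fibre
X_v = Spec κ(v) ×_Y X is locally Noetherian. -/
theorem result {S : Scheme.{u}} (X Y : AlgSp.Space S) (f : X ⟶ Y)
    (y : AlgSp.Points Y.obj) (p : AlgSp.FieldPt Y.obj) (hp : AlgSp.Points.mk p = y)
    (hNoeth : ∀ ⦃P : AlgSp.Sp S⦄ (fst : P ⟶ X.obj) (snd : P ⟶ (AlgSp.yon S).obj p.pt),
      IsPullback fst snd f.hom p.toHom → AlgSp.IsLocNoethSp P)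
    (V : Over S) (b : (AlgSp.yon S).obj V ⟶ Y.obj) (hb : AlgSp.RepWith @Etale b) (v : ↥V.left)
    (hv : AlgSp.Points.ofPt b v = y)
    {Q : AlgSp.Sp S} (qfst : Q ⟶ X.obj) (qsnd : Q ⟶ (AlgSp.yon S).obj (AlgSp.FieldPt.ofPt b v).pt)
    (hQ : IsPullback qfst qsnd f.hom (AlgSp.FieldPt.ofPt b v).toHom) :
    AlgSp.IsLocNoethSp Q := by
  have sq := hb.1.isPullback p.toHom
  let W := hb.1.pullback p.toHom
  let s : W ⟶ p.pt := hb.1.snd p.toHom
  have he : Etale s.left := hb.2 p.toHom _ _ sq
  obtain ⟨r, hr⟩ := (AlgSp.yon S).map_surjective (hb.1.fst p.toHom)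
  -- a point of the chart pulled back to the field, over `v`
  have hmap : AlgSp.Points.map b (AlgSp.Points.ofScheme V v) =
      AlgSp.Points.map p.toHom (AlgSp.Points.ofScheme p.pt (IsLocalRing.closedPoint p.K)) := by
    rw [Groth.Agent.AlgSpDecent.map_toHom_eq, hp, ← AlgSp.Points.ofPt_eq_map_ofScheme, hv]
  obtain ⟨w', hw', -⟩ := Groth.Agent.AlgSpDecent.exists_point_lift sq _ _ hmap
  obtain ⟨w, rfl⟩ := (AlgSp.Points.schemeEquiv W).surjective w'
  have hwv : r.left w = v := by
    have h := congrArg (AlgSp.Points.toScheme V) hw'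
    rw [← hr, AlgSp.Points.toScheme_ofScheme] at h
    refine Eq.trans ?_ h
    change r.left w = AlgSp.Points.toScheme V (AlgSp.Points.map _ (AlgSp.Points.ofScheme W w))
    rw [AlgSp.Points.map_ofPt]
    erw [Category.id_comp, Groth.Agent.AlgSpDecent.ofPt_map_eq]
    rw [AlgSp.Points.toScheme_ofScheme]
  have : Etale (s.left : W.left ⟶ Spec (CommRingCat.of p.K)) := he
  let O : W.left.Opens := ⟨{w}, Groth.Agent.AlgSpDecent.isOpen_singleton_of_etale_field (K := p.K) s.left w⟩
  have : Subsingleton ↥O.toScheme := ⟨fun a b => Subtype.ext (a.2.trans b.2.symm)⟩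
  have : Nonempty ↥O.toScheme := ⟨⟨w, rfl⟩⟩
  have : IsReduced p.pt.left := inferInstanceAs (IsReduced (Spec (CommRingCat.of p.K)))
  have : IsReduced W.left := Groth.Agent.AlgSpDescent.isReduced_of_smooth s.left
  obtain ⟨L, _, ⟨e⟩⟩ := Groth.Agent.AlgSpDecent.exists_iso_spec_field O.toScheme
  let m : Spec (CommRingCat.of L) ⟶ V.left := e.hom ≫ O.ι ≫ r.left
  have hm : ∀ t, m t = v := fun t => by
    have := (e.hom t).2
    change r.left (O.ι (e.hom t)) = v
    rw [show O.ι (e.hom t) = w from this, hwv]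
  have hfac := Scheme.descResidueField_stalkClosedPointTo_fromSpecResidueField L V.left m
  let T : Over S := Over.mk ((e.hom ≫ O.ι) ≫ W.hom)
  let i : T ⟶ W := Over.homMk (e.hom ≫ O.ι) rfl
  obtain ⟨d, hd⟩ : ∃ d : Spec (CommRingCat.of L) ⟶ Spec (V.left.residueField v),
      d ≫ V.left.fromSpecResidueField v = m := by
    rw [← hm (IsLocalRing.closedPoint L)]
    exact ⟨_, hfac⟩
  have hdw : d ≫ (AlgSp.FieldPt.ofPt b v).str = T.hom := by
    change d ≫ V.left.fromSpecResidueField v ≫ V.hom = _
    rw [← Category.assoc, hd]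
    simp only [m, T, Category.assoc, Over.mk_hom, Over.w r]
    rfl
  let c₀ : T ⟶ (AlgSp.FieldPt.ofPt b v).pt := Over.homMk d hdw
  have : Etale (i ≫ s).left := by
    change Etale ((e.hom ≫ O.ι) ≫ s.left)
    infer_instance
  obtain ⟨h1, h2, h3⟩ := Groth.Agent.NoethFibre15.field_hom_props (K := (V.left.residueField v)) d
  have : Flat c₀.left := h1
  have : Surjective c₀.left := h2
  have : IsAffineHom c₀.left := h3
  refine Groth.Agent.NoethFibre15.isLocNoethSp_of_cover Y.property X.property c₀ (i ≫ s)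
    (AlgSp.FieldPt.ofPt b v).toHom p.toHom ?_ hQ (IsPullback.of_hasPullback f.hom p.toHom)
    (hNoeth _ _ (IsPullback.of_hasPullback f.hom p.toHom))
  rw [Functor.map_comp, Category.assoc, ← sq.w, ← hr, AlgSp.FieldPt.toHom_ofPt, ← Category.assoc,
    ← Category.assoc, ← Functor.map_comp, ← Functor.map_comp]
  congr 2
  refine Over.OverMorphism.ext ?_
  change d ≫ V.left.fromSpecResidueField v = (e.hom ≫ O.ι) ≫ r.left
  exact hd.trans (Category.assoc _ _ _).symm


end Groth.Agent.S10803
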