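import Groth.Statements.S10804
import Groth.Agent.Lib.NoethFibre15.Basic
-- import your own Groth.Agent.* helpers here

set_option autoImplicit false
universe u
open CategoryTheory CategoryTheory.Limits AlgebraicGeometry Topology TopologicalSpace
open AlgSp

namespace Groth.Agent.S10804

/-- (3) ⇒ (4): let f : X ⟶ Y be a morphism of algebraic spaces over a scheme S, and let p : Spec k ⟶ Y
and p₀ : Spec k₀ ⟶ Y be field-valued points defining the same point of |Y|, with h_{Spec k₀} ⟶ Y a
monomorphism. If the fibre X_p = Spec k ×_Y X (any pullback of f along the morphism of p) is locally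
Noetherian, then the fibre X_{p₀} is locally Noetherian. -/
theorem result {S : Scheme.{u}} (X Y : AlgSp.Space S) (f : X ⟶ Y)
    (p p₀ : AlgSp.FieldPt Y.obj) (hpp : AlgSp.Points.mk p = AlgSp.Points.mk p₀) (hmono : Mono p₀.toHom)
    (hNoeth : ∀ ⦃P : AlgSp.Sp S⦄ (fst : P ⟶ X.obj) (snd : P ⟶ (AlgSp.yon S).obj p.pt),
      IsPullback fst snd f.hom p.toHom → AlgSp.IsLocNoethSp P)
    {Q : AlgSp.Sp S} (qfst : Q ⟶ X.obj) (qsnd : Q ⟶ (AlgSp.yon S).obj p₀.pt)
    (hQ : IsPullback qfst qsnd f.hom p₀.toHom) :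
    AlgSp.IsLocNoethSp Q := by
  have hY := Y.property
  have hr := hY.representable_from_yon p₀.toHom
  have sq := hr.isPullback p.toHom
  let W := hr.pullback p.toHom
  let s : W ⟶ p.pt := hr.snd p.toHom
  have : Mono ((AlgSp.yon S).map s) := by
    have := hmono
    exact sq.mono_snd_of_mono
  have := Groth.Agent.AlgSpDecent.mono_left s
  -- the fibre product is nonempty
  have hmap : AlgSp.Points.map p₀.toHom (AlgSp.Points.ofScheme p₀.pt (IsLocalRing.closedPoint p₀.K)) =
      AlgSp.Points.map p.toHom (AlgSp.Points.ofScheme p.pt (IsLocalRing.closedPoint p.K)) := by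
    rw [Groth.Agent.AlgSpDecent.map_toHom_eq, Groth.Agent.AlgSpDecent.map_toHom_eq, hpp]
  obtain ⟨w, -, -⟩ := Groth.Agent.AlgSpDecent.exists_point_lift sq _ _ hmap
  have : Nonempty W.left := ⟨AlgSp.Points.toScheme W w⟩
  have : IsIso s.left := Groth.Agent.AlgSpace.isIso_of_mono_field (K := p.K) s.left
  have : IsIso ((Over.forget S).map s) := inferInstanceAs (IsIso s.left)
  have : IsIso s := isIso_of_reflects_iso s (Over.forget S)
  obtain ⟨r, hr'⟩ := (AlgSp.yon S).map_surjective (hr.fst p.toHom)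
  let g : p.pt ⟶ p₀.pt := inv s ≫ r
  have hg : (AlgSp.yon S).map g ≫ p₀.toHom = p.toHom := by
    rw [Functor.map_comp, hr', Category.assoc, sq.w, ← Category.assoc, ← Functor.map_comp,
      IsIso.inv_hom_id, CategoryTheory.Functor.map_id, Category.id_comp]
  obtain ⟨h1, h2, h3⟩ := Groth.Agent.NoethFibre15.field_hom_props g.left
  exact Groth.Agent.NoethFibre15.isLocNoethSp_of_cover hY X.property g (𝟙 _) p₀.toHom p.toHom
    (by rw [CategoryTheory.Functor.map_id, Category.id_comp, hg]) hQ (IsPullback.of_hasPullback f.hom p.toHom)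
    (hNoeth _ _ (IsPullback.of_hasPullback f.hom p.toHom))


end Groth.Agent.S10804
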