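import Groth.Statements.S1081
import Groth.Agent.Lib.FilT.Envelope

set_option autoImplicit false
universe v u
open CategoryTheory CategoryTheory.Limits Opposite
open FilD

namespace Groth.Agent.S1081


/-- Let A be an abelian category with enough injectives. Every finite filtered object X admits a strict
monomorphism X ⟶ I into a filtered injective object I. -/
theorem result {A : Type u} [Category.{v} A] [Abelian A] [EnoughInjectives A] (X : FilD.FilF A) :
    ∃ (I : FilD.FilF A) (u : X ⟶ I), FilD.IsFilteredInjective I ∧ Mono u ∧ FilD.IsStrict u := by
  obtain ⟨I, u, hI, hu⟩ := Groth.Agent.FilT.exists_strict_envelope X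
  exact ⟨I, u, hI, Groth.Agent.FilT.mono_of_mono_gr u hu, Groth.Agent.FilT.isStrict_of_mono_gr u hu⟩


end Groth.Agent.S1081
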