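import Groth.Statements.S10812
import Groth.Agent.Lib.QcohEt15.Finite
-- import your own Groth.Agent.* helpers here

set_option autoImplicit false
universe u
open CategoryTheory CategoryTheory.Limits AlgebraicGeometry Topology TopologicalSpace
open AlgSp

namespace Groth.Agent.S10812

/-- Let X be a locally Noetherian algebraic space over a scheme S and F a coherent O_X-module on the
small etale site of X (a quasi-coherent module of finite type; on a locally Noetherian space its
associated points are its weakly associated points). Then for every quasi-compact open subset W of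
|X| the set of associated points of F contained in W is finite. -/
theorem result {S : Scheme.{u}} (X : AlgSp.Space S)
    (hX : AlgSp.IsLocNoethSp X.obj) (M : AlgSp.ModEt X.obj) [M.IsQuasicoherent] [M.IsFiniteType]
    (W : Set (AlgSp.Points X.obj)) (hWo : IsOpen W) (hWc : IsCompact W) :
    (AlgSp.WeakAssEt M ∩ W).Finite := by
  obtain ⟨U, a, hae, has⟩ := X.property.atlas
  let E₀ := AlgSp.EtOver.mk a hae
  have key : ∀ x ∈ W, ∃ E : AlgSp.EtOver X.obj, IsAffine E.obj.left.left ∧
      x ∈ Set.range (AlgSp.Points.ofPt E.obj.hom) := by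
    intro x _
    obtain ⟨v, hv⟩ := Groth.Agent.AlgSpace.surjective_ofPt has x
    obtain ⟨V, hV, hvV, -⟩ := E₀.obj.left.left.isBasis_affineOpens.exists_subset_of_mem_open (Set.mem_univ v) isOpen_univ
    obtain ⟨V, hV', rfl⟩ := hV
    exact ⟨Groth.Agent.AlgSpEt14.openSub E₀ V, hV', ⟨v, hvV⟩, (Groth.Agent.AlgSpEt14.ofPt_openSub E₀ V ⟨v, hvV⟩).trans hv⟩
  have : Nonempty (AlgSp.EtOver X.obj) := ⟨E₀⟩
  choose! E hE hx using key
  have hopen : ∀ x : W, IsOpen (Set.range (AlgSp.Points.ofPt (E x.1).obj.hom)) := fun x =>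
    (Groth.Agent.AlgSpace.isOpenMap_ofPt _ (E x.1).property).isOpen_range
  obtain ⟨t, ht⟩ := hWc.elim_finite_subcover (fun x : W => Set.range (AlgSp.Points.ofPt (E x.1).obj.hom)) hopen
    fun x hxW => Set.mem_iUnion.2 ⟨⟨x, hxW⟩, hx x hxW⟩
  refine (t.finite_toSet.biUnion (t := fun x : W => AlgSp.Points.ofPt (E x.1).obj.hom ''
    {u | ∃ _ : IsAffine (E x.1).obj.left.left, AlgSp.IsWeakAssOn M (E x.1) u}) fun x _ => ?_).subset ?_
  · have := hE x.1 x.2
    exact ((Groth.Agent.QcohEt15.finite_setOf_isWeakAssOn hX (E x.1)).subset fun u hu => hu.choose_spec).image _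
  · rintro y ⟨hy, hyW⟩
    obtain ⟨x, hxt, u, rfl⟩ := Set.mem_iUnion₂.1 (ht hyW)
    have := hE x.1 x.2
    exact Set.mem_biUnion hxt ⟨u, ⟨this, Groth.Agent.QcohEt15.isWeakAssOn_of_mem_weakAssEt u hy⟩, rfl⟩


end Groth.Agent.S10812
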