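import Groth.Statements.S10817
import Groth.Agent.Lib.QcohEt15.WeakAss
-- import your own Groth.Agent.* helpers here

set_option autoImplicit false
universe u
open CategoryTheory CategoryTheory.Limits AlgebraicGeometry Topology TopologicalSpace
open AlgSp

namespace Groth.Agent.S10817

/-- Let X be an algebraic space over a scheme S and F a quasi-coherent O_X-module on the small etale
site of X. If U ⟶ X is an etale morphism from a scheme (an object of the small etale site) whose
image in |X| contains all weakly associated points of F, then the restriction map Γ(X, F) ⟶ Γ(U, F)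
is injective; here Γ(X, F) is the type of compatible families of sections of F over all objects of
the site, and the map is evaluation at U. -/
theorem result {S : Scheme.{u}} (X : AlgSp.Space S)
    (M : AlgSp.ModEt X.obj) [M.IsQuasicoherent] (E : AlgSp.EtOver X.obj)
    (hE : AlgSp.WeakAssEt M ⊆ Set.range (AlgSp.Points.ofPt E.obj.hom)) :
    Function.Injective (fun s : M.sections => PresheafOfModules.sections.eval s (Opposite.op E)) := by
  intro s t hst
  refine PresheafOfModules.sections_ext s t fun Z => ?_
  induction Z using Opposite.rec with | op Z => ?_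
  refine Groth.Agent.QcohEt15.sections_ext_family M
    (fun O : Z.obj.left.left.affineOpens => Groth.Agent.AlgSpEt14.openSub Z O.1)
    (fun O => Groth.Agent.AlgSpEt14.openSubι Z O.1) (fun v => ?_) fun O => ?_
  · obtain ⟨V, hV, hvV, -⟩ := Z.obj.left.left.isBasis_affineOpens.exists_subset_of_mem_open (Set.mem_univ v) isOpen_univ
    obtain ⟨V, hV', rfl⟩ := hV
    exact ⟨⟨V, hV'⟩, (Groth.Agent.AlgSpEt14.range_openSubι Z V).ge hvV⟩
  let W := Groth.Agent.AlgSpEt14.openSub Z O.1
  have : IsAffine W.obj.left.left := O.2
  have hres : ∀ (r : M.sections) {A B : AlgSp.EtOver X.obj} (g : B ⟶ A),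
      Groth.Agent.QcohEt15.res M g (r.1 (Opposite.op A)) = r.1 (Opposite.op B) := fun r _ _ g => r.2 g.op
  rw [hres, hres]
  by_contra hne
  let d : AlgSp.sectModEt M W := s.1 (Opposite.op W) - t.1 (Opposite.op W)
  have hd : d ≠ 0 := fun h => hne (sub_eq_zero.1 h)
  obtain ⟨m, hm, hle⟩ := Ideal.exists_le_maximal _ (mt (Groth.Agent.WeakAssEt15.annSect_eq_top_iff d).1 hd)
  have := hm.isPrime
  obtain ⟨p, hp, -⟩ := Ideal.exists_minimalPrimes_le hle
  obtain ⟨w, hw⟩ := Groth.Agent.WeakAssEt15.exists_point_of_prime p hp.1.1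
  obtain ⟨u, hu⟩ := hE ⟨W, ‹_›, w, rfl, d, hw.symm ▸ hp⟩
  obtain ⟨W', hW', k, k', w', hk, hk'⟩ := Groth.Agent.QcohEt15.exists_common_affine w u hu.symm
  refine Groth.Agent.QcohEt15.res_ne_zero (Groth.Agent.QcohEt15.good_of_isQuasicoherent W) k w' d ?_ ?_
  · rw [hk, hw]
    exact hp.1.2
  · have h1 : s.1 (Opposite.op W') = t.1 (Opposite.op W') := by
      rw [← hres s k', ← hres t k']
      exact congrArg _ hst
    refine (map_sub (Groth.Agent.QcohEt15.res M k) _ _).trans ?_
    rw [hres, hres, h1]
    exact sub_self _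


end Groth.Agent.S10817
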