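import Groth.Statements.S10820
import Groth.Agent.Lib.ProjDim18.Basic
import Groth.Agent.Lib.TsenLang.Height
-- import your own Groth.Agent.* helpers here

set_option autoImplicit false
universe u
open AlgebraicGeometry Topology TopologicalSpace
open Variety

namespace Groth.Agent.S10820

/-- For a field k, n ≥ 2 and a nonzero homogeneous polynomial f of degree d ≥ 1 in n + 1 variables, the
hypersurface V_+(f) in projective n-space over k (as a subspace of Proj of the polynomial ring
graded by degree) is connected and nonempty. -/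
theorem result (k : Type u) [Field k] (n d : ℕ) (hn : 2 ≤ n)
    (f : MvPolynomial (Fin (n + 1)) k) (hf : f.IsHomogeneous d) (hd : 0 < d) (hf0 : f ≠ 0) :
    IsConnected (ProjectiveSpectrum.zeroLocus (CohB1.polyGrading n k)
      ({f} : Set (MvPolynomial (Fin (n + 1)) k))) := by
  classical
  set J : Ideal (MvPolynomial (Fin (n + 1)) k) := Ideal.span {f} with hJdef
  have hJ : J.IsHomogeneous (MvPolynomial.homogeneousSubmodule (Fin (n + 1)) k) :=
    Ideal.homogeneous_span _ _ (by rintro _ rfl; exact ⟨d, (MvPolynomial.mem_homogeneousSubmodule _ _).2 hf⟩)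
  have hht : (3 : ℕ∞) ≤ (ProjDeg17.irr k n).height := by
    rw [ProjDeg17.irr_eq_ker, ← MvPolynomial.eval_zero]
    exact le_trans (by exact_mod_cast (show 3 ≤ n + 1 by omega)) (TsenLang.natCast_le_height_ker_eval_zero (n + 1))
  have hirr : ∀ s : Finset (MvPolynomial (Fin (n + 1)) k), s.card ≤ 2 →
      ∀ Q ∈ (Ideal.span (s : Set (MvPolynomial (Fin (n + 1)) k))).minimalPrimes,
        Q.IsHomogeneous (MvPolynomial.homogeneousSubmodule (Fin (n + 1)) k) → ¬ ProjDeg17.irr k n ≤ Q := by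
    intro s hs Q hQ hh hle
    haveI := hQ.1.1
    have heq : Q = ProjDeg17.irr k n := le_antisymm (ProjDeg17.le_irr_of_isHomogeneous hh hQ.1.1.ne_top) hle
    have h2 : Q.height ≤ (2 : ℕ∞) :=
      (Ideal.height_le_card_of_mem_minimalPrimes_span_finset hQ).trans (by exact_mod_cast hs)
    rw [heq] at h2
    exact absurd (le_trans hht h2) (by decide)
  have hmin : ∀ Q ∈ J.minimalPrimes, Q.IsHomogeneous (MvPolynomial.homogeneousSubmodule (Fin (n + 1)) k) ∧
      ¬ ProjDeg17.irr k n ≤ Q := fun Q hQ => by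
    have hh := ProjDeg17.isHomogeneous_of_mem_minimalPrimes hJ hQ
    exact ⟨hh, hirr {f} (by simp) Q (by rw [Finset.coe_singleton]; exact hQ) hh⟩
  -- a minimal prime over a principal ideal is principal
  have hprin : ∀ Q ∈ J.minimalPrimes, ∃ p, Q = Ideal.span {p} := fun Q hQ => by
    haveI := hQ.1.1
    have hfQ : f ∈ Q := hQ.1.2 (Ideal.subset_span rfl)
    obtain ⟨p, hpQ, hp⟩ : ∃ p ∈ Q, Prime p ∧ p ∣ f := by
      have hu : ¬ IsUnit f := fun h => hQ.1.1.ne_top (Q.eq_top_of_isUnit_mem hfQ h)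
      obtain ⟨m, hm, hprod⟩ := UniqueFactorizationMonoid.exists_prime_factors f hf0
      have hmem : m.prod ∈ Q := by
        obtain ⟨u, hu⟩ := hprod
        rw [← hu] at hfQ
        exact (Ideal.mul_unit_mem_iff_mem Q u.isUnit).1 hfQ
      obtain ⟨p, hp, hpQ⟩ := (hQ.1.1.multiset_prod_mem_iff_exists_mem m).1 hmem
      exact ⟨p, hpQ, hm p hp, (Multiset.dvd_prod hp).trans hprod.dvd⟩
    refine ⟨p, le_antisymm (hQ.2 ⟨(Ideal.span_singleton_prime hp.1.ne_zero).2 hp.1, ?_⟩ ?_) ?_⟩
    · exact (Ideal.span_singleton_le_span_singleton.2 hp.2)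
    · exact (Ideal.span_singleton_le_iff_mem (I := Q)).2 hpQ
    · exact (Ideal.span_singleton_le_iff_mem (I := Q)).2 hpQ
  let pt : ∀ Q ∈ J.minimalPrimes, ProjectiveSpectrum (CohB1.polyGrading n k) := fun Q hQ =>
    ProjDim18.mkPt k n Q hQ.1.1 (hmin Q hQ).1 (hmin Q hQ).2
  let Z := ProjectiveSpectrum.zeroLocus (CohB1.polyGrading n k) ({f} : Set (MvPolynomial (Fin (n + 1)) k))
  have hZc : IsClosed Z := ProjectiveSpectrum.isClosed_zeroLocus _ _
  have hmem : ∀ Q (hQ : Q ∈ J.minimalPrimes), pt Q hQ ∈ Z := fun Q hQ =>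
    Set.singleton_subset_iff.2 (hQ.1.2 (Ideal.subset_span rfl))
  refine ⟨?_, isPreconnected_of_forall_pair fun x hx y hy => ?_⟩
  · haveI := (ProjDeg17.isMaximal_irr k n).isPrime
    obtain ⟨Q, hQ, -⟩ := Ideal.exists_minimalPrimes_le (I := J) (J := ProjDeg17.irr k n)
      (ProjDeg17.le_irr_of_isHomogeneous hJ fun htop => by
        have hu : IsUnit f := Ideal.span_singleton_eq_top.1 htop
        obtain ⟨c, -, rfl⟩ := MvPolynomial.isUnit_iff_eq_C_of_isReduced.1 hu
        have := hf.coeff_eq_zero (d := 0) (by simpa using hd.ne)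
        rw [MvPolynomial.coeff_C, if_pos rfl] at this
        exact hf0 (by rw [this, map_zero]))
    exact ⟨_, hmem Q hQ⟩
  haveI := x.isPrime
  haveI := y.isPrime
  obtain ⟨P, hP, hPx⟩ := Ideal.exists_minimalPrimes_le (I := J) (J := x.asHomogeneousIdeal.toIdeal)
    (Ideal.span_le.2 hx)
  obtain ⟨Q, hQ, hQy⟩ := Ideal.exists_minimalPrimes_le (I := J) (J := y.asHomogeneousIdeal.toIdeal)
    (Ideal.span_le.2 hy)
  -- the two components meet
  have hPQh : (P ⊔ Q).IsHomogeneous (MvPolynomial.homogeneousSubmodule (Fin (n + 1)) k) :=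
    (hmin P hP).1.sup (hmin Q hQ).1
  haveI := (ProjDeg17.isMaximal_irr k n).isPrime
  obtain ⟨R, hR, -⟩ := Ideal.exists_minimalPrimes_le (I := P ⊔ Q) (J := ProjDeg17.irr k n)
    (sup_le (ProjDeg17.le_irr_of_isHomogeneous (hmin P hP).1 hP.1.1.ne_top)
      (ProjDeg17.le_irr_of_isHomogeneous (hmin Q hQ).1 hQ.1.1.ne_top))
  have hRh := ProjDeg17.isHomogeneous_of_mem_minimalPrimes hPQh hR
  obtain ⟨p, hp⟩ := hprin P hP
  obtain ⟨q, hq⟩ := hprin Q hQ
  have hRne : ¬ ProjDeg17.irr k n ≤ R := hirr {p, q} Finset.card_le_two R (by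
    rw [Finset.coe_insert, Finset.coe_singleton, Ideal.span_insert, ← hp, ← hq]
    exact hR) hRh
  let r : ProjectiveSpectrum (CohB1.polyGrading n k) := ProjDim18.mkPt k n R hR.1.1 hRh hRne
  have hle : ∀ a b : ProjectiveSpectrum (CohB1.polyGrading n k),
      a.asHomogeneousIdeal.toIdeal ≤ b.asHomogeneousIdeal.toIdeal → b ∈ closure ({a} : Set _) := fun a b h =>
    (ProjectiveSpectrum.le_iff_mem_closure (CohB1.polyGrading n k) a b).1 h
  refine ⟨closure {pt P hP} ∪ closure {pt Q hQ}, Set.union_subset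
    (closure_minimal (Set.singleton_subset_iff.2 (hmem P hP)) hZc)
    (closure_minimal (Set.singleton_subset_iff.2 (hmem Q hQ)) hZc), Or.inl (hle _ x hPx), Or.inr (hle _ y hQy),
    IsPreconnected.union r (hle _ r (le_sup_left.trans hR.1.2)) (hle _ r (le_sup_right.trans hR.1.2))
      isIrreducible_singleton.closure.isConnected.isPreconnected
      isIrreducible_singleton.closure.isConnected.isPreconnected⟩


end Groth.Agent.S10820
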