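import Groth.Statements.S10821
import Mathlib.Algebra.MvPolynomial.NoZeroDivisors
import Mathlib.RingTheory.MvPolynomial.Homogeneous


set_option autoImplicit false
universe u
open AlgebraicGeometry Topology TopologicalSpace
open Variety

namespace Groth.Agent.S10821

/-- For a field k and an irreducible closed subset Z of projective n-space over k, Z has codimension 1
(the longest chain of irreducible closed subsets strictly above Z has length 1) if and only if Z is
the zero set V_+(f) of an irreducible homogeneous polynomial f in n + 1 variables. -/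
theorem result (k : Type u) [Field k] (n : ℕ)
    (Z : TopologicalSpace.IrreducibleCloseds (ProjectiveSpectrum (CohB1.polyGrading n k))) :
    Order.coheight Z = 1 ↔
      ∃ (d : ℕ) (f : MvPolynomial (Fin (n + 1)) k), f.IsHomogeneous d ∧ Irreducible f ∧
        (Z : Set (ProjectiveSpectrum (CohB1.polyGrading n k))) =
          ProjectiveSpectrum.zeroLocus (CohB1.polyGrading n k) ({f} : Set (MvPolynomial (Fin (n + 1)) k)) := by
  classical
  let 𝒜 := CohB1.polyGrading n k
  haveI : QuasiSober (ProjectiveSpectrum 𝒜) := inferInstanceAs (QuasiSober (Proj 𝒜))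
  haveI : T0Space (ProjectiveSpectrum 𝒜) := inferInstanceAs (T0Space (Proj 𝒜))
  let ι : ProjectiveSpectrum 𝒜 → TopologicalSpace.IrreducibleCloseds (ProjectiveSpectrum 𝒜) := fun x =>
    ⟨closure {x}, isIrreducible_singleton.closure, isClosed_closure⟩
  have hle : ∀ x y, ι x ≤ ι y ↔ y.asHomogeneousIdeal.toIdeal ≤ x.asHomogeneousIdeal.toIdeal := fun x y => by
    constructor
    · intro h
      exact (ProjectiveSpectrum.le_iff_mem_closure 𝒜 y x).2 (h (subset_closure rfl))
    · intro h
      exact closure_minimal (Set.singleton_subset_iff.2 ((ProjectiveSpectrum.le_iff_mem_closure 𝒜 y x).1 h)) isClosed_closure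
  have hsurj : ∀ W, ∃ x, ι x = W := fun W =>
    ⟨W.isIrreducible.genericPoint, TopologicalSpace.IrreducibleCloseds.ext
      (W.isIrreducible.closure_genericPoint W.isClosed)⟩
  have hzero : ∀ x : ProjectiveSpectrum 𝒜,
      (ι x : Set (ProjectiveSpectrum 𝒜)) = ProjectiveSpectrum.zeroLocus 𝒜 (x.asHomogeneousIdeal : Set _) := fun x => by
    show closure {x} = _
    rw [← ProjectiveSpectrum.zeroLocus_vanishingIdeal_eq_closure, ProjectiveSpectrum.vanishingIdeal_singleton]
  obtain ⟨P, rfl⟩ := hsurj Z
  set I := P.asHomogeneousIdeal.toIdeal with hI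
  haveI : I.IsPrime := P.isPrime
  have hhom : ∀ f : MvPolynomial (Fin (n + 1)) k, f ∈ I → ∀ i, MvPolynomial.homogeneousComponent i f ∈ I := by
    intro f hf i
    have := P.asHomogeneousIdeal.isHomogeneous i hf
    rw [show (DirectSum.decompose 𝒜 f i : MvPolynomial (Fin (n + 1)) k) = MvPolynomial.homogeneousComponent i f from
      MvPolynomial.decomposition.decompose'_apply f i] at this
    exact this
  -- the point of a homogeneous element inside a relevant prime
  have hpt : ∀ (d : ℕ) (f : MvPolynomial (Fin (n + 1)) k), f.IsHomogeneous d → Irreducible f → f ∈ I →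
      ∃ Q : ProjectiveSpectrum 𝒜, Q.asHomogeneousIdeal.toIdeal = Ideal.span {f} := fun d f hf hirr hfI =>
    ⟨⟨⟨Ideal.span {f}, Ideal.homogeneous_span 𝒜 {f} (fun g hg => ⟨d, (Set.mem_singleton_iff.1 hg) ▸ hf⟩)⟩,
      (Ideal.span_singleton_prime hirr.ne_zero).2 hirr.prime,
      fun h => P.not_irrelevant_le (h.trans ((Ideal.span_singleton_le_iff_mem I).2 hfI))⟩, rfl⟩
  have hbot : ∃ R : ProjectiveSpectrum 𝒜, R.asHomogeneousIdeal.toIdeal = ⊥ :=
    ⟨⟨⊥, by rw [HomogeneousIdeal.toIdeal_bot]; exact Ideal.isPrime_bot,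
      fun h => P.not_irrelevant_le (h.trans bot_le)⟩, HomogeneousIdeal.toIdeal_bot⟩

  constructor
  · intro h1
    have hne : I ≠ ⊥ := by
      intro hb
      have : Order.coheight (ι P) = 0 := by
        rw [Order.coheight_eq_zero]
        intro W hW
        obtain ⟨x, rfl⟩ := hsurj W
        rw [hle, ← hI, hb]
        exact bot_le
      rw [this] at h1
      exact zero_ne_one h1
    obtain ⟨f, hfI, hf0⟩ := Submodule.exists_mem_ne_zero_of_ne_bot hne
    obtain ⟨i, hi⟩ : ∃ i, MvPolynomial.homogeneousComponent i f ≠ 0 := by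
      by_contra hc
      push Not at hc
      exact hf0 (by rw [← MvPolynomial.sum_homogeneousComponent f]; simp [hc])
    have hex : ∃ m, ∃ a, a ∈ I ∧ a ≠ 0 ∧ a.IsHomogeneous m :=
      ⟨i, _, hhom f hfI i, hi, MvPolynomial.homogeneousComponent_isHomogeneous i f⟩
    obtain ⟨a, haI, ha0, hah⟩ := Nat.find_spec hex
    set m := Nat.find hex
    have key : ∀ u : MvPolynomial (Fin (n + 1)) k, u ∈ I → u ≠ 0 → m ≤ u.totalDegree := by
      intro u hu hu0
      obtain ⟨j, hj⟩ : ∃ j, MvPolynomial.homogeneousComponent j u ≠ 0 := by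
        by_contra hc
        push Not at hc
        exact hu0 (by rw [← MvPolynomial.sum_homogeneousComponent u]; simp [hc])
      refine le_trans (Nat.find_min' hex ⟨_, hhom u hu j, hj, MvPolynomial.homogeneousComponent_isHomogeneous j u⟩) ?_
      by_contra hlt
      exact hj (MvPolynomial.homogeneousComponent_eq_zero _ _ (not_le.1 hlt))
    have hconst : ∀ u v : MvPolynomial (Fin (n + 1)) k, a = u * v → u ∈ I → IsUnit v := by
      intro u v huv hu
      have hu0 : u ≠ 0 := fun h => ha0 (by rw [huv, h, zero_mul])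
      have hv0 : v ≠ 0 := fun h => ha0 (by rw [huv, h, mul_zero])
      have h2 : m = u.totalDegree + v.totalDegree := by
        rw [← MvPolynomial.totalDegree_mul_of_isDomain hu0 hv0, ← huv, hah.totalDegree ha0]
      have hv : v.totalDegree = 0 := by
        have := key u hu hu0
        omega
      rw [MvPolynomial.totalDegree_eq_zero_iff_eq_C] at hv
      rw [hv] at hv0 ⊢
      exact (isUnit_iff_ne_zero.2 fun h => hv0 (by rw [h, map_zero])).map MvPolynomial.C
    have hirr : Irreducible a := by
      refine irreducible_iff.2 ⟨fun hu => (P.isPrime).ne_top (Ideal.eq_top_of_isUnit_mem _ haI hu), fun u v huv => ?_⟩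
      rcases ‹I.IsPrime›.mem_or_mem (huv ▸ haI : u * v ∈ I) with h | h
      · exact Or.inr (hconst u v huv h)
      · exact Or.inl (hconst v u (huv.trans (mul_comm u v)) h)
    refine ⟨m, a, hah, hirr, ?_⟩
    obtain ⟨Q, hQ⟩ := hpt m a hah hirr haI
    have hQP : ι P ≤ ι Q := by
      rw [hle, ← hI, hQ]
      exact (Ideal.span_singleton_le_iff_mem I).2 haI
    have hmax : ι Q ≤ ι P := by
      by_contra hn
      obtain ⟨R, hR⟩ := hbot
      have hlt2 : ι Q < ι R := lt_of_le_not_ge (by rw [hle, hR]; exact bot_le) fun h => ha0 (by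
        rw [hle, hR, hQ] at h
        exact Ideal.mem_bot.1 (h (Ideal.mem_span_singleton_self a)))
      have h2 : Order.coheight (ι Q) + 1 ≤ Order.coheight (ι P) := Order.coheight_add_one_le (lt_of_le_not_ge hQP hn)
      have h3 : Order.coheight (ι R) + 1 ≤ Order.coheight (ι Q) := Order.coheight_add_one_le hlt2
      have h5 : (1 : ℕ∞) ≤ Order.coheight (ι Q) := le_trans le_add_self h3
      have h4 : (1 : ℕ∞) + 1 ≤ 1 := (add_le_add_left h5 1).trans (h2.trans h1.le)
      exact absurd h4 (by decide)
    rw [hle, ← hI, hQ] at hmax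
    rw [hzero, show (P.asHomogeneousIdeal : Set (MvPolynomial (Fin (n + 1)) k)) = (I : Set _) from rfl,
      le_antisymm hmax ((Ideal.span_singleton_le_iff_mem I).2 haI), ProjectiveSpectrum.zeroLocus_span]
  · rintro ⟨d, f, hf, hirr, hZ⟩
    have hfI : f ∈ I := by
      have : P ∈ ProjectiveSpectrum.zeroLocus 𝒜 ({f} : Set _) := hZ ▸ (subset_closure rfl : P ∈ closure {P})
      exact Set.singleton_subset_iff.1 ((ProjectiveSpectrum.mem_zeroLocus 𝒜 _ _).1 this)
    obtain ⟨Q, hQ⟩ := hpt d f hf hirr hfI
    have hmem : Q ∈ ProjectiveSpectrum.zeroLocus 𝒜 ({f} : Set _) :=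
      (ProjectiveSpectrum.mem_zeroLocus 𝒜 _ _).2 (Set.singleton_subset_iff.2 (hQ ▸ Ideal.mem_span_singleton_self f :
        f ∈ Q.asHomogeneousIdeal.toIdeal))
    rw [← hZ] at hmem
    have hIf : I = Ideal.span {f} := le_antisymm
      (hQ ▸ (ProjectiveSpectrum.le_iff_mem_closure 𝒜 P Q).2 hmem) ((Ideal.span_singleton_le_iff_mem I).2 hfI)
    refine le_antisymm ((Order.coheight_le_coe_iff (n := 1)).2 fun W hW => ?_) ?_
    · obtain ⟨x, rfl⟩ := hsurj W
      have hlt : ¬ I ≤ x.asHomogeneousIdeal.toIdeal := fun h => hW.not_ge ((hle x P).2 h)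
      have hsub : x.asHomogeneousIdeal.toIdeal ≤ I := (hle P x).1 hW.le
      have hx : x.asHomogeneousIdeal.toIdeal = ⊥ := by
        by_contra hne
        obtain ⟨q, hq, hq0⟩ := Submodule.exists_mem_ne_zero_of_ne_bot hne
        obtain ⟨e, u, hu, rfl⟩ := WfDvdMonoid.max_power_factor hq0 hirr
        rcases x.isPrime.mem_or_mem hq with h | h
        · exact hlt (hIf ▸ (Ideal.span_singleton_le_iff_mem _).2 (x.isPrime.mem_of_pow_mem e h))
        · exact hu (Ideal.mem_span_singleton.1 (hIf ▸ hsub h))
      have : Order.coheight (ι x) = 0 := by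
        rw [Order.coheight_eq_zero]
        intro V hV
        obtain ⟨y, rfl⟩ := hsurj V
        rw [hle, hx]
        exact bot_le
      rw [this]
      exact zero_lt_one
    · rw [Order.one_le_iff_pos, Order.coheight_pos]
      intro hmax
      obtain ⟨R, hR⟩ := hbot
      have hPR : ι P ≤ ι R := by
        rw [hle, hR]
        exact bot_le
      have := hmax hPR
      rw [hle, ← hI, hR, hIf, le_bot_iff, Ideal.span_singleton_eq_bot] at this
      exact hirr.ne_zero this

end Groth.Agent.S10821
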