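import Groth.Statements.S10822
import Groth.Agent.Lib.ProjDim27.Basic
-- import your own Groth.Agent.* helpers here

set_option autoImplicit false
universe u
open AlgebraicGeometry Topology TopologicalSpace
open Variety

namespace Groth.Agent.S10822

/-- Let k be a field, X an irreducible closed subset of projective n-space over k of positive dimension,
and f a homogeneous polynomial in n + 1 variables whose zero set V_+(f) is nonempty and does not
contain X. Then X meets V_+(f), and every irreducible component C of X ∩ V_+(f) has dim C + 1 = dim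
X, i.e. codimension 1 in X (all maximal chains of irreducible closed subsets of X have length dim
X). -/
theorem result (k : Type u) [Field k] (n d : ℕ)
    (X : Set (ProjectiveSpectrum (CohB1.polyGrading n k))) (hXc : IsClosed X) (hXi : IsIrreducible X)
    (hXd : 0 < topologicalKrullDim ↥X)
    (f : MvPolynomial (Fin (n + 1)) k) (hf : f.IsHomogeneous d)
    (hV : (ProjectiveSpectrum.zeroLocus (CohB1.polyGrading n k)
      ({f} : Set (MvPolynomial (Fin (n + 1)) k))).Nonempty)
    (hX : ¬ X ⊆ ProjectiveSpectrum.zeroLocus (CohB1.polyGrading n k)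
      ({f} : Set (MvPolynomial (Fin (n + 1)) k))) :
    (X ∩ ProjectiveSpectrum.zeroLocus (CohB1.polyGrading n k)
        ({f} : Set (MvPolynomial (Fin (n + 1)) k))).Nonempty ∧
      ∀ C ∈ irreducibleComponents ↥(X ∩ ProjectiveSpectrum.zeroLocus (CohB1.polyGrading n k)
          ({f} : Set (MvPolynomial (Fin (n + 1)) k))),
        topologicalKrullDim ↥C + 1 = topologicalKrullDim ↥X := by
  refine ⟨?_, fun C hC => Groth.Agent.ProjDim27.dim_component_add_one k n X hXc hXi f hf hV hX C hC⟩
  have hd := Groth.Agent.ProjDim27.degree_pos_of_nonempty k n hf hV hX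
  have hr : Set.range (![f] : Fin 1 → MvPolynomial (Fin (n + 1)) k) = {f} := by simp
  have key := Groth.Agent.ProjDim18.codim_components_inter_zeroLocus k n X hXc hXi ![f] ![d]
    (by intro i; fin_cases i; exact hf) (by intro i; fin_cases i; exact hd)
  rw [hr] at key
  obtain ⟨x, hx⟩ := QuasiSober.sober hXi hXc
  apply key.2
  have hdim : topologicalKrullDim ↥X = (Order.coheight x : WithBot ℕ∞) :=
    (congrArg (fun S : Set (ProjectiveSpectrum (CohB1.polyGrading n k)) => topologicalKrullDim ↥S) hx.def.symm).trans
      (Groth.Agent.ProjDim27.dim_closure_singleton k n x)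
  rw [hdim] at hXd ⊢
  have h1 : 0 < Order.coheight x := by exact_mod_cast hXd
  have h2 : (1 : ℕ∞) ≤ Order.coheight x := Order.one_le_iff_pos.2 h1
  exact_mod_cast h2


end Groth.Agent.S10822
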