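import Groth.Statements.S10823
import Groth.Agent.Lib.ProjDim18.Top

set_option autoImplicit false
universe u
open AlgebraicGeometry Topology TopologicalSpace
open Variety

namespace Groth.Agent.S10823

/-- Let k be a field, X an irreducible closed subset of projective n-space over k, and f_1, …, f_r
nonzero homogeneous polynomials of positive degrees in n + 1 variables. Then every irreducible
component C of X ∩ V_+(f_1, …, f_r) has codimension at most r in X, i.e. dim X ≤ dim C + r, and if
dim X ≥ r the intersection is nonempty. -/
theorem result (k : Type u) [Field k] (n r : ℕ)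
    (X : Set (ProjectiveSpectrum (CohB1.polyGrading n k))) (hXc : IsClosed X) (hXi : IsIrreducible X)
    (f : Fin r → MvPolynomial (Fin (n + 1)) k) (d : Fin r → ℕ)
    (hf : ∀ i, (f i).IsHomogeneous (d i)) (hd : ∀ i, 0 < d i) (hf0 : ∀ i, f i ≠ 0) :
    (∀ C ∈ irreducibleComponents ↥(X ∩ ProjectiveSpectrum.zeroLocus (CohB1.polyGrading n k) (Set.range f)),
        topologicalKrullDim ↥X ≤ topologicalKrullDim ↥C + (r : WithBot ℕ∞)) ∧
      ((r : WithBot ℕ∞) ≤ topologicalKrullDim ↥X →
        (X ∩ ProjectiveSpectrum.zeroLocus (CohB1.polyGrading n k) (Set.range f)).Nonempty) := by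
  exact Groth.Agent.ProjDim18.codim_components_inter_zeroLocus k n X hXc hXi f d hf hd

end Groth.Agent.S10823
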