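import Groth.Statements.S10824
import Groth.Agent.Lib.HilbBez28.Basic

set_option autoImplicit false
universe u
open Variety

namespace Groth.Agent.S10824

/-- Let k be a field, S the polynomial ring in three variables over k with degree-d part S_d, and f, g
nonzero homogeneous polynomials of positive degrees n and m with no common non-unit factor. Then for
every d ≥ n + m the degree-d part of S/(f, g), namely S_d modulo its intersection with the ideal (f,
g), has dimension n·m over k. -/
theorem result (k : Type u) [Field k] (n m d : ℕ)
    (f g : MvPolynomial (Fin 3) k) (hf : f.IsHomogeneous n) (hg : g.IsHomogeneous m)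
    (hn : 0 < n) (hm : 0 < m) (hf0 : f ≠ 0) (hg0 : g ≠ 0) (hfg : IsRelPrime f g) (hd : n + m ≤ d) :
    Module.finrank k
        (↥(MvPolynomial.homogeneousSubmodule (Fin 3) k d) ⧸
          Submodule.comap (MvPolynomial.homogeneousSubmodule (Fin 3) k d).subtype
            ((Ideal.span ({f, g} : Set (MvPolynomial (Fin 3) k))).restrictScalars k)) = n * m := by
  classical
  have hreg : ∀ (i : Fin 2) (p : MvPolynomial (Fin 3) k), p * (![f, g]) i ∈ Ideal.span ((![f, g]) '' {j | j < i}) →
      p ∈ Ideal.span ((![f, g]) '' {j | j < i}) := by
    intro i p hp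
    fin_cases i
    · simp at hp ⊢
      exact hp.resolve_right hf0
    · have hset : ({j | j < (1 : Fin 2)} : Set (Fin 2)) = {0} := by ext j; fin_cases j <;> simp
      simp only [Fin.mk_one, hset, Set.image_singleton, Matrix.cons_val_zero, Matrix.cons_val_one,
        Matrix.cons_val_fin_one, Ideal.mem_span_singleton] at hp ⊢
      exact hfg.dvd_of_dvd_mul_right hp
  have h := HilbBez17.hilbert_eq_prod_of_regular (n := 2) ![f, g] ![n, m]
    (fun i => by fin_cases i <;> simp <;> omega) (fun i => by fin_cases i; exacts [hf, hg]) hreg d
    (by rw [Fin.sum_univ_two]; simpa using hd)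
  rw [Fin.prod_univ_two] at h
  simp only [Matrix.cons_val_zero, Matrix.cons_val_one, Matrix.cons_val_fin_one] at h
  have hrange : Set.range (![f, g] : Fin 2 → MvPolynomial (Fin (2 + 1)) k) = {f, g} := by
    rw [Matrix.range_cons, Matrix.range_cons, Matrix.range_empty, Set.union_empty, Set.singleton_union]
  rw [hrange] at h
  set I := Ideal.span ({f, g} : Set (MvPolynomial (Fin 3) k))
  let φ := (Ideal.Quotient.mkₐ k I).toLinearMap.domRestrict (MvPolynomial.homogeneousSubmodule (Fin 3) k d)
  have hk : LinearMap.ker φ = Submodule.comap (MvPolynomial.homogeneousSubmodule (Fin 3) k d).subtype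
      (I.restrictScalars k) := by
    ext x
    exact Ideal.Quotient.eq_zero_iff_mem
  have hr : LinearMap.range φ = CIH28.piece (1 : Fin 3 → ℕ) I d := by
    rw [LinearMap.range_domRestrict]; rfl
  rw [← hk, LinearEquiv.finrank_eq (LinearMap.quotKerEquivRange φ), hr]
  exact_mod_cast h

end Groth.Agent.S10824
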