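import Groth.Statements.S10825
import Mathlib
import Groth.Agent.Lib.VarDim.Alg

set_option autoImplicit false
universe u
open Topology
open CAlg

namespace Groth.Agent.S10825
open Polynomial

theorem topologicalKrullDim_zeroLocus {R : Type u} [CommRing R] (I : Ideal R) :
    topologicalKrullDim ↥(PrimeSpectrum.zeroLocus (I : Set R)) = ringKrullDim (R ⧸ I) := by
  have hs : Function.Surjective (Ideal.Quotient.mk I) := Ideal.Quotient.mk_surjective
  have he := (PrimeSpectrum.isClosedEmbedding_comap_of_surjective _ _ hs).isEmbedding.toHomeomorph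
  have hr : Set.range (PrimeSpectrum.comap (Ideal.Quotient.mk I)) = PrimeSpectrum.zeroLocus (I : Set R) := by
    rw [range_comap_of_surjective _ _ hs, Ideal.mk_ker]
  rw [← PrimeSpectrum.topologicalKrullDim_eq_ringKrullDim, he.isHomeomorph.topologicalKrullDim_eq, hr]

/-- Let A → B be an injective integral homomorphism of integral domains with fraction fields K and L, L
a finite extension of K, and A integrally closed. For b in B the norm N_{L/K}(b) lies in A; if a
denotes this element of A, then the image of the closed set V(b) of Spec B under Spec B → Spec A is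
exactly V(a), and V(b) and V(a) have the same dimension. -/
theorem result
    (A B K L : Type u) [CommRing A] [IsDomain A] [CommRing B] [IsDomain B] [Algebra A B]
    [Field K] [Field L] [Algebra A K] [IsFractionRing A K] [Algebra B L] [IsFractionRing B L]
    [Algebra A L] [Algebra K L] [IsScalarTower A B L] [IsScalarTower A K L]
    [FiniteDimensional K L] [Algebra.IsIntegral A B] [IsIntegrallyClosed A]
    (hinj : Function.Injective (algebraMap A B))
    (b : B) (a : A) (ha : algebraMap A K a = Algebra.norm K (algebraMap B L b)) :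
    PrimeSpectrum.comap (algebraMap A B) '' PrimeSpectrum.zeroLocus ({b} : Set B) =
        PrimeSpectrum.zeroLocus ({a} : Set A) ∧
      topologicalKrullDim ↥(PrimeSpectrum.zeroLocus ({b} : Set B)) =
        topologicalKrullDim ↥(PrimeSpectrum.zeroLocus ({a} : Set A)) := by
  haveI : FaithfulSMul A B := (faithfulSMul_iff_algebraMap_injective A B).2 hinj
  have hb : IsIntegral A b := Algebra.IsIntegral.isIntegral b
  set μ := minpoly A b with hμdef
  have hmin : minpoly K (algebraMap B L b) = μ.map (algebraMap A K) :=
    minpoly.isIntegrallyClosed_eq_field_fractions K L hb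
  -- the norm is, up to sign, a power of the constant coefficient of the minimal polynomial
  set x := algebraMap B L b
  have hxK : IsIntegral K x := .of_finite K x
  set m := Module.finrank (IntermediateField.adjoin K {x}) L with hm
  set d := (IntermediateField.adjoin.powerBasis hxK).dim
  have hnorm : a = ((-1) ^ d * μ.coeff 0) ^ m := by
    apply IsFractionRing.injective A K
    rw [ha, Algebra.norm_eq_norm_adjoin K x, ← IntermediateField.adjoin.powerBasis_gen hxK,
      Algebra.PowerBasis.norm_gen_eq_coeff_zero_minpoly, IntermediateField.adjoin.powerBasis_gen hxK,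
      IntermediateField.minpoly_gen, hmin, Polynomial.coeff_map]
    simp [d, m]
  have hm0 : m ≠ 0 := Module.finrank_pos.ne'
  have hmem : ∀ p : Ideal A, p.IsPrime → (a ∈ p ↔ μ.coeff 0 ∈ p) := fun p hp => by
    rw [hnorm, hp.pow_mem_iff_mem _ (Nat.pos_of_ne_zero hm0),
      Ideal.unit_mul_mem_iff_mem p ((isUnit_one.neg).pow d)]
  have himage : PrimeSpectrum.comap (algebraMap A B) '' PrimeSpectrum.zeroLocus ({b} : Set B) =
        PrimeSpectrum.zeroLocus ({a} : Set A) := by
    apply Set.Subset.antisymm
    · rintro _ ⟨q, hq, rfl⟩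
      rw [PrimeSpectrum.mem_zeroLocus, Set.singleton_subset_iff] at hq ⊢
      refine (hmem _ inferInstance).2 (Ideal.mem_comap.2 ?_)
      have h0 : aeval b μ = 0 := minpoly.aeval A b
      rw [← X_mul_divX_add μ, map_add, map_mul, aeval_X, aeval_C] at h0
      have : algebraMap A B (μ.coeff 0) = -(b * aeval b μ.divX) := by linear_combination h0
      rw [this]
      exact q.asIdeal.neg_mem (q.asIdeal.mul_mem_right _ hq)
    · intro p hp
      rw [PrimeSpectrum.mem_zeroLocus, Set.singleton_subset_iff] at hp
      have hc := (hmem _ p.2).1 hp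
      let S' := Algebra.adjoin A ({b} : Set B)
      let ψ₀ : AdjoinRoot μ →+* A ⧸ p.asIdeal := AdjoinRoot.lift (Ideal.Quotient.mk p.asIdeal) 0 (by
        rw [eval₂_at_zero]; exact Ideal.Quotient.eq_zero_iff_mem.2 hc)
      let e := minpoly.equivAdjoin hb
      let ψ : S' →+* A ⧸ p.asIdeal := ψ₀.comp e.symm.toAlgHom.toRingHom
      have hP : (RingHom.ker ψ).IsPrime := RingHom.ker_isPrime ψ
      haveI : Algebra.IsIntegral S' B := Algebra.IsIntegral.tower_top A
      obtain ⟨q, -, hq, hqP⟩ := Ideal.exists_ideal_over_prime_of_isIntegral (RingHom.ker ψ)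
        (⊥ : Ideal B) (le_of_eq_of_le (by
          rw [← RingHom.ker_eq_comap_bot, (RingHom.injective_iff_ker_eq_bot _).1]
          exact Subtype.val_injective) bot_le)
      refine ⟨⟨q, hq⟩, ?_, ?_⟩
      · rw [PrimeSpectrum.mem_zeroLocus, Set.singleton_subset_iff]
        have : (⟨b, Algebra.self_mem_adjoin_singleton A b⟩ : S') ∈ RingHom.ker ψ := by
          have h1 : e (AdjoinRoot.root μ) = (⟨b, Algebra.self_mem_adjoin_singleton A b⟩ : S') := by
            apply Subtype.ext
            simp only [μ, e, minpoly.coe_equivAdjoin, AdjoinRoot.Minpoly.toAdjoin]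
            rw [AdjoinRoot.liftAlgHom_root]
          rw [← h1]
          simp [ψ, ψ₀, RingHom.mem_ker]
        rw [← hqP] at this
        exact this
      · apply PrimeSpectrum.ext
        ext y
        have h1 : algebraMap A S' y ∈ RingHom.ker ψ ↔ y ∈ p.asIdeal := by
          simp only [RingHom.mem_ker]
          have : ψ (algebraMap A S' y) = Ideal.Quotient.mk p.asIdeal y := by
            show ψ₀ (e.symm (algebraMap A _ y)) = _
            rw [AlgEquiv.commutes, AdjoinRoot.algebraMap_eq]
            exact AdjoinRoot.lift_of _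
          rw [this, Ideal.Quotient.eq_zero_iff_mem]
        rw [← h1, ← hqP]
        rfl
  refine ⟨himage, ?_⟩
  let J := (Ideal.span {b}).comap (algebraMap A B)
  have hJ : PrimeSpectrum.zeroLocus (J : Set A) = PrimeSpectrum.zeroLocus ({a} : Set A) := by
    rw [← himage]
    apply Set.Subset.antisymm
    · intro p hp
      obtain ⟨q, hbq, hq, hqP⟩ := Ideal.exists_ideal_over_prime_of_isIntegral p.asIdeal (Ideal.span {b}) hp
      exact ⟨⟨q, hq⟩, Set.singleton_subset_iff.2 (hbq (Ideal.mem_span_singleton_self b)),
        PrimeSpectrum.ext hqP⟩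
    · rintro _ ⟨q, hq, rfl⟩
      rw [PrimeSpectrum.mem_zeroLocus]
      exact Ideal.comap_mono ((Ideal.span_singleton_le_iff_mem _).2 (Set.singleton_subset_iff.1 hq))
  rw [← hJ, ← PrimeSpectrum.zeroLocus_span ({b} : Set B), topologicalKrullDim_zeroLocus,
    topologicalKrullDim_zeroLocus]
  exact (Groth.Agent.VarDim.ringKrullDim_eq_of_isIntegral (R := A ⧸ J) (S := B ⧸ Ideal.span {b})
    Ideal.algebraMap_quotient_injective)

end Groth.Agent.S10825
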