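import Groth.Statements.S10826
import Mathlib
import Groth.Agent.Lib.H2Alg.PSHom
import Groth.Agent.Lib.PSAutoH28.Basic
import Groth.Agent.Lib.Sep.Basic
import Groth.Agent.S2452

set_option autoImplicit false
open CAlg

namespace Groth.Agent.S10826
open Groth.Agent.H2Alg

open MvPowerSeries in

/-- Let R be a commutative ring, n ≥ 1, and φ an R-algebra homomorphism from the power series ring in n
variables over R to itself that sends each variable to a power series without constant term. If the
Jacobian matrix at the origin, whose (i, j) entry is the coefficient of X_j in φ(X_i), has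
invertible determinant in R, then φ is an isomorphism (bijective). -/
theorem result
    (R : Type*) [CommRing R] (n : ℕ) (hn : 1 ≤ n)
    (φ : MvPowerSeries (Fin n) R →ₐ[R] MvPowerSeries (Fin n) R)
    (h0 : ∀ i, MvPowerSeries.constantCoeff (φ (MvPowerSeries.X i)) = 0)
    (hJ : IsUnit (Matrix.det (Matrix.of fun i j : Fin n =>
      MvPowerSeries.coeff (Finsupp.single j 1) (φ (MvPowerSeries.X i))))) :
    Function.Bijective φ := by
  classical
  have _ := hn
  let M : Matrix (Fin n) (Fin n) R := Matrix.of fun i j =>
    coeff (Finsupp.single j 1) (φ (X i))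
  let N := M⁻¹
  have hNM : N * M = 1 := Matrix.nonsing_inv_mul M hJ
  have hMN : M * N = 1 := Matrix.mul_nonsing_inv M hJ
  have hV : ∀ f : MvPowerSeries (Fin n) R, constantCoeff f = 0 → f ∈ PSHom.V n R := by
    intro f hf
    have := PSHom.mem_pow (m := 1) (f := f) fun d hd => by
      rw [Nat.lt_one_iff, Finsupp.degree_eq_zero_iff] at hd
      subst hd
      simpa using hf
    simpa using this
  let lin : Matrix (Fin n) (Fin n) R → Fin n → MvPowerSeries (Fin n) R := fun P i => ∑ j, C (P i j) * X j
  have lin0 : ∀ P i, constantCoeff (lin P i) = 0 := fun P i => by simp [lin]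
  obtain ⟨L, hLX⟩ : ∃ L : Matrix (Fin n) (Fin n) R → (MvPowerSeries (Fin n) R →ₐ[R] MvPowerSeries (Fin n) R),
      ∀ P i, L P (X i) = lin P i :=
    ⟨fun P => substAlgHom (hasSubst_of_constantCoeff_zero (lin0 P)), fun P i => substAlgHom_X _ i⟩
  have hLC : ∀ (ψ : MvPowerSeries (Fin n) R →ₐ[R] MvPowerSeries (Fin n) R) (r : R), ψ (C r) = C r := fun ψ r => by
    have : (C r : MvPowerSeries (Fin n) R) = algebraMap R _ r := rfl
    rw [this, ψ.commutes]
  have hLL : ∀ P Q, P * Q = 1 → (L Q).comp (L P) = AlgHom.id R _ := by
    intro P Q hPQ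
    have hcomp : ∀ i, (L Q).comp (L P) (X i) = X i := by
      intro i
      rw [AlgHom.comp_apply, hLX]
      simp only [lin, map_sum, map_mul, hLC, hLX, Finset.mul_sum]
      rw [Finset.sum_comm]
      have : ∀ y, (∑ x, C (P i x) * (C (Q x y) * X y) : MvPowerSeries (Fin n) R) = C ((P * Q) i y) * X y := fun y => by
        rw [Matrix.mul_apply, map_sum, Finset.sum_mul]
        exact Finset.sum_congr rfl fun x _ => by rw [map_mul, mul_assoc]
      rw [Finset.sum_congr rfl fun y _ => this y, hPQ]
      rw [Finset.sum_eq_single i]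
      · simp
      · intro b _ hb; simp [Matrix.one_apply_ne (Ne.symm hb)]
      · intro h; exact absurd (Finset.mem_univ i) h
    refine PSHom.algHom_ext (PSHom.V n R) (fun i => ?_) (fun i => hcomp i)
    rw [hcomp]
    exact PSHom.X_mem i
  obtain ⟨ψ, hψdef⟩ : ∃ ψ, ψ = φ.comp (L N) := ⟨_, rfl⟩
  obtain ⟨a, hadef⟩ : ∃ a : Fin n → MvPowerSeries (Fin n) R, a = fun i => ψ (X i) := ⟨_, rfl⟩
  have ha : Groth.Agent.PSAutoH28.Tangent a := by
    intro i
    have e : a i = ∑ j, C (N i j) * φ (X j) := by
      simp only [hadef, hψdef, AlgHom.comp_apply, hLX, lin, map_sum, map_mul, hLC]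
    refine le_order fun d hd => ?_
    have hd' : Finsupp.degree d < 2 := by exact_mod_cast hd
    rcases Nat.lt_succ_iff.1 hd' |>.lt_or_eq with h | h
    · rw [Nat.lt_one_iff, Finsupp.degree_eq_zero_iff] at h
      subst h
      rw [coeff_zero_eq_constantCoeff, e]
      simp [h0]
    · obtain ⟨j, rfl⟩ : ∃ j, d = Finsupp.single j 1 := by
        obtain ⟨j, hj⟩ : ∃ j, d j ≠ 0 := by
          by_contra hne
          push Not at hne
          have : d = 0 := Finsupp.ext hne
          simp [this] at h
        refine ⟨j, (Finsupp.ext fun k => ?_)⟩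
        rw [Finsupp.degree_eq_sum] at h
        by_cases hk : k = j
        · subst hk
          rw [Finsupp.single_eq_same]
          have := Finset.single_le_sum (fun x _ => Nat.zero_le (d x)) (Finset.mem_univ k)
          omega
        · rw [Finsupp.single_eq_of_ne hk]
          have h1 : d j + d k ≤ ∑ x, d x := by
            rw [← Finset.sum_pair (Ne.symm hk)]
            exact Finset.sum_le_sum_of_subset (Finset.subset_univ _)
          omega
      rw [map_sub, e, map_sum, coeff_X]
      simp only [coeff_C_mul]
      have : ∑ x, N i x * coeff (Finsupp.single j 1) (φ (X x)) = (N * M) i j := by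
        simp [Matrix.mul_apply, M]
      rw [this, hNM, Matrix.one_apply]
      by_cases hij : i = j
      · subst hij; simp
      · rw [if_neg hij, if_neg, sub_zero]
        intro h
        exact hij (Finsupp.single_left_injective one_ne_zero h.symm)
  have hψ : ψ = substAlgHom ha.hasSubst := by
    refine PSHom.algHom_ext (PSHom.V n R) (fun i => hV _ ?_) (fun i => ?_)
    · have := ha.constantCoeff_eq i
      rwa [hadef] at this
    · rw [substAlgHom_X, hadef]
  have hψb : Function.Bijective ψ := by
    rw [hψ, coe_substAlgHom]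
    exact Groth.Agent.PSAutoH28.subst_bijective ha
  have hLM : Function.Bijective (L M) :=
    ⟨Function.LeftInverse.injective (g := L N) (fun x => DFunLike.congr_fun (hLL M N hMN) x),
      Function.RightInverse.surjective (g := L N) (fun x => DFunLike.congr_fun (hLL N M hNM) x)⟩
  have : φ = ψ.comp (L M) := by
    rw [hψdef, AlgHom.comp_assoc, hLL M N hMN, AlgHom.comp_id]
  rw [this, AlgHom.coe_comp]
  exact hψb.comp hLM

end Groth.Agent.S10826
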