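import Mathlib.RingTheory.MvPolynomial.Homogeneous
import Mathlib.LinearAlgebra.Dimension.Finrank
import Mathlib.RingTheory.Ideal.Quotient.Basic
import Mathlib.Algebra.MvPolynomial.Eval
import Groth.Agent.Lib.Gems6.Bezout

set_option autoImplicit false
universe u
namespace Variety
end Variety
open Variety

namespace Groth.Agent.S10827

/-- Let k be a field and f, g nonzero homogeneous polynomials of positive degrees n and m in three
variables X, Y, T without common non-unit factor, and assume that f(X, Y, 0) and g(X, Y, 0) are also
without common non-unit factor in k[X, Y] (no common point of the two curves lies on the line T =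
0). Then the quotient of k[X, Y] by the ideal generated by f(X, Y, 1) and g(X, Y, 1) has dimension
n·m over k. (The published statement is that two plane curves without common component have total
intersection number equal to the product of their degrees; its argument moves a line off the
finitely many common points and then proves exactly this affine count, which is what this row
states, over an arbitrary field.) -/
theorem result (k : Type u) [Field k] (n m : ℕ)
    (f g : MvPolynomial (Fin 3) k) (hf : f.IsHomogeneous n) (hg : g.IsHomogeneous m)
    (hn : 0 < n) (hm : 0 < m) (hf0 : f ≠ 0) (hg0 : g ≠ 0) (hfg : IsRelPrime f g)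
    (hT : IsRelPrime
      (MvPolynomial.aeval (Fin.cons (MvPolynomial.X 0) (Fin.cons (MvPolynomial.X 1)
        (Fin.cons 0 Fin.elim0)) : Fin 3 → MvPolynomial (Fin 2) k) f)
      (MvPolynomial.aeval (Fin.cons (MvPolynomial.X 0) (Fin.cons (MvPolynomial.X 1)
        (Fin.cons 0 Fin.elim0)) : Fin 3 → MvPolynomial (Fin 2) k) g)) :
    Module.finrank k (MvPolynomial (Fin 2) k ⧸ Ideal.span
      ({MvPolynomial.aeval (Fin.cons (MvPolynomial.X 0) (Fin.cons (MvPolynomial.X 1)
          (Fin.cons 1 Fin.elim0)) : Fin 3 → MvPolynomial (Fin 2) k) f,
        MvPolynomial.aeval (Fin.cons (MvPolynomial.X 0) (Fin.cons (MvPolynomial.X 1)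
          (Fin.cons 1 Fin.elim0)) : Fin 3 → MvPolynomial (Fin 2) k) g} :
        Set (MvPolynomial (Fin 2) k))) = n * m := by
  have e0 : ∀ c : k, Groth.Agent.Gems6.Bezout.dehom c = MvPolynomial.aeval (Fin.cons (MvPolynomial.X 0) (Fin.cons (MvPolynomial.X 1)
      (Fin.cons (MvPolynomial.C c) Fin.elim0)) : Fin 3 → MvPolynomial (Fin 2) k) := fun c => rfl
  have h := Groth.Agent.Gems6.Bezout.main n m f g hf hg hn hm (by rw [e0, map_zero]; exact hT)
  rw [e0, map_one] at h
  exact h

end Groth.Agent.S10827
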