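import Groth.Statements.S10828
import Mathlib

set_option autoImplicit false
set_option backward.isDefEq.respectTransparency.types false
universe u
open CategoryTheory AlgebraicGeometry
open Variety

namespace Groth.Agent.S10828

/-- Let k be a field, K an algebraic closure of k with its group G of k-automorphisms, and X a k-scheme
locally of finite type. The map sending a K-valued point of X over k to its image point identifies
the closed points of X with the G-orbits in X(K): a point is closed if and only if it is the image
of some K-valued point, and two K-valued points have the same image if and only if one is obtained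
from the other by composing with Spec of a k-automorphism of K. -/
theorem result (k K : Type u) [Field k] [Field K]
    [Algebra k K] [IsAlgClosure k K] {X : Scheme.{u}} (f : X ⟶ Spec (CommRingCat.of k))
    [LocallyOfFiniteType f] :
    (∀ x : X, IsClosed ({x} : Set X) ↔
        ∃ p : Spec (CommRingCat.of K) ⟶ X, p ≫ f = Spec.map (CommRingCat.ofHom (algebraMap k K)) ∧
          p.base (IsLocalRing.closedPoint K) = x) ∧
      ∀ p q : Spec (CommRingCat.of K) ⟶ X,
        p ≫ f = Spec.map (CommRingCat.ofHom (algebraMap k K)) →
        q ≫ f = Spec.map (CommRingCat.ofHom (algebraMap k K)) →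
          (p.base (IsLocalRing.closedPoint K) = q.base (IsLocalRing.closedPoint K) ↔
            ∃ σ : K ≃ₐ[k] K, q = Spec.map (CommRingCat.ofHom σ.toRingHom) ≫ p) := by
  classical
  haveI := IsAlgClosure.isAlgClosed k (K := K)
  haveI : Algebra.IsAlgebraic k K := IsAlgClosure.isAlgebraic
  haveI : Normal k K := IsAlgClosure.normal k K
  haveI : JacobsonSpace X := LocallyOfFiniteType.jacobsonSpace f
  let b : Spec (CommRingCat.of K) ⟶ Spec (CommRingCat.of k) := Spec.map (CommRingCat.ofHom (algebraMap k K))
  haveI : IsIntegralHom b := by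
    rw [IsIntegralHom.SpecMap_iff]
    exact algebraMap_isIntegral_iff.mpr inferInstance
  refine ⟨fun x => ⟨fun hx => ?_, ?_⟩, fun p q hp hq => ⟨fun h => ?_, ?_⟩⟩
  · haveI : IsFinite (X.fromSpecResidueField x ≫ f) := by
      rw [isClosed_singleton_iff_isClosedImmersion] at hx
      rw [isFinite_iff_locallyOfFiniteType_of_jacobsonSpace]
      infer_instance
    let c := Spec.preimage (X.fromSpecResidueField x ≫ f)
    have hcint : c.hom.IsIntegral := by
      rw [← IsIntegralHom.SpecMap_iff, Spec.map_preimage]
      infer_instance
    letI : Algebra k (X.residueField x) := c.hom.toAlgebra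
    haveI : Algebra.IsIntegral k (X.residueField x) := ⟨fun z => hcint z⟩
    let φ : X.residueField x →ₐ[k] K := IsAlgClosed.lift
    refine ⟨Spec.map (CommRingCat.ofHom φ.toRingHom) ≫ X.fromSpecResidueField x, ?_,
      Scheme.fromSpecResidueField_apply x _⟩
    rw [Category.assoc, ← Spec.map_preimage (X.fromSpecResidueField x ≫ f), ← Spec.map_comp]
    exact congrArg Spec.map (CommRingCat.hom_ext (RingHom.ext fun z => φ.commutes z))
  · rintro ⟨p, hp, rfl⟩
    let s : Spec (CommRingCat.of K) ⟶ CategoryTheory.Limits.pullback f b := CategoryTheory.Limits.pullback.lift p (𝟙 _) (by rw [hp, Category.id_comp])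
    have hs := ((AlgebraicGeometry.pointEquivClosedPoint (CategoryTheory.Limits.pullback.snd f b)) ⟨s, CategoryTheory.Limits.pullback.lift_snd _ _ _⟩).2
    have hcl := (CategoryTheory.Limits.pullback.fst f b).isClosedMap _ hs
    rw [AlgebraicGeometry.pointEquivClosedPoint_apply_coe] at hcl
    rwa [Set.image_singleton, ← Scheme.Hom.comp_apply, CategoryTheory.Limits.pullback.lift_fst] at hcl
  · obtain ⟨⟨x, φ⟩, rfl⟩ := (Scheme.SpecToEquivOfField K X).symm.surjective p
    obtain ⟨⟨y, ψ⟩, rfl⟩ := (Scheme.SpecToEquivOfField K X).symm.surjective q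
    simp only [Scheme.SpecToEquivOfField, Equiv.coe_fn_symm_mk] at h hp hq ⊢
    rw [Scheme.Hom.comp_apply, Scheme.Hom.comp_apply, Scheme.fromSpecResidueField_apply,
      Scheme.fromSpecResidueField_apply] at h
    subst h
    let c := Spec.preimage (X.fromSpecResidueField x ≫ f)
    have hφ : c ≫ φ = CommRingCat.ofHom (algebraMap k K) := Spec.map_injective (by
      rw [Spec.map_comp, Spec.map_preimage]; simpa only [Category.assoc] using hp)
    have hψ : c ≫ ψ = CommRingCat.ofHom (algebraMap k K) := Spec.map_injective (by
      rw [Spec.map_comp, Spec.map_preimage]; simpa only [Category.assoc] using hq)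
    letI : Algebra k (X.residueField x) := c.hom.toAlgebra
    let φ' : X.residueField x →ₐ[k] K := { φ.hom with commutes' := fun z => congr($hφ z) }
    let ψ' : X.residueField x →ₐ[k] K := { ψ.hom with commutes' := fun z => congr($hψ z) }
    let e := AlgEquiv.ofInjectiveField φ'
    let χ : φ'.fieldRange →ₐ[k] K := ψ'.comp e.symm.toAlgHom
    letI : Algebra φ'.fieldRange K := φ'.fieldRange.toAlgebra
    let σ₀ : K →ₐ[k] K := χ.liftNormal K
    let σ : K ≃ₐ[k] K := AlgEquiv.ofBijective σ₀ (Algebra.IsAlgebraic.algHom_bijective σ₀)
    refine ⟨σ, ?_⟩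
    rw [← Category.assoc, ← Spec.map_comp]
    refine congrArg (fun z => Spec.map z ≫ X.fromSpecResidueField x) ?_
    refine CommRingCat.hom_ext (RingHom.ext fun z => ?_)
    have h1 := AlgHom.liftNormal_commutes χ K (e z)
    have h2 : χ (e z) = ψ' z := by
      show ψ' (e.symm (e z)) = ψ' z
      exact congrArg ψ' (e.symm_apply_apply z)
    rw [h2] at h1
    exact h1.symm
  · rintro ⟨σ, rfl⟩
    rw [Scheme.Hom.comp_apply]
    congr 1
    exact (Unique.eq_default _).trans (Unique.eq_default _).symm

end Groth.Agent.S10828
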