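import Groth.Statements.S10832
import Mathlib.AlgebraicGeometry.Artinian
import Mathlib.RingTheory.Jacobson.Artinian
import Mathlib.AlgebraicGeometry.Morphisms.FiniteType
import Mathlib.Tactic.TFAE

set_option autoImplicit false
universe u
open CategoryTheory AlgebraicGeometry Topology
open Variety

namespace Groth.Agent.S10832

/-- For a nonempty scheme X of finite type over a field k the following are equivalent: X has Krull
dimension 0; X is affine with ring of global sections finite over k and equal to the product of all
its local rings via the germ maps; the underlying space of X is discrete; the underlying space of X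
is finite. -/
theorem result (k : Type u) [Field k] {X : Scheme.{u}} [Nonempty X]
    (f : X ⟶ Spec (CommRingCat.of k)) [LocallyOfFiniteType f] [QuasiCompact f] :
    [topologicalKrullDim ↥X = 0,
      IsAffine X ∧ f.appTop.hom.Finite ∧
        Function.Bijective (fun s : Γ(X, ⊤) => fun x : X => X.presheaf.germ ⊤ x trivial s),
      DiscreteTopology ↥X,
      Finite ↥X].TFAE := by
  haveI : IsLocallyNoetherian X := LocallyOfFiniteType.isLocallyNoetherian f
  haveI : CompactSpace X := QuasiCompact.compactSpace_of_compactSpace f
  haveI : JacobsonSpace X := LocallyOfFiniteType.jacobsonSpace f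
  have h0 : (0 : WithBot ℕ∞) ≤ topologicalKrullDim ↥X := by
    haveI : Nonempty (TopologicalSpace.IrreducibleCloseds X) :=
      ⟨⟨closure {Classical.arbitrary X}, isIrreducible_singleton.closure, isClosed_closure⟩⟩
    exact Order.krullDim_nonneg
  tfae_have 1 → 3 := fun h => by
    haveI := IsLocallyArtinian.of_topologicalKrullDim_le_zero h.le
    infer_instance
  tfae_have 3 → 4 := fun h => finite_of_compact_of_discrete
  tfae_have 4 → 1 := fun h => le_antisymm (topologicalKrullDim_zero_of_discreteTopology X) h0
  tfae_have 3 → 2 := fun h => by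
    haveI : Finite X := finite_of_compact_of_discrete
    haveI hAff : IsAffine X := inferInstance
    haveI : IsLocallyArtinian X := IsLocallyArtinian.of_isLocallyNoetherian_of_discreteTopology
    refine ⟨hAff, ?_, ?_, ?_⟩
    · letI : Algebra k Γ(X, ⊤) := ((Scheme.ΓSpecIso (CommRingCat.of k)).inv ≫ f.appTop).hom.toAlgebra
      have hft : f.appTop.hom.FiniteType := HasRingHomProperty.appTop (P := @LocallyOfFiniteType) f inferInstance
      haveI : Algebra.FiniteType k Γ(X, ⊤) := hft.comp
        (RingHom.FiniteType.of_surjective _ (Scheme.ΓSpecIso (CommRingCat.of k)).symm.commRingCatIsoToRingEquiv.surjective)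
      have hfin : ((Scheme.ΓSpecIso (CommRingCat.of k)).inv ≫ f.appTop).hom.Finite :=
        Module.finite_of_isArtinianRing k Γ(X, ⊤)
      exact RingHom.Finite.of_comp_finite (f := (Scheme.ΓSpecIso (CommRingCat.of k)).inv.hom) hfin
    · intro s t hst
      exact TopCat.Presheaf.section_ext X.sheaf ⊤ s t fun x hx => congrFun hst x
    · intro g
      have hrep : ∀ x : X, ∃ s : Γ(X, (⟨{x}, isOpen_discrete _⟩ : X.Opens)),
          X.presheaf.germ (⟨{x}, isOpen_discrete _⟩ : X.Opens) x rfl s = g x := fun x => by
        obtain ⟨V, hV, s, hs⟩ := X.presheaf.exists_germ_eq (g x)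
        refine ⟨X.presheaf.map (homOfLE (show (⟨{x}, isOpen_discrete _⟩ : X.Opens) ≤ V from fun y hy => by
          rw [Set.mem_singleton_iff.mp hy]; exact hV)).op s, ?_⟩
        rw [TopCat.Presheaf.germ_res_apply, hs]
      choose s hs using hrep
      let U : X → X.Opens := fun x => ⟨{x}, isOpen_discrete _⟩
      obtain ⟨t, ht, -⟩ := X.sheaf.existsUnique_gluing' U ⊤ (fun x => homOfLE le_top)
        (fun x _ => TopologicalSpace.Opens.mem_iSup.mpr ⟨x, rfl⟩) s (fun x y => by
          by_cases hxy : x = y
          · subst hxy; rfl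
          · have hbot : U x ⊓ U y = ⊥ := by
              refine le_bot_iff.mp fun z hz => ?_
              exact hxy ((Set.mem_singleton_iff.mp hz.1).symm.trans (Set.mem_singleton_iff.mp hz.2))
            haveI : Subsingleton Γ(X, U x ⊓ U y) := by rw [hbot]; infer_instance
            exact Subsingleton.elim (α := Γ(X, U x ⊓ U y)) _ _)
      refine ⟨t, funext fun x => ?_⟩
      have h1 := TopCat.Presheaf.germ_res_apply X.presheaf (homOfLE (le_top : U x ≤ ⊤)) x (Set.mem_singleton x) t
      rw [show X.presheaf.map (homOfLE (le_top : U x ≤ ⊤)).op t = s x from ht x] at h1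
      exact h1.symm.trans (hs x)
  tfae_have 2 → 3 := fun h => by
    obtain ⟨haff, hfin, -⟩ := h
    letI : Algebra k Γ(X, ⊤) := ((Scheme.ΓSpecIso (CommRingCat.of k)).inv ≫ f.appTop).hom.toAlgebra
    haveI : Module.Finite k Γ(X, ⊤) :=
      hfin.comp (RingHom.Finite.of_surjective _ (Scheme.ΓSpecIso (CommRingCat.of k)).symm.commRingCatIsoToRingEquiv.surjective)
    haveI : IsArtinianRing Γ(X, ⊤) := IsArtinianRing.of_finite k Γ(X, ⊤)
    exact X.isoSpec.hom.homeomorph.symm.discreteTopology
  tfae_finish

end Groth.Agent.S10832
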