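import Groth.Statements.S10833
import Groth.Agent.Lib.VarDim.Alg
import Mathlib.Tactic.Abel

set_option autoImplicit false
universe u
open Variety

namespace Groth.Agent.S10833

/-- Let k be a field and A a k-algebra of finite type that is an integral domain. Then every chain of
prime ideals of A admitting no refinement — it starts at the zero ideal, ends at a maximal ideal,
and no prime ideal lies strictly between two consecutive members — has length equal to the Krull
dimension of A. -/
theorem result (k A : Type u) [Field k] [CommRing A]
    [IsDomain A] [Algebra k A] [Algebra.FiniteType k A] (c : LTSeries (PrimeSpectrum A))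
    (h0 : c.head.asIdeal = ⊥) (hmax : c.last.asIdeal.IsMaximal)
    (hsat : ∀ i : Fin c.length, c i.castSucc ⋖ c i.succ) :
    (c.length : WithBot ℕ∞) = ringKrullDim A := by
  have hstep : ∀ i : Fin (c.length + 1),
      Order.coheight (c i) + ((i : ℕ) : ℕ∞) = Order.coheight c.head := by
    intro i
    induction i using Fin.induction with
    | zero =>
      rw [Fin.val_zero, Nat.cast_zero, add_zero]
      rfl
    | succ i ih =>
      rw [← ih, Groth.Agent.VarDim.coheight_covBy k A (hsat i), Fin.val_succ, Fin.val_castSucc, Nat.cast_add, Nat.cast_one]
      abel
  have hlast : Order.coheight c.last = 0 := by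
    refine Order.coheight_eq_zero.mpr fun q hq => ?_
    exact le_of_eq (PrimeSpectrum.ext (hmax.eq_of_le q.2.ne_top hq)).symm
  have hhead : c.head = ⊥ := PrimeSpectrum.ext h0
  have h : Order.coheight c.head = (c.length : ℕ∞) := by
    rw [← hstep (Fin.last _), show c (Fin.last _) = c.last from rfl, hlast, zero_add, Fin.val_last]
  rw [ringKrullDim, ← Order.coheight_bot_eq_krullDim, ← hhead, h]
  rfl

end Groth.Agent.S10833
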