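import Groth.Statements.S10834
import Mathlib
import Groth.Agent.Lib.Goren.Basic
import Groth.Agent.Lib.FlatDepth.RkFlat
import Groth.Agent.Lib.RegLoc.Quotient
import Groth.Agent.Lib.Depth.CM

set_option autoImplicit false
universe u
open CAlg

namespace Groth.Agent.S10834

/-- Let A be a Noetherian ring whose localizations at all prime ideals are regular local rings, and f an
element of A generating a prime ideal, so that A/(f) is an integral domain (an integral hypersurface
in the regular affine scheme Spec A). Then A/(f) is normal (integrally closed in its fraction field)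
if and only if it is regular in codimension 1, i.e. its localization at every prime at which the
local ring has dimension 1 is a regular local ring. -/
theorem result (A : Type u) [CommRing A]
    [IsNoetherianRing A] (hreg : ∀ (p : Ideal A) (_ : p.IsPrime), IsRegularLocalRing (Localization.AtPrime p))
    (f : A) (hf : (Ideal.span ({f} : Set A)).IsPrime) :
    IsIntegrallyClosed (A ⧸ Ideal.span ({f} : Set A)) ↔
      ∀ q : PrimeSpectrum (A ⧸ Ideal.span ({f} : Set A)),
        ringKrullDim (Localization.AtPrime q.asIdeal) = 1 →
          IsRegularLocalRing (Localization.AtPrime q.asIdeal) := by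
  haveI := hf
  let R := A ⧸ Ideal.span ({f} : Set A)
  constructor
  · intro hic q hq
    have hn : ∀ (p : Ideal R) [p.IsPrime], IsDomain (Localization.AtPrime p) ∧
        IsIntegrallyClosed (Localization.AtPrime p) := fun p _ =>
      ⟨IsLocalization.isDomain_localization p.primeCompl_le_nonZeroDivisors,
        isIntegrallyClosed_of_isLocalization _ p.primeCompl p.primeCompl_le_nonZeroDivisors⟩
    refine ((SerreCrit.normal_iff (R := R)).1 hn).1 q.asIdeal ?_
    rw [IsLocalization.AtPrime.ringKrullDim_eq_height q.asIdeal] at hq
    exact_mod_cast hq.le
  · intro h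
    refine IsIntegrallyClosed.of_localization_maximal fun p _ _ => ?_
    have hR1 : ∀ (P : Ideal R) [P.IsPrime], P.height ≤ 1 → IsRegularLocalRing (Localization.AtPrime P) := by
      intro P _ hP
      rcases (lt_or_eq_of_le hP) with hlt | heq
      · have hbot : P = ⊥ := by
          rw [← Ideal.height_eq_zero_iff_eq_bot]
          exact Order.lt_one_iff.1 hlt
        subst hbot
        haveI : IsDomain (Localization.AtPrime (⊥ : Ideal R)) :=
          IsLocalization.isDomain_localization (Ideal.primeCompl_le_nonZeroDivisors _)
        have hfld : IsField (Localization.AtPrime (⊥ : Ideal R)) := by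
          rw [IsLocalRing.isField_iff_maximalIdeal_eq, ← Localization.AtPrime.map_eq_maximalIdeal, Ideal.map_bot]
        letI := hfld.toField
        infer_instance
      · refine h ⟨P, inferInstance⟩ ?_
        rw [IsLocalization.AtPrime.ringKrullDim_eq_height P, heq]
        rfl
    have hS2 : LocCoh.HasSk 2 R R := (SerreCrit.hasSk_iff_height 2).2 fun P _ => by
      let P₀ := P.comap (Ideal.Quotient.mk (Ideal.span ({f} : Set A)))
      let B := Localization.AtPrime P₀
      let f' := algebraMap A B f
      haveI : IsRegularLocalRing B := hreg P₀ inferInstance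
      haveI : IsDomain B := RegLoc.isDomain B
      let e := RegLoc.localizationQuotientEquiv (Ideal.span ({f} : Set A)) P
      have hmap : (Ideal.span ({f} : Set A)).map (algebraMap A B) = Ideal.span {f'} := by
        rw [Ideal.map_span, Set.image_singleton]
      have hfP : f' ∈ IsLocalRing.maximalIdeal B := by
        rw [← Localization.AtPrime.map_eq_maximalIdeal]
        exact Ideal.mem_map_of_mem _ (by
          show Ideal.Quotient.mk _ f ∈ P
          rw [Ideal.Quotient.eq_zero_iff_mem.2 (Ideal.mem_span_singleton_self f)]
          exact zero_mem _)
      haveI : IsLocalRing (B ⧸ Ideal.span {f'}) := RegLoc.isLocalRing_quotient fun ht =>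
        (IsLocalRing.maximalIdeal.isMaximal B).ne_top (top_le_iff.1 (ht ▸ (Ideal.span_singleton_le_iff_mem _).2 hfP))
      let e' : B ⧸ Ideal.span {f'} ≃+* Localization.AtPrime P := (Ideal.quotEquivOfEq hmap.symm).trans e
      suffices FlatDepth.SkIneq 2 (Localization.AtPrime P) by
        rw [FlatDepth.SkIneq, IsLocalization.AtPrime.ringKrullDim_eq_height P] at this
        rw [← WithBot.coe_le_coe, WithBot.coe_min]
        exact this
      refine FlatDepth.SkIneq.congr e' ?_
      have hcm := (DepthLib.isCohenMacaulayLocalRing_of_isRegularLocalRing (R := B)).supportDim_eq_depth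
      rw [Module.supportDim_self_eq_ringKrullDim] at hcm
      unfold FlatDepth.SkIneq
      by_cases h0 : f' = 0
      · have e0 : B ⧸ Ideal.span {f'} ≃+* B := (Ideal.quotEquivOfEq (by simp [h0])).trans (RingEquiv.quotientBot B)
        refine FlatDepth.SkIneq.congr e0.symm ?_
        exact (min_le_right _ _).trans hcm.le
      · have hr : IsSMulRegular B f' := IsSMulRegular.of_ne_zero h0
        have h1 := GorenLib.depth_quotient_add_one hfP hr
        have h2 := GorenLib.ringKrullDim_quotient_add_one hfP hr
        refine (min_le_right _ _).trans (DepthLib.withBot_add_coe_cancel 1 ?_)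
        rw [← h1] at hcm
        rw [WithBot.coe_add] at hcm
        rw [← h2] at hcm
        exact_mod_cast hcm.le
    exact ((SerreCrit.normal_iff (R := R)).2 ⟨fun P _ hP => hR1 P (by exact_mod_cast hP), hS2⟩ p).2

end Groth.Agent.S10834
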