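import Groth.Statements.S9680
import Groth.Agent.Lib.Birat12.Basic
import Groth.Agent.Lib.LfpSpread12.Basic

set_option autoImplicit false
universe u
open CategoryTheory CategoryTheory.Limits AlgebraicGeometry
open Mor

namespace Groth.Agent.S9680

/-- Suppose X and Y are irreducible S-schemes, each locally of finite presentation over S, with generic
points x and y. Then X and Y are S-birational (they admit S-isomorphic nonempty opens) if and only
if x and y map to the same point s of S and the local rings of X at x and of Y at y are isomorphic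
as algebras over the local ring of S at s. -/
theorem result {S X Y : Scheme.{u}}
    [IrreducibleSpace ↥X] [IrreducibleSpace ↥Y] (sX : X ⟶ S) (sY : Y ⟶ S)
    [LocallyOfFinitePresentation sX] [LocallyOfFinitePresentation sY] :
    Scheme.BirationalOver sX sY ↔
      ∃ (hs : sX.base (genericPoint ↥X) = sY.base (genericPoint ↥Y))
        (e : X.presheaf.stalk (genericPoint ↥X) ≅ Y.presheaf.stalk (genericPoint ↥Y)),
        sX.stalkMap (genericPoint ↥X) ≫ e.hom =
          eqToHom (congrArg S.presheaf.stalk hs) ≫ sY.stalkMap (genericPoint ↥Y) := by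
  refine ⟨Birat12.exists_stalk_iso sX sY, ?_⟩
  rintro ⟨hs, e, he⟩
  have h := (Birat12.stalk_eq_iff sX sY _ _ e.hom hs).1 he
  have h' : (Spec.map (inv e.hom) ≫ Y.fromSpecStalk (genericPoint Y)) ≫ sY =
      X.fromSpecStalk (genericPoint X) ≫ sX := by
    rw [Category.assoc, ← h, ← Spec.map_comp_assoc, IsIso.hom_inv_id, Spec.map_id, Category.id_comp]
  obtain ⟨U, hU, f, hf, hfS⟩ := LfpSpread12.exists_spread' sX sY _ h'
  obtain ⟨V, hV, g, hg, hgS⟩ := LfpSpread12.exists_spread' sY sX
    (Spec.map e.hom ≫ X.fromSpecStalk (genericPoint X)) ((Category.assoc _ _ _).trans h)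
  exact Birat12.birationalOver_of_spread sX sY e.hom U hU f hf hfS V hV g hg hgS


end Groth.Agent.S9680
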