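import Groth.Statements.S10835
import Groth.Agent.Lib.Hyp18.Field
import Groth.Agent.Lib.Curve17.SepGen
import Groth.Agent.S9680
import Groth.Agent.Lib.RegSmooth17.Scheme

set_option autoImplicit false
universe u
open CategoryTheory AlgebraicGeometry
attribute [local instance] Curv2.stalkAlgebra
open Variety

namespace Groth.Agent.S10835

/-- Let k be a field and X an integral scheme of finite type over k whose function field admits a
transcendence basis s_1, …, s_d over k over which it is separable algebraic (this holds whenever the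
function field is a separable extension of k in the sense of field theory, e.g. for k perfect, and
then d = dim X). Then some nonempty open subscheme of X is isomorphic, over k, to a nonempty open
subscheme of Spec k[T_1, …, T_d][T]/(g) for a monic polynomial g over k[T_1, …, T_d] which is
irreducible and separable over the fraction field k(T_1, …, T_d). -/
theorem result (k : Type u) [Field k]
    (X : Scheme.{u}) [X.Over (Spec (CommRingCat.of k))] [IsIntegral X]
    [LocallyOfFiniteType (X ↘ Spec (CommRingCat.of k))] [QuasiCompact (X ↘ Spec (CommRingCat.of k))]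
    (d : ℕ) (s : Fin d → X.presheaf.stalk (genericPoint X)) (hs : IsTranscendenceBasis k s)
    (hsep : Algebra.IsSeparable ↥(IntermediateField.adjoin k (Set.range s)) (X.presheaf.stalk (genericPoint X))) :
    ∃ (g : Polynomial (MvPolynomial (Fin d) k)), g.Monic ∧
      Irreducible (g.map (algebraMap (MvPolynomial (Fin d) k) (FractionRing (MvPolynomial (Fin d) k)))) ∧
      (g.map (algebraMap (MvPolynomial (Fin d) k) (FractionRing (MvPolynomial (Fin d) k)))).Separable ∧
      ∃ (U : X.Opens) (V : (Spec (CommRingCat.of (AdjoinRoot g))).Opens) (e : (U : Scheme.{u}) ≅ (V : Scheme.{u})),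
        (U : Set X).Nonempty ∧ (V : Set (Spec (CommRingCat.of (AdjoinRoot g)))).Nonempty ∧
        e.hom ≫ V.ι ≫ Spec.map (CommRingCat.ofHom (algebraMap k (AdjoinRoot g))) =
          U.ι ≫ (X ↘ Spec (CommRingCat.of k)) := by
  have hbs : (Groth.Agent.Curve17.baseStalk (X ↘ Spec (CommRingCat.of k)) (genericPoint X)).hom =
      Curv2.stalkMap k X (genericPoint X) := rfl
  haveI : Algebra.EssFiniteType k X.functionField := by
    have := Groth.Agent.Curve17.essFiniteType_functionField (X ↘ Spec (CommRingCat.of k))
    exact this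
  obtain ⟨g, hg, hirr, hsepg, φ, hφ, hfrac⟩ :=
    Groth.Agent.Hyp18.exists_hypersurface k X.functionField d s hs hsep
  refine ⟨g, hg, hirr, hsepg, ?_⟩
  haveI : IsDomain (AdjoinRoot g) := hφ.isDomain φ.toRingHom
  let D := CommRingCat.of (AdjoinRoot g)
  haveI : IsDomain ↥D := inferInstanceAs (IsDomain (AdjoinRoot g))
  letI : Algebra (AdjoinRoot g) X.functionField := φ.toRingHom.toAlgebra
  haveI : FaithfulSMul (AdjoinRoot g) X.functionField :=
    (faithfulSMul_iff_algebraMap_injective _ _).2 hφ
  haveI : IsFractionRing (AdjoinRoot g) X.functionField := IsFractionRing.of_field _ _ hfrac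
  haveI : IrreducibleSpace ↥(Spec D) := inferInstanceAs (IrreducibleSpace (PrimeSpectrum D))
  letI : Algebra (AdjoinRoot g) (Spec D).functionField :=
    AlgebraicGeometry.instAlgebraCarrierFunctionFieldSpec D
  haveI : IsFractionRing (AdjoinRoot g) (Spec D).functionField :=
    functionField_isFractionRing_of_affine D
  let ε := IsLocalization.algEquiv (nonZeroDivisors (AdjoinRoot g)) X.functionField (Spec D).functionField
  let sY : Spec D ⟶ Spec (CommRingCat.of k) := Spec.map (CommRingCat.ofHom (algebraMap k (AdjoinRoot g)))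
  haveI : LocallyOfFinitePresentation (X ↘ Spec (CommRingCat.of k)) :=
    LocallyOfFinitePresentation.iff_locallyOfFiniteType.2 inferInstance
  haveI : Algebra.FiniteType k (AdjoinRoot g) :=
    Algebra.FiniteType.trans (S := MvPolynomial (Fin d) k) inferInstance inferInstance
  haveI : LocallyOfFiniteType sY :=
    HasRingHomProperty.Spec_iff.2 (RingHom.finiteType_algebraMap.2 inferInstance)
  haveI : LocallyOfFinitePresentation sY :=
    LocallyOfFinitePresentation.iff_locallyOfFiniteType.2 inferInstance
  haveI : Subsingleton ↥(Spec (CommRingCat.of k)) := inferInstanceAs (Subsingleton (PrimeSpectrum k))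
  have hpt : (X ↘ Spec (CommRingCat.of k)).base (genericPoint X) = sY.base (genericPoint ↥(Spec D)) :=
    Subsingleton.elim _ _
  have hcond : (X ↘ Spec (CommRingCat.of k)).stalkMap (genericPoint X) ≫ ε.toRingEquiv.toCommRingCatIso.hom =
      eqToHom (congrArg (Spec (CommRingCat.of k)).presheaf.stalk hpt) ≫ sY.stalkMap (genericPoint ↥(Spec D)) := by
    apply (Spec (CommRingCat.of k)).presheaf.stalk_hom_ext
    intro U hxU
    obtain rfl : U = ⊤ :=
      TopologicalSpace.Opens.ext (Set.eq_univ_of_forall fun y => Subsingleton.elim _ y ▸ hxU)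
    rw [← cancel_epi (Scheme.ΓSpecIso (CommRingCat.of k)).inv]
    have hgx := Scheme.Hom.germ_stalkMap (X ↘ Spec (CommRingCat.of k)) ⊤ (genericPoint X) trivial
    have hgy := Scheme.Hom.germ_stalkMap sY ⊤ (genericPoint ↥(Spec D)) trivial
    have hg' : ∀ (a b : ↥(Spec (CommRingCat.of k))) (h : a = b),
        (Spec (CommRingCat.of k)).presheaf.germ ⊤ a trivial ≫
          eqToHom (congrArg (Spec (CommRingCat.of k)).presheaf.stalk h) =
        (Spec (CommRingCat.of k)).presheaf.germ ⊤ b trivial := by
      rintro a b rfl; simp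
    rw [← Category.assoc ((Spec (CommRingCat.of k)).presheaf.germ ⊤ _ hxU), hgx,
      reassoc_of% (hg' _ _ hpt), hgy]
    refine CommRingCat.hom_ext (RingHom.ext fun r => ?_)
    have h2 : (Scheme.ΓSpecIso (CommRingCat.of k)).inv ≫ sY.appTop =
        CommRingCat.ofHom (algebraMap k (AdjoinRoot g)) ≫ (Scheme.ΓSpecIso D).inv :=
      (Scheme.ΓSpecIso_inv_naturality _).symm
    show ε (Curv2.stalkMap k X (genericPoint X) r) =
      (((Scheme.ΓSpecIso (CommRingCat.of k)).inv ≫ sY.appTop) ≫ (Spec D).presheaf.germ ⊤ (genericPoint ↥(Spec D)) trivial).hom r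
    rw [h2, show Curv2.stalkMap k X (genericPoint X) r =
      algebraMap (AdjoinRoot g) X.functionField (algebraMap k (AdjoinRoot g) r) from (φ.commutes r).symm,
      ε.commutes]
    rfl
  obtain ⟨ψ, hψ⟩ := (Groth.Agent.S9680.result (X ↘ Spec (CommRingCat.of k)) sY).2
    ⟨hpt, ε.toRingEquiv.toCommRingCatIso, hcond⟩
  exact ⟨ψ.source, ψ.target, ψ.iso, ψ.dense_source.nonempty, ψ.dense_target.nonempty, hψ⟩

end Groth.Agent.S10835
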