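import Groth.Statements.S10836
import Mathlib.RingTheory.Spectrum.Prime.FreeLocus
import Mathlib.RingTheory.Localization.Free
import Mathlib.RingTheory.LocalRing.Module
import Mathlib.RingTheory.Ideal.Operations
import Mathlib.RingTheory.Flat.Stability
import Mathlib.RingTheory.Localization.AtPrime.Basic
-- import your own Groth.Agent.* helpers here

set_option autoImplicit false
universe u
open Coh

namespace Groth.Agent.S10836

/-- Let A be a commutative ring, M a finitely generated projective A-module whose rank at every prime is
r, and Z a finite set of prime ideals of A. Then there is an element s of A outside every prime of Z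
such that the localized module M_s has a basis of r elements over A_s. (The published statement is
for a finite locally free module of constant rank r on a scheme and a finite set of points inside an
affine open Spec A, and produces a basic open D(s) containing the points on which the module is free
of rank r; its argument begins by replacing the scheme with Spec A, and this row states that case.) -/
theorem result (A : Type u) [CommRing A]
    (M : Type u) [AddCommGroup M] [Module A M] [Module.Finite A M] [Module.Projective A M] (r : ℕ)
    (hr : ∀ p : PrimeSpectrum A, Module.rankAtStalk M p = r)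
    (Z : Set (PrimeSpectrum A)) (hZ : Z.Finite) :
    ∃ s : A, (∀ p ∈ Z, s ∉ p.asIdeal) ∧
      Nonempty (Module.Basis (Fin r) (Localization.Away s) (LocalizedModule (Submonoid.powers s) M)) := by
  classical
  let S : Submonoid A :=
    { carrier := {a | ∀ p ∈ Z, a ∉ p.asIdeal}
      one_mem' := fun p _ h => p.2.ne_top ((Ideal.eq_top_iff_one _).2 h)
      mul_mem' := fun {a b} ha hb p hp h => (p.2.mem_or_mem h).elim (ha p hp) (hb p hp) }
  let R := Localization S
  let N := LocalizedModule S M
  have hb : IsBaseChange R (LocalizedModule.mkLinearMap S M) := LocalizedModule.isBaseChange S M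
  haveI : Module.Finite R N := Module.Finite.of_isLocalizedModule S (LocalizedModule.mkLinearMap S M)
  haveI : Module.Flat R N := Module.Flat.isBaseChange A R M N hb
  haveI : Finite (MaximalSpectrum R) := by
    haveI : Finite Z := hZ.to_subtype
    have key : ∀ P : MaximalSpectrum R, ∃ p : Z, P.asIdeal.comap (algebraMap A R) ≤ p.1.asIdeal := by
      intro P
      let q₀ : PrimeSpectrum A := ⟨P.asIdeal.comap (algebraMap A R), Ideal.IsPrime.comap _⟩
      have hd : ((P.asIdeal.comap (algebraMap A R) : Ideal A) : Set A) ⊆
          ⋃ p ∈ (hZ.toFinset : Set (PrimeSpectrum A)), (p.asIdeal : Set A) := by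
        intro a ha
        by_contra hn
        have hS : a ∈ S := fun p hp hap => hn (Set.mem_biUnion (hZ.mem_toFinset.2 hp) hap)
        exact P.2.ne_top (Ideal.eq_top_of_isUnit_mem _ ha (IsLocalization.map_units R ⟨a, hS⟩))
      rw [Ideal.subset_union_prime (f := fun p : PrimeSpectrum A => p.asIdeal) q₀ q₀
        fun p _ _ _ => p.2] at hd
      obtain ⟨p, hp, hle⟩ := hd
      exact ⟨⟨p, hZ.mem_toFinset.1 hp⟩, hle⟩
    choose g hg using key
    refine Finite.of_injective g fun P Q h => ?_
    have e : ∀ P : MaximalSpectrum R, P.asIdeal = ((g P).1.asIdeal).map (algebraMap A R) := by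
      intro P
      refine P.2.eq_of_le ?_ ?_
      · exact (IsLocalization.isPrime_of_isPrime_disjoint S R _ (g P).1.2
          (Set.disjoint_left.2 fun a ha hap => ha _ (g P).2 hap)).ne_top
      · rw [← IsLocalization.map_comap S R P.asIdeal]
        exact Ideal.map_mono (hg P)
    exact MaximalSpectrum.ext ((e P).trans (h ▸ (e Q).symm))
  have rk : ∀ P : MaximalSpectrum R, Module.finrank (R ⧸ P.1) (TensorProduct R (R ⧸ P.1) N) = r := by
    intro P
    letI := Ideal.Quotient.field P.1
    have h := congrFun (Module.rankAtStalk_eq_finrank_of_free (R := R ⧸ P.1)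
      (M := TensorProduct R (R ⧸ P.1) N)) ⟨⊥, Ideal.isPrime_bot⟩
    rw [Module.rankAtStalk_baseChange, Module.rankAtStalk_isBaseChange hb, hr] at h
    simpa using h.symm
  obtain ⟨b⟩ := Module.nonempty_basis_of_flat_of_finrank_eq R N r rk
  haveI : Module.FinitePresentation A M := Module.finitePresentation_of_projective A M
  obtain ⟨s, hs, b', -⟩ := Module.FinitePresentation.exists_basis_localizedModule_powers
    S (LocalizedModule.mkLinearMap S M) R b
  exact ⟨s, hs, ⟨b'⟩⟩

end Groth.Agent.S10836
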