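import Groth.Statements.S10838
import Groth.Agent.Lib.H12.DimZero

set_option autoImplicit false
universe u
open CategoryTheory AlgebraicGeometry Topology
open Mor

namespace Groth.Agent.S10838

/-- For a morphism of schemes f : X → Y which is open as a map of topological spaces, the Krull
dimension of the image f(X) (with the subspace topology from Y) is at most the Krull dimension of X. -/
theorem result {X Y : Scheme.{u}} (f : X ⟶ Y) (hf : IsOpenMap f.base) :
    topologicalKrullDim ↥(Set.range f.base) ≤ topologicalKrullDim ↥X := by
  have hg := H12.generalizingMap_of_isOpenMap f hf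
  let U : Y.Opens := ⟨Set.range f.base, hf.isOpen_range⟩
  have : QuasiSober ↥(Set.range f.base) := U.2.isOpenEmbedding_subtypeVal.quasiSober
  refine H12.topologicalKrullDim_le_of_surjective_of_lift (Set.rangeFactorization f.base)
    Set.rangeFactorization_surjective (Or.inr fun x y h => ?_)
  obtain ⟨x', hx', hfx'⟩ := hg (show y.1 ⤳ f.base x from h.map continuous_subtype_val)
  exact ⟨x', hx', Subtype.ext hfx'⟩

end Groth.Agent.S10838
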