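import Groth.Statements.S10839
import Groth.Agent.Lib.VarDim.Top
import Mathlib.AlgebraicGeometry.Morphisms.ClosedImmersion

set_option autoImplicit false
universe u
open CategoryTheory AlgebraicGeometry Topology
open Variety

namespace Groth.Agent.S10839

/-- A closed immersion i : Y → X into an integral scheme X with dim X = dim Y < ∞ is an isomorphism. -/
theorem result {X Y : Scheme.{u}} (i : Y ⟶ X)
    [IsClosedImmersion i] [IsIntegral X] (hfin : topologicalKrullDim ↥X ≠ ⊤)
    (hdim : topologicalKrullDim ↥X = topologicalKrullDim ↥Y) : IsIso i := by
  have hhomeo := i.isClosedEmbedding.isEmbedding.toHomeomorph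
  have hY : topologicalKrullDim ↥Y = topologicalKrullDim ↥(Set.range i) :=
    hhomeo.isHomeomorph.topologicalKrullDim_eq
  have hclosed : IsClosed (Set.range i) := i.isClosedEmbedding.isClosed_range
  have hη : genericPoint X ∈ Set.range i := by
    by_contra hcon
    rw [hY, Groth.Agent.VarDim.topologicalKrullDim_isClosed_eq_iSup_height hclosed,
      Groth.Agent.VarDim.topologicalKrullDim_eq_height_genericPoint] at hdim
    rw [Groth.Agent.VarDim.topologicalKrullDim_eq_height_genericPoint] at hfin
    generalize hg : Order.height (genericPoint X) = n at hdim hfin
    have hlt : ∀ z : Set.range i, Order.height (z : X) + 1 ≤ n := fun z => hg ▸ Order.height_add_one_le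
      (Groth.Agent.VarDim.lt_of_specializes_ne (genericPoint_specializes _) fun e => hcon (e ▸ z.2))
    cases n with
    | top => exact hfin rfl
    | coe n =>
      cases n with
      | zero =>
        cases isEmpty_or_nonempty (Set.range i) with
        | inl h => rw [ciSup_of_empty] at hdim; exact WithBot.coe_ne_bot hdim
        | inr h =>
          obtain ⟨z⟩ := h
          simpa using hlt z
      | succ n =>
        have hle : ∀ z : Set.range i, ((Order.height (z : X) : ℕ∞) : WithBot ℕ∞) ≤ ((n : ℕ∞) : WithBot ℕ∞) := fun z => by
          have h := hlt z
          generalize Order.height (z : X) = m at h ⊢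
          cases m with
          | top => simp at h
          | coe m => exact_mod_cast Nat.le_of_add_le_add_right (by exact_mod_cast h : m + 1 ≤ n + 1)
        have h2 := iSup_le hle
        rw [← hdim] at h2
        have : n + 1 ≤ n := by exact_mod_cast h2
        omega
  haveI : Surjective i := ⟨fun x => hclosed.closure_subset_iff.mpr (Set.singleton_subset_iff.mpr hη)
    (by rw [genericPoint_spec X |>.def]; trivial)⟩
  exact isIso_of_isClosedImmersion_of_surjective i

end Groth.Agent.S10839
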