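import Groth.Statements.S10840
import Groth.Agent.Lib.ProjDim27.Basic
-- import your own Groth.Agent.* helpers here

set_option autoImplicit false
universe u
open AlgebraicGeometry Topology
open Variety

namespace Groth.Agent.S10840

/-- For a field k and nonzero homogeneous polynomials f, g of positive degrees in three variables, the
common zero set V_+(f, g) in the projective plane over k is zero-dimensional as a topological
subspace exactly when f and g are coprime, i.e. their only common divisors are the non-zero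
constants. -/
theorem result (k : Type u) [Field k] (n m : ℕ)
    (f g : MvPolynomial (Fin 3) k) (hf : f.IsHomogeneous n) (hg : g.IsHomogeneous m)
    (hn : 0 < n) (hm : 0 < m) (hf0 : f ≠ 0) (hg0 : g ≠ 0) :
    topologicalKrullDim ↥(ProjectiveSpectrum.zeroLocus (CohB1.polyGrading 2 k)
        ({f, g} : Set (MvPolynomial (Fin 3) k))) = 0 ↔ IsRelPrime f g := by
  classical
  let V := ProjectiveSpectrum.zeroLocus (CohB1.polyGrading 2 k) ({f, g} : Set (MvPolynomial (Fin 3) k))
  have hVc : IsClosed V := ProjectiveSpectrum.isClosed_zeroLocus _ _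
  haveI : IsDomain (MvPolynomial (Fin 3) k) := inferInstance
  constructor
  · intro h0
    refine WfDvdMonoid.isRelPrime_of_no_irreducible_factors (fun ⟨hfz, _⟩ => hf0 hfz) fun p hp hpf hpg => ?_
    have hpp : Prime p := hp.prime
    let P : Ideal (MvPolynomial (Fin (2 + 1)) k) := Ideal.span {p}
    haveI hPp : P.IsPrime := (Ideal.span_singleton_prime hpp.ne_zero).2 hpp
    have hmin : P ∈ (Ideal.span {(f : MvPolynomial (Fin (2 + 1)) k)}).minimalPrimes := by
      refine ⟨⟨hPp, (Ideal.span_singleton_le_iff_mem _).2 (Ideal.mem_span_singleton.2 hpf)⟩, fun Q hQ hle => ?_⟩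
      haveI := hQ.1
      have hfQ : f ∈ Q := hQ.2 (Ideal.mem_span_singleton_self f)
      have hQ0 : Q ≠ ⊥ := fun h => hf0 (by rw [h] at hfQ; exact (Submodule.mem_bot _).1 hfQ)
      obtain ⟨q, hq, hqp⟩ := Ideal.IsPrime.exists_mem_prime_of_ne_bot hQ.1 hQ0
      have hdiv : p ∣ q := Ideal.mem_span_singleton.1 (hle hq)
      exact (Ideal.span_singleton_le_iff_mem _).2 (Q.mem_of_dvd (hpp.associated_of_dvd hqp hdiv).symm.dvd hq)
    have hfh : (Ideal.span {(f : MvPolynomial (Fin (2 + 1)) k)}).IsHomogeneous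
        (MvPolynomial.homogeneousSubmodule (Fin (2 + 1)) k) :=
      Ideal.homogeneous_span _ _ (by
        rintro _ rfl
        exact ⟨n, (MvPolynomial.mem_homogeneousSubmodule _ _).2 hf⟩)
    have hht : P.height ≤ 1 := Ideal.height_le_one_of_isPrincipal_of_mem_minimalPrimes _ _ hmin
    have hne : ¬ ProjDeg17.irr k 2 ≤ P := fun hle => by
      haveI := (ProjDeg17.isMaximal_irr k 2).isPrime
      have h3 := VarDim.height_add_coheight_mvPolynomial k (2 + 1) ⟨ProjDeg17.irr k 2, inferInstance⟩
      have hcz : Order.coheight (⟨ProjDeg17.irr k 2, inferInstance⟩ : PrimeSpectrum (MvPolynomial (Fin (2 + 1)) k)) = 0 := by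
        rw [Order.coheight_eq_zero]
        intro Q hQ
        exact (PrimeSpectrum.asIdeal_le_asIdeal _ _).1 (le_of_eq ((ProjDeg17.isMaximal_irr k 2).eq_of_le Q.isPrime.ne_top hQ).symm)
      rw [hcz, add_zero, ← PrimeSpectrum.height_eq_orderHeight] at h3
      have := (Ideal.height_mono hle).trans hht
      rw [h3] at this
      exact absurd this (by decide)
    let w := Groth.Agent.ProjDim18.mkPt k 2 P hPp (ProjDeg17.isHomogeneous_of_mem_minimalPrimes hfh hmin) hne
    have hw : w ∈ V := by
      intro b hb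
      rcases hb with rfl | rfl
      · exact Ideal.mem_span_singleton.2 hpf
      · exact Ideal.mem_span_singleton.2 hpg
    have h1 := Groth.Agent.ProjDim18.coheight_le_dim k 2 hVc hw
    rw [h0] at h1
    have hc : Order.coheight w = 0 := by
      have : Order.coheight w ≤ 0 := by exact_mod_cast h1
      exact le_antisymm this bot_le
    have h2 := Groth.Agent.ProjDim18.coheight_add_one k 2 w
    rw [hc, zero_add] at h2
    have h3 := VarDim.height_add_coheight_mvPolynomial k (2 + 1) (Groth.Agent.ProjDim18.conePt k 2 w)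
    rw [← h2, ← PrimeSpectrum.height_eq_orderHeight] at h3
    have h4 : ((2 + 1 : ℕ) : ℕ∞) ≤ 1 + 1 := h3 ▸ add_le_add (show (Groth.Agent.ProjDim18.conePt k 2 w).asIdeal.height ≤ 1 from hht) le_rfl
    exact absurd h4 (by decide)
  · intro hrel
    have hz : ∀ z ∈ V, Order.coheight z = 0 := fun z hzV => by
      haveI := z.isPrime
      let Q : Ideal (MvPolynomial (Fin (2 + 1)) k) := z.asHomogeneousIdeal.toIdeal
      have hfQ : f ∈ Q := hzV (Or.inl rfl)
      have hgQ : g ∈ Q := hzV (Or.inr rfl)
      obtain ⟨l, hl, hlf⟩ : ∃ l ∈ Q, Prime l ∧ l ∣ f := by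
        obtain ⟨s, hs, u, hu⟩ := UniqueFactorizationMonoid.exists_prime_factors f hf0
        have hsQ : s.prod ∈ Q := (Q.mul_unit_mem_iff_mem u.isUnit).1 (hu.symm ▸ hfQ)
        obtain ⟨l, hls, hlQ⟩ := ((inferInstance : Q.IsPrime).multiset_prod_mem_iff_exists_mem s).1 hsQ
        exact ⟨l, hlQ, hs l hls, (Multiset.dvd_prod hls).trans ⟨u, hu.symm⟩⟩
      let P : Ideal (MvPolynomial (Fin (2 + 1)) k) := Ideal.span {l}
      haveI hPp : P.IsPrime := (Ideal.span_singleton_prime hlf.1.ne_zero).2 hlf.1
      have hlt : (⟨P, hPp⟩ : PrimeSpectrum (MvPolynomial (Fin (2 + 1)) k)) < Groth.Agent.ProjDim18.conePt k 2 z := by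
        refine lt_of_le_of_ne ((Ideal.span_singleton_le_iff_mem _).2 hl) fun heq => ?_
        have hgP : g ∈ P := by
          rw [show P = Q from congrArg PrimeSpectrum.asIdeal heq]; exact hgQ
        exact hlf.1.not_unit (hrel hlf.2 (Ideal.mem_span_singleton.1 hgP))
      have hbot : (⟨⊥, Ideal.isPrime_bot⟩ : PrimeSpectrum (MvPolynomial (Fin (2 + 1)) k)) < ⟨P, hPp⟩ := by
        refine lt_of_le_of_ne (bot_le (a := P)) fun heq => hlf.1.ne_zero ?_
        exact Ideal.span_singleton_eq_bot.1 (congrArg PrimeSpectrum.asIdeal heq).symm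
      have ht : (2 : ℕ∞) ≤ Order.height (Groth.Agent.ProjDim18.conePt k 2 z) := by
        refine le_trans ?_ (Order.height_add_one_le hlt)
        refine le_trans ?_ (add_le_add (Order.height_add_one_le hbot) le_rfl)
        exact le_trans (le_of_eq one_add_one_eq_two.symm) (add_le_add (self_le_add_left 1 _) le_rfl)
      have h3 := VarDim.height_add_coheight_mvPolynomial k (2 + 1) (Groth.Agent.ProjDim18.conePt k 2 z)
      rw [← Groth.Agent.ProjDim18.coheight_add_one k 2 z] at h3
      obtain ⟨c, hc⟩ := ENat.ne_top_iff_exists.1 (Groth.Agent.ProjDim27.coheight_ne_top k 2 z)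
      rw [← hc] at h3 ⊢
      have h4 : (2 : ℕ∞) + ((c : ℕ∞) + 1) ≤ ((2 + 1 : ℕ) : ℕ∞) := h3 ▸ add_le_add ht le_rfl
      have h5 : 2 + (c + 1) ≤ 2 + 1 := by exact_mod_cast h4
      have : c = 0 := by omega
      exact_mod_cast this
    obtain ⟨x, hx⟩ : V.Nonempty := by
      have hr : Set.range (![f, g] : Fin 2 → MvPolynomial (Fin (2 + 1)) k) = {f, g} := by
        simp [Matrix.range_cons, Matrix.range_empty, Set.pair_comm]
      have key := Groth.Agent.ProjDim18.codim_components_inter_zeroLocus k 2 Set.univ isClosed_univ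
        ?_ ![f, g] ![n, m] (Fin.forall_fin_two.2 ⟨hf, hg⟩) (Fin.forall_fin_two.2 ⟨hn, hm⟩)
      rw [hr, Set.univ_inter] at key
      apply key.2
      · rw [IsHomeomorph.topologicalKrullDim_eq _ (Homeomorph.Set.univ _).isHomeomorph]
        exact (Groth.Agent.ProjDim27.dim_PP k 2).ge
      · exact Groth.Agent.ProjDim27.irreducible_univ k 2
    refine le_antisymm ?_ ?_
    · rw [Groth.Agent.ProjDim18.krullDim_closed k 2 V hVc, Order.krullDim_eq_iSup_coheight]
      refine iSup_le fun y => ?_
      rw [Groth.Agent.ProjDim18.coheight_subtype k 2 hVc y, hz y.1 y.2]; rfl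
    · have := Groth.Agent.ProjDim18.coheight_le_dim k 2 hVc hx
      rw [hz x hx] at this
      exact this


end Groth.Agent.S10840
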