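import Groth.Statements.S10842
-- import your own Groth.Agent.* helpers here

set_option autoImplicit false
universe u
open CategoryTheory AlgebraicGeometry
open Variety

namespace Groth.Agent.S10842

/-- A quasi-compact scheme whose local rings at all closed points are integrally closed domains is
normal, i.e. all of its local rings are integrally closed domains. -/
theorem result (X : Scheme.{u}) [CompactSpace ↥X]
    (h : ∀ x : X, IsClosed ({x} : Set X) →
      IsDomain (X.presheaf.stalk x) ∧ IsIntegrallyClosed (X.presheaf.stalk x)) :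
    Pi1.IsNormalScheme X := by
  intro x
  obtain ⟨z, hz, hzc⟩ := (isClosed_closure (s := ({x} : Set X))).exists_closed_singleton
    ⟨x, subset_closure rfl⟩
  have hsp : x ⤳ z := specializes_iff_mem_closure.mpr hz
  obtain ⟨U, hU, hzU, -⟩ := exists_isAffineOpen_mem_and_subset (U := (⊤ : X.Opens)) (x := z) trivial
  have hxU : x ∈ U := hsp.mem_open U.2 hzU
  letI := TopCat.Presheaf.algebra_section_stalk X.presheaf (⟨x, hxU⟩ : U)
  letI := TopCat.Presheaf.algebra_section_stalk X.presheaf (⟨z, hzU⟩ : U)
  letI : Algebra (X.presheaf.stalk z) (X.presheaf.stalk x) := (X.presheaf.stalkSpecializes hsp).hom.toAlgebra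
  haveI : IsScalarTower Γ(X, U) (X.presheaf.stalk z) (X.presheaf.stalk x) :=
    IsScalarTower.of_algebraMap_eq' (by
      change (X.presheaf.germ U x hxU).hom = (X.presheaf.stalkSpecializes hsp).hom.comp (X.presheaf.germ U z hzU).hom
      rw [← CommRingCat.hom_comp, TopCat.Presheaf.germ_stalkSpecializes])
  haveI := hU.isLocalization_stalk ⟨x, hxU⟩
  haveI := hU.isLocalization_stalk ⟨z, hzU⟩
  haveI : IsLocalization ((hU.primeIdealOf ⟨x, hxU⟩).asIdeal.primeCompl.map
      (algebraMap Γ(X, U) (X.presheaf.stalk z))) (X.presheaf.stalk x) :=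
    IsLocalization.isLocalization_of_submonoid_le (X.presheaf.stalk z) (X.presheaf.stalk x)
      (hU.primeIdealOf ⟨z, hzU⟩).asIdeal.primeCompl _
      (by
        intro s hs
        have hle : (hU.primeIdealOf ⟨x, hxU⟩).asIdeal ≤ (hU.primeIdealOf ⟨z, hzU⟩).asIdeal := by
          have h1 : hU.fromSpec (hU.primeIdealOf ⟨x, hxU⟩) ⤳ hU.fromSpec (hU.primeIdealOf ⟨z, hzU⟩) := by
            rwa [hU.fromSpec_primeIdealOf, hU.fromSpec_primeIdealOf]
          exact (PrimeSpectrum.le_iff_specializes _ _).mpr (hU.fromSpec.isOpenEmbedding.isInducing.specializes_iff.mp h1)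
        exact fun h => hs (hle h))
  obtain ⟨hdom, hic⟩ := h z hzc
  have hne : (hU.primeIdealOf ⟨x, hxU⟩).asIdeal.primeCompl.map (algebraMap Γ(X, U) (X.presheaf.stalk z)) ≤ nonZeroDivisors _ := by
    refine le_nonZeroDivisors_of_noZeroDivisors fun h0 => ?_
    have := IsLocalization.map_units (X.presheaf.stalk x) ⟨0, h0⟩
    simp at this
  refine ⟨IsLocalization.isDomain_of_le_nonZeroDivisors _ hne, ?_⟩
  exact isIntegrallyClosed_of_isLocalization _ _ hne

end Groth.Agent.S10842
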