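import Groth.Statements.S10843
import Groth.Statements.S11566
import Groth.Agent.Lib.Perf25.AltTrace
import Groth.Agent.Lib.VarDim.Alg

set_option autoImplicit false
universe u
open CAlg

namespace Groth.Agent.S10843
open CAlg

/-- For a field k, a nonzero finitely generated k-algebra A and a natural number d, the algebra A has
Krull dimension d exactly when some injective k-algebra map from the polynomial ring in d variables
over k to A makes A a finite module over that polynomial ring. -/
theorem result (k A : Type u) [Field k]
    [CommRing A] [Nontrivial A] [Algebra k A] [Algebra.FiniteType k A] (d : ℕ) :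
    ringKrullDim A = (d : WithBot ℕ∞) ↔
      ∃ φ : MvPolynomial (Fin d) k →ₐ[k] A, φ.toRingHom.Finite ∧ Function.Injective φ := by
  have key : ∀ (s : ℕ) (φ : MvPolynomial (Fin s) k →ₐ[k] A), φ.toRingHom.Finite →
      Function.Injective φ → ringKrullDim A = (s : WithBot ℕ∞) := by
    intro s φ hf hi
    letI : Algebra (MvPolynomial (Fin s) k) A := φ.toRingHom.toAlgebra
    haveI : Module.Finite (MvPolynomial (Fin s) k) A := hf
    exact (Groth.Agent.VarDim.ringKrullDim_eq_of_isIntegral hi).trans
      (Groth.Agent.VarDim.ringKrullDim_mvPolynomial k s)
  constructor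
  · intro h
    obtain ⟨s, g, hi, hf⟩ := exists_finite_inj_algHom_of_fg k A
    have := key s g hf hi
    rw [h] at this
    obtain rfl : d = s := by exact_mod_cast this
    exact ⟨g, hf, hi⟩
  · rintro ⟨φ, hf, hi⟩
    exact key d φ hf hi

end Groth.Agent.S10843
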