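import Groth.Statements.S10844
import Groth.Agent.Lib.ModLimH13.Hom1
import Groth.Agent.Lib.KFlat.Pullback
import Groth.Agent.Lib.DPerf.OneDegree

set_option autoImplicit false
set_option linter.style.haveILetI false
universe u
open RepF

namespace Groth.Agent.S10844

open AlgebraicGeometry CategoryTheory in
/-- For a scheme S and a homomorphism v : E → F of quasi-coherent O_S-modules with F of finite type,
there is an open subscheme U of S such that a morphism of schemes f : T → S factors through U (its
image lies in U) if and only if the pulled-back homomorphism f^*v : f^*E → f^*F is an epimorphism. -/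
theorem result {S : Scheme.{u}} {E F : S.Modules}
    [Coh.IsQCoh E] [Coh.IsQCoh F] (hF : CohB1.IsFT F) (v : E ⟶ F) :
    ∃ U : S.Opens, ∀ (T : Scheme.{u}) (f : T ⟶ S),
      Set.range f.base ⊆ (U : Set S) ↔ Epi ((Scheme.Modules.pullback f).map v) := by
  classical
  let C := Limits.cokernel v
  have hCq : Coh.IsQCoh C := Groth.Agent.M1.isQCoh_cokernel ‹_› ‹_› v
  haveI := hCq
  have hC : CohB1.IsFT C := Groth.Agent.M1.isFT_of_finite_sections hCq fun U hU => by
    haveI := Groth.Agent.M1.finite_sections ‹Coh.IsQCoh F› hF hU
    let q : Γ(F, U) →ₗ[Γ(S, U)] Γ(C, U) :=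
      { toFun := (Limits.cokernel.π v).app U
        map_add' := map_add _
        map_smul' := fun r s => (Limits.cokernel.π v).app_smul r s }
    exact Module.Finite.of_surjective q
      (Groth.Agent.M1.app_surjective_affine_of_isQCoh ‹Coh.IsQCoh F› hCq (Limits.cokernel.π v) hU)
  refine ⟨⟨(CohB1.support C)ᶜ, (Groth.Agent.M1.isClosed_support hC).isOpen_compl⟩, fun T f => ?_⟩
  rw [Groth.Agent.ModLimH13.epi_map_iff, Functor.map_zero]
  let C' := (Scheme.Modules.pullback f).obj C
  haveI := (Scheme.Modules.pullbackPushforwardAdjunction f).leftAdjoint_preservesColimits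
  constructor
  · intro h
    have h0 : Limits.IsZero C' := Groth.Agent.DPerf.isZero_of_stalks fun t => by
      have hs : Subsingleton (C.presheaf.stalk (f t)) := by
        have h2 := h ⟨t, rfl⟩
        exact not_not.1 h2
      haveI := hs
      haveI : Subsingleton (Groth.Agent.M2.BC f t C) := inferInstance
      exact (Groth.Agent.M2.pullStalkEquiv f t C).symm.toEquiv.subsingleton
    exact h0.eq_of_tgt _ _
  · rintro h _ ⟨t, rfl⟩ hmem
    have h0 : Limits.IsZero C' := Limits.IsZero.of_epi_eq_zero _ h
    haveI : Subsingleton (C'.presheaf.stalk t) :=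
      AddCommGrpCat.subsingleton_of_isZero ((Groth.Agent.M1.stalkAb t).map_isZero h0)
    haveI : Subsingleton (Groth.Agent.M2.BC f t C) :=
      (Groth.Agent.M2.pullStalkEquiv f t C).toEquiv.subsingleton
    haveI := Groth.Agent.M1.finite_stalk hCq hC (f t)
    letI : Algebra (S.presheaf.stalk (f t)) (T.presheaf.stalk t) := (f.stalkMap t).hom.toAlgebra
    haveI : IsLocalHom (algebraMap (S.presheaf.stalk (f t)) (T.presheaf.stalk t)) :=
      inferInstanceAs (IsLocalHom (f.stalkMap t).hom)
    let k := IsLocalRing.ResidueField (T.presheaf.stalk t)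
    let κ := IsLocalRing.ResidueField (S.presheaf.stalk (f t))
    haveI hk : Subsingleton (TensorProduct (S.presheaf.stalk (f t)) k (C.presheaf.stalk (f t))) := by
      refine Function.Surjective.subsingleton (f := LinearMap.rTensor (C.presheaf.stalk (f t))
        ((IsScalarTower.toAlgHom (S.presheaf.stalk (f t)) (T.presheaf.stalk t) k).toLinearMap)) ?_
      exact LinearMap.rTensor_surjective _ IsLocalRing.residue_surjective
    haveI : Subsingleton (TensorProduct (S.presheaf.stalk (f t)) κ (C.presheaf.stalk (f t))) := by
      haveI : Subsingleton (TensorProduct κ k (TensorProduct (S.presheaf.stalk (f t)) κ (C.presheaf.stalk (f t)))) :=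
        (TensorProduct.AlgebraTensorModule.cancelBaseChange (S.presheaf.stalk (f t)) κ k k
          (C.presheaf.stalk (f t))).toEquiv.subsingleton
      exact Module.FaithfullyFlat.lTensor_reflects_triviality κ k _
    haveI := IsLocalRing.subsingleton_tensorProduct.1 this
    exact hmem ‹Subsingleton (C.presheaf.stalk (f t))›

end Groth.Agent.S10844
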