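import Groth.Statements.S10845
import Groth.Agent.Lib.VanRep13.Main
import Groth.Agent.Lib.KFlat.LpullPC
import Groth.Agent.Lib.ModLimH13.LocFree

set_option autoImplicit false
universe u
open RepF

namespace Groth.Agent.S10845

open AlgebraicGeometry CategoryTheory in
/-- For a scheme S and a homomorphism v : E → F of quasi-coherent O_S-modules with F finite locally
free, there is a quasi-coherent ideal sheaf on S whose closed subscheme Z has the property that a
morphism of schemes f : T → S factors through the inclusion Z → S if and only if the pulled-back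
homomorphism f^*v : f^*E → f^*F is zero. -/
theorem result {S : Scheme.{u}} {E F : S.Modules}
    [Coh.IsQCoh E] [Coh.IsQCoh F] (hF : FlatMod.IsFinLocFree F) (v : E ⟶ F) :
    ∃ I : S.IdealSheafData, ∀ (T : Scheme.{u}) (f : T ⟶ S),
      (∃ g : T ⟶ I.subscheme, g ≫ I.subschemeι = f) ↔ (Scheme.Modules.pullback f).map v = 0 := by
  haveI := Groth.Agent.M1.isFP_isQCoh (Groth.Agent.M1.isFP_of_isFinLocFree hF)
  obtain ⟨I, hI⟩ := Groth.Agent.VanRep13.exists_idealSheaf (𝟙 S) v (Groth.Agent.M1.isFP_of_isFinLocFree hF)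
    (fun x => (Groth.Agent.ModLimH13.isFlatOverAt_id_iff F x).2 (Groth.Agent.KFlat.Sch.isFlat_of_isFinLocFree hF x))
  refine ⟨I, fun T f => (hI T f).trans ?_⟩
  have w : Limits.pullback.snd (𝟙 S) f ≫ f = Limits.pullback.fst (𝟙 S) f := by
    rw [← Limits.pullback.condition, Category.comp_id]
  unfold Groth.Agent.VanRep13.VanAt
  rw [Groth.Agent.VanRep13.map_eq_zero_cmp_iff _ f w v]
  exact ⟨fun h => Groth.Agent.VanRep13.map_pullback_eq_zero_of_iso _ _ h, fun h => by rw [h, Functor.map_zero]⟩

end Groth.Agent.S10845
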