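import Groth.Statements.S10849
import Groth.Agent.Lib.P1Split17.Matrix

set_option autoImplicit false
universe u
open VbP1

namespace Groth.Agent.S10849

/-- Let k be a field and n a natural number. For every invertible n × n matrix A with entries in the
Laurent polynomial ring k[T, T⁻¹] there are matrices P and Q over k[T], invertible over k[T], and
integers d_1 ≥ d_2 ≥ … ≥ d_n (indexed by Fin n, antitone) such that A = P · diag(T^{d_i}) · Q⁻,
where Q⁻ is obtained from Q by the substitution T ↦ T⁻¹ (so Q⁻ is invertible over k[T⁻¹]). -/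
theorem result (k : Type u) [Field k] (n : ℕ)
    (A : Matrix (Fin n) (Fin n) (LaurentPolynomial k)) (hA : IsUnit A) :
    ∃ (P Q : Matrix (Fin n) (Fin n) (Polynomial k)) (d : Fin n → ℤ),
      IsUnit P ∧ IsUnit Q ∧ Antitone d ∧
        A = P.map Polynomial.toLaurent * Matrix.diagonal (fun i => LaurentPolynomial.T (d i)) *
          (Q.map Polynomial.toLaurent).map LaurentPolynomial.invert := by
  classical
  obtain ⟨A', B, d, hA', hB, h⟩ := Groth.Agent.P1Split.exists_factorization A ((Matrix.isUnit_iff_isUnit_det A).1 hA)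
  let σ : Equiv.Perm (Fin n) := Tuple.sort fun i => -d i
  have hinv : IsUnit A' := (Matrix.isUnit_iff_isUnit_det A').2 hA'
  refine ⟨A'⁻¹.submatrix id σ, B.submatrix σ id, d ∘ σ, ?_, ?_, fun i j hij => neg_le_neg_iff.1 (Tuple.monotone_sort (fun i => -d i) hij), ?_⟩
  · rw [Matrix.isUnit_iff_isUnit_det, Matrix.det_permute']
    exact ((Equiv.Perm.sign σ).isUnit.map (Int.castRingHom _)).mul (Matrix.isUnit_nonsing_inv_det A' hA')
  · rw [Matrix.isUnit_iff_isUnit_det, Matrix.det_permute]
    exact ((Equiv.Perm.sign σ).isUnit.map (Int.castRingHom _)).mul hB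
  · have hneg : ((B.submatrix σ id).map Polynomial.toLaurent).map LaurentPolynomial.invert =
        (B.map (Groth.Agent.P1Split.negHom k)).submatrix σ id := by
      ext i j; rfl
    rw [hneg, show (A'⁻¹.submatrix id σ).map Polynomial.toLaurent = (A'⁻¹.map (Groth.Agent.P1Split.posHom k)).submatrix id σ from rfl,
      show Matrix.diagonal (fun i => LaurentPolynomial.T ((d ∘ σ) i)) =
        (Matrix.diagonal fun i => (LaurentPolynomial.T (d i) : LaurentPolynomial k)).submatrix σ σ from
        (Matrix.submatrix_diagonal_equiv (fun i => (LaurentPolynomial.T (d i) : LaurentPolynomial k)) σ).symm,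
      Matrix.submatrix_mul_equiv, Matrix.submatrix_mul_equiv, Matrix.submatrix_id_id, mul_assoc, ← h, ← mul_assoc,
      ← Matrix.map_mul, Matrix.nonsing_inv_mul _ hA', Matrix.map_one _ (map_zero _) (map_one _), one_mul]

end Groth.Agent.S10849
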