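import Groth.Statements.S10851
import Groth.Agent.Lib.CDivLib.Mero
import Mathlib.RingTheory.KrullDimension.Zero

set_option autoImplicit false
universe u
open Mero

namespace Groth.Agent.S10851




open AlgebraicGeometry in
/-- Let X be a locally Noetherian scheme and D a divisor on X (a global section of K_X^×/O_X^×). Then
the support of D has codimension at least 1 in X: for every point z at which the germ of D is
non-trivial, the local ring O_{X,z} has Krull dimension at least 1. -/
theorem result {X : Scheme.{u}} [IsLocallyNoetherian X]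
    (D : Mero.Divisor X) (z : X) (hz : z ∈ Mero.supp D) :
    (1 : WithBot ℕ∞) ≤ ringKrullDim (X.presheaf.stalk z) := by
  by_contra h
  have hle : Ring.KrullDimLE 0 (X.presheaf.stalk z) := by
    rw [Ring.krullDimLE_iff]
    generalize ringKrullDim (X.presheaf.stalk z) = d at h ⊢
    induction d using WithBot.recBotCoe with
    | bot => exact bot_le
    | coe d =>
      norm_cast at h ⊢
      exact (Order.lt_one_iff.1 (not_le.1 h)).le
  obtain ⟨E, hzE⟩ := Groth.Agent.CDivLib.exists_eqn D z
  have hu : ∀ r ∈ nonZeroDivisors (X.presheaf.stalk z), IsUnit r := fun r hr => by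
    by_contra hr'
    obtain ⟨k, hk⟩ : IsNilpotent r := by
      rw [← mem_nilradical, Ring.KrullDimLE.nilradical_eq_maximalIdeal]
      exact hr'
    exact zero_notMem_nonZeroDivisors (hk ▸ pow_mem hr k)
  exact hz ((E.eq_one_iff ⟨z, hzE⟩).2 ⟨(hu _ (E.hb ⟨z, hzE⟩)).dvd, (hu _ (E.ha ⟨z, hzE⟩)).dvd⟩)

end Groth.Agent.S10851
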