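import Groth.Statements.S10852
import Groth.Agent.Lib.Grass.Free

set_option autoImplicit false
universe u
open Grass

namespace Groth.Agent.S10852

open AlgebraicGeometry CategoryTheory in
/-- Let R be a commutative ring and k < n natural numbers. Suppose the scheme X over Spec R represents
the Grassmannian functor of rank-k locally free quotients of the free module R^n (bijections,
compatible with base change along R-algebra maps, between Spec R-morphisms Spec A → X and submodules
of A^n whose quotient is finite projective of constant rank k). Then the structure morphism X → Spec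
R is smooth of relative dimension k(n − k), and X has a finite open covering by subschemes each
isomorphic over Spec R to affine space of dimension k(n − k). -/
theorem result (R : Type u) [CommRing R]
    (n k : ℕ) (hk : k < n) (X : Over (Spec (CommRingCat.of R)))
    (e : ∀ A : CommAlgCat.{u} R,
      (Over.mk (Spec.map (CommRingCat.ofHom (algebraMap R A))) ⟶ X) ≃
        (Module.Grassmannian.functor (R := R) (M := Fin n → R) k).obj A)
    (he : ∀ (A B : CommAlgCat.{u} R) (φ : A ⟶ B)
      (g : Over.mk (Spec.map (CommRingCat.ofHom (algebraMap R A))) ⟶ X)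
      (g' : Over.mk (Spec.map (CommRingCat.ofHom (algebraMap R B))) ⟶ X),
      g'.left = Spec.map (CommRingCat.ofHom φ.hom.toRingHom) ≫ g.left →
        e B g' = (Module.Grassmannian.functor (R := R) (M := Fin n → R) k).map φ (e A g)) :
    SmoothOfRelativeDimension (k * (n - k)) X.hom ∧
      ∃ (ι : Type) (_ : Finite ι) (U : ι → X.left.Opens), ⨆ i, U i = ⊤ ∧
        ∀ i, Nonempty (Over.mk ((U i).ι ≫ X.hom) ≅
          Over.mk (𝔸(ULift.{u} (Fin (k * (n - k))); Spec (CommRingCat.of R)) ↘ Spec (CommRingCat.of R))) := by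
  classical
  let hX : GrassLib.Rep R (Fin n → R) k X := { e := e, natural := he }
  let b := Pi.basisFun R (Fin n)
  let f : ∀ σ : Fin k ↪ Fin n, Spec (CommRingCat.of (GrassLib.ChartSet.CRing R
      (GrassLib.single (b ∘ σ)))) ⟶ X.left := fun σ => hX.chartInc (b ∘ σ)
  have hf : ∀ σ, IsOpenImmersion (f σ) := fun σ => inferInstanceAs (IsOpenImmersion (hX.chartInc _))
  refine ⟨?_, (Fin k ↪ Fin n), inferInstance, fun σ => (f σ).opensRange, ?_, fun σ => ?_⟩
  · have : IsZariskiLocalAtSource (@SmoothOfRelativeDimension (k * (n - k))) :=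
      HasRingHomProperty.instIsZariskiLocalAtSource (P := @SmoothOfRelativeDimension (k * (n - k)))
        (Q := RingHom.Locally (RingHom.IsStandardSmoothOfRelativeDimension (k * (n - k))))
    let 𝒰 : X.left.OpenCover := Scheme.Cover.mkOfCovers (ULift.{u} (Fin k ↪ Fin n))
      (fun σ => Spec (CommRingCat.of (GrassLib.ChartSet.CRing R (GrassLib.single (b ∘ σ.down)))))
      (fun σ => f σ.down) (fun p => by
        obtain ⟨σ, hσ⟩ := hX.free_covers b p
        exact ⟨⟨σ⟩, hσ⟩)
    refine IsZariskiLocalAtSource.of_openCover (P := @SmoothOfRelativeDimension (k * (n - k))) 𝒰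
      fun σ => ?_
    show SmoothOfRelativeDimension _ (hX.chartInc (b ∘ σ.down) ≫ X.hom)
    rw [hX.chartInc_hom, HasRingHomProperty.Spec_iff (P := @SmoothOfRelativeDimension (k * (n - k)))]
    refine RingHom.locally_of RingHom.isStandardSmoothOfRelativeDimension_respectsIso _ ?_
    have h := ProjSpace.isStandardSmoothOfRelativeDimension_mvPolynomial R
      (σ := GrassLib.FreeVar σ.down)
    rw [GrassLib.card_freeVar] at h
    exact (RingHom.isStandardSmoothOfRelativeDimension_algebraMap _).2
      (Algebra.IsStandardSmoothOfRelativeDimension.of_algEquiv (k * (n - k))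
        (GrassLib.freeChartEquiv b σ.down))
  · rw [eq_top_iff]
    rintro p -
    obtain ⟨σ, hσ⟩ := hX.free_covers b p
    exact TopologicalSpace.Opens.mem_iSup.mpr ⟨σ, hσ⟩
  · let r : ULift.{u} (Fin (k * (n - k))) ≃ GrassLib.FreeVar σ :=
      Equiv.ulift.trans ((finCongr (by rw [← Nat.card_eq_fintype_card, GrassLib.card_freeVar])).trans
        (Fintype.equivFin (GrassLib.FreeVar σ)).symm)
    let E : MvPolynomial (ULift.{u} (Fin (k * (n - k)))) R ≃ₐ[R]
        GrassLib.ChartSet.CRing R (GrassLib.single (b ∘ σ)) :=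
      (MvPolynomial.renameEquiv R r).trans (GrassLib.freeChartEquiv b σ)
    let I : Spec (CommRingCat.of (GrassLib.ChartSet.CRing R (GrassLib.single (b ∘ σ)))) ≅
        Spec (CommRingCat.of (MvPolynomial (ULift.{u} (Fin (k * (n - k)))) R)) :=
      { hom := GrassLib.sp E.toAlgHom
        inv := GrassLib.sp E.symm.toAlgHom
        hom_inv_id := by rw [← GrassLib.sp_comp, AlgEquiv.comp_symm, GrassLib.sp_id]
        inv_hom_id := by rw [← GrassLib.sp_comp, AlgEquiv.symm_comp, GrassLib.sp_id] }
    refine ⟨Over.isoMk ((f σ).isoOpensRange.symm ≪≫ I ≪≫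
      (AffineSpace.SpecIso (ULift.{u} (Fin (k * (n - k)))) (CommRingCat.of R)).symm) ?_⟩
    simp only [Iso.trans_hom, Iso.symm_hom, Over.mk_hom, Category.assoc,
      AffineSpace.SpecIso_inv_over]
    rw [Iso.inv_comp_eq, Scheme.Hom.isoOpensRange_hom_ι_assoc]
    show GrassLib.sp E.toAlgHom ≫ GrassLib.str R _ = hX.chartInc (b ∘ σ) ≫ X.hom
    rw [hX.chartInc_hom, GrassLib.sp_str]

end Groth.Agent.S10852
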