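import Groth.Statements.S10854
import Groth.Agent.Lib.LfpSpread12.Basic
import Groth.Agent.Lib.RatMapH11.SpreadUniq

set_option autoImplicit false
universe u
open FinCond

namespace Groth.Agent.S10854

open AlgebraicGeometry CategoryTheory in
theorem stalk_mem {Z : Scheme.{u}} (U : Z.Opens) {z : Z} (hz : z ∈ U) :
    U.fromSpecStalkOfMem z hz (IsLocalRing.closedPoint (Z.presheaf.stalk z)) =
      (⟨z, hz⟩ : U.toScheme) := by
  apply U.ι.isOpenEmbedding.injective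
  exact congr($(U.fromSpecStalkOfMem_ι z hz) (IsLocalRing.closedPoint _)).trans
    Scheme.fromSpecStalk_closedPoint



open AlgebraicGeometry CategoryTheory in
set_option backward.isDefEq.respectTransparency false in
/-- Let S be a scheme and X, Y two S-schemes locally of finite presentation over S. Let x be a point of
X and y a point of Y over the same point of S, and let φ : O_{Y,y} → O_{X,x} be an isomorphism
compatible with the two homomorphisms from the local ring of S. Then there exist open neighbourhoods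
U of x and V of y and an S-isomorphism f : U → V whose composite with Spec O_{X,x} → U and V → Y
equals Spec φ followed by Spec O_{Y,y} → Y. (The published statement assumes the finiteness
conditions only at the points x and y; this row assumes them everywhere.) -/
theorem result
    {X Y S : Scheme.{u}} (sX : X ⟶ S) (sY : Y ⟶ S)
    [LocallyOfFinitePresentation sX] [LocallyOfFinitePresentation sY]
    {x : X} {y : Y} (e : sX x = sY y)
    (φ : Y.presheaf.stalk y ⟶ X.presheaf.stalk x) [IsIso φ]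
    (h : sY.stalkMap y ≫ φ =
      S.presheaf.stalkSpecializes (Inseparable.of_eq e).specializes ≫ sX.stalkMap x) :
    ∃ (U : X.Opens) (hxU : x ∈ U) (V : Y.Opens) (f : U.toScheme ⟶ V.toScheme), IsIso f ∧
      Spec.map φ ≫ Y.fromSpecStalk y = U.fromSpecStalkOfMem x hxU ≫ f ≫ V.ι ∧
        f ≫ V.ι ≫ sY = U.ι ≫ sX := by

  have h' : sX.stalkMap x ≫ inv φ =
      S.presheaf.stalkSpecializes (Inseparable.of_eq e.symm).specializes ≫ sY.stalkMap y := by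
    rw [IsIso.comp_inv_eq, Category.assoc, h, TopCat.Presheaf.stalkSpecializes_comp_assoc]
    simp
  haveI : IsLocalHom φ.hom := inferInstance
  obtain ⟨U₁, hxU₁, f₁, hf₁, hf₁S⟩ := LfpSpread12.exists_spread sX sY e φ h
  obtain ⟨V₁, hyV₁, g₁, hg₁, hg₁S⟩ := LfpSpread12.exists_spread sY sX e.symm (inv φ) h'
  have hpt₁ : f₁ ⟨x, hxU₁⟩ = y := by
    rw [← stalk_mem U₁ hxU₁]
    refine Eq.trans congr($(hf₁.symm) (IsLocalRing.closedPoint _)) ?_
    exact (congrArg (Y.fromSpecStalk y) (Spec_closedPoint (f := φ))).trans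
      Scheme.fromSpecStalk_closedPoint
  have hpt₂ : g₁ ⟨y, hyV₁⟩ = x := by
    rw [← stalk_mem V₁ hyV₁]
    refine Eq.trans congr($(hg₁.symm) (IsLocalRing.closedPoint _)) ?_
    haveI : IsLocalHom (inv φ).hom := inferInstance
    exact (congrArg (X.fromSpecStalk x) (Spec_closedPoint (f := inv φ))).trans
      Scheme.fromSpecStalk_closedPoint
  -- `g₁ ∘ f₁` agrees with the inclusion near `x`
  let A : X.Opens := U₁.ι ''ᵁ (f₁ ⁻¹ᵁ V₁)
  have hxA : x ∈ A := ⟨⟨x, hxU₁⟩, show f₁ ⟨x, hxU₁⟩ ∈ V₁ from hpt₁ ▸ hyV₁, rfl⟩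
  have hAU₁ : A ≤ U₁ := U₁.ι_image_le _
  have hAf : Set.range (X.homOfLE hAU₁ ≫ f₁) ⊆ Set.range V₁.ι := by
    rintro _ ⟨a, rfl⟩
    rw [Scheme.Opens.range_ι]
    obtain ⟨b, hb, hba⟩ := a.2
    have : X.homOfLE hAU₁ a = b := by
      apply U₁.ι.isOpenEmbedding.injective
      show U₁.ι (X.homOfLE hAU₁ a) = U₁.ι b
      rw [← Scheme.Hom.comp_apply, Scheme.homOfLE_ι]
      exact hba.symm
    rw [Scheme.Hom.comp_apply, this]
    exact hb
  let fA : A.toScheme ⟶ V₁.toScheme := IsOpenImmersion.lift V₁.ι _ hAf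
  have hfA : fA ≫ V₁.ι = X.homOfLE hAU₁ ≫ f₁ := IsOpenImmersion.lift_fac _ _ _
  have hstA : A.fromSpecStalkOfMem x hxA ≫ fA = Spec.map φ ≫ V₁.fromSpecStalkOfMem y hyV₁ := by
    rw [← cancel_mono V₁.ι, Category.assoc, hfA, Category.assoc, Scheme.Opens.fromSpecStalkOfMem_ι,
      hf₁, ← Category.assoc]
    congr 1
    rw [← cancel_mono U₁.ι, Category.assoc, Scheme.homOfLE_ι, Scheme.Opens.fromSpecStalkOfMem_ι,
      Scheme.Opens.fromSpecStalkOfMem_ι]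
  have hA₁ : (fA ≫ g₁) ≫ sX = A.ι ≫ sX := by
    rw [Category.assoc, hg₁S, reassoc_of% hfA, hf₁S, Scheme.homOfLE_ι_assoc]
  obtain ⟨A', hxA', hA'⟩ := RatMapH11.spread_out_unique_of_finiteType sX (fA ≫ g₁) A.ι hA₁
    ⟨x, hxA⟩ (by
      have e0 : A.toScheme.fromSpecStalk ⟨x, hxA⟩ =
          Spec.map (A.ι.stalkMap ⟨x, hxA⟩) ≫ A.fromSpecStalkOfMem x hxA := by
        rw [← cancel_mono A.ι, Category.assoc, Scheme.Opens.fromSpecStalkOfMem_ι]
        exact (Scheme.SpecMap_stalkMap_fromSpecStalk A.ι).symm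
      rw [e0, Category.assoc, Category.assoc]
      congr 1
      rw [reassoc_of% hstA, ← hg₁, ← Spec.map_comp_assoc, IsIso.inv_hom_id, Spec.map_id,
        Category.id_comp, Scheme.Opens.fromSpecStalkOfMem_ι])
  -- `f₁ ∘ g₁` agrees with the inclusion near `y`
  let B : Y.Opens := V₁.ι ''ᵁ (g₁ ⁻¹ᵁ U₁)
  have hyB : y ∈ B := ⟨⟨y, hyV₁⟩, show g₁ ⟨y, hyV₁⟩ ∈ U₁ from hpt₂ ▸ hxU₁, rfl⟩
  have hBV₁ : B ≤ V₁ := V₁.ι_image_le _
  have hBg : Set.range (Y.homOfLE hBV₁ ≫ g₁) ⊆ Set.range U₁.ι := by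
    rintro _ ⟨a, rfl⟩
    rw [Scheme.Opens.range_ι]
    obtain ⟨b, hb, hba⟩ := a.2
    have : Y.homOfLE hBV₁ a = b := by
      apply V₁.ι.isOpenEmbedding.injective
      show V₁.ι (Y.homOfLE hBV₁ a) = V₁.ι b
      rw [← Scheme.Hom.comp_apply, Scheme.homOfLE_ι]
      exact hba.symm
    rw [Scheme.Hom.comp_apply, this]
    exact hb
  let gB : B.toScheme ⟶ U₁.toScheme := IsOpenImmersion.lift U₁.ι _ hBg
  have hgB : gB ≫ U₁.ι = Y.homOfLE hBV₁ ≫ g₁ := IsOpenImmersion.lift_fac _ _ _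
  have hstB : B.fromSpecStalkOfMem y hyB ≫ gB = Spec.map (inv φ) ≫ U₁.fromSpecStalkOfMem x hxU₁ := by
    rw [← cancel_mono U₁.ι, Category.assoc, hgB, Category.assoc, Scheme.Opens.fromSpecStalkOfMem_ι,
      hg₁, ← Category.assoc]
    congr 1
    rw [← cancel_mono V₁.ι, Category.assoc, Scheme.homOfLE_ι, Scheme.Opens.fromSpecStalkOfMem_ι,
      Scheme.Opens.fromSpecStalkOfMem_ι]
  have hB₁ : (gB ≫ f₁) ≫ sY = B.ι ≫ sY := by
    rw [Category.assoc, hf₁S, reassoc_of% hgB, hg₁S, Scheme.homOfLE_ι_assoc]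
  obtain ⟨B', hyB', hB'⟩ := RatMapH11.spread_out_unique_of_finiteType sY (gB ≫ f₁) B.ι hB₁
    ⟨y, hyB⟩ (by
      have e0 : B.toScheme.fromSpecStalk ⟨y, hyB⟩ =
          Spec.map (B.ι.stalkMap ⟨y, hyB⟩) ≫ B.fromSpecStalkOfMem y hyB := by
        rw [← cancel_mono B.ι, Category.assoc, Scheme.Opens.fromSpecStalkOfMem_ι]
        exact (Scheme.SpecMap_stalkMap_fromSpecStalk B.ι).symm
      rw [e0, Category.assoc, Category.assoc]
      congr 1
      rw [reassoc_of% hstB, ← hf₁, ← Spec.map_comp_assoc, IsIso.hom_inv_id, Spec.map_id,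
        Category.id_comp, Scheme.Opens.fromSpecStalkOfMem_ι])
  -- the common domains
  let Bimg : Y.Opens := B.ι ''ᵁ B'
  let U : X.Opens := A.ι ''ᵁ A' ⊓ U₁.ι ''ᵁ (f₁ ⁻¹ᵁ Bimg)
  let V : Y.Opens := Bimg ⊓ V₁.ι ''ᵁ (g₁ ⁻¹ᵁ U)
  have hxU : x ∈ U := ⟨⟨⟨x, hxA⟩, hxA', rfl⟩,
    ⟨x, hxU₁⟩, show f₁ ⟨x, hxU₁⟩ ∈ Bimg from hpt₁ ▸ ⟨⟨y, hyB⟩, hyB', rfl⟩, rfl⟩
  -- pointwise identities
  have idA : ∀ (a : X) (ha : a ∈ U), ∃ (ha₁ : a ∈ U₁) (hb : f₁ ⟨a, ha₁⟩ ∈ V₁),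
      f₁ ⟨a, ha₁⟩ ∈ Bimg ∧ g₁ ⟨f₁ ⟨a, ha₁⟩, hb⟩ = a := by
    rintro a ⟨⟨a', ha', rfl⟩, b, hb, hba⟩
    have ha₁ : A.ι a' ∈ U₁ := hAU₁ a'.2
    have hbeq : b = ⟨A.ι a', ha₁⟩ := Subtype.ext hba
    subst hbeq
    have h2 : V₁.ι (fA a') = f₁ ⟨A.ι a', ha₁⟩ := by
      rw [← Scheme.Hom.comp_apply, hfA, Scheme.Hom.comp_apply]
      congr 1
      apply U₁.ι.isOpenEmbedding.injective
      show U₁.ι (X.homOfLE hAU₁ a') = _
      rw [← Scheme.Hom.comp_apply, Scheme.homOfLE_ι]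
      rfl
    refine ⟨ha₁, h2 ▸ (fA a').2, hb, ?_⟩
    have h3 : (fA ≫ g₁) a' = A.ι a' := by
      have := congr($hA' (⟨a', ha'⟩ : A'.toScheme))
      simpa [Scheme.Hom.comp_apply] using this
    refine Eq.trans ?_ h3
    rw [Scheme.Hom.comp_apply]
    congr 1
    exact Subtype.ext h2.symm
  have idB : ∀ (b : Y) (hb : b ∈ V), ∃ (hb₁ : b ∈ V₁), g₁ ⟨b, hb₁⟩ ∈ U := by
    rintro b ⟨-, c, hc, rfl⟩
    exact ⟨c.2, hc⟩
  have hUU₁ : U ≤ U₁ := inf_le_right.trans (U₁.ι_image_le _)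
  have hVV₁ : V ≤ V₁ := inf_le_right.trans (V₁.ι_image_le _)
  have hrange₁ : Set.range (X.homOfLE hUU₁ ≫ f₁) ⊆ Set.range V.ι := by
    rintro _ ⟨a, rfl⟩
    rw [Scheme.Opens.range_ι]
    obtain ⟨ha₁, hb, hbB, hga⟩ := idA a.1 a.2
    have : X.homOfLE hUU₁ a = ⟨a.1, ha₁⟩ := by
      apply U₁.ι.isOpenEmbedding.injective
      show U₁.ι (X.homOfLE hUU₁ a) = _
      rw [← Scheme.Hom.comp_apply, Scheme.homOfLE_ι]
      rfl
    rw [Scheme.Hom.comp_apply, this]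
    exact ⟨hbB, ⟨_, hb⟩, show g₁ ⟨_, hb⟩ ∈ U from hga.symm ▸ a.2, rfl⟩
  have hrange₂ : Set.range (Y.homOfLE hVV₁ ≫ g₁) ⊆ Set.range U.ι := by
    rintro _ ⟨b, rfl⟩
    rw [Scheme.Opens.range_ι]
    obtain ⟨hb₁, hgb⟩ := idB b.1 b.2
    have : Y.homOfLE hVV₁ b = ⟨b.1, hb₁⟩ := by
      apply V₁.ι.isOpenEmbedding.injective
      show V₁.ι (Y.homOfLE hVV₁ b) = _
      rw [← Scheme.Hom.comp_apply, Scheme.homOfLE_ι]
      rfl
    rw [Scheme.Hom.comp_apply, this]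
    exact hgb
  let F : U.toScheme ⟶ V.toScheme := IsOpenImmersion.lift V.ι _ hrange₁
  let G : V.toScheme ⟶ U.toScheme := IsOpenImmersion.lift U.ι _ hrange₂
  have hF : F ≫ V.ι = X.homOfLE hUU₁ ≫ f₁ := IsOpenImmersion.lift_fac _ _ _
  have hG : G ≫ U.ι = Y.homOfLE hVV₁ ≫ g₁ := IsOpenImmersion.lift_fac _ _ _
  have hUA : U ≤ A := inf_le_left.trans (A.ι_image_le _)
  have hVB : V ≤ B := inf_le_left.trans (B.ι_image_le _)
  have hFG : F ≫ G = 𝟙 _ := by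
    rw [← cancel_mono U.ι, Category.assoc, hG, Category.id_comp]
    have e1 : F ≫ Y.homOfLE hVV₁ = X.homOfLE hUA ≫ fA := by
      rw [← cancel_mono V₁.ι, Category.assoc, Scheme.homOfLE_ι, hF, Category.assoc, hfA,
        ← Category.assoc, Scheme.homOfLE_homOfLE]
    rw [reassoc_of% e1]
    have e2 : Set.range (X.homOfLE hUA) ⊆ Set.range A'.ι := by
      rintro _ ⟨a, rfl⟩
      rw [Scheme.Opens.range_ι]
      obtain ⟨a', ha', he⟩ := a.2.1
      have : X.homOfLE hUA a = a' := by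
        apply A.ι.isOpenEmbedding.injective
        show A.ι (X.homOfLE hUA a) = A.ι a'
        rw [← Scheme.Hom.comp_apply, Scheme.homOfLE_ι]
        exact he.symm
      rw [this]; exact ha'
    rw [← IsOpenImmersion.lift_fac A'.ι _ e2, Category.assoc, hA', ← Category.assoc,
      IsOpenImmersion.lift_fac A'.ι _ e2, Scheme.homOfLE_ι]
  have hGF : G ≫ F = 𝟙 _ := by
    rw [← cancel_mono V.ι, Category.assoc, hF, Category.id_comp]
    have e1 : G ≫ X.homOfLE hUU₁ = Y.homOfLE hVB ≫ gB := by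
      rw [← cancel_mono U₁.ι, Category.assoc, Scheme.homOfLE_ι, hG, Category.assoc, hgB,
        ← Category.assoc, Scheme.homOfLE_homOfLE]
    rw [reassoc_of% e1]
    have e2 : Set.range (Y.homOfLE hVB) ⊆ Set.range B'.ι := by
      rintro _ ⟨a, rfl⟩
      rw [Scheme.Opens.range_ι]
      obtain ⟨a', ha', he⟩ := a.2.1
      have : Y.homOfLE hVB a = a' := by
        apply B.ι.isOpenEmbedding.injective
        show B.ι (Y.homOfLE hVB a) = B.ι a'
        rw [← Scheme.Hom.comp_apply, Scheme.homOfLE_ι]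
        exact he.symm
      rw [this]; exact ha'
    rw [← IsOpenImmersion.lift_fac B'.ι _ e2, Category.assoc, hB', ← Category.assoc,
      IsOpenImmersion.lift_fac B'.ι _ e2, Scheme.homOfLE_ι]
  refine ⟨U, hxU, V, F, ⟨⟨G, hFG, hGF⟩⟩, ?_, ?_⟩
  · rw [hF, hf₁, ← Category.assoc]
    congr 1
    rw [← cancel_mono U₁.ι, Category.assoc, Scheme.homOfLE_ι, Scheme.Opens.fromSpecStalkOfMem_ι,
      Scheme.Opens.fromSpecStalkOfMem_ι]
  · rw [reassoc_of% hF, hf₁S, Scheme.homOfLE_ι_assoc]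

end Groth.Agent.S10854
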