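import Groth.Statements.S10856
import Groth.Agent.Lib.WeakAss18.Mero

set_option autoImplicit false
universe u
open Mero

namespace Groth.Agent.S10856

open AlgebraicGeometry CategoryTheory TopologicalSpace in
/-- Let X be a scheme and f a global section of the sheaf of meromorphic functions K_X. The domain of
definition of f, i.e. the set of points x whose value f_x ∈ K_{X,x} lies in the image of the local
ring O_{X,x}, is the underlying set of an open subscheme D of X, and D is schematically dense in X: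
for every open subset V of X the restriction map from sections of O_X over V to sections over V ∩ D
is injective. -/
theorem result {X : Scheme.{u}} (f : Γ(Mero.kmod X, ⊤)) :
    ∃ D : X.Opens,
      (D : Set X) = {x | f.1 ⟨x, Opens.mem_top x⟩ ∈ (algebraMap (X.presheaf.stalk x) (Mero.KStalk X x)).range} ∧
        ∀ V : X.Opens, Function.Injective (X.presheaf.map (homOfLE (inf_le_left : V ⊓ D ≤ V)).op) := by
  let S : Set X := {x | f.1 ⟨x, Opens.mem_top x⟩ ∈ (algebraMap (X.presheaf.stalk x) (Mero.KStalk X x)).range}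
  have hS : IsOpen S := by
    rw [isOpen_iff_forall_mem_open]
    intro x hx
    obtain ⟨r, hr⟩ := hx
    obtain ⟨W, hxW, i, a, b, hab⟩ := f.2 ⟨x, Opens.mem_top x⟩
    obtain ⟨V, hxV, c, rfl⟩ := X.presheaf.exists_germ_eq r
    have h1 : f.1 ⟨x, Opens.mem_top x⟩ = LocalizedModule.mk (X.presheaf.germ W x hxW a) (Mero.regGerm ⟨x, hxW⟩ b) := hab ⟨x, hxW⟩
    have h2 := Groth.Agent.WA.mk_eq_div (X.presheaf.germ W x hxW a) (Mero.regGerm ⟨x, hxW⟩ b)
    rw [← h1, ← hr, ← map_mul] at h2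
    have h3 : X.presheaf.germ V x hxV c * X.presheaf.germ W x hxW b.1 = X.presheaf.germ W x hxW a :=
      Mero.algebraMap_KStalk_injective x h2
    rw [← X.presheaf.germ_res_apply (homOfLE (inf_le_left : V ⊓ W ≤ V)) x ⟨hxV, hxW⟩,
      ← X.presheaf.germ_res_apply (homOfLE (inf_le_right : V ⊓ W ≤ W)) x ⟨hxV, hxW⟩ b.1, ← map_mul,
      ← X.presheaf.germ_res_apply (homOfLE (inf_le_right : V ⊓ W ≤ W)) x ⟨hxV, hxW⟩ a] at h3
    obtain ⟨N, hxN, j, j', e⟩ := X.presheaf.germ_eq x _ _ _ _ h3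
    refine ⟨N, fun y hy => ⟨X.presheaf.germ V y (j.le hy).1 c, ?_⟩, N.isOpen, hxN⟩
    have h4 := congrArg (X.presheaf.germ N y hy) e
    rw [X.presheaf.germ_res_apply, X.presheaf.germ_res_apply, map_mul, X.presheaf.germ_res_apply,
      X.presheaf.germ_res_apply, X.presheaf.germ_res_apply] at h4
    have h5 : f.1 ⟨y, Opens.mem_top y⟩ = LocalizedModule.mk (X.presheaf.germ W y (j.le hy).2 a)
        (Mero.regGerm ⟨y, (j.le hy).2⟩ b) := hab ⟨y, (j.le hy).2⟩
    rw [h5, ← h4]
    change LocalizedModule.mk (X.presheaf.germ V y (j.le hy).1 c) 1 = _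
    rw [LocalizedModule.mk_eq]
    exact ⟨1, by simp [Submonoid.smul_def, mul_comm]⟩
  refine ⟨⟨S, hS⟩, rfl, fun V r r' hrr' => ?_⟩
  refine sub_eq_zero.mp (TopCat.Presheaf.section_ext X.sheaf _ _ 0 fun x hx => ?_)
  change X.presheaf.germ V x hx (r - r') = X.presheaf.germ V x hx 0
  rw [map_zero]
  obtain ⟨W₀, hxW₀, i, a, b, hab⟩ := f.2 ⟨x, Opens.mem_top x⟩
  obtain ⟨W, hW, hxW, hWle⟩ := exists_isAffineOpen_mem_and_subset (U := V ⊓ W₀) (x := x) ⟨hx, hxW₀⟩
  have hWV : W ≤ V := hWle.trans inf_le_left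
  have hWW₀ : W ≤ W₀ := hWle.trans inf_le_right
  let b' := Groth.Agent.M1.ores hWW₀ b.1
  haveI := hW.isLocalization_basicOpen b'
  have h0 : algebraMap Γ(X, W) Γ(X, X.basicOpen b') (Groth.Agent.M1.ores hWV (r - r')) = 0 := by
    refine TopCat.Presheaf.section_ext X.sheaf _ _ 0 fun y hy => ?_
    change X.presheaf.germ _ y hy (X.presheaf.map _ (X.presheaf.map _ (r - r'))) = X.presheaf.germ _ y hy 0
    have hyW := X.basicOpen_le b' hy
    have hyS : y ∈ S := by
      have hu : IsUnit (X.presheaf.germ W₀ y (hWW₀ hyW) b.1) := by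
        rw [← X.presheaf.germ_res_apply (homOfLE hWW₀) y hyW b.1]
        exact (X.mem_basicOpen b' y hyW).mp hy
      obtain ⟨v, hv⟩ := hu.exists_left_inv
      refine ⟨v * X.presheaf.germ W₀ y (hWW₀ hyW) a, ?_⟩
      rw [show f.1 ⟨y, Opens.mem_top y⟩ = LocalizedModule.mk (X.presheaf.germ W₀ y (hWW₀ hyW) a)
        (Mero.regGerm ⟨y, hWW₀ hyW⟩ b) from hab ⟨y, hWW₀ hyW⟩]
      change LocalizedModule.mk (v * X.presheaf.germ W₀ y (hWW₀ hyW) a) 1 = _
      rw [LocalizedModule.mk_eq]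
      refine ⟨1, ?_⟩
      simp only [one_smul, Submonoid.smul_def, smul_eq_mul]
      linear_combination X.presheaf.germ W₀ y (hWW₀ hyW) a * hv
    erw [TopCat.Presheaf.germ_res_apply, TopCat.Presheaf.germ_res_apply]
    rw [map_zero, map_sub, sub_eq_zero]
    have h := congrArg (X.presheaf.germ (V ⊓ (⟨S, hS⟩ : X.Opens)) y ⟨hWV hyW, hyS⟩) hrr'
    rwa [TopCat.Presheaf.germ_res_apply, TopCat.Presheaf.germ_res_apply] at h
  obtain ⟨⟨_, n, rfl⟩, hn⟩ := (IsLocalization.map_eq_zero_iff (Submonoid.powers b') _ _).mp h0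
  have h1 := congrArg (X.presheaf.germ W x hxW) hn
  rw [map_mul, map_pow, map_zero, X.presheaf.germ_res_apply] at h1
  erw [X.presheaf.germ_res_apply] at h1
  exact mem_nonZeroDivisors_iff.mp (pow_mem (b.2 ⟨x, hxW₀⟩) n) |>.1 _ h1

end Groth.Agent.S10856
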