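import Groth.Statements.S10857
import Groth.Agent.Lib.FPExt12.Extra
-- import your own Groth.Agent.* helpers here

set_option autoImplicit false
set_option backward.isDefEq.respectTransparency false
universe u
open QCohSup

namespace Groth.Agent.S10857

open AlgebraicGeometry CategoryTheory CategoryTheory.Limits in
/-- Take a quasi-compact scheme X, a finite-type quasi-coherent O_X-module F, and G a quasi-coherent
O_X-module which is the colimit of a filtered diagram of quasi-coherent O_X-modules G_j. A
homomorphism u : G → F is an epimorphism if and only if there is an index j₀ such that for every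
index j admitting a map from j₀ the composite G_j → G → F is an epimorphism. -/
theorem result {X : Scheme.{u}} [CompactSpace X]
    {J : Type u} [SmallCategory J] [IsFiltered J] (D : J ⥤ X.Modules) [∀ j, Coh.IsQCoh (D.obj j)]
    (c : Cocone D) (hc : IsColimit c) [Coh.IsQCoh c.pt]
    (F : X.Modules) [Coh.IsQCoh F] (hF : CohB1.IsFT F) (u : c.pt ⟶ F) :
    Epi u ↔ ∃ j₀ : J, ∀ j : J, Nonempty (j₀ ⟶ j) → Epi (c.ι.app j ≫ u) := FPExt12.epi_iff_eventually hc inferInstance hF u

end Groth.Agent.S10857
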