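import Groth.Statements.S10858
import Groth.Agent.Lib.KFlat.Pullback
import Groth.Agent.Lib.Residual14.OnePoint
import Groth.Agent.Lib.DPerf.Top

set_option autoImplicit false
set_option backward.isDefEq.respectTransparency false
set_option linter.style.haveILetI false
universe u
open RepF

namespace Groth.Agent.S10858

open AlgebraicGeometry CategoryTheory CategoryTheory.Limits
open Groth.Agent.M2 Groth.Agent.KFlat.Sch
open scoped TensorProduct

theorem stk_eq {X : Scheme.{u}} {A B : X.Modules} (g : A ⟶ B) (x : X) (a : A.presheaf.stalk x) :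
    stk g x a = (M1.stalkAb x).map g a := rfl

theorem finite_stalk_ft {X : Scheme.{u}} {M : X.Modules} (hM : CohB1.IsFT M) (x : X) :
    Module.Finite (X.presheaf.stalk x) (M.presheaf.stalk x) := by
  obtain ⟨U, hxU, σ, hσ⟩ := (M1.isFT_iff_generators M).1 hM x
  haveI := hσ
  obtain ⟨e⟩ := M1.nonempty_fr_freeMod (U : Scheme.{u}) σ.I
  let y : (U : Scheme.{u}) := ⟨x, hxU⟩
  have hP := KFlat.Sch.isFinLocFree_freeMod (U : Scheme.{u}) (Nat.card σ.I)
  have hPfp := M1.isFP_of_isFinLocFree hP
  haveI := M1.finite_stalk (M1.isFP_isQCoh hPfp) (M1.isFP_isFT hPfp) y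
  haveI : Epi σ.π := σ.epi
  let p := e.inv ≫ σ.π ≫ ((Scheme.Modules.restrictFunctorIsoPullback U.ι).app M).hom
  haveI : Epi p := inferInstance
  have hs : Function.Surjective (stk p y) := (M1.epi_iff_stalk p).1 inferInstance y
  haveI : Module.Finite _ (((Scheme.Modules.pullback U.ι).obj M).presheaf.stalk y : Type u) :=
    Module.Finite.of_surjective _ hs
  haveI := Module.Finite.equiv (pullStalkEquiv U.ι y M).symm
  have hb : Function.Bijective (algebraMap (X.presheaf.stalk (U.ι y)) ((U : Scheme.{u}).presheaf.stalk y)) :=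
    ConcreteCategory.bijective_of_isIso (U.ι.stalkMap y)
  haveI : Module.Finite (X.presheaf.stalk (U.ι y)) ((U : Scheme.{u}).presheaf.stalk y) :=
    Module.Finite.of_surjective (Algebra.linearMap _ _) hb.2
  haveI : Module.Finite (X.presheaf.stalk (U.ι y)) (BC U.ι y M) :=
    Module.Finite.trans ((U : Scheme.{u}).presheaf.stalk y) _
  let q : (M.presheaf.stalk (U.ι y) : Type u) ≃ₗ[X.presheaf.stalk (U.ι y)] BC U.ι y M :=
    (TensorProduct.lid _ _).symm ≪≫ₗ
      TensorProduct.congr (LinearEquiv.ofBijective (Algebra.linearMap _ _) hb) (LinearEquiv.refl _ _)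
  exact (Module.Finite.equiv q.symm : Module.Finite (X.presheaf.stalk (U.ι y)) (M.presheaf.stalk (U.ι y) : Type u))

theorem isFP_cokernel_ft {X : Scheme.{u}} {U E : X.Modules} (hU : CohB1.IsFT U) (hE : FlatMod.IsFinLocFree E)
    (ι : U ⟶ E) : CohB1.IsFP (cokernel ι) := by
  choose W hxW σ hσ using (M1.isFT_iff_generators U).1 hU
  refine M1.isFP_of_openImmersion_cover (fun x => (W x).ι) (fun x => ⟨x, ⟨x, hxW x⟩, rfl⟩) fun x => ?_
  haveI := hσ x
  obtain ⟨e⟩ := M1.nonempty_fr_freeMod (W x : Scheme.{u}) (σ x).I
  haveI : Epi (σ x).π := (σ x).epi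
  let F := Scheme.Modules.pullback (W x).ι
  let p := e.inv ≫ (σ x).π ≫ ((Scheme.Modules.restrictFunctorIsoPullback (W x).ι).app U).hom
  haveI : Epi p := inferInstance
  have hPfp := M1.isFP_of_isFinLocFree
    (KFlat.Sch.isFinLocFree_freeMod (W x : Scheme.{u}) (Nat.card (σ x).I))
  have h := DPerf.isFP_cokernel (M1.isFP_isQCoh hPfp) (M1.isFP_isFT hPfp)
    (M1.isFP_of_isFinLocFree (M2.isFinLocFree_pullback (W x).ι hE)) (p ≫ F.map ι)
  exact M1.isFP_of_isIso (cokernelEpiComp p (F.map ι) ≪≫ (PreservesCokernel.iso F ι).symm ≪≫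
    ((Scheme.Modules.restrictFunctorIsoPullback (W x).ι).app (cokernel ι)).symm) h

theorem injective_residue {S : Scheme.{u}} {U E : S.Modules} (ι : U ⟶ E) (s : S)
    [Mono ((Scheme.Modules.pullback (S.fromSpecResidueField s)).map ι)] :
    Function.Injective ((stk ι s).lTensor (IsLocalRing.ResidueField (S.presheaf.stalk s))) := by
  let f := S.fromSpecResidueField s
  let y : Spec (S.residueField s) := IsLocalRing.closedPoint _
  have hfy : f y = s := Scheme.fromSpecResidueField_apply _ _
  have key : Function.Injective ((stk ι (f y)).lTensor ((Spec (S.residueField s)).presheaf.stalk y)) := by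
    intro a b hab
    apply (pullStalkEquiv f y U).injective
    apply (KFlat.Sch.mono_iff_stalk ((Scheme.Modules.pullback f).map ι)).1 inferInstance y
    rw [pullStalkEquiv_naturality, pullStalkEquiv_naturality, hab]
  rw [← hfy]
  let K := (Spec (S.residueField s)).presheaf.stalk y
  have hfield : IsField K :=
    Residual14.isField_stalk_of_etale_field (𝟙 (Spec (CommRingCat.of (S.residueField s)))) y
  have hsurj : Function.Surjective (algebraMap (S.presheaf.stalk (f y)) K) := f.stalkMap_surjective y
  haveI : IsLocalHom (algebraMap (S.presheaf.stalk (f y)) K) :=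
    inferInstanceAs (IsLocalHom (f.stalkMap y).hom)
  have hker : ∀ a ∈ IsLocalRing.maximalIdeal (S.presheaf.stalk (f y)), Algebra.linearMap _ K a = 0 :=
    fun a ha => by_contra fun h => ((IsLocalRing.mem_maximalIdeal a).1 ha)
      (IsUnit.of_map (algebraMap (S.presheaf.stalk (f y)) K) a (by
        letI := hfield.toField
        exact isUnit_iff_ne_zero.2 h))
  let l : IsLocalRing.ResidueField (S.presheaf.stalk (f y)) →ₗ[S.presheaf.stalk (f y)] K :=
    Submodule.liftQ _ (Algebra.linearMap _ _) hker
  have hl : Function.Bijective l := by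
    refine ⟨?_, fun b => ?_⟩
    · rw [← LinearMap.ker_eq_bot]
      refine Submodule.ker_liftQ_eq_bot _ _ _ fun a ha => ?_
      haveI : Nontrivial K := hfield.nontrivial
      exact (IsLocalRing.mem_maximalIdeal a).2 fun hu => (hu.map (algebraMap _ K)).ne_zero ha
    · obtain ⟨a, rfl⟩ := hsurj b
      exact ⟨Submodule.Quotient.mk a, rfl⟩
  let e := LinearEquiv.ofBijective l hl
  intro a b hab
  refine (TensorProduct.congr e (LinearEquiv.refl _ _)).injective (key ?_)
  have hn : ∀ z, (stk ι (f y)).lTensor K (TensorProduct.congr e (LinearEquiv.refl _ _) z) =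
      TensorProduct.congr e (LinearEquiv.refl _ _) ((stk ι (f y)).lTensor _ z) := fun z => by
    induction z using TensorProduct.induction_on with
    | zero => simp only [map_zero]
    | tmul c m => rfl
    | add p q hp hq => simp only [map_add, hp, hq]
  rw [hn, hn, hab]

theorem mono_and_isFinLocFree {S : Scheme.{u}} {U E : S.Modules} (hU : CohB1.IsFT U)
    (hE : FlatMod.IsFinLocFree E) (ι : U ⟶ E)
    (h : ∀ s : S, Mono ((Scheme.Modules.pullback (S.fromSpecResidueField s)).map ι)) :
    Mono ι ∧ FlatMod.IsFinLocFree (cokernel ι) := by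
  have hEfp := M1.isFP_of_isFinLocFree hE
  refine ⟨(KFlat.Sch.mono_iff_stalk ι).2 fun x => ?_,
    (M1.isFinLocFree_iff _).2 ⟨isFP_cokernel_ft hU hE ι, fun x => ?_⟩⟩
  · haveI := h x
    haveI := finite_stalk_ft hU x
    haveI := M1.finite_stalk (M1.isFP_isQCoh hEfp) (M1.isFP_isFT hEfp) x
    haveI := ((M1.isFinLocFree_iff E).1 hE).2 x
    obtain ⟨l, hl⟩ := (IsLocalRing.split_injective_iff_lTensor_residueField_injective (stk ι x)).2
      (injective_residue ι x)
    exact (Function.LeftInverse.injective (g := l) (LinearMap.congr_fun hl) : Function.Injective (stk ι x))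
  · haveI := h x
    haveI := finite_stalk_ft hU x
    haveI := M1.finite_stalk (M1.isFP_isQCoh hEfp) (M1.isFP_isFT hEfp) x
    haveI := ((M1.isFinLocFree_iff E).1 hE).2 x
    let C := ShortComplex.mk ι (cokernel.π ι) (cokernel.condition ι)
    have hex : C.Exact := C.exact_of_g_is_cokernel (cokernelIsCokernel ι)
    have hx := M1.exact_iff_stalk C |>.1 hex x
    exact Module.free_of_lTensor_residueField_injective (stk ι x) (stk (cokernel.π ι) x)
      ((M1.epi_iff_stalk _).1 inferInstance x)
      ((ShortComplex.ab_exact_iff_function_exact _).1 hx) (injective_residue ι x)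

open AlgebraicGeometry CategoryTheory CategoryTheory.Limits in
/-- Equivalence of (ii), (iv) and (iii): let S be a scheme and ι : U → E a homomorphism of O_S-modules
with U of finite type and E finite locally free. Then ι is a monomorphism with finite locally free
cokernel if and only if the pullback f^*ι is a monomorphism for every morphism of schemes f : T → S,
and this holds if and only if the pullback of ι along Spec κ(s) → S (the fibre map U(s) → E(s)) is a
monomorphism for every point s of S. (Two further equivalent conditions of the published statement,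
splitting on affine opens and surjectivity of the dual map, are not included.) -/
theorem result {S : Scheme.{u}}
    {U E : S.Modules} (hU : CohB1.IsFT U) (hE : FlatMod.IsFinLocFree E) (ι : U ⟶ E) :
    ((Mono ι ∧ FlatMod.IsFinLocFree (cokernel ι)) ↔
        ∀ (T : Scheme.{u}) (f : T ⟶ S), Mono ((Scheme.Modules.pullback f).map ι)) ∧
      ((∀ (T : Scheme.{u}) (f : T ⟶ S), Mono ((Scheme.Modules.pullback f).map ι)) ↔
        ∀ s : S, Mono ((Scheme.Modules.pullback (S.fromSpecResidueField s)).map ι)) := by
  have h1 : (Mono ι ∧ FlatMod.IsFinLocFree (cokernel ι)) →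
      ∀ (T : Scheme.{u}) (f : T ⟶ S), Mono ((Scheme.Modules.pullback f).map ι) := by
    rintro ⟨_, hQ⟩ T f
    let C := ShortComplex.mk ι (cokernel.π ι) (cokernel.condition ι)
    have hS : C.ShortExact := { exact := C.exact_of_g_is_cokernel (cokernelIsCokernel ι) }
    refine mono_pullback_map f C hS ((KFlat.Sch.isFlat_iff _).2 fun x => ?_)
    haveI := ((M1.isFinLocFree_iff _).1 hQ).2 x
    exact Module.Flat.of_free
  exact ⟨⟨h1, fun h => mono_and_isFinLocFree hU hE ι fun s => h _ _⟩,
    fun h s => h _ _, fun h => h1 (mono_and_isFinLocFree hU hE ι h)⟩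

end Groth.Agent.S10858
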