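import Groth.Statements.S10859
import Groth.Agent.Lib.Grass.Comap

set_option autoImplicit false
universe u
open Grass

namespace Groth.Agent.S10859

open AlgebraicGeometry CategoryTheory in
/-- Let R be a commutative ring, v : M₁ → M₂ a surjective homomorphism of R-modules and k a natural
number. Suppose X₁ and X₂ are schemes over Spec R representing the Grassmannian functors of rank-k
locally free quotients of M₁ and of M₂ (bijections e₁, e₂ between Spec R-morphisms Spec A → X_i and
submodules of A ⊗_R M_i with finite projective quotient of constant rank k, compatible with base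
change along R-algebra maps). Then there is a Spec R-morphism c : X₂ → X₁ which on A-valued points
sends a submodule N of A ⊗_R M₂ to its preimage under A ⊗ v, and every such c is a closed immersion.
(The published statement is for a surjection of quasi-coherent modules over an arbitrary base
scheme, where the two Grassmannians are known to be schemes; this row takes the base affine and the
two representing schemes as hypotheses, with no finiteness condition on the modules.) -/
theorem result (R : Type u) [CommRing R]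
    (M₁ M₂ : Type u) [AddCommGroup M₁] [Module R M₁]
    [AddCommGroup M₂] [Module R M₂]
    (v : M₁ →ₗ[R] M₂) (hv : Function.Surjective v) (k : ℕ)
    (X₁ X₂ : Over (Spec (CommRingCat.of R)))
    (e₁ : ∀ A : CommAlgCat.{u} R,
      (Over.mk (Spec.map (CommRingCat.ofHom (algebraMap R A))) ⟶ X₁) ≃
        (Module.Grassmannian.functor (R := R) (M := M₁) k).obj A)
    (he₁ : ∀ (A B : CommAlgCat.{u} R) (φ : A ⟶ B)
      (g : Over.mk (Spec.map (CommRingCat.ofHom (algebraMap R A))) ⟶ X₁)
      (g' : Over.mk (Spec.map (CommRingCat.ofHom (algebraMap R B))) ⟶ X₁),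
      g'.left = Spec.map (CommRingCat.ofHom φ.hom.toRingHom) ≫ g.left →
        e₁ B g' = (Module.Grassmannian.functor (R := R) (M := M₁) k).map φ (e₁ A g))
    (e₂ : ∀ A : CommAlgCat.{u} R,
      (Over.mk (Spec.map (CommRingCat.ofHom (algebraMap R A))) ⟶ X₂) ≃
        (Module.Grassmannian.functor (R := R) (M := M₂) k).obj A)
    (he₂ : ∀ (A B : CommAlgCat.{u} R) (φ : A ⟶ B)
      (g : Over.mk (Spec.map (CommRingCat.ofHom (algebraMap R A))) ⟶ X₂)
      (g' : Over.mk (Spec.map (CommRingCat.ofHom (algebraMap R B))) ⟶ X₂),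
      g'.left = Spec.map (CommRingCat.ofHom φ.hom.toRingHom) ≫ g.left →
        e₂ B g' = (Module.Grassmannian.functor (R := R) (M := M₂) k).map φ (e₂ A g)) :
    (∃ c : X₂ ⟶ X₁, ∀ (A : CommAlgCat.{u} R)
        (g : Over.mk (Spec.map (CommRingCat.ofHom (algebraMap R A))) ⟶ X₂),
        (e₁ A (g ≫ c)).toSubmodule = (e₂ A g).toSubmodule.comap (v.baseChange A)) ∧
      ∀ c : X₂ ⟶ X₁, (∀ (A : CommAlgCat.{u} R)
        (g : Over.mk (Spec.map (CommRingCat.ofHom (algebraMap R A))) ⟶ X₂),
        (e₁ A (g ≫ c)).toSubmodule = (e₂ A g).toSubmodule.comap (v.baseChange A)) →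
        IsClosedImmersion c.left := by
  let h₁ : GrassLib.Rep R M₁ k X₁ := { e := e₁, natural := he₁ }
  let h₂ : GrassLib.Rep R M₂ k X₂ := { e := e₂, natural := he₂ }
  constructor
  · let c : X₂ ⟶ X₁ :=
      Over.homMk (GrassLib.comapMor v hv h₁ h₂) (GrassLib.comapMor_hom v hv h₁ h₂)
    refine ⟨c, fun A g => ?_⟩
    have hg : h₂.mor (A := A) (e₂ A g) = g.left := h₂.mor_pt g.left (Over.w g)
    have h1 : h₁.mor (A := A) (GrassLib.comapPt v hv (e₂ A g)) = (g ≫ c).left := by
      rw [← GrassLib.mor_comapMor v hv h₁ h₂ (A := A) (e₂ A g), hg]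
      rfl
    have h2 : h₁.mor (A := A) (e₁ A (g ≫ c)) = (g ≫ c).left := h₁.mor_pt (g ≫ c).left (Over.w (g ≫ c))
    have h3 := h₁.mor_injective (h2.trans h1.symm)
    rw [h3]
    rfl
  · intro c hc
    refine GrassLib.isClosedImmersion_comap v hv h₁ h₂ c.left fun A _ _ N => ?_
    let A' := CommAlgCat.of R A
    let g := (e₂ A').symm N
    have h2 : h₁.mor (A := A) (e₁ A' (g ≫ c)) = (g ≫ c).left := h₁.mor_pt (g ≫ c).left (Over.w (g ≫ c))
    have h3 : e₁ A' (g ≫ c) = GrassLib.comapPt v hv N := by
      apply Module.Grassmannian.ext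
      rw [hc A' g]
      simp only [g, Equiv.apply_symm_apply]
      rfl
    rw [h3] at h2
    exact h2.symm

end Groth.Agent.S10859
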