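import Groth.Statements.S1086
import Groth.Agent.Lib.FilT.Basic

set_option autoImplicit false
universe v u
open CategoryTheory CategoryTheory.Limits Opposite
open FilD

namespace Groth.Agent.S1086

open CategoryTheory.Limits FilD in
theorem exists_kernel_lift {A : Type u} [Category.{v} A] [Abelian A] {X Y : FilF A} (φ : X ⟶ Y) (p : ℤ)
    {T : A} (x : T ⟶ FilT.lev X p) (hx : x ≫ FilT.app φ p = 0) :
    ∃ k : T ⟶ (kernel φ.hom).obj (op p), k ≫ (kernel.ι φ.hom).app (op p) = x := by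
  obtain ⟨l, hl⟩ := KernelFork.IsLimit.lift'
    (KernelFork.mapIsLimit _ (kernelIsKernel φ.hom) ((evaluation ℤᵒᵖ A).obj (op p))) x hx
  exact ⟨l, hl⟩

open CategoryTheory.Limits in
@[reassoc]
theorem π_map {A : Type u} [Category.{v} A] [Abelian A] {F G : ℤᵒᵖ ⥤ A} (φ : F ⟶ G) (p : ℤ) :
    cokernel.π (F.map (FilD.stepHom p)) ≫ (FilD.gr A p).map φ =
      φ.app (op p) ≫ cokernel.π (G.map (FilD.stepHom p)) :=
  cokernel.π_desc _ _ _


/-- Let φ : X ⟶ Y be a morphism of finite filtered objects of an abelian category and let Ker φ carry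
the induced filtration (the kernel computed levelwise). Then φ is strict if and only if for every p
the sequence grᵖ(Ker φ) ⟶ grᵖ X ⟶ grᵖ Y is exact. -/
theorem result {A : Type u} [Category.{v} A] [Abelian A] {X Y : FilD.FilF A} (φ : X ⟶ Y) :
    FilD.IsStrict φ ↔
      ∀ p : ℤ, ((ShortComplex.mk (kernel.ι φ.hom) φ.hom (kernel.condition φ.hom)).map (FilD.gr A p)).Exact := by
  constructor
  · intro hφ p
    rw [ShortComplex.exact_iff_exact_up_to_refinements]
    intro T (z : T ⟶ (FilD.grF A p).obj X) (hz : z ≫ (FilD.grF A p).map φ = 0)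
    obtain ⟨T₁, e₁, he₁, x, hx⟩ := FilT.exists_lift_π X p z
    obtain ⟨y, hy⟩ := FilT.exists_step (x ≫ FilT.app φ p) (by
      rw [Category.assoc, ← FilT.π_grMap, ← reassoc_of% hx, hz, comp_zero])
    obtain ⟨T₂, e₂, he₂, x', hx'⟩ := FilT.exists_of_isStrict hφ p x y hy.symm
    obtain ⟨k, hk⟩ := exists_kernel_lift φ p (e₂ ≫ x - x' ≫ FilT.sh X p) (by
      rw [Preadditive.sub_comp, Category.assoc, Category.assoc, FilT.sh_app, reassoc_of% hx', hy,
        sub_self])
    refine ⟨T₂, e₂ ≫ e₁, inferInstance, k ≫ cokernel.π ((kernel φ.hom).map (FilD.stepHom p)), ?_⟩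
    show (e₂ ≫ e₁) ≫ z = (k ≫ _) ≫ (FilD.gr A p).map (kernel.ι φ.hom)
    rw [Category.assoc, hx]
    refine Eq.trans ?_ ((Category.assoc _ _ _).trans ((congrArg (k ≫ ·) (π_map _ p)).trans
      ((Category.assoc _ _ _).symm.trans (congrArg (· ≫ FilT.π X p) hk)))).symm
    rw [Preadditive.sub_comp, Category.assoc, Category.assoc, FilT.sh_π, comp_zero]
    exact (sub_zero _).symm
  · intro h
    refine FilT.isStrict_of φ fun p T x y hxy => ?_
    obtain ⟨T₁, e₁, he₁, z, hz⟩ : ∃ (T₁ : A) (e₁ : T₁ ⟶ T) (_ : Epi e₁)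
        (z : T₁ ⟶ (FilD.gr A p).obj (kernel φ.hom)),
        e₁ ≫ x ≫ FilT.π X p = z ≫ (FilD.gr A p).map (kernel.ι φ.hom) :=
      (h p).exact_up_to_refinements (x ≫ FilT.π X p) ((Category.assoc _ _ _).trans
        ((congrArg (x ≫ ·) (FilT.π_grMap φ p)).trans (by rw [reassoc_of% hxy, FilT.sh_π, comp_zero]; rfl)))
    obtain ⟨T₂, e₂, he₂, k, hk⟩ := surjective_up_to_refinements_of_epi
      (cokernel.π ((kernel φ.hom).map (FilD.stepHom p))) z
    obtain ⟨x', hx'⟩ := FilT.exists_step (e₂ ≫ e₁ ≫ x - k ≫ (kernel.ι φ.hom).app (op p)) (by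
      rw [Preadditive.sub_comp, Category.assoc, Category.assoc, sub_eq_zero, hz]
      exact (Category.assoc _ _ _).symm.trans ((congrArg (· ≫ (FilD.gr A p).map (kernel.ι φ.hom)) hk).trans
        ((Category.assoc _ _ _).trans ((congrArg (k ≫ ·) (π_map _ p)).trans (Category.assoc _ _ _).symm))))
    refine ⟨T₂, e₂ ≫ e₁, inferInstance, x', ?_⟩
    have h0 : (kernel.ι φ.hom).app (op p) ≫ FilT.app φ p = 0 :=
      NatTrans.congr_app (kernel.condition φ.hom) (op p)
    rw [← cancel_mono (FilT.sh Y p), Category.assoc, ← FilT.sh_app, ← Category.assoc, hx',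
      Preadditive.sub_comp]
    simp only [Category.assoc, hxy, h0, comp_zero, sub_zero]


end Groth.Agent.S1086
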