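import Groth.Statements.S10860
import Groth.Agent.Lib.FiniteNhd12.Basic
import Mathlib.AlgebraicGeometry.Morphisms.Proper


set_option autoImplicit false
universe u
open Mor

namespace Groth.Agent.S10860

open Groth.Agent.FiniteNhd12 Groth.Agent.AlgSpDecent

open CategoryTheory AlgebraicGeometry in
/-- For a proper morphism f : X → Y, the set V of points of Y with finite fibre is open, and f
restricted over V is finite (stated as the existence of an open subscheme of Y whose underlying set
is exactly V and over which f is finite). -/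
theorem result {X Y : Scheme.{u}} (f : X ⟶ Y) [IsProper f] :
    ∃ U : Y.Opens, (U : Set Y) = {y : Y | (f.base ⁻¹' {y}).Finite} ∧ IsFinite (f ∣_ U) := by
  let U : Y.Opens :=
    ⟨_, (f.isClosedMap _ f.quasiFiniteLocus.isOpen.isClosed_compl).isOpen_compl⟩
  have hlqf : LocallyQuasiFinite (f ∣_ U) := by
    rw [← Scheme.Hom.quasiFiniteLocus_eq_top_iff, eq_top_iff]
    intro x _
    have hw : x.1 ∈ f.quasiFiniteLocus := by
      by_contra hc
      exact (x.2 : f x.1 ∈ U) ⟨x.1, hc, rfl⟩
    rw [Scheme.Hom.mem_quasiFiniteLocus, ← Scheme.Hom.quasiFiniteAt_comp_iff (g := U.ι),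
      morphismRestrict_ι]
    exact Scheme.Hom.quasiFiniteAt_comp_iff_of_isOpenImmersion.2 hw
  have : IsProper (f ∣_ U) := IsZariskiLocalAtTarget.restrict (P := @IsProper) ‹_› U
  have hfin : IsFinite (f ∣_ U) :=
    (IsFinite.iff_isProper_and_locallyQuasiFinite _).2 ⟨inferInstance, hlqf⟩
  refine ⟨U, Set.ext fun y => ⟨fun hy => ?_, fun hy => ?_⟩, hfin⟩
  · refine (((f ∣_ U).finite_preimage (Set.finite_singleton ⟨y, hy⟩)).image (f ⁻¹ᵁ U).ι).subset
      fun x hx => ?_
    have hxU : f x ∈ U := (show f x = y from hx) ▸ hy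
    exact ⟨⟨x, hxU⟩, Subtype.ext ((morphismRestrict_base_coe f U _).trans hx), rfl⟩
  · rintro ⟨x, hx, rfl⟩
    exact hx (quasiFiniteAt_of_isoIn f (isoIn_of_finite_fibre f hy))


end Groth.Agent.S10860
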