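import Groth.Statements.S10863
import Mathlib

set_option autoImplicit false
universe u
open CAlg

namespace Groth.Agent.S10863

open TensorProduct in
/-- Let k be a field, A a finite-dimensional local k-algebra with residue field κ, and k' a field
extension of k. Then the separable degree of κ over k equals the sum over the maximal ideals m' of
k' ⊗_k A (the points of the base-changed finite scheme lying over the given point) of the separable
degrees over k' of their residue fields. -/
theorem result (k A k' : Type u) [Field k] [CommRing A] [Algebra k A]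
    [Module.Finite k A] [IsLocalRing A] [Field k'] [Algebra k k'] :
    Field.finSepDegree k (IsLocalRing.ResidueField A) =
      ∑ᶠ m : MaximalSpectrum (k' ⊗[k] A),
        Field.finSepDegree k' (IsLocalRing.ResidueField (Localization.AtPrime m.asIdeal)) := by
  classical
  let Ω := AlgebraicClosure k'
  let B := TensorProduct k k' A
  haveI : IsArtinianRing B := IsArtinianRing.of_finite k' B
  haveI : Finite (MaximalSpectrum B) := inferInstance
  letI := Fintype.ofFinite (MaximalSpectrum B)
  let κ : MaximalSpectrum B → Type u := fun m => IsLocalRing.ResidueField (Localization.AtPrime m.asIdeal)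
  let π : ∀ m, B →ₐ[k'] κ m := fun m => IsScalarTower.toAlgHom k' B (κ m)
  have hsurj : ∀ m, Function.Surjective (π m) := fun m y => by
    obtain ⟨y, rfl⟩ := (IsLocalization.AtPrime.equivQuotMaximalIdeal m.asIdeal (Localization.AtPrime m.asIdeal)).surjective y
    obtain ⟨b, rfl⟩ := Ideal.Quotient.mk_surjective y
    exact ⟨b, rfl⟩
  have hker : ∀ m, RingHom.ker (π m) = m.asIdeal := fun m => by
    ext b
    rw [RingHom.mem_ker]
    show IsLocalRing.residue _ (algebraMap B (Localization.AtPrime m.asIdeal) b) = 0 ↔ _
    rw [IsLocalRing.residue_eq_zero_iff, IsLocalization.AtPrime.to_map_mem_maximal_iff (Localization.AtPrime m.asIdeal) m.asIdeal]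
  haveI : ∀ m, Module.Finite k' (κ m) := fun m => Module.Finite.of_surjective (π m).toLinearMap (hsurj m)
  let Φ : (Σ m, κ m →ₐ[k'] Ω) → (B →ₐ[k'] Ω) := fun p => p.2.comp (π p.1)
  have hΦ : Function.Bijective Φ := by
    constructor
    · rintro ⟨m, g⟩ ⟨m', g'⟩ h
      have e : m = m' := by
        refine MaximalSpectrum.ext ?_
        rw [← hker m, ← hker m']
        show RingHom.ker (π m).toRingHom = RingHom.ker (π m').toRingHom
        rw [← RingHom.ker_comp_of_injective (π m).toRingHom (f := g.toRingHom) g.toRingHom.injective,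
          ← RingHom.ker_comp_of_injective (π m').toRingHom (f := g'.toRingHom) g'.toRingHom.injective]
        exact congrArg (fun f : B →ₐ[k'] Ω => RingHom.ker f.toRingHom) h
      subst e
      congr 1
      exact AlgHom.ext fun x => by obtain ⟨b, rfl⟩ := hsurj m x; exact AlgHom.congr_fun h b
    · intro f
      haveI : (RingHom.ker f.toRingHom).IsPrime := RingHom.ker_isPrime _
      let m : MaximalSpectrum B := ⟨RingHom.ker f.toRingHom, IsArtinianRing.isMaximal_of_isPrime _⟩
      let gl := Ideal.Quotient.liftₐ (RingHom.ker (π m)) f fun b hb => by rw [hker] at hb; exact hb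
      let g : κ m →ₐ[k'] Ω := gl.comp
        (Ideal.quotientKerAlgEquivOfSurjective (hsurj m)).symm.toAlgHom
      refine ⟨⟨m, g⟩, AlgHom.ext fun b => ?_⟩
      show gl ((Ideal.quotientKerAlgEquivOfSurjective (hsurj m)).symm (π m b)) = f b
      rw [show π m b = Ideal.quotientKerAlgEquivOfSurjective (hsurj m) (Ideal.Quotient.mk _ b) from
        ((Ideal.quotientKerAlgEquivOfSurjective_apply (hsurj m) (Ideal.Quotient.mk _ b)).trans (RingHom.kerLift_mk _ _)).symm, AlgEquiv.symm_apply_apply]
      rfl
  let ev : (IsLocalRing.ResidueField A →ₐ[k] Ω) → (A →ₐ[k] Ω) := fun g => g.comp (IsScalarTower.toAlgHom k A _)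
  have hev : Function.Bijective ev := by
    refine ⟨fun g g' h => AlgHom.ext fun x => ?_, fun f => ?_⟩
    · obtain ⟨a, rfl⟩ := IsLocalRing.residue_surjective x
      exact AlgHom.congr_fun h a
    · haveI : IsArtinianRing A := IsArtinianRing.of_finite k A
      haveI : (RingHom.ker f.toRingHom).IsPrime := RingHom.ker_isPrime _
      have hm := IsLocalRing.eq_maximalIdeal (IsArtinianRing.isMaximal_of_isPrime (RingHom.ker f.toRingHom))
      exact ⟨Ideal.Quotient.liftₐ (IsLocalRing.maximalIdeal A) f fun a ha => (hm.ge ha : a ∈ RingHom.ker f.toRingHom),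
        AlgHom.ext fun a => rfl⟩
  haveI : Module.Finite k (IsLocalRing.ResidueField A) :=
    Module.Finite.of_surjective (IsScalarTower.toAlgHom k A (IsLocalRing.ResidueField A)).toLinearMap IsLocalRing.residue_surjective
  rw [finsum_eq_sum_of_fintype, Field.finSepDegree_eq_of_isAlgClosed k (IsLocalRing.ResidueField A) Ω]
  calc Nat.card (IsLocalRing.ResidueField A →ₐ[k] Ω) = Nat.card (A →ₐ[k] Ω) := Nat.card_eq_of_bijective _ hev
    _ = Nat.card (B →ₐ[k'] Ω) := Nat.card_congr (AlgHom.liftEquiv k k' A Ω)
    _ = Nat.card (Σ m, κ m →ₐ[k'] Ω) := (Nat.card_eq_of_bijective _ hΦ).symm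
    _ = _ := by
      rw [Nat.card_sigma]
      exact Finset.sum_congr rfl fun m _ => (Field.finSepDegree_eq_of_isAlgClosed k' (κ m) Ω).symm

end Groth.Agent.S10863
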