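import Groth.Statements.S10864
import Groth.Agent.Lib.ProjDeg17.Projection
-- import your own Groth.Agent.* helpers here

set_option autoImplicit false
universe u
open Variety

namespace Groth.Agent.S10864

open CategoryTheory AlgebraicGeometry in
/-- Let k be an infinite field and X a closed subscheme of projective n-space over k, of dimension d
(topological Krull dimension, a natural number). Then there is a finite surjective morphism X →
P^d_k over k. -/
theorem result (k : Type u) [Field k] [Infinite k] (X : Scheme.{u})
    (n : ℕ) (ι : X ⟶ CohB1.ProjSpace n k) [IsClosedImmersion ι] (d : ℕ) (hd : topologicalKrullDim X = d) :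
    ∃ π : X ⟶ CohB1.ProjSpace d k, π ≫ CohB1.ProjSpace.toSpec d k = ι ≫ CohB1.ProjSpace.toSpec n k ∧
      IsFinite π ∧ Surjective π := by
  obtain ⟨h, hh, hcov⟩ := ProjDeg17.exists_linearForms_no_common_zero k n (Z := Set.range ι.base)
    ι.isClosedEmbedding.isClosed_range d (le_of_eq (by
      rw [← hd]
      exact (IsHomeomorph.topologicalKrullDim_eq _ ι.isClosedEmbedding.toIsEmbedding.toHomeomorph.isHomeomorph).symm))
  obtain ⟨π, hπ, hfin, -⟩ := ProjDeg17.exists_finite_hom_of_linearForms (ι ≫ CohB1.ProjSpace.toSpec n k) ι rfl h hh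
    (fun y => hcov (ι y) ⟨y, rfl⟩)
  exact ⟨π, hπ, hfin, ⟨ProjDeg17.surjective_of_isFinite_of_dim π hd⟩⟩

end Groth.Agent.S10864
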