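import Groth.Statements.S10865
import Groth.Agent.Lib.IdealMul.Devissage
import Groth.Agent.Lib.CohFound.DevissageModel

set_option autoImplicit false
universe u
open Coherent

namespace Groth.Agent.S10865

open CategoryTheory CategoryTheory.Limits AlgebraicGeometry in
/-- Let X be a nonempty Noetherian scheme and K an isomorphism-closed class of O_X-modules such that (a)
in a short exact sequence of coherent modules, if the middle and right terms lie in K so does the
left one, and if the two outer terms lie in K so does the middle one; (b) if a coherent F has some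
d-fold direct sum (d ≥ 1) in K then F lies in K. If for every integral closed subscheme i : Z → X
there is a coherent O_Z-module with nonzero stalk at the generic point whose direct image under i
lies in K, then every coherent O_X-module lies in K. (For the empty scheme the hypotheses hold for
the empty class, so X is taken nonempty here.) -/
theorem result (X : Scheme.{u}) [IsNoetherian X] [Nonempty X]
    (K : ObjectProperty X.Modules) [K.IsClosedUnderIsomorphisms]
    (ha : ∀ S : ShortComplex X.Modules, S.ShortExact → Coh.IsCoh S.X₁ → Coh.IsCoh S.X₂ → Coh.IsCoh S.X₃ →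
      (K S.X₂ → K S.X₃ → K S.X₁) ∧ (K S.X₁ → K S.X₃ → K S.X₂))
    (hb : ∀ (F : X.Modules) (d : ℕ), 1 ≤ d → Coh.IsCoh F → K (∐ fun _ : Fin d => F) → K F)
    (hgen : ∀ (Z : Scheme.{u}) (i : Z ⟶ X) [IsClosedImmersion i] [IsIntegral Z],
      ∃ H : Z.Modules, Coh.IsCoh H ∧ Nontrivial (H.presheaf.stalk (genericPoint Z)) ∧
        K ((Scheme.Modules.pushforward i).obj H))
    (F : X.Modules) (hF : Coh.IsCoh F) : K F := by
  classical
  have hleft : ∀ S : ShortComplex X.Modules, S.ShortExact → Coh.IsCoh S.X₁ → Coh.IsCoh S.X₂ →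
      Coh.IsCoh S.X₃ → K S.X₂ → K S.X₃ → K S.X₁ := fun S hS a b c => (ha S hS a b c).1
  have hmid : ∀ S : ShortComplex X.Modules, S.ShortExact → Coh.IsCoh S.X₁ → Coh.IsCoh S.X₂ →
      Coh.IsCoh S.X₃ → K S.X₁ → K S.X₃ → K S.X₂ := fun S hS a b c => (ha S hS a b c).2
  have hmodel : ∀ η : X, Nonempty (CohFound.HasModel K η) := fun η => by
    obtain ⟨Z, i, hi, hZ, hr, hη, -⟩ := CohFound.exists_integral_point η
    obtain ⟨H, hH, hnt, hKH⟩ := hgen Z i
    subst hη
    haveI : IsLocallyNoetherian Z := LocallyOfFiniteType.isLocallyNoetherian i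
    let G := (Scheme.Modules.pushforward i).obj H
    let ξ := i (genericPoint Z)
    have hG : Coh.IsCoh G := CohFound.isCoh_push_closedImm i hH
    have hkill : ∀ c ∈ IsLocalRing.maximalIdeal (X.presheaf.stalk ξ), ∀ a : G.presheaf.stalk ξ, c • a = 0 :=
      fun c hc a => (CohFound.bijective_pushStalk i H (genericPoint Z)).1 (by
        rw [CohFound.pushStalk_smul, CohFound.stalkMap_eq_zero i hc, zero_smul]
        exact (map_zero (CohFound.pushStalk i H (genericPoint Z)).hom).symm)
    obtain ⟨a, ha₀⟩ : ∃ a : G.presheaf.stalk ξ, a ≠ 0 := by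
      obtain ⟨b, hb⟩ := exists_ne (0 : H.presheaf.stalk (genericPoint Z))
      obtain ⟨a, rfl⟩ := (CohFound.bijective_pushStalk i H (genericPoint Z)).2 b
      exact ⟨a, fun h => hb ((congrArg _ h).trans (map_zero (CohFound.pushStalk i H (genericPoint Z)).hom))⟩
    haveI : Module.Finite (X.presheaf.stalk ξ) (G.presheaf.stalk ξ) := M1.finite_stalk hG.1 hG.2 ξ
    obtain ⟨r, e, hr', hspan, hindep⟩ := CohFound.exists_residue_basis hkill a ha₀
    exact ⟨{ G := G, r := r, isCoh := hG, supp := (CohFound.support_push_subset i H).trans hr.le, pos := hr',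
             e := e, kills := hkill, span := hspan, indep := hindep, prop := hKH,
             of_sigma := fun Q hQ h => hb Q r hr' hQ h }⟩
  have hzero : ∀ M : X.Modules, Coh.IsCoh M → IsZero M → K M := fun M _ hM => by
    obtain ⟨m⟩ := hmodel (Classical.arbitrary X)
    have hS := CohFound.shortExact_kernel (𝟙 m.G)
    exact K.prop_of_iso ((isZero_kernel_of_mono (𝟙 m.G)).iso hM)
      (hleft _ hS (M1.isCoh_kernel m.isCoh m.isCoh.1 _) m.isCoh m.isCoh m.prop m.prop)
  refine CohFound.holds_of_cyclic (Z₀ := Set.univ) hzero (fun S hS a b c _ => hmid S hS a b c)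
    (fun Z η hη _ hsmall Q hQ hQZ q hq hqm hgenQ => ?_) hF (Set.subset_univ _)
  obtain ⟨m⟩ := hmodel η
  exact IdealMulL.prop_of_cyclic' hleft hmid hsmall m hη hQ hQZ hq hqm hgenQ

end Groth.Agent.S10865
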