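import Groth.Statements.S10866
import Groth.Agent.S10865
import Groth.Agent.Lib.RHom.PCoh
import Groth.Agent.Lib.ModM1.Push

set_option autoImplicit false
set_option linter.style.haveILetI false
set_option backward.isDefEq.respectTransparency.types false
universe u
open Coherent

namespace Groth.Agent.S10866

open CategoryTheory AlgebraicGeometry in
/-- Let f : X → Y be a morphism of Noetherian schemes such that for every integral closed subscheme i :
Z → X there is a coherent O_Z-module with nonzero stalk at the generic point of Z whose direct image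
under i followed by f is coherent on Y. Then the direct image f_*F of every coherent O_X-module F is
coherent. -/
theorem result {X Y : Scheme.{u}} [IsNoetherian X] [IsNoetherian Y]
    (f : X ⟶ Y)
    (hgen : ∀ (Z : Scheme.{u}) (i : Z ⟶ X) [IsClosedImmersion i] [IsIntegral Z],
      ∃ H : Z.Modules, Coh.IsCoh H ∧ Nontrivial (H.presheaf.stalk (genericPoint Z)) ∧
        Coh.IsCoh ((Scheme.Modules.pushforward (i ≫ f)).obj H))
    (F : X.Modules) (hF : Coh.IsCoh F) : Coh.IsCoh ((Scheme.Modules.pushforward f).obj F) := by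
  rcases isEmpty_or_nonempty X with hXe | hXn
  · have hF0 : Limits.IsZero F := by
      haveI : ∀ U : X.Opens, Subsingleton Γ(X, U) := fun U => by
        obtain rfl : U = ⊥ := by ext x; exact (IsEmpty.false x).elim
        infer_instance
      rw [Limits.IsZero.iff_id_eq_zero]
      ext U s
      exact @Subsingleton.elim _ (Module.subsingleton Γ(X, U) Γ(F, U)) _ _
    exact CohFound.isCoh_of_iso ((Limits.isZero_kernel_of_mono (𝟙 (Coh.structureModule Y))).iso
      ((Scheme.Modules.pushforward f).map_isZero hF0))
      (M1.isCoh_kernel (M1.isCoh_structureModule Y) (M1.isQCoh_structureModule Y) _)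
  let P := Scheme.Modules.pushforward f
  let K : ObjectProperty X.Modules := fun F => Coh.IsCoh (P.obj F)
  haveI : K.IsClosedUnderIsomorphisms := ⟨fun e h => CohFound.isCoh_of_iso (P.mapIso e) h⟩
  haveI : Limits.PreservesLimitsOfSize.{0, 0} P :=
    (Scheme.Modules.pullbackPushforwardAdjunction f).rightAdjoint_preservesLimits
  refine S10865.result X K (fun S hS h1 h2 h3 => ?_) (fun F d hd hF h => ?_) (fun Z i _ _ => ?_) F hF
  · haveI := hS.mono_f
    have q : ∀ {M : X.Modules}, Coh.IsCoh M → Coh.IsQCoh (P.obj M) := fun h => M1.isQCoh_push f h.1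
    have hw : P.map S.f ≫ P.map S.g = 0 := by rw [← P.map_comp, S.zero, Functor.map_zero]
    haveI : Mono (P.map S.f) := inferInstance
    refine ⟨fun k2 _ => M1.isCoh_of_mono (P.map S.f) k2 (q h1), fun k1 k3 => ?_⟩
    have hex : (ShortComplex.mk (P.map S.f) (P.map S.g) hw).Exact :=
      ShortComplex.exact_of_f_is_kernel _ (Limits.KernelFork.mapIsLimit _ hS.fIsKernel P)
    let T := ShortComplex.mk (P.map S.f) (Limits.cokernel.π (P.map S.f)) (Limits.cokernel.condition _)
    have hT : T.ShortExact := ⟨ShortComplex.exact_of_g_is_cokernel T (Limits.cokernelIsCokernel _)⟩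
    haveI : Mono (Limits.cokernel.desc (P.map S.f) (P.map S.g) hw) := hex.mono_cokernelDesc
    exact RHom.isCoh_of_shortExact hT k1
      (M1.isCoh_of_mono (Limits.cokernel.desc (P.map S.f) (P.map S.g) hw) k3
        (M1.isQCoh_cokernel (q h1) (q h2) _))
  · haveI : Mono (Limits.Sigma.ι (fun _ : Fin d => F) ⟨0, hd⟩) := inferInstance
    exact M1.isCoh_of_mono (P.map (Limits.Sigma.ι (fun _ : Fin d => F) ⟨0, hd⟩)) h (M1.isQCoh_push f hF.1)
  · obtain ⟨H, hH, hnt, hHf⟩ := hgen Z i
    exact ⟨H, hH, hnt, CohFound.isCoh_of_iso ((Scheme.Modules.pushforwardComp i f).app H).symm hHf⟩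

end Groth.Agent.S10866
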