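import Groth.Statements.S10868
import Mathlib.AlgebraicGeometry.Morphisms.Proper
import Mathlib.AlgebraicGeometry.QuasiAffine


set_option autoImplicit false
universe u
open Mor

namespace Groth.Agent.S10868

open CategoryTheory AlgebraicGeometry in
/-- f : X → Y is a finite morphism exactly when it is proper and quasi-affine (quasi-compact, with the
inverse image of every affine open subscheme of Y a quasi-affine scheme). -/
theorem result {X Y : Scheme.{u}} (f : X ⟶ Y) :
    IsFinite f ↔ IsProper f ∧ Mor2.IsQuasiAffine f := by
  refine ⟨fun h => ⟨inferInstance, inferInstance, fun V hV => ?_⟩, fun ⟨hp, hq⟩ => ?_⟩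
  · have : IsAffine (f ⁻¹ᵁ V : Scheme.{u}) := hV.preimage f
    infer_instance
  · have : IsAffineHom f := ⟨fun V hV => by
      have := hq.2 V hV
      have : IsAffine V.toScheme := hV
      let W : Scheme.{u} := (f ⁻¹ᵁ V).toScheme
      let fV : W ⟶ V.toScheme := f ∣_ V
      have : IsProper fV := IsZariskiLocalAtTarget.restrict (P := @IsProper) hp V
      let a := Spec.map fV.appTop ≫ V.toScheme.isoSpec.inv
      have ha : W.toSpecΓ ≫ a = fV := by
        rw [← Category.assoc, ← Scheme.toSpecΓ_naturality, Category.assoc]
        simp [Scheme.isoSpec]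
      have : IsProper (W.toSpecΓ ≫ a) := ha ▸ inferInstanceAs (IsProper fV)
      have : IsProper W.toSpecΓ := IsProper.of_comp W.toSpecΓ a
      have : IsClosedImmersion W.toSpecΓ :=
        IsClosedImmersion.of_isPreimmersion _ W.toSpecΓ.isClosedMap.isClosed_range
      exact isAffine_of_isAffineHom W.toSpecΓ⟩
    exact IsFinite.iff_isProper_and_isAffineHom.2 ⟨hp, this⟩


end Groth.Agent.S10868
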