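import Groth.Statements.S10870
import Groth.Agent.Lib.SMT.Determinantal
import Groth.Agent.Lib.SMT.Pairing
import Groth.Agent.Lib.FibDim4.Basic

set_option autoImplicit false
universe u
open CAlgX

namespace Groth.Agent.S10870

open TensorProduct

theorem dim_infinite (K : Type u) [Field K] [Infinite K] (n m r : ℕ) (hr : r ≤ min n m) :
    ringKrullDim (MvPolynomial (Fin n × Fin m) K ⧸ CAlgX.minorIdeal (Matrix.of fun (i : Fin n) (j : Fin m) => (MvPolynomial.X (i, j) : MvPolynomial (Fin n × Fin m) K)) (r + 1)) =
      ((r * (m + n - r) : ℕ) : WithBot ℕ∞) := by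
  rcases lt_or_eq_of_le hr with h | h
  · have := (SMT.cm_dim_minor K (d := m) (r := n) (t := r + 1) (by omega) (by omega) (by omega) (by omega)).2
    refine this.trans ?_
    norm_cast
    rw [Nat.add_sub_cancel, show m + n - (r + 1) + 1 = m + n - r by omega]
  · rw [SMT.minorIdeal_eq_bot _ (by omega), ringKrullDim_eq_of_ringEquiv (RingEquiv.quotientBot _),
      MvPolynomial.ringKrullDim_of_isNoetherianRing, ringKrullDim_eq_zero_of_field]
    simp only [Nat.card_eq_fintype_card, Fintype.card_prod, Fintype.card_fin, zero_add]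
    norm_cast
    rcases le_total n m with hnm | hnm
    · rw [min_eq_left hnm] at h
      rw [h, Nat.add_sub_cancel]
    · rw [min_eq_right hnm] at h
      rw [h, Nat.add_sub_cancel_left, mul_comm]

theorem dim_extend (k K : Type u) [Field k] [Field K] [Algebra k K] {σ : Type} [Finite σ]
    (I : Ideal (MvPolynomial σ k)) :
    ringKrullDim (MvPolynomial σ K ⧸ I.map (MvPolynomial.map (algebraMap k K))) =
      ringKrullDim (MvPolynomial σ k ⧸ I) := by
  refine Eq.trans ?_ (FibDim4.ringKrullDim_tensorProduct k K (MvPolynomial σ k ⧸ I))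
  refine Eq.trans ?_ (ringKrullDim_eq_of_ringEquiv (Algebra.TensorProduct.tensorQuotientEquiv (R := k) K (MvPolynomial σ k) K I).toRingEquiv).symm
  refine (ringKrullDim_eq_of_ringEquiv (Ideal.quotientEquiv _ _
    (MvPolynomial.algebraTensorAlgEquiv k K (σ := σ)).toRingEquiv ?_)).symm
  refine Eq.trans ?_ (Ideal.map_map (Algebra.TensorProduct.includeRight (R := k) (A := K) (B := MvPolynomial σ k)).toRingHom _).symm
  refine congrFun (congrArg Ideal.map (RingHom.ext fun p => ?_)) I
  change _ = MvPolynomial.algebraTensorAlgEquiv k K (1 ⊗ₜ[k] p)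
  rw [MvPolynomial.algebraTensorAlgEquiv_tmul, one_smul]

/-- For a field k and 0 ≤ r ≤ min(n, m), the affine determinantal scheme of n × m matrices of rank at
most r over k — the spectrum of the polynomial ring on the entries of the generic n × m matrix
modulo the ideal of its (r+1) × (r+1) minors — has dimension r(m + n − r). -/
theorem result (k : Type u) [Field k] (n m r : ℕ) (hr : r ≤ min n m) :
    ringKrullDim (MvPolynomial (Fin n × Fin m) k ⧸ CAlgX.minorIdeal (Matrix.of fun (i : Fin n) (j : Fin m) => (MvPolynomial.X (i, j) : MvPolynomial (Fin n × Fin m) k)) (r + 1)) =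
      ((r * (m + n - r) : ℕ) : WithBot ℕ∞) := by
  haveI : Infinite (RatFunc k) := Infinite.of_injective _ (RatFunc.algebraMap_injective k)
  rw [← dim_infinite (RatFunc k) n m r hr, ← dim_extend k (RatFunc k)]
  refine ringKrullDim_eq_of_ringEquiv (Ideal.quotEquivOfEq ?_)
  simp only [CAlgX.minorIdeal, Ideal.map_span, ← Set.range_comp]
  refine congrArg Ideal.span (congrArg Set.range (funext fun fg => ?_))
  rw [Function.comp_apply, RingHom.map_det]
  congr 1
  ext a b
  simp

end Groth.Agent.S10870
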