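import Groth.Statements.S10871
import Mathlib.Tactic
import Mathlib.RingTheory.Ideal.Quotient.Operations
import Mathlib.AlgebraicGeometry.Morphisms.Affine
import Mathlib.RingTheory.DedekindDomain.Dvr
import Mathlib.RingTheory.Localization.Ideal
-- import your own Groth.Agent.* helpers here

set_option autoImplicit false
universe u
open AlgebraicGeometry
open Curves CategoryTheory

namespace Groth.Agent.S10871
set_option linter.style.haveILetI false

/-- Every open subscheme of the spectrum of a Dedekind domain is affine. -/
theorem result (A : Type u) [CommRing A] [IsDedekindDomain A]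
    (U : (Spec (CommRingCat.of A)).Opens) : IsAffineOpen U := by
  classical
  obtain ⟨I, hI⟩ := (PrimeSpectrum.isClosed_iff_zeroLocus_ideal _).1 (isClosed_compl_iff.2 U.2)
  -- the elements `g` on whose basic open `U` is cut out by a single equation
  let s : Set A := {g | ∃ f ∈ I, ∀ y ∈ I, g * y ∈ Ideal.span {f}}
  have hs : Ideal.span s = ⊤ := by
    by_contra hne
    obtain ⟨M, hM, hle⟩ := Ideal.exists_le_maximal _ hne
    haveI := hM.isPrime
    haveI : IsPrincipalIdealRing (Localization.AtPrime M) := by
      rcases eq_or_ne M ⊥ with h | h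
      · have hF : IsField A := by
          by_contra hnf
          exact Ring.ne_bot_of_isMaximal_of_not_isField hM hnf h
        haveI : IsPrincipalIdealRing A := by
          letI := hF.toField
          infer_instance
        exact IsPrincipalIdealRing.of_surjective (algebraMap A (Localization.AtPrime M))
          (IsField.localization_map_bijective (M := M.primeCompl) (fun h => h (zero_mem M)) hF).surjective
      · haveI := IsLocalization.AtPrime.isDiscreteValuationRing_of_dedekind_domain A h (Localization.AtPrime M)
        infer_instance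
    obtain ⟨x, hx⟩ := (IsPrincipalIdealRing.principal (I.map (algebraMap A (Localization.AtPrime M)))).principal
    have hxI : x ∈ I.map (algebraMap A (Localization.AtPrime M)) := hx ▸ Submodule.mem_span_singleton_self x
    obtain ⟨⟨⟨a, haI⟩, t⟩, hat⟩ := (IsLocalization.mem_map_algebraMap_iff M.primeCompl _).1 hxI
    have key : ∀ y ∈ I, ∃ u : A, u ∉ M ∧ u * y ∈ Ideal.span {a} := by
      intro y hy
      have hym : algebraMap A (Localization.AtPrime M) y ∈ Submodule.span _ {x} :=
        hx ▸ Ideal.mem_map_of_mem _ hy
      obtain ⟨c, hc⟩ := Submodule.mem_span_singleton.1 hym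
      obtain ⟨c', d, rfl⟩ := IsLocalization.exists_mk'_eq M.primeCompl c
      have h1 : algebraMap A (Localization.AtPrime M) ((d : A) * t * y) =
          algebraMap A (Localization.AtPrime M) (c' * a) := by
        rw [map_mul, map_mul, map_mul, ← hc, smul_eq_mul]
        simp only at hat
        calc algebraMap A (Localization.AtPrime M) d * algebraMap A _ t *
              (IsLocalization.mk' (Localization.AtPrime M) c' d * x)
            = (IsLocalization.mk' (Localization.AtPrime M) c' d * algebraMap A _ d) * (x * algebraMap A _ t) := by ring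
          _ = _ := by rw [IsLocalization.mk'_spec, hat]
      obtain ⟨e, he⟩ := (IsLocalization.eq_iff_exists M.primeCompl (Localization.AtPrime M)).1 h1
      refine ⟨e * d * t, fun hmem => ?_, Ideal.mem_span_singleton'.2 ⟨e * c', ?_⟩⟩
      · exact (e * d * t : M.primeCompl).2 hmem
      · linear_combination -he
    obtain ⟨G, hG⟩ := IsNoetherian.noetherian I
    choose u hu hu' using fun y : G => key y.1 (hG ▸ Submodule.subset_span y.2)
    have hmem : (∏ y : G, u y) ∈ s := by
      refine ⟨a, haI, fun y hy => ?_⟩
      rw [← hG] at hy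
      induction hy using Submodule.span_induction with
      | mem z hz =>
        rw [← Finset.prod_erase_mul _ u (Finset.mem_univ ⟨z, hz⟩), mul_assoc]
        exact Ideal.mul_mem_left _ _ (hu' ⟨z, hz⟩)
      | zero => rw [mul_zero]; exact zero_mem _
      | add p q _ _ hp hq => rw [mul_add]; exact add_mem hp hq
      | smul c z _ hz => rw [smul_eq_mul, mul_left_comm]; exact Ideal.mul_mem_left _ _ hz
    have hp : (∏ y : G, u y) ∉ M := fun h => by
      obtain ⟨y, -, hy⟩ := hM.isPrime.prod_mem_iff.1 h
      exact hu y hy
    exact hp (hle (Ideal.subset_span hmem))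
  -- transport to the scheme `U`
  let ψ : A →+* Γ(U.toScheme, ⊤) := ((Scheme.ΓSpecIso (CommRingCat.of A)).inv ≫ U.ι.appTop).hom
  refine isAffine_of_isAffineOpen_basicOpen (X := U.toScheme) (ψ '' s) ?_ ?_
  · rw [← Ideal.map_span, hs, Ideal.map_top]
  rintro _ ⟨g, ⟨f, hfI, hfg⟩, rfl⟩
  rw [← U.ι.isAffineOpen_iff_of_isOpenImmersion]
  have hpre : U.toScheme.basicOpen (ψ g) = U.ι ⁻¹ᵁ ((Spec (CommRingCat.of A)).basicOpen ((Scheme.ΓSpecIso (CommRingCat.of A)).inv g)) :=
    (Scheme.preimage_basicOpen U.ι _).symm
  rw [hpre, Scheme.Hom.image_preimage_eq_opensRange_inf, Scheme.Opens.opensRange_ι, basicOpen_eq_of_affine]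
  have hset : U ⊓ PrimeSpectrum.basicOpen g = PrimeSpectrum.basicOpen (g * f) := by
    ext q
    have hI' := Set.ext_iff.1 hI q
    have hq : q ∈ U ↔ ¬ (I : Set A) ⊆ q.asIdeal :=
      ⟨fun h hP => hI'.2 hP h, fun hP => Classical.not_not.1 fun h => hP (hI'.1 h)⟩
    change (q ∈ U ∧ g ∉ q.asIdeal) ↔ g * f ∉ q.asIdeal
    rw [hq]
    constructor
    · rintro ⟨h1, h2⟩ h3
      refine h1 fun y hy => ((q.2.mem_or_mem ?_).resolve_left h2)
      exact (Ideal.span_singleton_le_iff_mem _).2 ((q.2.mem_or_mem h3).resolve_left h2) (hfg y hy)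
    · exact fun h => ⟨fun hle => h (Ideal.mul_mem_left _ _ (hle hfI)), fun hg => h (Ideal.mul_mem_right _ _ hg)⟩
  rw [hset]
  exact IsAffineOpen.Spec_basicOpen (R := CommRingCat.of A) (g * f)

end Groth.Agent.S10871
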