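import Groth.Statements.S10876
import Mathlib
import Groth.Agent.Lib.CAlgLow.FerrandFlat

set_option autoImplicit false
universe u
open TensorProduct
open CAlg

namespace Groth.Agent.S10876

/-- Descent of flatness along finite injective maps: let A → B be a local homomorphism of Noetherian
local rings and A → A' an injective ring homomorphism making A' a finite A-module. Then B is A-flat
if and only if the base change A' ⊗_A B is A'-flat. -/
theorem result (A B A' : Type u) [CommRing A] [CommRing B]
    [CommRing A'] [IsNoetherianRing A] [IsLocalRing A] [IsNoetherianRing B] [IsLocalRing B]
    [Algebra A B] [IsLocalHom (algebraMap A B)] [Algebra A A'] [Module.Finite A A']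
    (hinj : Function.Injective (algebraMap A A')) :
    Module.Flat A B ↔ Module.Flat A' (A' ⊗[A] B) := by
  haveI : IsNoetherianRing A' := IsNoetherianRing.of_finite A A'
  exact ⟨fun h => inferInstance, fun h => Groth.Agent.CAlgLow.Ferrand.flat_descent (S := A') hinj h⟩

end Groth.Agent.S10876
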