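import Groth.Statements.S10877
import Groth.Agent.Lib.Flat14.DenseCover

set_option autoImplicit false
universe u
open CategoryTheory AlgebraicGeometry
open FlatMor

namespace Groth.Agent.S10877

/-- A separated morphism f : X → Y, with X having finitely many irreducible components, which restricts
to an open immersion on each member of a cover of X by dense open subsets, is an open immersion. -/
theorem result {X Y : Scheme.{u}} (f : X ⟶ Y) [IsSeparated f]
    (hfin : (irreducibleComponents (X : Type u)).Finite) {ι : Type u} (U : ι → X.Opens)
    (hU : ⨆ i, U i = ⊤) (hd : ∀ i, Dense (U i : Set X)) (h : ∀ i, IsOpenImmersion ((U i).ι ≫ f)) :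
    IsOpenImmersion f := by
  exact Flat14.isOpenImmersion_of_dense_cover f U hU hd h

end Groth.Agent.S10877
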