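import Groth.Statements.S10879
import Mathlib

set_option autoImplicit false
universe u
open CategoryTheory AlgebraicGeometry
open FlatMor

namespace Groth.Agent.S10879

open AlgebraicGeometry CategoryTheory IsLocalRing

set_option backward.isDefEq.respectTransparency.types false

theorem stalk_frac {Y : Scheme.{u}} [IsIntegral Y] {e : Y} (he : e = genericPoint Y) (y : Y) (h : e ⤳ y) :
    Function.Injective (Y.presheaf.stalkSpecializes h) ∧ ∀ z, ∃ a s, s ≠ 0 ∧
      z * Y.presheaf.stalkSpecializes h s = Y.presheaf.stalkSpecializes h a := by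
  subst he
  refine ⟨IsFractionRing.injective (Y.presheaf.stalk y) Y.functionField, fun z => ?_⟩
  obtain ⟨a, s, hs, rfl⟩ := IsFractionRing.div_surjective (A := Y.presheaf.stalk y) (K := Y.functionField) z
  refine ⟨a, s, nonZeroDivisors.ne_zero hs, ?_⟩
  exact div_mul_cancel₀ _ ((map_ne_zero_iff _ (IsFractionRing.injective (Y.presheaf.stalk y) Y.functionField)).2
    (nonZeroDivisors.ne_zero hs))

theorem isIso_stalkMap {X' X : Scheme.{u}} [IsIntegral X'] [IsIntegral X] (f : X' ⟶ X) [Surjective f]
    [Flat f] (hK : IsIso (f.stalkMap (genericPoint X'))) (hη : f (genericPoint X') = genericPoint X) (x : X') :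
    IsIso (f.stalkMap x) := by
  have hs : genericPoint X' ⤳ x := (genericPoint_spec X').specializes trivial
  let φ := (f.stalkMap x).hom
  obtain ⟨hinjA, hfr⟩ := stalk_frac hη (f x) (hs.map f.continuous)
  have hinjB := (stalk_frac (Y := X') rfl x hs).1
  have hcomm := f.stalkSpecializes_stalkMap_apply (genericPoint X') x hs
  have hbij := ConcreteCategory.bijective_of_isIso (f.stalkMap (genericPoint X'))
  have hinjφ : Function.Injective φ := fun a b hab => hinjA (hbij.1 (by
    rw [hcomm, hcomm]; exact congrArg _ hab))
  refine (ConcreteCategory.isIso_iff_bijective _).2 ⟨hinjφ, fun b => ?_⟩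
  obtain ⟨z, hz⟩ := hbij.2 (X'.presheaf.stalkSpecializes hs b)
  obtain ⟨a, s, hs0, has⟩ := hfr z
  have hb : b * φ s = φ a := hinjB (by
    rw [map_mul, ← hz, ← hcomm, ← map_mul, has, hcomm])
  let _ : Algebra (X.presheaf.stalk (f x)) (X'.presheaf.stalk x) := φ.toAlgebra
  haveI : Module.Flat (X.presheaf.stalk (f x)) (X'.presheaf.stalk x) := Flat.stalkMap f x
  haveI : IsLocalHom (algebraMap (X.presheaf.stalk (f x)) (X'.presheaf.stalk x)) :=
    inferInstanceAs (IsLocalHom (f.stalkMap x).hom)
  haveI := Module.FaithfullyFlat.of_flat_of_isLocalHom (A := X.presheaf.stalk (f x)) (B := X'.presheaf.stalk x)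
  have ha : a ∈ Ideal.span {s} := by
    rw [← Ideal.comap_map_eq_self_of_faithfullyFlat (B := X'.presheaf.stalk x) (Ideal.span {s}),
      Ideal.mem_comap, Ideal.map_span, Set.image_singleton, Ideal.mem_span_singleton]
    exact ⟨b, by rw [mul_comm]; exact hb.symm⟩
  obtain ⟨c, rfl⟩ := Ideal.mem_span_singleton'.1 ha
  refine ⟨c, mul_right_cancel₀ ((map_ne_zero_iff φ hinjφ).2 hs0) ?_⟩
  rw [hb, map_mul]

/-- Take integral schemes X' and X and a separated surjective morphism f : X' → X which is birational in
the sense that the induced map of function fields (the stalk map of f at the generic point of X') is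
an isomorphism, and suppose f is affine (e.g. a normalization) or locally of finite presentation
(e.g. a blow-up of a Noetherian integral scheme). Then f is flat exactly when it is an isomorphism. -/
theorem result {X' X : Scheme.{u}} [IsIntegral X'] [IsIntegral X]
    (f : X' ⟶ X) [Surjective f] [IsSeparated f] (hK : IsIso (f.stalkMap (genericPoint X')))
    (h : IsAffineHom f ∨ LocallyOfFinitePresentation f) :
    Flat f ↔ IsIso f := by
  constructor
  swap
  · intro _; infer_instance
  intro _
  have hη : f (genericPoint X') = genericPoint X := by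
    refine ((genericPoint_spec X').image f.continuous).eq ?_
    rw [Set.image_univ, f.surjective.range_eq, closure_univ]
    exact genericPoint_spec X
  have hst := isIso_stalkMap f hK hη
  have hinj : Function.Injective f := by
    intro x x' hxx
    let g : ∀ x : X', Spec (X.presheaf.stalk (f x)) ⟶ X' := fun x =>
      haveI := hst x
      Spec.map (inv (f.stalkMap x)) ≫ X'.fromSpecStalk x
    have hg : ∀ x, g x ≫ f = X.fromSpecStalk (f x) := fun x => by
      haveI := hst x
      simp only [g]
      rw [Category.assoc, ← Scheme.SpecMap_stalkMap_fromSpecStalk, ← Spec.map_comp_assoc,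
        IsIso.hom_inv_id, Spec.map_id, Category.id_comp]
    let ι : ∀ y : X, f (genericPoint X') ⤳ y := fun y => hη ▸ (genericPoint_spec X).specializes trivial
    have hg2 : ∀ x, Spec.map (X.presheaf.stalkSpecializes (ι (f x))) ≫ g x =
        Spec.map (inv (f.stalkMap (genericPoint X'))) ≫ X'.fromSpecStalk (genericPoint X') := fun x => by
      haveI := hst x
      have hs : genericPoint X' ⤳ x := (genericPoint_spec X').specializes trivial
      simp only [g]
      rw [← Scheme.SpecMap_stalkSpecializes_fromSpecStalk hs, ← Spec.map_comp_assoc, ← Spec.map_comp_assoc]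
      congr 2
      rw [IsIso.eq_comp_inv, Category.assoc, IsIso.inv_comp_eq, f.stalkSpecializes_stalkMap]
    let e := Spec.map (eqToHom (congrArg X.presheaf.stalk hxx))
    have hdom : IsDominant (Spec.map (X.presheaf.stalkSpecializes (ι (f x')))) := by
      refine ⟨(PrimeSpectrum.denseRange_comap_iff_ker_le_nilRadical _).2 ?_⟩
      intro a ha
      rw [RingHom.mem_ker] at ha
      rw [(stalk_frac hη (f x') (ι (f x'))).1 (ha.trans (map_zero _).symm)]
      exact zero_mem _
    have he : e ≫ X.fromSpecStalk (f x) = X.fromSpecStalk (f x') := by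
      have key : ∀ {y y' : X} (h : y = y'),
          Spec.map (eqToHom (congrArg X.presheaf.stalk h)) ≫ X.fromSpecStalk y = X.fromSpecStalk y' := by
        rintro y _ rfl; simp
      exact key hxx
    have he2 : Spec.map (X.presheaf.stalkSpecializes (ι (f x'))) ≫ e =
        Spec.map (X.presheaf.stalkSpecializes (ι (f x))) := by
      have key : ∀ {y y' : X} (h : y = y') (a : f (genericPoint X') ⤳ y) (b : f (genericPoint X') ⤳ y'),
          Spec.map (X.presheaf.stalkSpecializes b) ≫ Spec.map (eqToHom (congrArg X.presheaf.stalk h)) =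
            Spec.map (X.presheaf.stalkSpecializes a) := by
        rintro y _ rfl a b; simp
      exact key hxx _ _
    haveI : IsReduced (Spec (X.presheaf.stalk (f x'))) := inferInstance
    have hgg : g x' = e ≫ g x := ext_of_isDominant_of_isSeparated f ((hg x').trans (he.symm.trans ((congrArg (e ≫ ·) (hg x).symm).trans (Category.assoc _ _ _).symm)))
      (Spec.map (X.presheaf.stalkSpecializes (ι (f x')))) (by rw [hg2, ← Category.assoc, he2, hg2])
    haveI := hst x
    haveI := hst x'
    have h1 : ∀ (x : X') [IsIso (f.stalkMap x)], g x (closedPoint (X.presheaf.stalk (f x))) = x := fun x _ => by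
      simp only [g]
      rw [Scheme.Hom.comp_apply]
      refine (congrArg _ ?_).trans Scheme.fromSpecStalk_closedPoint
      exact comap_closedPoint (inv (f.stalkMap x)).hom
    have h2 := congr($hgg (closedPoint (X.presheaf.stalk (f x'))))
    rw [h1, Scheme.Hom.comp_apply] at h2
    rw [h2]
    refine ((congrArg (g x) ?_).trans (h1 x)).symm
    exact comap_closedPoint (eqToHom (congrArg X.presheaf.stalk hxx)).hom
  rw [isIso_iff_isIso_stalkMap]
  refine ⟨?_, hst⟩
  have hh : IsHomeomorph f := by
    rcases h with h | h
    · exact isHomeomorph_iff_isQuotientMap_injective.2 ⟨Flat.isQuotientMap_of_surjective f, hinj⟩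
    · exact ⟨f.continuous, f.isOpenMap, hinj, f.surjective⟩
  exact (TopCat.isoOfHomeo hh.homeomorph).isIso_hom

end Groth.Agent.S10879
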