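import Groth.Statements.S10880
import Mathlib
import Groth.Agent.Lib.DvrConn4

set_option autoImplicit false
universe u
open CategoryTheory AlgebraicGeometry
open FlatMor

namespace Groth.Agent.S10880

open IsLocalRing AlgebraicGeometry CategoryTheory

set_option backward.isDefEq.respectTransparency.types false

theorem regular_of_dense {B : Type u} [CommRing B] [IsNoetherianRing B] (π : B)
    [_root_.IsReduced (B ⧸ Ideal.span {π})]
    (hd : Dense (PrimeSpectrum.basicOpen π : Set (PrimeSpectrum B))) (z : B) (hz : π * z = 0) : z = 0 := by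
  have key : ∀ b : B, IsNilpotent (π * b) → IsNilpotent b := fun b hb => by
    by_contra h
    have hne : (PrimeSpectrum.basicOpen b : Set (PrimeSpectrum B)).Nonempty := by
      rw [Set.nonempty_iff_ne_empty]
      exact fun he => h ((PrimeSpectrum.basicOpen_eq_bot_iff b).1 (TopologicalSpace.Opens.ext he))
    obtain ⟨q, hq1, hq2⟩ := hd.inter_open_nonempty _ (PrimeSpectrum.basicOpen b).2 hne
    have hq : q ∈ PrimeSpectrum.basicOpen (π * b) := by
      rw [PrimeSpectrum.basicOpen_mul]; exact ⟨hq2, hq1⟩
    rw [(PrimeSpectrum.basicOpen_eq_bot_iff _).2 hb] at hq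
    exact hq
  have hN : nilradical B ≤ Ideal.span {π} • nilradical B := fun x hx => by
    obtain ⟨n, hn⟩ := mem_nilradical.1 hx
    obtain ⟨b, rfl⟩ := Ideal.mem_span_singleton'.1 (Ideal.Quotient.eq_zero_iff_mem.1
      (IsReduced.eq_zero (Ideal.Quotient.mk (Ideal.span {π}) x) ⟨n, by rw [← map_pow, hn, map_zero]⟩))
    rw [mul_comm] at hx ⊢
    exact Submodule.smul_mem_smul (Ideal.mem_span_singleton_self π) (mem_nilradical.2 (key b (mem_nilradical.1 hx)))
  obtain ⟨r, hr, hrz⟩ := Submodule.exists_sub_one_mem_and_smul_eq_zero_of_fg_of_le_smul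
    (Ideal.span {π}) (nilradical B) (IsNoetherian.noetherian _) hN
  obtain ⟨c, hc⟩ := Ideal.mem_span_singleton'.1 hr
  have h1 : r * z = 0 := hrz z (mem_nilradical.2 (key z (hz.symm ▸ IsNilpotent.zero)))
  linear_combination h1 - c * hz + z * hc

/-- Let R be a discrete valuation ring and X a locally Noetherian scheme over Spec R whose
scheme-theoretic special fibre is reduced and such that every maximal point of the special fibre
lies in the closure of the generic fibre, i.e. the generic fibre is dense in X. Then X is flat over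
R. -/
theorem result (R : Type u) [CommRing R] [IsDomain R]
    [IsDiscreteValuationRing R] {X : Scheme.{u}} (f : X ⟶ Spec (CommRingCat.of R)) [IsLocallyNoetherian X]
    (hred : IsReduced (f.fiber (IsLocalRing.closedPoint R)))
    (hdense : Dense (f.base ⁻¹' {genericPoint (Spec (CommRingCat.of R))})) : Flat f := by
  rw [IsZariskiLocalAtSource.iff_of_openCover (P := @Flat) X.affineCover]
  intro i
  obtain ⟨B, hB⟩ : ∃ B, X.affineCover.X i = Spec B := ⟨_, rfl⟩
  let j : Spec B ⟶ X := eqToHom hB.symm ≫ X.affineCover.f i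
  suffices Flat (j ≫ f) by
    rw [Category.assoc, MorphismProperty.cancel_left_of_respectsIso @Flat] at this
    exact this
  have : IsLocallyNoetherian (Spec B) := isLocallyNoetherian_of_isOpenImmersion j
  have : IsNoetherianRing B := isLocallyNoetherian_Spec.1 this
  obtain ⟨φ, hφ⟩ := Spec.map_surjective (j ≫ f)
  rw [← hφ, HasRingHomProperty.Spec_iff (P := @Flat)]
  let _ : Algebra R B := φ.hom.toAlgebra
  show Module.Flat R B
  obtain ⟨π, hπ⟩ := IsDiscreteValuationRing.exists_irreducible R
  have hmax := hπ.maximalIdeal_eq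
  haveI := Groth.Agent.FibRing4.isReduced_fiberRing (A := R) (B := B) f j (𝟙 _)
    ((hφ.symm).trans (Category.comp_id _).symm) (closedPoint R) hred
  haveI : (closedPoint R).asIdeal.IsMaximal := maximalIdeal.isMaximal R
  haveI : _root_.IsReduced (↑B ⧸ Ideal.span {algebraMap R B π}) := by
    have := Groth.Agent.DvrConn4.isReduced_quotient_of_fiber (A := R) (B := B) (closedPoint R)
    rw [show (closedPoint R).asIdeal = maximalIdeal R from rfl, hmax, Ideal.map_span, Set.image_singleton] at this
    exact this
  have hd : Dense (PrimeSpectrum.basicOpen (algebraMap R B π) : Set (PrimeSpectrum B)) := by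
    refine (hdense.preimage j.isOpenEmbedding.isOpenMap).mono fun q hq => ?_
    have h1 : Spec.map φ q = genericPoint (Spec (CommRingCat.of R)) := by rw [hφ]; exact hq
    rw [genericPoint_eq_bot_of_affine] at h1
    intro h
    exact hπ.ne_zero ((Submodule.mem_bot R).1
      (show π ∈ (⊥ : Ideal R) from (congrArg PrimeSpectrum.asIdeal h1).le h))
  rw [IsDedekindDomain.flat_iff_torsion_eq_bot, eq_bot_iff]
  rintro x ⟨⟨r, hr⟩, hrx⟩
  obtain ⟨n, u, rfl⟩ := IsDiscreteValuationRing.eq_unit_mul_pow_irreducible (nonZeroDivisors.ne_zero hr) hπ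
  rw [Submodule.mem_bot]
  have h1 : algebraMap R B π ^ n * x = 0 := by
    have h2 : algebraMap R B ((u : R) * π ^ n) * x = 0 := hrx
    rw [map_mul, map_pow, mul_assoc] at h2
    exact (u.isUnit.map (algebraMap R B)).mul_right_eq_zero.1 h2
  clear hrx hr
  induction n with
  | zero => simpa using h1
  | succ n ih => exact ih (regular_of_dense _ hd _ (by rw [← mul_assoc, ← pow_succ']; exact h1))

end Groth.Agent.S10880
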