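import Groth.Statements.S10881
import Groth.Agent.Lib.Miracle4
import Groth.Agent.Lib.RegLoc.UFD
import Groth.Agent.Lib.VarDim.Alg
import Groth.Agent.Lib.VarDim.Irred
import Groth.Agent.Lib.FlatH4.FibreCritScheme
import Mathlib.RingTheory.IntegralClosure.GoingDown
import Mathlib.RingTheory.Flat.Localization
import Mathlib.AlgebraicGeometry.Morphisms.Finite
import Mathlib.AlgebraicGeometry.Morphisms.Flat

set_option autoImplicit false
universe u
open CategoryTheory AlgebraicGeometry
open FlatMor

set_option backward.isDefEq.respectTransparency.types false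

namespace Groth.Agent.S10881


open IsLocalRing TensorProduct in
theorem flat_finite_regular {A B : Type u} [CommRing A] [CommRing B] [Algebra A B] [Module.Finite A B]
    [IsNoetherianRing A]
    (hA : ∀ (p : Ideal A) [p.IsPrime], IsRegularLocalRing (Localization.AtPrime p))
    (hB : ∀ (q : Ideal B) [q.IsPrime], IsRegularLocalRing (Localization.AtPrime q))
    (hdom : ∀ Q ∈ minimalPrimes B, Q.under A ∈ minimalPrimes A) : Module.Flat A B := by
  classical
  refine Module.flat_of_isLocalized_maximal (R := A) (S := B) (M := B)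
    (fun q [q.IsMaximal] => Localization.AtPrime q) (fun q [q.IsMaximal] => Algebra.linearMap B (Localization.AtPrime q))
    fun q hq => ?_
  let p := q.under A
  let R := Localization.AtPrime p
  let S := Localization.AtPrime q
  haveI : IsRegularLocalRing R := hA p
  haveI : IsRegularLocalRing S := hB q
  haveI := RegLoc.isDomain R
  haveI := RegLoc.isDomain S
  haveI : UniqueFactorizationMonoid R := RegLoc.ufd_of_isRegularLocalRing R
  haveI : q.LiesOver p := ⟨rfl⟩
  letI : Algebra R S := Localization.AtPrime.algebraOfLiesOver p q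
  haveI : IsLocalHom (algebraMap R S) := Localization.isLocalHom_localRingHom p q (algebraMap A B) Ideal.LiesOver.over
  haveI : IsScalarTower A R S := .of_algebraMap_eq fun a =>
    (Localization.localRingHom_to_map p q (algebraMap A B) Ideal.LiesOver.over a).symm
  have hinj : Function.Injective (algebraMap R S) := by
    rw [RingHom.injective_iff_ker_eq_bot]
    let Q := RingHom.ker (algebraMap B S)
    have hQ : Q ∈ minimalPrimes B := by
      refine ⟨⟨RingHom.ker_isPrime _, bot_le⟩, fun Q' hQ' hle b hb => ?_⟩
      obtain ⟨c, hc⟩ := (IsLocalization.map_eq_zero_iff q.primeCompl S b).1 hb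
      haveI := hQ'.1
      have h0 : (c : B) * b ∈ Q' := hc ▸ zero_mem _
      refine (hQ'.1.mem_or_mem h0).resolve_left fun h => ?_
      exact IsUnit.ne_zero (IsLocalization.map_units S c) (hle h)
    have hP := hdom Q hQ
    let P := RingHom.ker (algebraMap A R)
    haveI : P.IsPrime := RingHom.ker_isPrime _
    have hPQ : P = Q.under A := by
      refine le_antisymm ?_ (hP.2 ⟨inferInstance, bot_le⟩ ?_)
      · intro a ha
        show algebraMap B S (algebraMap A B a) = 0
        rw [← IsScalarTower.algebraMap_apply, IsScalarTower.algebraMap_apply A R S, RingHom.mem_ker.1 ha, map_zero]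
      · intro a ha
        show algebraMap B S (algebraMap A B a) = 0
        rw [← IsScalarTower.algebraMap_apply, IsScalarTower.algebraMap_apply A R S, RingHom.mem_ker.1 ha, map_zero]
    refine le_bot_iff.1 fun r hr => ?_
    obtain ⟨a, s, rfl⟩ := IsLocalization.exists_mk'_eq p.primeCompl r
    have h1 : algebraMap R S (algebraMap A R a) = 0 := by
      rw [← IsLocalization.mk'_spec R a s, map_mul, RingHom.mem_ker.1 hr, zero_mul]
    have h2 : a ∈ P := by
      rw [hPQ]
      show algebraMap B S (algebraMap A B a) = 0
      rw [← IsScalarTower.algebraMap_apply, IsScalarTower.algebraMap_apply A R S, h1]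
    rw [Ideal.mem_bot, IsLocalization.mk'_eq_zero_iff]
    exact (IsLocalization.map_eq_zero_iff p.primeCompl R a).1 h2
  let φ : R ⊗[A] B →ₐ[R] S := Algebra.TensorProduct.lift (Algebra.ofId R S) (IsScalarTower.toAlgHom A B S) fun _ _ => Commute.all _ _
  let T : Subalgebra R S := φ.range
  haveI : Module.Finite R T := Module.Finite.of_surjective φ.rangeRestrict.toLinearMap φ.rangeRestrict_surjective
  haveI : IsDomain T := inferInstance
  haveI : FaithfulSMul R T := (faithfulSMul_iff_algebraMap_injective _ _).2 fun a b h => hinj (congrArg Subtype.val h)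
  haveI : Algebra.HasGoingDown R T := inferInstance
  have hBT : ∀ b, algebraMap B S b ∈ T := fun b => ⟨(1 : R) ⊗ₜ[A] b, by simp [φ]⟩
  let qT : Ideal T := (maximalIdeal S).comap T.val.toRingHom
  haveI : qT.IsPrime := Ideal.IsPrime.comap _
  have hqT : qT.under R = maximalIdeal R := by
    ext r
    show algebraMap R S r ∈ maximalIdeal S ↔ r ∈ maximalIdeal R
    rw [mem_maximalIdeal, mem_maximalIdeal, mem_nonunits_iff, mem_nonunits_iff, isUnit_map_iff]
  letI : Algebra T S := T.val.toRingHom.toAlgebra
  haveI : IsLocalization.AtPrime S qT := by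
    refine (isLocalization_iff (M := qT.primeCompl) (S := S)).2 ⟨?_, ?_, ?_⟩
    · rintro ⟨t, ht⟩
      exact IsLocalRing.notMem_maximalIdeal.1 ht
    · intro z
      obtain ⟨b, s, rfl⟩ := IsLocalization.exists_mk'_eq q.primeCompl z
      refine ⟨⟨⟨_, hBT b⟩, ⟨⟨_, hBT s⟩, fun h => (IsLocalRing.mem_maximalIdeal _).1 h (IsLocalization.map_units S s)⟩⟩, ?_⟩
      exact IsLocalization.mk'_spec S b s
    · intro x y h
      exact ⟨1, by rw [Subtype.ext (h : (x : S) = y)]⟩
  have hdim : ringKrullDim S = ringKrullDim R := by
    rw [IsLocalization.AtPrime.ringKrullDim_eq_height qT S, ← IsLocalRing.maximalIdeal_height_eq_ringKrullDim, ← hqT]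
    congr 1
    rw [show qT = (⟨qT, inferInstance⟩ : PrimeSpectrum T).asIdeal from rfl, PrimeSpectrum.height_eq_orderHeight,
      ← VarDim.height_comap_eq (R := R), ← PrimeSpectrum.height_eq_orderHeight]
    rfl
  have hfib : ringKrullDim (S ⧸ (maximalIdeal R).map (algebraMap R S)) = 0 := by
    set J := (maximalIdeal R).map (algebraMap R S)
    haveI : Nontrivial (S ⧸ J) := Ideal.Quotient.nontrivial_iff.2
      (ne_top_of_le_ne_top (maximalIdeal.isMaximal _).ne_top (map_maximalIdeal_le _))
    haveI : Subsingleton (PrimeSpectrum (S ⧸ J)) := by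
      refine ⟨fun a b => ?_⟩
      have key : ∀ c : PrimeSpectrum (S ⧸ J), c.asIdeal.comap (Ideal.Quotient.mk J) = maximalIdeal S := by
        intro c
        let Q := c.asIdeal.comap (Ideal.Quotient.mk J)
        haveI : Q.IsPrime := Ideal.IsPrime.comap _
        let Q' : Ideal B := Q.comap (algebraMap B S)
        have hJQ : J ≤ Q := fun z hz => by
          show Ideal.Quotient.mk J z ∈ c.asIdeal
          rw [Ideal.Quotient.eq_zero_iff_mem.2 hz]
          exact zero_mem _
        have hQq : Q' ≤ q := (IsLocalization.AtPrime.orderIsoOfPrime S q ⟨Q, inferInstance⟩).2.2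
        have hu : Q'.under A = p := by
          refine le_antisymm (Ideal.comap_mono hQq) fun a ha => ?_
          show algebraMap B S (algebraMap A B a) ∈ Q
          rw [← IsScalarTower.algebraMap_apply, IsScalarTower.algebraMap_apply A R S]
          refine hJQ (Ideal.mem_map_of_mem _ ?_)
          rw [← Localization.AtPrime.map_eq_maximalIdeal]
          exact Ideal.mem_map_of_mem _ ha
        haveI : q.IsMaximal := hq
        haveI : p.IsMaximal := Ideal.IsMaximal.under A q
        haveI : Q'.IsMaximal := Ideal.isMaximal_of_isIntegral_of_isMaximal_comap (R := A) Q'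
          (show (Q'.under A).IsMaximal from hu ▸ inferInstance)
        have hQ'eq : Q' = q := Ideal.IsMaximal.eq_of_le inferInstance hq.ne_top hQq
        refine (IsLocalization.map_comap q.primeCompl S Q).symm.trans ?_
        show Q'.map _ = _
        rw [hQ'eq, Localization.AtPrime.map_eq_maximalIdeal]
      exact PrimeSpectrum.ext (Ideal.comap_injective_of_surjective _ Ideal.Quotient.mk_surjective
        ((key a).trans (key b).symm))
    exact le_antisymm Order.krullDim_nonpos_of_subsingleton ringKrullDim_nonneg_of_nontrivial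
  haveI : LocCoh.IsCohenMacaulayLocalRing S := DepthLib.isCohenMacaulayLocalRing_of_isRegularLocalRing
  haveI : Module.Flat R S := Miracle4.flat_of_ringKrullDim_eq (by rw [hfib, add_zero, hdim])
  exact Module.Flat.trans A R S

open AlgebraicGeometry CategoryTheory in
theorem regular_localization {X : Scheme.{u}} (hX : ∀ x : X, IsRegularLocalRing (X.presheaf.stalk x))
    {U : X.Opens} (hU : IsAffineOpen U) (q : Ideal Γ(X, U)) [q.IsPrime] :
    IsRegularLocalRing (Localization.AtPrime q) := by
  haveI := hX (hU.fromSpec ⟨q, inferInstance⟩)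
  haveI : IsRegularLocalRing ((Spec Γ(X, U)).presheaf.stalk ⟨q, inferInstance⟩) :=
    IsRegularLocalRing.of_ringEquiv (asIso (hU.fromSpec.stalkMap ⟨q, inferInstance⟩)).commRingCatIsoToRingEquiv
  exact IsRegularLocalRing.of_ringEquiv (Spec.stalkIso Γ(X, U) ⟨q, inferInstance⟩).commRingCatIsoToRingEquiv

/-- A finite morphism f : X → Y between regular schemes (locally Noetherian with regular local rings)
under which each irreducible component of X dominates some irreducible component of Y is flat, hence
finite locally free. (The published statement asks only that f be dominant; for X the disjoint union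
of the affine line and a point, mapped to the affine line Y by the identity and the inclusion of a
closed point, f is finite and dominant between regular schemes but not flat, and the published
argument uses injectivity of the local ring maps, which holds exactly under the component-wise
dominance assumed here.) -/
theorem result {X Y : Scheme.{u}} (f : X ⟶ Y) [IsFinite f]
    [IsLocallyNoetherian X] [IsLocallyNoetherian Y]
    (hX : ∀ x : X, IsRegularLocalRing (X.presheaf.stalk x))
    (hY : ∀ y : Y, IsRegularLocalRing (Y.presheaf.stalk y))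
    (hdom : ∀ Z ∈ irreducibleComponents (X : Type u), closure (f.base '' Z) ∈ irreducibleComponents (Y : Type u)) :
    Flat f := by
  refine Flat.of_stalkMap _ fun x => ?_
  obtain ⟨V, hV, hxV, -⟩ := exists_isAffineOpen_mem_and_subset (U := (⊤ : Y.Opens)) (x := f x) trivial
  have hU : IsAffineOpen (f ⁻¹ᵁ V) := hV.preimage f
  let φ := f.appLE V (f ⁻¹ᵁ V) le_rfl
  letI : Algebra Γ(Y, V) Γ(X, f ⁻¹ᵁ V) := φ.hom.toAlgebra
  haveI : Module.Finite Γ(Y, V) Γ(X, f ⁻¹ᵁ V) := by
    have h := IsFinite.finite_app f V hV
    rw [Scheme.Hom.app_eq_appLE] at h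
    exact h
  haveI : IsNoetherianRing Γ(Y, V) := IsLocallyNoetherian.component_noetherian ⟨V, hV⟩
  have hcomp : hU.fromSpec ≫ f = Spec.map φ ≫ hV.fromSpec :=
    (IsAffineOpen.SpecMap_appLE_fromSpec f hV hU le_rfl).symm
  have hflat : Module.Flat Γ(Y, V) Γ(X, f ⁻¹ᵁ V) := by
    refine flat_finite_regular (fun p _ => regular_localization hY hV p) (fun q _ => regular_localization hX hU q)
      fun Q hQ => ?_
    haveI := Ideal.minimalPrimes_isPrime hQ
    let Q' : Spec Γ(X, f ⁻¹ᵁ V) := ⟨Q, inferInstance⟩
    let g := hU.fromSpec Q'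
    have hg : ∀ y, y ⤳ g → y = g := by
      intro y hy
      obtain ⟨t, rfl⟩ := hy.mem_open hU.fromSpec.isOpenEmbedding.isOpen_range ⟨Q', rfl⟩
      refine congrArg _ (PrimeSpectrum.ext ?_)
      have hle : t.asIdeal ≤ Q := (PrimeSpectrum.le_iff_specializes t Q').2
        (hU.fromSpec.isEmbedding.isInducing.specializes_iff.1 hy)
      exact le_antisymm hle (hQ.2 ⟨t.2, bot_le⟩ hle)
    have h1 := hdom _ ((Groth.Agent.VarDim.maximal_iff_mem_irreducibleComponents (X := X) g).1 hg)
    rw [closure_image_closure f.continuous, Set.image_singleton] at h1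
    have h2 := (Groth.Agent.VarDim.maximal_iff_mem_irreducibleComponents (X := Y) (f g)).2 h1
    refine ⟨⟨inferInstance, bot_le⟩, fun P' hP' hle => ?_⟩
    let p' : Spec Γ(Y, V) := ⟨P', hP'.1⟩
    have hlift : f g = hV.fromSpec (Spec.map φ Q') := by
      rw [← Scheme.Hom.comp_apply, hcomp, Scheme.Hom.comp_apply]
    have h3 : hV.fromSpec p' = f g := h2 _ (by
      rw [hlift]
      exact ((PrimeSpectrum.le_iff_specializes p' (Spec.map φ Q')).1 hle).map hV.fromSpec.continuous)
    exact (congrArg PrimeSpectrum.asIdeal (hV.fromSpec.isOpenEmbedding.injective (h3.trans hlift))).ge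
  haveI : Flat (Spec.map φ) := Flat.SpecMap_iff.2 hflat
  obtain ⟨t, rfl⟩ : ∃ t, hU.fromSpec t = x := ⟨_, hU.fromSpec_primeIdealOf ⟨x, hxV⟩⟩
  refine (FlatH4.flat_stalkMap_comp_left_iff hU.fromSpec f t).1 ?_
  haveI : Flat (hU.fromSpec ≫ f) := hcomp ▸ inferInstance
  exact Flat.stalkMap _ t

end Groth.Agent.S10881
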