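import Groth.Statements.S10882
import Groth.Agent.Lib.EquiDim4
import Groth.Agent.Lib.FibRing4
import Groth.Agent.Lib.Miracle4
import Groth.Agent.Lib.FlatDepth.FibreStalk

set_option autoImplicit false
universe u
open CategoryTheory AlgebraicGeometry
open FlatMor

set_option backward.isDefEq.respectTransparency.types false

namespace Groth.Agent.S10882


open AlgebraicGeometry CategoryTheory Order in
theorem stalk_dim {k : Type u} [Field k] {X : Scheme.{u}} (q : X ⟶ Spec (CommRingCat.of k))
    [LocallyOfFiniteType q] {e : ℕ}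
    (hXe : ∀ Z ∈ irreducibleComponents (X : Type u), topologicalKrullDim Z = e) (x : X) :
    ∃ b : ℕ, ringKrullDim (X.presheaf.stalk x) = (b : WithBot ℕ∞) ∧ VarDim.sdim q x + b = e := by
  haveI : IsLocallyNoetherian X := LocallyOfFiniteType.isLocallyNoetherian q
  obtain ⟨b, hb⟩ := ENat.ne_top_iff_exists.1 (DimF18.coheight_ne_top x)
  refine ⟨b, ?_, ?_⟩
  · rw [ringKrullDim_stalk_eq_coheight, ← hb]
    rfl
  · obtain ⟨z, -, hz, hd, -⟩ := DimF18.exists_localDim_eq_sdim q x
    rw [DimF18.localDim_eq q hb.symm] at hd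
    have h := hXe _ ((VarDim.maximal_iff_mem_irreducibleComponents (X := X) z).1 hz)
    rw [VarDim.dim_closure_singleton q] at h
    have h1 : VarDim.sdim q z = e := by exact_mod_cast h
    have h2 : VarDim.sdim q x + b = VarDim.sdim q z := by exact_mod_cast hd
    omega

/-- Let X and Y be schemes locally of finite type over a field k and f : X → Y a k-morphism, with Y
regular (all local rings regular), X Cohen–Macaulay (all local rings Cohen–Macaulay), X
equidimensional of dimension e, Y equidimensional of dimension d ≤ e, and all fibres of f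
equidimensional of dimension e − d (every irreducible component of every fibre has dimension e − d).
Then f is flat. -/
theorem result (k : Type u) [Field k] {X Y : Scheme.{u}}
    (q : Y ⟶ Spec (CommRingCat.of k)) [LocallyOfFiniteType q] (f : X ⟶ Y) [LocallyOfFiniteType (f ≫ q)]
    (hY : ∀ y : Y, IsRegularLocalRing (Y.presheaf.stalk y))
    (hX : ∀ x : X, LocCoh.IsCohenMacaulayLocalRing (X.presheaf.stalk x))
    (e d : ℕ) (hde : d ≤ e)
    (hXe : ∀ Z ∈ irreducibleComponents (X : Type u), topologicalKrullDim Z = e)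
    (hYd : ∀ Z ∈ irreducibleComponents (Y : Type u), topologicalKrullDim Z = d)
    (hfib : ∀ y : Y, ∀ Z ∈ irreducibleComponents (f.base ⁻¹' {y}), topologicalKrullDim Z = (e - d : ℕ)) :
    Flat f := by
  haveI : LocallyOfFiniteType f := locallyOfFiniteType_of_comp f q
  haveI : IsLocallyNoetherian Y := LocallyOfFiniteType.isLocallyNoetherian q
  haveI : IsLocallyNoetherian X := LocallyOfFiniteType.isLocallyNoetherian (f ≫ q)
  refine Flat.of_stalkMap _ fun x => ?_
  letI := (f.stalkMap x).hom.toAlgebra
  haveI := hY (f x)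
  haveI := hX x
  haveI : IsLocalHom (algebraMap (Y.presheaf.stalk (f x)) (X.presheaf.stalk x)) := f.toLRSHom.prop x
  refine Miracle4.flat_of_ringKrullDim_eq ?_
  obtain ⟨bX, hbX, hX'⟩ := stalk_dim (f ≫ q) hXe x
  obtain ⟨bY, hbY, hY'⟩ := stalk_dim q hYd (f x)
  obtain ⟨bF, hbF, hF'⟩ := stalk_dim (FibDim14.toPt f (f x)) (e := e - d) (fun Z hZ => by
    have hh := (f.fiberHomeo (f x))
    have hZ' : hh '' Z ∈ irreducibleComponents (f ⁻¹' {f x} : Set X) := by
      obtain ⟨z, rfl, hz⟩ := VarDim.exists_generic_of_mem_irreducibleComponents hZ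
      rw [hh.image_closure, Set.image_singleton]
      haveI : QuasiSober (f ⁻¹' {f x} : Set X) :=
        hh.symm.isClosedEmbedding.quasiSober
      refine FibRing4.closure_mem_irreducibleComponents (T := (f ⁻¹' {f x} : Set X)) _ fun y hy => ?_
      have := hz (hh.symm y) (by simpa using hy.map hh.symm.continuous)
      rw [← this, hh.apply_symm_apply]
    have h := hfib (f x) _ hZ'
    rwa [← IsHomeomorph.topologicalKrullDim_eq _ (hh.isEmbedding.homeomorphImage Z).isHomeomorph] at h)
    (f.asFiber x)
  have hsum : VarDim.sdim (f ≫ q) x = VarDim.sdim q (f x) + VarDim.sdim (FibDim14.toPt f (f x)) (f.asFiber x) := by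
    have h1 := FibGen4.sdim_eq_add_rd (f ≫ q) q f rfl x
    rw [← FibDim14.rd_fiberι, f.fiberι_asFiber]
    exact h1
  obtain ⟨e₀⟩ := FlatDepth.nonempty_fiberStalkEquiv f x
  have hq : ringKrullDim (X.presheaf.stalk x ⧸
      (IsLocalRing.maximalIdeal (Y.presheaf.stalk (f x))).map (algebraMap _ (X.presheaf.stalk x))) = (bF : WithBot ℕ∞) :=
    (ringKrullDim_eq_of_ringEquiv e₀).trans hbF
  rw [hbX, hbY, hq]
  exact_mod_cast (by omega : bX = bY + bF)

end Groth.Agent.S10882
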