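import Groth.Statements.S10884
import Groth.Agent.Lib.VarDim.Irred

set_option autoImplicit false
universe u
open CategoryTheory AlgebraicGeometry
open Variety

namespace Groth.Agent.S10884

/-- Let Y be a scheme of finite type over a field k and f : X → Y a dominant morphism of finite type all
of whose non-empty fibres have dimension r. Then dim X = r + dim Y. -/
theorem result (k : Type u) [Field k] {X Y : Scheme.{u}}
    (q : Y ⟶ Spec (CommRingCat.of k)) [LocallyOfFiniteType q] [QuasiCompact q]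
    (f : X ⟶ Y) [LocallyOfFiniteType f] [QuasiCompact f] (hdom : DenseRange f.base) (r : ℕ)
    (hfib : ∀ y : Y, (f.base ⁻¹' {y}).Nonempty → topologicalKrullDim (f.base ⁻¹' {y}) = r) :
    topologicalKrullDim X = (r : WithBot ℕ∞) + topologicalKrullDim Y := by
  rcases isEmpty_or_nonempty ↥Y with hY | hY
  · haveI : IsEmpty ↥X := ⟨fun x => hY.false (f x)⟩
    have h1 : topologicalKrullDim ↥Y = ⊥ := by
      rw [Groth.Agent.VarDim.dim_eq_iSup_sdim q, ciSup_of_empty]
    have h2 : topologicalKrullDim ↥X = ⊥ := by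
      rw [Groth.Agent.VarDim.dim_eq_iSup_sdim (f ≫ q), ciSup_of_empty]
    rw [h1, h2, WithBot.add_bot]
  obtain ⟨y₀, hy₀, hymax⟩ := Groth.Agent.VarDim.exists_dim_eq q
  haveI := Groth.Agent.VarDim.noetherianSpace_of_finiteType (f ≫ q)
  obtain ⟨G, hG⟩ := Groth.Agent.VarDim.exists_finite_generic (X := X) isClosed_univ
  have hdim : ∀ x, Groth.Agent.VarDim.sdim (f ≫ q) x ≤ r + Groth.Agent.VarDim.sdim q (f x) := fun x =>
    (Groth.Agent.VarDim.dim_preimage_singleton_le_iff q f (f x) r).mp (hfib (f x) ⟨x, rfl⟩).le x rfl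
  obtain ⟨η, hη, hηmax⟩ := Groth.Agent.VarDim.exists_maximal_specializes q y₀
  obtain ⟨x₀, hx₀⟩ : ∃ x, f x = η := by
    have hcl : IsClosed (⋃ g ∈ G, closure ({f g} : Set Y)) := isClosed_biUnion_finset fun _ _ => isClosed_closure
    have hsub : Set.range f ⊆ ⋃ g ∈ G, closure ({f g} : Set Y) := by
      rintro _ ⟨x, rfl⟩
      obtain ⟨g, hg, hgx⟩ := (hG x).mp trivial
      exact Set.mem_biUnion hg (specializes_iff_mem_closure.mp (hgx.map f.continuous))
    obtain ⟨g, -, hg⟩ := Set.mem_iUnion₂.mp (closure_minimal hsub hcl (hdom η))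
    exact ⟨g, hηmax _ (specializes_iff_mem_closure.mpr hg)⟩
  obtain ⟨x, hxη, hx⟩ : ∃ x, f x = η ∧ r + Groth.Agent.VarDim.sdim q η ≤ Groth.Agent.VarDim.sdim (f ≫ q) x := by
    by_contra! hcon
    have hr := hfib η ⟨x₀, hx₀⟩
    have hpos := hcon x₀ hx₀
    have hle := Groth.Agent.VarDim.sdim_le_comp q f x₀
    rw [hx₀] at hle
    have := (Groth.Agent.VarDim.dim_preimage_singleton_le_iff q f η (r - 1)).mpr fun x hx => by
      have := hcon x hx
      omega
    rw [hr] at this
    have : r ≤ r - 1 := by exact_mod_cast this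
    omega
  have hη₀ : Groth.Agent.VarDim.sdim q η = Groth.Agent.VarDim.sdim q y₀ := by
    refine le_antisymm (hymax η) ?_
    by_cases e : η = y₀
    · rw [e]
    · exact (Groth.Agent.VarDim.sdim_lt_of_specializes q hη e).le
  rw [hy₀, Groth.Agent.VarDim.dim_eq_iSup_sdim (f ≫ q)]
  refine le_antisymm (iSup_le fun z => ?_) ?_
  · have h1 := hdim z
    have h2 := hymax (f z)
    exact_mod_cast (by omega : Groth.Agent.VarDim.sdim (f ≫ q) z ≤ r + Groth.Agent.VarDim.sdim q y₀)
  · refine le_trans ?_ (le_iSup (fun z => ((Groth.Agent.VarDim.sdim (f ≫ q) z : ℕ) : WithBot ℕ∞)) x)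
    exact_mod_cast (by omega : r + Groth.Agent.VarDim.sdim q y₀ ≤ Groth.Agent.VarDim.sdim (f ≫ q) x)

end Groth.Agent.S10884
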