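import Groth.Statements.S10885
import Groth.Agent.Lib.VarDim.Irred

set_option autoImplicit false
universe u
open CategoryTheory AlgebraicGeometry
open Variety

namespace Groth.Agent.S10885

/-- Let Y be a scheme of finite type over a field k, r ≥ 0, and f : X → Y a morphism of finite type
whose fibre over every maximal point of Y has dimension at least r. Then dim X ≥ r + dim Y. -/
theorem result (k : Type u) [Field k] {X Y : Scheme.{u}}
    (q : Y ⟶ Spec (CommRingCat.of k)) [LocallyOfFiniteType q] [QuasiCompact q]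
    (f : X ⟶ Y) [LocallyOfFiniteType f] [QuasiCompact f] (r : ℕ)
    (hfib : ∀ η : Y, (∀ y : Y, y ⤳ η → y = η) → (r : WithBot ℕ∞) ≤ topologicalKrullDim (f.base ⁻¹' {η})) :
    (r : WithBot ℕ∞) + topologicalKrullDim Y ≤ topologicalKrullDim X := by
  rcases isEmpty_or_nonempty ↥Y with hY | hY
  · have h1 : topologicalKrullDim ↥Y = ⊥ := by
      rw [Groth.Agent.VarDim.dim_eq_iSup_sdim q, ciSup_of_empty]
    rw [h1, WithBot.add_bot]
    exact bot_le
  obtain ⟨y₀, hy₀, hymax⟩ := Groth.Agent.VarDim.exists_dim_eq q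
  obtain ⟨η, hη, hηmax⟩ := Groth.Agent.VarDim.exists_maximal_specializes q y₀
  have hr : (r : WithBot ℕ∞) ≤ topologicalKrullDim (f.base ⁻¹' {η}) := hfib η hηmax
  obtain ⟨x₀, hx₀⟩ : ∃ x, f x = η := by
    by_contra! hcon
    have h0 : topologicalKrullDim (f.base ⁻¹' {η}) = ⊥ := by
      refine Order.krullDim_eq_bot_iff.mpr ⟨fun Z => ?_⟩
      obtain ⟨z, -⟩ := Z.2.nonempty
      exact hcon z.1 z.2
    rw [h0] at hr
    exact WithBot.coe_ne_bot (le_bot_iff.mp hr)
  obtain ⟨x, hxη, hx⟩ : ∃ x, f x = η ∧ r + Groth.Agent.VarDim.sdim q η ≤ Groth.Agent.VarDim.sdim (f ≫ q) x := by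
    by_contra! hcon
    have hpos := hcon x₀ hx₀
    have hle := Groth.Agent.VarDim.sdim_le_comp q f x₀
    rw [hx₀] at hle
    have := hr.trans ((Groth.Agent.VarDim.dim_preimage_singleton_le_iff q f η (r - 1)).mpr fun x hx => by
      have := hcon x hx
      omega)
    have : r ≤ r - 1 := by exact_mod_cast this
    omega
  have hη₀ : Groth.Agent.VarDim.sdim q y₀ ≤ Groth.Agent.VarDim.sdim q η := by
    by_cases e : η = y₀
    · rw [e]
    · exact (Groth.Agent.VarDim.sdim_lt_of_specializes q hη e).le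
  rw [hy₀, Groth.Agent.VarDim.dim_eq_iSup_sdim (f ≫ q)]
  refine le_trans ?_ (le_iSup (fun z => ((Groth.Agent.VarDim.sdim (f ≫ q) z : ℕ) : WithBot ℕ∞)) x)
  exact_mod_cast (by omega : r + Groth.Agent.VarDim.sdim q y₀ ≤ Groth.Agent.VarDim.sdim (f ≫ q) x)

end Groth.Agent.S10885
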