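import Groth.Statements.S10886
import Groth.Agent.Lib.Curve17.Basic
import Mathlib.Topology.Constructible
-- import your own Groth.Agent.* helpers here

set_option autoImplicit false
universe u
open CategoryTheory AlgebraicGeometry
open Curves

namespace Groth.Agent.S10886
open Groth.Agent
set_option linter.style.haveILetI false

/-- In an irreducible Noetherian scheme of dimension one every constructible subset is either a finite
set of closed points or the complement of such a set; in particular it is open or closed. -/
theorem result {X : Scheme.{u}} [IsNoetherian X]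
    [IrreducibleSpace X] (hX : topologicalKrullDim X = 1) (s : Set X) (hs : Topology.IsConstructible s) :
    (s.Finite ∧ (∀ x ∈ s, IsClosed ({x} : Set X))) ∨ (sᶜ.Finite ∧ ∀ x ∈ sᶜ, IsClosed ({x} : Set X)) := by
  classical
  set η := genericPoint X
  have key : (η ∈ s → sᶜ.Finite) ∧ (η ∉ s → s.Finite) := by
    induction hs using Topology.IsConstructible.empty_union_induction with
    | open_retrocompact U hU _ =>
      refine ⟨fun hη => Curve17.finite_of_isClosed hX.le hU.isClosed_compl fun h => ?_, fun hη => ?_⟩
      · have : η ∈ Uᶜ := h ▸ trivial
        exact this hη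
      · rcases U.eq_empty_or_nonempty with rfl | ⟨z, hz⟩
        · exact Set.finite_empty
        · exact absurd ((genericPoint_specializes z).mem_open hU hz) hη
    | union A hA B hB ihA ihB =>
      refine ⟨fun hη => ?_, fun hη => ?_⟩
      · rw [Set.compl_union]
        rcases hη with h | h
        · exact (ihA.1 h).inter_of_left _
        · exact (ihB.1 h).inter_of_right _
      · exact (ihA.2 fun h => hη (Or.inl h)).union (ihB.2 fun h => hη (Or.inr h))
    | compl A hA ih =>
      refine ⟨fun hη => ?_, fun hη => ih.1 (Classical.not_not.1 hη)⟩
      rw [compl_compl]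
      exact ih.2 hη
  by_cases hη : η ∈ s
  · exact Or.inr ⟨key.1 hη, fun x hx => Curve17.isClosed_singleton hX.le fun h => hx (by rw [h]; exact hη)⟩
  · exact Or.inl ⟨key.2 hη, fun x hx => Curve17.isClosed_singleton hX.le fun h => hη (by rw [h] at hx; exact hx)⟩

end Groth.Agent.S10886
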