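import Groth.Statements.S10887
import Groth.Agent.Lib.Flat14.DimOne

set_option autoImplicit false
universe u
open CategoryTheory AlgebraicGeometry
open FlatMor

namespace Groth.Agent.S10887

open AlgebraicGeometry IsLocalRing

set_option backward.isDefEq.respectTransparency.types false

/-- (i) ⇔ (iii): let Y be a Dedekind scheme — an integral Noetherian scheme of dimension at most one all
of whose local rings are regular — and f : X → Y a morphism of schemes with X reduced. Then f is
flat if and only if every irreducible component of X dominates Y. (Without reducedness only the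
forward implication holds.) -/
theorem result {X Y : Scheme.{u}} [IsIntegral Y]
    [IsNoetherian Y] (hreg : ∀ y : Y, IsRegularLocalRing (Y.presheaf.stalk y)) (hdim : topologicalKrullDim Y ≤ 1)
    (f : X ⟶ Y) [IsReduced X] :
    Flat f ↔ ∀ Z ∈ irreducibleComponents (X : Type u), Dense (f.base '' Z) := by
  constructor
  · intro hf Z hZ
    obtain ⟨ξ, hξ⟩ := QuasiSober.sober (α := X) hZ.1 (isClosed_of_mem_irreducibleComponents Z hZ)
    obtain ⟨z, hz, hzη⟩ := Flat.generalizingMap f ((genericPoint_spec Y).specializes (trivial : f ξ ∈ (⊤ : Set Y)))
    have hle : closure ({ξ} : Set X) ⊆ closure {z} := hz.closure_subset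
    have heq : z = ξ := by
      refine (hz.antisymm ?_).eq
      rw [specializes_iff_mem_closure]
      have h2 := hZ.2 (isIrreducible_singleton (x := z)).closure (hξ.def.ge.trans hle)
      exact hξ.def.ge (h2 (subset_closure rfl))
    subst heq
    exact (dense_iff_closure_eq.2 (genericPoint_spec Y)).mono (Set.singleton_subset_iff.2 ⟨z, hξ.mem, hzη⟩)
  · intro h
    refine Flat14.flat_of_regular f hreg hdim fun x r hr z hrz => ?_
    refine IsReduced.eq_zero _ (mem_nilradical.1 ?_)
    rw [nilradical, Ideal.zero_eq_bot, ← Ideal.sInf_minimalPrimes, Submodule.mem_sInf]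
    intro P hP
    have := hP.1.1
    let ξ := X.fromSpecStalk x ⟨P, hP.1.1⟩
    have hgen : closure {ξ} ∈ irreducibleComponents X := by
      obtain ⟨Z, hZ, hle⟩ := exists_mem_irreducibleComponents_subset_of_isIrreducible _
        (isIrreducible_singleton (x := ξ)).closure
      obtain ⟨η, hη⟩ := QuasiSober.sober hZ.1 (isClosed_of_mem_irreducibleComponents Z hZ)
      have := Flat14.fromSpecStalk_minimal x P hP η (hη.specializes (hle (subset_closure rfl)))
      subst this
      rwa [hη.def]
    have hfξ : f ξ = genericPoint Y := by
      refine (((genericPoint_spec Y).specializes trivial).antisymm ?_).eq.symm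
      have hd := h _ hgen
      have himg : closure (f '' closure {ξ}) ⊆ closure {f ξ} :=
        closure_minimal ((image_closure_subset_closure_image f.continuous).trans (by rw [Set.image_singleton]))
          isClosed_closure
      exact specializes_iff_mem_closure.2 (himg (hd.closure_eq.ge trivial))
    have hr' : f.stalkMap x r ∉ P := fun hm => hr ((Submodule.mem_bot _).1
      ((Flat14.comap_eq_bot f x ⟨P, hP.1.1⟩ hfξ).le hm))
    exact (this.mem_or_mem (hrz ▸ zero_mem _ : f.stalkMap x r * z ∈ P)).resolve_left hr'

end Groth.Agent.S10887
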