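import Groth.Statements.S10889
import Groth.Agent.S0403
import Groth.Agent.S0404
import Groth.Agent.Lib.FibGenApp4
import Mathlib.AlgebraicGeometry.ZariskisMainTheorem
import Mathlib.AlgebraicGeometry.Morphisms.UniversallyOpen

set_option autoImplicit false
universe u
open CategoryTheory AlgebraicGeometry
open FlatMor

set_option backward.isDefEq.respectTransparency.types false

namespace Groth.Agent.S10889

/-- Let f : X → Y be proper, flat and of finite presentation, and let V be the set of points of Y whose
fibre is (non-empty and) zero-dimensional. Then V is a clopen subset of Y, and over every open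
subset of V the restriction of f is finite, hence finite locally free. -/
theorem result {X Y : Scheme.{u}} (f : X ⟶ Y) [IsProper f] [Flat f]
    [LocallyOfFinitePresentation f] :
    IsClopen {y : Y | topologicalKrullDim (f.base ⁻¹' {y}) = 0} ∧
      ∀ U : Y.Opens, (U : Set Y) ⊆ {y : Y | topologicalKrullDim (f.base ⁻¹' {y}) = 0} → IsFinite (f ∣_ U) := by
  have hd : ∀ y, topologicalKrullDim (f.base ⁻¹' {y}) = topologicalKrullDim (f.fiber y) := fun y =>
    (IsHomeomorph.topologicalKrullDim_eq _ (f.fiberHomeo y).isHomeomorph).symm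
  have hset : {y : Y | topologicalKrullDim (f.base ⁻¹' {y}) = 0} =
      {y | topologicalKrullDim (f.fiber y) ≤ 0} ∩ Set.range f := by
    ext y
    simp only [Set.mem_setOf_eq, Set.mem_inter_iff, hd]
    constructor
    · intro h
      refine ⟨h.le, ?_⟩
      by_contra hn
      haveI : IsEmpty (f.fiber y) := ⟨fun z => hn ⟨f.fiberι y z, (f.range_fiberι y).le ⟨z, rfl⟩⟩⟩
      haveI : IsEmpty (TopologicalSpace.IrreducibleCloseds (f.fiber y)) :=
        ⟨fun Z => isEmptyElim Z.isIrreducible.nonempty.some⟩
      rw [show topologicalKrullDim (f.fiber y) = ⊥ from Order.krullDim_eq_bot] at h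
      simp at h
    · rintro ⟨h, x, rfl⟩
      haveI : Nonempty (f.fiber (f x)) := ⟨f.asFiber x⟩
      exact le_antisymm h TopDimLib.zero_le_dim
  refine ⟨⟨⟨?_⟩, ?_⟩, fun U hU => ?_⟩
  · rw [show {y : Y | topologicalKrullDim (f.base ⁻¹' {y}) = 0}ᶜ =
        {y | (0 : WithBot ℕ∞) < topologicalKrullDim (f.fiber y)} ∪ (Set.range f)ᶜ by
      rw [hset, Set.compl_inter]
      congr 1
      ext y
      exact not_le (α := WithBot ℕ∞)]
    exact (S0404.result f 0).union f.isClosedMap.isClosed_range.isOpen_compl
  · rw [hset]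
    exact (S0403.result f 0).inter (f.isOpenMap.isOpen_range)
  · haveI : IsProper (f ∣_ U) := MorphismProperty.of_isPullback (isPullback_morphismRestrict f U).flip ‹_›
    haveI : LocallyQuasiFinite (f ∣_ U) := by
      rw [← Scheme.Hom.quasiFiniteLocus_eq_top_iff, eq_top_iff]
      intro x _
      show (f ∣_ U).QuasiFiniteAt x
      rw [← Scheme.Hom.quasiFiniteAt_comp_iff (g := U.ι), morphismRestrict_ι,
        Scheme.Hom.quasiFiniteAt_comp_iff_of_isOpenImmersion, ← FibDim14.fibreDimAt_eq_zero_iff]
      have hxU : f ((f ⁻¹ᵁ U).ι x) ∈ U := x.2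
      have h := hU hxU
      rw [Set.mem_setOf_eq, hd] at h
      obtain ⟨x₀, -, -, hx₀, -⟩ := FibDim14.exists_fibreDimAt_eq f ((f ⁻¹ᵁ U).ι x)
      refine le_antisymm ((FibGen4.dim_fiber_le_iff f _ 0).1 h.le _ rfl) ?_
      rw [hx₀]
      exact_mod_cast Nat.zero_le _
    exact IsFinite.of_isProper_of_locallyQuasiFinite _

end Groth.Agent.S10889
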