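import Groth.Statements.S10890
import Mathlib.LinearAlgebra.Matrix.SchurComplement
import Mathlib.RingTheory.LocalRing.Module
import Mathlib.LinearAlgebra.Projection
import Mathlib.LinearAlgebra.Matrix.ToLin
import Mathlib.LinearAlgebra.Matrix.NonsingularInverse
import Mathlib.LinearAlgebra.Dimension.Constructions
import Mathlib.RingTheory.Finiteness.Basic
import Mathlib.Algebra.Module.Projective
import Mathlib.Tactic.Ring

set_option autoImplicit false
universe u
open CAlgX

namespace Groth.Agent.S10890

theorem det_mul_mem {R : Type*} [CommRing R] {κ : Type*} [Fintype κ] [DecidableEq κ] {r : ℕ}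
    (M : Matrix (Fin r) κ R) (N : Matrix κ (Fin r) R) (J : Ideal R)
    (h : ∀ p : Fin r → κ, (M.submatrix id p).det ∈ J) : (M * N).det ∈ J := by
  have e : (M * N).det = ∑ p : Fin r → κ, (∏ i, N (p i) i) * (M.submatrix id p).det := by
    simp only [Matrix.det_apply', Matrix.mul_apply, Finset.prod_univ_sum, Fintype.piFinset_univ,
      Finset.mul_sum, Matrix.submatrix_apply, id]
    rw [Finset.sum_comm]
    refine Finset.sum_congr rfl fun p _ => Finset.sum_congr rfl fun σ _ => ?_
    rw [Finset.prod_mul_distrib]
    ring
  rw [e]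
  exact Ideal.sum_mem _ fun p _ => Ideal.mul_mem_left _ _ (h p)

theorem det_mul_eq_zero_of_lt {R : Type*} [CommRing R] {r : ℕ}
    (M : Matrix (Fin (r + 1)) (Fin r) R) (N : Matrix (Fin r) (Fin (r + 1)) R) : (M * N).det = 0 := by
  refine (Submodule.mem_bot R).1 (det_mul_mem M N ⊥ fun p => ?_)
  obtain ⟨i, j, hij, hp⟩ : ∃ i j : Fin (r + 1), i ≠ j ∧ p i = p j :=
    Fintype.exists_ne_map_eq_of_card_lt p (by simp)
  exact (Submodule.mem_bot R).2 (Matrix.det_zero_of_column_eq hij fun k => by simp [hp])

theorem det_mul_mul_mem {R : Type u} [CommRing R] {n m r : ℕ} (A : Matrix (Fin n) (Fin m) R)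
    (P : Matrix (Fin r) (Fin n) R) (Q : Matrix (Fin m) (Fin r) R) :
    (P * A * Q).det ∈ CAlgX.minorIdeal A r := by
  refine det_mul_mem _ _ _ fun p => ?_
  have e : ((P * A).submatrix id p).det = ((A.submatrix id p).transpose * P.transpose).det := by
    rw [← Matrix.transpose_mul, Matrix.det_transpose]
    rfl
  rw [e]
  refine det_mul_mem _ _ _ fun f => Ideal.subset_span ⟨⟨f, p⟩, ?_⟩
  show _ = ((A.submatrix id p).transpose.submatrix id f).det
  rw [← Matrix.det_transpose]
  rfl

/-- (i) ⇔ (ii): let R be a local ring, A an n × m matrix over R regarded as a linear map R^m → R^n, and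
1 ≤ r ≤ n. Then the image of A is a direct summand of R^n of rank r if and only if every (r+1) ×
(r+1) minor of A is zero and the r × r minors of A generate the unit ideal. (The printed statement
is over an arbitrary ring with 'direct summand of rank r'; its proof localises at once, and this row
states the local case, where a direct summand of R^n is free and its rank is its finrank.) -/
theorem result (R : Type u) [CommRing R] [IsLocalRing R] (n m r : ℕ)
    (hr : 1 ≤ r) (hrn : r ≤ n) (A : Matrix (Fin n) (Fin m) R) :
    (∃ N' : Submodule R (Fin n → R), IsCompl (LinearMap.range (Matrix.mulVecLin A)) N' ∧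
        Module.finrank R (LinearMap.range (Matrix.mulVecLin A)) = r) ↔
      (CAlgX.minorIdeal A (r + 1) = ⊥ ∧ CAlgX.minorIdeal A r = ⊤) := by
  constructor
  · rintro ⟨N', hN, hrank⟩
    let L := LinearMap.range (Matrix.mulVecLin A)
    haveI : Module.Finite R L := Module.Finite.range _
    haveI : Module.Projective R L :=
      Module.Projective.of_split L.subtype (L.projectionOnto N' hN)
        (LinearMap.ext fun x => Submodule.projectionOnto_apply_left hN x)
    haveI : Module.Free R L := Module.free_of_flat_of_isLocalRing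
    let b := (Module.finBasis R L).reindex (finCongr hrank)
    let C : (Fin r → R) →ₗ[R] (Fin n → R) := L.subtype ∘ₗ b.equivFun.symm.toLinearMap
    let P : (Fin n → R) →ₗ[R] (Fin r → R) := b.equivFun.toLinearMap ∘ₗ L.projectionOnto N' hN
    let D : (Fin m → R) →ₗ[R] (Fin r → R) :=
      b.equivFun.toLinearMap ∘ₗ (Matrix.mulVecLin A).rangeRestrict
    obtain ⟨Q, hQ⟩ := Module.projective_lifting_property D LinearMap.id
      (b.equivFun.surjective.comp (Matrix.mulVecLin A).surjective_rangeRestrict)
    have hA : A = LinearMap.toMatrix' C * LinearMap.toMatrix' D := by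
      rw [← LinearMap.toMatrix'_comp]
      have : C ∘ₗ D = Matrix.mulVecLin A := by
        refine LinearMap.ext fun v => ?_
        show ((b.equivFun.symm (b.equivFun ((Matrix.mulVecLin A).rangeRestrict v)) : L) : Fin n → R) = _
        rw [LinearEquiv.symm_apply_apply]
        rfl
      rw [this, ← Matrix.toLin'_apply', LinearMap.toMatrix'_toLin']
    constructor
    · refine Ideal.span_eq_bot.2 ?_
      rintro _ ⟨⟨f, g⟩, rfl⟩
      dsimp only
      rw [hA, Matrix.submatrix_mul _ _ f id g Function.bijective_id]
      exact det_mul_eq_zero_of_lt _ _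
    · rw [Ideal.eq_top_iff_one]
      have h1 : LinearMap.toMatrix' P * A * LinearMap.toMatrix' Q = 1 := by
        rw [hA, ← Matrix.mul_assoc, Matrix.mul_assoc, ← LinearMap.toMatrix'_comp, ← LinearMap.toMatrix'_comp,
          hQ, show P ∘ₗ C = LinearMap.id from LinearMap.ext fun x => by
            show b.equivFun (L.projectionOnto N' hN ((b.equivFun.symm x : L) : Fin n → R)) = x
            rw [Submodule.projectionOnto_apply_left, LinearEquiv.apply_symm_apply]]
        simp
      have := det_mul_mul_mem A (LinearMap.toMatrix' P) (LinearMap.toMatrix' Q)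
      rwa [h1, Matrix.det_one] at this
  · rintro ⟨h0, h1⟩
    have hex : ∃ (f : Fin r → Fin n) (g : Fin r → Fin m), IsUnit (A.submatrix f g).det := by
      by_contra hne
      push Not at hne
      refine IsLocalRing.maximalIdeal.isMaximal R |>.ne_top (top_le_iff.1 (h1 ▸ Ideal.span_le.2 ?_))
      rintro _ ⟨⟨f, g⟩, rfl⟩
      exact hne f g
    obtain ⟨f, g, hu⟩ := hex
    set B := A.submatrix f g with hB
    letI : Invertible B.det := hu.invertible
    letI : Invertible B := Matrix.invertibleOfDetInvertible B
    set C := A.submatrix id g with hC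
    set D := A.submatrix f id with hD
    have hA : A = C * (⅟B * D) := by
      ext i j
      have h2 := Matrix.det_fromBlocks₂₂ (Matrix.of fun (_ : Fin 1) (_ : Fin 1) => A i j)
        (Matrix.of fun (_ : Fin 1) k => A i (g k)) (Matrix.of fun k (_ : Fin 1) => A (f k) j) B
      have h3 : (Matrix.fromBlocks (Matrix.of fun (_ : Fin 1) (_ : Fin 1) => A i j)
          (Matrix.of fun (_ : Fin 1) k => A i (g k)) (Matrix.of fun k (_ : Fin 1) => A (f k) j) B).det = 0 := by
        rw [← Matrix.det_submatrix_equiv_self (finSumFinEquiv.trans (finCongr (Nat.add_comm 1 r))).symm]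
        refine (Submodule.mem_bot R).1 (h0 ▸ Ideal.subset_span
          ⟨⟨fun a => Sum.elim (fun _ => i) f ((finSumFinEquiv.trans (finCongr (Nat.add_comm 1 r))).symm a),
            fun a => Sum.elim (fun _ => j) g ((finSumFinEquiv.trans (finCongr (Nat.add_comm 1 r))).symm a)⟩, ?_⟩)
        dsimp only
        congr 1
        ext a b
        simp only [Matrix.submatrix_apply]
        rcases (finSumFinEquiv.trans (finCongr (Nat.add_comm 1 r))).symm a with a' | a' <;>
          rcases (finSumFinEquiv.trans (finCongr (Nat.add_comm 1 r))).symm b with b' | b' <;> rfl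
      rw [h3] at h2
      have h4 := (hu.mul_right_eq_zero).1 h2.symm
      rw [Matrix.det_fin_one, Matrix.sub_apply, Matrix.of_apply, sub_eq_zero] at h4
      rw [← Matrix.mul_assoc, h4]
      simp [Matrix.mul_apply, hC, hD]
    have hcomp : (LinearMap.funLeft R R f).comp (Matrix.mulVecLin C) = Matrix.mulVecLin B := by
      exact LinearMap.ext fun y => rfl
    have hbij : Function.Bijective (Matrix.mulVecLin B) := by
      refine ⟨fun x y h => ?_, fun y => ⟨Matrix.mulVec (⅟B) y, ?_⟩⟩
      · have := congrArg (Matrix.mulVec (⅟B)) (show Matrix.mulVec B x = Matrix.mulVec B y from h)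
        simpa [Matrix.mulVec_mulVec] using this
      · show Matrix.mulVec B (Matrix.mulVec (⅟B) y) = y
        simp [Matrix.mulVec_mulVec]
    have hrange : LinearMap.range (Matrix.mulVecLin A) = LinearMap.range (Matrix.mulVecLin C) := by
      refine le_antisymm ?_ ?_
      · conv_lhs => rw [hA, Matrix.mulVecLin_mul]
        exact LinearMap.range_comp_le_range _ _
      · rw [Matrix.range_mulVecLin, Matrix.range_mulVecLin, Submodule.span_le]
        rintro _ ⟨k, rfl⟩
        exact Submodule.subset_span ⟨g k, rfl⟩
    have hinj : Function.Injective (Matrix.mulVecLin C) :=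
      Function.Injective.of_comp (f := LinearMap.funLeft R R f) (by
        rw [← LinearMap.coe_comp, hcomp]; exact hbij.1)
    refine ⟨LinearMap.ker (LinearMap.funLeft R R f), ?_, ?_⟩
    · rw [hrange]
      constructor
      · rw [disjoint_iff, eq_bot_iff]
        rintro x ⟨⟨y, rfl⟩, hx⟩
        have : Matrix.mulVecLin B y = 0 := by rw [← hcomp]; exact hx
        rw [← map_zero (Matrix.mulVecLin B)] at this
        simp [hbij.1 this]
      · rw [codisjoint_iff, eq_top_iff]
        intro x _
        obtain ⟨y, hy⟩ := hbij.2 (LinearMap.funLeft R R f x)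
        refine Submodule.mem_sup.2 ⟨_, ⟨y, rfl⟩, x - Matrix.mulVecLin C y, ?_, add_sub_cancel _ _⟩
        rw [LinearMap.mem_ker, map_sub, ← hy, ← hcomp]
        simp
    · rw [hrange, LinearMap.finrank_range_of_inj hinj, Module.finrank_fin_fun]

end Groth.Agent.S10890
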