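import Groth.Statements.S10891
import Groth.Statements.S9607
import Groth.Statements.S15368
import Groth.Statements.S14337
import Groth.Statements.S15526
import Groth.Statements.S11831
import Mathlib.RingTheory.Nakayama
import Mathlib.RingTheory.LocalRing.Module
import Mathlib.RingTheory.Flat.EquationalCriterion
import Mathlib.RingTheory.TensorProduct.Free
import Mathlib.Data.Nat.Choose.Basic
import Mathlib.Data.Nat.Factorization.Basic
import Mathlib.LinearAlgebra.FreeModule.PID

set_option autoImplicit false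
universe u
open CAlg

namespace Groth.Agent.S10891
open CAlg

open MvPolynomial

/-- Let k be a field containing a primitive r-th root of unity ζ and 0 < a < r. The cyclic group of r-th
roots of unity acts on k[X, Y] through the generator X ↦ ζ⁻¹ X, Y ↦ ζ^(−a) Y, and the ring of
invariants of this action is generated as a k-algebra by the monomials X^i Y^j with 0 ≤ i, j ≤ r,
(i, j) ≠ (r, r) and i + a·j ≡ 0 (mod r). (The printed statement writes n for the order of the group,
which the surrounding section calls r.) -/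
theorem result (k : Type u) [Field k] (r a : ℕ) (ha : 0 < a) (har : a < r)
    (ζ : k) (hζ : IsPrimitiveRoot ζ r) (p : MvPolynomial (Fin 2) k) :
    MvPolynomial.aeval (fun i : Fin 2 => if i = 0 then MvPolynomial.C ζ⁻¹ * MvPolynomial.X 0
        else MvPolynomial.C (ζ⁻¹ ^ a) * (MvPolynomial.X 1 : MvPolynomial (Fin 2) k)) p = p ↔
      p ∈ Algebra.adjoin k {q : MvPolynomial (Fin 2) k | ∃ i j : ℕ, i ≤ r ∧ j ≤ r ∧ ¬ (i = r ∧ j = r) ∧
        r ∣ i + a * j ∧ q = MvPolynomial.X 0 ^ i * MvPolynomial.X 1 ^ j} := by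
  classical
  set σ := MvPolynomial.aeval (R := k) (fun i : Fin 2 => if i = 0 then MvPolynomial.C ζ⁻¹ * MvPolynomial.X 0
        else MvPolynomial.C (ζ⁻¹ ^ a) * (MvPolynomial.X 1 : MvPolynomial (Fin 2) k)) with hσ
  set T := Algebra.adjoin k {q : MvPolynomial (Fin 2) k | ∃ i j : ℕ, i ≤ r ∧ j ≤ r ∧ ¬ (i = r ∧ j = r) ∧
        r ∣ i + a * j ∧ q = MvPolynomial.X 0 ^ i * MvPolynomial.X 1 ^ j}
  have hXY : ∀ i j : ℕ, σ (X 0 ^ i * X 1 ^ j) = C (ζ⁻¹ ^ (i + a * j)) * (X 0 ^ i * X 1 ^ j) := by
    intro i j
    rw [map_mul, map_pow, map_pow, hσ, aeval_X, aeval_X, if_pos rfl, if_neg (by decide), mul_pow, mul_pow,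
      ← map_pow, ← map_pow, pow_add, map_mul, pow_mul]
    ring
  have hmon : ∀ (e : Fin 2 →₀ ℕ), (monomial e (1 : k)) = X 0 ^ e 0 * X 1 ^ e 1 := fun e => by
    rw [monomial_eq, Finsupp.prod_fintype _ _ (fun _ => pow_zero _), Fin.prod_univ_two, C_1, one_mul]
  have hcoef : ∀ (q : MvPolynomial (Fin 2) k) (e : Fin 2 →₀ ℕ),
      coeff e (σ q) = ζ⁻¹ ^ (e 0 + a * e 1) * coeff e q := by
    intro q e
    induction q using MvPolynomial.induction_on' with
    | add q q' hq hq' => rw [map_add, coeff_add, hq, hq', coeff_add, mul_add]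
    | monomial e' c =>
      rw [show monomial e' c = C c * monomial e' (1 : k) by rw [C_mul_monomial, mul_one], map_mul, hmon, hXY,
        ← hmon, ← mul_assoc, hσ, aeval_C, algebraMap_eq, ← map_mul, C_mul_monomial, C_mul_monomial, coeff_monomial,
        coeff_monomial]
      split_ifs with he
      · subst he; ring
      · rw [mul_zero]
  constructor
  · intro h
    have hgen : ∀ N i j : ℕ, i + j = N → r ∣ i + a * j → (X 0 ^ i * X 1 ^ j : MvPolynomial (Fin 2) k) ∈ T := by
      intro N
      induction N using Nat.strong_induction_on with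
      | _ N ih =>
        intro i j hN hd
        by_cases hi : r ≤ i
        · obtain ⟨i, rfl⟩ := Nat.exists_eq_add_of_le hi
          rw [pow_add, mul_assoc]
          refine mul_mem (Algebra.subset_adjoin ⟨r, 0, le_rfl, Nat.zero_le _, by omega, by simp, by simp⟩)
            (ih (i + j) (by omega) i j rfl ?_)
          rw [add_assoc, Nat.dvd_add_right dvd_rfl] at hd; exact hd
        by_cases hj : r ≤ j
        · obtain ⟨j, rfl⟩ := Nat.exists_eq_add_of_le hj
          rw [pow_add, mul_left_comm]
          refine mul_mem (Algebra.subset_adjoin ⟨0, r, Nat.zero_le _, le_rfl, by omega, by simp, by simp⟩)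
            (ih (i + j) (by omega) i j rfl ?_)
          rw [mul_add, add_left_comm, Nat.dvd_add_right (dvd_mul_left r a)] at hd; exact hd
        exact Algebra.subset_adjoin ⟨i, j, by omega, by omega, by omega, hd, rfl⟩
    rw [as_sum p]
    refine sum_mem fun e he => ?_
    rw [show monomial e (coeff e p) = coeff e p • monomial e (1 : k) by rw [smul_monomial, smul_eq_mul, mul_one],
      hmon]
    refine Subalgebra.smul_mem _ (hgen _ _ _ rfl ?_) _
    have h1 := hcoef p e
    rw [h] at h1
    have h2 : ζ⁻¹ ^ (e 0 + a * e 1) = 1 := (mul_eq_right₀ (mem_support_iff.1 he)).1 h1.symm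
    rwa [inv_pow, inv_eq_one, hζ.pow_eq_one_iff_dvd] at h2
  · intro h
    induction h using Algebra.adjoin_induction with
    | mem x hx =>
      obtain ⟨i, j, -, -, -, hd, rfl⟩ := hx
      rw [hXY, inv_pow, (hζ.pow_eq_one_iff_dvd _).2 hd, inv_one, C_1, one_mul]
    | algebraMap c => exact AlgHom.commutes σ c
    | add x y _ _ hx hy => rw [map_add, hx, hy]
    | mul x y _ _ hx hy => rw [map_mul, hx, hy]

end Groth.Agent.S10891
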