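import Groth.Statements.S10893
import Groth.Agent.Lib.MeroLib.Curve
import Groth.Agent.Lib.MeroLib.Existence
import Groth.Agent.Lib.Depth3.Zero

set_option autoImplicit false
universe u
open CategoryTheory AlgebraicGeometry
open Curves

namespace Groth.Agent.S10893

/-- Let C be an absolute curve (Noetherian, local rings at closed points one-dimensional) none of whose
points is open, and U ⊆ C an open dense subset. Then there is an effective divisor D on C with
support contained in U and meeting every irreducible component of C. -/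
theorem result {C : Scheme.{u}} [IsNoetherian C]
    (hC : ∀ x : C, IsClosed ({x} : Set C) → ringKrullDim (C.presheaf.stalk x) = 1)
    (hpt : ∀ x : C, ¬ IsOpen ({x} : Set C)) (U : C.Opens) (hU : Dense (U : Set C)) :
    ∃ D : Mero.Divisor C, Mero.IsEffective D ∧ Mero.supp D ⊆ (U : Set C) ∧
      ∀ Z ∈ irreducibleComponents (C : Type u), (Mero.supp D ∩ Z).Nonempty := by
  classical
  haveI := Groth.Agent.M1.isQCoh_structureModule C
  have hfinWA := Groth.Agent.MeroLib.finWA_of_noetherian (X := C)
  let A : Set C := {x | Curv2.IsWeakAssPoint (Coh.structureModule C) x ∧ IsClosed ({x} : Set C)}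
  have hA : A.Finite := by
    refine (Groth.Agent.WA.finite_weakAss (F := Coh.structureModule C) (Groth.Agent.M1.isQCoh_structureModule C)
      (Groth.Agent.M1.isCoh_structureModule C).2 (U := ⊤) isCompact_univ).subset ?_
    exact fun x hx => ⟨TopologicalSpace.Opens.mem_top x, hx.1⟩
  have hAc : IsClosed A := Set.biUnion_of_singleton A ▸ hA.isClosed_biUnion fun x hx => hx.2
  have hsel : ∀ Z : irreducibleComponents (C : Type u), ∃ x : C, x ∈ (Z : Set C) ∧ x ∈ U ∧ IsClosed ({x} : Set C) ∧
      ¬ Curv2.IsWeakAssPoint (Coh.structureModule C) x := by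
    rintro ⟨Z, hZ⟩
    have hZc := isClosed_of_mem_irreducibleComponents Z hZ
    obtain ⟨η, hη⟩ := QuasiSober.sober hZ.1 hZc
    have hηmax : ∀ z : C, z ⤳ η → z = η := fun z hz => by
      have h1 : Z ⊆ closure ({z} : Set C) := by
        rw [← hη.def]
        exact specializes_iff_closure_subset.1 hz
      have h2 : z ∈ Z := hZ.2 isIrreducible_singleton.closure h1 (subset_closure rfl)
      exact (hz.antisymm (hη.specializes h2)).eq
    have hηU : η ∈ U := by
      have hfin := TopologicalSpace.NoetherianSpace.finite_irreducibleComponents (α := C)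
      let R : Set C := ⋃ Y ∈ irreducibleComponents (C : Type u) \ {Z}, Y
      have hR : IsClosed R := (hfin.subset Set.diff_subset).isClosed_biUnion
        fun Y hY => isClosed_of_mem_irreducibleComponents Y hY.1
      have hηR : η ∉ R := fun h => by
        obtain ⟨Y, hY, hηY⟩ := Set.mem_iUnion₂.1 h
        have hsub : Z ⊆ Y := by
          rw [← hη.def]
          exact (isClosed_of_mem_irreducibleComponents Y hY.1).closure_subset_iff.2 (Set.singleton_subset_iff.2 hηY)
        exact hY.2 (le_antisymm (hZ.2 hY.1.1 hsub) hsub)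
      obtain ⟨y, hyR, hyU⟩ := hU.inter_open_nonempty Rᶜ hR.isOpen_compl ⟨η, hηR⟩
      have hyZ : y ∈ Z := by
        by_contra hyZ
        exact hyR (Set.mem_iUnion₂.2 ⟨irreducibleComponent y, ⟨irreducibleComponent_mem_irreducibleComponents y,
          fun h => hyZ (Set.mem_singleton_iff.1 h ▸ mem_irreducibleComponent)⟩, mem_irreducibleComponent⟩)
      exact (hη.specializes hyZ).mem_open U.isOpen hyU
    have hηcl : ¬ IsClosed ({η} : Set C) := fun hcl => by
      refine hpt η ?_
      have hfin := TopologicalSpace.NoetherianSpace.finite_irreducibleComponents (α := C)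
      have hZeq : Z = {η} := hη.def.symm.trans hcl.closure_eq
      have : ({η} : Set C) = (⋃ Y ∈ irreducibleComponents (C : Type u) \ {Z}, Y)ᶜ := by
        refine Set.ext fun y => ⟨?_, fun hy => ?_⟩
        · rintro rfl h
          obtain ⟨Y, hY, hηY⟩ := Set.mem_iUnion₂.1 h
          have hsub : Z ⊆ Y := by rw [hZeq]; exact Set.singleton_subset_iff.2 hηY
          exact hY.2 (le_antisymm (hZ.2 hY.1.1 hsub) hsub)
        · by_contra hne
          refine hy (Set.mem_iUnion₂.2 ⟨irreducibleComponent y, ⟨irreducibleComponent_mem_irreducibleComponents y,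
            fun h => ?_⟩, mem_irreducibleComponent⟩)
          exact hne (hZeq ▸ (Set.mem_singleton_iff.1 h ▸ mem_irreducibleComponent))
      rw [this]
      exact ((hfin.subset Set.diff_subset).isClosed_biUnion
        fun Y hY => isClosed_of_mem_irreducibleComponents Y hY.1).isOpen_compl
    let R : Set C := A ∪ (U : Set C)ᶜ
    have hηR : η ∉ R := by
      rintro (h | h)
      · exact hηcl h.2
      · exact h hηU
    -- a closed point of the curve in the open set
    obtain ⟨W, hW, hηW, hWR⟩ := AlgebraicGeometry.exists_isAffineOpen_mem_and_subset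
      (U := ⟨Rᶜ, (hAc.union U.isOpen.isClosed_compl).isOpen_compl⟩) (x := η) hηR
    by_contra hcon
    push Not at hcon
    have hall : ∀ x ∈ W, x ∈ Z → x = η := by
      intro x hx hxZ
      by_contra hne
      have hxcl : IsClosed ({x} : Set C) := by
        by_contra hxcl
        exact hne (Groth.Agent.MeroLib.eq_of_specializes_of_not_closed hC hxcl (hη.specializes hxZ)).symm
      have hxR : x ∉ R := hWR hx
      have hxA : Curv2.IsWeakAssPoint (Coh.structureModule C) x := hcon x hxZ (not_not.1 fun h => hxR (Or.inr h)) hxcl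
      exact hxR (Or.inl ⟨hxA, hxcl⟩)
    -- `W ∩ Z = {η}` so `η` is open
    refine hpt η ?_
    have hfin := TopologicalSpace.NoetherianSpace.finite_irreducibleComponents (α := C)
    have : ({η} : Set C) = (W : Set C) ∩ (⋃ Y ∈ irreducibleComponents (C : Type u) \ {Z}, Y)ᶜ := by
      refine Set.ext fun y => ⟨?_, fun hy => ?_⟩
      · rintro rfl
        refine ⟨hηW, fun h => ?_⟩
        obtain ⟨Y, hY, hηY⟩ := Set.mem_iUnion₂.1 h
        have hsub : Z ⊆ Y := by
          rw [← hη.def]
          exact (isClosed_of_mem_irreducibleComponents Y hY.1).closure_subset_iff.2 (Set.singleton_subset_iff.2 hηY)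
        exact hY.2 (le_antisymm (hZ.2 hY.1.1 hsub) hsub)
      · refine hall y hy.1 ?_
        by_contra hyZ
        exact hy.2 (Set.mem_iUnion₂.2 ⟨irreducibleComponent y, ⟨irreducibleComponent_mem_irreducibleComponents y,
          fun h => hyZ (Set.mem_singleton_iff.1 h ▸ mem_irreducibleComponent)⟩, mem_irreducibleComponent⟩)
    rw [this]
    exact W.isOpen.inter ((hfin.subset Set.diff_subset).isClosed_biUnion
      fun Y hY => isClosed_of_mem_irreducibleComponents Y hY.1).isOpen_compl
  choose p hpZ hpU hpcl hpA using hsel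
  have ht : ∀ Z, ∃ t : Mero.regStalk C (p Z), ¬ IsUnit (t : C.presheaf.stalk (p Z)) := fun Z => by
    have hreg : Mero.regStalk C (p Z) = nonZeroDivisors (C.presheaf.stalk (p Z)) :=
      Groth.Agent.WA.regStalk_eq_of_finite hfinWA (p Z)
    by_contra hall
    push Not at hall
    obtain ⟨W, hW, hxW, -⟩ := AlgebraicGeometry.exists_isAffineOpen_mem_and_subset (U := (⊤ : C.Opens))
      (x := p Z) trivial
    refine hpA Z (Groth.Agent.MeroLib.weakAss_of_assoc
      (Groth.Agent.Depth3.forall_not_regular_iff_mem_associatedPrimes.1 fun c hc hcreg => ?_) hxW hW)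
    refine (IsLocalRing.mem_maximalIdeal _).1 hc (hall ⟨c, ?_⟩)
    rw [hreg, mem_nonZeroDivisors_iff_right]
    intro z hz
    refine hcreg ?_
    simp only [smul_eq_mul, mul_zero]
    rw [mul_comm, hz]
  choose t ht using ht
  have hfin := TopologicalSpace.NoetherianSpace.finite_irreducibleComponents (α := C)
  haveI := hfin.to_subtype
  let g : ∀ x : C, Mero.Germ C x := fun x =>
    if h : (∃ Z, p Z = x) ∧ ∃ a : Mero.regStalk C x, ¬ IsUnit (a : C.presheaf.stalk x) then
      QuotientGroup.mk (IsLocalization.map_units (Mero.KStalk C x) h.2.choose).unit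
    else 1
  have hg : ∀ x : C, g x = 1 ∨ ∃ Z, p Z = x ∧ ∃ a : Mero.regStalk C x, ¬ IsUnit (a : C.presheaf.stalk x) ∧
      g x = QuotientGroup.mk (IsLocalization.map_units (Mero.KStalk C x) a).unit := by
    intro x
    by_cases h : (∃ Z, p Z = x) ∧ ∃ a : Mero.regStalk C x, ¬ IsUnit (a : C.presheaf.stalk x)
    · exact Or.inr ⟨h.1.choose, h.1.choose_spec, h.2.choose, h.2.choose_spec, dif_pos h⟩
    · exact Or.inl (dif_neg h)
  have hne : ∀ Z, g (p Z) ≠ 1 := by
    intro Z h1
    have hex : (∃ Z', p Z' = p Z) ∧ ∃ a : Mero.regStalk C (p Z), ¬ IsUnit (a : C.presheaf.stalk (p Z)) :=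
      ⟨⟨Z, rfl⟩, t Z, ht Z⟩
    have e : g (p Z) = QuotientGroup.mk (IsLocalization.map_units (Mero.KStalk C (p Z)) hex.2.choose).unit :=
      dif_pos hex
    rw [h1, eq_comm, QuotientGroup.eq_one_iff] at e
    obtain ⟨w, hw⟩ := e
    refine hex.2.choose_spec ?_
    have h2 : algebraMap _ (Mero.KStalk C (p Z)) (w : C.presheaf.stalk (p Z)) =
        algebraMap _ _ (hex.2.choose : C.presheaf.stalk (p Z)) :=
      (congrArg Units.val hw).trans (IsUnit.unit_spec _)
    exact Mero.algebraMap_KStalk_injective _ h2 ▸ w.isUnit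
  have hmem : g ∈ Mero.divisorGroup C := by
    refine Groth.Agent.MeroLib.mem_divisorGroup hC g ((Set.finite_range p).subset fun x hx => ?_) fun x hx => ?_
    · rcases hg x with h | ⟨Z, hZ, -⟩
      · exact absurd h hx
      · exact ⟨Z, hZ⟩
    · rcases hg x with h | ⟨Z, hZ, -⟩
      · exact h
      · exact absurd (hZ ▸ hpcl Z) hx
  refine ⟨⟨g, hmem⟩, fun x => ?_, fun x hx => ?_, fun Z hZ => ⟨p ⟨Z, hZ⟩, hne ⟨Z, hZ⟩, hpZ ⟨Z, hZ⟩⟩⟩
  · rcases hg x with h | ⟨-, -, a, -, ha⟩
    · refine ⟨1, ?_⟩
      change g x = _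
      rw [h, ← QuotientGroup.mk_one]
      exact congrArg _ (Units.ext (by rw [IsUnit.unit_spec, OneMemClass.coe_one, map_one]; rfl))
    · exact ⟨a, ha⟩
  · rcases hg x with h | ⟨Z, hZ, -⟩
    · exact absurd h hx
    · exact hZ ▸ hpU Z

end Groth.Agent.S10893
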