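import Groth.Statements.S10894
import Groth.Agent.Lib.MeroLib.Curve

set_option autoImplicit false
universe u
open CategoryTheory AlgebraicGeometry
open Curves

namespace Groth.Agent.S10894

/-- On an absolute curve C (Noetherian, local rings at closed points one-dimensional) every divisor D is
a difference of two effective divisors each supported inside the support of D (divisors are written
multiplicatively, so the difference is D₁ · D₂⁻¹). -/
theorem result {C : Scheme.{u}} [IsNoetherian C]
    (hC : ∀ x : C, IsClosed ({x} : Set C) → ringKrullDim (C.presheaf.stalk x) = 1) (D : Mero.Divisor C) :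
    ∃ D₁ D₂ : Mero.Divisor C, Mero.IsEffective D₁ ∧ Mero.IsEffective D₂ ∧ D = D₁ * D₂⁻¹ ∧
      Mero.supp D₁ ⊆ Mero.supp D ∧ Mero.supp D₂ ⊆ Mero.supp D := by
  classical
  obtain ⟨hfin, hcl⟩ := Groth.Agent.MeroLib.support_finite hC D
  choose q hq using fun x : C => QuotientGroup.mk_surjective (D.1 x)
  choose ab hab using fun x : C => IsLocalization.surj (Mero.regStalk C x) (q x : Mero.KStalk C x)
  have haunit : ∀ x : C, IsUnit (algebraMap _ (Mero.KStalk C x) (ab x).1) := fun x => by
    rw [← hab x]
    exact (q x).isUnit.mul (IsLocalization.map_units _ (ab x).2)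
  have hb : ∀ x : C, IsUnit (algebraMap _ (Mero.KStalk C x) ((ab x).2 : C.presheaf.stalk x)) := fun x =>
    IsLocalization.map_units _ (ab x).2
  have hamem : ∀ x : C, ∃ a : Mero.regStalk C x, (a : C.presheaf.stalk x) = (ab x).1 := fun x => by
    have hnzd : (ab x).1 ∈ nonZeroDivisors (C.presheaf.stalk x) := by
      rw [mem_nonZeroDivisors_iff_right]
      intro z hz
      refine Mero.algebraMap_KStalk_injective x ?_
      rw [map_zero]
      exact (haunit x).mul_left_eq_zero.1 (by rw [← map_mul, hz, map_zero])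
    exact ⟨⟨(ab x).1, (Groth.Agent.WA.regStalk_eq_of_finite Groth.Agent.MeroLib.finWA_of_noetherian x).ge hnzd⟩, rfl⟩
  let g₁ : ∀ x : C, Mero.Germ C x := fun x => if D.1 x = 1 then 1 else QuotientGroup.mk (haunit x).unit
  let g₂ : ∀ x : C, Mero.Germ C x := fun x => if D.1 x = 1 then 1 else QuotientGroup.mk (hb x).unit
  have h1 : g₁ ∈ Mero.divisorGroup C := Groth.Agent.MeroLib.mem_divisorGroup hC g₁
    (hfin.subset fun x hx h => hx (if_pos h)) fun x hx => if_pos (hcl x hx)
  have h2 : g₂ ∈ Mero.divisorGroup C := Groth.Agent.MeroLib.mem_divisorGroup hC g₂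
    (hfin.subset fun x hx h => hx (if_pos h)) fun x hx => if_pos (hcl x hx)
  have hone : ∀ (g : ∀ x : C, Mero.Germ C x) (x : C), g x = 1 →
      ∃ a : Mero.regStalk C x, g x = QuotientGroup.mk (IsLocalization.map_units (Mero.KStalk C x) a).unit := by
    intro g x hx
    refine ⟨1, ?_⟩
    rw [hx, ← QuotientGroup.mk_one]
    exact congrArg _ (Units.ext (by rw [IsUnit.unit_spec, OneMemClass.coe_one, map_one]; rfl))
  refine ⟨⟨g₁, h1⟩, ⟨g₂, h2⟩, fun x => ?_, fun x => ?_, Subtype.ext (funext fun x => ?_),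
    fun x hx h => hx (if_pos h), fun x hx h => hx (if_pos h)⟩
  · by_cases h : D.1 x = 1
    · exact hone g₁ x (if_pos h)
    · obtain ⟨a, ha⟩ := hamem x
      refine ⟨a, (if_neg h).trans (congrArg _ (Units.ext ?_))⟩
      rw [IsUnit.unit_spec, IsUnit.unit_spec, ha]
  · by_cases h : D.1 x = 1
    · exact hone g₂ x (if_pos h)
    · exact ⟨(ab x).2, if_neg h⟩
  · change D.1 x = g₁ x * (g₂ x)⁻¹
    by_cases h : D.1 x = 1
    · rw [show g₁ x = 1 from if_pos h, show g₂ x = 1 from if_pos h, h, inv_one]
      exact (one_mul (1 : Mero.Germ C x)).symm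
    · rw [show g₁ x = _ from if_neg h, show g₂ x = _ from if_neg h, ← QuotientGroup.mk_inv, ← QuotientGroup.mk_mul,
        ← hq x]
      refine congrArg _ (Units.ext ?_)
      rw [Units.val_mul, Units.eq_mul_inv_iff_mul_eq, IsUnit.unit_spec, IsUnit.unit_spec]
      exact hab x

end Groth.Agent.S10894
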