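import Groth.Statements.S10895
import Mathlib.RingTheory.RingHom.FaithfullyFlat


set_option autoImplicit false
universe u
open CategoryTheory AlgebraicGeometry
open FlatMor

namespace Groth.Agent.S10895

/-- A closed immersion of finite presentation which is flat at a point x is an isomorphism over some
open neighbourhood of the image of x. -/
theorem result {X Y : Scheme.{u}} (f : X ⟶ Y) [IsClosedImmersion f]
    [LocallyOfFinitePresentation f] (x : X) (hflat : (f.stalkMap x).hom.Flat) :
    ∃ V : Y.Opens, f.base x ∈ V ∧ IsIso (f ∣_ V) := by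
  have hinj : Function.Injective (f.stalkMap x).hom := by
    algebraize [(f.stalkMap x).hom]
    have : Module.Flat (Y.presheaf.stalk (f x)) (X.presheaf.stalk x) := hflat
    have : IsLocalHom (algebraMap (Y.presheaf.stalk (f x)) (X.presheaf.stalk x)) :=
      inferInstanceAs (IsLocalHom (f.stalkMap x).hom)
    have := Module.FaithfullyFlat.of_flat_of_isLocalHom (A := Y.presheaf.stalk (f x)) (B := X.presheaf.stalk x)
    exact RingHom.FaithfullyFlat.injective (f := (f.stalkMap x).hom) this
  obtain ⟨U, hU, hxU, -⟩ :=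
    exists_isAffineOpen_mem_and_subset (U := ⊤) (x := f x) (Set.mem_univ _)
  have hU' : IsAffineOpen (f ⁻¹ᵁ U) := hU.preimage f
  have hsurj : Function.Surjective (f.app U).hom := f.app_surjective U hU
  have hker : (RingHom.ker (f.app U).hom).FG := by
    have hfp : (f.app U).hom.FinitePresentation := by
      have := f.finitePresentation_appLE hU hU' le_rfl
      rwa [← Scheme.Hom.app_eq_appLE] at this
    algebraize [(f.app U).hom]
    exact Algebra.FinitePresentation.ker_fG_of_surjective
      (Algebra.ofId Γ(Y, U) Γ(X, f ⁻¹ᵁ U)) hsurj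
  let _ := Y.presheaf.algebra_section_stalk (U := U) ⟨f x, hxU⟩
  obtain ⟨t, ht⟩ := hker
  have hloc := hU.isLocalization_stalk ⟨f x, hxU⟩
  have key : ∀ a ∈ RingHom.ker (f.app U).hom,
      ∃ s : (hU.primeIdealOf ⟨f x, hxU⟩).asIdeal.primeCompl, (s : Γ(Y, U)) * a = 0 := by
    intro a ha
    refine (IsLocalization.map_eq_zero_iff (hU.primeIdealOf ⟨f x, hxU⟩).asIdeal.primeCompl
      (Y.presheaf.stalk (f x)) a).mp ?_
    apply hinj
    rw [map_zero]
    show (f.stalkMap x).hom ((Y.presheaf.germ U (f x) hxU).hom a) = 0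
    rw [Scheme.Hom.germ_stalkMap_apply, RingHom.mem_ker.mp ha, map_zero]
  choose s hs using key
  classical
  let g : Γ(Y, U) := ∏ a ∈ t.attach, (s a.1 (ht ▸ Submodule.subset_span a.2) : Γ(Y, U))
  have hgI : ∀ a ∈ RingHom.ker (f.app U).hom, g * a = 0 := by
    intro a ha
    rw [← ht] at ha
    induction ha using Submodule.span_induction with
    | mem b hb =>
      rw [show g = _ from (Finset.prod_erase_mul _ _ (Finset.mem_attach t ⟨b, hb⟩)).symm,
        mul_assoc, hs b _, mul_zero]
    | zero => simp
    | add b c _ _ hb hc => simp [mul_add, hb, hc]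
    | smul r b _ hb => rw [smul_eq_mul, mul_left_comm, hb, mul_zero]
  have hg : g ∈ (hU.primeIdealOf ⟨f x, hxU⟩).asIdeal.primeCompl :=
    prod_mem fun a _ => SetLike.coe_mem _
  refine ⟨Y.basicOpen g, ?_, ?_⟩
  · rw [Scheme.mem_basicOpen Y g (f x) hxU]
    exact IsLocalization.map_units (Y.presheaf.stalk (f x)) ⟨g, hg⟩
  · have : IsAffine (Y.basicOpen g : Scheme.{u}) := hU.basicOpen g
    apply IsClosedImmersion.isIso_of_injective_of_isAffine
    have h1 : Function.Injective (f.app (Y.basicOpen g)).hom := by
      rw [hU.app_basicOpen_eq_away_map f hU' g, CommRingCat.hom_comp, RingHom.coe_comp]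
      refine (ConcreteCategory.bijective_of_isIso _).1.comp ?_
      have := hU.isLocalization_basicOpen g
      have := hU'.isLocalization_basicOpen (f.app U g)
      rw [CommRingCat.hom_ofHom, injective_iff_map_eq_zero]
      intro z hz
      obtain ⟨⟨a, m⟩, hm⟩ := IsLocalization.surj (Submonoid.powers g) z
      have h2 : algebraMap Γ(X, f ⁻¹ᵁ U) Γ(X, X.basicOpen (f.app U g)) (f.app U a) = 0 := by
        have := congrArg (IsLocalization.Away.map Γ(Y, Y.basicOpen g)
          Γ(X, X.basicOpen (f.app U g)) (f.app U).hom g) hm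
        rw [map_mul, hz, zero_mul, IsLocalization.Away.map, IsLocalization.map_eq] at this
        exact this.symm
      obtain ⟨⟨_, k, rfl⟩, hk⟩ :=
        (IsLocalization.map_eq_zero_iff (Submonoid.powers ((f.app U g))) _ _).mp h2
      have h3 : g * (g ^ k * a) = 0 :=
        hgI _ (by rw [RingHom.mem_ker, map_mul, map_pow]; exact hk)
      have h4 : algebraMap Γ(Y, U) Γ(Y, Y.basicOpen g) a = 0 :=
        (IsLocalization.map_eq_zero_iff (Submonoid.powers g) _ _).mpr
          ⟨⟨g ^ (k+1), _, rfl⟩, by rw [show g^(k+1) * a = g * (g^k * a) by ring]; exact h3⟩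
      simp only [h4] at hm
      exact (IsLocalization.map_units _ m).mul_left_eq_zero.mp hm
    have h2 : ∀ W : Y.Opens, W = Y.basicOpen g → Function.Injective (f.app W).hom := by
      rintro _ rfl; exact h1
    rw [morphismRestrict_appTop]
    intro a b hab
    exact h2 _ (Scheme.Opens.ι_image_top _) ((ConcreteCategory.bijective_of_isIso (X.presheaf.map (eqToHom (image_morphismRestrict_preimage f (Y.basicOpen g) ⊤)).op)).1 hab)

end Groth.Agent.S10895
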