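import Groth.Statements.S10898
import Mathlib

set_option autoImplicit false
universe u
open Polynomial
open WDiv

namespace Groth.Agent.S10898

/-- Let A be a Noetherian integral domain and P a prime ideal of height 1 of the polynomial ring A[X].
Then either P meets A in 0 only, or its contraction p = P ∩ A is a prime of height 1 of A and P is
the extension p·A[X]. (The published lemma also assumes A regular in codimension 1; that hypothesis
is not used for this assertion.) -/
theorem result (A : Type u) [CommRing A] [IsDomain A]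
    [IsNoetherianRing A] (P : Ideal A[X]) [P.IsPrime] (hP : P.height = 1) :
    P.comap (C : A →+* A[X]) = ⊥ ∨
      ((P.comap (C : A →+* A[X])).height = 1 ∧ P = (P.comap (C : A →+* A[X])).map C) := by
  classical
  set Q := P.comap (C : A →+* A[X]) with hQdef
  by_cases hQ : Q = ⊥
  · exact Or.inl hQ
  refine Or.inr ?_
  haveI : Q.IsPrime := Ideal.comap_isPrime _ _
  have hle : Q.map (C : A →+* A[X]) ≤ P := Ideal.map_comap_le
  haveI hQC : (Q.map (C : A →+* A[X])).IsPrime := Ideal.isPrime_map_C_of_isPrime
  have hne : Q.map (C : A →+* A[X]) ≠ ⊥ := by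
    rwa [Ne, Ideal.map_eq_bot_iff_of_injective Polynomial.C_injective]
  have hmin : ∀ q : Ideal A[X], q.IsPrime → q < P → q = ⊥ := fun q hq hlt => by
    by_contra hq0
    haveI := hq
    have h1 : 1 ≤ q.height := by
      rw [Order.one_le_iff_pos, pos_iff_ne_zero]
      intro h0
      have h2 : q ∈ minimalPrimes A[X] := (Ideal.height_eq_zero_iff).1 h0
      rw [IsDomain.minimalPrimes_eq_singleton_bot] at h2
      exact hq0 h2
    have h3 := Ideal.height_strict_mono_of_isPrime hlt
    rw [hP] at h3
    exact absurd h3 (not_lt.2 h1)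
  have heq : Q.map (C : A →+* A[X]) = P := by
    by_contra hne'
    exact hne (hmin _ hQC (lt_of_le_of_ne hle hne'))
  refine ⟨le_antisymm ?_ ?_, heq.symm⟩
  · show Q.height ≤ ((1 : ℕ) : ℕ∞)
    rw [Ideal.height_le_iff]
    intro q hq hlt
    haveI := hq
    have hqP : q.map (C : A →+* A[X]) < P := heq ▸ lt_of_le_of_ne (Ideal.map_mono hlt.le) fun h => hlt.ne (by
      have := congrArg (Ideal.comap (C : A →+* A[X])) h
      rwa [Ideal.comap_map_of_surjective'' q, Ideal.comap_map_of_surjective'' Q] at this)
    haveI := (Ideal.isPrime_map_C_of_isPrime : (q.map (C : A →+* A[X])).IsPrime)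
    have hq0 := hmin _ inferInstance hqP
    rw [Ideal.map_eq_bot_iff_of_injective Polynomial.C_injective] at hq0
    subst hq0
    rw [Ideal.height_bot]
    exact_mod_cast zero_lt_one
  · rw [Order.one_le_iff_pos, pos_iff_ne_zero]
    intro h0
    have h2 : Q ∈ minimalPrimes A := (Ideal.height_eq_zero_iff).1 h0
    rw [IsDomain.minimalPrimes_eq_singleton_bot] at h2
    exact hQ h2
where
  Ideal.comap_map_of_surjective'' (q : Ideal A) : (q.map (C : A →+* A[X])).comap (C : A →+* A[X]) = q := by
    ext x
    rw [Ideal.mem_comap, Ideal.mem_map_C_iff]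
    refine ⟨fun h => by simpa using h 0, fun h j => ?_⟩
    rw [Polynomial.coeff_C]; split_ifs
    · exact h
    · exact q.zero_mem

end Groth.Agent.S10898
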