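import Groth.Statements.S10899
import Mathlib.RingTheory.Ideal.Height
import Mathlib.RingTheory.DiscreteValuationRing.TFAE
import Mathlib.RingTheory.Polynomial.Basic
import Mathlib.RingTheory.Localization.FractionRing

set_option autoImplicit false
universe u
open Polynomial
open WDiv

namespace Groth.Agent.S10899


lemma dvr_of_locally_principal {R : Type u} [CommRing R] [IsDomain R] [IsNoetherianRing R]
    (P : Ideal R) [P.IsPrime] (hP : P ≠ ⊥) (g : R) (hg : g ∈ P) (h : ∀ x ∈ P, ∃ c ∉ P, g ∣ c * x) :
    IsDiscreteValuationRing (Localization.AtPrime P) := by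
  set R' := Localization.AtPrime P
  have hmax : IsLocalRing.maximalIdeal R' = Ideal.span {algebraMap R R' g} := by
    refine le_antisymm ?_ ((Ideal.span_singleton_le_iff_mem _).2 ?_)
    · rw [← Localization.AtPrime.map_eq_maximalIdeal, Ideal.map_le_iff_le_comap]
      intro x hx
      obtain ⟨c, hc, hdvd⟩ := h x hx
      refine Ideal.mem_span_singleton.2 ?_
      have hu : IsUnit (algebraMap R R' c) := IsLocalization.map_units R' (⟨c, hc⟩ : P.primeCompl)
      have := map_dvd (algebraMap R R') hdvd
      rw [map_mul] at this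
      exact (IsUnit.dvd_mul_left hu).1 this
    · rw [← Localization.AtPrime.map_eq_maximalIdeal]; exact Ideal.mem_map_of_mem _ hg
  have hfield : ¬ IsField R' := by
    rw [IsLocalRing.isField_iff_maximalIdeal_eq, ← Localization.AtPrime.map_eq_maximalIdeal,
      Ideal.map_eq_bot_iff_of_injective (IsLocalization.injective R' P.primeCompl_le_nonZeroDivisors)]
    exact hP
  exact ((IsDiscreteValuationRing.TFAE R' hfield).out 4 0).1 (show (IsLocalRing.maximalIdeal R').IsPrincipal from ⟨⟨_, hmax⟩⟩)

lemma eq_bot_of_lt {R : Type u} [CommRing R] [IsDomain R] [IsNoetherianRing R] {q P : Ideal R} [q.IsPrime] [P.IsPrime]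
    (hP : P.height = 1) (h : q < P) : q = ⊥ := by
  by_contra hq
  have h1 := Ideal.height_add_one_le_of_lt_of_isPrime (show (⊥ : Ideal R) < q from bot_lt_iff_ne_bot.2 hq)
  have h2 := Ideal.height_add_one_le_of_lt_of_isPrime h
  rw [Ideal.height_bot, zero_add] at h1
  rw [hP] at h2
  have : (1 : ℕ∞) + 1 ≤ 1 := (add_le_add_left h1 1).trans h2
  exact absurd this (by decide)

open Polynomial in
lemma exists_of_comap_eq_bot {A : Type u} [CommRing A] [IsDomain A] (P : Ideal A[X]) [P.IsPrime]
    (h : P.comap C = ⊥) : ∃ g ∈ P, ∀ x ∈ P, ∃ c ∉ P, g ∣ c * x := by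
  let K := FractionRing A
  let φ : A[X] →+* K[X] := mapRingHom (algebraMap A K)
  obtain ⟨G, hG⟩ := (IsPrincipalIdealRing.principal (P.map φ)).principal
  have hGP : G ∈ P.map φ := hG ▸ Ideal.mem_span_singleton_self G
  letI := Polynomial.algebra A K
  have hloc : IsLocalization (Submonoid.map C (nonZeroDivisors A)) K[X] := Polynomial.isLocalization _ _
  obtain ⟨⟨⟨g, hg⟩, ⟨_, s, hs, rfl⟩⟩, he⟩ :=
    (IsLocalization.mem_map_algebraMap_iff (Submonoid.map C (nonZeroDivisors A)) K[X]).1 hGP
  refine ⟨g, hg, fun x hx => ?_⟩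
  have hxG : G ∣ φ x := Ideal.mem_span_singleton.1 (hG.le (Ideal.mem_map_of_mem φ hx))
  have hu : IsUnit (algebraMap A[X] K[X] (C s)) :=
    IsLocalization.map_units K[X] (⟨C s, s, hs, rfl⟩ : Submonoid.map C (nonZeroDivisors A))
  have hdvd : algebraMap A[X] K[X] g ∣ algebraMap A[X] K[X] x := by
    rw [← he]; exact (hu.mul_right_dvd).2 hxG
  obtain ⟨q, hq⟩ := hdvd
  obtain ⟨q0, ⟨_, t, ht, rfl⟩, rfl⟩ := IsLocalization.exists_mk'_eq (Submonoid.map C (nonZeroDivisors A)) q
  refine ⟨C t, fun hc => nonZeroDivisors.ne_zero ht (by simpa [h] using (show t ∈ P.comap C from hc)), q0, ?_⟩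
  apply IsLocalization.injective K[X] (M := Submonoid.map C (nonZeroDivisors A))
    (by rintro _ ⟨a, ha, rfl⟩; exact mem_nonZeroDivisors_of_ne_zero (C_ne_zero.2 (nonZeroDivisors.ne_zero ha)))
  rw [map_mul, map_mul, hq, mul_comm, mul_assoc, IsLocalization.mk'_spec]

/-- Let A be a Noetherian integral domain which is regular in codimension 1, i.e. whose localization at
every prime ideal of height 1 is a discrete valuation ring. Then the polynomial ring A[X] is regular
in codimension 1 as well: its localization at every prime ideal of height 1 is a discrete valuation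
ring. -/
theorem result (A : Type u) [CommRing A]
    [IsDomain A] [IsNoetherianRing A]
    (hR1 : ∀ (p : Ideal A) [p.IsPrime], p.height = 1 → IsDiscreteValuationRing (Localization.AtPrime p))
    (P : Ideal A[X]) [P.IsPrime] (hP : P.height = 1) :
    IsDiscreteValuationRing (Localization.AtPrime P) := by
  by_cases h : P.comap C = ⊥
  · obtain ⟨g, hg, hd⟩ := exists_of_comap_eq_bot P h
    exact dvr_of_locally_principal P (Ideal.ne_bot_of_height_eq_one hP) g hg hd
  let p := P.comap C
  have hmap : p.map C ≤ P := Ideal.map_comap_le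
  have hpX : (p.map C).IsPrime := Ideal.isPrime_map_C_of_isPrime
  have hcomap : ∀ q : Ideal A, (q.map C).comap C = q := fun q => by
    ext a
    rw [Ideal.mem_comap, Ideal.mem_map_C_iff]
    exact ⟨fun h => by simpa using h 0, fun h n => by rw [coeff_C]; split <;> simp [h]⟩
  have hPe : P = p.map C := by
    by_contra hne
    have h0 := congrArg (Ideal.comap C) (eq_bot_of_lt hP (hmap.lt_of_ne (Ne.symm hne)))
    rw [hcomap, Ideal.comap_bot_of_injective C C_injective] at h0
    exact h h0
  have hp1 : p.height = 1 := by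
    refine le_antisymm ?_ (Order.one_le_iff_pos.2 (pos_iff_ne_zero.2 fun h0 => h (Ideal.height_eq_zero_iff_eq_bot.1 h0)))
    refine Ideal.height_le_iff.2 fun q hq hlt => ?_
    have : (q.map (C : A →+* A[X])).IsPrime := Ideal.isPrime_map_C_of_isPrime
    have hlt' : q.map (C : A →+* A[X]) < P := by
      refine (hPe ▸ Ideal.map_mono hlt.le).lt_of_ne fun he => hlt.ne ?_
      rw [← hcomap q, he]
    have hq0 : q = ⊥ := by
      rw [← hcomap q, eq_bot_of_lt hP hlt', Ideal.comap_bot_of_injective C C_injective]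
    rw [hq0, Ideal.height_bot]
    simp
  have := hR1 p hp1
  obtain ⟨ϖ, hϖ⟩ := IsPrincipalIdealRing.principal (IsLocalRing.maximalIdeal (Localization.AtPrime p))
  obtain ⟨⟨π, s⟩, hπ⟩ := IsLocalization.surj p.primeCompl ϖ
  have hu : IsUnit (algebraMap A (Localization.AtPrime p) s) := IsLocalization.map_units _ s
  have hspan : IsLocalRing.maximalIdeal (Localization.AtPrime p) = Ideal.span {algebraMap A _ π} := by
    rw [hϖ, ← hπ, Ideal.submodule_span_eq, Ideal.span_singleton_mul_right_unit hu]
  refine dvr_of_locally_principal P (Ideal.ne_bot_of_height_eq_one hP) (C π) ?_ ?_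
  · change π ∈ p
    exact IsLocalization.AtPrime.to_map_mem_maximal_iff (Localization.AtPrime p) p π |>.1
      (hspan ▸ Ideal.mem_span_singleton_self _)
  intro x hx
  rw [hPe] at hx
  refine Submodule.span_induction (p := fun y _ => ∃ c ∉ P, C π ∣ c * y) ?_ ?_ ?_ ?_ hx
  · rintro _ ⟨a, ha, rfl⟩
    have : algebraMap A (Localization.AtPrime p) a ∈ Ideal.span {algebraMap A (Localization.AtPrime p) π} :=
      hspan ▸ (IsLocalization.AtPrime.to_map_mem_maximal_iff (Localization.AtPrime p) p a).2 ha
    obtain ⟨q, hq⟩ := Ideal.mem_span_singleton.1 this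
    obtain ⟨q0, c, rfl⟩ := IsLocalization.exists_mk'_eq p.primeCompl q
    refine ⟨C (c : A), c.2, ?_⟩
    have e : (c : A) * a = π * q0 := by
      apply IsLocalization.injective (Localization.AtPrime p) (M := p.primeCompl) p.primeCompl_le_nonZeroDivisors
      rw [map_mul, map_mul, hq, mul_comm, mul_assoc, IsLocalization.mk'_spec]
    rw [← map_mul, e, map_mul]
    exact dvd_mul_right _ _
  · exact ⟨1, fun h1 => (‹P.IsPrime›).ne_top ((Ideal.eq_top_iff_one P).2 h1), by simp⟩
  · rintro y z - - ⟨c, hc, hy⟩ ⟨d, hd, hz⟩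
    refine ⟨c * d, fun h => ((‹P.IsPrime›).mem_or_mem h).elim hc hd, ?_⟩
    rw [mul_add]
    exact dvd_add (by rw [mul_right_comm]; exact hy.mul_right d) (by rw [mul_assoc]; exact hz.mul_left c)
  · rintro a y - ⟨c, hc, hy⟩
    exact ⟨c, hc, by rw [smul_eq_mul, mul_left_comm]; exact hy.mul_left a⟩

end Groth.Agent.S10899
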