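import Mathlib.AlgebraicGeometry.AffineSpace
import Mathlib.AlgebraicGeometry.OrderOfVanishing
import Mathlib.AlgebraicGeometry.Morphisms.Separated
import Mathlib.RingTheory.DiscreteValuationRing.Basic
import Groth.Agent.Lib.WDivProd3.AffineSpace
import Groth.Agent.Lib.WDivProd3.ProjSpace
-- import your own Groth.Agent.* helpers here

set_option autoImplicit false
set_option linter.style.haveILetI false
universe u
open CategoryTheory CategoryTheory.Limits AlgebraicGeometry TopologicalSpace
namespace WDiv
end WDiv
open WDiv

namespace Groth.Agent.S10900

/-- Let X be an integral Noetherian separated scheme which is regular in codimension 1 (the local ring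
at every point of codimension 1, i.e. of coheight 1 in the specialization order, is a discrete
valuation ring), and let p : A^m_X → X be the affine m-space over X. Pulling back Weil divisors
along p (a divisor D, viewed as an integer-valued function on the codimension-1 points of X with
finite support, goes to y ↦ D(p(y)) on the codimension-1 points of A^m_X) induces an injective map
on divisor class groups: if the pulled-back divisor is the divisor of a nonzero rational function on
A^m_X, then D is the divisor of a nonzero rational function on X. -/
theorem result (m : ℕ) (X : Scheme.{u}) [IsIntegral X]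
    [IsNoetherian X] [X.IsSeparated] [IsLocallyNoetherian 𝔸(ULift.{u} (Fin m); X)]
    (hR1 : ∀ x : ↥X, Order.coheight x = 1 → IsDiscreteValuationRing ↑(X.presheaf.stalk x))
    (D : ↥X → ℤ) (hD : ∀ x, Order.coheight x ≠ 1 → D x = 0) (hfin : {x | D x ≠ 0}.Finite)
    (g : ↑(𝔸(ULift.{u} (Fin m); X)).functionField) (hg : g ≠ 0)
    (h : ∀ y : ↥(𝔸(ULift.{u} (Fin m); X)), Order.coheight y = 1 →
      Scheme.ord g y = D ((𝔸(ULift.{u} (Fin m); X) ↘ X) y)) :
    ∃ f : ↑X.functionField, f ≠ 0 ∧ ∀ x : ↥X, Order.coheight x = 1 → Scheme.ord f x = D x := by
  exact WDivProd3.principal_affineSpace (ULift.{u} (Fin m)) hR1 D hD hg h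

end Groth.Agent.S10900
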