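import Mathlib.AlgebraicGeometry.AffineSpace
import Mathlib.AlgebraicGeometry.OrderOfVanishing
import Mathlib.AlgebraicGeometry.Morphisms.Separated
import Mathlib.RingTheory.DiscreteValuationRing.Basic
import Groth.Agent.Lib.WDivProd3.AffineSpace
import Groth.Agent.Lib.WDivProd3.ProjSpace
-- import your own Groth.Agent.* helpers here

set_option autoImplicit false
set_option linter.style.haveILetI false
universe u
open CategoryTheory CategoryTheory.Limits AlgebraicGeometry TopologicalSpace
namespace WDiv
end WDiv
open WDiv

namespace Groth.Agent.S10901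

/-- Let X be an integral Noetherian separated scheme which is regular in codimension 1 (the local ring
at every point of coheight 1 is a discrete valuation ring), and p : A^m_X → X the affine m-space
over X. Then pulling back along p is surjective on divisor classes: for every Weil divisor D' on
A^m_X (an integer-valued function on its points with finite support inside the points of coheight 1)
there are a Weil divisor D on X and a nonzero rational function g on A^m_X such that D'(y) = D(p(y))
+ ord_y(g) at every point y of A^m_X of coheight 1. -/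
theorem result (m : ℕ) (X : Scheme.{u}) [IsIntegral X]
    [IsNoetherian X] [X.IsSeparated] [IsLocallyNoetherian 𝔸(ULift.{u} (Fin m); X)]
    (hR1 : ∀ x : ↥X, Order.coheight x = 1 → IsDiscreteValuationRing ↑(X.presheaf.stalk x))
    (D' : ↥(𝔸(ULift.{u} (Fin m); X)) → ℤ) (hD' : ∀ y, Order.coheight y ≠ 1 → D' y = 0) (hfin : {y | D' y ≠ 0}.Finite) :
    ∃ (D : ↥X → ℤ) (g : ↑(𝔸(ULift.{u} (Fin m); X)).functionField), (∀ x, Order.coheight x ≠ 1 → D x = 0) ∧
      {x | D x ≠ 0}.Finite ∧ g ≠ 0 ∧
        ∀ y : ↥(𝔸(ULift.{u} (Fin m); X)), Order.coheight y = 1 → D' y = D ((𝔸(ULift.{u} (Fin m); X) ↘ X) y) + Scheme.ord g y := by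
  exact WDivProd3.pullback_affineSpace (ULift.{u} (Fin m)) D' hfin

end Groth.Agent.S10901
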