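import Groth.Statements.S10902
import Groth.Agent.Lib.OmegaRank13.Basic

set_option autoImplicit false
universe u
open TensorProduct
open SmVar

namespace Groth.Agent.S10902

/-- Let k be a field and A a k-algebra of finite type (X = Spec A a k-scheme of finite type), P a prime
ideal of A, and suppose P contains a prime q with dim A/q ≥ n, i.e. the point P lies on an
irreducible component of X of dimension at least n. Then the fibre at P of the sheaf of
differentials of X over k has dimension at least n over the residue field: dim_{κ(P)} (κ(P) ⊗_A
Ω_{A/k}) ≥ n. (The published statement asks every irreducible component of X to have dimension ≥ n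
and concludes this at every point.) -/
theorem result (k : Type u) [Field k]
    (A : Type u) [CommRing A] [Algebra k A] [Algebra.FiniteType k A] (n : ℕ)
    (P : Ideal A) [P.IsPrime] (q : Ideal A) [q.IsPrime] (hqP : q ≤ P)
    (hq : (n : WithBot ℕ∞) ≤ ringKrullDim (A ⧸ q)) :
    n ≤ Module.finrank P.ResidueField (P.ResidueField ⊗[A] (Ω[A⁄k])) := by
  exact OmegaRank13.main A n P q hqP hq

end Groth.Agent.S10902
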