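import Mathlib.RingTheory.MvPolynomial.Homogeneous
import Mathlib.RingTheory.Ideal.Height
import Mathlib.RingTheory.Polynomial.Basic
import Groth.Agent.Lib.CIUnmixed6.Basic

set_option autoImplicit false
universe u
namespace CInt
end CInt
open CInt

namespace Groth.Agent.S10903

/-- Let k be a field, S = k[x_0, …, x_n], and f_1, …, f_r with r ≤ n homogeneous polynomials of positive
degrees whose ideal J = (f_1, …, f_r) has height r — the subscheme of P^n_k cut out by the
hypersurfaces f_i = 0 has codimension r, an ideal-theoretic complete intersection. Then J is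
saturated with respect to the irrelevant ideal (x_0, …, x_n): an element g of S such that, for each
i, x_i^m g ∈ J for some m, already lies in J. Hence J is the full homogeneous ideal of that
subscheme (a global complete intersection). -/
theorem result (k : Type u) [Field k] (n r : ℕ)
    (hr : r ≤ n) (f : Fin r → MvPolynomial (Fin (n + 1)) k) (d : Fin r → ℕ)
    (hf : ∀ i, (f i).IsHomogeneous (d i)) (hd : ∀ i, 0 < d i)
    (hJ : (Ideal.span (Set.range f)).height = r) (g : MvPolynomial (Fin (n + 1)) k)
    (hg : ∀ i : Fin (n + 1), ∃ m : ℕ, MvPolynomial.X i ^ m * g ∈ Ideal.span (Set.range f)) :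
    g ∈ Ideal.span (Set.range f) := by
  exact Groth.Agent.CIUnmixed6.mem_of_saturated hr hf hd hJ g hg


end Groth.Agent.S10903
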