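import Groth.Statements.S10904
-- import your own Groth.Agent.* helpers here
import Groth.Agent.Lib.HilbDeg17

set_option autoImplicit false
universe u
open Polynomial
open ProjDeg

namespace Groth.Agent.S10904

/-- Let k be a field, R = k[X_0, …, X_n] graded by degree, I a homogeneous prime ideal of R, f a
homogeneous element of degree d ≥ 1 not in I, and I' = I + (f). Let P be the Hilbert polynomial of
R/I and Q that of R/I': rational polynomials whose value at every large integer m is the k-dimension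
of the degree-m piece, i.e. dim R_m − dim (I ∩ R_m). Assume P has degree at least 1, i.e. the
projective variety V(I) ⊆ P^n_k has dimension ≥ 1. Then Q has degree deg P − 1, and the degrees of
the projective schemes, (degree of the Hilbert polynomial)! times its leading coefficient, satisfy
deg V(I') = d · deg V(I). (The published statement has no dimension hypothesis; for V(I) a single
point the left side is 0 and the right side is d · deg V(I) ≠ 0, and the printed proof uses dim
V(I') = dim V(I) − 1.) -/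
theorem result (k : Type u) [Field k] (n : ℕ)
    (I : Ideal (MvPolynomial (Fin (n + 1)) k)) (hIh : I.IsHomogeneous (CohB1.polyGrading n k)) [I.IsPrime]
    (f : MvPolynomial (Fin (n + 1)) k) (d : ℕ) (hd : 0 < d) (hf : f.IsHomogeneous d) (hfI : f ∉ I)
    (P Q : ℚ[X])
    (hP : ∃ m₀ : ℕ, ∀ m : ℕ, m₀ ≤ m → P.eval (m : ℚ) =
      (Module.finrank k ↥(CohB1.polyGrading n k m) : ℚ) -
        Module.finrank k ↥(Submodule.restrictScalars k I ⊓ CohB1.polyGrading n k m))
    (hQ : ∃ m₀ : ℕ, ∀ m : ℕ, m₀ ≤ m → Q.eval (m : ℚ) =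
      (Module.finrank k ↥(CohB1.polyGrading n k m) : ℚ) -
        Module.finrank k ↥(Submodule.restrictScalars k (I ⊔ Ideal.span {f}) ⊓ CohB1.polyGrading n k m))
    (hdim : 1 ≤ P.natDegree) :
    Q.natDegree + 1 = P.natDegree ∧
      (Q.natDegree.factorial : ℚ) * Q.leadingCoeff =
        d * ((P.natDegree.factorial : ℚ) * P.leadingCoeff) := by
  obtain ⟨N₁, hN₁⟩ := hP
  obtain ⟨N₂, hN₂⟩ := hQ
  have hIs := Groth.Agent.HilbDeg17.isHomogeneous_std hIh
  have hfs : f ∈ GrSyz.stdGr k (Fin (n + 1)) ((d : ℕ) : ℤ) := (Groth.Agent.HilbDeg17.mem_stdGr_iff_mem d f).2 hf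
  have hcol : I.colon ({f} : Set (MvPolynomial (Fin (n + 1)) k)) = I := le_antisymm
    (fun a ha => ((inferInstance : I.IsPrime).mem_or_mem (Submodule.mem_colon_singleton.1 ha)).resolve_right hfI)
    fun a ha => Submodule.mem_colon_singleton.2 (I.mul_mem_right _ ha)
  have hQeq : Q = P - taylor (-(d : ℚ)) P := by
    refine Polynomial.eq_of_infinite_eval_eq _ _ (Set.infinite_of_injective_forall_mem
      (f := fun j : ℕ => ((j + N₁ + N₂ + d : ℕ) : ℚ)) (fun a b h => by simpa using h) fun j => ?_)
    show Q.eval _ = (P - taylor (-(d : ℚ)) P).eval _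
    have e := Groth.Agent.LiaisonH1.hfun_step hIs hfs (j + N₁ + N₂)
    rw [hcol] at e
    rw [eval_sub, taylor_eval, hN₂ _ (by omega), hN₁ _ (by omega),
      show ((j + N₁ + N₂ + d : ℕ) : ℚ) + -(d : ℚ) = ((j + N₁ + N₂ : ℕ) : ℚ) by push_cast; ring, hN₁ _ (by omega),
      ← Groth.Agent.HilbDeg17.hfun_eq, ← Groth.Agent.HilbDeg17.hfun_eq, ← Groth.Agent.HilbDeg17.hfun_eq, e]
    push_cast
    ring
  obtain ⟨D, hD⟩ : ∃ D, P.natDegree = D + 1 := ⟨P.natDegree - 1, by omega⟩
  have hlc : P.coeff (D + 1) = P.leadingCoeff := by rw [← hD]; rfl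
  have hcoeff : Q.coeff D = (d : ℚ) * ((D + 1 : ℕ) : ℚ) * P.leadingCoeff := by
    rw [hQeq, coeff_sub, taylor_coeff,
      eval_eq_sum_range' (n := 2) (by have := natDegree_hasseDeriv_le P D; omega),
      Finset.sum_range_succ, Finset.sum_range_one, hasseDeriv_coeff, hasseDeriv_coeff, zero_add,
      Nat.choose_self, add_comm 1 D, Nat.choose_succ_self_right, hlc]
    push_cast
    ring
  have hdQ : Q.natDegree = D := by
    have hne : Q.coeff D ≠ 0 := by
      rw [hcoeff]
      refine mul_ne_zero (mul_ne_zero (Nat.cast_ne_zero.2 (by omega)) (Nat.cast_ne_zero.2 (by omega))) ?_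
      exact leadingCoeff_ne_zero.2 fun h => by rw [h, natDegree_zero] at hD; omega
    refine natDegree_eq_of_le_of_coeff_ne_zero (natDegree_le_iff_coeff_eq_zero.2 fun m hm => ?_) hne
    rw [hQeq, coeff_sub]
    rcases (Nat.succ_le_of_lt hm).eq_or_lt with h | h
    · rw [← h, Nat.succ_eq_add_one, ← hD, coeff_taylor_natDegree]
      exact sub_self _
    · rw [coeff_eq_zero_of_natDegree_lt (p := P) (by omega),
        coeff_eq_zero_of_natDegree_lt (p := taylor _ P) (by rw [natDegree_taylor]; omega), sub_zero]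
  refine ⟨by omega, ?_⟩
  rw [leadingCoeff, hdQ, hcoeff, hD, Nat.factorial_succ]
  push_cast
  ring

end Groth.Agent.S10904
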