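import Groth.Statements.S10906
-- import your own Groth.Agent.* helpers here
import Groth.Agent.Lib.HilbDeg17

set_option autoImplicit false
universe u
open Polynomial
open ProjDeg

namespace Groth.Agent.S10906

/-- Let k be a field, R = k[X_0, …, X_n] graded by degree, I a homogeneous ideal with Hilbert polynomial
P (a rational polynomial with P(m) = dim_k R_m − dim_k (I ∩ R_m) for all large m), and p_1, …, p_r
the minimal prime ideals over I, listed without repetition, with Hilbert polynomials Q_i; put t =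
deg P. Defining the degree of V(J) as (degree of its Hilbert polynomial)! times the leading
coefficient and the multiplicity of the component V(p_i) in Y = V(I) as the length of (R/I)_{p_i}
over R_{p_i}, the degree of Y is the sum, over the components of top dimension (those i with deg Q_i
= t), of multiplicity times degree: deg Y = Σ_{deg Q_i = t} i(Y_i; Y) · deg V(p_i). -/
theorem result (k : Type u) [Field k] (n : ℕ)
    (I : Ideal (MvPolynomial (Fin (n + 1)) k)) (hIh : I.IsHomogeneous (CohB1.polyGrading n k))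
    (P : ℚ[X])
    (hP : ∃ m₀ : ℕ, ∀ m : ℕ, m₀ ≤ m → P.eval (m : ℚ) =
      (Module.finrank k ↥(CohB1.polyGrading n k m) : ℚ) -
        Module.finrank k ↥(Submodule.restrictScalars k I ⊓ CohB1.polyGrading n k m))
    (r : ℕ) (p : Fin r → Ideal (MvPolynomial (Fin (n + 1)) k)) [hp : ∀ i, (p i).IsPrime] (hpinj : Function.Injective p)
    (hpmin : ∀ q : Ideal (MvPolynomial (Fin (n + 1)) k), q ∈ I.minimalPrimes ↔ ∃ i, q = p i)
    (Qp : Fin r → ℚ[X])
    (hQp : ∀ i, ∃ m₀ : ℕ, ∀ m : ℕ, m₀ ≤ m → (Qp i).eval (m : ℚ) =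
      (Module.finrank k ↥(CohB1.polyGrading n k m) : ℚ) -
        Module.finrank k ↥(Submodule.restrictScalars k (p i) ⊓ CohB1.polyGrading n k m)) :
    (P.natDegree.factorial : ℚ) * P.leadingCoeff =
      ∑ i : Fin r, if (Qp i).natDegree = P.natDegree then
        ((Qp i).natDegree.factorial : ℚ) * (Qp i).leadingCoeff *
          (Module.length (Localization.AtPrime (p i))
            (LocalizedModule (p i).primeCompl (MvPolynomial (Fin (n + 1)) k ⧸ I))).toNat
      else 0 := by
  classical
  obtain ⟨N, hN⟩ := hP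
  have hIs := Groth.Agent.HilbDeg17.isHomogeneous_std hIh
  have hPf : ∀ j, N ≤ j → (Groth.Agent.LiaisonH1.hfun I j : ℚ) = P.eval (j : ℚ) := fun j hj => by
    rw [Groth.Agent.HilbDeg17.hfun_eq, hN j hj]
  have hQf : ∀ i, ∃ M, ∀ j, M ≤ j → (Groth.Agent.LiaisonH1.hfun (p i) j : ℚ) = (Qp i).eval (j : ℚ) := fun i => by
    obtain ⟨M, hM⟩ := hQp i
    exact ⟨M, fun j hj => by rw [Groth.Agent.HilbDeg17.hfun_eq, hM j hj]⟩
  have hIp : ∀ i, I ≤ p i := fun i => ((hpmin _).2 ⟨i, rfl⟩).1.2
  rcases eq_or_ne P 0 with hP0 | hP0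
  · rw [hP0, leadingCoeff_zero, mul_zero]
    symm
    refine Finset.sum_eq_zero fun i _ => ?_
    have hz : Qp i = 0 := by
      obtain ⟨M, hM⟩ := hQf i
      refine Polynomial.eq_of_infinite_eval_eq _ _ (Set.infinite_of_injective_forall_mem
        (f := fun j : ℕ => ((j + N + M : ℕ) : ℚ)) (fun a b h => by simpa using h) fun j => ?_)
      show (Qp i).eval _ = (0 : ℚ[X]).eval _
      rw [← hM _ (by omega), eval_zero, Nat.cast_eq_zero]
      have h0 : Groth.Agent.LiaisonH1.hfun I (j + N + M) = 0 := by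
        have h := hPf (j + N + M) (by omega)
        rw [hP0, eval_zero, Nat.cast_eq_zero] at h
        exact h
      exact Nat.le_zero.1 (h0 ▸ Groth.Agent.HilbDeg17.hfun_mono (hIp i) _)
    simp [hz]
  · have hdim := Groth.Agent.HilbDeg17.dim_eq hIs hP0 ⟨N, hPf⟩
    have hsum := Groth.Agent.HilbDeg17.coeff_eq_sum I hIs P.natDegree hdim.le P ⟨N, hPf⟩ r p hpinj hpmin Qp hQf
    rw [leadingCoeff, hsum, Finset.mul_sum]
    refine Finset.sum_congr rfl fun i _ => ?_
    have hle : (Qp i).natDegree ≤ P.natDegree := by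
      rcases eq_or_ne (Qp i) 0 with h0 | h0
      · simp [h0]
      have hi := Groth.Agent.HilbDeg17.dim_eq
        (Groth.Agent.HilbDeg17.isHomogeneous_minimalPrime hIs ((hpmin _).2 ⟨i, rfl⟩)) h0 (hQf i)
      have h := (Groth.Agent.LiaisonH1.dim_le_of_le (hIp i)).trans hdim.le
      rw [hi, Nat.cast_le] at h
      omega
    split_ifs with h
    · rw [← h, leadingCoeff, mul_assoc]
    · rw [coeff_eq_zero_of_natDegree_lt (lt_of_le_of_ne hle h), zero_mul, mul_zero]

end Groth.Agent.S10906
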