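import Groth.Statements.S10905
-- import your own Groth.Agent.* helpers here
import Groth.Agent.Lib.HilbDeg17
import Groth.Agent.S10904
import Groth.Agent.S10906

set_option autoImplicit false
universe u
open Polynomial
open ProjDeg

namespace Groth.Agent.S10905

/-- Let k be a field, R = k[X_0, …, X_n] graded by degree, I a homogeneous prime ideal whose Hilbert
polynomial P (a rational polynomial with P(m) = dim_k R_m − dim_k (I ∩ R_m) for all large m) has
degree ≥ 1, so that Y = V(I) is a projective variety of dimension ≥ 1; let f ∉ I be homogeneous of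
degree d ≥ 1, I' = I + (f), and p_1, …, p_r the minimal prime ideals over I' (listed without
repetition), with Hilbert polynomials Q_i. Define the degree of V(J) as (degree of its Hilbert
polynomial)! times the leading coefficient, and the intersection multiplicity of I and (f) at p_i as
the length of (R/I')_{p_i} over R_{p_i}. Then d · deg Y = Σ_i deg V(p_i) · i(I, (f); p_i). (The
published statement has no dimension hypothesis; for Y a single point the only minimal prime over I'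
is the irrelevant ideal, whose Hilbert polynomial is 0, so the right side vanishes while the left
side does not.) -/
theorem result (k : Type u) [Field k] (n : ℕ)
    (I : Ideal (MvPolynomial (Fin (n + 1)) k)) (hIh : I.IsHomogeneous (CohB1.polyGrading n k)) [I.IsPrime]
    (f : MvPolynomial (Fin (n + 1)) k) (d : ℕ) (hd : 0 < d) (hf : f.IsHomogeneous d) (hfI : f ∉ I)
    (P : ℚ[X])
    (hP : ∃ m₀ : ℕ, ∀ m : ℕ, m₀ ≤ m → P.eval (m : ℚ) =
      (Module.finrank k ↥(CohB1.polyGrading n k m) : ℚ) -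
        Module.finrank k ↥(Submodule.restrictScalars k I ⊓ CohB1.polyGrading n k m))
    (hdim : 1 ≤ P.natDegree)
    (r : ℕ) (p : Fin r → Ideal (MvPolynomial (Fin (n + 1)) k)) [hp : ∀ i, (p i).IsPrime] (hpinj : Function.Injective p)
    (hpmin : ∀ q : Ideal (MvPolynomial (Fin (n + 1)) k), q ∈ (I ⊔ Ideal.span {f}).minimalPrimes ↔ ∃ i, q = p i)
    (Qp : Fin r → ℚ[X])
    (hQp : ∀ i, ∃ m₀ : ℕ, ∀ m : ℕ, m₀ ≤ m → (Qp i).eval (m : ℚ) =
      (Module.finrank k ↥(CohB1.polyGrading n k m) : ℚ) -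
        Module.finrank k ↥(Submodule.restrictScalars k (p i) ⊓ CohB1.polyGrading n k m)) :
    (d : ℚ) * ((P.natDegree.factorial : ℚ) * P.leadingCoeff) =
      ∑ i : Fin r, ((Qp i).natDegree.factorial : ℚ) * (Qp i).leadingCoeff *
        (Module.length (Localization.AtPrime (p i))
          (LocalizedModule (p i).primeCompl (MvPolynomial (Fin (n + 1)) k ⧸ (I ⊔ Ideal.span {f})))).toNat := by
  classical
  have hIs := Groth.Agent.HilbDeg17.isHomogeneous_std hIh
  have hfs : f ∈ GrSyz.stdGr k (Fin (n + 1)) ((d : ℕ) : ℤ) := (Groth.Agent.HilbDeg17.mem_stdGr_iff_mem d f).2 hf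
  have hJh : (I ⊔ Ideal.span {f}).IsHomogeneous (CohB1.polyGrading n k) :=
    hIh.sup (Ideal.homogeneous_span _ _ fun x hx => ⟨d, by rw [Set.mem_singleton_iff.1 hx]; exact hf⟩)
  have hJs := Groth.Agent.LiaisonH1.isHomogeneous_sup_span hIs hfs
  have htop : ringKrullDim (MvPolynomial (Fin (n + 1)) k ⧸ (I ⊔ Ideal.span {f})) ≤ ((n + 1 : ℕ) : WithBot ℕ∞) := by
    refine (Groth.Agent.LiaisonH1.dim_le_of_le bot_le).trans ?_
    rw [ringKrullDim_eq_of_ringEquiv (RingEquiv.quotientBot _), MvPolynomial.ringKrullDim_of_isNoetherianRing,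
      ringKrullDim_eq_zero_of_field]
    simp
  obtain ⟨q, -, N, hN⟩ := Groth.Agent.LiaisonH1.polyLT_hfun _ hJs (n + 1) htop
  have hQ : ∃ m₀ : ℕ, ∀ m : ℕ, m₀ ≤ m → q.eval (m : ℚ) =
      (Module.finrank k ↥(CohB1.polyGrading n k m) : ℚ) -
        Module.finrank k ↥(Submodule.restrictScalars k (I ⊔ Ideal.span {f}) ⊓ CohB1.polyGrading n k m) :=
    ⟨N, fun m hm => by rw [← hN m hm, Groth.Agent.HilbDeg17.hfun_eq]⟩
  obtain ⟨hdeg, hlc⟩ := S10904.result k n I hIh f d hd hf hfI P q hP hQ hdim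
  have hq0 : q ≠ 0 := by
    intro h0
    rw [h0, leadingCoeff_zero, mul_zero] at hlc
    refine absurd hlc.symm (mul_ne_zero (Nat.cast_ne_zero.2 (by omega))
      (mul_ne_zero (Nat.cast_ne_zero.2 (Nat.factorial_ne_zero _)) ?_))
    exact leadingCoeff_ne_zero.2 fun h => by rw [h, natDegree_zero] at hdim; omega
  rw [← hlc, S10906.result k n _ hJh q hQ r p hpinj hpmin Qp hQp]
  refine Finset.sum_congr rfl fun i _ => if_pos ?_
  have hP0 : P ≠ 0 := fun h => by rw [h, natDegree_zero] at hdim; omega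
  have hQf : ∃ M, ∀ j, M ≤ j → (Groth.Agent.LiaisonH1.hfun (p i) j : ℚ) = (Qp i).eval (j : ℚ) := by
    obtain ⟨M, hM⟩ := hQp i
    exact ⟨M, fun j hj => by rw [Groth.Agent.HilbDeg17.hfun_eq, hM j hj]⟩
  have hmem := (hpmin _).2 ⟨i, rfl⟩
  have hih := Groth.Agent.HilbDeg17.isHomogeneous_minimalPrime hJs hmem
  have hdI := Groth.Agent.HilbDeg17.dim_eq hIs hP0 (by
    obtain ⟨M, hM⟩ := hP
    exact ⟨M, fun j hj => by rw [Groth.Agent.HilbDeg17.hfun_eq, hM j hj]⟩)
  have hdJ := Groth.Agent.HilbDeg17.dim_eq hJs hq0 ⟨N, hN⟩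
  have hlow := Groth.Agent.HilbDeg17.dim_le_add_one (Q := I) f hmem
  rw [hdI] at hlow
  have hge : ((P.natDegree : ℕ) : WithBot ℕ∞) ≤ ringKrullDim (MvPolynomial (Fin (n + 1)) k ⧸ p i) := by
    refine Groth.Agent.DepthLib.withBot_add_coe_cancel 1 ?_
    refine le_trans (le_of_eq ?_) (hlow.trans (le_of_eq ?_)) <;> push_cast <;> rfl
  have hne : Qp i ≠ 0 := fun h0 => by
    obtain ⟨M, hM⟩ := hQf
    refine Groth.Agent.HilbDeg17.not_polyLT_hfun 0 (p i) (hp i) hih ?_ ⟨0, zero_mem _, M, fun j hj => ?_⟩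
    · exact le_trans (by exact_mod_cast (show 0 + 1 ≤ P.natDegree by omega)) hge
    · rw [hM j hj, h0]
  have hdp := Groth.Agent.HilbDeg17.dim_eq hih hne hQf
  have h1 := (Groth.Agent.LiaisonH1.dim_le_of_le hmem.1.2).trans hdJ.le
  rw [hdp] at hge h1
  rw [Nat.cast_le] at hge h1
  omega

end Groth.Agent.S10905
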