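import Groth.Statements.S10908
-- import your own Groth.Agent.* helpers here
import Groth.Agent.Lib.Twist.Global

set_option autoImplicit false
universe u
open ProjDeg

namespace Groth.Agent.S10908

/-- Let S be a Noetherian graded integral domain, graded by the natural numbers as an algebra over a
ring R, generated by its degree-one part over S_0 (S_1 S_i = S_{i+1}) with S_1 ≠ 0, and integrally
closed in its field of fractions (so that X = Proj S is projectively normal). Then for every d ≥ 0
the canonical map from S_d to the global sections of the twisting sheaf O_X(d), sending a to the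
section a/1, is bijective. (The underlying lemma: every global section of O_X(d) is an element of
the homogeneous fraction ring integral over S.) (The published corollary takes the degree-zero part
to be a finitely generated algebra over a field; this row assumes only that the ring is Noetherian,
which is all the argument uses.) -/
theorem result {R A : Type u} [CommRing R] [CommRing A] [IsDomain A]
    [IsNoetherianRing A] [Algebra R A] (𝒜 : ℕ → Submodule R A) [GradedAlgebra 𝒜]
    (hgen : ∀ i : ℕ, 𝒜 1 * 𝒜 i = 𝒜 (i + 1)) (h1 : 𝒜 1 ≠ ⊥) (hint : IsIntegrallyClosed A) (d : ℕ) :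
    Function.Bijective (fun a : ↥(𝒜 d) => Twist.globalOf 𝒜 a) := by
  classical
  have hB1 : Submodule.span A (𝒜 1 : Set A) ≠ ⊥ := fun h => h1 (by
    rw [eq_bot_iff]; exact fun y hy => (Submodule.mem_bot A).1 (h ▸ Submodule.subset_span hy))
  obtain ⟨F, hFsub, hFspan⟩ :=
    (Submodule.fg_span_iff_fg_span_finset_subset (R := A) (𝒜 1 : Set A)).1 (IsNoetherian.noetherian _)
  let T : Finset A := F.filter (· ≠ 0)
  let f : ↥T → A := fun i => i.1
  have hf : ∀ i, f i ∈ 𝒜 1 := fun i => hFsub (Finset.mem_filter.1 i.2).1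
  have hnzd : ∀ i, f i ∈ nonZeroDivisors A := fun i => mem_nonZeroDivisors_of_ne_zero (Finset.mem_filter.1 i.2).2
  have hspanF : ∀ y ∈ 𝒜 1, y ∈ Ideal.span (Set.range f) := fun y hy => by
    have : Submodule.span A (𝒜 1 : Set A) ≤ Ideal.span (Set.range f) := by
      rw [hFspan, Submodule.span_le]
      intro z hz
      rcases eq_or_ne z 0 with rfl | hz0
      · exact Submodule.zero_mem _
      · exact Ideal.subset_span ⟨⟨z, Finset.mem_filter.2 ⟨hz, hz0⟩⟩, rfl⟩
    exact this (Submodule.subset_span hy)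
  have hpos : ∀ i, ∀ y ∈ 𝒜 (i + 1), y ∈ Ideal.span (Set.range f) := fun i y hy => by
    rw [← hgen i] at hy
    refine Submodule.mul_induction_on hy (fun a ha b hb => Ideal.mul_mem_right _ _ (hspanF a ha))
      fun a b ha hb => Ideal.add_mem _ ha hb
  have hcov : ∀ x : ProjectiveSpectrum 𝒜, ∃ i, f i ∉ x.asHomogeneousIdeal := fun x => by
    by_contra hcon
    push Not at hcon
    refine x.not_irrelevant_le ((HomogeneousIdeal.irrelevant_le 𝒜).2 fun i hi y hy => ?_)
    obtain ⟨i, rfl⟩ : ∃ i', i = i' + 1 := ⟨i - 1, by omega⟩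
    exact (Ideal.span_le.2 (by rintro _ ⟨j, rfl⟩; exact hcon j) :
      Ideal.span (Set.range f) ≤ x.asHomogeneousIdeal.toIdeal) (hpos i y hy)
  have hpow : ∀ (i : ↥T) (p : ℕ), f i ^ p ∈ 𝒜 p := fun i p => by simpa using SetLike.pow_mem_graded p (hf i)
  -- `I_N := (𝒜 N)`, stable under homogeneous elements
  have hIpow : ∀ N, ∀ y ∈ 𝒜 N, y ∈ Ideal.span (Set.range f) ^ N := fun N => by
    induction N with
    | zero => intro y _; rw [pow_zero, Ideal.one_eq_top]; trivial
    | succ N ih =>
      intro y hy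
      rw [← hgen N] at hy
      rw [pow_succ']
      exact Submodule.mul_induction_on hy (fun a ha b hb => Ideal.mul_mem_mul (hspanF a ha) (ih b hb))
        fun a b ha hb => Ideal.add_mem _ ha hb
  have hdown : ∀ N e, ∀ y ∈ 𝒜 (N + e), y ∈ Ideal.span (𝒜 N : Set A) := fun N e => by
    induction e with
    | zero => intro y hy; exact Ideal.subset_span hy
    | succ e ih =>
      intro y hy
      rw [← add_assoc, ← hgen] at hy
      exact Submodule.mul_induction_on hy (fun a ha b hb => Ideal.mul_mem_left _ _ (ih b hb))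
        fun a b ha hb => Ideal.add_mem _ ha hb
  -- division with homogeneous numerator and denominator
  have hdivh : ∀ (i : ↥T) (p e : ℕ) (y : A), f i ^ p * y ∈ 𝒜 (p + e) → y ∈ 𝒜 e := fun i p e y h => by
    have e1 : f i ^ p * y = f i ^ p * (DirectSum.decompose 𝒜 y e : A) := by
      conv_lhs => rw [← DirectSum.decompose_of_mem_same 𝒜 h]
      rw [DirectSum.coe_decompose_mul_of_left_mem 𝒜 _ (hpow i p), if_pos (by omega), Nat.add_sub_cancel_left]
    rw [(mul_cancel_left_mem_nonZeroDivisors (pow_mem (hnzd i) p)).1 e1]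
    exact SetLike.coe_mem _
  obtain ⟨i₀⟩ : Nonempty ↥T := by
    by_contra hemp
    refine hB1 (eq_bot_iff.2 ?_)
    rw [hFspan, Submodule.span_le]
    intro z hz
    by_contra hz0
    exact hemp ⟨⟨z, Finset.mem_filter.2 ⟨hz, hz0⟩⟩⟩
  constructor
  · intro a b hab
    refine Subtype.ext ?_
    have h1 := Groth.Agent.Twist.mul_pow_eq_of_eq_frac 𝒜 f hf hnzd (i := i₀) (j := i₀) (k := 0) (l := 0) a.2 b.2 rfl
      fun x hi hj hxi _ => by
        simp only [pow_zero]
        exact congrArg (fun s => Groth.Agent.Twist.val (n := (d : ℤ)) (U := ⊤) s x trivial) hab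
    simpa using h1
  intro s
  choose di k a ha hd hval using fun i => Groth.Agent.Twist.exists_eq_frac 𝒜 (hf i)
    (Twist.resN (d : ℤ) (CategoryTheory.homOfLE (le_top : AlgebraicGeometry.Proj.basicOpen 𝒜 (f i) ≤ ⊤)).op s)
  have hglue : ∀ i j, f j ^ k j * a i = f i ^ k i * a j := fun i j => by
    refine Groth.Agent.Twist.mul_pow_eq_of_eq_frac 𝒜 f hf hnzd (ha i) (ha j)
      (by have := hd i; have := hd j; omega) fun x hi hj hxi hxj => ?_
    obtain ⟨_, e1⟩ := hval i x hxi
    obtain ⟨_, e2⟩ := hval j x hxj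
    exact e1.symm.trans e2
  -- the ideal of denominators
  let J : Ideal A := Submodule.comap (LinearMap.mulLeft A (a i₀)) (Ideal.span {f i₀ ^ k i₀})
  have hJ : ∀ y, y ∈ J ↔ f i₀ ^ k i₀ ∣ a i₀ * y := fun y => Ideal.mem_span_singleton
  obtain ⟨N, hN⟩ := Ideal.exists_pow_le_of_le_radical_of_fg (I := Ideal.span (Set.range f)) (J := J)
    (Ideal.span_le.2 (by
      rintro _ ⟨i, rfl⟩
      exact ⟨k i, (hJ _).2 ⟨a i, by rw [mul_comm, hglue i₀ i]⟩⟩)) (IsNoetherian.noetherian _)
  let K := FractionRing A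
  let φ := algebraMap A K
  have hφ : Function.Injective φ := IsFractionRing.injective A K
  have hf0 : φ (f i₀ ^ k i₀) ≠ 0 := fun h => nonZeroDivisors.ne_zero (pow_mem (hnzd i₀) _) (hφ (h.trans (map_zero φ).symm))
  let q : K := φ (a i₀) / φ (f i₀ ^ k i₀)
  let M : Submodule A K := Submodule.map (Algebra.linearMap A K) (Ideal.span (𝒜 N : Set A))
  have hqint : IsIntegral A q := by
    refine isIntegral_of_smul_mem_submodule M (fun hbot => ?_) ((IsNoetherian.noetherian _).map _) q ?_
    · have hm : φ (f i₀ ^ N) ∈ M := ⟨_, Ideal.subset_span (hpow i₀ N), rfl⟩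
      rw [hbot, Submodule.mem_bot, ← map_zero φ] at hm
      exact nonZeroDivisors.ne_zero (pow_mem (hnzd i₀) N) (hφ hm)
    · rintro _ ⟨y, hy, rfl⟩
      induction hy using Submodule.span_induction with
      | mem y hy =>
        obtain ⟨b, hb⟩ := (hJ y).1 (hN (hIpow N y hy))
        refine ⟨b, ?_, ?_⟩
        · have hb' : b ∈ 𝒜 (N + d) := hdivh i₀ (k i₀) (N + d) b (by
            rw [← hb, show k i₀ + (N + d) = di i₀ + N by have := hd i₀; omega]
            exact SetLike.mul_mem_graded (ha i₀) hy)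
          exact hdown N d b hb'
        · show φ b = q * φ y
          rw [div_mul_eq_mul_div, eq_div_iff hf0, ← map_mul, ← map_mul, hb, mul_comm]
      | zero => rw [map_zero, smul_zero]; exact M.zero_mem
      | add x y _ _ hx hy => rw [map_add, smul_add]; exact M.add_mem hx hy
      | smul c x _ hx => rw [map_smul, smul_comm]; exact M.smul_mem c hx
  obtain ⟨q₀, hq₀⟩ := IsIntegrallyClosed.isIntegral_iff.1 hqint
  have hq : a i₀ = f i₀ ^ k i₀ * q₀ := hφ (by
    rw [map_mul]
    show φ (a i₀) = φ (f i₀ ^ k i₀) * algebraMap A K q₀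
    rw [hq₀, mul_div_cancel₀ _ hf0])
  have hqd : q₀ ∈ 𝒜 d := hdivh i₀ (k i₀) d q₀ (by
    rw [← hq, show k i₀ + d = di i₀ by have := hd i₀; omega]; exact ha i₀)
  refine ⟨⟨q₀, hqd⟩, Groth.Agent.Twist.sec_ext fun x hx => ?_⟩
  obtain ⟨i, hi⟩ := hcov x
  obtain ⟨hx', e⟩ := hval i x hi
  refine (Groth.Agent.Twist.val_globalOf 𝒜 _ x hx fun h => x.isPrime.ne_top ((Ideal.eq_top_iff_one _).mpr h)).trans
    (((show Groth.Agent.Twist.val s x hx = _ from e).trans ((Groth.Agent.Twist.mk_eq_iff 𝒜 _ _).2 ⟨1, ?_, ?_⟩)).symm)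
  · exact fun h => x.isPrime.ne_top ((Ideal.eq_top_iff_one _).mpr h)
  · show 1 * (1 * a i) = 1 * (f i ^ k i * q₀)
    rw [one_mul, one_mul, one_mul]
    refine (mul_cancel_left_mem_nonZeroDivisors (pow_mem (hnzd i₀) (k i₀))).1 ?_
    rw [hglue i i₀, hq]; ring

end Groth.Agent.S10908
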