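import Groth.Statements.S10909
import Groth.Agent.Lib.OmegaRank13.Regular

set_option autoImplicit false
universe u
open TensorProduct
open SmVar

namespace Groth.Agent.S10909

/-- Let k be an algebraically closed field and A a k-algebra of finite type with irreducible spectrum
(the nilradical of A is prime) and Krull dimension n; X = Spec A is then an irreducible separated
k-scheme of finite type of dimension n. Then X is a nonsingular variety — A is reduced and every
localization of A at a prime is a regular local ring — if and only if the module of Kähler
differentials Ω_{A/k} is locally free of rank n: projective, with fibre κ(P) ⊗_A Ω_{A/k} of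
dimension n at every prime P. -/
theorem result (k : Type u) [Field k]
    [IsAlgClosed k] (A : Type u) [CommRing A] [Algebra k A] [Algebra.FiniteType k A]
    (hirr : (nilradical A).IsPrime) (n : ℕ) (hn : ringKrullDim A = n) :
    (IsReduced A ∧ IsRegularRing A) ↔
      (Module.Projective A (Ω[A⁄k]) ∧
        ∀ (P : Ideal A) [P.IsPrime],
          Module.finrank P.ResidueField (P.ResidueField ⊗[A] Ω[A⁄k]) = n) := by
  exact OmegaRank13.regular_iff k A hirr n hn

end Groth.Agent.S10909
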