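import Groth.Statements.S1091
import Groth.Agent.Lib.FilT.Horseshoe

set_option autoImplicit false
universe v u
open CategoryTheory CategoryTheory.Limits Opposite
open FilD

namespace Groth.Agent.S1091


/-- Let A be an abelian category with enough injectives and S = (X ⟶ Y ⟶ Z) a short complex of finite
filtered objects which is short exact at every filtration level (a short exact sequence of
Fil^f(A)). Given filtered quasi-isomorphisms X[0] ⟶ I and Z[0] ⟶ J into complexes of filtered
injective objects vanishing in negative degrees, there are a complex M, morphisms I ⟶ M ⟶ J which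
are termwise split short exact (each Mⁿ is the direct sum of Iⁿ and Jⁿ via these maps), and a
morphism Y[0] ⟶ M making the two squares commute. -/
theorem result {A : Type u} [Category.{v} A] [Abelian A] [EnoughInjectives A] (S : ShortComplex (FilD.FilF A))
    (hS : ∀ p : ℤ, (S.map ((FilD.IsFinFil A).ι ⋙ (evaluation ℤᵒᵖ A).obj (op p))).ShortExact)
    (I : CochainComplex (FilD.FilF A) ℤ) [I.IsStrictlyGE 0] (hI : ∀ n, FilD.IsFilteredInjective (I.X n))
    (a : (CochainComplex.singleFunctor (FilD.FilF A) 0).obj S.X₁ ⟶ I) (ha : FilD.IsFilteredQuasiIso a)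
    (J : CochainComplex (FilD.FilF A) ℤ) [J.IsStrictlyGE 0] (hJ : ∀ n, FilD.IsFilteredInjective (J.X n))
    (c : (CochainComplex.singleFunctor (FilD.FilF A) 0).obj S.X₃ ⟶ J) (hc : FilD.IsFilteredQuasiIso c) :
    ∃ (M : CochainComplex (FilD.FilF A) ℤ) (α : I ⟶ M) (β : M ⟶ J) (b : (CochainComplex.singleFunctor (FilD.FilF A) 0).obj S.X₂ ⟶ M),
      (∀ n, ∃ (r : M.X n ⟶ I.X n) (s : J.X n ⟶ M.X n), α.f n ≫ r = 𝟙 _ ∧ s ≫ β.f n = 𝟙 _ ∧ α.f n ≫ β.f n = 0 ∧
        r ≫ α.f n + β.f n ≫ s = 𝟙 _) ∧
      a ≫ α = (CochainComplex.singleFunctor (FilD.FilF A) 0).map S.f ≫ b ∧ b ≫ β = (CochainComplex.singleFunctor (FilD.FilF A) 0).map S.g ≫ c := by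
  exact Groth.Agent.FilT.exists_horseshoe S hS I hI a J c hc


end Groth.Agent.S1091
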