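import Groth.Statements.S10910
import Groth.Agent.Lib.OmegaRank13.Regular
import Groth.Agent.Lib.SmoothReg17.Basic

set_option autoImplicit false
universe u
open TensorProduct
open SmVar

namespace Groth.Agent.S10910

/-- Let k be an algebraically closed field, A a k-algebra of finite type which is an integral domain all
of whose localizations at primes are regular (X = Spec A is a nonsingular affine variety), and B an
A-algebra with surjective structure map A → B whose nilradical is prime (Y = Spec B is an
irreducible closed subscheme of X, with ideal I = ker(A → B)). Then every localization of B is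
regular (Y is nonsingular) if and only if (i) Ω_{B/k} is a projective B-module (locally free) and
(ii) the conormal map I/I² → B ⊗_A Ω_{A/k}, class of x ↦ 1 ⊗ dx, is injective, i.e. the conormal
sequence 0 → I/I² → B ⊗_A Ω_{A/k} → Ω_{B/k} → 0 is exact on the left as well. -/
theorem result (k : Type u) [Field k]
    [IsAlgClosed k] (A B : Type u) [CommRing A] [CommRing B] [Algebra k A] [Algebra.FiniteType k A]
    [IsDomain A] [IsRegularRing A] [Algebra A B] [Algebra k B] [IsScalarTower k A B]
    (hsurj : Function.Surjective (algebraMap A B)) (hirr : (nilradical B).IsPrime) :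
    IsRegularRing B ↔
      (Module.Projective B (Ω[B⁄k]) ∧
        Function.Injective (KaehlerDifferential.kerCotangentToTensor k A B)) := by
  haveI : IsNoetherianRing A := Algebra.FiniteType.isNoetherianRing k A
  haveI : Algebra.FiniteType k B :=
    Algebra.FiniteType.of_surjective (IsScalarTower.toAlgHom k A B) hsurj
  haveI : IsNoetherianRing B := Algebra.FiniteType.isNoetherianRing k B
  haveI : Algebra.FinitePresentation k A := Algebra.FinitePresentation.of_finiteType.mp ‹_›
  haveI : Algebra.FinitePresentation k B := Algebra.FinitePresentation.of_finiteType.mp ‹_›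
  have hsm : ∀ (C : Type u) [CommRing C] [Algebra k C] [Algebra.FiniteType k C] [IsRegularRing C],
      Algebra.FinitePresentation k C → Algebra.FormallySmooth k C := fun C _ _ _ _ hfp => by
    haveI := hfp
    refine Algebra.smoothLocus_eq_univ_iff.mp (Set.eq_univ_iff_forall.mpr fun q => ?_)
    haveI := IsRegularRing.isRegularLocalRing_localization (R := C) q.asIdeal
    haveI : Algebra.EssFiniteType k q.asIdeal.ResidueField := .comp k C _
    exact Groth.Agent.RegSmooth17.isSmoothAt_of_isRegularLocalRing k C q.asIdeal
  haveI : Algebra.FormallySmooth k A := hsm A inferInstance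
  constructor
  · intro hreg
    haveI : Algebra.FormallySmooth k B := hsm B inferInstance
    exact ⟨inferInstance, (Algebra.FormallySmooth.kerCotangentToTensor_injective_iff hsurj).mpr inferInstance⟩
  · rintro ⟨hP, hinj⟩
    haveI := hP
    haveI := (Algebra.FormallySmooth.kerCotangentToTensor_injective_iff hsurj).mp hinj
    haveI : Algebra.FormallySmooth k B := ⟨inferInstance, inferInstance⟩
    haveI : Algebra.Smooth k B := ⟨inferInstance, inferInstance⟩
    exact isRegularRing_iff.mpr fun q _ =>
      Groth.Agent.SmoothReg17.isRegularLocalRing_of_smooth (algebraMap k B)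
        (RingHom.smooth_algebraMap.mpr ‹_›) q

end Groth.Agent.S10910
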