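import Groth.Statements.S10913
-- import your own Groth.Agent.* helpers here
import Groth.Agent.Lib.ProjConst17

set_option autoImplicit false
universe u
open CategoryTheory CategoryTheory.Limits AlgebraicGeometry TopologicalSpace
open ProjDeg

namespace Groth.Agent.S10913

/-- Let k be a field and m < n natural numbers. Then every morphism of k-schemes from projective n-space
to projective m-space over k is constant: it factors through the structure morphism P^n_k → Spec k
followed by a k-rational point of P^m_k. -/
theorem result (k : Type u) [Field k] (n m : ℕ) (hmn : m < n)
    (f : CohB1.ProjSpace n k ⟶ CohB1.ProjSpace m k)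
    (hf : f ≫ CohB1.ProjSpace.toSpec m k = CohB1.ProjSpace.toSpec n k) :
    ∃ q : Spec (CommRingCat.of k) ⟶ CohB1.ProjSpace m k, f = CohB1.ProjSpace.toSpec n k ≫ q := by
  exact Groth.Agent.ProjConst17.exists_eq_toSpec_comp hmn f

end Groth.Agent.S10913
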