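import Groth.Statements.S10914
-- import your own Groth.Agent.* helpers here
import Groth.Agent.Lib.VarDim.Irred

set_option autoImplicit false
universe u
open CategoryTheory CategoryTheory.Limits AlgebraicGeometry TopologicalSpace
open ProjDeg

namespace Groth.Agent.S10914

/-- Let k be a field, X and Y reduced schemes proper over k and f : X → Y a k-morphism with (i) f
surjective, (ii) every fibre X_y over a closed point y irreducible, (iii) all these fibres of the
same dimension m, and (iv) Y irreducible. Then X is irreducible and dim X = dim Y + m. (The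
published statement takes X, Y projective over k and f projective; its proof uses only that f is a
closed map and upper semicontinuity of fibre dimension, i.e. properness.) -/
theorem result (k : Type u) [Field k] {X Y : Scheme.{u}}
    (pX : X ⟶ Spec (CommRingCat.of k)) (pY : Y ⟶ Spec (CommRingCat.of k)) [IsProper pX] [IsProper pY]
    [IsReduced X] [IsReduced Y] (f : X ⟶ Y) (hf : f ≫ pY = pX) (hsurj : Function.Surjective f)
    [IrreducibleSpace ↥Y] (m : ℕ)
    (hirr : ∀ y : ↥Y, IsClosed ({y} : Set ↥Y) → IrreducibleSpace ↥(f.fiber y))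
    (hdim : ∀ y : ↥Y, IsClosed ({y} : Set ↥Y) → topologicalKrullDim ↥(f.fiber y) = m) :
    IrreducibleSpace ↥X ∧ topologicalKrullDim ↥X = topologicalKrullDim ↥Y + m := by
  subst hf
  haveI : IsProper f := IsProper.of_comp f pY
  haveI := LocallyOfFiniteType.isLocallyNoetherian pY
  have hirr' : ∀ y : ↥Y, IsClosed ({y} : Set ↥Y) → IsIrreducible (f.base ⁻¹' {y}) := fun y hy => by
    haveI := hirr y hy
    have h := (IrreducibleSpace.isIrreducible_univ ↥(f.fiber y)).image (f.fiberι y) (f.fiberι y).continuous.continuousOn
    rw [Set.image_univ, f.range_fiberι] at h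
    exact h
  have hdim' : ∀ y : ↥Y, IsClosed ({y} : Set ↥Y) → topologicalKrullDim ↥(f.base ⁻¹' {y}) = m := fun y hy =>
    (IsHomeomorph.topologicalKrullDim_eq _ (f.fiberHomeo y).isHomeomorph).symm.trans (hdim y hy)
  obtain ⟨g₀, hg₀η, hg₀max, -⟩ := Groth.Agent.VarDim.exists_unique_dominant pY f m hirr' hdim'
  obtain ⟨h1, h2⟩ := Groth.Agent.VarDim.component_data pY f m hirr' hdim' g₀ hg₀max
  haveI : JacobsonSpace X := LocallyOfFiniteType.jacobsonSpace (f ≫ pY)
  have hall : closure ({g₀} : Set X) = Set.univ := by
    refine Set.eq_univ_of_forall fun x => ?_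
    have hcl : closedPoints X ⊆ closure ({g₀} : Set X) := fun x (hx : IsClosed ({x} : Set X)) => by
      have hy : IsClosed ({f x} : Set Y) := by
        rw [← Set.image_singleton]; exact f.isClosedMap _ hx
      have hxy : f x ∈ f.base '' closure {g₀} := by
        have hc : closure ({genericPoint ↥Y} : Set Y) ⊆ f.base '' closure {g₀} :=
          closure_minimal (Set.singleton_subset_iff.2 ⟨g₀, subset_closure rfl, hg₀η⟩)
            (f.isClosedMap _ isClosed_closure)
        exact hc ((genericPoint_spec ↥Y).symm ▸ trivial)
      obtain ⟨x', hx', hfx'⟩ := hxy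
      exact specializes_iff_mem_closure.mp
        (h2 (f x) hy x' hfx' (specializes_iff_mem_closure.mpr hx') x rfl)
    have hd : closure (closedPoints X) = Set.univ := closure_closedPoints
    exact closure_minimal hcl isClosed_closure (hd.symm ▸ trivial)
  haveI hX : IrreducibleSpace ↥X := (irreducibleSpace_def _).mpr (show IsIrreducible (Set.univ : Set ↥X) from hall ▸ isIrreducible_singleton.closure)
  refine ⟨hX, ?_⟩
  have hg : genericPoint X = g₀ := hg₀max _ (genericPoint_specializes g₀)
  rw [Groth.Agent.VarDim.dim_eq_sdim_genericPoint (f ≫ pY), hg, h1, hg₀η,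
    Groth.Agent.VarDim.dim_eq_sdim_genericPoint pY, add_comm]
  push_cast
  rfl

end Groth.Agent.S10914
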