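import Groth.Prelude.Def_CohB1
import Mathlib.AlgebraicGeometry.OrderOfVanishing
import Mathlib.RingTheory.MvPolynomial.Homogeneous
import Mathlib.RingTheory.DiscreteValuationRing.Basic
import Groth.Agent.Lib.WDivProd3.AffineSpace
import Groth.Agent.Lib.WDivProd3.ProjSpace
-- import your own Groth.Agent.* helpers here

set_option autoImplicit false
set_option linter.style.haveILetI false
universe u
open CategoryTheory CategoryTheory.Limits AlgebraicGeometry TopologicalSpace
namespace WDiv
end WDiv
open WDiv

namespace Groth.Agent.S10917

/-- Let A be a Noetherian integral domain regular in codimension 1, P = P^n_A with structure morphism q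
: P → Spec A, and H the point of P whose homogeneous prime ideal is generated by X_0 (so n ≥ 1). If
for an integer d and a Weil divisor D on Spec A (integer-valued function with finite support inside
the coheight-1 points) the divisor d·H + q^*D is principal on P — there is a nonzero rational
function g on P with ord_H(g) = d + D(q H) and ord_y(g) = D(q y) for every point y ≠ H of coheight 1
— then d = 0 and D is itself the divisor of a nonzero element of the fraction field of A: ord_x(f) =
D(x) at every coheight-1 point x of Spec A. -/
theorem result (A : Type u) [CommRing A] [IsDomain A]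
    [IsNoetherianRing A] (n : ℕ) (hn : 1 ≤ n) [IsIntegral (CohB1.ProjSpace n A)] [IsLocallyNoetherian (CohB1.ProjSpace n A)]
    [IsIntegral (Spec (CommRingCat.of A))]
    (hR1 : ∀ x : ↥(Spec (CommRingCat.of A)), Order.coheight x = 1 →
      IsDiscreteValuationRing ↑((Spec (CommRingCat.of A)).presheaf.stalk x))
    (H : ↥(CohB1.ProjSpace n A))
    (hH : H.asHomogeneousIdeal.toIdeal = Ideal.span {(MvPolynomial.X 0 : MvPolynomial (Fin (n + 1)) A)})
    (d : ℤ) (D : ↥(Spec (CommRingCat.of A)) → ℤ) (hD : ∀ x, Order.coheight x ≠ 1 → D x = 0) (hfin : {x | D x ≠ 0}.Finite)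
    (g : ↑(CohB1.ProjSpace n A).functionField) (hg : g ≠ 0)
    (hH' : Scheme.ord g H = d + D (CohB1.ProjSpace.toSpec n A H))
    (h : ∀ y, y ≠ H → Order.coheight y = 1 → Scheme.ord g y = D (CohB1.ProjSpace.toSpec n A y)) :
    d = 0 ∧ ∃ f : ↑(Spec (CommRingCat.of A)).functionField, f ≠ 0 ∧
      ∀ x : ↥(Spec (CommRingCat.of A)), Order.coheight x = 1 → Scheme.ord f x = D x := by
  obtain ⟨c, he, hj⟩ := WDivProd3.exists_chart0 (n := n) (A := A)
  exact WDivProd3.principal hj hH hR1 he hn d D hD g hg hH' h

end Groth.Agent.S10917
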