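import Mathlib.RingTheory.MvPolynomial.Homogeneous
import Mathlib.RingTheory.Ideal.Height
import Mathlib.RingTheory.IntegralClosure.IntegrallyClosed
import Mathlib.RingTheory.Localization.AtPrime.Basic
import Mathlib.RingTheory.Ideal.Quotient.Basic
import Groth.Agent.Lib.CIUnmixed6.Basic

set_option autoImplicit false
universe u
namespace CInt
end CInt
open CInt

namespace Groth.Agent.S10918

/-- Let k be a field, S = k[x_0, …, x_n], and f_1, …, f_r with r < n homogeneous polynomials of positive
degrees whose ideal J has height r, so that Y = V_+(J) ⊆ P^n_k is a global complete intersection of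
dimension n − r ≥ 1 with homogeneous coordinate ring S' = S/J. Suppose Y is normal, expressed on the
affine cone: for every prime ideal Q of S' not containing all the classes of the x_i (every point of
the cone Spec S' other than the vertex), the localization S'_Q is an integrally closed domain. Then
S' is an integrally closed domain, i.e. Y is projectively normal. -/
theorem result
    (k : Type u) [Field k] (n r : ℕ) (hr : r < n) (f : Fin r → MvPolynomial (Fin (n + 1)) k) (d : Fin r → ℕ)
    (hf : ∀ i, (f i).IsHomogeneous (d i)) (hd : ∀ i, 0 < d i)
    (hJ : (Ideal.span (Set.range f)).height = r)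
    (hnorm : ∀ (Q : Ideal (MvPolynomial (Fin (n + 1)) k ⧸ Ideal.span (Set.range f))) [Q.IsPrime],
      (∃ i, Ideal.Quotient.mk (Ideal.span (Set.range f)) (MvPolynomial.X i) ∉ Q) →
        IsDomain (Localization.AtPrime Q) ∧ IsIntegrallyClosed (Localization.AtPrime Q)) :
    IsDomain (MvPolynomial (Fin (n + 1)) k ⧸ Ideal.span (Set.range f)) ∧
      IsIntegrallyClosed (MvPolynomial (Fin (n + 1)) k ⧸ Ideal.span (Set.range f)) := by
  exact Groth.Agent.CIUnmixed6.isDomain_and_isIntegrallyClosed hr hf hd hJ hnorm


end Groth.Agent.S10918
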