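import Groth.Statements.S10919
import Groth.Agent.Lib.Curve17.ProjSep
-- import your own Groth.Agent.* helpers here

set_option autoImplicit false
universe u
open CategoryTheory CategoryTheory.Limits AlgebraicGeometry TopologicalSpace
open ProjDeg

namespace Groth.Agent.S10919

/-- Let k be an algebraically closed field, X a projective variety over k (an integral k-scheme
admitting a closed immersion over k into some projective space) and f : X → P^n_k a morphism over k.
Write L = f^*O(1), s_i = f^*(T_i) ∈ Γ(X, L) for the pulled-back homogeneous coordinates, and V for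
the k-linear span of the s_i (so f is the morphism defined by L and the sections s_i). Then f is a
closed immersion if and only if (i) V separates points: for all closed points P ≠ Q of X some s ∈ V
has germ in m_P L_P at P but not in m_Q L_Q at Q; and (ii) V separates tangent vectors: for every
closed point P, the germs at P of the elements of V vanishing at P, together with m_P² L_P, span m_P
L_P over O_{X,P} (they span the k-vector space m_P L_P / m_P² L_P). -/
theorem result (k : Type u) [Field k] [IsAlgClosed k]
    (X : Scheme.{u}) (pX : X ⟶ Spec (CommRingCat.of k)) [IsIntegral X]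
    (hproj : ∃ (N : ℕ) (ι : X ⟶ CohB1.ProjSpace N k),
      IsClosedImmersion ι ∧ ι ≫ CohB1.ProjSpace.toSpec N k = pX)
    (n : ℕ) (f : X ⟶ CohB1.ProjSpace n k) (hf : f ≫ CohB1.ProjSpace.toSpec n k = pX) :
    IsClosedImmersion f ↔
      ((∀ P Q : ↥X, IsClosed ({P} : Set ↥X) → IsClosed ({Q} : Set ↥X) → P ≠ Q →
          ∃ c : Fin (n + 1) → k,
            (((Scheme.Modules.pullback f).obj (Twist.twistProjSpace n k 1)).presheaf.germ ⊤ P trivial).hom
                (∑ i, ProjUP.toGlobal pX (c i) •
                  ProjUP.pullSec f (Twist.twistProjSpace n k 1) (ProjUP.coord n k i)) ∈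
              (IsLocalRing.maximalIdeal ↑(X.presheaf.stalk P) •
                (⊤ : Submodule ↑(X.presheaf.stalk P) ↑(((Scheme.Modules.pullback f).obj (Twist.twistProjSpace n k 1)).presheaf.stalk P))) ∧
            (((Scheme.Modules.pullback f).obj (Twist.twistProjSpace n k 1)).presheaf.germ ⊤ Q trivial).hom
                (∑ i, ProjUP.toGlobal pX (c i) •
                  ProjUP.pullSec f (Twist.twistProjSpace n k 1) (ProjUP.coord n k i)) ∉
              (IsLocalRing.maximalIdeal ↑(X.presheaf.stalk Q) •
                (⊤ : Submodule ↑(X.presheaf.stalk Q) ↑(((Scheme.Modules.pullback f).obj (Twist.twistProjSpace n k 1)).presheaf.stalk Q)))) ∧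
        ∀ P : ↥X, IsClosed ({P} : Set ↥X) →
          (IsLocalRing.maximalIdeal ↑(X.presheaf.stalk P) •
                (⊤ : Submodule ↑(X.presheaf.stalk P) ↑(((Scheme.Modules.pullback f).obj (Twist.twistProjSpace n k 1)).presheaf.stalk P))) ≤
            Submodule.span ↑(X.presheaf.stalk P)
                {v | ∃ c : Fin (n + 1) → k,
                  v = (((Scheme.Modules.pullback f).obj (Twist.twistProjSpace n k 1)).presheaf.germ ⊤ P trivial).hom
                (∑ i, ProjUP.toGlobal pX (c i) •
                  ProjUP.pullSec f (Twist.twistProjSpace n k 1) (ProjUP.coord n k i)) ∧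
                  v ∈ (IsLocalRing.maximalIdeal ↑(X.presheaf.stalk P) •
                (⊤ : Submodule ↑(X.presheaf.stalk P) ↑(((Scheme.Modules.pullback f).obj (Twist.twistProjSpace n k 1)).presheaf.stalk P)))} ⊔
              (IsLocalRing.maximalIdeal ↑(X.presheaf.stalk P) ^ 2 •
                (⊤ : Submodule ↑(X.presheaf.stalk P) ↑(((Scheme.Modules.pullback f).obj (Twist.twistProjSpace n k 1)).presheaf.stalk P)))) := by
  obtain ⟨N, ι, hι, hιX⟩ := hproj
  haveI := hι
  haveI : IsProper pX := by rw [← hιX]; infer_instance
  have h := Groth.Agent.Curve17.isClosedImmersion_iff_sep (n := n) pX f hf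
  exact ⟨fun hc => h.1 hc, fun hh => h.2 (fun P Q hP hQ hne => Or.inl (hh.1 P Q hP hQ hne)) hh.2⟩

end Groth.Agent.S10919
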