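import Groth.Statements.S1092
import Groth.Agent.S6616
import Groth.Agent.S0489
import Groth.Agent.Lib.TowerKInj13.Basic

set_option autoImplicit false
set_option backward.isDefEq.respectTransparency false
set_option backward.isDefEq.respectTransparency.types false
universe v u
open CategoryTheory CategoryTheory.Limits
open CohDer

open scoped ZeroObject

namespace Groth.Agent.S1092

/-- Let A be an abelian category with enough injectives in which countable products exist and are exact.
Then every cochain complex K admits a quasi-isomorphism K ⟶ I to a K-injective complex I. -/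
theorem result {A : Type u} [Category.{v} A] [Abelian A] [EnoughInjectives A]
    [HasLimitsOfShape (Discrete ℕ) A] [HasExactLimitsOfShape (Discrete ℕ) A] (K : CochainComplex A ℤ) :
    ∃ (I : CochainComplex A ℤ) (f : K ⟶ I), I.IsKInjective ∧ QuasiIso f := by
  haveI : HasLimitsOfShape ℕᵒᵖ A := Groth.Agent.TowerKInj13.hasLimitsOfShape_nat_op
  let J : ObjectProperty A := fun X => Injective X
  haveI : J.IsClosedUnderIsomorphisms := ⟨fun e h => Injective.of_iso e h⟩
  obtain ⟨Q, p, π, hπ, hb, hinj, hsplit, hcomp⟩ := Groth.Agent.S6616.result J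
    ⟨0, isZero_zero A, (isZero_zero A).injective⟩
    (fun X Y hX hY => haveI : Injective X := hX; haveI : Injective Y := hY; inferInstanceAs (Injective (X ⊞ Y)))
    (fun X => ⟨Injective.under X, Injective.ι X, inferInstanceAs (Injective (Injective.under X)), inferInstance⟩) K
  let F : ℕᵒᵖ ⥤ CochainComplex A ℤ := Functor.ofOpSequence p
  have hstep : ∀ n, F.map (homOfLE (Nat.le_succ n)).op = p n := fun n => Functor.ofOpSequence_map_homOfLE_succ p n
  have hs : ∀ n i, IsSplitEpi ((F.map (homOfLE (Nat.le_succ n)).op).f i) := fun n i => by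
    rw [hstep]
    obtain ⟨s, hs⟩ := (hsplit n i).1
    exact ⟨⟨⟨s, hs⟩⟩⟩
  have hKI : ∀ n, (F.obj (Opposite.op n)).IsKInjective := fun n => by
    show (Q n).IsKInjective
    obtain ⟨a, ha⟩ := hb n
    haveI := ha
    haveI : ∀ i, Injective ((Q n).X i) := hinj n
    exact CochainComplex.isKInjective_of_injective (Q n) a
  let κ : (Functor.const ℕᵒᵖ).obj K ⟶ F :=
    NatTrans.ofOpSequence (fun n => K.πTruncGE (-(n : ℤ)) ≫ π n) (fun n => by
      rw [hstep]
      exact (Category.id_comp _).trans ((hcomp n).symm.trans (Category.assoc _ _ _).symm))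
  refine ⟨limit F, limit.lift F ⟨K, κ⟩, Groth.Agent.S0489.result F hKI hs, ⟨fun i => ?_⟩⟩
  have hq : ∀ (n : ℕ) (j : ℤ), -(n : ℤ) ≤ j → QuasiIsoAt (κ.app (Opposite.op n)) j := fun n j hj => by
    haveI := (hπ n).1
    haveI := K.quasiIsoAt_πTruncGE (-(n : ℤ)) j hj
    show QuasiIsoAt (K.πTruncGE (-(n : ℤ)) ≫ π n) j
    infer_instance
  exact Groth.Agent.TowerKInj13.quasiIsoAt_limit_lift F hs κ i (1 - i).toNat
    (fun n hn => hq n _ (by omega)) (fun n hn => hq n _ (by omega))

end Groth.Agent.S1092
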