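import Groth.Statements.S10920
import Groth.Agent.Lib.HTop26.AlmostBlowUp
-- import your own Groth.Agent.* helpers here

set_option autoImplicit false
universe u
open CategoryTheory AlgebraicGeometry
open SDiv

namespace Groth.Agent.S10920

/-- Let X be a Noetherian scheme, I a quasi-coherent ideal sheaf on X, f : Y → X a closed immersion, b :
X' → X a blowing up of X in I and b' : Y' → Y a blowing up of Y in the inverse image ideal sheaf
I·O_Y (blow-ups in the sense of the universal property: the inverse image ideal becomes effective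
Cartier, universally). If f' : Y' → X' is the morphism compatible with the blow-ups, b ∘ f' = f ∘ b'
(it exists and is unique by the universal property), then f' is a closed immersion; Y' is the strict
transform of Y. -/
theorem result {X Y X' Y' : Scheme.{u}} [IsNoetherian X]
    (𝓘 : X.IdealSheafData) (f : Y ⟶ X) [IsClosedImmersion f]
    (b : X' ⟶ X) (hb : BlowUp.IsBlowUp b 𝓘) (b' : Y' ⟶ Y) (hb' : BlowUp.IsBlowUp b' (𝓘.comap f))
    (f' : Y' ⟶ X') (hf' : f' ≫ b = b' ≫ f) : IsClosedImmersion f' := by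
  let J := (𝓘.comap f).comap (Limits.pullback.fst f b)
  have hJ : HTop.IsLocPrincipal J := by
    have h1 : HTop.IsLocPrincipal (𝓘.comap b) := fun x => let ⟨U, hx, g, _, hg⟩ := hb.1 x; ⟨U, hx, g, hg⟩
    show HTop.IsLocPrincipal ((𝓘.comap f).comap (Limits.pullback.fst f b))
    rw [← Scheme.IdealSheafData.comap_comp, Limits.pullback.condition, Scheme.IdealSheafData.comap_comp]
    exact Groth.Agent.HTop26.isLocPrincipal_comap h1 _
  let ι := (HTop.supportedOn J).subschemeι
  have hB : BlowUp.IsBlowUp (ι ≫ Limits.pullback.fst f b) (𝓘.comap f) :=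
    (Groth.Agent.HTop26.isBlowUp_supportedOn_iff _ _ hJ).mpr fun W g hg => by
      obtain ⟨h, hh, hu⟩ := hb.2 W (g ≫ f) (by rw [Scheme.IdealSheafData.comap_comp]; exact hg)
      refine ⟨Limits.pullback.lift g h hh.symm, Limits.pullback.lift_fst _ _ _, fun l hl => Limits.pullback.hom_ext ?_ ?_⟩
      · rw [Limits.pullback.lift_fst]; exact hl
      · rw [Limits.pullback.lift_snd]
        exact hu _ (by show (l ≫ Limits.pullback.snd f b) ≫ b = g ≫ f; rw [Category.assoc, ← Limits.pullback.condition, ← Category.assoc, hl])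
  obtain ⟨q, hq, -⟩ := hB.2 Y' b' hb'.1
  obtain ⟨r, hr, -⟩ := hb'.2 _ _ hB.1
  obtain ⟨s, -, hs⟩ := hb'.2 Y' b' hb'.1
  obtain ⟨t, -, ht⟩ := hB.2 _ _ hB.1
  have e1 : q ≫ r = 𝟙 Y' := (hs (q ≫ r) (by show (q ≫ r) ≫ b' = b'; rw [Category.assoc, hr, hq])).trans (hs (𝟙 Y') (Category.id_comp _)).symm
  have e2 : r ≫ q = 𝟙 _ := (ht (r ≫ q) (by show (r ≫ q) ≫ (ι ≫ Limits.pullback.fst f b) = _; rw [Category.assoc, hq, hr])).trans (ht (𝟙 _) (Category.id_comp _)).symm
  haveI : IsIso q := ⟨r, e1, e2⟩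
  obtain ⟨h, -, hu⟩ := hb.2 Y' (b' ≫ f) (by rw [Scheme.IdealSheafData.comap_comp]; exact hb'.1)
  have hf : f' = q ≫ ι ≫ Limits.pullback.snd f b := (hu f' hf').trans (hu _ (by
    show (q ≫ ι ≫ Limits.pullback.snd f b) ≫ b = b' ≫ f
    rw [← hq]
    simp only [Category.assoc, Limits.pullback.condition])).symm
  rw [hf]
  infer_instance

end Groth.Agent.S10920
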