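import Groth.Statements.S10921
import Groth.Agent.Lib.Bertini13.Proj
import Groth.Agent.S4228
import Groth.Agent.Lib.VarDim.Alg

set_option autoImplicit false
universe u
open CategoryTheory CategoryTheory.Limits AlgebraicGeometry TopologicalSpace
open SmVar

set_option backward.isDefEq.respectTransparency false
set_option backward.isDefEq.respectTransparency.types false

set_option maxHeartbeats 2000000

namespace Groth.Agent.S10921

/-- Let k be an algebraically closed field and X ⊆ P^n_k a nonsingular projective variety, given as an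
integral scheme X with a closed immersion ι into projective n-space all of whose local rings are
regular. For a linear form h = Σ a_i X_i let H be the hyperplane h = 0 and H ∩ X the
scheme-theoretic intersection. Then the hyperplanes H which do not contain X and for which H ∩ X is
regular at each of its closed points form a set containing a nonempty Zariski-open subset of the
dual projective space: there is a nonzero polynomial g in the coefficients a_0, …, a_n such that
every h with g(a) ≠ 0 has these two properties. Regularity of H ∩ X at a closed point x of X lying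
on H is expressed on the local ring: O_{X,x} modulo the image of the germ of h/X_j (any j with
X_j(x) ≠ 0) is a regular local ring. (The published statement asserts that the set of good
hyperplanes is itself open and dense and that H ∩ X is a regular subvariety; this row asserts
regularity of H ∩ X at its closed points for all hyperplanes outside a proper closed set, and not
irreducibility, which fails for curves of degree ≥ 2.) -/
theorem result (k : Type u) [Field k] [IsAlgClosed k] (n : ℕ)
    (X : Scheme.{u}) [IsIntegral X] (ι : X ⟶ CohB1.ProjSpace n k) [IsClosedImmersion ι]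
    (hreg : ∀ x : ↥X, IsRegularLocalRing ↑(X.presheaf.stalk x)) :
    ∃ g : MvPolynomial (Fin (n + 1)) k, g ≠ 0 ∧
      ∀ h : ↥(CohB1.polyGrading n k 1),
        MvPolynomial.eval (fun i => MvPolynomial.coeff (Finsupp.single i 1) (h : MvPolynomial (Fin (n + 1)) k)) g ≠ 0 →
          (∃ x : ↥X, (h : MvPolynomial (Fin (n + 1)) k) ∉ (ι.base x).asHomogeneousIdeal) ∧
          ∀ x : ↥X, IsClosed ({x} : Set ↥X) →
            (h : MvPolynomial (Fin (n + 1)) k) ∈ (ι.base x).asHomogeneousIdeal →
            ∀ (j : Fin (n + 1))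
              (hj : (MvPolynomial.X j : MvPolynomial (Fin (n + 1)) k) ∉ (ι.base x).asHomogeneousIdeal),
              IsRegularLocalRing (↑(X.presheaf.stalk x) ⧸ Ideal.span
                {(ι.stalkMap x).hom ((Proj.stalkIso' (CohB1.polyGrading n k) (ι.base x)).symm
                  (HomogeneousLocalization.mk
                    ⟨1, h, ⟨MvPolynomial.X j, MvPolynomial.isHomogeneous_X k j⟩, hj⟩))}) := by
  classical
  letI := MvPolynomial.gradedAlgebra (σ := Fin (n + 1)) (R := k)
  -- the polynomial excluding hyperplanes containing `X`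
  obtain ⟨j₀, hj₀⟩ : ∃ j, genericPoint X ∈ ι ⁻¹ᵁ Bertini13.V k n j := by
    have : ι (genericPoint X) ∈ (⨆ i : Fin (n + 1), Proj.basicOpen (CohB1.polyGrading n k) (MvPolynomial.X i)) := by
      rw [ProjSpace.iSup_basicOpen]; trivial
    obtain ⟨j, hj⟩ := TopologicalSpace.Opens.mem_iSup.1 this
    exact ⟨j, hj⟩
  -- one polynomial per chart
  have key : ∀ j : Fin (n + 1), ∃ G : MvPolynomial (Fin (n + 1)) k, G ≠ 0 ∧
      ∀ h : ↥(CohB1.polyGrading n k 1),
        MvPolynomial.eval (fun i => MvPolynomial.coeff (Finsupp.single i 1) (h : MvPolynomial (Fin (n + 1)) k)) G ≠ 0 →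
          ∀ x : ↥X, (h : MvPolynomial (Fin (n + 1)) k) ∈ (ι.base x).asHomogeneousIdeal →
            ∀ (hj : (MvPolynomial.X j : MvPolynomial (Fin (n + 1)) k) ∉ (ι.base x).asHomogeneousIdeal),
              IsRegularLocalRing (↑(X.presheaf.stalk x) ⧸ Ideal.span
                {(ι.stalkMap x).hom ((Proj.stalkIso' (CohB1.polyGrading n k) (ι.base x)).symm
                  (HomogeneousLocalization.mk
                    ⟨1, h, ⟨MvPolynomial.X j, MvPolynomial.isHomogeneous_X k j⟩, hj⟩))}) := by
    intro j
    let W : X.Opens := ι ⁻¹ᵁ Bertini13.V k n j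
    by_cases hW : ∀ x : X, x ∉ W
    · exact ⟨1, one_ne_zero, fun h _ x _ hj => absurd (show x ∈ W from hj) (hW x)⟩
    push Not at hW
    obtain ⟨w, hw⟩ := hW
    haveI : Nonempty W := ⟨⟨w, hw⟩⟩
    let A : Type u := Γ(X, W)
    haveI : IsDomain A := inferInstanceAs (IsDomain Γ(X, W))
    let ψ : MvPolynomial {l : Fin (n + 1) // l ≠ j} k →+* A :=
      (ι.app (Bertini13.V k n j)).hom.comp (Bertini13.coordV k n j)
    have hψ : Function.Surjective ψ :=
      (ι.app_surjective _ (Bertini13.isAffineOpen_V j)).comp (Bertini13.coordV_surjective j)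
    letI : Algebra k A := (ψ.comp MvPolynomial.C).toAlgebra
    let x : Fin n → A := fun i => ψ (MvPolynomial.X ⟨j.succAbove i, Fin.succAbove_ne j i⟩)
    have hx : Function.Surjective (MvPolynomial.aeval x : MvPolynomial (Fin n) k →ₐ[k] A) := by
      intro a
      obtain ⟨p, rfl⟩ := hψ a
      induction p using MvPolynomial.induction_on with
      | C c => exact ⟨MvPolynomial.C c, by rw [MvPolynomial.aeval_C]; rfl⟩
      | add p q hp hq =>
        obtain ⟨a, ha⟩ := hp
        obtain ⟨b, hb⟩ := hq
        exact ⟨a + b, by rw [map_add, map_add, ha, hb]⟩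
      | mul_X p l hp =>
        obtain ⟨a, ha⟩ := hp
        obtain ⟨i, hi⟩ := Fin.exists_succAbove_eq l.2
        refine ⟨a * MvPolynomial.X i, ?_⟩
        rw [map_mul, map_mul, ha, MvPolynomial.aeval_X]
        exact congrArg (fun z => ψ p * ψ (MvPolynomial.X z)) (Subtype.ext hi)
    haveI : Algebra.FiniteType k A := Algebra.FiniteType.of_surjective (MvPolynomial.aeval x) hx
    obtain ⟨r, hr⟩ : ∃ r : ℕ, ringKrullDim A = r := ⟨_, VarDim.ringKrullDim_eq_tdeg k A⟩
    have hdim : ∀ P ∈ minimalPrimes A, ringKrullDim (A ⧸ P) = r := by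
      intro P hP
      rw [IsDomain.minimalPrimes_eq_singleton_bot] at hP
      rw [Set.mem_singleton_iff.1 hP, ← hr]
      exact ringKrullDim_eq_of_ringEquiv (RingEquiv.quotientBot A)
    have haff : IsAffineOpen W := (Bertini13.isAffineOpen_V j).preimage ι
    haveI hsm : Algebra.Smooth k A := by
      refine SmoothFppf.smooth_of_regular k A fun q _ => ?_
      let z : PrimeSpectrum A := ⟨q, inferInstance⟩
      let y : X := haff.fromSpec z
      have hyW : y ∈ W := haff.range_fromSpec.le ⟨z, rfl⟩
      letI := X.presheaf.algebra_section_stalk (⟨y, hyW⟩ : W)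
      haveI := hreg y
      haveI := haff.isLocalization_stalk' z hyW
      exact IsRegularLocalRing.of_ringEquiv
        (IsLocalization.algEquiv q.primeCompl (X.presheaf.stalk y) (Localization.AtPrime q)).toRingEquiv
    haveI : Infinite k := inferInstance
    obtain ⟨g, hg, hgood⟩ := Groth.Agent.S4228.result k n r A x hx hdim
    let σ : Fin (n + 1) → Fin (n + 1) := Fin.cases j j.succAbove
    have hσ : Function.Injective σ := by
      intro a b
      refine Fin.cases ?_ (fun a => ?_) a <;> refine Fin.cases ?_ (fun b => ?_) b <;>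
        simp [σ, Fin.succAbove_ne, (Fin.succAbove_ne j _).symm]
    refine ⟨MvPolynomial.rename σ g, fun h0 => hg (MvPolynomial.rename_injective σ hσ (by rw [h0, map_zero])),
      fun h hh x' hhx hj => ?_⟩
    let c : Fin (n + 1) → k := fun i => MvPolynomial.coeff (Finsupp.single i 1) (h : MvPolynomial (Fin (n + 1)) k)
    rw [MvPolynomial.eval_rename] at hh
    have hxW : x' ∈ W := hj
    let e : A := algebraMap k A (c (σ 0)) + ∑ i : Fin n, algebraMap k A (c (σ i.succ)) * x i
    have he : e = ψ (Bertini13.lin j c) := by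
      simp only [e, Bertini13.lin, map_add, map_sum, map_mul, σ, Fin.cases_zero, Fin.cases_succ]
      rfl
    let p : Ideal A := (haff.primeIdealOf ⟨x', hxW⟩).asIdeal
    letI := X.presheaf.algebra_section_stalk (⟨x', hxW⟩ : W)
    haveI := haff.isLocalization_stalk ⟨x', hxW⟩
    have helem : algebraMap A (X.presheaf.stalk x') e =
        (ι.stalkMap x').hom ((Proj.stalkIso' (CohB1.polyGrading n k) (ι.base x')).symm
          (HomogeneousLocalization.mk
            ⟨1, h, ⟨MvPolynomial.X j, MvPolynomial.isHomogeneous_X k j⟩, hj⟩)) := by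
      rw [← Bertini13.coordV_lin_germ j h (ι.base x') hj, he]
      exact (Scheme.Hom.germ_stalkMap_apply ι (Bertini13.V k n j) x' hj _).symm
    have hep : e ∈ p := by
      by_contra hne
      have hu : IsUnit (algebraMap A (X.presheaf.stalk x') e) :=
        IsLocalization.map_units (X.presheaf.stalk x') (⟨e, hne⟩ : p.primeCompl)
      rw [helem] at hu
      haveI : IsLocalHom (ι.stalkMap x').hom := ι.toLRSHom.prop x'
      exact Bertini13.not_isUnit_symm_mk j h (ι.base x') hhx hj (IsLocalHom.map_nonunit (f := (ι.stalkMap x').hom) _ hu)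
    haveI : Fact (Function.Surjective (Ideal.Quotient.mk (Ideal.span {e}))) := ⟨Ideal.Quotient.mk_surjective⟩
    have hle : Ideal.span {e} ≤ p := (Ideal.span_singleton_le_iff_mem _).2 hep
    have hq : (p.map (Ideal.Quotient.mk (Ideal.span {e}))).IsPrime :=
      Ideal.map_isPrime_of_surjective Ideal.Quotient.mk_surjective (by rwa [Ideal.mk_ker])
    have hcomap : (p.map (Ideal.Quotient.mk (Ideal.span {e}))).comap (Ideal.Quotient.mk (Ideal.span {e})) = p := by
      rw [Ideal.comap_map_of_surjective _ Ideal.Quotient.mk_surjective, ← RingHom.ker_eq_comap_bot, Ideal.mk_ker,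
        sup_eq_left.2 hle]
    obtain ⟨f, hf, hfs⟩ := hgood (c ∘ σ) hh (p.map (Ideal.Quotient.mk (Ideal.span {e}))) hq (by
      refine ⟨1, fun h1 => ?_, ?_⟩
      · exact (haff.primeIdealOf ⟨x', hxW⟩).2.ne_top (Ideal.eq_top_iff_one _ |>.2 (hcomap.le h1))
      · rw [HasRingHomProperty.Spec_iff (P := @Smooth), CommRingCat.hom_ofHom, RingHom.smooth_algebraMap]
        haveI : Algebra.Smooth A (Localization.Away (1 : A)) := inferInstance
        exact Algebra.Smooth.comp k A (Localization.Away (1 : A)))
    haveI := hfs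
    have hsm' : Smooth (Spec.map (CommRingCat.ofHom (algebraMap k (Localization.Away f)))) :=
      SmoothOfRelativeDimension.smooth (n := r - 1) _
    rw [HasRingHomProperty.Spec_iff (P := @Smooth), CommRingCat.hom_ofHom] at hsm'
    haveI : IsLocalization.AtPrime (X.presheaf.stalk x') p := haff.isLocalization_stalk ⟨x', hxW⟩
    have := Bertini13.isRegularLocalRing_quotient (k := k) (p := p) (Ap := X.presheaf.stalk x') e hep f hf hsm'
    rwa [helem] at this
  choose G hG0 hG using key
  -- excluding the hyperplanes containing `X`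
  let Wo : X.Opens := ι ⁻¹ᵁ Bertini13.V k n j₀
  haveI : Nonempty Wo := ⟨⟨genericPoint X, hj₀⟩⟩
  let ψ₀ : MvPolynomial {l : Fin (n + 1) // l ≠ j₀} k →+* Γ(X, Wo) :=
    (ι.app (Bertini13.V k n j₀)).hom.comp (Bertini13.coordV k n j₀)
  letI : Algebra k Γ(X, Wo) := (ψ₀.comp MvPolynomial.C).toAlgebra
  obtain ⟨φ, hφ⟩ : ∃ φ : Γ(X, Wo) →ₗ[k] k, φ 1 = 1 := by
    obtain ⟨φ, hφ⟩ := LinearMap.exists_extend (p := k ∙ (1 : Γ(X, Wo)))
      ((LinearEquiv.toSpanNonzeroSingleton k _ (1 : Γ(X, Wo)) one_ne_zero).symm.toLinearMap)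
    refine ⟨φ, ?_⟩
    have := DFunLike.congr_fun hφ ⟨1, Submodule.mem_span_singleton_self _⟩
    rw [LinearMap.comp_apply, Submodule.subtype_apply] at this
    rw [this]
    exact (LinearEquiv.symm_apply_eq _).2 (Subtype.ext (one_smul k (1 : Γ(X, Wo))).symm)
  let g₀ : MvPolynomial (Fin (n + 1)) k :=
    MvPolynomial.X j₀ + ∑ i : Fin n, MvPolynomial.C (φ (ψ₀ (MvPolynomial.X ⟨j₀.succAbove i, Fin.succAbove_ne j₀ i⟩))) *
      MvPolynomial.X (j₀.succAbove i)
  have hg₀ : g₀ ≠ 0 := fun h0 => by
    have := congrArg (MvPolynomial.eval (Pi.single j₀ (1 : k))) h0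
    simp [g₀, Pi.single_eq_of_ne (Fin.succAbove_ne j₀ _)] at this
  refine ⟨g₀ * ∏ j, G j, mul_ne_zero hg₀ (Finset.prod_ne_zero_iff.2 fun j _ => hG0 j), fun h hh => ?_⟩
  rw [map_mul, map_prod, mul_ne_zero_iff, Finset.prod_ne_zero_iff] at hh
  refine ⟨⟨genericPoint X, fun hmem => ?_⟩, fun x _ hhx j hj => hG j h (hh.2 j (Finset.mem_univ j)) x hhx hj⟩
  let c : Fin (n + 1) → k := fun i => MvPolynomial.coeff (Finsupp.single i 1) (h : MvPolynomial (Fin (n + 1)) k)
  have hne : ψ₀ (Bertini13.lin j₀ c) ≠ 0 := fun h0 => hh.1 (by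
    have h1 := congrArg φ h0
    have hC : ∀ a : k, ψ₀ (MvPolynomial.C a) = algebraMap k Γ(X, Wo) a := fun a => rfl
    simp only [Bertini13.lin, map_add, map_sum, map_mul, hC, ← Algebra.smul_def, map_smul, Algebra.algebraMap_eq_smul_one,
      map_zero, hφ, smul_eq_mul, mul_one] at h1
    simp only [g₀, map_add, map_sum, map_mul, MvPolynomial.eval_X, MvPolynomial.eval_C]
    rw [← h1]
    simp [c, mul_comm])
  apply hne
  refine (map_eq_zero_iff (X.presheaf.germ Wo (genericPoint X) hj₀).hom
    (germ_injective_of_isIntegral X (genericPoint X) hj₀)).1 ?_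
  have e1 : X.presheaf.germ Wo (genericPoint X) hj₀ (ψ₀ (Bertini13.lin j₀ c)) =
      (ι.stalkMap (genericPoint X)).hom ((Proj.stalkIso' (CohB1.polyGrading n k) (ι.base (genericPoint X))).symm
        (HomogeneousLocalization.mk
          ⟨1, h, ⟨MvPolynomial.X j₀, MvPolynomial.isHomogeneous_X k j₀⟩, hj₀⟩)) := by
    rw [← Bertini13.coordV_lin_germ j₀ h (ι.base (genericPoint X)) hj₀]
    exact (Scheme.Hom.germ_stalkMap_apply ι (Bertini13.V k n j₀) (genericPoint X) hj₀ _).symm
  by_contra hne0
  have hu : IsUnit (X.presheaf.germ Wo (genericPoint X) hj₀ (ψ₀ (Bertini13.lin j₀ c))) :=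
    isUnit_iff_ne_zero.2 hne0
  rw [e1] at hu
  haveI : IsLocalHom (ι.stalkMap (genericPoint X)).hom := ι.toLRSHom.prop (genericPoint X)
  exact Bertini13.not_isUnit_symm_mk j₀ h (ι.base (genericPoint X)) hmem hj₀
    (IsLocalHom.map_nonunit (f := (ι.stalkMap (genericPoint X)).hom) _ hu)

end Groth.Agent.S10921
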