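import Groth.Statements.S10922
import Groth.Agent.Lib.NonsingCI6.Basic

set_option autoImplicit false
universe u
open CInt

namespace Groth.Agent.S10922

/-- Let k be an algebraically closed field, n ≥ 1, r < n, and d_1, …, d_r positive integers. Then there
are homogeneous polynomials f_1, …, f_r in S = k[x_0, …, x_n] of degrees d_1, …, d_r such that each
hypersurface V(f_i) ⊆ P^n_k is nonsingular and Y = V(f_1, …, f_r) is a nonsingular irreducible
variety of codimension r, hence a global complete intersection of the V(f_i). Nonsingularity and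
irreducibility are expressed on the affine cones: S/(f_i) and S/(f_1, …, f_r) have regular
localizations at every prime not containing all the x_j (every point of the cone other than the
vertex), S/(f_1, …, f_r) is an integral domain, and the ideal (f_1, …, f_r) has height r. -/
theorem result (k : Type u) [Field k] [IsAlgClosed k]
    (n r : ℕ) (hr : r < n) (d : Fin r → ℕ) (hd : ∀ i, 0 < d i) :
    ∃ f : Fin r → MvPolynomial (Fin (n + 1)) k,
      (∀ i, (f i).IsHomogeneous (d i)) ∧
      (∀ (i : Fin r) (Q : Ideal (MvPolynomial (Fin (n + 1)) k ⧸ Ideal.span {f i})) [Q.IsPrime],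
        (∃ j, Ideal.Quotient.mk (Ideal.span {f i}) (MvPolynomial.X j) ∉ Q) →
          IsRegularLocalRing (Localization.AtPrime Q)) ∧
      IsDomain (MvPolynomial (Fin (n + 1)) k ⧸ Ideal.span (Set.range f)) ∧
      (Ideal.span (Set.range f)).height = r ∧
      ∀ (Q : Ideal (MvPolynomial (Fin (n + 1)) k ⧸ Ideal.span (Set.range f))) [Q.IsPrime],
        (∃ j, Ideal.Quotient.mk (Ideal.span (Set.range f)) (MvPolynomial.X j) ∉ Q) →
          IsRegularLocalRing (Localization.AtPrime Q) := by
  obtain ⟨f, hf, hsing, hall, hht⟩ := Groth.Agent.NonsingCI6.exists_forms (k := k) (n := n) r hr.le d hd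
  have hreg : ∀ (Q : Ideal (MvPolynomial (Fin (n + 1)) k ⧸ Ideal.span (Set.range f))) [Q.IsPrime],
      (∃ j, Ideal.Quotient.mk (Ideal.span (Set.range f)) (MvPolynomial.X j) ∉ Q) →
        IsRegularLocalRing (Localization.AtPrime Q) := by
    rintro Q _ ⟨j, hj⟩
    haveI := hall j
    exact Groth.Agent.NonsingCI6.isRegularLocalRing_cone f d hf j Q hj
  refine ⟨f, hf, fun i Q _ hQ => ?_, ?_, hht, hreg⟩
  · obtain ⟨j, hj⟩ := hQ
    have key : ∀ (I : Ideal (MvPolynomial (Fin (n + 1)) k)), I = Ideal.span (Set.range ![f i]) →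
        Groth.Agent.NonsingCI6.SmoothCharts I →
        ∀ (Q : Ideal (MvPolynomial (Fin (n + 1)) k ⧸ I)) [Q.IsPrime],
          Ideal.Quotient.mk I (MvPolynomial.X j) ∉ Q → IsRegularLocalRing (Localization.AtPrime Q) := by
      rintro I rfl hI Q _ hj
      haveI := hI j
      exact Groth.Agent.NonsingCI6.isRegularLocalRing_cone ![f i] ![d i]
        (fun l => by fin_cases l; exact hf i) j Q hj
    exact key _ (by rw [Matrix.range_cons, Matrix.range_empty, Set.union_empty]) (hsing i) Q hj
  · refine (Groth.Agent.CIUnmixed6.isDomain_and_isIntegrallyClosed hr hf hd hht fun Q _ hQ => ?_).1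
    haveI := hreg Q hQ
    haveI := Groth.Agent.RegLoc.isDomain (Localization.AtPrime Q)
    haveI := Groth.Agent.RegLoc.ufd_of_isRegularLocalRing (Localization.AtPrime Q)
    exact ⟨inferInstance, inferInstance⟩

end Groth.Agent.S10922
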