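import Groth.Statements.S10924
import Groth.Agent.Lib.Euler2.BottDim

set_option autoImplicit false
set_option backward.isDefEq.respectTransparency.types false
set_option backward.isDefEq.respectTransparency false
set_option synthInstance.maxHeartbeats 400000
set_option maxHeartbeats 1000000
set_option linter.style.haveILetI false
set_option linter.unusedVariables false
universe u
open CategoryTheory CategoryTheory.Limits AlgebraicGeometry
open ProjDual

namespace Groth.Agent.S10924

/-- Let k be a field, 0 ≤ p ≤ r, P = P^r_k with structure map to Spec k, Ω = Ω^1_{P/k} (the conormal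
sheaf of the diagonal), L an O_P-module which is a p-th exterior power of Ω, and e a natural number
with r < e + p, so that the twist d = -e satisfies d < p - r; write L(d) = L ⊗ O_P(d). Then H^r(P,
L(-e)) = H^r(P^r, Ω^p(-e)) is a k-vector space of dimension C(e+p, e) · C(e-1, r-p). -/
theorem result (k : Type u) [Field k] (r p : ℕ) (hp : p ≤ r)
    (L : (CohB1.ProjSpace r k).Modules)
    (hL : ExtPow.IsExtPow p (Omega.sheaf (CohB1.ProjSpace.toSpec r k)) L) (e : ℕ) (he : r < e + p) :
    Module.finrank k (Coh.HH (CohB1.ProjSpace r k)
      (CohB1.tensorMod L (Twist.twistProjSpace r k (-(e : ℤ)))) r) =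
      Nat.choose (e + p) e * Nat.choose (e - 1) (r - p) := by
  obtain ⟨a⟩ := Groth.Agent.ExtFil4.isoExtPow hL (Groth.Agent.Euler2.isExtPow_Om r k p)
  rw [(Groth.Agent.CurveCoh17.hequiv k (Groth.Agent.M2.tensorIso a (CategoryTheory.Iso.refl _)) r).finrank_eq,
    Groth.Agent.Euler2.finrank_top r k e (by omega) p, if_pos hp]

end Groth.Agent.S10924
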