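import Groth.Statements.S10926
import Groth.Agent.Lib.PicPn.Seesaw
import Groth.Agent.Lib.ProjSpace.Basic
import Groth.Agent.Lib.TensorMod.Invertible
import Groth.Agent.Lib.TensorMod.PullTensor

set_option autoImplicit false
universe u
open CategoryTheory CategoryTheory.Limits AlgebraicGeometry
open PicF

namespace Groth.Agent.S10926

/-- Let k be an algebraically closed field, Y an integral scheme of finite type over k, f : X → Y flat
and projective (f = i ≫ pr for a closed immersion i : X → P^n_Y) with every fibre X_y integral, and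
L, M invertible O_X-modules whose pullbacks to each fibre X_y are isomorphic. Then there is an
invertible O_Y-module E with L ≅ M ⊗ f^*E. -/
theorem result (k : Type u) [Field k] [IsAlgClosed k]
    {X Y : Scheme.{u}} (g : Y ⟶ Spec (CommRingCat.of k)) [LocallyOfFiniteType g] [QuasiCompact g]
    [IsIntegral Y] (n : ℕ) (i : X ⟶ CohB1.ProjSpaceOver n Y) [IsClosedImmersion i]
    (f : X ⟶ Y) (hf : f = i ≫ CohB1.ProjSpaceOver.toBase n Y) [Flat f]
    (hint : ∀ y : Y, IsIntegral (f.fiber y))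
    (L M : X.Modules) (hL : PicF.IsInvertible L) (hM : PicF.IsInvertible M)
    (hLM : ∀ y : Y, Nonempty ((Scheme.Modules.pullback (f.fiberι y)).obj L ≅ (Scheme.Modules.pullback (f.fiberι y)).obj M)) :
    ∃ E : Y.Modules, PicF.IsInvertible E ∧
      Nonempty (L ≅ CohB1.tensorMod M ((Scheme.Modules.pullback f).obj E)) := by
  subst hf
  haveI : IsLocallyNoetherian Y := LocallyOfFiniteType.isLocallyNoetherian g
  have h0 := fun y => Groth.Agent.PicPn.finrank_fiber_of_isIntegral (i ≫ CohB1.ProjSpaceOver.toBase n Y) g hint y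
  obtain ⟨D, hD, ⟨e⟩⟩ := Groth.Agent.M2.exists_inverse hM
  have hLD : PicF.IsInvertible (CohB1.tensorMod L D) := Groth.Agent.M2.isInvertible_tensor hL hD
  have ht : ∀ y, Nonempty ((Scheme.Modules.pullback ((i ≫ CohB1.ProjSpaceOver.toBase n Y).fiberι y)).obj
      (CohB1.tensorMod L D) ≅ Coh.structureModule ((i ≫ CohB1.ProjSpaceOver.toBase n Y).fiber y)) := fun y =>
    ⟨Groth.Agent.M2.pullTensorIso _ L D ≪≫ Groth.Agent.M2.tensorIso (hLM y).some (Iso.refl _) ≪≫
      (Groth.Agent.M2.pullTensorIso _ M D).symm ≪≫ (Scheme.Modules.pullback _).mapIso e ≪≫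
      Groth.Agent.Twist.pullbackUnitIso _⟩
  obtain ⟨⟨N, hN, ⟨φ⟩⟩, -⟩ := Groth.Agent.PicPn.exists_of_gens _ (Groth.Agent.PicPn.bijective_app_of_h0 _ h0)
    (fun y => Groth.Agent.PicPn.exists_gen_of_trivial_fibres _ h0 hLD ht y)
  exact ⟨N, hN, ⟨(Groth.Agent.M2.tensorRUnit L).symm ≪≫
    Groth.Agent.M2.tensorIso (Iso.refl L) (e.symm ≪≫ Groth.Agent.M2.tensorComm M D) ≪≫
    (Groth.Agent.M2.tensorAssoc L D M).symm ≪≫ Groth.Agent.M2.tensorComm _ M ≪≫
    Groth.Agent.M2.tensorIso (Iso.refl M) φ.symm⟩⟩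

end Groth.Agent.S10926
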