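import Groth.Statements.S10927
import Groth.Agent.S10929
import Groth.Agent.Lib.OrbitTop19.Smooth
-- import your own Groth.Agent.* helpers here

set_option autoImplicit false
universe u
open CategoryTheory CategoryTheory.Limits MonoidalCategory CartesianMonoidalCategory MonObj GrpObj AlgebraicGeometry
open Variety

namespace Groth.Agent.S10927

set_option linter.style.haveILetI false
set_option backward.isDefEq.respectTransparency.types false


/-- Let k be an algebraically closed field of characteristic zero, G a group variety over k (an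
integral, separated k-group scheme of finite type) and X a homogeneous space for G: a k-variety
(integral, separated, of finite type over k) with an action of G such that G(k) acts transitively on
X(k). Then for every k-point x of X the orbit map G → X, g ↦ g · x, is smooth. -/
theorem result (k : Type u) [Field k] [IsAlgClosed k] [CharZero k]
    (G X : Over (Spec (CommRingCat.of k))) [GrpObj G] (a : AlgGrp.Action G X)
    [IsIntegral G.left] [IsSeparated G.hom] [LocallyOfFiniteType G.hom] [QuasiCompact G.hom]
    [IsIntegral X.left] [IsSeparated X.hom] [LocallyOfFiniteType X.hom] [QuasiCompact X.hom]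
    (htrans : ∀ x x' : 𝟙_ (Over (Spec (CommRingCat.of k))) ⟶ X,
      ∃ σ : 𝟙_ (Over (Spec (CommRingCat.of k))) ⟶ G, CartesianMonoidalCategory.lift σ x ≫ a.act = x')
    (x : 𝟙_ (Over (Spec (CommRingCat.of k))) ⟶ X) :
    Smooth (a.orbitMap x).left := by
  let f := a.orbitMap x
  have hf : f.left ≫ X.hom = G.hom := Over.w f
  haveI : JacobsonSpace X.left := LocallyOfFiniteType.jacobsonSpace (Y := Spec _) X.hom
  have hsub : closedPoints X.left ⊆ Set.range f.left := by
    intro y hy
    obtain ⟨p, hp⟩ := OrbitTop19.exists_point X y hy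
    obtain ⟨σ, hσ⟩ := htrans x p
    refine ⟨σ.left (IsLocalRing.closedPoint k), ?_⟩
    rw [OrbitTop19.apply_comp_left σ f p ?_ _, hp]
    rw [← hσ]
    show σ ≫ lift (𝟙 G) (toUnit G ≫ x) ≫ a.act = _
    rw [← Category.assoc, comp_lift, Category.comp_id, ← Category.assoc, comp_toUnit,
      Subsingleton.elim (toUnit _) (𝟙 (𝟙_ (Over (Spec (CommRingCat.of k))))), Category.id_comp]
  have hdom : DenseRange f.left := by
    refine Dense.mono hsub ?_
    rw [dense_iff_closure_eq]
    exact closure_closedPoints
  obtain ⟨U, hne, hU⟩ := S10929.result k G.hom X.hom f.left hf hdom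
  have key : ∀ g : G.left, ∃ V : G.left.Opens, g ∈ V ∧ Smooth (V.ι ≫ f.left) := by
    intro g
    have heq : (G ◁ 𝟙 G) ≫ (OrbitTop19.mulAction G).act = (OrbitTop19.mulAction G).act ≫ 𝟙 G := by simp
    obtain ⟨γ, hγ⟩ := OrbitTop19.exists_translate (f := 𝟙 G) (a := OrbitTop19.mulAction G) (b := OrbitTop19.mulAction G)
      OrbitTop19.isTransitive_mul heq U.2 (by simpa using hne) g
    let L := (OrbitTop19.tr (OrbitTop19.mulAction G) γ).left
    have hγ' : L g ∈ U := by simpa [L] using hγ
    refine ⟨L ⁻¹ᵁ U, hγ', ?_⟩
    haveI : IsIso (OrbitTop19.tr (OrbitTop19.mulAction G) γ) := ⟨_, OrbitTop19.tr_inv _ _, OrbitTop19.inv_tr _ _⟩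
    haveI : IsIso L := (Over.forget _).map_isIso (OrbitTop19.tr (OrbitTop19.mulAction G) γ)
    haveI : IsIso (OrbitTop19.tr a γ) := ⟨_, OrbitTop19.tr_inv _ _, OrbitTop19.inv_tr _ _⟩
    haveI : IsIso (OrbitTop19.tr a γ).left := (Over.forget _).map_isIso (OrbitTop19.tr a γ)
    have e : L ≫ f.left = f.left ≫ (OrbitTop19.tr a γ).left := by
      show (OrbitTop19.tr (OrbitTop19.mulAction G) γ).left ≫ f.left = _
      rw [← Over.comp_left, ← Over.comp_left, OrbitTop19.tr_equivariant (OrbitTop19.orbitMap_equivariant a x) γ]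
    rw [← MorphismProperty.cancel_right_of_respectsIso @Smooth _ (OrbitTop19.tr a γ).left, Category.assoc, ← e,
      ← Category.assoc, ← morphismRestrict_ι L U, Category.assoc]
    haveI := hU
    infer_instance
  choose V hV hVs using key
  exact (IsZariskiLocalAtSource.iff_of_iSup_eq_top (P := @Smooth) V
    (top_le_iff.1 fun g _ => TopologicalSpace.Opens.mem_iSup.2 ⟨g, hV g⟩)).2 hVs

end Groth.Agent.S10927
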