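import Groth.Statements.S10931
import Groth.Agent.Lib.Euler2.BottDim

set_option autoImplicit false
set_option backward.isDefEq.respectTransparency.types false
set_option backward.isDefEq.respectTransparency false
set_option synthInstance.maxHeartbeats 400000
set_option maxHeartbeats 1000000
set_option linter.style.haveILetI false
set_option linter.unusedVariables false
universe u
open CategoryTheory CategoryTheory.Limits AlgebraicGeometry
open ProjDual

namespace Groth.Agent.S10931

/-- Let k be a field, p ≤ r and q ≤ r natural numbers, P = P^r_k with structure map to Spec k, Ω =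
Ω^1_{P/k} (the conormal sheaf of the diagonal), L an O_P-module which is a p-th exterior power of Ω
and L' one which is an (r − p)-th exterior power of Ω, and d an integer; write M(d) = M ⊗ O_P(d).
Then H^q(P, L(d)) = H^q(P^r, Ω^p(d)) and H^{r−q}(P, L'(−d)) = H^{r−q}(P^r, Ω^{r−p}(−d)) have the
same dimension over k. (The published statement asserts an isomorphism between these two cohomology
groups, obtained from Serre duality; this row records the equality of dimensions.) -/
theorem result (k : Type u) [Field k] (r p q : ℕ)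
    (hp : p ≤ r) (hq : q ≤ r) (L L' : (CohB1.ProjSpace r k).Modules)
    (hL : ExtPow.IsExtPow p (Omega.sheaf (CohB1.ProjSpace.toSpec r k)) L)
    (hL' : ExtPow.IsExtPow (r - p) (Omega.sheaf (CohB1.ProjSpace.toSpec r k)) L') (d : ℤ) :
    Module.finrank k (Coh.HH (CohB1.ProjSpace r k) (CohB1.tensorMod L (Twist.twistProjSpace r k d)) q) =
      Module.finrank k (Coh.HH (CohB1.ProjSpace r k)
        (CohB1.tensorMod L' (Twist.twistProjSpace r k (-d))) (r - q)) := by
  obtain ⟨a⟩ := Groth.Agent.ExtFil4.isoExtPow hL (Groth.Agent.Euler2.isExtPow_Om r k p)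
  obtain ⟨b⟩ := Groth.Agent.ExtFil4.isoExtPow hL' (Groth.Agent.Euler2.isExtPow_Om r k (r - p))
  rw [(Groth.Agent.CurveCoh17.hequiv k (Groth.Agent.M2.tensorIso a (CategoryTheory.Iso.refl _)) q).finrank_eq,
    (Groth.Agent.CurveCoh17.hequiv k (Groth.Agent.M2.tensorIso b (CategoryTheory.Iso.refl _)) (r - q)).finrank_eq]
  have pos : ∀ (d' : ℕ) (p' q' : ℕ), 0 < d' → p' ≤ r → q' ≤ r →
      Module.finrank k (Coh.HH (CohB1.ProjSpace r k) (CohB1.tensorMod (Groth.Agent.Euler2.Om r k p')
        (Twist.twistProjSpace r k (d' : ℤ))) q') =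
      Module.finrank k (Coh.HH (CohB1.ProjSpace r k) (CohB1.tensorMod (Groth.Agent.Euler2.Om r k (r - p'))
        (Twist.twistProjSpace r k (-(d' : ℤ)))) (r - q')) := by
    intro d' p' q' hd hp' hq'
    rcases Nat.eq_zero_or_pos q' with rfl | hq0
    · rw [Nat.sub_zero, Groth.Agent.Euler2.finrank_h0 r k d' hd p', Groth.Agent.Euler2.finrank_top r k d' hd (r - p'),
        if_pos (Nat.sub_le r p'), show r - (r - p') = p' by omega, show d' + (r - p') = d' + r - p' by omega]
    · rw [Groth.Agent.Euler2.finrank_eq_zero_of r k (Groth.Agent.Euler2.van_pos r k (by omega) p' q' hq0),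
        Groth.Agent.Euler2.finrank_eq_zero_of r k (Groth.Agent.Euler2.van_neg r k (by omega) (r - p') (r - q') (by omega))]
  obtain ⟨m, rfl | rfl⟩ := Int.eq_nat_or_neg d
  · rcases Nat.eq_zero_or_pos m with rfl | hm
    · rw [show (-((0 : ℕ) : ℤ)) = 0 from rfl, show (((0 : ℕ) : ℤ)) = 0 from rfl]
      obtain ⟨z⟩ := Groth.Agent.Euler2.nonempty_Om_tensor_zero r k p
      obtain ⟨z'⟩ := Groth.Agent.Euler2.nonempty_Om_tensor_zero r k (r - p)
      rw [(Groth.Agent.CurveCoh17.hequiv k z q).finrank_eq, (Groth.Agent.CurveCoh17.hequiv k z' (r - q)).finrank_eq]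
      rcases Nat.eq_zero_or_pos r with rfl | hr
      · obtain rfl : p = 0 := by omega
        obtain rfl : q = 0 := by omega
        rfl
      by_cases hpq : q = p
      · subst hpq
        obtain ⟨c⟩ := Groth.Agent.Euler2.nonempty_diag r k q hp
        obtain ⟨c'⟩ := Groth.Agent.Euler2.nonempty_diag r k (r - q) (Nat.sub_le r q)
        rw [c.finrank_eq, c'.finrank_eq]
      · rw [Groth.Agent.Euler2.finrank_eq_zero_of r k (Groth.Agent.Euler2.van_zero r k hr p q (Or.inl hpq)),
          Groth.Agent.Euler2.finrank_eq_zero_of r k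
            (Groth.Agent.Euler2.van_zero r k hr (r - p) (r - q) (Or.inl (by omega)))]
    · exact pos m p q hm hp hq
  · rcases Nat.eq_zero_or_pos m with rfl | hm
    · rw [show (-(-((0 : ℕ) : ℤ))) = 0 from rfl, show (-((0 : ℕ) : ℤ)) = 0 from rfl]
      obtain ⟨z⟩ := Groth.Agent.Euler2.nonempty_Om_tensor_zero r k p
      obtain ⟨z'⟩ := Groth.Agent.Euler2.nonempty_Om_tensor_zero r k (r - p)
      rw [(Groth.Agent.CurveCoh17.hequiv k z q).finrank_eq, (Groth.Agent.CurveCoh17.hequiv k z' (r - q)).finrank_eq]
      rcases Nat.eq_zero_or_pos r with rfl | hr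
      · obtain rfl : p = 0 := by omega
        obtain rfl : q = 0 := by omega
        rfl
      by_cases hpq : q = p
      · subst hpq
        obtain ⟨c⟩ := Groth.Agent.Euler2.nonempty_diag r k q hp
        obtain ⟨c'⟩ := Groth.Agent.Euler2.nonempty_diag r k (r - q) (Nat.sub_le r q)
        rw [c.finrank_eq, c'.finrank_eq]
      · rw [Groth.Agent.Euler2.finrank_eq_zero_of r k (Groth.Agent.Euler2.van_zero r k hr p q (Or.inl hpq)),
          Groth.Agent.Euler2.finrank_eq_zero_of r k
            (Groth.Agent.Euler2.van_zero r k hr (r - p) (r - q) (Or.inl (by omega)))]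
    · have h := pos m (r - p) (r - q) hm (Nat.sub_le r p) (Nat.sub_le r q)
      rw [show r - (r - p) = p by omega, show r - (r - q) = q by omega] at h
      rw [neg_neg]
      exact h.symm

end Groth.Agent.S10931
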