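import Groth.Statements.S10932
import Groth.Agent.Lib.ExtSelfPd1.Basic

set_option autoImplicit false
universe u
open CategoryTheory
open CAlg

namespace Groth.Agent.S10932

/-- Let A be a (Noetherian) regular local ring of Krull dimension n and M a finitely generated A-module
such that Ext^j_A(M, A) = 0 for every j with 1 ≤ j ≤ n. Then M is projective, hence a free A-module. -/
theorem result (A : Type u) [CommRing A] [IsRegularLocalRing A]
    (n : ℕ) (hn : ringKrullDim A = n) (M : Type u) [AddCommGroup M] [Module A M] [Module.Finite A M]
    (h : ∀ j : ℕ, 1 ≤ j → j ≤ n →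
      Subsingleton (Abelian.Ext (ModuleCat.of A M) (ModuleCat.of A A) j)) :
    Module.Free A M := by
  have hd : (IsLocalRing.maximalIdeal A).spanFinrank = n := by
    have h1 := IsRegularLocalRing.spanFinrank_maximalIdeal (R := A)
    rw [hn] at h1
    exact_mod_cast h1
  haveI hP : HasProjectiveDimensionLT (ModuleCat.of A M) (0 + 1) :=
    Groth.Agent.ExtSelfPd1.hasProjectiveDimensionLT_of_bound M 0
      (fun i hi => by
        by_cases hin : i ≤ n
        · exact h i hi hin
        · haveI := Groth.Agent.RegLoc.hasProjectiveDimensionLT_of_regular hd (ModuleCat.of A M)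
          exact HasProjectiveDimensionLT.subsingleton (ModuleCat.of A M) (n + 1) i (by omega) _)
      n (by simpa using Groth.Agent.RegLoc.hasProjectiveDimensionLT_of_regular hd (ModuleCat.of A M))
  haveI : Projective (ModuleCat.of A M) := projective_iff_hasProjectiveDimensionLT_one.2 hP
  haveI : Module.Projective A M := (IsProjective.iff_projective M).2 inferInstance
  haveI : Module.FinitePresentation A M := Module.finitePresentation_of_finite A M
  exact Module.free_of_flat_of_isLocalRing

end Groth.Agent.S10932
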