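import Groth.Statements.S10933
import Mathlib
import Groth.Agent.Lib.ExtSelfPd1.Basic

set_option autoImplicit false
universe u
open CategoryTheory
open CAlg

namespace Groth.Agent.S10933

open CategoryTheory Abelian


/-- Let A be a (Noetherian) regular local ring, M a finitely generated A-module and d a natural number.
Then the projective dimension of M equals d if and only if Ext^j_A(M, A) = 0 for every j > d and
Ext^d_A(M, A) ≠ 0. (Projective dimension valued in WithBot ℕ∞, the zero module having projective
dimension ⊥.) -/
theorem result (A : Type u) [CommRing A] [IsRegularLocalRing A]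
    (M : Type u) [AddCommGroup M] [Module A M] [Module.Finite A M] (d : ℕ) :
    projectiveDimension (ModuleCat.of A M) = (d : WithBot ℕ∞) ↔
      ((∀ j : ℕ, d < j → Subsingleton (Abelian.Ext (ModuleCat.of A M) (ModuleCat.of A A) j)) ∧
        Nontrivial (Abelian.Ext (ModuleCat.of A M) (ModuleCat.of A A) d)) := by
  haveI : IsRegularRing A := ExtSelfPd1.isRegularRing_of_maximal fun m => by
    have := m.isMaximal
    exact Groth.Agent.RegLoc.isRegularLocalRing_localization A m.asIdeal
  constructor
  · intro h
    have hlt : HasProjectiveDimensionLT (ModuleCat.of A M) (d + 1) :=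
      (projectiveDimension_le_iff _ d).1 h.le
    have hge : ¬ HasProjectiveDimensionLT (ModuleCat.of A M) d := (projectiveDimension_ge_iff _ d).1 h.ge
    refine ⟨fun j hj => HasProjectiveDimensionLT.subsingleton (ModuleCat.of A M) (d + 1) j hj _, ?_⟩
    by_contra hne
    rw [not_nontrivial_iff_subsingleton] at hne
    cases d with
    | zero =>
      refine hge ((hasProjectiveDimensionLT_zero_iff_isZero _).2 ?_)
      haveI : Projective (ModuleCat.of A M) := (projective_iff_hasProjectiveDimensionLE_zero _).2 hlt
      haveI : Module.Projective A M := (IsProjective.iff_projective M).2 inferInstance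
      haveI : Module.Free A M := Module.free_of_flat_of_isLocalRing
      haveI : Subsingleton (ModuleCat.of A M ⟶ ModuleCat.of A A) :=
        (Ext.addEquiv₀ (X := ModuleCat.of A M) (Y := ModuleCat.of A A)).symm.toEquiv.subsingleton
      have hsub : Subsingleton M := by
        refine subsingleton_of_forall_eq 0 fun x => ?_
        refine (Module.forall_dual_apply_eq_zero_iff A x).1 fun f => ?_
        have := congrArg (fun g : ModuleCat.of A M ⟶ ModuleCat.of A A => g.hom x)
          (Subsingleton.elim (ModuleCat.ofHom f) 0)
        simpa using this
      exact ModuleCat.isZero_of_subsingleton _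
    | succ e =>
      refine hge (ExtSelfPd1.hasProjectiveDimensionLT_of_regular' M e fun i hi => ?_)
      rcases (show e + 1 ≤ i from hi).lt_or_eq with h1 | h1
      · exact HasProjectiveDimensionLT.subsingleton (ModuleCat.of A M) (e + 2) i (by omega) _
      · exact h1 ▸ hne
  · rintro ⟨hv, hne⟩
    have hlt := ExtSelfPd1.hasProjectiveDimensionLT_of_regular' M d hv
    refine le_antisymm ((projectiveDimension_le_iff _ d).2 hlt) ((projectiveDimension_ge_iff _ d).2 fun h => ?_)
    exact not_subsingleton _ (HasProjectiveDimensionLT.subsingleton (ModuleCat.of A M) d d le_rfl (ModuleCat.of A A))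

end Groth.Agent.S10933
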