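import Groth.Statements.S10935
import Groth.Agent.Lib.Flat14.AssPoints

set_option autoImplicit false
universe u
open CategoryTheory CategoryTheory.Limits AlgebraicGeometry
open FlatMor

namespace Groth.Agent.S10935

/-- Let Y be an integral, regular (every local ring a regular local ring), one-dimensional scheme with
generic point η, X a Noetherian scheme and f : X → Y a morphism. Then f is flat if and only if every
associated point x of X — a point such that the maximal ideal of O_{X,x} is an associated prime of
O_{X,x} — satisfies f(x) = η. -/
theorem result {X Y : Scheme.{u}} (f : X ⟶ Y)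
    [IsIntegral Y] (hreg : ∀ y : Y, IsRegularLocalRing (Y.presheaf.stalk y))
    (hY : topologicalKrullDim ↥Y = 1) [IsNoetherian X] :
    Flat f ↔ ∀ x : X, Curv2.IsAssPoint (Coh.structureModule X) x → f.base x = genericPoint ↥Y := by
  refine ⟨fun _ x hx => Flat14.map_assPoint_eq_genericPoint f x hx, fun h => ?_⟩
  exact Flat14.flat_of_regular f hreg hY.le fun x r hr z hz => Flat14.regular_of_assPoints f h x r hr z hz

end Groth.Agent.S10935
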