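import Groth.Statements.S10936
import Groth.Agent.Lib.SmDim19.CotangentScheme
import Groth.Agent.Lib.VarDim.Irred
-- import your own Groth.Agent.* helpers here

set_option autoImplicit false
universe u
open CategoryTheory CategoryTheory.Limits AlgebraicGeometry
open Variety

namespace Groth.Agent.S10936

set_option linter.style.haveILetI false
set_option backward.isDefEq.respectTransparency.types false


/-- (a)⇔(c): let k be an algebraically closed field, X and Y nonsingular varieties over k (integral,
separated, of finite type and smooth over k) with dim Y = dY and dim X = dY + n, and f : X → Y a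
k-morphism. Then f is smooth of relative dimension n if and only if for every closed point x of X
the tangent map T_x f : T_x X → T_{f(x)} Y is surjective — equivalently, the cotangent map
m_{f(x)}/m_{f(x)}^2 → m_x/m_x^2 of the local rings is injective. -/
theorem result (k : Type u) [Field k] [IsAlgClosed k]
    {X Y : Scheme.{u}} (qX : X ⟶ Spec (CommRingCat.of k)) (qY : Y ⟶ Spec (CommRingCat.of k))
    [IsIntegral X] [IsSeparated qX] [LocallyOfFiniteType qX] [QuasiCompact qX] [Smooth qX]
    [IsIntegral Y] [IsSeparated qY] [LocallyOfFiniteType qY] [QuasiCompact qY] [Smooth qY]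
    (f : X ⟶ Y) (hf : f ≫ qY = qX) (n dY : ℕ) (hY : topologicalKrullDim ↥Y = dY)
    (hX : topologicalKrullDim ↥X = ((dY + n : ℕ) : WithBot ℕ∞)) :
    SmoothOfRelativeDimension n f ↔
      ∀ x : X, IsClosed ({x} : Set ↥X) → Function.Injective (FixPt.cotangentMapAt f x (f.base x) rfl) := by
  classical
  subst hf
  haveI : LocallyOfFiniteType f := locallyOfFiniteType_of_comp f qY
  haveI : IsLocallyNoetherian Y := LocallyOfFiniteType.isLocallyNoetherian qY
  haveI : LocallyOfFinitePresentation f := VarDim.locallyOfFinitePresentation_of_locallyNoetherian f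
  constructor
  · intro h x hx
    haveI : Smooth f := SmoothOfRelativeDimension.smooth n f
    exact (SmDim19.mem_smoothLocus_iff_cotangentMapAt_injective qY f hx).1
      (f.smoothLocus_eq_top.ge trivial)
  · intro h
    haveI : JacobsonSpace X := LocallyOfFiniteType.jacobsonSpace (f ≫ qY)
    haveI : Smooth f := by
      rw [← Scheme.Hom.smoothLocus_eq_top_iff, ← top_le_iff]
      intro x _
      by_contra hx
      obtain ⟨z, hz1, hz⟩ := nonempty_inter_closedPoints (X := X) ⟨x, hx⟩ f.smoothLocus.2.isClosed_compl.isLocallyClosed
      exact hz1 ((SmDim19.mem_smoothLocus_iff_cotangentMapAt_injective qY f hz).2 (h z hz))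
    exact SmDim19.smoothOfRelativeDimension_of_smooth_comp qY f hY hX

end Groth.Agent.S10936
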