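import Groth.Statements.S10937
import Groth.Agent.Lib.SmDim19.RelDimVariety
import Groth.Agent.Lib.SmDim19.Criterion
-- import your own Groth.Agent.* helpers here

set_option autoImplicit false
universe u
open CategoryTheory CategoryTheory.Limits AlgebraicGeometry
open Variety

namespace Groth.Agent.S10937

set_option linter.style.haveILetI false
set_option backward.isDefEq.respectTransparency.types false


/-- (a)⇔(b): let k be an algebraically closed field, X and Y nonsingular varieties over k (integral,
separated, of finite type and smooth over k) with dim Y = dY and dim X = dY + n, and f : X → Y a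
k-morphism. Then f is smooth of relative dimension n if and only if Ω_{X/Y} (the conormal sheaf of
the diagonal of f) is locally free of rank n. -/
theorem result (k : Type u) [Field k] [IsAlgClosed k]
    {X Y : Scheme.{u}} (qX : X ⟶ Spec (CommRingCat.of k)) (qY : Y ⟶ Spec (CommRingCat.of k))
    [IsIntegral X] [IsSeparated qX] [LocallyOfFiniteType qX] [QuasiCompact qX] [Smooth qX]
    [IsIntegral Y] [IsSeparated qY] [LocallyOfFiniteType qY] [QuasiCompact qY] [Smooth qY]
    (f : X ⟶ Y) (hf : f ≫ qY = qX) (n dY : ℕ) (hY : topologicalKrullDim ↥Y = dY)
    (hX : topologicalKrullDim ↥X = ((dY + n : ℕ) : WithBot ℕ∞)) :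
    SmoothOfRelativeDimension n f ↔ FlatMod.IsFinLocFreeOfRank n (Omega.sheaf f) := by
  classical
  haveI : IsSeparated f := by
    haveI : IsSeparated (f ≫ qY) := by rw [hf]; infer_instance
    exact IsSeparated.of_comp f qY
  constructor
  · intro h
    exact Omega12.isFinLocFreeOfRank_receptacle_of_smooth f (Omega12.isUniversal_dOmega f) n
  · intro h
    haveI := SmDim19.smoothOfRelativeDimension_of_smooth qY dY hY
    haveI := SmDim19.smoothOfRelativeDimension_of_smooth qX (dY + n) hX
    exact SmDim19.smoothOfRelativeDimension_of_omega qX qY f hf h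
      (Omega12.isFinLocFreeOfRank_receptacle_of_smooth qY (Omega12.isUniversal_dOmega qY) dY)
      (Omega12.isFinLocFreeOfRank_receptacle_of_smooth qX (Omega12.isUniversal_dOmega qX) (dY + n))

end Groth.Agent.S10937
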