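import Groth.Statements.S10938
import Groth.Agent.Lib.TanRank4.Ring
import Groth.Agent.Lib.VarDim.Scheme
import Groth.Agent.Lib.VarDim.Top
-- import your own Groth.Agent.* helpers here

set_option autoImplicit false
universe u
open CategoryTheory CategoryTheory.Limits AlgebraicGeometry
open Variety

namespace Groth.Agent.S10938

/-- Let k be an algebraically closed field of characteristic zero, X and Y schemes of finite type over
k, f : X → Y a k-morphism and r a natural number. Let X_r be the set of closed points x of X such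
that the tangent map T_x f : T_x X → T_{f(x)} Y has rank at most r — equivalently, the image of the
cotangent map m_{f(x)}/m_{f(x)}^2 → m_x/m_x^2 is contained in the span of at most r vectors over the
residue field. Then the closure of f(X_r) in Y has (topological Krull) dimension at most r. -/
theorem result (k : Type u) [Field k] [IsAlgClosed k] [CharZero k]
    {X Y : Scheme.{u}} (qX : X ⟶ Spec (CommRingCat.of k)) (qY : Y ⟶ Spec (CommRingCat.of k))
    [LocallyOfFiniteType qX] [QuasiCompact qX] [LocallyOfFiniteType qY] [QuasiCompact qY]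
    (f : X ⟶ Y) (hf : f ≫ qY = qX) (r : ℕ) :
    topologicalKrullDim ↥(closure (f.base '' {x : ↥X | IsClosed ({x} : Set ↥X) ∧
      ∃ S : Finset (IsLocalRing.CotangentSpace (X.presheaf.stalk x)), S.card ≤ r ∧
        (LinearMap.range (FixPt.cotangentMapAt f x (f.base x) rfl) : Set (IsLocalRing.CotangentSpace (X.presheaf.stalk x))) ⊆
          (Submodule.span (IsLocalRing.ResidueField (X.presheaf.stalk x))
            (S : Set (IsLocalRing.CotangentSpace (X.presheaf.stalk x))) : Set (IsLocalRing.CotangentSpace (X.presheaf.stalk x)))})) ≤ r := by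
  classical
  haveI : IsLocallyNoetherian X := LocallyOfFiniteType.isLocallyNoetherian qX
  haveI : CompactSpace X := (quasiCompact_iff_compactSpace qX).1 inferInstance
  haveI : IsNoetherian X := { }
  let S₀ := {x : ↥X | IsClosed ({x} : Set ↥X) ∧
      ∃ S : Finset (IsLocalRing.CotangentSpace (X.presheaf.stalk x)), S.card ≤ r ∧
        (LinearMap.range (FixPt.cotangentMapAt f x (f.base x) rfl) : Set (IsLocalRing.CotangentSpace (X.presheaf.stalk x))) ⊆
          (Submodule.span (IsLocalRing.ResidueField (X.presheaf.stalk x))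
            (S : Set (IsLocalRing.CotangentSpace (X.presheaf.stalk x))) : Set (IsLocalRing.CotangentSpace (X.presheaf.stalk x)))}
  show topologicalKrullDim ↥(closure (f.base '' S₀)) ≤ r
  rw [Groth.Agent.VarDim.topologicalKrullDim_isClosed_eq_iSup_height isClosed_closure]
  refine iSup_le fun η => ?_
  obtain ⟨F, hFfin, hFc, hFi, hFU⟩ :=
    TopologicalSpace.NoetherianSpace.exists_finite_set_isClosed_irreducible (α := X) (isClosed_closure (s := S₀))
  let F' := {Z ∈ F | ∀ Z' ∈ F, Z ⊆ Z' → Z' ⊆ Z}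
  have hcov : ∀ Z ∈ F, ∃ Z' ∈ F', Z ⊆ Z' := by
    intro Z hZ
    obtain ⟨Z', hle, hZ', hmax⟩ := hFfin.exists_le_maximal hZ
    exact ⟨Z', ⟨hZ', fun Z'' h h' => hmax h h'⟩, hle⟩
  have hη : η.1 ∈ ⋃ Z ∈ F', closure (f.base '' Z) := by
    have hsub : closure (f.base '' S₀) ⊆ ⋃ Z ∈ F', closure (f.base '' Z) := by
      refine closure_minimal ?_ ((hFfin.subset fun Z hZ => hZ.1).isClosed_biUnion fun _ _ => isClosed_closure)
      rintro _ ⟨x, hx, rfl⟩
      have hxF : x ∈ ⋃₀ F := hFU ▸ subset_closure hx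
      obtain ⟨Z, hZ, hxZ⟩ := hxF
      obtain ⟨Z', hZ', hle⟩ := hcov Z hZ
      exact Set.mem_biUnion hZ' (subset_closure ⟨x, hle hxZ, rfl⟩)
    exact hsub η.2
  obtain ⟨Z, ⟨hZF, hZmax⟩, hηZ⟩ := Set.mem_iUnion₂.1 hη
  let ξ := (hFi Z hZF).genericPoint
  have hξ : closure ({ξ} : Set X) = Z := (hFi Z hZF).closure_genericPoint (hFc Z hZF)
  have hspec : f ξ ⤳ η.1 := by
    rw [specializes_iff_mem_closure]
    refine closure_minimal ?_ isClosed_closure hηZ
    rintro _ ⟨x, hx, rfl⟩
    rw [← hξ] at hx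
    exact specializes_iff_mem_closure.1 ((specializes_iff_mem_closure.2 hx).map f.continuous)
  refine le_trans (WithBot.coe_le_coe.2 (Order.height_mono (show η.1 ≤ f ξ from hspec))) ?_
  rw [Groth.Agent.VarDim.height_eq_sdim qY]
  refine WithBot.coe_le_coe.2 (Nat.cast_le.2 ?_)
  have hdense : ∀ O : X.Opens, ξ ∈ O → ∃ x ∈ S₀, x ∈ O ∧ ξ ⤳ x := by
    intro O hξO
    let others := ⋃ Z' ∈ F \ {Z}, Z'
    have hcl : IsClosed others := (hFfin.subset Set.sdiff_subset).isClosed_biUnion fun Z' hZ' => hFc Z' hZ'.1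
    have hξo : ξ ∉ others := by
      intro h
      obtain ⟨Z', hZ', hξZ'⟩ := Set.mem_iUnion₂.1 h
      have hle : Z ⊆ Z' := hξ ▸ closure_minimal (Set.singleton_subset_iff.2 hξZ') (hFc Z' hZ'.1)
      exact hZ'.2 (Set.Subset.antisymm (hZmax Z' hZ'.1 hle) hle)
    have hξT : ξ ∈ closure S₀ := hFU.symm ▸ ⟨Z, hZF, hξ ▸ subset_closure rfl⟩
    obtain ⟨x, ⟨hxO, hxo⟩, hxS⟩ := mem_closure_iff.1 hξT ((O : Set X) ∩ othersᶜ) (O.2.inter hcl.isOpen_compl) ⟨hξO, hξo⟩
    refine ⟨x, hxS, hxO, ?_⟩
    have hxF : x ∈ ⋃₀ F := hFU ▸ subset_closure hxS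
    obtain ⟨Z', hZ', hxZ'⟩ := hxF
    have : Z' = Z := by
      by_contra hne
      exact hxo (Set.mem_biUnion (show Z' ∈ F \ {Z} from ⟨hZ', hne⟩) hxZ')
    rw [specializes_iff_mem_closure, hξ]
    exact this ▸ hxZ'
  obtain ⟨V, hV, hηV, -⟩ := exists_isAffineOpen_mem_and_subset (X := Y) (x := f ξ) (U := ⊤) trivial
  obtain ⟨U, hU, hξU, hUV⟩ := exists_isAffineOpen_mem_and_subset (X := X) (x := ξ) (U := f ⁻¹ᵁ V) hηV
  letI := Groth.Agent.VarDim.resAlg qY (f ξ)
  letI := Groth.Agent.VarDim.resAlg qX ξ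
  letI : Algebra k Γ(Y, V) := (Groth.Agent.VarDim.baseToSections qY V).toAlgebra
  letI : Algebra k Γ(X, U) := (Groth.Agent.VarDim.baseToSections qX U).toAlgebra
  letI : Algebra Γ(Y, V) Γ(X, U) := (f.appLE V U hUV).hom.toAlgebra
  letI : Algebra Γ(Y, V) (Y.residueField (f ξ)) := (Y.evaluation V (f ξ) hηV).hom.toAlgebra
  letI : Algebra Γ(X, U) (X.residueField ξ) := (X.evaluation U ξ hξU).hom.toAlgebra
  letI : Algebra (Y.residueField (f ξ)) (X.residueField ξ) := (f.residueFieldMap ξ).hom.toAlgebra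
  haveI : IsScalarTower k Γ(Y, V) (Y.residueField (f ξ)) :=
    IsScalarTower.of_algebraMap_eq' (Groth.Agent.VarDim.evaluation_comp_baseToSections qY (f ξ) hηV).symm
  haveI : IsScalarTower k Γ(X, U) (X.residueField ξ) :=
    IsScalarTower.of_algebraMap_eq' (Groth.Agent.VarDim.evaluation_comp_baseToSections qX ξ hξU).symm
  haveI : IsScalarTower k (Y.residueField (f ξ)) (X.residueField ξ) :=
    IsScalarTower.of_algebraMap_eq' (by
      have h1 := Groth.Agent.VarDim.baseToRes_comp qY f ξ
      rw [hf] at h1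
      exact h1)
  haveI : Algebra.FiniteType k Γ(Y, V) := Groth.Agent.VarDim.finiteType_baseToSections qY hV
  haveI : Algebra.FiniteType k Γ(X, U) := Groth.Agent.VarDim.finiteType_baseToSections qX hU
  have heval : ∀ (x : X) (hx : x ∈ U) (b : Γ(Y, V)), X.evaluation U x hx (f.appLE V U hUV b) =
      f.residueFieldMap x (Y.evaluation V (f x) (hUV hx) b) := by
    intro x hx b
    rw [Scheme.Hom.appLE, CommRingCat.comp_apply]
    refine (congrArg (X.residue x).hom (TopCat.Presheaf.germ_res_apply X.presheaf (homOfLE hUV) x hx (f.app V b))).trans ?_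
    exact (ConcreteCategory.congr_hom (Scheme.evaluation_naturality (f := f) x (hUV hx)) b).symm
  obtain ⟨d, c, b, hd, hc, hder⟩ := Groth.Agent.TanRank4.exists_derivations k Γ(Y, V) Γ(X, U)
    (Y.residueField (f ξ)) (X.residueField ξ)
    (fun z => Groth.Agent.VarDim.exists_evaluation_eq_div hV (f ξ) hηV z)
    (fun z => Groth.Agent.VarDim.exists_evaluation_eq_div hU ξ hξU z) (heval ξ hξU)
  have htr := Groth.Agent.VarDim.trdeg_residueField qY (f ξ)
  rw [htr, Nat.cast_le] at hd
  refine hd.trans ?_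
  have hξc : ξ ∈ X.basicOpen c := (Scheme.evaluation_ne_zero_iff_mem_basicOpen X ξ hξU c).1 hc
  obtain ⟨x, ⟨hxclosed, S, hScard, hSspan⟩, hxc, hξx⟩ := hdense (X.basicOpen c) hξc
  have hxU : x ∈ U := X.basicOpen_le c hxc
  letI := Groth.Agent.VarDim.resAlg qX x
  haveI : Algebra.IsAlgebraic k (X.residueField x) := by
    rw [← trdeg_eq_zero_iff, Groth.Agent.VarDim.trdeg_residueField qX x,
      (Groth.Agent.VarDim.sdim_eq_zero_iff_isClosed qX x).2 hxclosed, Nat.cast_zero]
  have hbij : Function.Bijective (algebraMap k (X.residueField x)) :=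
    IsAlgClosed.algebraMap_bijective_of_isIntegral
  let ev : Γ(X, U) →ₐ[k] X.residueField x :=
    { (X.evaluation U x hxU).hom with
      commutes' := fun q => RingHom.congr_fun (Groth.Agent.VarDim.evaluation_comp_baseToSections qX x hxU) q }
  let χ : Γ(X, U) →ₐ[k] k := (AlgEquiv.ofBijective (Algebra.ofId k (X.residueField x)) hbij).symm.toAlgHom.comp ev
  have hχ : ∀ a, algebraMap k (X.residueField x) (χ a) = X.evaluation U x hxU a := fun a =>
    (AlgEquiv.ofBijective (Algebra.ofId k (X.residueField x)) hbij).apply_symm_apply (ev a)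
  have hχ0 : ∀ a, χ a = 0 ↔ X.evaluation U x hxU a = 0 := fun a => by
    rw [← hχ]
    exact ((map_eq_zero (algebraMap k (X.residueField x))).symm)
  have hker : RingHom.ker (algebraMap Γ(X, U) (X.residueField ξ)) ≤ RingHom.ker χ := by
    intro a ha
    rw [RingHom.mem_ker, hχ0]
    by_contra h
    exact (Scheme.evaluation_ne_zero_iff_mem_basicOpen X ξ hξU a).2
      (hξx.mem_open (X.basicOpen a).2 ((Scheme.evaluation_ne_zero_iff_mem_basicOpen X x hxU a).1 h)) ha
  have hχc : χ c ≠ 0 := fun h => (Scheme.evaluation_ne_zero_iff_mem_basicOpen X x hxU c).2 hxc ((hχ0 c).1 h)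
  choose δ hδ1 hδmul hδb using hder χ hker
  have hxV : f x ∈ V := hUV hxU
  let p : Fin d → Γ(Y, V) := fun i => b i - algebraMap k Γ(Y, V) (χ (algebraMap Γ(Y, V) Γ(X, U) (b i)))
  haveI : IsScalarTower k Γ(Y, V) Γ(X, U) := IsScalarTower.of_algebraMap_eq' (by
    show Groth.Agent.VarDim.baseToSections qX U = (f.appLE V U hUV).hom.comp (Groth.Agent.VarDim.baseToSections qY V)
    rw [Groth.Agent.VarDim.baseToSections, Groth.Agent.VarDim.baseToSections, ← CommRingCat.hom_comp, ← hf,
      Scheme.Hom.comp_appTop]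
    simp only [Category.assoc]
    rw [Scheme.Hom.map_appLE]
    rfl)
  let a : Fin d → Γ(X, U) := fun i => algebraMap Γ(Y, V) Γ(X, U) (p i)
  have ha : ∀ i, χ (a i) = 0 := fun i => by
    simp only [a, p, map_sub, ← IsScalarTower.algebraMap_apply, AlgHom.commutes, Algebra.algebraMap_self, RingHom.id_apply, sub_self]
  let T := X.presheaf.stalk x
  have hgm : ∀ w, χ w = 0 → X.presheaf.germ U x hxU w ∈ IsLocalRing.maximalIdeal T := fun w hw =>
    (IsLocalRing.residue_eq_zero_iff _).1 ((hχ0 w).1 hw)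
  let v : Fin d → IsLocalRing.CotangentSpace T := fun i =>
    (IsLocalRing.maximalIdeal T).toCotangent ⟨_, hgm (a i) (ha i)⟩
  have hv : ∀ i, v i ∈ Submodule.span (IsLocalRing.ResidueField T) (S : Set (IsLocalRing.CotangentSpace T)) := by
    intro i
    apply hSspan
    have hpm : Y.presheaf.germ V (f x) hxV (p i) ∈ IsLocalRing.maximalIdeal (Y.presheaf.stalk (f x)) := by
      refine (IsLocalRing.residue_eq_zero_iff _).1 ((map_eq_zero (f.residueFieldMap x).hom).1 ?_)
      exact (heval x hxU (p i)).symm.trans ((hχ0 _).1 (ha i))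
    refine ⟨(IsLocalRing.maximalIdeal _).toCotangent ⟨_, hpm⟩, ?_⟩
    refine (Ideal.mapCotangent_toCotangent _ _ _ _ _).trans ?_
    apply congrArg
    apply Subtype.ext
    show FixPt.stalkMapAt f x (f x) rfl (Y.presheaf.germ V (f x) hxV (p i)) = X.presheaf.germ U x hxU (f.appLE V U hUV (p i))
    simp only [FixPt.stalkMapAt, TopCat.Presheaf.stalkCongr_inv, CommRingCat.hom_comp, RingHom.comp_apply,
      TopCat.Presheaf.germ_stalkSpecializes_apply, Scheme.Hom.germ_stalkMap_apply, Scheme.Hom.appLE,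
      TopCat.Presheaf.germ_res_apply]
  by_contra hlt
  rw [not_le] at hlt
  have hli : ¬ LinearIndependent (IsLocalRing.ResidueField T) v := by
    intro h
    have h1 := linearIndependent_le_span' v h (S : Set (IsLocalRing.CotangentSpace T))
      (Set.range_subset_iff.2 hv)
    simp at h1
    omega
  obtain ⟨lam, hsum, j, hj⟩ := Fintype.not_linearIndependent_iff.1 hli
  choose q hq using fun i => hbij.2 (lam i)
  let w : Γ(X, U) := ∑ i, q i • a i
  have hw0 : χ w = 0 := by simp [w, map_sum, ha]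
  have hcot : (IsLocalRing.maximalIdeal T).toCotangent ⟨_, hgm w hw0⟩ = 0 := by
    rw [← hsum]
    have e : (⟨_, hgm w hw0⟩ : IsLocalRing.maximalIdeal T) =
        ∑ i, X.presheaf.germ U x hxU (algebraMap k Γ(X, U) (q i)) • (⟨_, hgm (a i) (ha i)⟩ : IsLocalRing.maximalIdeal T) := by
      apply Subtype.ext
      rw [AddSubmonoidClass.coe_finset_sum]
      simp only [w, map_sum, Algebra.smul_def, map_mul, SetLike.val_smul, smul_eq_mul]
      rfl
    rw [e, map_sum]
    refine Finset.sum_congr rfl fun i _ => ?_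
    rw [map_smul, ← algebraMap_smul (IsLocalRing.ResidueField T) (X.presheaf.germ U x hxU (algebraMap k Γ(X, U) (q i)))]
    congr 1
    exact (RingHom.congr_fun (Groth.Agent.VarDim.evaluation_comp_baseToSections qX x hxU) (q i)).trans (hq i)
  rw [Ideal.toCotangent_eq_zero] at hcot
  let M := (hU.primeIdealOf ⟨x, hxU⟩).asIdeal
  letI := TopCat.Presheaf.algebra_section_stalk X.presheaf (⟨x, hxU⟩ : U)
  haveI := hU.isLocalization_stalk ⟨x, hxU⟩
  have hM : M = RingHom.ker χ := by
    ext z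
    show z ∈ (hU.primeIdealOf ⟨x, hxU⟩).asIdeal ↔ _
    rw [← Groth.Agent.VarDim.ker_evaluation hU x hxU, RingHom.mem_ker, RingHom.mem_ker]
    exact (hχ0 z).symm
  have hcot' : algebraMap Γ(X, U) T w ∈ (M ^ 2).map (algebraMap Γ(X, U) T) := by
    rw [Ideal.map_pow, IsLocalization.AtPrime.map_eq_maximalIdeal M T]
    exact hcot
  obtain ⟨m, hm, hmw⟩ := (IsLocalization.algebraMap_mem_map_algebraMap_iff M.primeCompl T _ _).1 hcot'
  have h0 := Groth.Agent.TanRank4.eq_zero_of_mem_sq χ (δ j) (hδmul j) (hM ▸ hmw)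
  rw [hδmul, hw0, zero_mul, add_zero, mul_eq_zero] at h0
  have hδw : δ j w = q j * χ c := by
    have hδa : ∀ i, δ j (a i) = if i = j then χ c else 0 := fun i => by
      simp only [a, p, map_sub, ← IsScalarTower.algebraMap_apply]
      rw [hδb, Algebra.algebraMap_eq_smul_one, map_smul, hδ1, smul_zero, sub_zero]
    simp [w, map_sum, hδa]
  have hm' : χ m ≠ 0 := fun h => hm (show m ∈ M by rw [hM]; exact h)
  have hqj : q j = 0 := by
    have := h0.resolve_left hm'
    rw [hδw, mul_eq_zero] at this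
    exact this.resolve_right hχc
  exact hj (by rw [← hq j, hqj, map_zero]; rfl)

end Groth.Agent.S10938
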