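import Groth.Statements.S10939
import Groth.Agent.Lib.AffCover15.Basic
-- import your own Groth.Agent.* helpers here

set_option autoImplicit false
universe u
open CategoryTheory CategoryTheory.Limits AlgebraicGeometry
open Variety

namespace Groth.Agent.S10939

/-- Let k be a field, P = P^n_k = Proj k[x_0, …, x_n], and i_X : X → P, i_Y : Y → P closed immersions
with X of dimension r. Then there are homogeneous polynomials h_1, …, h_{r+1} of positive degree,
with basic opens D_j = D_+(h_j) and hypersurfaces H_j = P ∖ D_j, such that every H_j contains Y and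
X ∖ Y = ⋃_j (X ∖ H_j), i.e. every point of X outside Y lies in some D_j; moreover each X ∖ H_j = X ∩
D_j is affine. (The published statement takes X and Y reduced; the assertion only concerns the
underlying closed sets.) -/
theorem result (k : Type u) [Field k] (n r : ℕ)
    {X Y : Scheme.{u}} (iX : X ⟶ CohB1.ProjSpace n k) (iY : Y ⟶ CohB1.ProjSpace n k)
    [IsClosedImmersion iX] [IsClosedImmersion iY] (hX : topologicalKrullDim ↥X = r) :
    ∃ (h : Fin (r + 1) → MvPolynomial (Fin (n + 1)) k) (D : Fin (r + 1) → (CohB1.ProjSpace n k).Opens),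
      (∀ j, D j = Proj.basicOpen (CohB1.polyGrading n k) (h j)) ∧
      (∀ j, ∃ d : ℕ, 0 < d ∧ (h j).IsHomogeneous d) ∧
      (∀ j, Set.range iY.base ⊆ (D j : Set ↥(CohB1.ProjSpace n k))ᶜ) ∧
      (Set.range iX.base \ Set.range iY.base ⊆ ⋃ j, (D j : Set ↥(CohB1.ProjSpace n k))) ∧
      ∀ j, IsAffineOpen (iX ⁻¹ᵁ (D j)) := by
  classical
  haveI : TopologicalSpace.NoetherianSpace ↥X := iX.isClosedEmbedding.isInducing.noetherianSpace
  have hY : IsClosed (Set.range iY.base) := iY.isClosedEmbedding.isClosed_range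
  haveI : IsAffineHom iX := inferInstance
  let Db : MvPolynomial (Fin (n + 1)) k → (CohB1.ProjSpace n k).Opens :=
    fun h => Proj.basicOpen (CohB1.polyGrading n k) h
  let P : X.Opens → Prop := fun U => ∃ h : MvPolynomial (Fin (n + 1)) k,
    (∃ d : ℕ, 0 < d ∧ h.IsHomogeneous d) ∧
    Set.range iY.base ⊆ (↑(Db h))ᶜ ∧
    IsAffineOpen (iX ⁻¹ᵁ Proj.basicOpen (CohB1.polyGrading n k) h) ∧
    U = iX ⁻¹ᵁ Proj.basicOpen (CohB1.polyGrading n k) h
  have hP : ∀ E : Set X, E.Finite → E ⊆ (iX.base ⁻¹' Set.range iY.base)ᶜ →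
      ∃ U, P U ∧ E ⊆ (U : Set X) := by
    intro E hE hEY
    rcases E.eq_empty_or_nonempty with rfl | hne
    · refine ⟨_, ⟨0, ⟨1, one_pos, MvPolynomial.isHomogeneous_zero _ _ _⟩, ?_, ?_, rfl⟩,
        Set.empty_subset _⟩
      · intro y _ h
        change y ∈ Proj.basicOpen (CohB1.polyGrading n k) 0 at h
        rw [Proj.basicOpen_zero] at h
        exact h
      · rw [Proj.basicOpen_zero]; exact isAffineOpen_bot X
    let W : (CohB1.ProjSpace n k).Opens := ⟨(Set.range iY.base)ᶜ, hY.isOpen_compl⟩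
    obtain ⟨f, d, hd, hf, hle, hEf⟩ := Groth.Agent.FinAffine12.exists_homogeneous_finite
      (CohB1.polyGrading n k) W (hE.image iX.base).toFinset
      (fun e he => by
        obtain ⟨x, hx, rfl⟩ := (hE.image iX.base).mem_toFinset.1 he
        exact hEY hx)
      ((hE.image iX.base).toFinset_nonempty.2 (hne.image iX.base))
    refine ⟨_, ⟨f, ⟨d, hd, hf⟩, fun y hy h => hle h hy,
      @IsAffineOpen.preimage _ _ _ (Proj.isAffineOpen_basicOpen (CohB1.polyGrading n k) f hf hd) iX ‹IsAffineHom iX›, rfl⟩, fun x hx => ?_⟩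
    exact hEf _ ((hE.image iX.base).mem_toFinset.2 ⟨x, hx, rfl⟩)
  obtain ⟨U, hU, hcov⟩ := Groth.Agent.AffCover15.exists_cover_card_succ
    (hY.preimage iX.continuous) P hP r hX
  choose h hh1 hh2 hh3 hh4 using hU
  refine ⟨h, fun j => Proj.basicOpen (CohB1.polyGrading n k) (h j), fun j => rfl, hh1, hh2, ?_, hh3⟩
  rintro z ⟨⟨x, rfl⟩, hz⟩
  obtain ⟨j, hj⟩ := Set.mem_iUnion.1 (hcov hz)
  rw [hh4 j] at hj
  exact Set.mem_iUnion.2 ⟨j, hj⟩


end Groth.Agent.S10939
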