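import Groth.Statements.S10944
import Groth.Agent.Lib.VarDim.Irred
import Mathlib.AlgebraicGeometry.Morphisms.UniversallyOpen

set_option autoImplicit false
universe u
open CategoryTheory AlgebraicGeometry
open FlatMor

set_option backward.isDefEq.respectTransparency.types false

namespace Groth.Agent.S10944


open AlgebraicGeometry CategoryTheory in
theorem exists_max {X : Scheme.{u}} (x : X) :
    ∃ g, g ⤳ x ∧ closure {g} ∈ irreducibleComponents (X : Type u) := by
  obtain ⟨g, hg⟩ := QuasiSober.sober (isIrreducible_irreducibleComponent (x := x)) isClosed_irreducibleComponent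
  exact ⟨g, hg.specializes mem_irreducibleComponent, hg.def.symm ▸ irreducibleComponent_mem_irreducibleComponents x⟩

/-- Let f : X → Y be a flat morphism of Noetherian schemes and Y' an irreducible component of Y. Then
f⁻¹(Y') is the union of the irreducible components Z of X with f(Z) ⊆ Y'. -/
theorem result {X Y : Scheme.{u}}
    [IsNoetherian X] [IsNoetherian Y] (f : X ⟶ Y) [Flat f]
    (Y' : Set ↥Y) (hY' : Y' ∈ irreducibleComponents ↥Y) :
    f.base ⁻¹' Y' = ⋃₀ {Z : Set ↥X | Z ∈ irreducibleComponents ↥X ∧ f.base '' Z ⊆ Y'} := by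
  obtain ⟨η, rfl, hη⟩ := VarDim.exists_generic_of_mem_irreducibleComponents hY'
  ext x
  constructor
  · intro hx
    obtain ⟨x', hx', he⟩ := Flat.generalizingMap f (specializes_iff_mem_closure.2 hx : η ⤳ f x)
    obtain ⟨g, hg, hgc⟩ := exists_max x'
    have hfg : f g = η := hη _ (he ▸ hg.map f.continuous)
    refine ⟨closure {g}, ⟨hgc, ?_⟩, specializes_iff_mem_closure.1 (hg.trans hx')⟩
    refine (image_closure_subset_closure_image f.continuous).trans ?_
    rw [Set.image_singleton, hfg]
  · rintro ⟨Z, ⟨-, hZ⟩, hxZ⟩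
    exact hZ ⟨x, hxZ, rfl⟩

end Groth.Agent.S10944
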