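import Groth.Statements.S10945
-- import your own Groth.Agent.* helpers here

set_option autoImplicit false
set_option backward.isDefEq.respectTransparency false
set_option backward.isDefEq.respectTransparency.types false
universe u
open CategoryTheory CategoryTheory.Limits AlgebraicGeometry Opposite
open Coherent

namespace Groth.Agent.S10945

/-- Let X be a scheme and 0 → F' → F → F'' → 0 a short exact sequence of O_X-modules whose map on global
sections Γ(X, F) → Γ(X, F'') is surjective. If F' and F'' are generated by global sections (each is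
a quotient of a free O_X-module), then F is generated by global sections. -/
theorem result (X : Scheme.{u})
    (S : ShortComplex X.Modules) (hS : S.ShortExact)
    (hsurj : Function.Surjective (S.g.val.app (op ⊤)).hom)
    (h1 : Curv2.IsGloballyGenerated S.X₁) (h3 : Curv2.IsGloballyGenerated S.X₃) :
    Curv2.IsGloballyGenerated S.X₂ := by
  obtain ⟨ι₁, p₁, hp₁⟩ := h1
  obtain ⟨ι₃, p₃, hp₃⟩ := h3
  have hsec : ∀ t : S.X₃.sections, ∃ s : S.X₂.sections, SheafOfModules.sectionsMap S.g s = t := fun t => by
    obtain ⟨a, ha⟩ := hsurj (t.1 (op ⊤))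
    refine ⟨PresheafOfModules.sectionsMk (fun U => (S.X₂.val.map (X := op (⊤ : X.Opens)) (Y := U) (homOfLE (le_top : U.unop ≤ ⊤)).op).hom a) ?_, ?_⟩
    · intro U V f
      rw [← PresheafOfModules.map_comp_apply]
      rfl
    · apply Subtype.ext
      funext U
      exact ((PresheafOfModules.naturality_apply S.g.val (homOfLE (le_top : U.unop ≤ ⊤)).op a).trans
        (congrArg _ ha)).trans (t.2 (homOfLE (le_top : U.unop ≤ ⊤)).op)
  choose lift hlift using fun i => hsec (S.X₃.freeHomEquiv p₃ i)
  let q := S.X₂.freeHomEquiv.symm lift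
  let p := S.X₂.freeHomEquiv.symm (Sum.elim (S.X₂.freeHomEquiv (p₁ ≫ S.f)) lift)
  have hq : q ≫ S.g = p₃ := by
    rw [SheafOfModules.freeHomEquiv_symm_comp]
    exact (Equiv.symm_apply_eq _).2 (funext hlift)
  have hl : SheafOfModules.freeMap Sum.inl ≫ p = p₁ ≫ S.f := by
    apply S.X₂.freeHomEquiv.injective
    funext i
    rw [SheafOfModules.freeHomEquiv_comp_apply, SheafOfModules.freeHomEquiv_freeMap]
    exact SheafOfModules.sectionsMap_freeHomEquiv_symm_freeSection _ _
  have hr : SheafOfModules.freeMap Sum.inr ≫ p = q := by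
    apply S.X₂.freeHomEquiv.injective
    funext i
    rw [SheafOfModules.freeHomEquiv_comp_apply, SheafOfModules.freeHomEquiv_freeMap, Equiv.apply_symm_apply]
    exact SheafOfModules.sectionsMap_freeHomEquiv_symm_freeSection _ _
  refine ⟨ι₁ ⊕ ι₃, p, Preadditive.epi_of_cancel_zero _ fun {Q} k hk => ?_⟩
  have h1 : S.f ≫ k = 0 := by
    rw [← cancel_epi p₁, ← Category.assoc, ← hl, Category.assoc, hk, comp_zero, comp_zero]
  haveI := hS.epi_g
  let k' := hS.exact.desc k h1
  have hk' : k' = 0 := by
    rw [← cancel_epi p₃, comp_zero, ← hq, Category.assoc, hS.exact.g_desc, ← hr, Category.assoc, hk, comp_zero]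
  rw [← hS.exact.g_desc k h1, show hS.exact.desc k h1 = 0 from hk', comp_zero]

end Groth.Agent.S10945
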