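import Groth.Statements.S10947
import Groth.Agent.Lib.RelAmple18.Generation
import Groth.Agent.Lib.CohFound.ModQuot
import Groth.Agent.Lib.CohFound.Qcqs
import Groth.Agent.Lib.CohFound.HHBridge
import Groth.Agent.Lib.CohFound.ModAb
import Groth.Agent.Lib.AmpleImm18.Over
import Groth.Agent.Lib.TensorMod.Dual
import Groth.Agent.Lib.TensorMod.Invertible
import Groth.Agent.Lib.TensorMod.QCohTensor
import Groth.Agent.Lib.ModM1.Coh
import Groth.Agent.Lib.KFlat.FinLocFree
import Groth.Agent.Lib.Twist.ProjSpace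

set_option autoImplicit false
universe u
open CategoryTheory AlgebraicGeometry
open Coherent

namespace Groth.Agent.S10947

/-- Let k be a field and X a quasi-projective scheme over k, given with an immersion ι : X → P^N_k into
a projective space. If n is a natural number with H^i(X, E) = 0 for all finite locally free
O_X-modules E and all i > n, then H^i(X, F) = 0 for all coherent O_X-modules F (quasi-coherent of
finite type) and all i > n. -/
theorem result
    (k : Type u) [Field k] (N : ℕ) {X : Scheme.{u}} (ι : X ⟶ CohB1.ProjSpace N k) [IsImmersion ι]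
    (n : ℕ) (h : ∀ E : X.Modules, FlatMod.IsFinLocFree E → ∀ i : ℕ, n < i → Subsingleton (Coh.HH X E i))
    (F : X.Modules) (hF : Coh.IsCoh F) (i : ℕ) (hi : n < i) :
    Subsingleton (Coh.HH X F i) := by
  haveI : LocallyOfFiniteType (CohB1.ProjSpace.toSpec N k) := inferInstance
  haveI : IsNoetherian (CohB1.ProjSpace N k) := by
    haveI : IsLocallyNoetherian (CohB1.ProjSpace N k) := LocallyOfFiniteType.isLocallyNoetherian (CohB1.ProjSpace.toSpec N k)
    haveI : CompactSpace (CohB1.ProjSpace N k) := QuasiCompact.compactSpace_of_compactSpace (CohB1.ProjSpace.toSpec N k)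
    exact {}
  haveI : IsLocallyNoetherian X := LocallyOfFiniteType.isLocallyNoetherian ι
  haveI : TopologicalSpace.NoetherianSpace X := ι.isEmbedding.isInducing.noetherianSpace
  haveI : CompactSpace X := inferInstance
  let L := (Scheme.Modules.pullback ι).obj (_root_.Twist.twistProjSpace N k 1)
  have hamp : CohB1.IsAmple L := Amp.isAmple_pullback_of_isInducing ι ι.isEmbedding.isInducing
    (Twist.isAmple_twist (CohB1.polyGrading N k) _ (fun i => ProjSpace.X_mem' N k i)
      (ProjSpace.irrelevant_le_span N k) (d := 1) one_pos)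
  have hepi : ∀ G : X.Modules, Coh.IsCoh G → ∃ (E : X.Modules) (p : E ⟶ G), FlatMod.IsFinLocFree E ∧ Epi p := by
    intro G hG
    obtain ⟨m, hm⟩ := RA.exists_globallyGenerated hamp G hG.1 hG.2
    have hT : PicF.IsInvertible (CohB1.tensorPow L m) := M2.isInvertible_tensorPow hamp.1 m
    obtain ⟨D, hD, ⟨e⟩⟩ := M2.exists_inverse hT
    have hTc : Coh.IsCoh (CohB1.tensorPow L m) :=
      (M1.isCoh_iff_isFP _).2 (M1.isFP_of_isFinLocFree (M2.isFinLocFree_of_isInvertible hT))
    have hGc : Coh.IsCoh (CohB1.tensorMod G (CohB1.tensorPow L m)) :=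
      ⟨M2.isQCoh_tensor hG.1 hTc.1, M2.isFT_tensor hG.1 hTc.1 hG.2 hTc.2⟩
    obtain ⟨r, p, hp⟩ := CohFound.exists_epi_freeMod hGc (hm m le_rfl)
    haveI := CohFound.epi_tensorMap p D
    let e' : CohB1.tensorMod (CohB1.tensorMod G (CohB1.tensorPow L m)) D ≅ G :=
      M2.tensorAssoc G (CohB1.tensorPow L m) D ≪≫ M2.tensorIso (Iso.refl G) e ≪≫ M2.tensorRUnit G
    exact ⟨CohB1.tensorMod (FlatMod.freeMod X r) D, M2.tensorMap p (𝟙 D) ≫ e'.hom,
      M2.isFinLocFree_tensor (KFlat.Sch.isFinLocFree_freeMod X r) (M2.isFinLocFree_of_isInvertible hD), inferInstance⟩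
  obtain ⟨d, hd⟩ := CohFound.exists_vanishing_bound_compact (X := X) (U := ⊤) isCompact_univ
  suffices key : ∀ (t : ℕ) (G : X.Modules), Coh.IsCoh G → ∀ j : ℕ, n < j → d ≤ j + t → Subsingleton (Coh.HH X G j) from
    key d F hF i hi (by omega)
  intro t
  induction t with
  | zero =>
    intro G hG j _ hj
    rw [CohFound.subsingleton_HH_iff]
    exact hd G hG.1 j hj
  | succ t ih =>
    intro G hG j hnj hj
    obtain ⟨E, p, hE, hp⟩ := hepi G hG
    have hEc : Coh.IsCoh E := (M1.isCoh_iff_isFP _).2 (M1.isFP_of_isFinLocFree hE)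
    have hK := ih (Limits.kernel p) (M1.isCoh_kernel hEc hG.1 p) (j + 1) (by omega) (by omega)
    have hE' := h E hE j hnj
    rw [CohFound.subsingleton_HH_iff] at hK hE' ⊢
    let S := ShortComplex.mk (Limits.kernel.ι p) p (Limits.kernel.condition p)
    have hS : S.ShortExact :=
      { exact := ShortComplex.exact_of_f_is_kernel S (Limits.kernelIsKernel p) }
    have hS' := CohFound.shortExact_abF hS
    refine subsingleton_of_forall_eq 0 fun x => ?_
    obtain ⟨y, hy⟩ := CohFound.exact₃ hS' j ⊤ x (@Subsingleton.elim _ hK _ _)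
    rw [← hy, @Subsingleton.elim _ hE' y 0]
    exact map_zero _

end Groth.Agent.S10947
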