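import Groth.Statements.S4350
import Groth.Agent.Lib.ModM1.Stalk
import Mathlib.AlgebraicGeometry.FunctionField
import Mathlib.LinearAlgebra.FreeModule.StrongRankCondition

set_option autoImplicit false
universe u
open TorSh

namespace Groth.Agent.S4350

set_option backward.isDefEq.respectTransparency.types false

open CategoryTheory AlgebraicGeometry TopologicalSpace Opposite

variable (X : Scheme.{u}) [IsIntegral X]

/-- A function of the generic stalk, as a section of the direct image of the structure sheaf of `Spec` of it. -/
noncomputable def spread (U : X.Opens) :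
    (X.presheaf.stalk (genericPoint X) : CommRingCat.{u}) ⟶
      Γ(Spec (X.presheaf.stalk (genericPoint X)), X.fromSpecStalk (genericPoint X) ⁻¹ᵁ U) :=
  (Scheme.ΓSpecIso _).inv ≫ (Spec (X.presheaf.stalk (genericPoint X))).presheaf.map (homOfLE le_top).op

theorem spread_res {U V : X.Opens} (h : V ≤ U) (c : X.presheaf.stalk (genericPoint X)) :
    (Spec (X.presheaf.stalk (genericPoint X))).presheaf.map
      (homOfLE ((Opens.map (X.fromSpecStalk (genericPoint X)).base).monotone h)).op (spread X U c) = spread X V c := by
  rw [← CommRingCat.comp_apply, spread, Category.assoc, ← Functor.map_comp]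
  rfl

theorem spread_germ (U : X.Opens) (hη : genericPoint X ∈ U) (r : Γ(X, U)) :
    (X.fromSpecStalk (genericPoint X)).app U r = spread X U (X.presheaf.germ U _ hη r) := by
  rw [Scheme.fromSpecStalk_app hη]
  rfl

theorem mem_of_nonempty (U : X.Opens) (x : X) (hx : x ∈ U) : genericPoint X ∈ U :=
  ((genericPoint_spec X).mem_open_set_iff U.isOpen).mpr ⟨x, trivial, hx⟩

theorem spread_injective (U : X.Opens) (hη : genericPoint X ∈ U) : Function.Injective (spread X U) := by
  have hK : IsField (X.presheaf.stalk (genericPoint X)) := (Field.toIsField X.functionField)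
  haveI : Subsingleton (Spec (X.presheaf.stalk (genericPoint X))) := by
    let _ := hK.toField
    exact inferInstanceAs (Subsingleton (PrimeSpectrum (X.presheaf.stalk (genericPoint X))))
  have htop : X.fromSpecStalk (genericPoint X) ⁻¹ᵁ U = ⊤ := by
    refine eq_top_iff.2 fun p _ => ?_
    rw [Subsingleton.elim p (IsLocalRing.closedPoint _)]
    show X.fromSpecStalk (genericPoint X) (IsLocalRing.closedPoint _) ∈ U
    rwa [Scheme.fromSpecStalk_closedPoint]
  haveI : IsIso (spread X U) := by
    haveI : IsIso ((Spec (X.presheaf.stalk (genericPoint X))).presheaf.map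
        (homOfLE (le_top : X.fromSpecStalk (genericPoint X) ⁻¹ᵁ U ≤ ⊤)).op) := by
      haveI : IsIso (homOfLE (le_top : X.fromSpecStalk (genericPoint X) ⁻¹ᵁ U ≤ ⊤)) :=
        ⟨homOfLE htop.ge, Subsingleton.elim _ _, Subsingleton.elim _ _⟩
      infer_instance
    unfold spread; infer_instance
  exact (ConcreteCategory.bijective_of_isIso (spread X U)).1

open scoped Classical in
/-- The map on sections. -/
noncomputable def mapSec (F : X.Modules)
    (ℓ : F.presheaf.stalk (genericPoint X) →ₗ[X.presheaf.stalk (genericPoint X)] X.presheaf.stalk (genericPoint X))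
    (U : X.Opens) (s : Γ(F, U)) : Γ(Spec (X.presheaf.stalk (genericPoint X)), X.fromSpecStalk (genericPoint X) ⁻¹ᵁ U) :=
  if h : genericPoint X ∈ U then spread X U (ℓ (F.presheaf.germ U _ h s)) else 0

theorem subsingleton_of_notMem (U : X.Opens) (h : genericPoint X ∉ U) :
    Subsingleton Γ(Spec (X.presheaf.stalk (genericPoint X)), X.fromSpecStalk (genericPoint X) ⁻¹ᵁ U) := by
  have hbot : X.fromSpecStalk (genericPoint X) ⁻¹ᵁ U = ⊥ := by
    ext p
    exact ⟨fun hp => h (mem_of_nonempty X U _ hp), fun hp => hp.elim⟩
  exact CommRingCat.subsingleton_of_isTerminal (Scheme.sheaf _ |>.isTerminalOfEqEmpty hbot)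

theorem exists_mono_of_linear (F : X.Modules) [Coh.IsQCoh F] (hF : TorSh.IsTorsionFree F)
    (ℓ : F.presheaf.stalk (genericPoint X) →ₗ[X.presheaf.stalk (genericPoint X)] X.presheaf.stalk (genericPoint X))
    (hℓ : Function.Injective ℓ) :
    ∃ i : F ⟶ (Scheme.Modules.pushforward (X.fromSpecStalk (genericPoint X))).obj
        (Coh.structureModule (Spec (X.presheaf.stalk (genericPoint X)))), Mono i := by
  classical
  let P := (Scheme.Modules.pushforward (X.fromSpecStalk (genericPoint X))).obj
    (Coh.structureModule (Spec (X.presheaf.stalk (genericPoint X))))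
  let app : ∀ U : X.Opens, Γ(F, U) →+ Γ(P, U) := fun U =>
    AddMonoidHom.mk' (mapSec X F ℓ U) fun s t => by
      unfold mapSec
      split_ifs with h
      · show spread X U _ = spread X U _ + spread X U _
        rw [map_add, map_add, map_add]
      · exact (zero_add _).symm
  let φ : F.presheaf ⟶ P.presheaf :=
    { app := fun U => AddCommGrpCat.ofHom (app U.unop)
      naturality := fun {U V} i => by
        ext s
        show mapSec X F ℓ V.unop (F.presheaf.map i s) =
          (Spec (X.presheaf.stalk (genericPoint X))).presheaf.map
            ((Opens.map (X.fromSpecStalk (genericPoint X)).base).map i.unop).op (mapSec X F ℓ U.unop s)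
        by_cases h : genericPoint X ∈ V.unop
        · have hU : genericPoint X ∈ U.unop := i.unop.le h
          simp only [mapSec, dif_pos h, dif_pos hU]
          rw [show F.presheaf.germ V.unop _ h (F.presheaf.map i s) = F.presheaf.germ U.unop _ hU s from
            TopCat.Presheaf.germ_res_apply F.presheaf i.unop _ h s]
          exact (spread_res X i.unop.le _).symm
        · haveI := subsingleton_of_notMem X V.unop h
          exact Subsingleton.elim _ _ }
  let i : F ⟶ P := ⟨PresheafOfModules.homMk φ (fun U r s => by
    show mapSec X F ℓ U.unop (r • s) = (X.fromSpecStalk (genericPoint X)).app U.unop r * mapSec X F ℓ U.unop s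
    by_cases h : genericPoint X ∈ U.unop
    · simp only [mapSec, dif_pos h]
      rw [spread_germ X U.unop h, ← map_mul]
      refine congrArg _ ?_
      exact (congrArg ℓ (Groth.Agent.M1.germ_smul F h r s)).trans (ℓ.map_smul _ _)
    · haveI := subsingleton_of_notMem X U.unop h
      exact Subsingleton.elim _ _)⟩
  refine ⟨i, ?_⟩
  suffices h : ∀ U : X.Opens, Function.Injective (i.app U) by
    refine (Scheme.Modules.toPresheaf X).mono_of_mono_map ?_
    haveI : ∀ U, Mono (((Scheme.Modules.toPresheaf X).map i).app U) := fun U =>
      (AddCommGrpCat.mono_iff_injective _).2 (h U.unop)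
    exact NatTrans.mono_of_mono_app _
  intro U
  refine (injective_iff_map_eq_zero _).2 fun s hs => ?_
  have hs' : mapSec X F ℓ U s = 0 := hs
  refine Groth.Agent.M1.section_ext _ _ fun y hy => ?_
  rw [map_zero]
  have hη := mem_of_nonempty X U y hy
  simp only [mapSec, dif_pos hη] at hs'
  have h0 : F.presheaf.germ U _ hη s = 0 := hℓ ((spread_injective X U hη (hs'.trans (map_zero _).symm)).trans (map_zero ℓ).symm)
  obtain ⟨V, hV, hyV, hVU⟩ := exists_isAffineOpen_mem_and_subset (x := y) hy
  have hηV := mem_of_nonempty X V y hyV
  obtain ⟨c, hc, hcs⟩ := Groth.Agent.M1.exists_smul_eq_zero_of_germ_eq_zero F hV hηV (Groth.Agent.M1.mres F hVU s)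
    (by rw [Groth.Agent.M1.germ_mres]; exact h0)
  haveI := hF y
  have hne : X.presheaf.germ V y hyV c ≠ 0 := fun e => by
    have : X.presheaf.germ V _ hηV c = 0 := by
      rw [← TopCat.Presheaf.germ_stalkSpecializes_apply X.presheaf hyV ((genericPoint_spec X).specializes trivial), e, map_zero]
    exact hc.ne_zero this
  have h1 : X.presheaf.germ V y hyV c • F.presheaf.germ U y hy s = 0 := by
    rw [← Groth.Agent.M1.germ_mres F hVU hyV s, ← Groth.Agent.M1.germ_smul, hcs, map_zero]
  exact (Module.IsTorsionFree.isSMulRegular (M := F.presheaf.stalk y)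
    (isRegular_iff_mem_nonZeroDivisors.2 (mem_nonZeroDivisors_of_ne_zero hne))) (h1.trans (smul_zero _).symm)


open AlgebraicGeometry in
open CategoryTheory in
/-- Direct assertion (the sheaf of rational functions of the integral scheme X being the direct image of
the structure sheaf of Spec of the function field under its canonical morphism to X). On an integral
scheme, a quasi-coherent torsion-free O_X-module of rank 1, i.e. whose stalk at the generic point is
one-dimensional over the function field (for instance an invertible module), is isomorphic to a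
sub-O_X-module of the sheaf of rational functions. (The published statement adds a converse, which
for the zero submodule does not hold as stated; it is not included here.) -/
theorem result
    (X : Scheme.{u}) [IsIntegral X] (F : X.Modules) [Coh.IsQCoh F] (hF : TorSh.IsTorsionFree F)
    (h1 : Module.finrank (X.presheaf.stalk (genericPoint X)) (F.presheaf.stalk (genericPoint X)) = 1) :
    ∃ i : F ⟶ (Scheme.Modules.pushforward (X.fromSpecStalk (genericPoint X))).obj
        (Coh.structureModule (Spec (X.presheaf.stalk (genericPoint X)))), Mono i := by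
  let _ : Field (X.presheaf.stalk (genericPoint X)) := inferInstanceAs (Field X.functionField)
  obtain ⟨e⟩ : Nonempty (F.presheaf.stalk (genericPoint X) ≃ₗ[X.presheaf.stalk (genericPoint X)]
      X.presheaf.stalk (genericPoint X)) := by
    haveI : FiniteDimensional (X.presheaf.stalk (genericPoint X)) (F.presheaf.stalk (genericPoint X)) :=
      Module.finite_of_finrank_eq_succ h1
    exact ⟨LinearEquiv.ofFinrankEq _ _ (h1.trans (Module.finrank_self _).symm)⟩
  exact exists_mono_of_linear X F hF e.toLinearMap e.injective

end Groth.Agent.S4350
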