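import Groth.Statements.S10948
import Groth.Agent.S4350
import Groth.Agent.Lib.ModM1.LocFree
import Groth.Agent.Lib.ModM1.Exact
import Groth.Agent.Lib.ModM1.Push
import Groth.Agent.Lib.CurveCoh17.Bases
import Groth.Agent.Lib.FitGen26.Basic
import Mathlib.AlgebraicGeometry.Morphisms.QuasiFinite

set_option autoImplicit false
universe u
open CategoryTheory AlgebraicGeometry
open Coherent

namespace Groth.Agent.S10948

set_option backward.isDefEq.respectTransparency.types false
set_option linter.style.haveILetI false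

open TopologicalSpace Opposite Limits

theorem spread_bijective (X : Scheme.{u}) [IsIntegral X] (U : X.Opens) (hη : genericPoint X ∈ U) :
    Function.Bijective (S4350.spread X U) := by
  haveI : Subsingleton (Spec (X.presheaf.stalk (genericPoint X))) := by
    let _ := (Field.toIsField X.functionField : IsField (X.presheaf.stalk (genericPoint X))).toField
    exact inferInstanceAs (Subsingleton (PrimeSpectrum (X.presheaf.stalk (genericPoint X))))
  have htop : X.fromSpecStalk (genericPoint X) ⁻¹ᵁ U = ⊤ := by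
    refine eq_top_iff.2 fun p _ => ?_
    rw [Subsingleton.elim p (IsLocalRing.closedPoint _)]
    show X.fromSpecStalk (genericPoint X) (IsLocalRing.closedPoint _) ∈ U
    rwa [Scheme.fromSpecStalk_closedPoint]
  haveI : IsIso (S4350.spread X U) := by
    haveI : IsIso ((Spec (X.presheaf.stalk (genericPoint X))).presheaf.map
        (homOfLE (le_top : X.fromSpecStalk (genericPoint X) ⁻¹ᵁ U ≤ ⊤)).op) := by
      haveI : IsIso (homOfLE (le_top : X.fromSpecStalk (genericPoint X) ⁻¹ᵁ U ≤ ⊤)) :=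
        ⟨homOfLE htop.ge, Subsingleton.elim _ _, Subsingleton.elim _ _⟩
      infer_instance
    unfold S4350.spread; infer_instance
  exact ConcreteCategory.bijective_of_isIso (S4350.spread X U)

/-- The sheaf of rational functions. -/
noncomputable abbrev ratConst (X : Scheme.{u}) [IsIntegral X] : X.Modules :=
  (Scheme.Modules.pushforward (X.fromSpecStalk (genericPoint X))).obj
    (Coh.structureModule (Spec (X.presheaf.stalk (genericPoint X))))

theorem main {X Y : Scheme.{u}} [IsIntegral X] [IsNoetherian X] [IsIntegral Y] [IsNoetherian Y]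
    (f : X ⟶ Y) [IsFinite f] (hy : IsField (Y.presheaf.stalk (f (genericPoint X)))) :
    ∃ (r : ℕ) (M : X.Modules) (α : (SheafOfModules.free (ULift.{u} (Fin r)) : Y.Modules) ⟶
        (Scheme.Modules.pushforward f).obj M),
      0 < r ∧ Coh.IsCoh M ∧ Function.Bijective ((M1.stalkAb (f (genericPoint X))).map α) := by
  classical
  set ξ := genericPoint X
  set y := f ξ
  letI := hy.toField
  letI : Algebra (Y.presheaf.stalk y) (X.presheaf.stalk ξ) := (f.stalkMap ξ).hom.toAlgebra
  haveI : Algebra.QuasiFinite (Y.presheaf.stalk y) (X.presheaf.stalk ξ) := f.quasiFiniteAt ξ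
  haveI : Module.Finite (Y.presheaf.stalk y) (X.presheaf.stalk ξ) := Module.Finite.of_quasiFinite
  let r := Module.finrank (Y.presheaf.stalk y) (X.presheaf.stalk ξ)
  let b := Module.finBasis (Y.presheaf.stalk y) (X.presheaf.stalk ξ)
  let P := ratConst X
  let σ : ULift.{u} (Fin r) → Γ(P, ⊤) := fun i => S4350.spread X ⊤ (b i.down)
  let a : M1.fr (ULift.{u} (Fin r)) ⟶ P := M1.freeHom σ
  haveI : QuasiCompact (X.fromSpecStalk ξ) := inferInstance
  haveI : QuasiSeparated (X.fromSpecStalk ξ) := inferInstance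
  have hP : Coh.IsQCoh P := M1.isQCoh_push _ (M1.isCoh_structureModule _).1
  have hfr : Coh.IsCoh (M1.fr (ULift.{u} (Fin r)) : X.Modules) := (M1.isCoh_iff_isFP _).2 (M1.isFP_fr _ _)
  let M : X.Modules := Abelian.coimage a
  have hM : Coh.IsCoh M := M1.isCoh_cokernel (M1.isQCoh_kernel hfr.1 hP a) hfr _
  let m : M ⟶ P := Abelian.factorThruCoimage a
  let s : ULift.{u} (Fin r) → Γ(M, ⊤) := fun i => M1.freeSec (Abelian.coimage.π a) i
  let α : M1.fr (ULift.{u} (Fin r)) ⟶ (Scheme.Modules.pushforward f).obj M :=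
    M1.freeHom fun i => (s i : Γ(M, f ⁻¹ᵁ ⊤))
  let fP := (Scheme.Modules.pushforward f).obj P
  let fm : (Scheme.Modules.pushforward f).obj M ⟶ fP := (Scheme.Modules.pushforward f).map m
  haveI : Mono fm := Functor.map_mono _ _
  have hms : ∀ i, m.app ⊤ (s i) = σ i := fun i => by
    show ((M1.ιF i ≫ Abelian.coimage.π a) ≫ m).app ⊤ (M1.one ⊤) = σ i
    rw [Category.assoc, Abelian.coimage.fac, M1.ιF_freeHom, M1.secHom_app_one]
  have hgen : ∀ i, (α ≫ fm).app ⊤ ((M1.ιF i).app ⊤ (M1.one ⊤)) = (σ i : Γ(fP, ⊤)) := fun i => by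
    show ((M1.ιF i ≫ α) ≫ fm).app ⊤ (M1.one ⊤) = _
    rw [M1.ιF_freeHom, Scheme.Modules.Hom.comp_app, CategoryTheory.comp_apply, M1.secHom_app_one]
    exact hms i
  have key : ∀ (V : Y.Opens) (hV : y ∈ V) (c : Γ(Y, V)) (w : X.presheaf.stalk ξ),
      c • (show Γ(fP, V) from S4350.spread X (f ⁻¹ᵁ V) w) =
        (show Γ(fP, V) from S4350.spread X (f ⁻¹ᵁ V) (Y.presheaf.germ V y hV c • w)) := fun V hV c w => by
    show (X.fromSpecStalk ξ).app (f ⁻¹ᵁ V) (f.app V c) * S4350.spread X (f ⁻¹ᵁ V) w = _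
    rw [S4350.spread_germ X (f ⁻¹ᵁ V) hV, ← map_mul, Algebra.smul_def]
    congr 2
    exact (Scheme.Hom.germ_stalkMap_apply f V ξ hV c).symm
  let T : Type u := fP.presheaf.stalk y
  let g : Fin r → T := fun i => fP.presheaf.germ ⊤ y trivial (σ ⟨i⟩ : Γ(fP, ⊤))
  have hg : ∀ (V : Y.Opens) (hV : y ∈ V) (i : Fin r),
      g i = fP.presheaf.germ V y hV (show Γ(fP, V) from S4350.spread X (f ⁻¹ᵁ V) (b i)) := fun V hV i => by
    refine (M1.germ_mres fP (le_top : V ≤ ⊤) hV _).symm.trans ?_
    exact congrArg _ (S4350.spread_res X ((Opens.map f.base).monotone (le_top : V ≤ ⊤)) (b i))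
  have hlin : ∀ (V : Y.Opens) (hV : y ∈ V) (c : Fin r → Γ(Y, V)),
      ∑ i, Y.presheaf.germ V y hV (c i) • g i =
        fP.presheaf.germ V y hV (show Γ(fP, V) from
          S4350.spread X (f ⁻¹ᵁ V) (∑ i, Y.presheaf.germ V y hV (c i) • b i)) := fun V hV c => by
    rw [map_sum]
    refine ((map_sum (fP.presheaf.germ V y hV).hom _ _).trans (Finset.sum_congr rfl fun i _ => ?_)).symm
    refine (congrArg _ (key V hV (c i) (b i)).symm).trans ?_
    exact (M1.germ_smul fP hV _ _).trans (congrArg _ (hg V hV i).symm)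
  have hrep : ∀ c : Fin r → Y.presheaf.stalk y, ∃ (V : Y.Opens) (hV : y ∈ V) (d : Fin r → Γ(Y, V)),
      ∀ i, Y.presheaf.germ V y hV (d i) = c i := fun c => by
    choose V hV d hd using fun i => Y.presheaf.exists_germ_eq (c i)
    let W : Y.Opens := ⟨⋂ i, (V i : Set Y), isOpen_iInter_of_finite fun i => (V i).2⟩
    have hW : y ∈ W := Set.mem_iInter.2 hV
    exact ⟨W, hW, fun i => Y.presheaf.map (homOfLE (show W ≤ V i from Set.iInter_subset _ i)).op (d i),
      fun i => (TopCat.Presheaf.germ_res_apply _ _ _ hW _).trans (hd i)⟩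
  have hinj : ∀ c : Fin r → Y.presheaf.stalk y, ∑ i, c i • g i = 0 → c = 0 := fun c hc => by
    obtain ⟨V, hV, d, hd⟩ := hrep c
    have h := (hlin V hV d).symm.trans ((Finset.sum_congr rfl fun i _ => by rw [hd]).trans hc)
    obtain ⟨W, hW, i₁, i₂, e⟩ := fP.presheaf.germ_eq y hV hV _ 0 (h.trans (map_zero _).symm)
    rw [map_zero] at e
    have e' : S4350.spread X (f ⁻¹ᵁ W) (∑ i, Y.presheaf.germ V y hV (d i) • b i) = 0 :=
      (S4350.spread_res X ((Opens.map f.base).monotone i₁.le) _).symm.trans e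
    have h0 := (spread_bijective X (f ⁻¹ᵁ W) hW).1 (e'.trans (map_zero _).symm)
    simp only [hd] at h0
    funext i
    exact Fintype.linearIndependent_iff.1 b.linearIndependent c h0 i
  have hsurj : ∀ t : T, ∃ c : Fin r → Y.presheaf.stalk y, ∑ i, c i • g i = t := fun t => by
    obtain ⟨V, hV, t, rfl⟩ := fP.presheaf.exists_germ_eq t
    obtain ⟨w, hw⟩ := (spread_bijective X (f ⁻¹ᵁ V) hV).2 t
    obtain ⟨V', hV', d, hd⟩ := hrep fun i => b.repr w i
    refine ⟨fun i => b.repr w i, ?_⟩
    let W := V ⊓ V'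
    have hW : y ∈ W := ⟨hV, hV'⟩
    let d' : Fin r → Γ(Y, W) := fun i => Y.presheaf.map (homOfLE (inf_le_right : W ≤ V')).op (d i)
    have hd' : ∀ i, Y.presheaf.germ W y hW (d' i) = b.repr w i := fun i =>
      (TopCat.Presheaf.germ_res_apply _ _ _ hW _).trans (hd i)
    have h := hlin W hW d'
    simp only [hd'] at h
    rw [show (∑ i, (b.repr w) i • b i) = w from b.sum_repr w] at h
    rw [h, ← hw, ← M1.germ_mres fP (inf_le_left : W ≤ V) hW]
    exact congrArg _ (S4350.spread_res X ((Opens.map f.base).monotone (inf_le_left : W ≤ V)) w).symm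
  let φ := RefHull.stalkMapₗ (α ≫ fm) y
  have hφg : ∀ i : Fin r, φ ((M1.fr (ULift.{u} (Fin r)) : Y.Modules).presheaf.germ ⊤ y trivial
      ((M1.ιF ⟨i⟩).app ⊤ (M1.one ⊤))) = g i := fun i => by
    rw [RefHull.stalkMapₗ_germ, hgen]
  have hsurj' : Function.Surjective φ := fun t => by
    obtain ⟨c, hc⟩ := hsurj t
    refine ⟨∑ i, c i • (M1.fr (ULift.{u} (Fin r)) : Y.Modules).presheaf.germ ⊤ y trivial
      ((M1.ιF ⟨i⟩).app ⊤ (M1.one ⊤)), ?_⟩
    rw [map_sum]
    simp only [map_smul, hφg, hc]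
  obtain ⟨e⟩ := CurveCoh17.nonempty_stalk_equiv (M2.isFinLocFreeOfRank_freeMod Y r) y
  let e' := ((RefHull.stalkMapₗ (M1.freeModFrIso Y r).inv y))
  have he' : Function.Bijective e' := (M1.isIso_iff_stalk _).1 inferInstance y
  let L : (Fin r → Y.presheaf.stalk y) ≃ₗ[Y.presheaf.stalk y] T :=
    LinearEquiv.ofBijective (Fintype.linearCombination (Y.presheaf.stalk y) g)
      ⟨(injective_iff_map_eq_zero _).2 fun c hc => hinj c hc, fun t => hsurj t⟩
  let E := (LinearEquiv.ofBijective e' he').trans (e.trans L)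
  have hbij : Function.Bijective φ := by
    haveI : Module.Finite (Y.presheaf.stalk y) T := Module.Finite.equiv L
    have h := OrzechProperty.bijective_of_surjective_endomorphism (φ ∘ₗ E.symm.toLinearMap)
      (hsurj'.comp E.symm.surjective)
    have h' := h.comp E.bijective
    rwa [show ⇑(φ ∘ₗ E.symm.toLinearMap) ∘ ⇑E = ⇑φ from funext fun x => congrArg φ (E.symm_apply_apply x)] at h'
  have hcomp : ⇑((M1.stalkAb y).map fm) ∘ ⇑((M1.stalkAb y).map α) = ⇑φ := by
    funext x
    exact (ConcreteCategory.congr_hom ((M1.stalkAb y).map_comp α fm) x).symm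
  have hfm := (M1.mono_iff_stalk fm).1 inferInstance y
  refine ⟨r, M, α, Module.finrank_pos, hM, ⟨fun x x' h => hbij.1 ?_, fun t => ?_⟩⟩
  · rw [← hcomp]; exact congrArg ((M1.stalkAb y).map fm) h
  · obtain ⟨x, hx⟩ := hbij.2 ((M1.stalkAb y).map fm t)
    exact ⟨x, hfm (by rw [← hx, ← hcomp]; rfl)⟩


/-- Let f : X → Y be a finite surjective morphism of integral Noetherian schemes. Then there are an
integer r ≥ 1, a coherent O_X-module M (quasi-coherent of finite type) and a morphism of O_Y-modules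
α : O_Y^r → f_*M (O_Y^r the free O_Y-module on r generators) such that the map induced by α on
stalks of the underlying abelian sheaves at the generic point of Y is an isomorphism. -/
theorem result
    {X Y : Scheme.{u}} [IsIntegral X] [IsNoetherian X] [IsIntegral Y] [IsNoetherian Y]
    (f : X ⟶ Y) [IsFinite f] [Surjective f] :
    ∃ (r : ℕ) (M : X.Modules) (α : (SheafOfModules.free (ULift.{u} (Fin r)) : Y.Modules) ⟶
        (Scheme.Modules.pushforward f).obj M),
      0 < r ∧ Coh.IsCoh M ∧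
      IsIso ((TopCat.Presheaf.stalkFunctor AddCommGrpCat.{u} (genericPoint ↥Y)).map
        ((SheafOfModules.toSheaf Y.ringCatSheaf).map α).hom) := by
  have hgen : f (genericPoint X) = genericPoint Y := by
    have h := (genericPoint_spec X).image f.continuous
    rw [Set.image_univ, f.surjective.range_eq, closure_univ] at h
    exact h.eq (genericPoint_spec Y)
  have hy : IsField (Y.presheaf.stalk (f (genericPoint X))) := by
    rw [hgen]; exact Field.toIsField Y.functionField
  obtain ⟨r, M, α, hr, hM, h⟩ := main f hy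
  refine ⟨r, M, α, hr, hM, ?_⟩
  rw [← hgen]
  exact (ConcreteCategory.isIso_iff_bijective _).2 h

end Groth.Agent.S10948
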