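import Groth.Statements.S10949
import Groth.Agent.Lib.GenPush19.Basic
import Groth.Agent.S10948
-- import your own Groth.Agent.* helpers here

set_option autoImplicit false
universe u
open CategoryTheory CategoryTheory.Limits AlgebraicGeometry
open Coherent

namespace Groth.Agent.S10949

set_option linter.style.haveILetI false
set_option backward.isDefEq.respectTransparency.types false

open IdealMulL CohFound

theorem sigma_total {C : Type*} [Category C] [Preadditive C] {Q : C} {ι : Type*} [Fintype ι] [DecidableEq ι]
    [HasCoproduct fun _ : ι => Q] :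
    ∑ i, Sigma.desc (fun j : ι => if j = i then 𝟙 Q else 0) ≫ Sigma.ι (fun _ : ι => Q) i =
      𝟙 (∐ fun _ : ι => Q) := by
  refine Sigma.hom_ext _ _ fun j => ?_
  rw [Preadditive.comp_sum, Category.comp_id, Finset.sum_eq_single j]
  · rw [colimit.ι_desc_assoc]; simp
  · intro i _ hij
    rw [colimit.ι_desc_assoc]
    simp [Ne.symm hij]
  · exact fun h => absurd (Finset.mem_univ j) h

theorem sigma_id {C : Type*} [Category C] [Preadditive C] {Q : C} {ι : Type*} [DecidableEq ι]
    [HasCoproduct fun _ : ι => Q] (i : ι) :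
    Sigma.ι (fun _ : ι => Q) i ≫ Sigma.desc (fun j : ι => if j = i then 𝟙 Q else 0) = 𝟙 Q := by
  simp

theorem sigma_zero {C : Type*} [Category C] [Preadditive C] {Q : C} {ι : Type*} [DecidableEq ι]
    [HasCoproduct fun _ : ι => Q] (i j : ι) (h : i ≠ j) :
    Sigma.ι (fun _ : ι => Q) i ≫ Sigma.desc (fun k : ι => if k = j then 𝟙 Q else 0) = 0 := by
  simp [h]


set_option linter.style.haveILetI false
set_option backward.isDefEq.respectTransparency.types false


/-- Let f : X → Y be a finite surjective morphism of integral Noetherian schemes and F a coherent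
O_Y-module (quasi-coherent of finite type). Then there are an integer r ≥ 1, a coherent O_X-module G
and a morphism of O_Y-modules β : f_*G → F^r (the coproduct of r copies of F) such that the map
induced by β on stalks of the underlying abelian sheaves at the generic point of Y is an
isomorphism. -/
theorem result
    {X Y : Scheme.{u}} [IsIntegral X] [IsNoetherian X] [IsIntegral Y] [IsNoetherian Y]
    (f : X ⟶ Y) [IsFinite f] [Surjective f] (F : Y.Modules) (hF : Coh.IsCoh F) :
    ∃ (r : ℕ) (G : X.Modules) (β : (Scheme.Modules.pushforward f).obj G ⟶ ∐ fun _ : ULift.{u} (Fin r) => F),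
      0 < r ∧ Coh.IsCoh G ∧
      IsIso ((TopCat.Presheaf.stalkFunctor AddCommGrpCat.{u} (genericPoint ↥Y)).map
        ((SheafOfModules.toSheaf Y.ringCatSheaf).map β).hom) := by
  classical
let η := genericPoint Y
have hy : IsField (Y.presheaf.stalk η) := Field.toIsField Y.functionField
letI := hy.toField
obtain ⟨r, M, α, hr, hM, hα⟩ := S10948.result f
have hαb : Function.Bijective (stL α η) := (ConcreteCategory.isIso_iff_bijective _).1 hα
have hdM : Module.finrank (Y.presheaf.stalk η)
    (((Scheme.Modules.pushforward f).obj M).presheaf.stalk η) = r := by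
  obtain ⟨e⟩ := CurveCoh17.nonempty_stalk_equiv (M2.isFinLocFreeOfRank_freeMod Y r) η
  let e₁ := LinearEquiv.ofBijective (stL (M1.freeModFrIso Y r).inv η)
    ((M1.isIso_iff_stalk _).1 inferInstance η)
  let e₂ := LinearEquiv.ofBijective (stL α η) hαb
  exact ((e₂.symm.trans e₁).trans e).finrank_eq.trans (Module.finrank_fin_fun _)
haveI := M1.finite_stalk hF.1 hF.2 η
have hA := Cyc26.isCoh_push_finite f hM
haveI : Module.Finite (Y.presheaf.stalk η) (((Scheme.Modules.pushforward f).obj M).presheaf.stalk η) :=
  M1.finite_stalk hA.1 hA.2 η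
let m := Module.finrank (Y.presheaf.stalk η) (F.presheaf.stalk η)
let T := ∐ fun _ : ULift.{u} (Fin r) => F
haveI : HasFiniteBiproducts Y.Modules := Abelian.hasFiniteBiproducts
let eT : (∐ fun _ : Fin r => F) ≅ T :=
  Sigma.whiskerEquiv Equiv.ulift.symm fun _ => Iso.refl F
have hT : Coh.IsCoh T := ⟨M1.isQCoh_of_isIso eT (CohGab13.isCoh_sigma hF r).1,
  M1.isFT_of_isIso eT (CohGab13.isCoh_sigma hF r).2⟩
have hdT : Module.finrank (Y.presheaf.stalk η) (T.presheaf.stalk η) = r * m := by
  rw [GenPush19.finrank_stalk_biprod (Q := F) (Sigma.ι fun _ : ULift.{u} (Fin r) => F)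
    (fun i => Sigma.desc fun j => if j = i then 𝟙 F else 0) sigma_id sigma_zero sigma_total η hy,
    Fintype.card_ulift, Fintype.card_fin]
let M' := ∐ fun _ : Fin m => M
have hM' : Coh.IsCoh M' := CohGab13.isCoh_sigma hM m
let P := Scheme.Modules.pushforward f
haveI : P.Additive := inferInstance
have hdM' : Module.finrank (Y.presheaf.stalk η) ((P.obj M').presheaf.stalk η) = m * r := by
  rw [GenPush19.finrank_stalk_biprod (Q := P.obj M) (fun i => P.map (Sigma.ι (fun _ : Fin m => M) i))
    (fun i => P.map (Sigma.desc fun j => if j = i then 𝟙 M else 0))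
    (fun i => by rw [← P.map_comp, sigma_id, P.map_id])
    (fun i j h => by rw [← P.map_comp, sigma_zero i j h, P.map_zero])
    (by simp only [← P.map_comp, ← P.map_sum, sigma_total, P.map_id]) η hy,
    Fintype.card_fin, hdM]
obtain ⟨G, β, hG, hβ⟩ := GenPush19.exists_push_hom f hM' hT η hy (by rw [hdM', hdT, mul_comm])
exact ⟨r, G, β, hr, hG, (ConcreteCategory.isIso_iff_bijective _).2 hβ⟩

end Groth.Agent.S10949
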