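import Groth.Statements.S10953
import Mathlib.AlgebraicGeometry.Morphisms.Immersion

set_option autoImplicit false
universe u
open RedSep

namespace Groth.Agent.S10953

open AlgebraicGeometry CategoryTheory in
/-- For a morphism of schemes f : X → S to an affine scheme S such that any two points of X with the
same image in S lie in one common affine open subset of X, the morphism f is separated. -/
theorem result {X S : Scheme.{u}} [IsAffine S] (f : X ⟶ S)
    (h : ∀ x y : X, f x = f y → ∃ U : X.Opens, IsAffineOpen U ∧ x ∈ U ∧ y ∈ U) :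
    IsSeparated f := by
  open Limits in
  refine ⟨IsClosedImmersion.of_isPreimmersion _ (isClosed_of_closure_subset fun z hz => ?_)⟩
  have hxy : f (pullback.fst f f z) = f (pullback.snd f f z) := by
    rw [← Scheme.Hom.comp_apply, pullback.condition, Scheme.Hom.comp_apply]
  obtain ⟨U, hU, hxU, hyU⟩ := h _ _ hxy
  have : IsAffine U.toScheme := hU
  let q : pullback (U.ι ≫ f) (U.ι ≫ f) ⟶ pullback f f :=
    pullback.map _ _ _ _ U.ι U.ι (𝟙 S) (by simp) (by simp)
  have : IsOpenImmersion q := by
    dsimp only [q]; infer_instance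
  have hq : Set.range q = (pullback.fst f f) ⁻¹' (U : Set X) ∩ (pullback.snd f f) ⁻¹' (U : Set X) := by
    simp [q, Scheme.Pullback.range_map]
  have hc : pullback.diagonal (U.ι ≫ f) ≫ q = U.ι ≫ pullback.diagonal f := by
    apply pullback.hom_ext
    · rw [Category.assoc, pullback.lift_fst, pullback.diagonal_fst_assoc, Category.assoc,
        pullback.diagonal_fst, Category.comp_id]
    · rw [Category.assoc, pullback.lift_snd, pullback.diagonal_snd_assoc, Category.assoc,
        pullback.diagonal_snd, Category.comp_id]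
  obtain ⟨w, rfl⟩ : z ∈ Set.range q := hq ▸ ⟨hxU, hyU⟩
  have hsub : q ⁻¹' Set.range (pullback.diagonal f) ⊆ Set.range (pullback.diagonal (U.ι ≫ f)) := by
    rintro v ⟨x, hx⟩
    have hv : q v ∈ Set.range q := ⟨v, rfl⟩
    rw [hq, ← hx] at hv
    have hxU' : x ∈ U := by simpa [← Scheme.Hom.comp_apply] using hv.1
    refine ⟨⟨x, hxU'⟩, q.isOpenEmbedding.injective ?_⟩
    refine Eq.trans ?_ hx
    exact congr($hc ⟨x, hxU'⟩)
  have h1 : w ∈ closure (q ⁻¹' Set.range (pullback.diagonal f)) := by
    rw [← q.isOpenEmbedding.isOpenMap.preimage_closure_eq_closure_preimage q.continuous]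
    exact hz
  have h2 := closure_mono hsub h1
  rw [(pullback.diagonal (U.ι ≫ f)).isClosedEmbedding.isClosed_range.closure_eq] at h2
  obtain ⟨x, rfl⟩ := h2
  exact ⟨U.ι x, by rw [← Scheme.Hom.comp_apply, ← hc]; rfl⟩

end Groth.Agent.S10953
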