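import Groth.Statements.S10954
import Groth.Agent.Lib.SerreAff11.Cover
import Groth.Agent.Lib.SerreAff11.Free
import Groth.Agent.Lib.ModM1.LocFree
import Groth.Prelude.Def_FlatMod2
import Mathlib.CategoryTheory.Preadditive.Biproducts
-- import your own Groth.Agent.* helpers here

set_option autoImplicit false
universe u
open Coherent

namespace Groth.Agent.S10954

open AlgebraicGeometry CategoryTheory CategoryTheory.Limits Opposite in
/-- Let X be a quasi-compact scheme such that, for every short exact sequence 0 → F' → F → F'' → 0 of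
quasi-coherent O_X-modules whose first term F' admits a monomorphism into a finite direct sum of
copies of O_X, taking global sections gives a surjection F(X) → F''(X). Then X is affine. (The
published statement is an equivalence of three conditions on a quasi-compact scheme; this row states
the implication from exactness of global sections on such sequences to affineness.) -/
theorem result (X : Scheme.{u}) [CompactSpace X]
    (h : ∀ (S : ShortComplex X.Modules) (n : ℕ)
      (j : S.X₁ ⟶ ∏ᶜ (fun _ : Fin n => Coh.structureModule X)),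
      S.ShortExact → Mono j → Coh.IsQCoh S.X₁ → Coh.IsQCoh S.X₂ → Coh.IsQCoh S.X₃ →
        Function.Surjective (S.g.val.app (op ⊤)).hom) :
    IsAffine X := by
  have h : ∀ (n : ℕ) (F F'' : X.Modules) (i : F ⟶ FlatMod.freeMod X n) (p : F ⟶ F''),
      Mono i → Epi p → Coh.IsQCoh F → Coh.IsQCoh F'' →
        Function.Surjective (p.val.app (Opposite.op ⊤)).hom := by
    intro n F F'' i p hi hp hF hF''
    haveI := hi
    haveI := hp
    haveI : HasBiproduct (fun _ : Fin n => Coh.structureModule X) := HasBiproduct.of_hasProduct _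
    let e : FlatMod.freeMod X n ≅ ∏ᶜ (fun _ : Fin n => Coh.structureModule X) :=
      (biproduct.isoCoproduct _).symm ≪≫ biproduct.isoProduct _
    exact h (ShortComplex.mk (kernel.ι p) p (kernel.condition p)) n (kernel.ι p ≫ i ≫ e.hom)
      (ShortComplex.ShortExact.mk' (ShortComplex.exact_kernel p) inferInstance inferInstance) inferInstance
      (Groth.Agent.M1.isQCoh_kernel hF hF'' p) hF hF''
  have h1 : ∀ (F F'' : X.Modules) (i : F ⟶ Coh.structureModule X) (p : F ⟶ F''), Mono i → Epi p →
      Coh.IsQCoh F → Coh.IsQCoh F'' → Function.Surjective (p.app ⊤) := fun F F'' i p hi hp hF hF'' => by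
    let e : Coh.structureModule X ≅ FlatMod.freeMod X 1 :=
      (coproductUniqueIso (fun _ : Fin 1 => Coh.structureModule X)).symm
    haveI := hi
    exact h 1 F F'' (i ≫ e.hom) p (mono_comp _ _) hp hF hF''
  obtain ⟨n, g, haff, hcov⟩ := Groth.Agent.SerreAff11.exists_affine_cover ⊤ isCompact_univ h1
  refine Groth.Agent.SerreAff11.isAffine_of_lift g haff ?_
  have hz : Limits.cokernel.π (Groth.Agent.SerreAff11.rowHom g) = 0 := by
    refine Groth.Agent.M1.unit_hom_ext ?_
    have hm : (Groth.Agent.M1.Sub.im (Groth.Agent.SerreAff11.rowHom g)).mem ⊤ (Groth.Agent.M1.one ⊤) := Groth.Agent.M1.Sub.mem_of_locally _ _ fun y hy => by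
      obtain ⟨i, hi⟩ := hcov y hy
      obtain ⟨m, hm⟩ := Groth.Agent.SerreAff11.exists_local_lift g i
      refine ⟨X.basicOpen (g i), le_top, hi, ?_⟩
      rw [Groth.Agent.M1.mres_one, ← hm]
      exact Groth.Agent.M1.Sub.im_mem_app _ _ m
    exact ((Groth.Agent.M1.Sub.mem_ker _ _ _).1 hm).trans rfl
  haveI : Epi (Groth.Agent.SerreAff11.rowHom g) := Abelian.epi_of_cokernel_π_eq_zero _ hz
  have hfree : Coh.IsQCoh (FlatMod.freeMod X n) :=
    Groth.Agent.M1.isQCoh_of_isIso (Groth.Agent.M1.freeModFrIso X n).symm (Groth.Agent.M1.isQCoh_fr X _)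
  obtain ⟨a, ha⟩ := h n _ _ (𝟙 (FlatMod.freeMod X n)) ((Groth.Agent.M1.freeModFrIso X n).hom ≫ Groth.Agent.SerreAff11.rowHom g)
    inferInstance (epi_comp _ _) hfree (Groth.Agent.M1.isQCoh_structureModule X) (Groth.Agent.M1.one ⊤)
  exact ⟨(Groth.Agent.M1.freeModFrIso X n).hom.app ⊤ a, ha⟩

end Groth.Agent.S10954
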