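import Groth.Statements.S10955
import Groth.Agent.Lib.TowerSmooth5.Basic
import Mathlib.RingTheory.LocalRing.Module
import Mathlib.RingTheory.Etale.Kaehler
import Mathlib.RingTheory.Smooth.Locus
-- import your own Groth.Agent.* helpers here

set_option autoImplicit false
universe u
open scoped TensorProduct
open Unram

namespace Groth.Agent.S10955

theorem injective_lTensor_iff {C T κ : Type u} [CommRing C] [CommRing T] [CommRing κ] [Algebra C T] [Algebra T κ]
    [Algebra C κ] [IsScalarTower C T κ] {M N M' N' : Type u} [AddCommGroup M] [AddCommGroup N] [AddCommGroup M']
    [AddCommGroup N'] [Module C M] [Module C N] [Module C M'] [Module C N'] [Module T M'] [Module T N']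
    [IsScalarTower C T M'] [IsScalarTower C T N'] (g : M →ₗ[C] N) (g' : M' →ₗ[T] N') (i : M →ₗ[C] M')
    (j : N →ₗ[C] N') (hi : IsBaseChange T i) (hj : IsBaseChange T j) (hc : ∀ m, g' (i m) = j (g m)) :
    Function.Injective (g.lTensor κ) ↔ Function.Injective (g'.lTensor κ) := by
  let e₁ := (TensorProduct.AlgebraTensorModule.cancelBaseChange C T T κ M).symm ≪≫ₗ
    TensorProduct.AlgebraTensorModule.congr (LinearEquiv.refl T κ) hi.equiv
  let e₂ := (TensorProduct.AlgebraTensorModule.cancelBaseChange C T T κ N).symm ≪≫ₗ
    TensorProduct.AlgebraTensorModule.congr (LinearEquiv.refl T κ) hj.equiv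
  have h1 : ∀ z, g'.lTensor κ (e₁ z) = e₂ (g.lTensor κ z) := by
    intro z
    induction z using TensorProduct.induction_on with
    | zero => simp
    | tmul k m => simp [e₁, e₂, IsBaseChange.equiv_tmul, hc]
    | add x y hx hy => simp [hx, hy]
  constructor
  · intro h x y hxy
    obtain ⟨x, rfl⟩ := e₁.surjective x
    obtain ⟨y, rfl⟩ := e₁.surjective y
    rw [h1, h1] at hxy
    rw [h (e₂.injective hxy)]
  · intro h x y hxy
    exact e₁.injective (h (by rw [h1, h1, hxy]))


/-- Let A → B → C be ring homomorphisms with B and C finitely presented over A, let q be a prime ideal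
of C and p its inverse image in B, and assume that C is smooth over A at q and that B is smooth over
A at p. Then C is smooth over B at q if and only if the map obtained from the canonical map C ⊗_B
Ω_{B/A} → Ω_{C/A} by tensoring over C with the residue field k(q) is injective. -/
theorem result (A B C : Type u) [CommRing A] [CommRing B]
    [CommRing C] [Algebra A B] [Algebra B C] [Algebra A C] [IsScalarTower A B C]
    [Algebra.FinitePresentation A B] [Algebra.FinitePresentation A C] (q : Ideal C) [q.IsPrime]
    (hC : Algebra.IsSmoothAt A q) (hB : Algebra.IsSmoothAt A (q.under B)) :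
    Algebra.IsSmoothAt B q ↔
      Function.Injective ((KaehlerDifferential.mapBaseChange A B C).lTensor q.ResidueField) := by
  have hT : Algebra.FormallySmooth A (Localization.AtPrime q) := hC
  let T := Localization.AtPrime q
  haveI : Algebra.FiniteType A B := inferInstance
  haveI : Algebra.EssFiniteType A C := inferInstance
  haveI : Algebra.EssFiniteType C T := Algebra.EssFiniteType.of_isLocalization T q.primeCompl
  haveI : Algebra.EssFiniteType A T := Algebra.EssFiniteType.comp A C T
  haveI : Module.Free T (KaehlerDifferential A T) := Module.free_of_flat_of_isLocalRing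
  let i : C ⊗[B] KaehlerDifferential A B →ₗ[C] T ⊗[B] KaehlerDifferential A B :=
    TensorProduct.AlgebraTensorModule.rTensor B _ (Algebra.linearMap C T)
  have hi : IsBaseChange T i := by
    refine IsBaseChange.of_equiv (TensorProduct.AlgebraTensorModule.cancelBaseChange B C T T _) fun z => ?_
    induction z using TensorProduct.induction_on with
    | zero => simp
    | tmul c w =>
        show (c • (1 : T)) ⊗ₜ[B] w = algebraMap C T c ⊗ₜ[B] w
        rw [Algebra.algebraMap_eq_smul_one]
    | add x y hx hy => rw [TensorProduct.tmul_add, map_add, hx, hy, map_add]
  have hj : IsBaseChange T (KaehlerDifferential.map A A C T) :=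
    haveI := Algebra.FormallyEtale.of_isLocalization (Rₘ := T) q.primeCompl
    KaehlerDifferential.isBaseChange_of_formallyEtale A C T
  have hc : ∀ m, KaehlerDifferential.mapBaseChange A B T (i m) =
      KaehlerDifferential.map A A C T (KaehlerDifferential.mapBaseChange A B C m) := by
    intro m
    induction m using TensorProduct.induction_on with
    | zero => simp
    | tmul c w =>
        show KaehlerDifferential.mapBaseChange A B T (algebraMap C T c ⊗ₜ[B] w) = _
        rw [KaehlerDifferential.mapBaseChange_tmul, KaehlerDifferential.mapBaseChange_tmul, map_smul,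
          algebraMap_smul]
        congr 1
        have hw : KaehlerDifferential.map A A B T w =
            KaehlerDifferential.map A A C T (KaehlerDifferential.map A A B C w) := by
          have hmem : w ∈ Submodule.span B (Set.range (KaehlerDifferential.D A B)) :=
            KaehlerDifferential.span_range_derivation A B ▸ Submodule.mem_top
          induction hmem using Submodule.span_induction with
          | mem w hw =>
              obtain ⟨b, rfl⟩ := hw
              simp [← IsScalarTower.algebraMap_apply]
          | zero => simp
          | add x y _ _ hx hy => simp [hx, hy]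
          | smul b x _ hx =>
              rw [map_smul, map_smul, hx, LinearMap.map_smul_of_tower]
        exact hw
    | add x y hx hy => simp [hx, hy]
  show Algebra.FormallySmooth B T ↔ _
  rw [Groth.Agent.TowerSmooth5.formallySmooth_iff A B T,
    IsLocalRing.split_injective_iff_lTensor_residueField_injective]
  exact (injective_lTensor_iff (κ := q.ResidueField) _ _ i _ hi hj hc).symm

end Groth.Agent.S10955
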