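import Groth.Statements.S10956


set_option autoImplicit false
universe u
open scoped TensorProduct
open CAlg

namespace Groth.Agent.S10956

open TensorProduct KaehlerDifferential in
theorem aux (R A B : Type u) [CommRing R] [CommRing A] [CommRing B]
    [Algebra R A] [Algebra R B] :
    ∃ r : Ω[(A ⊗[R] B)⁄R] →ₗ[A ⊗[R] B] ((A ⊗[R] B) ⊗[A] Ω[A⁄R]),
      (∀ (a : A) (b : B), r (KaehlerDifferential.D R (A ⊗[R] B) (a ⊗ₜ[R] b)) =
          ((1 : A) ⊗ₜ[R] b) ⊗ₜ[A] KaehlerDifferential.D R A a) ∧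
        Function.Bijective (fun ω : Ω[(A ⊗[R] B)⁄R] =>
          (r ω, KaehlerDifferential.map R A (A ⊗[R] B) (A ⊗[R] B) ω)) := by
  let M := (A ⊗[R] B) ⊗[A] Ω[A⁄R]
  let bil : A →ₗ[R] B →ₗ[R] M :=
    LinearMap.mk₂ R (fun a b => ((1 : A) ⊗ₜ[R] b) ⊗ₜ[A] D R A a)
      (fun a a' b => by rw [map_add, tmul_add])
      (fun r a b => by rw [Derivation.map_smul, tmul_smul])
      (fun a b b' => by rw [tmul_add, add_tmul])
      (fun r a b => by rw [tmul_smul]; rfl)
  let dl : (A ⊗[R] B) →ₗ[R] M := TensorProduct.lift bil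
  have hdl : ∀ a b, dl (a ⊗ₜ b) = ((1 : A) ⊗ₜ[R] b) ⊗ₜ[A] D R A a := fun a b => lift.tmul a b
  have hsm : ∀ (x y : A ⊗[R] B) (w : Ω[A⁄R]), x • (y ⊗ₜ[A] w) = (x * y) ⊗ₜ[A] w := by
    intro x y w; rw [smul_tmul', smul_eq_mul]
  have hleib : ∀ x y, dl (x * y) = x • dl y + y • dl x := by
    intro x y
    induction x using TensorProduct.induction_on with
    | zero => simp
    | add x x' hx hx' => rw [add_mul, map_add, hx, hx', map_add, smul_add, add_smul]; abel
    | tmul a b =>
      induction y using TensorProduct.induction_on with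
      | zero => simp
      | add y y' hy hy' => rw [mul_add, map_add, hy, hy', map_add, smul_add, add_smul]; abel
      | tmul a' b' =>
        rw [Algebra.TensorProduct.tmul_mul_tmul, hdl, hdl, hdl, Derivation.leibniz, tmul_add, hsm, hsm,
          tmul_smul, tmul_smul, smul_tmul', smul_tmul']
        congr 2
        · simp [Algebra.TensorProduct.tmul_mul_tmul, smul_tmul']
        · simp [Algebra.TensorProduct.tmul_mul_tmul, smul_tmul', mul_comm b b']
  let δ : Derivation R (A ⊗[R] B) M := Derivation.mk' dl hleib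
  let r := δ.liftKaehlerDifferential
  have hr : ∀ a b, r (D R (A ⊗[R] B) (a ⊗ₜ[R] b)) = ((1 : A) ⊗ₜ[R] b) ⊗ₜ[A] D R A a := fun a b =>
    (Derivation.liftKaehlerDifferential_comp_D δ _).trans (hdl a b)
  have hrm : ∀ m, r (mapBaseChange R A (A ⊗[R] B) m) = m := by
    have h1 : ∀ w : Ω[A⁄R], r (KaehlerDifferential.map R R A (A ⊗[R] B) w) = (1 : A ⊗[R] B) ⊗ₜ[A] w := by
      intro w
      have hw : w ∈ Submodule.span A (Set.range (D R A)) := by rw [span_range_derivation]; trivial
      induction hw using Submodule.span_induction with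
      | mem w hw =>
        obtain ⟨a, rfl⟩ := hw
        rw [map_D, Algebra.TensorProduct.algebraMap_apply]
        exact hr a 1
      | zero => simp
      | add x y _ _ hx hy => rw [map_add, map_add, hx, hy, tmul_add]
      | smul c x _ hx =>
        rw [map_smul, ← IsScalarTower.algebraMap_smul (A ⊗[R] B) c, map_smul,
          IsScalarTower.algebraMap_smul, hx, tmul_smul]
    intro m
    induction m using TensorProduct.induction_on with
    | zero => simp
    | add x y hx hy => rw [map_add, map_add, hx, hy]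
    | tmul t w => rw [mapBaseChange_tmul, map_smul, h1, hsm, mul_one]
  refine ⟨r, hr, fun ω ω' h => ?_, fun ⟨m, η⟩ => ?_⟩
  · obtain ⟨h1, h2⟩ := Prod.ext_iff.1 h
    simp only at h1 h2
    obtain ⟨m, hm⟩ := (exact_mapBaseChange_map R A (A ⊗[R] B) (ω - ω')).1 (by rw [map_sub, h2, sub_self])
    have := hrm m
    rw [hm, map_sub, h1, sub_self] at this
    rw [← this, map_zero] at hm
    exact sub_eq_zero.1 hm.symm
  · obtain ⟨ω, hω⟩ := map_surjective R A (A ⊗[R] B) η
    refine ⟨ω + mapBaseChange R A (A ⊗[R] B) (m - r ω), Prod.ext ?_ ?_⟩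
    · show r _ = m
      rw [map_add, hrm]; abel
    · show KaehlerDifferential.map R A _ _ _ = η
      rw [map_add, hω, (exact_mapBaseChange_map R A (A ⊗[R] B)).apply_apply_eq_zero, add_zero]



/-- Let R be a commutative ring, A and B commutative R-algebras and T = A ⊗_R B, an A-algebra through
the left factor. There is a T-linear map r from Ω_{T/R} to T ⊗_A Ω_{A/R} sending d(a ⊗ b) to (1 ⊗ b)
⊗ da for all a in A and b in B, and together with the canonical map Ω_{T/R} → Ω_{T/A} it identifies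
Ω_{T/R} with the product (T ⊗_A Ω_{A/R}) × Ω_{T/A}. (The published statement is the isomorphism of
(Ω_{A/R} ⊗_R B) ⊕ (A ⊗_R Ω_{B/R}) with Ω_{T/R} matching the exterior differentials; it is stated
here through the canonical identifications T ⊗_A Ω_{A/R} = Ω_{A/R} ⊗_R B and Ω_{T/A} = A ⊗_R
Ω_{B/R}.) -/
theorem result (R A B : Type u) [CommRing R] [CommRing A] [CommRing B]
    [Algebra R A] [Algebra R B] :
    ∃ r : Ω[(A ⊗[R] B)⁄R] →ₗ[A ⊗[R] B] ((A ⊗[R] B) ⊗[A] Ω[A⁄R]),
      (∀ (a : A) (b : B), r (KaehlerDifferential.D R (A ⊗[R] B) (a ⊗ₜ[R] b)) =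
          ((1 : A) ⊗ₜ[R] b) ⊗ₜ[A] KaehlerDifferential.D R A a) ∧
        Function.Bijective (fun ω : Ω[(A ⊗[R] B)⁄R] =>
          (r ω, KaehlerDifferential.map R A (A ⊗[R] B) (A ⊗[R] B) ω)) := by
  exact aux R A B

end Groth.Agent.S10956
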