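import Groth.Statements.S10957
import Mathlib.RingTheory.Ideal.AssociatedPrime.Finiteness
import Mathlib.RingTheory.Ideal.AssociatedPrime.Localization
import Mathlib.RingTheory.Regular.IsSMulRegular
import Mathlib.RingTheory.DiscreteValuationRing.TFAE
import Mathlib.RingTheory.Localization.FractionRing
import Mathlib.RingTheory.IntegralClosure.IntegrallyClosed
import Mathlib.RingTheory.Ideal.Height
import Mathlib.RingTheory.Ideal.KrullsHeightTheorem
import Mathlib.RingTheory.KrullDimension.Basic
import Mathlib.RingTheory.Localization.Integral
import Mathlib.RingTheory.IntegralClosure.Algebra.Basic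
import Mathlib.RingTheory.Localization.LocalizationLocalization
import Groth.Agent.Lib.H2Alg.NormalAss

set_option autoImplicit false
universe u
open CAlg

namespace Groth.Agent.S10957

/-- Let A be a Noetherian local integral domain that is normal (integrally closed in its field of
fractions). If there is a nonzero element a of A such that the maximal ideal of A is an associated
prime of the A-module A/(a), then A is a discrete valuation ring. (The other conditions listed in
the published result — normal of dimension one, maximal ideal nonzero principal, regular of
dimension one — are the library's standard characterisations; this row records the criterion through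
an associated prime.) -/
theorem result
    (A : Type u) [CommRing A] [IsDomain A] [IsNoetherianRing A] [IsLocalRing A] [IsIntegrallyClosed A]
    (a : A) (ha : a ≠ 0)
    (hass : IsLocalRing.maximalIdeal A ∈ associatedPrimes A (A ⧸ Ideal.span ({a} : Set A))) :
    IsDiscreteValuationRing A := by
  obtain ⟨-, q, hq⟩ := isAssociatedPrime_iff.1 hass
  obtain ⟨x, rfl⟩ := Ideal.Quotient.mk_surjective q
  have hmem : ∀ z, z ∈ IsLocalRing.maximalIdeal A ↔ a ∣ x * z := fun z => by
    rw [hq, Groth.Agent.H2Alg.mem_colon_bot_singleton, ← Ideal.mem_span_singleton, mul_comm, ← Ideal.Quotient.eq_zero_iff_mem]; rfl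
  refine Groth.Agent.H2Alg.isDVR_of_dvd_mul_maximalIdeal a ha x (fun h => ?_) ((hmem a).2 (dvd_mul_left a x)) (fun z hz => (hmem z).1 hz)
  exact (IsLocalRing.maximalIdeal.isMaximal A).ne_top ((Ideal.eq_top_iff_one _).2 ((hmem 1).2 (by rwa [mul_one])))

end Groth.Agent.S10957
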