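import Groth.Statements.S10959
import Mathlib.AlgebraicGeometry.AlgClosed.Basic

set_option autoImplicit false
universe u
open CategoryTheory MonoidalCategory CartesianMonoidalCategory MonObj GrpObj AlgebraicGeometry
open AbVar

namespace Groth.Agent.S10959

/-- Let K be an algebraically closed field and A an abelian variety over K (a group scheme over Spec K
with proper smooth structure morphism and irreducible underlying space). Let Z be a closed subset of
A which is not all of A, and z a K-valued point of A. Then there is a K-valued point x of A such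
that the point underlying z lies neither in the translate of Z by x nor in the translate of Z by the
inverse of x; here the translation by x is the morphism A → A given on points by a ↦ a·x, the
product of the identity and the constant map x in the group of morphisms into A. (The published
statement takes Z to be the support of an effective divisor; this row allows any closed subset other
than A.) -/
theorem result
    (K : Type u) [Field K] [IsAlgClosed K] (A : Over (Spec (CommRingCat.of K)))
    [GrpObj A] [IsProper A.hom] [Smooth A.hom] [IrreducibleSpace A.left]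
    (Z : Set A.left) (hZ : IsClosed Z) (hZne : Z ≠ Set.univ)
    (z : 𝟙_ (Over (Spec (CommRingCat.of K))) ⟶ A) :
    ∃ x : 𝟙_ (Over (Spec (CommRingCat.of K))) ⟶ A,
      Disjoint (Set.range z.left.base)
        ((𝟙 A * (toUnit A ≫ x)).left.base '' Z ∪ (𝟙 A * (toUnit A ≫ x)⁻¹).left.base '' Z) := by
  let c : A ⟶ A := toUnit A ≫ z
  let g₁ : A ⟶ A := c * (𝟙 A)⁻¹
  let g₂ : A ⟶ A := c * 𝟙 A
  have hs₁ : Function.Surjective g₁.left.base := by
    intro a
    refine ⟨((𝟙 A)⁻¹ * c).left.base a, ?_⟩
    have h : ((𝟙 A)⁻¹ * c) ≫ g₁ = 𝟙 A := by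
      simp only [g₁, c, MonObj.comp_mul, GrpObj.comp_inv, Category.comp_id, ← Category.assoc, comp_toUnit]
      group
    rw [← Scheme.Hom.comp_apply, ← Over.comp_left, h]
    rfl
  have hs₂ : Function.Surjective g₂.left.base := by
    intro a
    refine ⟨(c⁻¹ * 𝟙 A).left.base a, ?_⟩
    have h : (c⁻¹ * 𝟙 A) ≫ g₂ = 𝟙 A := by
      simp only [g₂, c, MonObj.comp_mul, Category.comp_id, ← Category.assoc, comp_toUnit]
      group
    rw [← Scheme.Hom.comp_apply, ← Over.comp_left, h]
    rfl
  obtain ⟨b, hb⟩ : ∃ b, b ∉ Z := by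
    by_contra h
    push_neg at h
    exact hZne (Set.eq_univ_of_forall h)
  have hne : ((g₁.left.base ⁻¹' Zᶜ) ∩ (g₂.left.base ⁻¹' Zᶜ)).Nonempty := by
    obtain ⟨a₁, ha₁⟩ := hs₁ b
    obtain ⟨a₂, ha₂⟩ := hs₂ b
    refine nonempty_preirreducible_inter (hZ.isOpen_compl.preimage g₁.left.continuous)
      (hZ.isOpen_compl.preimage g₂.left.continuous) ⟨a₁, ?_⟩ ⟨a₂, ?_⟩
    · simpa [ha₁] using hb
    · simpa [ha₂] using hb
  haveI : JacobsonSpace A.left := LocallyOfFiniteType.jacobsonSpace A.hom
  obtain ⟨p, ⟨hp₁, hp₂⟩, hp⟩ := nonempty_inter_closedPoints hne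
    ((hZ.isOpen_compl.preimage g₁.left.continuous).inter (hZ.isOpen_compl.preimage g₂.left.continuous)).isLocallyClosed
  let x : 𝟙_ (Over (Spec (CommRingCat.of K))) ⟶ A := Over.homMk (pointOfClosedPoint A.hom p hp)
    (by simp)
  refine ⟨x, ?_⟩
  let pt : Spec (CommRingCat.of K) := IsLocalRing.closedPoint K
  have hxp : x.left.base pt = p := pointOfClosedPoint_apply _ _ _ _
  -- the inverse translations evaluated at `z`
  have key : ∀ (t t' : A ⟶ A) (g : A ⟶ A), t ≫ t' = 𝟙 A → z ≫ t' = x ≫ g → g.left.base p ∉ Z →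
      z.left.base pt ∉ t.left.base '' Z := by
    rintro t t' g h1 h2 h3 ⟨q, hq, hq'⟩
    apply h3
    have e : (x ≫ g).left.base pt = (z ≫ t').left.base pt := by rw [h2]
    rw [Over.comp_left, Over.comp_left, Scheme.Hom.comp_base, Scheme.Hom.comp_base, TopCat.comp_app,
      TopCat.comp_app, hxp, ← hq', ← TopCat.comp_app, ← Scheme.Hom.comp_base, ← Over.comp_left, h1] at e
    rw [e]
    exact hq
  have hcompz : ∀ w : 𝟙_ (Over (Spec (CommRingCat.of K))) ⟶ A, w ≫ c = z := fun w => by
    rw [← Category.assoc, toUnit_unique (w ≫ toUnit A) (𝟙 _), Category.id_comp]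
  have hzw : ∀ w : 𝟙_ (Over (Spec (CommRingCat.of K))) ⟶ A, z ≫ toUnit A ≫ w = w := fun w => by
    rw [← Category.assoc, toUnit_unique (z ≫ toUnit A) (𝟙 _), Category.id_comp]
  have hpt : Set.range z.left.base ⊆ {z.left.base pt} := by
    rintro _ ⟨r, rfl⟩
    exact congrArg z.left.base (Subsingleton.elim (α := Spec (CommRingCat.of K)) r pt)
  refine Disjoint.mono_left hpt (Set.disjoint_singleton_left.2 ?_)
  rintro (h | h)
  · refine key _ (𝟙 A * (toUnit A ≫ x)⁻¹) g₁ ?_ ?_ hp₁ h
    · simp [MonObj.comp_mul, GrpObj.comp_inv]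
    · simp [g₁, MonObj.comp_mul, GrpObj.comp_inv, hcompz, hzw]
  · refine key _ (𝟙 A * (toUnit A ≫ x)) g₂ ?_ ?_ hp₂ h
    · simp [MonObj.comp_mul]
    · simp [g₂, MonObj.comp_mul, hcompz, hzw]

end Groth.Agent.S10959
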