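import Groth.Statements.S10961
import Groth.Agent.Lib.MeroLib.Extend

set_option autoImplicit false
universe u
open CategoryTheory AlgebraicGeometry TopologicalSpace
open Mero

namespace Groth.Agent.S10961

/-- Let X be a reduced scheme with only finitely many irreducible components, with generic points x_1,
…, x_r, and let U be an open subset of X. Then the ring of sections over U of the sheaf of
meromorphic functions K_X maps bijectively, by evaluation, onto the product of the rings K_{X,x_i}
over those generic points x_i that lie in U; moreover for each generic point x_i the local ring of X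
at x_i is a field and maps bijectively onto K_{X,x_i}, so that K_{X,x_i} is the residue field of
x_i. (The hypothesis holds for every Noetherian scheme; for X integral it says that K_X is the
constant sheaf with value the function field.) -/
theorem result
    (X : Scheme.{u}) [IsReduced X] (hfin : (irreducibleComponents (X : Type u)).Finite) (U : X.Opens) :
    Function.Bijective (fun s : Γ(Mero.kmod X, U) =>
      fun x : {x : U // closure ({x.1} : Set X) ∈ irreducibleComponents (X : Type u)} =>
        Mero.evalK X U x.1 s) ∧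
    (∀ x : X, closure ({x} : Set X) ∈ irreducibleComponents (X : Type u) →
      IsField (X.presheaf.stalk x) ∧
        Function.Bijective (algebraMap (X.presheaf.stalk x) (Mero.KStalk X x))) := by
  classical
  haveI hQ := Groth.Agent.M1.isQCoh_structureModule X
  have hfinWA : Groth.Agent.MeroLib.FinWA X := Groth.Agent.MeroLib.finWA_of_reduced fun x =>
    ⟨⊤, TopologicalSpace.Opens.mem_top x, hfin.subset fun Z hZ => hZ.1⟩
  have hmax : ∀ x : X, closure ({x} : Set X) ∈ irreducibleComponents (X : Type u) → ∀ z : X, z ⤳ x → z = x := by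
    intro x hx z hz
    have h1 := hx.2 (y := closure ({z} : Set X)) isIrreducible_singleton.closure
      (specializes_iff_closure_subset.1 hz)
    exact ((inseparable_iff_specializes_and.2 ⟨hz, specializes_iff_closure_subset.2 h1⟩)).eq
  have hfield : ∀ x : X, closure ({x} : Set X) ∈ irreducibleComponents (X : Type u) →
      ∀ c : X.presheaf.stalk x, c ≠ 0 → IsUnit c := by
    intro x hx c hc
    obtain ⟨W, hW, hxW, -⟩ := AlgebraicGeometry.exists_isAffineOpen_mem_and_subset (U := (⊤ : X.Opens))
      (x := x) trivial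
    let := TopCat.Presheaf.algebra_section_stalk X.presheaf (⟨x, hxW⟩ : W)
    have := hW.isLocalization_stalk ⟨x, hxW⟩
    obtain ⟨⟨a, b⟩, hab⟩ := IsLocalization.surj (hW.primeIdealOf ⟨x, hxW⟩).asIdeal.primeCompl c
    have hab : c * X.presheaf.germ W x hxW b = X.presheaf.germ W x hxW a := hab
    have hbu : IsUnit (X.presheaf.germ W x hxW b) := (Groth.Agent.M1.isUnit_germ_iff hW hxW b).mpr b.2
    by_contra hu
    refine hc (hbu.mul_left_eq_zero.1 ?_)
    rw [hab, ← Groth.Agent.WA.germ_O_eq_zero_iff]
    by_contra hne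
    obtain ⟨y, hy, hyx, -, hny⟩ := Groth.Agent.WA.exists_weakAss hW hxW _ hne
    obtain rfl := hmax x hx y hyx
    -- every prime of the stalk is maximal
    obtain ⟨q, hq, hcq⟩ : ∃ q : Ideal (X.presheaf.stalk y), q.IsPrime ∧ c ∉ q := by
      by_contra hall
      push Not at hall
      haveI : _root_.IsReduced (X.presheaf.stalk y) := inferInstance
      refine hc (IsReduced.eq_zero _ ?_)
      rw [← mem_nilradical, nilradical_eq_sInf]
      exact Ideal.mem_sInf.mpr fun {J} hJ => hall J hJ
    haveI := hq
    obtain ⟨z, hz, hzu⟩ := Groth.Agent.WA.exists_point hW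
      (q.comap (algebraMap Γ(X, W) (X.presheaf.stalk y)))
    have hsp : z ⤳ y := Groth.Agent.WA.specializes_of_isUnit hW hxW hz fun r hr => (hzu r).2 fun hmem =>
      hq.ne_top (Ideal.eq_top_of_isUnit_mem _ hmem hr)
    obtain rfl := hmax y hx z hsp
    refine hcq ((hq.mem_or_mem (?_ : c * X.presheaf.germ W z hxW b ∈ q)).resolve_right fun h =>
      hq.ne_top (Ideal.eq_top_of_isUnit_mem _ h hbu))
    rw [hab]
    by_contra h
    have h1 := (hzu a).2 h
    rw [← hab, IsUnit.mul_iff] at h1
    exact hu h1.1
  have hbij : ∀ x : X, closure ({x} : Set X) ∈ irreducibleComponents (X : Type u) →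
      Function.Bijective (algebraMap (X.presheaf.stalk x) (Mero.KStalk X x)) := fun x hx =>
    ⟨Mero.algebraMap_KStalk_injective x, fun q => by
      obtain ⟨a, b, rfl⟩ := IsLocalization.exists_mk'_eq (Mero.regStalk X x) q
      obtain ⟨w, hw⟩ := hfield x hx b.1 (nonZeroDivisors.ne_zero (Mero.regStalk_le_nonZeroDivisors x b.2))
      refine ⟨a * (w⁻¹ : (X.presheaf.stalk x)ˣ), ?_⟩
      rw [eq_comm, IsLocalization.mk'_eq_iff_eq_mul, ← map_mul, ← hw, mul_assoc, Units.inv_mul, mul_one]⟩
  refine ⟨⟨fun s t h => ?_, fun q => ?_⟩, fun x hx => ⟨⟨exists_pair_ne _, mul_comm, fun {c} hc =>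
    (hfield x hx c hc).exists_right_inv⟩, hbij x hx⟩⟩
  · refine Groth.Agent.MeroLib.kmod_eq_of_weakAss s t fun y hwa => ?_
    exact congrFun h ⟨y, Groth.Agent.MeroLib.isIrreducibleComponent_of_maximal
      fun z hz => Groth.Agent.WA.eq_of_specializes_weakAss hwa hz⟩
  · choose c hc using fun x : {x : U // closure ({x.1} : Set X) ∈ irreducibleComponents (X : Type u)} =>
      (hbij x.1.1 x.2).2 (q x)
    choose W hxW r hr using fun x : {x : U // closure ({x.1} : Set X) ∈ irreducibleComponents (X : Type u)} =>
      X.presheaf.exists_germ_eq (c x)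
    have hgen : {y : X | closure ({y} : Set X) ∈ irreducibleComponents (X : Type u)}.Finite := by
      refine Set.Finite.of_finite_image (f := fun y : X => closure ({y} : Set X)) (hfin.subset ?_) ?_
      · rintro _ ⟨y, hy, rfl⟩
        exact hy
      · intro y _ y' _ e
        exact (inseparable_iff_closure_eq.2 e).eq
    let V : {x : U // closure ({x.1} : Set X) ∈ irreducibleComponents (X : Type u)} → X.Opens := fun x =>
      U ⊓ W x ⊓ ⟨(⋃ z ∈ {y : X | closure ({y} : Set X) ∈ irreducibleComponents (X : Type u)} \ {x.1.1},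
        closure ({z} : Set X))ᶜ, ((hgen.subset Set.diff_subset).isClosed_biUnion
          fun _ _ => isClosed_closure).isOpen_compl⟩
    have hmem : ∀ x, x.1.1 ∈ V x := fun x => by
      refine ⟨⟨x.1.2, hxW x⟩, fun h => ?_⟩
      obtain ⟨z, hz, hzx⟩ := Set.mem_iUnion₂.mp h
      exact hz.2 (hmax _ x.2 z (specializes_iff_mem_closure.mpr hzx))
    have hdisj : ∀ (x x') (z : X), z ∈ V x → z ∈ V x' → x = x' := by
      intro x x' z hz hz'
      obtain ⟨η, hη⟩ := QuasiSober.sober (isIrreducible_irreducibleComponent (x := z)) isClosed_irreducibleComponent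
      have hηz : η ⤳ z := hη.specializes mem_irreducibleComponent
      have hηc : closure ({η} : Set X) ∈ irreducibleComponents (X : Type u) := by
        rw [hη.def]
        exact irreducibleComponent_mem_irreducibleComponents z
      have key : ∀ x'', z ∈ V x'' → η = x''.1.1 := fun x'' hz'' => by
        by_contra h
        exact hz''.2 (Set.mem_iUnion₂.mpr ⟨η, ⟨hηc, h⟩, specializes_iff_mem_closure.mp hηz⟩)
      exact Subtype.ext (Subtype.ext ((key x hz).symm.trans (key x' hz')))
    let sV : ∀ x, Γ(X, V x) := fun x =>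
      X.presheaf.map (homOfLE (inf_le_left.trans inf_le_right : V x ≤ W x)).op (r x)
    have hcomp : TopCat.Presheaf.IsCompatible X.sheaf.obj V sV := fun x x' => by
      refine TopCat.Presheaf.section_ext X.sheaf _ _ _ fun z hz => ?_
      obtain rfl := hdisj x x' z hz.1 hz.2
      rfl
    obtain ⟨g, hg, -⟩ := X.sheaf.existsUnique_gluing' V (⨆ x, V x)
      (fun x => homOfLE (le_iSup V x)) le_rfl sV hcomp
    obtain ⟨s, hs⟩ := Groth.Agent.MeroLib.exists_kmod_extension hfinWA (U := U) (V := ⨆ x, V x)
      (iSup_le fun x => inf_le_left.trans inf_le_left)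
      (fun y hy hwa => TopologicalSpace.Opens.mem_iSup.mpr ⟨⟨⟨y, hy⟩,
        Groth.Agent.MeroLib.isIrreducibleComponent_of_maximal
          fun z hz => Groth.Agent.WA.eq_of_specializes_weakAss hwa hz⟩, hmem _⟩) g
    refine ⟨s, funext fun x => ?_⟩
    change s.1 x.1 = q x
    rw [← hc x, ← hr x]
    refine (hs ⟨x.1.1, TopologicalSpace.Opens.mem_iSup.mpr ⟨x, hmem x⟩⟩).trans ?_
    congr 1
    have h1 := congrArg (X.presheaf.germ (V x) x.1.1 (hmem x)) (hg x)
    change X.presheaf.germ (V x) x.1.1 (hmem x) (X.presheaf.map _ g) =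
      X.presheaf.germ (V x) x.1.1 (hmem x) (X.presheaf.map _ (r x)) at h1
    rwa [TopCat.Presheaf.germ_res_apply, TopCat.Presheaf.germ_res_apply] at h1

end Groth.Agent.S10961
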