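import Groth.Statements.S10962
import Groth.Agent.Lib.Twist.Ample
import Groth.Agent.Lib.Twist.ProjSpace
import Groth.Agent.Lib.Twist.GlobalProjSpace
import Groth.Agent.Lib.ProjSpace.BaseChange

set_option autoImplicit false
universe u
open CategoryTheory CategoryTheory.Limits AlgebraicGeometry TopologicalSpace
open SDiv

open CategoryTheory AlgebraicGeometry
namespace Groth.Agent.S10962

theorem one_eq_zero_of_zero_generates {X : Scheme.{u}} {M : X.Modules} (U : X.Opens) (t : Γ(M, (⊤ : X.Opens)))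
    (ht : t = 0) (h : Function.Bijective fun r : Γ(X, U) => r • Groth.Agent.M1.mres M (le_top : U ≤ ⊤) t) :
    (1 : Γ(X, U)) = 0 := h.1 (by subst ht; simp)

theorem nonempty_pow_iso {R A : Type u} [CommRing R] [CommRing A] [Algebra R A] (𝒜 : ℕ → Submodule R A)
    [GradedAlgebra 𝒜] (hcov : (⨆ g : 𝒜 1, Proj.basicOpen 𝒜 (g : A)) = ⊤) (d : ℤ) (k : ℕ) :
    Nonempty (CohB1.tensorPow (Twist.twist 𝒜 d) k ≅ Twist.twist 𝒜 (d * (k : ℤ))) := by
  induction k with
  | zero =>
    obtain ⟨z⟩ := Groth.Agent.Twist.nonempty_twist_zero_iso 𝒜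
    exact ⟨z.symm ≪≫ eqToIso (congrArg _ (by simp))⟩
  | succ k ih =>
    obtain ⟨e⟩ := ih
    obtain ⟨t⟩ := Groth.Agent.Twist.nonempty_tensor_iso 𝒜 (d * (k : ℤ)) d hcov
    exact ⟨Groth.Agent.Twist.tensorModIso e (Iso.refl _) ≪≫ t ≪≫
      eqToIso (congrArg _ (by push_cast; ring))⟩

theorem not_isAffine_field (K : Type u) [Field K] (n : ℕ) (hn : 1 ≤ n) : ¬ IsAffine (CohB1.ProjSpace n K) := by
  intro haff
  have : IsIso (CohB1.ProjSpace.toSpec n K).appTop := by
    have h := Groth.Agent.Twist.bijective_toSpec_appTop n K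
    have h2 : Function.Bijective ((Scheme.ΓSpecIso (CommRingCat.of K)).inv) :=
      (ConcreteCategory.isIso_iff_bijective _).1 inferInstance
    exact (ConcreteCategory.isIso_iff_bijective _).2 ((Function.Bijective.of_comp_iff _ h2).1 h)
  have : IsIso (CohB1.ProjSpace.toSpec n K) := by
    rw [(IsIso.eq_comp_inv _).2 (Scheme.toSpecΓ_naturality (CohB1.ProjSpace.toSpec n K))]
    infer_instance
  have hinj : Function.Injective (Groth.Agent.ProjSpace.chart n K 0 ≫ CohB1.ProjSpace.toSpec n K) :=
    (Groth.Agent.ProjSpace.chart n K 0 ≫ CohB1.ProjSpace.toSpec n K).isOpenEmbedding.injective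
  let j : {j : Fin (n + 1) // j ≠ 0} := ⟨Fin.last n, by simp [Fin.ext_iff]; omega⟩
  let p : Spec (CommRingCat.of (MvPolynomial {j : Fin (n + 1) // j ≠ 0} K)) := ⟨⊥, Ideal.isPrime_bot⟩
  let q : Spec (CommRingCat.of (MvPolynomial {j : Fin (n + 1) // j ≠ 0} K)) :=
    ⟨RingHom.ker (MvPolynomial.constantCoeff (R := K)), RingHom.ker_isPrime _⟩
  have hpq : p = q := hinj (Subsingleton.elim (α := PrimeSpectrum K) _ _)
  have hX : (MvPolynomial.X j : MvPolynomial {j : Fin (n + 1) // j ≠ 0} K) ∈
      (⊥ : Ideal (MvPolynomial {j : Fin (n + 1) // j ≠ 0} K)) := by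
    rw [show (⊥ : Ideal (MvPolynomial {j : Fin (n + 1) // j ≠ 0} K)) =
      RingHom.ker (MvPolynomial.constantCoeff (R := K)) from congrArg PrimeSpectrum.asIdeal hpq]
    simp
  exact MvPolynomial.X_ne_zero j (Ideal.mem_bot.1 hX)

theorem not_isAffineOpen_const (n : ℕ) (R : Type u) [CommRing R] (hn : 1 ≤ n) (c : R)
    (x : Proj (CohB1.polyGrading n R)) (hx : x ∈ Proj.basicOpen (CohB1.polyGrading n R) (MvPolynomial.C c)) :
    ¬ IsAffineOpen (Proj.basicOpen (CohB1.polyGrading n R) (MvPolynomial.C c)) := by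
  intro haff
  let y : ProjectiveSpectrum (CohB1.polyGrading n R) := x
  have := y.isPrime
  let P : Ideal R := Ideal.comap (MvPolynomial.C : R →+* MvPolynomial (Fin (n + 1)) R) y.asHomogeneousIdeal.toIdeal
  let K := FractionRing (R ⧸ P)
  let φ : R →+* K := (algebraMap (R ⧸ P) K).comp (Ideal.Quotient.mk P)
  have hφ : φ c ≠ 0 := fun h0 => hx ((Ideal.Quotient.eq_zero_iff_mem (I := P)).1
    (IsFractionRing.injective (R ⧸ P) K (h0.trans (map_zero _).symm)))
  have ha : IsAffineHom (Groth.Agent.ProjSpace.map n φ) :=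
    MorphismProperty.of_isPullback (P := @IsAffineHom) (Groth.Agent.ProjSpace.isPullback_map n φ).flip inferInstance
  have h2 : IsAffineOpen (Proj.map (Groth.Agent.ProjSpace.mapHom n φ) (Groth.Agent.ProjSpace.irrelevant_le_map n φ) ⁻¹ᵁ
      Proj.basicOpen (CohB1.polyGrading n R) (MvPolynomial.C c)) :=
    ha.isAffine_preimage _ haff
  rw [Proj.map_preimage_basicOpen, Groth.Agent.ProjSpace.mapHom_apply, MvPolynomial.map_C] at h2
  have htop : Proj.basicOpen (CohB1.polyGrading n K) (MvPolynomial.C (φ c)) = ⊤ :=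
    top_le_iff.1 fun z _ hz => z.isPrime.ne_top
      (Ideal.eq_top_of_isUnit_mem _ hz (IsUnit.map MvPolynomial.C (isUnit_iff_ne_zero.2 hφ)))
  rw [htop] at h2
  have : IsAffine ((⊤ : (Proj (CohB1.polyGrading n K)).Opens) : Scheme.{u}) := h2
  exact not_isAffine_field K n hn (IsAffine.of_isIso (Scheme.topIso (Proj (CohB1.polyGrading n K))).inv)


/-- Let R be a nonzero ring and n ≥ 1, and let X be projective n-space over R. For an integer d, the
Serre twist O_X(d) is ample if and only if d > 0. (Ample is taken in the sense that X is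
quasi-compact and covered by the affine open non-vanishing loci X_s of global sections s of positive
tensor powers; for the quasi-compact separated scheme X this agrees with the definition through
finitely many generating sections with quasi-affine non-vanishing loci. The published remark also
asserts that O_X(d) is very ample relative to R for d > 0; that clause is not part of this row.) -/
theorem result (R : Type u) [CommRing R] [Nontrivial R] (n : ℕ) (hn : 1 ≤ n) (d : ℤ) :
    CohB1.IsAmple (Twist.twistProjSpace n R d) ↔ 0 < d := by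
  have hcov := Groth.Agent.Twist.iSup_basicOpen_one n R
  constructor
  · intro hamp
    by_contra hd
    push Not at hd
    obtain ⟨p⟩ : Nonempty (PrimeSpectrum R) := inferInstance
    obtain ⟨x, -⟩ := (Groth.Agent.ProjSpace.surjective_toSpec n R).surj p
    obtain ⟨k, s, hxs, haff⟩ := hamp.2.2 x
    obtain ⟨t⟩ := nonempty_pow_iso (CohB1.polyGrading n R) hcov d (k + 1)
    rcases lt_or_eq_of_le hd with hd | rfl
    · have hneg : d * ((k + 1 : ℕ) : ℤ) < 0 := Int.mul_neg_of_neg_of_pos hd (by omega)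
      obtain ⟨U, hxU, hU⟩ := Groth.Agent.Twist.exists_of_mem_genLocus
        (show x ∈ CohB1.genLocus _ (s ≫ t.hom) by rw [Groth.Agent.Twist.genLocus_comp_iso]; exact hxs)
      rw [Groth.Agent.Twist.eq_secHom (s ≫ t.hom), Groth.Agent.Twist.isIso_restrict_secHom_iff] at hU
      have := Groth.Agent.Twist.subsingleton_sections_twistProjSpace_neg n R (by omega) hneg
      have h0 := Subsingleton.elim (α := Groth.Agent.Twist.Sec (𝒜 := CohB1.polyGrading n R) (d * ((k + 1 : ℕ) : ℤ)) ⊤)
        ((s ≫ t.hom).app ⊤ (Groth.Agent.M1.one ⊤)) 0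
      have h10 : (1 : Γ(Proj (CohB1.polyGrading n R), U)) = 0 :=
        one_eq_zero_of_zero_generates (X := Proj (CohB1.polyGrading n R)) U _ h0 (hU U le_rfl)
      exact one_ne_zero (α := Twist.Loc (CohB1.polyGrading n R) x)
        ((HomogeneousLocalization.val_one.symm.trans
          (congrArg (fun r => Groth.Agent.Twist.valO r x hxU) h10)).trans HomogeneousLocalization.val_zero)
    · obtain ⟨e⟩ : Nonempty (Twist.twist (CohB1.polyGrading n R) ((0 : ℤ) * ((k + 1 : ℕ) : ℤ)) ≅
          Twist.twist (CohB1.polyGrading n R) ((0 : ℕ) : ℤ)) := ⟨eqToIso (congrArg _ (by simp))⟩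
      let s' := s ≫ (t ≪≫ e).hom
      obtain ⟨q, hq⟩ := (Groth.Agent.Twist.globalOf_bijective_polyGrading n R 0).2
        (s'.app ⊤ (Groth.Agent.M1.one ⊤))
      obtain ⟨c, rfl⟩ := (Groth.Agent.ProjSpace.algebraMap_degZero_bijective n R).2 q
      have hs' : s' = Groth.Agent.M1.secHom
          (Groth.Agent.Twist.gsec (CohB1.polyGrading n R) (algebraMap R (CohB1.polyGrading n R 0) c)) :=
        (Groth.Agent.Twist.eq_secHom s').trans (congrArg _ hq.symm)
      have hloc : CohB1.genLocus _ s = Proj.basicOpen (CohB1.polyGrading n R) (MvPolynomial.C c) := by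
        rw [← Groth.Agent.Twist.genLocus_comp_iso s (t ≪≫ e)]
        exact (congrArg _ hs').trans (Groth.Agent.Twist.genLocus_gsec _ hcov _)
      rw [hloc] at hxs
      replace haff : IsAffineOpen (Proj.basicOpen (CohB1.polyGrading n R) (MvPolynomial.C c)) := hloc ▸ haff
      exact not_isAffineOpen_const n R hn c x hxs haff
  · intro hd
    obtain ⟨d, rfl⟩ := Int.eq_ofNat_of_zero_le hd.le
    exact Groth.Agent.Twist.isAmple_twist (CohB1.polyGrading n R) (fun i => MvPolynomial.X i)
      (fun i => Groth.Agent.ProjSpace.X_mem' n R i) (Groth.Agent.ProjSpace.irrelevant_le_span n R) (by omega)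


end Groth.Agent.S10962
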