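import Groth.Statements.S10964
import Groth.Agent.Lib.PicCoc15.Basic
-- import your own Groth.Agent.* helpers here

set_option autoImplicit false
universe u
open CategoryTheory AlgebraicGeometry TopologicalSpace Opposite
open PicF

namespace Groth.Agent.S10964

/-- Let X be a scheme with an open cover (U_i)_{i ∈ ι}. Let L and L' be O_X-modules with sections s_i of
L and s'_i of L' over U_i that generate there (for every open V ⊆ U_i, r ↦ r · s_i|_V is a bijection
from functions on V onto sections of L over V, and likewise for s'_i), and let η_ij, η'_ij be the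
functions on U_i ∩ U_j with s_i = η_ij · s_j and s'_i = η'_ij · s'_j there. Then L and L' are
isomorphic as O_X-modules if and only if there is a family of units u_i of the rings of functions on
the U_i with η'_ij · u_i|_{U_i ∩ U_j} = u_j|_{U_i ∩ U_j} · η_ij for all i, j. (So two invertible
modules trivialised by the cover are isomorphic exactly when their transition cocycles define the
same Čech cohomology class.) -/
theorem result (X : Scheme.{u}) {ι : Type u} (U : ι → X.Opens)
    (hU : iSup U = ⊤) (L L' : X.Modules) (s : ∀ i : ι, Γ(L, U i)) (s' : ∀ i : ι, Γ(L', U i))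
    (hs : ∀ (i : ι) (V : X.Opens) (h : V ≤ U i),
        Function.Bijective (fun r : Γ(X, V) => r • L.presheaf.map (homOfLE h).op (s i)))
    (hs' : ∀ (i : ι) (V : X.Opens) (h : V ≤ U i),
        Function.Bijective (fun r : Γ(X, V) => r • L'.presheaf.map (homOfLE h).op (s' i)))
    (η η' : ∀ i j : ι, Γ(X, U i ⊓ U j))
    (hη : ∀ i j : ι, L.presheaf.map (homOfLE (inf_le_left : U i ⊓ U j ≤ U i)).op (s i) =
        η i j • L.presheaf.map (homOfLE (inf_le_right : U i ⊓ U j ≤ U j)).op (s j))
    (hη' : ∀ i j : ι, L'.presheaf.map (homOfLE (inf_le_left : U i ⊓ U j ≤ U i)).op (s' i) =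
        η' i j • L'.presheaf.map (homOfLE (inf_le_right : U i ⊓ U j ≤ U j)).op (s' j)) :
    Nonempty (L ≅ L') ↔ ∃ u : ∀ i : ι, (Γ(X, U i))ˣ, ∀ i j : ι,
      η' i j * X.presheaf.map (homOfLE (inf_le_left : U i ⊓ U j ≤ U i)).op (u i : Γ(X, U i)) =
        X.presheaf.map (homOfLE (inf_le_right : U i ⊓ U j ≤ U j)).op (u j : Γ(X, U j)) * η i j := by
  exact Groth.Agent.PicCoc15.nonempty_iso_iff U hU L L' s s' hs hs' η η' hη hη'

end Groth.Agent.S10964
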