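import Groth.Statements.S10965
import Groth.Agent.Lib.AmpleFib.PnVA

set_option autoImplicit false
universe u
open CategoryTheory CategoryTheory.Limits AlgebraicGeometry
open RelAmple

namespace Groth.Agent.S10965

/-- Let S be an affine scheme, q : X → S a morphism of schemes and L an invertible O_X-module that is
very ample relative to q, in the sense that there are n and an immersion i : X → P^n_S over S with
i^*O(1) ≅ L. If L' is a second invertible O_X-module generated by finitely many global sections s_1,
…, s_m (their germs span every stalk), then L ⊗ L' is very ample relative to q in the same sense. -/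
theorem result {X S : Scheme.{u}} [IsAffine S] (q : X ⟶ S)
    (L L' : X.Modules) (hL : PicF.IsInvertible L) (hva : RelAmple.IsRelVeryAmplePn q L)
    (hL' : PicF.IsInvertible L') {m : ℕ} (s : Fin m → ProjUP.Γm L') (hs : ProjUP.GeneratedBy L' s) :
    RelAmple.IsRelVeryAmplePn q (CohB1.tensorMod L L') := by
  classical
  obtain ⟨k, σ, hσ⟩ := AmpleFib.exists_vaat_of_pn q hL hva
  refine AmpleFib.isRelVeryAmplePn_of_vaat q (M2.isInvertible_tensor hL hL')
    (κ := ULift.{u} (Fin (k + 1)) × ULift.{u} (Fin m))
    (fun p => VA11.prodSec (σ p.1) (s p.2.down : Γ(L', q ⁻¹ᵁ ⊤))) fun x =>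
      AmpleFib.vaat_prodSec hL hL' σ (fun j : ULift.{u} (Fin m) => (s j.down : Γ(L', q ⁻¹ᵁ ⊤))) (hσ x) ?_
  obtain ⟨j, U, hx, hg⟩ := ProjUP.exists_isGen_of_generatedBy hL' s hs x
  exact ⟨⟨j⟩, VA11.mem_gl.2 ⟨U, le_top, hx, hg⟩⟩

end Groth.Agent.S10965
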