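import Groth.Statements.S10966
import Groth.Agent.Lib.AmpleImm18.General
import Groth.Agent.Lib.RelAmple18.Ops

set_option autoImplicit false
universe u
open CategoryTheory CategoryTheory.Limits AlgebraicGeometry
open RelAmple

namespace Groth.Agent.S10966

/-- Let R be a nonzero ring and X an affine scheme of finite type over R, with structure morphism q : X
→ Spec R. Then every invertible O_X-module L is very ample relative to q: there are a natural number
n and an immersion i : X → P^n over Spec R, compatible with q, such that i^*O(1) ≅ L. -/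
theorem result (R : Type u) [CommRing R] [Nontrivial R]
    {X : Scheme.{u}} [IsAffine X] (q : X ⟶ Spec (CommRingCat.of R)) [LocallyOfFiniteType q]
    (L : X.Modules) (hL : PicF.IsInvertible L) :
    RelAmple.IsRelVeryAmplePn q L := by
  have hO : CohB1.IsAmple (Coh.structureModule X) := Groth.Agent.RA.isQuasiAffine_iff_isAmple.1 inferInstance
  obtain ⟨m₀, hm₀⟩ := Groth.Agent.AmpleImm18.exists_immersion_over q hO hL
  obtain ⟨n, i, hi, hif, ⟨e⟩⟩ := hm₀ m₀ le_rfl
  have hpow : ∀ m : ℕ, Nonempty (CohB1.tensorPow (Coh.structureModule X) m ≅ Coh.structureModule X) := fun m => by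
    induction m with
    | zero => exact ⟨Iso.refl _⟩
    | succ m ih =>
      obtain ⟨e⟩ := ih
      exact ⟨Groth.Agent.M2.tensorRUnit _ ≪≫ e⟩
  obtain ⟨e'⟩ := hpow m₀
  exact ⟨n, i, hi, hif, ⟨(Groth.Agent.M2.tensorLUnit L).symm ≪≫
    Groth.Agent.M2.tensorIso e'.symm (Iso.refl L) ≪≫ e⟩⟩

end Groth.Agent.S10966
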