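import Groth.Statements.S10969
import Groth.Agent.Lib.FunField.Degree
-- import your own Groth.Agent.* helpers here

set_option autoImplicit false
open FunFld

namespace Groth.Agent.S10969

/-- For `x` transcendental over `k` in a function field of one variable `K/k`, the degree of the divisor
of zeros of `x` equals `[K : k(x)]`. -/
theorem result (k K : Type*) [Field k] [Field K] [Algebra k K]
    (hK : FunFld.IsFunctionField k K) (x : K) (hx : Transcendental k x) :
    (∑ P ∈ (FunFld.div k x).support with 0 < FunFld.div k x P,
        FunFld.div k x P * (P.deg : ℤ)) =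
      Module.finrank (IntermediateField.adjoin k ({x} : Set K)) K := by
  rw [← Groth.Agent.FunField.deg_poleDiv hK.1 hx]
  have h1 : (Groth.Agent.FunField.poleDiv (k := k) x⁻¹).deg = (Groth.Agent.FunField.poleDiv (k := k) x).deg := by
    have h2 : FunFld.div k x = Groth.Agent.FunField.poleDiv x⁻¹ - Groth.Agent.FunField.poleDiv x := by
      ext P
      simp [Groth.Agent.FunField.div_apply hK.1, Groth.Agent.FunField.poleDiv_apply hK.1]
    have h3 := Groth.Agent.FunField.deg_div hK.1 x
    rw [h2, Groth.Agent.FunField.deg_sub] at h3
    omega
  rw [← h1, Groth.Agent.FunField.deg_eq_sum _ _ (Finset.Subset.refl _)]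
  refine Finset.sum_congr ?_ fun P hP => ?_
  · ext P
    simp [Groth.Agent.FunField.div_apply hK.1, Groth.Agent.FunField.poleDiv_apply hK.1, Finset.mem_filter]
    omega
  · rw [Finsupp.mem_support_iff, Groth.Agent.FunField.poleDiv_apply hK.1] at hP
    simp [Groth.Agent.FunField.div_apply hK.1, Groth.Agent.FunField.poleDiv_apply hK.1] at hP ⊢
    left; omega

end Groth.Agent.S10969
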