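import Groth.Statements.S10975
import Groth.Agent.Lib.FunField.Riemann
-- import your own Groth.Agent.* helpers here

set_option autoImplicit false
open FunFld

namespace Groth.Agent.S10975

/-- `A(D₁ ⊔ D₂) = A(D₁) + A(D₂)` for divisors of a function field of one variable. -/
theorem result (k K : Type*) [Field k] [Field K] [Algebra k K] (D₁ D₂ : FunFld.Divisor k K) :
    FunFld.AD (D₁ ⊔ D₂) = FunFld.AD D₁ ⊔ FunFld.AD D₂ := by
  classical
  refine le_antisymm (fun a ha => ?_) (sup_le (Groth.Agent.FunField.AD_mono le_sup_left)
    (Groth.Agent.FunField.AD_mono le_sup_right))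
  refine Submodule.mem_sup.2 ⟨fun P => if D₂ P ≤ D₁ P then a P else 0, fun P => ?_,
    fun P => if D₂ P ≤ D₁ P then 0 else a P, fun P => ?_, ?_⟩
  · dsimp only
    split
    · rename_i h; simpa [h] using ha P
    · simp
  · dsimp only
    split
    · simp
    · rename_i h; simpa [max_eq_right (le_of_lt (not_le.1 h))] using ha P
  · funext P; simp only [Pi.add_apply]; split <;> simp

end Groth.Agent.S10975
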