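import Groth.Statements.S10977
import Groth.Agent.Lib.FunField.Degree
-- import your own Groth.Agent.* helpers here

set_option autoImplicit false
open FunFld

namespace Groth.Agent.S10977

/-- `ℓ(D₂) - ℓ(D₁) ≤ deg D₂ - deg D₁` for divisors `D₁ ≤ D₂` of a function field of one variable. -/
theorem result (k K : Type*) [Field k] [Field K] [Algebra k K]
    (hK : FunFld.IsFunctionField k K) (D₁ D₂ : FunFld.Divisor k K) (h : D₁ ≤ D₂) :
    (FunFld.ell D₂ : ℤ) - FunFld.ell D₁ ≤ D₂.deg - D₁.deg := by
  exact Groth.Agent.FunField.ell_sub_ell_le hK.1 h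

end Groth.Agent.S10977
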