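import Groth.Statements.S10978
import Groth.Agent.Lib.FunField.Riemann
-- import your own Groth.Agent.* helpers here

set_option autoImplicit false
open FunFld

namespace Groth.Agent.S10978

/-- In a function field of one variable the elements without poles are the constants, `L(0) = k`. -/
theorem result (k K : Type*) [Field k] [Field K] [Algebra k K]
    (hK : FunFld.IsFunctionField k K) : FunFld.L (0 : FunFld.Divisor k K) = 1 := by
  exact Groth.Agent.FunField.L_zero hK

end Groth.Agent.S10978
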