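import Groth.Statements.S10980
import Groth.Agent.Lib.FunField.Degree
-- import your own Groth.Agent.* helpers here

set_option autoImplicit false
open FunFld

namespace Groth.Agent.S10980

/-- `L(D) = 0` for every divisor `D` of negative degree in a function field of one variable. -/
theorem result (k K : Type*) [Field k] [Field K] [Algebra k K]
    (hK : FunFld.IsFunctionField k K) (D : FunFld.Divisor k K) (h : D.deg < 0) : FunFld.L D = ⊥ := by
  exact Groth.Agent.FunField.L_eq_bot_of_deg_neg hK.1 h

end Groth.Agent.S10980
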