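import Groth.Statements.S10997
import Groth.Agent.Lib.FunField.RR
-- import your own Groth.Agent.* helpers here

set_option autoImplicit false
open FunFld

namespace Groth.Agent.S10997

/-- Given distinct places `P∞, P_1, …, P_n` of a function field of one variable, elements `x_i` and
integers `m_i`, some `x ∈ K` has `ord_{P_i}(x - x_i) = m_i` for all `i` and is integral outside
`{P∞, P_1, …, P_n}`. -/
theorem result (k K : Type*) [Field k] [Field K] [Algebra k K]
    (hK : FunFld.IsFunctionField k K) (Pinf : FunFld.Place k K) (n : ℕ) (P : Fin n → FunFld.Place k K) (hP : Function.Injective P)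
    (hinf : Pinf ∉ Set.range P) (x : Fin n → K) (m : Fin n → ℤ) :
    ∃ y : K, (∀ i, (P i).1 (y - x i) = WithZero.exp (-(m i))) ∧
      ∀ Q : FunFld.Place k K, Q ≠ Pinf → Q ∉ Set.range P → Q.1 y ≤ 1 := by
  classical
  let Dm : FunFld.Divisor k K := ∑ i, Finsupp.single (P i) (m i + 1)
  obtain ⟨N, hN⟩ := Groth.Agent.FunField.exists_deg_delta hK
  have hdp : (1 : ℤ) ≤ Pinf.deg := by exact_mod_cast Groth.Agent.FunField.deg_pos hK.1 Pinf
  set e : ℤ := max 0 (N + Dm.deg) with he
  have hE := hN (Finsupp.single Pinf e - Dm) (by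
    rw [Groth.Agent.FunField.deg_sub, Groth.Agent.FunField.deg_single]
    have h1 : e ≤ e * Pinf.deg := le_mul_of_one_le_right (by rw [he]; exact le_max_left _ _) hdp
    have h2 : N + Dm.deg ≤ e := by rw [he]; exact le_max_right _ _
    omega)
  obtain ⟨hfin, hdim⟩ := Groth.Agent.FunField.finrank_adele_quotient hK (Finsupp.single Pinf e - Dm)
  rw [hE, sub_self] at hdim
  haveI := hfin
  have hsub : Subsingleton (↥(FunFld.adele k K) ⧸ FunFld.ADK (Finsupp.single Pinf e - Dm)) :=
    Module.finrank_zero_iff.1 (by exact_mod_cast hdim)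
  choose u hu using fun i => (P i).2.2 (WithZero.exp (-(m i)))
  let a : FunFld.Place k K → K := fun Q => if h : ∃ i, P i = Q then x h.choose + u h.choose else 0
  have ha : a ∈ FunFld.adele k K := by
    refine (Set.finite_range P).subset fun Q hQ => ?_
    by_contra hc
    apply hQ
    show Q.1 (a Q) ≤ 1
    dsimp only [a]
    split
    · rename_i hex; exact absurd hex hc
    · simp
  have hmem : (⟨a, ha⟩ : FunFld.adele k K) ∈ FunFld.ADK (Finsupp.single Pinf e - Dm) :=
    (Submodule.Quotient.mk_eq_zero _).1 (hsub.elim _ _)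
  obtain ⟨w, hw, v, ⟨y, rfl⟩, hwy⟩ := Submodule.mem_sup.1 (show a ∈
    FunFld.AD (Finsupp.single Pinf e - Dm) ⊔ LinearMap.range (FunFld.diag k K) from hmem)
  refine ⟨y, fun i => ?_, fun Q hQ hQ' => ?_⟩
  · have hai : a (P i) = x i + u i := by
      have hex : ∃ j, P j = P i := ⟨i, rfl⟩
      simp only [a, dif_pos hex]
      rw [hP hex.choose_spec]
    have hwi := congrFun hwy (P i)
    simp only [Pi.add_apply, FunFld.diag, LinearMap.pi_apply, LinearMap.id_apply] at hwi
    rw [hai] at hwi
    rw [show y - x i = -w (P i) + u i by linear_combination hwi]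
    rw [Valuation.map_add_eq_of_lt_right _ ?_, hu i]
    rw [Valuation.map_neg, hu i]
    refine lt_of_le_of_lt (hw (P i)) ?_
    rw [WithZero.exp_lt_exp, Finsupp.sub_apply, Finsupp.single_eq_of_ne (fun e => hinf ⟨i, e⟩)]
    simp only [Dm, Finsupp.finsetSum_apply]
    rw [Finset.sum_eq_single i (fun j _ hj => Finsupp.single_eq_of_ne fun e => hj (hP e).symm)
      (by simp), Finsupp.single_eq_same]
    omega
  · have hwi := congrFun hwy Q
    simp only [Pi.add_apply, FunFld.diag, LinearMap.pi_apply, LinearMap.id_apply] at hwi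
    simp only [a, dif_neg (show ¬ ∃ i, P i = Q from hQ')] at hwi
    rw [show y = -w Q by linear_combination hwi, Valuation.map_neg]
    refine (hw Q).trans_eq ?_
    rw [Finsupp.sub_apply, Finsupp.single_eq_of_ne hQ]
    simp only [Dm, Finsupp.finsetSum_apply]
    rw [Finset.sum_eq_zero fun j _ => Finsupp.single_eq_of_ne fun e => hQ' ⟨j, e.symm⟩]
    simp

end Groth.Agent.S10997
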