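import Groth.Statements.S10998
import Groth.Agent.Lib.FunField.GenusOne
-- import your own Groth.Agent.* helpers here

set_option autoImplicit false
open FunFld

namespace Groth.Agent.S10998

/-- A genus-one function field with a place `P₀` of degree one is `k(x, y)` with `x ∈ L(2P₀)`, `y ∈
L(3P₀)` of pole orders `2` and `3`, and `y² + f(x) y + g(x) = 0` for polynomials `f` of degree `≤ 1`
and `g` of degree `3`. -/
theorem result (k K : Type*) [Field k] [Field K] [Algebra k K]
    (hK : FunFld.IsFunctionField k K) (hg : FunFld.genus k K = 1) (P₀ : FunFld.Place k K) (hP : P₀.deg = 1) :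
    ∃ x y : K, x ∈ FunFld.L (Finsupp.single P₀ 2) ∧ y ∈ FunFld.L (Finsupp.single P₀ 3) ∧
      P₀.ord x = -2 ∧ P₀.ord y = -3 ∧
      IntermediateField.adjoin k ({x, y} : Set K) = ⊤ ∧
      ∃ f g : Polynomial k, f.natDegree ≤ 1 ∧ g.natDegree = 3 ∧
        y ^ 2 + Polynomial.aeval x f * y + Polynomial.aeval x g = 0 := by
  have hh := hK.1
  obtain ⟨x, hx0, hx, hxo⟩ := Groth.Agent.FunField.exists_ord_eq_g1 hK hg hP 2 le_rfl
  obtain ⟨y, hy0, hy, hyo⟩ := Groth.Agent.FunField.exists_ord_eq_g1 hK hg hP 3 (by norm_num)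
  refine ⟨x, y, hx, hy, hxo, hyo, Groth.Agent.FunField.adjoin_pair_eq_top hh hP (by norm_num) (by norm_num) (by decide) hx hxo hy hyo, ?_⟩
  classical
  let G : Fin 7 → K := ![1, x, y, x ^ 2, x * y, x ^ 3, y ^ 2]
  have hmem : ∀ i, G i ∈ FunFld.L (Finsupp.single P₀ 6) := by
    have hprod : ∀ (a b : ℕ), 2 * a + 3 * b ≤ 6 → x ^ a * y ^ b ∈ FunFld.L (Finsupp.single P₀ 6) := by
      intro a b hab
      refine (Groth.Agent.FunField.mem_L_iff_ord (mul_ne_zero (pow_ne_zero _ hx0) (pow_ne_zero _ hy0))).2 fun Q => ?_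
      rw [Groth.Agent.FunField.ord_mul Q (pow_ne_zero _ hx0) (pow_ne_zero _ hy0), Groth.Agent.FunField.ord_pow, Groth.Agent.FunField.ord_pow]
      rcases eq_or_ne Q P₀ with rfl | hQ
      · rw [hxo, hyo, Finsupp.single_eq_same]; push_cast; omega
      · have h1 := (Groth.Agent.FunField.mem_L_iff_ord hx0).1 hx Q
        have h2 := (Groth.Agent.FunField.mem_L_iff_ord hy0).1 hy Q
        rw [Finsupp.single_eq_of_ne hQ, add_zero] at h1 h2 ⊢
        positivity
    intro i
    fin_cases i
    · simpa [G] using hprod 0 0 (by norm_num)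
    · simpa [G] using hprod 1 0 (by norm_num)
    · simpa [G] using hprod 0 1 (by norm_num)
    · simpa [G] using hprod 2 0 (by norm_num)
    · simpa [G] using hprod 1 1 (by norm_num)
    · simpa [G] using hprod 3 0 (by norm_num)
    · simpa [G] using hprod 0 2 (by norm_num)
  haveI := Groth.Agent.FunField.finiteDimensional_L hh (Finsupp.single P₀ 6)
  have h6 := Groth.Agent.FunField.ell_g1_single hK hg hP (n := 6) (by norm_num)
  have hdep : ¬ LinearIndependent k G := by
    intro hind
    have := LinearIndependent.fintype_card_le_finrank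
      (b := fun i => (⟨G i, hmem i⟩ : FunFld.L (Finsupp.single P₀ 6)))
      (LinearIndependent.of_comp (FunFld.L (Finsupp.single P₀ 6)).subtype hind)
    rw [Fintype.card_fin] at this
    unfold FunFld.ell at h6
    omega
  rw [Fintype.not_linearIndependent_iff] at hdep
  obtain ⟨c, hc, i₀, hi₀⟩ := hdep
  simp only [Fin.sum_univ_succ, Fin.sum_univ_zero, G, Matrix.cons_val_zero, Matrix.cons_val_succ, add_zero] at hc
  have hordsub : ∀ (j : Fin 7), j ≠ 6 → j ≠ 5 → P₀.ord (G j) ≠ -6 := by
    intro j hj hj'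
    fin_cases j <;> simp [G, Groth.Agent.FunField.ord_mul P₀ hx0 hy0, Groth.Agent.FunField.ord_pow, hxo, hyo] at hj hj' ⊢
  have hc6 : c 6 ≠ 0 := by
    intro h60
    have hind : LinearIndependent k ![1, x, y, x ^ 2, x * y, x ^ 3] := by
      refine Groth.Agent.FunField.linearIndependent_of_ord P₀ _ (fun i => ?_) ?_
      · fin_cases i <;> simp [hx0, hy0]
      · intro a b hab
        fin_cases a <;> fin_cases b <;> simp [Groth.Agent.FunField.ord_mul P₀ hx0 hy0, Groth.Agent.FunField.ord_pow, hxo, hyo] at hab ⊢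
    have hz : ∀ i : Fin 6, ![c 0, c 1, c 2, c 3, c 4, c 5] i = 0 := Fintype.linearIndependent_iff.1 hind _ (by
      simp only [Fin.sum_univ_succ, Fin.sum_univ_zero, Matrix.cons_val_zero, Matrix.cons_val_succ, add_zero]
      have : c 6 • y ^ 2 = 0 := by rw [h60, zero_smul]
      linear_combination (norm := (simp [Fin.succ]; abel)) hc - this)
    fin_cases i₀ <;> first
      | exact hi₀ (hz 0) | exact hi₀ (hz 1) | exact hi₀ (hz 2)
      | exact hi₀ (hz 3) | exact hi₀ (hz 4) | exact hi₀ (hz 5) | exact hi₀ h60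
  have hc5 : c 5 ≠ 0 := by
    intro h50
    have hind : LinearIndependent k ![1, x, y, x ^ 2, x * y, y ^ 2] := by
      refine Groth.Agent.FunField.linearIndependent_of_ord P₀ _ (fun i => ?_) ?_
      · fin_cases i <;> simp [hx0, hy0]
      · intro a b hab
        fin_cases a <;> fin_cases b <;> simp [Groth.Agent.FunField.ord_mul P₀ hx0 hy0, Groth.Agent.FunField.ord_pow, hxo, hyo] at hab ⊢
    have hz : ∀ i : Fin 6, ![c 0, c 1, c 2, c 3, c 4, c 6] i = 0 := Fintype.linearIndependent_iff.1 hind _ (by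
      simp only [Fin.sum_univ_succ, Fin.sum_univ_zero, Matrix.cons_val_zero, Matrix.cons_val_succ, add_zero]
      have : c 5 • x ^ 3 = 0 := by rw [h50, zero_smul]
      linear_combination (norm := (simp [Fin.succ]; abel)) hc - this)
    exact hc6 (hz 5)
  refine ⟨Polynomial.C (c 2 / c 6) + Polynomial.C (c 4 / c 6) * Polynomial.X,
    Polynomial.C (c 0 / c 6) + Polynomial.C (c 1 / c 6) * Polynomial.X + Polynomial.C (c 3 / c 6) * Polynomial.X ^ 2 +
      Polynomial.C (c 5 / c 6) * Polynomial.X ^ 3, by compute_degree, ?_, ?_⟩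
  · compute_degree!
  · simp only [map_add, map_mul, Polynomial.aeval_C, Polynomial.aeval_X, map_pow, map_div₀]
    have h6' : algebraMap k K (c 6) ≠ 0 := by simpa using hc6
    field_simp
    simp only [Algebra.smul_def] at hc
    linear_combination (norm := (simp [Fin.succ]; ring)) hc

end Groth.Agent.S10998
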