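import Groth.Statements.S10999
import Groth.Agent.Lib.FunField.GenusOne
import Groth.Agent.Lib.FunField.LinEquiv
-- import your own Groth.Agent.* helpers here

set_option autoImplicit false
open FunFld

namespace Groth.Agent.S10999

/-- In a genus-one function field with a place `P₀` of degree one, `P ↦ P - P₀` is a bijection from the
places of degree one onto the divisor classes of degree zero. The geometric description of the group
law is not stated. -/
theorem result (k K : Type*) [Field k] [Field K] [Algebra k K]
    (hK : FunFld.IsFunctionField k K) (hg : FunFld.genus k K = 1) (P₀ : FunFld.Place k K) (hP : P₀.deg = 1)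
    (D : FunFld.Divisor k K) (hD : D.deg = 0) :
    ∃! P : FunFld.Place k K, P.deg = 1 ∧
      ∃ x : K, x ≠ 0 ∧ D = Finsupp.single P 1 - Finsupp.single P₀ 1 + FunFld.div k x := by
  classical
  have h := Groth.Agent.FunField.ff hK
  open Groth.Agent.FunField in
  have hdeg : (D + Finsupp.single P₀ 1).deg = 1 := by rw [deg_add, hD, deg_single, hP]; simp
  have hl := Groth.Agent.FunField.ell_g1 hK hg (D + Finsupp.single P₀ 1) (by rw [hdeg])
  rw [hdeg] at hl
  obtain ⟨E, hE, x, hx, hEx⟩ := Groth.Agent.FunField.exists_effective h (D := D + Finsupp.single P₀ 1) (by omega)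
  have hEd : E.deg = 1 := by rw [hEx, Groth.Agent.FunField.deg_add, Groth.Agent.FunField.deg_div h, hdeg, add_zero]
  obtain ⟨R, hR⟩ : ∃ R, 0 < E R := by
    by_contra hc
    push Not at hc
    have := Groth.Agent.FunField.deg_mono (show E ≤ 0 from hc)
    rw [Groth.Agent.FunField.deg_zero] at this
    omega
  have hle : Finsupp.single R 1 ≤ E := by
    intro S
    simp only [Finsupp.single_apply]
    split
    · rename_i e; subst e; omega
    · exact hE S
  have hRd : R.deg = 1 := by
    have h1 := Groth.Agent.FunField.deg_mono hle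
    rw [hEd, Groth.Agent.FunField.deg_single] at h1
    have := Groth.Agent.FunField.deg_pos h R
    omega
  have hER : Finsupp.single R 1 = E := (Groth.Agent.FunField.eq_of_le_of_deg h hle (by
    rw [hEd, Groth.Agent.FunField.deg_single, hRd]; simp))
  refine ⟨R, ⟨hRd, x⁻¹, inv_ne_zero hx, ?_⟩, ?_⟩
  · rw [Groth.Agent.FunField.div_inv h, hER, hEx]
    abel
  · rintro P ⟨hPd, y, hy, hDy⟩
    have hl1 := Groth.Agent.FunField.ell_single_one hK (by omega) hRd
    have hLE : Groth.Agent.FunField.LE' (Finsupp.single R 1) (Finsupp.single P 1) := by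
      refine ⟨(x * y)⁻¹, inv_ne_zero (mul_ne_zero hx hy), ?_⟩
      rw [Groth.Agent.FunField.div_inv h, Groth.Agent.FunField.div_mul h hx hy, hER, hEx, hDy]
      abel
    have := Groth.Agent.FunField.eq_of_ell_eq_one hK (Finsupp.single_nonneg.2 zero_le_one)
      (Finsupp.single_nonneg.2 zero_le_one) hl1 hLE
    exact (Finsupp.single_left_inj one_ne_zero).1 this

end Groth.Agent.S10999
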