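import Groth.Statements.S1100
import Groth.Agent.Lib.DGen9.RelAmpBC
import Groth.Agent.Lib.KFlat.LpullPC

set_option autoImplicit false
set_option linter.style.haveILetI false
set_option backward.isDefEq.respectTransparency false
universe u
open CategoryTheory CategoryTheory.Limits AlgebraicGeometry Opposite
attribute [local instance] HasDerivedCategory.standard
open Perf

namespace Groth.Agent.S1100

/-- Let f : X ⟶ S be flat and locally of finite presentation, g : S' ⟶ S any morphism, X' = X ×_S S'
with projections g' : X' ⟶ X and f' : X' ⟶ S'. Assume L(g')^* exists. If K ∈ D(O_X) is S-perfect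
(pseudo-coherent and locally of finite tor dimension as a complex of f⁻¹O_S-modules, the latter in
the form: locally represented by bounded complexes of S-flat modules), then L(g')^*K is S'-perfect. -/
theorem result {X S S' : Scheme.{u}} (f : X ⟶ S) [Flat f] [LocallyOfFinitePresentation f] (g : S' ⟶ S)
    [DCoh.HasLpull (pullback.fst f g)] (K : DCoh.D X) (hK : ((∀ m : ℤ, DCoh.IsPseudoCoherentD m K) ∧ DCoh.LocHasFiniteRelTorDim f K)) :
    ((∀ m : ℤ, DCoh.IsPseudoCoherentD m ((DCoh.Lpull (pullback.fst f g)).obj K)) ∧ DCoh.LocHasFiniteRelTorDim (pullback.snd f g) ((DCoh.Lpull (pullback.fst f g)).obj K)) := by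
  refine ⟨fun m => Groth.Agent.KFlat.Sch.isPseudoCoherent_lpull _ (hK.1 m), ?_⟩
  obtain ⟨e⟩ := Groth.Agent.DMon9.nonempty_lpull_iso_lP (pullback.fst f g) K
  exact Groth.Agent.RelT.locHasFiniteRelTorDim_baseChange f g K
    (fun i => Groth.Agent.DPerf.isQCoh_HD (hK.1 (i - 1)) (by omega)) hK.2 _ e

end Groth.Agent.S1100
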