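import Groth.Statements.S11002
import Groth.Agent.Lib.GeomFF26.Basic
-- import your own Groth.Agent.* helpers here

set_option autoImplicit false
universe u v
open FunFld

namespace Groth.Agent.S11002

/-- In a geometric function field of one variable of characteristic `p > 0`, `x ∈ kK^p` iff `dx = 0` in
`Ω_{K/k}` iff `x` is not a separating variable (`K/k(x)` not separable algebraic). -/
theorem result (k : Type u) (K : Type v) [Field k] [Field K] [Algebra k K] (p : ℕ) [Fact p.Prime] [CharP K p]
    (hK : FunFld.IsFunctionField k K) (hg : FunFld.IsGeometric k K) (x : K) :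
    (x ∈ IntermediateField.adjoin k (Set.range fun y : K => y ^ p) ↔ KaehlerDifferential.D k K x = 0) ∧
    (x ∈ IntermediateField.adjoin k (Set.range fun y : K => y ^ p) ↔
      ¬ Algebra.IsSeparable (IntermediateField.adjoin k ({x} : Set K)) K) := by
  refine ⟨GeomFF26.mem_kKp_iff p hK.1 hg x, ?_⟩
  rw [GeomFF26.isSeparable_iff_D_ne_zero hK.1 hg, not_not]
  exact GeomFF26.mem_kKp_iff p hK.1 hg x

end Groth.Agent.S11002
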