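import Groth.Statements.S11003
import Groth.Agent.Lib.GeomFF26.Basic
-- import your own Groth.Agent.* helpers here

set_option autoImplicit false
universe u v
open FunFld

namespace Groth.Agent.S11003

/-- `dim_K Ω_{K/k} = 1` for a geometric function field of one variable `K/k`. -/
theorem result (k : Type u) (K : Type v) [Field k] [Field K] [Algebra k K]
    (hK : FunFld.IsFunctionField k K) (hg : FunFld.IsGeometric k K) :
    Module.finrank K (KaehlerDifferential k K) = 1 := by
  exact GeomFF26.finrank_kaehler hK.1 hg

end Groth.Agent.S11003
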