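import Groth.Statements.S11006
import Groth.Agent.Lib.GeomFF26.Basic
import Groth.Agent.Lib.FunField.Riemann
import Mathlib.LinearAlgebra.TensorProduct.Tower
-- import your own Groth.Agent.* helpers here

set_option autoImplicit false
universe u v
open FunFld

namespace Groth.Agent.S11006

/-- For `K/k` a geometric function field of one variable and `k'/k` finite, the field `K' = k' ⊗_k K` is
a geometric function field of one variable over `k'`: some element of `K'` is transcendental over
`k'` with `K'` of finite degree over the subfield it generates over `k'`, `k'` is algebraically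
closed in `K'`, and `K'` stays a field after tensoring over `k'` with any finite field extension of
`k'`. -/
theorem result (k k' : Type u) (K K' : Type v) [Field k] [Field k'] [Field K] [Field K']
    [Algebra k k'] [FiniteDimensional k k'] [Algebra k K] [Algebra K K'] [Algebra k' K'] [Algebra k K']
    [IsScalarTower k k' K'] [IsScalarTower k K K']
    (h : Function.Bijective (Algebra.TensorProduct.productMap
      (IsScalarTower.toAlgHom k k' K') (IsScalarTower.toAlgHom k K K')))
    (hK : FunFld.IsFunctionField k K) (hg : FunFld.IsGeometric k K) :
    FunFld.IsFunctionField k' K' ∧ FunFld.IsGeometric k' K' := by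
  let f : TensorProduct k k' K →ₐ[k'] K' :=
    Algebra.TensorProduct.lift (Algebra.ofId k' K') (IsScalarTower.toAlgHom k K K') (fun _ _ => Commute.all _ _)
  have hf : ⇑f = ⇑(Algebra.TensorProduct.productMap (IsScalarTower.toAlgHom k k' K') (IsScalarTower.toAlgHom k K K')) :=
    funext fun z => by
      induction z using TensorProduct.induction_on with
      | zero => simp
      | add a b ha hb => simp [map_add, ha, hb]
      | tmul a b => simp [f, Algebra.ofId_apply]
  let e : TensorProduct k k' K ≃ₐ[k'] K' := AlgEquiv.ofBijective f (hf ▸ h)
  have hgeo : FunFld.IsGeometric k' K' := by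
    intro L _ _ hL
    haveI := hL
    letI : Algebra k L := ((algebraMap k' L).comp (algebraMap k k')).toAlgebra
    haveI : IsScalarTower k k' L := IsScalarTower.of_algebraMap_eq fun _ => rfl
    have h1 := hg L (Module.Finite.trans k' L)
    exact MulEquiv.isField h1 ((Algebra.TensorProduct.congr AlgEquiv.refl e.symm).trans
      ((Algebra.TensorProduct.cancelBaseChange k k' L L K).restrictScalars k')).toMulEquiv
  refine ⟨⟨?_, ?_⟩, hgeo⟩
  · obtain ⟨x, hx, hfin⟩ := FunField.ff hK
    haveI := hfin
    haveI : FiniteDimensional K K' := by
      let g : TensorProduct k K k' →ₐ[K] K' :=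
        Algebra.TensorProduct.lift (Algebra.ofId K K') (IsScalarTower.toAlgHom k k' K') (fun _ _ => Commute.all _ _)
      refine Module.Finite.of_surjective g.toLinearMap fun y => ?_
      obtain ⟨z, rfl⟩ := h.2 y
      induction z using TensorProduct.induction_on with
      | zero => exact ⟨0, by simp⟩
      | add a b ha hb =>
        obtain ⟨u, hu⟩ := ha
        obtain ⟨v, hv⟩ := hb
        exact ⟨u + v, by rw [map_add, map_add, hu, hv]⟩
      | tmul a b => exact ⟨b ⊗ₜ[k] a, by simp [g, Algebra.ofId_apply, mul_comm]⟩
    haveI := FiniteDimensional.trans (IntermediateField.adjoin k ({x} : Set K)) K K'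
    refine ⟨algebraMap K K' x, fun halg => hx ((isAlgebraic_algebraMap_iff (algebraMap K K').injective).1
      (halg.restrictScalars k)), ?_⟩
    set E := IntermediateField.adjoin k' ({algebraMap K K' x} : Set K')
    have hle : ∀ z : IntermediateField.adjoin k ({x} : Set K), algebraMap K K' z ∈ E := fun z => by
      refine IntermediateField.adjoin_induction (F := k) (p := fun w _ => algebraMap K K' w ∈ E) ?_ ?_
        (fun a b _ _ ha hb => by rw [map_add]; exact add_mem ha hb)
        (fun a _ ha => by rw [map_inv₀]; exact inv_mem ha)
        (fun a b _ _ ha hb => by rw [map_mul]; exact mul_mem ha hb) z.2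
      · intro w hw; rw [Set.mem_singleton_iff] at hw; exact hw ▸ IntermediateField.mem_adjoin_simple_self k' _
      · intro c; rw [← IsScalarTower.algebraMap_apply, IsScalarTower.algebraMap_apply k k' K']; exact E.algebraMap_mem _
    letI : Algebra (IntermediateField.adjoin k ({x} : Set K)) E :=
      (((algebraMap K K').comp (IntermediateField.adjoin k ({x} : Set K)).toSubalgebra.val.toRingHom).codRestrict
        E.toSubalgebra.toSubring hle).toAlgebra
    haveI : IsScalarTower (IntermediateField.adjoin k ({x} : Set K)) E K' := IsScalarTower.of_algebraMap_eq fun _ => rfl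
    exact Module.Finite.of_restrictScalars_finite (IntermediateField.adjoin k ({x} : Set K)) E K'
  · intro y hy
    have hy' := hy.isIntegral
    haveI : Fact (Irreducible (minpoly k' y)) := ⟨minpoly.irreducible hy'⟩
    haveI : FiniteDimensional k' (AdjoinRoot (minpoly k' y)) :=
      (AdjoinRoot.powerBasis (minpoly.ne_zero hy')).finite
    letI : Field (TensorProduct k' K' (AdjoinRoot (minpoly k' y))) :=
      (MulEquiv.isField (hgeo (AdjoinRoot (minpoly k' y)) inferInstance)
        (Algebra.TensorProduct.comm k' K' (AdjoinRoot (minpoly k' y))).toMulEquiv).toField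
    let Φ : TensorProduct k' K' (AdjoinRoot (minpoly k' y)) →ₐ[K'] K' :=
      Algebra.TensorProduct.lift (AlgHom.id K' K')
        ((IntermediateField.val _).comp (IntermediateField.adjoinRootEquivAdjoin k' hy').toAlgHom)
        (fun _ _ => Commute.all _ _)
    have hle := LinearMap.finrank_le_finrank_of_injective (f := Φ.toLinearMap) Φ.toRingHom.injective
    rw [Module.finrank_baseChange, Module.finrank_self,
      (IntermediateField.adjoinRootEquivAdjoin k' hy').toLinearEquiv.finrank_eq] at hle
    haveI := IntermediateField.adjoin.finiteDimensional hy'
    have h1 := le_antisymm hle Module.finrank_pos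
    exact IntermediateField.mem_bot.1 (IntermediateField.finrank_eq_one_iff.1 h1 ▸ IntermediateField.mem_adjoin_simple_self k' y)

end Groth.Agent.S11006
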