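import Groth.Statements.S11007
import Groth.Agent.Lib.GeomFF26.Basic
-- import your own Groth.Agent.* helpers here

set_option autoImplicit false
universe u v
open FunFld

namespace Groth.Agent.S11007

/-- In a geometric function field of one variable of characteristic `p > 0`, `kK^p` is the only
intermediate field over which `K` is purely inseparable of degree `p`. The companion assertion about
the natural map on Kähler differentials is not stated. -/
theorem result (k : Type u) (K : Type v) [Field k] [Field K] [Algebra k K] (p : ℕ) [Fact p.Prime] [CharP K p]
    (hK : FunFld.IsFunctionField k K) (hg : FunFld.IsGeometric k K) (K₀ : IntermediateField k K) :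
    (IsPurelyInseparable K₀ K ∧ Module.finrank K₀ K = p) ↔ K₀ = IntermediateField.adjoin k (Set.range fun y : K => y ^ p) := by
  exact GeomFF26.eq_kKp_iff p hK.1 hg K₀

end Groth.Agent.S11007
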