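import Groth.Statements.S11010
import Groth.Agent.Lib.GeomFF26.Regular
import Groth.Agent.Lib.FunField.Riemann
-- import your own Groth.Agent.* helpers here

set_option autoImplicit false
universe u v
open FunFld

namespace Groth.Agent.S11010

/-- A finite separable extension `K'/k'` of a geometric function field of one variable `K/k` (with `k'`
the constant field of `K'`) is again geometric. (The published statement has no separability
hypothesis on `K'/K`; for `k = 𝔽_p(s,t)`, `K = k(x)` and `K' = K(y)` with `y^p = s x^p + t`, the
field `k` is algebraically closed in `K'` yet `k(s^{1/p}, t^{1/p}) ⊗_k K'` has nonzero nilpotents,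
so `K'/K` is taken separable here.) -/
theorem result (k k' : Type u) (K K' : Type v) [Field k] [Field k'] [Field K] [Field K']
    [Algebra k k'] [Algebra k K] [Algebra K K'] [Algebra k' K'] [Algebra k K']
    [IsScalarTower k k' K'] [IsScalarTower k K K'] [FiniteDimensional K K'] [Algebra.IsSeparable K K']
    (hK : FunFld.IsFunctionField k K) (hg : FunFld.IsGeometric k K)
    (hK' : FunFld.IsFunctionField k' K') : FunFld.IsGeometric k' K' := by
  obtain ⟨x, hx, hsep⟩ := GeomFF26.exists_separating (FunField.ff hK) hg
  haveI := hsep
  haveI : FiniteDimensional (IntermediateField.adjoin k ({x} : Set K)) K :=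
    FunField.FF.finiteDimensional (FunField.ff hK) hx
  haveI := Algebra.IsSeparable.trans (IntermediateField.adjoin k ({x} : Set K)) K K'
  haveI := Module.Finite.trans (R := IntermediateField.adjoin k ({x} : Set K)) K K'
  set E := IntermediateField.adjoin k' ({algebraMap K K' x} : Set K') with hE
  have hle : ∀ z : IntermediateField.adjoin k ({x} : Set K), algebraMap K K' z ∈ E := fun z => by
    refine IntermediateField.adjoin_induction (F := k) (p := fun w _ => algebraMap K K' w ∈ E) ?_ ?_
      (fun a b _ _ ha hb => by rw [map_add]; exact add_mem ha hb)
      (fun a _ ha => by rw [map_inv₀]; exact inv_mem ha)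
      (fun a b _ _ ha hb => by rw [map_mul]; exact mul_mem ha hb) z.2
    · intro w hw; rw [Set.mem_singleton_iff] at hw; exact hw ▸ IntermediateField.mem_adjoin_simple_self k' _
    · intro c; rw [← IsScalarTower.algebraMap_apply, IsScalarTower.algebraMap_apply k k' K']; exact E.algebraMap_mem _
  letI : Algebra (IntermediateField.adjoin k ({x} : Set K)) E :=
    (((algebraMap K K').comp (IntermediateField.adjoin k ({x} : Set K)).toSubalgebra.val.toRingHom).codRestrict
      E.toSubalgebra.toSubring hle).toAlgebra
  haveI : IsScalarTower (IntermediateField.adjoin k ({x} : Set K)) E K' := IsScalarTower.of_algebraMap_eq fun _ => rfl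
  haveI : FiniteDimensional E K' := Module.Finite.of_restrictScalars_finite (IntermediateField.adjoin k ({x} : Set K)) E K'
  haveI : Algebra.IsSeparable E K' := Algebra.isSeparable_tower_top_of_isSeparable (IntermediateField.adjoin k ({x} : Set K)) E K'
  have htr : Transcendental k' (algebraMap K K' x) := fun ha => by
    obtain ⟨z, hz, -⟩ := FunField.ff hK'
    haveI : FiniteDimensional k' E := IntermediateField.adjoin.finiteDimensional ha.isIntegral
    haveI := FiniteDimensional.trans k' E K'
    exact hz (Algebra.IsAlgebraic.isAlgebraic z)
  exact GeomFF26.isGeometric_of_separating hK'.2 htr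

end Groth.Agent.S11010
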