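import Groth.Statements.S11017
import Groth.Agent.Lib.FunField.RR
-- import your own Groth.Agent.* helpers here

set_option autoImplicit false
open FunFld

namespace Groth.Agent.S11017

/-- For a Weil differential `ω` with divisor `C`, `ord_P [ω] ≥ e` iff `ω` kills every repartition
concentrated at `P` with `P`-component of order at least `-e`. -/
theorem result (k K : Type*) [Field k] [Field K] [Algebra k K] (ω : Module.Dual k (FunFld.adele k K)) (C : FunFld.Divisor k K) (hω : FunFld.IsDivOf ω C)
    (P : FunFld.Place k K) (e : ℤ) :
    e ≤ C P ↔ ∀ (a : FunFld.Place k K → K) (ha : a ∈ FunFld.adele k K),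
      (∀ Q, Q ≠ P → a Q = 0) → P.1 (a P) ≤ WithZero.exp e → ω ⟨a, ha⟩ = 0 := by
  classical
  have hge : ω ∈ FunFld.WD C := (hω C).2 le_rfl
  constructor
  · intro he a ha hsupp hval
    have hmem : (⟨a, ha⟩ : FunFld.adele k K) ∈ FunFld.ADK C := by
      refine Submodule.mem_sup_left (fun R => ?_)
      rcases eq_or_ne R P with rfl | hR
      · exact hval.trans (WithZero.exp_le_exp.2 he)
      · show R.1 (a R) ≤ _
        rw [hsupp R hR]; simp
    exact (Groth.Agent.FunField.mem_WD.1 hge) _ hmem
  · intro hvan
    by_contra hlt
    push Not at hlt
    let E : FunFld.Divisor k K := C + Finsupp.single P (e - C P)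
    have hE : ω ∈ FunFld.WD E := by
      rw [Groth.Agent.FunField.mem_WD]
      intro a ha
      obtain ⟨u, hu, v, hv, huv⟩ := Submodule.mem_sup.1 (show (a : FunFld.Place k K → K) ∈
        FunFld.AD E ⊔ LinearMap.range (FunFld.diag k K) from ha)
      let u' : FunFld.Place k K → K := fun R => if R = P then u R else 0
      have hu' : u' ∈ FunFld.adele k K := Groth.Agent.FunField.AD_le_adele E (fun R => by
        show R.1 (if R = P then u R else 0) ≤ _
        split
        · exact hu R
        · simp)
      have h1 := hvan u' hu' (fun R hR => if_neg hR) (by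
        show P.1 (if P = P then u P else 0) ≤ _
        rw [if_pos rfl]
        have := hu P
        simpa [E] using this)
      have h2 : ω (a - ⟨u', hu'⟩) = 0 := by
        refine (Groth.Agent.FunField.mem_WD.1 hge) _ ?_
        show (a : FunFld.Place k K → K) - u' ∈ FunFld.AD C ⊔ LinearMap.range (FunFld.diag k K)
        rw [← huv, add_sub_right_comm]
        refine Submodule.add_mem_sup (fun R => ?_) hv
        rw [Pi.sub_apply]
        show R.1 (u R - if R = P then u R else 0) ≤ _
        split
        · simp
        · rename_i hR
          simpa [E, Finsupp.single_eq_of_ne hR] using hu R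
      rwa [map_sub, h1, sub_zero] at h2
    have := (hω E).1 hE P
    simp [E] at this
    omega

end Groth.Agent.S11017
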