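import Groth.Statements.S11019
import Groth.Agent.Lib.FunField.Hyper26
-- import your own Groth.Agent.* helpers here

set_option autoImplicit false
open FunFld

namespace Groth.Agent.S11019

/-- For `char k ≠ 2` and `K = k(x, y)` with `x` transcendental and `y² = f(x)`, `f` squarefree of degree
`≥ 1`: the field `k` is algebraically closed in `K` (whatever in `K` is algebraic over `k` lies in
`k`), and `K/k` is a function field of one variable. -/
theorem result (k K : Type*) [Field k] [Field K] [Algebra k K] (h2 : ringChar k ≠ 2) (x y : K) (hx : Transcendental k x)
    (hxy : IntermediateField.adjoin k ({x, y} : Set K) = ⊤)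
    (f : Polynomial k) (hf : Squarefree f) (hd : 1 ≤ f.natDegree)
    (heq : y ^ 2 = Polynomial.aeval x f) : FunFld.IsFunctionField k K := by
  exact (Groth.Agent.FunField.Hyp.of_adjoin h2 hx hxy hf hd heq).isFunctionField

end Groth.Agent.S11019
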