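import Groth.Statements.S11020
import Groth.Agent.Lib.GeomFF26.Unramified
-- import your own Groth.Agent.* helpers here

set_option autoImplicit false
open FunFld

namespace Groth.Agent.S11020

/-- In a finite separable extension `K'/K` of function fields of one variable, almost all places `Q` of
`K'` have `e(Q|P) = 1` over the place `P` of `K` below. (The published statement also gives
separability of almost all residue extensions `F_Q/F_P`; only the ramification part is stated here.) -/
theorem result (k K K' : Type*) [Field k] [Field K] [Field K'] [Algebra k K] [Algebra K K'] [Algebra k K']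
    [IsScalarTower k K K'] [FiniteDimensional K K'] (hK : FunFld.IsFunctionField k K) [Algebra.IsSeparable K K'] :
    {Q : FunFld.Place k K' | ¬ Function.Surjective (Q.1.comap (algebraMap K K'))}.Finite := by
  obtain ⟨T, hT, hgood⟩ := GeomFF26.exists_finite_bad (k := k) (K := K) (K' := K') (FunField.ff hK)
  refine hT.subset fun Q hQ => by_contra fun hn => hQ ?_
  obtain ⟨e, he⟩ := FunField.isOver_under (FunField.ff hK) Q
  obtain ⟨he1, -⟩ := hgood Q hn _ e he
  intro v
  obtain ⟨x, hx⟩ := (FunField.under (FunField.ff hK) Q).2.2 v
  exact ⟨x, by rw [Valuation.comap_apply, he, he1, pow_one, hx]⟩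

end Groth.Agent.S11020
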