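import Groth.Statements.S11026
import Groth.Agent.Lib.GeomFF26.Basic
import Groth.Agent.Lib.FunField.Riemann
-- import your own Groth.Agent.* helpers here

set_option autoImplicit false
universe u v
open FunFld

namespace Groth.Agent.S11026

/-- A weakly separable finite extension `K'/k'` of a geometric function field `K/k` (the map `Ω_{K/k} →
Ω_{K'/k'}` injective) is separable over the compositum `k'K`. -/
theorem result (k k' : Type u) (K K' : Type v) [Field k] [Field k'] [Field K] [Field K']
    [Algebra k k'] [Algebra k K] [Algebra K K'] [Algebra k' K'] [Algebra k K']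
    [IsScalarTower k k' K'] [IsScalarTower k K K'] [FiniteDimensional K K']
    (hK : FunFld.IsFunctionField k K) (hg : FunFld.IsGeometric k K)
    (hK' : FunFld.IsFunctionField k' K') (hg' : FunFld.IsGeometric k' K')
    (hw : Function.Injective (KaehlerDifferential.map k k' K K')) :
    Algebra.IsSeparable (IntermediateField.adjoin K (Set.range (algebraMap k' K'))) K' := by
  obtain ⟨x, hx⟩ := GeomFF26.exists_sep (FunField.ff hK) hg
  have hne : KaehlerDifferential.D k' K' (algebraMap K K' x) ≠ 0 := fun h0 =>
    GeomFF26.D_ne_zero_of_sep (FunField.ff hK) hx (hw (by rw [KaehlerDifferential.map_D, h0, map_zero]))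
  haveI := (GeomFF26.isSeparable_iff_D_ne_zero (FunField.ff hK') hg' _).2 hne
  set F := IntermediateField.adjoin K (Set.range (algebraMap k' K'))
  set E := IntermediateField.adjoin k' ({algebraMap K K' x} : Set K')
  have hle : ∀ z : E, (z : K') ∈ F := fun z => by
    refine IntermediateField.adjoin_induction (F := k') (p := fun w _ => w ∈ F) ?_ ?_ (fun _ _ _ _ => add_mem)
      (fun _ _ => inv_mem) (fun _ _ _ _ => mul_mem) z.2
    · intro w hw; rw [Set.mem_singleton_iff] at hw; exact hw ▸ F.algebraMap_mem x
    · exact fun c => IntermediateField.subset_adjoin _ _ ⟨c, rfl⟩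
  letI : Algebra E F := ((E.toSubalgebra.val.toRingHom).codRestrict F.toSubalgebra.toSubring hle).toAlgebra
  haveI : IsScalarTower E F K' := IsScalarTower.of_algebraMap_eq fun _ => rfl
  exact Algebra.isSeparable_tower_top_of_isSeparable E F K'

end Groth.Agent.S11026
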