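import Groth.Statements.S11029
import Groth.Agent.Lib.FunField.Ramif26
-- import your own Groth.Agent.* helpers here

set_option autoImplicit false
open FunFld

namespace Groth.Agent.S11029

/-- For an intermediate field `E` of a finite Galois extension `K'/K` of a geometric function field of
one variable and a place `Q` of `K'`, `e(Q ∩ E | Q ∩ K) = 1` iff `E` lies in the inertia field `K₁`
of `Q`. (Residue field of `Q` assumed separable over `k`; the total ramification of `K'/K₁` is not
stated.) -/
theorem result (k K K' : Type*) [Field k] [Field K] [Field K'] [Algebra k K] [Algebra K K'] [Algebra k K']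
    [IsScalarTower k K K'] [FiniteDimensional K K'] (hK : FunFld.IsFunctionField k K) (hg : FunFld.IsGeometric k K) [IsGalois K K'] (Q : FunFld.Place k K') [Algebra.IsSeparable k (IsLocalRing.ResidueField Q.O)]
    (E : IntermediateField K K') :
    Set.range (Q.1.comap (algebraMap E K')) = Set.range (Q.1.comap (algebraMap K K')) ↔
      E ≤ IntermediateField.fixedField
        (((Q.O).inertiaSubgroup K).map ((Q.O).decompositionSubgroup K).subtype) := by
  rw [Groth.Agent.FunField.inertia_map_eq]
  exact Groth.Agent.FunField.range_eq_iff E hK.1

end Groth.Agent.S11029
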