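import Groth.Statements.S11031
import Groth.Agent.Lib.FunField.RR
-- import your own Groth.Agent.* helpers here

set_option autoImplicit false
open FunFld

namespace Groth.Agent.S11031

/-- An effective divisor `D` of degree `< g` on a function field of one variable of genus `g` is
special: some nonzero Weil differential vanishes on `A(D) + K`. (The published statement is phrased
with differential forms `Ω_K(D)`, identified with `W_K(D)` by duality; the Weil-differential form is
stated.) -/
theorem result (k K : Type*) [Field k] [Field K] [Algebra k K]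
    (hK : FunFld.IsFunctionField k K) (D : FunFld.Divisor k K) (hD : 0 ≤ D) (hdeg : D.deg < FunFld.genus k K) :
    ∃ ω : Module.Dual k (FunFld.adele k K), ω ≠ 0 ∧ ω ∈ FunFld.WD D := by
  obtain ⟨h1, h2⟩ := Groth.Agent.FunField.finrank_WD hK D
  have h3 := Groth.Agent.FunField.delta_zero hK
  have h4 := Groth.Agent.FunField.ell_mono hK.1 hD
  rw [Groth.Agent.FunField.ell_zero hK] at h4
  have h5 : FunFld.WD D ≠ ⊥ := fun hb => by
    rw [hb, finrank_bot, Groth.Agent.FunField.delta] at h2
    omega
  obtain ⟨ω, hω, h0⟩ := Submodule.exists_mem_ne_zero_of_ne_bot h5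
  exact ⟨ω, h0, hω⟩

end Groth.Agent.S11031
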