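import Groth.Statements.S11034
import Groth.Agent.Lib.FunField.HyperPlaces26
-- import your own Groth.Agent.* helpers here

set_option autoImplicit false
open FunFld

namespace Groth.Agent.S11034

/-- For `char k ≠ 2` and `K = k(x, y)`, `y² = f(x)` with `f` squarefree, each irreducible factor `p` of
`f` has a unique place `P` of `K` above it, with `e(P|p) = 2`, `f(P|p) = 1` and `deg P = deg p`. The
zero divisor of `y` and the behaviour above the infinite place of `k(x)` are not stated. -/
theorem result (k K : Type*) [Field k] [Field K] (h2 : ringChar k ≠ 2) [Algebra k K]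
    [Algebra (RatFunc k) K] [IsScalarTower k (RatFunc k) K]
    (hdeg : Module.finrank (RatFunc k) K = 2) (y : K) (f : Polynomial k) (hf : Squarefree f)
    (hd : 1 ≤ f.natDegree)
    (heq : y ^ 2 = algebraMap (RatFunc k) K (algebraMap (Polynomial k) (RatFunc k) f))
    (p : Polynomial k) (hp : Irreducible p) (hpf : p ∣ f)
    (P₀ : FunFld.Place k (RatFunc k)) (hP₀ : P₀.1 (algebraMap (Polynomial k) (RatFunc k) p) < 1) :
    (∃! P : FunFld.Place k K, FunFld.IsOver P P₀) ∧
    ∀ P : FunFld.Place k K, FunFld.IsOver P P₀ → FunFld.IsOverWith P P₀ 2 ∧ P.deg = P₀.deg := by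
  open Groth.Agent.FunField in
  haveI : FiniteDimensional (RatFunc k) K := Module.finite_of_finrank_eq_succ hdeg
  open Groth.Agent.FunField in
  have H := Hyp.of_ratFunc h2 hdeg hf hd heq
  open Groth.Agent.FunField in
  refine ⟨?_, fun P hP => ?_⟩
  · obtain ⟨P, e, he⟩ := Groth.Agent.FunField.exists_over (K' := K) Groth.Agent.FunField.ff_ratFunc P₀
    exact ⟨P, ⟨e, he⟩, fun Q hQ => (H.ramified hdeg hp hpf hP₀ he).2.2.2 Q hQ⟩
  · obtain ⟨e, he⟩ := hP
    obtain ⟨rfl, -, h3, -⟩ := H.ramified hdeg hp hpf hP₀ he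
    exact ⟨he, h3⟩

end Groth.Agent.S11034
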