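import Groth.Statements.S11038
import Groth.Agent.Lib.GeomFF26.Zeta
-- import your own Groth.Agent.* helpers here

set_option autoImplicit false
open FunFld

namespace Groth.Agent.S11038

/-- `L_K(1) = h_K`, the class number, where `L_K(t) = (1 - t)(1 - q t) Z_K(t)` is the numerator of the
zeta function. -/
theorem result
    (k K : Type*) [Field k] [Finite k] [Field K] [Algebra k K]
    (hK : FunFld.IsFunctionField k K) (p : Polynomial ℤ)
    (hp : (p : PowerSeries ℤ) = FunFld.numerZ k K) :
    p.eval 1 = (FunFld.classNum k K : ℤ) := by
  exact GeomFF26.eval_one hK hp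

end Groth.Agent.S11038
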