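import Groth.Statements.S11042
import Groth.Agent.Lib.FunFldRH25.Main
-- import your own Groth.Agent.* helpers here

set_option autoImplicit false
open FunFld

namespace Groth.Agent.S11042

/-- A function field of one variable of genus `g` over a finite field with `q` elements has `N` places
of degree one with `|N - q - 1| ≤ 2 g √q`. -/
theorem result
    (k K : Type*) [Field k] [Finite k] [Field K] [Algebra k K]
    (hK : FunFld.IsFunctionField k K) :
    |(Nat.card {P : FunFld.Place k K // P.deg = 1} : ℝ) - (Nat.card k : ℝ) - 1| ≤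
      2 * (FunFld.genus k K : ℝ) * Real.sqrt (Nat.card k : ℝ) := by
  obtain ⟨α, -, hα, hσ⟩ := Groth.Agent.GeomFF26.exists_reciprocal_roots hK
  have hn := Groth.Agent.FunFldRH25.norm_sq_eq hK α hα Fin.revPerm fun i => by
    rw [Fin.revPerm_apply, mul_comm]; exact hσ i
  have key := Groth.Agent.FunFldRH25.npts_eq hK α hα one_ne_zero
  rw [Groth.Agent.FunFldRH25.npts_one (Groth.Agent.FunField.ff hK)] at key
  simp only [pow_one] at key
  have e : (((Nat.card {P : FunFld.Place k K // P.deg = 1} : ℝ) - (Nat.card k : ℝ) - 1 : ℝ) : ℂ) =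
      -∑ i, α i := by
    push_cast
    rw [key]; ring
  rw [← Real.norm_eq_abs, ← Complex.norm_real, e, norm_neg]
  refine (norm_sum_le _ _).trans ?_
  rw [Finset.sum_congr rfl (g := fun _ => Real.sqrt (Nat.card k : ℝ)) fun i _ => by
    rw [← hn i, Real.sqrt_sq (norm_nonneg _)]]
  simp

end Groth.Agent.S11042
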