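import Groth.Statements.S11043
import Mathlib.RingTheory.RootsOfUnity.Complex
import Mathlib.Algebra.Polynomial.Roots
import Mathlib.FieldTheory.KummerExtension
-- import your own Groth.Agent.* helpers here

set_option autoImplicit false
open FunFld

namespace Groth.Agent.S11043

/-- For positive integers `n`, `d` with `e = gcd(n, d)`, in `ℂ[t]` one has `(1 - t^{nd/e})^e = ∏_{θⁿ =
1} (1 - (θ t)^d)`, the product over the complex `n`-th roots of unity. -/
theorem result (n d : ℕ) (hn : 0 < n) (hd : 0 < d) :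
    ((1 : Polynomial ℂ) - Polynomial.X ^ (n * d / Nat.gcd n d)) ^ Nat.gcd n d =
      ∏ θ ∈ Polynomial.nthRootsFinset n (1 : ℂ),
        (1 - Polynomial.C (θ ^ d) * Polynomial.X ^ d) := by
  classical
  obtain ⟨ζ, hζ⟩ : ∃ ζ : ℂ, IsPrimitiveRoot ζ n := ⟨_, Complex.isPrimitiveRoot_exp n hn.ne'⟩
  obtain ⟨m, hm⟩ := Nat.gcd_dvd_left n d
  obtain ⟨d', hd'⟩ := Nat.gcd_dvd_right n d
  set g := Nat.gcd n d with hg
  have hg0 : 0 < g := Nat.gcd_pos_of_pos_left _ hn
  have hm0 : 0 < m := Nat.pos_of_ne_zero fun e => by subst e; simp at hm; omega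
  have hdiv : n * d / g = d * m := by
    rw [hm, mul_assoc, Nat.mul_div_cancel_left _ hg0, mul_comm]
  have hη : IsPrimitiveRoot (ζ ^ d) m := by
    refine IsPrimitiveRoot.mk_of_lt _ hm0 (by rw [← pow_mul, hζ.pow_eq_one_iff_dvd, hm, hd']; exact ⟨d', by ring⟩) ?_
    intro l hl hlt hone
    rw [← pow_mul, hζ.pow_eq_one_iff_dvd, hm, hd', mul_assoc] at hone
    have h1 := Nat.dvd_of_mul_dvd_mul_left hg0 hone
    have hco : Nat.Coprime m d' := by
      have h2 : g * Nat.gcd m d' = g * 1 := by rw [mul_one, ← Nat.gcd_mul_left, ← hm, ← hd', hg]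
      exact Nat.eq_of_mul_eq_mul_left hg0 h2
    exact absurd (Nat.le_of_dvd hl (hco.dvd_of_dvd_mul_left h1)) (not_le.2 hlt)
  refine Polynomial.funext fun z => ?_
  simp only [Polynomial.eval_pow, Polynomial.eval_sub, Polynomial.eval_one, Polynomial.eval_X, Polynomial.eval_prod,
    Polynomial.eval_mul, Polynomial.eval_C]
  rw [hdiv, pow_mul z d m]
  generalize z ^ d = w
  have hroots : Polynomial.nthRootsFinset n (1 : ℂ) = (Finset.range n).image (ζ ^ ·) := by
    ext θ
    rw [Polynomial.mem_nthRootsFinset hn, Finset.mem_image]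
    haveI : NeZero n := ⟨hn.ne'⟩
    refine ⟨fun h => ?_, ?_⟩
    · obtain ⟨i, hi, e⟩ := hζ.eq_pow_of_pow_eq_one h
      exact ⟨i, Finset.mem_range.2 hi, e⟩
    · rintro ⟨i, -, rfl⟩
      rw [← pow_mul, mul_comm, pow_mul, hζ.pow_eq_one, one_pow]
  rw [hroots, Finset.prod_image fun a ha b hb e => hζ.pow_inj (Finset.mem_range.1 ha) (Finset.mem_range.1 hb) e]
  simp only [← pow_mul, fun i => mul_comm i d]
  simp only [pow_mul]
  have base : ∏ j ∈ Finset.range m, (1 - (ζ ^ d) ^ j * w) = 1 - w ^ m := by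
    have h := congrArg (Polynomial.eval w⁻¹) (X_pow_sub_C_eq_prod hη hm0 (one_pow m))
    rcases eq_or_ne w 0 with rfl | hw
    · simp [zero_pow hm0.ne']
    simp only [Polynomial.eval_sub, Polynomial.eval_pow, Polynomial.eval_X, Polynomial.eval_C,
      Polynomial.eval_prod, mul_one] at h
    calc ∏ j ∈ Finset.range m, (1 - (ζ ^ d) ^ j * w) = ∏ j ∈ Finset.range m, (w * (w⁻¹ - (ζ ^ d) ^ j)) :=
          Finset.prod_congr rfl fun j _ => by field_simp
      _ = w ^ m * ((w⁻¹) ^ m - 1) := by rw [Finset.prod_mul_distrib, Finset.prod_const, Finset.card_range, h]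
      _ = 1 - w ^ m := by rw [mul_sub, ← mul_pow, mul_inv_cancel₀ hw, one_pow, mul_one]
  have hper : ∀ c : ℕ, ∏ i ∈ Finset.range (c * m), (1 - (ζ ^ d) ^ i * w) = (1 - w ^ m) ^ c := by
    intro c
    induction c with
    | zero => simp
    | succ c ih =>
      rw [add_one_mul, Finset.prod_range_add, ih, pow_succ, ← base]
      congr 1
      exact Finset.prod_congr rfl fun j _ => by rw [pow_add, mul_comm c m, pow_mul _ m c, hη.pow_eq_one, one_pow, one_mul]
  rw [hm, hper g]

end Groth.Agent.S11043
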