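import Groth.Statements.S11045
import Groth.Agent.Lib.FunField.Genus
-- import your own Groth.Agent.* helpers here

set_option autoImplicit false
open FunFld

namespace Groth.Agent.S11045

/-- Over an algebraically closed constant field, if `n ≥ 1` is a gap number at the place `P` (no
function has a pole of exact order `n` at `P` and no other pole, i.e. `L(nP) = L((n-1)P)`), then the
gap numbers at `P` make up at least half of the positive integers below `n`. -/
theorem result
    (k K : Type*) [Field k] [IsAlgClosed k] [Field K] [Algebra k K]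
    (hK : FunFld.IsFunctionField k K) (P : FunFld.Place k K) (n : ℕ) (hn : 1 ≤ n)
    (hgap : FunFld.L (Finsupp.single P (n : ℤ)) = FunFld.L (Finsupp.single P ((n : ℤ) - 1))) :
    n - 1 ≤ 2 * Set.ncard {m : ℕ | 1 ≤ m ∧ m < n ∧
      FunFld.L (Finsupp.single P (m : ℤ)) = FunFld.L (Finsupp.single P ((m : ℤ) - 1))} := by
  have hP := Groth.Agent.FunField.deg_eq_one hK.1 P
  change n - 1 ≤ 2 * Set.ncard {m : ℕ | 1 ≤ m ∧ m < n ∧ Groth.Agent.FunField.IsGap P m}
  set G := {m : ℕ | 1 ≤ m ∧ m < n ∧ Groth.Agent.FunField.IsGap P m}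
  have hG : G.Finite := (Set.finite_Iio n).subset fun m hm => hm.2.1
  set H := Set.Ico 1 n \ G
  have hH : H.ncard ≤ G.ncard := by
    refine Set.ncard_le_ncard_of_injOn (fun m => n - m) (fun m hm => ?_) ?_ hG
    · obtain ⟨⟨h1, h2⟩, h3⟩ := hm
      refine ⟨by omega, by omega, ?_⟩
      by_contra hng
      have hm' : ¬ Groth.Agent.FunField.IsGap P m := fun hg => h3 ⟨h1, h2, hg⟩
      have := Groth.Agent.FunField.not_gap_add hm' hng
      rw [show m + (n - m) = n by omega] at this
      exact this hgap
    · intro a ha b hb hab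
      have := ha.1.2; have := hb.1.2
      simp only at hab; omega
  have htot := Set.ncard_sdiff_add_ncard_of_subset (s := G) (t := Set.Ico 1 n)
    (fun m hm => ⟨hm.1, hm.2.1⟩) (Set.finite_Ico 1 n)
  rw [← Finset.coe_Ico, Set.ncard_coe_finset, Nat.card_Ico] at htot
  rw [Finset.coe_Ico] at htot
  change H.ncard + G.ncard = n - 1 at htot
  omega

end Groth.Agent.S11045
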