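import Groth.Statements.S11049
import Mathlib

set_option autoImplicit false
open CAlg

namespace Groth.Agent.S11049

/-- For `k`-algebras `S ⊆ R` with `R` an integral domain and a nonzero `x ∈ S`, if `R/S` and `R/Rx` are
finite-dimensional over `k` then `dim_k R/Rx = dim_k S/Sx`. (The published statement allows `x = 0`;
then `R` is a field finite over `k` and the two sides are `dim_k R` and `dim_k S`, which differ for
`S = k ⊊ R`; the published proof multiplies by `x` as an injection, so `x ≠ 0` is assumed here.) -/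
theorem result
    (k R : Type*) [Field k] [CommRing R]
    [IsDomain R] [Algebra k R] (S : Subalgebra k R) (x : S) (hx : (x : R) ≠ 0)
    [Module.Finite k (R ⧸ Subalgebra.toSubmodule S)]
    [Module.Finite k (R ⧸ Ideal.span {(x : R)})] :
    Module.finrank k (R ⧸ Ideal.span {(x : R)}) = Module.finrank k (S ⧸ Ideal.span {x}) := by
  let f : R →ₗ[k] R := LinearMap.mulLeft k (x : R)
  let T : R →ₗ[k] R := f
  set U : Submodule k R := Subalgebra.toSubmodule S
  set V : Submodule k R := LinearMap.range f
  set W : Submodule k R := U.map f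
  have hinj : Function.Injective f := mul_right_injective₀ hx
  have hWU : W ≤ U := by
    rintro _ ⟨y, hy, rfl⟩; exact S.mul_mem x.2 hy
  have hWV : W ≤ V := LinearMap.map_le_range
  have hV : (Ideal.span {(x : R)}).restrictScalars k = V := by
    ext y
    simp only [Submodule.restrictScalars_mem, Ideal.mem_span_singleton', V, LinearMap.mem_range, f,
      LinearMap.mulLeft_apply]
    exact exists_congr fun a => by rw [mul_comm]
  let eV : (R ⧸ Ideal.span {(x : R)}) ≃ₗ[k] R ⧸ V :=
    (Submodule.Quotient.restrictScalarsEquiv k _).symm.trans (Submodule.quotEquivOfEq _ _ hV)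
  haveI : Module.Finite k (R ⧸ V) := Module.Finite.equiv eV
  have hS : (Ideal.span {x}).restrictScalars k = W.comap U.subtype := by
    ext y
    simp only [Submodule.restrictScalars_mem, Ideal.mem_span_singleton', Submodule.mem_comap, W,
      Submodule.mem_map, Submodule.coe_subtype, f, LinearMap.mulLeft_apply]
    constructor
    · rintro ⟨a, rfl⟩; exact ⟨a, a.2, by rw [mul_comm]; rfl⟩
    · rintro ⟨a, ha, h⟩; exact ⟨⟨a, ha⟩, Subtype.ext (by rw [MulMemClass.coe_mul, mul_comm]; exact h)⟩
  let eS : (S ⧸ Ideal.span {x}) ≃ₗ[k] U ⧸ W.comap U.subtype :=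
    (Submodule.Quotient.restrictScalarsEquiv k _).symm.trans (Submodule.quotEquivOfEq _ _ hS)
  rw [eV.finrank_eq]
  refine Eq.trans ?_ eS.finrank_eq.symm
  let eR : R ≃ₗ[k] V := LinearEquiv.ofInjective f hinj
  have hU : U.map (eR : R →ₗ[k] V) = W.comap V.subtype := by
    ext y
    simp only [Submodule.mem_map, Submodule.mem_comap, W, Submodule.coe_subtype]
    constructor
    · rintro ⟨a, ha, rfl⟩; exact ⟨a, ha, rfl⟩
    · rintro ⟨a, ha, h⟩; exact ⟨a, ha, Subtype.ext h⟩
  let e2 : (R ⧸ U) ≃ₗ[k] V ⧸ W.comap V.subtype := Submodule.Quotient.equiv _ _ eR hU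
  haveI : Module.Finite k (V ⧸ W.comap V.subtype) := Module.Finite.equiv e2
  have key : ∀ (X : Submodule k R) (hX : W ≤ X),
      Function.Exact ((W.comap X.subtype).mapQ W X.subtype le_rfl) (W.mapQ X LinearMap.id hX) ∧
      Function.Injective ((W.comap X.subtype).mapQ W X.subtype le_rfl) ∧
      Function.Surjective (W.mapQ X LinearMap.id hX) := by
    intro X hX
    refine ⟨?_, ?_, Submodule.Quotient.mk_surjective _ |>.forall.mpr fun y => ⟨Submodule.Quotient.mk y, rfl⟩⟩
    · intro z
      obtain ⟨z, rfl⟩ := Submodule.Quotient.mk_surjective _ z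
      rw [Submodule.mapQ_apply, LinearMap.id_apply, Submodule.Quotient.mk_eq_zero]
      constructor
      · exact fun h => ⟨Submodule.Quotient.mk ⟨z, h⟩, rfl⟩
      · rintro ⟨w, hw⟩
        obtain ⟨w, rfl⟩ := Submodule.Quotient.mk_surjective _ w
        rw [Submodule.mapQ_apply, Submodule.Quotient.eq] at hw
        simpa using sub_mem w.2 (hX hw)
    · rw [← LinearMap.ker_eq_bot, Submodule.ker_mapQ]
      simp [Submodule.map_eq_bot_iff, ← le_bot_iff]
  obtain ⟨hV1, hV2, hV3⟩ := key V hWV
  haveI : Module.Finite k (R ⧸ W) := Module.Finite.of_exact hV1 hV3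
  obtain ⟨hU1, hU2, hU3⟩ := key U hWU
  haveI : Module.Finite k (U ⧸ W.comap U.subtype) := Module.Finite.of_injective _ hU2
  have hfr : ∀ {A B C : Type _} [AddCommGroup A] [Module k A] [AddCommGroup B] [Module k B]
      [AddCommGroup C] [Module k C] [Module.Finite k B] (g : A →ₗ[k] B) (h : B →ₗ[k] C),
      Function.Exact g h → Function.Injective g → Function.Surjective h →
      Module.finrank k A + Module.finrank k C = Module.finrank k B := by
    intro A B C _ _ _ _ _ _ _ g h he hg hh
    have h1 := h.finrank_range_add_finrank_ker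
    rw [LinearMap.range_eq_top.mpr hh, finrank_top, LinearMap.exact_iff.mp he,
      LinearMap.finrank_range_of_inj hg] at h1
    omega
  have eA := hfr _ _ hV1 hV2 hV3
  have eB := hfr _ _ hU1 hU2 hU3
  have := e2.finrank_eq
  omega

end Groth.Agent.S11049
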