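import Groth.Statements.S11050
import Groth.Agent.Lib.GeomFF26.Perfect
import Mathlib.GroupTheory.CosetCover
import Mathlib.FieldTheory.PrimitiveElement
-- import your own Groth.Agent.* helpers here

set_option autoImplicit false
open FunFld

namespace Groth.Agent.S11050

/-- Over an algebraically closed constant field, let `W` be a finite-dimensional subspace of the
function field `K` containing `1` and generating `K` over `k` (the span of an effective birational
projective map). Then `W` contains a separating variable `x`, and for each separating `x ∈ W` some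
`y ∈ W` gives `K = k(x, y)`. -/
theorem result
    (k K : Type*) [Field k] [IsAlgClosed k] [Field K] [Algebra k K]
    (hK : FunFld.IsFunctionField k K) (W : Submodule k K)
    [FiniteDimensional k W] (h1 : (1 : K) ∈ W)
    (hW : IntermediateField.adjoin k (W : Set K) = ⊤) :
    (∃ x ∈ W, Algebra.IsSeparable (IntermediateField.adjoin k ({x} : Set K)) K) ∧
    ∀ x ∈ W, Algebra.IsSeparable (IntermediateField.adjoin k ({x} : Set K)) K →
      ∃ y ∈ W, IntermediateField.adjoin k ({x, y} : Set K) = ⊤ := by
  have h := hK.1
  have hg : FunFld.IsGeometric k K := GeomFF26.isGeometric_of_isAlgClosed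
  refine ⟨?_, fun x hx hsep => ?_⟩
  · by_contra hne
    push Not at hne
    obtain ⟨u, hu⟩ := GeomFF26.exists_sep h hg
    have hle : IntermediateField.adjoin k (W : Set K) ≤ GeomFF26.constants (KaehlerDifferential.D k K) :=
      IntermediateField.adjoin_le_iff.2 fun w hw => by_contra fun hw0 =>
        hne w hw ((GeomFF26.isSeparable_iff_D_ne_zero h hg w).2 hw0)
    exact GeomFF26.D_ne_zero_of_sep h hu (hle (hW ▸ IntermediateField.mem_top : u ∈ IntermediateField.adjoin k (W : Set K)))
  set E := IntermediateField.adjoin k ({x} : Set K) with hE
  haveI : FiniteDimensional E K := FunField.FF.finiteDimensional h (by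
    intro halg
    obtain ⟨c, hc⟩ := hK.2 x halg
    exact (GeomFF26.isSeparable_iff_D_ne_zero h hg x).1 hsep (by rw [← hc, Derivation.map_algebraMap]))
  haveI : Finite (IntermediateField E K) :=
    Field.finite_intermediateField_of_exists_primitive_element E K (Field.exists_primitive_element E K)
  obtain ⟨y, hy, hgen⟩ : ∃ y ∈ W, IntermediateField.adjoin E ({y} : Set K) = ⊤ := by
    by_contra hne
    push Not at hne
    obtain ⟨⟨L, hL⟩, hLtop⟩ := Subspace.exists_eq_top_of_iUnion_eq_univ
      (p := fun L : {L : IntermediateField E K // L ≠ ⊤} =>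
        (((L.1.toSubalgebra.toSubmodule.restrictScalars k).comap W.subtype) : Submodule k W)) (by
      refine Set.eq_univ_of_forall fun w => Set.mem_iUnion.2 ?_
      exact ⟨⟨_, hne w w.2⟩, IntermediateField.mem_adjoin_simple_self E (w : K)⟩)
    refine hL (eq_top_iff.2 fun z _ => ?_)
    have hle : IntermediateField.adjoin k (W : Set K) ≤ L.restrictScalars k :=
      IntermediateField.adjoin_le_iff.2 fun w hw => by
        have hmem : (⟨w, hw⟩ : W) ∈ (⊤ : Submodule k W) := trivial
        rw [← hLtop] at hmem
        exact hmem
    exact hle (hW ▸ IntermediateField.mem_top : z ∈ IntermediateField.adjoin k (W : Set K))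
  refine ⟨y, hy, ?_⟩
  have e := IntermediateField.adjoin_adjoin_left k ({x} : Set K) ({y} : Set K)
  rw [← hE, hgen, IntermediateField.restrictScalars_top, Set.singleton_union] at e
  exact e.symm

end Groth.Agent.S11050
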