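import Groth.Statements.S11051
import Groth.Agent.Lib.GeomFF26.Perfect
import Groth.Agent.Lib.Wronskian26.Canonical
import Groth.Agent.Lib.FunField.Approx
import Groth.Agent.Lib.FunField.NormValue
import Mathlib.GroupTheory.CosetCover
import Mathlib.FieldTheory.PrimitiveElement

set_option autoImplicit false
open FunFld

namespace Groth.Agent.S11051

/-- Over an algebraically closed constant field, for every separating variable `x` of a function field
`K` of one variable (`K` separable over `k(x)`) there is `y` with `K = k(x, y)` such that the span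
of `1, x, y` contains a local parameter at every place. (The published statement takes any `x`; this
row takes `x` separating, which is what the published proof uses, since it works with the finitely
many places ramified over `k(x)`: for a constant `x` the conclusion fails for every `K`, and in
characteristic `p` it fails for `K = k(t)`, `x = t^p`, where every place is ramified over `k(x)` and
no element of the span has order one at the place at infinity or, if `y` is not a polynomial in `t`,
at a pole of `y`.) -/
theorem result
    (k K : Type*) [Field k] [IsAlgClosed k] [Field K] [Algebra k K]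
    (hK : FunFld.IsFunctionField k K) (x : K)
    (hsep : Algebra.IsSeparable (IntermediateField.adjoin k ({x} : Set K)) K) :
    ∃ y : K, IntermediateField.adjoin k ({x, y} : Set K) = ⊤ ∧
      ∀ P : FunFld.Place k K, ∃ f ∈ Submodule.span k ({1, x, y} : Set K),
        P.1 f = WithZero.exp (-1) := by
  classical
  have h : FunField.FF k K := hK.1
  have hg : FunFld.IsGeometric k K := GeomFF26.isGeometric_of_isAlgClosed
  have hs : Wronskian26.Sep k x := Wronskian26.sep_of_isSeparable x
  obtain ⟨C, -, hC⟩ := Wronskian26.exists_canonical_dOrd hK hs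
  set E := IntermediateField.adjoin k ({x} : Set K) with hE
  have hx0 : x ≠ 0 := fun e => GeomFF26.D_ne_zero_of_sep h hs (by rw [e, map_zero])
  let Bad : Finset (FunFld.Place k K) := (FunField.finite_support_ord h x).toFinset ∪ C.support
  have hgood : ∀ P : FunFld.Place k K, P ∉ Bad → ∃ c : k, P.1 (x - algebraMap k K c) = WithZero.exp (-1) := by
    intro P hP
    simp only [Bad, Finset.mem_union, Set.Finite.mem_toFinset, Finsupp.mem_support_iff, not_or, not_not] at hP
    have hx1 : P.1 x ≤ 1 := (FunField.ord_nonneg_iff P x).1 (le_of_eq (Eq.symm (by simpa using hP.1)))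
    refine ⟨FunField.residueK h P ⟨x, hx1⟩, le_antisymm ((FunField.lt_one_iff_le _).1
      ((FunField.residueK_eq_iff h P ⟨x, hx1⟩ _).1 rfl)) (not_lt.1 fun hlt => ?_)⟩
    set c := FunField.residueK h P ⟨x, hx1⟩
    · obtain ⟨t, ht0, ht⟩ := FunField.exists_uniformizer P
      let w := (x - algebraMap k K c) / t
      have hw : P.1 w < 1 := by
        rw [map_div₀, ht, div_lt_one₀ (WithZero.exp_pos)]; exact hlt
      have hd := Wronskian26.dOrd_eq h P ht x
      rw [← hC, hP.2] at hd
      set st := Wronskian26.sep_uniformizer h P ht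
      have hne : Wronskian26.der h st x ≠ 0 := Wronskian26.der_ne_zero h hs st
      have hdx : Wronskian26.der h st x = w + t * Wronskian26.der h st w := by
        have hxe : x = t * w + algebraMap k K c := by simp only [w]; field_simp; ring
        rw [congrArg (Wronskian26.der h st) hxe]
        rw [Wronskian26.der_add, Wronskian26.der_const, add_zero, Wronskian26.der_mul, Wronskian26.der_self]
        ring
      have hdw : P.1 (Wronskian26.der h st w) ≤ 1 :=
        Wronskian26.val_hasseD_le h P ht (Wronskian26.exists_hasse h st).choose_spec hw.le 1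
      have hlt1 : P.1 (Wronskian26.der h st x) < 1 := by
        rw [hdx]
        refine lt_of_le_of_lt (P.1.map_add _ _) (max_lt hw ?_)
        rw [map_mul]
        exact mul_lt_one_of_lt_of_le (by rw [ht, ← WithZero.exp_zero, WithZero.exp_lt_exp]; norm_num) hdw
      rw [FunField.val_lt_one_iff' P hne] at hlt1
      omega
  -- approximations at the bad places
  obtain ⟨y₀, hy₀⟩ := FunField.weak_approx_eq Bad (fun _ => (0 : K)) (fun _ => 1)
  let V : Submodule k K :=
    { carrier := {v | ∀ P ∈ Bad, P.1 v ≤ WithZero.exp (-2)}
      add_mem' := fun {a b} ha hb P hP => (P.1.map_add _ _).trans (max_le (ha P hP) (hb P hP))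
      zero_mem' := fun P _ => by simp
      smul_mem' := fun c v hv P hP => by
        rw [Algebra.smul_def, map_mul]
        exact (mul_le_of_le_one_left' (P.2.1 c)).trans (hv P hP) }
  have hlin : ∀ lam : k, lam ≠ 0 → ∀ v ∈ V, ∀ P ∈ Bad, P.1 (lam • y₀ + v) = WithZero.exp (-1) := by
    intro lam hlam v hv P hP
    have h1 : P.1 (lam • y₀) = WithZero.exp (-1) := by
      have h0 := hy₀ P hP
      rw [sub_zero] at h0
      rw [Algebra.smul_def, map_mul, FunField.val_const P hlam, one_mul, h0]
    rw [P.1.map_add_eq_of_lt_left, h1]
    exact lt_of_le_of_lt (hv P hP) (by rw [h1, WithZero.exp_lt_exp]; norm_num)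
  haveI : FiniteDimensional E K := FunField.FF.finiteDimensional h (by
    intro halg
    obtain ⟨c, hc⟩ := hK.2 x halg
    exact GeomFF26.D_ne_zero_of_sep h hs (by rw [← hc, Derivation.map_algebraMap]))
  haveI : Finite (IntermediateField E K) :=
    Field.finite_intermediateField_of_exists_primitive_element E K (Field.exists_primitive_element E K)
  obtain ⟨lam, hlam, v, hv, hgen⟩ : ∃ lam : k, lam ≠ 0 ∧ ∃ v ∈ V, IntermediateField.adjoin E ({lam • y₀ + v} : Set K) = ⊤ := by
    by_contra hne
    push Not at hne
    let W := k × V
    let f : W →ₗ[k] K := (LinearMap.id (R := k).smulRight y₀).coprod V.subtype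
    let p : Option {L : IntermediateField E K // L ≠ ⊤} → Submodule k W := fun o =>
      o.elim (LinearMap.ker (LinearMap.fst k k V))
        (fun L => (L.1.toSubalgebra.toSubmodule.restrictScalars k).comap f)
    obtain ⟨o, ho⟩ := Subspace.exists_eq_top_of_iUnion_eq_univ (p := p) (by
      refine Set.eq_univ_of_forall fun w => Set.mem_iUnion.2 ?_
      rcases eq_or_ne w.1 0 with h0 | h0
      · exact ⟨none, h0⟩
      · exact ⟨some ⟨_, hne w.1 h0 w.2 w.2.2⟩, IntermediateField.mem_adjoin_simple_self E (f w)⟩)
    rcases o with _ | ⟨L, hL⟩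
    · exact one_ne_zero (show ((1 : k), (0 : V)).1 = 0 from (ho.ge Submodule.mem_top : ((1 : k), (0 : V)) ∈ p none))
    refine hL (eq_top_iff.2 fun z _ => ?_)
    have hVL : ∀ v ∈ V, v ∈ L := fun v hv => by
      have := (ho.ge Submodule.mem_top : ((0 : k), (⟨v, hv⟩ : V)) ∈ p (some ⟨L, hL⟩))
      change (0 : k) • y₀ + v ∈ L at this
      simpa using this
    rcases eq_or_ne z 0 with rfl | hz
    · exact zero_mem L
    let N : FunFld.Place k K → ℤ := fun P => 2 + |P.ord z|
    obtain ⟨u, hu⟩ := FunField.weak_approx_eq Bad (fun _ => (0 : K)) N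
    simp only [sub_zero] at hu
    obtain ⟨u, hu0, hu⟩ : ∃ u : K, u ≠ 0 ∧ ∀ P ∈ Bad, P.1 u = WithZero.exp (-(N P)) := by
      rcases eq_or_ne u 0 with rfl | hu0
      · refine ⟨1, one_ne_zero, fun P hP => ?_⟩
        have := hu P hP
        rw [map_zero] at this
        exact absurd this.symm WithZero.exp_ne_zero
      · exact ⟨u, hu0, hu⟩
    have h1 : u ∈ V := fun P hP => by
      rw [hu P hP, WithZero.exp_le_exp]; simp [N]
    have h2 : u * z ∈ V := fun P hP => by
      rw [map_mul, hu P hP, FunField.val_eq_exp_neg_ord P hz, ← WithZero.exp_add, WithZero.exp_le_exp]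
      have := neg_abs_le (P.ord z)
      simp only [N]; omega
    simpa [mul_div_cancel_left₀ z hu0] using div_mem (hVL _ h2) (hVL _ h1)
  refine ⟨lam • y₀ + v, ?_, fun P => ?_⟩
  · have e := IntermediateField.adjoin_adjoin_left k ({x} : Set K) ({lam • y₀ + v} : Set K)
    rw [← hE, hgen, IntermediateField.restrictScalars_top, Set.singleton_union] at e
    exact e.symm
  by_cases hP : P ∈ Bad
  · exact ⟨_, Submodule.subset_span (by simp), hlin lam hlam v hv P hP⟩
  · obtain ⟨c, hc⟩ := hgood P hP
    refine ⟨_, ?_, hc⟩
    refine sub_mem (Submodule.subset_span (by simp)) ?_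
    rw [Algebra.algebraMap_eq_smul_one]
    exact Submodule.smul_mem _ _ (Submodule.subset_span (by simp))

end Groth.Agent.S11051
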