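import Groth.Statements.S11061
import Groth.Agent.Lib.FunFldRH25.ConstExt
import Groth.Agent.Lib.FunFldRH25.DlogUnique
-- import your own Groth.Agent.* helpers here

set_option autoImplicit false
open FunFld

namespace Groth.Agent.S11061

/-- If `L_K(t) = ∏ (1 - αᵢ t)` is the numerator of the zeta function of a function field of one variable
over a finite field, then the constant-field extension `Kₙ` of degree `n` has `L_{Kₙ}(t) = ∏ (1 -
αᵢⁿ t)`. -/
theorem result
    (k K k' K' : Type*) [Field k] [Finite k] [Field K] [Algebra k K] [Field k'] [Finite k']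
    [Field K'] [Algebra k k'] [Algebra K K'] [Algebra k' K'] (hK : FunFld.IsFunctionField k K)
    (hK' : FunFld.IsFunctionField k' K') (hce : FunFld.IsConstExt k K k' K')
    (α : Fin (2 * FunFld.genus k K) → ℂ)
    (hα : PowerSeries.map (Int.castRingHom ℂ) (FunFld.numerZ k K) =
      ((∏ i, (1 - Polynomial.C (α i) * Polynomial.X) : Polynomial ℂ) : PowerSeries ℂ)) :
    PowerSeries.map (Int.castRingHom ℂ) (FunFld.numerZ k' K') =
      ((∏ i, (1 - Polynomial.C (α i ^ Module.finrank k k') * Polynomial.X) : Polynomial ℂ) :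
        PowerSeries ℂ) := by
  haveI : Module.Finite k k' := Module.Finite.of_finite
  set m := Module.finrank k k'
  have hm : m ≠ 0 := Module.finrank_pos.ne'
  obtain ⟨β, -, hβ, -⟩ := Groth.Agent.GeomFF26.exists_reciprocal_roots hK'
  have hdlog : ∀ {g : ℕ} (a : Fin g → ℂ),
      Groth.Agent.FunFldRH25.IsDlog ((∏ i, (1 - Polynomial.C (a i) * Polynomial.X) : Polynomial ℂ) : PowerSeries ℂ)
        (∑ i, -Groth.Agent.FunFldRH25.geo (a i)) := by
    intro g a
    rw [← Polynomial.coeToPowerSeries.ringHom_apply, map_prod]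
    refine Groth.Agent.FunFldRH25.IsDlog.prod _ _ _ fun i _ => ?_
    simp only [Polynomial.coeToPowerSeries.ringHom_apply, Polynomial.coe_sub, Polynomial.coe_one,
      Polynomial.coe_mul, Polynomial.coe_C, Polynomial.coe_X]
    exact Groth.Agent.FunFldRH25.isDlog_geo (a i)
  rw [hβ]
  have hsum : (∑ i, -Groth.Agent.FunFldRH25.geo (β i)) =
      ∑ i, -Groth.Agent.FunFldRH25.geo (α i ^ m) := by
    ext n
    simp only [map_sum, map_neg, Groth.Agent.FunFldRH25.geo, PowerSeries.coeff_mk, Finset.sum_neg_distrib]
    rcases eq_or_ne n 0 with rfl | hn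
    · simp
    simp only [if_neg hn]
    have h1 := Groth.Agent.FunFldRH25.npts_eq hK' β hβ hn
    have h2 := Groth.Agent.FunFldRH25.npts_eq hK α hα (Nat.mul_ne_zero hm hn)
    rw [← Groth.Agent.FunFldRH25.npts_constExt hK hK' hce hn, h1,
      Module.natCard_eq_pow_finrank (K := k) (V := k')] at h2
    push_cast at h2
    simp only [← pow_mul]
    rw [← pow_mul] at h2
    linear_combination h2
  refine Groth.Agent.FunFldRH25.IsDlog.unique (hdlog β) (hsum ▸ hdlog fun i => α i ^ m) ?_ ?_
  · rw [← PowerSeries.coeff_zero_eq_constantCoeff_apply]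
    simp [Groth.Agent.FunFldRH25.geo]
  · rw [← Polynomial.coeToPowerSeries.ringHom_apply, ← Polynomial.coeToPowerSeries.ringHom_apply,
      map_prod, map_prod, map_prod, map_prod]
    simp only [Polynomial.coeToPowerSeries.ringHom_apply, Polynomial.coe_sub, Polynomial.coe_one,
      Polynomial.coe_mul, Polynomial.coe_C, Polynomial.coe_X, map_sub, map_one, map_mul,
      PowerSeries.constantCoeff_X, mul_zero, sub_zero, Finset.prod_const_one]

end Groth.Agent.S11061
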