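import Groth.Statements.S11063
import Groth.Agent.Lib.FunField.Clifford
-- import your own Groth.Agent.* helpers here

set_option autoImplicit false
open FunFld

namespace Groth.Agent.S11063

/-- Over an algebraically closed constant field, for a place `P` of a function field of genus `g` and `1
≤ l ≤ g`, the `l`-th gap number at `P` is at most `2l - 1`, i.e. at least `l` of the integers `1 ≤ m
≤ 2l - 1` satisfy `L(mP) = L((m-1)P)`. (The published statement bounds the `l`-th order of the
canonical map at `P` by `2l`; the orders of the canonical map at `P` are the gap numbers at `P` less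
one, which gives the form stated here.) -/
theorem result
    (k K : Type*) [Field k] [IsAlgClosed k] [Field K] [Algebra k K]
    (hK : FunFld.IsFunctionField k K) (P : FunFld.Place k K) (l : ℕ)
    (hl : 1 ≤ l) (hlg : l ≤ FunFld.genus k K) :
    l ≤ Set.ncard {m : ℕ | 1 ≤ m ∧ m ≤ 2 * l - 1 ∧
      FunFld.L (Finsupp.single P (m : ℤ)) = FunFld.L (Finsupp.single P ((m : ℤ) - 1))} := by
  have hP := Groth.Agent.FunField.deg_eq_one hK.1 P
  have h1 := Groth.Agent.FunField.clifford hK (D := Finsupp.single P ((2 * l - 1 : ℕ) : ℤ))
    (by rw [Groth.Agent.FunField.deg_single, hP]; simp) (by rw [Groth.Agent.FunField.deg_single, hP]; simp; omega)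
  rw [Groth.Agent.FunField.deg_single, hP, Nat.cast_one, mul_one] at h1
  have h2 := Groth.Agent.FunField.ncard_gaps hK hP (2 * l - 1)
  change l ≤ Set.ncard {m : ℕ | 1 ≤ m ∧ m ≤ 2 * l - 1 ∧ Groth.Agent.FunField.IsGap P m}
  omega

end Groth.Agent.S11063
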