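import Groth.Statements.S11064
import Groth.Agent.Lib.FunField.Proj3
-- import your own Groth.Agent.* helpers here

set_option autoImplicit false
open FunFld

namespace Groth.Agent.S11064

/-- Over an algebraically closed constant field, a projective map `φ = (φ₀, …, φₙ)` that is nonsingular
at some place is birational, i.e. the ratios `φᵢ/φ₀` generate `K` over `k`. Here the local ring of a
projective map at a place consists of the quotients of polynomials over `k` in the ratios `φᵢ/φⱼ`,
`φⱼ` of least order at the place, with denominator a unit there; the map is nonsingular at the place
when this ring is the whole valuation ring. -/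
theorem result
    (k K : Type*) [Field k] [IsAlgClosed k] [Field K] [Algebra k K]
    (hK : FunFld.IsFunctionField k K) {n : ℕ} (φ : Fin (n + 1) → K)
    (h0 : φ 0 ≠ 0) (P : FunFld.Place k K) (h : FunFld.IsNonsingularAt φ P) :
    IntermediateField.adjoin k (Set.range fun i => φ i / φ 0) = ⊤ := by
  exact Groth.Agent.FunField.adjoin_ratios_eq_top 0 h0 h

end Groth.Agent.S11064
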