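import Groth.Statements.S11066
import Groth.Agent.Lib.FunField.Proj3
-- import your own Groth.Agent.* helpers here

set_option autoImplicit false
open FunFld

namespace Groth.Agent.S11066

/-- Over an algebraically closed constant field, for an effective projective map `φ` normalized at the
place `P` (`1` in the span of the entries, all entries integral at `P`), the local ring of `φ` at
`P` has an element of order one at `P` (a local parameter) exactly when the span of the entries has
one. The local ring consists of the quotients of polynomials over `k` in the ratios `φᵢ/φⱼ`, `φⱼ` of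
least order at `P`, with denominator a unit at `P`. -/
theorem result
    (k K : Type*) [Field k] [IsAlgClosed k] [Field K] [Algebra k K]
    (hK : FunFld.IsFunctionField k K) {n : ℕ} (φ : Fin (n + 1) → K)
    (P : FunFld.Place k K) (heff : (1 : K) ∈ Submodule.span k (Set.range φ))
    (hnorm : ∀ i, P.1 (φ i) ≤ 1) :
    (∃ t : K, FunFld.InLocRing φ P t ∧ P.1 t = WithZero.exp (-1)) ↔
      ∃ t ∈ Submodule.span k (Set.range φ), P.1 t = WithZero.exp (-1) := by
  have hG := Groth.Agent.FunField.gen_mapDiv_of_one hK.1 heff
  obtain ⟨j, hjV, hj0, hjP, hjm⟩ := hG.exists_index P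
  have hiff := fun z => Groth.Agent.FunField.inLocRing_iff hG hjV hjP ⟨j, hjm⟩ z
  have hE : P.1 (φ j) = 1 := by
    refine le_antisymm (hnorm j) ?_
    exact (map_one P.1).ge.trans ((hG.le heff P).trans hjP.ge)
  constructor
  · rintro ⟨t, ht, htP⟩
    obtain ⟨v, hv, c, hvc⟩ := hG.exists_uniformizer_div hK hjP ((hiff t).1 ht) htP
    refine ⟨v - c • φ j, Submodule.sub_mem _ hv (Submodule.smul_mem _ c hjV), ?_⟩
    rw [show v - c • φ j = (v / φ j - algebraMap k K c) * φ j by
      rw [Algebra.smul_def, sub_mul, div_mul_cancel₀ _ hj0], map_mul, hE, mul_one, hvc]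
  · rintro ⟨t, ht, htP⟩
    refine ⟨t / φ j, (hiff _).2 ⟨1, one_mem _, map_one _, by
      rw [mul_one]; exact Groth.Agent.FunField.div_mem_chA ht⟩, ?_⟩
    rw [map_div₀, hE, div_one, htP]

end Groth.Agent.S11066
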