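import Groth.Statements.S11067
import Groth.Agent.Lib.FunField.AffineRing26
-- import your own Groth.Agent.* helpers here

set_option autoImplicit false
open FunFld

namespace Groth.Agent.S11067

/-- Over an algebraically closed constant field, for a plane curve with natural map `(1 : x : y)` (so `K
= k(x, y)`) and `y` integral over `k[x]`, the ring `k[x, y]` is the intersection of the rings
`O_P[y]` over the places `P` of `k(x)` at which `x` is integral. -/
theorem result
    (k K : Type*) [Field k] [IsAlgClosed k] [Field K] [Algebra k K]
    (hK : FunFld.IsFunctionField k K) (x y : K) (hx : Transcendental k x)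
    (hxy : IntermediateField.adjoin k ({x, y} : Set K) = ⊤)
    (hy : IsIntegral (Algebra.adjoin k ({x} : Set K)) y) :
    (Algebra.adjoin k ({x, y} : Set K) : Set K) =
      ⋂ (P : FunFld.Place k (IntermediateField.adjoin k ({x} : Set K)))
        (_ : P.1 ⟨x, IntermediateField.mem_adjoin_simple_self k x⟩ ≤ 1),
        (Subring.closure
          ((algebraMap (IntermediateField.adjoin k ({x} : Set K)) K '' (P.O : Set _)) ∪ {y}) :
          Set K) := by
  exact Groth.Agent.FunField.AffineRing.main hx hy

end Groth.Agent.S11067
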