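import Groth.Statements.S11072
import Groth.Agent.Lib.FunField.PlaneSmooth26
-- import your own Groth.Agent.* helpers here

set_option autoImplicit false
open FunFld

namespace Groth.Agent.S11072

/-- Over an algebraically closed constant field, a plane curve with defining irreducible homogeneous
polynomial `f` and birational natural map `φ = (φ₀ : φ₁ : φ₂)` is singular at the point `a = φ(P)`
(coordinates `(φᵢ/φⱼ)(P)` for an entry `φⱼ` of least order at `P`, read in the residue field) if and
only if `∂f/∂Xᵢ(a) = 0` for `i = 0, 1, 2`. Here `φ` is nonsingular at `P` when its local ring there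
(quotients of polynomials over `k` in the `φᵢ/φⱼ` with denominator a unit at `P`) is the whole
valuation ring. -/
theorem result (k K : Type*) [Field k] [IsAlgClosed k] [Field K] [Algebra k K]
    (hK : FunFld.IsFunctionField k K) (φ : Fin 3 → K)
    (hφ : LinearIndependent k φ)
    (hbir : IntermediateField.adjoin k (Set.range fun i => φ i / φ 0) = ⊤)
    (f : MvPolynomial (Fin 3) k) (hf : Irreducible f) (hhom : f.IsHomogeneous f.totalDegree)
    (hfφ : MvPolynomial.aeval φ f = 0) (P : FunFld.Place k K) (j : Fin 3)
    (hj : ∀ i, P.1 (φ i) ≤ P.1 (φ j)) (a : Fin 3 → P.O) (ha : ∀ i, ((a i : P.O) : K) = φ i / φ j) :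
    ¬ FunFld.IsNonsingularAt φ P ↔
      ∀ l : Fin 3, MvPolynomial.aeval (fun i => IsLocalRing.residue P.O (a i))
        (MvPolynomial.pderiv l f) = 0 := by
  exact Groth.Agent.FunField.PlaneSmooth.singular_iff hK hφ hbir hf hhom hfφ hj a ha

end Groth.Agent.S11072
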