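import Groth.Statements.S11075
import Groth.Agent.Lib.FunField.Proj3
-- import your own Groth.Agent.* helpers here

set_option autoImplicit false
open FunFld

namespace Groth.Agent.S11075

/-- Over an algebraically closed constant field, let `φ = (φ₀, …, φₙ)`, `n ≥ 1`, be a projective map
onto the curve `V`. (a) A homogeneous `g` not vanishing identically on `V` vanishes at the image
point of only finitely many places (so a closed set not containing `V` meets `V` in a finite set);
(b) each fibre of `φ` is finite. Here `g` vanishes at `φ(P)` when `g(φ₀/φⱼ, …, φₙ/φⱼ)` lies in the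
maximal ideal of `P` for an entry `φⱼ` of least order at `P`. Two places have the same image point
when some entry `φⱼ` has least order at both and each `φᵢ/φⱼ` is congruent to one constant modulo
both maximal ideals. -/
theorem result (k K : Type*) [Field k] [IsAlgClosed k] [Field K] [Algebra k K]
    (hK : FunFld.IsFunctionField k K) {n : ℕ} (hn : 1 ≤ n)
    (φ : Fin (n + 1) → K) (hφ : LinearIndependent k φ) :
    (∀ g : MvPolynomial (Fin (n + 1)) k, g.IsHomogeneous g.totalDegree →
      MvPolynomial.aeval φ g ≠ 0 →
        {P : FunFld.Place k K | ∃ j, φ j ≠ 0 ∧ (∀ i, P.1 (φ i) ≤ P.1 (φ j)) ∧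
          P.1 (MvPolynomial.aeval (fun i => φ i / φ j) g) < 1}.Finite) ∧
    ∀ P : FunFld.Place k K, {Q : FunFld.Place k K | FunFld.SameImage φ P Q}.Finite := by
  obtain ⟨hG, hd⟩ := Groth.Agent.FunField.gen_of_linearIndependent hK hn hφ
  refine ⟨fun g hg hne => Groth.Agent.FunField.finite_zero_places hK.1 hg hne, fun P => ?_⟩
  obtain ⟨j, hjV, hj0, hjP, hjm⟩ := hG.exists_index P
  exact (hG.finite_sm hK hd hjV hjP).subset fun Q hQ => (Groth.Agent.FunField.sameImage_iff hK hG hjV hjP).1 hQ

end Groth.Agent.S11075
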