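import Groth.Statements.S11078
import Groth.Agent.Lib.FunField.Proj3
-- import your own Groth.Agent.* helpers here

set_option autoImplicit false
open FunFld

namespace Groth.Agent.S11078

/-- Over an algebraically closed constant field, for a projective map `φ = (φ₀, …, φₙ)`, `n ≥ 1`, and a
point `a = φ(P)` with local ring `O_a`, the fibre `φ⁻¹(a)` consists of the places `Q` with `O_a ⊆
O_Q` and `m_Q ∩ O_a` equal to the maximal ideal of `O_a` (which is `m_P ∩ O_a`). Here `O_a` consists
of the quotients of polynomials over `k` in the ratios `φᵢ/φⱼ`, `φⱼ` of least order at `P`, with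
denominator a unit at `P`; and `Q` has the same image point as `P` when some entry has least order
at both places and the ratios are congruent to common constants modulo both maximal ideals. -/
theorem result
    (k K : Type*) [Field k] [IsAlgClosed k] [Field K] [Algebra k K]
    (hK : FunFld.IsFunctionField k K) {n : ℕ} (hn : 1 ≤ n) (φ : Fin (n + 1) → K)
    (hφ : LinearIndependent k φ) (P Q : FunFld.Place k K) :
    FunFld.SameImage φ P Q ↔
      ∀ z : K, FunFld.InLocRing φ P z → (Q.1 z ≤ 1 ∧ (Q.1 z < 1 ↔ P.1 z < 1)) := by
  obtain ⟨hG, hd⟩ := Groth.Agent.FunField.gen_of_linearIndependent hK hn hφ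
  obtain ⟨j, hjV, hj0, hjP, hjm⟩ := hG.exists_index P
  rw [Groth.Agent.FunField.sameImage_iff hK hG hjV hjP]
  have hiff := fun z => Groth.Agent.FunField.inLocRing_iff hG hjV hjP ⟨j, hjm⟩ z
  exact ⟨fun hS z hz => hG.sm_val hS ((hiff z).1 hz),
    fun h => hG.sm_of_locR_le hK hjV hjP fun z hz => (h z ((hiff z).2 hz)).1⟩

end Groth.Agent.S11078
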