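import Groth.Statements.S11079
import Mathlib
import Groth.Prelude.Def_Fitting
import Groth.Agent.Lib.Fitting.More

set_option autoImplicit false
universe u
open CAlg

namespace Groth.Agent.S11079
open scoped TensorProduct

/-- Let L/K be a finite Galois extension of fields, n a natural number, and B a map from the Galois
group of L over K to the invertible n × n matrices over L such that B(σ) · σ(B(τ)) = B(στ) for all
σ, τ, where σ acts on matrices entrywise and στ is the automorphism applying τ first. Then there is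
an invertible matrix A over L with B(σ) = A⁻¹ · σ(A) for every σ; that is, every 1-cocycle of the
Galois group with values in GL_n(L) is a coboundary. -/
theorem result (K L : Type u) [Field K] [Field L]
    [Algebra K L] [FiniteDimensional K L] [IsGalois K L] (n : ℕ)
    (B : (L ≃ₐ[K] L) → GL (Fin n) L)
    (hB : ∀ σ τ : L ≃ₐ[K] L,
      (B σ : Matrix (Fin n) (Fin n) L) * (B τ : Matrix (Fin n) (Fin n) L).map σ = (B (σ * τ) : Matrix (Fin n) (Fin n) L)) :
    ∃ A : GL (Fin n) L, ∀ σ : L ≃ₐ[K] L,
      (B σ : Matrix (Fin n) (Fin n) L) = ((A⁻¹ : GL (Fin n) L) : Matrix (Fin n) (Fin n) L) * (A : Matrix (Fin n) (Fin n) L).map σ := by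
  classical
  haveI : Fintype (L ≃ₐ[K] L) := Fintype.ofFinite _
  let T : (Fin n → L) → (Fin n → L) := fun v =>
    ∑ σ : L ≃ₐ[K] L, (B σ : Matrix (Fin n) (Fin n) L).mulVec (σ ∘ v)
  have hfix : ∀ v (τ : L ≃ₐ[K] L), (B τ : Matrix (Fin n) (Fin n) L).mulVec (τ ∘ T v) = T v := fun v τ => by
    have h1 : (τ : L → L) ∘ T v = ∑ σ : L ≃ₐ[K] L,
        ((B σ : Matrix (Fin n) (Fin n) L).map τ).mulVec ((τ * σ : L ≃ₐ[K] L) ∘ v) := by
      funext i
      simp only [T, Function.comp_apply, Finset.sum_apply, map_sum]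
      exact Finset.sum_congr rfl fun σ _ => RingHom.map_mulVec τ.toAlgHom.toRingHom _ _ i
    rw [h1, Matrix.mulVec_sum]
    simp only [Matrix.mulVec_mulVec, hB]
    exact Fintype.sum_equiv (Equiv.mulLeft τ) _ (fun σ => (B σ : Matrix (Fin n) (Fin n) L).mulVec (σ ∘ v)) fun σ => rfl
  have hspan : Submodule.span L (Set.range T) = ⊤ := by
    by_contra hne
    obtain ⟨F, hF0, hF⟩ := Submodule.exists_le_ker_of_lt_top _ (lt_top_iff_ne_top.2 hne)
    apply hF0
    refine LinearMap.pi_ext fun j c => ?_
    let g : (L ≃ₐ[K] L) → L := fun σ => F (fun i => (B σ : Matrix (Fin n) (Fin n) L) i j)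
    have hg : ∀ σ, g σ = 0 := by
      have li : LinearIndependent L fun σ : L ≃ₐ[K] L => (σ.toAlgHom.toLinearMap : L →ₗ[K] L) :=
        (linearIndependent_toLinearMap K L L).comp _ fun a b h => AlgEquiv.ext (AlgHom.congr_fun h)
      refine Fintype.linearIndependent_iff.1 li g ?_
      ext x
      have h2 := hF (Submodule.subset_span ⟨Pi.single j x, rfl⟩)
      rw [LinearMap.mem_ker] at h2
      simp only [LinearMap.sum_apply, LinearMap.smul_apply, AlgHom.toLinearMap_apply, LinearMap.zero_apply, smul_eq_mul]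
      refine Eq.trans (Finset.sum_congr rfl fun σ _ => ?_) ((map_sum F _ _).symm.trans h2)
      have : (σ : L → L) ∘ Pi.single j x = Pi.single j (σ x) := by
        funext i; simp [Pi.single_apply, apply_ite (σ : L → L)]
      rw [this, Matrix.mulVec_single, mul_comm]
      show _ = F ((MulOpposite.op (σ x)) • fun i => (B σ : Matrix (Fin n) (Fin n) L) i j)
      rw [op_smul_eq_smul, map_smul, smul_eq_mul]
      rfl
    have h3 := hg 1
    have hB1 : (B 1 : Matrix (Fin n) (Fin n) L) = 1 := by
      have := hB 1 1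
      rw [mul_one, show (B 1 : Matrix (Fin n) (Fin n) L).map (1 : L ≃ₐ[K] L) = (B 1 : Matrix (Fin n) (Fin n) L) from
        Matrix.map_id _] at this
      exact Units.ext_iff.1 (mul_eq_left.1 (Units.ext this : B 1 * B 1 = B 1))
    rw [show Pi.single j c = c • Pi.single (M := fun _ : Fin n => L) j (1 : L) by rw [← Pi.single_smul, smul_eq_mul, mul_one],
      map_smul, LinearMap.zero_apply]
    rw [show g 1 = F (Pi.single j 1) by simp [g, hB1]; congr 1; funext i; simp [Matrix.one_apply, Pi.single_apply]] at h3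
    rw [h3, smul_zero]
  obtain ⟨t, hts, hsp, hli⟩ := exists_linearIndependent L (Set.range T)
  rw [hspan] at hsp
  let b := Module.Basis.mk hli (by rw [Subtype.range_coe_subtype, Set.setOf_mem_eq, hsp])
  haveI := FiniteDimensional.fintypeBasisIndex b
  let e : t ≃ Fin n := Fintype.equivFinOfCardEq (by rw [← Module.finrank_eq_card_basis b, Module.finrank_fin_fun])
  let b' := b.reindex e
  let P : Matrix (Fin n) (Fin n) L := (Pi.basisFun L (Fin n)).toMatrix b'
  have hP : IsUnit P.det := (Matrix.isUnit_iff_isUnit_det P).1 (by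
    haveI := (Pi.basisFun L (Fin n)).invertibleToMatrix b'
    exact isUnit_of_invertible P)
  have hcol : ∀ σ : L ≃ₐ[K] L, (B σ : Matrix (Fin n) (Fin n) L) * P.map σ = P := fun σ => by
    ext i j
    obtain ⟨v, hv⟩ := hts (e.symm j).2
    have hb : b' j = T v := by rw [hv]; simp [b', b]
    have h4 : ∀ k, P k j = T v k := fun k => by simp [P, Module.Basis.toMatrix_apply, hb]
    rw [h4 i, ← hfix v σ, Matrix.mul_apply, Matrix.mulVec, dotProduct]
    simp [Matrix.map_apply, h4]
  refine ⟨(Matrix.GeneralLinearGroup.mkOfDetNeZero P hP.ne_zero)⁻¹, fun σ => ?_⟩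
  rw [inv_inv]
  have hU : (Matrix.GeneralLinearGroup.mkOfDetNeZero P hP.ne_zero : Matrix (Fin n) (Fin n) L) = P := rfl
  rw [hU]
  have h5 : P.map σ * ((Matrix.GeneralLinearGroup.mkOfDetNeZero P hP.ne_zero)⁻¹ :
      GL (Fin n) L).val.map σ = 1 := by
    rw [← Matrix.map_mul]
    refine Eq.trans (congrArg (fun X => Matrix.map X σ) ?_) (Matrix.map_one σ (map_zero _) (map_one _))
    exact Units.mul_inv (Matrix.GeneralLinearGroup.mkOfDetNeZero P hP.ne_zero)
  calc (B σ : Matrix (Fin n) (Fin n) L) = B σ * (P.map σ * _) := by rw [h5, mul_one]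
    _ = P * _ := by rw [← mul_assoc, hcol]

end Groth.Agent.S11079
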