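import Groth.Statements.S11080
import Mathlib
import Groth.Agent.Lib.CI2.ValSubDedekind

set_option autoImplicit false
universe u
open CAlg

namespace Groth.Agent.S11080
open scoped TensorProduct
open Polynomial

/-- Valuation rings over a curve: let A be a Dedekind domain with fraction field K. A valuation subring
O of K contains A and is different from K if and only if O is the valuation ring of the v-adic
valuation of K at some nonzero prime v of A (equivalently O is the local ring of A at a maximal
ideal, a discrete valuation ring). (The published statement takes A to be the coordinate ring of a
nonsingular affine curve over an algebraically closed field, which is such a Dedekind domain; its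
proof uses only that the local rings of A at nonzero primes are discrete valuation rings and that
nonzero primes are maximal.) -/
theorem result (A K : Type u) [CommRing A]
    [IsDedekindDomain A] [Field K] [Algebra A K] [IsFractionRing A K] (O : ValuationSubring K) :
    ((algebraMap A K).range ≤ O.toSubring ∧ O ≠ ⊤) ↔
      ∃ v : IsDedekindDomain.HeightOneSpectrum A, O = (v.valuation K).valuationSubring := by
  exact Groth.Agent.CI2.ValSubDedekind.iff A K O

end Groth.Agent.S11080
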