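import Groth.Statements.S11081
import Groth.Agent.Lib.Perf25.AltTrace
import Mathlib

set_option autoImplicit false
universe u
attribute [local instance] FractionRing.liftAlgebra
open CAlg

namespace Groth.Agent.S11081

theorem trace_piMap {k : Type u} [Field k] {ι : Type u} [Fintype ι] (M : ι → Type u) [∀ i, AddCommGroup (M i)]
    [∀ i, Module k (M i)] [∀ i, FiniteDimensional k (M i)] (f : ∀ i, M i →ₗ[k] M i) :
    LinearMap.trace k (∀ i, M i) (LinearMap.piMap f) = ∑ i, LinearMap.trace k (M i) (f i) := by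
  classical
  let b := fun i => Module.finBasis k (M i)
  rw [LinearMap.trace_eq_matrix_trace k (Pi.basis b), Matrix.trace, Fintype.sum_sigma]
  refine Finset.sum_congr rfl fun i _ => ?_
  rw [LinearMap.trace_eq_matrix_trace k (b i), Matrix.trace]
  refine Finset.sum_congr rfl fun j _ => ?_
  simp [Matrix.diag, LinearMap.toMatrix_apply, Pi.basis_repr, Pi.basis_apply]

variable {k R : Type u} [Field k] [CommRing R] [Algebra k R] [FiniteDimensional k R]

/-- The trace on `R ⧸ q ^ e` when the graded pieces are free of rank one over `R ⧸ q`. -/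
theorem trace_quot_pow (q : Ideal R) (r : R) (e : ℕ)
    (h : ∀ i < e, ∃ π ∈ q ^ i, q ^ i ≤ Ideal.span {π} ⊔ q ^ (i + 1) ∧ ∀ b, π * b ∈ q ^ (i + 1) → b ∈ q) :
    ∀ i ≤ e, Algebra.trace k (R ⧸ q ^ i) (Ideal.Quotient.mk _ r) =
      i • Algebra.trace k (R ⧸ q) (Ideal.Quotient.mk q r) := by
  intro i
  induction i with
  | zero =>
    intro _
    haveI : Subsingleton (R ⧸ q ^ 0) := Ideal.Quotient.subsingleton_iff.2 (by rw [pow_zero, Ideal.one_eq_top])
    rw [zero_smul, Subsingleton.elim (Ideal.Quotient.mk (q ^ 0) r) 0, map_zero]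
  | succ i ih =>
    intro hi
    obtain ⟨π, hπ, hgen, hcancel⟩ := h i (by omega)
    let inc : (R ⧸ q) →ₗ[k] R ⧸ q ^ (i + 1) :=
      ((Submodule.mapQ q (q ^ (i + 1)) (LinearMap.mulLeft R π) fun x hx => by
        show π * x ∈ q ^ (i + 1)
        rw [pow_succ]; exact Ideal.mul_mem_mul hπ hx)).restrictScalars k
    let g : (R ⧸ q ^ (i + 1)) →ₐ[k] R ⧸ q ^ i := Ideal.Quotient.factorₐ k (Ideal.pow_le_pow_right i.le_succ)
    have hinc : ∀ x, inc (Ideal.Quotient.mk q x) = Ideal.Quotient.mk _ (π * x) := fun x => rfl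
    have hg : ∀ x, g (Ideal.Quotient.mk _ x) = Ideal.Quotient.mk _ x := fun x => rfl
    have key := Groth.Agent.Perf25.trace_exact inc g.toLinearMap ?_ ?_ ?_
      (Algebra.lmul k (R ⧸ q) (Ideal.Quotient.mk q r)) (Algebra.lmul k (R ⧸ q ^ (i + 1)) (Ideal.Quotient.mk _ r))
      (Algebra.lmul k (R ⧸ q ^ i) (Ideal.Quotient.mk _ r)) ?_ ?_
    · rw [succ_nsmul', ← ih (by omega)]
      exact key
    · rw [injective_iff_map_eq_zero]
      intro z hz
      obtain ⟨x, rfl⟩ := Ideal.Quotient.mk_surjective z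
      rw [hinc, Ideal.Quotient.eq_zero_iff_mem] at hz
      exact Ideal.Quotient.eq_zero_iff_mem.2 (hcancel x hz)
    · intro y
      obtain ⟨x, rfl⟩ := Ideal.Quotient.mk_surjective y
      exact ⟨Ideal.Quotient.mk _ x, rfl⟩
    · intro z
      obtain ⟨x, rfl⟩ := Ideal.Quotient.mk_surjective z
      show g (Ideal.Quotient.mk _ x) = 0 ↔ _
      rw [hg, Ideal.Quotient.eq_zero_iff_mem]
      constructor
      · intro hx
        obtain ⟨a, ha, b, hb, rfl⟩ := Submodule.mem_sup.1 (hgen hx)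
        obtain ⟨c, rfl⟩ := Ideal.mem_span_singleton.1 ha
        exact ⟨Ideal.Quotient.mk q c, by rw [hinc, map_add, Ideal.Quotient.eq_zero_iff_mem.2 hb, add_zero]⟩
      · rintro ⟨w, hw⟩
        obtain ⟨c, rfl⟩ := Ideal.Quotient.mk_surjective w
        rw [hinc, Ideal.Quotient.eq] at hw
        have := (q ^ i).sub_mem ((q ^ i).mul_mem_right c hπ) (Ideal.pow_le_pow_right i.le_succ hw)
        rwa [sub_sub_cancel] at this
    · intro z
      obtain ⟨x, rfl⟩ := Ideal.Quotient.mk_surjective z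
      show Ideal.Quotient.mk _ r * inc (Ideal.Quotient.mk q x) = inc (Ideal.Quotient.mk q r * Ideal.Quotient.mk q x)
      rw [hinc, ← map_mul, ← map_mul, hinc, mul_left_comm]
    · intro z
      obtain ⟨x, rfl⟩ := Ideal.Quotient.mk_surjective z
      show g (Ideal.Quotient.mk _ r * Ideal.Quotient.mk _ x) = Ideal.Quotient.mk _ r * g (Ideal.Quotient.mk _ x)
      rw [map_mul, hg, hg]

/-- Let A be a Dedekind domain, B a Dedekind domain which is a finitely generated torsion-free A-algebra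
whose fraction field is separable over that of A (B is the integral closure of A in a finite
separable extension), p a nonzero prime ideal of A and y an element of B. Then the class modulo p of
the trace of y from B to A is the sum over the primes Q of B lying over p of e(Q|p) times the trace,
from B/Q to A/p, of the class of y modulo Q. -/
theorem result (A B : Type u) [CommRing A] [CommRing B]
    [IsDedekindDomain A] [IsDedekindDomain B] [Algebra A B] [Module.Finite A B] [Module.IsTorsionFree A B]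
    [Algebra.IsSeparable (FractionRing A) (FractionRing B)]
    (p : Ideal A) [p.IsMaximal] (hp : p ≠ ⊥) (y : B) :
    Ideal.Quotient.mk p (Algebra.intTrace A B y) =
      ∑ᶠ Q : p.primesOver B,
        Q.1.ramificationIdx A •
          Algebra.trace (A ⧸ p) (B ⧸ Q.1) (Ideal.Quotient.mk Q.1 y) := by
  classical
  letI : Field (A ⧸ p) := Ideal.Quotient.field p
  set J := p.map (algebraMap A B) with hJ
  let R := B ⧸ J
  rw [finsum_eq_sum_of_fintype, ← Algebra.trace_quotient_eq_of_isDedekindDomain]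
  haveI : Module.Finite A R := Module.Finite.of_surjective (Ideal.Quotient.mkₐ A J).toLinearMap Ideal.Quotient.mk_surjective
  haveI : Module.Finite (A ⧸ p) R := Module.Finite.of_restrictScalars_finite A _ _
  let qb : p.primesOver B → Ideal R := fun Q => Q.1.map (Ideal.Quotient.mk J)
  let e : p.primesOver B → ℕ := fun Q => Q.1.ramificationIdx A
  have hQmax : ∀ Q : p.primesOver B, Q.1.IsMaximal := fun Q => by
    haveI := Q.2.1
    haveI := Q.2.2
    exact Ideal.IsMaximal.of_liesOver_isMaximal Q.1 p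
  have hQ0 : ∀ Q : p.primesOver B, Q.1 ≠ ⊥ := fun Q => Ideal.ne_bot_of_mem_primesOver hp Q.2
  have hprod : J = ∏ Q : p.primesOver B, Q.1 ^ e Q := by
    rw [hJ, Ideal.map_algebraMap_eq_finsetProd_pow (R := B) hp]
    exact (Finset.prod_subtype _ (fun x => Set.mem_toFinset) fun P : Ideal B => P ^ P.ramificationIdx A)
  have hJle : ∀ (Q : p.primesOver B) (i : ℕ), i ≤ e Q → J ≤ Q.1 ^ i := fun Q i hi => by
    refine le_trans ?_ (Ideal.pow_le_pow_right hi)
    rw [hprod]
    exact Ideal.le_of_dvd (Finset.dvd_prod_of_mem (fun Q : p.primesOver B => Q.1 ^ e Q) (Finset.mem_univ Q))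
  have hmem : ∀ (Q : p.primesOver B) (i : ℕ), i ≤ e Q → ∀ b, Ideal.Quotient.mk J b ∈ qb Q ^ i ↔ b ∈ Q.1 ^ i := by
    intro Q i hi b
    show _ ∈ (Q.1.map (Ideal.Quotient.mk J)) ^ i ↔ _
    rw [← Ideal.map_pow, Ideal.mem_quotient_iff_mem_sup, sup_eq_left.2 (hJle Q i hi)]
  have hpos : ∀ Q : p.primesOver B, 1 ≤ e Q := fun Q => by
    haveI := Q.2.1
    haveI := Q.2.2
    exact Ideal.ramificationIdx_pos Q.1 A
  let f : p.primesOver B → Type u := fun Q => R ⧸ qb Q ^ e Q
  let Φ : R →ₐ[A ⧸ p] ∀ Q, f Q := Pi.algHom _ _ fun Q => Ideal.Quotient.mkₐ (A ⧸ p) _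
  have hΦ : Function.Bijective Φ := by
    constructor
    · rw [injective_iff_map_eq_zero]
      intro z hz
      obtain ⟨b, rfl⟩ := Ideal.Quotient.mk_surjective z
      rw [Ideal.Quotient.eq_zero_iff_mem, hprod,
        ← IsDedekindDomain.inf_prime_pow_eq_prod Finset.univ (fun Q : p.primesOver B => Q.1) e
          (fun Q _ => Ideal.prime_of_isPrime (hQ0 Q) Q.2.1) (fun Q _ Q' _ hne => fun h => hne (Subtype.ext h)),
        Submodule.mem_finsetInf]
      intro Q _
      exact (hmem Q _ le_rfl b).1 (Ideal.Quotient.eq_zero_iff_mem.1 (congrFun hz Q))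
    · intro v
      have hv : ∀ Q, ∃ b : B, Ideal.Quotient.mk (qb Q ^ e Q) (Ideal.Quotient.mk J b) = v Q := fun Q => by
        obtain ⟨z, hz⟩ := Ideal.Quotient.mk_surjective (v Q)
        obtain ⟨b, rfl⟩ := Ideal.Quotient.mk_surjective z
        exact ⟨b, hz⟩
      choose b hb using hv
      obtain ⟨c, hc⟩ := IsDedekindDomain.exists_forall_sub_mem_ideal (s := Finset.univ)
        (fun Q : p.primesOver B => Q.1) e (fun Q _ => Ideal.prime_of_isPrime (hQ0 Q) Q.2.1)
        (fun Q _ Q' _ hne => fun h => hne (Subtype.ext h)) (fun Q => b Q)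
      refine ⟨Ideal.Quotient.mk J c, funext fun Q => ?_⟩
      rw [← hb Q]
      exact Ideal.Quotient.eq.2 (by rw [← map_sub, hmem Q _ le_rfl]; exact hc Q (Finset.mem_univ Q))
  let E : R ≃ₐ[A ⧸ p] ∀ Q, f Q := AlgEquiv.ofBijective Φ hΦ
  rw [← Algebra.trace_eq_of_algEquiv E]
  have h1 : Algebra.trace (A ⧸ p) (∀ Q, f Q) (E (Ideal.Quotient.mk J y)) =
      ∑ Q, Algebra.trace (A ⧸ p) (f Q) (Ideal.Quotient.mk _ (Ideal.Quotient.mk J y)) := by
    simp only [Algebra.trace_apply]
    rw [← trace_piMap f]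
    congr 1
  rw [h1]
  refine Finset.sum_congr rfl fun Q _ => ?_
  haveI := Q.2.1
  haveI := Q.2.2
  have hq : qb Q ^ 1 = qb Q := pow_one _
  rw [trace_quot_pow (qb Q) (Ideal.Quotient.mk J y) (e Q) (fun i hi => ?_) (e Q) le_rfl]
  · congr 1
    let ring : (R ⧸ qb Q) ≃+* B ⧸ Q.1 := DoubleQuot.quotQuotEquivQuotOfLE (by simpa using hJle Q 1 (hpos Q))
    let ae : (R ⧸ qb Q) ≃ₐ[A ⧸ p] B ⧸ Q.1 := AlgEquiv.ofRingEquiv (f := ring) (fun c => by
      obtain ⟨a, rfl⟩ := Ideal.Quotient.mk_surjective c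
      rfl)
    exact (Algebra.trace_eq_of_algEquiv ae (Ideal.Quotient.mk _ (Ideal.Quotient.mk J y))).symm
  · obtain ⟨π, hπ, hπn⟩ := SetLike.exists_of_lt (Ideal.pow_succ_lt_pow (hQ0 Q) i)
    refine ⟨Ideal.Quotient.mk J π, (hmem Q i hi.le π).2 hπ, fun z hz => ?_, fun z hz => ?_⟩
    · obtain ⟨b, rfl⟩ := Ideal.Quotient.mk_surjective z
      have heq : Q.1 ^ i = Ideal.span {π} ⊔ Q.1 ^ (i + 1) := (Ideal.eq_prime_pow_of_succ_lt_of_le (hQ0 Q)
        (lt_of_le_of_ne le_sup_right fun h => hπn (h ▸ Ideal.mem_sup_left (Ideal.mem_span_singleton_self π)))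
        (sup_le (by rwa [Ideal.span_singleton_le_iff_mem]) (Ideal.pow_le_pow_right i.le_succ))).symm
      have hb := (hmem Q i hi.le b).1 hz
      rw [heq] at hb
      have := Ideal.mem_map_of_mem (Ideal.Quotient.mk J) hb
      rwa [Ideal.map_sup, Ideal.map_span, Set.image_singleton, Ideal.map_pow] at this
    · obtain ⟨b, rfl⟩ := Ideal.Quotient.mk_surjective z
      rw [← map_mul, hmem Q (i + 1) hi] at hz
      rw [← hq, hmem Q 1 (hpos Q), pow_one]
      rw [mul_comm] at hz
      exact (Ideal.IsPrime.mul_mem_pow Q.1 hz).resolve_right hπn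

end Groth.Agent.S11081
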