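import Groth.Statements.S11083
import Groth.Statements.S13631
import Groth.Statements.S14308
import Groth.Statements.S14309
import Groth.Statements.S12045
import Mathlib.RingTheory.Kaehler.Polynomial
import Mathlib.RingTheory.Smooth.Field
import Mathlib.RingTheory.Etale.Kaehler
import Mathlib.RingTheory.Etale.Field
import Mathlib.RingTheory.AlgebraicIndependent.Transcendental
import Mathlib.RingTheory.AlgebraicIndependent.TranscendenceBasis
import Mathlib.FieldTheory.SeparablyGenerated
import Mathlib.FieldTheory.Perfect
import Mathlib.LinearAlgebra.Dimension.Constructions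
import Mathlib.RingTheory.Smooth.StandardSmoothCotangent
import Groth.Agent.Lib.FlatH4.LocCrit
import Mathlib.LinearAlgebra.Matrix.ToLinearEquiv
import Mathlib.LinearAlgebra.Matrix.NonsingularInverse
import Mathlib.RingTheory.Etale.Basic
import Mathlib.RingTheory.Flat.Stability
import Mathlib.RingTheory.Smooth.Flat
import Mathlib.RingTheory.TensorProduct.Quotient
import Mathlib.RingTheory.AdicCompletion.Basic
import Mathlib.FieldTheory.IntermediateField.Adjoin.Algebra

set_option autoImplicit false
universe u v
open CAlg

namespace Groth.Agent.S11083
open CAlg

open scoped TensorProduct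

open scoped IntermediateField.algebraAdjoinAdjoin in
theorem rank_kaehler_of_isSeparable {K : Type u} {L : Type v} [Field K] [Field L] [Algebra K L] {ι : Type v}
    [Fintype ι] {v : ι → L} (hb : AlgebraicIndependent K v)
    [Algebra.IsSeparable (IntermediateField.adjoin K (Set.range v)) L] :
    Module.rank L (Ω[L⁄K]) = (Fintype.card ι : Cardinal) := by
  let P := MvPolynomial ι K
  let F := IntermediateField.adjoin K (Set.range v)
  let R := Algebra.adjoin K (Set.range v)
  haveI : Algebra.FormallyEtale R F := Algebra.FormallyEtale.of_isLocalization (nonZeroDivisors R)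
  haveI : Algebra.FormallyEtale F L := Algebra.FormallyEtale.of_isSeparable F L
  haveI : Algebra.FormallyEtale R L := Algebra.FormallyEtale.comp R F L
  letI : Algebra P R := hb.aevalEquiv.toRingEquiv.toRingHom.toAlgebra
  haveI : Algebra.FormallyEtale P R := Algebra.FormallyEtale.of_equiv
    (AlgEquiv.ofBijective (Algebra.ofId P R) hb.aevalEquiv.bijective)
  letI : Algebra P L := ((algebraMap R L).comp (algebraMap P R)).toAlgebra
  haveI : IsScalarTower P R L := IsScalarTower.of_algebraMap_eq' rfl
  haveI : IsScalarTower K P R := IsScalarTower.of_algebraMap_eq fun c =>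
    (hb.aevalEquiv.commutes c).symm
  haveI : IsScalarTower K P L := IsScalarTower.of_algebraMap_eq fun c => by
    change algebraMap K L c = algebraMap R L (algebraMap P R (algebraMap K P c))
    rw [← IsScalarTower.algebraMap_apply K P R, ← IsScalarTower.algebraMap_apply K R L]
  haveI : Algebra.FormallyEtale P L := Algebra.FormallyEtale.comp P R L
  exact rank_eq_card_basis (((KaehlerDifferential.mvPolynomialBasis K ι).baseChange L).map
    (KaehlerDifferential.tensorKaehlerEquivOfFormallyEtale K P L))

/-- Let k be an algebraically closed field, F a field extension of k which is finitely generated as a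
field, and x a transcendence basis of F over k indexed by Fin d. Then the F-vector space of Kähler
differentials of F over k has F-rank exactly d: it is finite-dimensional of dimension the
transcendence degree. -/
theorem result (k : Type u) (F : Type v)
    [Field k] [IsAlgClosed k] [Field F] [Algebra k F] (hF : (⊤ : IntermediateField k F).FG)
    (d : ℕ) (x : Fin d → F) (hx : IsTranscendenceBasis k x) :
    Module.rank F (Ω[F⁄k]) = d := by
  classical
  have h1 : Algebra.EssFiniteType k (⊤ : IntermediateField k F) := IntermediateField.essFiniteType_iff.2 hF
  have : Algebra.EssFiniteType k F := Algebra.EssFiniteType.of_surjective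
    (IntermediateField.topEquiv (F := k) (E := F)).toAlgHom IntermediateField.topEquiv.surjective
  obtain ⟨s, hs, H⟩ := exists_isTranscendenceBasis_and_isSeparable_of_perfectField k F
  have : Algebra.IsSeparable (↥(IntermediateField.adjoin k (Set.range ((↑) : s → F)))) F := by
    convert! H <;> simp
  rw [rank_kaehler_of_isSeparable hs.1]
  have e := hs.lift_cardinalMk_eq hx
  rw [Cardinal.mk_fintype, Cardinal.mk_fin, Cardinal.lift_natCast, Cardinal.lift_natCast] at e
  exact_mod_cast e

end Groth.Agent.S11083
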