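import Groth.Statements.S11082
import Groth.Agent.Lib.SepDiff28.Basic
import Groth.Agent.S11083
import Mathlib.LinearAlgebra.Dimension.OrzechProperty

set_option autoImplicit false
universe u v
open CAlg

namespace Groth.Agent.S11082

/-- Let k be an algebraically closed field, F a field extension of k which is finitely generated as a
field, and x a transcendence basis of F over k indexed by a type ι. Then F is a separable algebraic
extension of the subfield k(x) generated by the family (x is a separating transcendence basis) if
and only if the differentials d(x i) form a basis of the F-vector space of Kähler differentials of F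
over k, i.e. they are linearly independent over F and span it. -/
theorem result (k : Type u) (F : Type v)
    [Field k] [IsAlgClosed k] [Field F] [Algebra k F] (hF : (⊤ : IntermediateField k F).FG)
    {ι : Type v} (x : ι → F) (hx : IsTranscendenceBasis k x) :
    Algebra.IsSeparable (IntermediateField.adjoin k (Set.range x)) F ↔
      (LinearIndependent F (fun i : ι => KaehlerDifferential.D k F (x i)) ∧
        Submodule.span F (Set.range fun i : ι => KaehlerDifferential.D k F (x i)) = ⊤) := by
  classical
  have := SepDiff28.essFiniteType_of_fg hF
  refine ⟨fun h => ?_, fun h => (SepDiff28.span_D_eq_top_iff x).1 h.2⟩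
  have hspan := (SepDiff28.span_D_eq_top_iff x).2 h
  refine ⟨?_, hspan⟩
  obtain ⟨s, hs, -⟩ := exists_isTranscendenceBasis_and_isSeparable_of_perfectField k F
  have e := hs.lift_cardinalMk_eq hx
  haveI : Finite ι := by
    rw [← Cardinal.lt_aleph0_iff_finite]
    have h0 : Cardinal.lift.{v} (Cardinal.mk ι) < Cardinal.aleph0 := by
      rw [← e, Cardinal.lift_lt_aleph0]; exact Cardinal.mk_lt_aleph0
    simpa using h0
  letI := Fintype.ofFinite ι
  have hr := S11083.result k F hF (Fintype.card ι) (fun i => x ((Fintype.equivFin ι).symm i))
    (hx.comp_equiv (Fintype.equivFin ι).symm)
  exact linearIndependent_of_top_le_span_of_card_eq_finrank hspan.ge (Module.finrank_eq_of_rank_eq hr).symm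

end Groth.Agent.S11082
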