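import Groth.Statements.S11084
import Mathlib
import Groth.Agent.Lib.CI2.ValSubDedekind

set_option autoImplicit false
universe u
open CAlg

namespace Groth.Agent.S11084
open scoped TensorProduct
open Polynomial

/-- Let k be a field and O a valuation subring of the field of rational functions k(x). Then O contains
the constants k and is different from k(x) if and only if O is the valuation ring of the P-adic
valuation at a nonzero prime P of the polynomial ring k[x], or O is the valuation ring of the
valuation at infinity (given by the degree). (The published statement has k algebraically closed, so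
that these valuation rings correspond to the points of the projective line; the published proof does
not use that k is algebraically closed. The published statement also asserts that distinct points
give distinct valuation rings, which this row does not state, and counts k(x) itself among the
valuation rings containing k; this row excludes it.) -/
theorem result (k : Type u) [Field k] [DecidableEq (RatFunc k)]
    (O : ValuationSubring (RatFunc k)) :
    ((algebraMap k (RatFunc k)).range ≤ O.toSubring ∧ O ≠ ⊤) ↔
      ((∃ v : IsDedekindDomain.HeightOneSpectrum (Polynomial k), O = (v.valuation (RatFunc k)).valuationSubring) ∨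
        O = (RatFunc.inftyValuation k).valuationSubring) := by
  have hk : ∀ c : k, algebraMap k (RatFunc k) c = algebraMap k[X] (RatFunc k) (C c) := fun c => by
    rw [IsScalarTower.algebraMap_apply k k[X] (RatFunc k)]; rfl
  constructor
  · rintro ⟨hc, hne⟩
    by_cases hX : (RatFunc.X : RatFunc k) ∈ O
    · refine Or.inl ((Groth.Agent.CI2.ValSubDedekind.iff k[X] (RatFunc k) O).1 ⟨?_, hne⟩)
      rintro _ ⟨f, rfl⟩
      change algebraMap k[X] (RatFunc k) f ∈ O
      induction f using Polynomial.induction_on with
      | C c => rw [← hk]; exact hc ⟨c, rfl⟩
      | add a b ha hb => rw [map_add]; exact add_mem ha hb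
      | monomial n c _ => rw [map_mul, map_pow, RatFunc.algebraMap_X, ← hk]; exact mul_mem (hc ⟨c, rfl⟩) (pow_mem hX _)
    · right
      haveI : Valuation.IsTrivialOn k O.valuation := ⟨fun c hc0 => by
        refine le_antisymm ((O.valuation_le_one_iff _).2 (hc ⟨c, rfl⟩)) (not_lt.1 fun h => ?_)
        have h2 : O.valuation (algebraMap k (RatFunc k) c⁻¹) ≤ 1 := (O.valuation_le_one_iff _).2 (hc ⟨c⁻¹, rfl⟩)
        rw [map_inv₀, map_inv₀] at h2
        exact absurd h2 (not_le.2 ((one_lt_inv₀ (zero_lt_iff.2 ((Valuation.ne_zero_iff _).2 (by simpa using hc0)))).2 h))⟩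
      have h := RatFunc.valuation_isEquiv_inftyValuation_of_one_lt_valuation_X (v := O.valuation)
        (not_le.1 fun h => hX ((O.valuation_le_one_iff _).1 h))
      rw [Valuation.isEquiv_iff_valuationSubring, ValuationSubring.valuationSubring_valuation] at h
      exact h
  · rintro (⟨v, rfl⟩ | rfl)
    · obtain ⟨h1, h2⟩ := (Groth.Agent.CI2.ValSubDedekind.iff k[X] (RatFunc k) _).2 ⟨v, rfl⟩
      exact ⟨fun z ⟨c, hc⟩ => hc ▸ h1 ⟨C c, (hk c).symm⟩, h2⟩
    · refine ⟨?_, fun h => ?_⟩
      · rintro _ ⟨c, rfl⟩
        change RatFunc.inftyValuation k _ ≤ 1
        rcases eq_or_ne c 0 with rfl | hc0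
        · simp
        · rw [RatFunc.algebraMap_eq_C, RatFunc.inftyValuation.C k hc0]
      · have h1 : (RatFunc.X : RatFunc k) ∈ (RatFunc.inftyValuation k).valuationSubring := by rw [h]; trivial
        rw [Valuation.mem_valuationSubring_iff, RatFunc.inftyValuation.X, ← WithZero.exp_zero, WithZero.exp_le_exp] at h1
        omega

end Groth.Agent.S11084
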