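import Groth.Statements.S11085
import Groth.Agent.Lib.IntClosFin.Main
import Groth.Agent.Lib.VarDim.Alg
import Mathlib

set_option autoImplicit false
universe u
open CAlg

namespace Groth.Agent.S11085
open Polynomial

open Groth.Agent

theorem finite_not_mem (k F : Type u) [Field k] [Field F] [Algebra k F] [Algebra.EssFiniteType k F]
    (htr : Algebra.trdeg k F = 1) (a : F) :
    {O : ValuationSubring F | (algebraMap k F).range ≤ O.toSubring ∧ a ∉ O}.Finite := by
  classical
  set t := a⁻¹
  by_cases ht : IsAlgebraic k t
  · -- algebraic elements lie in every valuation ring over `k`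
    refine Set.Finite.subset Set.finite_empty fun O hO => ?_
    obtain ⟨hk, haO⟩ := hO
    refine haO ?_
    have ha : IsIntegral k a := (IsAlgebraic.inv_iff.1 ht).isIntegral
    let ψ : k →+* O := (algebraMap k F).codRestrict O fun c => hk ⟨c, rfl⟩
    obtain ⟨f, hf, hf0⟩ := ha
    have hint : IsIntegral O a := ⟨f.map ψ, hf.map _, by
      rw [Polynomial.eval₂_map]
      exact hf0⟩
    obtain ⟨y, hy⟩ := IsIntegrallyClosed.isIntegral_iff.1 hint
    exact hy ▸ y.2
  have hinj : Function.Injective (Polynomial.aeval (R := k) t) :=
    transcendental_iff_injective.1 ht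
  letI : Algebra k[X] F := (Polynomial.aeval t).toRingHom.toAlgebra
  haveI : IsScalarTower k k[X] F := IsScalarTower.of_algebraMap_eq fun c => (aeval_C t c).symm
  haveI : FaithfulSMul k[X] F := (faithfulSMul_iff_algebraMap_injective _ _).2 hinj
  let K := FractionRing k[X]
  letI : Algebra K F := FractionRing.liftAlgebra k[X] F
  haveI : IsScalarTower k K F := IsScalarTower.of_algebraMap_eq fun c => by
    rw [IsScalarTower.algebraMap_apply k k[X] F, IsScalarTower.algebraMap_apply k[X] K F,
      ← IsScalarTower.algebraMap_apply k k[X] K]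
  haveI : Algebra.EssFiniteType K F := Algebra.EssFiniteType.of_comp k K F
  haveI : FaithfulSMul k K := (faithfulSMul_iff_algebraMap_injective _ _).2 (algebraMap k K).injective
  haveI : FaithfulSMul K F := (faithfulSMul_iff_algebraMap_injective _ _).2 (algebraMap K F).injective
  haveI : Algebra.IsAlgebraic K F := by
    have h0 := trdeg_add_eq k K (A := F)
    haveI : Algebra.IsAlgebraic k[X] K := IsLocalization.isAlgebraic K (nonZeroDivisors k[X])
    have h1 : Algebra.trdeg k K = 1 := by
      rw [← trdeg_add_eq k k[X] (A := K), trdeg_eq_zero (R := k[X]) (A := K), add_zero, Polynomial.trdeg_of_isDomain]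
    rw [h1, htr] at h0
    have h2 : Algebra.trdeg K F = 0 := by
      have : Algebra.trdeg K F < Cardinal.aleph0 := lt_of_le_of_lt (le_add_self) (h0 ▸ Cardinal.one_lt_aleph0)
      obtain ⟨m, hm⟩ := Cardinal.lt_aleph0.1 this
      rw [hm] at h0 ⊢
      have : 1 + m = 1 := by exact_mod_cast h0
      exact_mod_cast (by omega : m = 0)
    exact trdeg_eq_zero_iff.1 h2
  haveI : FiniteDimensional K F := Algebra.finite_of_essFiniteType_of_isAlgebraic
  let C := integralClosure k[X] F
  haveI : Module.Finite k[X] C := IntClosFin.finite_integralClosure k k[X] K F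
  haveI : IsFractionRing C F := integralClosure.isFractionRing_of_finite_extension K F
  haveI : IsIntegrallyClosed C := integralClosure.isIntegrallyClosedOfFiniteExtension K
  haveI : IsNoetherianRing C := IsNoetherianRing.of_finite k[X] C
  haveI : Algebra.IsIntegral k[X] C := Algebra.IsIntegral.of_finite _ _
  haveI : Ring.DimensionLEOne C := ⟨fun {p} hp0 hp => by
    haveI := hp
    haveI : (p.comap (algebraMap k[X] C)).IsMaximal := IsPrime.to_maximal_ideal
      (Ideal.comap_ne_bot_of_integral_mem (x := Classical.choose (Submodule.exists_mem_ne_zero_of_ne_bot hp0))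
        (Classical.choose_spec (Submodule.exists_mem_ne_zero_of_ne_bot hp0)).2
        (Classical.choose_spec (Submodule.exists_mem_ne_zero_of_ne_bot hp0)).1
        (Algebra.IsIntegral.isIntegral _))
    exact Ideal.isMaximal_of_isIntegral_of_isMaximal_comap p this⟩
  haveI : IsDedekindDomain C := { }
  let tC : C := algebraMap k[X] C X
  have htC : (tC : F) = t := by
    show (Polynomial.aeval t) (X : k[X]) = t
    simp
  -- every valuation ring in the set contains `C`
  have hC : ∀ O ∈ {O : ValuationSubring F | (algebraMap k F).range ≤ O.toSubring ∧ a ∉ O}, ∀ c : C, (c : F) ∈ O := by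
    intro O hO c
    have ht' : t ∈ O := (O.mem_or_inv_mem a).resolve_left hO.2
    let ψ : k[X] →+* O := (algebraMap k[X] F).codRestrict O fun f => by
      show (Polynomial.aeval t) f ∈ O
      rw [aeval_def, eval₂_eq_sum_range]
      exact O.toSubring.sum_mem fun i _ => O.toSubring.mul_mem (hO.1 ⟨_, rfl⟩) (O.toSubring.pow_mem ht' i)
    obtain ⟨f, hf, hf0⟩ := c.2
    have hint : IsIntegral O (c : F) := ⟨f.map ψ, hf.map _, by rw [Polynomial.eval₂_map]; exact hf0⟩
    obtain ⟨y, hy⟩ := IsIntegrallyClosed.isIntegral_iff.1 hint
    exact hy ▸ y.2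
  have ha0 : ∀ O ∈ {O : ValuationSubring F | (algebraMap k F).range ≤ O.toSubring ∧ a ∉ O}, a ≠ 0 :=
    fun O hO h0 => hO.2 (h0 ▸ O.zero_mem)
  let center : {O : ValuationSubring F // (algebraMap k F).range ≤ O.toSubring ∧ a ∉ O} → Ideal C := fun O =>
    (IsLocalRing.maximalIdeal O.1).comap ((C.val.toRingHom).codRestrict O.1 fun c => hC O.1 O.2 c)
  have hcenter : ∀ O, ∀ c : C, c ∈ center O ↔ ((c : F) = 0 ∨ (c : F)⁻¹ ∉ O.1) := by
    intro O c
    show ¬ IsUnit (⟨(c : F), hC O.1 O.2 c⟩ : O.1) ↔ _
    constructor
    · intro h
      by_contra! h2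
      exact h (IsUnit.of_mul_eq_one ⟨_, h2.2⟩ (Subtype.ext (mul_inv_cancel₀ h2.1)))
    · rintro (h | h) hu
      · exact not_isUnit_zero ((show (⟨(c : F), hC O.1 O.2 c⟩ : O.1) = 0 from Subtype.ext h) ▸ hu)
      · obtain ⟨v, hv⟩ := hu.exists_right_inv
        have hv' : (c : F) * (v : F) = 1 := congrArg Subtype.val hv
        exact h (by rw [inv_eq_of_mul_eq_one_right hv']; exact v.2)
  have htmem : ∀ O, tC ∈ center O := fun O => by
    rw [hcenter, htC]
    exact Or.inr (by rw [inv_inv]; exact O.2.2)
  have hfin : {P : Ideal C | P.IsPrime ∧ tC ∈ P}.Finite := by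
    have h0 : Ideal.span {tC} ≠ ⊥ := by
      rw [Ne, Ideal.span_singleton_eq_bot]
      intro h
      have : t = 0 := by rw [← htC, h]; rfl
      exact ht (by rw [this]; exact isAlgebraic_zero)
    refine Set.Finite.subset (Ideal.span {tC}).finite_minimalPrimes_of_isNoetherianRing fun P hP => ?_
    refine ⟨⟨hP.1, (Ideal.span_singleton_le_iff_mem _).2 hP.2⟩, fun Q hQ hQP => ?_⟩
    haveI := hP.1
    haveI := hQ.1
    exact ((hQ.1.isMaximal (ne_bot_of_le_ne_bot h0 hQ.2)).eq_of_le hP.1.ne_top hQP).ge
  have hinjc : Function.Injective center := by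
    intro O O' h
    have key : ∀ O O' : {O : ValuationSubring F // (algebraMap k F).range ≤ O.toSubring ∧ a ∉ O},
        center O = center O' → ∀ x, x ∈ O.1 → x ∈ O'.1 := by
      intro O O' h x hx
      haveI : (center O).IsPrime := Ideal.comap_isPrime _ _
      have hne : center O ≠ ⊥ := fun hb => by
        have := htmem O
        rw [hb, Ideal.mem_bot] at this
        have h0 : t = 0 := by rw [← htC, this]; rfl
        exact ht (by rw [h0]; exact isAlgebraic_zero)
      let L := Localization.AtPrime (center O)
      haveI : IsDiscreteValuationRing L :=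
        IsLocalization.AtPrime.isDiscreteValuationRing_of_dedekind_domain C hne L
      letI : Algebra L F := (IsLocalization.lift (M := (center O).primeCompl) (g := algebraMap C F) fun s =>
        isUnit_iff_ne_zero.2 fun h0 => s.2 ((hcenter O s.1).2 (Or.inl h0))).toAlgebra
      haveI : IsScalarTower C L F := IsScalarTower.of_algebraMap_eq fun c => (IsLocalization.lift_eq _ c).symm
      haveI : IsFractionRing L F := IsFractionRing.isFractionRing_of_isDomain_of_isLocalization (center O).primeCompl L F
      have hout : ∀ s : (center O).primeCompl, ((s : C) : F) ≠ 0 ∧ (((s : C) : F))⁻¹ ∈ O.1 ∧ (((s : C) : F))⁻¹ ∈ O'.1 := by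
        intro s
        have h1 : ¬ ((((s : C) : F) = 0) ∨ (((s : C) : F))⁻¹ ∉ O.1) := mt (hcenter O _).2 s.2
        have h2 : ¬ ((((s : C) : F) = 0) ∨ (((s : C) : F))⁻¹ ∉ O'.1) := mt (hcenter O' _).2 (h ▸ s.2)
        push Not at h1 h2
        exact ⟨h1.1, h1.2, h2.2⟩
      have hrepr : ∀ l : L, ∃ (c : C) (s : (center O).primeCompl), algebraMap L F l = (c : F) * ((s : C) : F)⁻¹ := by
        intro l
        obtain ⟨c, s, rfl⟩ := IsLocalization.exists_mk'_eq (center O).primeCompl l
        refine ⟨c, s, (eq_mul_inv_iff_mul_eq₀ (hout s).1).2 ?_⟩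
        have := congrArg (algebraMap L F) (IsLocalization.mk'_spec L c s)
        rw [map_mul, ← IsScalarTower.algebraMap_apply, ← IsScalarTower.algebraMap_apply] at this
        exact this
      rcases ValuationRing.isInteger_or_isInteger L x with ⟨l, hl⟩ | ⟨l, hl⟩
      · obtain ⟨c, s, hcs⟩ := hrepr l
        rw [← hl, hcs]
        exact O'.1.mul_mem _ _ (hC O'.1 O'.2 c) (hout s).2.2
      · obtain ⟨c, s, hcs⟩ := hrepr l
        have hxe : x⁻¹ = (c : F) * ((s : C) : F)⁻¹ := hl.symm.trans hcs
        by_cases hc : c ∈ center O
        · rcases eq_or_ne x 0 with rfl | hx0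
          · exact O'.1.zero_mem
          exfalso
          rcases (hcenter O c).1 hc with h0 | h0
          · rw [h0, zero_mul, inv_eq_zero] at hxe; exact hx0 hxe
          · refine h0 ?_
            have hcx : (c : F)⁻¹ = x * ((s : C) : F)⁻¹ := by
              rw [show x = (x⁻¹)⁻¹ from (inv_inv x).symm, hxe, mul_inv, inv_inv, mul_assoc, mul_inv_cancel₀ (hout s).1, mul_one]
            rw [hcx]
            exact O.1.mul_mem _ _ hx (hout s).2.1
        · have h1 := (hout ⟨c, hc⟩).2.2
          have : x = (c : F)⁻¹ * ((s : C) : F) := by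
            rw [show x = (x⁻¹)⁻¹ from (inv_inv x).symm, hxe, mul_inv, inv_inv]
          rw [this]
          exact O'.1.mul_mem _ _ h1 (hC O'.1 O'.2 s.1)
    exact Subtype.ext (SetLike.ext fun x => ⟨key O O' h x, key O' O h.symm x⟩)
  haveI : Finite {O : ValuationSubring F // (algebraMap k F).range ≤ O.toSubring ∧ a ∉ O} := by
    haveI := hfin.to_subtype
    exact Finite.of_injective (fun O => (⟨center O, Ideal.comap_isPrime _ _, htmem O⟩ : {P : Ideal C | P.IsPrime ∧ tC ∈ P}))
      fun O O' h => hinjc (congrArg Subtype.val h)
  exact Set.finite_coe_iff.1 ‹_›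

/-- Let k be a field, A a finitely generated k-algebra which is an integral domain of Krull dimension
one (the coordinate ring of an affine curve), and F its field of fractions. Then the set of
valuation subrings of F which contain k but do not contain A is finite. (The published statement
speaks of all valuation rings of F different from F and not containing A, over an algebraically
closed k; valuation rings not containing k must be excluded — for k an algebraic closure of a
rational function field in one variable t over a finite field and F = k(x), the t-adic valuation of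
k has infinitely many extensions to F, none of whose rings contains A — and the published proof,
through the valuation at infinity of k(x), treats valuation rings containing k; it does not use that
k is algebraically closed.) -/
theorem result (k A F : Type u) [Field k]
    [CommRing A] [IsDomain A] [Algebra k A] [Algebra.FiniteType k A] (hA : ringKrullDim A = 1)
    [Field F] [Algebra A F] [IsFractionRing A F] [Algebra k F] [IsScalarTower k A F] :
    {O : ValuationSubring F | (algebraMap k F).range ≤ O.toSubring ∧
        ¬ (algebraMap A F).range ≤ O.toSubring}.Finite := by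
  classical
  obtain ⟨s, hs⟩ := ‹Algebra.FiniteType k A›.out
  haveI : Algebra.EssFiniteType A F := Algebra.EssFiniteType.of_isLocalization F (nonZeroDivisors A)
  haveI : Algebra.EssFiniteType k F := Algebra.EssFiniteType.comp k A F
  have htr : Algebra.trdeg k F = 1 := by
    haveI : FaithfulSMul k A := (faithfulSMul_iff_algebraMap_injective _ _).2 (algebraMap k A).injective
    haveI : FaithfulSMul A F := (faithfulSMul_iff_algebraMap_injective _ _).2 (IsFractionRing.injective A F)
    haveI : Algebra.IsAlgebraic A F := IsLocalization.isAlgebraic F (nonZeroDivisors A)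
    rw [← trdeg_add_eq k A (A := F), trdeg_eq_zero (R := A) (A := F), add_zero, VarDim.trdeg_eq_tdeg k A]
    have h1 := VarDim.ringKrullDim_eq_tdeg k A
    rw [hA] at h1
    have : VarDim.tdeg k A = 1 := by exact_mod_cast h1.symm
    rw [this, Nat.cast_one]
  refine Set.Finite.subset (Set.Finite.biUnion s.finite_toSet fun b _ => finite_not_mem k F htr (algebraMap A F b)) ?_
  rintro O ⟨hk, hO⟩
  simp only [Set.mem_iUnion, Set.mem_setOf_eq]
  by_contra hcon
  push Not at hcon
  refine hO ?_
  let S' : Subalgebra k A :=
    { (O.toSubring.comap (algebraMap A F)).toSubsemiring with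
      algebraMap_mem' := fun c => by
        show algebraMap A F (algebraMap k A c) ∈ O
        rw [← IsScalarTower.algebraMap_apply]
        exact hk ⟨c, rfl⟩ }
  have : (⊤ : Subalgebra k A) ≤ S' := hs ▸ Algebra.adjoin_le fun b hb => hcon b hb hk
  rintro _ ⟨x, rfl⟩
  exact this (Algebra.mem_top (x := x))

end Groth.Agent.S11085
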