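import Groth.Statements.S11086
import Mathlib

set_option autoImplicit false
universe u
attribute [local instance] FractionRing.liftAlgebra
open CAlg

namespace Groth.Agent.S11086


open scoped nonZeroDivisors in
theorem key (A B Aₛ Bₛ K L : Type u) [CommRing A] [CommRing B] [CommRing Aₛ] [CommRing Bₛ] [Field K] [Field L]
    [Algebra A B] [Algebra A Aₛ] [Algebra B Bₛ] [Algebra Aₛ Bₛ] [Algebra A Bₛ]
    [IsScalarTower A Aₛ Bₛ] [IsScalarTower A B Bₛ]
    [Algebra A K] [Algebra A L] [Algebra B L] [Algebra Aₛ K] [Algebra Aₛ L] [Algebra Bₛ L] [Algebra K L]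
    [IsScalarTower A K L] [IsScalarTower A B L] [IsScalarTower Aₛ K L] [IsScalarTower Aₛ Bₛ L]
    [IsScalarTower A Aₛ K] [IsScalarTower B Bₛ L] [IsScalarTower A Aₛ L]
    [IsFractionRing A K] [IsFractionRing B L] [IsFractionRing Aₛ K] [IsFractionRing Bₛ L]
    [IsDedekindDomain A] [IsDedekindDomain B] [IsDomain Aₛ] [IsIntegrallyClosed Aₛ] [IsDedekindDomain Bₛ]
    [Module.Finite A B] [Module.Finite Aₛ Bₛ] [Module.IsTorsionFree A B] [Module.IsTorsionFree Aₛ Bₛ]
    [FiniteDimensional K L] [Algebra.IsSeparable K L] [IsIntegralClosure B A L] [IsIntegralClosure Bₛ Aₛ L]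
    (S : Submonoid A) [IsLocalization S Aₛ] [IsLocalization (Algebra.algebraMapSubmonoid B S) Bₛ] :
    Ideal.map (algebraMap B Bₛ) (differentIdeal A B) = differentIdeal Aₛ Bₛ := by
  classical
  have hinjB : Function.Injective (algebraMap B L) := IsFractionRing.injective B L
  have hinjBs : Function.Injective (algebraMap Bₛ L) := IsFractionRing.injective Bₛ L
  have hd : ∀ b : B, b ∈ differentIdeal A B ↔
      ∀ x ∈ Submodule.traceDual A K (1 : Submodule B L), algebraMap B L b * x ∈ (algebraMap B L).range := by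
    intro b
    have h := coeSubmodule_differentIdeal (A := A) (K := K) (B := B) (L := L)

    constructor
    · intro hb x hx
      have hb' : algebraMap B L b ∈ IsLocalization.coeSubmodule L (differentIdeal A B) :=
        (IsLocalization.mem_coeSubmodule L _).2 ⟨b, hb, rfl⟩
      rw [h, Submodule.mem_div_iff_forall_mul_mem] at hb'
      exact Submodule.mem_one.1 (hb' x hx)
    · intro hb
      have hb' : algebraMap B L b ∈ IsLocalization.coeSubmodule L (differentIdeal A B) := by
        rw [h, Submodule.mem_div_iff_forall_mul_mem]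
        exact fun x hx => Submodule.mem_one.2 (hb x hx)
      obtain ⟨c, hc, hcb⟩ := (IsLocalization.mem_coeSubmodule L _).1 hb'
      rwa [← hinjB hcb]
  have hds : ∀ b : Bₛ, b ∈ differentIdeal Aₛ Bₛ ↔
      ∀ x ∈ Submodule.traceDual Aₛ K (1 : Submodule Bₛ L), algebraMap Bₛ L b * x ∈ (algebraMap Bₛ L).range := by
    intro b
    have h := coeSubmodule_differentIdeal (A := Aₛ) (K := K) (B := Bₛ) (L := L)
    constructor
    · intro hb x hx
      have hb' : algebraMap Bₛ L b ∈ IsLocalization.coeSubmodule L (differentIdeal Aₛ Bₛ) :=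
        (IsLocalization.mem_coeSubmodule L _).2 ⟨b, hb, rfl⟩
      rw [h, Submodule.mem_div_iff_forall_mul_mem] at hb'
      exact Submodule.mem_one.1 (hb' x hx)
    · intro hb
      have hb' : algebraMap Bₛ L b ∈ IsLocalization.coeSubmodule L (differentIdeal Aₛ Bₛ) := by
        rw [h, Submodule.mem_div_iff_forall_mul_mem]
        exact fun x hx => Submodule.mem_one.2 (hb x hx)
      obtain ⟨c, hc, hcb⟩ := (IsLocalization.mem_coeSubmodule L _).1 hb'
      rwa [← hinjBs hcb]
  -- criteria for the two duals
  have hD : ∀ x, x ∈ Submodule.traceDual A K (1 : Submodule B L) ↔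
      ∀ c : B, Algebra.trace K L (x * algebraMap B L c) ∈ (algebraMap A K).range := fun x => by
    rw [Submodule.mem_traceDual]
    exact ⟨fun h c => h _ (Submodule.mem_one.2 ⟨c, rfl⟩), fun h a ha => by
      obtain ⟨c, rfl⟩ := Submodule.mem_one.1 ha; exact h c⟩
  have hDs : ∀ x, x ∈ Submodule.traceDual Aₛ K (1 : Submodule Bₛ L) ↔
      ∀ c : Bₛ, Algebra.trace K L (x * algebraMap Bₛ L c) ∈ (algebraMap Aₛ K).range := fun x => by
    rw [Submodule.mem_traceDual]
    exact ⟨fun h c => h _ (Submodule.mem_one.2 ⟨c, rfl⟩), fun h a ha => by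
      obtain ⟨c, rfl⟩ := Submodule.mem_one.1 ha; exact h c⟩
  have hmulA : ∀ (a : A) (y : L), Algebra.trace K L (algebraMap A L a * y) =
      algebraMap A K a * Algebra.trace K L y := fun a y => by
    rw [IsScalarTower.algebraMap_apply A K L, ← Algebra.smul_def, LinearMap.map_smul, smul_eq_mul]
  -- the easy inclusion of duals
  have hle : ∀ x ∈ Submodule.traceDual A K (1 : Submodule B L), x ∈ Submodule.traceDual Aₛ K (1 : Submodule Bₛ L) := by
    intro x hx
    rw [hDs]
    intro c
    obtain ⟨c₀, ⟨_, s, hs, rfl⟩, rfl⟩ := IsLocalization.exists_mk'_eq (Algebra.algebraMapSubmonoid B S) c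
    obtain ⟨a, ha⟩ := (hD x).1 hx c₀
    refine ⟨IsLocalization.mk' Aₛ a (⟨s, hs⟩ : S), ?_⟩
    have hu : algebraMap A K s ≠ 0 := by
      rw [IsScalarTower.algebraMap_apply A Aₛ K]
      exact ((IsLocalization.map_units Aₛ (⟨s, hs⟩ : S)).map (algebraMap Aₛ K)).ne_zero
    apply mul_left_cancel₀ hu
    rw [← hmulA, IsScalarTower.algebraMap_apply A Aₛ K, ← map_mul, IsLocalization.mk'_spec' Aₛ a (⟨s, hs⟩ : S),
      ← IsScalarTower.algebraMap_apply, ha, mul_left_comm]
    congr 2
    rw [IsScalarTower.algebraMap_apply B Bₛ L c₀, IsScalarTower.algebraMap_apply A B L,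
      IsScalarTower.algebraMap_apply B Bₛ L (algebraMap A B s), ← map_mul]
    congr 1
    exact (IsLocalization.mk'_spec' Bₛ c₀ (⟨algebraMap A B s, s, hs, rfl⟩ : Algebra.algebraMapSubmonoid B S)).symm
  -- clearing denominators in the dual
  obtain ⟨G, hG⟩ := (inferInstance : Module.Finite A B).fg_top
  have hclear : ∀ x ∈ Submodule.traceDual Aₛ K (1 : Submodule Bₛ L), ∃ s ∈ S,
      algebraMap A L s * x ∈ Submodule.traceDual A K (1 : Submodule B L) := by
    intro x hx
    choose a ha using fun c : B => (hDs x).1 hx (algebraMap B Bₛ c)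
    choose r hr using fun c : B => IsLocalization.surj S (a c)
    refine ⟨(∏ c ∈ G, ((r c).2 : A)), prod_mem fun c _ => (r c).2.2, ?_⟩
    rw [hD]
    intro c
    have hc : c ∈ Submodule.span A (G : Set B) := hG ▸ Submodule.mem_top
    induction hc using Submodule.span_induction with
    | mem c hc =>
      obtain ⟨w, hw⟩ := Finset.dvd_prod_of_mem (fun c => ((r c).2 : A)) hc
      refine ⟨w * (r c).1, ?_⟩
      rw [mul_assoc, hmulA, IsScalarTower.algebraMap_apply B Bₛ L, ← ha c, hw, map_mul, map_mul,
        IsScalarTower.algebraMap_apply A Aₛ K ((r c).1), ← hr c, map_mul, ← IsScalarTower.algebraMap_apply]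
      ring
    | zero => exact ⟨0, by simp⟩
    | add c d _ _ hc hd => rw [map_add, mul_add, map_add]; exact add_mem hc hd
    | smul q c _ hc =>
      obtain ⟨z, hz⟩ := hc
      refine ⟨q * z, ?_⟩
      rw [Algebra.smul_def, map_mul (algebraMap A K), map_mul (algebraMap B L), hz,
        ← IsScalarTower.algebraMap_apply A B L, mul_left_comm (algebraMap A L (∏ c ∈ G, ((r c).2 : A)) * x), hmulA]
  -- generators of the dual
  obtain ⟨H, hH⟩ : (Submodule.traceDual A K (1 : Submodule B L)).FG := by
    rw [← FractionalIdeal.coe_dual_one]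
    haveI := FractionalIdeal.isNoetherian (FractionalIdeal.dual A K (1 : FractionalIdeal (nonZeroDivisors B) L))
    exact (Submodule.fg_top _).1 (IsNoetherian.noetherian _)
  refine le_antisymm (Ideal.map_le_iff_le_comap.2 fun b hb => (hds _).2 fun x hx => ?_) fun z hz => ?_
  · obtain ⟨s, hs, hsx⟩ := hclear x hx
    obtain ⟨c, hc⟩ := (hd b).1 hb _ hsx
    refine ⟨IsLocalization.mk' Bₛ c (⟨algebraMap A B s, s, hs, rfl⟩ : Algebra.algebraMapSubmonoid B S), ?_⟩
    have hu : algebraMap A L s ≠ 0 := by
      rw [IsScalarTower.algebraMap_apply A Aₛ L]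
      exact ((IsLocalization.map_units Aₛ (⟨s, hs⟩ : S)).map (algebraMap Aₛ L)).ne_zero
    apply mul_left_cancel₀ hu
    rw [← IsScalarTower.algebraMap_apply, mul_left_comm, ← hc, IsScalarTower.algebraMap_apply B Bₛ L,
      IsScalarTower.algebraMap_apply A B L, IsScalarTower.algebraMap_apply B Bₛ L (algebraMap A B s), ← map_mul,
      IsLocalization.mk'_spec' Bₛ c (⟨algebraMap A B s, s, hs, rfl⟩ : Algebra.algebraMapSubmonoid B S)]
  · obtain ⟨b, ⟨_, t, ht, rfl⟩, rfl⟩ := IsLocalization.exists_mk'_eq (Algebra.algebraMapSubmonoid B S) z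
    have hbs : algebraMap B Bₛ b ∈ differentIdeal Aₛ Bₛ := by
      rw [← IsLocalization.mk'_spec Bₛ b (⟨algebraMap A B t, t, ht, rfl⟩ : Algebra.algebraMapSubmonoid B S)]
      exact Ideal.mul_mem_right _ _ hz
    have hex : ∀ x ∈ H, ∃ s ∈ S, algebraMap B L (algebraMap A B s * b) * x ∈ (algebraMap B L).range := by
      intro x hx
      obtain ⟨c, hc⟩ := (hds _).1 hbs x (hle x (hH ▸ Submodule.subset_span hx))
      obtain ⟨⟨c₀, _, s, hs, rfl⟩, hcs⟩ := IsLocalization.surj (Algebra.algebraMapSubmonoid B S) c
      refine ⟨s, hs, c₀, ?_⟩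
      rw [IsScalarTower.algebraMap_apply B Bₛ L c₀, ← hcs, map_mul, hc, map_mul,
        ← IsScalarTower.algebraMap_apply, ← IsScalarTower.algebraMap_apply]
      ring
    choose! σ hσ hσ' using hex
    have hmem : algebraMap A B (∏ x ∈ H, σ x) * b ∈ differentIdeal A B := by
      rw [hd]
      intro x hx
      rw [← hH] at hx
      induction hx using Submodule.span_induction with
      | mem x hx =>
        obtain ⟨w, hw⟩ := Finset.dvd_prod_of_mem σ hx
        obtain ⟨c, hc⟩ := hσ' x hx
        refine ⟨algebraMap A B w * c, ?_⟩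
        rw [map_mul, hc, hw]; simp only [map_mul]; ring
      | zero => exact ⟨0, by simp⟩
      | add x y _ _ hx hy => rw [mul_add]; exact add_mem hx hy
      | smul q x _ hx => rw [Algebra.smul_def, mul_left_comm]; exact mul_mem ⟨q, rfl⟩ hx
    rw [IsLocalization.mk'_mem_map_algebraMap_iff]
    exact ⟨algebraMap A B (∏ x ∈ H, σ x), Algebra.mem_algebraMapSubmonoid_of_mem ⟨_, prod_mem fun x hx => hσ x hx⟩, hmem⟩



/-- Let A be a Dedekind domain, B a Dedekind domain which is a finitely generated torsion-free A-algebra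
with fraction field separable over that of A (the integral closure of A in a finite separable
extension), and S a submonoid of A consisting of non-zero-divisors. Let A_S and B_S be localizations
of A at S and of B at the image of S, with B_S an algebra over A_S compatibly with A and B (so A_S
is integrally closed and B_S is a Dedekind domain, torsion-free over A_S). Then the ideal of B_S
generated by the different of B over A is the different of B_S over A_S. -/
theorem result (A B : Type u) [CommRing A] [CommRing B]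
    [IsDedekindDomain A] [IsDedekindDomain B] [Algebra A B] [Module.Finite A B] [Module.IsTorsionFree A B]
    [Algebra.IsSeparable (FractionRing A) (FractionRing B)]
    (S : Submonoid A) (hS : S ≤ nonZeroDivisors A)
    (Aₛ Bₛ : Type u) [CommRing Aₛ] [CommRing Bₛ] [Algebra A Aₛ] [Algebra B Bₛ] [Algebra Aₛ Bₛ]
    [Algebra A Bₛ] [IsScalarTower A Aₛ Bₛ] [IsScalarTower A B Bₛ]
    [IsLocalization S Aₛ] [IsLocalization (Algebra.algebraMapSubmonoid B S) Bₛ]
    [IsDomain Aₛ] [IsIntegrallyClosed Aₛ] [IsDedekindDomain Bₛ] [Module.IsTorsionFree Aₛ Bₛ] :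
    Ideal.map (algebraMap B Bₛ) (differentIdeal A B) = differentIdeal Aₛ Bₛ := by
  haveI : Module.Finite Aₛ Bₛ := Module.Finite.of_isLocalization A B S
  haveI : FiniteDimensional (FractionRing A) (FractionRing B) :=
    Module.Finite.of_isLocalization A B (nonZeroDivisors A)
  have hS' : Algebra.algebraMapSubmonoid B S ≤ nonZeroDivisors B := by
    rintro _ ⟨s, hs, rfl⟩
    exact mem_nonZeroDivisors_of_ne_zero ((map_ne_zero_iff _ (FaithfulSMul.algebraMap_injective A B)).2
      (nonZeroDivisors.ne_zero (hS hs)))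
  let fA : Aₛ →+* FractionRing A := IsLocalization.lift (M := S) (g := algebraMap A (FractionRing A))
    fun s => IsLocalization.map_units (FractionRing A) (⟨s.1, hS s.2⟩ : nonZeroDivisors A)
  let fB : Bₛ →+* FractionRing B := IsLocalization.lift (M := Algebra.algebraMapSubmonoid B S) (g := algebraMap B (FractionRing B))
    fun s => IsLocalization.map_units (FractionRing B) (⟨s.1, hS' s.2⟩ : nonZeroDivisors B)
  letI := fA.toAlgebra
  letI := fB.toAlgebra
  letI := ((algebraMap (FractionRing A) (FractionRing B)).comp fA).toAlgebra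
  haveI hAK : IsScalarTower A Aₛ (FractionRing A) := IsScalarTower.of_algebraMap_eq fun a => (IsLocalization.lift_eq _ a).symm
  haveI hBL : IsScalarTower B Bₛ (FractionRing B) := IsScalarTower.of_algebraMap_eq fun b => (IsLocalization.lift_eq _ b).symm
  haveI : IsScalarTower Aₛ (FractionRing A) (FractionRing B) := IsScalarTower.of_algebraMap_eq fun _ => rfl
  haveI : IsScalarTower A Aₛ (FractionRing B) := IsScalarTower.of_algebraMap_eq fun a => by
    rw [IsScalarTower.algebraMap_apply A (FractionRing A) (FractionRing B), IsScalarTower.algebraMap_apply A Aₛ (FractionRing A)]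
    rfl
  haveI : IsScalarTower Aₛ Bₛ (FractionRing B) := IsScalarTower.of_algebraMap_eq' <| by
    refine IsLocalization.ringHom_ext S (RingHom.ext fun a => ?_)
    simp only [RingHom.comp_apply]
    rw [← IsScalarTower.algebraMap_apply A Aₛ (FractionRing B), ← IsScalarTower.algebraMap_apply A Aₛ Bₛ,
      IsScalarTower.algebraMap_apply A B Bₛ, ← IsScalarTower.algebraMap_apply B Bₛ (FractionRing B),
      ← IsScalarTower.algebraMap_apply]
  haveI : IsFractionRing Aₛ (FractionRing A) :=
    IsFractionRing.isFractionRing_of_isDomain_of_isLocalization S Aₛ (FractionRing A)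
  haveI : IsFractionRing Bₛ (FractionRing B) :=
    IsFractionRing.isFractionRing_of_isDomain_of_isLocalization (Algebra.algebraMapSubmonoid B S) Bₛ (FractionRing B)
  haveI : IsIntegralClosure B A (FractionRing B) := IsIntegralClosure.of_isIntegrallyClosed B A (FractionRing B)
  haveI : IsIntegralClosure Bₛ Aₛ (FractionRing B) := IsIntegralClosure.of_isIntegrallyClosed Bₛ Aₛ (FractionRing B)
  exact key A B Aₛ Bₛ (FractionRing A) (FractionRing B) S

end Groth.Agent.S11086
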