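import Groth.Statements.S11087
import Groth.Agent.Lib.DvrCoeff28.Basic
import Mathlib.FieldTheory.Separable

set_option autoImplicit false
universe u
attribute [local instance] FractionRing.liftAlgebra
open CAlg
set_option linter.style.haveILetI false

namespace Groth.Agent.S11087

/-- Let A be a complete discrete valuation ring and K a perfect field contained in A such that K → A →
A/m is bijective. Let B be a Dedekind domain which is a finite torsion-free A-algebra with fraction
field separable over that of A (the integral closure of A in a finite separable extension of its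
fraction field). Then for every maximal ideal M of B and every b in B there is exactly one element c
of B which is algebraic over K and congruent to b modulo M; in other words the algebraic closure of
K in B is a subfield mapping isomorphically onto B/M. -/
theorem result (K A B : Type u) [Field K]
    [PerfectField K] [CommRing A] [IsDomain A] [IsDiscreteValuationRing A]
    [IsAdicComplete (IsLocalRing.maximalIdeal A) A]
    [Algebra K A] (hK : Function.Bijective ((IsLocalRing.residue A).comp (algebraMap K A)))
    [CommRing B] [IsDedekindDomain B] [Algebra A B] [Module.Finite A B] [Module.IsTorsionFree A B]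
    [Algebra.IsSeparable (FractionRing A) (FractionRing B)] [Algebra K B] [IsScalarTower K A B]
    (M : Ideal B) [M.IsMaximal] (b : B) :
    ∃! c : B, IsAlgebraic K c ∧ b - c ∈ M := by
  haveI := DvrCoeff28.isLocalRing_top A B
  haveI := DvrCoeff28.henselian_top A B
  have hMm : M = IsLocalRing.maximalIdeal B := IsLocalRing.eq_maximalIdeal inferInstance
  subst hMm
  haveI : Algebra.IsIntegral A B := Algebra.IsIntegral.of_finite A B
  haveI : IsLocalHom (algebraMap A B) :=
    RingHom.IsIntegral.isLocalHom (Algebra.IsIntegral.isIntegral) (FaithfulSMul.algebraMap_injective A B)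
  have hle : (IsLocalRing.maximalIdeal A).map (algebraMap A B) ≤ IsLocalRing.maximalIdeal B :=
    Ideal.map_le_iff_le_comap.2 fun a ha h => ha (IsUnit.of_map (algebraMap A B) a h)
  haveI : Module.Finite K (B ⧸ IsLocalRing.maximalIdeal B) :=
    DvrCoeff28.finite_quotient K A B hK.surjective _ hle
  letI := Ideal.Quotient.field (IsLocalRing.maximalIdeal B)
  let q := Ideal.Quotient.mkₐ K (IsLocalRing.maximalIdeal B)
  have hint : IsIntegral K (q b) := IsIntegral.of_finite K _
  let f := minpoly K (q b)
  have hroot : Polynomial.eval b (f.map (algebraMap K B)) ∈ IsLocalRing.maximalIdeal B := by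
    rw [Polynomial.eval_map_algebraMap, ← Ideal.Quotient.eq_zero_iff_mem]
    exact (Polynomial.aeval_algHom_apply q b f).symm.trans (minpoly.aeval K (q b))
  have hder : IsUnit (Polynomial.eval b (f.map (algebraMap K B)).derivative) := by
    rw [← IsLocalRing.notMem_maximalIdeal, Polynomial.derivative_map, Polynomial.eval_map_algebraMap,
      ← Ideal.Quotient.eq_zero_iff_mem]
    intro h
    refine (PerfectField.separable_of_irreducible (minpoly.irreducible hint)).aeval_derivative_ne_zero (minpoly.aeval K (q b)) ?_
    exact (Polynomial.aeval_algHom_apply q b _).trans h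
  obtain ⟨c, hc, hcb⟩ := HenselianLocalRing.is_henselian _ ((minpoly.monic hint).map (algebraMap K B)) b hroot hder
  have hcalg : IsAlgebraic K c := by
    refine ⟨f, minpoly.ne_zero hint, ?_⟩
    rw [← Polynomial.eval_map_algebraMap]
    exact hc
  refine ⟨c, ⟨hcalg, by rw [← neg_sub]; exact neg_mem hcb⟩, fun c' hc' => ?_⟩
  by_contra hne
  obtain ⟨r, hr, hdvd⟩ := (hc'.1.sub hcalg).exists_nonzero_dvd
    (mem_nonZeroDivisors_of_ne_zero (sub_ne_zero.2 hne))
  refine IsLocalRing.notMem_maximalIdeal.2 (isUnit_of_dvd_unit hdvd ((IsUnit.mk0 r hr).map (algebraMap K B))) ?_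
  have := sub_mem (neg_mem hc'.2) hcb
  rw [neg_sub, sub_sub_sub_cancel_right] at this
  exact this

end Groth.Agent.S11087
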