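import Groth.Statements.S11088
import Groth.Agent.Lib.MilnorFib6.AlgClosure
import Mathlib

set_option autoImplicit false
universe u
attribute [local instance] FractionRing.liftAlgebra
open CAlg

namespace Groth.Agent.S11088

/-- Let A be a complete discrete valuation ring with maximal ideal m and B a Dedekind domain which is a
finite torsion-free A-algebra with fraction field separable over that of A (the integral closure of
A in a finite separable extension). Then for every maximal ideal M of B, with f the degree of B/M
over A/m, and every nonzero x in B, the multiplicity of m in the ideal generated by the norm of x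
equals f times the multiplicity of M in the ideal generated by x: v(N(x)) = f · w(x). -/
theorem result (A B : Type u) [CommRing A] [IsDomain A] [IsDiscreteValuationRing A]
    [IsAdicComplete (IsLocalRing.maximalIdeal A) A]
    [CommRing B] [IsDedekindDomain B] [Algebra A B] [Module.Finite A B] [Module.IsTorsionFree A B]
    [Algebra.IsSeparable (FractionRing A) (FractionRing B)]
    (M : Ideal B) [M.IsMaximal] (x : B) (hx : x ≠ 0) :
    emultiplicity (IsLocalRing.maximalIdeal A) (Ideal.span {Algebra.intNorm A B x}) =
      (M.inertiaDeg A : ℕ∞) * emultiplicity M (Ideal.span {x}) := by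
  classical
  haveI : HenselianLocalRing A :=
    { is_henselian := fun f hf a₀ h₁ h₂ => HenselianRing.is_henselian (I := IsLocalRing.maximalIdeal A) f hf a₀ h₁
        (by exact h₂.map _) }
  haveI := Groth.Agent.MilnorFib6.isLocalRing_of_finite_domain A B
  haveI : IsIntegrallyClosed A := inferInstance
  set p := IsLocalRing.maximalIdeal A
  have hM : M = IsLocalRing.maximalIdeal B := IsLocalRing.eq_maximalIdeal inferInstance
  haveI : M.LiesOver p := ⟨(IsLocalRing.eq_maximalIdeal (Ideal.isMaximal_comap_of_isIntegral_of_isMaximal M)).symm⟩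
  have hp : p ≠ ⊥ := IsDiscreteValuationRing.not_a_field A
  have hset : p.primesOver B = {M} := by
    refine Set.eq_singleton_iff_unique_mem.2 ⟨⟨inferInstance, inferInstance⟩, fun Q hQ => ?_⟩
    haveI := hQ.1
    haveI := hQ.2
    haveI : Q.IsMaximal := Ideal.IsMaximal.of_liesOver_isMaximal Q p
    rw [hM]; exact IsLocalRing.eq_maximalIdeal inferInstance
  set e := M.ramificationIdx A
  have hmap : p.map (algebraMap A B) = M ^ e := by
    rw [Ideal.map_algebraMap_eq_finsetProd_pow (R := B) hp]
    simp [hset, e]
  have hfin : e * M.inertiaDeg A = Module.finrank A B := by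
    haveI : Fintype (p.primesOver B) := Fintype.ofFinite _
    rw [← Ideal.sum_ramification_inertia_eq_finrank (R := A) (S := B) (p := p),
      Finset.sum_eq_single (⟨M, inferInstance, inferInstance⟩ : p.primesOver B)]
    · intro Q _ hQ
      exact absurd (Subtype.ext (Set.mem_singleton_iff.1 (hset ▸ Q.2 : Q.1 ∈ ({M} : Set (Ideal B))))) hQ
    · simp
  have he : e ≠ 0 := fun h => by
    rw [h, zero_mul] at hfin
    exact (Module.finrank_pos (R := A) (M := B)).ne hfin
  obtain ⟨s, hs⟩ := Ideal.exists_relNorm_eq_pow_of_isPrime M p
  have hinj : Function.Injective (fun i : ℕ => p ^ i) :=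
    (Ideal.pow_right_strictAnti p hp (IsLocalRing.maximalIdeal.isMaximal A).ne_top).injective
  have hs' : s = M.inertiaDeg A := by
    have h := Ideal.relNorm_algebraMap (R := A) B p
    rw [hmap, map_pow, hs, ← pow_mul, ← hfin, mul_comm] at h
    exact Nat.eq_of_mul_eq_mul_left (Nat.pos_of_ne_zero he) (hinj h)
  have hMpr : Prime M := Ideal.prime_of_isPrime (fun h => by
    rw [h, ← Ideal.zero_eq_bot, zero_pow he, Ideal.zero_eq_bot] at hmap
    exact hp (Ideal.map_eq_bot_iff_of_injective (FaithfulSMul.algebraMap_injective A B) |>.1 hmap)) inferInstance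
  have hppr : Prime p := Ideal.prime_of_isPrime hp inferInstance
  haveI : IsDiscreteValuationRing B := ((IsDiscreteValuationRing.TFAE B (fun h =>
    hMpr.ne_zero (hM.trans (IsLocalRing.isField_iff_maximalIdeal_eq.1 h)))).out 0 2).2 (inferInstance : IsDedekindDomain B)
  obtain ⟨ϖ, hϖ⟩ := IsDiscreteValuationRing.exists_irreducible B
  obtain ⟨n, u, rfl⟩ := IsDiscreteValuationRing.eq_unit_mul_pow_irreducible hx hϖ
  have hspan : Ideal.span {(u : B) * ϖ ^ n} = M ^ n := by
    rw [hM, hϖ.maximalIdeal_eq, Ideal.span_singleton_pow, Ideal.span_singleton_eq_span_singleton]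
    exact (associated_unit_mul_left _ _ u.isUnit)
  rw [hspan, ← Ideal.relNorm_singleton (R := A), hspan, map_pow, hs, ← pow_mul, hs',
    emultiplicity_pow_self hppr.ne_zero hppr.not_unit, emultiplicity_pow_self hMpr.ne_zero hMpr.not_unit]
  push_cast
  rfl

end Groth.Agent.S11088
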