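import Groth.Statements.S11089
import Groth.Agent.Lib.DvrCoeff28.Basic
import Mathlib.RingTheory.RamificationInertia.Basic
import Mathlib.NumberTheory.RamificationInertia.Ramification

set_option autoImplicit false
universe u
attribute [local instance] FractionRing.liftAlgebra
open CAlg IsLocalRing
set_option linter.style.haveILetI false

namespace Groth.Agent.S11089

/-- Low degree combinations of powers of a uniformizer of a totally ramified extension. -/
theorem mem_of_sum_mem {A B : Type u} [CommRing A] [IsLocalRing A] [CommRing B] [IsDomain B] [IsDiscreteValuationRing B]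
    [Algebra A B] [IsLocalHom (algebraMap A B)] (u : B) (hu : Irreducible u) (m : ℕ)
    (hm : (maximalIdeal A).map (algebraMap A B) ≤ Ideal.span {u ^ m}) (a : ℕ → A) (n : ℕ) (hn : n ≤ m)
    (hsum : ∑ i ∈ Finset.range n, algebraMap A B (a i) * u ^ i ∈ Ideal.span {u ^ n}) :
    ∀ i < n, a i ∈ maximalIdeal A := by
  intro i
  induction i using Nat.strong_induction_on with
  | _ i ih =>
    intro hi
    have hterm : algebraMap A B (a i) * u ^ i ∈ Ideal.span {u ^ (i + 1)} := by
      have h1 : ∀ j ∈ (Finset.range n).erase i, algebraMap A B (a j) * u ^ j ∈ Ideal.span {u ^ (i + 1)} := by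
        intro j hj
        rw [Finset.mem_erase, Finset.mem_range] at hj
        rw [Ideal.mem_span_singleton]
        rcases lt_or_gt_of_ne hj.1 with h | h
        · refine dvd_mul_of_dvd_left ?_ _
          exact (pow_dvd_pow u (show i + 1 ≤ m by omega)).trans
            (Ideal.mem_span_singleton.1 (hm (Ideal.mem_map_of_mem _ (ih j h hj.2))))
        · exact dvd_mul_of_dvd_right (pow_dvd_pow u h) _
      have h2 : ∑ j ∈ Finset.range n, algebraMap A B (a j) * u ^ j ∈ Ideal.span {u ^ (i + 1)} :=
        Ideal.span_singleton_le_span_singleton.2 (pow_dvd_pow u hi) hsum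
      rw [← Finset.add_sum_erase _ _ (Finset.mem_range.2 hi)] at h2
      exact (add_mem_cancel_right (Ideal.sum_mem _ h1)).1 h2
    rw [Ideal.mem_span_singleton, pow_succ', mul_dvd_mul_iff_right (pow_ne_zero _ hu.ne_zero)] at hterm
    intro hunit
    exact hu.not_isUnit (isUnit_of_dvd_unit hterm (hunit.map (algebraMap A B)))


/-- Let A be a complete discrete valuation ring containing a field K with K → A → A/m bijective, and B a
Dedekind domain which is a finite torsion-free A-algebra of rank m with fraction field separable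
over that of A (the integral closure of A in a finite separable extension E of F = Frac A). If the
extension is totally ramified — the maximal ideal M of B has ramification index m — and m is a unit
in A, then some uniformizer u of B (an element of M not in M²) satisfies u^m ∈ A and generates E
over F: its minimal polynomial over A has degree m. -/
theorem result (K A B : Type u) [Field K]
    [CommRing A] [IsDomain A] [IsDiscreteValuationRing A]
    [IsAdicComplete (IsLocalRing.maximalIdeal A) A]
    [Algebra K A] (hK : Function.Bijective ((IsLocalRing.residue A).comp (algebraMap K A)))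
    [CommRing B] [IsDedekindDomain B] [Algebra A B] [Module.Finite A B] [Module.IsTorsionFree A B]
    [Algebra.IsSeparable (FractionRing A) (FractionRing B)]
    (M : Ideal B) [M.IsMaximal] (hram : M.ramificationIdx A = Module.finrank A B)
    (hm : IsUnit ((Module.finrank A B : ℕ) : A)) :
    ∃ u : B, u ∈ M ∧ u ∉ M ^ 2 ∧ u ^ Module.finrank A B ∈ (algebraMap A B).range ∧
      (minpoly A u).natDegree = Module.finrank A B := by
  haveI := DvrCoeff28.isLocalRing_top A B
  haveI := DvrCoeff28.henselian_top A B
  have hMm : M = IsLocalRing.maximalIdeal B := IsLocalRing.eq_maximalIdeal inferInstance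
  subst hMm
  haveI : Algebra.IsIntegral A B := Algebra.IsIntegral.of_finite A B
  haveI : IsLocalHom (algebraMap A B) :=
    RingHom.IsIntegral.isLocalHom (Algebra.IsIntegral.isIntegral) (FaithfulSMul.algebraMap_injective A B)
  obtain ⟨ϖ, hϖ⟩ := IsDiscreteValuationRing.exists_irreducible A
  have hϖB : algebraMap A B ϖ ≠ 0 := fun h => hϖ.ne_zero (FaithfulSMul.algebraMap_injective A B (h.trans (map_zero _).symm))
  have hmapne : (IsLocalRing.maximalIdeal A).map (algebraMap A B) ≠ ⊥ := by
    rw [hϖ.maximalIdeal_eq, Ideal.map_span, Set.image_singleton, Ne, Ideal.span_singleton_eq_bot]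
    exact hϖB
  have hle : (IsLocalRing.maximalIdeal A).map (algebraMap A B) ≤ IsLocalRing.maximalIdeal B :=
    Ideal.map_le_iff_le_comap.2 fun a ha h => ha (IsUnit.of_map (algebraMap A B) a h)
  haveI : IsDiscreteValuationRing B :=
    { not_a_field' := ne_bot_of_le_ne_bot hmapne hle }
  obtain ⟨u₀, hu₀⟩ := IsDiscreteValuationRing.exists_irreducible B
  set m := Module.finrank A B with hmdef
  haveI hover : (IsLocalRing.maximalIdeal B).LiesOver (IsLocalRing.maximalIdeal A) :=
    ⟨(IsLocalRing.eq_maximalIdeal (Ideal.isMaximal_comap_of_isIntegral_of_isMaximal (R := A) (IsLocalRing.maximalIdeal B))).symm⟩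
  -- the residue fields agree
  have hf1 : (IsLocalRing.maximalIdeal B).inertiaDeg A = 1 := by
    haveI : Subsingleton ((IsLocalRing.maximalIdeal A).primesOver B) := ⟨fun P Q => Subtype.ext (by
      haveI := P.2.1; haveI := Q.2.1; haveI := P.2.2; haveI := Q.2.2
      rw [IsLocalRing.eq_maximalIdeal (Ideal.IsMaximal.of_liesOver_isMaximal P.1 (IsLocalRing.maximalIdeal A)),
        IsLocalRing.eq_maximalIdeal (Ideal.IsMaximal.of_liesOver_isMaximal Q.1 (IsLocalRing.maximalIdeal A))])⟩
    letI : Fintype ((IsLocalRing.maximalIdeal A).primesOver B) :=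
      Fintype.ofSubsingleton ⟨IsLocalRing.maximalIdeal B, inferInstance, hover⟩
    have h := Ideal.sum_ramification_inertia_eq_finrank (IsLocalRing.maximalIdeal A) B
    rw [Fintype.sum_subsingleton _ ⟨IsLocalRing.maximalIdeal B, inferInstance, hover⟩, hram, ← hmdef] at h
    exact mul_left_cancel₀ (show m ≠ 0 from (Module.finrank_pos).ne') (by rw [h, mul_one])
  have hres : ∀ x : B, ∃ a : A, x - algebraMap A B a ∈ IsLocalRing.maximalIdeal B := by
    intro x
    rw [Ideal.inertiaDeg_eq_of_isMaximal (IsLocalRing.maximalIdeal A)] at hf1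
    letI := Ideal.Quotient.field (IsLocalRing.maximalIdeal A)
    obtain ⟨c, hc⟩ := (finrank_eq_one_iff_of_nonzero' (1 : B ⧸ IsLocalRing.maximalIdeal B) one_ne_zero).1 hf1
      (Ideal.Quotient.mk _ x)
    obtain ⟨a, rfl⟩ := Ideal.Quotient.mk_surjective c
    refine ⟨a, Ideal.Quotient.eq.1 (hc.symm.trans ?_)⟩
    rw [Algebra.smul_def, mul_one]
    rfl
  -- the valuation of a uniformizer of the base
  obtain ⟨j, ε, hε⟩ := IsDiscreteValuationRing.eq_unit_mul_pow_irreducible hϖB hu₀
  have hmap : (IsLocalRing.maximalIdeal A).map (algebraMap A B) = IsLocalRing.maximalIdeal B ^ j := by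
    rw [hϖ.maximalIdeal_eq, Ideal.map_span, Set.image_singleton, hε, hu₀.maximalIdeal_eq, Ideal.span_singleton_pow,
      mul_comm, Ideal.span_singleton_mul_right_unit ε.isUnit]
  have hj : j = m := by
    rw [← Ideal.ramificationIdx'_eq_ramificationIdx' (IsLocalRing.maximalIdeal A) (IsLocalRing.maximalIdeal B) hmapne,
      Ideal.ramificationIdx'_spec (n := j) hmap.le] at hram
    · exact hram
    · intro h
      rw [hmap, hu₀.maximalIdeal_eq, Ideal.span_singleton_pow, Ideal.span_singleton_pow,
        Ideal.span_singleton_le_span_singleton, pow_dvd_pow_iff hu₀.ne_zero hu₀.not_isUnit] at h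
      omega
  subst hj
  obtain ⟨a, ha⟩ := hres (ε : B)
  obtain ⟨c, hc⟩ := hK.surjective (IsLocalRing.residue A a)
  set cB := algebraMap A B (algebraMap K A c)
  have hεc : (ε : B) - cB ∈ IsLocalRing.maximalIdeal B := by
    have h1 : a - algebraMap K A c ∈ IsLocalRing.maximalIdeal A := by
      rw [← IsLocalRing.residue_eq_zero_iff, map_sub, sub_eq_zero]; exact hc.symm
    have h2 := add_mem ha (hle (Ideal.mem_map_of_mem (algebraMap A B) h1))
    rwa [map_sub, sub_add_sub_cancel] at h2
  have hc0 : c ≠ 0 := by
    intro h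
    simp only [cB, h, map_zero, sub_zero] at hεc
    exact hεc ε.isUnit
  set d := algebraMap A B (algebraMap K A c⁻¹) with hd
  have hcd : cB * d = 1 := by
    simp only [cB, d, ← map_mul, mul_inv_cancel₀ hc0, map_one]
  have hmB : IsUnit ((m : ℕ) : B) := by simpa using hm.map (algebraMap A B)
  obtain ⟨r, hr, hr1⟩ := HenselianLocalRing.is_henselian (Polynomial.X ^ m - Polynomial.C ((ε : B) * d))
    (Polynomial.monic_X_pow_sub_C _ (Module.finrank_pos).ne') 1
    (by
      simp only [Polynomial.eval_sub, Polynomial.eval_pow, Polynomial.eval_X, Polynomial.eval_C, one_pow]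
      have h2 := neg_mem ((IsLocalRing.maximalIdeal B).mul_mem_right d hεc)
      rwa [sub_mul, hcd, neg_sub] at h2)
    (by simpa [Polynomial.derivative_X_pow] using hmB)
  have hr' : r ^ m = (ε : B) * d := sub_eq_zero.1 (by simpa using hr)
  have hru : IsUnit r := by
    rw [← IsLocalRing.notMem_maximalIdeal]
    intro h
    exact (IsLocalRing.maximalIdeal.isMaximal B).ne_top ((Ideal.eq_top_iff_one _).2 (by simpa using sub_mem h hr1))
  let u := r * u₀
  have hu : Irreducible u := (irreducible_isUnit_mul hru).2 hu₀
  have hum : u ^ m = algebraMap A B (ϖ * algebraMap K A c⁻¹) := by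
    rw [mul_pow, hr', map_mul, hε, hd]; ring
  refine ⟨u, hu.not_isUnit, ?_, ⟨_, hum.symm⟩, le_antisymm ?_ ?_⟩
  · rw [hu.maximalIdeal_eq, Ideal.span_singleton_pow, Ideal.mem_span_singleton]
    intro h
    rw [show u = u ^ 1 from (pow_one u).symm, ← pow_mul, pow_dvd_pow_iff hu.ne_zero hu.not_isUnit] at h
    omega
  · refine (Polynomial.natDegree_le_natDegree (minpoly.min A u (Polynomial.monic_X_pow_sub_C
      (ϖ * algebraMap K A c⁻¹) (Module.finrank_pos (R := A) (M := B)).ne') ?_)).trans ?_
    · rw [map_sub, Polynomial.aeval_X_pow, Polynomial.aeval_C]; exact sub_eq_zero.2 hum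
    · rw [Polynomial.natDegree_X_pow_sub_C]
  · by_contra hlt
    push Not at hlt
    set p := minpoly A u
    have hmon : p.Monic := minpoly.monic (Algebra.IsIntegral.isIntegral u)
    have h0 := minpoly.aeval A u
    rw [Polynomial.aeval_eq_sum_range] at h0
    simp only [Algebra.smul_def] at h0
    have hmle : (IsLocalRing.maximalIdeal A).map (algebraMap A B) ≤ Ideal.span {u ^ m} := by
      rw [hmap, hu.maximalIdeal_eq, Ideal.span_singleton_pow]
    have := mem_of_sum_mem u hu m hmle p.coeff (p.natDegree + 1) hlt (by rw [h0]; exact zero_mem _) p.natDegree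
      (Nat.lt_succ_self _)
    rw [hmon.coeff_natDegree] at this
    exact this isUnit_one

end Groth.Agent.S11089
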