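import Groth.Statements.S11091
import Mathlib
import Groth.Agent.Lib.Compl.Complete

set_option autoImplicit false
universe u
attribute [local instance] FractionRing.liftAlgebra
open CAlg

namespace Groth.Agent.S11091
open CategoryTheory

attribute [local instance] FractionRing.liftAlgebra

/-- Let A be a complete discrete valuation ring and B a Dedekind domain which is a finite torsion-free
A-algebra whose fraction field is separable over that of A (the integral closure of A in a finite
separable extension E of the fraction field F). Then B has exactly one maximal ideal; equivalently,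
since the discrete valuations of E extending a multiple of the valuation of F correspond to the
nonzero primes of B, the valuation of F extends uniquely to E, and B is a complete discrete
valuation ring. -/
theorem result (A B : Type u) [CommRing A] [IsDomain A] [IsDiscreteValuationRing A]
    [IsAdicComplete (IsLocalRing.maximalIdeal A) A]
    [CommRing B] [IsDedekindDomain B] [Algebra A B] [Module.Finite A B] [Module.IsTorsionFree A B]
    [Algebra.IsSeparable (FractionRing A) (FractionRing B)] :
    ∃! M : Ideal B, M.IsMaximal := by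
  set m := IsLocalRing.maximalIdeal A
  have : Algebra.IsIntegral A B := Algebra.IsIntegral.of_finite A B
  have : IsAdicComplete m B := Groth.Agent.Compl.isAdicComplete_of_finite m B
  have : IsAdicComplete (m.map (algebraMap A B)) B := (IsAdicComplete.map_algebraMap_iff m B).2 this
  have : HenselianRing B (m.map (algebraMap A B)) := inferInstance
  obtain ⟨M, hM⟩ := Ideal.exists_maximal B
  refine ⟨M, hM, fun M' hM' => ?_⟩
  by_contra hne
  set J := m.map (algebraMap A B)
  have hle : ∀ N : Ideal B, N.IsMaximal → J ≤ N := by
    intro N hN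
    have := Ideal.isMaximal_comap_of_isIntegral_of_isMaximal (R := A) N
    exact Ideal.map_le_iff_le_comap.2 (IsLocalRing.eq_maximalIdeal this).ge
  -- finitely many maximal ideals
  have : IsArtinianRing (B ⧸ J) := by
    have : Module.Finite (A ⧸ m) (B ⧸ J) := Module.Finite.of_restrictScalars_finite A _ _
    let _ := Ideal.Quotient.field m
    exact isArtinian_of_tower (A ⧸ m) inferInstance
  have hp : ∀ N : Ideal B, N.IsMaximal → (N.map (Ideal.Quotient.mk J)).IsMaximal := fun N hN =>
    Ideal.IsMaximal.map_of_surjective_of_ker_le Ideal.Quotient.mk_surjective (by rw [Ideal.mk_ker]; exact hle N hN)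
  let P : MaximalSpectrum (B ⧸ J) := ⟨_, hp M hM⟩
  let P' : MaximalSpectrum (B ⧸ J) := ⟨_, hp M' hM'⟩
  have hPP : P' ≠ P := fun h => hne <| by
    have h' : M'.map (Ideal.Quotient.mk J) = M.map (Ideal.Quotient.mk J) := congrArg MaximalSpectrum.asIdeal h
    have := congrArg (Ideal.comap (Ideal.Quotient.mk J)) h'
    rwa [Ideal.comap_map_of_surjective' _ Ideal.Quotient.mk_surjective, Ideal.comap_map_of_surjective' _ Ideal.Quotient.mk_surjective,
      Ideal.mk_ker, sup_eq_left.2 (hle M' hM'), sup_eq_left.2 (hle M hM)] at this
  classical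
  obtain ⟨x, hx⟩ := (IsArtinianRing.quotNilradicalEquivPi (B ⧸ J)).surjective (Pi.single P 1)
  have hxid : IsIdempotentElem x := by
    apply (IsArtinianRing.quotNilradicalEquivPi (B ⧸ J)).injective
    rw [map_mul, hx, ← Pi.single_mul, mul_one]
  obtain ⟨z, hz, hzx⟩ := exists_isIdempotentElem_eq_of_ker_isNilpotent (Ideal.Quotient.mk (nilradical (B ⧸ J)))
    (fun y hy => mem_nilradical.1 (Ideal.Quotient.eq_zero_iff_mem.1 hy)) x (Ideal.Quotient.mk_surjective x) hxid
  obtain ⟨b, rfl⟩ := Ideal.Quotient.mk_surjective z
  obtain ⟨e, he, hbe⟩ := HenselianRing.is_henselian (I := J) (Polynomial.X ^ 2 - Polynomial.X : Polynomial B) (by monicity!) b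
    (by
      rw [← Ideal.Quotient.eq_zero_iff_mem]
      simp [pow_two, hz.eq])
    (by
      refine IsUnit.of_mul_eq_one (Ideal.Quotient.mk J (2 * b - 1)) ?_
      simp only [Polynomial.derivative_sub, Polynomial.derivative_X_pow, Polynomial.derivative_X, Polynomial.eval_sub,
        Polynomial.eval_mul, Polynomial.eval_C, Polynomial.eval_pow, Polynomial.eval_X, Polynomial.eval_one, map_sub, map_mul, map_one]
      simp only [Nat.cast_ofNat, map_ofNat, pow_one, show (2 : ℕ) - 1 = 1 from rfl]
      linear_combination (4 : B ⧸ J) * hz.eq)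
  have hcase : e = 0 ∨ e = 1 := by
    apply IsIdempotentElem.iff_eq_zero_or_one.1
    have := he
    simp [Polynomial.IsRoot, sub_eq_zero, pow_two] at this
    exact this
  have hbe' : Ideal.Quotient.mk J e = Ideal.Quotient.mk J b := Ideal.Quotient.eq.2 hbe
  rcases hcase with rfl | rfl
  · have : (Pi.single P 1 : ∀ I : MaximalSpectrum (B ⧸ J), (B ⧸ J) ⧸ I.asIdeal) P = 0 := by
      rw [← hx, ← hzx, ← hbe', map_zero, map_zero, map_zero]; rfl
    rw [Pi.single_eq_same] at this
    exact (IsLocalRing.maximalIdeal.isMaximal A).ne_top (absurd this (by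
      have := Ideal.Quotient.nontrivial_iff.2 P.isMaximal.ne_top
      exact one_ne_zero))
  · have : (Pi.single P 1 : ∀ I : MaximalSpectrum (B ⧸ J), (B ⧸ J) ⧸ I.asIdeal) P' = 1 := by
      rw [← hx, ← hzx, ← hbe', map_one, map_one, map_one]; rfl
    rw [Pi.single_eq_of_ne hPP] at this
    have hnt := Ideal.Quotient.nontrivial_iff.2 P'.isMaximal.ne_top
    exact zero_ne_one this

end Groth.Agent.S11091
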