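import Groth.Statements.S11092
import Groth.Agent.Lib.SepDiff28.Basic
import Groth.Agent.S11083

set_option autoImplicit false
universe u v
open CAlg

namespace Groth.Agent.S11092

/-- Let k be an algebraically closed field, K a field finitely generated over k admitting a one-element
transcendence basis over k (a function field of dimension one), and L a finite extension field of K
with the compatible k-algebra structure. Then the K-linear map from the Kähler differentials of K
over k to those of L over k induced by the inclusion is either the zero map or injective, and it is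
injective if and only if L is separable over K. (The published statement takes K ⊆ L to be the
function fields of two elliptic curves related by a nonzero homomorphism; its proof uses only that
they are function fields of dimension one over k.) -/
theorem result (k : Type u) (K L : Type v)
    [Field k] [IsAlgClosed k] [Field K] [Field L] [Algebra k K] [Algebra k L] [Algebra K L]
    [IsScalarTower k K L] (hK : (⊤ : IntermediateField k K).FG)
    (hx : ∃ x : K, IsTranscendenceBasis k (fun _ : Unit => x)) [FiniteDimensional K L] :
    (KaehlerDifferential.map k k K L = 0 ∨ Function.Injective (KaehlerDifferential.map k k K L)) ∧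
      (Function.Injective (KaehlerDifferential.map k k K L) ↔ Algebra.IsSeparable K L) := by
  classical
  obtain ⟨x, hx⟩ := hx
  have hrank : ∀ (E : Type v) [Field E] [Algebra k E] (hE : (⊤ : IntermediateField k E).FG) (y : E),
      IsTranscendenceBasis k (fun _ : Unit => y) → Module.finrank E (Ω[E⁄k]) = 1 := fun E _ _ hE y hy =>
    Module.finrank_eq_of_rank_eq (S11083.result k E hE 1 (fun _ => y) (hy.comp_equiv finOneEquiv))
  haveI := SepDiff28.essFiniteType_of_fg hK
  haveI : Algebra.EssFiniteType k L := Algebra.EssFiniteType.comp k K L
  have hL : (⊤ : IntermediateField k L).FG := IntermediateField.essFiniteType_iff.1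
    (Algebra.EssFiniteType.of_surjective (IntermediateField.topEquiv (F := k) (E := L)).symm.toAlgHom
      IntermediateField.topEquiv.symm.surjective)
  have hxL : IsTranscendenceBasis k (fun _ : Unit => algebraMap K L x) := hx.algebraMap_comp (A := L)
  obtain ⟨g, hg0, hg⟩ := finrank_eq_one_iff'.1 (hrank K hK x hx)
  have hzi : KaehlerDifferential.map k k K L = 0 ∨ Function.Injective (KaehlerDifferential.map k k K L) := by
    by_cases hφ : KaehlerDifferential.map k k K L g = 0
    · left
      refine LinearMap.ext fun w => ?_
      obtain ⟨c, rfl⟩ := hg w
      rw [map_smul, hφ, smul_zero, LinearMap.zero_apply]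
    · right
      rw [injective_iff_map_eq_zero]
      intro w hw
      obtain ⟨c, rfl⟩ := hg w
      rw [map_smul, smul_eq_zero] at hw
      rw [hw.resolve_right hφ, zero_smul]
  refine ⟨hzi, fun hinj => ?_, fun hsep => hzi.resolve_left fun h0 => ?_⟩
  · have hne : KaehlerDifferential.map k k K L g ≠ 0 := fun h => hg0 (hinj (h.trans (map_zero _).symm))
    haveI : Subsingleton (Ω[L⁄K]) := subsingleton_of_forall_eq 0 fun z => by
      obtain ⟨w, rfl⟩ := KaehlerDifferential.map_surjective k K L z
      obtain ⟨c, rfl⟩ := (finrank_eq_one_iff_of_nonzero' _ hne).1 (hrank L hL _ hxL) w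
      rw [map_smul]
      have hzero : KaehlerDifferential.map k K L L (KaehlerDifferential.map k k K L g) = 0 :=
        (KaehlerDifferential.exact_mapBaseChange_map k K L _).2 ⟨1 ⊗ₜ g, by
          rw [KaehlerDifferential.mapBaseChange_tmul, one_smul]⟩
      rw [hzero, smul_zero]
    haveI : Algebra.FormallyUnramified K L := ⟨inferInstance⟩
    exact Algebra.FormallyUnramified.isSeparable K L
  · haveI : Subsingleton (Ω[L⁄K]) := (Algebra.FormallyUnramified.of_isSeparable K L).1
    have hall : ∀ z : Ω[L⁄k], z = 0 := fun z => by
      obtain ⟨w, rfl⟩ := (KaehlerDifferential.exact_mapBaseChange_map k K L z).1 (Subsingleton.elim _ _)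
      induction w with
      | zero => simp
      | add a b ha hb => rw [map_add, ha, hb, add_zero]
      | tmul c m => rw [KaehlerDifferential.mapBaseChange_tmul, h0, LinearMap.zero_apply, smul_zero]
    haveI : Subsingleton (Ω[L⁄k]) := subsingleton_of_forall_eq 0 hall
    simpa [Module.finrank_zero_of_subsingleton] using hrank L hL _ hxL

end Groth.Agent.S11092
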