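import Groth.Statements.S11093
import Groth.Agent.Lib.DvrCoeff28.Res
import Groth.Agent.Lib.DvrCoeff28.AS
import Mathlib.RingTheory.PowerSeries.Inverse
import Mathlib.FieldTheory.IntermediateField.Adjoin.Basic
import Mathlib.RingTheory.Algebraic.Integral
import Mathlib.RingTheory.PowerSeries.Inverse
import Mathlib.RingTheory.MvPowerSeries.Inverse

set_option autoImplicit false
universe u
attribute [local instance] FractionRing.liftAlgebra
open CAlg
set_option linter.style.haveILetI false

namespace Groth.Agent.S11093

/-- Second assertion: (Artin–Schreier normal form): let K be a perfect field of characteristic p > 0, A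
= K[[t]] the power series ring with fraction field F, and B a Dedekind domain which is a finite
torsion-free A-algebra whose fraction field E is Galois of degree p over F and totally ramified:
some maximal ideal of B has ramification index p over A. Then there are x in E generating E over F
and α in F with x^p − x + α = 0, where α = a / t^m for a power series a with nonzero constant term
and a positive integer m not divisible by p. -/
theorem result (p : ℕ) [Fact p.Prime] (K : Type u) [Field K]
    [CharP K p] [PerfectField K] (B : Type u) [CommRing B] [IsDedekindDomain B]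
    [Algebra (PowerSeries K) B] [Module.Finite (PowerSeries K) B] [Module.IsTorsionFree (PowerSeries K) B]
    [IsGalois (FractionRing (PowerSeries K)) (FractionRing B)]
    (hdeg : Module.finrank (FractionRing (PowerSeries K)) (FractionRing B) = p)
    (M : Ideal B) [M.IsMaximal] (hram : M.ramificationIdx (PowerSeries K) = p) :
    ∃ x : FractionRing B, ∃ m : ℕ, ∃ a : PowerSeries K,
      IntermediateField.adjoin (FractionRing (PowerSeries K)) {x} = ⊤ ∧ 0 < m ∧ ¬ p ∣ m ∧
      PowerSeries.constantCoeff a ≠ 0 ∧
      x ^ p - x + algebraMap (FractionRing (PowerSeries K)) (FractionRing B)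
        (algebraMap (PowerSeries K) (FractionRing (PowerSeries K)) a /
          algebraMap (PowerSeries K) (FractionRing (PowerSeries K)) (PowerSeries.X ^ m)) = 0 := by
  set F := FractionRing (PowerSeries K)
  set E := FractionRing B
  haveI : IsAdicComplete (IsLocalRing.maximalIdeal (PowerSeries K)) (PowerSeries K) := by
    rw [PowerSeries.maximalIdeal_eq_span_X]; infer_instance
  haveI := DvrCoeff28.isLocalRing_top (PowerSeries K) B
  haveI := DvrCoeff28.henselian_base (PowerSeries K)
  have hMm : M = IsLocalRing.maximalIdeal B := IsLocalRing.eq_maximalIdeal inferInstance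
  subst hMm
  haveI : CharP (PowerSeries K) p := charP_of_injective_algebraMap (algebraMap K (PowerSeries K)).injective p
  haveI : CharP F p := charP_of_injective_algebraMap (IsFractionRing.injective (PowerSeries K) F) p
  haveI : CharP E p := charP_of_injective_algebraMap (algebraMap F E).injective p
  have hp := (Fact.out : p.Prime)
  have hrk : Module.finrank (PowerSeries K) B = p := (IsFractionRing.finrank_eq (PowerSeries K) F B E).symm.trans hdeg
  have hres := DvrCoeff28.exists_sub_mem_of_totally_ramified (PowerSeries K) B (hram.trans hrk.symm)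
  set ιA := algebraMap (PowerSeries K) F with hιA
  set ιE := algebraMap F E with hιE
  have hX : ιA PowerSeries.X ≠ 0 := by
    rw [hιA, map_ne_zero_iff _ (IsFractionRing.injective (PowerSeries K) F)]
    exact PowerSeries.X_ne_zero
  -- integral Artin-Schreier equations split
  have hzero : ∀ (x : E) (a : PowerSeries K), x ^ p - x + ιE (ιA a) = 0 → x ∈ Set.range ιE := by
    intro x a hx
    have hxint : IsIntegral (PowerSeries K) x :=
      ⟨Polynomial.X ^ p - Polynomial.X + Polynomial.C a,
        (Polynomial.monic_X_pow_sub (n := p) (p := Polynomial.X) (by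
          rw [Polynomial.degree_X]; exact_mod_cast hp.one_lt)).add_of_left (by
          rw [Polynomial.degree_sub_eq_left_of_degree_lt (by
            rw [Polynomial.degree_X_pow, Polynomial.degree_X]; exact_mod_cast hp.one_lt), Polynomial.degree_X_pow]
          exact Polynomial.degree_C_le.trans_lt (by exact_mod_cast hp.pos)), by
        rw [← Polynomial.aeval_def, map_add, map_sub, Polynomial.aeval_X_pow, Polynomial.aeval_X, Polynomial.aeval_C,
          IsScalarTower.algebraMap_apply (PowerSeries K) F E]
        exact hx⟩
    obtain ⟨b, rfl⟩ := IsIntegrallyClosed.isIntegral_iff.1 (hxint.tower_top (A := B))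
    have hb : b ^ p - b + algebraMap (PowerSeries K) B a = 0 := by
      apply IsFractionRing.injective B E
      rw [map_add, map_sub, map_pow, map_zero, ← IsScalarTower.algebraMap_apply,
        IsScalarTower.algebraMap_apply (PowerSeries K) F E]
      exact hx
    obtain ⟨c, hc⟩ := hres b
    haveI : Algebra.IsIntegral (PowerSeries K) B := Algebra.IsIntegral.of_finite _ B
    have h1 : c ^ p - c + a ∈ IsLocalRing.maximalIdeal (PowerSeries K) := by
      intro hu
      refine (hu.map (algebraMap (PowerSeries K) B)).elim fun w hw => ?_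
      have h2 : (b ^ p - b + algebraMap (PowerSeries K) B a) - algebraMap (PowerSeries K) B (c ^ p - c + a) ∈
          IsLocalRing.maximalIdeal B := by
        rw [map_add, map_sub, map_pow, add_sub_add_right_eq_sub, sub_sub_sub_comm]
        exact sub_mem (Ideal.mem_of_dvd _ (sub_dvd_pow_sub_pow _ _ p) hc) hc
      rw [hb, zero_sub, neg_mem_iff] at h2
      exact h2 (hu.map _)
    obtain ⟨y, hy, -⟩ := HenselianLocalRing.is_henselian (Polynomial.X ^ p - Polynomial.X + Polynomial.C a)
      ((Polynomial.monic_X_pow_sub (n := p) (p := Polynomial.X) (by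
          rw [Polynomial.degree_X]; exact_mod_cast hp.one_lt)).add_of_left (by
          rw [Polynomial.degree_sub_eq_left_of_degree_lt (by
            rw [Polynomial.degree_X_pow, Polynomial.degree_X]; exact_mod_cast hp.one_lt), Polynomial.degree_X_pow]
          exact Polynomial.degree_C_le.trans_lt (by exact_mod_cast hp.pos))) c
      (by simpa using h1) (by simp [Polynomial.derivative_X_pow])
    have hy' : y ^ p - y + a = 0 := by simpa using hy
    set x := algebraMap B E b
    set z := x - ιE (ιA y) with hz
    have hzp : z ^ p = z := by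
      have h3 : ιE (ιA y) ^ p - ιE (ιA y) + ιE (ιA a) = 0 := by
        rw [← map_pow, ← map_pow, ← map_sub, ← map_sub, ← map_add, ← map_add, hy', map_zero, map_zero]
      rw [hz, sub_pow_char]
      linear_combination hx - h3
    have hmem : z ∈ (algebraMap F E).fieldRange :=
      (bot_le : (⊥ : Subfield E) ≤ (algebraMap F E).fieldRange) ((Subfield.mem_bot_iff_pow_eq_self E p).2 hzp)
    obtain ⟨f, hf⟩ := hmem
    exact ⟨f + ιA y, by rw [map_add, hιE, hf, hz, sub_add_cancel]⟩
  -- reduction of the pole
  have key : ∀ (m : ℕ) (x : E) (a : PowerSeries K), x ∉ Set.range ιE →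
      x ^ p - x + ιE (ιA a / ιA (PowerSeries.X ^ m)) = 0 →
      ∃ x : E, ∃ m : ℕ, ∃ a : PowerSeries K, x ∉ Set.range ιE ∧ 0 < m ∧ ¬ p ∣ m ∧
        PowerSeries.constantCoeff a ≠ 0 ∧ x ^ p - x + ιE (ιA a / ιA (PowerSeries.X ^ m)) = 0 := by
    intro m
    induction m using Nat.strong_induction_on with
    | _ m ih =>
      intro x a hx hxa
      rcases m with _ | m
      · exact absurd (hzero x a (by simpa using hxa)) hx
      by_cases ha : PowerSeries.constantCoeff a = 0
      · obtain ⟨a', rfl⟩ := PowerSeries.X_dvd_iff.2 ha
        refine ih m (Nat.lt_succ_self m) x a' hx ?_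
        rw [map_mul, pow_succ', map_mul, mul_div_mul_left _ _ hX] at hxa
        exact hxa
      by_cases hpm : p ∣ m + 1
      swap
      · exact ⟨x, m + 1, a, hx, m.succ_pos, hpm, ha, hxa⟩
      obtain ⟨n, hn⟩ := hpm
      haveI : PerfectRing K p := PerfectField.toPerfectRing p
      obtain ⟨b, hb⟩ := surjective_frobenius K p (PowerSeries.constantCoeff a)
      rw [frobenius_def] at hb
      have hn0 : 0 < n := Nat.pos_of_ne_zero fun h => by simp [h] at hn
      have hnm : n < m + 1 := by rw [hn]; exact lt_mul_left hn0 hp.one_lt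
      set cb : PowerSeries K := PowerSeries.C b
      let a' := a - cb ^ p + cb * PowerSeries.X ^ (m + 1 - n)
      have ha' : PowerSeries.constantCoeff a' = 0 := by
        simp [a', cb, hb, zero_pow (show m + 1 - n ≠ 0 by omega)]
      obtain ⟨a'', ha''⟩ := PowerSeries.X_dvd_iff.2 ha'
      let x' := x + ιE (ιA cb / ιA (PowerSeries.X ^ n))
      have hx' : x' ∉ Set.range ιE := fun ⟨f, hf⟩ =>
        hx ⟨f - ιA cb / ιA (PowerSeries.X ^ n), by rw [map_sub, hf, add_sub_cancel_right]⟩
      refine ih m (Nat.lt_succ_self m) x' a'' hx' ?_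
      have e1 : ιA a'' / ιA (PowerSeries.X ^ m) = ιA a / ιA (PowerSeries.X ^ (m + 1)) -
          ((ιA cb / ιA (PowerSeries.X ^ n)) ^ p - ιA cb / ιA (PowerSeries.X ^ n)) := by
        have e2 : ιA a'' / ιA (PowerSeries.X ^ m) = ιA a' / ιA (PowerSeries.X ^ (m + 1)) := by
          rw [ha'', map_mul, pow_succ', map_mul, mul_div_mul_left _ _ hX]
        have hXn : ιA (PowerSeries.X ^ n) ≠ 0 := by rw [map_pow]; exact pow_ne_zero _ hX
        have hXmn : ιA (PowerSeries.X ^ (m + 1 - n)) ≠ 0 := by rw [map_pow]; exact pow_ne_zero _ hX
        have e3 : ιA cb / ιA (PowerSeries.X ^ n) =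
            ιA (cb * PowerSeries.X ^ (m + 1 - n)) / ιA (PowerSeries.X ^ (m + 1)) := by
          rw [map_mul, ← Nat.sub_add_cancel hnm.le, pow_add, map_mul, Nat.add_sub_cancel, mul_comm (ιA cb),
            mul_div_mul_left _ _ hXmn]
        rw [e2, div_pow, ← map_pow ιA (PowerSeries.X ^ n), ← pow_mul, mul_comm n p, ← hn, ← map_pow ιA cb, e3]
        simp only [a', map_add, map_sub]
        ring
      rw [e1]
      simp only [x']
      rw [add_pow_char]
      simp only [map_sub, map_pow, map_div₀] at hxa ⊢
      linear_combination hxa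
  obtain ⟨x₀, hx₀, α, hα⟩ := DvrCoeff28.exists_AS (F := F) (E := E) p hdeg
  obtain ⟨num, den, hden, rfl⟩ := IsFractionRing.div_surjective (A := PowerSeries K) α
  obtain ⟨k, ε, rfl⟩ := IsDiscreteValuationRing.eq_unit_mul_pow_irreducible (nonZeroDivisors.ne_zero hden)
    (PowerSeries.X_prime (R := K)).irreducible
  have hεe : ιA num / ιA ((ε : PowerSeries K) * PowerSeries.X ^ k) = ιA (num * (↑ε⁻¹ : PowerSeries K)) / ιA (PowerSeries.X ^ k) := by
    have h1 : ιA (ε : PowerSeries K) ≠ 0 := (ε.isUnit.map ιA).ne_zero
    rw [map_mul, map_mul, div_mul_eq_div_div]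
    congr 1
    rw [div_eq_iff h1, mul_assoc, ← map_mul, Units.inv_mul, map_one, mul_one]
  rw [← hιA, ← hιE, hεe] at hα
  obtain ⟨x, m, a, hx, hm, hpm, ha, hxa⟩ := key k x₀ _ hx₀ hα
  refine ⟨x, m, a, ?_, hm, hpm, ha, hxa⟩
  haveI : FiniteDimensional F E := Module.finite_of_finrank_pos (by rw [hdeg]; exact hp.pos)
  haveI := IntermediateField.isSimpleOrder_of_finrank_prime F E (by rw [hdeg]; exact hp)
  rcases eq_bot_or_eq_top (IntermediateField.adjoin F {x}) with h | h
  · exact absurd (IntermediateField.mem_bot.1 (h ▸ IntermediateField.mem_adjoin_simple_self F x)) hx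
  · exact h

end Groth.Agent.S11093
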