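import Groth.Statements.S11094
import Groth.Agent.Lib.TateTors22.SepDeg
import Groth.Agent.Lib.AbRigid.SmoothGI
import Groth.Agent.Lib.AbRigid.Connected
import Mathlib.FieldTheory.Galois.Basic
import Mathlib.RingTheory.Unramified.Field
import Mathlib.AlgebraicGeometry.Morphisms.Etale

set_option autoImplicit false
universe u
open CategoryTheory CategoryTheory.Limits MonoidalCategory CartesianMonoidalCategory MonObj GrpObj AlgebraicGeometry
open AbVar

namespace Groth.Agent.S11094

section Aux
open Groth.Agent.AVDegree22 (fieldMap fieldDeg)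

variable {k : Type u} [Field k]

lemma one_tensor_hom : (𝟙_ (Over (Spec (CommRingCat.of k)))).hom = (SGA7.pt (K := k) k).hom := by
  exact (Spec.map_id (CommRingCat.of k)).symm

/-- rational points, in both forms -/
noncomputable def ptEquiv : SGA7.pt (K := k) k ≅ 𝟙_ (Over (Spec (CommRingCat.of k))) :=
  Over.isoMk (Iso.refl _) ((Category.id_comp _).trans one_tensor_hom)

lemma isIso_stalkSpecializes_of_eq {X : Scheme.{u}} {x y : X} (h : x = y) :
    IsIso (X.presheaf.stalkSpecializes (specializes_of_eq h)) := by
  subst h
  rw [TopCat.Presheaf.stalkSpecializes_refl]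
  infer_instance

lemma galois_of_count {K L : Type u} [Field K] [Field L] [Algebra K L] [FiniteDimensional K L]
    [Algebra.IsSeparable K L] (Ω : Type u) [Field Ω] [Algebra K Ω] [IsAlgClosed Ω]
    {κ : Type*} (τ : κ → (L →ₐ[K] L)) (hτ : Function.Injective τ)
    (hcard : Nat.card (L →ₐ[K] Ω) = Nat.card κ) :
    IsGalois K L ∧ Nat.card (L ≃ₐ[K] L) = Nat.card κ := by
  have hfr : Nat.card (L →ₐ[K] Ω) = Module.finrank K L := by
    rw [← Field.finSepDegree_eq_of_isAlgClosed, (Field.finSepDegree_eq_finrank_iff K L).2 inferInstance]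
  have h1 : Nat.card κ ≤ Nat.card (L ≃ₐ[K] L) :=
    Nat.card_le_card_of_injective (fun i => AlgEquiv.ofBijective (τ i) (AlgHom.bijective _))
      fun i j h => hτ (AlgHom.ext fun x => AlgEquiv.congr_fun h x)
  obtain ⟨σ₀⟩ : Nonempty (L →ₐ[K] Ω) := ⟨IsAlgClosed.lift⟩
  have h2 : Nat.card (L ≃ₐ[K] L) ≤ Nat.card (L →ₐ[K] Ω) :=
    Nat.card_le_card_of_injective (fun e => σ₀.comp e.toAlgHom)
      fun e e' h => AlgEquiv.ext fun x => σ₀.toRingHom.injective (AlgHom.congr_fun h x)
  have h3 : Nat.card (L ≃ₐ[K] L) = Nat.card κ := le_antisymm (hcard ▸ h2) h1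
  exact ⟨IsGalois.of_card_aut_eq_finrank K L (by rw [h3, ← hcard, hfr]), h3⟩

end Aux


/-- Let k be an algebraically closed field, E and E′ elliptic curves over k — group schemes over Spec k
whose underlying schemes are proper, smooth, integral and one-dimensional — and φ : E → E′ a
homomorphism which is finite, surjective and étale (a separable isogeny), sending the generic point
of E to that of E′, so that the function field of E′ maps into the function field of E. Then the
function field of E is a Galois extension of that of E′, and the number of its automorphisms over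
the function field of E′ equals the number of k-valued points of E that φ sends to the unit of E′. -/
theorem result (k : Type u) [Field k] [IsAlgClosed k]
    (E E' : Over (Spec (CommRingCat.of k)))
    [GrpObj E] [IsProper E.hom] [Smooth E.hom] [IsIntegral E.left] (hE : topologicalKrullDim E.left = 1)
    [GrpObj E'] [IsProper E'.hom] [Smooth E'.hom] [IsIntegral E'.left] (hE' : topologicalKrullDim E'.left = 1)
    (φ : E ⟶ E') [IsMonHom φ] [IsFinite φ.left] [Surjective φ.left] [Etale φ.left]
    (e : φ.left (genericPoint E.left) = genericPoint E'.left) :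
    letI := ((E'.left.presheaf.stalkSpecializes (specializes_of_eq e) ≫
      φ.left.stalkMap (genericPoint E.left)).hom).toAlgebra
    IsGalois E'.left.functionField E.left.functionField ∧
      Nat.card (E.left.functionField ≃ₐ[E'.left.functionField] E.left.functionField) =
        Nat.card {P : 𝟙_ (Over (Spec (CommRingCat.of k))) ⟶ E // P ≫ φ = η[E']} := by
  haveI : AlgebraicGeometry.GeometricallyReduced E.hom := Groth.Agent.AbRigid.geometricallyReduced_of_smooth E.hom
  haveI : IsDominant φ.left := ⟨φ.left.surjective.denseRange⟩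
  letI := ((E'.left.presheaf.stalkSpecializes (specializes_of_eq e) ≫
      φ.left.stalkMap (genericPoint E.left)).hom).toAlgebra
  have hdim : topologicalKrullDim E.left = topologicalKrullDim E'.left := hE.trans hE'.symm
  have hdeg : Module.finrank E'.left.functionField E.left.functionField =
      Groth.Agent.AVDegree22.fieldDeg φ := Groth.Agent.AVPRank22.deg_fieldMap φ
  have hpos : 0 < Groth.Agent.AVDegree22.fieldDeg φ := by
    haveI : LocallyOfFinitePresentation φ.left := inferInstance
    rw [← Groth.Agent.AVDegree22.finrank_genericPoint φ]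
    exact (Scheme.Hom.one_le_finrank_iff_surjective φ.left).2 inferInstance _
  haveI : FiniteDimensional E'.left.functionField E.left.functionField :=
    FiniteDimensional.of_finrank_pos (hdeg.symm ▸ hpos)
  haveI : Algebra.IsSeparable E'.left.functionField E.left.functionField := by
    haveI : IsIso (E'.left.presheaf.stalkSpecializes (specializes_of_eq e)) :=
      isIso_stalkSpecializes_of_eq e
    have hfu : ((E'.left.presheaf.stalkSpecializes (specializes_of_eq e) ≫
        φ.left.stalkMap (genericPoint E.left)).hom).FormallyUnramified :=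
      (RingHom.FormallyUnramified.respectsIso.cancel_left_isIso _ _).2
        (FormallyUnramified.stalkMap φ.left (genericPoint E.left))
    haveI : Algebra.FormallyUnramified E'.left.functionField E.left.functionField := hfu
    exact Algebra.FormallyUnramified.isSeparable _ _
  letI : Algebra k E'.left.functionField := inferInstance
  let Ω := AlgebraicClosure E'.left.functionField
  have hcnt := Groth.Agent.TateTors22.natCard_algHom_eq_kerPts φ hdim Ω hpos
  rw [Groth.Agent.TateTors22.natCard_kerPts_eq Ω φ, ← Groth.Agent.TateTors22.natCard_kerPts_eq k φ] at hcnt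
  have hone : (1 : 𝟙_ (Over (Spec (CommRingCat.of k))) ⟶ E') = η[E'] := by
    rw [Hom.one_def, toUnit_unique (toUnit _) (𝟙 _), Category.id_comp]
  have hkk : Nat.card {x : SGA7.pt (K := k) k ⟶ E // x ≫ φ = 1} =
      Nat.card {P : 𝟙_ (Over (Spec (CommRingCat.of k))) ⟶ E // P ≫ φ = η[E']} := by
    refine Nat.card_congr
      { toFun := fun x => ⟨ptEquiv.inv ≫ x.1, by rw [Category.assoc, x.2, MonObj.comp_one, hone]⟩
        invFun := fun P => ⟨ptEquiv.hom ≫ P.1, by rw [Category.assoc, P.2, ← hone, MonObj.comp_one]⟩
        left_inv := fun x => Subtype.ext (by simp)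
        right_inv := fun P => Subtype.ext (by simp) }
  let t : {P : 𝟙_ (Over (Spec (CommRingCat.of k))) ⟶ E // P ≫ φ = η[E']} → (E ⟶ E) :=
    fun P => 𝟙 E * (toUnit E ≫ P.1)
  have ht : ∀ P, t P ≫ φ = φ := fun P => by
    simp only [t, MonObj.mul_comp, Category.id_comp, Category.assoc, P.2, ← hone, MonObj.comp_one,
      _root_.mul_one]
  have hdom : ∀ P, IsDominant (t P).left := fun P => by
    let t' := 𝟙 E * (toUnit E ≫ P.1⁻¹)
    have hcomp : ∀ a b : 𝟙_ (Over (Spec (CommRingCat.of k))) ⟶ E,
        (𝟙 E * (toUnit E ≫ a)) ≫ (𝟙 E * (toUnit E ≫ b)) = 𝟙 E * (toUnit E ≫ (a * b)) := fun a b => by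
      rw [MonObj.comp_mul, Category.comp_id, ← Category.assoc _ (toUnit E) b,
        toUnit_unique (_ ≫ toUnit E) (toUnit E), MonObj.comp_mul, _root_.mul_assoc]
    have h1 : t P ≫ t' = 𝟙 E := by
      rw [hcomp, mul_inv_cancel, MonObj.comp_one, _root_.mul_one]
    have h2 : t' ≫ t P = 𝟙 E := by
      rw [hcomp, inv_mul_cancel, MonObj.comp_one, _root_.mul_one]
    haveI : IsIso (t P) := ⟨t', h1, h2⟩
    haveI : IsIso (t P).left := Functor.map_isIso (Over.forget _) (t P)
    exact ⟨(t P).left.surjective.denseRange⟩
  let τ : {P : 𝟙_ (Over (Spec (CommRingCat.of k))) ⟶ E // P ≫ φ = η[E']} →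
      (E.left.functionField →ₐ[E'.left.functionField] E.left.functionField) := fun P =>
    haveI := hdom P
    { (Groth.Agent.AVDegree22.fieldMap (t P)).toRingHom with
      commutes' := fun c => by
        have h : Spec.map (CommRingCat.ofHom ((Groth.Agent.AVDegree22.fieldMap (t P)).toRingHom.comp
            (Groth.Agent.AVDegree22.fieldMap φ).toRingHom)) ≫ Groth.Agent.AVPRank22.gen E' =
            Spec.map (CommRingCat.ofHom (Groth.Agent.AVDegree22.fieldMap φ).toRingHom) ≫
              Groth.Agent.AVPRank22.gen E' := by
          rw [CommRingCat.ofHom_comp, Spec.map_comp, Category.assoc, ← Groth.Agent.AVPRank22.gen_comp,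
            ← Category.assoc, ← Groth.Agent.AVPRank22.gen_comp, Category.assoc, ← Over.comp_left, ht]
        exact congrArg (fun q => q.hom c) (Spec.map_injective ((cancel_mono _).1 h)) }
  have hτ : Function.Injective τ := by
    intro P Q h
    haveI := hdom P
    haveI := hdom Q
    have h1 : (Groth.Agent.AVDegree22.fieldMap (t P)).toRingHom =
        (Groth.Agent.AVDegree22.fieldMap (t Q)).toRingHom :=
      RingHom.ext fun x => AlgHom.congr_fun h x
    have h2 := congrArg (fun q => η[E] ≫ q) (Groth.Agent.AVPRank22.fieldMap_injective_left (t P) h1)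
    have hone' : (η[E] : 𝟙_ (Over (Spec (CommRingCat.of k))) ⟶ E) = 1 := by
      rw [Hom.one_def, toUnit_unique (toUnit _) (𝟙 _), Category.id_comp]
    simp only [t, MonObj.comp_mul, Category.comp_id, ← Category.assoc,
      toUnit_unique (η[E] ≫ toUnit E) (𝟙 _), Category.id_comp] at h2
    rw [hone', _root_.one_mul, _root_.one_mul] at h2
    exact Subtype.ext h2
  exact galois_of_count Ω τ hτ (hcnt.trans hkk)

end Groth.Agent.S11094
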