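import Groth.Statements.S11096


set_option autoImplicit false
universe u
open Neron

namespace Groth.Agent.S11096

/-- Let a Weierstrass equation have coefficients in a commutative ring R and let I be an ideal with a₃,
a₄, a₆ ∈ I. If the discriminant Δ does not lie in I ^ 2, then a₆ does not lie in I ^ 2 and b₂ does
not lie in I. (For a discrete valuation ring with maximal ideal (π): if π divides a₃, a₄, a₆ and
v(Δ) = 1, then v(a₆) = 1 and π does not divide b₂.) -/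
theorem result {R : Type u} [CommRing R] (W : WeierstrassCurve R)
    (I : Ideal R) (h3 : W.a₃ ∈ I) (h4 : W.a₄ ∈ I) (h6 : W.a₆ ∈ I) (hΔ : W.Δ ∉ I ^ 2) :
    W.a₆ ∉ I ^ 2 ∧ W.b₂ ∉ I := by
  have hb4 : W.b₄ ∈ I := by
    rw [WeierstrassCurve.b₄]
    exact I.add_mem (I.mul_mem_left _ h4) (I.mul_mem_left _ h3)
  have hb6 : W.b₆ ∈ I := by
    rw [WeierstrassCurve.b₆]
    exact I.add_mem (Ideal.pow_mem_of_mem I h3 2 (by norm_num)) (I.mul_mem_left _ h6)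
  have m2 : ∀ {a b : R}, a ∈ I → b ∈ I → a * b ∈ I ^ 2 := fun {a b} ha hb => by
    rw [pow_two]; exact Ideal.mul_mem_mul ha hb
  refine ⟨fun h => hΔ ?_, fun h => hΔ ?_⟩
  · have hb6' : W.b₆ ∈ I ^ 2 := by
      rw [WeierstrassCurve.b₆]
      exact (I ^ 2).add_mem (by rw [pow_two W.a₃]; exact m2 h3 h3) ((I ^ 2).mul_mem_left _ h)
    have hb8 : W.b₈ ∈ I ^ 2 := by
      have e : W.b₈ = W.a₆ * (W.a₁ ^ 2 + 4 * W.a₂) + -W.a₁ * (W.a₃ * W.a₄) + W.a₂ * (W.a₃ * W.a₃)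
          + (-1) * (W.a₄ * W.a₄) := by
        rw [WeierstrassCurve.b₈]; ring
      rw [e]
      exact (I ^ 2).add_mem ((I ^ 2).add_mem ((I ^ 2).add_mem ((I ^ 2).mul_mem_right _ h)
        ((I ^ 2).mul_mem_left _ (m2 h3 h4))) ((I ^ 2).mul_mem_left _ (m2 h3 h3)))
        ((I ^ 2).mul_mem_left _ (m2 h4 h4))
    have e : W.Δ = -W.b₂ ^ 2 * W.b₈ + (-8 * W.b₄) * (W.b₄ * W.b₄) + (-27 * W.b₆) * W.b₆
        + (9 * W.b₂ * W.b₄) * W.b₆ := by
      rw [WeierstrassCurve.Δ]; ring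
    rw [e]
    exact (I ^ 2).add_mem ((I ^ 2).add_mem ((I ^ 2).add_mem ((I ^ 2).mul_mem_left _ hb8)
      ((I ^ 2).mul_mem_left _ (m2 hb4 hb4))) ((I ^ 2).mul_mem_left _ hb6'))
      ((I ^ 2).mul_mem_left _ hb6')
  · have e : W.Δ = (-W.b₈) * (W.b₂ * W.b₂) + (-8 * W.b₄) * (W.b₄ * W.b₄) + (-27) * (W.b₆ * W.b₆)
        + (9 * W.b₆) * (W.b₂ * W.b₄) := by
      rw [WeierstrassCurve.Δ]; ring
    rw [e]
    exact (I ^ 2).add_mem ((I ^ 2).add_mem ((I ^ 2).add_mem ((I ^ 2).mul_mem_left _ (m2 h h))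
      ((I ^ 2).mul_mem_left _ (m2 hb4 hb4))) ((I ^ 2).mul_mem_left _ (m2 hb6 hb6)))
      ((I ^ 2).mul_mem_left _ (m2 h hb4))

end Groth.Agent.S11096
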