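import Groth.Statements.S1110
import Groth.Agent.Lib.ModM1.QCAlgGen
import Groth.Agent.Lib.Cyc26.Stalk
import Groth.Agent.Lib.ModM1.Push
import Groth.Agent.Lib.TensorMod.Invertible
import Groth.Agent.Lib.PushFin12.Basic
import Groth.Agent.Lib.TensorMod.PullStalk

set_option autoImplicit false
set_option backward.isDefEq.respectTransparency false
universe u
open CategoryTheory AlgebraicGeometry
open Perf

namespace Groth.Agent.S1110

open CategoryTheory.Limits TopologicalSpace

variable {X Y : Scheme.{u}}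

/-- Finitely many finite type submodules lie in one. -/
theorem exists_sub [CompactSpace Y] [QuasiSeparatedSpace Y] {F : Y.Modules} (hF : Coh.IsQCoh F)
    {ι : Type u} (U : ι → Y.affineOpens) (s : ∀ i, Γ(F, (U i).1)) (S : Finset ι) :
    ∃ q : M1.Sub F, Coh.IsQCoh q.P ∧ CohB1.IsFT q.P ∧ ∀ i ∈ S, q.mem (U i).1 (s i) := by
  classical
  induction S using Finset.induction_on with
  | empty =>
    obtain ⟨q, hq, hq'⟩ := M1.Sub.exists_zero hF
    exact ⟨q, hq, hq', fun i hi => absurd hi (Finset.notMem_empty i)⟩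
  | insert a S _ ih =>
    obtain ⟨p, hp, hp', hps⟩ := ih
    obtain ⟨q, hq, hq', hqs⟩ := M1.Sub.exists_through_section hF (U a) (s a)
    obtain ⟨r, hr, hr', hpr, hqr⟩ := M1.Sub.exists_sup hF hp hp' hq hq'
    refine ⟨r, hr, hr', fun i hi => ?_⟩
    rcases Finset.mem_insert.1 hi with rfl | hi
    · exact hqr _ _ hqs
    · exact hpr _ _ (hps i hi)


/-- For an affine morphism f : X ⟶ Y over a quasi-compact, quasi-separated Y, the resolution property
passes from Y up to X. (The source also treats quasi-affine f.) -/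
theorem result {X Y : Scheme.{u}} (f : X ⟶ Y) [IsAffineHom f] [CompactSpace ↥Y] [QuasiSeparatedSpace ↥Y]
    (hY : PerfAux.HasResolutionProperty Y) : PerfAux.HasResolutionProperty X := by
  classical
  intro M hM hMf
  let F := (Scheme.Modules.pushforward f).obj M
  have hF : Coh.IsQCoh F := PushFin12.isQCoh_pushforward f M hM
  obtain ⟨T, hT⟩ := isCompact_univ.elim_finite_subcover (fun U : Y.affineOpens => (U.1 : Set Y))
    (fun U => U.1.2) (fun y _ => by
      obtain ⟨U, hU, hyU, -⟩ := exists_isAffineOpen_mem_and_subset (x := y) (U := ⊤) trivial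
      exact Set.mem_iUnion.2 ⟨⟨U, hU⟩, hyU⟩)
  choose S hS using fun U : Y.affineOpens =>
    (M1.finite_sections hM hMf (U.2.preimage f)).fg_top
  let ι := Σ U : Y.affineOpens, {s : Γ(M, f ⁻¹ᵁ U.1) // s ∈ S U}
  obtain ⟨q, hq, hq', hmem⟩ := exists_sub (F := F) hF (ι := ι) (fun i => i.1) (fun i => i.2.1)
    (T.sigma fun U => (S U).attach)
  obtain ⟨E, π, hE, hπ⟩ := hY q.P hq hq'
  let ψ : (Scheme.Modules.pullback f).obj q.P ⟶ M :=
    ((Scheme.Modules.pullbackPushforwardAdjunction f).homEquiv _ _).symm q.i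
  have hψ : Epi ψ := by
    refine (M1.epi_iff_stalk ψ).2 fun x (b : M.presheaf.stalk x) => ?_
    obtain ⟨U, hUT, hxU'⟩ := Set.mem_iUnion₂.1 (hT (Set.mem_univ (f x)))
    have hxU : x ∈ f ⁻¹ᵁ U.1 := hxU'
    let G : Submodule (X.presheaf.stalk x) (M.presheaf.stalk x) := LinearMap.range (Cyc26.stalkLin ψ x)
    have hgen : ∀ m : Γ(M, f ⁻¹ᵁ U.1), M.presheaf.germ (f ⁻¹ᵁ U.1) x hxU m ∈ G := fun m => by
      have hm : m ∈ Submodule.span Γ(X, f ⁻¹ᵁ U.1) (S U : Set Γ(M, f ⁻¹ᵁ U.1)) := by rw [hS]; trivial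
      induction hm using Submodule.span_induction with
      | mem s hs =>
        obtain ⟨a, ha⟩ := hmem ⟨U, ⟨s, hs⟩⟩ (Finset.mem_sigma.2 ⟨hUT, Finset.mem_attach _ _⟩)
        refine ⟨((Scheme.Modules.pullback f).obj q.P).presheaf.germ (f ⁻¹ᵁ U.1) x hxU
          (M2.pullSec f q.P a), ?_⟩
        change (M1.stalkAb x).map ψ _ = _
        rw [M1.germ_naturality]
        refine congrArg _ ?_
        have h := (Scheme.Modules.pullbackPushforwardAdjunction f).homEquiv_unit q.P M ψ
        rw [Equiv.apply_symm_apply] at h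
        refine Eq.trans ?_ ha
        rw [h]
        rfl
      | zero => rw [map_zero]; exact G.zero_mem
      | add u v _ _ hu hv => rw [map_add]; exact G.add_mem hu hv
      | smul c u _ hu => rw [M1.germ_smul]; exact G.smul_mem _ hu
    obtain ⟨r, m, hr, hm⟩ := M1.exists_germ_smul_eq M (U.2.preimage f) hxU b
    obtain ⟨u, hu⟩ := hr
    have hb := G.smul_mem (↑u⁻¹ : X.presheaf.stalk x) (hgen m)
    rw [← hm, ← hu, ← mul_smul, Units.inv_mul, one_smul] at hb
    exact hb
  exact ⟨(Scheme.Modules.pullback f).obj E, (Scheme.Modules.pullback f).map π ≫ ψ,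
    M2.isFinLocFree_pullback f hE, inferInstance⟩

end Groth.Agent.S1110
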