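import Groth.Statements.S11100
import Groth.Agent.Lib.SectSmooth22.Scheme

set_option autoImplicit false
universe u
open CategoryTheory AlgebraicGeometry
open Neron

namespace Groth.Agent.S11100

/-- Let R be a Dedekind domain and p : X → Spec R flat and locally of finite presentation with X regular
(all local rings regular). Then every section s of p factors through the smooth locus of p: for
every point t of Spec R, p is smooth at s(t). (The published statement is for regular arithmetic
surfaces over a Dedekind domain with perfect residue fields; this row assumes only that X is flat,
locally of finite presentation and regular.) -/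
theorem result {R : Type u} [CommRing R] [IsDedekindDomain R]
    {X : Scheme.{u}} (p : X ⟶ Spec (CommRingCat.of R)) [Flat p] [LocallyOfFinitePresentation p]
    (hreg : ∀ x : X, IsRegularLocalRing (X.presheaf.stalk x))
    (s : Spec (CommRingCat.of R) ⟶ X) (hs : s ≫ p = 𝟙 _) (t : Spec (CommRingCat.of R)) :
    s.base t ∈ p.smoothLocus := by
  haveI := hreg (s t)
  exact SectSmooth22.mem_smoothLocus_section p s hs t

end Groth.Agent.S11100
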