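import Groth.Statements.S11103
import Groth.Agent.Lib.NeronMap.Basic
import Mathlib.RingTheory.Flat.TorsionFree

set_option autoImplicit false
universe u
open CategoryTheory CategoryTheory.Limits AlgebraicGeometry
open Neron

namespace Groth.Agent.S11103

/-- Let R be a Dedekind domain with fraction field K, let R' be a Dedekind domain finite étale over R
(the integral closure of R in a finite unramified extension K' of K), and let N be a Néron model
over Spec R of its generic fibre N_K. Then the base change N' = N ×_R R' is a Néron model over Spec
R' of its generic fibre N'_{K'}: it is smooth, separated and of finite type over Spec R', and every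
K'-morphism from the generic fibre of a smooth R'-scheme to N'_{K'} extends uniquely to an
R'-morphism into N'. (The published statement concerns the Néron model of an elliptic curve with the
mapping property for rational maps; this row allows any N and tests the mapping property on
morphisms from smooth schemes. The property generally fails for ramified extensions.) -/
theorem result (R R' : Type u) [CommRing R] [IsDedekindDomain R]
    [CommRing R'] [IsDedekindDomain R'] [Algebra R R'] [Module.Finite R R'] [Algebra.Etale R R']
    (N : Over (Spec (CommRingCat.of R)))
    (hN : Neron.IsNeronModelOf R N ((Neron.genericFibre R).obj N) (Iso.refl _)) :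
    Neron.IsNeronModelOf R'
      ((Over.pullback (Spec.map (CommRingCat.ofHom (algebraMap R R')))).obj N)
      ((Neron.genericFibre R').obj ((Over.pullback (Spec.map (CommRingCat.ofHom (algebraMap R R')))).obj N))
      (Iso.refl _) := by
  obtain ⟨hs, hsep, hft, hqc, hm⟩ := hN
  set f := Spec.map (CommRingCat.ofHom (algebraMap R R'))
  have hinj : Function.Injective (algebraMap R R') := by
    rw [injective_iff_map_eq_zero]
    intro r hr
    by_contra h0
    haveI : Module.Flat R R' := inferInstance
    have := Module.Flat.isSMulRegular_of_isRegular (M := R') (isRegular_of_ne_zero h0)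
    have h1 : r • (1 : R') = r • (0 : R') := by rw [Algebra.smul_def, hr, zero_mul, smul_zero]
    exact one_ne_zero (this h1)
  haveI : Module.IsTorsionFree R R' := Module.isTorsionFree_iff_faithfulSMul.2 ((faithfulSMul_iff_algebraMap_injective R R').2 hinj)
  haveI : IsLocalization (Algebra.algebraMapSubmonoid R' (nonZeroDivisors R)) (FractionRing R') := by
    refine IsLocalization.iff_of_le_of_exists_dvd _ (nonZeroDivisors R') ?_ ?_ |>.2 inferInstance
    · rintro - ⟨r, hr, rfl⟩
      exact mem_nonZeroDivisors_of_ne_zero fun h => nonZeroDivisors.ne_zero hr (hinj (h.trans (map_zero _).symm))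
    · intro x hx
      obtain ⟨r, hr, hd⟩ := (Algebra.IsIntegral.isIntegral (R := R) x).isAlgebraic.exists_nonzero_dvd hx
      exact ⟨_, ⟨r, mem_nonZeroDivisors_of_ne_zero hr, rfl⟩, hd⟩
  letI : Algebra (FractionRing R) (FractionRing R') := FractionRing.liftAlgebra R (FractionRing R')
  have hpo := Algebra.isPushout_of_isLocalization (nonZeroDivisors R) (FractionRing R) R' (FractionRing R')
  have hp : IsPullback (Neron.genPt R') (Spec.map (CommRingCat.ofHom (algebraMap (FractionRing R) (FractionRing R')))) f (Neron.genPt R) :=
    isPullback_SpecMap_of_isPushout _ _ _ _ (CommRingCat.isPushout_iff_isPushout.2 hpo)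
  haveI : Smooth f := by
    haveI : Etale f := (HasRingHomProperty.Spec_iff (P := @Etale)).2 (RingHom.etale_algebraMap.2 inferInstance)
    infer_instance
  haveI := hs; haveI := hsep; haveI := hft; haveI := hqc
  refine ⟨?_, ?_, ?_, ?_, fun Y hY => ?_⟩
  all_goals first
    | exact MorphismProperty.pullback_snd (P := @Smooth) _ _ hs
    | exact MorphismProperty.pullback_snd (P := @IsSeparated) _ _ hsep
    | exact MorphismProperty.pullback_snd (P := @LocallyOfFiniteType) _ _ hft
    | exact MorphismProperty.pullback_snd (P := @QuasiCompact) _ _ hqc
    | skip
  haveI := hY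
  simp only [Iso.refl_hom, Category.comp_id] at hm ⊢
  exact Groth.Agent.NeronMap.ext_pullback hp (hm (Over.mk (Y.hom ≫ f)) (inferInstanceAs (Smooth (Y.hom ≫ f))))

end Groth.Agent.S11103
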