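import Groth.Statements.S11107
import Groth.Agent.Lib.WeilExt.MaxPts

set_option autoImplicit false
universe u
open CategoryTheory AlgebraicGeometry
open Neron

namespace Groth.Agent.S11107

open Groth.Agent TopologicalSpace

theorem exists_codim_one {A : Type u} [CommRing A] [IsDedekindDomain A]
    (X Y : Over (Spec (CommRingCat.of A))) [Smooth X.hom] [IsProper Y.hom]
    (U : X.left.Opens) (hU : Dense (U : Set X.left)) (f : (U : Scheme.{u}) ⟶ Y.left) (hf : f ≫ Y.hom = U.ι ≫ X.hom)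
    (x : X.left) (hx : ringKrullDim (X.left.presheaf.stalk x) ≤ 1) :
    ∃ (V : X.left.Opens) (g : (V : Scheme.{u}) ⟶ Y.left), x ∈ V ∧ g ≫ Y.hom = V.ι ≫ X.hom ∧
      X.left.homOfLE (inf_le_right : U ⊓ V ≤ V) ≫ g = X.left.homOfLE (inf_le_left : U ⊓ V ≤ U) ≫ f := by
  haveI : IsLocallyNoetherian X.left := LocallyOfFiniteType.isLocallyNoetherian X.hom
  have hdom := WeilExt.isDomain_stalk_of_smooth X.hom
  haveI := hdom
  haveI := WeilExt.isRegularLocalRing_stalk_of_smooth X.hom x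
  have hmem : WeilExt.genOf x ∈ U := (WeilExt.isMaxPt_genOf x).mem_of_dense U.2 hU
  let l : Spec (CommRingCat.of (FractionRing (X.left.presheaf.stalk x))) ⟶ (U : Scheme.{u}) :=
    IsOpenImmersion.lift U.ι (WeilExt.genι x) (by
      rw [Scheme.Opens.range_ι]; rintro - ⟨z, rfl⟩
      rw [WeilExt.genι_apply]; exact hmem)
  have hl : l ≫ U.ι = WeilExt.genι x := IsOpenImmersion.lift_fac _ _ _
  let γ : WeilExt.ov (WeilExt.rStalk X.hom x ≫ WeilExt.toFF _) ⟶ Y := Over.homMk (l ≫ f) (by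
    show (l ≫ f) ≫ Y.hom = Spec.map _
    rw [Category.assoc, hf, reassoc_of% hl, WeilExt.genι, Category.assoc, Spec.map_comp, WeilExt.rStalk_spec])
  have hval : ValuationRing (X.left.presheaf.stalk x) := by
    have h := (tfae_of_isNoetherianRing_of_isLocalRing_of_isDomain (X.left.presheaf.stalk x)).out 1 5
    refine h.2 ?_
    have h1 := (IsRegularLocalRing.iff_finrank_cotangentSpace (X.left.presheaf.stalk x)).1 inferInstance
    have h2 : ((Module.finrank (IsLocalRing.ResidueField (X.left.presheaf.stalk x))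
        (IsLocalRing.CotangentSpace (X.left.presheaf.stalk x)) : ℕ) : WithBot ℕ∞) ≤ 1 := h1.trans_le hx
    exact_mod_cast h2
  haveI := hval
  have hfr : @IsFractionRing (X.left.presheaf.stalk x) _
      (CommRingCat.of (FractionRing (X.left.presheaf.stalk x))) _ (WeilExt.toFF _).hom.toAlgebra := by
    have : (WeilExt.toFF (X.left.presheaf.stalk x)).hom.toAlgebra =
        (inferInstance : Algebra (X.left.presheaf.stalk x) (FractionRing (X.left.presheaf.stalk x))) :=
      Algebra.algebra_ext _ _ fun _ => rfl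
    rw [this]
    exact inferInstanceAs (IsFractionRing (X.left.presheaf.stalk x) (FractionRing (X.left.presheaf.stalk x)))
  obtain ⟨σ, hσ⟩ := WeilExt.exists_lift_valuationRing (Field.toIsField (FractionRing (X.left.presheaf.stalk x)))
    (WeilExt.toFF _) hfr (WeilExt.rStalk X.hom x) _ rfl γ
  exact WeilExt.exists_local_of_stalk_extension X Y hdom U f hf x σ l hl congr(($hσ).left)


/-- Let R be a Dedekind domain, X → Spec R a smooth morphism, Y → Spec R a proper morphism, U ⊆ X a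
dense open subscheme and f : U → Y a morphism over Spec R (a rational map X ⇢ Y over R). Then f
extends, over Spec R, to an open subscheme V ⊇ U of X such that every point of X outside V has a
local ring of Krull dimension at least 2: the locus where the rational map is undefined has
codimension at least two. (The published statement assumes the rational map dominant; this row does
not.) -/
theorem result {R : Type u} [CommRing R] [IsDedekindDomain R]
    {X Y : Scheme.{u}} (pX : X ⟶ Spec (CommRingCat.of R)) (pY : Y ⟶ Spec (CommRingCat.of R))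
    [Smooth pX] [IsProper pY] (U : X.Opens) (hU : Dense (U : Set X))
    (f : (U : Scheme.{u}) ⟶ Y) (hf : f ≫ pY = U.ι ≫ pX) :
    ∃ (V : X.Opens) (hUV : U ≤ V) (g : (V : Scheme.{u}) ⟶ Y),
      g ≫ pY = V.ι ≫ pX ∧ X.homOfLE hUV ≫ g = f ∧
      ∀ x : X, x ∉ V → (2 : WithBot ℕ∞) ≤ ringKrullDim (X.presheaf.stalk x) := by
  haveI : IsLocallyNoetherian X := LocallyOfFiniteType.isLocallyNoetherian pX
  haveI : Smooth (Over.mk pX).hom := ‹Smooth pX›
  haveI : IsProper (Over.mk pY).hom := ‹IsProper pY›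
  haveI := Groth.Agent.WeilExt.isDomain_stalk_of_smooth pX
  haveI : IsReduced X := isReduced_of_isReduced_stalk _
  let J := Option {x : X // ringKrullDim (X.presheaf.stalk x) ≤ 1}
  choose W w hxW hwS hwf using fun (x : {x : X // ringKrullDim (X.presheaf.stalk x) ≤ 1}) =>
    exists_codim_one (Over.mk pX) (Over.mk pY) U hU f hf x.1 x.2
  let Z : J → X.Opens := fun o => o.elim U W
  let z : ∀ o : J, (Z o : Scheme.{u}) ⟶ Y := fun o => match o with
    | none => f
    | some x => w x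
  let V : X.Opens := ⨆ o, Z o
  have hUV : U ≤ V := le_iSup Z none
  let Xv : Over (Spec (CommRingCat.of R)) := Over.mk (V.ι ≫ pX)
  haveI : IsReduced Xv.left := isReduced_of_isOpenImmersion V.ι
  let U' : Xv.left.Opens := V.ι ⁻¹ᵁ U
  have hU' : Dense (U' : Set Xv.left) := hU.preimage V.ι.isOpenEmbedding.isOpenMap
  let lU : (U' : Scheme.{u}) ⟶ (U : Scheme.{u}) := IsOpenImmersion.lift U.ι (U'.ι ≫ V.ι) (by
    rw [Scheme.Opens.range_ι]; rintro - ⟨a, rfl⟩; exact a.2)
  have hlU : lU ≫ U.ι = U'.ι ≫ V.ι := IsOpenImmersion.lift_fac _ _ _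
  let lZ : ∀ o, ((V.ι ⁻¹ᵁ Z o : Xv.left.Opens) : Scheme.{u}) ⟶ (Z o : Scheme.{u}) := fun o =>
    IsOpenImmersion.lift (Z o).ι ((V.ι ⁻¹ᵁ Z o : Xv.left.Opens).ι ≫ V.ι) (by
      rw [Scheme.Opens.range_ι]; rintro - ⟨a, rfl⟩; exact a.2)
  have hlZ : ∀ o, lZ o ≫ (Z o).ι = (V.ι ⁻¹ᵁ Z o : Xv.left.Opens).ι ≫ V.ι := fun o => IsOpenImmersion.lift_fac _ _ _
  have hzS : ∀ o, z o ≫ pY = (Z o).ι ≫ pX := fun o => match o with
    | none => hf
    | some x => hwS x
  have hzf : ∀ o, X.homOfLE (inf_le_right : U ⊓ Z o ≤ Z o) ≫ z o = X.homOfLE (inf_le_left : U ⊓ Z o ≤ U) ≫ f :=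
    fun o => match o with
    | none => rfl
    | some x => hwf x
  obtain ⟨g, ⟨hgS, hgf⟩, -⟩ := Groth.Agent.WeilExt.exists_glue Xv (Over.mk pY) U' hU' (lU ≫ f)
    (fun o => V.ι ⁻¹ᵁ Z o) (fun (a : (V : Scheme.{u})) => by obtain ⟨o, ho⟩ := TopologicalSpace.Opens.mem_iSup.1 a.2; exact ⟨o, ho⟩) (fun o => lZ o ≫ z o)
    (fun o => by
      show (lZ o ≫ z o) ≫ pY = _ ≫ V.ι ≫ pX
      rw [Category.assoc, hzS, reassoc_of% hlZ o])
    (fun o => by
      let m : ((U' ⊓ V.ι ⁻¹ᵁ Z o : Xv.left.Opens) : Scheme.{u}) ⟶ (U ⊓ Z o : X.Opens) :=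
        IsOpenImmersion.lift (U ⊓ Z o).ι ((U' ⊓ V.ι ⁻¹ᵁ Z o : Xv.left.Opens).ι ≫ V.ι) (by
          rw [Scheme.Opens.range_ι]; rintro - ⟨a, rfl⟩; exact a.2)
      have e1 : Xv.left.homOfLE (inf_le_right : U' ⊓ V.ι ⁻¹ᵁ Z o ≤ V.ι ⁻¹ᵁ Z o) ≫ lZ o =
          m ≫ X.homOfLE inf_le_right := by
        rw [← cancel_mono (Z o).ι, Category.assoc, Category.assoc, hlZ, Scheme.homOfLE_ι_assoc, Scheme.homOfLE_ι,
          IsOpenImmersion.lift_fac]
      have e2 : Xv.left.homOfLE (inf_le_left : U' ⊓ V.ι ⁻¹ᵁ Z o ≤ U') ≫ lU = m ≫ X.homOfLE inf_le_left := by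
        rw [← cancel_mono U.ι, Category.assoc, Category.assoc, hlU, Scheme.homOfLE_ι_assoc, Scheme.homOfLE_ι,
          IsOpenImmersion.lift_fac]
      rw [reassoc_of% e1, reassoc_of% e2, hzf])
  refine ⟨V, hUV, g, hgS, ?_, fun x hx => ?_⟩
  · let e : (U : Scheme.{u}) ⟶ (U' : Scheme.{u}) := IsOpenImmersion.lift U'.ι (X.homOfLE hUV) (by
      rw [Scheme.Opens.range_ι]; rintro - ⟨a, rfl⟩
      show V.ι.base _ ∈ U
      rw [← Scheme.Hom.comp_apply, Scheme.homOfLE_ι]
      exact a.2)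
    have he : e ≫ U'.ι = X.homOfLE hUV := IsOpenImmersion.lift_fac _ _ _
    have he2 : e ≫ lU = 𝟙 _ := by
      rw [← cancel_mono U.ι, Category.assoc, hlU, reassoc_of% he, Scheme.homOfLE_ι, Category.id_comp]
    calc X.homOfLE hUV ≫ g = (e ≫ U'.ι) ≫ g := by rw [he]
      _ = e ≫ lU ≫ f := by rw [Category.assoc, hgf]
      _ = f := by rw [reassoc_of% he2]
  · by_contra hlt
    have hle : ringKrullDim (X.presheaf.stalk x) ≤ 1 := by
      obtain ⟨n, hn⟩ := WithBot.ne_bot_iff_exists.1 (ringKrullDim_ne_bot (R := ↑(X.presheaf.stalk x)))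
      rw [← hn] at hlt ⊢
      have h2 : n < 2 := WithBot.coe_lt_coe.1 (not_le.1 hlt)
      exact WithBot.coe_le_coe.2 (Order.le_of_lt_add_one (by rwa [one_add_one_eq_two]))
    exact hx (le_iSup Z (some ⟨x, hle⟩) (hxW ⟨x, hle⟩))

end Groth.Agent.S11107
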