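import Groth.Statements.S11108
import Groth.Agent.Lib.HensSect19.Basic
import Mathlib.AlgebraicGeometry.AlgClosed.Basic

set_option autoImplicit false
universe u
open CategoryTheory AlgebraicGeometry
open Neron

namespace Groth.Agent.S11108

open Limits TopologicalSpace

set_option linter.style.haveILetI false
set_option backward.isDefEq.respectTransparency.types false

/-- Let R be a strictly Henselian discrete valuation ring — Henselian with algebraically closed residue
field — and p : X → Spec R a smooth morphism. Then the image of the reduction map from R-valued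
points of X to the special fibre is dense in the special fibre: every point of X over the closed
point of Spec R lies in the closure of the set of points s(𝔪), s a section of p and 𝔪 the closed
point. -/
theorem result (R : Type u) [CommRing R] [IsDomain R]
    [IsDiscreteValuationRing R] [HenselianLocalRing R] [IsAlgClosed (IsLocalRing.ResidueField R)]
    {X : Scheme.{u}} (p : X ⟶ Spec (CommRingCat.of R)) [Smooth p]
    (x : X) (hx : p.base x = IsLocalRing.closedPoint R) :
    x ∈ closure {y : X | ∃ s : Spec (CommRingCat.of R) ⟶ X, s ≫ p = 𝟙 _ ∧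
      s.base (IsLocalRing.closedPoint R) = y} := by
  let k := IsLocalRing.ResidueField R
  let ρ : R →+* k := IsLocalRing.residue R
  let j : Spec (CommRingCat.of k) ⟶ Spec (CommRingCat.of R) := Spec.map (CommRingCat.ofHom ρ)
  have hj : ∀ z, j z = IsLocalRing.closedPoint R := fun z => by
    refine PrimeSpectrum.ext ?_
    show Ideal.comap ρ z.asIdeal = IsLocalRing.maximalIdeal R
    rw [(Ideal.eq_bot_or_top z.asIdeal).resolve_right z.isPrime.ne_top]
    exact IsLocalRing.ker_residue
  obtain ⟨x₀, hx₀⟩ : ∃ x₀ : ↥(pullback p j), pullback.fst p j x₀ = x := by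
    have h : x ∈ Set.range (pullback.fst p j) := by
      rw [Scheme.Pullback.range_fst]
      exact ⟨IsLocalRing.closedPoint k, (hj _).trans hx.symm⟩
    exact h
  rw [mem_closure_iff]
  intro O hO hxO
  haveI : JacobsonSpace ↥(pullback p j) := LocallyOfFiniteType.jacobsonSpace (pullback.snd p j)
  obtain ⟨z, hzO, hzc⟩ := nonempty_inter_closedPoints (Z := (pullback.fst p j) ⁻¹' O)
    ⟨x₀, by show pullback.fst p j x₀ ∈ O; rw [hx₀]; exact hxO⟩
    (hO.preimage (pullback.fst p j).continuous).isLocallyClosed
  let g₀ := pointOfClosedPoint (pullback.snd p j) z hzc ≫ pullback.fst p j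
  haveI : HenselianRing R (RingHom.ker ρ) := by
    rw [show RingHom.ker ρ = IsLocalRing.maximalIdeal R from IsLocalRing.ker_residue]
    infer_instance
  obtain ⟨s, hs, hs'⟩ := HensSect19.exists_section_of_smooth ρ IsLocalRing.residue_surjective p g₀ (by
    rw [Category.assoc, pullback.condition, pointOfClosedPoint_comp_assoc])
  refine ⟨pullback.fst p j z, hzO, s, hs, ?_⟩
  show s (IsLocalRing.closedPoint R) = pullback.fst p j z
  rw [← hj (IsLocalRing.closedPoint k), ← Scheme.Hom.comp_apply, hs', Scheme.Hom.comp_apply, pointOfClosedPoint_apply]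

end Groth.Agent.S11108
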