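import Groth.Statements.S11113
import Groth.Agent.Lib.DGen9.Gen
import Groth.Agent.Lib.DMon9.ProjQC
import Groth.Agent.Lib.RelPCS4.Comp
import Groth.Agent.Lib.DMon9.LpullIso
import Groth.Agent.Lib.RHom.PCoh
import Groth.Agent.Lib.RHom.Exist
import Groth.Agent.Lib.DGen9.Approx

set_option autoImplicit false
set_option linter.style.haveILetI false
set_option backward.isDefEq.respectTransparency false
set_option backward.isDefEq.respectTransparency.types false
set_option maxHeartbeats 800000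
universe u
open CategoryTheory CategoryTheory.Limits AlgebraicGeometry Pretriangulated
attribute [local instance] HasDerivedCategory.standard
open Perf

namespace Groth.Agent.S11113

/-- Let f : X ⟶ Y be locally of finite presentation with X and Y quasi-compact quasi-separated, let Rf_*
exist, and suppose that for every cochain complex F of O_X-modules the derived tensor functor - ⊗^L
F exists and has a right adjoint RHom(F, -) (existence binders). Let φ : A₁ ⟶ A₂ be a morphism in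
D(O_X) between objects with quasi-coherent cohomology sheaves vanishing below some degree c. If Rf_*
RHom(F, φ) is an isomorphism for every complex F whose class in D(O_X) is pseudo-coherent, then φ is
an isomorphism. -/
theorem result {X Y : Scheme.{u}} [CompactSpace X] [QuasiSeparatedSpace X] [CompactSpace Y] [QuasiSeparatedSpace Y]
    (f : X ⟶ Y) [LocallyOfFinitePresentation f] [DCoh.HasRpush f]
    [hT : ∀ F : CochainComplex X.Modules ℤ, DCoh.HasLTensorCx F]
    [hR : ∀ F : CochainComplex X.Modules ℤ, DCoh.HasRSheafHom F]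
    {A₁ A₂ : DCoh.D X} (h₁ : DCoh.IsQCohD A₁) (h₂ : DCoh.IsQCohD A₂) (c : ℤ) [A₁.IsGE c] [A₂.IsGE c]
    (φ : A₁ ⟶ A₂)
    (h : ∀ F : CochainComplex X.Modules ℤ, (∀ m : ℤ, DCoh.IsPseudoCoherentD m (DCoh.toD X F)) →
      IsIso ((DCoh.Rpush f).map ((DCoh.RSheafHom F).map φ))) :
    IsIso φ := by
  obtain ⟨G, hG, -, -, hgen⟩ := DGen9.exists_generator_qcqs X Set.univ isClosed_univ (by simp)
  obtain ⟨C, u, v, hC⟩ := distinguished_cocone_triangle φ
  haveI : DCoh.HasLpull f := KFlat.Sch.hasLpull f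
  obtain ⟨e₀⟩ := RelPCS4.nonempty_lpull_unit f
  obtain ⟨ν⟩ := DMon9.nonempty_lpull_natIso_lP f
  let adjP := (DMon9.adjLP f).ofNatIsoLeft ν.symm
  have key : ∀ n : ℤ, Function.Bijective (fun s : G⟦n⟧ ⟶ A₁ => s ≫ φ) := fun n => by
    let F := DerivedCategory.Q.objPreimage (G⟦n⟧)
    let eF : DerivedCategory.Q.obj F ≅ G⟦n⟧ := DerivedCategory.Q.objObjPreimageIso _
    haveI : IsIso ((DCoh.Rpush f).map ((DCoh.RSheafHom F).map φ)) := h F fun m =>
      DGen9.isPseudoCoherentD_of_isoD eF.symm (DGen9.isPseudoCoherentD_of_isPerfect (DGen9.isPerfect_shiftD hG n) m)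
    haveI : IsIso ((RHom.ltCounit F).app (RHom.sg 0 (Coh.structureModule X))) :=
      RHom.isIso_counit_kflat F _ (RHom.isKFlat_sgOne 0)
    let u₀ : (DCoh.LTensorCx F).obj (DCoh.inD X (Coh.structureModule X)) ≅ G⟦n⟧ :=
      (DCoh.LTensorCx F).mapIso ((DerivedCategory.singleFunctorIsoCompQ X.Modules 0).app _) ≪≫
      asIso ((RHom.ltCounit F).app (RHom.sg 0 (Coh.structureModule X))) ≪≫
        DerivedCategory.Q.mapIso (RHom.lunit.app F) ≪≫ eF
    let adj := DCoh.RSheafHomAdj F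
    let θ : ∀ A : DCoh.D X, (G⟦n⟧ ⟶ A) ≃
        (DCoh.inD Y (Coh.structureModule Y) ⟶ (DCoh.Rpush f).obj ((DCoh.RSheafHom F).obj A)) := fun A =>
      u₀.symm.homFromEquiv.trans ((adj.homEquiv _ _).trans (e₀.symm.homFromEquiv.trans (adjP.homEquiv _ _)))
    have hθ : ∀ s : G⟦n⟧ ⟶ A₁, θ A₂ (s ≫ φ) = θ A₁ s ≫ (DCoh.Rpush f).map ((DCoh.RSheafHom F).map φ) :=
      fun s => by
        show adjP.homEquiv _ _ (e₀.hom ≫ adj.homEquiv _ _ (u₀.hom ≫ s ≫ φ)) =
          adjP.homEquiv _ _ (e₀.hom ≫ adj.homEquiv _ _ (u₀.hom ≫ s)) ≫ _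
        rw [← Category.assoc u₀.hom, adj.homEquiv_naturality_right, ← Category.assoc e₀.hom,
          adjP.homEquiv_naturality_right]
    have hb : Function.Bijective (fun t : DCoh.inD Y (Coh.structureModule Y) ⟶
        (DCoh.Rpush f).obj ((DCoh.RSheafHom F).obj A₁) => t ≫ (DCoh.Rpush f).map ((DCoh.RSheafHom F).map φ)) :=
      ((asIso ((DCoh.Rpush f).map ((DCoh.RSheafHom F).map φ))).homToEquiv).bijective
    have he : (fun s : G⟦n⟧ ⟶ A₁ => s ≫ φ) =
        (θ A₂).symm ∘ (fun t => t ≫ (DCoh.Rpush f).map ((DCoh.RSheafHom F).map φ)) ∘ θ A₁ :=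
      funext fun s => ((θ A₂).eq_symm_apply).2 (hθ s)
    rw [he]
    exact (θ A₂).symm.bijective.comp (hb.comp (θ A₁).bijective)
  refine (Triangle.isZero₃_iff_isIso₁ _ hC).1 ?_
  refine (hgen C (DPush.isQCohD_obj₃ _ hC h₁ h₂) fun _ => Set.subset_univ _).2 fun n s => ?_
  let k : (G⟦n - 1⟧)⟦(1 : ℤ)⟧ ≅ G⟦n⟧ := ((shiftFunctorAdd' (DCoh.D X) (n - 1) 1 n (by omega)).app G).symm
  have h1 : (k.hom ≫ s) ≫ v = 0 := by
    obtain ⟨w, hw⟩ := (shiftFunctor (DCoh.D X) (1 : ℤ)).map_surjective ((k.hom ≫ s) ≫ v)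
    have hwφ : w ≫ φ = 0 := by
      apply (shiftFunctor (DCoh.D X) (1 : ℤ)).map_injective
      rw [Functor.map_comp, hw, Functor.map_zero, Category.assoc]
      have := comp_distTriang_mor_zero₃₁ _ hC
      change v ≫ φ⟦(1 : ℤ)⟧' = 0 at this
      rw [this, comp_zero]
    have : w = 0 := (key (n - 1)).1 (hwφ.trans zero_comp.symm)
    rw [← hw, this, Functor.map_zero]
  obtain ⟨t, ht⟩ := Triangle.coyoneda_exact₃ _ hC s (by
    rw [← cancel_epi k.hom, comp_zero]
    exact (Category.assoc _ _ _).symm.trans h1)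
  obtain ⟨t', rfl⟩ := (key n).2 t
  rw [ht]
  show (t' ≫ φ) ≫ u = 0
  rw [Category.assoc, show φ ≫ u = 0 from comp_distTriang_mor_zero₁₂ _ hC, comp_zero]

end Groth.Agent.S11113
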