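import Groth.Statements.S11114
import Groth.Agent.Lib.RGammaLocal9.Main

set_option autoImplicit false
set_option linter.style.haveILetI false
set_option backward.isDefEq.respectTransparency false
universe u
open CategoryTheory CategoryTheory.Limits AlgebraicGeometry
attribute [local instance] HasDerivedCategory.standard
open DCoh

namespace Groth.Agent.S11114

/-- Let Y be a quasi-compact quasi-separated scheme and assume the unbounded derived functor of global
sections RΓ(U, -) exists for every open U of Y (existence binder). A morphism φ : G₁ ⟶ G₂ in D(O_Y)
is an isomorphism if and only if for every affine open U of Y the morphism RΓ(U, φ|_U) of D(Ab),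
obtained from φ through restriction to U and derived global sections, is an isomorphism. -/
theorem result {Y : Scheme.{u}} [CompactSpace Y] [QuasiSeparatedSpace Y]
    [hR : ∀ U : Y.Opens, DCoh.HasRΓ (U : Scheme.{u})] {G₁ G₂ : DCoh.D Y} (φ : G₁ ⟶ G₂) :
    IsIso φ ↔ ∀ U : Y.Opens, IsAffineOpen U →
      IsIso ((DCoh.RΓ (U : Scheme.{u})).map ((DCoh.restrictD U.ι).map φ)) := by
  refine ⟨fun _ U _ => inferInstance, fun h => RGammaLocal9.isIso_of_affine φ h⟩

end Groth.Agent.S11114
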