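import Groth.Statements.S11122
import Groth.Agent.Lib.DPush.QCoh
import Groth.Agent.Lib.DMV.Perfect
import Groth.Agent.Lib.DPerf.Perm
import Groth.Agent.Lib.DPerf.Noeth

set_option autoImplicit false
set_option linter.style.haveILetI false
set_option backward.isDefEq.respectTransparency false
universe u
open CategoryTheory CategoryTheory.Limits AlgebraicGeometry
attribute [local instance] HasDerivedCategory.standard
open Perf

namespace Groth.Agent.S11122

/-- Let f : X ⟶ Y be a quasi-compact quasi-separated morphism of schemes with Y quasi-compact, and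
assume the unbounded derived direct image Rf_* exists. Suppose there is an integer k such that for
every integer n and every object F of D(O_X) with bounded cohomology that is n-pseudo-coherent, Rf_*
F is (n + k)-pseudo-coherent. Then for every object F of D(O_X) that is n-pseudo-coherent for all n
(no boundedness assumed), Rf_* F is n-pseudo-coherent for all n. (The published statement obtains
the bound for proper pseudo-coherent f from a cited finiteness theorem; this row assumes the bound.) -/
theorem result {X Y : Scheme.{u}} (f : X ⟶ Y) [QuasiCompact f]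
    [QuasiSeparated f] [CompactSpace Y] [DCoh.HasRpush f] (k : ℤ)
    (hK : ∀ (F : DCoh.D X) (n a b : ℤ), F.IsGE a → F.IsLE b → DCoh.IsPseudoCoherentD n F →
      DCoh.IsPseudoCoherentD (n + k) ((DCoh.Rpush f).obj F))
    (F : DCoh.D X) (hF : ∀ m : ℤ, DCoh.IsPseudoCoherentD m F) (m : ℤ) :
    DCoh.IsPseudoCoherentD m ((DCoh.Rpush f).obj F) := by
  haveI : CompactSpace X := QuasiCompact.compactSpace_of_compactSpace f
  obtain ⟨N, hN⟩ := DPush.exists_bound f
  obtain ⟨_, _⟩ := DPush.exists_commShift_isTriangulated f
  let a : ℤ := min (m - N) (m - k)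
  let t := DerivedCategory.TStructure.t (C := X.Modules)
  have ha₁ : a ≤ m - N := min_le_left _ _
  have ha₂ : a ≤ m - k := min_le_right _ _
  have hT := t.triangleLTGE_distinguished a F
  have hL : DerivedCategory.IsLE ((t.truncLT a).obj F) (a - 1) :=
    (inferInstance : t.IsLE ((t.truncLT a).obj F) (a - 1))
  have hq : DCoh.IsQCohD F := fun i => DPerf.isQCoh_HD (hF (i - 1)) (by omega)
  have hG : DerivedCategory.IsGE ((t.truncGE a).obj F) a :=
    (inferInstance : t.IsGE ((t.truncGE a).obj F) a)
  have hτ : DCoh.IsPseudoCoherentD (m - k) ((t.truncGE a).obj F) :=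
    DPerf.isPseudoCoherentD_of_approx (DPerf.approx_Ici₃ (m - k) _ hT
      (DPerf.approx_of_isZero_HD fun i hi => DerivedCategory.isZero_of_isLE ((t.truncLT a).obj F) (a - 1) i (by omega))
      (DPerf.approx_of_isPseudoCoherentD (hF (m - k))))
  obtain ⟨b, hb⟩ := DPerf.exists_isLE_of_pseudoCoherent hτ
  have h₃ := hK ((t.truncGE a).obj F) (m - k) a b hG hb hτ
  rw [show m - k + k = m by omega] at h₃
  exact DPerf.isPseudoCoherentD_of_approx (DPerf.approx_Ici₂ m _ ((DCoh.Rpush f).map_distinguished _ hT)
    (DPerf.approx_of_isZero_HD fun i hi =>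
      hN ((t.truncLT a).obj F) (DMV.isQCohD_truncLT F hq a) (a - 1) hL i (by omega))
    (DPerf.approx_of_isPseudoCoherentD h₃))

end Groth.Agent.S11122
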