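import Groth.Statements.S11123
import Groth.Agent.Lib.BC8.Local

set_option autoImplicit false
universe u
open CategoryTheory CategoryTheory.Limits AlgebraicGeometry
attribute [local instance] HasDerivedCategory.standard
open Dual3

namespace Groth.Agent.S11123


/-- Consider a cartesian square of quasi-compact quasi-separated schemes X' = X ×_Y Y' with f : X ⟶ Y, g
: Y' ⟶ Y and projections f' : X' ⟶ Y', g' : X' ⟶ X, and suppose the square is tor-independent in the
sense that for every affine open U of Y, every affine open U' of Y' mapped into U and every affine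
open V of X mapped into U, the modules Tor_i over Γ(U, O_Y) of Γ(U', O_Y') and Γ(V, O_X) (computed
with a projective resolution of the second argument) vanish for all i > 0. Let the derived direct
images on D_QCoh of the four maps, the derived pullbacks Lg^*, Lg'^* with adjunctions Lg^* ⊣ Rg_*,
Lg'^* ⊣ Rg'_*, and right adjoints a of Rf_* and a' of Rf'_* on D_QCoh be given as data. If a
commutes with small direct sums (for every family K_i in D_QCoh(O_Y) indexed by a small type, with
direct sums of the K_i and of the a(K_i) in D_QCoh, the canonical map ∐ a(K_i) ⟶ a(∐ K_i) is an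
isomorphism), then a' commutes with small direct sums in the same sense. (The published statement is
made for every independent square, that is, every commutative square of quasi-compact
quasi-separated schemes for which the base-change map Lg^* Rf_* E ⟶ Rf'_* Lg'^* E is an isomorphism
for all E in D_QCoh(O_X); this row takes a tor-independent cartesian square, which is such a
square.) -/
theorem result (X Y X' Y' : Scheme.{u}) [CompactSpace X] [QuasiSeparatedSpace X] [CompactSpace Y] [QuasiSeparatedSpace Y] [CompactSpace X'] [QuasiSeparatedSpace X'] [CompactSpace Y'] [QuasiSeparatedSpace Y']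
    (f : X ⟶ Y) (g : Y' ⟶ Y) (f' : X' ⟶ Y') (g' : X' ⟶ X) (hsq : IsPullback g' f' f g)
    [DCoh.HasRpush f] [DCoh.HasRpush f'] [DCoh.HasRpush g] [DCoh.HasRpush g']
    (htor : ∀ (U : Y.Opens), IsAffineOpen U → ∀ (U' : Y'.Opens), IsAffineOpen U' → ∀ (hU' : U' ≤ g ⁻¹ᵁ U)
      (V : X.Opens), IsAffineOpen V → ∀ (hV : V ≤ f ⁻¹ᵁ U) (i : ℕ), 0 < i →
      Subsingleton (@DRing.Tor Γ(Y, U) _ i Γ(Y', U') Γ(X, V) _ (g.appLE U U' hU').hom.toModule _ (f.appLE U V hV).hom.toModule))
    (hf : DCoh.RpushPreservesQCoh f) (hf' : DCoh.RpushPreservesQCoh f') (hg : DCoh.RpushPreservesQCoh g)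
    (hg' : DCoh.RpushPreservesQCoh g') (a : DCoh.DQCoh Y ⥤ DCoh.DQCoh X) (a' : DCoh.DQCoh Y' ⥤ DCoh.DQCoh X')
    (adj : DCoh.RpushQ f hf ⊣ a) (adj' : DCoh.RpushQ f' hf' ⊣ a') [DCoh.HasLpull g] [DCoh.HasLpull g']
    (hLg : Dual3.LpullPreservesQCoh g) (hLg' : Dual3.LpullPreservesQCoh g')
    (adjg : Dual3.LpullQ g hLg ⊣ DCoh.RpushQ g hg) (adjg' : Dual3.LpullQ g' hLg' ⊣ DCoh.RpushQ g' hg')
    (hsum : ∀ {ι : Type u} (K : ι → DCoh.DQCoh Y) [HasCoproduct K] [HasCoproduct fun i => a.obj (K i)],
      IsIso (Sigma.desc (fun i => a.map (Sigma.ι K i))))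
    {ι : Type u} (K' : ι → DCoh.DQCoh Y') [HasCoproduct K'] [HasCoproduct fun i => a'.obj (K' i)] :
    IsIso (Sigma.desc (fun i => a'.map (Sigma.ι K' i))) := by
  have hcop : ∀ J : Type u, PreservesColimitsOfShape (Discrete J) a := fun J => by
    suffices h : ∀ K : J → DCoh.DQCoh Y, PreservesColimit (Discrete.functor K) a from
      ⟨fun {F} => haveI := h (F.obj ∘ Discrete.mk); preservesColimit_of_iso_diagram a Discrete.natIsoFunctor.symm⟩
    intro K
    haveI := Groth.Agent.BC8.hasCoproductsQ (X := X) J
    haveI := Groth.Agent.BC8.hasCoproductsQ (X := Y) J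
    haveI : IsIso (sigmaComparison a K) := hsum K
    exact PreservesCoproduct.of_iso_comparison a K
  haveI := Groth.Agent.BC8.preservesCoproducts_baseChange adj adj' hsq
    (fun U hU U' hU' hle V hV hVU q hq => htor U hU U' hU' hle V hV hVU q hq) hcop ι
  haveI : IsIso (sigmaComparison a' K') := inferInstance
  exact (inferInstance : IsIso (sigmaComparison a' K'))


end Groth.Agent.S11123
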