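import Groth.Statements.S11129
import Groth.Agent.Lib.QCoh8.Sub
import Groth.Agent.Lib.QCoh8.Main

set_option autoImplicit false
universe u
open CategoryTheory AlgebraicGeometry
open QCohCat

namespace Groth.Agent.S11129

open CategoryTheory CategoryTheory.Limits AlgebraicGeometry Opposite Groth.Agent.QCoh8 Groth.Agent

/-- The sections of a subobject over an open, as a submodule. -/
noncomputable def secs {Y : Scheme.{u}} {M : QCohCat.QCoh Y} (U : Y.Opens) (S : Subobject M) :
    Submodule Γ(Y, U) Γ(M.obj, U) where
  carrier := {s | (toSub S).mem U s}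
  zero_mem' := (toSub S).mem_zero U
  add_mem' := (toSub S).mem_add
  smul_mem' := fun r _ h => (toSub S).mem_smul r h



/-- For a noetherian scheme Y, an object M of the category QCoh(O_Y) of quasi-coherent O_Y-modules (a
full subcategory of all O_Y-modules) is a noetherian object of that category if and only if M is
coherent (quasi-coherent of finite type). (The published statement also records that QCoh(O_Y) is a
locally noetherian category; only the characterisation of its noetherian objects is stated here.) -/
theorem result (Y : Scheme.{u}) [IsNoetherian Y] (M : QCohCat.QCoh Y) :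
    IsNoetherianObject M ↔ Coh.IsCoh M.obj := by
  constructor
  · intro hN
    refine ⟨M.property, ?_⟩
    let P : Set (Subobject M) :=
      {S | ∃ (p : M1.Sub M.obj) (hp : Coh.IsQCoh p.P), CohB1.IsFT p.P ∧ S = ofSub p hp}
    have hne : P.Nonempty := by
      obtain ⟨q, hq, hq', -⟩ := exists_ft_mem M.property (U := ⊤) isCompact_univ (0 : Γ(M.obj, (⊤ : Y.Opens)))
      exact ⟨_, q, hq, hq', rfl⟩
    obtain ⟨S, ⟨p, hp, hp', rfl⟩, hmax⟩ := WellFounded.has_min (wellFounded_gt (α := Subobject M)) P hne
    have htop : ∀ (U : Y.Opens), IsAffineOpen U → ∀ s : Γ(M.obj, U), p.mem U s := by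
      intro U hU s
      obtain ⟨q, hq, hq', hs⟩ := exists_ft_mem M.property hU.isCompact s
      obtain ⟨r, hr, hr', hpr, hqr⟩ := exists_sup M.property p q hp hp' hq hq'
      have hle : ofSub p hp ≤ ofSub r hr := le_of_toSub fun V t ht => by
        rw [mem_ofSub] at ht ⊢; exact hpr V t ht
      have heq : ofSub p hp = ofSub r hr :=
        eq_of_le_of_not_lt hle (fun hlt => hmax _ ⟨r, hr, hr', rfl⟩ hlt)
      have := hqr U s hs
      rwa [← mem_ofSub r hr, ← heq, mem_ofSub] at this
    refine M1.isFT_of_finite_sections M.property fun U hU => ?_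
    haveI := M1.finite_sections hp hp' hU
    exact Module.Finite.of_surjective (M := Γ(p.P, U))
      ({ toFun := fun a => p.i.app U a
         map_add' := map_add _
         map_smul' := fun r a => p.i.app_smul r a } : Γ(p.P, U) →ₗ[Γ(Y, U)] Γ(M.obj, U)) fun s => htop U hU s
  · rintro ⟨-, hFT⟩
    rw [isNoetherianObject_iff_monotone_chain_condition]
    intro f
    obtain ⟨t, ht, hcov⟩ := M1.exists_finite_affine_iSup (X := Y) (U := ⊤) isCompact_univ
    haveI := ht.to_subtype
    have hst : ∀ i : t, ∃ n : ℕ, ∀ m, n ≤ m → secs i.1.1 (f n) = secs i.1.1 (f m) := fun i => by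
      haveI := M1.finite_sections M.property hFT i.1.2
      haveI : IsNoetherianRing Γ(Y, i.1.1) := IsLocallyNoetherian.component_noetherian i.1
      exact monotone_stabilizes_iff_noetherian.mpr inferInstance
        ⟨fun k => secs i.1.1 (f k), fun a b hab s hs => mem_of_le (f.monotone hab) _ s hs⟩
    choose n hn using hst
    haveI := Fintype.ofFinite t
    refine ⟨Finset.univ.sup n, fun m hm => le_antisymm (f.monotone hm) (le_of_toSub fun T s hs => ?_)⟩
    refine mem_of_affine_cover (toSub (f (Finset.univ.sup n))) (toSub (f m)) (isQCoh_toSub _) (fun i : t => i.1.1)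
      (fun i => i.1.2) (fun x => ?_) (fun i s hs => ?_) T s hs
    · have : x ∈ (⊤ : Y.Opens) := trivial
      rw [hcov] at this
      exact TopologicalSpace.Opens.mem_iSup.1 this
    · have hi : n i ≤ Finset.univ.sup n := Finset.le_sup (Finset.mem_univ i)
      have h1 := (hn i _ hi).symm.trans (hn i m (hi.trans hm))
      exact SetLike.ext_iff.1 h1.symm s |>.1 hs


end Groth.Agent.S11129
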