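import Groth.Statements.S1113
import Groth.Agent.Lib.DerTrunc.Basic

set_option autoImplicit false
universe w v u
open CategoryTheory CategoryTheory.Limits
open CohDer

namespace Groth.Agent.S1113


/-- Let K : ℕᵒᵖ ⥤ CochainComplex A ℤ be a sequence of cochain maps … → K₂ → K₁ → K₀ in an abelian
category with Hⁱ(K₀) = 0 for i < 0 and such that for every j < n the map Hʲ(Kⱼ₊₁) → Hʲ(Kⱼ) is zero.
Then in the derived category the composite Kₙ → K₀ factors through the canonical truncation Kₙ →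
τ_{≥ n}Kₙ. -/
theorem result {A : Type u} [Category.{v} A] [Abelian A] [HasDerivedCategory.{w} A]
    (K : ℕᵒᵖ ⥤ CochainComplex A ℤ) (n : ℕ)
    (h0 : ∀ i : ℤ, i < 0 → IsZero ((K.obj (Opposite.op 0)).homology i))
    (hz : ∀ j : ℕ, j < n → HomologicalComplex.homologyMap (K.map (homOfLE (Nat.le_succ j)).op) (j : ℤ) = 0) :
    ∃ φ : DerivedCategory.Q.obj ((K.obj (Opposite.op n)).truncGE (n : ℤ)) ⟶ DerivedCategory.Q.obj (K.obj (Opposite.op 0)),
      DerivedCategory.Q.map ((K.obj (Opposite.op n)).πTruncGE (n : ℤ)) ≫ φ = DerivedCategory.Q.map (K.map (homOfLE (Nat.zero_le n)).op) := by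
  open DerivedCategory Groth.Agent.DerTrunc in
  induction n with
  | zero =>
    have : (K.obj (Opposite.op 0)).IsGE 0 := by
      rw [CochainComplex.isGE_iff]
      exact fun i hi => (HomologicalComplex.exactAt_iff_isZero_homology _ _).2 (h0 i hi)
    have : (K.obj (Opposite.op 0)).IsGE ((0 : ℕ) : ℤ) := by simpa using this
    refine ⟨inv (Q.map ((K.obj (Opposite.op 0)).πTruncGE ((0 : ℕ) : ℤ))), ?_⟩
    rw [IsIso.hom_inv_id, show (homOfLE (Nat.zero_le 0)).op = 𝟙 (Opposite.op 0) from rfl,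
      CategoryTheory.Functor.map_id, CategoryTheory.Functor.map_id]
  | succ n ih =>
    obtain ⟨φ, hφ⟩ := ih fun j hj => hz j (Nat.lt_succ_of_lt hj)
    have hstep : Q.map ((K.obj (Opposite.op (n + 1))).ιTruncLE (n : ℤ)) ≫
        (Q.map (K.map (homOfLE (Nat.le_succ n)).op) ≫
          Q.map ((K.obj (Opposite.op n)).πTruncGE (n : ℤ))) = 0 := by
      refine hom_eq_zero_of_isLE_of_isGE (n : ℤ) _ ?_
      rw [Functor.map_comp, Functor.map_comp, homology_map_Q_eq_zero _ _ (hz n (Nat.lt_succ_self n)),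
        zero_comp, comp_zero]
    obtain ⟨θ, hθ⟩ := exists_fac_πTruncGE (K.obj (Opposite.op (n + 1))) (n : ℤ) ((n + 1 : ℕ) : ℤ)
      (by lia) _ hstep
    refine ⟨θ ≫ φ, ?_⟩
    rw [reassoc_of% hθ, hφ, ← Functor.map_comp, ← Functor.map_comp]
    rfl


end Groth.Agent.S1113
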