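import Groth.Statements.S11132
import Groth.Agent.Lib.KFlat.StalkCx
-- import your own Groth.Agent.* helpers here

set_option autoImplicit false
universe u
open CategoryTheory AlgebraicGeometry
open DCoh

namespace Groth.Agent.S11132

/-- For a scheme X, a cochain complex F of O_X-modules is K-flat if and only if for every point x of X
the complex of stalks F_x, a complex of modules over the local ring O_{X,x}, is K-flat. (The
published statement is for a diagram of schemes and also compares with the restrictions to each
scheme of the diagram; this row is its case of a single scheme.) -/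
theorem result (X : Scheme.{u}) (F : CochainComplex X.Modules ℤ) :
    DCoh.IsKFlat F ↔ ∀ x : X, DRing.IsKFlat (X.presheaf.stalk x)
      (((DerSch.stalkFunctor X x).mapHomologicalComplex (ComplexShape.up ℤ)).obj F) := by
  rw [← Groth.Agent.KFlat.Sch.isKFlat_iff, Groth.Agent.KFlat.Sch.isKFlat_iff_stalk]
  refine forall_congr' fun x => ?_
  refine Iff.trans ?_ (Groth.Agent.KFlat.Module.isKFlat_iff (R := X.presheaf.stalk x) _)
  let e : Groth.Agent.KFlat.Sch.stF x ≅ DerSch.stalkFunctor X x :=
    NatIso.ofComponents (fun M => Iso.refl _) fun g => rfl
  exact ⟨fun h => h.of_iso ((NatIso.mapHomologicalComplex e _).app F),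
    fun h => h.of_iso ((NatIso.mapHomologicalComplex e _).symm.app F)⟩

end Groth.Agent.S11132
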