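import Groth.Statements.S11134
import Groth.Agent.Lib.ModFlat16.Proj

set_option autoImplicit false
universe u
open CategoryTheory
open ModSite

namespace Groth.Agent.S11134
set_option linter.style.haveILetI false
set_option backward.isDefEq.respectTransparency false
set_option backward.isDefEq.respectTransparency.types false


/-- On a small ringed site (C, J, O) with commutative O, for every object x of C the module O_x =
j_{x!}(O restricted to C/x), placed in degree 0 as a cochain complex, is K-flat. -/
theorem result {C : Type u} [SmallCategory C] {J : GrothendieckTopology C}
    (O : Sheaf J CommRingCat.{u}) (x : C) :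
    ModSite.IsKFlat ((CochainComplex.singleFunctor (ModSite.Mod O) 0).obj (ModSite.freeOn O x)) := by
  exact (Groth.Agent.KFlat.Site.isKFlat_iff _).1 (Groth.Agent.KFlat.isKFlat_single _ _ ((Groth.Agent.KFlat.Site.isFlat_iff _).2 (Groth.Agent.ModFlat16.isFlat_freeOn O x)))

end Groth.Agent.S11134
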