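import Groth.Statements.S11135
import Groth.Agent.Lib.EqLocH28.Basic

set_option autoImplicit false
universe u
open InvTh

namespace Groth.Agent.S11135

/-- Suppose S is the product of a finite family of integrally closed domains (a finite product of normal
domains), R is any commutative ring, and F is a family of ring maps S → R each carrying
non-zero-divisors of S to non-zero-divisors of R. Then the subring A of S on which all members of F
coincide (a ∈ A iff f(a) = f'(a) for all f, f' in F) is ring-isomorphic to a product of finitely
many integrally closed domains. -/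
theorem result {ι : Type u} [Fintype ι] (D : ι → Type u)
    [∀ i, CommRing (D i)] [∀ i, IsDomain (D i)] [∀ i, IsIntegrallyClosed (D i)]
    (R : Type u) [CommRing R] (F : Set ((Π i, D i) →+* R))
    (hF : ∀ f ∈ F, ∀ s ∈ nonZeroDivisors (Π i, D i), f s ∈ nonZeroDivisors R)
    (A : Subring (Π i, D i)) (hA : ∀ a, a ∈ A ↔ ∀ f ∈ F, ∀ f' ∈ F, f a = f' a) :
    ∃ (κ : Type u) (_ : Fintype κ) (E : κ → Type u) (_ : ∀ j, CommRing (E j)) (_ : ∀ j, IsDomain (E j))
      (_ : ∀ j, IsIntegrallyClosed (E j)), Nonempty (A ≃+* Π j, E j) := by
  exact EqLocH28.exists_pi_of_eqLocus D R F hF A hA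

end Groth.Agent.S11135
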