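import Groth.Statements.S11136
import Mathlib

set_option autoImplicit false
universe u v
open InvTh

namespace Groth.Agent.S11136

/-- Let a finite group G act on a Noetherian commutative ring R by ring automorphisms, with ring of
invariants A (A → R injective with image the fixed elements). When the prime spectrum of A is
connected, any two connected components of Spec R are exchanged by some element of G: for all points
x, y of Spec R there is g in G whose induced self-map of Spec R carries the connected component of x
onto the connected component of y. -/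
theorem result
    (A : Type u) (R : Type v) [CommRing A] [CommRing R] [Algebra A R] [IsNoetherianRing R]
    (G : Type u) [Group G] [Finite G] [MulSemiringAction G R] [SMulCommClass G A R]
    [Algebra.IsInvariant A R G] [FaithfulSMul A R]
    [ConnectedSpace (PrimeSpectrum A)] (x y : PrimeSpectrum R) :
    ∃ g : G, PrimeSpectrum.comap (MulSemiringAction.toRingHom G R g) '' connectedComponent x =
      connectedComponent y := by
  have hopen : ∀ z : PrimeSpectrum R, IsOpen (connectedComponent z) := by
    intro z
    have hcompl : (connectedComponent z)ᶜ =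
        ⋃ s ∈ {s ∈ irreducibleComponents (PrimeSpectrum R) | Disjoint s (connectedComponent z)}, s := by
      ext w
      simp only [Set.mem_compl_iff, Set.mem_iUnion, Set.mem_ofPred_eq, exists_prop]
      refine ⟨fun hw => ⟨irreducibleComponent w, ⟨irreducibleComponent_mem_irreducibleComponents w,
        Set.disjoint_left.mpr fun v hv hvz => hw ?_⟩, mem_irreducibleComponent⟩,
        fun ⟨s, ⟨_, hd⟩, hws⟩ => Set.disjoint_left.mp hd hws⟩
      have h1 : connectedComponent v = connectedComponent z := connectedComponent_eq hvz |>.symm
      rw [← h1]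
      exact isIrreducible_irreducibleComponent.isConnected.isPreconnected.subset_connectedComponent hv
        mem_irreducibleComponent
    rw [← isClosed_compl_iff, hcompl]
    exact Set.Finite.isClosed_biUnion
      (TopologicalSpace.NoetherianSpace.finite_irreducibleComponents.subset fun s hs => hs.1)
      fun s hs => isClosed_of_mem_irreducibleComponents s hs.1
  haveI hint : Algebra.IsIntegral A R := Algebra.IsInvariant.isIntegral A R G
  let π : PrimeSpectrum R → PrimeSpectrum A := PrimeSpectrum.comap (algebraMap A R)
  have hclosed : IsClosedMap π :=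
    PrimeSpectrum.isClosedMap_comap_of_isIntegral _ (Algebra.isIntegral_def.mp hint · )
  have hsurj : Function.Surjective π :=
    Algebra.IsIntegral.comap_surjective A R
  let h : G → PrimeSpectrum R ≃ₜ PrimeSpectrum R := fun g =>
    PrimeSpectrum.homeomorphOfRingEquiv (MulSemiringAction.toRingEquiv G R g).symm
  have hh : ∀ g, ⇑(h g) = PrimeSpectrum.comap (MulSemiringAction.toRingHom G R g) := fun g => rfl
  have himg : ∀ g z, h g '' connectedComponent z = connectedComponent (h g z) := fun g z => by
    rw [← connectedComponentIn_univ, (h g).image_connectedComponentIn (Set.mem_univ z),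
      Set.image_univ_of_surjective (h g).surjective, connectedComponentIn_univ]
  have hπ : ∀ g z, π (h g z) = π z := fun g z => by
    apply PrimeSpectrum.ext
    change Ideal.comap (algebraMap A R) (Ideal.comap (MulSemiringAction.toRingHom G R g) z.asIdeal) = _
    rw [Ideal.comap_comap]
    congr 1
    ext r
    exact smul_algebraMap g r
  let U : Set (PrimeSpectrum R) := ⋃ g : G, h g '' connectedComponent x
  have hUo : IsOpen U := isOpen_iUnion fun g => (h g).isOpenMap _ (hopen x)
  have hUc : IsClosed U := isClosed_iUnion_of_finite fun g =>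
    (h g).isClosedMap _ isClosed_connectedComponent
  have hsat : ∀ z w, π z = π w → z ∈ U → w ∈ U := by
    intro z w e hz
    obtain ⟨g, hg⟩ := Algebra.IsInvariant.exists_smul_of_under_eq A R G z.asIdeal w.asIdeal
      (congrArg PrimeSpectrum.asIdeal e)
    obtain ⟨g', c, hc, hcz⟩ := Set.mem_iUnion.mp hz
    refine Set.mem_iUnion.mpr ⟨g' * g⁻¹, c, hc, ?_⟩
    apply PrimeSpectrum.ext
    rw [hg, ← hcz, hh, hh]
    ext r
    simp only [PrimeSpectrum.comap_asIdeal, Ideal.mem_comap, MulSemiringAction.toRingHom_apply,
      Ideal.mem_pointwise_smul_iff_inv_smul_mem, mul_smul]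
  have hU : π '' U = Set.univ := by
    refine IsClopen.eq_univ ⟨hclosed _ hUc, ?_⟩ ⟨π x, x, Set.mem_iUnion.mpr ⟨1, x, mem_connectedComponent, ?_⟩, rfl⟩
    · rw [← isClosed_compl_iff]
      have : (π '' U)ᶜ = π '' Uᶜ := by
        refine subset_antisymm (fun a ha => ?_) ?_
        · obtain ⟨z, rfl⟩ := hsurj a
          exact ⟨z, fun hz => ha ⟨z, hz, rfl⟩, rfl⟩
        · rintro _ ⟨z, hz, rfl⟩ ⟨w, hw, e⟩
          exact hz (hsat w z e hw)
      rw [this]
      exact hclosed _ hUo.isClosed_compl
    · rw [hh]
      apply PrimeSpectrum.ext
      ext r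
      simp
  obtain ⟨z, hz, hzy⟩ : π y ∈ π '' U := hU ▸ Set.mem_univ _
  obtain ⟨g, hg⟩ := Set.mem_iUnion.mp (hsat z y hzy hz)
  refine ⟨g, ?_⟩
  rw [← hh, himg]
  rw [himg] at hg
  exact connectedComponent_eq hg

end Groth.Agent.S11136
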