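import Groth.Statements.S11137
import Mathlib.RingTheory.Invariant.Basic
import Mathlib.RingTheory.Ideal.GoingDown
import Mathlib.RingTheory.Ideal.GoingUp

set_option autoImplicit false
universe u v
open InvTh

namespace Groth.Agent.S11137
open scoped Pointwise

/-- Let G be a finite group acting by ring automorphisms on a Noetherian commutative ring R, and let A
be its ring of invariants (A → R injective with image the fixed elements), with R module-finite over
A. Then the going-down property holds for the extension A → R. (The published statement also asserts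
that G acts transitively on the primes of R over a given prime of A; this row states only the
going-down assertion.) -/
theorem result
    (A : Type u) (R : Type v) [CommRing A] [CommRing R] [Algebra A R] [IsNoetherianRing R]
    (G : Type u) [Group G] [Finite G] [MulSemiringAction G R] [SMulCommClass G A R]
    [Algebra.IsInvariant A R G] [FaithfulSMul A R] [Module.Finite A R] :
    Algebra.HasGoingDown A R := by
  have : Algebra.IsIntegral A R := Algebra.IsInvariant.isIntegral A R G
  refine ⟨fun {p} hp Q hQ hlt => ?_⟩
  obtain ⟨Q₂, -, hQ₂, hQ₂c⟩ := Ideal.exists_ideal_over_prime_of_isIntegral p (⊥ : Ideal R) (by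
    rw [Ideal.comap_bot_of_injective _ (FaithfulSMul.algebraMap_injective A R)]
    exact bot_le)
  obtain ⟨Q₃, hle, hQ₃, hQ₃c⟩ := Ideal.exists_ideal_over_prime_of_isIntegral (Q.under A) Q₂ (hQ₂c.trans_le hlt.le)
  obtain ⟨g, hg⟩ := Algebra.IsInvariant.exists_smul_of_under_eq A R G Q₃ Q hQ₃c
  refine ⟨g • Q₂, ?_, inferInstance, ⟨?_⟩⟩
  · rw [hg]
    exact Ideal.map_mono hle
  · rw [← hQ₂c]
    exact (Ideal.under_smul A Q₂ g).symm
end Groth.Agent.S11137
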