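import Groth.Statements.S11139
import Groth.Agent.Lib.FinGrpInv.Main

set_option autoImplicit false
universe u
open TensorProduct
open InvTh

namespace Groth.Agent.S11139

/-- Let k be a field and H a finite-dimensional commutative Hopf algebra over k (the coordinate ring of
a finite k-group scheme G) which is linearly reductive, i.e. every finite-dimensional H-comodule is
semisimple. Let R be a commutative k-algebra of finite type with an H-comodule structure whose
coaction R → R ⊗ H is multiplicative and unital (an action of G on Spec R), and let A be the
k-subalgebra of invariants, the elements a whose coaction is a ⊗ 1. If the ring R satisfies Serre's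
condition (S_r), then (S_r) holds both for R viewed as a module over A and for the ring A itself. -/
theorem result (k : Type u) [Field k]
    (H : Type u) [CommRing H] [HopfAlgebra k H] [Module.Finite k H] (hG : HopfRep.IsLinearlyReductive k H)
    (R : Type u) [CommRing R] [Algebra k R] [Algebra.FiniteType k R] [HopfRep.Comod k H R]
    (hmul : ∀ x y : R, HopfRep.Comod.coact (k := k) (A := H) (x * y) =
        HopfRep.Comod.coact (k := k) (A := H) x * HopfRep.Comod.coact (k := k) (A := H) y)
    (hone : HopfRep.Comod.coact (k := k) (A := H) (1 : R) = 1)
    (A : Subalgebra k R)
    (hA : ∀ a : R, a ∈ A ↔ HopfRep.Comod.coact (k := k) (A := H) a = a ⊗ₜ[k] (1 : H))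
    (r : ℕ) (hR : LocCoh.HasSk r R R) :
    LocCoh.HasSk r A R ∧ LocCoh.HasSk r A A := by
  exact Groth.Agent.FinGrpInv.hasSk_invariants hmul hone A hA hG r hR
end Groth.Agent.S11139
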