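import Groth.Statements.S1114
import Groth.Agent.Lib.RHom.QCoh
-- import your own Groth.Agent.* helpers here

set_option autoImplicit false
universe u
open CategoryTheory CategoryTheory.Limits AlgebraicGeometry Opposite
attribute [local instance] HasDerivedCategory.standard
open Perf

namespace Groth.Agent.S1114

/-- Let X be a scheme, K a cochain complex of O_X-modules whose image in D(O_X) is perfect, and L ∈
D(O_X) with quasi-coherent cohomology sheaves. Assuming - ⊗^L K and its right adjoint RHom(K, -)
exist on D(O_X), RHom(K, L) has quasi-coherent cohomology sheaves. -/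
theorem result (X : Scheme.{u}) (K : CochainComplex X.Modules ℤ) (hK : DCoh.IsPerfect (DCoh.toD X K)) [DCoh.HasLTensorCx K] [DCoh.HasRSheafHom K]
    (L : DCoh.D X) (hL : DCoh.IsQCohD L) : DCoh.IsQCohD ((DCoh.RSheafHom K).obj L) := by
  exact Groth.Agent.RHom.isQCohD_rhom_perfect K hK L hL

end Groth.Agent.S1114
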