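import Groth.Statements.S11141
import Groth.Agent.Lib.EqLocH28.Basic

set_option autoImplicit false
universe u
open TensorProduct
open InvTh

namespace Groth.Agent.S11141

/-- Let k be a field, H a finitely generated commutative Hopf algebra over k (the coordinate ring of a
group scheme affine and of finite type over k), and S a commutative k-algebra which is
ring-isomorphic to a finite product of normal (integrally closed) domains and carries an H-comodule
structure whose coaction S → S ⊗ H is multiplicative and unital. Then the k-subalgebra of invariants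
of S, the elements s whose coaction is s ⊗ 1, is again ring-isomorphic to a finite product of normal
domains. -/
theorem result (k : Type u) [Field k]
    (H : Type u) [CommRing H] [HopfAlgebra k H] [Algebra.FiniteType k H]
    (S : Type u) [CommRing S] [Algebra k S] [HopfRep.Comod k H S]
    (hmul : ∀ x y : S, HopfRep.Comod.coact (k := k) (A := H) (x * y) =
        HopfRep.Comod.coact (k := k) (A := H) x * HopfRep.Comod.coact (k := k) (A := H) y)
    (hone : HopfRep.Comod.coact (k := k) (A := H) (1 : S) = 1)
    {ι : Type u} [Fintype ι] (D : ι → Type u) [∀ i, CommRing (D i)] [∀ i, IsDomain (D i)]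
    [∀ i, IsIntegrallyClosed (D i)] (e : S ≃+* Π i, D i)
    (A : Subalgebra k S)
    (hA : ∀ a : S, a ∈ A ↔ HopfRep.Comod.coact (k := k) (A := H) a = a ⊗ₜ[k] (1 : H)) :
    ∃ (κ : Type u) (_ : Fintype κ) (E : κ → Type u) (_ : ∀ j, CommRing (E j)) (_ : ∀ j, IsDomain (E j))
      (_ : ∀ j, IsIntegrallyClosed (E j)), Nonempty (A ≃+* Π j, E j) := by
  classical
  haveI : GLin.IsCoactAlg k H S := ⟨hone, hmul⟩
  let f₀ : (Π i, D i) →+* S ⊗[k] H := (GLin.coactAlgHom k H S).toRingHom.comp e.symm.toRingHom
  let f₁ : (Π i, D i) →+* S ⊗[k] H :=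
    (Algebra.TensorProduct.includeLeft : S →ₐ[k] S ⊗[k] H).toRingHom.comp e.symm.toRingHom
  have hnzd : ∀ s ∈ nonZeroDivisors (Π i, D i), e.symm s ∈ nonZeroDivisors S := fun s hs => by
    rw [mem_nonZeroDivisors_iff] at hs ⊢
    constructor <;> intro x hx <;> apply e.injective <;> rw [map_zero]
    · exact hs.1 _ (by simpa using congrArg e hx)
    · exact hs.2 _ (by simpa using congrArg e hx)
  have hF : ∀ f ∈ ({f₀, f₁} : Set ((Π i, D i) →+* S ⊗[k] H)),
      ∀ s ∈ nonZeroDivisors (Π i, D i), f s ∈ nonZeroDivisors (S ⊗[k] H) := by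
    intro f hf s hs
    rw [mem_nonZeroDivisors_iff]
    have h0 := EqLocH28.coact_mul_eq_zero (k := k) (A := H) (hnzd s hs)
    have h1 := fun t => EqLocH28.tmul_one_mul_eq_zero (k := k) (A := H) (hnzd s hs) (t := t)
    rcases hf with rfl | hf
    · exact ⟨fun t ht => h0 t ht, fun t ht => h0 t ((mul_comm _ _).trans ht)⟩
    · rw [Set.mem_singleton_iff] at hf
      subst hf
      exact ⟨fun t ht => h1 t ht, fun t ht => h1 t ((mul_comm _ _).trans ht)⟩
  obtain ⟨κ, hκ, E, hE1, hE2, hE3, ⟨φ⟩⟩ :=
    EqLocH28.exists_pi_of_eqLocus D (S ⊗[k] H) {f₀, f₁} hF (A.toSubring.map e.toRingHom) (fun a => by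
      obtain ⟨s, rfl⟩ := e.surjective a
      have h0 : f₀ (e s) = HopfRep.Comod.coact (k := k) (A := H) s := by
        show GLin.coactAlgHom k H S (e.symm (e s)) = _
        rw [e.symm_apply_apply]; rfl
      have h1 : f₁ (e s) = s ⊗ₜ[k] (1 : H) := by
        show (e.symm (e s)) ⊗ₜ[k] (1 : H) = _
        rw [e.symm_apply_apply]
      have hmem : e s ∈ A.toSubring.map e.toRingHom ↔ s ∈ A := by
        constructor
        · rintro ⟨t, ht, hte⟩
          have := e.injective hte
          exact this ▸ ht
        · intro h; exact ⟨s, h, rfl⟩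
      rw [hmem, hA]
      constructor
      · intro h g hg g' hg'
        rcases hg with rfl | hg <;> rcases hg' with rfl | hg' <;>
          simp_all [Set.mem_singleton_iff]
      · intro h
        rw [← h0, ← h1]
        exact h f₀ (Or.inl rfl) f₁ (Or.inr rfl))
  exact ⟨κ, hκ, E, hE1, hE2, hE3, ⟨((A.toSubring.equivMapOfInjective e.toRingHom e.injective)).trans φ⟩⟩

end Groth.Agent.S11141
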