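import Groth.Statements.S11143
import Mathlib.CategoryTheory.Triangulated.TStructure.TruncLTGE

set_option autoImplicit false
universe v v' u u'
open CategoryTheory CategoryTheory.Triangulated Pretriangulated
open CohDer

set_option linter.unusedVariables false

namespace Groth.Agent.S11143


/-- Let S and T be pretriangulated categories carrying t-structures, F : S ⥤ T a triangulated functor
and G a right adjoint of F. Suppose F is way-out left: for some integer d, F carries objects of S
lying in degrees ≤ 0 to objects of T lying in degrees ≤ d. Then G is way-out right: G carries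
objects of T lying in degrees ≥ 0 to objects of S lying in degrees ≥ -d. -/
theorem result
    {S : Type u} [Category.{v} S] [Limits.HasZeroObject S] [Preadditive S] [HasShift S ℤ]
    [∀ n : ℤ, (shiftFunctor S n).Additive] [Pretriangulated S]
    {T : Type u'} [Category.{v'} T] [Limits.HasZeroObject T] [Preadditive T] [HasShift T ℤ]
    [∀ n : ℤ, (shiftFunctor T n).Additive] [Pretriangulated T]
    (tS : TStructure S) (tT : TStructure T) (F : S ⥤ T) [F.CommShift ℤ] [F.IsTriangulated]
    (G : T ⥤ S) (adj : F ⊣ G) (d : ℤ)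
    (hF : ∀ X : S, tS.IsLE X 0 → tT.IsLE (F.obj X) d) (Y : T) (hY : tT.IsGE Y 0) :
    tS.IsGE (G.obj Y) (-d) := by
  rw [tS.isGE_iff_isZero_truncLT_obj]
  have hle : tS.IsLE ((tS.truncLT (-d)).obj (G.obj Y)) (-d - 1) := inferInstance
  rw [Limits.IsZero.iff_id_eq_zero]
  apply tS.to_truncLT_obj_ext
  rw [Category.id_comp, Limits.zero_comp]
  apply (adj.homEquiv _ _).symm.injective
  rw [Adjunction.homEquiv_counit, Adjunction.homEquiv_counit, Functor.map_zero, Limits.zero_comp]
  have h1 : tS.IsLE (((tS.truncLT (-d)).obj (G.obj Y))⟦(-d - 1 : ℤ)⟧) 0 :=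
    tS.isLE_shift _ (-d - 1) (-d - 1) 0
  have h2 : tT.IsLE ((F.obj ((tS.truncLT (-d)).obj (G.obj Y)))⟦(-d - 1 : ℤ)⟧) d :=
    have := hF _ h1
    have : tT.IsLE ((shiftFunctor S (-d - 1 : ℤ) ⋙ F).obj ((tS.truncLT (-d)).obj (G.obj Y))) d := this
    tT.isLE_of_iso ((F.commShiftIso (-d - 1 : ℤ)).app _) d
  have h3 : tT.IsLE (F.obj ((tS.truncLT (-d)).obj (G.obj Y))) (-1) :=
    tT.isLE_of_shift _ (-1) (-d - 1) d
  exact tT.zero _ (-1) 0


end Groth.Agent.S11143
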