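import Groth.Statements.S11145
import Groth.Agent.Lib.BC8.CohShriek

set_option autoImplicit false
universe u
open CategoryTheory CategoryTheory.Limits AlgebraicGeometry
attribute [local instance] HasDerivedCategory.standard
open Dual3

namespace Groth.Agent.S11145


/-- Let S be a Noetherian scheme, X and Y schemes separated and of finite type over S and f : X → Y a
morphism over S; compute f^! through a compactification f = j ∘ p (j : X → X' an open immersion, p :
X' → Y proper, Rp_* on D_QCoh assumed to exist and to preserve quasi-coherence of cohomology, a a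
right adjoint of Rp_*, restriction of modules to opens assumed exact), so that f^!K = a(K)|_X. If K
in D_QCoh(O_Y) is bounded below and all its cohomology sheaves are coherent, then f^!K is bounded
below and all its cohomology sheaves are coherent. -/
theorem result (S X Y : Scheme.{u}) [IsNoetherian S] (p : X ⟶ S) (q : Y ⟶ S)
    [Dual3.IsSepFT p] [Dual3.IsSepFT q] (f : X ⟶ Y) (w : f ≫ q = p) (c : DEt.Compactification f)
    [DCoh.HasRpush c.fbar] (hc : DCoh.RpushPreservesQCoh c.fbar) (a : DCoh.DQCoh Y ⥤ DCoh.DQCoh c.Xbar)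
    (adj : DCoh.RpushQ c.fbar hc ⊣ a)
    [∀ (U V : Scheme.{u}) (j : U ⟶ V) [IsOpenImmersion j], PreservesFiniteLimits (Scheme.Modules.restrictFunctor j)]
    (K : DCoh.DQCoh Y) (b : ℤ) (hKb : ∀ i : ℤ, i < b → IsZero (DCoh.HD K.obj i))
    (hK : ∀ i : ℤ, Coh.IsCoh (DCoh.HD K.obj i)) :
    (∃ b' : ℤ, ∀ i : ℤ, i < b' → IsZero (DCoh.HD ((Dual3.shriekC c a).obj K) i)) ∧
      ∀ i : ℤ, Coh.IsCoh (DCoh.HD ((Dual3.shriekC c a).obj K) i) := by
  obtain ⟨hY, hX, hft⟩ := BC8.setup_noeth p q f w
  haveI := hY; haveI := hX; haveI := hft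
  have hKge : K.obj.IsGE b := (DerivedCategory.isGE_iff _ _).2 hKb
  obtain ⟨N, hN⟩ := BC8.exists_isGE_phiF c.fbar c.j a adj
  let e := (BC8.shriekIso c a).app K
  refine ⟨⟨b - N, fun i hi => ?_⟩, fun i => ?_⟩
  · haveI := hN K b hKge
    exact (DerivedCategory.isZero_of_isGE ((BC8.phiF c.j a).obj K) (b - N) i hi).of_iso
      ((DerivedCategory.homologyFunctor _ i).mapIso e)
  · exact BC8.isCoh_iso ((DerivedCategory.homologyFunctor _ i).mapIso e).symm
      (BC8.isCoh_HD_phiF f c.fbar c.j c.fac a adj K b hKge hK i)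


end Groth.Agent.S11145
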