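import Groth.Statements.S3623
import Groth.Agent.Lib.Goren15.LCI
import Groth.Agent.Lib.Goren15.Scheme
import Mathlib.AlgebraicGeometry.Noetherian
-- import your own Groth.Agent.* helpers here

set_option autoImplicit false
universe u
open CategoryTheory CategoryTheory.Limits AlgebraicGeometry
attribute [local instance] HasDerivedCategory.standard
open Dual3

namespace Groth.Agent.S3623

/-- Let f : Y → X be a local complete intersection morphism (affine-locally given by local complete
intersection ring maps) with X a Gorenstein scheme. Then Y is a Gorenstein scheme. -/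
theorem result (Y X : Scheme.{u}) (f : Y ⟶ X) (hf : Dual3.IsLCIMor f) (hX : Dual3.IsGorenstein X) : Dual3.IsGorenstein Y := by
  choose U V e hy hlci using hf
  haveI := hX.1
  have hA : ∀ W : X.affineOpens, LocCoh.IsGorensteinRing Γ(X, W.1) := fun W => by
    haveI : IsNoetherianRing Γ(X, W.1) := IsLocallyNoetherian.component_noetherian W
    refine ⟨fun p hp => ?_⟩
    have h1 := hX.2 (W.2.fromSpec ⟨p, hp⟩)
    exact ((Groth.Agent.Goren15.isGorensteinLocalRing_iff_of_ringEquiv
      (asIso (W.2.fromSpec.stalkMap ⟨p, hp⟩)).commRingCatIsoToRingEquiv).trans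
      (Groth.Agent.Goren15.isGorensteinLocalRing_iff_of_ringEquiv
        (Spec.stalkIso Γ(X, W.1) ⟨p, hp⟩).commRingCatIsoToRingEquiv)).1 h1
  have hB : ∀ y, LocCoh.IsGorensteinRing Γ(Y, (U y).1) := fun y => by
    letI := (f.appLE (V y).1 (U y).1 (e y)).hom.toAlgebra
    haveI := hA (V y)
    exact Groth.Agent.Goren15.isGorensteinRing_of_isLCI Γ(X, (V y).1) Γ(Y, (U y).1) (hlci y)
  refine ⟨isLocallyNoetherian_of_affine_cover (S := U) (eq_top_iff.2 fun y _ =>
    TopologicalSpace.Opens.mem_iSup.2 ⟨y, hy y⟩) fun y => haveI := hB y; inferInstance, fun y => ?_⟩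
  obtain ⟨p, hp⟩ : y ∈ Set.range (U y).2.fromSpec := (U y).2.range_fromSpec.ge (hy y)
  rw [← hp]
  have h1 := (hB y).isGorensteinLocalRing_localization p.asIdeal
  exact ((Groth.Agent.Goren15.isGorensteinLocalRing_iff_of_ringEquiv
    (asIso ((U y).2.fromSpec.stalkMap p)).commRingCatIsoToRingEquiv).trans
    (Groth.Agent.Goren15.isGorensteinLocalRing_iff_of_ringEquiv
      (Spec.stalkIso Γ(Y, (U y).1) p).commRingCatIsoToRingEquiv)).2 h1

end Groth.Agent.S3623
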