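import Groth.Statements.S11146
import Groth.Agent.S11138
import Groth.Agent.S9287
import Groth.Agent.S3623
import Groth.Agent.S0345
import Groth.Agent.Lib.TopDimLib.Basic
import Mathlib.RingTheory.KrullDimension.Polynomial
import Mathlib.RingTheory.Ideal.KrullsHeightTheorem
-- import your own Groth.Agent.* helpers here

set_option autoImplicit false
universe u
open CategoryTheory MonoidalCategory CartesianMonoidalCategory MonObj GrpObj AlgebraicGeometry
attribute [local instance] HasDerivedCategory.standard
open GrpSch

namespace Groth.Agent.S11146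

set_option linter.style.haveILetI false
set_option backward.isDefEq.respectTransparency.types false


/-- Group schemes over Gorenstein rings: let R be a Gorenstein local ring and G a group scheme over Spec
R which is flat and of finite type over Spec R. Then G is a Gorenstein scheme (locally Noetherian
with all local rings Gorenstein) and has finite Krull dimension. (The published statement concerns
every member of the diagram Spec R ← G ⇇ G ×_R G of the action groupoid, each of which is Spec R or
again a flat finite-type group scheme over Spec R, and adds that O_S[d], for S = Spec R and d the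
dimension of R, is then an equivariant dualizing complex; this row states the first assertion for
G.) -/
theorem result (R : Type u) [CommRing R]
    [LocCoh.IsGorensteinLocalRing R] (G : Over (Spec (CommRingCat.of R))) [GrpObj G] [Flat G.hom]
    [LocallyOfFiniteType G.hom] [QuasiCompact G.hom] :
    Dual3.IsGorenstein G.left ∧ topologicalKrullDim G.left < ⊤ := by
  haveI : IsNoetherianRing R := inferInstance
  haveI : IsNoetherianRing (CommRingCat.of R) := ‹_›
  have hRG : LocCoh.IsGorensteinRing R :=
    ((S0345.result R).1 LocCoh.IsGorensteinLocalRing.exists_hasInjectiveDimensionLT).1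
  have hX : Dual3.IsGorenstein (Spec (CommRingCat.of R)) := by
    refine ⟨inferInstance, fun p => ?_⟩
    exact (Goren15.isGorensteinLocalRing_iff_of_ringEquiv
      (Spec.stalkIso (CommRingCat.of R) p).commRingCatIsoToRingEquiv).2 (hRG.isGorensteinLocalRing_localization p.asIdeal)
  refine ⟨?_, ?_⟩
  · refine S3623.result G.left _ G.hom (fun x => ?_) hX
    obtain ⟨U, V, e, hx, h⟩ := S11138.result (Spec (CommRingCat.of R)) G x
    exact ⟨U, V, e, hx, letI := (G.hom.appLE V.1 U.1 e).hom.toAlgebra; ((S9287.result _ _).1 h).2⟩
  · haveI : CompactSpace G.left := QuasiCompact.compactSpace_of_compactSpace G.hom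
    obtain ⟨t, ht⟩ := CompactSpace.elim_nhds_subcover (fun x : G.left =>
      (((G.left.isBasis_affineOpens.exists_subset_of_mem_open (Set.mem_univ x) isOpen_univ).choose) : Set G.left))
      (fun x => by
        obtain ⟨⟨V, -, hV⟩, hx, -⟩ :=
          (G.left.isBasis_affineOpens.exists_subset_of_mem_open (Set.mem_univ x) isOpen_univ).choose_spec
        exact IsOpen.mem_nhds (hV ▸ V.2) hx)
    have hU : ∀ U : G.left.Opens, IsAffineOpen U → topologicalKrullDim (U : Set G.left) < ⊤ := by
      intro U hU
      have e1 := IsHomeomorph.topologicalKrullDim_eq _ hU.isoSpec.hom.homeomorph.isHomeomorph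
      refine lt_of_eq_of_lt (e1.trans (PrimeSpectrum.topologicalKrullDim_eq_ringKrullDim _)) ?_
      let φ := G.hom.appLE ⊤ U le_top
      have hφ : φ.hom.FiniteType := HasRingHomProperty.appLE (P := @LocallyOfFiniteType) _ ‹_›
        ⟨⊤, isAffineOpen_top _⟩ ⟨U, hU⟩ le_top
      letI := φ.hom.toAlgebra
      haveI : Algebra.FiniteType Γ(Spec (CommRingCat.of R), ⊤) Γ(G.left, U) := hφ
      obtain ⟨n, f, hf⟩ := Algebra.FiniteType.iff_quotient_mvPolynomial''.1 ‹_›
      haveI : IsNoetherianRing Γ(Spec (CommRingCat.of R), ⊤) :=
        IsLocallyNoetherian.component_noetherian ⟨⊤, isAffineOpen_top _⟩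
      refine lt_of_le_of_lt (ringKrullDim_le_of_surjective f.toRingHom hf) ?_
      rw [MvPolynomial.ringKrullDim_of_isNoetherianRing,
        ringKrullDim_eq_of_ringEquiv (Scheme.ΓSpecIso (CommRingCat.of R)).commRingCatIsoToRingEquiv]
      have hlt : ringKrullDim R < ⊤ := ringKrullDim_lt_top
      obtain ⟨d, hd⟩ : ∃ d : ℕ∞, ringKrullDim R = d := ⟨_, (WithBot.coe_unbot _ ringKrullDim_ne_bot).symm⟩
      rw [hd] at hlt
      obtain ⟨m, hm⟩ := ENat.ne_top_iff_exists.1 (fun h : d = ⊤ => by rw [h] at hlt; exact lt_irrefl _ hlt)
      rw [show ringKrullDim (CommRingCat.of R) = _ from hd, ← hm]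
      exact WithBot.coe_lt_coe.2 (ENat.coe_lt_top (m + Nat.card (Fin n)))
    obtain ⟨c, hc, hlt⟩ : ∃ c : WithBot ℕ∞, (∀ x ∈ t, topologicalKrullDim
        (((G.left.isBasis_affineOpens.exists_subset_of_mem_open (Set.mem_univ x) isOpen_univ).choose) : Set G.left)
          ≤ c) ∧ c < ⊤ := by
      refine ⟨t.sup fun x => topologicalKrullDim
        (((G.left.isBasis_affineOpens.exists_subset_of_mem_open (Set.mem_univ x) isOpen_univ).choose) : Set G.left),
        fun x hx => Finset.le_sup (f := fun x => topologicalKrullDim
          (((G.left.isBasis_affineOpens.exists_subset_of_mem_open (Set.mem_univ x) isOpen_univ).choose) : Set G.left)) hx,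
        (Finset.sup_lt_iff (bot_lt_top)).2 fun x _ => ?_⟩
      obtain ⟨⟨V, hV, hVeq⟩, -, -⟩ :=
        (G.left.isBasis_affineOpens.exists_subset_of_mem_open (Set.mem_univ x) isOpen_univ).choose_spec
      exact hVeq ▸ hU V hV
    refine lt_of_le_of_lt (TopDimLib.dim_le fun p => ?_) hlt
    obtain ⟨z, hz⟩ := p.head.isIrreducible.nonempty
    have hmem : z ∈ (⊤ : Set G.left) := Set.mem_univ z
    rw [← ht] at hmem
    obtain ⟨x, hx, hzx⟩ := Set.mem_iUnion₂.1 hmem
    obtain ⟨⟨V, -, hVeq⟩, -, -⟩ :=
      (G.left.isBasis_affineOpens.exists_subset_of_mem_open (Set.mem_univ x) isOpen_univ).choose_spec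
    exact (TopDimLib.length_le_open p (hVeq ▸ V.2) ⟨z, hz, hzx⟩).trans (hc x hx)

end Groth.Agent.S11146
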