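import Groth.Statements.S1115
import Groth.Agent.Lib.RHom.PCoh
-- import your own Groth.Agent.* helpers here

set_option autoImplicit false
universe u
open CategoryTheory CategoryTheory.Limits AlgebraicGeometry Opposite
attribute [local instance] HasDerivedCategory.standard
open Perf

namespace Groth.Agent.S1115

/-- Let X be a scheme, K a cochain complex of O_X-modules whose image in D(O_X) is pseudo-coherent, and
L ∈ D(O_X) bounded below with quasi-coherent cohomology sheaves. Assuming - ⊗^L K and RHom(K, -)
exist, RHom(K, L) has quasi-coherent cohomology sheaves. (The source adds that it is locally bounded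
below.) -/
theorem result (X : Scheme.{u}) (K : CochainComplex X.Modules ℤ) (hK : ∀ m : ℤ, DCoh.IsPseudoCoherentD m (DCoh.toD X K)) [DCoh.HasLTensorCx K] [DCoh.HasRSheafHom K]
    (L : DCoh.D X) (hL : DCoh.IsQCohD L) (a : ℤ) [L.IsGE a] : DCoh.IsQCohD ((DCoh.RSheafHom K).obj L) := by
  exact fun j => RHom.isQCoh_HD_rhom K L a (hK (a - j - 1)) hL j (by omega)

end Groth.Agent.S1115
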