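import Groth.Statements.S11153
import Groth.Agent.Lib.ExtVan.Basic
import Groth.Agent.Lib.ClassRes.Basic

set_option autoImplicit false
universe w v u
open CategoryTheory CategoryTheory.Limits
open CohDer

namespace Groth.Agent.S11153

open Groth.Agent


/-- (i) ⇔ (iii): let A be an abelian category with enough injectives and K a bounded below cochain
complex of objects of A. Then K admits a quasi-isomorphism into a bounded complex of injective
objects of A if and only if there is an integer n₀ such that Hom_{D(A)}(Y[0], K[i]) = 0 for every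
object Y of A and every i > n₀. -/
theorem result {A : Type u} [Category.{v} A] [Abelian A]
    [HasDerivedCategory.{w} A] [EnoughInjectives A]
    (K : CochainComplex A ℤ) (a : ℤ) [K.IsStrictlyGE a] :
    (∃ (I : CochainComplex A ℤ) (b c : ℤ) (f : K ⟶ I), I.IsStrictlyGE b ∧ I.IsStrictlyLE c ∧
        (∀ n : ℤ, Injective (I.X n)) ∧ QuasiIso f) ↔
      ∃ n₀ : ℤ, ∀ (Y : A) (i : ℤ), n₀ < i →
        ∀ φ : (DerivedCategory.singleFunctor A 0).obj Y ⟶ (DerivedCategory.Q.obj K)⟦i⟧, φ = 0 := by
  constructor
  · rintro ⟨I, b, c, f, hb, hc, hI, hf⟩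
    have := CochainComplex.isKInjective_of_injective I b
    refine ⟨c, fun Y i hi => ExtVan.vanish_of_iso (asIso (DerivedCategory.Q.map f)).symm
      (ExtVan.vanish_of_isZero (I.isZero_of_isStrictlyLE c i hi)) Y⟩
  · rintro ⟨n₀, h⟩
    obtain ⟨L, α, hL, hI, hα⟩ := ClassRes.exists_resolution (I := fun X : A => Injective X)
      ⟨_, isZero_zero A, inferInstance⟩
      (fun X => ⟨Injective.under X, Injective.ι X, inferInstance, inferInstance⟩) K a
    obtain ⟨J, g, hJ, hJ', hJI, hg⟩ := ExtVan.exists_truncation (I := L) a (max a n₀) hI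
      (le_max_left _ _) (fun i hi => ExtVan.vanish_of_iso (asIso (DerivedCategory.Q.map α))
        (fun Y φ => h Y i (lt_of_le_of_lt (le_max_right _ _) hi) φ))
    exact ⟨J, a, max a n₀, α ≫ g, hJ, hJ', hJI, inferInstance⟩


end Groth.Agent.S11153
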