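import Groth.Statements.S11157
import Groth.Agent.Lib.InjMod.Coprod

set_option autoImplicit false
universe u
open CategoryTheory CategoryTheory.Limits AlgebraicGeometry
open Coherent

namespace Groth.Agent.S11157

/-- On a locally Noetherian scheme X, any direct sum of injective O_X-modules (injective objects of the
category of all O_X-modules) is injective. -/
theorem result {X : Scheme.{u}} [IsLocallyNoetherian X]
    {ι : Type u} (I : ι → X.Modules) (hI : ∀ j, Injective (I j)) :
    Injective (∐ I) := by
  exact Groth.Agent.InjMod.injective_coproduct I hI

end Groth.Agent.S11157
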