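import Groth.Statements.S11159
import Mathlib
import Groth.Agent.Lib.KInj.Derived

set_option autoImplicit false
universe w v u
open CategoryTheory CategoryTheory.Limits CategoryTheory.Pretriangulated
open CohDer

namespace Groth.Agent.S11159


/-- Let A be an abelian category with enough injectives and X ⟶ Y ⟶ Z ⟶ X⟦1⟧ a distinguished triangle in
D(A). If X and Z are each isomorphic in D(A) to a bounded complex of injective objects of A, then so
is Y. -/
theorem result {A : Type u} [Category.{v} A] [Abelian A]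
    [HasDerivedCategory.{w} A] [EnoughInjectives A]
    (T : Triangle (DerivedCategory A)) (hT : T ∈ distTriang (DerivedCategory A))
    (h₁ : (∃ (I : CochainComplex A ℤ) (b c : ℤ), I.IsStrictlyGE b ∧ I.IsStrictlyLE c ∧
        (∀ n : ℤ, Injective (I.X n)) ∧ Nonempty (T.obj₁ ≅ DerivedCategory.Q.obj I)))
    (h₃ : (∃ (I : CochainComplex A ℤ) (b c : ℤ), I.IsStrictlyGE b ∧ I.IsStrictlyLE c ∧
        (∀ n : ℤ, Injective (I.X n)) ∧ Nonempty (T.obj₃ ≅ DerivedCategory.Q.obj I))) :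
    (∃ (I : CochainComplex A ℤ) (b c : ℤ), I.IsStrictlyGE b ∧ I.IsStrictlyLE c ∧
        (∀ n : ℤ, Injective (I.X n)) ∧ Nonempty (T.obj₂ ≅ DerivedCategory.Q.obj I)) := by
  obtain ⟨I₁, b₁, c₁, hb₁, hc₁, hI₁, ⟨e₁⟩⟩ := h₁
  obtain ⟨I₃, b₃, c₃, hb₃, hc₃, hI₃, ⟨e₃⟩⟩ := h₃
  haveI := hI₁
  haveI : I₁.IsKInjective := CochainComplex.isKInjective_of_injective I₁ b₁
  let K := I₃⟦(-1 : ℤ)⟧
  haveI : CochainComplex.IsStrictlyGE K (b₃ + 1) := I₃.isStrictlyGE_shift b₃ (-1) (b₃ + 1) (by omega)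
  haveI : CochainComplex.IsStrictlyLE K (c₃ + 1) := I₃.isStrictlyLE_shift c₃ (-1) (c₃ + 1) (by omega)
  let f₁ : T.invRotate.obj₁ ≅ DerivedCategory.Q.obj K :=
    (shiftFunctor _ (-1 : ℤ)).mapIso e₃ ≪≫ ((DerivedCategory.Q.commShiftIso (-1 : ℤ)).app I₃).symm
  obtain ⟨φ, hφ⟩ := Groth.Agent.KInjLib.exists_map_eq (f₁.inv ≫ T.invRotate.mor₁ ≫ e₁.hom)
  let iso := isoTriangleOfIso₁₂ _ _ (inv_rot_of_distTriang T hT)
    (DerivedCategory.mappingCone_triangle_distinguished φ) f₁ e₁ (by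
      change T.invRotate.mor₁ ≫ e₁.hom = f₁.hom ≫ DerivedCategory.Q.map φ
      rw [hφ, Iso.hom_inv_id_assoc])
  refine ⟨CochainComplex.mappingCone φ, min b₁ b₃, max c₁ c₃, ?_, ?_, fun n => ?_, ⟨Triangle.π₃.mapIso iso⟩⟩
  · refine CochainComplex.isStrictlyGE_iff _ _ |>.2 fun p hp => IsZero.of_iso ((biprod_isZero_iff _ _).2
      ⟨CochainComplex.isZero_of_isStrictlyGE K (b₃ + 1) (p + 1) (by omega),
        CochainComplex.isZero_of_isStrictlyGE I₁ b₁ p (by omega)⟩)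
      (HomologicalComplex.homotopyCofiber.XIsoBiprod φ p (p + 1) rfl)
  · refine CochainComplex.isStrictlyLE_iff _ _ |>.2 fun p hp => IsZero.of_iso ((biprod_isZero_iff _ _).2
      ⟨CochainComplex.isZero_of_isStrictlyLE K (c₃ + 1) (p + 1) (by omega),
        CochainComplex.isZero_of_isStrictlyLE I₁ c₁ p (by omega)⟩)
      (HomologicalComplex.homotopyCofiber.XIsoBiprod φ p (p + 1) rfl)
  · haveI : Injective (K.X (n + 1)) := hI₃ _
    exact Injective.of_iso (HomologicalComplex.homotopyCofiber.XIsoBiprod φ n (n + 1) rfl).symm inferInstance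


end Groth.Agent.S11159
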