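import Groth.Statements.S11160
import Groth.Agent.Lib.ClassRes.Basic
import Mathlib.Algebra.Homology.DerivedCategory.KInjective
import Mathlib.Algebra.Homology.DerivedCategory.ExactFunctor
import Mathlib.Algebra.Homology.HomotopyCategory.KInjective
import Mathlib.Algebra.Homology.DerivedCategory.TStructure

set_option autoImplicit false
universe w w' v v' u u'
open CategoryTheory CategoryTheory.Limits
open CohDer

namespace Groth.Agent.S11160

open CategoryTheory CategoryTheory.Limits

theorem injective_of_map {A' : Type u'} [Category.{v'} A'] {A : Type u} [Category.{v} A]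
    (ι : A' ⥤ A) [ι.PreservesMonomorphisms] [ι.Full] [ι.Faithful] {I : A'} (h : Injective (ι.obj I)) :
    Injective I :=
  ⟨fun g f hf => ⟨ι.preimage (Injective.factorThru (ι.map g) (ι.map f)),
    ι.map_injective (by rw [ι.map_comp, ι.map_preimage, Injective.comp_factorThru])⟩⟩


/-- Let ι : A' ⥤ A be an exact fully faithful functor of abelian categories whose essential image is
closed under extensions (a thick abelian subcategory), and suppose every object of A' admits a
monomorphism into an object of A' whose image in A is injective (A' has enough A-injectives). Then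
the induced triangulated functor D(A') ⥤ D(A) is fully faithful on cohomologically bounded below
objects. -/
theorem result {A' : Type u'} [Category.{v'} A'] [Abelian A'] [HasDerivedCategory.{w'} A']
    {A : Type u} [Category.{v} A] [Abelian A] [HasDerivedCategory.{w} A]
    (ι : A' ⥤ A) [ι.Additive] [PreservesFiniteLimits ι] [PreservesFiniteColimits ι] [ι.Full] [ι.Faithful]
    (hext : ∀ S : ShortComplex A, S.ShortExact → ι.essImage S.X₁ → ι.essImage S.X₃ → ι.essImage S.X₂)
    (hinj : ∀ X' : A', ∃ (Y' : A') (i : X' ⟶ Y'), Mono i ∧ Injective (ι.obj Y'))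
    (X Y : DerivedCategory A') (a b : ℤ) [X.IsGE a] [Y.IsGE b] :
    Function.Bijective (fun f : X ⟶ Y => ι.mapDerivedCategory.map f) := by
  obtain ⟨K, hK, ⟨eX⟩⟩ := DerivedCategory.exists_iso_Q_obj_of_isGE X a
  obtain ⟨L, hL, ⟨eY⟩⟩ := DerivedCategory.exists_iso_Q_obj_of_isGE Y b
  haveI := hL
  obtain ⟨Z, hZ⟩ := HasZeroObject.zero (C := A')
  have hI0 : ∃ Z : A', IsZero Z ∧ Injective (ι.obj Z) :=
    ⟨Z, hZ, IsZero.injective (ι.map_isZero hZ)⟩
  obtain ⟨I, α, hge, hinjI, hα⟩ := Groth.Agent.ClassRes.exists_resolution (I := fun M : A' => Injective (ι.obj M)) hI0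
    (fun M => by obtain ⟨Y', i, hi, hY'⟩ := hinj M; exact ⟨Y', i, hY', hi⟩) L b
  haveI := hge
  haveI := hα
  haveI : ∀ n, Injective (I.X n) := fun n => injective_of_map ι (hinjI n)
  haveI := CochainComplex.isKInjective_of_injective I b
  haveI : ∀ n, Injective (((ι.mapHomologicalComplex (ComplexShape.up ℤ)).obj I).X n) := hinjI
  haveI : CochainComplex.IsStrictlyGE ((ι.mapHomologicalComplex (ComplexShape.up ℤ)).obj I) b := inferInstance
  haveI := CochainComplex.isKInjective_of_injective ((ι.mapHomologicalComplex (ComplexShape.up ℤ)).obj I) b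
  let q' := HomotopyCategory.quotient A' (ComplexShape.up ℤ)
  let q := HomotopyCategory.quotient A (ComplexShape.up ℤ)
  let H := ι.mapHomotopyCategory (ComplexShape.up ℤ)
  haveI : IsIso (DerivedCategory.Q.map α) := (DerivedCategory.isIso_Q_map_iff_quasiIso (φ := α)).mpr hα
  let eY' : Y ≅ DerivedCategory.Qh.obj (q'.obj I) := eY ≪≫ @asIso _ _ _ _ (DerivedCategory.Q.map α) ((DerivedCategory.isIso_Q_map_iff_quasiIso (φ := α)).mpr hα)
  let eX' : X ≅ DerivedCategory.Qh.obj (q'.obj K) := eX
  have key : Function.Bijective (fun g : DerivedCategory.Qh.obj (q'.obj K) ⟶ DerivedCategory.Qh.obj (q'.obj I) =>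
      ι.mapDerivedCategory.map g) := by
    have h1 := CochainComplex.IsKInjective.Qh_map_bijective (q'.obj K) I
    haveI : CochainComplex.IsKInjective ((ι.mapHomologicalComplex (ComplexShape.up ℤ)).obj I) := inferInstance
    have h2 := CochainComplex.IsKInjective.Qh_map_bijective (H.obj (q'.obj K)) ((ι.mapHomologicalComplex (ComplexShape.up ℤ)).obj I)
    have h3 : Function.Bijective (fun f : q'.obj K ⟶ q'.obj I => H.map f) :=
      ⟨H.map_injective, H.map_surjective⟩
    let e := ι.mapDerivedCategoryFactorsh
    rw [← Function.Bijective.of_comp_iff _ h1]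
    have := (((e.app (q'.obj K)).homCongr (e.app (q'.obj I))).symm.bijective.comp (h2.comp h3))
    change Function.Bijective (fun f : q'.obj K ⟶ q'.obj I => (DerivedCategory.Qh ⋙ ι.mapDerivedCategory).map f)
    refine (funext fun f => ?_ : _ = (fun f : q'.obj K ⟶ q'.obj I => (DerivedCategory.Qh ⋙ ι.mapDerivedCategory).map f)) ▸ this
    show e.hom.app _ ≫ DerivedCategory.Qh.map (H.map f) ≫ e.inv.app _ = (DerivedCategory.Qh ⋙ ι.mapDerivedCategory).map f
    erw [← e.hom.naturality_assoc f]
    simp
  have hcomp := (((ι.mapDerivedCategory.mapIso eX').homCongr (ι.mapDerivedCategory.mapIso eY')).symm.bijective.comp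
    (key.comp (eX'.homCongr eY').bijective))
  convert hcomp using 1
  funext f
  simp [Iso.homCongr]


end Groth.Agent.S11160
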