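import Groth.Statements.S11161
import Groth.Agent.Lib.SubRes8.Dual
import Mathlib.Algebra.Homology.DerivedCategory.ExactFunctor
import Mathlib.Algebra.Homology.DerivedCategory.TStructure
import Mathlib.CategoryTheory.Limits.Preserves.Shapes.Kernels

set_option autoImplicit false
universe w w' v v' u u'
open CategoryTheory CategoryTheory.Limits
open CohDer

namespace Groth.Agent.S11161

open CategoryTheory CategoryTheory.Limits


/-- Let ι : A' ⥤ A be an exact fully faithful functor of abelian categories whose essential image is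
closed under extensions, and suppose every object of A' admits a monomorphism into an object of A'
whose image in A is injective. Then every object Z of D(A) with H^i(Z) = 0 for i < a and all
cohomology objects in the essential image of ι is isomorphic to the image under D(A') ⥤ D(A) of a
complex I of objects of A', zero in degrees < a, whose terms are injective in A. -/
theorem result {A' : Type u'} [Category.{v'} A'] [Abelian A'] [HasDerivedCategory.{w'} A']
    {A : Type u} [Category.{v} A] [Abelian A] [HasDerivedCategory.{w} A]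
    (ι : A' ⥤ A) [ι.Additive] [PreservesFiniteLimits ι] [PreservesFiniteColimits ι] [ι.Full] [ι.Faithful]
    (hext : ∀ S : ShortComplex A, S.ShortExact → ι.essImage S.X₁ → ι.essImage S.X₃ → ι.essImage S.X₂)
    (hinj : ∀ X' : A', ∃ (Y' : A') (i : X' ⟶ Y'), Mono i ∧ Injective (ι.obj Y'))
    (Z : DerivedCategory A) (a : ℤ) [Z.IsGE a]
    (hZ : ∀ i : ℤ, ι.essImage ((DerivedCategory.homologyFunctor A i).obj Z)) :
    ∃ (I : CochainComplex A' ℤ), I.IsStrictlyGE a ∧ (∀ n : ℤ, Injective (ι.obj (I.X n))) ∧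
      Nonempty (ι.mapDerivedCategory.obj (DerivedCategory.Q.obj I) ≅ Z) := by
  obtain ⟨K, hK, ⟨eZ⟩⟩ := DerivedCategory.exists_iso_Q_obj_of_isGE Z a
  haveI := hK
  have hH : ∀ i, ι.essImage (K.homology i) := fun i =>
    Functor.essImage.ofIso (((DerivedCategory.homologyFunctor A i).mapIso eZ) ≪≫
      (DerivedCategory.homologyFunctorFactors A i).app K) (hZ i)
  let J : A → Prop := fun Y => ∃ Y' : A', Injective (ι.obj Y') ∧ Nonempty (ι.obj Y' ≅ Y)
  obtain ⟨Z0, hZ0⟩ := HasZeroObject.zero (C := A')
  have h : Groth.Agent.SubRes8.Setup ι.essImage J :=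
    { iso := fun X Y e hX => Functor.essImage.ofIso e hX
      coker := fun X Y f hX hY => by
        obtain ⟨X', ⟨eX⟩⟩ := hX
        obtain ⟨Y', ⟨eY⟩⟩ := hY
        let g := ι.preimage (eX.hom ≫ f ≫ eY.inv)
        exact ⟨cokernel g, ⟨PreservesCokernel.iso ι g ≪≫ cokernel.mapIso (ι.map g) f eX eY
          (by simp [g])⟩⟩
      ext := hext
      le := fun X ⟨Y', _, hY'⟩ => ⟨Y', hY'⟩
      emb := fun Q' Q i hi hQ' => by
        haveI := hi
        obtain ⟨X', ⟨e⟩⟩ := hQ'
        obtain ⟨Y', j, hj, hY'⟩ := hinj X'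
        haveI := hj
        haveI := hY'
        haveI : Mono (ι.map j) := inferInstance
        refine ⟨ι.obj Y', Injective.factorThru (e.inv ≫ ι.map j) i, ⟨Y', hY', ⟨Iso.refl _⟩⟩, ?_⟩
        rw [Injective.comp_factorThru]
        infer_instance
      zero := ⟨ι.obj Z0, ι.map_isZero hZ0, Z0, IsZero.injective (ι.map_isZero hZ0), ⟨Iso.refl _⟩⟩ }
  obtain ⟨L, α, hge, hL, hα⟩ := Groth.Agent.SubRes8.exists_resolution_strict h K a hH
  obtain ⟨I, hI, ⟨eI⟩⟩ := Groth.Agent.SubRes8.exists_lift_complex ι L (fun M => Injective (ι.obj M)) hL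
  haveI : CochainComplex.IsStrictlyGE ((ι.mapHomologicalComplex (ComplexShape.up ℤ)).obj I) a :=
    CochainComplex.isStrictlyGE_of_iso eI.symm a
  refine ⟨I, Groth.Agent.SubRes8.isStrictlyGE_of_map ι I a, hI, ⟨?_⟩⟩
  exact ι.mapDerivedCategoryFactors.app I ≪≫ DerivedCategory.Q.mapIso eI ≪≫
    (@asIso _ _ _ _ (DerivedCategory.Q.map α) ((DerivedCategory.isIso_Q_map_iff_quasiIso (φ := α)).mpr hα)).symm ≪≫
    eZ.symm


end Groth.Agent.S11161
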