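import Groth.Statements.S11162
import Groth.Agent.Lib.LGShift8.Derived

set_option autoImplicit false
universe w w' v v' u u'
open CategoryTheory CategoryTheory.Limits
open CohDer

namespace Groth.Agent.S11162

set_option backward.isDefEq.respectTransparency false

open DerivedCategory (Q Qh quotientCompQhIso)

section
variable {A : Type u} [Category.{v} A] [Abelian A] [HasDerivedCategory.{w} A] [EnoughInjectives A]
  {B : Type u'} [Category.{v'} B] [Abelian B] [HasDerivedCategory.{w'} B]
  (F : A ⥤ B) [F.Additive] (RF : DerivedCategory A ⥤ DerivedCategory B)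

noncomputable def β₀ (α : F.mapHomotopyCategory (ComplexShape.up ℤ) ⋙ Qh ⟶ Qh ⋙ RF) :
    F.mapHomologicalComplex (ComplexShape.up ℤ) ⋙ Q ⟶ Q ⋙ RF :=
  Functor.whiskerLeft (F.mapHomologicalComplex (ComplexShape.up ℤ)) (quotientCompQhIso B).inv ≫
    Functor.whiskerRight (F.mapHomotopyCategoryFactors (ComplexShape.up ℤ)).inv Qh ≫
    Functor.whiskerLeft (HomotopyCategory.quotient A (ComplexShape.up ℤ)) α ≫
    Functor.whiskerRight (quotientCompQhIso A).hom RF

noncomputable def γ₀ (n : ℤ) (β : F.mapHomologicalComplex (ComplexShape.up ℤ) ⋙ Q ⟶ Q ⋙ RF) :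
    (F.mapHomologicalComplex (ComplexShape.up ℤ) ⋙ Q) ⋙ shiftFunctor (DerivedCategory B) n ⟶
      (Q ⋙ shiftFunctor (DerivedCategory A) n) ⋙ RF :=
  Functor.whiskerLeft (F.mapHomologicalComplex (ComplexShape.up ℤ)) ((Q : CochainComplex B ℤ ⥤ _).commShiftIso n).inv ≫
    Functor.whiskerRight ((F.mapHomologicalComplex (ComplexShape.up ℤ)).commShiftIso n).inv Q ≫
    Functor.whiskerLeft (shiftFunctor (CochainComplex A ℤ) n) β ≫
    Functor.whiskerRight ((Q : CochainComplex A ℤ ⥤ _).commShiftIso n).hom RF

noncomputable def γ (n : ℤ) (β : F.mapHomologicalComplex (ComplexShape.up ℤ) ⋙ Q ⟶ Q ⋙ RF) :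
    F.mapHomologicalComplex (ComplexShape.up ℤ) ⋙ Q ⟶
      Q ⋙ ((shiftFunctor (DerivedCategory A) n ⋙ RF) ⋙ shiftFunctor (DerivedCategory B) (-n)) where
  app K := (shiftFunctorCompIsoId (DerivedCategory B) n (-n) (add_neg_cancel n)).inv.app _ ≫
    ((γ₀ F RF n β).app K)⟦-n⟧'
  naturality K K' f := by
    refine ((shiftFunctorCompIsoId (DerivedCategory B) n (-n) (add_neg_cancel n)).inv.naturality_assoc
      ((F.mapHomologicalComplex (ComplexShape.up ℤ) ⋙ Q).map f) _).trans ?_
    refine (congrArg (_ ≫ ·) ?_).trans (Category.assoc _ _ _).symm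
    exact ((Functor.map_comp _ _ _).symm.trans (congrArg (fun z => z⟦-n⟧') ((γ₀ F RF n β).naturality f))).trans
      (Functor.map_comp _ _ _)

theorem isIso_γ_app (n : ℤ) (β : F.mapHomologicalComplex (ComplexShape.up ℤ) ⋙ Q ⟶ Q ⋙ RF)
    (K : CochainComplex A ℤ) (h : IsIso (β.app (K⟦n⟧))) : IsIso ((γ F RF n β).app K) := by
  dsimp [γ, γ₀]
  infer_instance

end


/-- Let A and B be abelian categories, A with enough injectives, F : A ⥤ B a left exact additive functor
of cohomological dimension ≤ n, P the class of objects X of A with RⁱF(X) = 0 for all i ≠ n, and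
suppose every object of A is a quotient of an object of P; put G = RⁿF. Then the total left derived
functor LG of G on the unbounded derived category D(A) (as a Kan extension along the localization
functor from cochain complexes) exists, and, writing RF for the total right derived functor of F on
D(A) (which exists for F of finite cohomological dimension; that existence is a separate statement
and is carried here as a binder), there is an isomorphism of functors RF ≅ LG⟦-n⟧. (The row takes F
left exact, the case of the applications; the published statement says only additive. The additivity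
binder on RⁿF always holds and is carried only because the instance is not registered.) -/
theorem result {A : Type u} [Category.{v} A] [Abelian A]
    [HasDerivedCategory.{w} A] [EnoughInjectives A]
    {B : Type u'} [Category.{v'} B] [Abelian B] [HasDerivedCategory.{w'} B]
    (F : A ⥤ B) [F.Additive] [PreservesFiniteLimits F] (n : ℕ) [(F.rightDerived n).Additive]
    (hdim : ∀ (X : A) (i : ℕ), n < i → IsZero ((F.rightDerived i).obj X))
    (hP : ∀ X : A, ∃ (Y : A) (p : Y ⟶ X), Epi p ∧ ∀ i : ℕ, i ≠ n → IsZero ((F.rightDerived i).obj Y)) :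
    ((F.rightDerived n).mapHomologicalComplex (ComplexShape.up ℤ) ⋙ DerivedCategory.Q).HasLeftDerivedFunctor
        (HomologicalComplex.quasiIso A (ComplexShape.up ℤ)) ∧
      ∀ [(F.mapHomologicalComplex (ComplexShape.up ℤ) ⋙ DerivedCategory.Q).HasRightDerivedFunctor
          (HomologicalComplex.quasiIso A (ComplexShape.up ℤ))]
        [((F.rightDerived n).mapHomologicalComplex (ComplexShape.up ℤ) ⋙ DerivedCategory.Q).HasLeftDerivedFunctor
          (HomologicalComplex.quasiIso A (ComplexShape.up ℤ))],
        Nonempty ((F.mapHomologicalComplex (ComplexShape.up ℤ) ⋙ DerivedCategory.Q).totalRightDerived DerivedCategory.Q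
            (HomologicalComplex.quasiIso A (ComplexShape.up ℤ)) ≅
          ((F.rightDerived n).mapHomologicalComplex (ComplexShape.up ℤ) ⋙ DerivedCategory.Q).totalLeftDerived
              DerivedCategory.Q (HomologicalComplex.quasiIso A (ComplexShape.up ℤ)) ⋙
            shiftFunctor (DerivedCategory B) (-(n : ℤ))) := by
  have hn' : ∀ X : A, IsZero ((F.rightDerived (n + 1)).obj X) := fun X => hdim X (n + 1) (by omega)
  have hA := Adapted8.isAdapted F hn'
  haveI := Adapted8.hasPointwiseRightDerivedFunctor hA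
  haveI : (F.mapHomotopyCategory (ComplexShape.up ℤ) ⋙ Qh).HasRightDerivedFunctor
      (HomotopyCategory.quasiIso A (ComplexShape.up ℤ)) := inferInstance
  let RF₀ := (F.mapHomotopyCategory (ComplexShape.up ℤ) ⋙ Qh).totalRightDerived Qh
    (HomotopyCategory.quasiIso A (ComplexShape.up ℤ))
  let β := β₀ F RF₀ ((F.mapHomotopyCategory (ComplexShape.up ℤ) ⋙ Qh).totalRightDerivedUnit Qh
    (HomotopyCategory.quasiIso A (ComplexShape.up ℤ)))
  have hβ : ∀ L : CochainComplex A ℤ, (∀ m, RFPlus.IsAcyclicObj F (L.X m)) → IsIso (β.app L) := fun L hL => by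
    haveI := Adapted8.isIso_app Qh hA RF₀ ((F.mapHomotopyCategory (ComplexShape.up ℤ) ⋙ Qh).totalRightDerivedUnit Qh
      (HomotopyCategory.quasiIso A (ComplexShape.up ℤ))) ((HomotopyCategory.quotient A (ComplexShape.up ℤ)).obj L) hL
    dsimp [β, β₀]
    infer_instance
  haveI hR : (shiftFunctor (DerivedCategory A) (n : ℤ) ⋙ RF₀).IsRightKanExtension (LGShift8.counit F n hdim RF₀ β hβ) :=
    Adapted8.isRightKanExtension_of (LGShift8.exists_leftRes F n hdim hP) _ _
      (LGShift8.isIso_counit_app F n hdim RF₀ β hβ)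
  haveI : ((shiftFunctor (DerivedCategory A) (n : ℤ) ⋙ RF₀) ⋙ shiftFunctor (DerivedCategory B) (-(n : ℤ))).IsLeftKanExtension
      (γ F RF₀ (n : ℤ) β) :=
    Adapted8.isLeftKanExtension_of (fun K => DimRes8.exists_resolution (DimRes8.grading (Adapted8.cogen_acyclic F)) K fun m =>
      ⟨m - (n + 1 : ℕ), fun j hj => ⟨n + 1, Adapted8.cdim_of_isZero F (n + 1) _
        fun i hi => hdim _ i (by omega), by omega⟩⟩) _ _
      fun L hL => isIso_γ_app F RF₀ _ β L (hβ _ fun m => hL _)
  refine ⟨(Functor.hasLeftDerivedFunctor_iff _ Q (HomologicalComplex.quasiIso A (ComplexShape.up ℤ))).2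
    (Functor.HasRightKanExtension.mk _ (LGShift8.counit F n hdim RF₀ β hβ)), ?_⟩
  intro _ _
  haveI := Functor.IsRightDerivedFunctor.isLeftKanExtension
    ((F.mapHomologicalComplex (ComplexShape.up ℤ) ⋙ Q).totalRightDerived Q (HomologicalComplex.quasiIso A (ComplexShape.up ℤ)))
    ((F.mapHomologicalComplex (ComplexShape.up ℤ) ⋙ Q).totalRightDerivedUnit Q (HomologicalComplex.quasiIso A (ComplexShape.up ℤ)))
    (HomologicalComplex.quasiIso A (ComplexShape.up ℤ))
  haveI := Functor.IsLeftDerivedFunctor.isRightKanExtension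
    (((F.rightDerived n).mapHomologicalComplex (ComplexShape.up ℤ) ⋙ Q).totalLeftDerived Q (HomologicalComplex.quasiIso A (ComplexShape.up ℤ)))
    (((F.rightDerived n).mapHomologicalComplex (ComplexShape.up ℤ) ⋙ Q).totalLeftDerivedCounit Q (HomologicalComplex.quasiIso A (ComplexShape.up ℤ)))
    (HomologicalComplex.quasiIso A (ComplexShape.up ℤ))
  exact ⟨Functor.leftKanExtensionUnique _
      ((F.mapHomologicalComplex (ComplexShape.up ℤ) ⋙ Q).totalRightDerivedUnit Q (HomologicalComplex.quasiIso A (ComplexShape.up ℤ)))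
      _ (γ F RF₀ (n : ℤ) β) ≪≫
    Functor.isoWhiskerRight (Functor.rightKanExtensionUnique _ (LGShift8.counit F n hdim RF₀ β hβ)
      _ (((F.rightDerived n).mapHomologicalComplex (ComplexShape.up ℤ) ⋙ Q).totalLeftDerivedCounit Q (HomologicalComplex.quasiIso A (ComplexShape.up ℤ))))
      (shiftFunctor (DerivedCategory B) (-(n : ℤ)))⟩


end Groth.Agent.S11162
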