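import Groth.Statements.S11163
import Groth.Agent.Lib.CohMop.InjCrit

set_option autoImplicit false
set_option backward.isDefEq.respectTransparency false
set_option backward.isDefEq.respectTransparency.types false
universe u
open CategoryTheory CategoryTheory.Limits AlgebraicGeometry
attribute [local instance] HasDerivedCategory.standard
open Coherent

namespace Groth.Agent.S11163

/-- (i) ⇔ (iv): let X be a locally Noetherian scheme and F a quasi-coherent O_X-module. Then F is an
injective O_X-module if and only if the sheaf Ext¹_{O_X}(G, F) (the first right derived functor of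
the sheaf-Hom functor Hom_{O_X}(G, -), here the right adjoint of G ⊗ -) vanishes for every coherent
O_X-module G. (The binders asserting that G ⊗ - has a right adjoint, that this adjoint is additive
and that O_X-modules have injective resolutions always hold.) -/
theorem result {X : Scheme.{u}} [IsLocallyNoetherian X]
    [HasInjectiveResolutions X.Modules] (F : X.Modules) (hF : Coh.IsQCoh F) :
    Injective F ↔ ∀ (G : X.Modules) [DCoh.HasSheafHom G] [(DCoh.sheafHom G).Additive],
      Coh.IsCoh G → IsZero (((DCoh.sheafHom G).rightDerived 1).obj F) := by
  constructor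
  · intro hI G _ _ _
    exact Functor.isZero_rightDerived_obj_injective_succ (DCoh.sheafHom G) 0 F
  · intro h
    refine Groth.Agent.CohMop.injective_of_isZero_extSheaf_one F hF fun G hG => ?_
    haveI : DCoh.HasSheafHom G :=
      ((Groth.Agent.CohMop.ihomAdj G).ofNatIsoLeft
        (Groth.Agent.KFlat.Site.flipObjIso (O := X.sheaf) G).symm).isLeftAdjoint
    haveI : (DCoh.sheafHom G).Additive := (DCoh.sheafHomAdj G).right_adjoint_additive
    haveI : (Groth.Agent.CohMop.ihom G).Additive := Groth.Agent.CohMop.additive_ihom G
    let e := ((Groth.Agent.CohMop.ihomAdj G).ofNatIsoLeft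
      (Groth.Agent.KFlat.Site.flipObjIso (O := X.sheaf) G).symm).rightAdjointUniq (DCoh.sheafHomAdj G)
    let e' : (Groth.Agent.CohMop.ihom G).rightDerived 1 ≅ (DCoh.sheafHom G).rightDerived 1 :=
      { hom := NatTrans.rightDerived e.hom 1
        inv := NatTrans.rightDerived e.inv 1
        hom_inv_id := by rw [← NatTrans.rightDerived_comp, Iso.hom_inv_id, NatTrans.rightDerived_id]
        inv_hom_id := by rw [← NatTrans.rightDerived_comp, Iso.inv_hom_id, NatTrans.rightDerived_id] }
    exact (h G hG).of_iso (e'.app F)

end Groth.Agent.S11163
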