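import Groth.Statements.S11165
import Groth.Agent.Lib.CohFound.AffMor
import Groth.Agent.Lib.CohFound.RpushHc
import Groth.Agent.Lib.ModM1.Local

set_option autoImplicit false
set_option backward.isDefEq.respectTransparency false
universe u
open CategoryTheory CategoryTheory.Limits AlgebraicGeometry
open Coherent

namespace Groth.Agent.S11165

/-- Let f : X ⟶ Y be a separated morphism of schemes, U an open of X on which f restricts to an affine
morphism, i : U ⟶ X the inclusion and F a quasi-coherent O_X-module. Then i_*(F|_U) is acyclic for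
f_*: its higher direct images R^j f_* vanish for j > 0. (The binder asserting injective resolutions
of O_X-modules always holds.) -/
theorem result {X Y : Scheme.{u}} (f : X ⟶ Y) [IsSeparated f]
    (U : X.Opens) [IsAffineHom (U.ι ≫ f)] (F : X.Modules) (hF : Coh.IsQCoh F)
    [HasInjectiveResolutions X.Modules] (j : ℕ) (hj : 0 < j) :
    IsZero ((Coh.Rpush f j).obj ((Scheme.Modules.pushforward U.ι).obj ((Scheme.Modules.restrictFunctor U.ι).obj F))) := by
  obtain ⟨q, rfl⟩ : ∃ q, j = q + 1 := ⟨j - 1, by omega⟩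
  haveI : IsAffineHom U.ι := IsAffineHom.of_comp U.ι f
  haveI : Coh.IsQCoh ((Scheme.Modules.restrictFunctor U.ι).obj F) :=
    Groth.Agent.M1.isQCoh_restrict hF U.ι
  let N := (Scheme.Modules.pushforward U.ι).obj ((Scheme.Modules.restrictFunctor U.ι).obj F)
  obtain ⟨e⟩ := Groth.Agent.CohFound.nonempty_abF_rpush_iso_shPre f N (q + 1)
  obtain ⟨e'⟩ := Groth.Agent.CohFound.nonempty_rpush_iso_shPre
    (f.base : Groth.Agent.CohFound.sp X ⟶ Groth.Agent.CohFound.sp Y)
    ((Groth.Agent.CohFound.abF _).obj N) (q + 1)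
  have hk : Groth.Agent.CohFound.LocKilled
      (f.base : Groth.Agent.CohFound.sp X ⟶ Groth.Agent.CohFound.sp Y) (q + 1)
      ((Groth.Agent.CohFound.abF _).obj N) := by
    intro V ξ y hy
    obtain ⟨_, ⟨W, hW, rfl⟩, hyW, hWV⟩ :=
      Y.isBasis_affineOpens.exists_subset_of_mem_open (SetLike.mem_coe.2 hy) V.2
    obtain ⟨ε⟩ := Groth.Agent.CohFound.nonempty_hc_push_isAffineHom U.ι
      ((Scheme.Modules.restrictFunctor U.ι).obj F) (q + 1) (f ⁻¹ᵁ W)
    have h1 := Groth.Agent.CohFound.subsingleton_hc_isAffineOpen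
      ((Scheme.Modules.restrictFunctor U.ι).obj F) (hW.preimage (U.ι ≫ f)) q
    have h2 := @Equiv.subsingleton _ _ ε.toEquiv h1
    exact ⟨W, hWV, hyW, @Subsingleton.elim (Groth.Agent.CohFound.Hc
      ((Groth.Agent.CohFound.abF X).obj N) (q + 1) (f ⁻¹ᵁ W)) h2 _ _⟩
  have h := ((Groth.Agent.CohFound.isZero_rpush_succ_iff _ q _).2 hk).of_iso (e ≪≫ e'.symm)
  rw [IsZero.iff_id_eq_zero] at h ⊢
  refine (Groth.Agent.CohFound.abF Y).map_injective ?_
  rw [CategoryTheory.Functor.map_id]
  exact h.trans (Functor.map_zero _ _ _).symm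

end Groth.Agent.S11165
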