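import Groth.Statements.S11166
import Groth.Agent.Lib.QCN9.Plus
-- import your own Groth.Agent.* helpers here

set_option autoImplicit false
set_option linter.style.haveILetI false
set_option backward.isDefEq.respectTransparency false
universe u
open CategoryTheory CategoryTheory.Limits AlgebraicGeometry
attribute [local instance] HasDerivedCategory.standard
open Coherent

namespace Groth.Agent.S11166

/-- For a locally Noetherian scheme X the natural functor D⁺(QCoh(X)) ⥤ D⁺_qc(O_X) is an equivalence:
granting that quasi-coherent modules form an abelian full subcategory of all O_X-modules with exact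
inclusion (instance hypotheses that always hold), the induced functor D(QCoh(X)) ⥤ D(O_X) is fully
faithful on cohomologically bounded below objects, and every object of D(O_X) with Hⁱ = 0 for i < a
and quasi-coherent cohomology sheaves is isomorphic to the image of an object of D(QCoh(X)) with Hⁱ
= 0 for i < a. -/
theorem result (X : Scheme.{u}) [IsLocallyNoetherian X]
    [ObjectProperty.ContainsZero (fun M : X.Modules => Coh.IsQCoh M)] [ObjectProperty.IsClosedUnderKernels (fun M : X.Modules => Coh.IsQCoh M)]
    [ObjectProperty.IsClosedUnderCokernels (fun M : X.Modules => Coh.IsQCoh M)] [ObjectProperty.IsClosedUnderFiniteProducts (fun M : X.Modules => Coh.IsQCoh M)]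
    [PreservesFiniteLimits (ObjectProperty.ι (fun M : X.Modules => Coh.IsQCoh M))] [PreservesFiniteColimits (ObjectProperty.ι (fun M : X.Modules => Coh.IsQCoh M))] :
    (∀ (M N : DerivedCategory (ObjectProperty.FullSubcategory (fun M : X.Modules => Coh.IsQCoh M))) (a b : ℤ), M.IsGE a → N.IsGE b →
        Function.Bijective (fun f : M ⟶ N => (ObjectProperty.ι (fun M : X.Modules => Coh.IsQCoh M)).mapDerivedCategory.map f)) ∧
      ∀ (K : DCoh.D X) (a : ℤ), K.IsGE a → DCoh.IsQCohD K →
        ∃ M : DerivedCategory (ObjectProperty.FullSubcategory (fun M : X.Modules => Coh.IsQCoh M)), M.IsGE a ∧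
          Nonempty ((ObjectProperty.ι (fun M : X.Modules => Coh.IsQCoh M)).mapDerivedCategory.obj M ≅ K) := by
  refine ⟨fun M N a b _ hN => @QCN9.bijective_map_of_isGE X _ M N b hN, fun K a hKa hK => ?_⟩
  exact @QCN9.exists_Φ_iso_of_isGE X _ K a hKa hK

end Groth.Agent.S11166
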