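import Groth.Statements.S11168
import Groth.Agent.Lib.DimRes8.Coresolution

set_option autoImplicit false
universe v u
open CategoryTheory CategoryTheory.Limits
open CohDer

namespace Groth.Agent.S11168

set_option backward.isDefEq.respectTransparency false

open Groth.Agent.DimRes8 ZeroObject


/-- Let A be an abelian category and P a class of objects of A such that (i) every object admits a
monomorphism into an object of P; (ii) in a short exact sequence 0 → X → Y → Z → 0 with X in P, Y
lies in P if and only if Z does; (iii) for some n ≥ 1, whenever X⁰ → X¹ → ⋯ → Xⁿ → 0 is exact (a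
cochain complex indexed by ℕ, exact in degrees 1, …, n, zero beyond degree n, with surjective last
differential) and X⁰, …, Xⁿ⁻¹ lie in P, then Xⁿ lies in P. Then every cochain complex of objects of
A admits a quasi-isomorphism into a cochain complex whose terms all lie in P. -/
theorem result {A : Type u} [Category.{v} A] [Abelian A]
    (P : ObjectProperty A)
    (h1 : ∀ X : A, ∃ (Y : A) (i : X ⟶ Y), P Y ∧ Mono i)
    (h2 : ∀ S : ShortComplex A, S.ShortExact → P S.X₁ → (P S.X₂ ↔ P S.X₃))
    (n : ℕ) (hn : 1 ≤ n)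
    (h3 : ∀ K : CochainComplex A ℕ, (∀ i : ℕ, 1 ≤ i → i ≤ n → K.ExactAt i) → (∀ i : ℕ, n < i → IsZero (K.X i)) →
      Epi (K.d (n - 1) n) → (∀ i : ℕ, i < n → P (K.X i)) → P (K.X n))
    (X : CochainComplex A ℤ) :
    ∃ (I : CochainComplex A ℤ) (f : X ⟶ I), QuasiIso f ∧ ∀ k : ℤ, P (I.X k) := by
  have hiso : ∀ {X Y : A}, (X ≅ Y) → P X → P Y := fun {X Y} e hX => by
    obtain ⟨Z, j, hZ, hj⟩ := h1 (0 : A)
    have h0 : P (0 : A) :=
      (h2 (ShortComplex.mk (𝟙 Z) (0 : Z ⟶ (0 : A)) comp_zero)
        { exact := ShortComplex.exact_of_g_is_cokernel _ (CokernelCofork.IsColimit.ofπ' _ comp_zero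
            fun {T} k hk => ⟨0, by simpa using hk.symm⟩)
          epi_g := (isZero_zero A).epi _ } hZ).1 hZ
    exact ((h2 (ShortComplex.mk (0 : (0 : A) ⟶ Y) (𝟙 Y) zero_comp)
      (ShortComplex.Splitting.shortExact { r := 0, s := 𝟙 Y, f_r := (isZero_zero A).eq_of_src _ _ })
      h0).1 ((h2 (ShortComplex.mk (0 : (0 : A) ⟶ Y) e.inv zero_comp)
      (ShortComplex.Splitting.shortExact { r := 0, s := e.hom, f_r := (isZero_zero A).eq_of_src _ _ }) h0).2 hX))
  have hP : Cogen (fun X : A => P X) := ⟨hiso, h1, h2⟩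
  suffices hdim : ∀ X₀ : A, CDim (fun X : A => P X) n X₀ by
    obtain ⟨L, f, hf, hL⟩ := exists_resolution (grading hP) X
      (fun m => ⟨m - n, fun j hj => ⟨n, hdim _, by omega⟩⟩)
    exact ⟨L, f, hf, hL⟩
  intro X₀
  classical
  choose E ι hE hι using h1
  let W : ℕ → A → A := fun i Z => if i < n then E Z else Z
  let w : ∀ (i : ℕ) (Z : A), Z ⟶ W i Z := fun i Z =>
    if h : i < n then ι Z ≫ eqToHom (by simp [W, h]) else eqToHom (by simp [W, h])
  haveI hw : ∀ i Z, Mono (w i Z) := fun i Z => by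
    haveI := hι Z
    by_cases h : i < n <;> simp [w, h] <;> infer_instance
  let Xs : ℕ → A := fun i => Nat.rec (motive := fun _ => A) X₀ (fun i Z => cokernel (w i Z)) i
  let d : ∀ i, W i (Xs i) ⟶ W (i + 1) (Xs (i + 1)) := fun i => cokernel.π (w i (Xs i)) ≫ w (i + 1) (Xs (i + 1))
  let C : CochainComplex A ℕ := CochainComplex.of (fun i => W i (Xs i)) d (fun i => by
    show (_ ≫ _) ≫ cokernel.π (w (i + 1) (Xs (i + 1))) ≫ _ = 0
    simp)
  have hlast : ∀ i, n ≤ i → IsIso (w i (Xs i)) := fun i hi => by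
    simp only [w, dif_neg (show ¬ i < n by omega)]; infer_instance
  have hzero : ∀ i, n < i → IsZero (Xs i) := fun i hi => by
    obtain ⟨k, rfl⟩ : ∃ k, i = k + 1 := ⟨i - 1, by omega⟩
    haveI := hlast k (by omega)
    exact isZero_cokernel_of_epi (w k (Xs k))
  have hC : P (C.X n) := by
    refine h3 C (fun i hi1 hin => ?_) (fun i hi => ?_) ?_ (fun i hi => ?_)
    · obtain ⟨k, rfl⟩ : ∃ k, i = k + 1 := ⟨i - 1, by omega⟩
      rw [HomologicalComplex.exactAt_iff' _ k (k + 1) (k + 1 + 1) (by simp) (by simp)]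
      have hd : ∀ l, C.d l (l + 1) = d l := fun l => CochainComplex.of_d (fun i => W i (Xs i)) d l
      have ex : (ShortComplex.mk (w (k + 1) (Xs (k + 1))) (cokernel.π (w (k + 1) (Xs (k + 1))))
          (cokernel.condition _)).Exact := ShortComplex.exact_cokernel _
      rw [ShortComplex.exact_iff_exact_up_to_refinements]
      intro T x hx
      have hx' : x ≫ cokernel.π (w (k + 1) (Xs (k + 1))) = 0 := by
        haveI := hw (k + 1 + 1) (Xs (k + 1 + 1))
        rw [← cancel_mono (w (k + 1 + 1) (Xs (k + 1 + 1))), zero_comp, Category.assoc]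
        exact ((congrArg (x ≫ ·) (hd (k + 1))).symm.trans hx : x ≫ d (k + 1) = 0)
      obtain ⟨T₁, π₁, hπ₁, y, hy⟩ := ex.exact_up_to_refinements x hx'
      obtain ⟨T₂, π₂, hπ₂, z, hz⟩ := surjective_up_to_refinements_of_epi (cokernel.π (w k (Xs k))) y
      refine ⟨T₂, π₂ ≫ π₁, inferInstance, z, ?_⟩
      show _ = z ≫ C.d k (k + 1)
      rw [hd k, Category.assoc, hy, reassoc_of% hz]
    · haveI := hlast i (by omega)
      exact (hzero i hi).of_iso (asIso (w i (Xs i))).symm
    · obtain ⟨k, rfl⟩ : ∃ k, n = k + 1 := ⟨n - 1, by omega⟩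
      rw [Nat.add_sub_cancel, show C.d k (k + 1) = d k from CochainComplex.of_d (fun i => W i (Xs i)) d k]
      haveI := hlast (k + 1) le_rfl
      infer_instance
    · exact hiso (eqToIso (if_pos hi).symm) (hE (Xs i))
  have key : ∀ k i, i + k = n → CDim (fun X : A => P X) k (Xs i) := by
    intro k
    induction k with
    | zero =>
      intro i hi
      obtain rfl : i = n := by omega
      haveI := hlast i le_rfl
      exact hiso (asIso (w i (Xs i))).symm hC
    | succ k ih =>
      intro i hi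
      haveI := hw i (Xs i)
      exact cdim_mk hP k (w i (Xs i)) (hiso (eqToIso (by simp [W, show i < n by omega])) (hE (Xs i))) (ih (i + 1) (by omega))
  exact key n 0 (by omega)


end Groth.Agent.S11168
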