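import Groth.Statements.S1117
import Groth.Agent.Lib.TwistBC9.Perfect
import Groth.Agent.S1061

set_option autoImplicit false
set_option linter.style.haveILetI false
set_option backward.isDefEq.respectTransparency false
set_option linter.style.haveILetI false
set_option backward.isDefEq.respectTransparency false
universe u
open CategoryTheory CategoryTheory.Limits AlgebraicGeometry Opposite
attribute [local instance] HasDerivedCategory.standard
open Perf

namespace Groth.Agent.S1117

/-- In the case of a single module: let S be Noetherian, f : X ⟶ S locally of finite type, E a cochain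
complex of O_X-modules whose image in D(O_X) is perfect, and G a coherent O_X-module flat over S
with support proper over S. Assuming the derived functors exist, Rf_* RHom(E, G) is a perfect object
of D(O_S). (The source allows a bounded complex of such modules G.) -/
theorem result {X S : Scheme.{u}} [IsNoetherian S] (f : X ⟶ S) [LocallyOfFiniteType f]
    (E : CochainComplex X.Modules ℤ) (hE : DCoh.IsPerfect (DCoh.toD X E)) [DCoh.HasLTensorCx E] [DCoh.HasRSheafHom E] [DCoh.HasRpush f]
    (G : X.Modules) (hG : Coh.IsCoh G) (hflat : FlatMod.IsFlatOver f G) (hsupp : ClSub.IsProperOver f (CohB1.support G)) :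
    DCoh.IsPerfect ((DCoh.Rpush f).obj ((DCoh.RSheafHom E).obj (DCoh.inD X G))) := by
  obtain ⟨E', hE', ⟨e⟩⟩ := TwistBC9.exists_rhom_iso E hE G
  haveI := KFlat.Sch.hasLTensorMod G
  obtain ⟨a⟩ := TwistBC9.nonempty_ltensorMod_iso G E'
  exact DGen9.isPerfect_of_iso ((DCoh.Rpush f).mapIso (e ≪≫ a.symm)).symm (S1061.result f E' hE' G hG hflat hsupp)

end Groth.Agent.S1117
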