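import Groth.Statements.S11170
import Groth.Agent.Lib.FlatBC10.ProjCoef
import Groth.Agent.Lib.AcyclicSum8.Sum
import Groth.Agent.Lib.TensorMod.QCohTensor
import Groth.Agent.Lib.TensorMod.PullTensor
import Groth.Agent.S0800
import Groth.Agent.Lib.RFPlus.DerivedZero
-- import your own Groth.Agent.* helpers here

set_option autoImplicit false
universe u
open CategoryTheory CategoryTheory.Limits AlgebraicGeometry
open Coherent

namespace Groth.Agent.S11170

open TopologicalSpace Groth.Agent.CohFound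

/-- Vanishing for one summand over an affine open of the base. -/
theorem subsingleton_hc_summand (Y : Scheme.{u}) (r : ℕ) (i : ℕ) (hi : i ≠ r) (G : Y.Modules) (hG : Coh.IsQCoh G)
    (d : ℤ) (hd : d < 0) {W : Y.Opens} (hW : IsAffineOpen W) :
    Subsingleton (Hc ((abF _).obj (CohB1.tensorMod ((Scheme.Modules.pullback (CohB1.ProjSpaceOver.toBase r Y)).obj G)
      (_root_.Twist.twistOver r Y d))) i (CohB1.ProjSpaceOver.toBase r Y ⁻¹ᵁ W)) := by
  let R := Γ(Y, W)
  let j : CohB1.ProjSpace r R ⟶ CohB1.ProjSpaceOver r Y :=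
    (ProjSpace.overSpecIso r R).hom ≫ ProjSpace.overMap r hW.fromSpec
  have H := ProjSpace.isPullback_overMap r hW.fromSpec
  have : IsOpenImmersion (ProjSpace.overMap r hW.fromSpec) :=
    MorphismProperty.of_isPullback H.flip inferInstance
  have : IsOpenImmersion j := inferInstance
  have hrange : j ''ᵁ ⊤ = CohB1.ProjSpaceOver.toBase r Y ⁻¹ᵁ W := by
    rw [Scheme.Hom.image_top_eq_opensRange]
    apply Opens.ext
    change Set.range j.base = CohB1.ProjSpaceOver.toBase r Y ⁻¹' (W : Set Y)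
    rw [← hW.range_fromSpec, ← Scheme.Pullback.range_fst (f := CohB1.ProjSpaceOver.toBase r Y) (g := hW.fromSpec)]
    have hj : j = ((ProjSpace.overSpecIso r R).hom ≫ H.isoPullback.hom) ≫
        pullback.fst (CohB1.ProjSpaceOver.toBase r Y) hW.fromSpec := by
      rw [Category.assoc, IsPullback.isoPullback_hom_fst]
    rw [hj, Scheme.Hom.comp_base, TopCat.coe_comp, Set.range_comp,
      Set.range_eq_univ.2 (Scheme.Hom.surjective _), Set.image_univ]
  let T := CohB1.tensorMod ((Scheme.Modules.pullback (CohB1.ProjSpaceOver.toBase r Y)).obj G)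
      (_root_.Twist.twistOver r Y d)
  obtain ⟨e⟩ := nonempty_hc_abF_restrict j T i ⊤
  obtain ⟨e'⟩ := nonempty_pullback_twistProjSpace r (ProjSpace.fromZ R) d
  have hfst : j ≫ pullback.fst (CohB1.ProjSpace.toSpec r (ULift.{u} ℤ)) (specULiftZIsTerminal.from Y) =
      ProjSpace.map r (ProjSpace.fromZ R) := by
    rw [← ProjSpace.overSpecIso_hom_fst r R]
    exact (Category.assoc _ _ _).trans (congrArg _ ((pullback.lift_fst _ _ _).trans (Category.comp_id _)))
  have hsnd : j ≫ CohB1.ProjSpaceOver.toBase r Y = CohB1.ProjSpace.toSpec r R ≫ hW.fromSpec := by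
    exact (Category.assoc _ _ _).trans ((congrArg _ H.w).trans
      (ProjSpace.overSpecIso_hom_toBase_assoc r R hW.fromSpec))
  let G' := (Scheme.Modules.pullback hW.fromSpec).obj G
  haveI := @Scheme.Modules.isIso_fromTildeΓ_of_isQuasicoherent R G' (M1.isQCoh_pullback hW.fromSpec hG)
  let eG : (Scheme.Modules.pullback j).obj ((Scheme.Modules.pullback (CohB1.ProjSpaceOver.toBase r Y)).obj G) ≅
      (Scheme.Modules.pullback (CohB1.ProjSpace.toSpec r R)).obj (tilde (moduleSpecΓFunctor.obj G')) :=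
    (Scheme.Modules.pullbackComp j _).app _ ≪≫ (Scheme.Modules.pullbackCongr hsnd).app _ ≪≫
      ((Scheme.Modules.pullbackComp _ _).app _).symm ≪≫
      (Scheme.Modules.pullback (CohB1.ProjSpace.toSpec r R)).mapIso (asIso G'.fromTildeΓ).symm
  let eO : (Scheme.Modules.pullback j).obj (_root_.Twist.twistOver r Y d) ≅ _root_.Twist.twistProjSpace r R d :=
    (Scheme.Modules.pullbackComp j _).app _ ≪≫ (Scheme.Modules.pullbackCongr hfst).app _ ≪≫ e'
  let E : T.restrict j ≅ CohIII.tensorA R (_root_.Twist.twistProjSpace r R d) (moduleSpecΓFunctor.obj G') :=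
    (Scheme.Modules.restrictFunctorIsoPullback j).app _ ≪≫ M2.pullTensorIso j _ _ ≪≫
      M2.tensorIso eG eO ≪≫ M2.tensorComm _ _
  rw [hrange] at e
  refine @Equiv.subsingleton _ _ e.toEquiv.symm ?_
  refine subsingleton_hc_of_iso E.symm i ⊤ ?_
  exact @Equiv.subsingleton _ _ (hhExt _ i).toEquiv.symm
    (FlatBC10.subsingleton_HH_tensorA_twist r R (moduleSpecΓFunctor.obj G') hd i hi)

/-- Vanishing for one summand. -/
theorem isZero_summand (Y : Scheme.{u}) (r : ℕ) (i : ℕ) (hi : i ≠ r) (G : Y.Modules) (hG : Coh.IsQCoh G)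
    (d : ℤ) (hd : d < 0) :
    IsZero ((Coh.RpushAb (CohB1.ProjSpaceOver.toBase r Y) i).obj (Coh.toAb
      (CohB1.tensorMod ((Scheme.Modules.pullback (CohB1.ProjSpaceOver.toBase r Y)).obj G)
        (_root_.Twist.twistOver r Y d)))) := by
  refine isZero_of_subsingleton_basis _ (fun U => IsAffineOpen (X := Y) U) (fun W y hy => ?_) fun U hU => ?_
  · obtain ⟨V, hV, hyV, hVW⟩ := exists_isAffineOpen_mem_and_subset (X := Y) (x := y) (U := W) hy
    exact ⟨V, hV, hyV, hVW⟩
  · obtain ⟨e⟩ := nonempty_sections_rpushAb (CohB1.ProjSpaceOver.toBase r Y)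
      (M2.isQCoh_tensor (M1.isQCoh_pullback _ hG) (Twist.isQCoh_twistOver r Y d)) i hU
    exact @Equiv.subsingleton _ _ e.toEquiv (subsingleton_hc_summand Y r i hi G hG d hd hU)

/-- Let Y be a locally Noetherian scheme, f : P^n_Y ⟶ Y the projection, G_j quasi-coherent O_Y-modules
and m_j > 0. Then the direct sum L = ∐_j f^*(G_j) ⊗ O(-m_j) has R^i f_*(L) = 0 (higher direct images
of the underlying abelian sheaf) for every i ≠ n. -/
theorem result (Y : Scheme.{u}) [IsLocallyNoetherian Y]
    (n : ℕ) {ι : Type u} (G : ι → Y.Modules) (hG : ∀ j, Coh.IsQCoh (G j)) (m : ι → ℕ) (hm : ∀ j, 0 < m j)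
    (i : ℕ) (hi : i ≠ n) :
    IsZero ((Coh.RpushAb (CohB1.ProjSpaceOver.toBase n Y) i).obj (Coh.toAb
      (∐ fun j => CohB1.tensorMod ((Scheme.Modules.pullback (CohB1.ProjSpaceOver.toBase n Y)).obj (G j))
        (Twist.twistOver n Y (-((m j : ℕ) : ℤ)))))) := by
  let f := CohB1.ProjSpaceOver.toBase n Y
  let F := fun j => CohB1.tensorMod ((Scheme.Modules.pullback f).obj (G j))
    (Twist.twistOver n Y (-((m j : ℕ) : ℤ)))
  haveI : IsProper f := ProjSpace.isProper_toBase n Y
  have hsum : ∀ j, IsZero ((Coh.RpushAb f i).obj (Coh.toAb (F j))) := fun j =>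
    isZero_summand Y n i hi (G j) (hG j) _ (by have := hm j; omega)
  let T : (CohB1.ProjSpaceOver n Y).Modules ⥤ _ :=
    SheafOfModules.toSheaf (CohB1.ProjSpaceOver n Y).ringCatSheaf
  haveI hT : PreservesColimitsOfShape (Finset (Discrete ι)) T :=
    preservesColimitsOfShape_sheafOfModules_toSheaf (CohB1.ProjSpaceOver n Y).ringCatSheaf _
  haveI : T.Additive :=
    inferInstanceAs (SheafOfModules.toSheaf (CohB1.ProjSpaceOver n Y).ringCatSheaf).Additive
  haveI : (Coh.RpushAb f i).Additive := RFPlus.rightDerived_additive (Coh.pushAb f) i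
  haveI hR : PreservesColimitsOfShape (Finset (Discrete ι)) (Coh.RpushAb f i) :=
    S0800.result f i (Finset (Discrete ι))
  haveI : (T ⋙ Coh.RpushAb f i).Additive := inferInstance
  haveI : PreservesColimitsOfShape (Finset (Discrete ι)) (T ⋙ Coh.RpushAb f i) := inferInstance
  haveI := AcyclicSum8.preservesColimit_discrete (T ⋙ Coh.RpushAb f i) F
  have hc := isColimitOfPreserves (T ⋙ Coh.RpushAb f i) (colimit.isColimit (Discrete.functor F))
  rw [IsZero.iff_id_eq_zero]
  refine hc.hom_ext fun j => ?_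
  exact (hsum j.as).eq_of_src _ _

end Groth.Agent.S11170
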