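import Groth.Statements.S11178
import Groth.Agent.Lib.TorInj9.Main

set_option autoImplicit false
universe u
open CategoryTheory
attribute [local instance] HasDerivedCategory.standard
open Dual

namespace Groth.Agent.S11178

/-- The affine form: let A be a Noetherian ring with a dualizing complex ω, and G a cochain complex of
A-modules whose cohomology modules are finite and vanish outside a bounded range of degrees, with
RHom_A(G, −) existing as a total right derived functor. Then G has finite Tor-dimension (G is
isomorphic in D(A) to a bounded complex of flat modules) if and only if RHom_A(G, ω) has finite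
injective dimension (is isomorphic in D(A) to a bounded complex of injective modules). -/
theorem result (A : Type u) [CommRing A] [IsNoetherianRing A] (ω : Dual.D A) (hω : Dual.IsDualizing A ω) (G : DRing.Cx A) [DRing.HasRHomCx G] (hfin : ∀ i : ℤ, Module.Finite A (Dual.HD A (DRing.toD G) i)) (hbdd : ∃ a b : ℤ, ∀ i : ℤ, (i < a ∨ b < i) → Subsingleton (Dual.HD A (DRing.toD G) i)) : DRing.HasFiniteTorDimCx A (DRing.toD G) ↔ DRing.HasFiniteInjDim A ((DRing.RHomCx G).obj ω) := by
  exact TorInj9.main hω G hfin

end Groth.Agent.S11178
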