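import Groth.Statements.S11180
import Groth.Statements.S13132
import Groth.Statements.S13133
import Groth.Statements.S14434
import Groth.Statements.S12078
import Groth.Agent.Lib.CI2.ArtinNzd
import Groth.Agent.Lib.CI2.TorKoszul
import Groth.Agent.Lib.EmbDef.Regular
import Groth.Agent.Lib.CplLocH7.Basic

set_option autoImplicit false
universe u
open scoped TensorProduct
open CAlg

namespace Groth.Agent.S11180

open scoped TensorProduct

/-- Let A be a Noetherian ring and M an A-module. If an element m of M is such that 1 ⊗ m = 0 in B ⊗_A M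
for every A-algebra B which is a complete Noetherian local ring, flat over A, then m = 0.
(Equivalently the natural map from M to the limit of the modules B ⊗_A M over all such B is
injective.) -/
theorem result (A : Type u) [CommRing A] [IsNoetherianRing A] (M : Type u) [AddCommGroup M] [Module A M] (m : M) (h : ∀ (B : Type u) [CommRing B] [Algebra A B] [IsNoetherianRing B] [IsLocalRing B], IsAdicComplete (IsLocalRing.maximalIdeal B) B → Module.Flat A B → (1 : B) ⊗ₜ[A] m = 0) : m = 0 := by
  by_contra hm
  obtain ⟨p, hp, hle⟩ := Ideal.exists_le_maximal ((Submodule.span A {m}).annihilator) (fun e => hm (by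
    have : (1 : A) ∈ (Submodule.span A {m}).annihilator := e ▸ Submodule.mem_top
    rw [Submodule.mem_annihilator_span_singleton, one_smul] at this
    exact this))
  let L := Localization.AtPrime p
  haveI : IsNoetherianRing L := IsLocalization.isNoetherianRing p.primeCompl L inferInstance
  haveI : Module.FaithfullyFlat L (Groth.Agent.CplLocH7.Cpl L) := Groth.Agent.CplLocH7.faithfullyFlat_cpl L
  haveI : IsScalarTower A L (Groth.Agent.CplLocH7.Cpl L) := inferInstance
  haveI : Module.Flat A L := IsLocalization.flat L p.primeCompl
  have h1 := h (Groth.Agent.CplLocH7.Cpl L) inferInstance (Module.Flat.trans A L (Groth.Agent.CplLocH7.Cpl L))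
  have h2 : (1 : Groth.Agent.CplLocH7.Cpl L) ⊗ₜ[L] ((1 : L) ⊗ₜ[A] m) = 0 := by
    apply (TensorProduct.AlgebraTensorModule.cancelBaseChange A L L (Groth.Agent.CplLocH7.Cpl L) M).injective
    rw [TensorProduct.AlgebraTensorModule.cancelBaseChange_tmul, one_smul, map_zero]
    exact h1
  have h3 : (1 : L) ⊗ₜ[A] m = 0 := by
    by_contra hne
    have := Module.FaithfullyFlat.tensorProduct_mk_injective (A := L) (B := Groth.Agent.CplLocH7.Cpl L) (L ⊗[A] M)
    exact hne (this (by rw [map_zero]; exact h2))
  obtain ⟨⟨c, hc⟩, hcm⟩ := (IsLocalizedModule.eq_zero_iff p.primeCompl (TensorProduct.mk A L M 1)).1 h3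
  exact hc (hle ((Submodule.mem_annihilator_span_singleton m c).2 hcm))

end Groth.Agent.S11180
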