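import Groth.Statements.S11181
import Groth.Agent.Lib.CplLocH7.Basic
import Groth.Agent.Lib.Compl.Dim
import Mathlib

set_option autoImplicit false
universe u
open scoped TensorProduct
open CAlg

namespace Groth.Agent.S11181
open TensorProduct IsLocalRing

variable {A : Type u} [CommRing A]

/-- A family of elements over the complete local flat algebras. -/
abbrev Fam (A : Type u) [CommRing A] (M : Type u) [AddCommGroup M] [Module A M] :=
  ∀ (B : Type u) [CommRing B] [Algebra A B] [IsNoetherianRing B] [IsLocalRing B],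
    IsAdicComplete (IsLocalRing.maximalIdeal B) B → Module.Flat A B → B ⊗[A] M

/-- Compatibility of a family. -/
def Compat {M : Type u} [AddCommGroup M] [Module A M] (x : Fam A M) : Prop :=
  ∀ (B : Type u) [CommRing B] [Algebra A B] [IsNoetherianRing B] [IsLocalRing B] (hB : IsAdicComplete (IsLocalRing.maximalIdeal B) B) (hBf : Module.Flat A B) (B' : Type u) [CommRing B'] [Algebra A B'] [IsNoetherianRing B'] [IsLocalRing B'] (hB' : IsAdicComplete (IsLocalRing.maximalIdeal B') B') (hB'f : Module.Flat A B') (g : B →ₐ[A] B'), LinearMap.rTensor M g.toLinearMap (x B hB hBf) = x B' hB' hB'f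

/-- The element is determined by its images. -/
def Inj (A : Type u) [CommRing A] (M : Type u) [AddCommGroup M] [Module A M] : Prop :=
  ∀ m : M, (∀ (B : Type u) [CommRing B] [Algebra A B] [IsNoetherianRing B] [IsLocalRing B]
    (_ : IsAdicComplete (IsLocalRing.maximalIdeal B) B) (_ : Module.Flat A B), (1 : B) ⊗ₜ[A] m = 0) → m = 0

/-- Compatible families come from elements. -/
def Ex (A : Type u) [CommRing A] (M : Type u) [AddCommGroup M] [Module A M] : Prop :=
  ∀ x : Fam A M, Compat x → ∃ m : M, ∀ (B : Type u) [CommRing B] [Algebra A B] [IsNoetherianRing B] [IsLocalRing B]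
    (hB : IsAdicComplete (IsLocalRing.maximalIdeal B) B) (hBf : Module.Flat A B), x B hB hBf = (1 : B) ⊗ₜ[A] m

/-- Completion of the localisation at a prime. -/
abbrev Cp {B : Type u} [CommRing B] (P : Ideal B) [P.IsPrime] : Type u :=
  AdicCompletion (maximalIdeal (Localization.AtPrime P)) (Localization.AtPrime P)

variable [IsNoetherianRing A]

omit [IsNoetherianRing A] in
theorem noeth_cp {B : Type u} [CommRing B] [IsNoetherianRing B] (P : Ideal B) [P.IsPrime] :
    IsNoetherianRing (Cp P) :=
  haveI : IsNoetherianRing (Localization.AtPrime P) := IsLocalization.isNoetherianRing P.primeCompl _ inferInstance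
  Groth.Agent.Compl.isNoetherianRing_maximalIdeal_adicCompletion _

omit [IsNoetherianRing A] in
theorem flat_cp {B : Type u} [CommRing B] [IsNoetherianRing B] [Algebra A B] [Module.Flat A B] (P : Ideal B) [P.IsPrime] :
    Module.Flat A (Cp P) :=
  haveI : IsNoetherianRing (Localization.AtPrime P) := IsLocalization.isNoetherianRing P.primeCompl _ inferInstance
  haveI : Module.Flat A (Localization.AtPrime P) :=
    haveI : Module.Flat B (Localization.AtPrime P) := IsLocalization.flat _ P.primeCompl
    Module.Flat.trans A B _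
  haveI : Module.Flat (Localization.AtPrime P) (Cp P) := AdicCompletion.flat_of_isNoetherian _
  Module.Flat.trans A (Localization.AtPrime P) _

omit [IsNoetherianRing A] in
theorem eq_zero_of_map {B : Type u} [CommRing B] [IsNoetherianRing B] (I : Ideal B) (P : Ideal B) [P.IsPrime] (b : B)
    (hb : algebraMap B (Cp P) b ∈ I.map (algebraMap B (Cp P))) : ∃ s ∉ P, s * b ∈ I := by
  haveI : IsNoetherianRing (Localization.AtPrime P) := IsLocalization.isNoetherianRing P.primeCompl _ inferInstance
  haveI : Module.FaithfullyFlat (Localization.AtPrime P) (Cp P) := Groth.Agent.CplLocH7.faithfullyFlat_cpl _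
  rw [IsScalarTower.algebraMap_eq B (Localization.AtPrime P) (Cp P), ← Ideal.map_map, RingHom.comp_apply,
    ← Ideal.mem_comap, Ideal.comap_map_eq_self_of_faithfullyFlat] at hb
  obtain ⟨s, hs, h⟩ := (IsLocalization.algebraMap_mem_map_algebraMap_iff P.primeCompl _ I b).1 hb
  exact ⟨s, hs, h⟩

omit [IsNoetherianRing A] in
theorem exists_hom [IsNoetherianRing A] {B : Type u} [CommRing B] [IsNoetherianRing B] [Algebra A B]
    (P : Ideal B) [P.IsPrime] (q : Ideal A) [q.IsPrime] (h : P.comap (algebraMap A B) = q) :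
    Nonempty (Cp q →ₐ[A] Cp P) := by
  haveI : IsNoetherianRing (Localization.AtPrime P) := IsLocalization.isNoetherianRing P.primeCompl _ inferInstance
  haveI : IsNoetherianRing (Localization.AtPrime q) := IsLocalization.isNoetherianRing q.primeCompl _ inferInstance
  let l : Localization.AtPrime q →+* Localization.AtPrime P := Localization.localRingHom q P (algebraMap A B) h.symm
  let C := Cp P
  let m := maximalIdeal (Localization.AtPrime q)
  let mC := maximalIdeal C
  let j : Localization.AtPrime q →+* C := (algebraMap (Localization.AtPrime P) C).comp l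
  have hj : m ≤ mC.comap j := fun x hx => by
    show j x ∈ mC
    have h1 : l x ∈ maximalIdeal (Localization.AtPrime P) := map_nonunit l x hx
    exact map_nonunit (algebraMap (Localization.AtPrime P) C) _ h1
  have hjn : ∀ n, m ^ n ≤ (mC ^ n).comap j := fun n =>
    (Ideal.pow_right_mono hj n).trans (Ideal.le_comap_pow j n)
  let f : (n : ℕ) → Cp q →+* C ⧸ mC ^ n := fun n =>
    (Ideal.quotientMap _ j (hjn n)).comp (AdicCompletion.evalₐ m n).toRingHom
  have hev : ∀ (n : ℕ) (a : Localization.AtPrime q), AdicCompletion.evalₐ m n (algebraMap _ (Cp q) a) = Ideal.Quotient.mk _ a :=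
    fun n a => (AdicCompletion.evalₐ m n).commutes a
  have hf : ∀ {a b : ℕ} (hle : a ≤ b), (Ideal.Quotient.factorPow mC hle).comp (f b) = f a := by
    intro a b hle
    refine RingHom.ext fun x => ?_
    simp only [f, RingHom.comp_apply, AlgHom.toRingHom_eq_coe, RingHom.coe_coe]
    obtain ⟨c, rfl⟩ := AdicCompletion.mk_surjective m (Localization.AtPrime q) x
    rw [AdicCompletion.evalₐ_mk, AdicCompletion.evalₐ_mk, Ideal.quotientMap_mk, Ideal.quotientMap_mk,
      Ideal.Quotient.factor_mk, Ideal.Quotient.eq, ← map_sub]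
    have := (AdicCompletion.AdicCauchySequence.mk_eq_mk hle c)
    refine hjn a ?_
    have h2 := (SModEq.sub_mem.1 (c.2 hle).symm)
    simpa [smul_eq_mul, Ideal.mul_top] using h2
  refine ⟨{ IsAdicComplete.liftRingHom mC f hf with commutes' := fun r => ?_ }⟩
  show IsAdicComplete.liftRingHom mC f hf (algebraMap A (Cp q) r) = algebraMap A C r
  rw [IsHausdorff.eq_iff_smodEq (I := mC)]
  intro n
  rw [SModEq.sub_mem, smul_eq_mul, Ideal.mul_top, ← Ideal.Quotient.eq, IsAdicComplete.mk_liftRingHom]
  rw [IsScalarTower.algebraMap_apply A (Localization.AtPrime q) (Cp q)]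
  simp only [f, RingHom.comp_apply, AlgHom.toRingHom_eq_coe, RingHom.coe_coe, hev, Ideal.quotientMap_mk]
  congr 1
  simp only [j, RingHom.comp_apply, l, IsScalarTower.algebraMap_apply A B (Localization.AtPrime P),
    IsScalarTower.algebraMap_apply A (Localization.AtPrime P) C]
  rw [Localization.localRingHom_to_map]

omit [IsNoetherianRing A] in
theorem tmul_eq_zero_iff {N : Type u} [AddCommGroup N] [Module A N] {q : Ideal A} (e : N ≃ₗ[A] A ⧸ q)
    {C : Type u} [CommRing C] [Algebra A C] (c : C) :
    c ⊗ₜ[A] e.symm 1 = 0 ↔ c ∈ q.map (algebraMap A C) := by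
  rw [← (e.lTensor C).map_eq_zero_iff, LinearEquiv.lTensor_tmul, LinearEquiv.apply_symm_apply,
    ← Ideal.Quotient.eq_zero_iff_mem]
  have h : (Algebra.TensorProduct.quotIdealMapEquivTensorQuot C q) (Ideal.Quotient.mk _ c) = c ⊗ₜ[A] (1 : A ⧸ q) := rfl
  rw [← h]
  exact map_eq_zero_iff _ (Algebra.TensorProduct.quotIdealMapEquivTensorQuot C q).injective

theorem quotient_case (N : Type u) [AddCommGroup N] [Module A N] (q : Ideal A) [q.IsPrime] (e : N ≃ₗ[A] A ⧸ q) :
    Inj A N ∧ Ex A N := by
  classical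
  let n0 := e.symm 1
  have hN : ∀ z : N, ∃ a : A, z = a • n0 := fun z => by
    obtain ⟨a, ha⟩ := Ideal.Quotient.mk_surjective (e z)
    refine ⟨a, e.injective ?_⟩
    rw [map_smul, LinearEquiv.apply_symm_apply, ← ha, Algebra.smul_def, mul_one]
    rfl
  have hC : ∀ (C : Type u) [CommRing C] [Algebra A C] (z : C ⊗[A] N), ∃ c : C, z = c ⊗ₜ[A] n0 := by
    intro C _ _ z
    induction z using TensorProduct.induction_on with
    | zero => exact ⟨0, (TensorProduct.zero_tmul _ _).symm⟩
    | tmul c z =>
      obtain ⟨a, rfl⟩ := hN z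
      exact ⟨a • c, (TensorProduct.smul_tmul a c n0).symm⟩
    | add x y hx hy =>
      obtain ⟨c, rfl⟩ := hx
      obtain ⟨d, rfl⟩ := hy
      exact ⟨c + d, (TensorProduct.add_tmul _ _ _).symm⟩
  have hone : ∀ (C : Type u) [CommRing C] [Algebra A C] (a : A), (1 : C) ⊗ₜ[A] (a • n0) = algebraMap A C a ⊗ₜ[A] n0 :=
    fun C _ _ a => by rw [← TensorProduct.smul_tmul, Algebra.smul_def, mul_one]
  haveI : IsNoetherianRing (Localization.AtPrime q) := IsLocalization.isNoetherianRing q.primeCompl _ inferInstance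
  haveI : IsNoetherianRing (Cp q) := noeth_cp q
  have hBq : IsAdicComplete (maximalIdeal (Cp q)) (Cp q) := inferInstance
  have hfq : Module.Flat A (Cp q) := flat_cp q
  refine ⟨fun z hz => ?_, fun x hx => ?_⟩
  · obtain ⟨a, rfl⟩ := hN z
    have h := hz (Cp q) hBq hfq
    rw [hone, tmul_eq_zero_iff e] at h
    obtain ⟨s, hs, hsa⟩ := eq_zero_of_map q q a h
    have haq : a ∈ q := (Ideal.IsPrime.mem_or_mem ‹q.IsPrime› hsa).resolve_left hs
    apply e.injective
    rw [map_smul, LinearEquiv.apply_symm_apply, map_zero, Algebra.smul_def, mul_one]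
    exact Ideal.Quotient.eq_zero_iff_mem.2 haq
  -- the generic value
  obtain ⟨c0, hc0⟩ := hC (Cp q) (x (Cp q) hBq hfq)
  obtain ⟨r, hr⟩ := (AdicCompletion.residueField_map_bijective_of_fg
    (maximalIdeal (Localization.AtPrime q)).fg_of_isNoetherianRing).2 (residue (Cp q) c0)
  obtain ⟨r, rfl⟩ := residue_surjective r
  obtain ⟨⟨a, b⟩, hab⟩ := IsLocalization.surj q.primeCompl r
  have hb0 : (b : A) • x (Cp q) hBq hfq = (1 : Cp q) ⊗ₜ[A] (a • n0) := by
    rw [hc0, hone, TensorProduct.smul_tmul', ← sub_eq_zero, ← TensorProduct.sub_tmul, tmul_eq_zero_iff e]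
    have hm : c0 - algebraMap (Localization.AtPrime q) (Cp q) r ∈ maximalIdeal (Cp q) := by
      rw [← residue_eq_zero_iff, map_sub, sub_eq_zero, ← hr]
      rfl
    have hmax : maximalIdeal (Cp q) = q.map (algebraMap A (Cp q)) :=
      AdicCompletion.maximalIdeal_eq_map.trans ((congrArg (Ideal.map (algebraMap (Localization.AtPrime q) (Cp q)))
        (Localization.AtPrime.map_eq_maximalIdeal (I := q)).symm).trans
        ((Ideal.map_map _ _).trans (by rw [← IsScalarTower.algebraMap_eq])))
    rw [hmax] at hm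
    have := Ideal.mul_mem_left _ (algebraMap A (Cp q) b) hm
    convert this using 1
    rw [Algebra.smul_def, mul_sub]
    congr 1
    rw [IsScalarTower.algebraMap_apply A (Localization.AtPrime q) (Cp q),
      IsScalarTower.algebraMap_apply A (Localization.AtPrime q) (Cp q), ← map_mul, mul_comm, hab]
  have hsmul : ∀ (C : Type u) [CommRing C] [Algebra A C] [Module.Flat A C] (s : A), s ∉ q →
      ∀ z : C ⊗[A] N, s • z = 0 → z = 0 := by
    intro C _ _ _ s hs z hz
    have hinj : Function.Injective (LinearMap.lsmul A N s) := fun y y' hy => by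
      obtain ⟨a, rfl⟩ := hN y
      obtain ⟨a', rfl⟩ := hN y'
      apply e.injective
      have h := congrArg e hy
      simp only [LinearMap.lsmul_apply, map_smul, LinearEquiv.apply_symm_apply, Algebra.smul_def, mul_one, n0] at h ⊢
      rw [← map_mul, ← map_mul, Ideal.Quotient.algebraMap_eq, Ideal.Quotient.eq, ← sub_mul] at h
      rw [Ideal.Quotient.algebraMap_eq, Ideal.Quotient.eq]
      exact (Ideal.IsPrime.mem_or_mem ‹q.IsPrime› h).resolve_right hs
    have heq : ∀ z' : C ⊗[A] N, (LinearMap.lsmul A N s).lTensor C z' = s • z' := fun z' => by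
      induction z' using TensorProduct.induction_on with
      | zero => simp
      | tmul c y => simp [TensorProduct.smul_tmul']
      | add y y' hy hy' => rw [map_add, smul_add, hy, hy']
    refine Module.Flat.lTensor_preserves_injective_linearMap _ hinj ?_
    rw [heq, hz, map_zero]
  have hall : ∀ (B : Type u) [CommRing B] [Algebra A B] [IsNoetherianRing B] [IsLocalRing B]
      (hB : IsAdicComplete (IsLocalRing.maximalIdeal B) B) (hBf : Module.Flat A B),
      (b : A) • x B hB hBf = (1 : B) ⊗ₜ[A] (a • n0) := by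
    intro B _ _ _ _ hB hBf
    haveI := hBf
    set w := (b : A) • x B hB hBf - (1 : B) ⊗ₜ[A] (a • n0) with hw
    rw [← sub_eq_zero]
    by_contra hne
    obtain ⟨P, hP, hle⟩ := exists_le_isAssociatedPrime_of_isNoetherianRing (R := B) w hne
    obtain ⟨hPp, v, hv⟩ := isAssociatedPrime_iff.1 hP
    haveI := hPp
    have hv0 : v ≠ 0 := fun h0 => hPp.ne_top (by rw [hv, Ideal.eq_top_iff_one, h0]; simp [Submodule.mem_colon_singleton])
    have hPq : P.comap (algebraMap A B) = q := by
      refine le_antisymm (fun s hs => ?_) (fun s hs => ?_)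
      · by_contra hsq
        refine hv0 (hsmul B s hsq v ?_)
        rw [hv, Ideal.mem_comap, Submodule.mem_colon_singleton, Submodule.mem_bot, algebraMap_smul] at hs
        exact hs
      · rw [Ideal.mem_comap, hv, Submodule.mem_colon_singleton, Submodule.mem_bot, algebraMap_smul]
        obtain ⟨c, rfl⟩ := hC B v
        rw [TensorProduct.smul_tmul', Algebra.smul_def, tmul_eq_zero_iff e]
        exact Ideal.mul_mem_right _ _ (Ideal.mem_map_of_mem _ hs)
    haveI := noeth_cp P
    haveI := flat_cp (A := A) P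
    obtain ⟨g⟩ := exists_hom P q hPq
    have h1 := hx (Cp q) hBq hfq (Cp P) inferInstance inferInstance g
    have h2 := hx B hB hBf (Cp P) inferInstance inferInstance (IsScalarTower.toAlgHom A B (Cp P))
    have hw0 : LinearMap.rTensor N (IsScalarTower.toAlgHom A B (Cp P)).toLinearMap w = 0 := by
      rw [hw, map_sub, map_smul, h2, ← h1, ← map_smul, hb0, LinearMap.rTensor_tmul, LinearMap.rTensor_tmul,
        AlgHom.toLinearMap_apply, AlgHom.toLinearMap_apply, map_one, map_one, sub_self]
    obtain ⟨c, hc⟩ := hC B w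
    rw [hc, LinearMap.rTensor_tmul, tmul_eq_zero_iff e] at hw0
    have hw1 : algebraMap B (Cp P) c ∈ (q.map (algebraMap A B)).map (algebraMap B (Cp P)) := by
      rw [Ideal.map_map, ← IsScalarTower.algebraMap_eq]
      exact hw0
    obtain ⟨s, hs, hsc⟩ := eq_zero_of_map _ P c hw1
    refine hs (hle ?_)
    rw [Submodule.mem_colon_singleton, Submodule.mem_bot, hc, TensorProduct.smul_tmul', smul_eq_mul, tmul_eq_zero_iff e]
    exact hsc
  -- divisibility
  have hdiv : a ∈ Ideal.span {(b : A)} ⊔ q := by
    by_contra hne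
    set J := Ideal.span {(b : A)} ⊔ q with hJ
    have hcol : Submodule.colon J ({a} : Set A) ≠ ⊤ := fun h => hne (by
      have h1 : (1 : A) ∈ Submodule.colon J ({a} : Set A) := h ▸ Submodule.mem_top
      simpa [Submodule.mem_colon_singleton] using h1)
    obtain ⟨mm, hmm, hle⟩ := Ideal.exists_le_maximal _ hcol
    haveI := noeth_cp mm
    haveI := flat_cp (A := A) mm
    have h := hall (Cp mm) inferInstance inferInstance
    obtain ⟨c, hc⟩ := hC (Cp mm) (x (Cp mm) inferInstance inferInstance)
    rw [hc, TensorProduct.smul_tmul', hone, ← sub_eq_zero, ← TensorProduct.sub_tmul, tmul_eq_zero_iff e] at h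
    have haJ : algebraMap A (Cp mm) a ∈ J.map (algebraMap A (Cp mm)) := by
      rw [show algebraMap A (Cp mm) a = (b : A) • c - ((b : A) • c - algebraMap A (Cp mm) a) by ring]
      refine sub_mem ?_ (Ideal.map_mono le_sup_right h)
      rw [Algebra.smul_def]
      exact Ideal.mul_mem_right _ _ (Ideal.mem_map_of_mem _ (Ideal.mem_sup_left (Ideal.mem_span_singleton_self _)))
    obtain ⟨s, hs, hsa⟩ := eq_zero_of_map J mm a haJ
    exact hs (hle (by simpa [Submodule.mem_colon_singleton] using hsa))
  obtain ⟨_, hy, z, hz, hsum⟩ := Submodule.mem_sup.1 hdiv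
  obtain ⟨c, rfl⟩ := Ideal.mem_span_singleton'.1 hy
  refine ⟨c • n0, fun B _ _ _ _ hB hBf => ?_⟩
  haveI := hBf
  rw [← sub_eq_zero]
  refine hsmul B b b.2 _ ?_
  rw [smul_sub, hall B hB hBf, hone, hone, TensorProduct.smul_tmul', ← TensorProduct.sub_tmul, tmul_eq_zero_iff e,
    Algebra.smul_def, ← map_mul, ← map_sub]
  refine Ideal.mem_map_of_mem _ ?_
  rw [← hsum, mul_comm c (b : A), add_sub_cancel_left]
  exact hz

omit [IsNoetherianRing A] in
theorem exact_case (N₁ N₂ N₃ : Type u) [AddCommGroup N₁] [Module A N₁] [AddCommGroup N₂] [Module A N₂]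
    [AddCommGroup N₃] [Module A N₃] (f : N₁ →ₗ[A] N₂) (g : N₂ →ₗ[A] N₃) (hf : Function.Injective f)
    (hg : Function.Surjective g) (hfg : Function.Exact f g) (h₁ : Inj A N₁ ∧ Ex A N₁) (h₃ : Inj A N₃ ∧ Ex A N₃) :
    Inj A N₂ ∧ Ex A N₂ := by
  classical
  refine ⟨fun z hz => ?_, fun x hx => ?_⟩
  · have h3 : g z = 0 := h₃.1 _ fun B _ _ _ _ hB hBf => by
      rw [← LinearMap.lTensor_tmul, hz B hB hBf, map_zero]
    obtain ⟨y, rfl⟩ := (hfg z).1 h3
    have : y = 0 := h₁.1 _ fun B _ _ _ _ hB hBf => by
      haveI := hBf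
      refine Module.Flat.lTensor_preserves_injective_linearMap (M := B) f hf ?_
      rw [LinearMap.lTensor_tmul, map_zero]
      exact hz B hB hBf
    rw [this, map_zero]
  have comm : ∀ {P Q : Type u} [AddCommGroup P] [Module A P] [AddCommGroup Q] [Module A Q] (k : P →ₗ[A] Q)
      {B B' : Type u} [CommRing B] [Algebra A B] [CommRing B'] [Algebra A B'] (j : B →ₐ[A] B') (z : B ⊗[A] P),
      LinearMap.rTensor Q j.toLinearMap (k.lTensor B z) = k.lTensor B' (LinearMap.rTensor P j.toLinearMap z) := by
    intro P Q _ _ _ _ k B B' _ _ _ _ j z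
    rw [← LinearMap.comp_apply, ← LinearMap.comp_apply, LinearMap.rTensor_comp_lTensor, LinearMap.lTensor_comp_rTensor]
  obtain ⟨m3, hm3⟩ := h₃.2 (fun B _ _ _ _ hB hBf => g.lTensor B (x B hB hBf))
    fun B _ _ _ _ hB hBf B' _ _ _ _ hB' hBf' j => by rw [comm, hx B hB hBf B' hB' hBf' j]
  obtain ⟨m2, rfl⟩ := hg m3
  have hpre : ∀ (B : Type u) [CommRing B] [Algebra A B] [IsNoetherianRing B] [IsLocalRing B]
      (hB : IsAdicComplete (IsLocalRing.maximalIdeal B) B) (hBf : Module.Flat A B),
      ∃ y, f.lTensor B y = x B hB hBf - (1 : B) ⊗ₜ[A] m2 := fun B _ _ _ _ hB hBf =>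
    ((lTensor_exact B hfg hg) _).1 (by rw [map_sub, hm3 B hB hBf, LinearMap.lTensor_tmul, sub_self])
  let x' : Fam A N₁ := fun B _ _ _ _ hB hBf => (hpre B hB hBf).choose
  have hx' : ∀ (B : Type u) [CommRing B] [Algebra A B] [IsNoetherianRing B] [IsLocalRing B]
      (hB : IsAdicComplete (IsLocalRing.maximalIdeal B) B) (hBf : Module.Flat A B),
      f.lTensor B (x' B hB hBf) = x B hB hBf - (1 : B) ⊗ₜ[A] m2 := fun B _ _ _ _ hB hBf =>
    (hpre B hB hBf).choose_spec
  obtain ⟨m1, hm1⟩ := h₁.2 x' fun B _ _ _ _ hB hBf B' _ _ _ _ hB' hBf' j => by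
    haveI := hBf'
    refine Module.Flat.lTensor_preserves_injective_linearMap (M := B') f hf ?_
    rw [← comm, hx' B hB hBf, hx' B' hB' hBf', map_sub, hx B hB hBf B' hB' hBf' j, LinearMap.rTensor_tmul,
      AlgHom.toLinearMap_apply, map_one]
  refine ⟨m2 + f m1, fun B _ _ _ _ hB hBf => ?_⟩
  have h := hx' B hB hBf
  rw [hm1 B hB hBf, LinearMap.lTensor_tmul] at h
  rw [TensorProduct.tmul_add, h, add_sub_cancel]

/-- Bijectivity for a finite module: let A be a Noetherian ring and M a finite A-module. Consider the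
A-algebras B which are complete Noetherian local rings flat over A, with all A-algebra homomorphisms
between them. Then every family of elements x_B ∈ B ⊗_A M, one for each such B, compatible under the
maps B ⊗_A M → B' ⊗_A M induced by A-algebra homomorphisms B → B', comes from a unique element m of
M: x_B = 1 ⊗ m for every such B. (The natural map from M to the limit of the B ⊗_A M is bijective.) -/
theorem result (A : Type u) [CommRing A] [IsNoetherianRing A] (M : Type u) [AddCommGroup M] [Module A M] [Module.Finite A M] (x : ∀ (B : Type u) [CommRing B] [Algebra A B] [IsNoetherianRing B] [IsLocalRing B], IsAdicComplete (IsLocalRing.maximalIdeal B) B → Module.Flat A B → TensorProduct A B M) (hx : ∀ (B : Type u) [CommRing B] [Algebra A B] [IsNoetherianRing B] [IsLocalRing B] (hB : IsAdicComplete (IsLocalRing.maximalIdeal B) B) (hBf : Module.Flat A B) (B' : Type u) [CommRing B'] [Algebra A B'] [IsNoetherianRing B'] [IsLocalRing B'] (hB' : IsAdicComplete (IsLocalRing.maximalIdeal B') B') (hB'f : Module.Flat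 A B') (g : B →ₐ[A] B'), LinearMap.rTensor M g.toLinearMap (x B hB hBf) = x B' hB' hB'f) : ∃! m : M, ∀ (B : Type u) [CommRing B] [Algebra A B] [IsNoetherianRing B] [IsLocalRing B] (hB : IsAdicComplete (IsLocalRing.maximalIdeal B) B) (hBf : Module.Flat A B), x B hB hBf = (1 : B) ⊗ₜ[A] m := by
  have key : Inj A M ∧ Ex A M := by
    clear hx x
    induction ‹Module.Finite A M› using IsNoetherianRing.induction_on_isQuotientEquivQuotientPrime A with
    | subsingleton N =>
      exact ⟨fun z _ => Subsingleton.elim z 0, fun x _ => ⟨0, fun B _ _ _ _ hB hBf => Subsingleton.elim _ _⟩⟩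
    | quotient N p e => exact quotient_case N p.asIdeal e
    | exact N₁ N₂ N₃ f g hf hg hfg h₁ h₃ => exact exact_case N₁ N₂ N₃ f g hf hg hfg h₁ h₃
  obtain ⟨m, hm⟩ := key.2 x hx
  refine ⟨m, hm, fun m' hm' => ?_⟩
  rw [← sub_eq_zero]
  refine key.1 _ fun B _ _ _ _ hB hBf => ?_
  rw [TensorProduct.tmul_sub, ← hm' B hB hBf, ← hm B hB hBf, sub_self]

end Groth.Agent.S11181
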