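import Groth.Statements.S11182
import Groth.Agent.Lib.TopTensor9.Basic
import Groth.Agent.Lib.DBaseChange.TensorValue
-- import your own Groth.Agent.* helpers here

set_option autoImplicit false
set_option maxHeartbeats 1600000
set_option backward.isDefEq.respectTransparency false
universe u
open CategoryTheory
attribute [local instance] HasDerivedCategory.standard
open Dual

namespace Groth.Agent.S11182

open CategoryTheory.Limits MonoidalCategory

open DerivedCategory

variable {A : Type u} [CommRing A]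

theorem isLE_of_bound (K : Dual.D A) {b : ℤ} (h : ∀ i : ℤ, b < i → Subsingleton (Dual.HD A K i)) : K.IsLE b :=
  (DMod.isLE_iff K b).2 h

theorem nontrivial_tensor [IsLocalRing A] (M N : Type u) [AddCommGroup M] [Module A M] [Module.Finite A M]
    [Nontrivial M] [AddCommGroup N] [Module A N] [Module.Finite A N] [Nontrivial N] :
    Nontrivial (TensorProduct A M N) := by
  let k := IsLocalRing.ResidueField A
  have hM : Nontrivial (TensorProduct A k M) := by
    rw [← not_subsingleton_iff_nontrivial, IsLocalRing.subsingleton_tensorProduct]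
    exact not_subsingleton M
  obtain ⟨v, hv⟩ := exists_ne (0 : TensorProduct A k M)
  obtain ⟨f, hf⟩ : ∃ f : TensorProduct A k M →ₗ[k] k, f v ≠ 0 := by
    by_contra h
    push Not at h
    exact hv ((Module.forall_dual_apply_eq_zero_iff k v).1 h)
  let g : M →ₗ[A] k := f.restrictScalars A ∘ₗ TensorProduct.mk A k M 1
  have hg : Function.Surjective g := by
    have hne : ∃ m, g m ≠ 0 := by
      by_contra h
      push Not at h
      apply hf
      clear hv hf
      induction v using TensorProduct.induction_on with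
      | zero => exact map_zero f
      | tmul a m =>
        have e : a ⊗ₜ[A] m = a • ((1 : k) ⊗ₜ[A] m) := by
          rw [TensorProduct.smul_tmul', smul_eq_mul, mul_one]
        rw [e, map_smul]
        exact smul_eq_zero_of_right a (h m)
      | add x y hx hy => rw [map_add, hx, hy, add_zero]
    obtain ⟨m, hm⟩ := hne
    intro y
    obtain ⟨a, ha⟩ := IsLocalRing.residue_surjective (y / g m)
    refine ⟨a • m, ?_⟩
    rw [map_smul, Algebra.smul_def, IsLocalRing.ResidueField.algebraMap_eq, ha, div_mul_cancel₀ y hm]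
  have hkN : Nontrivial (TensorProduct A k N) := by
    rw [← not_subsingleton_iff_nontrivial, IsLocalRing.subsingleton_tensorProduct]
    exact not_subsingleton N
  exact Function.Surjective.nontrivial (LinearMap.rTensor_surjective N hg)

theorem iso_shift (K : Dual.D A) (b : ℤ) [K.IsGE b] [K.IsLE b] (e : Dual.HD A K b ≃ₗ[A] A) :
    Nonempty (K ≅ (Dual.inD A A)⟦(-b)⟧) := by
  obtain ⟨Y, ⟨i⟩⟩ := exists_iso_singleFunctor_obj_of_isGE_of_isLE K b
  let eY : Dual.HD A K b ≃ₗ[A] Y :=
    ((DerivedCategory.homologyFunctor (ModuleCat.{u} A) b).mapIso i ≪≫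
      (DerivedCategory.singleFunctorCompHomologyFunctorIso (ModuleCat.{u} A) b).app Y).toLinearEquiv
  let j : Y ≅ ModuleCat.of A A := (eY.symm ≪≫ₗ e).toModuleIso
  exact ⟨i ≪≫ (DerivedCategory.singleFunctor (ModuleCat.{u} A) b).mapIso j ≪≫
    ((CategoryTheory.SingleFunctors.shiftIso (DerivedCategory.singleFunctors (ModuleCat.{u} A)) (-b) b 0
      (by omega)).app (ModuleCat.of A A)).symm⟩

theorem exact_of_iso {K : Dual.D A} {P : DRing.Cx A} (e : DRing.toD P ≅ K) (i : ℤ) :
    Nonempty (P.homology i ≃ₗ[A] Dual.HD A K i) :=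
  ⟨(((DerivedCategory.homologyFunctorFactors (ModuleCat.{u} A) i).app P).symm ≪≫
    (DerivedCategory.homologyFunctor (ModuleCat.{u} A) i).mapIso e).toLinearEquiv⟩

/-- Let A be a Noetherian local ring, L an object of D(A) and E a cochain complex of A-modules, each
with finite cohomology modules which vanish in all sufficiently large degrees (bounded above), and
assume the total left derived functor − ⊗^L_A E exists on D(A). If L ⊗^L_A E is isomorphic in D(A)
to A placed in degree zero, then there is an integer n with L ≅ A[n] and E ≅ A[−n] in D(A). (The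
published statement is for a connected locally Noetherian scheme, concluding that L is a shifted
invertible sheaf; this row is the local case to which its proof reduces.) -/
theorem result (A : Type u) [CommRing A] [IsLocalRing A] [IsNoetherianRing A] (L : Dual.D A) (E : DRing.Cx A) [DRing.HasLTensorCx A E] (hLfin : ∀ i : ℤ, Module.Finite A (Dual.HD A L i)) (hLbdd : ∃ b : ℤ, ∀ i : ℤ, b < i → Subsingleton (Dual.HD A L i)) (hEfin : ∀ i : ℤ, Module.Finite A (Dual.HD A (DRing.toD E) i)) (hEbdd : ∃ b : ℤ, ∀ i : ℤ, b < i → Subsingleton (Dual.HD A (DRing.toD E) i)) (h : Nonempty ((DRing.LTensorCx A E).obj L ≅ Dual.inD A A)) : ∃ n : ℤ, Nonempty (L ≅ (Dual.inD A A)⟦n⟧) ∧ Nonempty (DRing.toD E ≅ (Dual.inD A A)⟦(-n)⟧) := by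
  obtain ⟨t₀⟩ := h
  -- resolutions for arbitrary upper bounds
  have core : ∀ b c : ℤ, L.IsLE b → (DRing.toD E).IsLE c →
      ∃ (P R : DRing.Cx A), P.IsStrictlyLE b ∧ R.IsStrictlyLE c ∧ Nonempty (DRing.toD P ≅ L) ∧
        Nonempty (DRing.toD R ≅ DRing.toD E) ∧ Nonempty (DRing.toD (P ⊗ R) ≅ Dual.inD A A) := by
    intro b c hb hc
    obtain ⟨P, hP, hPf, ⟨eP⟩⟩ := DMod.exists_free_resolution L b
    obtain ⟨R, hR, hRf, ⟨eR⟩⟩ := DMod.exists_free_resolution (DRing.toD E) c
    obtain ⟨t⟩ := DBaseChange.nonempty_lTensorCx_obj_iso E eP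
      (DBaseChange.isKFlat_of_boundedAbove P b fun i => haveI := hPf i; inferInstance) eR
      (DMod.isKProjective c fun i => haveI := hRf i; inferInstance)
    exact ⟨P, R, hP, hR, ⟨eP⟩, ⟨eR⟩, ⟨t ≪≫ t₀⟩⟩
  -- homology of the unit
  let eA : Dual.HD A (Dual.inD A A) 0 ≃ₗ[A] A :=
    ((DerivedCategory.singleFunctorCompHomologyFunctorIso (ModuleCat.{u} A) 0).app
      (ModuleCat.of A A)).toLinearEquiv
  have hA : ∀ i : ℤ, i ≠ 0 → Subsingleton (Dual.HD A (Dual.inD A A) i) := fun i hi => by
    rcases lt_or_gt_of_ne hi with hlt | hgt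
    · exact (DMod.isGE_iff (Dual.inD A A) 0).1 inferInstance i hlt
    · exact (DMod.isLE_iff (Dual.inD A A) 0).1 inferInstance i hgt
  obtain ⟨b₀, hb₀⟩ := hLbdd
  obtain ⟨c₀, hc₀⟩ := hEbdd
  have sum_nonneg : ∀ b c : ℤ, L.IsLE b → (DRing.toD E).IsLE c → 0 ≤ b + c := by
    intro b c hb hc
    obtain ⟨P, R, hP, hR, -, -, ⟨t⟩⟩ := core b c hb hc
    by_contra hlt
    haveI : Nontrivial (Dual.HD A (DRing.toD (P ⊗ R)) 0) := by
      obtain ⟨e⟩ := exact_of_iso (Iso.refl (DRing.toD (P ⊗ R))) 0
      exact ((DerivedCategory.homologyFunctor (ModuleCat.{u} A) 0).mapIso t).toLinearEquiv.trans eA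
        |>.toEquiv.nontrivial
    refine not_subsingleton (Dual.HD A (DRing.toD (P ⊗ R)) 0) ?_
    rw [DMod.subsingleton_HD_toD_iff, DMod.subsingleton_homology_iff (P ⊗ R) (i := -1) (k := 1) (by simp) (by simp)]
    have hz : IsZero ((P ⊗ R : DRing.Cx A).X 0) := DBaseChange.isZero_tensor_X 0 fun p q hpq => by
      by_cases hp : b < p
      · exact Or.inl (P.isZero_of_isStrictlyLE b p hp)
      · exact Or.inr (R.isZero_of_isStrictlyLE c q (by omega))
    intro x _
    exact ⟨0, (ModuleCat.subsingleton_of_isZero hz).elim _ _⟩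
  -- least bounds
  have least : ∀ (K : Dual.D A) (lo : ℤ), (∃ b : ℤ, K.IsLE b) → (∀ b : ℤ, K.IsLE b → lo ≤ b) →
      ∃ b : ℤ, K.IsLE b ∧ Nontrivial (Dual.HD A K b) := by
    intro K lo hex hlo
    classical
    obtain ⟨b, hb, hmin⟩ := Int.exists_least_of_bdd ⟨lo, hlo⟩ hex
    refine ⟨b, hb, not_subsingleton_iff_nontrivial.1 fun hs => ?_⟩
    have h1 : K.IsLE (b - 1) := isLE_of_bound K fun i hi => by
      by_cases hib : i = b
      · subst hib; exact hs
      · exact (DMod.isLE_iff K b).1 hb i (by omega)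
    have := hmin _ h1
    omega
  obtain ⟨b, hb, hMn⟩ := least L (-c₀) ⟨b₀, isLE_of_bound L hb₀⟩ fun b hb => by
    have := sum_nonneg b c₀ hb (isLE_of_bound _ hc₀); omega
  obtain ⟨c, hc, hNn⟩ := least (DRing.toD E) (-b) ⟨c₀, isLE_of_bound _ hc₀⟩ fun c hc => by
    have := sum_nonneg b c hb hc; omega
  obtain ⟨P, R, hP, hR, ⟨eP⟩, ⟨eR⟩, ⟨t⟩⟩ := core b c hb hc
  obtain ⟨top⟩ := TopTensor9.exists_topTensorEquiv P R b c
  obtain ⟨hM⟩ := exact_of_iso eP b
  obtain ⟨hN⟩ := exact_of_iso eR c
  obtain ⟨hT⟩ := exact_of_iso t (b + c)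
  haveI := hLfin b
  haveI := hEfin c
  haveI := nontrivial_tensor (A := A) (Dual.HD A L b) (Dual.HD A (DRing.toD E) c)
  let e : TensorProduct A (Dual.HD A L b) (Dual.HD A (DRing.toD E) c) ≃ₗ[A] Dual.HD A (Dual.inD A A) (b + c) :=
    (TensorProduct.congr hM hN).symm ≪≫ₗ top.symm ≪≫ₗ hT
  have hbc : b + c = 0 := by
    by_contra hne
    haveI := hA _ hne
    exact not_subsingleton (TensorProduct A (Dual.HD A L b) (Dual.HD A (DRing.toD E) c)) e.toEquiv.subsingleton
  obtain rfl : c = -b := by omega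
  obtain ⟨e0⟩ : Nonempty (Dual.HD A (Dual.inD A A) (b + -b) ≃ₗ[A] A) := by
    rw [add_neg_cancel]
    exact ⟨eA⟩
  haveI : Module.Invertible A (Dual.HD A L b) := Module.Invertible.left (e ≪≫ₗ e0)
  haveI : Module.Invertible A (Dual.HD A (DRing.toD E) (-b)) :=
    Module.Invertible.left ((TensorProduct.comm A _ _) ≪≫ₗ e ≪≫ₗ e0)
  haveI : Module.Free A (Dual.HD A L b) := Module.free_of_flat_of_isLocalRing
  haveI : Module.Free A (Dual.HD A (DRing.toD E) (-b)) := Module.free_of_flat_of_isLocalRing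
  obtain ⟨eL⟩ := Module.Invertible.free_iff_linearEquiv.1 (inferInstance : Module.Free A (Dual.HD A L b))
  obtain ⟨eE⟩ := Module.Invertible.free_iff_linearEquiv.1
    (inferInstance : Module.Free A (Dual.HD A (DRing.toD E) (-b)))
  have hTsub : ∀ n : ℤ, n ≠ 0 → Subsingleton ((P ⊗ R : DRing.Cx A).homology n) := fun n hn => by
    obtain ⟨en⟩ := exact_of_iso t n
    haveI := hA n hn
    exact en.toEquiv.subsingleton
  have hTsub' : ∀ n : ℤ, n ≠ 0 → Subsingleton ((R ⊗ P : DRing.Cx A).homology n) := fun n hn => by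
    haveI : Subsingleton ((HomologicalComplex.homologyFunctor (ModuleCat.{u} A) (ComplexShape.up ℤ) n).obj (P ⊗ R : DRing.Cx A)) := hTsub n hn
    exact ((HomologicalComplex.homologyFunctor (ModuleCat.{u} A) (ComplexShape.up ℤ) n).mapIso
      (DTen.braidCx P R)).toLinearEquiv.symm.toEquiv.subsingleton
  have hEge : (DRing.toD E).IsGE (-b) := (DMod.isGE_iff _ _).2 fun j hj => by
    haveI := TopTensor9.subsingleton_homology_of_retract P R b (hM ≪≫ₗ eL) hTsub j (by omega)
    obtain ⟨ej⟩ := exact_of_iso eR j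
    exact ej.symm.toEquiv.subsingleton
  have hLge : L.IsGE b := (DMod.isGE_iff _ _).2 fun j hj => by
    haveI := TopTensor9.subsingleton_homology_of_retract R P (-b) (hN ≪≫ₗ eE) hTsub' j (by omega)
    obtain ⟨ej⟩ := exact_of_iso eP j
    exact ej.symm.toEquiv.subsingleton
  refine ⟨-b, iso_shift L b eL, ?_⟩
  exact iso_shift (DRing.toD E) (-b) eE

end Groth.Agent.S11182
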