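import Groth.Statements.S11190
import Groth.Agent.Lib.InvRing21.Line
-- import your own Groth.Agent.* helpers here

set_option autoImplicit false
universe u
open CategoryTheory MonoidalCategory CartesianMonoidalCategory MonObj GrpObj AlgebraicGeometry
open scoped TensorProduct
open AGF

namespace Groth.Agent.S11190

/-- Let k be an algebraically closed field, G a linear algebraic group over k (an affine smooth group
scheme over k) and H a closed subgroup of G (a smooth closed subgroup scheme, i : H → G). Then H is
observable in G if and only if each finite-dimensional rational H-module occurs as an H-submodule of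
some rational G-module of finite dimension (it embeds, H-equivariantly along i, into one). -/
theorem result (k : Type u) [Field k] [IsAlgClosed k]
    (G : Over (Spec (CommRingCat.of k))) [GrpObj G] [IsAffine G.left] [Smooth G.hom]
    (H : Over (Spec (CommRingCat.of k))) [GrpObj H] [Smooth H.hom] (i : H ⟶ G) [IsMonHom i]
    [IsClosedImmersion i.left] :
    AGF.IsObservableIn k i ↔
      ∀ (V : Type u) [AddCommGroup V] [Module k V] [Module.Finite k V] (σ : VecGrp.GMod H V), σ.ExtendsAlong i := by
  haveI : IsAffine H.left := isAffine_of_isAffineHom i.left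
  letI := Groth.Agent.InvRing21.gamAlg G
  letI := Groth.Agent.InvRing21.gamAlg H
  constructor
  · intro hobs V _ _ _ σ
    exact Groth.Agent.InvRing21.extendsAlong_of_observable hobs σ
  · intro hext
    refine Groth.Agent.InvRing21.observable_of_inverse fun χ hm f hf hf1 => ?_
    haveI := hm
    have hinv : ∀ h, (Groth.Agent.InvRing21.val h (Red.gmFn χ⁻¹) : k) = (Groth.Agent.InvRing21.val h (Red.gmFn χ))⁻¹ :=
      fun h => eq_inv_of_mul_eq_one_left (Groth.Agent.InvRing21.val_gmFn_inv χ h)
    obtain ⟨χ', hχ', hu⟩ := Groth.Agent.InvRing21.exists_char (Red.gmFn χ⁻¹)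
      (by rw [hinv, Groth.Agent.InvRing21.val_gmFn_one, inv_one])
      fun g h => by rw [hinv, hinv, hinv, Groth.Agent.InvRing21.val_gmFn_mul, _root_.mul_inv]
    haveI : IsMonHom χ⁻¹ := GmPts.gmFn_injective hu ▸ hχ'
    obtain ⟨W, _, _, _, ρ, φ, hφ, hc⟩ := hext _ (Groth.Agent.InvRing21.charMod χ⁻¹)
    obtain ⟨d, hd, hd1⟩ := Groth.Agent.InvRing21.exists_semi_of_char_vector (i := i) χ⁻¹ ρ (φ fun _ => 1)
      (fun h0 => one_ne_zero (congrFun (hφ (h0.trans (map_zero φ).symm)) PUnit.unit)) (fun B _ _ h => by
        have := hc B h ((1 : B) ⊗ₜ[k] fun _ => 1)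
        rw [Groth.Agent.InvRing21.charMod_one_tmul, map_smul, LinearMap.baseChange_tmul] at this
        rw [Groth.Agent.InvRing21.chiVal_eq_val]
        exact this.symm)
    exact ⟨d, hd.congr hinv, by rw [hd1]; exact one_ne_zero⟩

end Groth.Agent.S11190
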