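import Groth.Statements.S11192
import Groth.Agent.Lib.InvRing21.Saturated
import Groth.Agent.Lib.AffRep19.FiniteGamma
import Groth.Agent.Lib.AlgSpCartier.SchemeDescent
import Groth.Agent.Lib.AffGrp19.Basic
-- import your own Groth.Agent.* helpers here

set_option autoImplicit false
universe u
open CategoryTheory MonoidalCategory CartesianMonoidalCategory MonObj GrpObj AlgebraicGeometry
open scoped TensorProduct
open AGF

namespace Groth.Agent.S11192

/-- Let k be an algebraically closed field, G a linear algebraic group over k (an affine smooth group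
scheme over k) and H a closed subgroup of G (a smooth closed subgroup scheme, i : H → G), with G
connected. Then the ring of global functions on G invariant under right translation by H is
integrally closed. -/
theorem result (k : Type u) [Field k] [IsAlgClosed k]
    (G : Over (Spec (CommRingCat.of k))) [GrpObj G] [IsAffine G.left] [Smooth G.hom]
    (H : Over (Spec (CommRingCat.of k))) [GrpObj H] [Smooth H.hom] (i : H ⟶ G) [IsMonHom i]
    [IsClosedImmersion i.left] [ConnectedSpace G.left] :
    IsIntegrallyClosed ↥(AGF.rTransInv i) := by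
  haveI : IsIntegral G.left := Groth.Agent.UnitsRos.isIntegral_of_group G
  haveI : Nonempty G.left := ⟨η[G].left (IsLocalRing.closedPoint k)⟩
  haveI : IsIntegrallyClosed Γ(G.left, ⊤) :=
    Groth.Agent.AffRep19.isIntegrallyClosed_of_smooth G.hom ⊤ (isAffineOpen_top _) Set.univ_nonempty
  haveI : IsDomain Γ(G.left, ⊤) := inferInstance
  haveI : IsAffine H.left := isAffine_of_isAffineHom i.left
  haveI : IsAffine (G ⊗ H).left := inferInstanceAs (IsAffine (Limits.pullback G.hom H.hom))
  haveI : Flat (fst G H).left := Groth.Agent.AffGrp19.flat_fst_left G H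
  refine Groth.Agent.InvRing21.isIntegrallyClosed_of_saturated (A := Γ(G.left, ⊤)) (AGF.rTransInv i).subtype
    Subtype.val_injective ?_
  intro y b hb hab
  obtain ⟨a, hab⟩ := hab
  refine ⟨⟨y, ?_⟩, rfl⟩
  have hbn : (fst G H).left.appTop.hom (b : Γ(G.left, ⊤)) ∈ nonZeroDivisors Γ((G ⊗ H).left, ⊤) :=
    Groth.Agent.AlgSpCartier.map_nonZeroDivisors_of_flat _ (fst G H).left.flat_appTop
      (mem_nonZeroDivisors_of_ne_zero fun h0 => hb (Subtype.ext h0))
  show ((G ◁ i) ≫ μ[G]).left.appTop.hom y = (fst G H).left.appTop.hom y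
  refine (mul_cancel_right_mem_nonZeroDivisors hbn).1 ?_
  have ea : ((G ◁ i) ≫ μ[G]).left.appTop.hom (a : Γ(G.left, ⊤)) = (fst G H).left.appTop.hom a := a.2
  have eb : ((G ◁ i) ≫ μ[G]).left.appTop.hom (b : Γ(G.left, ⊤)) = (fst G H).left.appTop.hom b := b.2
  calc _ = ((G ◁ i) ≫ μ[G]).left.appTop.hom (y * b) := by rw [map_mul, eb]
    _ = (fst G H).left.appTop.hom (y * b) := by rw [show y * (b : Γ(G.left, ⊤)) = a from hab.symm, ea]
    _ = _ := map_mul _ _ _

end Groth.Agent.S11192
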