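import Groth.Statements.S11198
import Groth.Agent.Lib.InvRing21.Regular
import Groth.Agent.Lib.AffRep19.ProperGamma
import Groth.Agent.Lib.RigidRel.H0
import Groth.Agent.Lib.UnitsRos.Affine
import Groth.Agent.Lib.LimH13.Reduced
import Groth.Agent.Lib.OrbitTop19.Smooth
-- import your own Groth.Agent.* helpers here

set_option autoImplicit false
universe u
open CategoryTheory MonoidalCategory CartesianMonoidalCategory MonObj GrpObj AlgebraicGeometry
open scoped TensorProduct
open AGF

namespace Groth.Agent.S11198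

/-- Let k be an algebraically closed field, G a linear algebraic group over k and H₁ ⊆ H₂ ⊆ G closed
subgroups (smooth closed subgroup schemes i₁ : H₁ → H₂, i₂ : H₂ → G), such that the quotient H₂/H₁
(the scheme X with H₂-action a and base point o) is proper over k and irreducible. Then a global
function on G is invariant under right translation by H₁ if and only if it is invariant under right
translation by H₂. -/
theorem result (k : Type u) [Field k] [IsAlgClosed k]
    (G : Over (Spec (CommRingCat.of k))) [GrpObj G] [IsAffine G.left] [Smooth G.hom]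
    (H₂ : Over (Spec (CommRingCat.of k))) [GrpObj H₂] [Smooth H₂.hom] (i₂ : H₂ ⟶ G) [IsMonHom i₂] [IsClosedImmersion i₂.left]
    (H₁ : Over (Spec (CommRingCat.of k))) [GrpObj H₁] [Smooth H₁.hom] (i₁ : H₁ ⟶ H₂) [IsMonHom i₁] [IsClosedImmersion i₁.left]
    (X : Over (Spec (CommRingCat.of k))) (a : AlgGrp.Action H₂ X) (o : 𝟙_ (Over (Spec (CommRingCat.of k))) ⟶ X) (hX : AGF.IsQuotient i₁ X a o)
    [IsProper X.hom] [IrreducibleSpace X.left] :
    AGF.rTransInv (i₁ ≫ i₂) = AGF.rTransInv i₂ := by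
  classical
  haveI : IsAffine H₂.left := isAffine_of_isAffineHom i₂.left
  haveI : IsAffine H₁.left := isAffine_of_isAffineHom i₁.left
  obtain ⟨_, hflat, hsurj, hpb⟩ := hX
  ext f
  constructor
  swap
  · intro hf
    show AGF.IsRTransInv (i₁ ≫ i₂) f
    have h := congrArg (G ◁ i₁).left.appTop
      (show ((G ◁ i₂) ≫ μ[G]).left.appTop f = (fst G H₂).left.appTop f from hf)
    rw [← CommRingCat.comp_apply, ← CommRingCat.comp_apply, ← Scheme.Hom.comp_appTop, ← Scheme.Hom.comp_appTop,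
      ← Over.comp_left, ← Over.comp_left, ← whiskerLeft_comp_assoc, whiskerLeft_fst] at h
    exact h
  intro hf
  show ((G ◁ i₂) ≫ μ[G]).left.appTop f = (fst G H₂).left.appTop f
  letI := Groth.Agent.InvRing21.gamAlg (G ⊗ H₂)
  haveI : Smooth (G ⊗ H₂).hom := inferInstanceAs (Smooth (Limits.pullback.fst G.hom H₂.hom ≫ G.hom))
  haveI : IsReduced (G ⊗ H₂).left := Groth.Agent.OrbitTop19.isReduced_of_smooth (G ⊗ H₂).hom
  haveI : Algebra.FiniteType k Γ((G ⊗ H₂).left, ⊤) := by
    have h : (Scheme.Hom.appTop (G ⊗ H₂).hom).hom.FiniteType :=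
      HasRingHomProperty.appTop (P := @LocallyOfFiniteType) _ inferInstance
    exact h.comp (RingHom.FiniteType.of_surjective _
      (Scheme.ΓSpecIso (CommRingCat.of k)).symm.commRingCatIsoToRingEquiv.surjective)
  haveI : IsReduced H₂.left := Groth.Agent.OrbitTop19.isReduced_of_smooth H₂.hom
  haveI := hflat
  haveI := hsurj
  haveI : IsReduced X.left := Groth.Agent.LimH13.isReduced_of_flat_of_surjective (a.orbitMap o).left
  haveI : IsIntegral X.left := isIntegral_of_irreducibleSpace_of_isReduced X.left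
  haveI : QuasiCompact ((a.orbitMap o).left ≫ X.hom) := by
    rw [Over.w (a.orbitMap o)]; exact (quasiCompact_iff_compactSpace H₂.hom).2 inferInstance
  haveI : QuasiCompact (a.orbitMap o).left := QuasiCompact.of_comp _ X.hom
  have key : ∀ x : 𝟙_ (Over (Spec (CommRingCat.of k))) ⟶ G, ∀ h : 𝟙_ (Over (Spec (CommRingCat.of k))) ⟶ H₂,
      (x * (h ≫ i₂)).left.appTop f = x.left.appTop f := by
    intro x h
    let m : H₂ ⟶ G := (toUnit H₂ ≫ x) * i₂
    let t : H₂ ⊗ H₁ ⟶ G ⊗ H₁ := lift (fst H₂ H₁ ≫ m) (snd H₂ H₁)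
    have h1 : t ≫ fst G H₁ = fst H₂ H₁ ≫ m := lift_fst _ _
    have h2 : t ≫ (G ◁ (i₁ ≫ i₂)) ≫ μ[G] = ((H₂ ◁ i₁) ≫ μ[H₂]) ≫ m := by
      rw [Groth.Agent.InvRing21.whisker_mul, Groth.Agent.InvRing21.whisker_mul, MonObj.comp_mul, lift_fst,
        ← Category.assoc, lift_snd]
      simp only [m, MonObj.comp_mul, MonObj.mul_comp, Category.assoc]
      rw [← Category.assoc _ (toUnit H₂), toUnit_unique (_ ≫ toUnit H₂) (toUnit _)]
      rw [← Category.assoc _ (toUnit H₂), toUnit_unique (_ ≫ toUnit H₂) (toUnit _), _root_.mul_assoc]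
    have hF : (fst H₂ H₁).left.appTop (m.left.appTop f) = ((H₂ ◁ i₁) ≫ μ[H₂]).left.appTop (m.left.appTop f) := by
      have e := congrArg t.left.appTop
        (show ((G ◁ (i₁ ≫ i₂)) ≫ μ[G]).left.appTop f = (fst G H₁).left.appTop f from hf)
      rw [← CommRingCat.comp_apply, ← CommRingCat.comp_apply, ← Scheme.Hom.comp_appTop, ← Scheme.Hom.comp_appTop,
        ← Over.comp_left, ← Over.comp_left, h1, h2] at e
      simpa only [Over.comp_left, Scheme.Hom.comp_appTop, CommRingCat.comp_apply] using e.symm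
    have hpb' : IsPullback (fst H₂ H₁).left ((H₂ ◁ i₁) ≫ μ[H₂]).left (a.orbitMap o).left (a.orbitMap o).left :=
      hpb.map (Over.forget _)
    obtain ⟨b, hb⟩ := Groth.Agent.RigidRel.exists_appTop_eq (a.orbitMap o).left (m.left.appTop f) (by
      rw [← hpb'.isoPullback_inv_fst, ← hpb'.isoPullback_inv_snd, Scheme.Hom.comp_appTop, Scheme.Hom.comp_appTop,
        CommRingCat.comp_apply, CommRingCat.comp_apply, hF])
    obtain ⟨c, rfl⟩ := (Groth.Agent.AffRep19.bijective_structure X.left X.hom).2 b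
    have hconst : ∀ q : 𝟙_ (Over (Spec (CommRingCat.of k))) ⟶ H₂,
        (q ≫ m).left.appTop f = ((Scheme.ΓSpecIso (CommRingCat.of k)).inv ≫
          (𝟙_ (Over (Spec (CommRingCat.of k)))).hom.appTop) c := by
      intro q
      rw [Over.comp_left, Scheme.Hom.comp_appTop, CommRingCat.comp_apply, ← hb, ← CommRingCat.comp_apply,
        ← Scheme.Hom.comp_appTop, ← Over.comp_left]
      show (((Scheme.ΓSpecIso (CommRingCat.of k)).inv ≫ X.hom.appTop) ≫ (q ≫ a.orbitMap o).left.appTop) c = _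
      rw [Category.assoc, ← Scheme.Hom.comp_appTop, Over.w (q ≫ a.orbitMap o)]
    have e1 := (hconst h).trans (hconst 1).symm
    simp only [m, MonObj.comp_mul, MonObj.one_comp, MonObj.comp_one, _root_.mul_one] at e1
    rw [← Category.assoc h, ← Category.assoc (1 : 𝟙_ (Over (Spec (CommRingCat.of k))) ⟶ H₂),
      toUnit_unique (h ≫ toUnit H₂) (𝟙 _), toUnit_unique ((1 : _ ⟶ H₂) ≫ toUnit H₂) (𝟙 _), Category.id_comp] at e1
    exact e1
  haveI : IsReduced (G ⊗ H₂).left := inferInstance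
  haveI : _root_.IsReduced Γ((G ⊗ H₂).left, ⊤) := inferInstance
  rw [← sub_eq_zero]
  by_contra hne
  obtain ⟨χ, hχ⟩ := Groth.Agent.UnitsRos.exists_point_ne_zero (k := k) hne
  let u : 𝟙_ (Over (Spec (CommRingCat.of k))) ⟶ VecGrp.pt k k := Over.homMk (𝟙 (Spec (CommRingCat.of k))) (by
    show 𝟙 _ ≫ Spec.map (CommRingCat.ofHom (algebraMap k k)) = 𝟙 _
    rw [show CommRingCat.ofHom (algebraMap k k) = 𝟙 _ from rfl, Spec.map_id, Category.comp_id])
  let q : VecGrp.pt k k ⟶ G ⊗ H₂ := VecGrp.ptMap χ ≫ Groth.Agent.InvRing21.uPt (G ⊗ H₂)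
  have hq : Groth.Agent.InvRing21.val q = χ := by
    rw [Groth.Agent.InvRing21.val_ptMap, Groth.Agent.InvRing21.val_uPt, AlgHom.comp_id]
  apply hχ
  rw [← hq]
  have hk := key ((u ≫ q) ≫ fst G H₂) ((u ≫ q) ≫ snd G H₂)
  rw [Category.assoc (u ≫ q) (snd G H₂), ← MonObj.comp_mul, ← Groth.Agent.InvRing21.whisker_mul] at hk
  show Groth.Agent.InvRing21.ptHom k (q.left.appTop (_ - _)) = 0
  rw [map_sub, map_sub, sub_eq_zero]
  refine congrArg (Groth.Agent.InvRing21.ptHom k) ?_
  have hu : Function.Injective u.left.appTop := by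
    intro z z' e
    simpa [u] using e
  apply hu
  simpa only [Over.comp_left, Scheme.Hom.comp_appTop, CommRingCat.comp_apply] using hk

end Groth.Agent.S11198
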