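import Groth.Statements.S11200
import Groth.Agent.Lib.InvRing21.Line
-- import your own Groth.Agent.* helpers here

set_option autoImplicit false
universe u
open CategoryTheory MonoidalCategory CartesianMonoidalCategory MonObj GrpObj AlgebraicGeometry
open scoped TensorProduct
open AGF

namespace Groth.Agent.S11200

/-- Let k be an algebraically closed field, G a linear algebraic group over k (an affine smooth group
scheme over k) and H a closed subgroup of G (a smooth closed subgroup scheme, i : H → G). If H has
no non-trivial character (every homomorphism from H to the multiplicative group is trivial), then H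
is observable in G. -/
theorem result (k : Type u) [Field k] [IsAlgClosed k]
    (G : Over (Spec (CommRingCat.of k))) [GrpObj G] [IsAffine G.left] [Smooth G.hom]
    (H : Over (Spec (CommRingCat.of k))) [GrpObj H] [Smooth H.hom] (i : H ⟶ G) [IsMonHom i]
    [IsClosedImmersion i.left]
    (hχ : ∀ (χ : H ⟶ Red.Gm (Spec (CommRingCat.of k))), IsMonHom χ → χ = 1) :
    AGF.IsObservableIn k i := by
  haveI : IsAffine H.left := isAffine_of_isAffineHom i.left
  letI := Groth.Agent.InvRing21.gamAlg G
  letI := Groth.Agent.InvRing21.gamAlg H
  refine Groth.Agent.InvRing21.observable_of_inverse fun χ hm f hf hf1 => ⟨f, hf.congr fun h => ?_, by rw [hf1]; exact one_ne_zero⟩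
  rw [hχ χ hm, GmPts.gmFn_one, map_one, inv_one]

end Groth.Agent.S11200
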