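import Groth.Statements.S11201
import Groth.Agent.Lib.TorPts21.RadicalChar
import Groth.Agent.Lib.TorPts21.CharExtend
import Groth.Agent.Lib.InvRing21.OpenSubgroup
import Groth.Agent.Lib.InvRing21.Inverse
import Groth.Agent.S11189
import Groth.Agent.S11195
-- import your own Groth.Agent.* helpers here

set_option autoImplicit false
universe u
open CategoryTheory MonoidalCategory CartesianMonoidalCategory MonObj GrpObj AlgebraicGeometry
open scoped TensorProduct
open AGF

namespace Groth.Agent.S11201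

/-- Let k be an algebraically closed field, G a linear algebraic group over k (an affine smooth group
scheme over k) and H a closed subgroup of G (a smooth closed subgroup scheme, i : H → G). Let R ⊆ H
be the radical of H: a smooth connected solvable closed normal subgroup of H through which every
smooth connected solvable closed normal subgroup of H factors. Then H is observable in G if and only
if R is observable in G. -/
theorem result (k : Type u) [Field k] [IsAlgClosed k]
    (G : Over (Spec (CommRingCat.of k))) [GrpObj G] [IsAffine G.left] [Smooth G.hom]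
    (H : Over (Spec (CommRingCat.of k))) [GrpObj H] [Smooth H.hom] (i : H ⟶ G) [IsMonHom i]
    [IsClosedImmersion i.left]
    (R : Over (Spec (CommRingCat.of k))) [GrpObj R] [Smooth R.hom] [ConnectedSpace R.left] (r : R ⟶ H) [IsMonHom r]
    [IsClosedImmersion r.left] (hn : AlgGrp.IsNormalHom r) (hsol : Red.IsSolvableGrp R)
    (hmax : ∀ (R' : Over (Spec (CommRingCat.of k))) [GrpObj R'] (r' : R' ⟶ H) [IsMonHom r'], IsClosedImmersion r'.left → Smooth R'.hom →
      ConnectedSpace R'.left → AlgGrp.IsNormalHom r' → Red.IsSolvableGrp R' → ∃ f : R' ⟶ R, f ≫ r = r') :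
    AGF.IsObservableIn k i ↔ AGF.IsObservableIn k (r ≫ i) := by
  classical
  haveI : IsAffine H.left := isAffine_of_isAffineHom i.left
  haveI : IsAffine R.left := isAffine_of_isAffineHom r.left
  haveI : IsClosedImmersion (r ≫ i).left := by rw [Over.comp_left]; infer_instance
  letI := Groth.Agent.InvRing21.gamAlg G
  letI := Groth.Agent.InvRing21.gamAlg H
  obtain ⟨H₀, _, jH, hj, hjo, hjc⟩ := Groth.Agent.BorelFix21.exists_identity_component H
  haveI := hj
  haveI := hjo
  haveI := hjc
  haveI := InvRing21.isClosedImmersion_of_open_subgroup jH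
  haveI : Smooth H₀.hom := InvRing21.smooth_of_openImmersion jH
  haveI : IsAffine H₀.left := isAffine_of_isAffineHom jH.left
  haveI : Mono jH := Over.mono_of_mono_left jH
  haveI : IsClosedImmersion (jH ≫ i).left := by rw [Over.comp_left]; infer_instance
  obtain ⟨r₀, hr₀⟩ := TorPts21.exists_lift_open jH r
  haveI : IsMonHom r₀ := BorelFix21.isMonHom_of_comp jH r₀ (hr₀ ▸ ‹IsMonHom r›)
  haveI : IsClosedImmersion (r₀ ≫ jH).left := hr₀.symm ▸ ‹IsClosedImmersion r.left›
  haveI : IsClosedImmersion r₀.left := IsClosedImmersion.of_comp r₀.left jH.left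
  have hr₀n : AlgGrp.IsNormalHom r₀ := fun X g x => by
    obtain ⟨x', hx'⟩ := hn X (g ≫ jH) x
    refine ⟨x', (cancel_mono jH).1 ?_⟩
    rw [MonObj.mul_comp, MonObj.mul_comp, GrpObj.inv_comp, Category.assoc, hr₀, Category.assoc, hr₀, hx']
  constructor
  · intro hobs
    obtain ⟨X', a', o', hX', hX'a⟩ := TorPts21.exists_affine_quotient r₀ hr₀n
    haveI := hX'a
    have h1 : AGF.IsObservableIn k r₀ :=
      (Groth.Agent.S11189.result k H₀ R r₀ X' a' o' hX').2 inferInstance
    have h2 := Groth.Agent.S11195.result k H H₀ jH R r₀ h1 (Groth.Agent.InvRing21.observable_of_open jH)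
    have h3 := Groth.Agent.S11195.result k G H i R (r₀ ≫ jH) h2 hobs
    rwa [Category.assoc, ← Category.assoc r₀, hr₀] at h3
  intro hobs
  suffices h₀ : AGF.IsObservableIn k (jH ≫ i) from Groth.Agent.InvRing21.observable_of_inverse fun χ hm f hf hf1 =>
    Groth.Agent.InvRing21.exists_inv_of_open jH i h₀ hf hf1
  letI := Groth.Agent.InvRing21.gamAlg H₀
  letI := Groth.Agent.InvRing21.gamAlg R
  refine Groth.Agent.InvRing21.observable_of_inverse fun χ hχ f hf hf1 => ?_
  haveI := hχ
  let l : (VecGrp.pt k k ⟶ H₀) → k := fun h => InvRing21.val h (Red.gmFn χ)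
  have hf10 : InvRing21.val (1 : VecGrp.pt k k ⟶ G) f ≠ 0 := by rw [hf1]; exact one_ne_zero
  obtain ⟨hl1, hlm⟩ := hf.mult hf10
  have hl0 := hf.ne_zero hf10
  have hre : r₀ ≫ jH ≫ i = r ≫ i := by rw [← Category.assoc, hr₀]
  have hobs' : AGF.IsObservableIn k (r₀ ≫ jH ≫ i) := by rw [hre]; exact hobs
  haveI : IsClosedImmersion (r₀ ≫ jH ≫ i).left := by rw [hre]; infer_instance
  have hfR : InvRing21.Semi (r₀ ≫ jH ≫ i) (fun x => l (x ≫ r₀)) f := fun x y => by
    rw [← Category.assoc]; exact hf x _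
  obtain ⟨d, hd, hd1⟩ := hfR.exists_inv hobs' hf10
  obtain ⟨n, D, δ, hn0, hD, hD1, hδR⟩ :=
    TorPts21.exists_det_semi (jH ≫ i) r₀ hr₀n l hl1 hlm d (hd.congr fun x => rfl) hd1
  obtain ⟨hδ1, hδm⟩ := hD.mult hD1
  -- the product is trivial on the radical
  let φ : Γ(H₀.left, ⊤) := (InvRing21.val (1 : VecGrp.pt k k ⟶ G) D)⁻¹ • InvRing21.appAlg (jH ≫ i) (D * f ^ n)
  have hφ : ∀ h, InvRing21.val h φ = δ h * l h ^ n := fun h => by
    have e1 := hD 1 h
    have e2 := hf 1 h
    rw [_root_.one_mul (h ≫ jH ≫ i)] at e1 e2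
    rw [map_smul, InvRing21.appAlg_apply, InvRing21.appTop_val, map_mul, map_pow, e1, e2, hf1, _root_.mul_one,
      smul_eq_mul, ← _root_.mul_assoc, _root_.mul_comm (δ h), inv_mul_cancel_left₀ hD1]
  obtain ⟨Z, _, ζ, hζm, hζc, hZs, hZn, hZsol, hZnorm, hZall⟩ := TorPts21.exists_normal_radical jH
  haveI := hζm
  haveI := hζc
  haveI : IsClosedImmersion (ζ ≫ jH).left := by rw [Over.comp_left]; infer_instance
  obtain ⟨g, hg⟩ := hmax Z (ζ ≫ jH) inferInstance hZs hZn hZnorm hZsol
  have hZR : ∀ y : VecGrp.pt k k ⟶ Z, InvRing21.val (y ≫ ζ) φ = 1 := fun y => by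
    have e : y ≫ ζ = (y ≫ g) ≫ r₀ := (cancel_mono jH).1 (by
      rw [Category.assoc, Category.assoc, Category.assoc, hr₀, hg])
    rw [e, hφ, hδR, ← mul_pow, inv_mul_cancel₀ (hl0 _), one_pow]
  have hone : ∀ h, δ h * l h ^ n = 1 := fun h => by
    rw [← hφ]
    refine TorPts21.eq_one_of_radical φ ?_ (fun a b => ?_) (fun R' _ ρ _ hρc hRs hRn hρn hRsol y => ?_) h
    · rw [hφ, hδ1, show l 1 = 1 from hl1, one_pow, _root_.mul_one]
    · rw [hφ, hφ, hφ, hδm, show l (a * b) = l b * l a from hlm a b]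
      ring
    · obtain ⟨s, hs⟩ := hZall R' ρ hρc hRs hRn hρn hRsol
      rw [← hs, ← Category.assoc]
      exact hZR _
  refine ⟨D * f ^ (n - 1), fun x h => ?_, ?_⟩
  · rw [map_mul, map_mul, map_pow, map_pow, hD, hf]
    have h1 : δ h * l h ^ (n - 1) = (l h)⁻¹ := eq_inv_of_mul_eq_one_left (by
      rw [_root_.mul_assoc, ← pow_succ, Nat.sub_add_cancel hn0]; exact hone h)
    show δ h * InvRing21.val x D * (l h * InvRing21.val x f) ^ (n - 1) = (l h)⁻¹ * _
    rw [← h1, mul_pow]
    ring
  · rw [map_mul, map_pow, hf1, one_pow, _root_.mul_one]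
    exact hD1

end Groth.Agent.S11201
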