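import Groth.Statements.S11202
import Groth.Agent.Lib.TorPts21.RadicalChar
import Groth.Agent.Lib.InvRing21.OpenSubgroup
import Groth.Agent.Lib.InvRing21.Extend
import Groth.Agent.S11200
-- import your own Groth.Agent.* helpers here

set_option autoImplicit false
universe u
open CategoryTheory MonoidalCategory CartesianMonoidalCategory MonObj GrpObj AlgebraicGeometry
open scoped TensorProduct
open AGF

namespace Groth.Agent.S11202

/-- Let k be an algebraically closed field, G a linear algebraic group over k (an affine smooth group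
scheme over k) and H a closed subgroup of G (a smooth closed subgroup scheme, i : H → G). If the
radical of H is unipotent — every smooth connected solvable closed normal subgroup of H contains no
non-trivial subtorus — then H is observable in G. -/
theorem result (k : Type u) [Field k] [IsAlgClosed k]
    (G : Over (Spec (CommRingCat.of k))) [GrpObj G] [IsAffine G.left] [Smooth G.hom]
    (H : Over (Spec (CommRingCat.of k))) [GrpObj H] [Smooth H.hom] (i : H ⟶ G) [IsMonHom i]
    [IsClosedImmersion i.left]
    (hrad : ∀ (R : Over (Spec (CommRingCat.of k))) [GrpObj R] (r : R ⟶ H) [IsMonHom r], IsClosedImmersion r.left → Smooth R.hom →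
      ConnectedSpace R.left → AlgGrp.IsNormalHom r → Red.IsSolvableGrp R → Red.HasNoSubtorus k R) :
    AGF.IsObservableIn k i := by
  haveI : IsAffine H.left := isAffine_of_isAffineHom i.left
  letI := Groth.Agent.InvRing21.gamAlg G
  letI := Groth.Agent.InvRing21.gamAlg H
  obtain ⟨H₀, _, jH, hj, hjo, hjc⟩ := Groth.Agent.BorelFix21.exists_identity_component H
  haveI := hj
  haveI := hjo
  haveI := hjc
  haveI := InvRing21.isClosedImmersion_of_open_subgroup jH
  haveI : Smooth H₀.hom := InvRing21.smooth_of_openImmersion jH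
  haveI : IsAffine H₀.left := isAffine_of_isAffineHom jH.left
  haveI : IsClosedImmersion (jH ≫ i).left := by rw [Over.comp_left]; infer_instance
  obtain ⟨Z, _, ζ, hζm, hζc, hZs, hZn, hZsol, hZnorm, hZall⟩ := TorPts21.exists_normal_radical jH
  haveI := hζm
  haveI := hζc
  haveI := hZs
  haveI := hZn
  haveI : IsAffine Z.left := isAffine_of_isAffineHom ζ.left
  haveI : IsClosedImmersion (ζ ≫ jH).left := by rw [Over.comp_left]; infer_instance
  have hZt := hrad Z (ζ ≫ jH) inferInstance hZs hZn hZnorm hZsol
  letI := Groth.Agent.InvRing21.gamAlg H₀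
  letI := Groth.Agent.InvRing21.gamAlg Z
  have hobs : AGF.IsObservableIn k (jH ≫ i) := by
    refine Groth.Agent.S11200.result k G H₀ (jH ≫ i) fun χ hχ => GmPts.gmFn_injective ?_
    haveI := hχ
    show Red.gmFn χ = Red.gmFn 1
    rw [GmPts.gmFn_one]
    refine InvRing21.ext_val fun x => ?_
    rw [map_one]
    have hm : ∀ a b : VecGrp.pt k k ⟶ H₀, InvRing21.val (a * b) (Red.gmFn χ) =
        InvRing21.val a (Red.gmFn χ) * InvRing21.val b (Red.gmFn χ) := fun a b =>
      InvRing21.val_gmFn_mul χ a b
    have h1 : InvRing21.val (1 : VecGrp.pt k k ⟶ H₀) (Red.gmFn χ) = 1 := InvRing21.val_gmFn_one χ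
    refine TorPts21.eq_one_of_radical (Red.gmFn χ) h1 hm (fun R _ ρ _ hρc hRs hRn hρn hRsol y => ?_) x
    obtain ⟨f, hf⟩ := hZall R ρ hρc hRs hRn hρn hRsol
    rw [← hf, ← Category.assoc, ← InvRing21.appTop_val]
    refine TorPts21.eq_one_of_char hZt _ (fun a b => ?_) (fun a h0 => ?_) _
    · rw [InvRing21.appTop_val, InvRing21.appTop_val, InvRing21.appTop_val, MonObj.mul_comp, hm]
    · have := hm (a ≫ ζ) (a ≫ ζ)⁻¹
      rw [mul_inv_cancel, h1, ← InvRing21.appTop_val, h0, zero_mul] at this
      exact one_ne_zero this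
  exact Groth.Agent.InvRing21.observable_of_inverse fun χ hm f hf hf1 =>
    Groth.Agent.InvRing21.exists_inv_of_open jH i hobs hf hf1

end Groth.Agent.S11202
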