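import Groth.Statements.S11205
import Groth.Agent.Lib.CAlgLow.NormalInter
import Groth.Agent.Lib.UnitsRos.Scheme
import Mathlib.RingTheory.LocalProperties.IntegrallyClosed
import Mathlib.AlgebraicGeometry.Morphisms.UniversallyInjective
import Mathlib.AlgebraicGeometry.AlgClosed.Basic
import Mathlib.RingTheory.Adjoin.Tower
-- import your own Groth.Agent.* helpers here

set_option autoImplicit false
universe u
open CategoryTheory MonoidalCategory CartesianMonoidalCategory MonObj GrpObj AlgebraicGeometry
open scoped TensorProduct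
open AGF

namespace Groth.Agent.S11205

/-- Let k be an algebraically closed field and let X and Y be irreducible normal varieties over k
(integral separated schemes of finite type over k all of whose local rings are integrally closed),
and π : Y → X a k-morphism which is bijective on points. If the ring of global functions of Y is
finitely generated over k, then so is the ring of global functions of X. (The published statement
asks π bijective on rational points; this row asks bijectivity on all points, which for schemes of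
finite type over an algebraically closed field is the same condition.) -/
theorem result (k : Type u) [Field k] [IsAlgClosed k] (X Y : Over (Spec (CommRingCat.of k)))
    [IsIntegral X.left] [IsIntegral Y.left] [LocallyOfFiniteType X.hom] [QuasiCompact X.hom]
    [IsSeparated X.hom] [LocallyOfFiniteType Y.hom] [QuasiCompact Y.hom] [IsSeparated Y.hom]
    (hX : ∀ x : X.left, IsIntegrallyClosed ↑(X.left.presheaf.stalk x))
    (hY : ∀ y : Y.left, IsIntegrallyClosed ↑(Y.left.presheaf.stalk y))
    (π : Y ⟶ X) (hπ : Function.Bijective π.left.base)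
    (hfg : ((Scheme.ΓSpecIso (CommRingCat.of k)).inv ≫ Y.hom.appTop).hom.FiniteType) :
    ((Scheme.ΓSpecIso (CommRingCat.of k)).inv ≫ X.hom.appTop).hom.FiniteType := by
  classical
  haveI : IsSeparated π.left := by
    haveI : IsSeparated (π.left ≫ X.hom) := by rw [Over.w π]; infer_instance
    exact IsSeparated.of_comp π.left X.hom
  haveI : LocallyOfFiniteType π.left := by
    haveI : LocallyOfFiniteType (π.left ≫ X.hom) := by rw [Over.w π]; infer_instance
    exact locallyOfFiniteType_of_comp π.left X.hom
  -- universal injectivity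
  have huinj : UniversallyInjective π.left := by
    rw [UniversallyInjective.iff_diagonal, surjective_iff]
    let P := Limits.pullback π.left π.left
    let hP : P ⟶ Spec (CommRingCat.of k) := Limits.pullback.fst π.left π.left ≫ Y.hom
    haveI : LocallyOfFiniteType hP := inferInstance
    haveI : JacobsonSpace P := LocallyOfFiniteType.jacobsonSpace hP
    intro z
    by_contra hz
    have hcl : IsClosed (Set.range (Limits.pullback.diagonal π.left).base) :=
      (Limits.pullback.diagonal π.left).isClosedEmbedding.isClosed_range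
    obtain ⟨w, hw, hwc⟩ := nonempty_inter_closedPoints (⟨z, hz⟩ : ((Set.range (Limits.pullback.diagonal π.left).base)ᶜ).Nonempty)
      hcl.isOpen_compl.isLocallyClosed
    let q := pointOfClosedPoint hP w hwc
    have hq : q ≫ hP = 𝟙 _ := pointOfClosedPoint_comp hP w hwc
    have h1 : (q ≫ Limits.pullback.fst π.left π.left) ≫ Y.hom = 𝟙 _ := by rw [Category.assoc]; exact hq
    have h2 : (q ≫ Limits.pullback.snd π.left π.left) ≫ Y.hom = 𝟙 _ := by
      rw [Category.assoc, ← Over.w π, ← Category.assoc (Limits.pullback.snd π.left π.left), ← Limits.pullback.condition,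
        Category.assoc, Over.w π]
      exact hq
    have heq : q ≫ Limits.pullback.fst π.left π.left = q ≫ Limits.pullback.snd π.left π.left := by
      refine ext_of_apply_closedPoint_eq Y.hom h1 h2 (hπ.1 ?_)
      exact congrArg (fun e : Spec (CommRingCat.of k) ⟶ X.left => e.base (IsLocalRing.closedPoint k))
        (show (q ≫ Limits.pullback.fst π.left π.left) ≫ π.left = (q ≫ Limits.pullback.snd π.left π.left) ≫ π.left by
          rw [Category.assoc, Category.assoc, Limits.pullback.condition])
    have hfac : (q ≫ Limits.pullback.fst π.left π.left) ≫ Limits.pullback.diagonal π.left = q :=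
      Limits.pullback.hom_ext (by simp) (by simp [heq])
    refine hw ⟨(q ≫ Limits.pullback.fst π.left π.left).base (IsLocalRing.closedPoint k), ?_⟩
    exact (congrArg (fun e : Spec (CommRingCat.of k) ⟶ P => e.base (IsLocalRing.closedPoint k)) hfac).trans
      (pointOfClosedPoint_apply hP w hwc _)
  have hrad := ((tfae_universallyInjective π.left).out 0 2).1 huinj
  -- generic points
  set gY := genericPoint Y.left
  set gX := π.left.base gY with hgX
  have hgXgen : gX = genericPoint X.left := by
    haveI : Surjective π.left := ⟨hπ.2⟩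
    refine ((genericPoint_spec X.left).eq ?_).symm
    have h := (genericPoint_spec Y.left).image π.left.continuous
    rwa [Set.image_univ, hπ.2.range_eq, closure_univ] at h
  have hgXF : IsField (X.left.presheaf.stalk gX) := by
    rw [hgXgen]; exact Field.toIsField X.left.functionField
  have hgYF : IsField (Y.left.presheaf.stalk gY) := Field.toIsField Y.left.functionField
  have hgXmem : ∀ U : X.left.Opens, Nonempty U → gX ∈ U := fun U ⟨x, hx⟩ => by
    rw [hgXgen]; exact (genericPoint_specializes x).mem_open U.isOpen hx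
  let φ := (π.left.stalkMap gY).hom
  have hφinj : Function.Injective φ := by
    letI := hgXF.toField
    exact φ.injective
  -- the purely inseparable step
  have hpow : ∀ a : Y.left.presheaf.stalk gY, ∃ (N : ℕ) (g : X.left.presheaf.stalk gX), 0 < N ∧ φ g = a ^ N := by
    intro a
    letI : Algebra (X.left.residueField gX) (Y.left.residueField gY) := (π.left.residueFieldMap gY).hom.toAlgebra
    haveI : IsPurelyInseparable (X.left.residueField gX) (Y.left.residueField gY) := hrad.2 gY
    obtain ⟨q, _⟩ := ExpChar.exists (X.left.residueField gX)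
    obtain ⟨n, g', hg⟩ := IsPurelyInseparable.pow_mem (X.left.residueField gX) q ((Y.left.residue gY).hom a)
    obtain ⟨g, rfl⟩ := X.left.residue_surjective gX g'
    refine ⟨q ^ n, g, pow_pos (expChar_pos (X.left.residueField gX) q) n, ?_⟩
    have hres : Function.Injective (Y.left.residue gY).hom := by
      letI := hgYF.toField
      exact (Y.left.residue gY).hom.injective
    refine hres ?_
    rw [map_pow, ← hg, RingHom.algebraMap_toAlgebra]
    exact (ConcreteCategory.congr_hom (Scheme.residue_residueFieldMap π.left gY) g).symm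
  -- descending functions
  have key : ∀ f : Γ(Y.left, ⊤), ∃ (N : ℕ) (G : Γ(X.left, ⊤)), 0 < N ∧ π.left.appTop G = f ^ N := by
    intro f
    obtain ⟨N, g, hN, hg⟩ := hpow (Y.left.presheaf.germ ⊤ gY trivial f)
    have hloc : ∀ U : X.left.affineOpens, ∀ hne : Nonempty U.1, ∃ c : Γ(X.left, U.1),
        X.left.presheaf.germ U.1 gX (hgXmem U.1 hne) c = g := by
      rintro ⟨U, hU⟩ hne
      have hgXU := hgXmem U hne
      letI := X.left.presheaf.algebra_section_stalk (⟨gX, hgXU⟩ : U)
      haveI := hU.isLocalization_stalk ⟨gX, hgXU⟩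
      haveI : IsNoetherianRing Γ(X.left, U) := by
        haveI : IsLocallyNoetherian X.left := LocallyOfFiniteType.isLocallyNoetherian X.hom
        exact IsLocallyNoetherian.component_noetherian ⟨U, hU⟩
      haveI : Nonempty (U : X.left.Opens) := hne
      haveI : IsIntegrallyClosed Γ(X.left, U) := by
        refine IsIntegrallyClosed.of_localization_maximal fun p hp0 hp => ?_
        let x : U := ⟨hU.fromSpec ⟨p, hp.isPrime⟩, hU.range_fromSpec.le (Set.mem_range_self (f := hU.fromSpec) ⟨p, hp.isPrime⟩)⟩
        letI := X.left.presheaf.algebra_section_stalk x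
        haveI : IsLocalization.AtPrime (X.left.presheaf.stalk (x : X.left)) p :=
          hU.isLocalization_stalk' ⟨p, hp.isPrime⟩ x.2
        haveI := hX x
        exact IsIntegrallyClosed.of_equiv
          (IsLocalization.algEquiv p.primeCompl (X.left.presheaf.stalk (x : X.left)) (Localization.AtPrime p)).toRingEquiv
      obtain ⟨⟨a, ⟨b, hb⟩⟩, hab⟩ := IsLocalization.surj (hU.primeIdealOf ⟨gX, hgXU⟩).asIdeal.primeCompl g
      have hb0 : b ≠ 0 := fun h => hb (h ▸ Ideal.zero_mem _)
      have hginj : Function.Injective (X.left.presheaf.germ U gX hgXU) :=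
        AlgebraicGeometry.germ_injective_of_isIntegral (X := X.left) gX hgXU
      suffices hdvd : b ∣ a by
        obtain ⟨c, rfl⟩ := hdvd
        refine ⟨c, ?_⟩
        have hb' : X.left.presheaf.germ U gX hgXU b ≠ 0 := fun h => hb0 (hginj (by rw [h, map_zero]))
        letI := hgXF.toField
        apply mul_right_cancel₀ hb'
        rw [← map_mul, mul_comm c b]
        exact hab.symm
      refine Groth.Agent.NormalInter.dvd_of_forall_height_one hb0 fun P _ hP => ?_
      let x : U := ⟨hU.fromSpec ⟨P, ‹_›⟩, hU.range_fromSpec.le (Set.mem_range_self (f := hU.fromSpec) ⟨P, ‹_›⟩)⟩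
      letI := X.left.presheaf.algebra_section_stalk x
      haveI : IsLocalization.AtPrime (X.left.presheaf.stalk (x : X.left)) P :=
        hU.isLocalization_stalk' ⟨P, ‹_›⟩ x.2
      let O := X.left.presheaf.stalk (x : X.left)
      haveI : IsNoetherianRing O := IsLocalization.isNoetherianRing P.primeCompl O inferInstance
      haveI := hX x
      have hdim : ringKrullDim O = 1 := by
        rw [IsLocalization.AtPrime.ringKrullDim_eq_height P, hP]
        rfl
      haveI hle : Ring.KrullDimLE 1 O := Ring.krullDimLE_iff.2 hdim.le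
      haveI : Ring.DimensionLEOne O := ⟨fun {p} hp hpp => (Ring.krullDimLE_one_iff_of_noZeroDivisors.1 hle) p hp hpp⟩
      haveI : IsDedekindRing O := (isDedekindRing_iff O (FractionRing O)).2
        ⟨inferInstance, inferInstance, fun hx => IsIntegrallyClosed.isIntegral_iff.1 hx⟩
      haveI : IsDedekindDomain O := ⟨⟩
      have hnf : ¬ IsField O := fun h => by
        rw [ringKrullDim_eq_zero_of_isField h] at hdim
        exact zero_ne_one hdim
      haveI : ValuationRing O := ((IsDiscreteValuationRing.TFAE O hnf).out 2 1).1 ‹_›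
      obtain ⟨r, hr | hr⟩ := ValuationRing.cond (algebraMap Γ(X.left, U) O a) (algebraMap Γ(X.left, U) O b)
      swap
      · obtain ⟨⟨t, s⟩, hts⟩ := IsLocalization.surj P.primeCompl r
        refine ⟨s, s.2, t, IsLocalization.injective O (Ideal.primeCompl_le_nonZeroDivisors P) ?_⟩
        rw [map_mul, map_mul, ← hr, ← hts]
        ring
      -- a ∣ b: compare in the local ring of the point above x
      obtain ⟨y, hy⟩ := hπ.2 (x : X.left)
      have hgYy : gY ⤳ y := genericPoint_specializes y
      have hyU : y ∈ π.left ⁻¹ᵁ U := show π.left.base y ∈ U by rw [hy]; exact x.2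
      have hgYU : gY ∈ π.left ⁻¹ᵁ U := hgXU
      have hxi : gX ⤳ π.left.base y := hgYy.map π.left.continuous
      let e := (X.left.presheaf.stalkCongr (Inseparable.of_eq hy)).commRingCatIsoToRingEquiv
      let ψ : O →+* Y.left.presheaf.stalk y := (π.left.stalkMap y).hom.comp e.symm.toRingHom
      have he : ∀ c : Γ(X.left, U), e.symm (algebraMap Γ(X.left, U) O c) = X.left.presheaf.germ U (π.left.base y) hyU c := by
        intro c
        refine e.injective ?_
        rw [e.apply_symm_apply]
        exact (X.left.presheaf.germ_stalkSpecializes_apply hyU (specializes_of_eq hy.symm) c).symm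
      have hψc : ∀ c : Γ(X.left, U), ψ (algebraMap Γ(X.left, U) O c) =
          Y.left.presheaf.germ (π.left ⁻¹ᵁ U) y hyU (π.left.app U c) := by
        intro c
        show (π.left.stalkMap y) (e.symm _) = _
        rw [he]
        exact Scheme.Hom.germ_stalkMap_apply π.left U y hyU c
      let sp := (Y.left.presheaf.stalkSpecializes hgYy).hom
      have hsp : ∀ c : Γ(X.left, U), sp (ψ (algebraMap Γ(X.left, U) O c)) = φ (X.left.presheaf.germ U gX hgXU c) := by
        intro c
        rw [hψc]
        show (Y.left.presheaf.stalkSpecializes hgYy) _ = (π.left.stalkMap gY) _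
        rw [Y.left.presheaf.germ_stalkSpecializes_apply, Scheme.Hom.germ_stalkMap_apply]
      have hspinj : Function.Injective sp := by
        rw [injective_iff_map_eq_zero]
        intro z hz
        obtain ⟨V, hyV, w, rfl⟩ := Y.left.presheaf.germ_exist z
        have hw0 : Y.left.presheaf.germ V gY (hgYy.mem_open V.isOpen hyV) w = 0 :=
          (Y.left.presheaf.germ_stalkSpecializes_apply hyV hgYy w).symm.trans hz
        haveI : Nonempty V := ⟨⟨y, hyV⟩⟩
        have : w = 0 := AlgebraicGeometry.germ_injective_of_isIntegral (X := Y.left) gY _ (hw0.trans (map_zero _).symm)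
        rw [this, map_zero]
      have hrel : ψ (algebraMap Γ(X.left, U) O a) =
          Y.left.presheaf.germ ⊤ y trivial f ^ N * ψ (algebraMap Γ(X.left, U) O b) := by
        refine hspinj ?_
        rw [map_mul, map_pow, hsp, hsp,
          show sp (Y.left.presheaf.germ ⊤ y trivial f) = Y.left.presheaf.germ ⊤ gY trivial f from
            Y.left.presheaf.germ_stalkSpecializes_apply _ _ f, ← hg, ← map_mul]
        exact congrArg φ hab.symm
      rcases eq_or_ne a 0 with rfl | ha0
      · exact ⟨1, P.primeCompl.one_mem, by simp⟩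
      have hψa : ψ (algebraMap Γ(X.left, U) O a) ≠ 0 := fun h => by
        have := hsp a
        rw [h, map_zero] at this
        exact ha0 (hginj (hφinj (by rw [← this, map_zero, map_zero])))
      have hunit : IsUnit r := by
        haveI : IsLocalHom ψ := by
          haveI : IsLocalHom e.symm.toRingHom := ⟨fun a ha => (isLocalHom_equiv e.symm).map_nonunit a ha⟩
          exact RingHom.isLocalHom_comp _ _
        refine isUnit_of_map_unit ψ r ?_
        rw [← hr, map_mul] at hrel
        refine IsUnit.of_mul_eq_one (Y.left.presheaf.germ ⊤ y trivial f ^ N) ?_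
        refine mul_left_cancel₀ hψa ?_
        rw [_root_.mul_one]
        linear_combination -hrel
      obtain ⟨⟨t, s⟩, hts⟩ := IsLocalization.surj P.primeCompl (hunit.unit⁻¹ : Oˣ).1
      refine ⟨s, s.2, t, IsLocalization.injective O (Ideal.primeCompl_le_nonZeroDivisors P) ?_⟩
      rw [map_mul, map_mul, ← hts]
      have hu : r * (hunit.unit⁻¹ : Oˣ).1 = 1 := hunit.mul_val_inv
      linear_combination (algebraMap Γ(X.left, U) O s * (hunit.unit⁻¹ : Oˣ).1) * hr -
        (algebraMap Γ(X.left, U) O s * algebraMap Γ(X.left, U) O a) * hu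
    choose c hc using hloc
    let ι' := {U : X.left.affineOpens // Nonempty U.1}
    have hcover : (⊤ : X.left.Opens) ≤ ⨆ U : ι', U.1.1 := by
      intro x _
      obtain ⟨U, hU, hxU, -⟩ := exists_isAffineOpen_mem_and_subset (X := X.left) (x := x) (U := ⊤) trivial
      exact TopologicalSpace.Opens.mem_iSup.2 ⟨⟨⟨U, hU⟩, ⟨⟨x, hxU⟩⟩⟩, hxU⟩
    obtain ⟨G, hG, -⟩ := X.left.sheaf.existsUnique_gluing' (fun U : ι' => U.1.1) ⊤ (fun U => homOfLE le_top) hcover
      (fun U : ι' => c U.1 U.2) fun U V => by
        have hm : gX ∈ U.1.1 ⊓ V.1.1 := ⟨hgXmem _ U.2, hgXmem _ V.2⟩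
        haveI : Nonempty (U.1.1 ⊓ V.1.1 : X.left.Opens) := ⟨⟨gX, hm⟩⟩
        refine AlgebraicGeometry.germ_injective_of_isIntegral (X := X.left) gX hm ?_
        exact (X.left.presheaf.germ_res_apply _ gX hm _).trans ((hc _ U.2).trans
          ((hc _ V.2).symm.trans (X.left.presheaf.germ_res_apply _ gX hm _).symm))
    refine ⟨N, G, hN, AlgebraicGeometry.germ_injective_of_isIntegral (X := Y.left) gY (U := ⊤) trivial ?_⟩
    obtain ⟨x, hxU⟩ : ∃ x, x ∈ (⊤ : X.left.Opens) := ⟨gX, trivial⟩
    obtain ⟨U, hxU⟩ := TopologicalSpace.Opens.mem_iSup.1 (hcover hxU)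
    have hGg : X.left.presheaf.germ ⊤ gX trivial G = g := by
      rw [← hc U.1 U.2, ← hG U]
      exact (X.left.presheaf.germ_res_apply _ gX _ _).symm
    rw [map_pow, ← hg, ← hGg]
    exact (Scheme.Hom.germ_stalkMap_apply π.left ⊤ gY trivial G).symm
  -- Artin-Tate
  letI : Algebra k Γ(X.left, ⊤) := ((Scheme.ΓSpecIso (CommRingCat.of k)).inv ≫ X.hom.appTop).hom.toAlgebra
  letI : Algebra k Γ(Y.left, ⊤) := ((Scheme.ΓSpecIso (CommRingCat.of k)).inv ≫ Y.hom.appTop).hom.toAlgebra
  letI : Algebra Γ(X.left, ⊤) Γ(Y.left, ⊤) := π.left.appTop.hom.toAlgebra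
  haveI : IsScalarTower k Γ(X.left, ⊤) Γ(Y.left, ⊤) := IsScalarTower.of_algebraMap_eq fun c => by
    show ((Scheme.ΓSpecIso (CommRingCat.of k)).inv ≫ Y.hom.appTop) c =
      π.left.appTop (((Scheme.ΓSpecIso (CommRingCat.of k)).inv ≫ X.hom.appTop) c)
    rw [← Over.w π, Scheme.Hom.comp_appTop]
    rfl
  haveI hY' : Algebra.FiniteType k Γ(Y.left, ⊤) := hfg
  haveI : Algebra.IsIntegral Γ(X.left, ⊤) Γ(Y.left, ⊤) := ⟨fun f => by
    obtain ⟨N, G, hN, hG⟩ := key f
    exact IsIntegral.of_pow hN (hG ▸ isIntegral_algebraMap)⟩
  haveI : Algebra.FiniteType Γ(X.left, ⊤) Γ(Y.left, ⊤) := Algebra.FiniteType.of_restrictScalars_finiteType k _ _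
  haveI : Module.Finite Γ(X.left, ⊤) Γ(Y.left, ⊤) := Algebra.IsIntegral.finite
  have hinj : Function.Injective (algebraMap Γ(X.left, ⊤) Γ(Y.left, ⊤)) := by
    intro a b hab
    refine AlgebraicGeometry.germ_injective_of_isIntegral (X := X.left) gX (U := ⊤) trivial (hφinj ?_)
    show π.left.stalkMap gY _ = π.left.stalkMap gY _
    exact (Scheme.Hom.germ_stalkMap_apply π.left ⊤ gY trivial a).trans
      ((congrArg _ hab).trans (Scheme.Hom.germ_stalkMap_apply π.left ⊤ gY trivial b).symm)
  show Algebra.FiniteType k Γ(X.left, ⊤)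
  exact ⟨fg_of_fg_of_fg k Γ(X.left, ⊤) Γ(Y.left, ⊤) hY'.out Module.Finite.fg_top hinj⟩

end Groth.Agent.S11205
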