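import Groth.Statements.S11206
import Groth.Agent.Lib.UInvFG21.General
import Groth.Agent.S11202
import Groth.Agent.Lib.UnipBC21.Fields
-- import your own Groth.Agent.* helpers here

set_option autoImplicit false
universe u
open CategoryTheory MonoidalCategory CartesianMonoidalCategory MonObj GrpObj AlgebraicGeometry
open scoped TensorProduct
open AGF

namespace Groth.Agent.S11206

/-- Let k be an algebraically closed field, G a linear algebraic group over k, B a Borel subgroup of G
and U the unipotent radical of B (a maximal connected unipotent subgroup of G). Assume that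
invariants of reductive groups over k on finitely generated algebras are finitely generated (used in
the argument for finite groups). Then U is observable in G and the ring k[G]^U of global functions
on G invariant under right translation by U is finitely generated over the constants (U is a
Grosshans subgroup of G). -/
theorem result (k : Type u) [Field k] [IsAlgClosed k]
    (G : Over (Spec (CommRingCat.of k))) [GrpObj G] [IsAffine G.left] [Smooth G.hom]
    (Bo : Over (Spec (CommRingCat.of k))) [GrpObj Bo] (iB : Bo ⟶ G) (hB : Red.IsBorelOver k iB)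
    (U : Over (Spec (CommRingCat.of k))) [GrpObj U] (u : U ⟶ Bo) (hU : Par.IsUnipotentRadical u)
    (thmA : VecGrp.ReductiveInvariantsFG k) :
    AGF.IsObservableIn k (u ≫ iB) ∧ AGF.SubringFGOver k G (AGF.rTransInv (u ≫ iB)) := by
  letI := InvRing21.gamAlg (k := k) G
  obtain ⟨hm, hcl, hs, hn, -, -⟩ := id hB
  haveI := hm
  haveI := hcl
  haveI := hs
  haveI := hn
  obtain ⟨hum, huc, -, hus, -, -, huns, -⟩ := (TorPts21.isUnipotentRadical_iff u).1 hU
  haveI := hum
  haveI := huc
  haveI := hus
  haveI : IsClosedImmersion (u ≫ iB).left := by rw [Over.comp_left]; infer_instance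
  haveI : IsAffine U.left := isAffine_of_isAffineHom (u ≫ iB).left
  refine ⟨S11202.result k G U (u ≫ iB) fun R _ r _ hrc _ _ _ _ => ?_, ?_⟩
  · haveI := hrc
    haveI : Mono r := Over.mono_of_mono_left r
    exact UnipBC21.hasNoSubtorus_of_mono r huns
  obtain ⟨t, ht⟩ := UInvFG21.fg_invSub_general hB hU
  refine ⟨t, fun f hf => ?_, fun f hf => ?_⟩
  · exact (InvRing21.isRTransInv_iff_val (u ≫ iB) f).2
      (UInvFG21.mem_invSub.1 (ht ▸ Algebra.subset_adjoin hf))
  · have h1 : f ∈ Algebra.adjoin k (↑t : Set Γ(G.left, ⊤)) :=
      ht.symm ▸ UInvFG21.mem_invSub.2 ((InvRing21.isRTransInv_iff_val (u ≫ iB) f).1 hf)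
    rw [← Subalgebra.mem_toSubring, Algebra.adjoin_eq_ring_closure] at h1
    exact h1

end Groth.Agent.S11206
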