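import Groth.Statements.S11207
import Groth.Agent.Lib.UInvFG21.Transfer
-- import your own Groth.Agent.* helpers here

set_option autoImplicit false
universe u
open CategoryTheory MonoidalCategory CartesianMonoidalCategory MonObj GrpObj AlgebraicGeometry
open scoped TensorProduct
open AGF

namespace Groth.Agent.S11207

/-- (a) ⇔ (b): let k be an algebraically closed field, G a linear algebraic group over k whose identity
component is reductive, and H a closed subgroup of G. Assume that invariants of reductive groups
over k on finitely generated algebras are finitely generated (a standard result, carried as a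
hypothesis). Then k[G]^H is finitely generated over the constants if and only if, for every finitely
generated commutative k-algebra A with a rational action of G by algebra automorphisms, the algebra
of H-invariants A^H is finitely generated over k. -/
theorem result (k : Type u) [Field k] [IsAlgClosed k]
    (G : Over (Spec (CommRingCat.of k))) [GrpObj G] [IsAffine G.left] [Smooth G.hom]
    (H : Over (Spec (CommRingCat.of k))) [GrpObj H] [Smooth H.hom] (i : H ⟶ G) [IsMonHom i]
    [IsClosedImmersion i.left]
    (hG : VecGrp.IsReductiveGrp k G) (thmA : VecGrp.ReductiveInvariantsFG k) :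
    AGF.SubringFGOver k G (AGF.rTransInv i) ↔
      ∀ (A : Type u) [CommRing A] [Algebra k A] [Algebra.FiniteType k A] (ρ : VecGrp.GMod G A) (hρ : ρ.IsMult),
        Algebra.FiniteType k ↥(ρ.fixedSubalgebra hρ i) := by
  letI := InvRing21.gamAlg (k := k) G
  haveI : IsAffine H.left := isAffine_of_isAffineHom i.left
  have hmem : ∀ f : Γ(G.left, ⊤), f ∈ AGF.rTransInv i ↔ f ∈ UInvFG21.invSub (k := k) i := fun f => by
    rw [AGF.mem_rTransInv_iff, InvRing21.isRTransInv_iff_val]; rfl
  constructor
  · rintro ⟨s, hs, hgen⟩ A _ _ _ ρ hρ
    refine UInvFG21.finiteType_fixed_of_fg_invSub i ⟨s, le_antisymm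
      (Algebra.adjoin_le fun f hf => (hmem f).1 (hs hf)) fun f hf => ?_⟩ hG thmA ρ hρ
    rw [← Subalgebra.mem_toSubring, Algebra.adjoin_eq_ring_closure]
    exact hgen ((hmem f).2 hf)
  · intro h
    haveI := InvRing21.finiteType_gam G
    have hfg := (Subalgebra.fg_iff_finiteType _).2
      (h Γ(G.left, ⊤) (InvRing21.regular G) UInvFG21.regular_isMult)
    rw [UInvFG21.fixedSubalgebra_regular] at hfg
    obtain ⟨t, ht⟩ := hfg
    refine ⟨t, fun f hf => (hmem f).2 (ht ▸ Algebra.subset_adjoin hf), fun f hf => ?_⟩
    have h1 : f ∈ Algebra.adjoin k (↑t : Set Γ(G.left, ⊤)) := ht.symm ▸ (hmem f).1 hf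
    rw [← Subalgebra.mem_toSubring, Algebra.adjoin_eq_ring_closure] at h1
    exact h1

end Groth.Agent.S11207
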