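import Groth.Statements.S11208
import Groth.Agent.Lib.UInvFG21.General
import Groth.Agent.Lib.UInvFG21.Transfer
-- import your own Groth.Agent.* helpers here

set_option autoImplicit false
universe u
open CategoryTheory MonoidalCategory CartesianMonoidalCategory MonObj GrpObj AlgebraicGeometry
open scoped TensorProduct
open AGF

namespace Groth.Agent.S11208

/-- Let k be an algebraically closed field, G a linear algebraic group over k whose identity component
is reductive, B a Borel subgroup of G and U the unipotent radical of B (a maximal connected
unipotent subgroup). Assume finite generation of invariants of reductive groups over k on finitely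
generated algebras (a standard result, carried as a hypothesis). Then for every finitely generated
commutative k-algebra A with a rational action of G by algebra automorphisms, the algebra of
U-invariants A^U is finitely generated over k. -/
theorem result (k : Type u) [Field k] [IsAlgClosed k]
    (G : Over (Spec (CommRingCat.of k))) [GrpObj G] [IsAffine G.left] [Smooth G.hom] (hG : VecGrp.IsReductiveGrp k G)
    (Bo : Over (Spec (CommRingCat.of k))) [GrpObj Bo] (iB : Bo ⟶ G) (hB : Red.IsBorelOver k iB)
    (U : Over (Spec (CommRingCat.of k))) [GrpObj U] (u : U ⟶ Bo) (hU : Par.IsUnipotentRadical u)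
    (thmA : VecGrp.ReductiveInvariantsFG k)
    (A : Type u) [CommRing A] [Algebra k A] [Algebra.FiniteType k A] (ρ : VecGrp.GMod G A) (hρ : ρ.IsMult) :
    Algebra.FiniteType k ↥(ρ.fixedSubalgebra hρ (u ≫ iB)) := by
  letI := InvRing21.gamAlg (k := k) G
  obtain ⟨hm, hcl, hs, hn, -, -⟩ := id hB
  haveI := hm
  haveI := hcl
  haveI := hs
  haveI := hn
  obtain ⟨hum, huc, -, hus, -, -, -, -⟩ := (TorPts21.isUnipotentRadical_iff u).1 hU
  haveI := hum
  haveI := huc
  haveI := hus
  haveI : IsClosedImmersion (u ≫ iB).left := by rw [Over.comp_left]; infer_instance
  haveI : IsAffine U.left := isAffine_of_isAffineHom (u ≫ iB).left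
  exact UInvFG21.finiteType_fixed_of_fg_invSub (u ≫ iB) (UInvFG21.fg_invSub_general hB hU) hG thmA ρ hρ

end Groth.Agent.S11208
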