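import Groth.Statements.S11211
import Groth.Agent.Lib.Weitz21.Linear
-- import your own Groth.Agent.* helpers here

set_option autoImplicit false
universe u
open CategoryTheory MonoidalCategory CartesianMonoidalCategory MonObj GrpObj AlgebraicGeometry
open scoped TensorProduct
open AGF

namespace Groth.Agent.S11211

/-- Let k be an algebraically closed field of characteristic zero, n a natural number and M a nilpotent
n × n matrix over k; let δ be the k-derivation of the polynomial ring k[X₁, …, Xₙ] with δ(Xⱼ) = Σᵢ
Mᵢⱼ Xᵢ (the derivation of the linear action of the additive group on an n-dimensional module; its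
kernel is the ring of invariant polynomial functions). Assume finite generation of invariants of
reductive groups over k on finitely generated algebras (a standard result, carried as a hypothesis).
Then the kernel of δ is a finitely generated k-subalgebra. -/
theorem result (k : Type u) [Field k] [IsAlgClosed k] [CharZero k] (thmA : VecGrp.ReductiveInvariantsFG k)
    (n : ℕ) (M : Matrix (Fin n) (Fin n) k) (hM : IsNilpotent M) :
    ∃ S : Subalgebra k (MvPolynomial (Fin n) k), S.FG ∧
      ∀ f : MvPolynomial (Fin n) k, f ∈ S ↔
        MvPolynomial.mkDerivation k (fun j : Fin n => ∑ i : Fin n, M i j • (MvPolynomial.X i : MvPolynomial (Fin n) k)) f = 0 := by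
  exact Weitz21.fg_ker_of_nilpotent n M hM

end Groth.Agent.S11211
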