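import Groth.Statements.S11212
import Groth.Agent.Lib.InvRing21.Restrict
-- import your own Groth.Agent.* helpers here

set_option autoImplicit false
universe u
open CategoryTheory MonoidalCategory CartesianMonoidalCategory MonObj GrpObj AlgebraicGeometry
open scoped TensorProduct
open AGF

namespace Groth.Agent.S11212

/-- Let k be an algebraically closed field, G a linear algebraic group over k (an affine smooth group
scheme over k) and H a closed subgroup of G (a smooth closed subgroup scheme, i : H → G), with the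
identity component of H reductive. Assume the following standard results of geometric invariant
theory for groups with reductive identity component, carried as hypotheses: finite generation of
invariants on finitely generated algebras, and that for such a group acting on an affine variety the
quotient map sends disjoint closed invariant subsets to disjoint sets. Then H is observable in G. -/
theorem result (k : Type u) [Field k] [IsAlgClosed k]
    (G : Over (Spec (CommRingCat.of k))) [GrpObj G] [IsAffine G.left] [Smooth G.hom]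
    (H : Over (Spec (CommRingCat.of k))) [GrpObj H] [Smooth H.hom] (i : H ⟶ G) [IsMonHom i]
    [IsClosedImmersion i.left]
    (hH : VecGrp.IsReductiveGrp k H) (thmA : VecGrp.ReductiveInvariantsFG k)
    (thmAbiv : AGF.ReductiveQuotSeparates k) :
    AGF.IsObservableIn k i := by
  haveI : IsAffine H.left := isAffine_of_isAffineHom i.left
  haveI := Groth.Agent.OrbitTop19.isReduced_of_smooth G.hom
  haveI := Groth.Agent.OrbitTop19.isReduced_of_smooth H.hom
  letI := Groth.Agent.InvRing21.gamAlg G
  letI := Groth.Agent.InvRing21.gamAlg H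
  haveI := Groth.Agent.InvRing21.finiteType_gam G
  intro g hg
  by_contra hgH
  let j : H ⟶ G := i ≫ Groth.Agent.InvRing21.lTr g
  have hjv : ∀ {T : Over (Spec (CommRingCat.of k))} (a : T ⟶ H),
      a ≫ j = (Groth.Agent.InvRing21.toPt T ≫ g) * (a ≫ i) := fun {T} a => by
    show a ≫ i ≫ Groth.Agent.InvRing21.lTr g = _
    rw [← Category.assoc, Groth.Agent.InvRing21.comp_lTr]
  let I₁ : Ideal Γ(G.left, ⊤) := RingHom.ker (Groth.Agent.InvRing21.appAlg i)
  let I₂ : Ideal Γ(G.left, ⊤) := RingHom.ker (Groth.Agent.InvRing21.appAlg j)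
  let ρ := Groth.Agent.InvRing21.regularRes i
  have hst1 : ρ.IsStable (𝟙 H) (I₁.restrictScalars k) :=
    Groth.Agent.InvRing21.isStable_ker i i fun a b => (MonObj.mul_comp a b i).symm
  have hst2 : ρ.IsStable (𝟙 H) (I₂.restrictScalars k) :=
    Groth.Agent.InvRing21.isStable_ker i j fun a b => by
      rw [hjv, hjv, MonObj.mul_comp, _root_.mul_assoc]
  have hsup : I₁ ⊔ I₂ = ⊤ := by
    by_contra hne
    have hne' : (I₁ ⊔ I₂).radical ≠ ⊤ := fun h => hne (Ideal.radical_eq_top.1 h)
    haveI : _root_.IsReduced (Γ(G.left, ⊤) ⧸ (I₁ ⊔ I₂).radical) :=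
      (Ideal.isRadical_iff_quotient_reduced _).1 (Ideal.radical_isRadical _)
    haveI : Algebra.FiniteType k (Γ(G.left, ⊤) ⧸ (I₁ ⊔ I₂).radical) :=
      Algebra.FiniteType.of_surjective (Ideal.Quotient.mkₐ k _) Ideal.Quotient.mk_surjective
    haveI : Nontrivial (Γ(G.left, ⊤) ⧸ (I₁ ⊔ I₂).radical) := Ideal.Quotient.nontrivial_iff.2 hne'
    obtain ⟨χ, -⟩ := Groth.Agent.UnitsRos.exists_point_ne_zero (k := k)
      (one_ne_zero : (1 : Γ(G.left, ⊤) ⧸ (I₁ ⊔ I₂).radical) ≠ 0)
    let y : VecGrp.pt k k ⟶ G :=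
      VecGrp.ptMap (χ.comp (Ideal.Quotient.mkₐ k _)) ≫ Groth.Agent.InvRing21.uPt G
    have hy : ∀ f ∈ I₁ ⊔ I₂, Groth.Agent.InvRing21.val y f = 0 := fun f hf => by
      rw [Groth.Agent.InvRing21.val_ptMap, Groth.Agent.InvRing21.val_uPt, AlgHom.comp_id]
      show χ (Ideal.Quotient.mk _ f) = 0
      rw [Ideal.Quotient.eq_zero_iff_mem.2 (Ideal.le_radical hf), map_zero]
    obtain ⟨a, ha⟩ := Groth.Agent.InvRing21.exists_lift_pt (i := i) y fun f hf =>
      hy f (Ideal.mem_sup_left hf)
    obtain ⟨b, hb⟩ := Groth.Agent.InvRing21.exists_lift_pt (i := i) (g⁻¹ * y) fun f hf => by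
      rw [← Groth.Agent.InvRing21.val_lTr]
      refine hy _ (Ideal.mem_sup_right (show Groth.Agent.InvRing21.appAlg j _ = 0 from
        Groth.Agent.InvRing21.ext_val fun h => ?_))
      rw [Groth.Agent.InvRing21.appAlg_apply, Groth.Agent.InvRing21.appTop_val, hjv, Groth.Agent.InvRing21.toPt_pt,
        Category.id_comp, Groth.Agent.InvRing21.val_lTr, inv_mul_cancel_left, ← Groth.Agent.InvRing21.appTop_val,
        ← Groth.Agent.InvRing21.appAlg_apply, hf, map_zero]
    exact hgH ⟨a * b⁻¹, by rw [MonObj.mul_comp, GrpObj.inv_comp, ha, hb]; group⟩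
  have hfix := thmAbiv H hH Γ(G.left, ⊤) ρ (Groth.Agent.InvRing21.regularRes_isMult i) inferInstance I₁ I₂
    (Groth.Agent.InvRing21.isRadical_ker i) (Groth.Agent.InvRing21.isRadical_ker j) hst1 hst2 hsup
  obtain ⟨f₁, hf₁, f₂, hf₂, hf⟩ := Submodule.mem_sup.1 (hfix ▸ Submodule.mem_top : (1 : ↥(ρ.fixedSubalgebra _ (𝟙 H))) ∈ _)
  have hinv : AGF.IsRTransInv i f₁.1 := Groth.Agent.InvRing21.isRTransInv_of_fixed i f₁.1 f₁.2
  have h1 := (Groth.Agent.InvRing21.isRTransInv_pt_iff_val g _).1 (hg _ hinv) 1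
  have h2 : Groth.Agent.InvRing21.val (1 : VecGrp.pt k k ⟶ G) f₁.1 = 0 := by
    rw [← MonObj.one_comp i, ← Groth.Agent.InvRing21.appTop_val, ← Groth.Agent.InvRing21.appAlg_apply,
      show Groth.Agent.InvRing21.appAlg i f₁.1 = 0 from hf₁, map_zero]
  have h3 : Groth.Agent.InvRing21.val g f₂.1 = 0 := by
    have hg' : (1 : VecGrp.pt k k ⟶ H) ≫ j = g := by
      rw [hjv, MonObj.one_comp i, _root_.mul_one, Groth.Agent.InvRing21.toPt_pt, Category.id_comp]
    rw [← hg', ← Groth.Agent.InvRing21.appTop_val, ← Groth.Agent.InvRing21.appAlg_apply,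
      show Groth.Agent.InvRing21.appAlg j f₂.1 = 0 from hf₂, map_zero]
  rw [_root_.one_mul g, h2] at h1
  have := congrArg (fun z : ↥(ρ.fixedSubalgebra _ (𝟙 H)) => Groth.Agent.InvRing21.val g z.1) hf
  simp only [Subalgebra.coe_add, Subalgebra.coe_one, map_add, map_one, h1, h3, add_zero] at this
  exact zero_ne_one this

end Groth.Agent.S11212
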