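import Groth.Statements.S11213
import Groth.Agent.Lib.InvRing21.Restrict
import Groth.Agent.Lib.InvRing21.Quot
import Groth.Agent.S11189
import Groth.Agent.S11212
-- import your own Groth.Agent.* helpers here

set_option autoImplicit false
universe u
open CategoryTheory MonoidalCategory CartesianMonoidalCategory MonObj GrpObj AlgebraicGeometry
open scoped TensorProduct
open AGF

namespace Groth.Agent.S11213

/-- Let k be an algebraically closed field, G a linear algebraic group over k (an affine smooth group
scheme over k) and H a closed subgroup of G (a smooth closed subgroup scheme, i : H → G), with the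
identity component of H reductive, and let X (with action a, base point o) be the quotient G/H.
Assume the following standard results of geometric invariant theory for groups with reductive
identity component, carried as hypotheses: finite generation of invariants on finitely generated
algebras, and that the quotient map of an affine variety by such a group is surjective and separates
disjoint closed invariant subsets. Then k[G]^H is finitely generated over the constants (H is a
Grosshans subgroup of G) and X is affine. -/
theorem result (k : Type u) [Field k] [IsAlgClosed k]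
    (G : Over (Spec (CommRingCat.of k))) [GrpObj G] [IsAffine G.left] [Smooth G.hom]
    (H : Over (Spec (CommRingCat.of k))) [GrpObj H] [Smooth H.hom] (i : H ⟶ G) [IsMonHom i]
    [IsClosedImmersion i.left]
    (hH : VecGrp.IsReductiveGrp k H) (thmA : VecGrp.ReductiveInvariantsFG k)
    (thmAbi : AGF.ReductiveQuotSurj k) (thmAbiv : AGF.ReductiveQuotSeparates k)
    (X : Over (Spec (CommRingCat.of k))) (a : AlgGrp.Action G X) (o : 𝟙_ (Over (Spec (CommRingCat.of k))) ⟶ X) (hX : AGF.IsQuotient i X a o) :
    AGF.SubringFGOver k G (AGF.rTransInv i) ∧ IsAffine X.left := by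
  classical
  haveI : IsAffine H.left := isAffine_of_isAffineHom i.left
  haveI := Groth.Agent.OrbitTop19.isReduced_of_smooth G.hom
  letI := Groth.Agent.InvRing21.gamAlg G
  haveI := Groth.Agent.InvRing21.finiteType_gam G
  let ρ := Groth.Agent.InvRing21.regularRes i
  have hρ : ρ.IsMult := Groth.Agent.InvRing21.regularRes_isMult i
  have hinv : ∀ f, f ∈ ρ.fixedUnder (𝟙 H) ↔ AGF.IsRTransInv i f := fun f => by
    refine ⟨Groth.Agent.InvRing21.isRTransInv_of_fixed i f, fun hf B _ _ h => ?_⟩
    rw [Category.comp_id, Groth.Agent.InvRing21.regularRes_apply]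
    exact Groth.Agent.InvRing21.mem_fixedUnder_regular i f hf B h
  constructor
  · obtain ⟨s, hs, hgen⟩ := thmA H hH Γ(G.left, ⊤) ρ hρ inferInstance
    refine ⟨s, fun f hf => (hinv f).1 (hs hf), fun f hf => ?_⟩
    have := hgen ((hinv f).2 hf)
    rw [SetLike.mem_coe, ← Subalgebra.mem_toSubring, Algebra.adjoin_eq_ring_closure] at this
    exact this
  haveI := (Groth.Agent.S11189.result k G H i X a o hX).1
    (Groth.Agent.S11212.result k G H i hH thmA thmAbiv)
  obtain ⟨hinj, hsurj⟩ := Groth.Agent.InvRing21.IsQuotient.appTop_bijOn hX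
  let S := ρ.fixedSubalgebra hρ (𝟙 H)
  let ψ : Γ(X.left, ⊤) →+* S := (a.orbitMap o).left.appTop.hom.codRestrict S.toSubring fun x =>
    (hinv _).2 (Groth.Agent.InvRing21.IsQuotient.isRTransInv_appTop hX x)
  have hψ : Function.Bijective ψ := by
    refine ⟨fun x y h => hinj (congrArg Subtype.val h), fun y => ?_⟩
    obtain ⟨x, hx⟩ := hsurj y.1 ((hinv _).1 y.2)
    exact ⟨x, Subtype.ext hx⟩
  haveI : Surjective X.left.toSpecΓ := by
    refine ⟨fun q => ?_⟩
    let e := RingEquiv.ofBijective ψ hψ
    haveI := (q : PrimeSpectrum Γ(X.left, ⊤)).isPrime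
    obtain ⟨p, hp, hpq⟩ := thmAbi H hH Γ(G.left, ⊤) ρ hρ inferInstance
      ((q : PrimeSpectrum Γ(X.left, ⊤)).asIdeal.comap e.symm.toRingHom) inferInstance
    let P : Spec Γ(G.left, ⊤) := ⟨p, hp⟩
    refine ⟨(a.orbitMap o).left.base (G.left.isoSpec.inv.base P), ?_⟩
    rw [← Scheme.Hom.comp_apply, Scheme.toSpecΓ_naturality, ← Scheme.isoSpec_hom]
    refine (congrArg (fun e : Spec Γ(G.left, ⊤) ⟶ Spec Γ(X.left, ⊤) => e.base P)
      (Iso.inv_hom_id_assoc G.left.isoSpec (Spec.map (a.orbitMap o).left.appTop))).trans ?_
    refine PrimeSpectrum.ext ?_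
    ext x
    show (a.orbitMap o).left.appTop x ∈ p ↔ x ∈ (q : PrimeSpectrum Γ(X.left, ⊤)).asIdeal
    have h1 : (a.orbitMap o).left.appTop x = S.val (e x) := rfl
    have h2 : e.symm.toRingHom (e x) = x := e.symm_apply_apply x
    rw [h1, ← Ideal.mem_comap, hpq, Ideal.mem_comap, h2]
  haveI : IsOpenImmersion X.left.toSpecΓ := inferInstance
  haveI : IsIso X.left.toSpecΓ := (isIso_iff_isOpenImmersion_and_epi_base _).2
    ⟨inferInstance, (TopCat.epi_iff_surjective _).2 (Surjective.surj)⟩
  exact IsAffine.of_isIso X.left.toSpecΓ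

end Groth.Agent.S11213
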