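import Groth.Statements.S11214
import Groth.Agent.Lib.UnipQuot15.Pieces
import Groth.Agent.Lib.UnipQuot15.Image
import Groth.Agent.S11213
-- import your own Groth.Agent.* helpers here

set_option autoImplicit false
universe u
open CategoryTheory MonoidalCategory CartesianMonoidalCategory MonObj GrpObj AlgebraicGeometry
open scoped TensorProduct
open AGF

namespace Groth.Agent.S11214

/-- Let k be an algebraically closed field, L a linear algebraic group over k and H a closed subgroup of
L, with unipotent radicals U_H of H and U_L of L such that U_H ⊆ U_L; let X (with action a and base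
point o) be the quotient L/H. Assume the following standard results of geometric invariant theory
for groups with reductive identity component, carried as hypotheses: finite generation of invariants
on finitely generated algebras, and that the quotient map of an affine variety by such a group is
surjective and separates disjoint closed invariant subsets. Then X is affine. -/
theorem result (k : Type u) [Field k] [IsAlgClosed k]
    (L : Over (Spec (CommRingCat.of k))) [GrpObj L] [IsAffine L.left] [Smooth L.hom]
    (H : Over (Spec (CommRingCat.of k))) [GrpObj H] [Smooth H.hom] (i : H ⟶ L) [IsMonHom i] [IsClosedImmersion i.left]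
    (UL : Over (Spec (CommRingCat.of k))) [GrpObj UL] (uL : UL ⟶ L) (hUL : Par.IsUnipotentRadical uL)
    (UH : Over (Spec (CommRingCat.of k))) [GrpObj UH] (uH : UH ⟶ H) (hUH : Par.IsUnipotentRadical uH)
    (f : UH ⟶ UL) (hf : f ≫ uL = uH ≫ i)
    (thmA : VecGrp.ReductiveInvariantsFG k) (thmAbi : AGF.ReductiveQuotSurj k)
    (thmAbiv : AGF.ReductiveQuotSeparates k)
    (X : Over (Spec (CommRingCat.of k))) (a : AlgGrp.Action L X) (o : 𝟙_ (Over (Spec (CommRingCat.of k))) ⟶ X) (hX : AGF.IsQuotient i X a o) :
    IsAffine X.left := by
  obtain ⟨hum, huc, hun, hus, -, hucon, huns, -⟩ := (Groth.Agent.TorPts21.isUnipotentRadical_iff uL).1 hUL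
  haveI := hum; haveI := huc; haveI := hus; haveI := hucon
  haveI : IsAffine H.left := isAffine_of_isAffineHom i.left
  refine Groth.Agent.UnipQuot15.isAffine_of_image i uL hun huns (a.orbitMap o)
    (Groth.Agent.UnipQuot15.isQuotient_orbitMap hX) fun G₁ _ _ _ q₁ _ hu1 H₁ _ _ i₁ _ _ p _ _ hp Xb ab ob hXb => ?_
  haveI : IsAffine H₁.left := isAffine_of_isAffineHom i₁.left
  haveI : LocallyOfFiniteType H₁.hom := by rw [← Over.w i₁]; infer_instance
  haveI : Smooth H₁.hom := Groth.Agent.GrpSmooth19.smooth_of_isReduced H₁
  haveI : Mono i₁ := Over.mono_of_mono_left i₁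
  have hk : uH ≫ p = 1 := by
    rw [← cancel_mono i₁, MonObj.one_comp, Category.assoc, hp, ← Category.assoc, ← hf, Category.assoc, hu1,
      MonObj.comp_one]
  exact (Groth.Agent.S11213.result k G₁ H₁ i₁ (Groth.Agent.UnipQuot15.isReductiveGrp_image p hUH hk) thmA thmAbi
    thmAbiv Xb ab ob hXb).2

end Groth.Agent.S11214
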