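import Groth.Statements.S11215
import Groth.Agent.Lib.TorPts21.CharExtend
import Groth.Agent.Lib.TorPts21.LinSym
import Groth.Agent.S11213
import Groth.Agent.Lib.BorelFix21.Component
-- import your own Groth.Agent.* helpers here

set_option autoImplicit false
universe u
open CategoryTheory MonoidalCategory CartesianMonoidalCategory MonObj GrpObj AlgebraicGeometry
open scoped TensorProduct
open AGF

namespace Groth.Agent.S11215

/-- Let k be an algebraically closed field, G a linear algebraic group over k whose identity component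
is reductive, H a closed subgroup of G, and X (with action a and base point o) the quotient G/H.
Assume the following standard results of geometric invariant theory for groups with reductive
identity component, carried as hypotheses: finite generation of invariants on finitely generated
algebras, and that the quotient map of an affine variety by such a group is surjective and separates
disjoint closed invariant subsets. Then X is affine if and only if the identity component of H is
reductive. -/
theorem result (k : Type u) [Field k] [IsAlgClosed k]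
    (G : Over (Spec (CommRingCat.of k))) [GrpObj G] [IsAffine G.left] [Smooth G.hom]
    (H : Over (Spec (CommRingCat.of k))) [GrpObj H] [Smooth H.hom] (i : H ⟶ G) [IsMonHom i]
    [IsClosedImmersion i.left]
    (hG : VecGrp.IsReductiveGrp k G) (thmA : VecGrp.ReductiveInvariantsFG k)
    (thmAbi : AGF.ReductiveQuotSurj k) (thmAbiv : AGF.ReductiveQuotSeparates k)
    (X : Over (Spec (CommRingCat.of k))) (a : AlgGrp.Action G X) (o : 𝟙_ (Over (Spec (CommRingCat.of k))) ⟶ X) (hX : AGF.IsQuotient i X a o) :
    IsAffine X.left ↔ VecGrp.IsReductiveGrp k H := by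
  refine ⟨fun hXa => ?_, fun hH => (Groth.Agent.S11213.result k G H i hH thmA thmAbi thmAbiv X a o hX).2⟩
  classical
  haveI := hXa
  haveI : IsAffine H.left := isAffine_of_isAffineHom i.left
  letI := Groth.Agent.InvRing21.gamAlg G
  letI := Groth.Agent.InvRing21.gamAlg H
  obtain ⟨H₀, _, j, hj, hjo, hjc⟩ := Groth.Agent.BorelFix21.exists_identity_component H
  haveI := hj
  haveI := hjo
  haveI := hjc
  haveI := InvRing21.isClosedImmersion_of_open_subgroup j
  haveI : Smooth H₀.hom := InvRing21.smooth_of_openImmersion j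
  haveI : IsAffine H₀.left := isAffine_of_isAffineHom j.left
  refine ⟨inferInstance, inferInstance, H₀, inferInstance, j, hj, hjo, inferInstance, inferInstance, hjc,
    fun U _ v _ hvc hUs hUc hvn hUt => ?_⟩
  haveI := hvc
  haveI := hUs
  haveI := hUc
  haveI : IsAffine U.left := isAffine_of_isAffineHom v.left
  by_contra hne
  obtain ⟨φ, hφ, x₀, hx₀⟩ := TorPts21.exists_addChar U hUt hne
  -- extension to the identity component, then to H, then to G
  obtain ⟨X', a', o', hX', hX'a⟩ := TorPts21.exists_affine_quotient v hvn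
  haveI := hX'a
  obtain ⟨f₁, hf₁⟩ := TorPts21.exists_extend_char v (𝟙 U) hX' φ φ fun h x => by rw [Category.comp_id, hφ]
  obtain ⟨f₂, hf₂⟩ := TorPts21.exists_extend_char_open j v (fun x => InvRing21.val x φ) f₁ fun h x => by
    have := hf₁ h x
    rwa [Category.id_comp] at this
  obtain ⟨f, hf⟩ := TorPts21.exists_extend_char i (v ≫ j) hX φ f₂ fun h x => hf₂ h x
  let F : Γ(G.left, ⊤) := ((𝟙 G)⁻¹ : G ⟶ G).left.appTop f
  let s : (VecGrp.pt k k ⟶ U) → (VecGrp.pt k k ⟶ G) := fun x => (x ≫ (v ≫ j) ≫ i)⁻¹
  have hF : ∀ x y, InvRing21.val (s x * y) F = InvRing21.val y F + InvRing21.val x φ := by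
    intro x y
    simp only [F, InvRing21.appTop_val, GrpObj.comp_inv, Category.comp_id, _root_.mul_inv_rev, s, _root_.inv_inv]
    exact hf y⁻¹ x
  -- the space spanned by the translates
  obtain ⟨W₀, hW₀fin, hFW₀, hW₀⟩ := InvRing21.exists_stable_span (InvRing21.regular G) {F}
  haveI := hW₀fin
  let D : Submodule k Γ(G.left, ⊤) :=
    { carrier := {w | ∃ c : k, ∀ x y, InvRing21.val (s x * y) w = InvRing21.val y w + c * InvRing21.val x φ}
      zero_mem' := ⟨0, fun x y => by simp⟩
      add_mem' := fun {w w'} ⟨c, hc⟩ ⟨c', hc'⟩ => ⟨c + c', fun x y => by rw [map_add, map_add, hc, hc']; ring⟩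
      smul_mem' := fun r w ⟨c, hc⟩ => ⟨r * c, fun x y => by
        rw [map_smul, map_smul, hc, smul_eq_mul, smul_eq_mul]; ring⟩ }
  let W : Submodule k Γ(G.left, ⊤) := W₀ ⊓ D
  haveI : Module.Finite k W := Submodule.finiteDimensional_of_le (inf_le_left : W ≤ W₀)
  have hFW : F ∈ W := ⟨hFW₀ F (Finset.mem_singleton_self F), 1, fun x y => by rw [hF, _root_.one_mul]⟩
  have hW : ∀ g : VecGrp.pt k k ⟶ G, ∀ w ∈ W, ∃ w' ∈ W,
      (InvRing21.regular G).ρ k g (1 ⊗ₜ[k] w) = 1 ⊗ₜ[k] w' := by
    intro g w hw
    obtain ⟨n, c, u, hu, hcu⟩ := hW₀ w hw.1 k g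
    have he : (InvRing21.regular G).ρ k g (1 ⊗ₜ[k] w) = 1 ⊗ₜ[k] (∑ l, c l • u l) := by
      rw [hcu, TensorProduct.tmul_sum]
      exact Finset.sum_congr rfl fun l _ => by rw [← TensorProduct.smul_tmul, smul_eq_mul, _root_.mul_one]
    have hval : ∀ y, InvRing21.val y (∑ l, c l • u l) = InvRing21.val (y * g) w := fun y => by
      rw [InvRing21.val_mul_eq, he]
      refine Eq.symm ((Algebra.TensorProduct.lift_tmul _ _ _ _ _).trans ?_)
      rw [map_one, _root_.one_mul]
    obtain ⟨d, hd⟩ := hw.2
    exact ⟨_, ⟨W₀.sum_mem fun l _ => W₀.smul_mem _ (hu l), d, fun x y => by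
      rw [hval, hval, _root_.mul_assoc, hd]⟩, he⟩
  let e := Module.finBasis k W
  obtain ⟨ξ, hξ, hξe, he⟩ := TorPts21.exists_coords_of_pts (InvRing21.regular G) W hW e
  choose c hc using fun b => (e b).2.2
  let M : Matrix (Fin (Module.finrank k W)) (Fin (Module.finrank k W)) Γ(G.left, ⊤) := fun a b =>
    InvRing21.coef (InvRing21.regular G) (ξ a) (e b : Γ(G.left, ⊤))
  have hmul : ∀ {B : Type u} [CommRing B] [Algebra k B] (p q : VecGrp.pt k B ⟶ G) a b,
      InvRing21.val (p * q) (M a b) = ∑ l, InvRing21.val p (M a l) * InvRing21.val q (M l b) := by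
    intro B _ _ p q a b
    have h := congrArg (InvRing21.ptHom B) (InvRing21.appTop_coef_mul (InvRing21.regular G)
      (fun l => (e l : Γ(G.left, ⊤))) ξ (fun l B _ _ p => he l B p) p q a b)
    simp only [map_sum, map_mul] at h
    exact h
  have hone : ∀ {B : Type u} [CommRing B] [Algebra k B] a b,
      InvRing21.val (1 : VecGrp.pt k B ⟶ G) (M a b) = if a = b then 1 else 0 := by
    intro B _ _ a b
    have h := congrArg (InvRing21.ptHom B) (InvRing21.appTop_coef_one (InvRing21.regular G)
      (fun l => (e l : Γ(G.left, ⊤))) ξ hξ (VecGrp.pt k B) a b)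
    refine h.trans ?_
    split_ifs <;> simp
  have hval : ∀ (y g : VecGrp.pt k k ⟶ G) b, InvRing21.val (y * g) (e b : Γ(G.left, ⊤)) =
      ∑ l, InvRing21.val g (M l b) * InvRing21.val y (e l : Γ(G.left, ⊤)) :=
    fun y g b => InvRing21.val_mul_coords e (ξ := ξ) (fun b B _ _ p => he b B p) y g b
  refine TorPts21.false_of_orbit_line hmul hone hG thmAbiv
    (fun l => InvRing21.val (1 : VecGrp.pt k k ⟶ G) (e l : Γ(G.left, ⊤))) c ?_ ?_
    (Set.range fun x => InvRing21.val x φ) ?_ ?_
  · intro h0
    refine hx₀ ?_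
    have h1 : InvRing21.val (s x₀ * 1) F = InvRing21.val (1 : VecGrp.pt k k ⟶ G) F := by
      rw [hξe F hFW, map_sum, map_sum]
      refine Finset.sum_congr rfl fun l _ => ?_
      rw [map_smul, map_smul, hc l, show c l = 0 from congrFun h0 l, zero_mul, add_zero]
    rw [hF] at h1
    exact left_eq_add.1 h1.symm
  · intro g b
    have h1 := hc b x₀ g
    rw [hval, show InvRing21.val g (e b : Γ(G.left, ⊤)) = InvRing21.val (1 * g) (e b : Γ(G.left, ⊤)) by
      rw [_root_.one_mul g], hval] at h1
    have h2 : ∀ l, InvRing21.val (s x₀) (e l : Γ(G.left, ⊤)) =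
        InvRing21.val (1 : VecGrp.pt k k ⟶ G) (e l : Γ(G.left, ⊤)) + c l * InvRing21.val x₀ φ := fun l => by
      have := hc l x₀ 1
      rwa [_root_.mul_one (s x₀)] at this
    simp only [h2, mul_add, Finset.sum_add_distrib, add_right_inj, ← _root_.mul_assoc, ← Finset.sum_mul] at h1
    exact mul_right_cancel₀ hx₀ h1
  · intro hfin
    haveI := BorelFix21.preconnectedSpace_pts (G := U)
    letI := BorelFix21.ptsTop (G := U)
    refine hx₀ ?_
    rw [BorelFix21.eq_of_finite_range _ hfin (fun t => BorelFix21.isClosed_val_eq φ t) x₀ 1]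
    have := hφ 1 1
    rw [_root_.one_mul (1 : VecGrp.pt k k ⟶ U)] at this
    exact left_eq_add.1 this
  · rintro _ ⟨x, rfl⟩
    refine ⟨s x, fun b => ?_⟩
    rw [← hval, _root_.one_mul (s x), ← _root_.mul_one (s x), hc b]
    ring

end Groth.Agent.S11215
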