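import Groth.Statements.S11216
import Groth.Agent.Lib.InvRing21.OpenImage
import Groth.Agent.Lib.InvRing21.Semi
import Groth.Agent.Lib.InvRing21.Points
import Mathlib.RingTheory.Ideal.KrullsHeightTheorem
-- import your own Groth.Agent.* helpers here

set_option autoImplicit false
universe u
open CategoryTheory MonoidalCategory CartesianMonoidalCategory MonObj GrpObj AlgebraicGeometry
open scoped TensorProduct
open AGF

namespace Groth.Agent.S11216

/-- (b) ⇒ (i): let k be an algebraically closed field, G a linear algebraic group over k (an affine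
smooth group scheme over k) and H a closed subgroup of G (a smooth closed subgroup scheme, i : H →
G), with H observable in G and k[G]^H finitely generated over the constants; let X = Spec k[G]^H and
φ : G → X the morphism given by the inclusion k[G]^H ⊆ k[G]. Then the image of φ (the orbit of the
base point) is open in X and every point of X outside the image has codimension at least 2 (its
prime ideal has height ≥ 2). (The published statement also asserts that G/H maps isomorphically onto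
the image, and that finite generation is equivalent to an orbit-closure condition in a
representation; neither is stated here.) -/
theorem result (k : Type u) [Field k] [IsAlgClosed k]
    (G : Over (Spec (CommRingCat.of k))) [GrpObj G] [IsAffine G.left] [Smooth G.hom]
    (H : Over (Spec (CommRingCat.of k))) [GrpObj H] [Smooth H.hom] (i : H ⟶ G) [IsMonHom i]
    [IsClosedImmersion i.left]
    (hobs : AGF.IsObservableIn k i) (hfg : AGF.SubringFGOver k G (AGF.rTransInv i)) :
    IsOpen (Set.range ⇑(G.left.toSpecΓ ≫ Spec.map (CommRingCat.ofHom (AGF.rTransInv i).subtype)).base) ∧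
      ∀ x : ↥(Spec (CommRingCat.of ↥(AGF.rTransInv i))),
        x ∉ Set.range ⇑(G.left.toSpecΓ ≫ Spec.map (CommRingCat.ofHom (AGF.rTransInv i).subtype)).base →
          (2 : ℕ∞) ≤ x.asIdeal.height := by
  classical
  haveI : IsAffine H.left := isAffine_of_isAffineHom i.left
  haveI := Groth.Agent.OrbitTop19.isReduced_of_smooth G.hom
  letI := Groth.Agent.InvRing21.gamAlg G
  letI := Groth.Agent.InvRing21.gamAlg H
  haveI := Groth.Agent.InvRing21.finiteType_gam G
  haveI : IsNoetherianRing Γ(G.left, ⊤) := Algebra.FiniteType.isNoetherianRing k _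
  have hinvval : ∀ F, F ∈ AGF.rTransInv i ↔ ∀ (x : VecGrp.pt k k ⟶ G) (h : VecGrp.pt k k ⟶ H),
      Groth.Agent.InvRing21.val (x * (h ≫ i)) F = Groth.Agent.InvRing21.val x F :=
    fun F => Groth.Agent.InvRing21.isRTransInv_iff_val i F
  let R : Subalgebra k Γ(G.left, ⊤) :=
    { (AGF.rTransInv i).toSubsemiring with
      algebraMap_mem' := fun c => (hinvval _).2 fun x h => by rw [AlgHom.commutes, AlgHom.commutes] }
  have hRfg : R.FG := by
    obtain ⟨s, hs, hgen⟩ := hfg
    refine ⟨s, le_antisymm (Algebra.adjoin_le hs) fun F hF => ?_⟩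
    have := hgen hF
    rw [← Subalgebra.mem_toSubring, Algebra.adjoin_eq_ring_closure]
    exact this
  haveI : Algebra.FiniteType k R := R.fg_iff_finiteType.1 hRfg
  haveI : IsNoetherianRing R := Algebra.FiniteType.isNoetherianRing k R
  haveI : Algebra.FiniteType R Γ(G.left, ⊤) := Algebra.FiniteType.of_restrictScalars_finiteType k R _
  haveI : IsReduced R := isReduced_of_injective R.val Subtype.val_injective
  haveI : Nontrivial Γ(G.left, ⊤) :=
    ⟨⟨0, 1, fun e => by simpa using congrArg (Groth.Agent.InvRing21.val (1 : VecGrp.pt k k ⟶ G)) e⟩⟩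
  haveI : Nontrivial R := ⟨⟨0, 1, fun e => zero_ne_one (congrArg Subtype.val e)⟩⟩
  let W : Set (PrimeSpectrum R) := Set.range (PrimeSpectrum.comap (algebraMap R Γ(G.left, ⊤)))
  have hrange : Set.range ⇑(G.left.toSpecΓ ≫ Spec.map (CommRingCat.ofHom (AGF.rTransInv i).subtype)).base = W := by
    ext p
    constructor
    · rintro ⟨z, rfl⟩
      exact ⟨G.left.toSpecΓ.base z, rfl⟩
    · rintro ⟨q, rfl⟩
      refine ⟨G.left.isoSpec.inv.base q, ?_⟩
      have e : G.left.isoSpec.inv ≫ G.left.toSpecΓ ≫ Spec.map (CommRingCat.ofHom (AGF.rTransInv i).subtype) =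
          Spec.map (CommRingCat.ofHom (AGF.rTransInv i).subtype) := by
        rw [← Scheme.isoSpec_hom, Iso.inv_hom_id_assoc]
      exact congrArg (fun t => t.base q) e
  have hopen : IsOpen W := by
    let σ : (VecGrp.pt k k ⟶ G) → (Γ(G.left, ⊤) →+* Γ(G.left, ⊤)) := fun c =>
      (Groth.Agent.InvRing21.lTr c).left.appTop.hom
    have hσmem : ∀ c, ∀ F ∈ R, σ c F ∈ R := fun c F hF => (hinvval _).2 fun x h => by
      show Groth.Agent.InvRing21.val _ ((Groth.Agent.InvRing21.lTr c).left.appTop F) =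
        Groth.Agent.InvRing21.val _ ((Groth.Agent.InvRing21.lTr c).left.appTop F)
      rw [Groth.Agent.InvRing21.val_lTr, Groth.Agent.InvRing21.val_lTr, ← _root_.mul_assoc, (hinvval F).1 hF]
    let θ : (VecGrp.pt k k ⟶ G) → (R →+* R) := fun c =>
      ((σ c).comp R.val.toRingHom).codRestrict R.toSubring fun F => hσmem c F F.2
    have hθ : ∀ c F, θ c (θ c⁻¹ F) = F := fun c F => Subtype.ext (Groth.Agent.InvRing21.ext_val fun x => by
      show Groth.Agent.InvRing21.val x ((Groth.Agent.InvRing21.lTr c).left.appTop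
        ((Groth.Agent.InvRing21.lTr c⁻¹).left.appTop F.1)) = _
      rw [Groth.Agent.InvRing21.val_lTr, Groth.Agent.InvRing21.val_lTr, inv_mul_cancel_left])
    obtain ⟨f, hf0, hf⟩ := Groth.Agent.InvRing21.exists_isOpen_image (R := R) (S := Γ(G.left, ⊤))
    obtain ⟨U, hUo, hin, hout⟩ := hf 1
    refine isOpen_iff_forall_mem_open.2 ?_
    rintro _ ⟨q, rfl⟩
    obtain ⟨c, hc⟩ : ∃ c, σ c f.1 ∉ q.asIdeal := by
      by_contra! hall
      obtain ⟨M, hM, hqM⟩ := q.asIdeal.exists_le_maximal q.isPrime.ne_top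
      haveI := hM
      haveI : IsReduced (Γ(G.left, ⊤) ⧸ M) := (Ideal.isRadical_iff_quotient_reduced _).1 hM.isPrime.isRadical
      haveI : Algebra.FiniteType k (Γ(G.left, ⊤) ⧸ M) :=
        Algebra.FiniteType.of_surjective (Ideal.Quotient.mkₐ k M) Ideal.Quotient.mk_surjective
      haveI : Nontrivial (Γ(G.left, ⊤) ⧸ M) := Ideal.Quotient.nontrivial_iff.2 hM.ne_top
      obtain ⟨χ, -⟩ := UnitsRos.exists_point_ne_zero (k := k) (b := (1 : Γ(G.left, ⊤) ⧸ M)) one_ne_zero
      let x : VecGrp.pt k k ⟶ G := VecGrp.ptMap (χ.comp (Ideal.Quotient.mkₐ k M)) ≫ Groth.Agent.InvRing21.uPt G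
      have hx : Groth.Agent.InvRing21.val x = χ.comp (Ideal.Quotient.mkₐ k M) := by
        rw [Groth.Agent.InvRing21.val_ptMap, Groth.Agent.InvRing21.val_uPt, AlgHom.comp_id]
      refine hf0 (Subtype.ext (Groth.Agent.InvRing21.ext_val fun y => ?_))
      have h0 : Groth.Agent.InvRing21.val x ((Groth.Agent.InvRing21.lTr (y * x⁻¹)).left.appTop f.1) = 0 := by
        rw [hx, AlgHom.comp_apply,
          show Ideal.Quotient.mkₐ k M ((Groth.Agent.InvRing21.lTr (y * x⁻¹)).left.appTop f.1) = 0 from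
            Ideal.Quotient.eq_zero_iff_mem.2 (hqM (hall _)), map_zero]
      rw [Groth.Agent.InvRing21.val_lTr, inv_mul_cancel_right] at h0
      rw [h0, ZeroMemClass.coe_zero, map_zero]
    refine ⟨PrimeSpectrum.comap (θ c) ⁻¹' U, fun p hp => ?_, hUo.preimage (PrimeSpectrum.continuous_comap _), ?_⟩
    · obtain ⟨q₂, -, hq₂⟩ := hout _ hp
      refine ⟨PrimeSpectrum.comap (σ c⁻¹) q₂, PrimeSpectrum.ext (Ideal.ext fun F => ?_)⟩
      have h2 : θ c⁻¹ F ∈ (PrimeSpectrum.comap (algebraMap R Γ(G.left, ⊤)) q₂).asIdeal ↔ F ∈ p.asIdeal := by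
        rw [hq₂]
        show θ c (θ c⁻¹ F) ∈ p.asIdeal ↔ _
        rw [hθ]
      exact h2
    · exact hin (PrimeSpectrum.comap (σ c) q) hc ((q.asIdeal.ne_top_iff_one).1 q.isPrime.ne_top ∘ fun h => by
        simpa [σ] using h)
  refine ⟨hrange ▸ hopen, fun x hx => ?_⟩
  rw [hrange] at hx
  let p : PrimeSpectrum R := x
  show (2 : ℕ∞) ≤ p.asIdeal.height
  by_contra hlt
  have hle : p.asIdeal.height ≤ 1 := Order.le_of_lt_add_one (by rw [one_add_one_eq_two]; exact not_le.1 hlt)
  let I : Ideal R := PrimeSpectrum.vanishingIdeal Wᶜ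
  have hI : PrimeSpectrum.zeroLocus (I : Set R) = Wᶜ := by
    rw [PrimeSpectrum.zeroLocus_vanishingIdeal_eq_closure, hopen.isClosed_compl.closure_eq]
  have hIp : I ≤ p.asIdeal := (PrimeSpectrum.mem_zeroLocus _ _).1 (hI.symm ▸ hx)
  have hIq : ∀ q : PrimeSpectrum Γ(G.left, ⊤), ¬ I ≤ q.asIdeal.comap (algebraMap R Γ(G.left, ⊤)) := fun q h => by
    have : PrimeSpectrum.comap (algebraMap R Γ(G.left, ⊤)) q ∈ Wᶜ := hI ▸ (PrimeSpectrum.mem_zeroLocus _ _).2 h
    exact this ⟨q, rfl⟩
  have hfin : (minimalPrimes Γ(G.left, ⊤)).Finite := minimalPrimes.finite_of_isNoetherianRing _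
  obtain ⟨s, hsI, hs⟩ : ∃ s ∈ I, ∀ Q ∈ minimalPrimes Γ(G.left, ⊤), algebraMap R Γ(G.left, ⊤) s ∉ Q := by
    by_contra! hall
    have hsub : (I : Set R) ⊆ ⋃ Q ∈ (↑hfin.toFinset : Set _), ((Ideal.comap (algebraMap R Γ(G.left, ⊤)) Q : Ideal R) : Set R) :=
      fun s hs => by
        obtain ⟨Q, hQ, hsQ⟩ := hall s hs
        exact Set.mem_biUnion (hfin.mem_toFinset.2 hQ) hsQ
    obtain ⟨Q, hQ, hIQ⟩ := (Ideal.subset_union_prime ⊥ ⊥ fun Q hQ _ _ =>
      haveI := (hfin.mem_toFinset.1 hQ).isPrime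
      Ideal.comap_isPrime _ Q).1 hsub
    exact hIq ⟨Q, (hfin.mem_toFinset.1 hQ).isPrime⟩ hIQ
  have hnzd : ∀ a : Γ(G.left, ⊤), a * algebraMap R Γ(G.left, ⊤) s = 0 → a = 0 := fun a ha => by
    have hmem : a ∈ sInf (minimalPrimes Γ(G.left, ⊤)) :=
      Submodule.mem_sInf.2 fun Q hQ =>
        (hQ.isPrime.mem_or_mem (ha ▸ Q.zero_mem)).resolve_right (hs Q hQ)
    rw [minimalPrimes, Ideal.sInf_minimalPrimes] at hmem
    obtain ⟨n, hn⟩ := hmem
    exact IsReduced.eq_zero _ ⟨n, Ideal.mem_bot.1 hn⟩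
  have hsR : s ∈ nonZeroDivisors R := mem_nonZeroDivisors_iff_right.2 fun a ha => Subtype.ext (hnzd a.1 (by
    simpa using congrArg Subtype.val ha))
  have hsp : Ideal.span {s} ≤ p.asIdeal := (Ideal.span_singleton_le_iff_mem _).2 (hIp hsI)
  have hpmin : p.asIdeal ∈ (Ideal.span {s}).minimalPrimes :=
    Ideal.mem_minimalPrimes_of_height_le hsp (hle.trans (Ideal.one_le_height_span_singleton_of_mem_nonZeroDivisors hsR))
  have hfin' : ((Ideal.span {s}).minimalPrimes \ {p.asIdeal}).Finite :=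
    ((Ideal.span {s}).finite_minimalPrimes_of_isNoetherianRing R).subset Set.sdiff_subset
  obtain ⟨t', ht', ht'p⟩ : ∃ t' ∈ hfin'.toFinset.inf id, t' ∉ p.asIdeal := by
    by_contra! h
    obtain ⟨Q, hQ, hQp⟩ := (Ideal.IsPrime.inf_le' p.isPrime).1 (show hfin'.toFinset.inf id ≤ p.asIdeal from h)
    obtain ⟨hQ1, hQ2⟩ := hfin'.mem_toFinset.1 hQ
    exact hQ2 (le_antisymm hQp (hpmin.2 hQ1.1 hQp))
  obtain ⟨n, hn⟩ := Ideal.exists_pow_le_of_le_radical_of_fg (I := Ideal.span {t'} * I) (J := Ideal.span {s})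
    (by
      rw [← Ideal.sInf_minimalPrimes]
      refine le_sInf fun Q hQ => ?_
      by_cases hQp : Q = p.asIdeal
      · exact hQp ▸ Ideal.mul_le_right.trans hIp
      · exact Ideal.mul_le_left.trans ((Ideal.span_singleton_le_iff_mem _).2
          ((Submodule.mem_finsetInf.1 ht') Q (hfin'.mem_toFinset.2 ⟨hQ, hQp⟩))))
    (IsNoetherian.noetherian _)
  let φ := algebraMap R Γ(G.left, ⊤)
  have htop : I.map φ = ⊤ := by
    by_contra h
    obtain ⟨M, hM, hIM⟩ := (I.map φ).exists_le_maximal h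
    exact hIq ⟨M, hM.isPrime⟩ (Ideal.map_le_iff_le_comap.1 hIM)
  have := Ideal.map_mono (f := φ) hn
  rw [Ideal.map_pow, Ideal.map_mul, htop, Ideal.mul_top, ← Ideal.map_pow, Ideal.span_singleton_pow, Ideal.map_span,
    Ideal.map_span, Set.image_singleton, Set.image_singleton, Ideal.span_singleton_le_span_singleton] at this
  obtain ⟨z, hz⟩ := this
  have hzR : z ∈ R := (hinvval z).2 fun y h => by
    suffices hh : (Groth.Agent.InvRing21.rTr (h ≫ i)).left.appTop z - z = 0 by
      have := congrArg (Groth.Agent.InvRing21.val y) hh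
      rwa [map_sub, map_zero, Groth.Agent.InvRing21.val_rTr, sub_eq_zero] at this
    refine hnzd _ (Groth.Agent.InvRing21.ext_val fun x => ?_)
    have e1 := congrArg (Groth.Agent.InvRing21.val (x * (h ≫ i))) hz
    have e2 := congrArg (Groth.Agent.InvRing21.val x) hz
    rw [(hinvval _).1 (show φ (t' ^ n) ∈ R from (t' ^ n).2), map_mul, (hinvval _).1 (show φ s ∈ R from s.2)] at e1
    rw [map_mul] at e2
    rw [map_mul, map_sub, map_zero, Groth.Agent.InvRing21.val_rTr]
    linear_combination e2 - e1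
  have hts : t' ^ n = s * ⟨z, hzR⟩ := Subtype.ext hz
  exact ht'p (p.isPrime.mem_of_pow_mem n (hts ▸ p.asIdeal.mul_mem_right _ (hIp hsI)))

end Groth.Agent.S11216
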