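import Groth.Statements.S11217
-- import your own Groth.Agent.* helpers here

set_option autoImplicit false
universe u
open CategoryTheory MonoidalCategory CartesianMonoidalCategory MonObj GrpObj AlgebraicGeometry
open scoped TensorProduct
open AGF

namespace Groth.Agent.S11217

/-- Let k be a field of characteristic zero and m ≥ 2; in the polynomial ring k[x, y, z, s, t, u, v]
(variables 0, …, 6) let δ be the k-derivation with δ(x) = δ(y) = δ(z) = 0, δ(s) = x^(m+1), δ(t) =
y^(m+1), δ(u) = z^(m+1), δ(v) = (xyz)^m, and grade by total degree in s, t, u, v. If f is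
homogeneous of degree n ≥ 1 for this grading and δ(f) = 0, then every coefficient of f, as a
polynomial in s, t, u, v over k[x, y, z], lies in the ideal (x, y, z): every monomial of f has
positive degree in x, y, z. (The published statement allows n = 0, where the constant 1 is a
counterexample; this row assumes n ≥ 1. The published definition of the derivation gives δ(v) =
(xyz)^(m+1), for which the assertion fails: v − (yz)^(m+1)·s is killed by δ and has the monomial v
with coefficient 1; this row uses δ(v) = (xyz)^m, the exponent of the published action formula and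
of the published examples of invariants.) -/
theorem result (k : Type u) [Field k] [CharZero k] (m : ℕ) (hm : 2 ≤ m) (n : ℕ) (hn : 1 ≤ n)
    (f : MvPolynomial (Fin 7) k)
    (hf : MvPolynomial.IsWeightedHomogeneous (![0, 0, 0, 1, 1, 1, 1] : Fin 7 → ℕ) f n)
    (hδ : MvPolynomial.mkDerivation k
      (![0, 0, 0, MvPolynomial.X 0 ^ (m + 1), MvPolynomial.X 1 ^ (m + 1), MvPolynomial.X 2 ^ (m + 1),
        (MvPolynomial.X 0 * MvPolynomial.X 1 * MvPolynomial.X 2) ^ m] : Fin 7 → MvPolynomial (Fin 7) k) f = 0) :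
    ∀ d ∈ f.support, 0 < d 0 + d 1 + d 2 := by
  classical
  intro d hd
  by_contra hpos
  have h0 : d 0 = 0 ∧ d 1 = 0 ∧ d 2 = 0 := by omega
  obtain ⟨hd0, hd1, hd2⟩ := h0
  set c : Fin 7 → MvPolynomial (Fin 7) k := ![0, 0, 0, MvPolynomial.X 0 ^ (m + 1), MvPolynomial.X 1 ^ (m + 1),
    MvPolynomial.X 2 ^ (m + 1), (MvPolynomial.X 0 * MvPolynomial.X 1 * MvPolynomial.X 2) ^ m] with hc
  have happ : ∀ (D : Fin 7 → Derivation k (MvPolynomial (Fin 7) k) (MvPolynomial (Fin 7) k)) (a : MvPolynomial (Fin 7) k),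
      (∑ i, D i) a = ∑ i, D i a := fun D a => by
    rw [← Derivation.coeFnAddMonoidHom_apply, map_sum, Finset.sum_apply]
    rfl
  have hsum : MvPolynomial.mkDerivation k c f = ∑ i, c i * MvPolynomial.pderiv i f := by
    have e : MvPolynomial.mkDerivation k c = ∑ i, c i • MvPolynomial.pderiv i :=
      MvPolynomial.derivation_ext fun j => by
        rw [happ]
        simp [MvPolynomial.mkDerivation_X, MvPolynomial.pderiv_X, Pi.single_apply]
    rw [e, happ]
    simp
  rw [hsum, Fin.sum_univ_seven] at hδ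
  simp only [hc, mul_pow, MvPolynomial.X_pow_eq_monomial, MvPolynomial.monomial_mul, mul_one] at hδ
  simp only [Matrix.cons_val, zero_mul, zero_add] at hδ
  have hco : ∀ e : Fin 7 →₀ ℕ, ∀ s : Fin 7 →₀ ℕ, ∀ i, MvPolynomial.coeff e
      (MvPolynomial.monomial s 1 * MvPolynomial.pderiv i f) =
      if s ≤ e then MvPolynomial.coeff (e - s + Finsupp.single i 1) f * ((e - s) i + 1 : ℕ) else 0 := fun e s i => by
    rw [MvPolynomial.coeff_monomial_mul']
    split_ifs <;> simp [MvPolynomial.coeff_pderiv]
  have hd' := MvPolynomial.mem_support_iff.mp hd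
  have hw : d 3 + d 4 + d 5 + d 6 = n := by
    have := hf hd'
    simpa [Finsupp.weight_apply, Finsupp.sum_fintype, Fin.sum_univ_seven] using this
  simp only [add_assoc] at hδ
  set s6 : Fin 7 →₀ ℕ := Finsupp.single 0 m + Finsupp.single 1 m + Finsupp.single 2 m with hs6
  let fin : ∀ (i : Fin 7) (s : Fin 7 →₀ ℕ), s i = 0 → 0 < d i →
      MvPolynomial.coeff (d - Finsupp.single i 1 + s) (MvPolynomial.monomial s 1 * MvPolynomial.pderiv i f) = 0 →
      False := fun i s _ hi h => by
    rw [hco, if_pos le_add_self, add_tsub_cancel_right, tsub_add_cancel_of_le (by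
      simp only [Finsupp.single_le_iff]; omega)] at h
    exact mul_ne_zero hd' (Nat.cast_ne_zero.mpr (Nat.succ_ne_zero _)) h
  have nd : ∀ (e s : Fin 7 →₀ ℕ) (i j : Fin 7), e j < s j →
      MvPolynomial.coeff e (MvPolynomial.monomial s 1 * MvPolynomial.pderiv i f) = 0 := fun e s i j h => by
    rw [hco, if_neg fun hle => (hle j).not_gt h]
  simp only [← hs6, ← add_assoc] at hδ
  rw [show (1 : k) * 1 * 1 = 1 by simp] at hδ
  by_cases h3 : 0 < d 3
  · refine fin 3 (Finsupp.single 0 (m + 1)) (by simp) h3 ?_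
    have h := congrArg (MvPolynomial.coeff (d - Finsupp.single 3 1 + Finsupp.single 0 (m + 1))) hδ
    simp only [MvPolynomial.coeff_add, MvPolynomial.coeff_zero] at h
    rwa [nd _ (Finsupp.single 1 (m + 1)) 4 1 (by simp [hd1]), nd _ (Finsupp.single 2 (m + 1)) 5 2 (by simp [hd2]),
      nd _ _ 6 1 (by simp [hs6, hd1]; omega), add_zero, add_zero, add_zero] at h
  by_cases h4 : 0 < d 4
  · refine fin 4 (Finsupp.single 1 (m + 1)) (by simp) h4 ?_
    have h := congrArg (MvPolynomial.coeff (d - Finsupp.single 4 1 + Finsupp.single 1 (m + 1))) hδ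
    simp only [MvPolynomial.coeff_add, MvPolynomial.coeff_zero] at h
    rwa [nd _ (Finsupp.single 0 (m + 1)) 3 0 (by simp [hd0]), nd _ (Finsupp.single 2 (m + 1)) 5 2 (by simp [hd2]),
      nd _ _ 6 0 (by simp [hs6, hd0]; omega), zero_add, add_zero, add_zero] at h
  by_cases h5 : 0 < d 5
  · refine fin 5 (Finsupp.single 2 (m + 1)) (by simp) h5 ?_
    have h := congrArg (MvPolynomial.coeff (d - Finsupp.single 5 1 + Finsupp.single 2 (m + 1))) hδ
    simp only [MvPolynomial.coeff_add, MvPolynomial.coeff_zero] at h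
    rwa [nd _ (Finsupp.single 0 (m + 1)) 3 0 (by simp [hd0]), nd _ (Finsupp.single 1 (m + 1)) 4 1 (by simp [hd1]),
      nd _ _ 6 0 (by simp [hs6, hd0]; omega), zero_add, zero_add, add_zero] at h
  refine fin 6 s6 (by simp [hs6]) (by omega) ?_
  have h := congrArg (MvPolynomial.coeff (d - Finsupp.single 6 1 + s6)) hδ
  simp only [MvPolynomial.coeff_add, MvPolynomial.coeff_zero] at h
  rwa [nd _ (Finsupp.single 0 (m + 1)) 3 0 (by simp [hs6, hd0]), nd _ (Finsupp.single 1 (m + 1)) 4 1 (by simp [hs6, hd1]),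
    nd _ (Finsupp.single 2 (m + 1)) 5 2 (by simp [hs6, hd2]), zero_add, zero_add, zero_add] at h

end Groth.Agent.S11217
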