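import Groth.Statements.S11218
import Groth.Agent.Lib.InvRing21.Coef
import Mathlib.AlgebraicGeometry.Morphisms.UniversallyOpen
import Mathlib.AlgebraicGeometry.Morphisms.FlatDescent
-- import your own Groth.Agent.* helpers here

set_option autoImplicit false
universe u
open CategoryTheory MonoidalCategory CartesianMonoidalCategory MonObj GrpObj AlgebraicGeometry
open scoped TensorProduct
open AGF

namespace Groth.Agent.S11218

/-- Let k be an algebraically closed field, G a linear algebraic group over k (an affine smooth group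
scheme over k) and H a closed subgroup of G (a smooth closed subgroup scheme, i : H → G), such that
the quotient G/H (the scheme Y with action b and base point o′) is proper over k (complete). Let G
act on a variety X over k (separated, of finite type) and let x be a rational point of X; let Z ⊆ X
be the closure of the H-orbit of x. Then the closure of the G-orbit of x is G·Z, the image under the
action map of the preimage of Z in G × X. (The published statement takes X affine; the argument does
not use this, and this row drops it.) -/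
theorem result (k : Type u) [Field k] [IsAlgClosed k]
    (G : Over (Spec (CommRingCat.of k))) [GrpObj G] [IsAffine G.left] [Smooth G.hom]
    (H : Over (Spec (CommRingCat.of k))) [GrpObj H] [Smooth H.hom] (i : H ⟶ G) [IsMonHom i]
    [IsClosedImmersion i.left]
    (Y : Over (Spec (CommRingCat.of k))) (b : AlgGrp.Action G Y) (o' : 𝟙_ (Over (Spec (CommRingCat.of k))) ⟶ Y) (hY : AGF.IsQuotient i Y b o')
    [IsProper Y.hom]
    (X : Over (Spec (CommRingCat.of k))) [IsSeparated X.hom] [LocallyOfFiniteType X.hom] [QuasiCompact X.hom]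
    (a : AlgGrp.Action G X) (x : 𝟙_ (Over (Spec (CommRingCat.of k))) ⟶ X) :
    closure (Set.range ⇑(a.orbitMap x).left.base) =
      ⇑a.act.left.base '' (⇑(snd G X).left.base ⁻¹' closure (Set.range ⇑(i ≫ a.orbitMap x).left.base)) := by
  obtain ⟨_, hflat, hsurj, hpb⟩ := hY
  haveI := hflat
  haveI := hsurj
  haveI : IsAffine H.left := isAffine_of_isAffineHom i.left
  set Z := closure (Set.range ⇑(i ≫ a.orbitMap x).left.base) with hZ
  have hmul : ∀ {T : Over (Spec (CommRingCat.of k))} (g g' : T ⟶ G) (y : T ⟶ X),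
      lift (g * g') y ≫ a.act = lift g (lift g' y ≫ a.act) ≫ a.act := by
    intro T g g' y
    rw [Hom.mul_def, show lift (lift g g' ≫ μ[G]) y = lift (lift g g') y ≫ (μ[G] ▷ X) by simp, Category.assoc,
      a.mul_act]
    simp [lift_lift_associator_hom_assoc, lift_whiskerLeft_assoc]
  have hone : ∀ {T : Over (Spec (CommRingCat.of k))} (y : T ⟶ X), lift (1 : T ⟶ G) y ≫ a.act = y := by
    intro T y
    rw [Hom.one_def, show lift (toUnit T ≫ η[G]) y = lift (toUnit T) y ≫ (η[G] ▷ X) by simp, Category.assoc, a.one_act]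
    simp
  have horb : ∀ {T : Over (Spec (CommRingCat.of k))} (g : T ⟶ G),
      g ≫ a.orbitMap x = lift g (toUnit T ≫ x) ≫ a.act := by
    intro T g
    rw [AlgGrp.Action.orbitMap, ← Category.assoc, comp_lift, Category.comp_id, ← Category.assoc,
      toUnit_unique (g ≫ toUnit G) (toUnit T)]
  -- translates of the closure of an orbit
  have hclos : ∀ {G' K : Over (Spec (CommRingCat.of k))} (f : G' ⟶ G) (m : H ⟶ X) (m' : K ⟶ X) (φ : G' ⊗ H ⟶ K),
      (G' ◁ m) ≫ (f ▷ X) ≫ a.act = φ ≫ m' →
      ⇑((f ▷ X) ≫ a.act).left.base '' (⇑(snd G' X).left.base ⁻¹' closure (Set.range ⇑m.left.base)) ⊆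
        closure (Set.range ⇑m'.left.base) := by
    intro G' K f m m' φ hφ
    haveI : UniversallyOpen (snd G' X).left := inferInstanceAs (UniversallyOpen (Limits.pullback.snd G'.hom X.hom))
    rw [(snd G' X).left.isOpenMap.preimage_closure_eq_closure_preimage (snd G' X).left.continuous]
    refine (image_closure_subset_closure_image ((f ▷ X) ≫ a.act).left.continuous).trans (closure_mono ?_)
    rintro _ ⟨w, hw, rfl⟩
    obtain ⟨y, hy⟩ := hw
    have hsq : IsPullback (snd G' H).left (G' ◁ m).left m.left (snd G' X).left := by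
      refine IsPullback.of_bot (v₂₁ := (fst G' X).left) ?_ (by rw [← Over.comp_left, ← Over.comp_left, whiskerLeft_snd]) (IsPullback.of_hasPullback G'.hom X.hom).flip
      rw [← Over.comp_left, whiskerLeft_fst, Over.w m]
      exact (IsPullback.of_hasPullback G'.hom H.hom).flip
    obtain ⟨v, -, hv⟩ := Scheme.exists_preimage_of_isPullback hsq y w hy
    refine ⟨φ.left.base v, ?_⟩
    rw [← hv]
    exact (Scheme.Hom.comp_apply φ.left m'.left v).symm.trans
      ((congrArg (fun e => e.left.base v) hφ).symm.trans (Scheme.Hom.comp_apply (G' ◁ m).left ((f ▷ X) ≫ a.act).left v))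
  have hGZ : ⇑a.act.left.base '' (⇑(snd G X).left.base ⁻¹' Z) ⊆ closure (Set.range ⇑(a.orbitMap x).left.base) := by
    have := hclos (𝟙 G) (i ≫ a.orbitMap x) (a.orbitMap x) ((G ◁ i) ≫ μ[G]) (by
      rw [id_whiskerRight, Category.id_comp, horb, Category.assoc (G ◁ i) μ[G],
        show (G ◁ i) ≫ μ[G] ≫ a.orbitMap x = ((G ◁ i) ≫ μ[G]) ≫ a.orbitMap x from (Category.assoc _ _ _).symm,
        horb, show (G ◁ i) ≫ μ[G] = fst G H * (snd G H ≫ i) by rw [Groth.Agent.InvRing21.whisker_mul], hmul]
      refine congrArg (· ≫ a.act) (CartesianMonoidalCategory.hom_ext _ _ (by simp) ?_)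
      rw [whiskerLeft_snd, lift_snd, ← Category.assoc, comp_lift, ← Category.assoc (snd G H), toUnit_unique (snd G H ≫ toUnit H) (toUnit _)])
    rwa [id_whiskerRight, Category.id_comp] at this
  have hHZ : ⇑((i ▷ X) ≫ a.act).left.base '' (⇑(snd H X).left.base ⁻¹' Z) ⊆ Z :=
    hclos i (i ≫ a.orbitMap x) (i ≫ a.orbitMap x) μ[H] (by
      rw [horb, comp_lift_assoc, IsMonHom.mul_hom,
        show (i ⊗ₘ i) ≫ μ[G] = (fst H H ≫ i) * (snd H H ≫ i) by
          rw [Hom.mul_def, lift_fst_comp_snd_comp], hmul, ← Category.assoc]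
      refine congrArg (· ≫ a.act) (CartesianMonoidalCategory.hom_ext _ _ (by simp) ?_)
      rw [Category.assoc, whiskerRight_snd, whiskerLeft_snd, lift_snd, comp_lift_assoc,
        ← Category.assoc μ[H] (toUnit H), ← Category.assoc (snd H H) (toUnit H),
        toUnit_unique (μ[H] ≫ toUnit H) (toUnit _), toUnit_unique (snd H H ≫ toUnit H) (toUnit _)])
  refine Set.Subset.antisymm (closure_minimal ?_ ?_) hGZ
  · rintro _ ⟨g, rfl⟩
    refine ⟨(lift (𝟙 G) (toUnit G ≫ x)).left.base g, ?_, ?_⟩
    · refine subset_closure ⟨η[H].left.base ((toUnit G).left.base g), ?_⟩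
      rw [← Scheme.Hom.comp_apply, ← Scheme.Hom.comp_apply, ← Scheme.Hom.comp_apply, ← Over.comp_left, ← Over.comp_left,
        ← Over.comp_left, lift_snd]
      rw [← Category.assoc η[H], IsMonHom.one_hom, horb, MonObj.one_eq_one, hone, toUnit_unit, Category.id_comp]
    · rw [← Scheme.Hom.comp_apply, ← Over.comp_left]
      rfl
  -- the translates form a closed set
  let π := b.orbitMap o'
  let Ψ : G ⊗ X ⟶ Y ⊗ X := lift (fst G X ≫ π) a.act
  let σ : G ⊗ X ≅ G ⊗ X :=
    { hom := lift (fst G X) a.act
      inv := lift (fst G X) (lift (fst G X)⁻¹ (snd G X) ≫ a.act)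
      hom_inv_id := by
        rw [comp_lift, lift_fst, ← Category.assoc, comp_lift, GrpObj.comp_inv, lift_fst, lift_snd]
        refine CartesianMonoidalCategory.hom_ext _ _ (by simp) ?_
        rw [lift_snd, Category.id_comp]
        have := hmul (fst G X)⁻¹ (fst G X) (snd G X)
        rw [inv_mul_cancel, hone, lift_fst_snd, Category.id_comp] at this
        exact this.symm
      inv_hom_id := by
        rw [comp_lift, lift_fst]
        refine CartesianMonoidalCategory.hom_ext _ _ (by simp) ?_
        rw [lift_snd, Category.id_comp,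
          show lift (fst G X) (lift (fst G X)⁻¹ (snd G X) ≫ a.act) ≫ a.act = _ from (hmul _ _ _).symm,
          mul_inv_cancel, hone] }
  have hΨ : Ψ.left = σ.hom.left ≫ (π ▷ X).left := by
    rw [← Over.comp_left]
    refine congrArg (fun e : G ⊗ X ⟶ Y ⊗ X => e.left) ?_
    simp [Ψ, σ]
  haveI : IsIso σ.hom.left := ((Over.forget _).mapIso σ).isIso_hom
  have hpbX : IsPullback (fst G X).left (π ▷ X).left π.left (fst Y X).left := by
    refine IsPullback.of_bot (v₂₁ := (snd Y X).left) ?_ (by rw [← Over.comp_left, ← Over.comp_left, whiskerRight_fst])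
      (IsPullback.of_hasPullback Y.hom X.hom)
    rw [Over.w π, ← Over.comp_left, whiskerRight_snd]
    exact IsPullback.of_hasPullback G.hom X.hom
  haveI : Flat (π ▷ X).left := MorphismProperty.of_isPullback hpbX hflat
  haveI : Surjective (π ▷ X).left := MorphismProperty.of_isPullback hpbX hsurj
  haveI : QuasiCompact π.left := by
    haveI : QuasiCompact (π.left ≫ Y.hom) := by rw [Over.w π]; infer_instance
    exact QuasiCompact.of_comp π.left Y.hom
  haveI : QuasiCompact (π ▷ X).left := MorphismProperty.of_isPullback hpbX inferInstance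
  haveI : Flat Ψ.left := by rw [hΨ]; infer_instance
  haveI : Surjective Ψ.left := by rw [hΨ]; infer_instance
  haveI : QuasiCompact Ψ.left := by rw [hΨ]; infer_instance
  set C := ⇑(snd G X).left.base ⁻¹' Z
  have hsat : ⇑Ψ.left.base ⁻¹' (⇑Ψ.left.base '' C) = C := by
    refine Set.Subset.antisymm ?_ (Set.subset_preimage_image _ _)
    rintro w₂ ⟨w₁, hw₁, heq⟩
    obtain ⟨w, hwp, hwq⟩ := Scheme.Pullback.exists_preimage_pullback w₁ w₂ heq
    let T : Over (Spec (CommRingCat.of k)) := Over.mk (Limits.pullback.fst Ψ.left Ψ.left ≫ (G ⊗ X).hom)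
    let p : T ⟶ G ⊗ X := Over.homMk (Limits.pullback.fst Ψ.left Ψ.left) rfl
    let q : T ⟶ G ⊗ X := Over.homMk (Limits.pullback.snd Ψ.left Ψ.left) (by
      show Limits.pullback.snd Ψ.left Ψ.left ≫ (G ⊗ X).hom = Limits.pullback.fst Ψ.left Ψ.left ≫ (G ⊗ X).hom
      rw [← Over.w Ψ, ← Category.assoc, ← Category.assoc, Limits.pullback.condition])
    have hpq : p ≫ Ψ = q ≫ Ψ := Over.OverMorphism.ext Limits.pullback.condition
    have h1 : (p ≫ fst G X) ≫ π = (q ≫ fst G X) ≫ π := by
      have := congrArg (· ≫ fst Y X) hpq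
      simpa [Ψ] using this
    obtain ⟨t, ht1, ht2⟩ := hpb.exists_lift _ _ h1
    rw [Groth.Agent.InvRing21.whisker_mul, MonObj.comp_mul, ← Category.assoc, ht1] at ht2
    have h2 : lift (p ≫ fst G X) (p ≫ snd G X) ≫ a.act = lift (q ≫ fst G X) (q ≫ snd G X) ≫ a.act := by
      have := congrArg (· ≫ snd Y X) hpq
      simp only [Ψ, Category.assoc, lift_snd] at this
      rw [← comp_lift, ← comp_lift, lift_fst_snd, Category.comp_id, Category.comp_id]
      exact this
    have h3 : q ≫ snd G X = (lift (t ≫ snd G H)⁻¹ (p ≫ snd G X) ≫ (i ▷ X)) ≫ a.act := by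
      have e := congrArg (fun y => lift (q ≫ fst G X)⁻¹ y ≫ a.act) h2
      simp only [← hmul, inv_mul_cancel, hone] at e
      refine e.symm.trans ?_
      rw [lift_whiskerRight, ← ht2, _root_.mul_inv_rev, GrpObj.inv_comp, inv_mul_cancel_right]
    show (snd G X).left.base w₂ ∈ Z
    rw [← hwq]
    refine hHZ ⟨(lift (t ≫ snd G H)⁻¹ (p ≫ snd G X)).left.base w, ?_, ?_⟩
    · show (snd H X).left.base _ ∈ Z
      rw [← Scheme.Hom.comp_apply, ← Over.comp_left, lift_snd]
      show (snd G X).left.base ((Limits.pullback.fst Ψ.left Ψ.left).base w) ∈ Z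
      rw [hwp]
      exact hw₁
    · rw [← Scheme.Hom.comp_apply, ← Over.comp_left, ← Category.assoc, ← h3]
      rfl
  have hC : IsClosed (⇑Ψ.left.base '' C) := by
    rw [← (Flat.isQuotientMap_of_surjective Ψ.left).isClosed_preimage, hsat]
    exact isClosed_closure.preimage (snd G X).left.continuous
  haveI : UniversallyClosed (snd Y X).left := inferInstanceAs (UniversallyClosed (Limits.pullback.snd Y.hom X.hom))
  have himg : ⇑a.act.left.base '' C = ⇑(snd Y X).left.base '' (⇑Ψ.left.base '' C) := by
    rw [← Set.image_comp]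
    refine Set.image_congr fun w _ => ?_
    rw [Function.comp_apply, ← Scheme.Hom.comp_apply, ← Over.comp_left, lift_snd]
  rw [himg]
  exact (snd Y X).left.isClosedMap _ hC

end Groth.Agent.S11218
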