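import Groth.Statements.S11219
import Groth.Agent.Lib.InvRing21.Line
import Groth.Agent.Lib.AbRigid.Connected
-- import your own Groth.Agent.* helpers here

set_option autoImplicit false
universe u
open CategoryTheory MonoidalCategory CartesianMonoidalCategory MonObj GrpObj AlgebraicGeometry
open scoped TensorProduct
open AGF

namespace Groth.Agent.S11219

/-- Let k be an algebraically closed field, G a linear algebraic group over k (an affine smooth group
scheme over k) and H a closed subgroup of G (a smooth closed subgroup scheme, i : H → G), with G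
connected. Then H is observable in G if and only if every right-H-invariant rational function on G
is a quotient of two right-H-invariant global functions: whenever global functions a, b with b ≠ 0
satisfy a(xh)·b(x) = a(x)·b(xh) on G × H, there are right-H-invariant global functions a′, b′ with
b′ ≠ 0 and a·b′ = a′·b. (The published condition concerns the identity component of G and its
intersection with H; for connected G it reads as stated.) -/
theorem result (k : Type u) [Field k] [IsAlgClosed k]
    (G : Over (Spec (CommRingCat.of k))) [GrpObj G] [IsAffine G.left] [Smooth G.hom]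
    (H : Over (Spec (CommRingCat.of k))) [GrpObj H] [Smooth H.hom] (i : H ⟶ G) [IsMonHom i]
    [IsClosedImmersion i.left] [ConnectedSpace G.left] :
    AGF.IsObservableIn k i ↔
      ∀ a b : Γ(G.left, ⊤), b ≠ 0 →
        ((G ◁ i) ≫ μ[G]).left.appTop a * (fst G H).left.appTop b = (fst G H).left.appTop a * ((G ◁ i) ≫ μ[G]).left.appTop b →
        ∃ a' b' : Γ(G.left, ⊤), AGF.IsRTransInv i a' ∧ AGF.IsRTransInv i b' ∧ b' ≠ 0 ∧ a * b' = a' * b := by
  classical
  haveI : IsAffine H.left := isAffine_of_isAffineHom i.left
  haveI := Groth.Agent.OrbitTop19.isReduced_of_smooth G.hom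
  haveI : IrreducibleSpace G.left := Groth.Agent.AbRigid.irreducibleSpace_of_isAlgClosed G
  haveI : IsIntegral G.left := isIntegral_of_irreducibleSpace_of_isReduced G.left
  letI := Groth.Agent.InvRing21.gamAlg G
  letI := Groth.Agent.InvRing21.gamAlg H
  haveI : IsDomain Γ(G.left, ⊤) := inferInstance
  haveI : Smooth (G ⊗ H).hom := inferInstanceAs (Smooth (Limits.pullback.fst G.hom H.hom ≫ G.hom))
  have hiff : ∀ a b : Γ(G.left, ⊤),
      ((G ◁ i) ≫ μ[G]).left.appTop a * (fst G H).left.appTop b = (fst G H).left.appTop a * ((G ◁ i) ≫ μ[G]).left.appTop b ↔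
      ∀ (x : VecGrp.pt k k ⟶ G) (h : VecGrp.pt k k ⟶ H),
        Groth.Agent.InvRing21.val (x * (h ≫ i)) a * Groth.Agent.InvRing21.val x b =
          Groth.Agent.InvRing21.val x a * Groth.Agent.InvRing21.val (x * (h ≫ i)) b := by
    intro a b
    constructor
    · intro e x h
      have := congrArg (Groth.Agent.InvRing21.val (lift x h)) e
      simp only [map_mul, Groth.Agent.InvRing21.appTop_val, Groth.Agent.InvRing21.whisker_mul, MonObj.comp_mul,
        lift_fst, lift_snd_assoc] at this
      exact this
    · intro e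
      refine Groth.Agent.InvRing21.ext_val fun q => ?_
      simp only [map_mul, Groth.Agent.InvRing21.appTop_val, Groth.Agent.InvRing21.whisker_mul, MonObj.comp_mul]
      rw [← Category.assoc]
      exact e _ _
  constructor
  · intro hobs a b hb hab
    rw [hiff] at hab
    obtain ⟨x₀, hx₀⟩ := Groth.Agent.InvRing21.exists_val_ne_zero hb
    let J : Ideal Γ(G.left, ⊤) := (Ideal.span {b}).colon {a}
    have hJ : ∀ c, c ∈ J ↔ ∃ e, e * b = c * a := fun c => by
      simp [J, Submodule.mem_colon_singleton, Ideal.mem_span_singleton']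
    have hJst : ∀ c ∈ J, ∀ h : VecGrp.pt k k ⟶ H, (Groth.Agent.InvRing21.rTr (h ≫ i)).left.appTop c ∈ J := by
      intro c hc h
      obtain ⟨e, he⟩ := (hJ c).1 hc
      refine (hJ _).2 ⟨(Groth.Agent.InvRing21.rTr (h ≫ i)).left.appTop e, ?_⟩
      have hbh : (Groth.Agent.InvRing21.rTr (h ≫ i)).left.appTop b ≠ 0 := by
        intro h0
        have := congrArg (Groth.Agent.InvRing21.val (x₀ * (h ≫ i)⁻¹)) h0
        rw [Groth.Agent.InvRing21.val_rTr, inv_mul_cancel_right, map_zero] at this
        exact hx₀ this
      refine mul_left_cancel₀ hbh (Groth.Agent.InvRing21.ext_val fun x => ?_)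
      have e' := congrArg (Groth.Agent.InvRing21.val (x * (h ≫ i))) he
      simp only [map_mul, Groth.Agent.InvRing21.val_rTr] at e' ⊢
      linear_combination (Groth.Agent.InvRing21.val x b) * e' +
        (Groth.Agent.InvRing21.val (x * (h ≫ i)) c) * hab x h
    have hbJ : b ∈ J := (hJ b).2 ⟨a, mul_comm _ _⟩
    obtain ⟨F, hF, hF1, hFrad⟩ := Groth.Agent.InvRing21.exists_invariant_radical hobs J (fun x hx h c hc => by
      rw [← Groth.Agent.InvRing21.val_rTr]
      exact hx _ (hJst c hc h)) hbJ x₀ hx₀
    obtain ⟨N, hN⟩ := hFrad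
    obtain ⟨a', ha'⟩ := (hJ _).1 hN
    have hF0 : F ≠ 0 := fun h => hF1 (by rw [h, map_zero])
    refine ⟨a', F ^ N, ?_, ?_, pow_ne_zero N hF0, by rw [ha']; ring⟩
    · rw [Groth.Agent.InvRing21.isRTransInv_iff_val]
      intro x h
      suffices hh : (Groth.Agent.InvRing21.rTr (h ≫ i)).left.appTop a' = a' by
        conv_rhs => rw [← hh]
        rw [Groth.Agent.InvRing21.val_rTr]
      have hbb : (Groth.Agent.InvRing21.rTr (h ≫ i)).left.appTop b * b ≠ 0 := mul_ne_zero (fun h0 => by
        have := congrArg (Groth.Agent.InvRing21.val (x₀ * (h ≫ i)⁻¹)) h0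
        rw [Groth.Agent.InvRing21.val_rTr, inv_mul_cancel_right, map_zero] at this
        exact hx₀ this) hb
      refine mul_left_cancel₀ hbb (Groth.Agent.InvRing21.ext_val fun z => ?_)
      have e1 := congrArg (Groth.Agent.InvRing21.val (z * (h ≫ i))) ha'
      have e2 := congrArg (Groth.Agent.InvRing21.val z) ha'
      simp only [map_mul, map_pow, Groth.Agent.InvRing21.val_rTr] at e1 e2 ⊢
      rw [hF z h, Pi.one_apply, _root_.one_mul] at e1
      linear_combination (Groth.Agent.InvRing21.val z b) * e1 - (Groth.Agent.InvRing21.val (z * (h ≫ i)) b) * e2 +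
        (Groth.Agent.InvRing21.val z F) ^ N * hab z h
    · rw [← Groth.Agent.InvRing21.semi_one_iff]
      intro x h
      rw [map_pow, map_pow, hF, Pi.one_apply, _root_.one_mul, _root_.one_mul]
  · intro hfr g hg
    obtain ⟨χ, P, c, p₀, hχ, hc, hc1, hline, hrel⟩ := Groth.Agent.InvRing21.exists_line (i := i)
    have hc0 : c p₀ ≠ 0 := fun h => by rw [h, map_zero] at hc1; exact zero_ne_one hc1
    have hprop : ∀ p (x : VecGrp.pt k k ⟶ G),
        Groth.Agent.InvRing21.val (x * g) (c p) * Groth.Agent.InvRing21.val x (c p₀) =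
          Groth.Agent.InvRing21.val x (c p) * Groth.Agent.InvRing21.val (x * g) (c p₀) := by
      intro p
      obtain ⟨a', b', ha', hb', hb0, hab⟩ := hfr (c p) (c p₀) hc0 ((hiff _ _).2 fun x h => by
        rw [hc p, hc p₀]; ring)
      have ka := (Groth.Agent.InvRing21.isRTransInv_pt_iff_val g _).1 (hg _ ha')
      have kb := (Groth.Agent.InvRing21.isRTransInv_pt_iff_val g _).1 (hg _ hb')
      have key : ((Groth.Agent.InvRing21.rTr g).left.appTop (c p) * c p₀ -
          c p * (Groth.Agent.InvRing21.rTr g).left.appTop (c p₀)) * b' = 0 := by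
        refine Groth.Agent.InvRing21.ext_val fun x => ?_
        have e1 := congrArg (Groth.Agent.InvRing21.val (x * g)) hab
        have e2 := congrArg (Groth.Agent.InvRing21.val x) hab
        simp only [map_mul, map_sub, map_zero, Groth.Agent.InvRing21.val_rTr, ka, kb] at e1 e2 ⊢
        linear_combination (Groth.Agent.InvRing21.val x (c p₀)) * e1 - (Groth.Agent.InvRing21.val (x * g) (c p₀)) * e2
      intro x
      have := congrArg (Groth.Agent.InvRing21.val x) ((mul_eq_zero.1 key).resolve_right hb0)
      simpa [sub_eq_zero, Groth.Agent.InvRing21.val_rTr] using this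
    have hg0 : (Groth.Agent.InvRing21.rTr g).left.appTop (c p₀) ≠ 0 := by
      intro h0
      obtain ⟨z, hz⟩ := Groth.Agent.InvRing21.exists_val_ne_zero hc0
      have := congrArg (Groth.Agent.InvRing21.val (z * g⁻¹)) h0
      rw [Groth.Agent.InvRing21.val_rTr, inv_mul_cancel_right, map_zero] at this
      exact hz this
    obtain ⟨x, hx⟩ := Groth.Agent.InvRing21.exists_val_ne_zero (mul_ne_zero hc0 hg0)
    rw [map_mul, Groth.Agent.InvRing21.val_rTr] at hx
    obtain ⟨hx1, hx2⟩ := mul_ne_zero_iff.1 hx
    have hl := hrel x g (Groth.Agent.InvRing21.val (x * g) (c p₀) / Groth.Agent.InvRing21.val x (c p₀)) fun p => by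
      field_simp
      linear_combination hprop p x
    have h0 := hl p₀
    rw [hc1, _root_.mul_one] at h0
    refine hline g (by rw [h0]; exact div_ne_zero hx2 hx1) fun p => ?_
    rw [hl p, h0, mul_comm]

end Groth.Agent.S11219
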