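import Groth.Statements.S11220
import Groth.Agent.Lib.InvRing21.Line
-- import your own Groth.Agent.* helpers here

set_option autoImplicit false
universe u
open CategoryTheory MonoidalCategory CartesianMonoidalCategory MonObj GrpObj AlgebraicGeometry
open scoped TensorProduct
open AGF

namespace Groth.Agent.S11220

/-- Let k be an algebraically closed field, G a linear algebraic group over k (an affine smooth group
scheme over k) and H a closed subgroup of G (a smooth closed subgroup scheme, i : H → G). Then H is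
observable in G if and only if, for every character χ of H which occurs on a nonzero
H-semi-invariant vector of some finite-dimensional rational G-module (h·v = χ(h)v), the inverse
character χ⁻¹ also occurs on a nonzero H-semi-invariant vector of some finite-dimensional rational
G-module (every one-dimensional H-module found inside a finite-dimensional G-module has its dual
inside one too). -/
theorem result (k : Type u) [Field k] [IsAlgClosed k]
    (G : Over (Spec (CommRingCat.of k))) [GrpObj G] [IsAffine G.left] [Smooth G.hom]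
    (H : Over (Spec (CommRingCat.of k))) [GrpObj H] [Smooth H.hom] (i : H ⟶ G) [IsMonHom i]
    [IsClosedImmersion i.left] :
    AGF.IsObservableIn k i ↔
      ∀ (χ : H ⟶ Red.Gm (Spec (CommRingCat.of k))), IsMonHom χ →
        (∃ (V : Type u) (_ : AddCommGroup V) (_ : Module k V) (_ : Module.Finite k V) (ρ : VecGrp.GMod G V) (v : V), v ≠ 0 ∧
          ∀ (B : Type u) [CommRing B] [Algebra k B] (h : VecGrp.pt k B ⟶ H),
            ρ.ρ B (h ≫ i) ((1 : B) ⊗ₜ[k] v) = VecGrp.chiVal χ h • ((1 : B) ⊗ₜ[k] v)) →
        (∃ (V : Type u) (_ : AddCommGroup V) (_ : Module k V) (_ : Module.Finite k V) (ρ : VecGrp.GMod G V) (v : V), v ≠ 0 ∧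
          ∀ (B : Type u) [CommRing B] [Algebra k B] (h : VecGrp.pt k B ⟶ H),
            ρ.ρ B (h ≫ i) ((1 : B) ⊗ₜ[k] v) = VecGrp.chiVal χ⁻¹ h • ((1 : B) ⊗ₜ[k] v)) := by
  haveI : IsAffine H.left := isAffine_of_isAffineHom i.left
  letI := Groth.Agent.InvRing21.gamAlg G
  letI := Groth.Agent.InvRing21.gamAlg H
  constructor
  · intro hobs χ hχ
    rintro ⟨V, _, _, _, ρ, v, hv, hc⟩
    haveI := hχ
    obtain ⟨f, hf, hf1⟩ := Groth.Agent.InvRing21.exists_semi_of_char_vector χ ρ v hv hc
    obtain ⟨d, hd, hd1⟩ := hf.exists_inv hobs (by rw [hf1]; exact one_ne_zero)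
    have hinv : ∀ h, (Groth.Agent.InvRing21.val h (Red.gmFn χ⁻¹) : k) = (Groth.Agent.InvRing21.val h (Red.gmFn χ))⁻¹ :=
      fun h => eq_inv_of_mul_eq_one_left (Groth.Agent.InvRing21.val_gmFn_inv χ h)
    obtain ⟨χ', hχ', hu⟩ := Groth.Agent.InvRing21.exists_char (Red.gmFn χ⁻¹)
      (by rw [hinv, Groth.Agent.InvRing21.val_gmFn_one, inv_one])
      fun g h => by rw [hinv, hinv, hinv, Groth.Agent.InvRing21.val_gmFn_mul, _root_.mul_inv]
    haveI : IsMonHom χ⁻¹ := GmPts.gmFn_injective hu ▸ hχ'
    exact Groth.Agent.InvRing21.exists_vector_of_semi χ⁻¹ (hd.congr fun h => (hinv h).symm)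
      fun h0 => hd1 (by rw [h0, map_zero])
  · intro hinv
    refine Groth.Agent.InvRing21.observable_of_inverse fun χ hχ f hf hf1 => ?_
    haveI := hχ
    obtain ⟨V, _, _, _, ρ, v, hv, hc⟩ := hinv χ hχ
      (Groth.Agent.InvRing21.exists_vector_of_semi χ hf fun h0 => by rw [h0, map_zero] at hf1; exact zero_ne_one hf1)
    obtain ⟨d, hd, hd1⟩ := Groth.Agent.InvRing21.exists_semi_of_char_vector χ⁻¹ ρ v hv hc
    exact ⟨d, hd.congr fun h => eq_inv_of_mul_eq_one_left (Groth.Agent.InvRing21.val_gmFn_inv χ h),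
      by rw [hd1]; exact one_ne_zero⟩

end Groth.Agent.S11220
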