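import Groth.Statements.S11221
-- import your own Groth.Agent.* helpers here

set_option autoImplicit false
universe u
open CategoryTheory MonoidalCategory CartesianMonoidalCategory MonObj GrpObj AlgebraicGeometry
open scoped TensorProduct
open AGF

namespace Groth.Agent.S11221

/-- Let R be a Noetherian integrally closed domain with fraction field K and let p be a prime ideal of R
of height one. Then there is f ∈ K which is not in R but lies in the local ring R_q ⊆ K of every
height-one prime q ≠ p (f = a/b with b ∉ q): a rational function on Spec R with a pole along V(p)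
only. (The published statement is for the coordinate ring of a normal affine variety; this row is
for any Noetherian integrally closed domain, which is all the argument uses.) -/
theorem result (R : Type u) [CommRing R] [IsDomain R] [IsNoetherianRing R] [IsIntegrallyClosed R]
    (p : Ideal R) [p.IsPrime] (hp : p.height = 1) :
    ∃ f : FractionRing R, f ∉ Set.range ⇑(algebraMap R (FractionRing R)) ∧
      ∀ q : Ideal R, q.IsPrime → q.height = 1 → q ≠ p →
        ∃ a b : R, b ∉ q ∧ f * algebraMap R (FractionRing R) b = algebraMap R (FractionRing R) a := by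
  classical
  have hp0 : p ≠ ⊥ := by
    rintro rfl
    rw [Ideal.height_bot] at hp
    exact zero_ne_one hp
  obtain ⟨a, hap, ha0⟩ := Submodule.exists_mem_ne_zero_of_ne_bot hp0
  set s := (Ideal.finite_minimalPrimes_of_isNoetherianRing R (Ideal.span {a})).toFinset with hs
  let t := s.erase p
  obtain ⟨n, hn⟩ := Ideal.exists_radical_pow_le_of_fg (Ideal.span {a}) (IsNoetherian.noetherian _)
  have hmin : ∀ q : Ideal R, q ∈ (Ideal.span {a}).minimalPrimes → ∀ r : Ideal R, r.IsPrime → a ∈ r → r ≤ q → r = q :=
    fun q hq r hr har hle => le_antisymm hle (hq.2 ⟨hr, by simpa [Ideal.span_le] using har⟩ hle)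
  have hpmin : p ∈ (Ideal.span {a}).minimalPrimes := by
    obtain ⟨q, hq, hqp⟩ := Ideal.exists_minimalPrimes_le
      (show Ideal.span {a} ≤ p by simpa [Ideal.span_le] using hap)
    rcases hqp.lt_or_eq with h | h
    · exfalso
      haveI := hq.1.1
      haveI : p.FiniteHeight := ⟨Or.inr (by rw [hp]; exact ENat.one_ne_top)⟩
      haveI : q.FiniteHeight := Ideal.finiteHeight_of_le h.le (Ideal.IsPrime.ne_top inferInstance)
      have h1 := Ideal.height_strict_mono_of_isPrime h
      rw [hp, Order.lt_one_iff] at h1
      have := Ideal.height_eq_zero_iff.mp h1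
      rw [IsDomain.minimalPrimes_eq_singleton_bot, Set.mem_singleton_iff] at this
      exact ha0 (by have h2 := hq.1.2 (Ideal.mem_span_singleton_self a); simpa [this] using h2)
    · exact h ▸ hq
  have hnot : ¬ (∏ q ∈ t, q) ≤ p := by
    intro h
    obtain ⟨q, hq, hqp⟩ := (Ideal.IsPrime.prod_le inferInstance).mp h
    rw [Finset.mem_erase, hs, Set.Finite.mem_toFinset] at hq
    haveI := hq.2.1.1
    exact hq.1 (hmin p hpmin q inferInstance (hq.2.1.2 (Ideal.mem_span_singleton_self a)) hqp)
  obtain ⟨c, hc, hcp⟩ := SetLike.not_le_iff_exists.mp hnot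
  have hdiv : ∀ d ∈ p, ∃ r, a * r = c ^ n * d ^ n := fun d hd => by
    have h1 : c * d ∈ (Ideal.span {a}).radical := by
      rw [← Ideal.sInf_minimalPrimes, Submodule.mem_sInf]
      intro q hq
      rcases eq_or_ne q p with rfl | hne
      · exact Ideal.mul_mem_left _ c hd
      · exact Ideal.mul_mem_right _ _ (Ideal.prod_le_inf.trans (Finset.inf_le (f := id)
          (Finset.mem_erase.mpr ⟨hne, (Set.Finite.mem_toFinset _).mpr hq⟩)) hc)
    have h2 := hn (Ideal.pow_mem_pow h1 n)
    rw [Ideal.mem_span_singleton, mul_pow] at h2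
    exact h2.imp fun r hr => hr.symm
  have haK : algebraMap R (FractionRing R) a ≠ 0 := by
    simpa using (IsFractionRing.injective R (FractionRing R)).ne ha0
  refine ⟨algebraMap R _ (c ^ n) / algebraMap R _ a, ?_, fun q hq hq1 hqp => ?_⟩
  · rintro ⟨r, hr⟩
    rw [eq_div_iff haK, ← map_mul] at hr
    have : c ^ n ∈ p := IsFractionRing.injective R (FractionRing R) hr ▸ Ideal.mul_mem_left _ r hap
    exact hcp (Ideal.IsPrime.mem_of_pow_mem inferInstance n this)
  · obtain ⟨d, hdp, hdq⟩ := SetLike.not_le_iff_exists.mp (fun h : p ≤ q => hqp (by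
      rcases h.lt_or_eq with h' | h'
      · haveI : p.FiniteHeight := ⟨Or.inr (by rw [hp]; exact ENat.one_ne_top)⟩
        have := Ideal.height_strict_mono_of_isPrime h'
        rw [hp, hq1] at this
        exact absurd this (lt_irrefl _)
      · exact h'.symm))
    obtain ⟨r, hr⟩ := hdiv d hdp
    refine ⟨r, d ^ n, fun h => hdq (hq.mem_of_pow_mem n h), ?_⟩
    rw [div_mul_eq_mul_div, div_eq_iff haK, ← map_mul, ← map_mul, ← hr, _root_.mul_comm a r]

end Groth.Agent.S11221
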