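import Groth.Statements.S11223
import Mathlib

set_option autoImplicit false
universe u
open CAlg

namespace Groth.Agent.S11223

open MvPolynomial

theorem comp_mul {k : Type u} [CommRing k] {σ : Type} (c z : MvPolynomial σ k) (d j : ℕ)
    (hz : z.IsHomogeneous d) :
    homogeneousComponent j (c * z) = if d ≤ j then homogeneousComponent (j - d) c * z else 0 := by
  conv_lhs => rw [← sum_homogeneousComponent c, Finset.sum_mul, map_sum]
  have : ∀ i, homogeneousComponent j (homogeneousComponent i c * z) =
      if j = i + d then homogeneousComponent i c * z else 0 := fun i =>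
    homogeneousComponent_of_mem ((homogeneousComponent_isHomogeneous i c).mul hz)
  simp only [this]
  split_ifs with h
  · rw [Finset.sum_eq_single (j - d)]
    · rw [if_pos (by omega)]
    · intro i _ hi; rw [if_neg (by omega)]
    · intro hi
      rw [homogeneousComponent_eq_zero (j - d) c (by simp at hi; omega)]; simp
  · exact Finset.sum_eq_zero fun i _ => if_neg (by omega)

/-- Let k be a field, let z_1, ..., z_m be homogeneous polynomials of positive degree in the polynomial
ring k[x_1, ..., x_n], and suppose the radical of the ideal (z_1, ..., z_m) is the ideal (x_1, ...,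
x_n) generated by the variables. Then the polynomial ring is integral over the subalgebra generated
by z_1, ..., z_m. (The published statement is over an algebraically closed field; this row takes any
field, which its proof allows.) -/
theorem result (k : Type u) [Field k] (n m : ℕ)
    (z : Fin m → MvPolynomial (Fin n) k) (d : Fin m → ℕ) (hd : ∀ i, 0 < d i)
    (hz : ∀ i, (z i).IsHomogeneous (d i))
    (hrad : (Ideal.span (Set.range z)).radical =
      Ideal.span (Set.range (MvPolynomial.X : Fin n → MvPolynomial (Fin n) k))) :
    Algebra.IsIntegral (Algebra.adjoin k (Set.range z)) (MvPolynomial (Fin n) k) := by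
  obtain ⟨N, hN⟩ := Ideal.exists_radical_pow_le_of_fg (Ideal.span (Set.range z))
    (IsNoetherian.noetherian _)
  rw [hrad] at hN
  set S := Algebra.adjoin k (Set.range z)
  let M : Submodule S (MvPolynomial (Fin n) k) :=
    Submodule.span S ((fun e => monomial e (1:k)) '' {e | e.degree < N})
  have hmonM : ∀ (e : Fin n →₀ ℕ) (a : k), e.degree < N → monomial e a ∈ M := by
    intro e a he
    have h := Submodule.smul_of_tower_mem M a (Submodule.subset_span ⟨e, he, rfl⟩ : monomial e (1:k) ∈ M)
    rwa [smul_monomial, smul_eq_mul, mul_one] at h
  have hall : ∀ j, ∀ q : MvPolynomial (Fin n) k, q.IsHomogeneous j → q ∈ M := by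
    intro j
    induction j using Nat.strong_induction_on with
    | _ j ih =>
      intro q hq
      by_cases hj : j < N
      · rw [q.as_sum]
        refine sum_mem fun e he => hmonM e _ ?_
        have h2 := hq (mem_support_iff.mp he)
        rw [Finsupp.degree_eq_weight_one]
        exact lt_of_eq_of_lt h2 hj
      · have hmem : q ∈ Ideal.span (Set.range z) := by
          refine hN ?_
          rw [q.as_sum]
          refine sum_mem fun e he => ?_
          have hdeg : e.degree = j := by rw [Finsupp.degree_eq_weight_one]; exact hq (mem_support_iff.mp he)
          refine Ideal.pow_le_pow_right (le_of_not_gt hj : N ≤ j) ?_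
          rw [monomial_eq, ← hdeg]
          refine Ideal.mul_mem_left _ _ ?_
          rw [Finsupp.degree_apply, ← Finset.prod_pow_eq_pow_sum, Finsupp.prod]
          exact Ideal.prod_mem_prod fun i _ => Ideal.pow_mem_pow (Ideal.subset_span (Set.mem_range_self i)) _
        obtain ⟨c, hc⟩ := Ideal.mem_span_range_iff_exists_fun.mp hmem
        rw [← homogeneousComponent_eq_self hq, ← hc, map_sum]
        refine sum_mem fun i _ => ?_
        rw [comp_mul _ _ _ _ (hz i)]
        split_ifs with h
        · have := M.smul_mem (⟨z i, Algebra.subset_adjoin (Set.mem_range_self i)⟩ : S)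
            (ih (j - d i) (by have := hd i; omega) _ (homogeneousComponent_isHomogeneous _ (c i)))
          rw [mul_comm]; exact this
        · exact zero_mem _
  have hfin : {e : Fin n →₀ ℕ | e.degree < N}.Finite := by
    refine Set.Finite.subset (Set.finite_Iic (Finsupp.equivFunOnFinite.symm fun _ => N)) fun e he i => ?_
    simp only [Finsupp.coe_equivFunOnFinite_symm]
    have h2 := Finsupp.le_degree i e
    have h3 : e.degree < N := he
    omega
  have : Module.Finite S (MvPolynomial (Fin n) k) := by
    refine ⟨?_⟩
    have htop : (⊤ : Submodule S (MvPolynomial (Fin n) k)) = M := by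
      refine le_antisymm (fun q _ => ?_) le_top
      rw [← sum_homogeneousComponent q]
      exact sum_mem fun i _ => hall i _ (homogeneousComponent_isHomogeneous i q)
    rw [htop]
    exact Submodule.fg_span (hfin.image _)
  exact Algebra.IsIntegral.of_finite _ _

end Groth.Agent.S11223
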