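import Groth.Statements.S11224
import Groth.Agent.Lib.UMod21.General
-- import your own Groth.Agent.* helpers here

set_option autoImplicit false
universe u
open CategoryTheory MonoidalCategory CartesianMonoidalCategory MonObj GrpObj AlgebraicGeometry
open scoped TensorProduct
open AGF

namespace Groth.Agent.S11224

/-- Let k be an algebraically closed field, G a linear algebraic group over k (affine, smooth) whose
identity component is reductive, B a Borel subgroup of G and U the unipotent radical of B (a maximal
unipotent subgroup of G). Assume that invariants of reductive groups over k on finitely generated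
algebras are finitely generated (a true result which the published text assumes without proof,
carried here as a hypothesis). Then a rational G-module V is finite-dimensional if and only if its
subspace of U-invariants V^U is finite-dimensional. -/
theorem result (k : Type u) [Field k] [IsAlgClosed k]
    (G : Over (Spec (CommRingCat.of k))) [GrpObj G] (hG : VecGrp.IsReductiveGrp k G)
    (Bo : Over (Spec (CommRingCat.of k))) [GrpObj Bo] (iB : Bo ⟶ G) (hB : Red.IsBorelOver k iB)
    (U : Over (Spec (CommRingCat.of k))) [GrpObj U] (u : U ⟶ Bo) (hU : Par.IsUnipotentRadical u)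
    (thmA : VecGrp.ReductiveInvariantsFG k)
    (V : Type u) [AddCommGroup V] [Module k V] (ρ : VecGrp.GMod G V) :
    Module.Finite k V ↔ Module.Finite k ↥(ρ.fixedUnder (u ≫ iB)) := by
  refine ⟨fun h => inferInstance, fun h => ?_⟩
  obtain ⟨G₀, _, j, l, hj, hG₀, hl₀, hl⟩ := UMod21.exists_component hG hB
  haveI := hj
  haveI := hG₀.1
  haveI := hG₀.2.1
  haveI := hG₀.2.2.1
  haveI := hG.1
  letI := InvRing21.gamAlg (k := k) G₀
  obtain ⟨F, hF⟩ := UMod21.exists_frame_fixed hG₀ hl₀ hU
  have hfix : ∀ {M : Type u} [AddCommGroup M] [Module k M] (τ : VecGrp.GMod G M),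
      (UInvFG21.resMod τ j).fixedUnder (u ≫ l) = τ.fixedUnder (u ≫ iB) := fun {M} _ _ τ => by
    refine Submodule.ext fun a => forall_congr' fun B => forall_congr' fun _ => forall_congr' fun _ =>
      forall_congr' fun h => ?_
    show τ.ρ B ((h ≫ u ≫ l) ≫ j) _ = _ ↔ τ.ρ B (h ≫ u ≫ iB) _ = _
    rw [Category.assoc, Category.assoc, hl]
  exact F.finite_of_fixed (σ := UInvFG21.resMod ρ j) (ρ.fixedUnder (u ≫ iB))
    fun a ha => hfix ρ ▸ (hF _ _ a).2 ha

end Groth.Agent.S11224
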