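import Groth.Statements.S11225
import Groth.Agent.Lib.UMod21.General
-- import your own Groth.Agent.* helpers here

set_option autoImplicit false
universe u
open CategoryTheory MonoidalCategory CartesianMonoidalCategory MonObj GrpObj AlgebraicGeometry
open scoped TensorProduct
open AGF

namespace Groth.Agent.S11225

/-- Let k an algebraically closed field, G a linear algebraic group over k (affine, smooth) whose
identity component is reductive, B a Borel subgroup of G with unipotent radical U (a maximal
unipotent subgroup). Assume finite generation of invariants of reductive groups over k on finitely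
generated algebras (a true result which the published text assumes without proof, carried here as a
hypothesis). Let A be a commutative k-algebra with a rational action of G by algebra automorphisms.
If the algebra of invariants A^U is finitely generated over k, then so is A. (The published
statement is the equivalence; its other direction, that A^U is finitely generated whenever A is, is
an earlier result of the same text and is stated separately, so this row states only the direction
from A^U to A.) -/
theorem result (k : Type u) [Field k] [IsAlgClosed k]
    (G : Over (Spec (CommRingCat.of k))) [GrpObj G] (hG : VecGrp.IsReductiveGrp k G)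
    (Bo : Over (Spec (CommRingCat.of k))) [GrpObj Bo] (iB : Bo ⟶ G) (hB : Red.IsBorelOver k iB)
    (U : Over (Spec (CommRingCat.of k))) [GrpObj U] (u : U ⟶ Bo) (hU : Par.IsUnipotentRadical u)
    (thmA : VecGrp.ReductiveInvariantsFG k)
    (A : Type u) [CommRing A] [Algebra k A] (ρ : VecGrp.GMod G A) (hρ : ρ.IsMult) :
    Algebra.FiniteType k ↥(ρ.fixedSubalgebra hρ (u ≫ iB)) → Algebra.FiniteType k A := by
  intro hFT
  obtain ⟨G₀, _, j, l, hj, hG₀, hl₀, hl⟩ := UMod21.exists_component hG hB
  haveI := hj
  haveI := hG₀.1
  haveI := hG₀.2.1
  haveI := hG₀.2.2.1
  haveI := hG.1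
  letI := InvRing21.gamAlg (k := k) G₀
  obtain ⟨F, hF⟩ := UMod21.exists_frame_fixed hG₀ hl₀ hU
  have hfix : ∀ {M : Type u} [AddCommGroup M] [Module k M] (τ : VecGrp.GMod G M),
      (UInvFG21.resMod τ j).fixedUnder (u ≫ l) = τ.fixedUnder (u ≫ iB) := fun {M} _ _ τ => by
    refine Submodule.ext fun a => forall_congr' fun B => forall_congr' fun _ => forall_congr' fun _ =>
      forall_congr' fun h => ?_
    show τ.ρ B ((h ≫ u ≫ l) ≫ j) _ = _ ↔ τ.ρ B (h ≫ u ≫ iB) _ = _
    rw [Category.assoc, Category.assoc, hl]
  have he : F.fixed (UInvFG21.resMod_isMult hρ j) = ρ.fixedSubalgebra hρ (u ≫ iB) := Subalgebra.ext fun a => by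
    rw [F.mem_fixed, ← hF, hfix]
    exact Iff.rfl
  exact F.finiteType_of_fixed (UInvFG21.resMod_isMult hρ j) (he ▸ (Subalgebra.fg_iff_finiteType _).2 hFT)

end Groth.Agent.S11225
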