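import Groth.Statements.S11227
import Groth.Agent.S11208
import Groth.Agent.Lib.GModExt21.Gens
import Groth.Agent.Lib.UMod21.General
-- import your own Groth.Agent.* helpers here

set_option autoImplicit false
universe u
open CategoryTheory MonoidalCategory CartesianMonoidalCategory MonObj GrpObj AlgebraicGeometry
open scoped TensorProduct
open AGF

namespace Groth.Agent.S11227

/-- Let k an algebraically closed field, G a linear algebraic group over k (affine, smooth) whose
identity component is reductive, B a Borel subgroup of G with unipotent radical U (a maximal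
unipotent subgroup). Assume finite generation of invariants of reductive groups over k on finitely
generated algebras (a true result which the published text assumes without proof, carried here as a
hypothesis). Let A be a finitely generated commutative k-algebra with a rational action of G by
algebra automorphisms and C a finitely generated subalgebra of A stable under G. Then integrality of
A over C is equivalent to integrality of A^U over C^U = C ∩ A^U, that is, every element of A^U is
integral over the subalgebra C ∩ A^U. -/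
theorem result (k : Type u) [Field k] [IsAlgClosed k]
    (G : Over (Spec (CommRingCat.of k))) [GrpObj G] (hG : VecGrp.IsReductiveGrp k G)
    (Bo : Over (Spec (CommRingCat.of k))) [GrpObj Bo] (iB : Bo ⟶ G) (hB : Red.IsBorelOver k iB)
    (U : Over (Spec (CommRingCat.of k))) [GrpObj U] (u : U ⟶ Bo) (hU : Par.IsUnipotentRadical u)
    (thmA : VecGrp.ReductiveInvariantsFG k)
    (A : Type u) [CommRing A] [Algebra k A] [Algebra.FiniteType k A] (ρ : VecGrp.GMod G A) (hρ : ρ.IsMult)
    (C : Subalgebra k A) (hCfg : C.FG) (hC : ρ.IsStable (𝟙 G) (Subalgebra.toSubmodule C)) :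
    Algebra.IsIntegral ↥C A ↔
      ∀ x ∈ ρ.fixedUnder (u ≫ iB), IsIntegral ↥(C ⊓ ρ.fixedSubalgebra hρ (u ≫ iB)) x := by
  classical
  haveI := hG.1
  haveI := hG.2.1
  have hfg : ∀ (R : Type u) [CommRing R] [Algebra k R] (σ : VecGrp.GMod G R), σ.IsMult → Algebra.FiniteType k R →
      VecGrp.AdjoinFG k (σ.fixedUnder (u ≫ iB) : Set R) := fun R _ _ σ hσ hR => by
    haveI := hR
    obtain ⟨t, ht⟩ := (Subalgebra.fg_iff_finiteType _).2 (S11208.result k G hG Bo iB hB U u hU thmA R σ hσ)
    exact ⟨t, fun a ha => (ht.le (Algebra.subset_adjoin ha) :), fun a ha => ht.ge ha⟩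
  have hpt : ∀ (g : VecGrp.pt k k ⟶ G), ∀ c ∈ C, InvRing21.ptAct ρ g c ∈ C := fun g c hc => by
    have h1 := hC k g c hc
    rw [Category.comp_id] at h1
    have h2 : ∀ z ∈ (Subalgebra.toSubmodule C).baseChange k, TensorProduct.lid k A z ∈ C := fun z hz => by
      obtain ⟨y, rfl⟩ := hz
      induction y using TensorProduct.induction_on with
      | zero => simp only [map_zero]; exact C.zero_mem
      | tmul b x =>
        rw [LinearMap.baseChange_tmul, TensorProduct.lid_tmul]
        exact C.smul_mem x.2 b
      | add p q hp hq => simp only [map_add]; exact C.add_mem hp hq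
    exact h2 _ h1
  constructor
  · intro hint x hx
    haveI : Algebra.FiniteType k C := (Subalgebra.fg_iff_finiteType _).1 hCfg
    haveI : Algebra.FiniteType C A := Algebra.FiniteType.of_restrictScalars_finiteType k C A
    haveI : Module.Finite C A := Algebra.IsIntegral.finite
    obtain ⟨σ', hσ'⟩ := GrassAct21.exists_subMod ρ (Subalgebra.toSubmodule C) hpt
    let σ : VecGrp.GMod G C := σ'
    let ι' : ∀ (B : Type u) [CommRing B] [Algebra k B], B ⊗[k] C →ₐ[B] B ⊗[k] A := fun B _ _ =>
      Algebra.TensorProduct.map (AlgHom.id B B) C.val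
    have hι : ∀ (B : Type u) [CommRing B] [Algebra k B] (z : B ⊗[k] C),
        ι' B z = (Subalgebra.toSubmodule C).subtype.baseChange B z := fun B _ _ z => by
      induction z using TensorProduct.induction_on with
      | zero => exact (map_zero _).trans (map_zero _).symm
      | tmul b f => rfl
      | add p q hp hq => rw [map_add, hp, hq]; exact (map_add _ _ _).symm
    have hc' : ∀ (B : Type u) [CommRing B] [Algebra k B] (g : VecGrp.pt k B ⟶ G) (z : B ⊗[k] C),
        ι' B (σ.ρ B g z) = ρ.ρ B g (ι' B z) := fun B _ _ g z => by rw [hι, hι]; exact hσ' B g z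
    have hσ : σ.IsMult := fun B _ _ g => by
      have hinj : Function.Injective (ι' B) := fun a b hab => by
        rw [hι, hι] at hab
        exact Module.Flat.lTensor_preserves_injective_linearMap (M := B) _
          (Subalgebra.toSubmodule C).injective_subtype hab
      exact ⟨fun p q => hinj (by rw [hc', map_mul (ι' B), (hρ B g).1, map_mul (ι' B), hc', hc']),
        hinj (by rw [hc', map_one (ι' B), (hρ B g).2])⟩
    have hsw : ∀ (B : Type u) [CommRing B] [Algebra k B] (p : B ⊗[k] C) (q : B ⊗[k] A),
        VecGrp.GMod.smulW k C A B p q = ι' B p * q := fun B _ _ p q => by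
      induction p using TensorProduct.induction_on with
      | zero => simp only [map_zero, LinearMap.zero_apply, MulZeroClass.zero_mul]
      | tmul b c =>
        induction q using TensorProduct.induction_on with
        | zero => simp only [map_zero, MulZeroClass.mul_zero]
        | tmul b' a =>
          simp only [VecGrp.GMod.smulW, TensorProduct.map₂_apply_tmul, ι', Algebra.TensorProduct.map_tmul,
            Algebra.TensorProduct.tmul_mul_tmul]
          rfl
        | add p q hp hq => simp only [map_add, mul_add, hp, hq]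
      | add p q hp hq => simp only [map_add, LinearMap.add_apply, add_mul, hp, hq]
    have hcompat : VecGrp.GMod.IsCompat σ ρ := fun B _ _ g p q => by
      rw [hsw, hsw, (hρ B g).1, hc']
    obtain ⟨s, hs, hsgen⟩ := GModExt21.exists_gens hfg σ hσ ρ hcompat
    let P : Subalgebra ↥(C ⊓ ρ.fixedSubalgebra hρ (u ≫ iB)) A :=
      { (ρ.fixedSubalgebra hρ (u ≫ iB)).toSubsemiring with algebraMap_mem' := fun d => d.2.2 }
    refine IsIntegral.of_mem_of_fg P ⟨s, le_antisymm (Submodule.span_le.2 hs) fun a ha => ?_⟩ x hx
    have ha' := hsgen ha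
    rw [Submodule.restrictScalars_mem] at ha'
    clear ha hx
    induction ha' using Submodule.span_induction with
    | mem m hm => exact Submodule.subset_span hm
    | zero => exact Submodule.zero_mem _
    | add p q _ _ hp hq => exact Submodule.add_mem _ hp hq
    | smul c p _ hp =>
      refine Submodule.smul_mem _ (⟨c.1.1, c.1.2, fun B _ _ h => ?_⟩ : ↥(C ⊓ ρ.fixedSubalgebra hρ (u ≫ iB))) hp
      have := congrArg (ι' B) (c.2 B h)
      rw [hc'] at this
      exact this
  intro hU'
  obtain ⟨G₀, _, j, l, hj, hG₀, hl₀, hl⟩ := UMod21.exists_component hG hB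
  haveI := hj
  haveI := hG₀.1
  haveI := hG₀.2.1
  haveI := hG₀.2.2.1
  letI := InvRing21.gamAlg (k := k) G₀
  obtain ⟨F, hF⟩ := UMod21.exists_frame_fixed hG₀ hl₀ hU
  have hfix : ∀ {M : Type u} [AddCommGroup M] [Module k M] (τ : VecGrp.GMod G M),
      (UInvFG21.resMod τ j).fixedUnder (u ≫ l) = τ.fixedUnder (u ≫ iB) := fun {M} _ _ τ => by
    refine Submodule.ext fun a => forall_congr' fun B => forall_congr' fun _ => forall_congr' fun _ =>
      forall_congr' fun h => ?_
    show τ.ρ B ((h ≫ u ≫ l) ≫ j) _ = _ ↔ τ.ρ B (h ≫ u ≫ iB) _ = _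
    rw [Category.assoc, Category.assoc, hl]
  have hfg₀ : ∀ (A' : Type u) [CommRing A'] [Algebra k A'] [Algebra.FiniteType k A'] (σ : VecGrp.GMod G₀ A')
      (hσ : σ.IsMult), (F.fixed hσ).FG := fun A' _ _ _ σ hσ => by
    haveI : IsOpenImmersion (𝟙 G₀ : G₀ ⟶ G₀).left := inferInstanceAs (IsOpenImmersion (𝟙 G₀.left))
    have h1 := S11208.result k G₀ ⟨hG₀.1, hG₀.2.1, G₀, inferInstance, 𝟙 G₀, inferInstance, inferInstance, hG₀⟩
      Bo l hl₀ U u hU thmA A' σ hσ
    rw [show F.fixed hσ = σ.fixedSubalgebra hσ (u ≫ l) from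
      Subalgebra.ext fun a => (F.mem_fixed hσ).trans (hF _ σ a).symm]
    exact (Subalgebra.fg_iff_finiteType _).2 h1
  refine ⟨fun v => isIntegral_trans (A := integralClosure C A) v ?_⟩
  refine F.isIntegral_of_fixed_le (UInvFG21.resMod_isMult hρ j) hfg₀
    ((integralClosure C A).restrictScalars k) (fun g c hc => ?_) (fun a ha => ?_) v
  · let φ : C →+* C := ((UInvFG21.ptAlg hρ (g ≫ j)).toRingHom.comp C.val.toRingHom).codRestrict C
      fun c => hpt (g ≫ j) c.1 c.2
    obtain ⟨p, hp, hp0⟩ := (hc : IsIntegral C c)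
    refine ⟨p.map φ, hp.map φ, ?_⟩
    have h1 := congrArg (UInvFG21.ptAlg hρ (g ≫ j)).toRingHom hp0
    rw [Polynomial.hom_eval₂, map_zero] at h1
    rw [Polynomial.eval₂_map]
    exact h1
  · have ha' : a ∈ ρ.fixedUnder (u ≫ iB) := by
      rw [← hfix ρ]
      exact (hF _ _ a).2 ((F.mem_fixed _).1 ha)
    obtain ⟨p, hp, hp0⟩ := hU' a ha'
    let φ : ↥(C ⊓ ρ.fixedSubalgebra hρ (u ≫ iB)) →+* C :=
      (Subalgebra.inclusion (inf_le_left : C ⊓ ρ.fixedSubalgebra hρ (u ≫ iB) ≤ C)).toRingHom
    exact ⟨p.map φ, hp.map φ, by rw [Polynomial.eval₂_map]; exact hp0⟩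

end Groth.Agent.S11227
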