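import Groth.Statements.S11228
import Groth.Agent.Lib.UMod21.General
-- import your own Groth.Agent.* helpers here

set_option autoImplicit false
universe u
open CategoryTheory MonoidalCategory CartesianMonoidalCategory MonObj GrpObj AlgebraicGeometry
open scoped TensorProduct
open AGF

namespace Groth.Agent.S11228

/-- Let k an algebraically closed field, G a linear algebraic group over k (affine, smooth) whose
identity component is reductive, B a Borel subgroup of G with unipotent radical U (a maximal
unipotent subgroup). Assume finite generation of invariants of reductive groups over k on finitely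
generated algebras (a true result which the published text assumes without proof, carried here as a
hypothesis). Let A be a commutative k-algebra with a rational action of G by algebra automorphisms
and let G·A^U be the intersection of all G-stable subalgebras of A containing the invariants A^U.
Then A is integral over G·A^U. -/
theorem result (k : Type u) [Field k] [IsAlgClosed k]
    (G : Over (Spec (CommRingCat.of k))) [GrpObj G] (hG : VecGrp.IsReductiveGrp k G)
    (Bo : Over (Spec (CommRingCat.of k))) [GrpObj Bo] (iB : Bo ⟶ G) (hB : Red.IsBorelOver k iB)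
    (U : Over (Spec (CommRingCat.of k))) [GrpObj U] (u : U ⟶ Bo) (hU : Par.IsUnipotentRadical u)
    (thmA : VecGrp.ReductiveInvariantsFG k)
    (A : Type u) [CommRing A] [Algebra k A] (ρ : VecGrp.GMod G A) (hρ : ρ.IsMult) :
    Algebra.IsIntegral
      ↥(sInf {S : Subalgebra k A | ρ.fixedUnder (u ≫ iB) ≤ Subalgebra.toSubmodule S ∧
        ρ.IsStable (𝟙 G) (Subalgebra.toSubmodule S)}) A := by
  obtain ⟨G₀, _, j, l, hj, hG₀, hl₀, hl⟩ := UMod21.exists_component hG hB
  haveI := hj
  haveI := hG₀.1
  haveI := hG₀.2.1
  haveI := hG₀.2.2.1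
  haveI := hG.1
  letI := InvRing21.gamAlg (k := k) G₀
  obtain ⟨F, hF⟩ := UMod21.exists_frame_fixed hG₀ hl₀ hU
  have hfix : ∀ {M : Type u} [AddCommGroup M] [Module k M] (τ : VecGrp.GMod G M),
      (UInvFG21.resMod τ j).fixedUnder (u ≫ l) = τ.fixedUnder (u ≫ iB) := fun {M} _ _ τ => by
    refine Submodule.ext fun a => forall_congr' fun B => forall_congr' fun _ => forall_congr' fun _ =>
      forall_congr' fun h => ?_
    show τ.ρ B ((h ≫ u ≫ l) ≫ j) _ = _ ↔ τ.ρ B (h ≫ u ≫ iB) _ = _
    rw [Category.assoc, Category.assoc, hl]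
  have hfg : ∀ (A' : Type u) [CommRing A'] [Algebra k A'] [Algebra.FiniteType k A'] (σ : VecGrp.GMod G₀ A')
      (hσ : σ.IsMult), (F.fixed hσ).FG := fun A' _ _ _ σ hσ => by
    haveI := hl₀.1
    haveI := hl₀.2.1
    haveI : IsAffine Bo.left := isAffine_of_isAffineHom l.left
    obtain ⟨hum, huc, -, hus, -, -, -, -⟩ := (TorPts21.isUnipotentRadical_iff u).1 hU
    haveI := hum
    haveI := huc
    haveI := hus
    haveI : IsClosedImmersion (u ≫ l).left := by rw [Over.comp_left]; infer_instance
    haveI : IsAffine U.left := isAffine_of_isAffineHom (u ≫ l).left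
    haveI : IsOpenImmersion (𝟙 G₀ : G₀ ⟶ G₀).left := inferInstanceAs (IsOpenImmersion (𝟙 G₀.left))
    have h1 := UInvFG21.finiteType_fixed_of_fg_invSub (u ≫ l) (UInvFG21.fg_invSub hl₀ hU)
      ⟨hG₀.1, hG₀.2.1, G₀, inferInstance, 𝟙 G₀, inferInstance, inferInstance, hG₀⟩ thmA σ hσ
    rw [show F.fixed hσ = σ.fixedSubalgebra hσ (u ≫ l) from
      Subalgebra.ext fun a => (F.mem_fixed hσ).trans (hF _ σ a).symm]
    exact (Subalgebra.fg_iff_finiteType _).2 h1
  refine ⟨fun v => F.isIntegral_of_fixed_le (UInvFG21.resMod_isMult hρ j) hfg _ (fun g c hc => ?_) (fun a ha => ?_) v⟩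
  · refine Algebra.mem_sInf.2 fun S hS => ?_
    have h1 := hS.2 k (g ≫ j) c ((Algebra.mem_sInf.1 hc) S hS)
    rw [Category.comp_id] at h1
    have h2 : ∀ z ∈ (Subalgebra.toSubmodule S).baseChange k, TensorProduct.lid k A z ∈ S := fun z hz => by
      obtain ⟨y, rfl⟩ := hz
      induction y using TensorProduct.induction_on with
      | zero => simp only [map_zero]; exact S.zero_mem
      | tmul b x =>
        rw [LinearMap.baseChange_tmul, TensorProduct.lid_tmul]
        exact S.smul_mem x.2 b
      | add p q hp hq => simp only [map_add]; exact S.add_mem hp hq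
    exact h2 _ h1
  · refine Algebra.mem_sInf.2 fun S hS => hS.1 ?_
    rw [← hfix ρ]
    exact (hF _ _ a).2 ((F.mem_fixed _).1 ha)

end Groth.Agent.S11228
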