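import Groth.Statements.S11229
import Groth.Agent.Lib.UMod21.ZeroDiv
-- import your own Groth.Agent.* helpers here

set_option autoImplicit false
universe u
open CategoryTheory MonoidalCategory CartesianMonoidalCategory MonObj GrpObj AlgebraicGeometry
open scoped TensorProduct
open AGF

namespace Groth.Agent.S11229

/-- Let k an algebraically closed field, G a connected reductive linear algebraic group over k, B a
Borel subgroup of G with unipotent radical U (a maximal unipotent subgroup), and let A be a
commutative k-algebra with a rational action of G by algebra automorphisms. Then A has a nonzero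
nilpotent element if and only if A^U does; equivalently A is reduced if and only if A^U is reduced. -/
theorem result (k : Type u) [Field k] [IsAlgClosed k]
    (G : Over (Spec (CommRingCat.of k))) [GrpObj G] (hG : Red.IsReductiveOver k G)
    (Bo : Over (Spec (CommRingCat.of k))) [GrpObj Bo] (iB : Bo ⟶ G) (hB : Red.IsBorelOver k iB)
    (U : Over (Spec (CommRingCat.of k))) [GrpObj U] (u : U ⟶ Bo) (hU : Par.IsUnipotentRadical u)
    (A : Type u) [CommRing A] [Algebra k A] (ρ : VecGrp.GMod G A) (hρ : ρ.IsMult) :
    IsReduced A ↔ IsReduced ↥(ρ.fixedSubalgebra hρ (u ≫ iB)) := by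
  haveI := hG.1
  haveI := hG.2.1
  haveI := hG.2.2.1
  haveI := hB.1
  haveI := hB.2.1
  haveI : IsAffine Bo.left := isAffine_of_isAffineHom iB.left
  obtain ⟨hum, huc, -, hus, -, hun, huns, -⟩ := (TorPts21.isUnipotentRadical_iff u).1 hU
  haveI := hum
  haveI := huc
  haveI := hus
  haveI := hun
  haveI : IsAffine U.left := isAffine_of_isAffineHom u.left
  refine ⟨fun h => isReduced_of_injective (ρ.fixedSubalgebra hρ (u ≫ iB)).val Subtype.val_injective, fun h => ?_⟩
  by_contra hne
  obtain ⟨v, hvf, hv0, hv⟩ := UMod21.exists_fixed_nilpotent (u ≫ iB) hρ huns hne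
  exact hv0 (congrArg Subtype.val (IsNilpotent.eq_zero
    ((IsNilpotent.map_iff (f := (ρ.fixedSubalgebra hρ (u ≫ iB)).val) Subtype.val_injective).1 hv :
      IsNilpotent (⟨v, hvf⟩ : ↥(ρ.fixedSubalgebra hρ (u ≫ iB))))))

end Groth.Agent.S11229
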