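import Groth.Statements.S11230
import Groth.Agent.Lib.UMod21.ZeroDiv
-- import your own Groth.Agent.* helpers here

set_option autoImplicit false
universe u
open CategoryTheory MonoidalCategory CartesianMonoidalCategory MonObj GrpObj AlgebraicGeometry
open scoped TensorProduct
open AGF

namespace Groth.Agent.S11230

/-- Let k an algebraically closed field, G a connected reductive linear algebraic group over k, B a
Borel subgroup of G with unipotent radical U (a maximal unipotent subgroup), and let A be a
commutative k-algebra with a rational action of G by algebra automorphisms. Then A has zero divisors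
(two nonzero elements with product zero) if and only if the algebra of invariants A^U does. -/
theorem result (k : Type u) [Field k] [IsAlgClosed k]
    (G : Over (Spec (CommRingCat.of k))) [GrpObj G] (hG : Red.IsReductiveOver k G)
    (Bo : Over (Spec (CommRingCat.of k))) [GrpObj Bo] (iB : Bo ⟶ G) (hB : Red.IsBorelOver k iB)
    (U : Over (Spec (CommRingCat.of k))) [GrpObj U] (u : U ⟶ Bo) (hU : Par.IsUnipotentRadical u)
    (A : Type u) [CommRing A] [Algebra k A] (ρ : VecGrp.GMod G A) (hρ : ρ.IsMult) :
    (∃ a b : A, a ≠ 0 ∧ b ≠ 0 ∧ a * b = 0) ↔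
      ∃ a b : ↥(ρ.fixedSubalgebra hρ (u ≫ iB)), a ≠ 0 ∧ b ≠ 0 ∧ a * b = 0 := by
  haveI := hG.1
  haveI := hG.2.1
  haveI := hG.2.2.1
  haveI := hB.1
  haveI := hB.2.1
  haveI : IsAffine Bo.left := isAffine_of_isAffineHom iB.left
  obtain ⟨hum, huc, -, hus, -, hun, huns, -⟩ := (TorPts21.isUnipotentRadical_iff u).1 hU
  haveI := hum
  haveI := huc
  haveI := hus
  haveI := hun
  haveI : IsAffine U.left := isAffine_of_isAffineHom u.left
  refine ⟨fun ⟨a, b, ha, hb, hab⟩ => ?_, fun ⟨a, b, ha, hb, hab⟩ => ⟨a.1, b.1, fun e => ha (Subtype.ext e),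
    fun e => hb (Subtype.ext e), congrArg Subtype.val hab⟩⟩
  obtain ⟨v, hv, w, hw, hv0, hw0, hvw⟩ := UMod21.exists_fixed_zeroDivisor (u ≫ iB) hρ huns ha hb hab
  exact ⟨⟨v, hv⟩, ⟨w, hw⟩, fun e => hv0 (congrArg Subtype.val e), fun e => hw0 (congrArg Subtype.val e),
    Subtype.ext hvw⟩

end Groth.Agent.S11230
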