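import Groth.Statements.S11231
import Groth.Agent.Lib.InvRing21.Saturated
-- import your own Groth.Agent.* helpers here

set_option autoImplicit false
universe u
open CategoryTheory MonoidalCategory CartesianMonoidalCategory MonObj GrpObj AlgebraicGeometry
open scoped TensorProduct
open AGF

namespace Groth.Agent.S11231

/-- Let k an algebraically closed field, G a connected reductive linear algebraic group over k, B a
Borel subgroup of G with unipotent radical U (a maximal unipotent subgroup), and let A be a
commutative k-algebra with a rational action of G by algebra automorphisms. If A is an integrally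
closed domain then so is A^U. (The published statement is for A normal; its proof reduces to the
case of a domain, which is the case stated here.) -/
theorem result (k : Type u) [Field k] [IsAlgClosed k]
    (G : Over (Spec (CommRingCat.of k))) [GrpObj G] (hG : Red.IsReductiveOver k G)
    (Bo : Over (Spec (CommRingCat.of k))) [GrpObj Bo] (iB : Bo ⟶ G) (hB : Red.IsBorelOver k iB)
    (U : Over (Spec (CommRingCat.of k))) [GrpObj U] (u : U ⟶ Bo) (hU : Par.IsUnipotentRadical u)
    (A : Type u) [CommRing A] [IsDomain A] [Algebra k A] [IsIntegrallyClosed A]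
    (ρ : VecGrp.GMod G A) (hρ : ρ.IsMult) :
    IsIntegrallyClosed ↥(ρ.fixedSubalgebra hρ (u ≫ iB)) := by
  refine Groth.Agent.InvRing21.isIntegrallyClosed_of_saturated (A := A)
    (ρ.fixedSubalgebra hρ (u ≫ iB)).val.toRingHom Subtype.val_injective ?_
  intro y b hb hab
  obtain ⟨a, hab⟩ := hab
  refine ⟨⟨y, fun B _ _ h => ?_⟩, rfl⟩
  have hb' : Function.Injective fun z : VecGrp.W k A B => ((1 : B) ⊗ₜ[k] (b : A)) * z := by
    have he : ∀ z : VecGrp.W k A B, ((1 : B) ⊗ₜ[k] (b : A)) * z = LinearMap.lTensor B (LinearMap.mulLeft k (b : A)) z := by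
      intro z
      induction z using TensorProduct.induction_on with
      | zero => simp
      | tmul c r => simp
      | add x y hx hy => rw [map_add, mul_add, hx, hy]
    simp only [he]
    exact Module.Flat.lTensor_preserves_injective_linearMap _
      (mul_right_injective₀ fun h0 => hb (Subtype.ext h0))
  refine hb' ?_
  have e : ((1 : B) ⊗ₜ[k] ((a : A)) : VecGrp.W k A B) = ((1 : B) ⊗ₜ[k] (b : A)) * ((1 : B) ⊗ₜ[k] y) := by
    rw [Algebra.TensorProduct.tmul_mul_tmul, _root_.one_mul, _root_.mul_comm (b : A) y]
    exact congrArg _ hab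
  show ((1 : B) ⊗ₜ[k] (b : A)) * ρ.ρ B (h ≫ u ≫ iB) ((1 : B) ⊗ₜ[k] y) = ((1 : B) ⊗ₜ[k] (b : A)) * ((1 : B) ⊗ₜ[k] y)
  conv_lhs => rw [← b.2 B h, ← (hρ B (h ≫ u ≫ iB)).1, ← e, a.2 B h]
  exact e

end Groth.Agent.S11231
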