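import Groth.Statements.S11232
import Groth.Agent.Lib.UMod21.Fixed
import Mathlib.RingTheory.UniqueFactorizationDomain.Basic
-- import your own Groth.Agent.* helpers here

set_option autoImplicit false
universe u
open CategoryTheory MonoidalCategory CartesianMonoidalCategory MonObj GrpObj AlgebraicGeometry
open scoped TensorProduct
open AGF

namespace Groth.Agent.S11232

/-- Let k be an algebraically closed field, G a connected linear algebraic group over k (affine, smooth,
connected) admitting no nontrivial character (every homomorphism to the multiplicative group is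
trivial), and A a commutative k-algebra which is a unique factorization domain whose group of units
consists of the nonzero scalars, carrying a rational action of G by algebra automorphisms. Then the
algebra of invariants A^G is a unique factorization domain. -/
theorem result (k : Type u) [Field k] [IsAlgClosed k]
    (G : Over (Spec (CommRingCat.of k))) [GrpObj G] [IsAffine G.left] [Smooth G.hom] [ConnectedSpace G.left]
    (hχ : ∀ χ : G ⟶ Red.Gm (Spec (CommRingCat.of k)), IsMonHom χ → χ = 1)
    (A : Type u) [CommRing A] [IsDomain A] [Algebra k A] [UniqueFactorizationMonoid A]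
    (hunits : ∀ x : Aˣ, (x : A) ∈ Set.range (algebraMap k A))
    (ρ : VecGrp.GMod G A) (hρ : ρ.IsMult) :
    UniqueFactorizationMonoid ↥(ρ.fixedSubalgebra hρ (𝟙 G)) := by
  classical
  letI := InvRing21.gamAlg (k := k) G
  letI := BorelFix21.ptsTop (k := k) (G := G)
  haveI := BorelFix21.preconnectedSpace_pts (G := G)
  set S := ρ.fixedSubalgebra hρ (𝟙 G) with hSdef
  have hS : ∀ a, a ∈ S ↔ ∀ g : VecGrp.pt k k ⟶ G, InvRing21.ptAct ρ g a = a := fun a =>
    ⟨fun h g => by
      have := UInvFG21.ptAct_eq_of_fixed (H := G) (i := 𝟙 G) ρ h g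
      rwa [Category.comp_id] at this,
    fun h => UInvFG21.mem_fixedUnder_of_points (i := 𝟙 G) ρ fun g => by rw [Category.comp_id]; exact h g⟩
  have hinv : ∀ (g : VecGrp.pt k k ⟶ G) (a : A), InvRing21.ptAct ρ g⁻¹ (InvRing21.ptAct ρ g a) = a := fun g a => by
    rw [← UInvFG21.ptAct_mul, inv_mul_cancel, UInvFG21.ptAct_one]
  let e : (VecGrp.pt k k ⟶ G) → A ≃* A := fun g =>
    { toFun := InvRing21.ptAct ρ g
      invFun := InvRing21.ptAct ρ g⁻¹
      left_inv := hinv g
      right_inv := fun a => by
        have := hinv g⁻¹ a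
        rwa [_root_.inv_inv] at this
      map_mul' := map_mul (UInvFG21.ptAlg hρ g) }
  have hline : ∀ q x : A, IsClosed {g : VecGrp.pt k k ⟶ G | InvRing21.ptAct ρ g x ∈ Submodule.span k {q}} := by
    intro q x
    have : {g : VecGrp.pt k k ⟶ G | InvRing21.ptAct ρ g x ∈ Submodule.span k {q}} =
        ⋂ ξ ∈ (Submodule.span k {q}).dualAnnihilator, {g | InvRing21.val g (InvRing21.coef ρ ξ x) = 0} := by
      ext g
      simp only [Set.mem_iInter, Set.mem_setOf_eq, UMod21.val_coef]
      exact (Subspace.forall_mem_dualAnnihilator_apply_eq_zero_iff _ _).symm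
    rw [this]
    exact isClosed_iInter fun ξ => isClosed_iInter fun _ => BorelFix21.isClosed_val_eq _ _
  have hassoc : ∀ x y : A, Associated x y → x ∈ Submodule.span k {y} := fun x y ⟨v, hv⟩ => by
    obtain ⟨c, hc⟩ := hunits v⁻¹
    refine Submodule.mem_span_singleton.2 ⟨c, ?_⟩
    rw [Algebra.smul_def, hc, ← hv, _root_.mul_comm, _root_.mul_assoc, Units.mul_inv, _root_.mul_one]
  have hfactor : ∀ f ∈ S, f ≠ 0 → ∀ p, Irreducible p → p ∣ f → p ∈ S := by
    intro f hf hf0 p hp hpf
    let K : A → Set (VecGrp.pt k k ⟶ G) := fun q => {g | InvRing21.ptAct ρ g p ∈ Submodule.span k {q}}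
    have hK : K p = Set.univ := by
      let T := (UniqueFactorizationMonoid.factors f).toFinset.filter fun q => q ∉ Submodule.span k {p}
      have hcompl : (K p)ᶜ = ⋃ q ∈ T, K q := by
        ext g
        simp only [Set.mem_compl_iff, Set.mem_iUnion, K, Set.mem_setOf_eq, exists_prop, T, Finset.mem_filter,
          Multiset.mem_toFinset]
        constructor
        · intro h
          have hd : InvRing21.ptAct ρ g p ∣ f := by
            rw [← (hS f).1 hf g]
            exact map_dvd (UInvFG21.ptAlg hρ g) hpf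
          obtain ⟨q, hq, hpq⟩ := UniqueFactorizationMonoid.exists_mem_factors_of_dvd hf0
            ((MulEquiv.irreducible_iff (e g)).2 hp) hd
          refine ⟨q, ⟨hq, fun hqp => h ?_⟩, hassoc _ _ hpq⟩
          obtain ⟨c, hc⟩ := Submodule.mem_span_singleton.1 (hassoc _ _ hpq)
          show e g p ∈ _
          rw [← hc]
          exact Submodule.smul_mem _ c hqp
        · rintro ⟨q, ⟨-, hqp⟩, hgq⟩ hgp
          obtain ⟨c, hc⟩ := Submodule.mem_span_singleton.1 hgq
          have hne : InvRing21.ptAct ρ g p ≠ 0 := ((MulEquiv.irreducible_iff (e g)).2 hp).ne_zero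
          have hc0 : c ≠ 0 := fun h0 => hne (by rw [← hc, h0, zero_smul])
          refine hqp ?_
          rw [← inv_smul_smul₀ hc0 q, hc]
          exact Submodule.smul_mem _ _ hgp
      have hcl : IsClopen (K p) := ⟨hline _ _, isClosed_compl_iff.1 (by
        rw [hcompl]
        exact T.finite_toSet.isClosed_biUnion fun q _ => hline _ _)⟩
      refine (isClopen_iff.1 hcl).resolve_left fun h => ?_
      have h1 : (1 : VecGrp.pt k k ⟶ G) ∈ K p := by
        simp only [K, Set.mem_setOf_eq]
        rw [UInvFG21.ptAct_one]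
        exact Submodule.mem_span_singleton_self p
      rw [h] at h1
      exact h1
    obtain ⟨ξ, hξ⟩ : ∃ ξ : Module.Dual k A, ξ p = 1 := by
      obtain ⟨ξ, hξ⟩ : ∃ ξ : Module.Dual k A, ξ p ≠ 0 := by
        by_contra! h
        exact hp.ne_zero ((Module.forall_dual_apply_eq_zero_iff k p).1 h)
      exact ⟨(ξ p)⁻¹ • ξ, by rw [LinearMap.smul_apply, smul_eq_mul, inv_mul_cancel₀ hξ]⟩
    set F := InvRing21.coef ρ ξ p
    have hF : ∀ g : VecGrp.pt k k ⟶ G, InvRing21.ptAct ρ g p = InvRing21.val g F • p := fun g => by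
      obtain ⟨c, hc⟩ := Submodule.mem_span_singleton.1 (show InvRing21.ptAct ρ g p ∈ Submodule.span k {p} from
        (hK.symm ▸ Set.mem_univ g : g ∈ K p))
      have h1 : InvRing21.val g F = c := by rw [UMod21.val_coef, ← hc, map_smul, hξ, smul_eq_mul, _root_.mul_one]
      rw [h1, hc]
    obtain ⟨χ, hχm, hχu⟩ := InvRing21.exists_char F (by rw [UMod21.val_coef, UInvFG21.ptAct_one, hξ]) fun g g' => by
      rw [UMod21.val_coef, UInvFG21.ptAct_mul, hF g', ← UMod21.actLin_apply, map_smul, UMod21.actLin_apply, map_smul,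
        ← UMod21.val_coef, smul_eq_mul, _root_.mul_comm]
    refine (hS p).2 fun g => ?_
    rw [hF, ← hχu, hχ χ hχm, GmPts.gmFn_one, map_one, one_smul]
  refine UniqueFactorizationMonoid.of_exists_prime_factors fun a ha => ?_
  have ha0 : (a : A) ≠ 0 := fun h => ha (Subtype.ext h)
  have hmem : ∀ q ∈ UniqueFactorizationMonoid.factors (a : A), q ∈ S := fun q hq =>
    hfactor a a.2 ha0 q (UniqueFactorizationMonoid.irreducible_of_factor q hq)
      (UniqueFactorizationMonoid.dvd_of_mem_factors hq)
  refine ⟨(UniqueFactorizationMonoid.factors (a : A)).pmap (fun q hq => (⟨q, hq⟩ : S)) hmem, fun x hx => ?_, ?_⟩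
  · obtain ⟨q, hq, rfl⟩ := Multiset.mem_pmap.1 hx
    have hqp := UniqueFactorizationMonoid.prime_of_factor q hq
    have hdvd : ∀ y : S, q ∣ (y : A) → (⟨q, hmem q hq⟩ : S) ∣ y := fun y ⟨z, hz⟩ => by
      refine ⟨⟨z, (hS z).2 fun g => mul_left_cancel₀ hqp.ne_zero ?_⟩, Subtype.ext hz⟩
      conv_rhs => rw [← hz, ← (hS _).1 y.2 g, hz]
      rw [← UInvFG21.ptAlg_apply hρ g, ← UInvFG21.ptAlg_apply hρ g (q * z), map_mul, UInvFG21.ptAlg_apply,
        UInvFG21.ptAlg_apply, (hS q).1 (hmem q hq) g]
    refine ⟨fun h => hqp.ne_zero (congrArg Subtype.val h), fun h => hqp.not_unit (h.map S.val), fun x y hxy => ?_⟩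
    rcases hqp.dvd_or_dvd (map_dvd S.val hxy : q ∣ (x : A) * y) with h | h
    · exact Or.inl (hdvd x h)
    · exact Or.inr (hdvd y h)
  · obtain ⟨v, hv⟩ := UniqueFactorizationMonoid.factors_prod ha0
    obtain ⟨c, hc⟩ := hunits v
    have hc0 : c ≠ 0 := fun h => v.ne_zero (by rw [← hc, h, map_zero])
    refine ⟨Units.map (algebraMap k S).toMonoidHom (Units.mk0 c hc0), Subtype.ext ?_⟩
    have hprod : S.val (((UniqueFactorizationMonoid.factors (a : A)).pmap (fun q hq => (⟨q, hq⟩ : S)) hmem).prod) =
        (UniqueFactorizationMonoid.factors (a : A)).prod := by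
      rw [map_multiset_prod, Multiset.map_pmap]
      simp only [Subalgebra.coe_val, Multiset.pmap_eq_map, Multiset.map_id']
    simp only [MulMemClass.coe_mul]
    refine Eq.trans ?_ hv
    rw [show (v : A) = algebraMap k A c from hc.symm]
    exact congrArg₂ (· * ·) hprod rfl

end Groth.Agent.S11232
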