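import Groth.Statements.S11233
import Mathlib
import Groth.Prelude.Def_FlatCA

set_option autoImplicit false
universe u
open CAlg

namespace Groth.Agent.S11233
open scoped TensorProduct

/-- Let k be an algebraically closed field, A an integral domain which is a k-algebra, T an m by m
matrix over A with invertible determinant, and let the additive group k^m act on the polynomial ring
A[y_1, ..., y_m] by the A-algebra maps y_s ↦ y_s + Σ_r h_r T_rs. Then the only invariant polynomials
are the constants: a polynomial fixed by all these substitutions lies in A. -/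
theorem result (k : Type u) [Field k] [IsAlgClosed k]
    (A : Type u) [CommRing A] [IsDomain A] [Algebra k A] (m : ℕ) (T : Matrix (Fin m) (Fin m) A)
    (hT : IsUnit T.det) (f : MvPolynomial (Fin m) A)
    (hf : ∀ h : Fin m → k, MvPolynomial.aeval
      (fun s : Fin m => MvPolynomial.X s + MvPolynomial.C (∑ r : Fin m, algebraMap k A (h r) * T r s)) f = f) :
    ∃ a : A, f = MvPolynomial.C a := by
  open MvPolynomial in
  classical
  let e0 : MvPolynomial (Fin m) A →+* A := (eval fun _ => (0 : A))
  let g : MvPolynomial (Fin m) A := aeval (fun s => ∑ r, C (T r s) * X r) f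
  have hg : g = C (e0 f) := by
    refine MvPolynomial.funext_set (fun _ => Set.range (algebraMap k A))
      (fun _ => Set.infinite_range_of_injective (algebraMap k A).injective) fun v hv => ?_
    choose h hh using fun r => hv r (Set.mem_univ r)
    have h1 := congrArg e0 (hf h)
    rw [aeval_def, eval₂_comp_left] at h1
    rw [eval_C, ← h1]
    simp only [g, aeval_def, eval₂_comp_left]
    congr 1
    · exact RingHom.ext fun a => by simp [e0]
    · funext s
      simp [e0, ← hh, mul_comm]
  refine ⟨e0 f, ?_⟩
  let sub : MvPolynomial (Fin m) A →ₐ[A] MvPolynomial (Fin m) A := aeval fun r => ∑ j, C (T⁻¹ j r) * X j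
  have hcomp : sub.comp (aeval fun s => ∑ r, C (T r s) * X r) = AlgHom.id A _ := by
    refine MvPolynomial.algHom_ext fun s => ?_
    simp only [AlgHom.comp_apply, aeval_X, AlgHom.coe_id, id, map_sum, map_mul, sub, aeval_C, Finset.mul_sum, MvPolynomial.algebraMap_eq]
    rw [Finset.sum_comm]
    have h2 : ∀ j, ∑ r, C (T r s) * (C (T⁻¹ j r) * X j) = C ((T⁻¹ * T) j s) * (X j : MvPolynomial (Fin m) A) := fun j => by
      rw [Matrix.mul_apply, map_sum, Finset.sum_mul]
      exact Finset.sum_congr rfl fun r _ => by rw [map_mul]; ring
    simp only [h2, Matrix.nonsing_inv_mul _ hT, Matrix.one_apply]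
    rw [Finset.sum_eq_single s (fun b _ hb => by simp [hb]) (by simp)]
    simp
  have h3 := AlgHom.congr_fun hcomp f
  rw [AlgHom.comp_apply, AlgHom.id_apply] at h3
  refine h3.symm.trans ?_
  show sub g = _
  rw [hg]
  simp [sub]

end Groth.Agent.S11233
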