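import Groth.Statements.S11234
import Groth.Agent.Lib.InvRing21.MatRep
import Groth.Agent.Lib.InvRing21.GLSmooth
import Groth.Agent.Lib.DiagGL.Chars
import Mathlib.Data.Matrix.Block
-- import your own Groth.Agent.* helpers here

set_option autoImplicit false
universe u
open CategoryTheory MonoidalCategory CartesianMonoidalCategory MonObj GrpObj AlgebraicGeometry
open scoped TensorProduct
open AGF

namespace Groth.Agent.S11234

/-- Let k be an algebraically closed field, G a linear algebraic group over k (affine, smooth) and H a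
smooth closed subgroup of G. The following are equivalent: (b) every global function on G invariant
under right translation by H is a constant; (c) for every rational G-module E, the H-invariants of E
coincide with the G-invariants; (e) two homomorphisms from G to a linear algebraic group which agree
on H are equal. (The published list also contains the statement that H is epimorphic in the sense of
its hull under the stabilizer correspondence, and the statement that complementary H-stable
subspaces of a rational G-module are G-stable; this row states the other three.) -/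
theorem result (k : Type u) [Field k] [IsAlgClosed k]
    (G : Over (Spec (CommRingCat.of k))) [GrpObj G] [IsAffine G.left] [Smooth G.hom]
    (H : Over (Spec (CommRingCat.of k))) [GrpObj H] [Smooth H.hom] (i : H ⟶ G) [IsMonHom i]
    [IsClosedImmersion i.left] :
    List.TFAE [
      ∀ f : Γ(G.left, ⊤), ((G ◁ i) ≫ μ[G]).left.appTop f = (fst G H).left.appTop f →
        ∃ c : k, f = G.hom.appTop ((Scheme.ΓSpecIso (CommRingCat.of k)).inv c),
      ∀ (E : Type u) [AddCommGroup E] [Module k E] (ρ : VecGrp.GMod G E),
        ρ.fixedUnder i = ρ.fixedUnder (𝟙 G),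
      ∀ (G' : Over (Spec (CommRingCat.of k))) [GrpObj G'] [IsAffine G'.left] [Smooth G'.hom]
        (r s : G ⟶ G') [IsMonHom r] [IsMonHom s], i ≫ r = i ≫ s → r = s] := by
  haveI : IsAffine H.left := isAffine_of_isAffineHom i.left
  letI := Groth.Agent.InvRing21.gamAlg G
  letI := Groth.Agent.InvRing21.gamAlg H
  tfae_have 2 → 1 := by
    intro hc f hf
    have := Groth.Agent.InvRing21.eq_const_of_mem_fixedUnder f
      ((hc _ (Groth.Agent.InvRing21.regular G)).le (Groth.Agent.InvRing21.mem_fixedUnder_regular i f hf))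
    exact ⟨_, this⟩
  tfae_have 1 → 3 := by
    intro hb G' _ _ _ r s _ _ hrs
    let φ : G ⟶ G' := r * s⁻¹
    have hinv : ((G ◁ i) ≫ μ[G]) ≫ φ = fst G H ≫ φ := by
      simp only [φ, MonObj.comp_mul, GrpObj.comp_inv, Groth.Agent.InvRing21.whisker_mul, MonObj.mul_comp,
        Category.assoc, hrs, _root_.mul_inv_rev]
      group
    have h1 : (1 : G ⟶ G) ≫ φ = 1 := by
      simp only [φ, MonObj.comp_mul, GrpObj.comp_inv, MonObj.one_comp, inv_one, _root_.mul_one (1 : G ⟶ G')]
    have hφ : φ = 1 := by
      refine Over.OverMorphism.ext (ext_of_isAffine ?_)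
      ext f
      obtain ⟨c, hc⟩ := hb (φ.left.appTop f) (by
        have := congrArg (fun m : G ⊗ H ⟶ G' => m.left.appTop f) hinv
        simpa only [Over.comp_left, Scheme.Hom.comp_appTop, CommRingCat.comp_apply] using this)
      have e : (1 : G ⟶ G').left.appTop f = (1 : G ⟶ G).left.appTop (φ.left.appTop f) := by
        rw [← CommRingCat.comp_apply, ← Scheme.Hom.comp_appTop, ← Over.comp_left, h1]
      rw [e, hc]
      exact ((Groth.Agent.InvRing21.appAlg (1 : G ⟶ G)).commutes c).symm
    exact mul_inv_eq_one.1 hφ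
  tfae_have 3 → 2 := by
    intro he E _ _ ρ
    refine le_antisymm (fun a ha => ?_) (fun a ha B _ _ h => ?_)
    swap
    · have := ha B (h ≫ i)
      rwa [Category.comp_id] at this
    obtain ⟨n, v, ξ, hξ, hav, hv⟩ := Groth.Agent.InvRing21.exists_finite_stable ρ a
    obtain ⟨α, hα⟩ := (Submodule.mem_span_range_iff_exists_fun k).1 hav
    let C : Matrix (Fin n) (Fin n) Γ(G.left, ⊤) := Matrix.of fun a b => Groth.Agent.InvRing21.coef ρ (ξ a) (v b)
    let R : ∀ {T : Over (Spec (CommRingCat.of k))}, (T ⟶ G) → Matrix (Fin n) (Fin n) Γ(T.left, ⊤) :=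
      fun x => C.map x.left.appTop
    let col : ∀ {T : Over (Spec (CommRingCat.of k))}, (T ⟶ G) → Matrix (Fin n) (Fin 1) Γ(T.left, ⊤) :=
      fun {T} x => Matrix.of fun a _ =>
        letI := Groth.Agent.InvRing21.gamAlg T
        algebraMap k Γ(T.left, ⊤) (α a) - ∑ b, R x a b * algebraMap k Γ(T.left, ⊤) (α b)
    have hmul : ∀ {T : Over (Spec (CommRingCat.of k))} (x y : T ⟶ G), R (x * y) = R x * R y := fun x y =>
      Matrix.ext fun a b => by
        simp only [R, C, Matrix.map_apply, Matrix.of_apply, Matrix.mul_apply]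
        exact Groth.Agent.InvRing21.appTop_coef_mul ρ v ξ hv x y a b
    have hone : ∀ T : Over (Spec (CommRingCat.of k)), R (1 : T ⟶ G) = 1 := fun T => Matrix.ext fun a b => by
      simp only [R, C, Matrix.map_apply, Matrix.of_apply, Matrix.one_apply]
      exact Groth.Agent.InvRing21.appTop_coef_one ρ v ξ hξ T a b
    have hnat : ∀ {T T' : Over (Spec (CommRingCat.of k))} (t : T' ⟶ T) (x : T ⟶ G),
        R (t ≫ x) = (R x).map t.left.appTop := fun t x => by
      ext a b
      simp only [R, Matrix.map_apply, Over.comp_left, Scheme.Hom.comp_appTop, CommRingCat.comp_apply]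
    have hcol : ∀ {T : Over (Spec (CommRingCat.of k))} (x y : T ⟶ G), col (x * y) = R x * col y + col x := fun {T} x y => by
      ext a z
      letI := Groth.Agent.InvRing21.gamAlg T
      simp only [col, Matrix.add_apply, Matrix.mul_apply, Matrix.of_apply, hmul, mul_sub, Finset.sum_sub_distrib,
        Finset.mul_sum, Finset.sum_mul, _root_.mul_assoc]
      rw [Finset.sum_comm]
      abel
    let e := finSumFinEquiv (m := n) (n := 1)
    let G' := CoactBr.sp k (CoordGrp.GLn (n + 1) k)
    let Mt : Groth.Agent.DiagGL.Mats (n + 1) G' := Groth.Agent.DiagGL.matsGLn k (n + 1)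
    haveI : Smooth G'.hom := Groth.Agent.InvRing21.smooth_sp_GLn k (n + 1)
    haveI : IsAffine G'.left := inferInstanceAs (IsAffine (Spec _))
    have hhom : ∀ c : ∀ {T : Over (Spec (CommRingCat.of k))}, (T ⟶ G) → Matrix (Fin n) (Fin 1) Γ(T.left, ⊤),
        (∀ {T : Over (Spec (CommRingCat.of k))} (x y : T ⟶ G), c (x * y) = R x * c y + c x) →
        (∀ {T T' : Over (Spec (CommRingCat.of k))} (t : T' ⟶ T) (x : T ⟶ G), c (t ≫ x) = (c x).map t.left.appTop) →
        ∃ r : G ⟶ G', IsMonHom r ∧ ∀ {T : Over (Spec (CommRingCat.of k))} (x : T ⟶ G),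
          Mt.mat (x ≫ r) = (Matrix.fromBlocks (R x) (c x) 0 1).reindex e e := by
      intro c hc hcn
      let P : ∀ {T : Over (Spec (CommRingCat.of k))}, (T ⟶ G) → Matrix (Fin (n + 1)) (Fin (n + 1)) Γ(T.left, ⊤) :=
        fun x => (Matrix.fromBlocks (R x) (c x) 0 1).reindex e e
      have hPmul : ∀ {T : Over (Spec (CommRingCat.of k))} (x y : T ⟶ G), P (x * y) = P x * P y := fun x y => by
        simp only [P, Matrix.reindex_apply, Matrix.submatrix_mul_equiv, Matrix.fromBlocks_multiply, hmul, hc]
        simp
      have hc1 : ∀ T : Over (Spec (CommRingCat.of k)), c (1 : T ⟶ G) = 0 := fun T => by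
        have := hc (1 : T ⟶ G) 1
        rw [_root_.one_mul (1 : T ⟶ G), hone, Matrix.one_mul] at this
        exact left_eq_add.1 this
      have hPone : ∀ T : Over (Spec (CommRingCat.of k)), P (1 : T ⟶ G) = 1 := fun T => by
        simp only [P, hone, hc1, Matrix.fromBlocks_one, Matrix.reindex_apply, Matrix.submatrix_one_equiv]
      obtain ⟨r, hr⟩ := Mt.surj (T := G) (A := P (𝟙 G))
        (IsUnit.of_mul_eq_one (P (𝟙 G)⁻¹) (by rw [← hPmul, mul_inv_cancel, hPone]))
      have hall : ∀ {T : Over (Spec (CommRingCat.of k))} (x : T ⟶ G), Mt.mat (x ≫ r) = P x := fun {T} x => by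
        rw [Mt.nat, hr]
        have hRx : R x = (R (𝟙 G)).map x.left.appTop := by rw [← hnat, Category.comp_id]
        have hcx : c x = (c (𝟙 G)).map x.left.appTop := by rw [← hcn, Category.comp_id]
        simp only [P, hRx, hcx]
        ext a b
        simp only [Matrix.map_apply, Matrix.reindex_apply, Matrix.submatrix_apply]
        rcases e.symm a with a | a <;> rcases e.symm b with b | b
        case inr.inr => obtain rfl := Subsingleton.elim a b; simp [Matrix.fromBlocks]
        all_goals simp [Matrix.fromBlocks]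
      refine ⟨r, { one_hom := Mt.inj ?_, mul_hom := Mt.inj ?_ }, hall⟩
      · rw [hall, MonObj.one_eq_one, MonObj.one_eq_one, hPone, Mt.one]
      · rw [hall, MonObj.mul_eq_mul, MonObj.mul_eq_mul, hPmul, MonObj.comp_mul, Mt.mul]
        congr 1
        · rw [tensorHom_fst, hall]
        · rw [tensorHom_snd, hall]
    have hcn : ∀ {T T' : Over (Spec (CommRingCat.of k))} (t : T' ⟶ T) (x : T ⟶ G),
        col (t ≫ x) = (col x).map t.left.appTop := fun {T T'} t x => by
      ext a z
      letI := Groth.Agent.InvRing21.gamAlg T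
      letI := Groth.Agent.InvRing21.gamAlg T'
      simp only [col, Matrix.map_apply, Matrix.of_apply, hnat, map_sub, map_sum, map_mul,
        ← Groth.Agent.InvRing21.appAlg_apply, AlgHom.commutes]
    obtain ⟨r, hrm, hr⟩ := hhom (fun _ => 0) (fun _ _ => by simp) (fun _ _ => by simp)
    obtain ⟨s, hsm, hs⟩ := hhom (fun x => col x) hcol hcn
    have hρsm : ∀ (B : Type u) [CommRing B] [Algebra k B] (p : VecGrp.pt k B ⟶ G) (t : k) (x : B ⊗[k] E),
        ρ.ρ B p (t • x) = t • ρ.ρ B p x := fun B _ _ p t x => by
      rw [← algebraMap_smul B t x, map_smul, algebraMap_smul]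
    have hH : col i = 0 := by
      ext a z
      have := congrArg (Groth.Agent.InvRing21.ctr (ξ a)) (ha Γ(H.left, ⊤) (Groth.Agent.InvRing21.uPt H))
      rw [← hα, TensorProduct.tmul_sum, map_sum, map_sum, map_sum] at this
      simp only [TensorProduct.tmul_smul, hρsm, map_smul, Groth.Agent.InvRing21.ctr_rho,
        Groth.Agent.InvRing21.ctr_tmul, hξ, Groth.Agent.InvRing21.val_uPt_comp] at this
      simp only [col, R, C, Matrix.zero_apply, Matrix.of_apply, Matrix.map_apply, sub_eq_zero]
      refine Eq.trans ?_ (this.symm.trans (Finset.sum_congr rfl fun b _ => (Algebra.smul_def _ _).trans (_root_.mul_comm _ _)))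
      simp [ite_smul, Algebra.algebraMap_eq_smul_one]
    have hrs : i ≫ r = i ≫ s := Mt.inj (by rw [hr, hs, hH])
    have heq := congrArg (fun m => Mt.mat (𝟙 G ≫ m)) (he G' r s hrs)
    simp only [hr, hs] at heq
    have h0 : col (𝟙 G) = 0 := by
      have := (Matrix.reindex e e).injective heq
      exact ((Matrix.fromBlocks_inj.1 this).2.1).symm
    intro B _ _ g
    rw [Category.comp_id]
    conv_lhs => rw [← hα, TensorProduct.tmul_sum, map_sum]
    conv_rhs => rw [← hα, TensorProduct.tmul_sum]
    simp only [TensorProduct.tmul_smul, hρsm, hv]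
    simp only [Finset.smul_sum, TensorProduct.smul_tmul']
    rw [Finset.sum_comm]
    refine Finset.sum_congr rfl fun a _ => ?_
    rw [← TensorProduct.sum_tmul]
    congr 1
    have h1 := congrArg (Groth.Agent.InvRing21.val g) (congrFun (congrFun h0 a) 0)
    simp only [col, R, C, Matrix.of_apply, Matrix.zero_apply, Matrix.map_apply, map_sub, map_sum, map_mul,
      AlgHom.commutes, Over.id_left, Scheme.Hom.id_appTop, CommRingCat.id_apply, map_zero, sub_eq_zero] at h1
    rw [← Algebra.algebraMap_eq_smul_one, h1]
    exact Finset.sum_congr rfl fun b _ => (Algebra.smul_def _ _).trans (_root_.mul_comm _ _)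
  tfae_finish

end Groth.Agent.S11234
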