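import Groth.Statements.S11235


set_option autoImplicit false
universe u
open CAlg

namespace Groth.Agent.S11235

/-- Let k be an algebraically closed field, A a commutative k-algebra, α ∈ k, and M a maximal ideal of
the polynomial ring A[x] containing x - α. Let I ⊆ M be an ideal whose zero set in Spec A[x] is
invariant under the automorphisms x ↦ c·x, c ∈ k nonzero (equivalently: the image of I under each
such A-algebra automorphism has the same radical as I). Then there is a maximal ideal of A[x]
containing I and x. -/
theorem result (k : Type u) [Field k] [IsAlgClosed k]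
    (A : Type u) [CommRing A] [Algebra k A] (α : k)
    (M : Ideal (Polynomial A)) (hM : M.IsMaximal)
    (hα : Polynomial.X - Polynomial.C (algebraMap k A α) ∈ M)
    (I : Ideal (Polynomial A)) (hIM : I ≤ M)
    (hI : ∀ c : kˣ, (I.map (Polynomial.aeval (R := A)
      (algebraMap k A (c : k) • (Polynomial.X : Polynomial A)))).radical = I.radical) :
    ∃ N : Ideal (Polynomial A), N.IsMaximal ∧ I ≤ N ∧ Polynomial.X ∈ N := by
  classical
  by_cases hα0 : α = 0
  · subst hα0
    exact ⟨M, hM, hIM, by simpa using hα⟩
  letI := Ideal.Quotient.field M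
  let π : A →+* Polynomial A ⧸ M := (Ideal.Quotient.mk M).comp Polynomial.C
  have hπx : Ideal.Quotient.mk M Polynomial.X = π (algebraMap k A α) := (Ideal.Quotient.eq).2 hα
  have hev : ∀ f : Polynomial A, Ideal.Quotient.mk M f = π (f.eval (algebraMap k A α)) := by
    intro f
    have h := Polynomial.hom_eval₂ f Polynomial.C (Ideal.Quotient.mk M) Polynomial.X
    rw [Polynomial.eval₂_C_X] at h
    rw [h, hπx, show (Ideal.Quotient.mk M).comp Polynomial.C = π from rfl, Polynomial.eval₂_hom]
  have hπs : Function.Surjective π := fun z => by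
    obtain ⟨f, rfl⟩ := Ideal.Quotient.mk_surjective z
    exact ⟨_, (hev f).symm⟩
  have hinv : ∀ f ∈ I, ∀ c : kˣ, π (f.eval (algebraMap k A ((c : k) * α))) = 0 := by
    intro f hf c
    have h1 : Polynomial.aeval (algebraMap k A (c : k) • (Polynomial.X : Polynomial A)) f ∈ I.radical := by
      rw [← hI c]
      exact Ideal.le_radical (Ideal.mem_map_of_mem _ hf)
    have h2 : Polynomial.aeval (algebraMap k A (c : k) • (Polynomial.X : Polynomial A)) f ∈ M := by
      have := Ideal.radical_mono hIM h1
      rwa [hM.isPrime.radical] at this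
    rw [← Ideal.Quotient.eq_zero_iff_mem, hev] at h2
    rw [← h2]
    congr 1
    rw [Polynomial.smul_eq_C_mul, ← Polynomial.comp_eq_aeval, Polynomial.eval_comp, Polynomial.eval_mul,
      Polynomial.eval_C, Polynomial.eval_X, map_mul]
  have hzero : ∀ f ∈ I, Polynomial.map π f = 0 := by
    intro f hf
    apply Polynomial.eq_zero_of_infinite_isRoot
    let φ : kˣ → (Polynomial A ⧸ M) := fun c => π (algebraMap k A ((c : k) * α))
    have hφ : Function.Injective φ := by
      intro c d hcd
      have h := ((π.comp (algebraMap k A))).injective hcd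
      exact Units.ext (mul_right_cancel₀ hα0 h)
    haveI : Infinite {x : k // x ≠ 0} := ((Set.finite_singleton (0 : k)).infinite_compl).to_subtype
    haveI : Infinite kˣ := Infinite.of_injective (fun n : {x : k // x ≠ 0} => Units.mk0 n.1 n.2)
      fun a b h => Subtype.ext (by simpa using congrArg Units.val h)
    refine (Set.infinite_range_of_injective hφ).mono ?_
    rintro _ ⟨c, rfl⟩
    show (Polynomial.map π f).eval (π _) = 0
    rw [Polynomial.eval_map, Polynomial.eval₂_hom]
    exact hinv f hf c
  let ψ : Polynomial A →+* (Polynomial A ⧸ M) := Polynomial.eval₂RingHom π 0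
  have hψ : Function.Surjective ψ := fun z => by
    obtain ⟨a, rfl⟩ := hπs z
    exact ⟨Polynomial.C a, Polynomial.eval₂_C _ _⟩
  refine ⟨RingHom.ker ψ, RingHom.ker_isMaximal_of_surjective ψ hψ, fun f hf => ?_, ?_⟩
  · show Polynomial.eval₂ π 0 f = 0
    rw [← Polynomial.eval_map, hzero f hf, Polynomial.eval_zero]
  · show Polynomial.eval₂ π 0 Polynomial.X = 0
    exact Polynomial.eval₂_X _ _

end Groth.Agent.S11235
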