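import Groth.Statements.S11236
import Groth.Agent.S11208
import Groth.Agent.S11225
import Groth.Agent.Lib.GModExt21.Gens
-- import your own Groth.Agent.* helpers here

set_option autoImplicit false
universe u
open CategoryTheory MonoidalCategory CartesianMonoidalCategory MonObj GrpObj AlgebraicGeometry
open scoped TensorProduct
open AGF

namespace Groth.Agent.S11236

/-- Let k be an algebraically closed field, G a linear algebraic group over k (affine, smooth) whose
identity component is reductive, B a Borel subgroup of G with unipotent radical U. Assume finite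
generation of invariants of reductive groups over k on finitely generated algebras (a true result
which the published text assumes without proof, carried here as a hypothesis). Let A be a finitely
generated commutative k-algebra with a rational action of G by algebra automorphisms and M an
A-module with a rational G-action compatible with the module structure (g·(am) = (g·a)(g·m)). Then
finite generation of M as an A-module is equivalent to the invariants M^U forming a finitely
generated module over A^U (M^U is the A^U-span of finitely many of its elements). -/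
theorem result (k : Type u) [Field k] [IsAlgClosed k]
    (G : Over (Spec (CommRingCat.of k))) [GrpObj G] (hG : VecGrp.IsReductiveGrp k G)
    (Bo : Over (Spec (CommRingCat.of k))) [GrpObj Bo] (iB : Bo ⟶ G) (hB : Red.IsBorelOver k iB)
    (U : Over (Spec (CommRingCat.of k))) [GrpObj U] (u : U ⟶ Bo) (hU : Par.IsUnipotentRadical u)
    (thmA : VecGrp.ReductiveInvariantsFG k)
    (A : Type u) [CommRing A] [Algebra k A] [Algebra.FiniteType k A] (ρA : VecGrp.GMod G A) (hρ : ρA.IsMult)
    (M : Type u) [AddCommGroup M] [Module A M] [Module k M] [IsScalarTower k A M] (ρM : VecGrp.GMod G M)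
    (hc : VecGrp.GMod.IsCompat ρA ρM) :
    Module.Finite A M ↔
      ∃ s : Finset M, (↑s : Set M) ⊆ ρM.fixedUnder (u ≫ iB) ∧
        ρM.fixedUnder (u ≫ iB) ≤
          (Submodule.span ↥(ρA.fixedSubalgebra hρ (u ≫ iB)) (↑s : Set M)).restrictScalars k := by
  classical
  haveI := hG.1
  haveI := hG.2.1
  have hfg : ∀ (R : Type u) [CommRing R] [Algebra k R] (σ : VecGrp.GMod G R), σ.IsMult → Algebra.FiniteType k R →
      VecGrp.AdjoinFG k (σ.fixedUnder (u ≫ iB) : Set R) := fun R _ _ σ hσ hR => by
    haveI := hR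
    obtain ⟨t, ht⟩ := (Subalgebra.fg_iff_finiteType _).2 (S11208.result k G hG Bo iB hB U u hU thmA R σ hσ)
    exact ⟨t, fun a ha => (ht.le (Algebra.subset_adjoin ha) :), fun a ha => ht.ge ha⟩
  refine ⟨fun hM => GModExt21.exists_gens hfg ρA hρ ρM hc, fun ⟨s, hsM, hgen⟩ => ?_⟩
  letI : Module Aᵐᵒᵖ M := Module.compHom M ((RingHom.id A).fromOpposite fun x y => mul_comm x y)
  haveI : IsCentralScalar A M := ⟨fun _ _ => rfl⟩
  haveI : IsScalarTower k Aᵐᵒᵖ M := ⟨fun c a m => by
    show (MulOpposite.unop (c • a)) • m = c • (MulOpposite.unop a • m)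
    rw [MulOpposite.unop_smul, smul_assoc]⟩
  have hρ' := GModExt21.extMod_isMult ρA ρM hρ hc
  obtain ⟨t, ht, htgen⟩ := hfg A ρA hρ inferInstance
  set τ := GModExt21.extMod ρA ρM
  have hmem := GModExt21.mem_fixedUnder ρA ρM (u ≫ iB)
  have hR : Algebra.FiniteType k (TrivSqZeroExt A M) := by
    refine S11225.result k G hG Bo iB hB U u hU thmA (TrivSqZeroExt A M) τ hρ' ?_
    refine (Subalgebra.fg_iff_finiteType _).1 ⟨t.image TrivSqZeroExt.inl ∪ s.image TrivSqZeroExt.inr, ?_⟩
    rw [Finset.coe_union, Finset.coe_image, Finset.coe_image]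
    refine le_antisymm (Algebra.adjoin_le ?_) fun x hx => ?_
    · rintro _ (⟨a, ha, rfl⟩ | ⟨m, hm, rfl⟩)
      · exact (hmem _).2 ⟨ht ha, (ρM.fixedUnder (u ≫ iB)).zero_mem⟩
      · exact (hmem _).2 ⟨(ρA.fixedUnder (u ≫ iB)).zero_mem, hsM hm⟩
    set D := Algebra.adjoin k (TrivSqZeroExt.inl '' (t : Set A) ∪ TrivSqZeroExt.inr '' (s : Set M) :
      Set (TrivSqZeroExt A M))
    have hA : ∀ a ∈ ρA.fixedSubalgebra hρ (u ≫ iB), (TrivSqZeroExt.inl a : TrivSqZeroExt A M) ∈ D := fun a ha => by
      have h1 : Algebra.adjoin k (t : Set A) ≤ D.comap (TrivSqZeroExt.inlAlgHom k A M) :=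
        Algebra.adjoin_le fun b hb => Algebra.subset_adjoin (Or.inl ⟨b, hb, rfl⟩)
      exact h1 (htgen ha)
    have hM : ∀ m ∈ Submodule.span ↥(ρA.fixedSubalgebra hρ (u ≫ iB)) (s : Set M),
        (TrivSqZeroExt.inr m : TrivSqZeroExt A M) ∈ D := fun m hm => by
      induction hm using Submodule.span_induction with
      | mem m hm => exact Algebra.subset_adjoin (Or.inr ⟨m, hm, rfl⟩)
      | zero => rw [TrivSqZeroExt.inr_zero]; exact D.zero_mem
      | add p q _ _ hp hq => rw [TrivSqZeroExt.inr_add]; exact D.add_mem hp hq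
      | smul c p _ hp =>
        rw [show c • p = (c : A) • p from rfl, ← TrivSqZeroExt.inl_mul_inr]
        exact D.mul_mem (hA _ c.2) hp
    rw [← TrivSqZeroExt.inl_fst_add_inr_snd_eq x]
    exact D.add_mem (hA _ ((hmem x).1 hx).1) (hM _ (hgen ((hmem x).1 hx).2))
  obtain ⟨r, hr⟩ := hR.out
  refine ⟨⟨r.image TrivSqZeroExt.snd, eq_top_iff.2 fun m _ => ?_⟩⟩
  set S := Submodule.span A ((r.image TrivSqZeroExt.snd : Finset M) : Set M)
  have key : ∀ x ∈ Algebra.adjoin k (r : Set (TrivSqZeroExt A M)), x.snd ∈ S := by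
    intro x hx
    induction hx using Algebra.adjoin_induction with
    | mem x hx => exact Submodule.subset_span (Finset.mem_coe.2 (Finset.mem_image.2 ⟨x, hx, rfl⟩))
    | algebraMap c => exact S.zero_mem
    | add x y _ _ hx hy => exact S.add_mem hx hy
    | mul x y _ _ hx hy =>
      rw [TrivSqZeroExt.snd_mul, op_smul_eq_smul]
      exact S.add_mem (S.smul_mem _ hy) (S.smul_mem _ hx)
  exact key (TrivSqZeroExt.inr m) (hr ▸ Algebra.mem_top)

end Groth.Agent.S11236
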