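import Groth.Statements.S11238
import Mathlib.Algebra.MvPolynomial.Funext
import Mathlib.FieldTheory.RatFunc.Luroth
import Mathlib.FieldTheory.IntermediateField.Adjoin.Algebra

set_option autoImplicit false
universe u
open AGF

namespace Groth.Agent.Unirat21

open Polynomial IntermediateField IntermediateField.algebraAdjoinAdjoin

variable {k : Type u} [Field k] [IsAlgClosed k] {n : ℕ}

/-- a line along which given denominators stay nonzero and a given nonconstant fraction stays nonconstant -/
theorem exists_line {ι : Type*} (s : Finset ι) (q : ι → MvPolynomial (Fin n) k) (hq : ∀ i ∈ s, q i ≠ 0)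
    (f g : MvPolynomial (Fin n) k) (hg : g ≠ 0) (hfg : ∀ c : k, f ≠ MvPolynomial.C c * g) :
    ∃ v : Fin n → k[X], (∀ i ∈ s, MvPolynomial.aeval v (q i) ≠ 0) ∧ MvPolynomial.aeval v g ≠ 0 ∧
      ∀ c : k, MvPolynomial.aeval v f ≠ Polynomial.C c * MvPolynomial.aeval v g := by
  classical
  have hne : ∀ F : MvPolynomial (Fin n) k, F ≠ 0 → ∃ P : Fin n → k, MvPolynomial.eval P F ≠ 0 := by
    intro F hF
    by_contra! h
    exact hF (MvPolynomial.funext fun P => by rw [h P, map_zero])
  have hD : g * ∏ i ∈ s, q i ≠ 0 := mul_ne_zero hg (Finset.prod_ne_zero_iff.2 hq)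
  obtain ⟨Q, hQ⟩ := hne _ hD
  rw [map_mul, map_prod, mul_ne_zero_iff, Finset.prod_ne_zero_iff] at hQ
  set c₀ := MvPolynomial.eval Q f / MvPolynomial.eval Q g with hc₀
  obtain ⟨P, hP⟩ := hne (f - MvPolynomial.C c₀ * g) (sub_ne_zero.2 (hfg c₀))
  let v : Fin n → k[X] := fun i => Polynomial.C (Q i) + Polynomial.C (P i - Q i) * Polynomial.X
  have hev : ∀ (t : k) (F : MvPolynomial (Fin n) k),
      (MvPolynomial.aeval v F).eval t = MvPolynomial.eval (fun i => Q i + (P i - Q i) * t) F := by
    intro t F
    have h : (Polynomial.aeval t).comp (MvPolynomial.aeval v) =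
        MvPolynomial.aeval fun i => Q i + (P i - Q i) * t := by
      ext i; simp [v]
    simpa using AlgHom.congr_fun h F
  have h0 : ∀ F, (MvPolynomial.aeval v F).eval 0 = MvPolynomial.eval Q F := fun F => by simp [hev]
  have h1 : ∀ F, (MvPolynomial.aeval v F).eval 1 = MvPolynomial.eval P F := fun F => by simp [hev]
  refine ⟨v, fun i hi h => hQ.2 i hi ?_, fun h => hQ.1 ?_, fun c hc => hP ?_⟩
  · rw [← h0, h, Polynomial.eval_zero]
  · rw [← h0, h, Polynomial.eval_zero]
  · have e0 := congrArg (Polynomial.eval 0) hc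
    have e1 := congrArg (Polynomial.eval 1) hc
    rw [Polynomial.eval_mul, Polynomial.eval_C, h0, h0] at e0
    rw [Polynomial.eval_mul, Polynomial.eval_C, h1, h1] at e1
    have hcc : c₀ = c := by rw [hc₀, e0, mul_div_cancel_right₀ _ hQ.1]
    rw [map_sub, map_mul, MvPolynomial.eval_C, hcc, e1, sub_self]

/-- restriction of finitely many rational functions to a line -/
theorem exists_specialisation {K : Type u} [Field K] [Algebra k K] {x : K} (hx : Transcendental k x)
    (s : Finset K) (hxs : x ∈ s) (φ : K →ₐ[k] FractionRing (MvPolynomial (Fin n) k)) :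
    ∃ ψ : Algebra.adjoin k (s : Set K) →ₐ[k] RatFunc k,
      Transcendental k (ψ ⟨x, Algebra.subset_adjoin hxs⟩) := by
  classical
  choose num den hden hz using fun a : K =>
    IsFractionRing.div_surjective (A := MvPolynomial (Fin n) k) (φ a)
  have hden' : ∀ a, den a ≠ 0 := fun a => nonZeroDivisors.ne_zero (hden a)
  have hfg : ∀ c : k, num x ≠ MvPolynomial.C c * den x := by
    intro c hc
    refine hx ?_
    suffices algebraMap k K c = x from this ▸ isAlgebraic_algebraMap c
    apply φ.injective
    show φ (algebraMap k K c) = φ x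
    rw [φ.commutes, ← hz x, hc, map_mul, mul_div_cancel_right₀ _
      ((map_ne_zero_iff _ (IsFractionRing.injective _ _)).2 (hden' x)),
      ← MvPolynomial.algebraMap_eq, ← IsScalarTower.algebraMap_apply]
  obtain ⟨v, hvs, hvg, hvc⟩ := exists_line s den (fun a _ => hden' a) (num x) (den x) (hden' x) hfg
  let W : Submonoid (MvPolynomial (Fin n) k) :=
    Submonoid.comap (MvPolynomial.aeval v : MvPolynomial (Fin n) k →ₐ[k] k[X]) (nonZeroDivisors k[X])
  have hW : W ≤ nonZeroDivisors (MvPolynomial (Fin n) k) := fun F hF =>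
    mem_nonZeroDivisors_of_ne_zero fun h => nonZeroDivisors.ne_zero hF (by simp [h])
  have hWu : ∀ y : W, IsUnit (algebraMap (MvPolynomial (Fin n) k) (FractionRing (MvPolynomial (Fin n) k)) y) :=
    fun y => IsLocalization.map_units (FractionRing (MvPolynomial (Fin n) k)) ⟨y.1, hW y.2⟩
  let O := Localization W
  let ιO : O →ₐ[k] FractionRing (MvPolynomial (Fin n) k) :=
    IsLocalization.liftAlgHom (M := W) (f := IsScalarTower.toAlgHom k (MvPolynomial (Fin n) k) _) hWu
  have hιO : Function.Injective ιO := by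
    refine (IsLocalization.lift_injective_iff (S := O) hWu).2 fun a b => ⟨fun h => ?_, fun h => ?_⟩
    · exact congrArg _ (IsLocalization.injective O hW h)
    · exact congrArg _ (IsFractionRing.injective _ _ h)
  let evO : O →ₐ[k] RatFunc k :=
    IsLocalization.liftAlgHom (M := W)
      (f := (IsScalarTower.toAlgHom k k[X] (RatFunc k)).comp (MvPolynomial.aeval v)) fun y =>
      isUnit_iff_ne_zero.2 ((map_ne_zero_iff _ (IsFractionRing.injective _ _)).2 (nonZeroDivisors.ne_zero y.2))
  have hev : ∀ F : MvPolynomial (Fin n) k, evO (algebraMap _ O F) =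
      algebraMap k[X] (RatFunc k) (MvPolynomial.aeval v F) := fun F => IsLocalization.lift_eq (g := ((IsScalarTower.toAlgHom k k[X] (RatFunc k)).comp (MvPolynomial.aeval v)).toRingHom) _ F
  have hιeq : ∀ F : MvPolynomial (Fin n) k, ιO (algebraMap _ O F) =
      algebraMap _ (FractionRing (MvPolynomial (Fin n) k)) F := fun F => IsLocalization.lift_eq (g := (IsScalarTower.toAlgHom k (MvPolynomial (Fin n) k) _).toRingHom) _ F
  have hmem : ∀ a, ∀ ha : a ∈ s, ∀ z : O, z = IsLocalization.mk' O (num a)
      (⟨den a, mem_nonZeroDivisors_of_ne_zero (hvs a ha)⟩ : W) → ιO z = φ a := by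
    intro a ha z hz'
    rw [hz', ← hz a, eq_div_iff ((map_ne_zero_iff _ (IsFractionRing.injective _ _)).2 (hden' a)),
      show algebraMap (MvPolynomial (Fin n) k) (FractionRing (MvPolynomial (Fin n) k)) (den a) =
        ιO (algebraMap (MvPolynomial (Fin n) k) O (den a)) from (hιeq _).symm, ← map_mul]
    exact (congrArg ιO (IsLocalization.mk'_spec O (num a) _)).trans (hιeq _)
  have hrange : ∀ r ∈ Algebra.adjoin k (s : Set K), φ r ∈ ιO.range := by
    intro r hr
    induction hr using Algebra.adjoin_induction with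
    | mem a ha => exact ⟨_, hmem a ha _ rfl⟩
    | algebraMap c => exact ⟨algebraMap k O c, by simp⟩
    | add a b _ _ ha hb => rw [map_add]; exact add_mem ha hb
    | mul a b _ _ ha hb => rw [map_mul]; exact mul_mem ha hb
  let ψ : Algebra.adjoin k (s : Set K) →ₐ[k] RatFunc k :=
    evO.comp ((AlgEquiv.ofInjective ιO hιO).symm.toAlgHom.comp
      ((φ.comp (Algebra.adjoin k (s : Set K)).val).codRestrict ιO.range fun r => hrange r.1 r.2))
  refine ⟨ψ, fun halg => ?_⟩
  have hψx : ψ ⟨x, Algebra.subset_adjoin hxs⟩ * algebraMap k[X] (RatFunc k) (MvPolynomial.aeval v (den x)) =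
      algebraMap k[X] (RatFunc k) (MvPolynomial.aeval v (num x)) := by
    let z₀ := IsLocalization.mk' O (num x) (⟨den x, mem_nonZeroDivisors_of_ne_zero hvg⟩ : W)
    have : ψ ⟨x, Algebra.subset_adjoin hxs⟩ = evO z₀ := by
      refine congrArg evO ((AlgEquiv.ofInjective ιO hιO).symm_apply_eq.2 (Subtype.ext ?_))
      exact (hmem x hxs z₀ rfl).symm
    rw [this, show algebraMap k[X] (RatFunc k) (MvPolynomial.aeval v (den x)) =
        evO (algebraMap _ O (den x)) from (hev _).symm, ← map_mul]
    exact (congrArg evO (IsLocalization.mk'_spec O (num x) _)).trans (hev _)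
  have halg' : IsIntegral k (ψ ⟨x, Algebra.subset_adjoin hxs⟩) := halg.isIntegral
  obtain ⟨c, hc⟩ : ∃ c : k, algebraMap k (RatFunc k) c = ψ ⟨x, Algebra.subset_adjoin hxs⟩ := by
    have h := minpoly.irreducible halg'
    exact minpoly.mem_range_of_degree_eq_one k _ (IsAlgClosed.degree_eq_one_of_irreducible k h)
  refine hvc c (IsFractionRing.injective k[X] (RatFunc k) ?_)
  rw [← hψx, ← hc, map_mul, IsScalarTower.algebraMap_apply k k[X] (RatFunc k)]
  rfl

theorem exists_generator {K : Type u} [Field K] [Algebra k K] (hfg : (⊤ : IntermediateField k K).FG)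
    {x : K} (hx : Transcendental k x) (halg : Algebra.IsAlgebraic ↥(IntermediateField.adjoin k {x}) K)
    (φ : K →ₐ[k] FractionRing (MvPolynomial (Fin n) k)) :
    ∃ t : K, Transcendental k t ∧ IntermediateField.adjoin k {t} = ⊤ := by
  classical
  obtain ⟨s₀, hs₀⟩ := hfg
  let s := insert x s₀
  obtain ⟨ψ, hψ⟩ := exists_specialisation hx s (Finset.mem_insert_self x s₀) φ
  let R := Algebra.adjoin k (s : Set K)
  have htop : IntermediateField.adjoin k (s : Set K) = ⊤ :=
    eq_top_iff.2 (hs₀ ▸ IntermediateField.adjoin.mono k _ _ (Finset.coe_subset.2 (Finset.subset_insert x s₀)))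
  haveI : IsFractionRing R K := by
    refine IsFractionRing.of_field R K fun z => ?_
    obtain ⟨r, hr, d, hd, rfl⟩ := IntermediateField.mem_adjoin_iff_div.1 (htop ▸ IntermediateField.mem_top (x := z))
    exact ⟨⟨r, hr⟩, ⟨d, hd⟩, rfl⟩
  have hinj : Function.Injective ψ := by
    rw [injective_iff_map_eq_zero]
    intro r hr
    by_contra hr0
    let x' : R := ⟨x, Algebra.subset_adjoin (Finset.mem_insert_self x s₀)⟩
    let A := Algebra.adjoin k {x}
    have hAR : A ≤ R := Algebra.adjoin_le (Set.singleton_subset_iff.2 x'.2)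
    have h1 : IsAlgebraic A (r : K) := by
      exact (IsFractionRing.isAlgebraic_iff A (IntermediateField.adjoin k {x}) K).2 (halg.isAlgebraic _)
    letI : Algebra A R := (Subalgebra.inclusion hAR).toRingHom.toAlgebra
    haveI : IsScalarTower A R K := IsScalarTower.of_algebraMap_eq fun a => rfl
    have h2 : IsAlgebraic A r := (isAlgebraic_algebraMap_iff (A := K) Subtype.val_injective).1 h1
    obtain ⟨a, ha, hdvd⟩ := h2.exists_nonzero_dvd (mem_nonZeroDivisors_of_ne_zero hr0)
    obtain ⟨b, hb⟩ := hdvd
    have hψa : ψ (algebraMap A R a) = 0 := by rw [hb, map_mul, hr, zero_mul]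
    obtain ⟨P, hP⟩ : ∃ P : k[X], Polynomial.aeval x P = (a : K) := by
      exact le_of_eq (Algebra.adjoin_singleton_eq_range_aeval k x) a.2
    have e : algebraMap A R a = Polynomial.aeval x' P := Subtype.ext (by
      rw [← Subalgebra.coe_val, ← Polynomial.aeval_algHom_apply]
      exact hP.symm)
    rw [e, ← Polynomial.aeval_algHom_apply] at hψa
    have hP0 : P = 0 := transcendental_iff.1 hψ P hψa
    rw [hP0, map_zero] at hP
    exact ha (Subtype.ext hP.symm)
  let Φ : K →ₐ[k] RatFunc k := IsFractionRing.liftAlgHom hinj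
  have hne : Φ.fieldRange ≠ ⊥ := by
    intro h
    have hmem : Φ x ∈ (⊥ : IntermediateField k (RatFunc k)) := h ▸ ⟨x, rfl⟩
    obtain ⟨c, hc⟩ := IntermediateField.mem_bot.1 hmem
    refine hx ?_
    suffices algebraMap k K c = x from this ▸ isAlgebraic_algebraMap c
    refine Φ.injective ?_
    show Φ (algebraMap k K c) = Φ x
    rw [Φ.commutes, hc]
  obtain ⟨t, ht⟩ := (RatFunc.Luroth.generator_mem (E := Φ.fieldRange) : _)
  refine ⟨t, fun h => RatFunc.Luroth.transcendental_generator hne (ht ▸ h.algHom Φ), ?_⟩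
  apply IntermediateField.map_injective Φ
  rw [IntermediateField.adjoin_map, Set.image_singleton, ← AlgHom.fieldRange_eq_map,
    show Φ t = RatFunc.Luroth.generator Φ.fieldRange from ht]
  exact RatFunc.Luroth.eq_adjoin_generator.symm

end Groth.Agent.Unirat21

namespace Groth.Agent.S11238

/-- Over an algebraically closed field k, a unirational variety of dimension one is rational. Field
form: let K be a finitely generated field extension of k of transcendence degree one (K is algebraic
over k(x) for some x ∈ K transcendental over k) admitting a k-embedding into a purely transcendental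
extension k(t_1, ..., t_n). Then K = k(t) for some t ∈ K transcendental over k. -/
theorem result (k : Type u) [Field k] [IsAlgClosed k]
    (K : Type u) [Field K] [Algebra k K] (hfg : (⊤ : IntermediateField k K).FG)
    (x : K) (hx : Transcendental k x) (halg : Algebra.IsAlgebraic ↥(IntermediateField.adjoin k {x}) K)
    (n : ℕ) (φ : K →ₐ[k] FractionRing (MvPolynomial (Fin n) k)) :
    ∃ t : K, Transcendental k t ∧ IntermediateField.adjoin k {t} = ⊤ := by
  exact Groth.Agent.Unirat21.exists_generator hfg hx halg φ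

end Groth.Agent.S11238
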