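import Groth.Statements.S11239
import Mathlib.LinearAlgebra.Matrix.Block

set_option autoImplicit false
universe u
open AGF

namespace Groth.Agent.S11239

/-- Let X be an m × n matrix over a commutative ring, u an upper triangular n × n matrix with ones on
the diagonal, t a diagonal n × n matrix and p ≤ n. For any choice of p rows, the minor of X·t·u
formed with these rows and the first p columns equals (t_11 ⋯ t_pp) times the corresponding minor of
X: the minors on the first p columns are semi-invariant of weight ω_p under right multiplication by
the upper triangular group. (The published statement is for the generic matrix over an algebraically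
closed field; this row states the identity over any commutative ring.) -/
theorem result (R : Type u) [CommRing R] (m n p : ℕ) (hp : p ≤ n)
    (X : Matrix (Fin m) (Fin n) R) (d : Fin n → R) (u : Matrix (Fin n) (Fin n) R)
    (hu1 : ∀ i, u i i = 1) (hu0 : ∀ i j, j < i → u i j = 0) (I : Fin p → Fin m) :
    ((X * Matrix.diagonal d * u).submatrix I (Fin.castLE hp)).det =
      (∏ i : Fin p, d (Fin.castLE hp i)) * (X.submatrix I (Fin.castLE hp)).det := by
  let T : Matrix (Fin p) (Fin p) R :=
    (Matrix.diagonal d * u).submatrix (Fin.castLE hp) (Fin.castLE hp)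
  have hT : ∀ a b : Fin p, T a b = d (Fin.castLE hp a) * u (Fin.castLE hp a) (Fin.castLE hp b) := by
    intro a b
    simp [T, Matrix.diagonal_mul]
  have key : (X * Matrix.diagonal d * u).submatrix I (Fin.castLE hp) =
      X.submatrix I (Fin.castLE hp) * T := by
    ext a b
    rw [Matrix.submatrix_apply, Matrix.mul_assoc, Matrix.mul_apply, Matrix.mul_apply]
    symm
    refine Fintype.sum_of_injective (Fin.castLE hp) (Fin.castLE_injective hp) _ _ (fun k hk => ?_)
      (fun k => by simp [T])
    have hlt : Fin.castLE hp b < k := by
      have hk' : p ≤ (k : ℕ) := by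
        by_contra hh
        exact hk ⟨⟨k, by omega⟩, Fin.ext rfl⟩
      exact Fin.lt_def.mpr (lt_of_lt_of_le b.2 hk')
    simp [Matrix.diagonal_mul, hu0 k _ hlt]
  have hdet : T.det = ∏ a : Fin p, d (Fin.castLE hp a) := by
    rw [Matrix.det_of_upperTriangular (fun a b hab => by
      rw [hT, hu0 _ _ (Fin.lt_def.mpr (Fin.lt_def.mp hab)), mul_zero])]
    exact Finset.prod_congr rfl fun a _ => by rw [hT, hu1, mul_one]
  rw [key, Matrix.det_mul, hdet, mul_comm]

end Groth.Agent.S11239
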