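import Groth.Statements.S11240
import Mathlib.Algebra.MvPolynomial.Eval

set_option autoImplicit false
universe u
open AGF

namespace Groth.Agent.S11240

/-- For a single root subgroup: let k be an algebraically closed field and X = (x_ab) the generic n × m
matrix over the polynomial ring k[x_ab]. Let i ≠ j be row indices and let I (rows) and J (columns)
be strictly increasing sequences of length p. The minor of X with rows I and columns J is invariant
under replacing X by (1 + b·E_ij)·X for every b ∈ k (the one-parameter unipotent group adding b
times row j to row i) if and only if j occurs in I whenever i does. (The published statement gives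
the criterion for the group generated by several such root subgroups, which is the conjunction of
these.) -/
theorem result (k : Type u) [Field k] [IsAlgClosed k] (n m p : ℕ)
    (i j : Fin n) (hij : i ≠ j) (I : Fin p ↪o Fin n) (J : Fin p ↪o Fin m) :
    (∀ b : k, ((Matrix.transvection i j (MvPolynomial.C b) *
        (Matrix.of fun a c => (MvPolynomial.X (a, c) : MvPolynomial (Fin n × Fin m) k))).submatrix I J).det =
        ((Matrix.of fun a c => (MvPolynomial.X (a, c) : MvPolynomial (Fin n × Fin m) k)).submatrix I J).det) ↔
      (i ∈ Set.range I → j ∈ Set.range I) := by
  set M : Matrix (Fin n) (Fin m) (MvPolynomial (Fin n × Fin m) k) :=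
    Matrix.of fun a c => MvPolynomial.X (a, c) with hM
  have hout : i ∉ Set.range I → ∀ c, ((Matrix.transvection i j c * M).submatrix I J) =
      M.submatrix I J := by
    intro hi c
    ext a b
    have : I a ≠ i := fun h => hi ⟨a, h⟩
    simp [Matrix.submatrix_apply, Matrix.transvection_mul_apply_of_ne _ _ _ _ this]
  have hin : ∀ a, I a = i → ∀ c, ((Matrix.transvection i j c * M).submatrix I J) =
      (M.submatrix I J).updateRow a ((M.submatrix I J) a + c • fun b => M j (J b)) := by
    intro a ha c
    ext a' b
    by_cases h : a' = a
    · subst h
      simp [Matrix.submatrix_apply, ha]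
    · have : I a' ≠ i := fun h' => h (I.injective (h'.trans ha.symm))
      simp [Matrix.submatrix_apply, Matrix.transvection_mul_apply_of_ne _ _ _ _ this,
        Matrix.updateRow_ne h]
  constructor
  · intro h hi
    obtain ⟨a, ha⟩ := hi
    by_contra hj
    have h1 := h 1
    rw [hin a ha, Matrix.det_updateRow_add, Matrix.updateRow_eq_self, map_one, one_smul,
      add_eq_left] at h1
    let I' : Fin p → Fin n := Function.update I a j
    have hI' : Function.Injective I' := by
      intro x y hxy
      by_cases hx : x = a <;> by_cases hy : y = a
      · rw [hx, hy]
      · exact absurd ⟨y, by simpa [I', hx, hy] using hxy.symm⟩ hj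
      · exact absurd ⟨x, by simpa [I', hx, hy] using hxy⟩ hj
      · exact I.injective (by simpa [I', hx, hy] using hxy)
    classical
    let ev : MvPolynomial (Fin n × Fin m) k →+* k :=
      MvPolynomial.eval fun q => if ∃ x, I' x = q.1 ∧ J x = q.2 then 1 else 0
    have h2 := congrArg ev h1
    rw [map_zero, RingHom.map_det] at h2
    have h3 : ev.mapMatrix ((M.submatrix I J).updateRow a fun b => M j (J b)) = 1 := by
      ext x y
      have hval : ((M.submatrix I J).updateRow a fun b => M j (J b)) x y =
          MvPolynomial.X (I' x, J y) := by
        by_cases hx : x = a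
        · simp [hx, I', hM]
        · simp [hx, I', hM, Matrix.updateRow_ne hx]
      rw [RingHom.mapMatrix_apply, Matrix.map_apply, hval]
      by_cases hxy : x = y
      · subst hxy
        simp [ev, Matrix.one_apply_eq]
      · simp [ev, Matrix.one_apply_ne hxy]
        exact fun e => hxy (hI' e).symm
    rw [h3, Matrix.det_one] at h2
    exact one_ne_zero h2
  · intro h b
    by_cases hi : i ∈ Set.range I
    · obtain ⟨a, ha⟩ := hi
      obtain ⟨a', ha'⟩ := h ⟨a, ha⟩
      rw [hin a ha]
      have : (fun b => M j (J b)) = (M.submatrix I J) a' := by
        ext b
        simp [ha']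
      rw [this]
      exact Matrix.det_updateRow_add_smul_self _ (fun e => hij (by rw [← ha, ← ha', e])) _
    · rw [hout hi]

end Groth.Agent.S11240
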