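import Groth.Statements.S11241
import Groth.Agent.Lib.UMod21.Fixed
-- import your own Groth.Agent.* helpers here

set_option autoImplicit false
universe u
open CategoryTheory MonoidalCategory CartesianMonoidalCategory MonObj GrpObj AlgebraicGeometry
open scoped TensorProduct
open AGF

namespace Groth.Agent.S11241

/-- Let k be an algebraically closed field and H a connected unipotent linear algebraic group over k
(affine, smooth, connected, with no nontrivial subtorus), acting rationally by algebra automorphisms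
on a commutative k-algebra A which is an integral domain. An H-invariant element of the fraction
field of A is a quotient of two H-invariant elements of A: if a₀, b₀ ∈ A with b₀ ≠ 0 satisfy
(h·a₀)·b₀ = a₀·(h·b₀) for every point h of H (invariance of a₀/b₀), then there are a, b ∈ A^H with b
≠ 0 and a·b₀ = b·a₀. (The published statement allows any unipotent H; this row takes H connected.) -/
theorem result (k : Type u) [Field k] [IsAlgClosed k]
    (H : Over (Spec (CommRingCat.of k))) [GrpObj H] [IsAffine H.left] [Smooth H.hom] [ConnectedSpace H.left]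
    (hH : Red.HasNoSubtorus k H)
    (A : Type u) [CommRing A] [IsDomain A] [Algebra k A] (ρ : VecGrp.GMod H A) (hρ : ρ.IsMult)
    (a₀ b₀ : A) (hb₀ : b₀ ≠ 0)
    (hinv : ∀ (B : Type u) [CommRing B] [Algebra k B] (h : VecGrp.pt k B ⟶ H),
      ρ.ρ B h ((1 : B) ⊗ₜ[k] a₀) * ((1 : B) ⊗ₜ[k] b₀) = ((1 : B) ⊗ₜ[k] a₀) * ρ.ρ B h ((1 : B) ⊗ₜ[k] b₀)) :
    ∃ a b : A, a ∈ ρ.fixedUnder (𝟙 H) ∧ b ∈ ρ.fixedUnder (𝟙 H) ∧ b ≠ 0 ∧ a * b₀ = b * a₀ := by
  classical
  have hmul : ∀ (g : VecGrp.pt k k ⟶ H) (x y : A),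
      InvRing21.ptAct ρ g (x * y) = InvRing21.ptAct ρ g x * InvRing21.ptAct ρ g y :=
    fun g x y => map_mul (UInvFG21.ptAlg hρ g) x y
  have hinv' : ∀ g : VecGrp.pt k k ⟶ H, InvRing21.ptAct ρ g a₀ * b₀ = a₀ * InvRing21.ptAct ρ g b₀ := fun g => by
    have h := congrArg (TensorProduct.lid k A) (hinv k g)
    rw [UInvFG21.rho_tmul, UInvFG21.rho_tmul, Algebra.TensorProduct.tmul_mul_tmul,
      Algebra.TensorProduct.tmul_mul_tmul] at h
    simpa using h
  let I : Submodule k A :=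
    { carrier := {b | ∃ a, a * b₀ = b * a₀}
      zero_mem' := ⟨0, by simp⟩
      add_mem' := fun {p q} ⟨a, ha⟩ ⟨a', ha'⟩ => ⟨a + a', by rw [add_mul, add_mul, ha, ha']⟩
      smul_mem' := fun c p ⟨a, ha⟩ => ⟨c • a, by rw [smul_mul_assoc, smul_mul_assoc, ha]⟩ }
  have hb : b₀ ∈ I := ⟨a₀, _root_.mul_comm a₀ b₀⟩
  have key : ∀ (g : VecGrp.pt k k ⟶ H) (a b : A), a * b₀ = b * a₀ →
      InvRing21.ptAct ρ g a * b₀ = InvRing21.ptAct ρ g b * a₀ := fun g a b hab => by
    have hne : InvRing21.ptAct ρ g b₀ ≠ 0 := fun e => hb₀ (by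
      rw [← UInvFG21.ptAct_one ρ b₀, ← inv_mul_cancel g, UInvFG21.ptAct_mul, e]
      exact map_zero (UInvFG21.ptAlg hρ g⁻¹))
    refine mul_right_cancel₀ hne ?_
    have h := congrArg (InvRing21.ptAct ρ g) hab
    rw [hmul, hmul] at h
    calc InvRing21.ptAct ρ g a * b₀ * InvRing21.ptAct ρ g b₀
        = InvRing21.ptAct ρ g a * InvRing21.ptAct ρ g b₀ * b₀ := by ring
      _ = InvRing21.ptAct ρ g b * (InvRing21.ptAct ρ g a₀ * b₀) := by rw [h]; ring
      _ = InvRing21.ptAct ρ g b * a₀ * InvRing21.ptAct ρ g b₀ := by rw [hinv']; ring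
  obtain ⟨b, ⟨a, hab⟩, hb0, hbf⟩ := UMod21.exists_fixed_of_stable ρ hH (𝟙 H) (W := I)
    (fun h b ⟨a, hab⟩ => by
      rw [Category.comp_id]
      exact ⟨_, key h a b hab⟩) (fun e => hb₀ ((Submodule.eq_bot_iff I).1 e b₀ hb))
  refine ⟨a, b, UInvFG21.mem_fixedUnder_of_points ρ fun h => mul_right_cancel₀ hb₀ ?_, hbf, hb0, hab⟩
  rw [key _ a b hab, UInvFG21.ptAct_eq_of_fixed ρ hbf h, hab]

end Groth.Agent.S11241
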