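import Groth.Statements.S11242
import Groth.Agent.Lib.UMod21.Semi
-- import your own Groth.Agent.* helpers here

set_option autoImplicit false
universe u
open CategoryTheory MonoidalCategory CartesianMonoidalCategory MonObj GrpObj AlgebraicGeometry
open scoped TensorProduct
open AGF

namespace Groth.Agent.S11242

/-- Let k be an algebraically closed field, G a connected reductive linear algebraic group over k, B a
Borel subgroup of G with unipotent radical U, T a maximal torus of G contained in B, and ω a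
character of T. Consider the space E(ω) of global functions f on G which are invariant under right
translation by U and on which right translation by T acts through ω (f(x·u) = f(x), f(x·t) =
ω(t)·f(x)); the published statement writes this space with its weight twisted by the opposition
involution, and finite-dimensionality is the same statement. This space is finite-dimensional: there
are finitely many global functions such that every member of E(ω) is a combination of them with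
constant coefficients. -/
theorem result (k : Type u) [Field k] [IsAlgClosed k]
    (G : Over (Spec (CommRingCat.of k))) [GrpObj G] (hG : Red.IsReductiveOver k G)
    (Bo : Over (Spec (CommRingCat.of k))) [GrpObj Bo] (iB : Bo ⟶ G) (hB : Red.IsBorelOver k iB)
    (U : Over (Spec (CommRingCat.of k))) [GrpObj U] (u : U ⟶ Bo) (hU : Par.IsUnipotentRadical u)
    (T : Over (Spec (CommRingCat.of k))) [GrpObj T] (t : T ⟶ Bo) [IsMonHom t] (hT : AGF.IsMaxTorus (t ≫ iB))
    (ω : T ⟶ Red.Gm (Spec (CommRingCat.of k))) [IsMonHom ω] :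
    ∃ s : Finset Γ(G.left, ⊤), ∀ f : Γ(G.left, ⊤),
      ((G ◁ (u ≫ iB)) ≫ μ[G]).left.appTop f = (fst G U).left.appTop f →
      ((G ◁ (t ≫ iB)) ≫ μ[G]).left.appTop f = (fst G T).left.appTop f * (snd G T).left.appTop (Red.gmFn ω) →
        ∃ c : Γ(G.left, ⊤) → k,
          f = ∑ g ∈ s, G.hom.appTop ((Scheme.ΓSpecIso (CommRingCat.of k)).inv (c g)) * g := by
  haveI := hG.1
  haveI := hG.2.1
  haveI := hG.2.2.1
  haveI := hB.1
  haveI := hB.2.1
  haveI : IsAffine Bo.left := isAffine_of_isAffineHom iB.left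
  obtain ⟨F, hpts, hTF⟩ := UMod21.exists_frame hG hB t hT
  have hrad := F.range_radical hB hU hpts
  obtain ⟨d, ⟨C₀⟩⟩ := TorPts21.exists_chars hT.2.2.1
  letI := InvRing21.gamAlg (k := k) G
  by_cases hne : ∀ f : Γ(G.left, ⊤), ((G ◁ (u ≫ iB)) ≫ μ[G]).left.appTop f = (fst G U).left.appTop f →
      ((G ◁ (t ≫ iB)) ≫ μ[G]).left.appTop f = (fst G T).left.appTop f * (snd G T).left.appTop (Red.gmFn ω) → f = 0
  · exact ⟨∅, fun f h₁ h₂ => ⟨0, by simp [hne f h₁ h₂]⟩⟩
  push Not at hne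
  obtain ⟨f₀, hf₀U, hf₀T, hf₀⟩ := hne
  have hinv : ∀ f : Γ(G.left, ⊤), ((G ◁ (u ≫ iB)) ≫ μ[G]).left.appTop f = (fst G U).left.appTop f →
      ∀ (x : VecGrp.pt k k ⟶ G), ∀ p ∈ F.neg.neg.up₁, InvRing21.val (x * p) f = InvRing21.val x f := by
    intro f hf x p hp
    rw [UMod21.Frame.up₁_neg_neg] at hp
    obtain ⟨q, hq⟩ := (hrad p).2 hp
    have h1 := congrArg (InvRing21.val (lift x q)) hf
    rw [InvRing21.appTop_val, InvRing21.appTop_val, InvRing21.whisker_mul, MonObj.comp_mul, lift_fst,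
      ← Category.assoc, lift_snd, hq] at h1
    exact h1
  have hwt : ∀ f : Γ(G.left, ⊤),
      ((G ◁ (t ≫ iB)) ≫ μ[G]).left.appTop f = (fst G T).left.appTop f * (snd G T).left.appTop (Red.gmFn ω) →
      ∀ (x : VecGrp.pt k k ⟶ G) (τ : VecGrp.pt k k ⟶ T), InvRing21.val (x * (τ ≫ t ≫ iB)) f =
        InvRing21.val x f * InvRing21.val τ (Red.gmFn ω) := by
    intro f hf x τ
    have h1 := congrArg (InvRing21.val (lift x τ)) hf
    rw [InvRing21.appTop_val, map_mul, InvRing21.appTop_val, InvRing21.appTop_val, InvRing21.whisker_mul,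
      MonObj.comp_mul, lift_fst, ← Category.assoc, lift_snd] at h1
    exact h1
  obtain ⟨x₀, hx₀⟩ := InvRing21.exists_val_ne_zero (k := k) hf₀
  have hback : ∀ σ : VecGrp.pt k k ⟶ F.T, ∃ τ : VecGrp.pt k k ⟶ T, τ ≫ t ≫ iB = σ ≫ F.iT := by
    haveI := hT.1
    intro σ
    refine (BorelLam21.cent_iff hG hT _).1 fun τ => ?_
    obtain ⟨σ', hσ'⟩ := hTF τ
    rw [← hσ', ← MonObj.mul_comp, ← MonObj.mul_comp, (TorPts21.commute_of_chars F.C σ σ').eq]
  obtain ⟨B', _, iB', hB', hpts'⟩ := F.neg.neg.exists_borel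
  haveI := hB'.1
  have hsemi : ∀ f : Γ(G.left, ⊤), ((G ◁ (u ≫ iB)) ≫ μ[G]).left.appTop f = (fst G U).left.appTop f →
      ((G ◁ (t ≫ iB)) ≫ μ[G]).left.appTop f = (fst G T).left.appTop f * (snd G T).left.appTop (Red.gmFn ω) →
      InvRing21.Semi iB' (fun q => InvRing21.val (x₀ * (q ≫ iB')) f₀ / InvRing21.val x₀ f₀) f := by
    intro f h₁ h₂ x q
    dsimp only
    obtain ⟨σ₀, p, hp, e⟩ := F.neg.neg.exists_torus_mul ((hpts' _).1 ⟨q, rfl⟩)
    obtain ⟨σ, hσ⟩ : ∃ σ : VecGrp.pt k k ⟶ F.T, q ≫ iB' = (σ ≫ F.iT) * p := ⟨σ₀, e⟩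
    obtain ⟨τ, hτ⟩ := hback σ
    rw [hσ, ← hτ, ← _root_.mul_assoc, hinv f h₁ _ p hp, hwt f h₂, ← _root_.mul_assoc, hinv f₀ hf₀U _ p hp,
      hwt f₀ hf₀T, mul_div_cancel_left₀ _ hx₀]
    ring
  obtain ⟨ν, hν⟩ := F.neg.exists_weight hpts' hf₀ (hsemi f₀ hf₀U hf₀T) (hinv f₀ hf₀U)
  obtain ⟨s, hs⟩ := F.neg.exists_finite_semi ν
  refine ⟨s, fun f h₁ h₂ => ?_⟩
  have hf : f ∈ Submodule.span k (s : Set Γ(G.left, ⊤)) := hs f fun y σ p hp => by
    obtain ⟨q, hq⟩ : ∃ q, q ≫ iB' = (σ ≫ F.neg.iT) * p := (hpts' _).2 (mul_mem (F.neg.neg.torus_mem σ) (F.neg.neg.up₁_le hp))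
    have e1 := hsemi f h₁ h₂ y q
    have e2 := hsemi f₀ hf₀U hf₀T x₀ q
    rw [hq] at e1 e2
    have e3 := hν x₀ σ p hp
    rw [e1]
    congr 1
    exact mul_right_cancel₀ hx₀ (e2.symm.trans e3)
  obtain ⟨c, hc⟩ := Submodule.mem_span_finset'.1 hf
  classical
  refine ⟨fun g => if hg : g ∈ s then c ⟨g, hg⟩ else 0, ?_⟩
  conv_lhs => rw [← hc]
  rw [← Finset.sum_coe_sort s]
  refine Finset.sum_congr rfl fun g _ => ?_
  dsimp only
  rw [dif_pos g.2, Algebra.smul_def]
  rfl

end Groth.Agent.S11242
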