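import Groth.Statements.S11243

-- import your own Groth.Agent.* helpers here

set_option autoImplicit false
universe u v w
open RootD

namespace Groth.Agent.S11243

/-- (b), for a connected group, as a statement about its root datum: let P be a finite reduced
crystallographic root pairing over ℤ with weight lattice M, and b a base of P (simple roots,
determining the positive roots). Then there is an additive map h : M → ℤ which is positive on every
positive root (so that h strictly increases along the dominance order) and non-negative on every
dominant weight, i.e. on every ω ∈ M pairing non-negatively with all simple coroots. (Part (c),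
invariance under the component group of a disconnected group, is not stated.) -/
theorem result {ι : Type u} {M : Type v} {N : Type w}
    [Fintype ι] [AddCommGroup M] [AddCommGroup N]
    (P : RootPairing ι ℤ M N) [P.IsReduced] [P.IsCrystallographic] (b : P.Base) :
    ∃ h : M →+ ℤ, (∀ i : ι, b.IsPos i → 0 < h (P.root i)) ∧
      ∀ ω : M, (∀ j ∈ b.support, 0 ≤ P.toLinearMap ω (P.coroot j)) → 0 ≤ h ω := by
  classical
  have hpair : ∀ a c, P.pairing a c = P.pairingIn ℤ a c := fun a c => by
    rw [← P.algebraMap_pairingIn ℤ]; simp
  have h2 : ∀ j ∈ b.support, ∑ i ∈ Finset.univ.filter (fun i => b.IsPos i), P.pairing j i = 2 := by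
    intro j hj
    have hjA : j ∈ Finset.univ.filter (fun i => b.IsPos i) :=
      Finset.mem_filter.2 ⟨Finset.mem_univ j, RootPairing.Base.isPos_of_mem_support hj⟩
    rw [← Finset.add_sum_erase _ _ hjA, P.pairing_same, add_eq_left]
    have hst : ∀ i ∈ (Finset.univ.filter fun i => b.IsPos i).erase j,
        P.reflectionPerm j i ∈ (Finset.univ.filter fun i => b.IsPos i).erase j := by
      intro i hi
      simp only [Finset.mem_erase, Finset.mem_filter, Finset.mem_univ, true_and] at hi ⊢
      refine ⟨fun e => ?_, hi.2.reflectionPerm hj hi.1⟩
      have : i = P.reflectionPerm j j := by rw [← P.reflectionPerm_self j i, e]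
      exact (RootPairing.Base.IsPos.neg_iff_not b j).1 (this ▸ hi.2 : b.IsPos (P.reflectionPerm j j))
        (RootPairing.Base.isPos_of_mem_support hj)
    have h1 : ∑ i ∈ (Finset.univ.filter fun i => b.IsPos i).erase j, P.pairing j i =
        ∑ i ∈ (Finset.univ.filter fun i => b.IsPos i).erase j, -P.pairing j i := by
      refine Finset.sum_nbij' (P.reflectionPerm j) (P.reflectionPerm j) hst hst
        (fun i _ => P.reflectionPerm_self j i) (fun i _ => P.reflectionPerm_self j i) fun i _ => ?_
      rw [eq_neg_iff_add_eq_zero, P.pairing_reflectionPerm j j i, P.pairing_reflectionPerm_self_left,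
        add_neg_cancel]
    rw [Finset.sum_neg_distrib] at h1
    omega
  have hnn : ∀ ω : M, (∀ j ∈ b.support, 0 ≤ P.toLinearMap ω (P.coroot j)) → ∀ (m : ℕ) (i : ι),
      b.IsPos i → (b.height i).toNat = m → 0 ≤ P.toLinearMap ω (P.coroot i) := by
    intro ω hω m
    induction m using Nat.strong_induction_on with
    | _ m ih =>
      intro i hi hm
      by_cases his : i ∈ b.support
      · exact hω i his
      obtain ⟨j, hj, hpos⟩ := hi.exists_mem_support_pos_pairingIn
      have hne : i ≠ j := fun e => his (e ▸ hj)
      have hpos' : 0 < P.pairingIn ℤ i j := (P.zero_lt_pairingIn_iff' ℤ).1 hpos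
      have hi' := hi.reflectionPerm hj hne
      have hh : b.height (P.reflectionPerm j i) = b.height i + (-P.pairingIn ℤ i j) • b.height j :=
        b.height_add_zsmul (by rw [P.root_reflectionPerm, neg_smul, P.reflection_apply_root' ℤ, sub_eq_add_neg])
      rw [RootPairing.Base.height_one_of_mem_support hj, smul_eq_mul, mul_one] at hh
      rw [RootPairing.Base.isPos_iff] at hi'
      have h1 := ih (b.height (P.reflectionPerm j i)).toNat (by omega) _
        (b.isPos_iff.2 hi') rfl
      rw [P.coroot_reflectionPerm, P.coreflection_apply, map_sub, map_smul, smul_eq_mul] at h1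
      have h3 : 0 ≤ P.root' j (P.coroot i) := le_of_lt (by
        change 0 < P.pairing j i
        rw [hpair]; exact hpos)
      have h4 := mul_nonneg h3 (hω j hj)
      linarith
  let h : M →+ ℤ := ∑ i ∈ Finset.univ.filter (fun i => b.IsPos i), (P.coroot' i).toAddMonoidHom
  have happ : ∀ x, h x = ∑ i ∈ Finset.univ.filter (fun i => b.IsPos i), P.toLinearMap x (P.coroot i) :=
    fun x => by simp [h, AddMonoidHom.finsetSum_apply, RootPairing.coroot']
  refine ⟨h, fun k hk => ?_, fun ω hω => ?_⟩
  · obtain ⟨f, -, -, hf⟩ := b.exists_root_eq_sum_int k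
    have hsum : h (P.root k) = ∑ j ∈ b.support, f j • h (P.root j) := by
      rw [hf, map_sum]; exact Finset.sum_congr rfl fun j _ => map_zsmul h _ _
    rw [hsum, Finset.sum_congr rfl fun j hj => show f j • h (P.root j) = f j * 2 by
      rw [happ, smul_eq_mul]; exact congrArg (f j * ·) (h2 j hj),
      ← Finset.sum_mul, ← RootPairing.Base.height_eq_sum hf]
    exact mul_pos hk two_pos
  · rw [happ]
    exact Finset.sum_nonneg fun i hi => hnn ω hω _ i (Finset.mem_filter.1 hi).2 rfl

end Groth.Agent.S11243
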