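import Groth.Statements.S11244
import Groth.Agent.Lib.TorPts21.OrbitSemicont
-- import your own Groth.Agent.* helpers here

set_option autoImplicit false
universe u
open CategoryTheory MonoidalCategory CartesianMonoidalCategory MonObj GrpObj AlgebraicGeometry
open scoped TensorProduct
open AGF

namespace Groth.Agent.S11244

/-- Let k be an algebraically closed field, G a linear algebraic group over k (affine, smooth) acting on
an irreducible variety X over k (reduced, separated, of finite type). For a rational point x of X
let dim G·x be the dimension of the closure of its orbit. Then for every r the set of rational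
points x with dim G·x ≤ r is closed: there is a closed subset Z of X whose rational points are
exactly those x. (The second assertion, that the points of maximal orbit dimension form a dense open
subset, follows.) -/
theorem result (k : Type u) [Field k] [IsAlgClosed k]
    (G : Over (Spec (CommRingCat.of k))) [GrpObj G] [IsAffine G.left] [Smooth G.hom]
    (X : Over (Spec (CommRingCat.of k))) [IrreducibleSpace ↥X.left] [IsReduced X.left]
    [IsSeparated X.hom] [LocallyOfFiniteType X.hom] [QuasiCompact X.hom]
    (a : AlgGrp.Action G X) (r : ℕ) :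
    ∃ Z : Set ↥X.left, IsClosed Z ∧
      ∀ x : 𝟙_ (Over (Spec (CommRingCat.of k))) ⟶ X,
        topologicalKrullDim ↥(closure (Set.range ⇑(a.orbitMap x).left.base)) ≤ (r : WithBot ℕ∞) ↔
          Set.range ⇑x.left.base ⊆ Z := by
  classical
  haveI : CompactSpace G.left := inferInstance
  haveI : QuasiCompact G.hom := (quasiCompact_iff_compactSpace G.hom).2 inferInstance
  haveI : LocallyOfFiniteType G.hom := inferInstance
  obtain ⟨N₀, hN₀⟩ := Groth.Agent.OrbitDim19.exists_bound (k := k) G.hom
  have hGtop : topologicalKrullDim ↥G.left ≤ (N₀ : WithBot ℕ∞) := by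
    rw [← (Homeomorph.Set.univ ↥G.left).isHomeomorph.topologicalKrullDim_eq,
      Groth.Agent.OrbitDim19.dim_eq_iSup G.hom isClosed_univ.isLocallyClosed]
    exact iSup_le fun z => Nat.cast_le.2 (hN₀ z)
  have hnat : ∀ d : WithBot ℕ∞, 0 ≤ d → d ≤ (N₀ : WithBot ℕ∞) → ∃ m : ℕ, d = m := by
    intro d h0 hd
    cases d with
    | bot => exact absurd h0 (by simp)
    | coe d =>
      have hd' : d ≤ (N₀ : ℕ∞) := WithBot.coe_le_coe.1 hd
      obtain ⟨m, rfl⟩ := WithTop.ne_top_iff_exists.1 (ne_top_of_le_ne_top (ENat.natCast_ne_top N₀) hd')
      exact ⟨m, rfl⟩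
  haveI : Nonempty ↥G.left := ⟨(η[G]).left (IsLocalRing.closedPoint k)⟩
  obtain ⟨N, hN⟩ := hnat _ Groth.Agent.TopDimLib.zero_le_dim hGtop
  by_cases hr : N ≤ r
  · refine ⟨Set.univ, isClosed_univ, fun x => iff_of_true ?_ (Set.subset_univ _)⟩
    rw [Groth.Agent.TorPts21.dim_closure_orbit]
    have h := Groth.Agent.OrbitDim19.dim_eq_orbit_add_stabilizer a x
    rw [hN] at h
    haveI : Nonempty ↥(Limits.pullback (a.orbitMap x).left x.left) := by
      have he : η[G] ≫ a.orbitMap x = x := by
        show η[G] ≫ lift (𝟙 G) (toUnit G ≫ x) ≫ a.act = x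
        rw [comp_lift_assoc, Category.comp_id, ← Category.assoc, toUnit_unique (η[G] ≫ toUnit G) (𝟙 _),
          Category.id_comp, show (η[G] : 𝟙_ (Over (Spec (CommRingCat.of k))) ⟶ G) = 1 by
            rw [Hom.one_def, toUnit_unique (toUnit _) (𝟙 (𝟙_ (Over (Spec (CommRingCat.of k))))), Category.id_comp]]
        exact Groth.Agent.AlgGrpBasic19.act_one a x
      exact ⟨(Limits.pullback.lift η[G].left (𝟙 _) (by rw [← Over.comp_left, he, Category.id_comp])).base
        (IsLocalRing.closedPoint k)⟩
    calc topologicalKrullDim ↥(Set.range (a.orbitMap x).left.base)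
        ≤ topologicalKrullDim ↥(Set.range (a.orbitMap x).left.base) +
          topologicalKrullDim ↥(Limits.pullback (a.orbitMap x).left x.left) :=
          le_add_of_nonneg_right Groth.Agent.TopDimLib.zero_le_dim
      _ = (N : WithBot ℕ∞) := h.symm
      _ ≤ (r : WithBot ℕ∞) := Nat.cast_le.2 hr
  · obtain ⟨Z, hZ, hZx⟩ := Groth.Agent.TorPts21.exists_closed_stab_gt a (N - r - 1)
    refine ⟨Z, hZ, fun x => ?_⟩
    have hrange : Set.range ⇑x.left.base = {x.left (IsLocalRing.closedPoint k)} :=
      Set.eq_singleton_iff_unique_mem.2 ⟨⟨_, rfl⟩, by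
        rintro _ ⟨w, rfl⟩; exact congrArg x.left (Subsingleton.elim (α := PrimeSpectrum k) w _)⟩
    rw [hrange, Set.singleton_subset_iff, hZx, Groth.Agent.TorPts21.dim_closure_orbit]
    have h := Groth.Agent.OrbitDim19.dim_eq_orbit_add_stabilizer a x
    rw [hN] at h
    generalize topologicalKrullDim ↥(Set.range (a.orbitMap x).left) = o at h ⊢
    generalize topologicalKrullDim ↥(Limits.pullback (a.orbitMap x).left x.left) = s at h ⊢
    cases o with
    | bot => simp at h
    | coe o =>
      cases s with
      | bot => simp at h
      | coe s =>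
        cases o with
        | top => exact absurd (WithBot.coe_inj.1 (h.trans (WithBot.coe_add _ _).symm)) (by simp)
        | coe o =>
          cases s with
          | top => exact absurd (WithBot.coe_inj.1 (h.trans (WithBot.coe_add _ _).symm)) (by simp)
          | coe s =>
            norm_cast at h ⊢
            have h2 : N = o + s := by exact_mod_cast h
            constructor
            · intro h3
              have h4 : o ≤ r := by exact_mod_cast h3
              intro h5
              have h6 : s ≤ N - r - 1 := by exact_mod_cast h5
              omega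
            · intro h3
              have h4 : o ≤ r := by
                by_contra h5
                exact h3 (by exact_mod_cast (show s ≤ N - r - 1 by omega))
              exact_mod_cast h4

end Groth.Agent.S11244
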