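import Groth.Statements.S11245
import Groth.Agent.Lib.GModComod21.Semisimple
import Groth.Agent.Lib.UMod21.General
-- import your own Groth.Agent.* helpers here

set_option autoImplicit false
universe u
open CategoryTheory MonoidalCategory CartesianMonoidalCategory MonObj GrpObj AlgebraicGeometry
open scoped TensorProduct
open AGF

namespace Groth.Agent.S11245

/-- Let k be an algebraically closed field of characteristic zero, G a linear algebraic group over k
(affine, smooth) whose identity component is reductive, B a Borel subgroup with unipotent radical U.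
Then every rational G-module V equals G·V^U, the intersection of all G-stable subspaces of V
containing the U-invariants V^U. (In characteristic zero every finite-dimensional rational G-module
is completely reducible, a classical result on which the proof rests.) -/
theorem result (k : Type u) [Field k] [IsAlgClosed k] [CharZero k]
    (G : Over (Spec (CommRingCat.of k))) [GrpObj G] (hG : VecGrp.IsReductiveGrp k G)
    (Bo : Over (Spec (CommRingCat.of k))) [GrpObj Bo] (iB : Bo ⟶ G) (hB : Red.IsBorelOver k iB)
    (U : Over (Spec (CommRingCat.of k))) [GrpObj U] (u : U ⟶ Bo) (hU : Par.IsUnipotentRadical u)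
    (V : Type u) [AddCommGroup V] [Module k V] (ρ : VecGrp.GMod G V) :
    sInf {W : Submodule k V | ρ.fixedUnder (u ≫ iB) ≤ W ∧ ρ.IsStable (𝟙 G) W} = ⊤ := by
  set W := sInf {W : Submodule k V | ρ.fixedUnder (u ≫ iB) ≤ W ∧ ρ.IsStable (𝟙 G) W} with hWdef
  obtain ⟨G₀, _, j, l, hj, hG₀, hl₀, hl⟩ := UMod21.exists_component hG hB
  haveI := hj
  haveI := hG₀.1
  haveI := hG₀.2.1
  haveI := hG₀.2.2.1
  haveI := hG.1
  haveI := hl₀.1
  haveI := hl₀.2.1
  haveI : IsAffine Bo.left := isAffine_of_isAffineHom l.left
  obtain ⟨hum, huc, -, hus, -, hucn, hU0, -⟩ := (TorPts21.isUnipotentRadical_iff u).1 hU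
  haveI := hum
  haveI := huc
  haveI := hus
  haveI := hucn
  haveI : IsAffine U.left := isAffine_of_isAffineHom u.left
  let ρ₀ : VecGrp.GMod G₀ V := UInvFG21.resMod ρ j
  have hfix : ρ₀.fixedUnder (u ≫ l) = ρ.fixedUnder (u ≫ iB) := by
    refine Submodule.ext fun a => forall_congr' fun B => forall_congr' fun _ => forall_congr' fun _ =>
      forall_congr' fun h => ?_
    show ρ.ρ B ((h ≫ u ≫ l) ≫ j) _ = _ ↔ ρ.ρ B (h ≫ u ≫ iB) _ = _
    rw [Category.assoc, Category.assoc, hl]
  have hWst : ∀ (g : VecGrp.pt k k ⟶ G₀), ∀ w ∈ W, InvRing21.ptAct ρ₀ g w ∈ W := fun g w hw => by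
    refine (Submodule.mem_sInf).2 fun S hS => ?_
    have h1 := hS.2 k (g ≫ j) w ((Submodule.mem_sInf).1 hw S hS)
    rw [Category.comp_id] at h1
    have h2 : ∀ z ∈ S.baseChange k, TensorProduct.lid k V z ∈ S := fun z hz => by
      obtain ⟨y, rfl⟩ := hz
      induction y using TensorProduct.induction_on with
      | zero => simp only [map_zero]; exact S.zero_mem
      | tmul b x =>
        rw [LinearMap.baseChange_tmul, TensorProduct.lid_tmul]
        exact S.smul_mem _ x.2
      | add p q hp hq => simp only [map_add]; exact S.add_mem hp hq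
    exact h2 _ h1
  refine eq_top_iff.2 fun v _ => ?_
  obtain ⟨V', hV'f, hvV', hV'⟩ := UMod21.exists_finite_stableSub ρ₀ {v}
  haveI := hV'f
  obtain ⟨σ, hσ⟩ := GrassAct21.exists_subMod ρ₀ V' hV'
  have hσpt : ∀ (g : VecGrp.pt k k ⟶ G₀) (a : V'), (InvRing21.ptAct σ g a).1 = InvRing21.ptAct ρ₀ g a.1 := fun g a => by
    have := congrArg (TensorProduct.lid k V) (hσ k g ((1 : k) ⊗ₜ[k] a))
    rw [GrassAct21.lid_baseChange, LinearMap.baseChange_tmul] at this
    exact this
  obtain ⟨P, hc, hP⟩ := GModComod21.exists_stable_compl hG₀ σ (W.comap V'.subtype) fun g w hw => by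
    show (InvRing21.ptAct σ g w).1 ∈ W
    rw [hσpt]
    exact hWst g _ hw
  rcases eq_or_ne P ⊥ with rfl | hne
  · have := hc.sup_eq_top
    rw [sup_bot_eq] at this
    have h : (⟨v, hvV' v (Finset.mem_singleton_self v)⟩ : V') ∈ W.comap V'.subtype := this ▸ Submodule.mem_top
    exact h
  · exfalso
    obtain ⟨x, hx, hx0, hxf⟩ := UMod21.exists_fixed_of_stable ρ₀ hU0 (u ≫ l) (W := P.map V'.subtype)
      (fun h w hw => by
        obtain ⟨a, ha, rfl⟩ := hw
        exact ⟨_, hP (h ≫ u ≫ l) a ha, hσpt _ a⟩)
      (by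
        exact fun e => hne (Submodule.map_injective_of_injective V'.injective_subtype (e.trans (Submodule.map_bot _).symm)))
    obtain ⟨a, ha, rfl⟩ := hx
    have haW : a ∈ W.comap V'.subtype := by
      refine (Submodule.mem_sInf).2 fun S hS => hS.1 ?_
      rw [← hfix]
      exact hxf
    exact hx0 (congrArg Subtype.val ((Submodule.disjoint_def.1 hc.disjoint) a haW ha))

end Groth.Agent.S11245
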