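import Groth.Statements.S11246
import Groth.Agent.Lib.UMod21.Weights
import Groth.Agent.Lib.InvRing21.Extend
-- import your own Groth.Agent.* helpers here

set_option autoImplicit false
universe u
open CategoryTheory MonoidalCategory CartesianMonoidalCategory MonObj GrpObj AlgebraicGeometry
open scoped TensorProduct
open AGF

namespace Groth.Agent.S11246

/-- Let k be an algebraically closed field and H a connected solvable linear algebraic group over k
(affine, smooth, connected, solvable) with maximal torus T and unipotent radical U (so H = T·U),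
acting rationally by algebra automorphisms on a commutative k-algebra A which is an integral domain.
Let χ be a character of H and let a₀, b₀ ∈ A, b₀ ≠ 0, be such that H acts on the fraction a₀/b₀
through χ: (h·a₀)·b₀ = χ(h)·a₀·(h·b₀) for every point h of H. Then there are U-invariant elements a,
b ∈ A with b ≠ 0 and a·b₀ = b·a₀ (so a₀/b₀ = a/b), and a character θ of T such that b is a
T-semi-invariant of weight θ and a is a T-semi-invariant of weight θ + χ|_T. -/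
theorem result (k : Type u) [Field k] [IsAlgClosed k]
    (H : Over (Spec (CommRingCat.of k))) [GrpObj H] [IsAffine H.left] [Smooth H.hom] [ConnectedSpace H.left]
    (hsolv : Red.IsSolvableGrp H)
    (T : Over (Spec (CommRingCat.of k))) [GrpObj T] (iT : T ⟶ H) [IsMonHom iT] (hT : AGF.IsMaxTorus iT)
    (U : Over (Spec (CommRingCat.of k))) [GrpObj U] (uH : U ⟶ H) (hU : Par.IsUnipotentRadical uH)
    (χ : H ⟶ Red.Gm (Spec (CommRingCat.of k))) [IsMonHom χ]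
    (A : Type u) [CommRing A] [IsDomain A] [Algebra k A] (ρ : VecGrp.GMod H A) (hρ : ρ.IsMult)
    (a₀ b₀ : A) (hb₀ : b₀ ≠ 0)
    (hχ : ∀ (B : Type u) [CommRing B] [Algebra k B] (h : VecGrp.pt k B ⟶ H),
      ρ.ρ B h ((1 : B) ⊗ₜ[k] a₀) * ((1 : B) ⊗ₜ[k] b₀) =
        VecGrp.chiVal χ h • (((1 : B) ⊗ₜ[k] a₀) * ρ.ρ B h ((1 : B) ⊗ₜ[k] b₀))) :
    ∃ a b : A, a ∈ ρ.fixedUnder uH ∧ b ∈ ρ.fixedUnder uH ∧ b ≠ 0 ∧ a * b₀ = b * a₀ ∧
      ∃ θ : T ⟶ Red.Gm (Spec (CommRingCat.of k)), IsMonHom θ ∧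
        (∀ (B : Type u) [CommRing B] [Algebra k B] (t : VecGrp.pt k B ⟶ T),
          ρ.ρ B (t ≫ iT) ((1 : B) ⊗ₜ[k] b) = VecGrp.chiVal θ t • ((1 : B) ⊗ₜ[k] b)) ∧
        (∀ (B : Type u) [CommRing B] [Algebra k B] (t : VecGrp.pt k B ⟶ T),
          ρ.ρ B (t ≫ iT) ((1 : B) ⊗ₜ[k] a) =
            (VecGrp.chiVal θ t * VecGrp.chiVal χ (t ≫ iT)) • ((1 : B) ⊗ₜ[k] a)) := by
  classical
  letI := InvRing21.gamAlg (k := k) H
  letI := InvRing21.gamAlg (k := k) T
  letI := InvRing21.gamAlg (k := k) U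
  haveI := hT.2.1
  obtain ⟨hTa, hTs, hTn, -⟩ := TorPts21.props_of_isTorus hT.2.2.1
  haveI := hTa
  haveI := hTs
  obtain ⟨d, ⟨C⟩⟩ := TorPts21.exists_chars hT.2.2.1
  obtain ⟨hum, huc, hun, hus, -, hucn, hU0, -⟩ := (TorPts21.isUnipotentRadical_iff uH).1 hU
  haveI := hum
  haveI := huc
  haveI := hus
  haveI := hucn
  haveI : IsAffine U.left := isAffine_of_isAffineHom uH.left
  let cv : (VecGrp.pt k k ⟶ H) → k := fun g => InvRing21.val g (Red.gmFn χ)
  have hcv : ∀ g g', cv (g * g') = cv g * cv g' := fun g g' => InvRing21.val_gmFn_mul χ g g'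
  have hcv1 : cv 1 = 1 := InvRing21.val_gmFn_one χ
  have hcv0 : ∀ g, cv g ≠ 0 := fun g e => by
    have h := hcv g g⁻¹
    rw [mul_inv_cancel, hcv1, e, MulZeroClass.zero_mul] at h
    exact one_ne_zero h
  have hcvU : ∀ x : VecGrp.pt k k ⟶ U, cv (x ≫ uH) = 1 := fun x => by
    show InvRing21.val (x ≫ uH) (Red.gmFn χ) = 1
    rw [← InvRing21.appTop_val]
    refine TorPts21.eq_one_of_char hU0 _ (fun p q => ?_) (fun p => ?_) x
    · rw [InvRing21.appTop_val, InvRing21.appTop_val, InvRing21.appTop_val, MonObj.mul_comp]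
      exact hcv _ _
    · rw [InvRing21.appTop_val]
      exact hcv0 _
  have hmul : ∀ (g : VecGrp.pt k k ⟶ H) (x y : A),
      InvRing21.ptAct ρ g (x * y) = InvRing21.ptAct ρ g x * InvRing21.ptAct ρ g y :=
    fun g x y => map_mul (UInvFG21.ptAlg hρ g) x y
  have hinv' : ∀ g : VecGrp.pt k k ⟶ H,
      InvRing21.ptAct ρ g a₀ * b₀ = cv g • (a₀ * InvRing21.ptAct ρ g b₀) := fun g => by
    have h := congrArg (TensorProduct.lid k A) (hχ k g)
    rw [UInvFG21.rho_tmul, UInvFG21.rho_tmul, Algebra.TensorProduct.tmul_mul_tmul,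
      Algebra.TensorProduct.tmul_mul_tmul, InvRing21.chiVal_eq_val] at h
    simpa using h
  let I : Submodule k A :=
    { carrier := {b | ∃ a, a * b₀ = b * a₀}
      zero_mem' := ⟨0, by simp⟩
      add_mem' := fun {p q} ⟨a, ha⟩ ⟨a', ha'⟩ => ⟨a + a', by rw [add_mul, add_mul, ha, ha']⟩
      smul_mem' := fun c p ⟨a, ha⟩ => ⟨c • a, by rw [smul_mul_assoc, smul_mul_assoc, ha]⟩ }
  have key : ∀ (g : VecGrp.pt k k ⟶ H) (a b : A), a * b₀ = b * a₀ →
      InvRing21.ptAct ρ g a * b₀ = cv g • (InvRing21.ptAct ρ g b * a₀) := fun g a b hab => by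
    have hne : InvRing21.ptAct ρ g b₀ ≠ 0 := fun e => hb₀ (by
      rw [← UInvFG21.ptAct_one ρ b₀, ← inv_mul_cancel g, UInvFG21.ptAct_mul, e]
      exact map_zero (UInvFG21.ptAlg hρ g⁻¹))
    refine mul_right_cancel₀ hne ?_
    have h := congrArg (InvRing21.ptAct ρ g) hab
    rw [hmul, hmul] at h
    calc InvRing21.ptAct ρ g a * b₀ * InvRing21.ptAct ρ g b₀
        = InvRing21.ptAct ρ g a * InvRing21.ptAct ρ g b₀ * b₀ := by ring
      _ = InvRing21.ptAct ρ g b * (InvRing21.ptAct ρ g a₀ * b₀) := by rw [h]; ring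
      _ = cv g • (InvRing21.ptAct ρ g b * a₀) * InvRing21.ptAct ρ g b₀ := by
        rw [hinv', mul_smul_comm, smul_mul_assoc, _root_.mul_assoc]
  have hIst : ∀ g, ∀ b ∈ I, InvRing21.ptAct ρ g b ∈ I := fun g b ⟨a, hab⟩ =>
    ⟨(cv g)⁻¹ • InvRing21.ptAct ρ g a, by
      rw [smul_mul_assoc, key g a b hab, smul_smul, inv_mul_cancel₀ (hcv0 g), one_smul]⟩
  obtain ⟨b₁, hb₁, hb₁0, hb₁f⟩ := UMod21.exists_fixed_of_stable ρ hU0 uH (W := I)
    (fun h b hb => hIst _ b hb) (fun e => hb₀ ((Submodule.eq_bot_iff I).1 e b₀ ⟨a₀, _root_.mul_comm a₀ b₀⟩))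
  obtain ⟨ω, hω⟩ : ∃ ω, UMod21.wc iT C ρ b₁ ω ≠ 0 := by
    by_contra! h
    exact hb₁0 (by rw [← UMod21.sum_wc iT C ρ b₁]; exact Finset.sum_eq_zero fun ν _ => h ν)
  set b := UMod21.wc iT C ρ b₁ ω with hbdef
  have hW : b ∈ I ⊓ ρ.fixedUnder uH := UMod21.wc_mem iT C ρ (W := I ⊓ ρ.fixedUnder uH) (fun τ => ⟨hIst _ _ hb₁,
    UInvFG21.mem_fixedUnder_of_points ρ fun x => by
      obtain ⟨x', hx'⟩ := hun _ (τ ≫ iT)⁻¹ x
      rw [_root_.inv_inv] at hx'
      rw [← UInvFG21.ptAct_mul, show (x ≫ uH) * (τ ≫ iT) = (τ ≫ iT) * (x' ≫ uH) by rw [← hx']; group,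
        UInvFG21.ptAct_mul, UInvFG21.ptAct_eq_of_fixed ρ hb₁f x']⟩) ω
  obtain ⟨⟨a, hab⟩, hbf⟩ := hW
  have hbT : ∀ τ, InvRing21.ptAct ρ (τ ≫ iT) b = TorPts21.ptChr C τ ω • b := fun τ => UMod21.act_wc iT C ρ b₁ ω τ
  have haT : ∀ τ, InvRing21.ptAct ρ (τ ≫ iT) a = (TorPts21.ptChr C τ ω * cv (τ ≫ iT)) • a := fun τ =>
    mul_right_cancel₀ hb₀ (by
      rw [key _ a b hab, hbT, smul_mul_assoc, smul_mul_assoc, ← hab, smul_smul, _root_.mul_comm (cv _)])
  obtain ⟨ξ, hξ⟩ : ∃ ξ : Module.Dual k A, ξ b = 1 := by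
    obtain ⟨ξ, hξ⟩ : ∃ ξ : Module.Dual k A, ξ b ≠ 0 := by
      by_contra! h
      exact hω ((Module.forall_dual_apply_eq_zero_iff k b).1 h)
    exact ⟨(ξ b)⁻¹ • ξ, by rw [LinearMap.smul_apply, smul_eq_mul, inv_mul_cancel₀ hξ]⟩
  let w : Γ(T.left, ⊤) := iT.left.appTop (InvRing21.coef ρ ξ b)
  have hw : ∀ τ, InvRing21.val τ w = TorPts21.ptChr C τ ω := fun τ => by
    rw [InvRing21.appTop_val, UMod21.val_coef, hbT, map_smul, hξ, smul_eq_mul, _root_.mul_one]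
  obtain ⟨θ, hθm, hθ⟩ := InvRing21.exists_char w (by rw [hw, UMod21.ptChr_one])
    fun x y => by rw [hw, hw, hw, TorPts21.ptChr_mul]
  obtain ⟨θ', hθ'm, hθ'⟩ := InvRing21.exists_char (w * iT.left.appTop (Red.gmFn χ))
    (by
      rw [map_mul, hw, UMod21.ptChr_one, InvRing21.appTop_val, MonObj.one_comp]
      exact (_root_.one_mul _).trans hcv1)
    fun x y => by
      rw [map_mul, map_mul, map_mul, hw, hw, hw, TorPts21.ptChr_mul, InvRing21.appTop_val, InvRing21.appTop_val,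
        InvRing21.appTop_val, MonObj.mul_comp, InvRing21.val_gmFn_mul]
      ring
  haveI := hθm
  haveI := hθ'm
  have hall : ∀ (η' : T ⟶ Red.Gm (Spec (CommRingCat.of k))) [IsMonHom η'] (v : A),
      (∀ τ, InvRing21.ptAct ρ (τ ≫ iT) v = InvRing21.val τ (Red.gmFn η') • v) →
      ∀ (B : Type u) [CommRing B] [Algebra k B] (t : VecGrp.pt k B ⟶ T),
        ρ.ρ B (t ≫ iT) ((1 : B) ⊗ₜ[k] v) = InvRing21.val t (Red.gmFn η') • ((1 : B) ⊗ₜ[k] v) := by
    intro η' _ v hv B _ _ t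
    let Φ : (PUnit.{u + 1} → k) →ₗ[k] A := (LinearMap.proj PUnit.unit).smulRight v
    have hp : ∀ (h : VecGrp.pt k k ⟶ T) (z : PUnit.{u + 1} → k),
        Φ.baseChange k ((InvRing21.charMod η').ρ k h (1 ⊗ₜ[k] z)) = ρ.ρ k (h ≫ iT) (1 ⊗ₜ[k] Φ z) := fun h z => by
      rw [InvRing21.charMod_one_tmul, map_smul, LinearMap.baseChange_tmul, UInvFG21.rho_tmul]
      show _ = (1 : k) ⊗ₜ[k] InvRing21.ptAct ρ (h ≫ iT) (z PUnit.unit • v)
      rw [← UMod21.actLin_apply, map_smul, UMod21.actLin_apply, hv, ← TensorProduct.tmul_smul]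
      congr 1
      show InvRing21.val h (Red.gmFn η') • z PUnit.unit • v = _
      rw [smul_comm]
    have h1 := InvRing21.intertwine_of_points (i := iT) (InvRing21.charMod η') ρ Φ hp B t ((1 : B) ⊗ₜ[k] fun _ => 1)
    rw [InvRing21.charMod_one_tmul, map_smul, LinearMap.baseChange_tmul] at h1
    simpa [Φ] using h1.symm
  refine ⟨a, b, UInvFG21.mem_fixedUnder_of_points ρ fun x => mul_right_cancel₀ hb₀ (by
    rw [key _ a b hab, UInvFG21.ptAct_eq_of_fixed ρ hbf x, hcvU, one_smul, hab]), hbf, hω, hab, θ, hθm,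
    fun B _ _ t => ?_, fun B _ _ t => ?_⟩
  · rw [InvRing21.chiVal_eq_val]
    exact hall θ b (fun τ => by rw [hθ, hw, hbT]) B t
  · rw [InvRing21.chiVal_eq_val, InvRing21.chiVal_eq_val, ← InvRing21.appTop_val, ← map_mul, hθ, ← hθ']
    exact hall θ' a (fun τ => by rw [hθ', map_mul, hw, InvRing21.appTop_val]; exact haT τ) B t

end Groth.Agent.S11246
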