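import Groth.Statements.S11248
import Groth.Agent.S11208
import Groth.Agent.S11225
import Groth.Agent.Lib.UInvFG21.Overgroup
-- import your own Groth.Agent.* helpers here

set_option autoImplicit false
universe u
open CategoryTheory MonoidalCategory CartesianMonoidalCategory MonObj GrpObj AlgebraicGeometry
open scoped TensorProduct
open AGF

namespace Groth.Agent.S11248

/-- Let k be an algebraically closed field, G a linear algebraic group over k (affine, smooth) acting
rationally by algebra automorphisms on a commutative k-algebra A, H a smooth closed subgroup of G,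
and L a smooth closed subgroup of G whose identity component is reductive and which normalizes H;
let B_L be a Borel subgroup of L and U(L) its unipotent radical (a maximal unipotent subgroup of L).
Assume finite generation of invariants of reductive groups over k on finitely generated algebras (a
true result which the published text assumes without proof, carried here as a hypothesis). Then A^H
is a finitely generated k-algebra exactly when the algebra of invariants of H·U(L), namely A^H ∩
A^{U(L)}, is finitely generated over k. -/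
theorem result (k : Type u) [Field k] [IsAlgClosed k]
    (G : Over (Spec (CommRingCat.of k))) [GrpObj G] [IsAffine G.left] [Smooth G.hom]
    (H : Over (Spec (CommRingCat.of k))) [GrpObj H] [Smooth H.hom] (i : H ⟶ G) [IsMonHom i] [IsClosedImmersion i.left]
    (L : Over (Spec (CommRingCat.of k))) [GrpObj L] (j : L ⟶ G) [IsMonHom j] [IsClosedImmersion j.left]
    (hL : VecGrp.IsReductiveGrp k L)
    (hnorm : ∀ (X : Over (Spec (CommRingCat.of k))) (l : X ⟶ L) (h : X ⟶ H),
      ∃ h' : X ⟶ H, (l ≫ j) * (h ≫ i) * (l ≫ j)⁻¹ = h' ≫ i)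
    (BL : Over (Spec (CommRingCat.of k))) [GrpObj BL] (iBL : BL ⟶ L) (hBL : Red.IsBorelOver k iBL)
    (UL : Over (Spec (CommRingCat.of k))) [GrpObj UL] (uL : UL ⟶ BL) (hUL : Par.IsUnipotentRadical uL)
    (thmA : VecGrp.ReductiveInvariantsFG k)
    (A : Type u) [CommRing A] [Algebra k A] (ρ : VecGrp.GMod G A) (hρ : ρ.IsMult) :
    Algebra.FiniteType k ↥(ρ.fixedSubalgebra hρ i) ↔
      Algebra.FiniteType k ↥(ρ.fixedSubalgebra hρ i ⊓ ρ.fixedSubalgebra hρ (uL ≫ iBL ≫ j)) := by
  haveI := hL.1
  haveI := hL.2.1
  haveI : IsAffine H.left := isAffine_of_isAffineHom i.left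
  obtain ⟨hm, hcl, hs, hn, -, -⟩ := id hBL
  haveI := hm
  haveI := hcl
  obtain ⟨hum, huc, -, hus, -⟩ := id hUL
  haveI := hum
  haveI := huc
  haveI := hus
  haveI : IsAffine BL.left := isAffine_of_isAffineHom iBL.left
  haveI : IsAffine UL.left := isAffine_of_isAffineHom uL.left
  let R := ρ.fixedSubalgebra hρ i
  have hfix : ∀ (a : A), a ∈ R → ∀ h : VecGrp.pt k k ⟶ H, InvRing21.ptAct ρ (h ≫ i) a = a :=
    fun a ha h => UInvFG21.ptAct_eq_of_fixed ρ ha h
  obtain ⟨σ, hσ, hσe⟩ := UInvFG21.exists_subalgMod (UInvFG21.resMod_isMult hρ j) R (fun g a ha =>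
    UInvFG21.mem_fixedUnder_of_points ρ fun h => by
      rw [UInvFG21.ptAct_resMod]
      obtain ⟨h', hh'⟩ := hnorm _ g⁻¹ h
      rw [GrpObj.inv_comp, _root_.inv_inv] at hh'
      rw [← UInvFG21.ptAct_mul, show (h ≫ i) * (g ≫ j) = (g ≫ j) * (h' ≫ i) by rw [← hh']; group,
        UInvFG21.ptAct_mul, hfix a ha h'])
  have hmap : (σ.fixedSubalgebra hσ (uL ≫ iBL)).map R.val = R ⊓ ρ.fixedSubalgebra hρ (uL ≫ iBL ≫ j) := by
    ext a
    constructor
    · rintro ⟨x, hx, rfl⟩
      refine Algebra.mem_inf.2 ⟨x.2, UInvFG21.mem_fixedUnder_of_points ρ fun h => ?_⟩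
      have := congrArg Subtype.val (UInvFG21.ptAct_eq_of_fixed σ hx h)
      rw [hσe, UInvFG21.ptAct_resMod, Category.assoc, Category.assoc] at this
      exact this
    · intro ha
      obtain ⟨ha₁, ha₂⟩ := Algebra.mem_inf.1 ha
      refine ⟨⟨a, ha₁⟩, UInvFG21.mem_fixedUnder_of_points σ fun h => Subtype.ext ?_, rfl⟩
      rw [hσe, UInvFG21.ptAct_resMod, Category.assoc, Category.assoc]
      exact UInvFG21.ptAct_eq_of_fixed ρ ha₂ h
  have e := ((σ.fixedSubalgebra hσ (uL ≫ iBL)).equivMapOfInjective R.val Subtype.val_injective).trans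
    (Subalgebra.equivOfEq _ _ hmap)
  constructor
  · intro hA
    haveI : Algebra.FiniteType k R := hA
    exact (Groth.Agent.S11208.result k L hL BL iBL hBL UL uL hUL thmA R σ hσ).equiv e
  · intro hA
    exact Groth.Agent.S11225.result k L hL BL iBL hBL UL uL hUL thmA R σ hσ (hA.equiv e.symm)

end Groth.Agent.S11248
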