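import Groth.Statements.S11249
import Groth.Agent.Lib.SMT.Idx
import Mathlib.LinearAlgebra.Matrix.Rank
import Mathlib.LinearAlgebra.Matrix.NonsingularInverse
import Mathlib.LinearAlgebra.Dimension.StrongRankCondition
import Mathlib.LinearAlgebra.Matrix.ToLin

set_option autoImplicit false
universe u
open W4bk4grassmannian

namespace Groth.Agent.S11249

open W4bk4grassmannian in
open W4bk4grassmannian MvPolynomial

theorem det_prop {K : Type u} [Field K] {d n : ℕ} (A A' : Matrix (Fin n) (Fin d) K) (c : K)
    (h : ∀ θ : Idx d n, (A.submatrix θ.1 id).det = c * (A'.submatrix θ.1 id).det) (a : Fin d → Fin n) :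
    (A.submatrix a id).det = c * (A'.submatrix a id).det := by
  rw [← Groth.Agent.SMT.aeval_coord (K := K) A a, ← Groth.Agent.SMT.aeval_coord (K := K) A' a, coord]
  split_ifs with hc
  · simp only [map_mul, map_pow, map_neg, map_one, MvPolynomial.aeval_X, h]
    ring
  · simp

/-- Injectivity of the Plücker map, in matrix form: let K be a field, A and A' two n × d matrices over K
with linearly independent columns, and suppose there is a nonzero scalar c with det A_θ = c · det
A'_θ for every strictly increasing d-tuple θ of row indices (A_θ the d × d submatrix on the rows θ).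
Then the columns of A and of A' span the same subspace of K^n. (The published statement is over an
algebraically closed field; this row allows any field K.) -/
theorem result (K : Type u) [Field K] (d n : ℕ)
    (A A' : Matrix (Fin n) (Fin d) K) (hA : LinearIndependent K A.transpose)
    (hA' : LinearIndependent K A'.transpose) (c : K) (hc : c ≠ 0)
    (h : ∀ θ : Idx d n, (A.submatrix θ.1 id).det = c * (A'.submatrix θ.1 id).det) :
    Submodule.span K (Set.range A.transpose) = Submodule.span K (Set.range A'.transpose) := by
  classical
  -- rows with a nonzero minor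
  have hspan : Submodule.span K (Set.range A') = ⊤ := by
    refine Submodule.eq_top_of_finrank_eq ?_
    have h1 := LinearIndependent.rank_matrix (M := A'.transpose) hA'
    rw [Matrix.rank_transpose] at h1
    change Module.finrank K (Submodule.span K (Set.range A'.row)) = _
    rw [← Matrix.rank_eq_finrank_span_row, h1, Fintype.card_fin, Module.finrank_fin_fun]
  obtain ⟨f, hf, -, hli⟩ := Submodule.exists_fun_fin_finrank_span_eq K (Set.range A')
  have hd' : Module.finrank K (Submodule.span K (Set.range A')) = d := by
    rw [hspan, finrank_top, Module.finrank_fin_fun]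
  choose a ha using hf
  let a₀ : Fin d → Fin n := fun i => a (Fin.cast hd'.symm i)
  have hM' : (A'.submatrix a₀ id).det ≠ 0 := by
    rw [← isUnit_iff_ne_zero, ← Matrix.isUnit_iff_isUnit_det, ← Matrix.linearIndependent_rows_iff_isUnit]
    have : (A'.submatrix a₀ id).row = f ∘ Fin.cast hd'.symm := funext fun i => ha _
    rw [this]
    exact hli.comp _ (Fin.cast_injective _)
  have hM : (A.submatrix a₀ id).det ≠ 0 := by
    rw [det_prop A A' c h]; exact mul_ne_zero hc hM'
  set M := A.submatrix a₀ id
  set M' := A'.submatrix a₀ id
  have key : A * M⁻¹ = A' * M'⁻¹ := by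
    ext s i
    have cram : ∀ (B : Matrix (Fin n) (Fin d) K), (B.submatrix a₀ id).det ≠ 0 →
        (B.submatrix (Function.update a₀ i s) id).det =
          (B * (B.submatrix a₀ id)⁻¹) s i * (B.submatrix a₀ id).det := by
      intro B hB
      have hrow : B.submatrix (Function.update a₀ i s) id = (B.submatrix a₀ id).updateRow i
          (∑ k, (B * (B.submatrix a₀ id)⁻¹) s k • (B.submatrix a₀ id) k) := by
        ext x y
        by_cases hx : x = i
        · subst hx
          rw [Matrix.updateRow_self, Matrix.submatrix_apply, Function.update_self, Finset.sum_apply]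
          have : (B * (B.submatrix a₀ id)⁻¹ * (B.submatrix a₀ id)) s y = B s y := by
            rw [Matrix.mul_assoc, Matrix.nonsing_inv_mul _ (isUnit_iff_ne_zero.2 hB), Matrix.mul_one]
          rw [id, ← this, Matrix.mul_apply]
          rfl
        · rw [Matrix.updateRow_ne hx, Matrix.submatrix_apply, Function.update_of_ne hx]
          rfl
      rw [hrow, Matrix.det_updateRow_sum, smul_eq_mul]
    have h1 := cram A hM
    rw [det_prop A A' c h (Function.update a₀ i s), cram A' hM', det_prop A A' c h a₀] at h1
    have h2 : (A' * M'⁻¹) s i * (c * M'.det) = (A * M⁻¹) s i * (c * M'.det) := by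
      rw [← h1]; ring
    exact (mul_right_cancel₀ (mul_ne_zero hc hM') h2).symm
  have sub : ∀ (B B' : Matrix (Fin n) (Fin d) K) (N : Matrix (Fin d) (Fin d) K), B = B' * N →
      Submodule.span K (Set.range B.transpose) ≤ Submodule.span K (Set.range B'.transpose) := by
    intro B B' N hB
    rw [Submodule.span_le]
    rintro _ ⟨j, rfl⟩
    rw [SetLike.mem_coe, show B.transpose j = ∑ k, N k j • B'.transpose k by
      ext s; simp [hB, Matrix.mul_apply, mul_comm]]
    exact Submodule.sum_mem _ fun k _ => Submodule.smul_mem _ _ (Submodule.subset_span ⟨k, rfl⟩)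
  refine le_antisymm (sub A A' (M'⁻¹ * M) ?_) (sub A' A (M⁻¹ * M') ?_)
  · rw [← Matrix.mul_assoc, ← key, Matrix.mul_assoc, Matrix.nonsing_inv_mul _ (isUnit_iff_ne_zero.2 hM),
      Matrix.mul_one]
  · rw [← Matrix.mul_assoc, key, Matrix.mul_assoc, Matrix.nonsing_inv_mul _ (isUnit_iff_ne_zero.2 hM'),
      Matrix.mul_one]

end Groth.Agent.S11249
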