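import Groth.Statements.S11251
import Groth.Agent.Lib.SMT.Span
import Groth.Agent.Lib.SMT.Basis

set_option autoImplicit false
universe u
open W4bk4grassmannian

namespace Groth.Agent.S11251

open W4bk4grassmannian in
/-- Let K be a commutative ring, d, n natural numbers, S = K[X_θ : θ ∈ I(d,n)] the Plücker polynomial
ring on the strictly increasing maps Fin d → Fin n (ordered entrywise), and I ⊆ S the ideal
generated by the quadratic shuffle relations at pivots. Then the classes in S/I of the standard
monomials, the products X_{τ_1} ⋯ X_{τ_m} over all m ≥ 0 and all chains τ_1 ≥ ⋯ ≥ τ_m, span S/I as a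
K-module. (The published statement is over an algebraically closed field; this row allows any
commutative ring K, the straightening argument being formal.) -/
theorem result (K : Type u) [CommRing K] (d n : ℕ) :
    Submodule.span K (Set.range fun c : (Σ m : ℕ, {c : Fin m → Idx d n // Antitone c}) =>
        Ideal.Quotient.mk (plIdealTop (d := d) (n := n) K) (chainMon K c.2.1)) = ⊤ := by
  exact Groth.Agent.SMT.chains_span (Ideal.Quotient.mkₐ K _) (Ideal.Quotient.mkₐ_surjective K _)
    (Groth.Agent.SMT.hasStraightening_of_shuffle _ fun i j r h => Ideal.Quotient.eq_zero_iff_mem.2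
      (Ideal.subset_span ⟨i, j, r, h, rfl⟩))

end Groth.Agent.S11251
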