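import Groth.Statements.S11252
import Groth.Agent.Lib.SMT.Basis

set_option autoImplicit false
universe u
open W4bk4grassmannian

namespace Groth.Agent.S11252

open W4bk4grassmannian in
/-- Standard monomial basis for a union of Schubert varieties: let K be an algebraically closed field, 0
< d < n, and I(d,n) the strictly increasing maps Fin d → Fin n ordered entrywise; S = K[X_θ : θ ∈
I(d,n)] is the Plücker polynomial ring and, for τ ∈ I(d,n), J(τ) ⊆ S is the ideal of polynomials
vanishing at the d × d row-minors of every n × d matrix over K whose minors on rows φ ≰ τ are zero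
(the homogeneous ideal of the Schubert variety X(τ) ⊆ G(d,n)). Let τ_1, …, τ_r ∈ I(d,n) and let J =
⋂_i J(τ_i) be the homogeneous ideal of the union ⋃_i X(τ_i). Then the classes in S/J of the
monomials X_{θ_1} ⋯ X_{θ_m} (m ≥ 0) along chains θ_1 ≥ ⋯ ≥ θ_m all of whose members lie below some
τ_i are linearly independent over K and span S/J. -/
theorem result (K : Type u) [Field K] [IsAlgClosed K] (d n : ℕ)
    (hd : 0 < d) (hdn : d < n) (r : ℕ) (τs : Fin r → Idx d n) :
    LinearIndependent K (fun c : (Σ m : ℕ, {c : Fin m → Idx d n // Antitone c ∧ ∃ i, ∀ k, c k ≤ τs i}) =>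
        Ideal.Quotient.mk (⨅ i, schubertVanishing K d n (τs i)) (chainMon K c.2.1)) ∧
      Submodule.span K (Set.range fun c : (Σ m : ℕ, {c : Fin m → Idx d n // Antitone c ∧ ∃ i, ∀ k, c k ≤ τs i}) =>
        Ideal.Quotient.mk (⨅ i, schubertVanishing K d n (τs i)) (chainMon K c.2.1)) = ⊤ := by
  classical
  exact ⟨Groth.Agent.SMT.linearIndependent_uchain K hd τs,
    Groth.Agent.SMT.span_chains_of_le K _
      (le_iInf fun i => (Groth.Agent.SMT.plIdealTop_le_vanishing K).trans
        (Groth.Agent.SMT.vanishing_le_schubert K (τs i)))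
      (fun {m} (c : Fin m → Idx d n) => ∃ i, ∀ k, c k ≤ τs i)
      (fun c _ hc => Groth.Agent.SMT.chainMon_mem_iInf K hc)⟩

end Groth.Agent.S11252
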