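import Groth.Statements.S11253
import Groth.Agent.Lib.SMT.Divisor

set_option autoImplicit false
universe u
open W4bk4grassmannian

namespace Groth.Agent.S11253

open W4bk4grassmannian in
/-- Intersections of Schubert varieties are reduced: let K be an algebraically closed field, 0 < d < n,
and I(d,n) the strictly increasing maps Fin d → Fin n ordered entrywise; S = K[X_θ : θ ∈ I(d,n)] is
the Plücker polynomial ring and, for τ ∈ I(d,n), J(τ) ⊆ S is the ideal of polynomials vanishing at
the d × d row-minors of every n × d matrix over K whose minors on rows φ ≰ τ are zero (the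
homogeneous ideal of the Schubert variety X(τ) ⊆ G(d,n)). Then for all w₁, w₂ ∈ I(d,n) the ideal
J(w₁) + J(w₂) of S is radical. -/
theorem result (K : Type u) [Field K] [IsAlgClosed K] (d n : ℕ)
    (hd : 0 < d) (hdn : d < n) (w₁ w₂ : Idx d n) :
    (schubertVanishing K d n w₁ ⊔ schubertVanishing K d n w₂).IsRadical := by
  have h : schubertVanishing K d n w₁ ⊔ schubertVanishing K d n w₂ =
      ⨅ _ : Unit, schubertVanishing K d n (W4bk4grassmannian.inf w₁ w₂) := by
    refine Groth.Agent.SMT.eq_iInf_of K hd (fun _ : Unit => W4bk4grassmannian.inf w₁ w₂) _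
      (((Groth.Agent.SMT.plIdealTop_le_vanishing K).trans
        (Groth.Agent.SMT.vanishing_le_schubert K w₁)).trans le_sup_left) (fun {m} c _ hc => ?_)
      (le_iInf fun _ => sup_le
        (Groth.Agent.SMT.schubert_mono K fun t => min_le_left _ _)
        (Groth.Agent.SMT.schubert_mono K fun t => min_le_right _ _))
    obtain ⟨k, hk⟩ := Groth.Agent.SMT.exists_not_le_of_not_uchain hc ()
    refine Ideal.mem_of_dvd _ (Finset.dvd_prod_of_mem _ (Finset.mem_univ k)) ?_
    rw [Groth.Agent.SMT.le_inf_iff', not_and_or] at hk
    rcases hk with hk | hk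
    · exact Submodule.mem_sup_left (Groth.Agent.SMT.X_mem_schubert K hk)
    · exact Submodule.mem_sup_right (Groth.Agent.SMT.X_mem_schubert K hk)
  rw [h, iInf_const]
  exact (Groth.Agent.SMT.isPrime_schubert K hd _).isRadical

end Groth.Agent.S11253
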