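import Groth.Statements.S11254
import Groth.Agent.Lib.SMT.Divisor

set_option autoImplicit false
universe u
open W4bk4grassmannian

namespace Groth.Agent.S11254

open W4bk4grassmannian in
/-- Let K be an algebraically closed field, 0 < d < n, and I(d,n) the strictly increasing maps Fin d →
Fin n ordered entrywise; S = K[X_θ : θ ∈ I(d,n)] is the Plücker polynomial ring and, for τ ∈ I(d,n),
J(τ) ⊆ S is the ideal of polynomials vanishing at the d × d row-minors of every n × d matrix over K
whose minors on rows φ ≰ τ are zero (the homogeneous ideal of the Schubert variety X(τ) ⊆ G(d,n)).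
Let τ ∈ I(d,n) admit some φ < τ (X(τ) has positive dimension). Then J(τ) + (X_τ) = ⋂_φ J(φ), the
intersection over the Schubert divisors φ of τ, i.e. the φ < τ with Σ_t (φ_t - t) + 1 = Σ_t (τ_t -
t). (For the zero-dimensional Schubert variety there is no divisor and the left side is the
irrelevant ideal, so positive dimension is required at the level of ideals.) -/
theorem result (K : Type u) [Field K] [IsAlgClosed K]
    (d n : ℕ) (hd : 0 < d) (hdn : d < n) (τ : Idx d n) (hτ : ∃ φ : Idx d n, φ < τ) :
    schubertVanishing K d n τ ⊔ Ideal.span {MvPolynomial.X τ} =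
      ⨅ φ ∈ divisors τ, schubertVanishing K d n φ := by
  exact Groth.Agent.SMT.sup_span_X_eq K hd τ hτ

end Groth.Agent.S11254
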