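import Groth.Statements.S11257
import Mathlib.RingTheory.Regular.RegularSequence
import Mathlib.RingTheory.QuotSMulTop
import Mathlib.RingTheory.Noetherian.Basic

set_option autoImplicit false
universe u
open W4bk4grassmannian

namespace Groth.Agent.S11257

open RingTheory.Sequence Function Pointwise

theorem injective_map_quotSMulTop {R : Type*} [CommRing R] {M N P : Type*} [AddCommGroup M] [Module R M]
    [AddCommGroup N] [Module R N] [AddCommGroup P] [Module R P] {f : M →ₗ[R] N} {g : N →ₗ[R] P}
    (hf : Injective f) (hfg : Exact f g) {r : R} (hr : IsSMulRegular P r) :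
    Injective (QuotSMulTop.map r f) := by
  rw [injective_iff_map_eq_zero]
  intro x hx
  obtain ⟨m, rfl⟩ := Submodule.Quotient.mk_surjective _ x
  obtain ⟨y, -, hy⟩ := (Submodule.mem_smul_pointwise_iff_exists _ _ _).1 ((Submodule.Quotient.mk_eq_zero _).1
    (show (Submodule.Quotient.mk (f m) : QuotSMulTop r N) = 0 from hx))
  have hgy : g y = 0 := hr.right_eq_zero_of_smul (by rw [← map_smul, hy]; exact hfg.apply_apply_eq_zero m)
  obtain ⟨m', rfl⟩ := (hfg y).1 hgy
  rw [← map_smul] at hy
  rw [← hf hy]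
  exact (Submodule.Quotient.mk_eq_zero _).2 (Submodule.smul_mem_pointwise_smul _ _ _ trivial)

theorem weaklyRegular_of_exact {R : Type u} [CommRing R] : ∀ (rs : List R) {M N P : Type u} [AddCommGroup M]
    [Module R M] [AddCommGroup N] [Module R N] [AddCommGroup P] [Module R P] {f : M →ₗ[R] N} {g : N →ₗ[R] P},
    Injective f → Exact f g → Surjective g → IsWeaklyRegular N rs →
      IsWeaklyRegular P (rs.take (rs.length - 1)) → IsWeaklyRegular M rs := by
  intro rs
  induction rs with
  | nil => intros; exact IsWeaklyRegular.nil R _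
  | cons r rs ih =>
    intro M N P _ _ _ _ _ _ f g hf hfg hg hN hP
    rw [isWeaklyRegular_cons_iff] at hN
    refine IsWeaklyRegular.cons (hN.1.of_injective f hf) ?_
    cases rs with
    | nil => exact IsWeaklyRegular.nil R _
    | cons r' rs =>
      simp only [List.length_cons, Nat.add_sub_cancel, List.take_succ_cons, isWeaklyRegular_cons_iff] at hP
      exact ih (injective_map_quotSMulTop hf hfg hP.1) (QuotSMulTop.map_exact r hfg hg)
        (QuotSMulTop.map_surjective r hg) hN.2 (by simpa using hP.2)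

theorem weaklyRegular_prod {R : Type u} [CommRing R] : ∀ (rs : List R) {M N : Type u} [AddCommGroup M]
    [Module R M] [AddCommGroup N] [Module R N],
    IsWeaklyRegular M rs → IsWeaklyRegular N rs → IsWeaklyRegular (M × N) rs := by
  intro rs
  induction rs with
  | nil => intros; exact IsWeaklyRegular.nil R _
  | cons r rs ih =>
    intro M N _ _ _ _ hM hN
    rw [isWeaklyRegular_cons_iff] at hM hN
    refine IsWeaklyRegular.cons (fun a b hab => Prod.ext (hM.1 (congrArg Prod.fst hab)) (hN.1 (congrArg Prod.snd hab))) ?_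
    have e : QuotSMulTop r (M × N) ≃ₗ[R] QuotSMulTop r M × QuotSMulTop r N := by
      refine LinearEquiv.ofBijective ((QuotSMulTop.map r (LinearMap.fst R M N)).prod
        (QuotSMulTop.map r (LinearMap.snd R M N))) ⟨?_, ?_⟩
      · rw [injective_iff_map_eq_zero]
        intro x hx
        obtain ⟨⟨m, n⟩, rfl⟩ := Submodule.Quotient.mk_surjective _ x
        obtain ⟨a, -, ha⟩ := (Submodule.mem_smul_pointwise_iff_exists _ _ _).1 ((Submodule.Quotient.mk_eq_zero _).1
          (show (Submodule.Quotient.mk m : QuotSMulTop r M) = 0 from congrArg Prod.fst hx))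
        obtain ⟨b, -, hb⟩ := (Submodule.mem_smul_pointwise_iff_exists _ _ _).1 ((Submodule.Quotient.mk_eq_zero _).1
          (show (Submodule.Quotient.mk n : QuotSMulTop r N) = 0 from congrArg Prod.snd hx))
        exact (Submodule.Quotient.mk_eq_zero _).2 ((Submodule.mem_smul_pointwise_iff_exists _ _ _).2
          ⟨(a, b), trivial, Prod.ext ha hb⟩)
      · rintro ⟨x, y⟩
        obtain ⟨m, rfl⟩ := Submodule.Quotient.mk_surjective _ x
        obtain ⟨n, rfl⟩ := Submodule.Quotient.mk_surjective _ y
        exact ⟨Submodule.Quotient.mk (m, n), rfl⟩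
    exact (e.isWeaklyRegular_congr rs).2 (ih hM.2 hN.2)

/-- Let A be a Noetherian local integral domain with maximal ideal m, I and J ideals of A, d ≥ 1, and
f_1, …, f_d ∈ m. Assume depth A/(I+J) ≥ d - 1, depth A/I ≥ d and depth A/J ≥ d (depths of the
quotients as A-modules), that f_1, …, f_d is a regular sequence on A/I and on A/J, and that f_1, …,
f_{d-1} is a regular sequence on A/(I+J). Then f_1, …, f_d is a regular sequence on A/(I ∩ J). -/
theorem result (A : Type u) [CommRing A] [IsDomain A]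
    [IsNoetherianRing A] [IsLocalRing A] (I J : Ideal A) (d : ℕ) (hd : 0 < d) (f : Fin d → A)
    (hf : ∀ k, f k ∈ IsLocalRing.maximalIdeal A)
    (hIJd : ((d - 1 : ℕ) : ℕ∞) ≤ LocCoh.depth A (A ⧸ (I ⊔ J)))
    (hId : (d : ℕ∞) ≤ LocCoh.depth A (A ⧸ I)) (hJd : (d : ℕ∞) ≤ LocCoh.depth A (A ⧸ J))
    (hI : RingTheory.Sequence.IsRegular (A ⧸ I) (List.ofFn f))
    (hJ : RingTheory.Sequence.IsRegular (A ⧸ J) (List.ofFn f))
    (hIJ : RingTheory.Sequence.IsRegular (A ⧸ (I ⊔ J)) ((List.ofFn f).take (d - 1))) :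
    RingTheory.Sequence.IsRegular (A ⧸ (I ⊓ J)) (List.ofFn f) := by
  let g : (A ⧸ I) × (A ⧸ J) →ₗ[A] A ⧸ (I ⊔ J) :=
    (Submodule.factor (p := I) (p' := I ⊔ J) le_sup_left).coprod (-(Submodule.factor (p := J) (p' := I ⊔ J) le_sup_right))
  let φ : (A ⧸ (I ⊓ J)) →ₗ[A] (A ⧸ I) × (A ⧸ J) :=
    (Submodule.factor (p := I ⊓ J) (p' := I) inf_le_left).prod (Submodule.factor (p := I ⊓ J) (p' := J) inf_le_right)
  have hga : ∀ a b : A, g (Submodule.Quotient.mk a, Submodule.Quotient.mk b) = Submodule.Quotient.mk (a - b) :=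
    fun a b => by
      show (Submodule.Quotient.mk a : A ⧸ (I ⊔ J)) + -(Submodule.Quotient.mk b : A ⧸ (I ⊔ J)) = _
      rw [Submodule.Quotient.mk_sub, sub_eq_add_neg]
  have hinj : Function.Injective φ := by
    rw [injective_iff_map_eq_zero]
    intro x hx
    obtain ⟨a, rfl⟩ := Submodule.Quotient.mk_surjective _ x
    exact (Submodule.Quotient.mk_eq_zero _).2 ⟨(Submodule.Quotient.mk_eq_zero _).1 (congrArg Prod.fst hx),
      (Submodule.Quotient.mk_eq_zero _).1 (congrArg Prod.snd hx)⟩
  have hex : Function.Exact φ g := by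
    rintro ⟨x, y⟩
    obtain ⟨a, rfl⟩ := Submodule.Quotient.mk_surjective _ x
    obtain ⟨b, rfl⟩ := Submodule.Quotient.mk_surjective _ y
    constructor
    · intro h
      obtain ⟨i, hi, j, hj, hij⟩ := Submodule.mem_sup.1 ((Submodule.Quotient.mk_eq_zero _).1 ((hga a b).symm.trans h))
      refine ⟨Submodule.Quotient.mk (a - i), Prod.ext ((Submodule.Quotient.eq _).2 (by simpa using I.neg_mem hi))
        ((Submodule.Quotient.eq _).2 ?_)⟩
      show a - i - b ∈ J
      rw [show a - i - b = j by linear_combination -hij]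
      exact hj
    · rintro ⟨z, hz⟩
      obtain ⟨c, rfl⟩ := Submodule.Quotient.mk_surjective _ z
      rw [← hz]
      exact (hga c c).trans (by rw [sub_self, Submodule.Quotient.mk_zero])
  have hsurj : Function.Surjective g := by
    intro x
    obtain ⟨a, rfl⟩ := Submodule.Quotient.mk_surjective _ x
    exact ⟨(Submodule.Quotient.mk a, Submodule.Quotient.mk 0), (hga a 0).trans (by rw [sub_zero])⟩
  haveI : Nontrivial (A ⧸ (I ⊓ J)) := by
    haveI := hI.nontrivial
    exact Ideal.Quotient.nontrivial_iff.2 fun h => Ideal.Quotient.nontrivial_iff.1 this (top_le_iff.1 (h ▸ inf_le_left))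
  rw [IsLocalRing.isRegular_iff_isWeaklyRegular_of_subset_maximalIdeal (by simpa using hf)]
  refine weaklyRegular_of_exact _ hinj hex hsurj (weaklyRegular_prod _ hI.1 hJ.1) ?_
  rw [List.length_ofFn]
  exact hIJ.1

end Groth.Agent.S11257
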