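import Groth.Statements.S1126
import Groth.Agent.Lib.UnivHomeo.Morph


set_option autoImplicit false
open CategoryTheory CategoryTheory.Limits AlgebraicGeometry Opposite
universe u
open Desc

namespace Groth.Agent.S1126

/-- If the base change of a morphism along a quasi-compact flat surjective morphism to its target is a
universal homeomorphism, then the morphism is a universal homeomorphism. (Stated for a single
quasi-compact flat surjective base change; combined with Zariski-locality on the target this gives
the fpqc-local form.) -/
theorem result :
    MorphismProperty.DescendsAlong (FlatMor.IsUnivHomeo.{u})
      (@Surjective ⊓ @Flat ⊓ @QuasiCompact : MorphismProperty Scheme.{u}) := by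
  rw [show (FlatMor.IsUnivHomeo.{u} : MorphismProperty Scheme.{u}) =
      (@UniversallyClosed ⊓ @UniversallyInjective ⊓ @Surjective : MorphismProperty Scheme.{u}) from
    MorphismProperty.ext _ _ fun X Y f =>
      (UH.isUnivHomeo_iff_uc_ui_surjective f).trans and_assoc.symm]
  infer_instance

end Groth.Agent.S1126
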