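import Groth.Statements.S11262
import Mathlib.RingTheory.MvPolynomial.Homogeneous
import Mathlib.RingTheory.MvPolynomial.Ideal
import Mathlib.Algebra.Order.Antidiag.FinsuppEquiv
import Mathlib.LinearAlgebra.Finsupp.VectorSpace
import Mathlib.LinearAlgebra.Dimension.Constructions

set_option autoImplicit false
universe u v
open W4bk4grassmannian

namespace Groth.Agent.S11262

open MvPolynomial

theorem card_supp_eq {L : Type v} [DecidableEq L] (C : Finset L) (m : ℕ) (hC : C.Nonempty) (hm1 : 1 ≤ m) :
    ((C.finsuppAntidiag m).filter fun e : L →₀ ℕ => e.support = C).card = Nat.choose (m - 1) (C.card - 1) := by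
  classical
  have hc : 0 < C.card := hC.card_pos
  by_cases hm : C.card ≤ m
  · have key : ((C.finsuppAntidiag m).filter fun e : L →₀ ℕ => e.support = C).card =
        (C.finsuppAntidiag (m - C.card)).card := by
      let ind : L →₀ ℕ := ∑ a ∈ C, Finsupp.single a 1
      have hind : ∀ a, ind a = if a ∈ C then 1 else 0 := fun a => by
        simp [ind, Finsupp.single_apply]
      refine Finset.card_bij (fun e _ => e - ind) ?_ ?_ ?_
      · intro e he
        simp only [Finset.mem_filter, Finset.mem_finsuppAntidiag] at he
        refine Finset.mem_finsuppAntidiag.2 ⟨?_, ?_⟩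
        · have h1 : ∀ a ∈ C, (e - ind) a + 1 = e a := fun a ha => by
            have : e a ≠ 0 := Finsupp.mem_support_iff.1 (he.2 ▸ ha)
            simp [hind, ha]; omega
          have h2 : (∑ a ∈ C, (e - ind) a) + C.card = m := by
            rw [Finset.card_eq_sum_ones, ← Finset.sum_add_distrib, Finset.sum_congr rfl h1]
            exact he.1.1
          show ∑ a ∈ C, (e - ind) a = _
          omega
        · intro a ha
          rw [Finsupp.mem_support_iff, Finsupp.tsub_apply] at ha
          rw [← he.2, Finsupp.mem_support_iff]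
          omega
      · intro e he e' he' h
        simp only [Finset.mem_filter, Finset.mem_finsuppAntidiag] at he he'
        ext a
        have h' := DFunLike.congr_fun h a
        simp only [Finsupp.tsub_apply, hind] at h'
        by_cases ha : a ∈ C
        · have : e a ≠ 0 := Finsupp.mem_support_iff.1 (he.2 ▸ ha)
          have : e' a ≠ 0 := Finsupp.mem_support_iff.1 (he'.2 ▸ ha)
          simp [ha] at h'; omega
        · simpa [ha] using h'
      · intro f hf
        obtain ⟨hf1, hf2⟩ := Finset.mem_finsuppAntidiag.1 hf
        refine ⟨f + ind, Finset.mem_filter.2 ⟨Finset.mem_finsuppAntidiag.2 ⟨?_, ?_⟩, ?_⟩, by simp⟩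
        · show ∑ a ∈ C, (f + ind) a = m
          simp only [Finsupp.add_apply, Finset.sum_add_distrib]
          have : ∑ a ∈ C, ind a = C.card := by
            rw [Finset.card_eq_sum_ones]; exact Finset.sum_congr rfl fun a ha => by simp [hind, ha]
          have : ∑ a ∈ C, f a = m - C.card := hf1
          omega
        · intro a ha
          by_contra hn
          simp [hind, hn, Finsupp.notMem_support_iff.1 fun h => hn (hf2 h)] at ha
        · ext a
          by_cases hn : a ∈ C
          · simp [hind, hn]
          · simp [hind, hn, Finsupp.notMem_support_iff.1 fun h => hn (hf2 h)]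
    rw [key, Finset.card_finsuppAntidiag_nat_eq_choose,
      show C.card + (m - C.card) - 1 = m - 1 by omega]
    exact Nat.choose_symm_of_eq_add (by omega)
  · rw [Nat.choose_eq_zero_of_lt (show m - 1 < C.card - 1 by omega), Finset.card_eq_zero, Finset.eq_empty_iff_forall_notMem]
    intro e he
    simp only [Finset.mem_filter, Finset.mem_finsuppAntidiag] at he
    apply hm
    rw [← he.1.1, Finset.card_eq_sum_ones]
    exact Finset.sum_le_sum fun a ha => Nat.one_le_iff_ne_zero.2 (Finsupp.mem_support_iff.1 (he.2 ▸ ha))

/-- Hilbert function of the Stanley–Reisner ring of a finite distributive lattice: let K be a field, L a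
finite distributive lattice, R = K[x_α : α ∈ L], I ⊆ R the ideal generated by the products x_α x_β
over the incomparable (skew) pairs α, β, and m ≥ 1. Then the image in R/I of the homogeneous
polynomials of degree m has K-dimension equal to the sum, over the nonempty chains C ⊆ L, of the
binomial coefficient (m - 1 choose |C| - 1). (The published statement is that the degree of R/I
equals the number of maximal chains of L; this row states the Hilbert function from which that
degree is read off.) -/
theorem result (K : Type u) [Field K] (L : Type v) [DistribLattice L]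
    [Fintype L] (m : ℕ) (hm : 1 ≤ m) :
    Module.finrank K ((MvPolynomial.homogeneousSubmodule L K m).map
        (Ideal.Quotient.mkₐ K (Ideal.span {f : MvPolynomial L K | ∃ a b : L, ¬ a ≤ b ∧ ¬ b ≤ a ∧
          f = MvPolynomial.X a * MvPolynomial.X b})).toLinearMap) =
      ∑ᶠ C : {C : Finset L // C.Nonempty ∧ IsChain (fun a b : L => a ≤ b) (↑C : Set L)},
        Nat.choose (m - 1) (C.1.card - 1) := by
  classical
  set S : Set (L →₀ ℕ) := {e | ∃ a b : L, ¬ a ≤ b ∧ ¬ b ≤ a ∧ e = Finsupp.single a 1 + Finsupp.single b 1}
  set I := Ideal.span {f : MvPolynomial L K | ∃ a b : L, ¬ a ≤ b ∧ ¬ b ≤ a ∧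
          f = MvPolynomial.X a * MvPolynomial.X b}
  have hI : I = Ideal.span ((fun s => monomial s (1 : K)) '' S) := by
    refine congrArg Ideal.span ?_
    ext f
    constructor
    · rintro ⟨a, b, h, h', rfl⟩
      exact ⟨_, ⟨a, b, h, h', rfl⟩, by simp [X, monomial_mul]⟩
    · rintro ⟨_, ⟨a, b, h, h', rfl⟩, rfl⟩
      exact ⟨a, b, h, h', by simp [X, monomial_mul]⟩
  let Chain : Finset L → Prop := fun C => IsChain (fun a b : L => a ≤ b) (↑C : Set L)
  set G := ((Finset.univ : Finset L).finsuppAntidiag m).filter fun e => Chain e.support with hG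
  have hgood : ∀ e : L →₀ ℕ, Chain e.support → ¬ ∃ s ∈ S, s ≤ e := by
    rintro e he ⟨_, ⟨a, b, h, h', rfl⟩, hle⟩
    have hne : a ≠ b := fun h'' => h (h'' ▸ le_rfl)
    have ha : a ∈ (↑e.support : Set L) := Finsupp.mem_support_iff.2 fun h0 => by
      have := hle a; simp [h0, Finsupp.single_eq_of_ne hne] at this
    have hb : b ∈ (↑e.support : Set L) := Finsupp.mem_support_iff.2 fun h0 => by
      have := hle b; simp [h0, Finsupp.single_eq_of_ne hne.symm] at this
    exact (he ha hb hne).elim h h'
  have hbad : ∀ e : L →₀ ℕ, ¬ Chain e.support → ∃ s ∈ S, s ≤ e := by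
    intro e he
    simp only [Chain, IsChain, Set.Pairwise, not_forall, not_or] at he
    obtain ⟨a, ha, b, hb, hne, h, h'⟩ := he
    refine ⟨_, ⟨a, b, h, h', rfl⟩, fun x => ?_⟩
    have ha' : 1 ≤ e a := Nat.one_le_iff_ne_zero.2 (Finsupp.mem_support_iff.1 ha)
    have hb' : 1 ≤ e b := Nat.one_le_iff_ne_zero.2 (Finsupp.mem_support_iff.1 hb)
    simp only [Finsupp.add_apply, Finsupp.single_apply]
    split_ifs with h1 h2 h2
    · exact absurd (h1.trans h2.symm) hne
    · subst h1; simpa using ha'
    · subst h2; simpa using hb'
    · simp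
  have hdeg : ∀ e : L →₀ ℕ, e ∈ (Finset.univ : Finset L).finsuppAntidiag m ↔ e.degree = m := by
    intro e
    simp only [Finset.mem_finsuppAntidiag, Finset.subset_univ, and_true, Finsupp.degree_apply]
    rw [Finset.sum_subset (Finset.subset_univ e.support) (fun x _ hx => Finsupp.notMem_support_iff.1 hx)]
  let q := (Ideal.Quotient.mkₐ K I).toLinearMap
  have hmap : (MvPolynomial.homogeneousSubmodule L K m).map q =
      Submodule.span K (Set.range fun e : G => q (monomial e.1 1)) := by
    refine le_antisymm ?_ (Submodule.span_le.2 ?_)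
    · rintro _ ⟨p, hp, rfl⟩
      rw [p.as_sum, map_sum]
      refine Submodule.sum_mem _ fun e he => ?_
      have hd : e.degree = m := by
        have := hp (MvPolynomial.mem_support_iff.1 he)
        simpa [Finsupp.weight_apply, Finsupp.degree_apply, Finsupp.sum] using this
      rw [show monomial e (coeff e p) = coeff e p • monomial e (1 : K) by
        rw [smul_monomial, smul_eq_mul, mul_one], map_smul]
      refine Submodule.smul_mem _ _ ?_
      by_cases hc : Chain e.support
      · exact Submodule.subset_span ⟨⟨e, Finset.mem_filter.2 ⟨(hdeg e).2 hd, hc⟩⟩, rfl⟩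
      · obtain ⟨s, hs, hle⟩ := hbad e hc
        have : q (monomial e 1) = 0 := by
          refine Ideal.Quotient.eq_zero_iff_mem.2 ?_
          rw [hI, mem_ideal_span_monomial_image]
          intro x hx
          obtain rfl := by simpa using support_monomial_subset hx
          exact ⟨s, hs, hle⟩
        rw [this]
        exact zero_mem _
    · rintro _ ⟨e, rfl⟩
      refine ⟨_, ?_, rfl⟩
      exact isHomogeneous_monomial 1 ((hdeg e.1).1 (Finset.mem_filter.1 e.2).1)
  have hli : LinearIndependent K (fun e : G => q (monomial e.1 1)) := by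
    rw [linearIndependent_iff']
    intro s g hsum e he
    have hq : q (∑ i ∈ s, g i • monomial i.1 (1 : K)) = 0 := by
      rw [map_sum, ← hsum]; exact Finset.sum_congr rfl fun i _ => map_smul q _ _
    have hmem : (∑ i ∈ s, g i • monomial i.1 (1 : K)) ∈ I := Ideal.Quotient.eq_zero_iff_mem.1 hq
    rw [hI, mem_ideal_span_monomial_image] at hmem
    by_contra hne
    refine hgood e.1 (Finset.mem_filter.1 e.2).2 (hmem e.1 (MvPolynomial.mem_support_iff.2 ?_))
    simp [coeff_sum, coeff_monomial, Finset.sum_ite_eq', Subtype.ext_iff.symm, he, hne]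
  show Module.finrank K ((MvPolynomial.homogeneousSubmodule L K m).map q) = _
  rw [hmap, finrank_span_eq_card hli, Fintype.card_coe, finsum_eq_sum_of_fintype]
  rw [Finset.card_eq_sum_card_fiberwise (f := fun e : L →₀ ℕ => e.support)
    (t := Finset.univ.filter fun C : Finset L => C.Nonempty ∧ Chain C) (by
      intro e he
      obtain ⟨h1, h2⟩ := Finset.mem_filter.1 he
      refine Finset.mem_filter.2 ⟨Finset.mem_univ _, ?_, h2⟩
      rw [Finsupp.support_nonempty_iff]
      rintro rfl
      have := (hdeg 0).1 h1
      simp at this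
      omega)]
  rw [← Finset.sum_subtype (Finset.univ.filter fun C : Finset L => C.Nonempty ∧ Chain C)
    (fun C => by simp [Chain]) (fun C => Nat.choose (m - 1) (C.card - 1))]
  refine Finset.sum_congr rfl fun C hC => ?_
  obtain ⟨hne, hch⟩ := (Finset.mem_filter.1 hC).2
  rw [← card_supp_eq C m hne hm]
  congr 1
  ext e
  simp only [hG, Finset.mem_filter, Finset.mem_finsuppAntidiag, Finset.subset_univ, and_true]
  constructor
  · rintro ⟨⟨h1, -⟩, rfl⟩
    refine ⟨⟨?_, subset_rfl⟩, rfl⟩
    rw [← h1]
    exact Finset.sum_subset (Finset.subset_univ _) fun x _ hx => Finsupp.notMem_support_iff.1 hx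
  · rintro ⟨⟨h1, -⟩, rfl⟩
    refine ⟨⟨?_, hch⟩, rfl⟩
    rw [← h1]
    exact (Finset.sum_subset (Finset.subset_univ _) fun x _ hx => Finsupp.notMem_support_iff.1 hx).symm

end Groth.Agent.S11262
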