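import Groth.Statements.S11263
import Groth.Agent.Lib.SMT.FFTSL
import Mathlib.FieldTheory.IsAlgClosed.Basic

set_option autoImplicit false
universe u
open W4bk4grassmannian

namespace Groth.Agent.S11263

open W4bk4grassmannian in
/-- First Fundamental Theorem of invariant theory for the special linear group acting on matrices by
right multiplication: let K be an algebraically closed field, 0 < d < n, and R = K[x_{ij}] the
coordinate ring of n × d matrices, on which g ∈ SL_d(K) acts by (g • f)(A) = f(A g). Then f ∈ R is
fixed by every g ∈ SL_d(K) if and only if f belongs to the K-subalgebra of R generated by the d × d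
minors on the rows θ ∈ I(d,n). -/
theorem result (K : Type u) [Field K] [IsAlgClosed K] (d n : ℕ)
    (hd : 0 < d) (hdn : d < n) (f : MatRing K d n) :
    (∀ g : Matrix.SpecialLinearGroup (Fin d) K, rightTranslate K d n g f = f) ↔
      f ∈ Algebra.adjoin K (Set.range fun θ : Idx d n => minor K d n θ.1) := by
  classical
  have hrange : Algebra.adjoin K (Set.range fun θ : Idx d n => minor K d n θ.1) = (pluckerMap K d n).range :=
    Algebra.adjoin_range_eq_range_aeval K _
  rw [hrange]
  refine ⟨Groth.Agent.SMT.mem_range_pluckerMap hd hdn f, ?_⟩
  rintro ⟨p, rfl⟩ g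
  have : (rightTranslate K d n g).comp (pluckerMap K d n) = pluckerMap K d n := by
    refine MvPolynomial.algHom_ext fun θ => ?_
    simp only [AlgHom.comp_apply, pluckerMap, MvPolynomial.aeval_X, minor]
    rw [AlgHom.map_det]
    rw [show (rightTranslate K d n g).mapMatrix
        (Matrix.of fun s t : Fin d => (MvPolynomial.X (θ.1 s, t) : MatRing K d n)) =
        (Matrix.of fun s t : Fin d => (MvPolynomial.X (θ.1 s, t) : MatRing K d n)) *
          (g : Matrix (Fin d) (Fin d) K).map MvPolynomial.C by
      ext s t; simp [rightTranslate, Matrix.mul_apply]]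
    rw [Matrix.det_mul, show ((g : Matrix (Fin d) (Fin d) K).map (MvPolynomial.C : K → MatRing K d n)).det =
      MvPolynomial.C (g : Matrix (Fin d) (Fin d) K).det from (RingHom.map_det MvPolynomial.C _).symm,
      g.2, MvPolynomial.C_1, mul_one]
  exact DFunLike.congr_fun this p

end Groth.Agent.S11263
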