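import Groth.Statements.S11266
import Groth.Agent.Lib.SMT.FFTGL
import Mathlib.FieldTheory.IsAlgClosed.Basic

set_option autoImplicit false
universe u
open W4bk4grassmannian

namespace Groth.Agent.S11266

open W4bk4grassmannian in
/-- First Fundamental Theorem of invariant theory for the general linear group acting on pairs of
matrices: let K be an algebraically closed field and m, n, q natural numbers; GL_n(K) acts on the
coordinate ring of M_{m,n} × M_{n,q} by (A • f)(U, W) = f(U A⁻¹, A W). Then f is fixed by every A ∈
GL_n(K) if and only if f lies in the image of the comorphism of (U, W) ↦ U W, i.e. f is a polynomial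
in the entries Σ_k u_{ik} ξ_{kj} of the product matrix. -/
theorem result (K : Type u) [Field K] [IsAlgClosed K] (m n q : ℕ)
    (f : PairRing K n m q) :
    (∀ A : GL (Fin n) K, glTranslate K n m q A f = f) ↔ f ∈ (pairingMap K n m q).range := by
  classical
  refine ⟨Groth.Agent.SMT.mem_range_pairingMap f, ?_⟩
  rintro ⟨p, rfl⟩ A
  have : (glTranslate K n m q A).comp (pairingMap K n m q) = pairingMap K n m q := by
    refine MvPolynomial.algHom_ext fun v => MvPolynomial.funext fun a => ?_
    have ha : a = Groth.Agent.SMT.pairPt (Matrix.of fun i l => a (Sum.inl (i, l)))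
        (Matrix.of fun l j => a (Sum.inr (l, j))) := funext fun w => by rcases w with w | w <;> rfl
    rw [ha, AlgHom.comp_apply, Groth.Agent.SMT.eval_glTranslate, Groth.Agent.SMT.eval_pairingMap,
      Groth.Agent.SMT.eval_pairingMap, Matrix.mul_assoc, ← Matrix.mul_assoc _ (A : Matrix (Fin n) (Fin n) K),
      ← Units.val_mul, inv_mul_cancel, Units.val_one, Matrix.one_mul]
  exact DFunLike.congr_fun this p

end Groth.Agent.S11266
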