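import Groth.Statements.S11269
import Groth.Agent.Lib.Depth.CM
import Groth.Agent.Lib.Goren.Basic

set_option autoImplicit false
universe u
open W4bk4grassmannian

namespace Groth.Agent.S11269

open Groth.Agent in
theorem depth_le_one_of_associated (R : Type u) [CommRing R] [IsDomain R] [IsNoetherianRing R] {a : R}
    (ha : a ≠ 0) (P : Ideal R) [P.IsPrime] (hP : P ∈ associatedPrimes R (R ⧸ Ideal.span {a})) :
    LocCoh.depth (Localization.AtPrime P) (Localization.AtPrime P) ≤ 1 := by
  obtain ⟨-, m, hm⟩ := isAssociatedPrime_iff.1 hP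
  obtain ⟨c, rfl⟩ := Ideal.Quotient.mk_surjective m
  have hker : ∀ r, r ∈ P ↔ r * c ∈ Ideal.span {a} := fun r => by
    rw [hm]
    simp only [Submodule.mem_colon_singleton, Submodule.mem_bot]
    exact Ideal.Quotient.eq_zero_iff_mem
  have haP : a ∈ P := (hker a).2 (Ideal.mul_mem_right _ _ (Ideal.mem_span_singleton_self a))
  set L := Localization.AtPrime P
  have hinj : Function.Injective (algebraMap R L) := IsLocalization.injective L P.primeCompl_le_nonZeroDivisors
  have hreg : IsSMulRegular L (algebraMap R L a) :=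
    IsSMulRegular.of_right_eq_zero_of_smul fun x hx =>
      (mul_eq_zero.1 hx).resolve_left fun h => ha (hinj (h.trans (map_zero _).symm))
  have ham : algebraMap R L a ∈ IsLocalRing.maximalIdeal L := by
    rw [← Localization.AtPrime.map_eq_maximalIdeal]; exact Ideal.mem_map_of_mem _ haP
  have hzero : LocCoh.idealDepth (IsLocalRing.maximalIdeal L) (L ⧸ Ideal.span {algebraMap R L a}) = 0 := by
    haveI : Nontrivial (L ⧸ Ideal.span {algebraMap R L a}) :=
      Ideal.Quotient.nontrivial_iff.2 fun h => (IsLocalRing.maximalIdeal.isMaximal L).ne_top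
        (top_le_iff.1 (h.ge.trans ((Ideal.span_singleton_le_iff_mem _).2 ham)))
    refine DepthLib.idealDepth_eq_zero_of_forall_not_isSMulRegular
      (DepthLib.smul_top_ne_top (IsLocalRing.maximalIdeal.isMaximal L).ne_top) ?_
    intro x hx hregx
    obtain ⟨⟨r, s⟩, hrs⟩ := IsLocalization.surj P.primeCompl x
    have hr : r ∈ P := by
      have h1 : algebraMap R L r ∈ IsLocalRing.maximalIdeal L := hrs ▸ Ideal.mul_mem_right _ _ hx
      rw [IsLocalization.AtPrime.to_map_mem_maximal_iff L P] at h1
      exact h1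
    obtain ⟨w, hw⟩ := Ideal.mem_span_singleton'.1 ((hker r).1 hr)
    have h0 : x • (Ideal.Quotient.mk (Ideal.span {algebraMap R L a}) (algebraMap R L c)) = 0 := by
      show Ideal.Quotient.mk _ (x * algebraMap R L c) = 0
      have hu : IsUnit (algebraMap R L s) := IsLocalization.map_units L s
      rw [Ideal.Quotient.eq_zero_iff_mem, ← Ideal.unit_mul_mem_iff_mem _ hu,
        show algebraMap R L s * (x * algebraMap R L c) = x * algebraMap R L s * algebraMap R L c by ring,
        hrs, ← map_mul, ← hw, map_mul]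
      exact Ideal.mul_mem_left _ _ (Ideal.mem_span_singleton_self _)
    have h1 := hregx.right_eq_zero_of_smul h0
    rw [Ideal.Quotient.eq_zero_iff_mem] at h1
    obtain ⟨y, hy⟩ := Ideal.mem_span_singleton'.1 h1
    obtain ⟨⟨b, t⟩, hbt⟩ := IsLocalization.surj P.primeCompl y
    have h2 : (t : R) * c = b * a := hinj (by
      rw [map_mul, map_mul, ← hy]; linear_combination algebraMap R L a * hbt)
    exact t.2 ((hker t).2 (h2 ▸ Ideal.mul_mem_left _ _ (Ideal.mem_span_singleton_self a)))
  rw [LocCoh.depth, ← DepthLib.idealDepth_quotSMulTop_add_one ham hreg,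
    DepthLib.idealDepth_congr (GorenLib.quotEquiv _), hzero, zero_add]

/-- Let R be a Noetherian integral domain. Then R satisfies Serre's condition (S_2) (depth R_P ≥ min(2,
dim R_P) for all primes P) if and only if, for every nonzero a ∈ R, every associated prime of the
R-module R/(a) has height one. -/
theorem result (R : Type u) [CommRing R] [IsDomain R]
    [IsNoetherianRing R] :
    LocCoh.HasSk 2 R R ↔
      ∀ a : R, a ≠ 0 → ∀ P : Ideal R, P ∈ associatedPrimes R (R ⧸ Ideal.span {a}) → P.height = 1 := by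
  have hdim : ∀ (P : Ideal R) [P.IsPrime], Module.supportDim (Localization.AtPrime P)
      (LocalizedModule P.primeCompl R) = (P.height : WithBot ℕ∞) :=
    fun P _ => Groth.Agent.DepthLib.supportDim_eq_ringKrullDim_of_isPrime P
  constructor
  · intro h a ha P hP
    haveI := IsAssociatedPrime.isPrime hP
    have h1 := h P
    rw [hdim, Groth.Agent.DepthLib.depth_localizedModule_self] at h1
    have h2 := depth_le_one_of_associated R ha P hP
    obtain ⟨-, m, hm⟩ := isAssociatedPrime_iff.1 hP
    have haP : a ∈ P := by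
      rw [hm]
      obtain ⟨c, rfl⟩ := Ideal.Quotient.mk_surjective m
      simp only [Submodule.mem_colon_singleton, Submodule.mem_bot]
      exact Ideal.Quotient.eq_zero_iff_mem.2 (Ideal.mul_mem_right _ _ (Ideal.mem_span_singleton_self a))
    refine le_antisymm ?_ (Order.one_le_iff_pos.2 (pos_iff_ne_zero.2 fun h0 => ?_))
    · have h3 : min ((2 : ℕ) : WithBot ℕ∞) (P.height : WithBot ℕ∞) ≤ ((1 : ℕ∞) : WithBot ℕ∞) :=
        h1.trans (WithBot.coe_le_coe.2 h2)
      rcases min_le_iff.1 h3 with h4 | h4
      · exfalso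
        have h5 : ((2 : ℕ) : ℕ∞) ≤ ((1 : ℕ) : ℕ∞) := WithBot.coe_le_coe.1 h4
        rw [Nat.cast_le] at h5
        omega
      · exact WithBot.coe_le_coe.1 h4
    · rw [Ideal.height_eq_zero_iff_eq_bot] at h0
      exact ha (by simpa [h0] using haP)
  · intro h P _
    rw [hdim, Groth.Agent.DepthLib.depth_localizedModule_self]
    have key : ∀ k : ℕ, (k : ℕ∞) ≤ LocCoh.idealDepth P R →
        (k : WithBot ℕ∞) ≤ ((LocCoh.depth (Localization.AtPrime P) (Localization.AtPrime P) : ℕ∞) : WithBot ℕ∞) := by
      intro k hk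
      have := (Groth.Agent.DepthLib.natCast_le_idealDepth_iff_forall_localized k).1 hk ⟨P, inferInstance⟩ le_rfl
      rw [Groth.Agent.DepthLib.depth_localizedModule_self] at this
      exact WithBot.coe_le_coe.2 this
    rcases eq_or_ne P ⊥ with hbot | hbot
    · refine (min_le_right _ _).trans ?_
      rw [(Ideal.height_eq_zero_iff_eq_bot).2 hbot]
      exact WithBot.coe_le_coe.2 bot_le
    obtain ⟨a, haP, ha⟩ := Submodule.exists_mem_ne_zero_of_ne_bot hbot
    have hreg : IsSMulRegular R a := fun x y hxy => mul_left_cancel₀ ha hxy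
    by_cases h1 : P.height ≤ 1
    · refine (min_le_right _ _).trans ((WithBot.coe_le_coe.2 h1).trans (key 1 ?_))
      exact_mod_cast Groth.Agent.DepthLib.one_le_idealDepth_of_regular haP hreg
    refine (min_le_left _ _).trans (key 2 ?_)
    have hb : ∃ b ∈ P, IsSMulRegular (R ⧸ Ideal.span {a}) b := by
      by_contra hcon
      push Not at hcon
      obtain ⟨Q, hQ, hle⟩ := Groth.Agent.DepthLib.exists_associatedPrime_ge hcon
      exact h1 ((Ideal.height_mono hle).trans (h a ha Q hQ).le)
    obtain ⟨b, hbP, hb⟩ := hb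
    rw [← Groth.Agent.DepthLib.idealDepth_quotSMulTop_add_one haP hreg,
      Groth.Agent.DepthLib.idealDepth_congr (Groth.Agent.GorenLib.quotEquiv a)]
    rw [show ((2 : ℕ) : ℕ∞) = 1 + 1 by norm_num]
    gcongr
    exact Groth.Agent.DepthLib.one_le_idealDepth_of_regular hbP hb

end Groth.Agent.S11269
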