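import Groth.Statements.S11270
import Groth.Agent.Lib.SMT.Band
import Mathlib.FieldTheory.IsAlgClosed.Basic
import Mathlib.RingTheory.Ideal.Maps
import Mathlib.RingTheory.Ideal.Operations

set_option autoImplicit false
universe u
open W4bk4grassmannian

namespace Groth.Agent.S11270

open W4bk4grassmannian in
/-- The least Plücker coordinate is a prime element on every Schubert variety: let K be an algebraically
closed field, 0 < d < n, and I(d,n) the strictly increasing maps Fin d → Fin n ordered entrywise; S
= K[X_θ : θ ∈ I(d,n)] is the Plücker polynomial ring and, for τ ∈ I(d,n), J(τ) ⊆ S is the ideal of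
polynomials vanishing at the d × d row-minors of every n × d matrix over K whose minors on rows φ ≰
τ are zero (the homogeneous ideal of the Schubert variety X(τ) ⊆ G(d,n)). Let w ∈ I(d,n) and let ι =
(0, 1, …, d - 1) be the least element of I(d,n), written (1, …, d) in 1-based indexing. Then the
class of X_ι in S/J(w) is a prime element; it generates the kernel of the restriction to the section
of X(w) by the opposite Schubert divisor. -/
theorem result (K : Type u) [Field K] [IsAlgClosed K] (d n : ℕ)
    (hd : 0 < d) (hdn : d < n) (w : Idx d n) :
    Prime (Ideal.Quotient.mk (schubertVanishing K d n w)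
      (MvPolynomial.X (⟨fun t => ⟨t.val, lt_trans t.isLt hdn⟩, fun a b h => h⟩ : Idx d n))) := by
  classical
  set b : Idx d n := ⟨fun t => ⟨t.val, lt_trans t.isLt hdn⟩, fun a b h => h⟩ with hb
  let lo : Idx d n := ⟨fun t => if t.val + 1 = d then ⟨d, hdn⟩ else ⟨t.val, lt_trans t.isLt hdn⟩, fun a c h => by
    have := Fin.lt_def.1 h
    have := c.2
    simp only
    split_ifs <;> simp only [Fin.lt_def] <;> omega⟩
  have hiff : ∀ θ : Idx d n, ¬ lo ≤ θ ↔ θ = b := by
    intro θ
    constructor
    · intro h
      refine Subtype.ext (funext fun t => Fin.ext ?_)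
      by_contra hne
      refine h fun s => ?_
      have hid := Groth.Agent.SMT.id_le θ s
      simp only [lo]
      split_ifs with hs
      · rw [Fin.le_def]
        simp only
        by_contra hlt
        -- the last entry is at most d - 1, so all entries are minimal
        have hmap : ∀ i : Fin d, i ≤ s → (θ.1 i).val ≤ d - 1 := fun i hi => by
          have := Fin.le_def.1 (θ.2.monotone hi); omega
        have hbd : ∀ i : Fin d, (θ.1 i).val < d := fun i => by
          have := hmap i (Fin.le_def.2 (by omega)); omega
        have hsm : StrictMono (fun i : Fin d => (⟨(θ.1 i).val, hbd i⟩ : Fin d)) := fun a c hac => θ.2 hac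
        have := congrFun ((hsm.range_inj strictMono_id).1 (by
          rw [Set.range_id]
          exact (Finite.injective_iff_surjective.1 hsm.injective).range_eq)) t
        exact hne (by simpa [Fin.ext_iff, b] using this)
      · rw [Fin.le_def]; exact hid
    · rintro rfl h
      have := h ⟨d - 1, by omega⟩
      simp only [lo, b] at this
      rw [if_pos (by omega), Fin.le_def] at this
      simp at this
      omega
  have hker := Groth.Agent.SMT.ker_bandMap K hd lo w
  rw [show {θ : Idx d n | ¬ lo ≤ θ} = {b} from Set.ext hiff, Set.image_singleton] at hker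
  set J := schubertVanishing K d n w
  have hne : Ideal.Quotient.mk J (MvPolynomial.X b) ≠ 0 := by
    have hle : b ≤ w := fun t => Groth.Agent.SMT.id_le w t
    have h := (Groth.Agent.SMT.stdBasis K hd w).ne_zero ⟨{b}, fun x hx y hy => by
      rw [Multiset.mem_singleton] at hx hy; subst hx hy; exact Or.inl le_rfl,
      fun x hx => by rw [Multiset.mem_singleton] at hx; subst hx; exact hle⟩
    simpa [Groth.Agent.SMT.stdBasis_apply, Groth.Agent.SMT.mX] using h
  rw [← Ideal.span_singleton_prime hne,
    show Ideal.span {Ideal.Quotient.mk J (MvPolynomial.X b)} =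
      (Ideal.span {MvPolynomial.X b}).map (Ideal.Quotient.mk J) by rw [Ideal.map_span, Set.image_singleton]]
  have hp : (J ⊔ Ideal.span {MvPolynomial.X b}).IsPrime := hker ▸ RingHom.ker_isPrime _
  have : (Ideal.span {MvPolynomial.X b}).map (Ideal.Quotient.mk J) =
      (J ⊔ Ideal.span {MvPolynomial.X b}).map (Ideal.Quotient.mk J) := by
    rw [Ideal.map_sup, Ideal.map_quotient_self, bot_sup_eq]
  rw [this]
  exact Ideal.map_isPrime_of_surjective Ideal.Quotient.mk_surjective (by rw [Ideal.mk_ker]; exact le_sup_left)

end Groth.Agent.S11270
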