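import Groth.Statements.S11271
import Groth.Agent.Lib.SMT.RankMinor
import Mathlib.LinearAlgebra.Matrix.SchurComplement
import Mathlib.Algebra.MvPolynomial.Eval
import Mathlib.Algebra.Polynomial.Roots

set_option autoImplicit false
universe u
open W4bk4grassmannian

namespace Groth.Agent.S11271

open W4bk4grassmannian in
/-- Semistable matrices are the matrices of full rank: let K be an algebraically closed field, 0 < d <
n, and let SL_d(K) act on n × d matrices by right multiplication; a matrix A is semistable when the
zero matrix is not in the Zariski closure of its orbit, i.e. when some polynomial in the entries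
vanishes at A g for every g ∈ SL_d(K) but not at 0. Then A is semistable if and only if its columns
are linearly independent. -/
theorem result (K : Type u) [Field K]
    [IsAlgClosed K] (d n : ℕ) (hd : 0 < d) (hdn : d < n) (A : Matrix (Fin n) (Fin d) K) :
    LinearIndependent K A.transpose ↔
      ∃ f : MatRing K d n, (∀ g : Matrix.SpecialLinearGroup (Fin d) K,
        MvPolynomial.eval (fun p : Fin n × Fin d => (A * (g : Matrix (Fin d) (Fin d) K)) p.1 p.2) f = 0) ∧
        MvPolynomial.eval (fun _ : Fin n × Fin d => (0 : K)) f ≠ 0 := by
  classical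
  constructor
  · intro hA
    obtain ⟨θ, hθ⟩ := Groth.Agent.SMT.exists_minor_ne_zero hA
    refine ⟨minor K d n θ.1 - MvPolynomial.C (A.submatrix θ.1 id).det, fun g => ?_, ?_⟩
    · rw [map_sub, MvPolynomial.eval_C, sub_eq_zero, minor, RingHom.map_det]
      rw [show (MvPolynomial.eval fun p : Fin n × Fin d =>
          (A * (g : Matrix (Fin d) (Fin d) K)) p.1 p.2).mapMatrix
          (Matrix.of fun s t : Fin d => (MvPolynomial.X (θ.1 s, t) : MatRing K d n)) =
          A.submatrix θ.1 id * (g : Matrix (Fin d) (Fin d) K) by
        ext s t; simp [Matrix.mul_apply]]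
      rw [Matrix.det_mul, g.2, mul_one]
    · rw [map_sub, MvPolynomial.eval_C, minor, RingHom.map_det]
      rw [show (MvPolynomial.eval fun _ : Fin n × Fin d => (0 : K)).mapMatrix
          (Matrix.of fun s t : Fin d => (MvPolynomial.X (θ.1 s, t) : MatRing K d n)) = 0 by
        ext s t; simp]
      have : Nonempty (Fin d) := ⟨⟨0, hd⟩⟩
      rw [Matrix.det_zero, zero_sub, neg_ne_zero]
      exact hθ
  · rintro ⟨f, hf, h0⟩
    by_contra hdep
    obtain ⟨v, hv, i, hi⟩ := Fintype.not_linearIndependent_iff.1 hdep
    let w : Fin d → K := Pi.single i (v i)⁻¹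
    let P : Matrix (Fin d) (Fin d) K := Matrix.replicateCol Unit v * Matrix.replicateRow Unit w
    have hAP : A * P = 0 := by
      rw [← Matrix.mul_assoc]
      have : A * Matrix.replicateCol Unit v = 0 := by
        ext s u
        have h := congrFun hv s
        simp only [Finset.sum_apply, Pi.smul_apply, Matrix.transpose_apply, smul_eq_mul,
          Pi.zero_apply] at h
        rw [Matrix.mul_apply, Matrix.zero_apply, ← h]
        exact Finset.sum_congr rfl fun k _ => mul_comm _ _
      rw [this, Matrix.zero_mul]
    have key : ∀ t : K, t ≠ 0 →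
        MvPolynomial.eval (fun p : Fin n × Fin d => t * A p.1 p.2) f = 0 := by
      intro t ht
      set c : K := (t ^ d)⁻¹ - 1
      have hdet : (t • (1 + c • P)).det = 1 := by
        rw [Matrix.det_smul, Fintype.card_fin,
          show c • P = Matrix.replicateCol Unit (c • v) * Matrix.replicateRow Unit w by
            rw [Matrix.replicateCol_smul, Matrix.smul_mul],
          Matrix.det_one_add_replicateCol_mul_replicateRow]
        have : w ⬝ᵥ (c • v) = c := by
          rw [dotProduct_smul, single_dotProduct, inv_mul_cancel₀ hi, smul_eq_mul, mul_one]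
        rw [this]
        simp [c, ht]
      have h := hf ⟨_, hdet⟩
      have e : A * (t • (1 + c • P)) = t • A := by
        rw [Matrix.mul_smul, Matrix.mul_add, Matrix.mul_one, Matrix.mul_smul, hAP, smul_zero, add_zero]
      rw [show ((⟨_, hdet⟩ : Matrix.SpecialLinearGroup (Fin d) K) : Matrix (Fin d) (Fin d) K) =
        t • (1 + c • P) from rfl, e] at h
      simpa using h
    let q : Polynomial K := MvPolynomial.aeval
      (fun p : Fin n × Fin d => Polynomial.C (A p.1 p.2) * Polynomial.X) f
    have hq : ∀ t, q.eval t = MvPolynomial.eval (fun p : Fin n × Fin d => t * A p.1 p.2) f := by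
      intro t
      rw [show q.eval t = ((Polynomial.aeval t).comp (MvPolynomial.aeval
        (fun p : Fin n × Fin d => Polynomial.C (A p.1 p.2) * Polynomial.X))) f from
          (congrFun (Polynomial.coe_aeval_eq_eval t) q).symm,
        MvPolynomial.comp_aeval, MvPolynomial.aeval_eq_eval]
      simp [mul_comm t]
    have hq0 : q = 0 := by
      refine Polynomial.eq_zero_of_infinite_isRoot q ?_
      refine Set.Infinite.mono (fun t (ht : t ∈ ({0}ᶜ : Set K)) => ?_) (Set.finite_singleton 0).infinite_compl
      exact (hq t).trans (key t ht)
    apply h0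
    have := hq 0
    simp only [hq0, Polynomial.eval_zero, zero_mul] at this
    exact this.symm

end Groth.Agent.S11271
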