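import Groth.Statements.S11274
import Groth.Agent.Lib.SMT.Families
import Mathlib.FieldTheory.IsAlgClosed.Basic

set_option autoImplicit false
universe u
open W4bk4grassmannian

namespace Groth.Agent.S11274

open W4bk4grassmannian in
/-- Degeneration of the cone over a Schubert variety to a Stanley–Reisner ring: let K be an
algebraically closed field, 0 < d < n, and I(d,n) the strictly increasing maps Fin d → Fin n ordered
entrywise; S = K[X_θ : θ ∈ I(d,n)] is the Plücker polynomial ring and, for τ ∈ I(d,n), J(τ) ⊆ S is
the ideal of polynomials vanishing at the d × d row-minors of every n × d matrix over K whose minors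
on rows φ ≰ τ are zero (the homogeneous ideal of the Schubert variety X(τ) ⊆ G(d,n)). Let w ∈
I(d,n), H(w) = {θ ≤ w} (a distributive lattice under entrywise max and min) and K[x_θ : θ ∈ H(w)]
the polynomial ring on it. Then there is a commutative K[t]-algebra R, free as a K[t]-module, whose
fibre R/tR at t = 0 is K-isomorphic to the Stanley–Reisner ring K[x_θ : θ ≤ w]/(x_α x_β : α, β
incomparable) and whose fibre R/(t - c)R at every c ≠ 0 in K is K-isomorphic to S/J(w): the cone
over the Schubert variety X(w) degenerates flatly to the Stanley–Reisner ring K[x_θ : θ ≤ w]/(x_α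
x_β : α, β incomparable). (Existence of the family and of the fibre isomorphisms only; the published
statement constructs the family explicitly, by deforming the straightening relations, and identifies
R[1/t] with (S/J(w))[t, 1/t], which gives the fibres at c ≠ 0.) -/
theorem result (K : Type u) [Field K] [IsAlgClosed K] (d n : ℕ)
    (hd : 0 < d) (hdn : d < n) (w : Idx d n) :
    ∃ (R : Type u) (_ : CommRing R) (_ : Algebra K R) (_ : Algebra (Polynomial K) R)
      (_ : IsScalarTower K (Polynomial K) R),
      Module.Free (Polynomial K) R ∧
      Nonempty ((R ⧸ Ideal.span {algebraMap (Polynomial K) R Polynomial.X}) ≃ₐ[K]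
        (MvPolynomial (Below w) K ⧸ srIdeal K w)) ∧
      ∀ c : K, c ≠ 0 →
        Nonempty ((R ⧸ Ideal.span {algebraMap (Polynomial K) R (Polynomial.X - Polynomial.C c)}) ≃ₐ[K]
          (PlRing K d n ⧸ schubertVanishing K d n w)) := by
  exact Groth.Agent.SMT.exists_sr_family hd w

end Groth.Agent.S11274
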