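import Groth.Statements.S11276
import Groth.Agent.Lib.SMT.GradedDepth

set_option autoImplicit false
universe u v
open W4bk4grassmannian

namespace Groth.Agent.S11276

/-- With the conclusion at the irrelevant ideal: let K be a field, A a commutative Noetherian K-algebra
graded by ℕ with degree-zero part K, I and J homogeneous ideals of A such that A/I and A/J are
Cohen–Macaulay rings of Krull dimension e and A/(I + J) is a Cohen–Macaulay ring of Krull dimension
e - 1, where e ≥ 1. Let m be the image in A/(I ∩ J) of the irrelevant ideal A_+ (assumed prime; it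
is maximal). Then the local ring (A/(I ∩ J))_m is Cohen–Macaulay of Krull dimension e. (The
published lemma concludes that A/(I ∩ J) itself is Cohen–Macaulay of dimension e; this row states
the conclusion at the irrelevant ideal only, from which the global one follows by the graded
local–global principle.) -/
theorem result (K : Type u) [Field K] (A : Type v) [CommRing A]
    [Algebra K A] [IsNoetherianRing A] (𝒜 : ℕ → Submodule K A) [GradedAlgebra 𝒜]
    (h0 : ∀ a ∈ 𝒜 0, ∃ c : K, algebraMap K A c = a) (I J : Ideal A) (hI : I.IsHomogeneous 𝒜)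
    (hJ : J.IsHomogeneous 𝒜) (e : ℕ) (he : 1 ≤ e)
    (hIcm : LocCoh.IsCohenMacaulayRing (A ⧸ I)) (hJcm : LocCoh.IsCohenMacaulayRing (A ⧸ J))
    (hIJcm : LocCoh.IsCohenMacaulayRing (A ⧸ (I ⊔ J)))
    (hIdim : ringKrullDim (A ⧸ I) = (e : WithBot ℕ∞)) (hJdim : ringKrullDim (A ⧸ J) = (e : WithBot ℕ∞))
    (hIJdim : ringKrullDim (A ⧸ (I ⊔ J)) = ((e - 1 : ℕ) : WithBot ℕ∞))
    [hm : ((HomogeneousIdeal.irrelevant 𝒜).toIdeal.map (Ideal.Quotient.mk (I ⊓ J))).IsPrime] :
    LocCoh.IsCohenMacaulayLocalRing (Localization.AtPrime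
        ((HomogeneousIdeal.irrelevant 𝒜).toIdeal.map (Ideal.Quotient.mk (I ⊓ J)))) ∧
      ringKrullDim (Localization.AtPrime
        ((HomogeneousIdeal.irrelevant 𝒜).toIdeal.map (Ideal.Quotient.mk (I ⊓ J)))) = (e : WithBot ℕ∞) := by
  set M := (HomogeneousIdeal.irrelevant 𝒜).toIdeal
  set B := A ⧸ (I ⊓ J)
  set n := M.map (Ideal.Quotient.mk (I ⊓ J))
  haveI : Nontrivial A := by
    haveI := Ideal.Quotient.nontrivial_iff.2 hm.ne_top
    exact (Ideal.Quotient.mk n).comp (Ideal.Quotient.mk (I ⊓ J)) |>.domain_nontrivial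
  haveI hMmax := Groth.Agent.SMT.isMaximal_irrelevant 𝒜 h0
  have hn : n.IsMaximal := (Ideal.map_eq_top_or_isMaximal_of_surjective _ Ideal.Quotient.mk_surjective hMmax).resolve_left
    hm.ne_top
  have h1 : (e : ℕ∞) ≤ LocCoh.idealDepth M B :=
    Groth.Agent.SMT.idealDepth_inf (Groth.Agent.SMT.le_idealDepth_irrelevant 𝒜 h0 hI hIcm hIdim)
      (Groth.Agent.SMT.le_idealDepth_irrelevant 𝒜 h0 hJ hJcm hJdim)
      (Groth.Agent.SMT.le_idealDepth_irrelevant 𝒜 h0 (hI.sup hJ) hIJcm hIJdim)
  rw [← Groth.Agent.GorenLib.idealDepth_map_of_surjective (A := A) (B := B) Ideal.Quotient.mk_surjective,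
    Ideal.Quotient.algebraMap_eq] at h1
  have h2 := (Groth.Agent.DepthLib.natCast_le_idealDepth_iff_forall_localized e).1 h1 ⟨n, hm⟩ le_rfl
  rw [Groth.Agent.DepthLib.depth_localizedModule_self] at h2
  have h3 : Module.supportDim (Localization.AtPrime n) (Localization.AtPrime n) ≤ (e : WithBot ℕ∞) := by
    rw [Module.supportDim_self_eq_ringKrullDim, IsLocalization.AtPrime.ringKrullDim_eq_height n]
    refine (Ideal.height_le_ringKrullDim_of_ne_top hm.ne_top).trans ?_
    exact (Groth.Agent.SMT.ringKrullDim_quotient_inf_le I J).trans (max_le hIdim.le hJdim.le)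
  have h4 := Groth.Agent.DepthLib.depth_le_supportDim (R := Localization.AtPrime n) (M := Localization.AtPrime n)
  have h5 : Module.supportDim (Localization.AtPrime n) (Localization.AtPrime n) = (e : WithBot ℕ∞) :=
    le_antisymm h3 ((WithBot.coe_le_coe.2 h2).trans h4)
  refine ⟨⟨le_antisymm ?_ h4⟩, ?_⟩
  · rw [h5]; exact WithBot.coe_le_coe.2 h2
  · rw [← Module.supportDim_self_eq_ringKrullDim, h5]

end Groth.Agent.S11276
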