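import Groth.Statements.S11278
import Groth.Agent.Lib.SMT.GradedLoc

set_option autoImplicit false
universe u v
open W4bk4grassmannian

namespace Groth.Agent.S11278

/-- Unique factorization lifts from the homogeneous localization at a prime element of degree one, in
the generality of the published argument: let K be a field, R = ⊕_{i ≥ 0} R_i a Noetherian ℕ-graded
commutative K-algebra which is an integral domain, and s ∈ R_1 a homogeneous element of degree one
which is a prime element of R. If the homogeneous localization R_(s) (degree-zero part of R[1/s])
has unique factorization, then R is a unique factorization domain. (The published statement is the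
case where R is the homogeneous coordinate ring of a Schubert variety, s the Plücker coordinate of
the least index, which is a prime element there, and R_(s) the coordinate ring of the opposite
cell.) -/
theorem result (K : Type u) [Field K] (R : Type v)
    [CommRing R] [IsDomain R] [IsNoetherianRing R] [Algebra K R] (𝒜 : ℕ → Submodule K R) [GradedAlgebra 𝒜]
    (s : R) (hs : s ∈ 𝒜 1) (hp : Prime s)
    (h : UniqueFactorizationMonoid (HomogeneousLocalization.Away 𝒜 s)) :
    UniqueFactorizationMonoid R := by
  haveI := h
  exact Groth.Agent.SMT.ufd_of_homogeneousLocalization 𝒜 hs hp

end Groth.Agent.S11278
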