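import Groth.Statements.S11280
import Groth.Agent.Lib.TrivDef.Basic

set_option autoImplicit false
universe u
open Deform

namespace Groth.Agent.S11280

open TensorProduct in
theorem bijective_of_sub_mem {A B : Type u} [CommRing A] [CommRing B] [Algebra A B] (t : A) (ht : t * t = 0)
    (f : B →ₐ[A] B) (hf : ∀ b, f b - b ∈ Ideal.span {algebraMap A B t}) : Function.Bijective f := by
  have h1 : ∀ x ∈ Ideal.span {algebraMap A B t}, f x = x := fun x hx => by
    obtain ⟨y, rfl⟩ := Ideal.mem_span_singleton'.1 hx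
    obtain ⟨z, hz⟩ := Ideal.mem_span_singleton'.1 (hf y)
    have ht' : algebraMap A B t * algebraMap A B t = 0 := by rw [← map_mul, ht, map_zero]
    rw [map_mul, AlgHom.commutes, ← sub_eq_zero, ← sub_mul, ← hz, mul_assoc, ht', mul_zero]
  refine ⟨(injective_iff_map_eq_zero f).2 fun x hx => ?_, fun y => ⟨y - (f y - y), ?_⟩⟩
  · have hxm : x ∈ Ideal.span {algebraMap A B t} := by
      have := hf x
      rw [hx, zero_sub] at this
      exact neg_mem_iff.1 this
    rw [← h1 x hxm, hx]
  · rw [map_sub, h1 _ (hf y), sub_sub_cancel]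

/-- Let k be an algebraically closed field, A a local Artinian k-algebra with residue field k and t an
element of the maximal ideal of A annihilated by the maximal ideal, so that A is a small extension
of A/tA. Let B be a flat A-algebra whose closed fibre B/m_A B is a formally smooth k-algebra (an
infinitesimal deformation over A of a formally smooth k-algebra). Then every A-algebra automorphism
of B/tB is induced by an A-algebra automorphism of B. (The published statement asks the automorphism
of B/tB to induce the identity on B/m_A B; this row does not. The published statement takes the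
closed fibre smooth, that is formally smooth and essentially of finite type; this row asks the
closed fibre to be formally smooth over k in the sense of lifting along all square-zero surjections
of commutative k-algebras, with no finiteness condition.) -/
theorem result
    {k : Type u} [Field k] [IsAlgClosed k]
    {A : Type u} [CommRing A] [Algebra k A] [IsLocalRing A] [IsArtinianRing A]
    (hres : ∀ a : A, ∃ c : k, a - algebraMap k A c ∈ IsLocalRing.maximalIdeal A)
    (t : A) (ht : t ∈ IsLocalRing.maximalIdeal A)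
    (htm : ∀ a ∈ IsLocalRing.maximalIdeal A, a * t = 0)
    {B : Type u} [CommRing B] [Algebra A B] [Module.Flat A B] [Algebra k B] [IsScalarTower k A B]
    (hsm : Algebra.FormallySmooth k (B ⧸ (IsLocalRing.maximalIdeal A).map (algebraMap A B)))
    (σ : (B ⧸ Ideal.span {algebraMap A B t}) ≃ₐ[A] (B ⧸ Ideal.span {algebraMap A B t})) :
    ∃ τ : B ≃ₐ[A] B, ∀ b : B,
      Ideal.Quotient.mk (Ideal.span {algebraMap A B t}) (τ b) =
        σ (Ideal.Quotient.mk (Ideal.span {algebraMap A B t}) b) := by
  classical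
  let m := IsLocalRing.maximalIdeal A
  have hne : Nontrivial (A ⧸ m) := Ideal.Quotient.nontrivial_iff.2 (Ideal.IsPrime.ne_top inferInstance)
  have hek : Function.Bijective (algebraMap k (A ⧸ m)) := ⟨(algebraMap k (A ⧸ m)).injective, fun a => by
    obtain ⟨a, rfl⟩ := Ideal.Quotient.mk_surjective a
    obtain ⟨c, hc⟩ := hres a
    exact ⟨c, (Ideal.Quotient.eq.2 hc).symm⟩⟩
  let eq : k ≃ₐ[k] A ⧸ m := AlgEquiv.ofBijective (Algebra.ofId k (A ⧸ m)) hek
  let e : A →ₐ[k] k := eq.symm.toAlgHom.comp (Ideal.Quotient.mkₐ k m)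
  have hke : RingHom.ker e = m := by
    ext a
    rw [RingHom.mem_ker]
    exact (map_eq_zero_iff eq.symm eq.symm.injective).trans Ideal.Quotient.eq_zero_iff_mem
  let Q := B ⧸ m.map (algebraMap A B)
  let ρ : B →ₐ[k] Q := Ideal.Quotient.mkₐ k _
  obtain ⟨θ, hθ⟩ := Groth.Agent.TrivDef.exists_trivialization e ρ Ideal.Quotient.mk_surjective
    (by rw [hke]; exact Ideal.mk_ker)
  let I : Ideal B := Ideal.span {algebraMap A B t}
  have htt : t * t = 0 := htm t ht
  have hI : IsNilpotent (RingHom.ker (Ideal.Quotient.mkₐ k I : B →+* B ⧸ I)) := ⟨2, by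
    rw [show RingHom.ker (Ideal.Quotient.mkₐ k I : B →+* B ⧸ I) = I from Ideal.mk_ker, pow_two,
      Ideal.span_singleton_mul_span_singleton, ← map_mul, htt, map_zero]
    simp⟩
  have key : ∀ s : (B ⧸ I) ≃ₐ[A] (B ⧸ I), ∃ f : B →ₐ[A] B, ∀ b, Ideal.Quotient.mk I (f b) = s (Ideal.Quotient.mk I b) := by
    intro s
    let g : TensorProduct k A Q →ₐ[A] B ⧸ I := s.toAlgHom.comp ((Ideal.Quotient.mkₐ A I).comp θ.toAlgHom)
    let g₀ : Q →ₐ[k] B ⧸ I := (g.restrictScalars k).comp Algebra.TensorProduct.includeRight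
    let l : Q →ₐ[k] B := Algebra.FormallySmooth.liftOfSurjective g₀ (Ideal.Quotient.mkₐ k I) Ideal.Quotient.mk_surjective hI
    have hl : ∀ c, Ideal.Quotient.mk I (l c) = g₀ c := fun c =>
      Algebra.FormallySmooth.liftOfSurjective_apply g₀ (Ideal.Quotient.mkₐ k I) Ideal.Quotient.mk_surjective hI c
    let F : TensorProduct k A Q →ₐ[A] B := Algebra.TensorProduct.lift (Algebra.ofId A B) l (fun _ _ => Commute.all _ _)
    have hF : (Ideal.Quotient.mkₐ A I).comp F = g := by
      refine Algebra.TensorProduct.ext (AlgHom.ext fun a => ?_) (AlgHom.ext fun c => ?_)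
      · exact (AlgHom.commutes _ a).trans (AlgHom.commutes _ a).symm
      · show Ideal.Quotient.mk I (F ((1 : A) ⊗ₜ[k] c)) = g ((1 : A) ⊗ₜ[k] c)
        rw [show F ((1 : A) ⊗ₜ[k] c) = algebraMap A B 1 * l c from Algebra.TensorProduct.lift_tmul _ _ _ _ _,
          map_one, one_mul, hl]
        rfl
    refine ⟨F.comp θ.symm.toAlgHom, fun b => ?_⟩
    refine (AlgHom.congr_fun hF (θ.symm b)).trans ?_
    show s (Ideal.Quotient.mk I (θ (θ.symm b))) = _
    rw [AlgEquiv.apply_symm_apply]
  obtain ⟨f, hf⟩ := key σ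
  obtain ⟨f', hf'⟩ := key σ.symm
  have h1 := bijective_of_sub_mem t htt (f'.comp f) fun b => Ideal.Quotient.eq.1 (by
    rw [AlgHom.comp_apply, hf', hf, AlgEquiv.symm_apply_apply])
  have h2 := bijective_of_sub_mem t htt (f.comp f') fun b => Ideal.Quotient.eq.1 (by
    rw [AlgHom.comp_apply, hf, hf', AlgEquiv.apply_symm_apply])
  rw [AlgHom.coe_comp] at h1 h2
  exact ⟨AlgEquiv.ofBijective f ⟨h1.1.of_comp, h2.2.of_comp⟩, hf⟩

end Groth.Agent.S11280
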