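import Groth.Statements.S11281
import Groth.Agent.Lib.ExalLoc3.Basic
import Mathlib.RingTheory.Artinian.Ring
import Mathlib.RingTheory.HopkinsLevitzki

set_option autoImplicit false
universe u
open Deform

namespace Groth.Agent.S11281

open Groth.Agent

set_option maxHeartbeats 1000000

/-- Let k be an algebraically closed field, Λ a local Noetherian k-algebra with residue field k, and R a
local Noetherian Λ-algebra, with local structure map and residue field k. The following are
equivalent: (a) every Λ-extension of R by its residue field k is trivial, i.e. the relative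
obstruction space o(R/Λ) = Ex_Λ(R, k) vanishes; (b) for every local Artinian Λ-algebra B with
residue field k and every t in the maximal ideal of B annihilated by the maximal ideal, every
Λ-algebra map R → B/tB lifts to a Λ-algebra map R → B (formal smoothness of R over Λ tested on small
extensions of Artinian rings). The test algebras B range over the universe of R. -/
theorem result
    {k : Type u} [Field k] [IsAlgClosed k]
    {Λ : Type u} [CommRing Λ] [Algebra k Λ] [IsLocalRing Λ] [IsNoetherianRing Λ]
    (hΛ : ∀ a : Λ, ∃ c : k, a - algebraMap k Λ c ∈ IsLocalRing.maximalIdeal Λ)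
    {R : Type u} [CommRing R] [Algebra Λ R] [IsLocalRing R] [IsNoetherianRing R]
    [IsLocalHom (algebraMap Λ R)]
    (hR : ∀ r : R, ∃ c : k, r - algebraMap Λ R (algebraMap k Λ c) ∈ IsLocalRing.maximalIdeal R) :
    (∀ X : Exal.Ext Λ R (IsLocalRing.ResidueField R), X.IsTrivial) ↔
    (∀ (B : Type u) [CommRing B] [Algebra Λ B] [IsLocalRing B] [IsArtinianRing B],
      (∀ b : B, ∃ c : k, b - algebraMap Λ B (algebraMap k Λ c) ∈ IsLocalRing.maximalIdeal B) →
      ∀ t : B, t ∈ IsLocalRing.maximalIdeal B → (∀ b ∈ IsLocalRing.maximalIdeal B, b * t = 0) →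
      ∀ φ : R →ₐ[Λ] B ⧸ Ideal.span {t},
        ∃ φ' : R →ₐ[Λ] B, (Ideal.Quotient.mkₐ Λ (Ideal.span {t})).comp φ' = φ) := by
  classical
  haveI : IsSimpleModule R (IsLocalRing.ResidueField R) :=
    isSimpleModule_iff_quot_maximal.2 ⟨IsLocalRing.maximalIdeal R, inferInstance, ⟨LinearEquiv.refl R _⟩⟩
  let cst : k →+* R := (algebraMap Λ R).comp (algebraMap k Λ)
  let ρ : k →+* IsLocalRing.ResidueField R := (IsLocalRing.residue R).comp cst
  have hρ : Function.Bijective ρ := ⟨ρ.injective, fun z => by
    obtain ⟨r, rfl⟩ := IsLocalRing.residue_surjective z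
    obtain ⟨c, hc⟩ := hR r
    exact ⟨c, (Ideal.Quotient.eq.2 hc).symm⟩⟩
  constructor
  · intro htriv B _ _ _ _ hB t ht htm φ
    by_cases ht0 : t = 0
    · subst ht0
      have hb : Function.Bijective (Ideal.Quotient.mkₐ Λ (Ideal.span {(0 : B)})) := by
        refine ⟨fun x y h => ?_, Ideal.Quotient.mk_surjective⟩
        have h' := Ideal.Quotient.eq.1 h
        rwa [Ideal.span_singleton_zero, Ideal.mem_bot, sub_eq_zero] at h'
      exact ⟨(AlgEquiv.ofBijective _ hb).symm.toAlgHom.comp φ,
        AlgHom.ext fun r => (AlgEquiv.ofBijective _ hb).apply_symm_apply (φ r)⟩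
    let c : IsLocalRing.ResidueField R ≃+* k := (RingEquiv.ofBijective ρ hρ).symm
    let ι : k →+* B := (algebraMap Λ B).comp (algebraMap k Λ)
    let T := Ideal.span ({t} : Set B)
    let q : B →ₐ[Λ] B ⧸ T := Ideal.Quotient.mkₐ Λ T
    have hTle : T ≤ IsLocalRing.maximalIdeal B := (Ideal.span_singleton_le_iff_mem _).2 ht
    have hφloc : ∀ r ∈ IsLocalRing.maximalIdeal R, ∀ b, q b = φ r → b ∈ IsLocalRing.maximalIdeal B := by
      let ψ : R →+* IsLocalRing.ResidueField B :=
        (Ideal.Quotient.lift T (IsLocalRing.residue B) fun a ha => Ideal.Quotient.eq_zero_iff_mem.2 (hTle ha)).comp φ.toRingHom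
      have hψ : Function.Surjective ψ := fun z => by
        obtain ⟨b, rfl⟩ := IsLocalRing.residue_surjective z
        obtain ⟨a, ha⟩ := hB b
        refine ⟨cst a, ?_⟩
        simp only [ψ, cst, RingHom.comp_apply, AlgHom.toRingHom_eq_coe, RingHom.coe_coe, AlgHom.commutes]
        exact (Ideal.Quotient.eq.2 ha).symm
      have hk := IsLocalRing.eq_maximalIdeal (RingHom.ker_isMaximal_of_surjective ψ hψ)
      intro r hr b hb
      rw [← hk, RingHom.mem_ker] at hr
      simp only [ψ, RingHom.comp_apply, AlgHom.toRingHom_eq_coe, RingHom.coe_coe, ← hb] at hr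
      exact Ideal.Quotient.eq_zero_iff_mem.1 hr
    let P : Subalgebra Λ (B × R) :=
      AlgHom.equalizer (q.comp (AlgHom.fst Λ B R)) (φ.comp (AlgHom.snd Λ B R))
    let incl : IsLocalRing.ResidueField R →+ P :=
      { toFun := fun z => ⟨(ι (c z) * t, 0), by
          show q (ι (c z) * t) = φ 0
          rw [map_zero]
          exact Ideal.Quotient.eq_zero_iff_mem.2 (Ideal.mul_mem_left _ _ (Ideal.mem_span_singleton_self t))⟩
        map_zero' := Subtype.ext (Prod.ext (by simp) rfl)
        map_add' := fun z z' => Subtype.ext (Prod.ext (by simp [add_mul]) (by simp)) }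
    let X : Exal.Ext Λ R (IsLocalRing.ResidueField R) :=
      { E := P
        proj := (AlgHom.snd Λ B R).comp P.val
        incl := incl
        isExtension :=
          { proj_surjective := fun r => by
              obtain ⟨b, hb⟩ := Ideal.Quotient.mk_surjective (φ r)
              exact ⟨⟨(b, r), hb⟩, rfl⟩
            incl_injective := (injective_iff_map_eq_zero incl).2 fun z hz => by
              have h1 : ι (c z) * t = 0 := congrArg (fun e : P => e.1.1) hz
              by_contra hz0
              have hu : IsUnit (ι (c z)) :=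
                (isUnit_iff_ne_zero.2 fun h => hz0 (c.injective (h.trans (map_zero c).symm))).map ι
              exact ht0 (hu.mul_right_eq_zero.1 h1)
            exact := fun x => by
              constructor
              · intro hx
                have h1 : x.1.1 ∈ T := Ideal.Quotient.eq_zero_iff_mem.1
                  ((show q x.1.1 = φ x.1.2 from x.2).trans
                    (by rw [show x.1.2 = 0 from hx, map_zero]))
                obtain ⟨b, hb⟩ := Ideal.mem_span_singleton'.1 h1
                obtain ⟨a, ha⟩ := hB b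
                refine ⟨ρ a, Subtype.ext (Prod.ext ?_ hx.symm)⟩
                show ι (c (ρ a)) * t = x.1.1
                rw [show c (ρ a) = a from (RingEquiv.ofBijective ρ hρ).symm_apply_apply a, ← hb]
                have := htm _ ha
                rw [sub_mul, sub_eq_zero] at this
                exact this.symm
              · rintro ⟨z, rfl⟩; rfl
            mul_incl := fun x z => by
              refine Subtype.ext (Prod.ext ?_ (mul_zero _))
              obtain ⟨a, ha⟩ := hR x.1.2
              have hz : x.1.2 • z = ρ a * z := by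
                rw [Algebra.smul_def]
                congr 1
                exact Ideal.Quotient.eq.2 ha
              show x.1.1 * (ι (c z) * t) = ι (c (x.1.2 • z)) * t
              rw [hz, map_mul, show c (ρ a) = a from (RingEquiv.ofBijective ρ hρ).symm_apply_apply a, map_mul]
              have h1 : x.1.1 - ι a ∈ IsLocalRing.maximalIdeal B := hφloc _ ha _ (by
                rw [map_sub, map_sub, show q x.1.1 = φ x.1.2 from x.2, φ.commutes]
                rfl)
              linear_combination ι (c z) * htm _ h1 } }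
    obtain ⟨s, hs⟩ := htriv X
    refine ⟨((AlgHom.fst Λ B R).comp P.val).comp s, AlgHom.ext fun r => ?_⟩
    exact (s r).2.trans (congrArg φ (hs r))
  · intro hlift X
    obtain ⟨N₀, hN₀⟩ := ExalLoc3.exists_good X
    let N := N₀ + 1
    have hN : ExalLoc3.Good X N := hN₀.mono (by omega)
    let M := ExalLoc3.maxE X
    let B := X.E ⧸ M ^ N
    let π : X.E →ₐ[Λ] B := Ideal.Quotient.mkₐ Λ (M ^ N)
    haveI : IsLocalRing X.E := ExalLoc3.isLocalRing X
    haveI : IsNoetherianRing X.E := ExalLoc3.isNoetherianRing X
    haveI : Nontrivial B := Ideal.Quotient.nontrivial_iff.2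
      (ne_top_of_le_ne_top (ExalLoc3.maxE_ne_top X) (Ideal.pow_le_self (by omega)))
    haveI : IsLocalRing B := IsLocalRing.of_surjective' (Ideal.Quotient.mk _) Ideal.Quotient.mk_surjective
    have hmaxB : IsLocalRing.maximalIdeal B = M.map (Ideal.Quotient.mk (M ^ N)) := by
      have h1 := Ideal.map_isPrime_of_surjective (f := Ideal.Quotient.mk (M ^ N)) Ideal.Quotient.mk_surjective
        (I := M) (by rw [Ideal.mk_ker]; exact Ideal.pow_le_self (by omega))
      rw [← IsLocalRing.map_maximalIdeal_of_surjective _ (Ideal.Quotient.mk_surjective (I := M ^ N)),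
        ExalLoc3.eq_maximalIdeal]
    haveI : IsArtinianRing B := by
      refine (isArtinianRing_iff_isNilpotent_maximalIdeal B).2 ⟨N, ?_⟩
      rw [hmaxB, ← Ideal.map_pow, Ideal.map_quotient_self]
      rfl
    let t : B := π (X.incl 1)
    have ht : t ∈ IsLocalRing.maximalIdeal B := hmaxB ▸ Ideal.mem_map_of_mem _ (Ideal.mem_comap.2 (by
      rw [Exal3L.proj_incl]
      exact zero_mem _))
    have htm : ∀ b ∈ IsLocalRing.maximalIdeal B, b * t = 0 := by
      intro b hb
      rw [hmaxB] at hb
      obtain ⟨e, he, rfl⟩ := (Ideal.mem_map_iff_of_surjective _ Ideal.Quotient.mk_surjective).1 hb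
      show π e * π (X.incl 1) = 0
      rw [← map_mul, ExalLoc3.mul_incl_eq_zero X he, map_zero]
    have hBres : ∀ b : B, ∃ c : k, b - algebraMap Λ B (algebraMap k Λ c) ∈ IsLocalRing.maximalIdeal B := by
      intro b
      obtain ⟨e, rfl⟩ := Ideal.Quotient.mk_surjective b
      obtain ⟨c, hc⟩ := hR (X.proj e)
      refine ⟨c, hmaxB ▸ ?_⟩
      show π e - algebraMap Λ B _ ∈ _
      rw [← π.commutes, ← map_sub]
      exact Ideal.mem_map_of_mem _ (Ideal.mem_comap.2 (by
        rwa [map_sub, AlgHom.commutes]))
    let g₀ : X.E →ₐ[Λ] B ⧸ Ideal.span {t} := (Ideal.Quotient.mkₐ Λ _).comp π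
    have hker : RingHom.ker X.proj ≤ RingHom.ker g₀ := fun e he => by
      obtain ⟨z, rfl⟩ := (X.isExtension.exact e).1 he
      obtain ⟨r, rfl⟩ := IsLocalRing.residue_surjective z
      obtain ⟨f, rfl⟩ := X.isExtension.proj_surjective r
      have h1 : X.incl (IsLocalRing.residue R (X.proj f)) = f * X.incl 1 := by
        rw [X.isExtension.mul_incl, Algebra.smul_def, mul_one]
        rfl
      show g₀ _ = 0
      rw [h1]
      exact Ideal.Quotient.eq_zero_iff_mem.2 (by
        show π (f * X.incl 1) ∈ _
        rw [map_mul]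
        exact Ideal.mul_mem_left _ _ (Ideal.mem_span_singleton_self t))
    let φ : R →ₐ[Λ] B ⧸ Ideal.span {t} :=
      AlgHom.liftOfSurjective X.proj X.isExtension.proj_surjective g₀ hker
    obtain ⟨φ', hφ'⟩ := hlift B hBres t ht htm φ
    have hcompat : ∀ r, ExalLoc3.piBar X N (φ' r) = Ideal.Quotient.mk _ r := by
      intro r
      obtain ⟨e, rfl⟩ := X.isExtension.proj_surjective r
      have h1 : Ideal.Quotient.mk (Ideal.span {t}) (φ' (X.proj e)) = Ideal.Quotient.mk _ (π e) :=
        (DFunLike.congr_fun hφ' (X.proj e)).trans (AlgHom.liftOfSurjective_apply _ _ _ _ e)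
      obtain ⟨b, hb⟩ := Ideal.mem_span_singleton'.1 (Ideal.Quotient.eq.1 h1)
      rw [show φ' (X.proj e) = π e + b * t by rw [hb]; ring, map_add, map_mul]
      show Ideal.Quotient.mk _ (X.proj e) + _ * Ideal.Quotient.mk _ (X.proj (X.incl 1)) = _
      rw [Exal3L.proj_incl, map_zero, mul_zero, add_zero]
    obtain ⟨u, hu, -⟩ := ExalLoc3.exists_lift X hN (AlgHom.id Λ R) φ' hcompat
    exact ⟨u, hu⟩

end Groth.Agent.S11281
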