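import Groth.Statements.S11282
import Groth.Agent.Lib.ExalLoc3.Basic
import Groth.Agent.Lib.ExalLoc3.Compl
import Groth.Agent.Lib.H2Alg.PSHom
import Groth.Agent.Lib.RegLoc.Sop

set_option autoImplicit false
universe u
open Deform

namespace Groth.Agent.S11282

open Groth.Agent

set_option maxHeartbeats 1000000

/-- Let k be an algebraically closed field, Λ a complete local Noetherian k-algebra with residue field
k, and R a local Noetherian Λ-algebra with local structure map, residue field k and maximal ideal m.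
Then for some n the pull-back map o((R/m^(n+1))/Λ) → o(R/Λ) on obstruction spaces is onto: every
Λ-extension 0 → k → E → R → 0 of R by its residue field is the inverse image of a Λ-extension of
R/m^(n+1) by k. Concretely, the middle ring E of every such extension contains an ideal I which
meets the kernel k only in 0 and whose image in R is exactly m^(n+1) (then E/I is an extension of
R/m^(n+1) by k whose inverse image along R → R/m^(n+1) is E). -/
theorem result
    {k : Type u} [Field k] [IsAlgClosed k]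
    {Λ : Type u} [CommRing Λ] [Algebra k Λ] [IsLocalRing Λ] [IsNoetherianRing Λ]
    [IsAdicComplete (IsLocalRing.maximalIdeal Λ) Λ]
    (hΛ : ∀ a : Λ, ∃ c : k, a - algebraMap k Λ c ∈ IsLocalRing.maximalIdeal Λ)
    {R : Type u} [CommRing R] [Algebra Λ R] [IsLocalRing R] [IsNoetherianRing R]
    [IsLocalHom (algebraMap Λ R)]
    (hR : ∀ r : R, ∃ c : k, r - algebraMap Λ R (algebraMap k Λ c) ∈ IsLocalRing.maximalIdeal R) :
    ∃ n : ℕ, ∀ X : Exal.Ext Λ R (IsLocalRing.ResidueField R),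
      ∃ I : Ideal X.E, (∀ x ∈ I, X.proj x = 0 → x = 0) ∧
        Ideal.map X.proj I = IsLocalRing.maximalIdeal R ^ (n + 1) := by
  classical
  haveI : IsSimpleModule R (IsLocalRing.ResidueField R) :=
    isSimpleModule_iff_quot_maximal.2 ⟨IsLocalRing.maximalIdeal R, inferInstance, ⟨LinearEquiv.refl R _⟩⟩
  let m := IsLocalRing.maximalIdeal R
  let Rh := AdicCompletion m R
  obtain ⟨x, hx⟩ := RegLoc.exists_fin_generators R
  let d := m.spanFinrank
  let P := MvPowerSeries (Fin d) Λ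
  let V : Ideal P := Ideal.span (Set.range MvPowerSeries.X)
  have hxm : ∀ i, x i ∈ m := fun i => hx.le (Ideal.subset_span ⟨i, rfl⟩)
  have hmax : IsLocalRing.maximalIdeal Rh = m.map (algebraMap R Rh) := AdicCompletion.maximalIdeal_eq_map
  obtain ⟨ψ, hψ⟩ := H2Alg.PSHom.exists_algHom (A := Λ) (IsLocalRing.maximalIdeal Rh)
    (fun i => algebraMap R Rh (x i)) fun i => hmax ▸ Ideal.mem_map_of_mem _ (hxm i)
  have hVmap : V.map ψ = IsLocalRing.maximalIdeal Rh := by
    refine Eq.trans ?_ (hmax.trans (congrArg (Ideal.map (algebraMap R Rh)) hx.symm)).symm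
    rw [Ideal.map_span, Ideal.map_span, ← Set.range_comp, ← Set.range_comp]
    exact congrArg _ (congrArg Set.range (funext hψ))
  have hψs : Function.Surjective ψ := by
    refine H2Alg.PSHom.surjective ψ (IsLocalRing.maximalIdeal Rh) hVmap fun t => ?_
    obtain ⟨a, ha⟩ := ExalLoc3.exists_sub_algebraMap_mem 1 t
    obtain ⟨c, hc⟩ := hR a
    refine ⟨algebraMap k Λ c, ?_⟩
    rw [pow_one] at ha
    have h1 : algebraMap R Rh (a - algebraMap Λ R (algebraMap k Λ c)) ∈ IsLocalRing.maximalIdeal Rh :=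
      hmax ▸ Ideal.mem_map_of_mem _ hc
    rw [map_sub, ← IsScalarTower.algebraMap_apply] at h1
    have := add_mem ha h1
    rwa [sub_add_sub_cancel] at this
  let J : Ideal P := RingHom.ker ψ
  obtain ⟨n, hn⟩ := Ideal.exists_pow_inf_eq_pow_smul V (M := P) J
  have hAR : ∀ p, p ∈ V ^ (n + 1) → p ∈ J → p ∈ V * J := by
    intro p hp hpJ
    have h1 : p ∈ V ^ (n + 1) • (⊤ : Submodule P P) ⊓ J :=
      ⟨by rw [smul_eq_mul, Ideal.mul_top]; exact hp, hpJ⟩
    rw [hn (n + 1) (Nat.le_succ n), Nat.add_sub_cancel_left, pow_one] at h1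
    exact Submodule.smul_mono le_rfl inf_le_right h1
  refine ⟨n, fun X => ?_⟩
  obtain ⟨N₀, hN₀⟩ := ExalLoc3.exists_good X
  let N := N₀ + (n + 1)
  have hN : ExalLoc3.Good X N := hN₀.mono (Nat.le_add_right _ _)
  let M := ExalLoc3.maxE X
  let π : X.E →ₐ[Λ] X.E ⧸ M ^ N := Ideal.Quotient.mkₐ Λ (M ^ N)
  let ε : Rh →ₐ[Λ] R ⧸ m ^ N := (AdicCompletion.evalₐ m N).restrictScalars Λ
  choose f hf using fun i => X.isExtension.proj_surjective (x i)
  have hfM : ∀ i, f i ∈ M := fun i => by rw [Ideal.mem_comap, hf]; exact hxm i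
  obtain ⟨g, hg, -⟩ := AdicSmooth.exists_algHom_of_isNilpotent (A := Λ) (fun i => π (f i)) (fun i =>
    ⟨N, by rw [← map_pow]; exact Ideal.Quotient.eq_zero_iff_mem.2 (Ideal.pow_mem_pow (hfM i) N)⟩)
  have hgV : V.map g ≤ M.map (Ideal.Quotient.mk (M ^ N)) := by
    rw [Ideal.map_span, Ideal.span_le]
    rintro _ ⟨_, ⟨i, rfl⟩, rfl⟩
    rw [SetLike.mem_coe, hg i]
    exact Ideal.mem_map_of_mem _ (hfM i)
  have hkill : ∀ p ∈ V ^ N, g p = 0 := fun p hp => by
    have h2 := Ideal.mem_map_of_mem g hp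
    rw [Ideal.map_pow] at h2
    have h3 := Ideal.pow_right_mono hgV N h2
    rw [← Ideal.map_pow, Ideal.map_quotient_self] at h3
    exact h3
  have hcomp : ∀ p, ExalLoc3.piBar X N (g p) = ε (ψ p) := by
    refine DFunLike.congr_fun (f := (ExalLoc3.piBar X N).comp g) (g := ε.comp ψ)
      (AdicSmooth.algHom_eq_of_forall_X (I := V) (fun i => Ideal.subset_span ⟨i, rfl⟩)
        ⟨N, fun p hp => by rw [AlgHom.comp_apply, hkill p hp, map_zero]⟩ ⟨N, fun p hp => ?_⟩ fun i => ?_)
    · refine (ExalLoc3.evalₐ_eq_zero_iff N _).2 ?_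
      rw [← hVmap, ← Ideal.map_pow]
      exact Ideal.mem_map_of_mem ψ hp
    · rw [AlgHom.comp_apply, AlgHom.comp_apply, hg, hψ]
      show Ideal.Quotient.mk _ (X.proj (f i)) = AdicCompletion.evalₐ m N (algebraMap R Rh (x i))
      rw [hf, ExalLoc3.evalₐ_algebraMap]
  -- elements killed by `M`
  have hMker : ∀ a b, a ∈ M.map (Ideal.Quotient.mk (M ^ N)) → ExalLoc3.piBar X N b = 0 → a * b = 0 := by
    intro a₀ b ha₀ hb
    obtain ⟨a, ha, rfl⟩ := (Ideal.mem_map_iff_of_surjective _ Ideal.Quotient.mk_surjective).1 ha₀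
    obtain ⟨e, h1, rfl⟩ := ExalLoc3.exists_mid X 0 b (by rw [hb, map_zero])
    obtain ⟨z, rfl⟩ := (X.isExtension.exact e).1 h1
    rw [← map_mul, ExalLoc3.mul_incl_eq_zero X ha, map_zero]
  have hVg : ∀ p ∈ V, g p ∈ M.map (Ideal.Quotient.mk (M ^ N)) := fun p hp => hgV (Ideal.mem_map_of_mem g hp)
  have hJkill : ∀ p ∈ V * J, g p = 0 := fun p hp => by
    refine Submodule.mul_induction_on hp (fun a ha b hb => ?_) fun a b ha hb => by rw [map_add, ha, hb, add_zero]
    rw [map_mul]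
    exact hMker _ _ (hVg a ha) (by rw [hcomp, show ψ b = 0 from hb, map_zero])
  let K : Ideal (X.E ⧸ M ^ N) := (V ^ (n + 1)).map g
  have hK : ∀ b ∈ K, ∃ p ∈ V ^ (n + 1), g p = b := by
    intro b hb
    refine Submodule.span_induction ?_ ⟨0, zero_mem _, map_zero g⟩ ?_ ?_ hb
    · rintro _ ⟨p, hp, rfl⟩; exact ⟨p, hp, rfl⟩
    · rintro a b - - ⟨p, hp, rfl⟩ ⟨q, hq, rfl⟩; exact ⟨p + q, add_mem hp hq, map_add g p q⟩
    · rintro c a - ⟨p, hp, rfl⟩
      obtain ⟨e, rfl⟩ := Ideal.Quotient.mk_surjective c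
      obtain ⟨q, hq⟩ := hψs (algebraMap R Rh (X.proj e))
      refine ⟨q * p, Ideal.mul_mem_left _ _ hp, ?_⟩
      rw [map_mul, smul_eq_mul, ← sub_eq_zero, ← sub_mul, mul_comm]
      refine hMker _ _ (hVg p (Ideal.pow_le_self (by omega) hp)) ?_
      rw [map_sub, hcomp, hq]
      show AdicCompletion.evalₐ m N _ - Ideal.Quotient.mk _ (X.proj e) = 0
      rw [ExalLoc3.evalₐ_algebraMap, sub_self]
  let I : Ideal X.E := (m ^ (n + 1)).comap X.proj ⊓ K.comap π
  refine ⟨I, fun e he he0 => ?_, le_antisymm (Ideal.map_le_iff_le_comap.2 inf_le_left) fun r hr => ?_⟩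
  · obtain ⟨z, rfl⟩ := (X.isExtension.exact e).1 he0
    obtain ⟨p, hp, hp'⟩ := hK _ he.2
    have h1 : ε (ψ p) = 0 := by
      rw [← hcomp, hp']
      show Ideal.Quotient.mk _ (X.proj (X.incl z)) = 0
      rw [he0, map_zero]
    have h2 : ψ p ∈ (V ^ N).map ψ := by
      rw [Ideal.map_pow, hVmap]
      exact (ExalLoc3.evalₐ_eq_zero_iff N _).1 h1
    obtain ⟨q, hq, hqp⟩ := (Ideal.mem_map_iff_of_surjective _ hψs).1 h2
    have h3 : p - q ∈ V * J := hAR _ (sub_mem hp (Ideal.pow_le_pow_right (Nat.le_add_left _ _) hq))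
      (show ψ (p - q) = 0 by rw [map_sub, hqp, sub_self])
    have h4 : g p = 0 := by
      have := hJkill _ h3
      rwa [map_sub, hkill q hq, sub_zero] at this
    rw [hN z (Ideal.Quotient.eq_zero_iff_mem.1 (hp'.symm.trans h4)), map_zero]
  · have h1 : algebraMap R Rh r ∈ (V ^ (n + 1)).map ψ := by
      rw [Ideal.map_pow, hVmap]
      exact (ExalLoc3.algebraMap_mem_pow_iff _ r).2 hr
    obtain ⟨p, hp, hpr⟩ := (Ideal.mem_map_iff_of_surjective _ hψs).1 h1
    obtain ⟨e, he1, he2⟩ := ExalLoc3.exists_mid X r (g p) (by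
      rw [hcomp, hpr]; exact ExalLoc3.evalₐ_algebraMap N r)
    refine (Ideal.mem_map_iff_of_surjective _ X.isExtension.proj_surjective).2 ⟨e, ⟨?_, ?_⟩, he1⟩
    · rw [SetLike.mem_coe, Ideal.mem_comap, he1]; exact hr
    · show π e ∈ K
      rw [show π e = g p from he2]
      exact Ideal.mem_map_of_mem g hp

end Groth.Agent.S11282
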