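import Groth.Statements.S11283
import Groth.Agent.Lib.ExalLoc3.Basic
import Groth.Agent.Lib.ExalLoc3.Compl
import Groth.Agent.Lib.Compl.Dim

set_option autoImplicit false
universe u
open Deform

namespace Groth.Agent.S11283

open Groth.Agent

set_option maxHeartbeats 1000000

/-- Let k be an algebraically closed field, Λ a complete local Noetherian k-algebra with residue field
k, R a local Noetherian Λ-algebra with local structure map and residue field k, and R̂ the
completion of R at its maximal ideal. Let L be a simple R-module (a one-dimensional k-vector space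
on which R acts through its residue field) carrying a compatible R̂-module structure. Then inverse
image of Λ-extensions along R → R̂ induces a bijection o(R̂/Λ) → o(R/Λ) on classes of Λ-extensions
by L: two Λ-extensions of R̂ by L whose inverse images over R are equivalent are equivalent, and
every Λ-extension of R by L is equivalent to the inverse image of one of R̂. -/
theorem result
    {k : Type u} [Field k] [IsAlgClosed k]
    {Λ : Type u} [CommRing Λ] [Algebra k Λ] [IsLocalRing Λ] [IsNoetherianRing Λ]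
    [IsAdicComplete (IsLocalRing.maximalIdeal Λ) Λ]
    (hΛ : ∀ a : Λ, ∃ c : k, a - algebraMap k Λ c ∈ IsLocalRing.maximalIdeal Λ)
    {R : Type u} [CommRing R] [Algebra Λ R] [IsLocalRing R] [IsNoetherianRing R]
    [IsLocalHom (algebraMap Λ R)]
    (hR : ∀ r : R, ∃ c : k, r - algebraMap Λ R (algebraMap k Λ c) ∈ IsLocalRing.maximalIdeal R)
    (L : Type u) [AddCommGroup L] [Module (AdicCompletion (IsLocalRing.maximalIdeal R) R) L] [Module R L]
    [IsScalarTower R (AdicCompletion (IsLocalRing.maximalIdeal R) R) L] [IsSimpleModule R L] :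
    (∀ X X' : Exal.Ext Λ (AdicCompletion (IsLocalRing.maximalIdeal R) R) L,
        Nonempty ((X.pullback R).Equiv (X'.pullback R)) → Nonempty (X.Equiv X')) ∧
    (∀ Y : Exal.Ext Λ R L, ∃ X : Exal.Ext Λ (AdicCompletion (IsLocalRing.maximalIdeal R) R) L,
        Nonempty ((X.pullback R).Equiv Y)) := by
  classical
  let Rh := AdicCompletion (IsLocalRing.maximalIdeal R) R
  haveI : IsNoetherianRing Rh := Compl.isNoetherianRing_maximalIdeal_adicCompletion R
  haveI : IsSimpleModule Rh L := isSimpleModule_iff_toSpanSingleton_surjective.2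
    ⟨IsSimpleModule.nontrivial R L, fun x hx y => by
      obtain ⟨r, hr⟩ := IsSimpleModule.toSpanSingleton_surjective R hx y
      exact ⟨algebraMap R Rh r, by
        rw [LinearMap.toSpanSingleton_apply, algebraMap_smul]; exact hr⟩⟩
  refine ⟨fun X X' ⟨e⟩ => ?_, fun Y => ?_⟩
  · obtain ⟨N₁, hN₁⟩ := ExalLoc3.exists_good X
    obtain ⟨N₂, hN₂⟩ := ExalLoc3.exists_good X'
    let N := N₁ + N₂
    have hN : ExalLoc3.Good X N := hN₁.mono (Nat.le_add_right _ _)
    have hN' : ExalLoc3.Good X' N := hN₂.mono (Nat.le_add_left _ _)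
    let π : X.E →ₐ[Λ] X.E ⧸ ExalLoc3.maxE X ^ N := Ideal.Quotient.mkₐ Λ _
    let π' : X'.E →ₐ[Λ] X'.E ⧸ ExalLoc3.maxE X' ^ N := Ideal.Quotient.mkₐ Λ _
    let f : (X.pullback R).E →ₐ[Λ] X.E := (AlgHom.fst Λ X.E R).comp (X.fiberProd R).val
    let f' : (X'.pullback R).E →ₐ[Λ] X'.E := (AlgHom.fst Λ X'.E R).comp (X'.fiberProd R).val
    have hf : ∀ y : (X.pullback R).E, X.proj (f y) = algebraMap R Rh ((X.pullback R).proj y) := fun y => y.2
    have hf' : ∀ y : (X'.pullback R).E, X'.proj (f' y) = algebraMap R Rh ((X'.pullback R).proj y) := fun y => y.2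
    have hmax : ∀ (Z : Exal.Ext Λ Rh L) (g : (Z.pullback R).E →ₐ[Λ] Z.E),
        (∀ y, Z.proj (g y) = algebraMap R Rh ((Z.pullback R).proj y)) →
        ∀ y ∈ ExalLoc3.maxE (Z.pullback R) ^ N, g y ∈ ExalLoc3.maxE Z ^ N := by
      intro Z g hg y hy
      have h1 : (ExalLoc3.maxE (Z.pullback R)).map g ≤ ExalLoc3.maxE Z := Ideal.map_le_iff_le_comap.2 fun z hz => by
        rw [Ideal.mem_comap, Ideal.mem_comap, hg]
        exact map_nonunit (algebraMap R Rh) _ hz
      have h2 := Ideal.mem_map_of_mem g hy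
      rw [Ideal.map_pow] at h2
      exact Ideal.pow_right_mono h1 N h2
    let σ : (X.pullback R).E →ₐ[Λ] X.E ⧸ ExalLoc3.maxE X ^ N := π.comp f
    let σ' : (X.pullback R).E →ₐ[Λ] X'.E ⧸ ExalLoc3.maxE X' ^ N := π'.comp (f'.comp e.toAlgEquiv.toAlgHom)
    have hσ : Function.Surjective σ := fun b => by
      obtain ⟨x, rfl⟩ := Ideal.Quotient.mk_surjective b
      obtain ⟨a, ha⟩ := ExalLoc3.exists_sub_algebraMap_mem N (X.proj x)
      obtain ⟨x₁, h1, h2⟩ := ExalLoc3.exists_mid X (algebraMap R Rh a) (π x) (Ideal.Quotient.eq.2 ha)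
      exact ⟨⟨(x₁, a), h1⟩, h2⟩
    have hker : RingHom.ker σ ≤ RingHom.ker σ' := by
      intro y hy
      have hy' : f y ∈ ExalLoc3.maxE X ^ N := Ideal.Quotient.eq_zero_iff_mem.1 hy
      have h1 := ExalLoc3.maxE_pow_le X N hy'
      rw [Ideal.mem_comap, hf, ExalLoc3.algebraMap_mem_pow_iff] at h1
      obtain ⟨y', hy1, hy2⟩ := ExalLoc3.exists_mem_maxE_pow (X.pullback R) h1
      obtain ⟨z, hz⟩ := Exal3L.exists_incl_eq_sub (X.pullback R) y y' hy2.symm
      have hz0 : z = 0 := hN z (by
        show f ((X.pullback R).incl z) ∈ _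
        rw [hz, map_sub]
        exact sub_mem hy' (hmax X f hf y' hy1))
      rw [hz0, map_zero, eq_comm, sub_eq_zero] at hz
      refine Ideal.Quotient.eq_zero_iff_mem.2 (hmax X' f' hf' _ ?_)
      have h3 : (ExalLoc3.maxE (X.pullback R)).map e.toAlgEquiv.toAlgHom ≤ ExalLoc3.maxE (X'.pullback R) :=
        Ideal.map_le_iff_le_comap.2 fun w hw => by
          rw [Ideal.mem_comap, Ideal.mem_comap]
          show (X'.pullback R).proj (e.toAlgEquiv w) ∈ _
          rw [e.proj_apply]
          exact hw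
      have h4 := Ideal.mem_map_of_mem e.toAlgEquiv.toAlgHom hy1
      rw [Ideal.map_pow, ← hz] at h4
      exact Ideal.pow_right_mono h3 N h4
    let h := AlgHom.liftOfSurjective σ hσ σ' hker
    have hσh : ∀ y, h (σ y) = σ' y := AlgHom.liftOfSurjective_apply σ hσ σ' hker
    have hcompat : ∀ x, ExalLoc3.piBar X' N (h (π x)) = Ideal.Quotient.mk _ (X.proj x) := by
      intro x
      obtain ⟨y, hy⟩ := hσ (π x)
      have h1 : ExalLoc3.piBar X N (σ y) = Ideal.Quotient.mk _ (X.proj x) := by rw [hy]; rfl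
      rw [← hy, hσh, ← h1]
      show Ideal.Quotient.mk _ (X'.proj (f' (e.toAlgEquiv y))) = Ideal.Quotient.mk _ (X.proj (f y))
      rw [hf', hf, e.proj_apply]
    obtain ⟨u, hu, hu'⟩ := ExalLoc3.exists_lift X' hN' X.proj (h.comp π) hcompat
    obtain ⟨E, -⟩ := Exal3L.nonempty_equiv_of_hom u hu fun z => by
      refine ExalLoc3.mid_unique X' hN' (by rw [hu, Exal3L.proj_incl, Exal3L.proj_incl]) ?_
      rw [hu']
      show h (σ ((X.pullback R).incl z)) = _
      rw [hσh]
      show π' (f' (e.toAlgEquiv ((X.pullback R).incl z))) = _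
      rw [e.apply_incl]
      rfl
    exact ⟨E⟩
  · obtain ⟨N₀, hN₀⟩ := ExalLoc3.exists_good Y
    let N := N₀ + 1
    have hN : ExalLoc3.Good Y N := hN₀.mono (Nat.le_succ _)
    let π : Y.E →ₐ[Λ] Y.E ⧸ ExalLoc3.maxE Y ^ N := Ideal.Quotient.mkₐ Λ _
    let ε : Rh →ₐ[Λ] R ⧸ IsLocalRing.maximalIdeal R ^ N :=
      (AdicCompletion.evalₐ (IsLocalRing.maximalIdeal R) N).restrictScalars Λ
    let P : Subalgebra Λ ((Y.E ⧸ ExalLoc3.maxE Y ^ N) × Rh) :=
      AlgHom.equalizer ((ExalLoc3.piBar Y N).comp (AlgHom.fst Λ _ Rh)) (ε.comp (AlgHom.snd Λ _ Rh))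
    let inc : L →+ P :=
      { toFun := fun z => ⟨(π (Y.incl z), 0), by
          show ExalLoc3.piBar Y N (π (Y.incl z)) = ε 0
          rw [map_zero]
          show Ideal.Quotient.mk _ (Y.proj (Y.incl z)) = 0
          rw [Exal3L.proj_incl, map_zero]⟩
        map_zero' := Subtype.ext (Prod.ext (by simp) rfl)
        map_add' := fun z z' => Subtype.ext (Prod.ext (by simp) (by simp)) }
    let X : Exal.Ext Λ Rh L :=
      { E := P
        proj := (AlgHom.snd Λ _ Rh).comp P.val
        incl := inc
        isExtension :=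
          { proj_surjective := fun r => by
              obtain ⟨a, ha⟩ := Ideal.Quotient.mk_surjective (ε r)
              obtain ⟨y, rfl⟩ := Y.isExtension.proj_surjective a
              exact ⟨⟨(π y, r), ha⟩, rfl⟩
            incl_injective := (injective_iff_map_eq_zero inc).2 fun z hz =>
              hN z (Ideal.Quotient.eq_zero_iff_mem.1 (congrArg (fun e : P => e.1.1) hz))
            exact := fun x => by
              constructor
              · intro hx
                obtain ⟨y, h1, h2⟩ := ExalLoc3.exists_mid Y 0 x.1.1 (by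
                  rw [map_zero]
                  refine (show ExalLoc3.piBar Y N x.1.1 = ε x.1.2 from x.2).trans ?_
                  rw [show x.1.2 = 0 from hx, map_zero])
                obtain ⟨z, hz⟩ := (Y.isExtension.exact y).1 h1
                exact ⟨z, Subtype.ext (Prod.ext (by show π (Y.incl z) = _; rw [hz]; exact h2) hx.symm)⟩
              · rintro ⟨z, rfl⟩; rfl
            mul_incl := fun x z => by
              refine Subtype.ext (Prod.ext ?_ (mul_zero _))
              obtain ⟨y, hy⟩ := Ideal.Quotient.mk_surjective x.1.1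
              have h1 : x.1.2 - algebraMap R Rh (Y.proj y) ∈ IsLocalRing.maximalIdeal Rh ^ N := by
                refine (ExalLoc3.evalₐ_eq_zero_iff N _).1 ?_
                rw [map_sub, sub_eq_zero, ExalLoc3.evalₐ_algebraMap]
                refine (show ε x.1.2 = ExalLoc3.piBar Y N x.1.1 from x.2.symm).trans ?_
                rw [← hy]; rfl
              have h2 : x.1.2 • z = Y.proj y • z := by
                rw [← algebraMap_smul Rh (Y.proj y) z, ← sub_eq_zero, ← sub_smul]
                exact ExalLoc3.smul_eq_zero_of_mem (Ideal.pow_le_self (by omega) h1) z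
              show x.1.1 * π (Y.incl z) = π (Y.incl (x.1.2 • z))
              rw [h2, ← Y.isExtension.mul_incl, ← hy, map_mul]
              rfl } }
    let φ₀ : Y.E →ₐ[Λ] P := (π.prod ((IsScalarTower.toAlgHom Λ R Rh).comp Y.proj)).codRestrict P fun y =>
      (ExalLoc3.evalₐ_algebraMap N (Y.proj y)).symm
    let φ : Y.E →ₐ[Λ] X.fiberProd R := (φ₀.prod Y.proj).codRestrict (X.fiberProd R) fun y => rfl
    obtain ⟨E, -⟩ := Exal3L.nonempty_equiv_of_hom (Y := X.pullback R) φ (fun y => rfl) fun z => by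
      refine Subtype.ext (Prod.ext (Subtype.ext (Prod.ext rfl ?_)) (Exal3L.proj_incl Y z))
      show algebraMap R Rh (Y.proj (Y.incl z)) = 0
      rw [Exal3L.proj_incl, map_zero]
    exact ⟨X, ⟨E.symm⟩⟩

end Groth.Agent.S11283
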