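import Groth.Statements.S11287
import Groth.Agent.Lib.ExalLoc3.Basic
import Groth.Agent.Lib.AdicSmooth.PowerSeries

set_option autoImplicit false
universe u
open Deform

namespace Groth.Agent.S11287

open Groth.Agent

set_option maxHeartbeats 1000000
attribute [local instance] Exal.opModule Exal.isCentralScalar_opModule

variable {Λ P L : Type u} [CommRing Λ] [CommRing P] [Algebra Λ P] (J : Ideal P)
  [AddCommGroup L] [Module (P ⧸ J) L] [Module P L] [IsScalarTower P (P ⧸ J) L]

theorem smul_eq {p : P} (z : L) : Ideal.Quotient.mk J p • z = p • z :=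
  algebraMap_smul (P ⧸ J) p z

theorem exists_theta (X : Exal.Ext Λ (P ⧸ J) L) (u : P →ₐ[Λ] X.E) (hu : ∀ p, X.proj (u p) = Ideal.Quotient.mk J p) :
    ∃ Θ : Exal.Ext.TrivCarrier Λ P L →ₐ[Λ] X.E, ∀ x : Exal.Ext.TrivCarrier Λ P L,
      Θ x = u (TrivSqZeroExt.fst (x : TrivSqZeroExt P L)) + X.incl (TrivSqZeroExt.snd (x : TrivSqZeroExt P L)) := by
  let f : TrivSqZeroExt P L → X.E := fun x => u x.fst + X.incl x.snd
  have h1 : ∀ (p : P) (z : L), X.incl (p • z) = u p * X.incl z := fun p z => by
    rw [X.isExtension.mul_incl, hu, smul_eq]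
  exact ⟨{ toFun := f
           map_one' := by
            show u 1 + X.incl 0 = 1
            rw [map_one, map_zero, add_zero]
           map_mul' := fun x y => by
            let x : TrivSqZeroExt P L := x
            let y : TrivSqZeroExt P L := y
            show f (x * y) = f x * f y
            simp only [f, TrivSqZeroExt.fst_mul, TrivSqZeroExt.snd_mul, map_mul, map_add, op_smul_eq_smul, h1]
            linear_combination -Exal3L.incl_mul_incl X x.snd y.snd
           map_zero' := by
            show u 0 + X.incl 0 = 0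
            rw [map_zero, map_zero, add_zero]
           map_add' := fun x y => by
            let x : TrivSqZeroExt P L := x
            let y : TrivSqZeroExt P L := y
            show f (x + y) = f x + f y
            simp only [f, TrivSqZeroExt.fst_add, TrivSqZeroExt.snd_add, map_add]
            abel
           commutes' := fun a => by
            show f (TrivSqZeroExt.inl (algebraMap Λ P a)) = _
            simp [f] }, fun x => rfl⟩

theorem exists_ext (δ : J →ₗ[P] L) :
    ∃ (X : Exal.Ext Λ (P ⧸ J) L) (u : P →ₐ[Λ] X.E),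
      (∀ p, X.proj (u p) = Ideal.Quotient.mk J p) ∧ ∀ j : J, X.incl (δ j) = u j := by
  let Q := Exal.Ext.trivial Λ P L
  have hJL : ∀ (j : J) (z : L), (j : P) • z = 0 := fun j z => by
    rw [← smul_eq J, Ideal.Quotient.eq_zero_iff_mem.2 j.2, zero_smul]
  let G : Ideal Q.E :=
    { carrier := {x | ∃ j : J, TrivSqZeroExt.fst (x : TrivSqZeroExt P L) = j ∧
        TrivSqZeroExt.snd (x : TrivSqZeroExt P L) = -δ j}
      add_mem' := by
        rintro a b ⟨i, hi, hi'⟩ ⟨j, hj, hj'⟩
        refine ⟨i + j, ?_, ?_⟩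
        · show TrivSqZeroExt.fst (a : TrivSqZeroExt P L) + TrivSqZeroExt.fst (b : TrivSqZeroExt P L) = _
          rw [hi, hj]; rfl
        · show TrivSqZeroExt.snd (a : TrivSqZeroExt P L) + TrivSqZeroExt.snd (b : TrivSqZeroExt P L) = _
          rw [hi', hj', map_add, neg_add]
      zero_mem' := ⟨0, rfl, by rw [map_zero, neg_zero]; rfl⟩
      smul_mem' := by
        rintro c a ⟨i, hi, hi'⟩
        refine ⟨TrivSqZeroExt.fst (c : TrivSqZeroExt P L) • i, ?_, ?_⟩
        · show TrivSqZeroExt.fst (c : TrivSqZeroExt P L) * TrivSqZeroExt.fst (a : TrivSqZeroExt P L) = _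
          rw [hi]; rfl
        · show TrivSqZeroExt.fst (c : TrivSqZeroExt P L) • TrivSqZeroExt.snd (a : TrivSqZeroExt P L) +
            MulOpposite.op (TrivSqZeroExt.fst (a : TrivSqZeroExt P L)) • TrivSqZeroExt.snd (c : TrivSqZeroExt P L) = _
          rw [op_smul_eq_smul, hi, hJL, add_zero, hi', map_smul, smul_neg] }
  let sec : P →ₐ[Λ] Q.E :=
    { toFun := fun p => (TrivSqZeroExt.inl p : TrivSqZeroExt P L)
      map_one' := TrivSqZeroExt.inl_one L
      map_mul' := fun x y => TrivSqZeroExt.inl_mul L x y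
      map_zero' := TrivSqZeroExt.inl_zero L
      map_add' := fun x y => TrivSqZeroExt.inl_add L x y
      commutes' := fun _ => rfl }
  let pr : Q.E ⧸ G →ₐ[Λ] P ⧸ J := Ideal.Quotient.liftₐ G ((Ideal.Quotient.mkₐ Λ J).comp Q.proj) fun x ⟨j, hj, _⟩ => by
    show Ideal.Quotient.mk J (TrivSqZeroExt.fst (x : TrivSqZeroExt P L)) = 0
    rw [hj]
    exact Ideal.Quotient.eq_zero_iff_mem.2 j.2
  let inc : L →+ Q.E ⧸ G := (Ideal.Quotient.mk G).toAddMonoidHom.comp Q.incl
  refine ⟨{ E := Q.E ⧸ G
            proj := pr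
            incl := inc
            isExtension :=
              { proj_surjective := fun r => by
                  obtain ⟨p, rfl⟩ := Ideal.Quotient.mk_surjective r
                  exact ⟨Ideal.Quotient.mk G (sec p), rfl⟩
                incl_injective := (injective_iff_map_eq_zero inc).2 fun z hz => by
                  obtain ⟨j, hj, hj'⟩ := Ideal.Quotient.eq_zero_iff_mem.1 hz
                  have : j = 0 := Subtype.ext hj.symm
                  rw [this, map_zero, neg_zero] at hj'
                  exact hj'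
                exact := fun x => by
                  constructor
                  · intro hx
                    obtain ⟨x, rfl⟩ := Ideal.Quotient.mk_surjective x
                    let j : J := ⟨TrivSqZeroExt.fst (x : TrivSqZeroExt P L), Ideal.Quotient.eq_zero_iff_mem.1 hx⟩
                    refine ⟨TrivSqZeroExt.snd (x : TrivSqZeroExt P L) + δ j, Ideal.Quotient.eq.2 ⟨-j, ?_, ?_⟩⟩
                    · show 0 - TrivSqZeroExt.fst (x : TrivSqZeroExt P L) = _
                      rw [zero_sub]; rfl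
                    · show (TrivSqZeroExt.snd (x : TrivSqZeroExt P L) + δ j) - TrivSqZeroExt.snd (x : TrivSqZeroExt P L) = _
                      rw [map_neg, neg_neg, add_sub_cancel_left]
                  · rintro ⟨z, rfl⟩
                    show Ideal.Quotient.mk J 0 = 0
                    rw [map_zero]
                mul_incl := fun x z => by
                  obtain ⟨x, rfl⟩ := Ideal.Quotient.mk_surjective x
                  show Ideal.Quotient.mk G x * Ideal.Quotient.mk G (Q.incl z) = Ideal.Quotient.mk G (Q.incl _)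
                  rw [← map_mul, Q.isExtension.mul_incl]
                  congr 2
                  exact (smul_eq J z).symm } },
    (Ideal.Quotient.mkₐ Λ G).comp sec, fun p => rfl, fun j => Ideal.Quotient.eq.2 ⟨-j, ?_, ?_⟩⟩
  · show (0 : P) - (j : P) = _
    rw [zero_sub]; rfl
  · show δ j - 0 = _
    rw [map_neg, neg_neg, sub_zero]

/-- Let k be an algebraically closed field, Λ a complete local Noetherian k-algebra with residue field
k, P = Λ[[X_1, …, X_d]] the power series ring, J an ideal of P contained in (X_1, …, X_d)^2, R =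
P/J, and L a simple R-module (a copy of the residue field k). Then: (a) for every Λ-extension 0 → L
→ E → R → 0 the quotient map P → R lifts to a Λ-algebra map u : P → E; (b) for two such extensions
E, E' with lifts u, u', the extensions are equivalent if and only if u and u' send every element of
J to the images of the same element of L (the restrictions J → L of the lifts agree); (c) every
P-linear map J → L is the restriction of a lift for some extension. Thus the classes of Λ-extensions
of R by L correspond bijectively to Hom_P(J, L), the dual of J/m_P J; this is the identification of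
the obstruction space o(R/Λ) for a complete R (the general case reduces to it by passing to the
completion). -/
theorem result
    {k : Type u} [Field k] [IsAlgClosed k]
    {Λ : Type u} [CommRing Λ] [Algebra k Λ] [IsLocalRing Λ] [IsNoetherianRing Λ]
    [IsAdicComplete (IsLocalRing.maximalIdeal Λ) Λ]
    (hΛ : ∀ a : Λ, ∃ c : k, a - algebraMap k Λ c ∈ IsLocalRing.maximalIdeal Λ)
    (d : ℕ) (J : Ideal (MvPowerSeries (Fin d) Λ))
    (hJ : J ≤ Ideal.span (Set.range (MvPowerSeries.X : Fin d → MvPowerSeries (Fin d) Λ)) ^ 2)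
    (L : Type u) [AddCommGroup L] [Module (MvPowerSeries (Fin d) Λ ⧸ J) L] [Module (MvPowerSeries (Fin d) Λ) L]
    [IsScalarTower (MvPowerSeries (Fin d) Λ) (MvPowerSeries (Fin d) Λ ⧸ J) L] [IsSimpleModule (MvPowerSeries (Fin d) Λ ⧸ J) L] :
    (∀ X : Exal.Ext Λ (MvPowerSeries (Fin d) Λ ⧸ J) L,
        ∃ u : MvPowerSeries (Fin d) Λ →ₐ[Λ] X.E, ∀ p, X.proj (u p) = Ideal.Quotient.mk J p) ∧
    (∀ (X X' : Exal.Ext Λ (MvPowerSeries (Fin d) Λ ⧸ J) L) (u : MvPowerSeries (Fin d) Λ →ₐ[Λ] X.E) (u' : MvPowerSeries (Fin d) Λ →ₐ[Λ] X'.E),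
        (∀ p, X.proj (u p) = Ideal.Quotient.mk J p) → (∀ p, X'.proj (u' p) = Ideal.Quotient.mk J p) →
        (Nonempty (X.Equiv X') ↔ ∀ j ∈ J, ∃ z : L, X.incl z = u j ∧ X'.incl z = u' j)) ∧
    (∀ δ : J →ₗ[MvPowerSeries (Fin d) Λ] L, ∃ (X : Exal.Ext Λ (MvPowerSeries (Fin d) Λ ⧸ J) L) (u : MvPowerSeries (Fin d) Λ →ₐ[Λ] X.E),
        (∀ p, X.proj (u p) = Ideal.Quotient.mk J p) ∧ ∀ j : J, X.incl (δ j) = u j) := by
  classical
  let V : Ideal (MvPowerSeries (Fin d) Λ) := Ideal.span (Set.range MvPowerSeries.X)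
  let P := MvPowerSeries (Fin d) Λ
  have hV : V ≤ IsLocalRing.maximalIdeal P := Ideal.span_le.2 (by
    rintro _ ⟨i, rfl⟩
    show MvPowerSeries.X i ∈ IsLocalRing.maximalIdeal P
    rw [IsLocalRing.mem_maximalIdeal, mem_nonunits_iff, MvPowerSeries.isUnit_iff_constantCoeff]
    simp)
  have hJtop : J ≠ ⊤ := ne_top_of_le_ne_top (IsLocalRing.maximalIdeal.isMaximal P).ne_top
    ((hJ.trans (Ideal.pow_le_self two_ne_zero)).trans hV)
  haveI : Nontrivial (P ⧸ J) := Ideal.Quotient.nontrivial_iff.2 hJtop
  haveI : IsLocalRing (P ⧸ J) := IsLocalRing.of_surjective' (Ideal.Quotient.mk J) Ideal.Quotient.mk_surjective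
  haveI : IsLocalHom (Ideal.Quotient.mk J) := IsLocalHom.of_surjective _ Ideal.Quotient.mk_surjective
  have hVm : ∀ p ∈ V, Ideal.Quotient.mk J p ∈ IsLocalRing.maximalIdeal (P ⧸ J) := fun p hp =>
    map_nonunit (Ideal.Quotient.mk J) p (hV hp)
  refine ⟨fun X => ?_, fun X X' u u' hu hu' => ⟨fun ⟨e⟩ => ?_, fun h => ?_⟩, fun δ => ?_⟩
  · obtain ⟨N, hN⟩ := ExalLoc3.exists_good X
    choose f hf using fun i => X.isExtension.proj_surjective (Ideal.Quotient.mk J (MvPowerSeries.X i))
    let M := ExalLoc3.maxE X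
    let π : X.E →ₐ[Λ] X.E ⧸ M ^ N := Ideal.Quotient.mkₐ Λ (M ^ N)
    have hfM : ∀ i, f i ∈ M := fun i => by
      rw [Ideal.mem_comap, hf]
      exact hVm _ (Ideal.subset_span ⟨i, rfl⟩)
    obtain ⟨g, hg, -⟩ := AdicSmooth.exists_algHom_of_isNilpotent (A := Λ) (fun i => π (f i)) (fun i =>
      ⟨N, by rw [← map_pow]; exact Ideal.Quotient.eq_zero_iff_mem.2 (Ideal.pow_mem_pow (hfM i) N)⟩)
    have hkill : ∀ p ∈ V ^ N, g p = 0 := fun p hp => by
      have h1 : V.map g ≤ M.map (Ideal.Quotient.mk (M ^ N)) := by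
        rw [Ideal.map_span, Ideal.span_le]
        rintro _ ⟨_, ⟨i, rfl⟩, rfl⟩
        rw [SetLike.mem_coe, hg i]
        exact Ideal.mem_map_of_mem _ (hfM i)
      have h2 := Ideal.mem_map_of_mem g hp
      rw [Ideal.map_pow] at h2
      have h3 := Ideal.pow_right_mono h1 N h2
      rw [← Ideal.map_pow, Ideal.map_quotient_self] at h3
      exact h3
    have hcomp : (ExalLoc3.piBar X N).comp g = (Ideal.Quotient.mkₐ Λ _).comp (Ideal.Quotient.mkₐ Λ J) := by
      refine AdicSmooth.algHom_eq_of_forall_X (I := V) (fun i => Ideal.subset_span ⟨i, rfl⟩)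
        ⟨N, fun p hp => by rw [AlgHom.comp_apply, hkill p hp, map_zero]⟩ ⟨N, fun p hp => ?_⟩ fun i => ?_
      · refine Ideal.Quotient.eq_zero_iff_mem.2 ?_
        have h1 : V.map (Ideal.Quotient.mk J) ≤ IsLocalRing.maximalIdeal (P ⧸ J) :=
          Ideal.map_le_iff_le_comap.2 hVm
        have h2 := Ideal.mem_map_of_mem (Ideal.Quotient.mk J) hp
        rw [Ideal.map_pow] at h2
        exact Ideal.pow_right_mono h1 N h2
      · rw [AlgHom.comp_apply, hg]
        show ExalLoc3.piBar X N (Ideal.Quotient.mk _ (f i)) = _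
        rw [ExalLoc3.piBar_mk, hf]
        rfl
    obtain ⟨u, hu, -⟩ := ExalLoc3.exists_lift X hN (Ideal.Quotient.mkₐ Λ J) g (fun p => DFunLike.congr_fun hcomp p)
    exact ⟨u, hu⟩
  · have hd : ∀ p ∈ V ^ 2, e.toAlgEquiv (u p) = u' p := by
      intro p hp
      rw [pow_two] at hp
      refine Submodule.mul_induction_on hp (fun a ha b hb => ?_) fun a b ha hb => by
        rw [map_add, map_add, map_add, ha, hb]
      have hdiff : ∀ c, ∃ z, X'.incl z = e.toAlgEquiv (u c) - u' c := fun c =>
        Exal3L.exists_incl_eq_sub X' _ _ (by rw [e.proj_apply, hu, hu'])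
      obtain ⟨za, hza⟩ := hdiff a
      obtain ⟨zb, hzb⟩ := hdiff b
      have k1 : e.toAlgEquiv (u a) * X'.incl zb = 0 := ExalLoc3.mul_incl_eq_zero X' (by
        rw [Ideal.mem_comap, e.proj_apply, hu]; exact hVm a ha) zb
      have k2 : u' b * X'.incl za = 0 := ExalLoc3.mul_incl_eq_zero X' (by
        rw [Ideal.mem_comap, hu']; exact hVm b hb) za
      rw [map_mul, map_mul, map_mul]
      linear_combination k1 + k2 - e.toAlgEquiv (u a) * hzb - u' b * hza
    intro j hj
    obtain ⟨z, hz⟩ := (X.isExtension.exact _).1 ((hu j).trans (Ideal.Quotient.eq_zero_iff_mem.2 hj))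
    refine ⟨z, hz, ?_⟩
    rw [← e.apply_incl, hz, hd j (hJ hj)]
  · obtain ⟨Θ, hΘ⟩ := exists_theta J X u hu
    obtain ⟨Θ', hΘ'⟩ := exists_theta J X' u' hu'
    have hsur : Function.Surjective Θ := fun e => by
      obtain ⟨p, hp⟩ := Ideal.Quotient.mk_surjective (X.proj e)
      obtain ⟨z, hz⟩ := Exal3L.exists_incl_eq_sub X e (u p) (by rw [hu, hp])
      refine ⟨(TrivSqZeroExt.inl p + TrivSqZeroExt.inr z : TrivSqZeroExt P L), (hΘ _).trans ?_⟩
      simp [hz]
    have hker : RingHom.ker Θ ≤ RingHom.ker Θ' := by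
      intro x hx
      rw [RingHom.mem_ker, hΘ] at hx
      rw [RingHom.mem_ker, hΘ']
      have hj : TrivSqZeroExt.fst (x : TrivSqZeroExt P L) ∈ J := by
        have h1 := congrArg X.proj hx
        rw [map_add, map_zero, hu, Exal3L.proj_incl, add_zero] at h1
        exact Ideal.Quotient.eq_zero_iff_mem.1 h1
      obtain ⟨z, hz, hz'⟩ := h _ hj
      rw [← hz, ← map_add, ← map_zero X.incl] at hx
      rw [← hz', ← map_add, X.isExtension.incl_injective hx, map_zero]
    have happ := AlgHom.liftOfSurjective_apply Θ hsur Θ' hker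
    obtain ⟨e, -⟩ := Exal3L.nonempty_equiv_of_hom (AlgHom.liftOfSurjective Θ hsur Θ' hker) (fun x => by
        obtain ⟨x, rfl⟩ := hsur x
        rw [happ, hΘ, hΘ', map_add, map_add, hu, hu', Exal3L.proj_incl, Exal3L.proj_incl])
      (fun z => by
        let x : Exal.Ext.TrivCarrier Λ P L := (TrivSqZeroExt.inr z : TrivSqZeroExt P L)
        have e1 : Θ x = X.incl z := (hΘ x).trans (by simp [x])
        rw [← e1, happ, hΘ']; simp [x])
    exact ⟨e⟩
  · exact exists_ext J δ

end Groth.Agent.S11287
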