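import Groth.Statements.S11288
import Mathlib.RingTheory.Ideal.Operations
import Mathlib.LinearAlgebra.Dual.Lemmas
import Mathlib.Tactic.LinearCombination

set_option autoImplicit false
universe u
open Deform

namespace Groth.Agent.S11288

theorem unique_const {K R' : Type*} [Field K] [CommRing R'] [Algebra K R'] [IsLocalRing R'] (c : R' → K)
    (hc : ∀ x, x - algebraMap K R' (c x) ∈ IsLocalRing.maximalIdeal R') (x : R') (a : K)
    (ha : x - algebraMap K R' a ∈ IsLocalRing.maximalIdeal R') : algebraMap K R' (c x) = algebraMap K R' a := by
  by_contra h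
  have hne : a - c x ≠ 0 := fun e => h (by rw [sub_eq_zero] at e; rw [e])
  have := Ideal.sub_mem _ (hc x) ha
  rw [sub_sub_sub_cancel_left, ← map_sub] at this
  exact (IsLocalRing.mem_maximalIdeal _).1 this ((isUnit_iff_ne_zero.2 hne).map (algebraMap K R'))

/-- Let K be a field, R' a local Artinian K-algebra with residue field K, and t a nonzero element of the
maximal ideal m' of R' with m' t = 0, so that R' → R = R'/(t) is a small extension of R. Then the
extension is trivial, i.e. the projection admits a section which is a K-algebra map, if and only if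
t is not in m'^2; equivalently, iff the surjection m'/m'^2 → m_R/m_R^2 induced on cotangent spaces,
whose kernel is spanned by the class of t, is not bijective. For instance K[t]/(t^(n+1)) →
K[t]/(t^n) is a non-trivial small extension for n ≥ 2. (The published example allows any local
K-algebra with residue field K; the row takes R' Artinian, the case in which the subalgebra
generated by lifts of a basis of the cotangent space maps onto R.) -/
theorem result
    {K : Type u} [Field K]
    {R' : Type u} [CommRing R'] [Algebra K R'] [IsLocalRing R'] [IsArtinianRing R']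
    (hres : ∀ a : R', ∃ c : K, a - algebraMap K R' c ∈ IsLocalRing.maximalIdeal R')
    (t : R') (ht : t ∈ IsLocalRing.maximalIdeal R') (ht0 : t ≠ 0)
    (htm : ∀ a ∈ IsLocalRing.maximalIdeal R', a * t = 0) :
    (∃ s : (R' ⧸ Ideal.span {t}) →ₐ[K] R', ∀ x, Ideal.Quotient.mk (Ideal.span {t}) (s x) = x) ↔
      t ∉ IsLocalRing.maximalIdeal R' ^ 2 := by
  constructor
  · rintro ⟨s, hs⟩ h2
    have hsec : ∀ a ∈ IsLocalRing.maximalIdeal R', ∀ b ∈ IsLocalRing.maximalIdeal R',
        s (Ideal.Quotient.mk (Ideal.span {t}) (a * b)) = a * b := by
      intro a ha b hb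
      obtain ⟨c, hc⟩ := Ideal.mem_span_singleton'.1 (Ideal.Quotient.eq.1 (hs (Ideal.Quotient.mk _ a)))
      obtain ⟨d, hd⟩ := Ideal.mem_span_singleton'.1 (Ideal.Quotient.eq.1 (hs (Ideal.Quotient.mk _ b)))
      have hA : s (Ideal.Quotient.mk _ a) = a + c * t := by linear_combination -hc
      have hB : s (Ideal.Quotient.mk _ b) = b + d * t := by linear_combination -hd
      rw [map_mul, map_mul, hA, hB]
      linear_combination d * htm a ha + c * htm b hb + c * d * htm t ht
    have hall : ∀ z ∈ IsLocalRing.maximalIdeal R' * IsLocalRing.maximalIdeal R',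
        s (Ideal.Quotient.mk (Ideal.span {t}) z) = z := by
      intro z hz
      induction hz using Submodule.mul_induction_on' with
      | mem_mul_mem a ha b hb => exact hsec a ha b hb
      | add x _ y _ hx hy => rw [map_add, map_add, hx, hy]
    have key := hall t (pow_two (IsLocalRing.maximalIdeal R') ▸ h2)
    rw [show Ideal.Quotient.mk (Ideal.span {t}) t = 0 from
      Ideal.Quotient.eq_zero_iff_mem.2 (Ideal.subset_span rfl), map_zero] at key
    exact ht0 key.symm
  · intro h2
    let M : Submodule K R' := (IsLocalRing.maximalIdeal R' ^ 2).restrictScalars K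
    obtain ⟨l, hl, hlM⟩ := Submodule.exists_dual_map_eq_bot_of_notMem (p := M) h2 inferInstance
    have hlM : ∀ y ∈ M, l y = 0 := fun y hy => by
      have := Submodule.mem_map_of_mem (f := l) hy
      rwa [hlM, Submodule.mem_bot] at this
    choose c hc using hres
    let π : R' →ₗ[K] R' :=
      { toFun := fun x => algebraMap K R' (c x)
        map_add' := fun x y => unique_const (fun z => c z) hc (x + y) (c x + c y) (by
          rw [map_add]
          have := Submodule.add_mem _ (hc x) (hc y)
          rwa [show x - algebraMap K R' (c x) + (y - algebraMap K R' (c y)) =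
            x + y - (algebraMap K R' (c x) + algebraMap K R' (c y)) by ring] at this) |>.trans (map_add _ _ _)
        map_smul' := fun a x => by
          rw [RingHom.id_apply, unique_const (fun z => c z) hc (a • x) (a * c x) (by
            rw [map_mul, Algebra.smul_def, ← mul_sub]
            exact Ideal.mul_mem_left _ _ (hc x)), map_mul, Algebra.smul_def] }
    let ν : R' →ₗ[K] R' := LinearMap.id -
      (LinearMap.toSpanSingleton K R' t).comp ((l t)⁻¹ • l.comp (LinearMap.id - π))
    have hν : ∀ x, ν x = x - ((l t)⁻¹ * l (x - π x)) • t := fun x => rfl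
    have hkill : ∀ y ∈ Ideal.span {t}, ν y = 0 := by
      intro y hy
      obtain ⟨r, rfl⟩ := Ideal.mem_span_singleton'.1 hy
      have e : r * t = c r • t := by
        rw [Algebra.smul_def, ← sub_eq_zero, ← sub_mul]; exact htm _ (hc r)
      rw [e, map_smul, hν, show π t = 0 by
        change algebraMap K R' (c t) = 0
        rw [unique_const (fun z => c z) hc t 0 (by simpa using ht), map_zero], sub_zero, inv_mul_cancel₀ hl]
      simp
    let νq : (R' ⧸ Ideal.span {t}) → R' := fun q => Quotient.liftOn' q (fun x => ν x) fun x y hxy => by
      have : x - y ∈ Ideal.span {t} := (Submodule.quotientRel_def _).1 hxy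
      have := hkill _ this
      rwa [map_sub, sub_eq_zero] at this
    have hνq : ∀ x, νq (Ideal.Quotient.mk _ x) = ν x := fun x => rfl
    have hmul : ∀ x y, ν (x * y) = ν x * ν y := by
      intro x y
      have hπ : ∀ z, z - π z ∈ IsLocalRing.maximalIdeal R' := hc
      have h2' : (x - π x) * (y - π y) ∈ M := by
        change _ ∈ IsLocalRing.maximalIdeal R' ^ 2
        rw [pow_two]; exact Ideal.mul_mem_mul (hπ x) (hπ y)
      have hl0 : l ((x - π x) * (y - π y)) = 0 := by
        exact hlM _ h2'
      have hπxy : π (x * y) = π x * π y := by
        change algebraMap K R' (c (x * y)) = algebraMap K R' (c x) * algebraMap K R' (c y)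
        rw [← map_mul, unique_const (fun z => c z) hc (x * y) (c x * c y) (by
          have := Ideal.add_mem _ (Ideal.mul_mem_right y _ (hπ x)) (Ideal.mul_mem_left _ (π x) (hπ y))
          convert this using 1
          change x * y - algebraMap K R' (c x * c y) = _
          rw [map_mul]
          change _ = (x - algebraMap K R' (c x)) * y + algebraMap K R' (c x) * (y - algebraMap K R' (c y))
          ring)]
      have hsplit : x * y - π x * π y = (x - π x) * (y - π y) + (c x • (y - π y) + c y • (x - π x)) := by
        simp only [Algebra.smul_def]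
        change x * y - algebraMap K R' (c x) * algebraMap K R' (c y) = (x - algebraMap K R' (c x)) * (y - algebraMap K R' (c y)) +
          (algebraMap K R' (c x) * (y - algebraMap K R' (c y)) + algebraMap K R' (c y) * (x - algebraMap K R' (c x)))
        ring
      rw [hν, hν, hν, hπxy, hsplit, map_add, map_add, map_smul, map_smul, hl0, zero_add]
      simp only [Algebra.smul_def, map_mul, map_add, Algebra.algebraMap_self, RingHom.id_apply]
      have h1 := htm _ (hπ x)
      have h1' := htm _ (hπ y)
      have h3 := htm t ht
      change _ = (x - _) * (y - _)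
      linear_combination (algebraMap K R' ((l t)⁻¹) * algebraMap K R' (l (y - π y))) * h1 +
        (algebraMap K R' ((l t)⁻¹) * algebraMap K R' (l (x - π x))) * h1' -
        (algebraMap K R' ((l t)⁻¹) * algebraMap K R' (l (y - π y)) *
          (algebraMap K R' ((l t)⁻¹) * algebraMap K R' (l (x - π x)))) * h3
    have hνC : ∀ a : K, ν (algebraMap K R' a) = algebraMap K R' a := fun a => by
      rw [hν, show π (algebraMap K R' a) = algebraMap K R' a by
        change algebraMap K R' (c _) = _
        rw [unique_const (fun z => c z) hc (algebraMap K R' a) a (by simp)]]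
      simp
    refine ⟨{ toFun := νq
              map_one' := by rw [← map_one (Ideal.Quotient.mk (Ideal.span {t})), hνq, ← map_one (algebraMap K R'), hνC]
              map_mul' := fun p q => by
                obtain ⟨x, rfl⟩ := Ideal.Quotient.mk_surjective p
                obtain ⟨y, rfl⟩ := Ideal.Quotient.mk_surjective q
                rw [← map_mul, hνq, hνq, hνq, hmul]
              map_zero' := by rw [← map_zero (Ideal.Quotient.mk (Ideal.span {t})), hνq, map_zero]
              map_add' := fun p q => by
                obtain ⟨x, rfl⟩ := Ideal.Quotient.mk_surjective p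
                obtain ⟨y, rfl⟩ := Ideal.Quotient.mk_surjective q
                rw [← map_add, hνq, hνq, hνq, map_add]
              commutes' := fun a => hνC a }, fun q => ?_⟩
    obtain ⟨x, rfl⟩ := Ideal.Quotient.mk_surjective q
    change Ideal.Quotient.mk (Ideal.span {t}) (νq (Ideal.Quotient.mk (Ideal.span {t}) x)) = _
    rw [hνq, Ideal.Quotient.eq, hν, sub_sub_cancel_left, Algebra.smul_def]
    exact (Submodule.neg_mem _ (Ideal.mul_mem_left _ _ (Ideal.subset_span rfl)))

end Groth.Agent.S11288
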