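import Groth.Statements.S11289
import Groth.Agent.Lib.DefH13.Rigid
import Groth.Agent.S12483

set_option autoImplicit false
universe u
open CategoryTheory CategoryTheory.Limits AlgebraicGeometry
open Deform

namespace Groth.Agent.S11289

/-- Let k be an algebraically closed field and X a nonsingular variety over k (an integral scheme,
separated, quasi-compact and smooth over Spec k). Call X rigid when every infinitesimal deformation
of X is trivial: for every local Artinian k-algebra A with a k-algebra augmentation e : A → k, every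
scheme Y flat over Spec A and every morphism i : X → Y making X the fibre of Y over the closed point
Spec k → Spec A, there is an isomorphism of Y with the product X ×_k Spec A over Spec A under which
i becomes the canonical inclusion of X. Then X is rigid if and only if H^1(X, T_X) = 0, written here
as the vanishing of Ext^1(Ω_{X/k}, O_X) in the category of O_X-modules (the same group, Ω_{X/k}
being locally free). The Artinian algebras A range over the universe of X. -/
theorem result
    {k : Type u} [Field k] [IsAlgClosed k]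
    (X : Scheme.{u}) [X.Over (Spec (CommRingCat.of k))] [IsIntegral X]
    [Smooth (X ↘ Spec (CommRingCat.of k))] [IsSeparated (X ↘ Spec (CommRingCat.of k))]
    [QuasiCompact (X ↘ Spec (CommRingCat.of k))] [HasExt.{u} X.Modules] :
    (∀ (A : Type u) [CommRing A] [Algebra k A] [IsLocalRing A] [IsArtinianRing A] (e : A →ₐ[k] k)
        (Y : Scheme.{u}) (f : Y ⟶ Spec (CommRingCat.of A)) (i : X ⟶ Y), Flat f →
        IsPullback i (X ↘ Spec (CommRingCat.of k)) f (Spec.map (CommRingCat.ofHom e.toRingHom)) →
        ∃ φ : Y ≅ pullback (X ↘ Spec (CommRingCat.of k)) (Spec.map (CommRingCat.ofHom (algebraMap k A))),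
          φ.hom ≫ pullback.snd _ _ = f ∧ i ≫ φ.hom ≫ pullback.fst _ _ = 𝟙 X) ↔
    Subsingleton (Abelian.Ext.{u} (Omega.sheaf (X ↘ Spec (CommRingCat.of k))) (Coh.structureModule X) 1) := by
  let x := X ↘ Spec (CommRingCat.of k)
  haveI : DCoh.HasSheafHom (Omega.sheaf x) := HilbObs3.hasSheafHom _
  have hΩ : FlatMod.IsFinLocFree (Omega.sheaf x) :=
    Omega12.isFinLocFree_receptacle_of_smooth x (Omega12.isUniversal_dOmega x)
  obtain ⟨e1⟩ := Groth.Agent.S12483.result X (Omega.sheaf x) (Coh.structureModule X) hΩ 1
  obtain ⟨e2⟩ := HilbObs3.nonempty_sheafHom_iso (Omega.sheaf x) (Coh.structureModule X)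
  have key : Subsingleton (Abelian.Ext.{u} (Omega.sheaf x) (Coh.structureModule X) 1) ↔
      Subsingleton ((ArtFun.defFunctor (Λ := k) X x).obj (ArtFun.Art.dual k k)) := by
    rw [DefH13.subsingleton_dual_iff rfl, e1.toEquiv.subsingleton_congr]
    exact ⟨AffStratVan4.subsingleton_HH_congr e2 1, AffStratVan4.subsingleton_HH_congr e2.symm 1⟩
  rw [key]
  refine ⟨fun H => ?_, fun hT A _ _ _ _ e Y f i hf hi => ?_⟩
  · have htriv : ∀ ξ : ArtFun.DefSch X x (ArtFun.Art.dual k k),
        Nonempty (ξ.Iso (ArtFun.DefSch.trivial X x inferInstance (ArtFun.Art.dual k k))) := fun ξ => by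
      obtain ⟨φ, h1, h2⟩ := H (ArtFun.Art.dual k k).carrier (ArtFun.Art.dual k k).res ξ.total ξ.f ξ.i ξ.flat
        ξ.isPullback
      refine ⟨⟨φ, h1, pullback.hom_ext ?_ ?_⟩⟩
      · exact ((Category.assoc _ _ _).trans h2).trans (ArtFun.DefSch.baseChange_i_fst (ArtFun.DefSch.self X x inferInstance) (ArtFun.Art.ofBase _)).symm
      · exact (((Category.assoc _ _ _).trans (congrArg (ξ.i ≫ ·) h1)).trans ξ.i_f).trans
          (ArtFun.DefSch.baseChange_i_f (ArtFun.DefSch.self X x inferInstance) (ArtFun.Art.ofBase _)).symm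
    refine ⟨fun a b => ?_⟩
    induction a using Quotient.inductionOn with
    | h ξ =>
    induction b using Quotient.inductionOn with
    | h η =>
    exact Quotient.sound ⟨(htriv ξ).some.trans (htriv η).some.symm⟩
  · let A₀ : ArtFun.Art k k := ArtFun.Art.of A e fun c => ⟨algebraMap k A c, e.commutes c⟩
    let ξ : ArtFun.DefSch X x A₀ := { total := Y, f := f, flat := hf, i := i, isPullback := hi }
    haveI := DefH13.subsingleton_defFunctor_obj hT A₀
    obtain ⟨E⟩ : Nonempty (ξ.Iso (ArtFun.DefSch.trivial X x inferInstance A₀)) :=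
      Quotient.exact (Subsingleton.elim ξ.cl (ArtFun.DefSch.trivial X x inferInstance A₀).cl)
    refine ⟨E.iso, E.hom_f, ?_⟩
    exact ((Category.assoc _ _ _).symm.trans (congrArg (· ≫ pullback.fst _ _) E.i_hom)).trans
      (ArtFun.DefSch.baseChange_i_fst (ArtFun.DefSch.self X x inferInstance) (ArtFun.Art.ofBase _))

end Groth.Agent.S11289
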