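import Groth.Statements.S11290
import Groth.Agent.Lib.DefObs3.Theory
import Groth.Agent.S12483

set_option autoImplicit false
universe u
open CategoryTheory CategoryTheory.Limits AlgebraicGeometry
open Deform

namespace Groth.Agent.S11290

/-- Let k be an algebraically closed field and X a nonsingular variety over k (integral, separated,
quasi-compact and smooth over Spec k) with H^2(X, T_X) = 0, written as the vanishing of
Ext^2(Ω_{X/k}, O_X) in the category of O_X-modules. Then X is unobstructed: for every local Artinian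
k-algebra A', every t in the maximal ideal of A' annihilated by the maximal ideal (so that A' → A =
A'/(t) is a small extension), every k-algebra augmentation e : A → k and every infinitesimal
deformation of X over A — a scheme Y flat over Spec A with a morphism i : X → Y making X the fibre
over the point Spec k → Spec A given by e — there are a scheme Y' flat over Spec A' and a morphism Y
→ Y' making Y the base change of Y' along Spec A → Spec A' (a lifting of the deformation to A'). -/
theorem result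
    {k : Type u} [Field k] [IsAlgClosed k]
    (X : Scheme.{u}) [X.Over (Spec (CommRingCat.of k))] [IsIntegral X]
    [Smooth (X ↘ Spec (CommRingCat.of k))] [IsSeparated (X ↘ Spec (CommRingCat.of k))]
    [QuasiCompact (X ↘ Spec (CommRingCat.of k))] [HasExt.{u} X.Modules]
    (h2 : Subsingleton (Abelian.Ext.{u} (Omega.sheaf (X ↘ Spec (CommRingCat.of k))) (Coh.structureModule X) 2))
    (A' : Type u) [CommRing A'] [Algebra k A'] [IsLocalRing A'] [IsArtinianRing A']
    (t : A') (ht : t ∈ IsLocalRing.maximalIdeal A') (htm : ∀ a ∈ IsLocalRing.maximalIdeal A', a * t = 0)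
    (e : (A' ⧸ Ideal.span {t}) →ₐ[k] k)
    (Y : Scheme.{u}) (f : Y ⟶ Spec (CommRingCat.of (A' ⧸ Ideal.span {t}))) (i : X ⟶ Y) (hf : Flat f)
    (hY : IsPullback i (X ↘ Spec (CommRingCat.of k)) f (Spec.map (CommRingCat.ofHom e.toRingHom))) :
    ∃ (Y' : Scheme.{u}) (f' : Y' ⟶ Spec (CommRingCat.of A')) (j : Y ⟶ Y'), Flat f' ∧
      IsPullback j f f' (Spec.map (CommRingCat.ofHom (Ideal.Quotient.mk (Ideal.span {t})))) := by
  let x := X ↘ Spec (CommRingCat.of k)
  haveI : DCoh.HasSheafHom (Omega.sheaf x) := HilbObs3.hasSheafHom _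
  have hΩ : FlatMod.IsFinLocFree (Omega.sheaf x) :=
    Omega12.isFinLocFree_receptacle_of_smooth x (Omega12.isUniversal_dOmega x)
  obtain ⟨e1⟩ := Groth.Agent.S12483.result X (Omega.sheaf x) (Coh.structureModule X) hΩ 2
  obtain ⟨e2⟩ := HilbObs3.nonempty_sheafHom_iso (Omega.sheaf x) (Coh.structureModule X)
  haveI : Subsingleton (Coh.HH X (DefH13.NT x) 2) :=
    AffStratVan4.subsingleton_HH_congr e2 2 (e1.toEquiv.subsingleton_congr.1 h2)
  haveI : CompactSpace X := QuasiCompact.compactSpace_of_compactSpace x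
  obtain ⟨n, U, hU, hV⟩ := CubeField.exists_finite_affine_cover X
  haveI : Nontrivial (A' ⧸ Ideal.span {t}) := Ideal.Quotient.nontrivial_iff.2
    (ne_top_of_le_ne_top (IsLocalRing.maximalIdeal.isMaximal A').ne_top ((Ideal.span_singleton_le_iff_mem _).2 ht))
  haveI : IsLocalRing (A' ⧸ Ideal.span {t}) := IsLocalRing.of_surjective' (Ideal.Quotient.mk _) Ideal.Quotient.mk_surjective
  let A₀ : ArtFun.Art k k := ArtFun.Art.of (A' ⧸ Ideal.span {t}) e fun c => ⟨algebraMap k _ c, e.commutes c⟩
  let B₀ : ArtFun.Art k k := ArtFun.Art.of A' (e.comp (Ideal.Quotient.mkₐ k _)) fun c =>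
    ⟨algebraMap k _ c, (e.comp (Ideal.Quotient.mkₐ k _)).commutes c⟩
  let p : B₀ ⟶ A₀ := ArtFun.Art.homMk (Ideal.Quotient.mkₐ k _) rfl
  have hp : ArtFun.Art.IsSemismallExt p := by
    refine ⟨Ideal.Quotient.mk_surjective, ?_⟩
    show IsLocalRing.maximalIdeal A' * RingHom.ker (Ideal.Quotient.mk (Ideal.span {t})) = ⊥
    rw [Ideal.mk_ker, ← le_bot_iff, Ideal.mul_le]
    intro a ha s hs
    obtain ⟨c, rfl⟩ := Ideal.mem_span_singleton'.1 hs
    rw [Ideal.mem_bot, mul_left_comm, htm a ha, mul_zero]
  obtain ⟨ξ', g, hg⟩ := DefObs3.exists_lift_of_subsingleton (x := x) (V := fun i => ⟨U i, hU i⟩) hV hp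
    ({ total := Y, f := f, flat := hf, i := i, isPullback := hY } : ArtFun.DefSch X x A₀)
  exact ⟨ξ'.total, ξ'.f, g, ξ'.flat, hg.isPullback⟩

end Groth.Agent.S11290
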