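import Groth.Statements.S11291
import Mathlib.RingTheory.HopkinsLevitzki
import Mathlib.RingTheory.Nakayama
import Mathlib.RingTheory.Ideal.Cotangent
import Mathlib.RingTheory.MvPolynomial.Ideal
import Mathlib.RingTheory.Polynomial.Basic
import Mathlib.RingTheory.Filtration
import Mathlib.LinearAlgebra.Dual.Lemmas
import Mathlib.Tactic.LinearCombination

set_option autoImplicit false
universe u
open Deform

namespace Groth.Agent.S11291

/-- Let k be an algebraically closed field and A a local Artinian k-algebra with residue field k and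
non-zero maximal ideal, i.e. A is not k. Then the obstruction space o(A) = Ex_k(A, k) is not zero:
there is a k-extension 0 → k → E → A → 0 of A by its residue field which is not trivial (admits no
k-algebra section). Equivalently, k is the only formally smooth object among local Artinian
k-algebras with residue field k. -/
theorem result
    {k : Type u} [Field k] [IsAlgClosed k]
    {A : Type u} [CommRing A] [Algebra k A] [IsLocalRing A] [IsArtinianRing A]
    (hres : ∀ a : A, ∃ c : k, a - algebraMap k A c ∈ IsLocalRing.maximalIdeal A)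
    (hA : IsLocalRing.maximalIdeal A ≠ ⊥) :
    ∃ X : Exal.Ext k A (IsLocalRing.ResidueField A), ¬ X.IsTrivial := by
  classical
  set m := IsLocalRing.maximalIdeal A
  let ρ : k →+* IsLocalRing.ResidueField A := (IsLocalRing.residue A).comp (algebraMap k A)
  have hρ : Function.Bijective ρ := ⟨ρ.injective, fun z => by
    obtain ⟨a, rfl⟩ := IsLocalRing.residue_surjective z
    obtain ⟨c, hc⟩ := hres a
    refine ⟨c, (sub_eq_zero.1 ?_).symm⟩
    change IsLocalRing.residue A a - IsLocalRing.residue A (algebraMap k A c) = 0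
    rw [← map_sub]
    exact Ideal.Quotient.eq_zero_iff_mem.2 hc⟩
  obtain ⟨s, hs⟩ := IsNoetherian.noetherian (IsLocalRing.maximalIdeal A)
  let b := Module.finBasis (IsLocalRing.ResidueField A) (IsLocalRing.CotangentSpace A)
  set n := Module.finrank (IsLocalRing.ResidueField A) (IsLocalRing.CotangentSpace A)
  choose g hg using fun i => m.toCotangent_surjective (b i)
  let P := MvPolynomial (Fin n) k
  let π : P →ₐ[k] A := MvPolynomial.aeval fun i => (g i : A)
  let N : Ideal P := Ideal.span (Set.range MvPolynomial.X)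
  have hπC : ∀ c : k, π (MvPolynomial.C c) = algebraMap k A c := fun c => MvPolynomial.aeval_C _ c
  have hπX : ∀ i, π (MvPolynomial.X i) = (g i : A) := fun i => MvPolynomial.aeval_X _ i
  have hspan : m = Ideal.span (Set.range fun i => (g i : A)) := by
    refine le_antisymm ?_ (Ideal.span_le.2 (by rintro _ ⟨i, rfl⟩; exact (g i).2))
    refine Submodule.le_of_le_smul_of_le_jacobson_bot (I := m) ⟨s, hs⟩
      (IsLocalRing.maximalIdeal_le_jacobson _) fun x hx => ?_
    choose c hc using fun i => IsLocalRing.residue_surjective (b.repr (m.toCotangent ⟨x, hx⟩) i)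
    have h1 : m.toCotangent ⟨x, hx⟩ = m.toCotangent (∑ i, c i • g i) := by
      rw [map_sum, ← b.sum_repr (m.toCotangent ⟨x, hx⟩)]
      refine Finset.sum_congr rfl fun i _ => ?_
      rw [map_smul, hg, ← hc]
      rfl
    rw [Ideal.toCotangent_eq, AddSubmonoidClass.coe_finsetSum] at h1
    refine Submodule.mem_sup.2 ⟨∑ i, c i • (g i : A), Submodule.sum_mem _ fun i _ =>
      Submodule.smul_mem _ _ (Ideal.subset_span ⟨i, rfl⟩), x - ∑ i, c i • (g i : A), ?_, add_sub_cancel _ _⟩
    rw [smul_eq_mul, ← pow_two]
    exact h1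
  have hgen : ∀ N₀ : ℕ, ∀ a : A, ∃ p : P, a - π p ∈ m ^ N₀ := fun N₀ => by
    induction N₀ with
    | zero => exact fun a => ⟨0, by simp⟩
    | succ N₀ ih =>
      intro a
      obtain ⟨c, hc⟩ := hres a
      rw [hspan] at hc
      obtain ⟨u, hu⟩ := Ideal.mem_span_range_iff_exists_fun.1 hc
      choose p hp using fun i => ih (u i)
      refine ⟨MvPolynomial.C c + ∑ i, p i * MvPolynomial.X i, ?_⟩
      have : a - π (MvPolynomial.C c + ∑ i, p i * MvPolynomial.X i) = ∑ i, (u i - π (p i)) * (g i : A) := by
        simp only [map_add, map_sum, map_mul, hπC, hπX, sub_mul, Finset.sum_sub_distrib, hu]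
        ring
      rw [this, pow_succ]
      exact Submodule.sum_mem _ fun i _ => Ideal.mul_mem_mul (hp i) (g i).2
  obtain ⟨L, hL⟩ := (isArtinianRing_iff_isNilpotent_maximalIdeal A).1 inferInstance
  have hπ : Function.Surjective π := fun a => by
    obtain ⟨p, hp⟩ := hgen L a
    rw [hL] at hp
    exact ⟨p, (sub_eq_zero.1 (Ideal.mem_bot.1 hp)).symm⟩
  have hNπ : N.map π.toRingHom ≤ m := by
    rw [Ideal.map_span, Ideal.span_le]
    rintro _ ⟨_, ⟨i, rfl⟩, rfl⟩
    change π (MvPolynomial.X i) ∈ m
    rw [MvPolynomial.aeval_X]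
    exact (g i).2
  have hsubC : ∀ p : P, p - MvPolynomial.C (MvPolynomial.constantCoeff p) ∈ N := fun p => by
    induction p using MvPolynomial.induction_on with
    | C a => rw [MvPolynomial.constantCoeff_C, sub_self]; exact zero_mem _
    | add a c ha hc => rw [map_add, map_add, add_sub_add_comm]; exact add_mem ha hc
    | mul_X a i _ =>
      rw [map_mul, MvPolynomial.constantCoeff_X, mul_zero, map_zero, sub_zero]
      exact N.mul_mem_left _ (Ideal.subset_span ⟨i, rfl⟩)
  have hπ0 : ∀ p : P, π p ∈ m → MvPolynomial.constantCoeff p = 0 := fun p hp => by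
    have h1 : algebraMap k A (MvPolynomial.constantCoeff p) ∈ m := by
      have := hNπ (Ideal.mem_map_of_mem π.toRingHom (hsubC p))
      rw [show π.toRingHom (p - MvPolynomial.C (MvPolynomial.constantCoeff p)) = π p -
        algebraMap k A (MvPolynomial.constantCoeff p) by rw [AlgHom.toRingHom_eq_coe, RingHom.coe_coe, map_sub, hπC]] at this
      exact (Submodule.sub_mem_iff_right _ hp).1 this
    by_contra hne
    exact (IsLocalRing.mem_maximalIdeal _).1 h1 ((Ne.isUnit hne).map (algebraMap k A))
  set J : Ideal P := RingHom.ker π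
  have hJN : J ≤ N := fun p hp => by
    have := hsubC p
    rwa [hπ0 p (by rw [RingHom.mem_ker.1 hp]; exact zero_mem _), map_zero, sub_zero] at this
  have hJ2 : J ≤ N * N := fun p hp => by
    obtain ⟨q, hq⟩ := Ideal.mem_span_range_iff_exists_fun.1 (hJN hp)
    have hlin : ∑ i, algebraMap k A (MvPolynomial.constantCoeff (q i)) * (g i : A) ∈ m ^ 2 := by
      have h1 : ∑ i, π (q i - MvPolynomial.C (MvPolynomial.constantCoeff (q i))) * (g i : A) ∈ m ^ 2 :=
        Submodule.sum_mem _ fun i _ => by
          rw [pow_two]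
          exact Ideal.mul_mem_mul (hNπ (Ideal.mem_map_of_mem π.toRingHom (hsubC (q i)))) (g i).2
      have h2 : π p = 0 := hp
      have h3 : ∀ i, π (MvPolynomial.X i) = (g i : A) := fun i => MvPolynomial.aeval_X _ i
      rw [← hq, map_sum] at h2
      simp only [map_mul, h3] at h2
      have h4 : ∀ c, π (MvPolynomial.C c) = algebraMap k A c := fun c => MvPolynomial.aeval_C _ c
      simp only [map_sub, h4, sub_mul, Finset.sum_sub_distrib, h2, zero_sub] at h1
      exact neg_mem_iff.1 h1
    have hzero : ∀ i, MvPolynomial.constantCoeff (q i) = 0 := by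
      have h1 : ∑ i, ρ (MvPolynomial.constantCoeff (q i)) • b i = 0 := by
        have : m.toCotangent (∑ i, algebraMap k A (MvPolynomial.constantCoeff (q i)) • g i) = 0 := by
          rw [Ideal.toCotangent_eq_zero, AddSubmonoidClass.coe_finsetSum]
          exact hlin
        rw [map_sum] at this
        refine Eq.trans (Finset.sum_congr rfl fun i _ => ?_) this
        rw [map_smul, hg]
        rfl
      exact fun i => hρ.1 ((Fintype.linearIndependent_iff.1 b.linearIndependent _ h1 i).trans (map_zero ρ).symm)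
    rw [← hq]
    refine Submodule.sum_mem _ fun i _ => Ideal.mul_mem_mul ?_ (Ideal.subset_span ⟨i, rfl⟩)
    have := hsubC (q i)
    rwa [hzero i, map_zero, sub_zero] at this
  obtain ⟨i₀⟩ : Nonempty (Fin n) := by
    by_contra h
    rw [not_nonempty_iff] at h
    exact hA (hspan.trans (by rw [Set.range_eq_empty, Ideal.span_empty]))
  obtain ⟨f, hfJ, hf⟩ : ∃ f ∈ J, f ∉ N * J := by
    by_contra! h
    have hle : ∀ i, J ≤ N ^ i := fun i => by
      induction i with
      | zero => simp
      | succ i ih => rw [pow_succ']; exact le_trans h (Ideal.mul_mono_right ih)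
    have hN : N ≠ ⊤ := fun e => by
      have := hNπ (Ideal.mem_map_of_mem π.toRingHom (e ▸ Submodule.mem_top : (1 : P) ∈ N))
      rw [map_one] at this
      exact (IsLocalRing.mem_maximalIdeal _).1 this isUnit_one
    have hX : MvPolynomial.X i₀ ^ L ∈ (⊥ : Ideal P) := by
      rw [← Ideal.iInf_pow_eq_bot_of_isDomain N hN]
      refine (Submodule.mem_iInf _).2 fun i => hle i ?_
      have : π (MvPolynomial.X i₀) ^ L ∈ m ^ L := by
        rw [MvPolynomial.aeval_X]
        exact Ideal.pow_mem_pow (g i₀).2 L
      rw [hL, ← map_pow] at this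
      exact Ideal.mem_bot.1 this
    exact pow_ne_zero L (MvPolynomial.X_ne_zero i₀) (Ideal.mem_bot.1 hX)
  let W := (N * J).restrictScalars k
  obtain ⟨φ, hφ⟩ : ∃ φ : P →ₗ[k] k, φ f = 1 ∧ ∀ p ∈ N * J, φ p = 0 := by
    obtain ⟨ψ, hψ⟩ := Module.Projective.exists_dual_ne_zero k
      (x := (W.mkQ f)) (by rwa [Submodule.mkQ_apply, Ne, Submodule.Quotient.mk_eq_zero])
    refine ⟨(ψ (W.mkQ f))⁻¹ • (ψ ∘ₗ W.mkQ), inv_mul_cancel₀ hψ, fun p hp => ?_⟩
    simp [(Submodule.Quotient.mk_eq_zero W).2 hp]
  obtain ⟨hφ1, hφ0⟩ := hφ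
  have hφmul : ∀ (r : P), ∀ p ∈ J, φ (r * p) = MvPolynomial.constantCoeff r * φ p := fun r p hp => by
    have := hφ0 _ (Ideal.mul_mem_mul (hsubC r) hp)
    rw [sub_mul, map_sub, sub_eq_zero] at this
    rw [this, ← MvPolynomial.smul_eq_C_mul, map_smul, smul_eq_mul]
  let J' : Ideal P :=
    { carrier := {p | p ∈ J ∧ φ p = 0}
      add_mem' := fun {a c} ha hc => ⟨add_mem ha.1 hc.1, by rw [map_add, ha.2, hc.2, add_zero]⟩
      zero_mem' := ⟨zero_mem _, map_zero _⟩
      smul_mem' := fun r p hp => ⟨J.mul_mem_left r hp.1, by rw [smul_eq_mul, hφmul r p hp.1, hp.2, mul_zero]⟩ }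
  have hJ'J : J' ≤ J := fun p hp => hp.1
  let mk := Ideal.Quotient.mk J'
  let proj : (P ⧸ J') →ₐ[k] A := Ideal.Quotient.liftₐ J' π fun p hp => hJ'J hp
  have hproj : ∀ p, proj (mk p) = π p := fun _ => rfl
  let e := (RingEquiv.ofBijective ρ hρ).symm
  let incl : IsLocalRing.ResidueField A →+ P ⧸ J' :=
    { toFun := fun z => mk (MvPolynomial.C (e z) * f)
      map_zero' := by simp
      map_add' := fun y z => by rw [map_add, map_add, add_mul, map_add] }
  let X : Exal.Ext k A (IsLocalRing.ResidueField A) :=
    { E := P ⧸ J'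
      proj := proj
      incl := incl
      isExtension :=
        { proj_surjective := fun a => by
            obtain ⟨p, rfl⟩ := hπ a
            exact ⟨mk p, rfl⟩
          incl_injective := (injective_iff_map_eq_zero incl).2 fun z hz => by
            have h1 := (Ideal.Quotient.eq_zero_iff_mem.1 hz).2
            rw [← MvPolynomial.smul_eq_C_mul, map_smul, hφ1, smul_eq_mul, mul_one] at h1
            exact (map_eq_zero_iff e e.injective).1 h1
          exact := fun x => by
            constructor
            · intro hx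
              obtain ⟨p, rfl⟩ := Ideal.Quotient.mk_surjective x
              refine ⟨ρ (φ p), (Ideal.Quotient.eq).2 ?_⟩
              rw [show e (ρ (φ p)) = φ p from (RingEquiv.ofBijective ρ hρ).symm_apply_apply _]
              exact ⟨sub_mem (J.mul_mem_left _ hfJ) hx, by
                rw [map_sub, ← MvPolynomial.smul_eq_C_mul, map_smul, hφ1, smul_eq_mul, mul_one, sub_self]⟩
            · rintro ⟨z, rfl⟩
              exact J.mul_mem_left _ hfJ
          mul_incl := fun x z => by
            obtain ⟨p, rfl⟩ := Ideal.Quotient.mk_surjective x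
            change mk p * mk (MvPolynomial.C (e z) * f) = mk (MvPolynomial.C (e (π p • z)) * f)
            have he : e (π p • z) = MvPolynomial.constantCoeff p * e z := by
              rw [show π p • z = IsLocalRing.residue A (π p) * z from rfl, map_mul]
              congr 1
              refine (RingEquiv.ofBijective ρ hρ).symm_apply_eq.2 ?_
              change IsLocalRing.residue A (π p) = IsLocalRing.residue A (algebraMap k A _)
              rw [← sub_eq_zero, ← map_sub]
              refine Ideal.Quotient.eq_zero_iff_mem.2 ?_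
              have h := hNπ (Ideal.mem_map_of_mem π.toRingHom (hsubC p))
              rw [show π.toRingHom (p - MvPolynomial.C (MvPolynomial.constantCoeff p)) = π p -
                algebraMap k A (MvPolynomial.constantCoeff p) by rw [AlgHom.toRingHom_eq_coe, RingHom.coe_coe, map_sub, hπC]] at h
              exact h
            rw [← map_mul, he, map_mul MvPolynomial.C, mul_assoc]
            refine Ideal.Quotient.eq.2 ⟨sub_mem (J.mul_mem_left _ (J.mul_mem_left _ hfJ))
              (J.mul_mem_left _ (J.mul_mem_left _ hfJ)), ?_⟩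
            rw [map_sub, hφmul p _ (J.mul_mem_left _ hfJ), hφmul (MvPolynomial.C (MvPolynomial.constantCoeff p)) _
              (J.mul_mem_left _ hfJ), MvPolynomial.constantCoeff_C, sub_self] } }
  refine ⟨X, ?_⟩
  rintro ⟨σ, hσ⟩
  let φ₁ : P →ₐ[k] P ⧸ J' := σ.comp π
  let φ₂ : P →ₐ[k] P ⧸ J' := Ideal.Quotient.mkₐ k J'
  have hd : ∀ p, φ₁ p - φ₂ p ∈ J.map mk := fun p => by
    obtain ⟨q, hq⟩ := Ideal.Quotient.mk_surjective (φ₁ p)
    rw [← hq]
    change mk q - mk p ∈ _
    rw [← map_sub]
    refine Ideal.mem_map_of_mem mk ?_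
    change π (q - p) = 0
    rw [map_sub, ← hproj q, show mk q = φ₁ p from hq]
    exact sub_eq_zero.2 (hσ (π p))
  have hkill : ∀ z ∈ J.map mk, ∀ p ∈ N, φ₂ p * z = 0 := fun z hz p hp => by
    obtain ⟨q, hq, rfl⟩ := (Ideal.mem_map_iff_of_surjective mk Ideal.Quotient.mk_surjective).1 hz
    change mk p * mk q = 0
    rw [← map_mul]
    exact Ideal.Quotient.eq_zero_iff_mem.2 ⟨J.mul_mem_left _ hq, hφ0 _ (Ideal.mul_mem_mul hp hq)⟩
  have hsq : ∀ y ∈ J.map mk, ∀ z ∈ J.map mk, y * z = 0 := fun y hy z hz => by
    obtain ⟨q, hq, rfl⟩ := (Ideal.mem_map_iff_of_surjective mk Ideal.Quotient.mk_surjective).1 hy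
    exact hkill z hz q (hJN hq)
  have heq : ∀ p ∈ N * N, φ₁ p = φ₂ p := fun p hp => by
    refine Submodule.mul_induction_on hp (fun a ha c hc => ?_) (fun a c ha hc => by rw [map_add, map_add, ha, hc])
    have ea := hd a
    have ec := hd c
    have h1 := hkill _ ea c hc
    have h2 := hkill _ ec a ha
    have h3 := hsq _ ea _ ec
    rw [map_mul, map_mul]
    linear_combination h1 + h2 + h3
  have h0 : φ₂ f = 0 := by
    rw [← heq f (hJ2 hfJ)]
    change σ (π f) = 0
    rw [RingHom.mem_ker.1 hfJ, map_zero]
  have h1 := (Ideal.Quotient.eq_zero_iff_mem.1 h0).2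
  rw [hφ1] at h1
  exact one_ne_zero h1

end Groth.Agent.S11291
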