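import Groth.Statements.S11292
import Groth.Agent.Lib.Exal.Basic

set_option autoImplicit false
universe u
open Deform

namespace Groth.Agent.S11292

open Groth.Agent

set_option maxHeartbeats 1000000
attribute [local instance] Exal.opModule Exal.isCentralScalar_opModule

theorem isTrivial_of_equiv {A : Type u} {B L : Type u} [CommRing A] [CommRing B] [Algebra A B] [AddCommGroup L]
    [Module B L] {X Y : Exal.Ext A B L} (e : X.Equiv Y) (h : X.IsTrivial) : Y.IsTrivial := by
  obtain ⟨s, hs⟩ := h
  exact ⟨e.toAlgEquiv.toAlgHom.comp s, fun b => (e.proj_apply _).trans (hs b)⟩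

theorem exists_lift_surj {A P B C : Type u} [CommRing A] [CommRing P] [CommRing B] [CommRing C] [Algebra A P]
    [Algebra A B] [Algebra A C] (G : Ideal C) (q : P →ₐ[A] B) (hq : Function.Surjective q) (f : P →ₐ[A] C)
    (h : ∀ x, q x = 0 → f x ∈ G) :
    ∃ σ : B →ₐ[A] C ⧸ G, ∀ x, σ (q x) = Ideal.Quotient.mk G (f x) := by
  let g := (Ideal.Quotient.mkₐ A G).comp f
  have hk : RingHom.ker q ≤ RingHom.ker g := fun x hx => Ideal.Quotient.eq_zero_iff_mem.2 (h x hx)
  exact ⟨AlgHom.liftOfSurjective q hq g hk, AlgHom.liftOfSurjective_apply q hq g hk⟩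

theorem equiv_of_sections {A : Type u} {B L : Type u} [CommRing A] [CommRing B] [Algebra A B] [AddCommGroup L]
    [Module B L] (X Y : Exal.Ext A B L) (s : B →ₐ[A] X.E) (hs : ∀ b, X.proj (s b) = b)
    (t : B →ₐ[A] Y.E) (ht : ∀ b, Y.proj (t b) = b) : Nonempty (X.Equiv Y) := by
  have h0 : ∀ x, X.proj (x - s (X.proj x)) = 0 := fun x => by rw [map_sub, hs, sub_self]
  let ℓ := fun x => X.kerLift _ (h0 x)
  have hℓ : ∀ x, X.incl (ℓ x) = x - s (X.proj x) := fun x => X.incl_kerLift _ _
  let φ : X.E → Y.E := fun x => t (X.proj x) + Y.incl (ℓ x)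
  have key : ∀ x y : X.E, ℓ (x * y) = X.proj x • ℓ y + X.proj y • ℓ x := fun x y => by
    apply X.isExtension.incl_injective
    rw [map_add, ← X.isExtension.mul_incl x, ← X.isExtension.mul_incl y, hℓ, hℓ, hℓ, map_mul, map_mul]
    have h := Exal3L.incl_mul_incl X (ℓ x) (ℓ y)
    rw [hℓ, hℓ] at h
    linear_combination -h
  have hadd : ∀ x y : X.E, ℓ (x + y) = ℓ x + ℓ y := fun x y => by
    apply X.isExtension.incl_injective
    rw [map_add, hℓ, hℓ, hℓ, map_add, map_add]; ring
  have halg : ∀ a : A, ℓ (algebraMap A X.E a) = 0 := fun a => by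
    apply X.isExtension.incl_injective
    rw [hℓ, AlgHom.commutes, AlgHom.commutes, sub_self, map_zero]
  have hm : ∀ (b : B) (z : L), t b * Y.incl z = Y.incl (b • z) := fun b z => by
    rw [Y.isExtension.mul_incl, ht]
  let Φ : X.E →ₐ[A] Y.E :=
    { toFun := φ
      map_one' := by
        show t (X.proj 1) + Y.incl (ℓ 1) = 1
        rw [← map_one (algebraMap A X.E), halg, map_zero, add_zero, AlgHom.commutes, map_one, map_one]
      map_mul' := fun x y => by
        show φ (x * y) = φ x * φ y
        simp only [φ, key, map_mul, map_add, ← hm]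
        linear_combination -Exal3L.incl_mul_incl Y (ℓ x) (ℓ y)
      map_zero' := by
        show t (X.proj 0) + Y.incl (ℓ 0) = 0
        rw [← map_zero (algebraMap A X.E), halg, map_zero Y.incl, add_zero, map_zero, map_zero, map_zero]
      map_add' := fun x y => by
        show φ (x + y) = φ x + φ y
        simp only [φ, hadd, map_add]; abel
      commutes' := fun a => by
        show t (X.proj _) + Y.incl (ℓ _) = _
        rw [halg, map_zero, add_zero, AlgHom.commutes, AlgHom.commutes] }
  obtain ⟨e, -⟩ := Exal3L.nonempty_equiv_of_hom Φ (fun x => by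
      show Y.proj (t _ + Y.incl _) = _
      rw [map_add, ht, Exal3L.proj_incl, add_zero])
    (fun z => by
      show t (X.proj (X.incl z)) + Y.incl (ℓ (X.incl z)) = _
      rw [Exal3L.proj_incl, map_zero, zero_add]
      congr 1
      apply X.isExtension.incl_injective
      rw [hℓ, Exal3L.proj_incl, map_zero, sub_zero])
  exact ⟨e⟩

noncomputable def trivSec {A B L : Type u} [CommRing A] [CommRing B] [Algebra A B] [AddCommGroup L] [Module B L] :
    B →ₐ[A] (Exal.Ext.trivial A B L).E where
  toFun b := (TrivSqZeroExt.inl b : TrivSqZeroExt B L)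
  map_one' := TrivSqZeroExt.inl_one L
  map_mul' x y := TrivSqZeroExt.inl_mul L x y
  map_zero' := TrivSqZeroExt.inl_zero L
  map_add' x y := TrivSqZeroExt.inl_add L x y
  commutes' _ := rfl

section

variable {k Λ R L : Type u} [CommRing k] [CommRing Λ] [CommRing R] [Algebra k Λ] [Algebra k R] [Algebra Λ R]
  [IsScalarTower k Λ R] [AddCommGroup L] [Module R L] [Module Λ L] [IsScalarTower Λ R L]

variable (Λ) in
noncomputable def trivialSection : Λ →ₐ[k] ((Exal.Ext.trivial k R L).pullback Λ).E :=
  ((trivSec.comp (IsScalarTower.toAlgHom k Λ R)).prod (AlgHom.id k Λ)).codRestrict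
    ((Exal.Ext.trivial k R L).fiberProd Λ) fun _ => rfl

variable [Module k L] [IsScalarTower k Λ L] [IsScalarTower k R L]

theorem exists_derivation_extend (D : Derivation k Λ L) (h : (Exal.Ext.ofDerivation (C := R) D).IsTrivial) :
    ∃ D' : Derivation k R L, ∀ a : Λ, D' (algebraMap Λ R a) = D a := by
  obtain ⟨s, hs⟩ := h
  let S : R →+* TrivSqZeroExt R L := s.toRingHom
  have hS : ∀ r, (S r).fst = r := hs
  have hSa : ∀ a : Λ, S (algebraMap Λ R a) = TrivSqZeroExt.inl (algebraMap Λ R a) + TrivSqZeroExt.inr (D a) :=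
    fun a => s.commutes a
  have hmul : ∀ x y, (S (x * y)).snd = x • (S y).snd + y • (S x).snd := fun x y => by
    rw [map_mul, TrivSqZeroExt.snd_mul, op_smul_eq_smul, hS, hS]
  have hk : ∀ c : k, (S (algebraMap k R c)).snd = 0 := fun c => by
    rw [IsScalarTower.algebraMap_apply k Λ R, hSa]
    simp
  let D' : Derivation k R L := Derivation.mk'
    { toFun := fun r => (S r).snd
      map_add' := fun x y => by rw [map_add, TrivSqZeroExt.snd_add]
      map_smul' := fun c x => by
        rw [Algebra.smul_def, hmul, hk, smul_zero, add_zero, RingHom.id_apply, algebraMap_smul] }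
    hmul
  refine ⟨D', fun a => ?_⟩
  show (S (algebraMap Λ R a)).snd = D a
  rw [hSa]; simp

theorem isTrivial_ofDerivation (D : Derivation k Λ L) (D' : Derivation k R L)
    (h : ∀ a : Λ, D' (algebraMap Λ R a) = D a) : (Exal.Ext.ofDerivation (C := R) D).IsTrivial := by
  refine ⟨{ toFun := fun r => (TrivSqZeroExt.inl r + TrivSqZeroExt.inr (D' r) : TrivSqZeroExt R L)
            map_one' := ?_
            map_mul' := fun x y => ?_
            map_zero' := ?_
            map_add' := fun x y => ?_
            commutes' := fun a => ?_ }, fun r => ?_⟩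
  · show (TrivSqZeroExt.inl 1 + TrivSqZeroExt.inr (D' 1) : TrivSqZeroExt R L) = 1
    simp
  · let f : R → TrivSqZeroExt R L := fun r => TrivSqZeroExt.inl r + TrivSqZeroExt.inr (D' r)
    have hm : f (x * y) = f x * f y := by
      refine TrivSqZeroExt.ext ?_ ?_ <;> simp [f, op_smul_eq_smul]
    exact hm
  · show (TrivSqZeroExt.inl 0 + TrivSqZeroExt.inr (D' 0) : TrivSqZeroExt R L) = 0
    simp
  · show (TrivSqZeroExt.inl (x + y) + TrivSqZeroExt.inr (D' (x + y)) : TrivSqZeroExt R L) = _ + _
    rw [map_add, TrivSqZeroExt.inl_add, TrivSqZeroExt.inr_add]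
    abel
  · show (TrivSqZeroExt.inl (algebraMap Λ R a) + TrivSqZeroExt.inr (D' (algebraMap Λ R a)) : TrivSqZeroExt R L) =
      TrivSqZeroExt.inl (algebraMap Λ R a) + TrivSqZeroExt.inr (D a)
    rw [h]
  · show (TrivSqZeroExt.inl r + TrivSqZeroExt.inr (D' r) : TrivSqZeroExt R L).fst = r
    simp

omit [Module k L] [IsScalarTower k Λ L] [IsScalarTower k R L] in
theorem nonempty_equiv_of_pullback (htriv : ∀ X : Exal.Ext Λ R L, X.IsTrivial) (Y Y' : Exal.Ext k R L)
    (he : Nonempty ((Y.pullback Λ).Equiv (Y'.pullback Λ))) : Nonempty (Y.Equiv Y') := by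
  classical
  obtain ⟨e⟩ := he
  let W : Subalgebra k (Y.E × Y'.E) :=
    AlgHom.equalizer (Y.proj.comp (AlgHom.fst k _ _)) (Y'.proj.comp (AlgHom.snd k _ _))
  let G : Ideal W :=
    { carrier := {w | ∃ z, w.1 = (Y.incl z, Y'.incl z)}
      add_mem' := by
        rintro a b ⟨z, hz⟩ ⟨z', hz'⟩
        refine ⟨z + z', ?_⟩
        show a.1 + b.1 = _
        rw [hz, hz', map_add, map_add]; rfl
      zero_mem' := ⟨0, by rw [map_zero, map_zero]; rfl⟩
      smul_mem' := by
        rintro c a ⟨z, hz⟩
        refine ⟨Y.proj c.1.1 • z, ?_⟩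
        show c.1 * a.1 = _
        rw [hz]
        exact Prod.ext (Y.isExtension.mul_incl _ _) ((Y'.isExtension.mul_incl _ _).trans
          (congrArg (fun r => Y'.incl (r • z)) (show Y.proj c.1.1 = Y'.proj c.1.2 from c.2).symm)) }
  have hmem : ∀ x : (Y.pullback Λ).E, (x.1.1, (e.toAlgEquiv x).1.1) ∈ W := fun x => by
    show Y.proj x.1.1 = Y'.proj (e.toAlgEquiv x).1.1
    have h1 : Y.proj x.1.1 = algebraMap Λ R x.1.2 := x.2
    have h2 : Y'.proj (e.toAlgEquiv x).1.1 = algebraMap Λ R (e.toAlgEquiv x).1.2 := (e.toAlgEquiv x).2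
    rw [h1, h2]
    exact congrArg _ (e.proj_apply x).symm
  let f : (Y.pullback Λ).E →ₐ[k] W :=
    ((((AlgHom.fst k Y.E Λ).comp (Y.fiberProd Λ).val).prod
      (((AlgHom.fst k Y'.E Λ).comp (Y'.fiberProd Λ).val).comp e.toAlgEquiv.toAlgHom))).codRestrict W hmem
  obtain ⟨σ, hσ⟩ := exists_lift_surj G (Y.pullback Λ).proj (Y.pullback Λ).isExtension.proj_surjective f
    fun x hx => by
      obtain ⟨z, rfl⟩ := ((Y.pullback Λ).isExtension.exact x).1 hx
      refine ⟨z, Prod.ext rfl ?_⟩
      show (e.toAlgEquiv ((Y.pullback Λ).incl z)).1.1 = Y'.incl z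
      rw [e.apply_incl]
      rfl
  letI : CommSemiring (W ⧸ G) := (Ideal.Quotient.commRing G).toCommSemiring
  letI : Algebra Λ (W ⧸ G) := RingHom.toAlgebra (R := Λ) (S := W ⧸ G) σ.toRingHom
  let pr₀ : W ⧸ G →ₐ[k] R := Ideal.Quotient.liftₐ G ((Y.proj.comp (AlgHom.fst k _ _)).comp W.val) fun w ⟨z, hz⟩ => by
    show Y.proj w.1.1 = 0
    rw [hz]; exact Exal3L.proj_incl Y z
  let pr : W ⧸ G →ₐ[Λ] R :=
    { pr₀.toRingHom with
      commutes' := fun a => by
        obtain ⟨x, rfl⟩ := (Y.pullback Λ).isExtension.proj_surjective a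
        show pr₀ (σ _) = _
        rw [hσ]
        exact x.2 }
  let inc : L →+ W ⧸ G :=
    { toFun := fun z => Ideal.Quotient.mk G ⟨(Y.incl z, 0), by
        show Y.proj (Y.incl z) = Y'.proj 0
        rw [Exal3L.proj_incl, map_zero]⟩
      map_zero' := Ideal.Quotient.eq_zero_iff_mem.2 ⟨0, by simp⟩
      map_add' := fun z z' => by
        rw [← map_add]
        congr 1
        exact Subtype.ext (Prod.ext (by simp) (by simp)) }
  let Z : Exal.Ext Λ R L :=
    { E := W ⧸ G
      proj := pr
      incl := inc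
      isExtension :=
        { proj_surjective := fun r => by
            obtain ⟨y, hy⟩ := Y.isExtension.proj_surjective r
            obtain ⟨y', hy'⟩ := Y'.isExtension.proj_surjective r
            exact ⟨Ideal.Quotient.mk G ⟨(y, y'), hy.trans hy'.symm⟩, hy⟩
          incl_injective := (injective_iff_map_eq_zero inc).2 fun z hz => by
            obtain ⟨z', hz'⟩ := Ideal.Quotient.eq_zero_iff_mem.1 hz
            obtain ⟨h1, h2⟩ := Prod.ext_iff.1 hz'
            rw [Y.isExtension.incl_injective h1]
            exact Y'.isExtension.incl_injective (h2.symm.trans (map_zero _).symm)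
          exact := fun x => by
            constructor
            · intro hx
              obtain ⟨w, rfl⟩ := Ideal.Quotient.mk_surjective x
              have h0 : Y.proj w.1.1 = 0 := hx
              obtain ⟨z, hz⟩ := (Y.isExtension.exact _).1 h0
              obtain ⟨z', hz'⟩ := (Y'.isExtension.exact _).1
                ((show Y'.proj w.1.2 = Y.proj w.1.1 from w.2.symm).trans h0)
              refine ⟨z - z', Ideal.Quotient.eq.2 ⟨-z', Prod.ext ?_ ?_⟩⟩
              · show Y.incl (z - z') - w.1.1 = Y.incl (-z')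
                rw [← hz, map_sub, map_neg]; abel
              · show 0 - w.1.2 = Y'.incl (-z')
                rw [← hz', map_neg, zero_sub]
            · rintro ⟨z, rfl⟩
              exact Exal3L.proj_incl Y z
          mul_incl := fun x z => by
            obtain ⟨w, rfl⟩ := Ideal.Quotient.mk_surjective x
            refine (map_mul (Ideal.Quotient.mk G) _ _).symm.trans (congrArg _ (Subtype.ext (Prod.ext ?_ (mul_zero _))))
            exact Y.isExtension.mul_incl _ _ } }
  obtain ⟨s, hs⟩ := htriv Z
  have hex : ∀ y, ∃ (y' : Y'.E) (h : Y.proj y = Y'.proj y'), (s (Y.proj y) : W ⧸ G) = Ideal.Quotient.mk G ⟨(y, y'), h⟩ := by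
    intro y
    obtain ⟨⟨⟨a, a'⟩, haa⟩, hw⟩ := Ideal.Quotient.mk_surjective (s (Y.proj y) : W ⧸ G)
    have ha : Y.proj a = Y.proj y := by
      have := congrArg pr hw
      exact this.trans (hs _)
    obtain ⟨z, hz⟩ := Exal3L.exists_incl_eq_sub Y y a ha.symm
    refine ⟨a' + Y'.incl z, ?_, hw.symm.trans (Ideal.Quotient.eq.2 ⟨-z, Prod.ext ?_ ?_⟩)⟩
    · rw [map_add, Exal3L.proj_incl, add_zero, ← ha]; exact haa
    · show a - y = Y.incl (-z)
      rw [map_neg, hz, neg_sub]
    · show a' - (a' + Y'.incl z) = Y'.incl (-z)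
      rw [map_neg, sub_add_cancel_left]
  choose φ hφp hφ using hex
  have huniq : ∀ y y' (h : Y.proj y = Y'.proj y'), (s (Y.proj y) : W ⧸ G) = Ideal.Quotient.mk G ⟨(y, y'), h⟩ → φ y = y' := by
    intro y y' h hh
    obtain ⟨z, hz⟩ := Ideal.Quotient.eq.1 ((hφ y).symm.trans hh)
    obtain ⟨h1, h2⟩ := Prod.ext_iff.1 hz
    have : z = 0 := Y.isExtension.incl_injective (by rw [map_zero]; exact h1.symm.trans (sub_self y))
    rw [this] at h2
    exact sub_eq_zero.1 ((show φ y - y' = Y'.incl 0 from h2).trans (map_zero _))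
  let Φ : Y.E →ₐ[k] Y'.E :=
    { toFun := φ
      map_one' := huniq _ _ (by rw [map_one, map_one]) (((congrArg s (map_one Y.proj)).trans (map_one s)).trans
        (map_one (Ideal.Quotient.mk G)).symm)
      map_mul' := fun a b => huniq _ _ (by rw [map_mul, map_mul, hφp, hφp])
        (((congrArg s (map_mul Y.proj a b)).trans (map_mul s _ _)).trans
          ((congrArg₂ (· * ·) (hφ a) (hφ b)).trans (map_mul (Ideal.Quotient.mk G) _ _).symm))
      map_zero' := huniq _ _ (by rw [map_zero, map_zero]) (((congrArg s (map_zero Y.proj)).trans (map_zero s)).trans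
        (map_zero (Ideal.Quotient.mk G)).symm)
      map_add' := fun a b => huniq _ _ (by rw [map_add, map_add, hφp, hφp])
        (((congrArg s (map_add Y.proj a b)).trans (map_add s _ _)).trans
          ((congrArg₂ (· + ·) (hφ a) (hφ b)).trans (map_add (Ideal.Quotient.mk G) _ _).symm))
      commutes' := fun c => huniq _ _ (by rw [AlgHom.commutes, AlgHom.commutes]) (by
        refine ((congrArg s ((Y.proj.commutes c).trans (IsScalarTower.algebraMap_apply k Λ R c))).trans
          (s.commutes _)).trans ?_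
        exact σ.commutes c) }
  obtain ⟨E, -⟩ := Exal3L.nonempty_equiv_of_hom Φ (fun y => (hφp y).symm) (fun z => huniq _ _
    (by rw [Exal3L.proj_incl, Exal3L.proj_incl])
      (((congrArg s (Exal3L.proj_incl Y z)).trans (map_zero s)).trans
        (Ideal.Quotient.eq_zero_iff_mem.2 (show (_ : W) ∈ G from ⟨z, rfl⟩)).symm))
  exact ⟨E⟩

end

/-- Let k be an algebraically closed field, Λ and R local Noetherian k-algebras with residue field k,
and Λ → R a local k-algebra homomorphism. Then the relative obstruction space vanishes — every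
Λ-extension of R by its residue field k is trivial — if and only if (a) the tangent map t_R → t_Λ is
surjective: every k-derivation of Λ into k extends along Λ → R to a k-derivation of R into k, and
(b) the obstruction map o(R) → o(Λ) given by inverse image is injective on classes: two k-extensions
of R by k whose inverse images over Λ are equivalent are equivalent (R is less obstructed than Λ).
Here k is the residue field of R, a module over R, Λ and k through the structure maps. -/
theorem result
    {k : Type u} [Field k] [IsAlgClosed k]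
    {Λ : Type u} [CommRing Λ] [Algebra k Λ] [IsLocalRing Λ] [IsNoetherianRing Λ]
    (hΛ : ∀ a : Λ, ∃ c : k, a - algebraMap k Λ c ∈ IsLocalRing.maximalIdeal Λ)
    {R : Type u} [CommRing R] [Algebra Λ R] [Algebra k R] [IsScalarTower k Λ R]
    [IsLocalRing R] [IsNoetherianRing R] [IsLocalHom (algebraMap Λ R)]
    (hR : ∀ r : R, ∃ c : k, r - algebraMap k R c ∈ IsLocalRing.maximalIdeal R) :
    (∀ X : Exal.Ext Λ R (IsLocalRing.ResidueField R), X.IsTrivial) ↔
    ((∀ D : Derivation k Λ (IsLocalRing.ResidueField R),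
        ∃ D' : Derivation k R (IsLocalRing.ResidueField R), ∀ a : Λ, D' (algebraMap Λ R a) = D a) ∧
     (∀ Y Y' : Exal.Ext k R (IsLocalRing.ResidueField R),
        Nonempty ((Y.pullback Λ).Equiv (Y'.pullback Λ)) → Nonempty (Y.Equiv Y'))) := by
  refine ⟨fun h => ⟨fun D => ?_, fun Y Y' he => ?_⟩, fun ⟨hext, hinj⟩ X => ?_⟩
  · exact exists_derivation_extend D (h _)
  · exact nonempty_equiv_of_pullback h Y Y' he
  · have hk : X.IsTrivialOver k := by
      let Y := X.restrictBase k
      let x₀ : Λ → (Y.pullback Λ).E := fun a => ⟨(algebraMap Λ X.E a, a), X.proj.commutes a⟩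
      let s : Λ →ₐ[k] (Y.pullback Λ).E :=
        { toFun := x₀
          map_one' := Subtype.ext (Prod.ext (map_one (algebraMap Λ X.E)) rfl)
          map_mul' := fun a b => Subtype.ext (Prod.ext (map_mul (algebraMap Λ X.E) a b) rfl)
          map_zero' := Subtype.ext (Prod.ext (map_zero (algebraMap Λ X.E)) rfl)
          map_add' := fun a b => Subtype.ext (Prod.ext (map_add (algebraMap Λ X.E) a b) rfl)
          commutes' := fun c => rfl }
      obtain ⟨e⟩ := hinj Y (Exal.Ext.trivial k R (IsLocalRing.ResidueField R))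
        (equiv_of_sections (Y.pullback Λ) _ s (fun a => rfl) (trivialSection Λ) (fun a => rfl))
      exact isTrivial_of_equiv e.symm ⟨trivSec, fun _ => rfl⟩
    obtain ⟨D, ⟨e⟩⟩ := Exal3L.exists_derivation_of_isTrivialOver X hk
    obtain ⟨D', hD'⟩ := hext D
    exact isTrivial_of_equiv e.symm (isTrivial_ofDerivation D D' hD')

end Groth.Agent.S11292
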