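import Groth.Statements.S11293
import Mathlib.RingTheory.Ideal.AssociatedPrime.Finiteness
import Mathlib.RingTheory.Jacobson.Ring
import Mathlib.RingTheory.Artinian.Module
import Mathlib.RingTheory.Artinian.Ring
import Mathlib.RingTheory.Regular.IsSMulRegular
import Mathlib.RingTheory.AdicCompletion.Basic
import Mathlib.RingTheory.IntegralDomain
import Mathlib.RingTheory.FinitePresentation
import Mathlib.RingTheory.Flat.FaithfullyFlat.Basic
import Mathlib.RingTheory.Flat.FaithfullyFlat.Algebra
import Mathlib.RingTheory.IntegralClosure.IntegrallyClosed
import Mathlib.LinearAlgebra.Matrix.MvPolynomial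
import Mathlib.RingTheory.Polynomial.Basic
import Mathlib.RingTheory.Localization.FractionRing
import Mathlib.RingTheory.IntegralClosure.IsIntegral.Basic
import Mathlib.LinearAlgebra.TensorProduct.Tower
import Mathlib.RingTheory.Ideal.Quotient.Operations
import Mathlib.RingTheory.Ideal.Colon
import Mathlib.RingTheory.Support
import Mathlib.RingTheory.Noetherian.OfPrime
import Mathlib.RingTheory.HopkinsLevitzki
import Mathlib.RingTheory.Ideal.AssociatedPrime.Localization
import Mathlib.RingTheory.Flat.FaithfullyFlat.Descent
import Mathlib.LinearAlgebra.TensorProduct.Quotient
import Mathlib.LinearAlgebra.TensorProduct.RightExactness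
import Mathlib.RingTheory.PrincipalIdealDomain
import Mathlib.LinearAlgebra.Matrix.Charpoly.Basic
import Mathlib.RingTheory.Flat.Stability
import Mathlib.RingTheory.Nilpotent.Lemmas
import Mathlib.Algebra.Module.Projective
import Mathlib.RingTheory.LocalRing.ResidueField.Basic
import Mathlib.GroupTheory.OrderOfElement
import Mathlib.Algebra.EuclideanDomain.Int
import Mathlib.RingTheory.Spectrum.Maximal.Basic

set_option autoImplicit false
universe u v
open CAlg

namespace Groth.Agent.S11293
open TensorProduct

/-- Let P be a commutative ring, F a P-module and j : F → P a P-linear map, with image the ideal J and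
kernel the relation module R. The trivial (Koszul) relations are the P-span of the elements j(u) • v
- j(v) • u. Then J • R is contained in the trivial relations: for a in J and x in R the element a •
x is a P-combination of trivial relations, so that R modulo the trivial relations is a module over
P/J. (The published statement takes F finitely generated free over a smooth algebra; this row allows
any module F.) -/
theorem result (P : Type u) [CommRing P] (F : Type v) [AddCommGroup F]
    [Module P F] (j : F →ₗ[P] P) (a : P) (ha : a ∈ LinearMap.range j) (x : F) (hx : x ∈ LinearMap.ker j) :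
    a • x ∈ Submodule.span P {y : F | ∃ u v : F, y = j u • v - j v • u} := by
  obtain ⟨u, rfl⟩ := ha
  exact Submodule.subset_span ⟨u, x, by simp [show j x = 0 from hx]⟩

end Groth.Agent.S11293
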