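import Groth.Statements.S11294
-- import your own Groth.Agent.* helpers here

set_option autoImplicit false
universe u
open Deform

namespace Groth.Agent.S11294

open TrivSqZeroExt in
/-- Let P be a commutative ring, J an ideal, and P[ε] the ring of dual numbers over P. First-order
embedded deformations of Spec(P/J) in Spec P, namely ideals J' of P[ε] lifting J (the image of J'
under ε ↦ 0 is J) with P[ε]/J' flat over the dual numbers — flatness being replaced by the condition
that every element of P[ε]/J' annihilated by ε is a multiple of ε (equivalent to flatness over k[ε]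
when P is an algebra over a field k) — are in canonical bijection with Hom_P(J, P/J) =
Hom_{P/J}(J/J^2, P/J), the normal module: to φ corresponds the ideal of all a + εb with a in J and b
reducing to φ(a) modulo J. The first clause says this rule defines exactly one ideal for each φ; the
second says an ideal J' is a flat lift of J precisely when its membership is given by this rule for
some φ. (The published statement is the global one, identifying first-order deformations of a closed
subscheme X of an algebraic scheme Y with H^0(X, N_{X/Y}); this row is the affine computation in its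
proof, valid for every commutative ring P.) -/
theorem result (P : Type u) [CommRing P] (J : Ideal P) :
    (∀ φ : J →ₗ[P] (P ⧸ J), ∃! J' : Ideal (DualNumber P),
        ∀ a b : P, (inl a + inr b : DualNumber P) ∈ J' ↔ ∃ h : a ∈ J, Ideal.Quotient.mk J b = φ ⟨a, h⟩) ∧
    (∀ J' : Ideal (DualNumber P),
      (J'.map (TrivSqZeroExt.fstHom P P P) = J ∧
        ∀ m : DualNumber P ⧸ J', Ideal.Quotient.mk J' DualNumber.eps * m = 0 →
          ∃ m' : DualNumber P ⧸ J', m = Ideal.Quotient.mk J' DualNumber.eps * m') ↔
      ∃ φ : J →ₗ[P] (P ⧸ J), ∀ a b : P,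
        (inl a + inr b : DualNumber P) ∈ J' ↔ ∃ h : a ∈ J, Ideal.Quotient.mk J b = φ ⟨a, h⟩) := by
  constructor
  · intro φ
    let J' : Ideal (DualNumber P) :=
      { carrier := {x | ∃ h : fst x ∈ J, Ideal.Quotient.mk J (snd x) = φ ⟨fst x, h⟩}
        add_mem' := by
          rintro x y ⟨hx, ex⟩ ⟨hy, ey⟩
          refine ⟨by rw [fst_add]; exact J.add_mem hx hy, ?_⟩
          rw [snd_add, map_add, ex, ey, ← map_add]
          exact congrArg φ (Subtype.ext (fst_add x y).symm)
        zero_mem' := ⟨by rw [fst_zero]; exact J.zero_mem, by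
          rw [snd_zero, map_zero]; exact (φ.map_zero).symm⟩
        smul_mem' := by
          rintro c x ⟨hx, ex⟩
          refine ⟨by rw [smul_eq_mul, fst_mul]; exact J.mul_mem_left _ hx, ?_⟩
          have e : (⟨fst (c • x), by rw [smul_eq_mul, fst_mul]; exact J.mul_mem_left _ hx⟩ : J) =
              fst c • ⟨fst x, hx⟩ := Subtype.ext (show fst (c * x) = fst c * fst x from fst_mul c x)
          rw [e, map_smul, smul_eq_mul, DualNumber.snd_mul, map_add, map_mul, map_mul,
            Ideal.Quotient.eq_zero_iff_mem.2 hx, mul_zero, add_zero, ex]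
          rfl }
    have hmem : ∀ a b : P, (inl a + inr b : DualNumber P) ∈ J' ↔
        ∃ h : a ∈ J, Ideal.Quotient.mk J b = φ ⟨a, h⟩ := fun a b => by
      change (∃ h : fst (inl a + inr b : DualNumber P) ∈ J, Ideal.Quotient.mk J (snd (inl a + inr b : DualNumber P)) =
        φ ⟨fst (inl a + inr b : DualNumber P), h⟩) ↔ _
      simp only [fst_add, fst_inl, fst_inr, snd_add, snd_inl, snd_inr, add_zero, zero_add]
    refine ⟨J', hmem, fun K hK => ?_⟩
    ext x
    rw [← inl_fst_add_inr_snd_eq x, hK, hmem]
  · intro J'
    constructor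
    · rintro ⟨hJ, htor⟩
      have hπ : Function.Surjective (fstHom P P P) := fun a => ⟨inl a, fst_inl P a⟩
      have hinr : ∀ d : P, (inr d : DualNumber P) ∈ J' ↔ d ∈ J := by
        intro d
        constructor
        · intro hd
          obtain ⟨m', hm'⟩ := htor (Ideal.Quotient.mk J' (inl d)) (by
            rw [← map_mul, Ideal.Quotient.eq_zero_iff_mem]
            have : (DualNumber.eps * inl d : DualNumber P) = inr d := TrivSqZeroExt.ext (by simp) (by simp)
            rwa [this])
          obtain ⟨z, rfl⟩ := Ideal.Quotient.mk_surjective m'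
          rw [← map_mul, Ideal.Quotient.eq] at hm'
          have := Ideal.mem_map_of_mem (fstHom P P P) hm'
          rw [hJ] at this
          simpa using this
        · intro hd
          rw [← hJ] at hd
          obtain ⟨z, hz, rfl⟩ := (Ideal.mem_map_iff_of_surjective _ hπ).1 hd
          have : (inr (fstHom P P P z) : DualNumber P) = DualNumber.eps * z := TrivSqZeroExt.ext (by simp) (by simp)
          rw [this]
          exact J'.mul_mem_left _ hz
      have hex : ∀ a : J, ∃ x ∈ J', fst x = (a : P) := fun a => by
        obtain ⟨x, hx, hx'⟩ := (Ideal.mem_map_iff_of_surjective _ hπ).1 (hJ.ge a.2)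
        exact ⟨x, hx, hx'⟩
      choose g hg hg' using hex
      have hwd : ∀ (a : J) (x : DualNumber P), x ∈ J' → fst x = (a : P) →
          Ideal.Quotient.mk J (snd x) = Ideal.Quotient.mk J (snd (g a)) := fun a x hx hx' => by
        rw [Ideal.Quotient.eq, ← hinr]
        have : (inr (snd x - snd (g a)) : DualNumber P) = x - g a :=
          TrivSqZeroExt.ext (by simp [hx', hg']) (by simp)
        rw [this]
        exact J'.sub_mem hx (hg a)
      let φ : J →ₗ[P] (P ⧸ J) :=
        { toFun := fun a => Ideal.Quotient.mk J (snd (g a))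
          map_add' := fun a b => by
            rw [← hwd (a + b) (g a + g b) (J'.add_mem (hg a) (hg b)) (by rw [fst_add, hg', hg']; rfl), snd_add, map_add]
          map_smul' := fun p a => by
            rw [← hwd (p • a) (inl p * g a) (J'.mul_mem_left _ (hg a)) (by rw [fst_mul, fst_inl, hg']; rfl),
              DualNumber.snd_mul, fst_inl, snd_inl, zero_mul, add_zero, map_mul]
            rfl }
      refine ⟨φ, fun a b => ⟨fun h => ?_, ?_⟩⟩
      · have ha : a ∈ J := by
          rw [← hJ]
          simpa using Ideal.mem_map_of_mem (fstHom P P P) h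
        exact ⟨ha, (congrArg _ (by simp : b = snd (inl a + inr b : DualNumber P))).trans
          (hwd ⟨a, ha⟩ _ h (by simp))⟩
      · rintro ⟨ha, e⟩
        have : (inl a + inr b : DualNumber P) = g ⟨a, ha⟩ + inr (b - snd (g ⟨a, ha⟩)) :=
          TrivSqZeroExt.ext (by simp [hg']) (by simp)
        rw [this]
        exact J'.add_mem (hg _) ((hinr _).2 (Ideal.Quotient.eq.1 e))
    · rintro ⟨φ, hφ⟩
      have hx : ∀ x : DualNumber P, x ∈ J' ↔ ∃ h : fst x ∈ J, Ideal.Quotient.mk J (snd x) = φ ⟨fst x, h⟩ :=
        fun x => by
          conv_lhs => rw [← inl_fst_add_inr_snd_eq x]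
          exact hφ _ _
      constructor
      · refine le_antisymm (Ideal.map_le_iff_le_comap.2 fun x h => ?_) fun a ha => ?_
        · obtain ⟨h1, -⟩ := (hx x).1 h
          exact h1
        · obtain ⟨b, hb⟩ := Ideal.Quotient.mk_surjective (φ ⟨a, ha⟩)
          have := Ideal.mem_map_of_mem (fstHom P P P) ((hφ a b).2 ⟨ha, hb⟩)
          simpa using this
      · intro m hm
        obtain ⟨x, rfl⟩ := Ideal.Quotient.mk_surjective m
        rw [← map_mul, Ideal.Quotient.eq_zero_iff_mem] at hm
        have e : (DualNumber.eps * x : DualNumber P) = inl 0 + inr (fst x) := TrivSqZeroExt.ext (by simp) (by simp)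
        rw [e, hφ] at hm
        obtain ⟨h0, hm⟩ := hm
        rw [show (⟨0, h0⟩ : J) = 0 from rfl, map_zero, Ideal.Quotient.eq_zero_iff_mem] at hm
        obtain ⟨b, hb⟩ := Ideal.Quotient.mk_surjective (φ ⟨fst x, hm⟩)
        refine ⟨Ideal.Quotient.mk J' (inl (snd x - b)), ?_⟩
        rw [← map_mul, Ideal.Quotient.eq]
        have e2 : (x - DualNumber.eps * inl (snd x - b) : DualNumber P) = inl (fst x) + inr b :=
          TrivSqZeroExt.ext (by simp) (by simp)
        rw [e2, hφ]
        exact ⟨hm, hb⟩

end Groth.Agent.S11294
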