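import Groth.Statements.S11295
import Groth.Agent.Lib.HilbSm18.Dim
import Groth.Agent.Lib.FinAffine12.Proj
import Groth.Agent.Lib.ProjSpace.BaseChange
import Groth.Agent.Lib.ProjSpace.Basic
import Groth.Agent.Lib.RegSmooth17.Scheme
-- import your own Groth.Agent.* helpers here

set_option autoImplicit false
universe u
open CategoryTheory CategoryTheory.Limits AlgebraicGeometry
open HilbD

namespace Groth.Agent.S11295

/-- Let k be an algebraically closed field and Y a nonsingular connected projective surface over k: Y →
Spec k is a closed subscheme of some projective space over k, Y is connected of dimension 2 and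
every local ring of Y is a regular local ring. Let n ≥ 0 and let (H, Z) represent the Hilbert
functor of n points of Y over k, i.e. Z is a closed subscheme of Y ×_k H finite locally free of
degree n over H through which every such family over any k-scheme T is pulled back along a unique
k-morphism T → H. Then the scheme H (the Hilbert scheme Y^[n]) is connected, all of its local rings
are regular, and its dimension is 2n. -/
theorem result (k : Type u) [Field k] [IsAlgClosed k]
    (Y : Over (Spec (CommRingCat.of k))) (hproj : Neron.IsProjectiveOver k Y)
    [ConnectedSpace Y.left] (hreg : ∀ y : Y.left, IsRegularLocalRing (Y.left.presheaf.stalk y))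
    (hdim : topologicalKrullDim Y.left = 2) (n : ℕ)
    (H : Over (Spec (CommRingCat.of k))) (Z : HilbD.Obj Y.hom n H) (hH : HilbD.IsUniversal Y.hom n H Z) :
    ConnectedSpace H.left ∧ (∀ h : H.left, IsRegularLocalRing (H.left.presheaf.stalk h)) ∧
      topologicalKrullDim H.left = (2 * n : ℕ) := by
  obtain ⟨r, i, hi, hw⟩ := hproj
  haveI := hi
  haveI : IsProper Y.hom := hw ▸ inferInstance
  haveI : IsLocallyNoetherian Y.left := LocallyOfFiniteType.isLocallyNoetherian Y.hom
  haveI : LocallyOfFinitePresentation Y.hom := inferInstance
  haveI : Smooth Y.hom := Groth.Agent.RegSmooth17.smooth_of_regular_of_perfectField Y.hom hreg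
  obtain ⟨-, hd⟩ := Groth.Agent.HilbSm18.irreducible_and_dim Y.hom (d := 2) hdim
  obtain ⟨h1, h2, -, h4⟩ := Groth.Agent.HilbSm18.hilb_surface Y.hom (fun y hy => (hd y hy).trans (by norm_num))
    (Groth.Agent.FinAffine12.exists_affineOpen_of_finite_proj (CohB1.polyGrading r k)
      (i ≫ (Groth.Agent.ProjSpace.overSpecIso r k).inv))
    (Groth.Agent.HilbSm18.exists_closed_notMem Y.hom hdim) hH
  exact ⟨h1, h2, h4⟩


end Groth.Agent.S11295
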