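import Groth.Statements.S11298
import Groth.Agent.Lib.Depth.More
-- import your own Groth.Agent.* helpers here

set_option autoImplicit false
universe u v
open LocCoh

namespace Groth.Agent.S11298

/-- Let X = Spec B be an affine Noetherian scheme, Z = V(I) a closed subscheme and G a coherent sheaf,
i.e. a finitely generated B-module M, with dual G^v = Hom_B(M, B). If depth_Z(O_X) ≥ 2 then
depth_Z(G^v) ≥ 2. Here the depth along I of a module N is the supremum of the lengths of N-regular
sequences contained in I (and is infinite when I N = N). (The published statement adds that sections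
of the dual over X and over X minus Z agree; this row omits that clause.) -/
theorem result (B : Type u) [CommRing B] [IsNoetherianRing B]
    (I : Ideal B) (M : Type v) [AddCommGroup M] [Module B M] [Module.Finite B M]
    (h : 2 ≤ LocCoh.idealDepth I B) : 2 ≤ LocCoh.idealDepth I (M →ₗ[B] B) := by
  by_cases hI : I = ⊤
  · rw [Groth.Agent.DepthLib.idealDepth_of_smul_top_eq_top]
    · exact le_top
    · rw [hI, Submodule.top_smul]
  have hB : I • (⊤ : Submodule B B) ≠ ⊤ := by
    rwa [smul_eq_mul, Ideal.mul_top]
  obtain ⟨rs, hreg, hmem, hlen⟩ :=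
    Groth.Agent.DepthLib.exists_isWeaklyRegular_of_le_idealDepth hB (n := 2) (by exact_mod_cast h)
  obtain ⟨x, y, rfl⟩ := List.length_eq_two.1 hlen
  rw [RingTheory.Sequence.isWeaklyRegular_cons_iff, RingTheory.Sequence.isWeaklyRegular_singleton_iff] at hreg
  refine le_trans ?_ (Groth.Agent.DepthLib.length_le_idealDepth (rs := [x, y]) ?_ hmem)
  · simp
  have hx : IsSMulRegular (M →ₗ[B] B) x := fun f g hfg =>
    LinearMap.ext fun m => hreg.1 (LinearMap.congr_fun hfg m)
  rw [RingTheory.Sequence.isWeaklyRegular_cons_iff, RingTheory.Sequence.isWeaklyRegular_singleton_iff]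
  refine ⟨hx, IsSMulRegular.of_right_eq_zero_of_smul fun q hq => ?_⟩
  obtain ⟨f, rfl⟩ := Submodule.Quotient.mk_surjective _ q
  rw [← Submodule.Quotient.mk_smul, Submodule.Quotient.mk_eq_zero,
    Submodule.mem_smul_pointwise_iff_exists] at hq
  obtain ⟨g, -, hg⟩ := hq
  have hf : ∀ m, ∃ b : B, x • b = f m := by
    intro m
    have h0 : (Submodule.Quotient.mk (f m) : QuotSMulTop x B) = 0 := by
      refine hreg.2.right_eq_zero_of_smul ?_
      rw [← Submodule.Quotient.mk_smul, Submodule.Quotient.mk_eq_zero,
        Submodule.mem_smul_pointwise_iff_exists]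
      exact ⟨g m, trivial, LinearMap.congr_fun hg m⟩
    rw [Submodule.Quotient.mk_eq_zero, Submodule.mem_smul_pointwise_iff_exists] at h0
    obtain ⟨b, -, hb⟩ := h0
    exact ⟨b, hb⟩
  choose k hk using hf
  rw [Submodule.Quotient.mk_eq_zero, Submodule.mem_smul_pointwise_iff_exists]
  exact ⟨{ toFun := k
           map_add' := fun a b => hreg.1 (by simp only [smul_add, hk, map_add])
           map_smul' := fun c a => hreg.1 (by
            simp only [RingHom.id_apply, smul_comm x c, hk, map_smul]) }, trivial, LinearMap.ext hk⟩

end Groth.Agent.S11298
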