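import Groth.Statements.S11299
import Mathlib.Algebra.Module.Projective

set_option autoImplicit false
universe u
open CAlg

namespace Groth.Agent.S11299

variable {P : Type u} [CommRing P] (J : Ideal P) {F : Type u} [AddCommGroup F] [Module P F]
  {F' : Type u} [AddCommGroup F'] [Module P F']

/-- The Koszul relations of a presentation. -/
def kos (j : F →ₗ[P] P) : Submodule P F := Submodule.span P {y : F | ∃ u v : F, y = j u • v - j v • u}

/-- Homomorphisms on relations killing the Koszul relations. -/
def kerK (j : F →ₗ[P] P) : Submodule P (↥(LinearMap.ker j) →ₗ[P] (P ⧸ J)) :=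
  LinearMap.ker (LinearMap.lcomp P (P ⧸ J) (Submodule.comap (LinearMap.ker j).subtype (kos j)).subtype)

/-- Homomorphisms extending to the free module. -/
def ranK (j : F →ₗ[P] P) : Submodule P (↥(LinearMap.ker j) →ₗ[P] (P ⧸ J)) :=
  LinearMap.range (LinearMap.lcomp P (P ⧸ J) (LinearMap.ker j).subtype)

variable {j : F →ₗ[P] P} {j' : F' →ₗ[P] P}

theorem kos_le (α : F →ₗ[P] F') (hα : j'.comp α = j) : kos j ≤ (kos j').comap α := by
  refine Submodule.span_le.2 ?_
  rintro _ ⟨u, v, rfl⟩
  refine Submodule.subset_span ⟨α u, α v, ?_⟩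
  rw [map_sub, map_smul, map_smul, ← hα]
  rfl

/-- The map on relations. -/
def res (α : F →ₗ[P] F') (hα : j'.comp α = j) : ↥(LinearMap.ker j) →ₗ[P] ↥(LinearMap.ker j') :=
  α.restrict fun x hx => by
    rw [LinearMap.mem_ker] at hx ⊢
    rw [← hx, ← hα]
    rfl

theorem res_ker (α : F →ₗ[P] F') (hα : j'.comp α = j) {φ} (hφ : φ ∈ kerK J j') :
    LinearMap.lcomp P (P ⧸ J) (res α hα) φ ∈ kerK J j := by
  refine LinearMap.ext fun x => ?_
  show φ (res α hα x.1) = 0
  exact LinearMap.congr_fun hφ ⟨res α hα x.1, kos_le α hα x.2⟩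

theorem res_ran (α : F →ₗ[P] F') (hα : j'.comp α = j) :
    ranK J j' ≤ (ranK J j).comap (LinearMap.lcomp P (P ⧸ J) (res α hα)) := by
  rintro _ ⟨ψ, rfl⟩
  exact ⟨ψ.comp α, LinearMap.ext fun _ => rfl⟩

/-- The map on cotangent modules. -/
def T (α : F →ₗ[P] F') (hα : j'.comp α = j) :
    ↥(Submodule.map (ranK J j').mkQ (kerK J j')) →ₗ[P] ↥(Submodule.map (ranK J j).mkQ (kerK J j)) :=
  ((ranK J j').mapQ (ranK J j) (LinearMap.lcomp P (P ⧸ J) (res α hα)) (res_ran J α hα)).restrict fun x hx => by
    obtain ⟨φ, hφ, rfl⟩ := Submodule.mem_map.1 hx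
    exact Submodule.mem_map.2 ⟨_, res_ker J α hα hφ, rfl⟩

theorem T_T (α : F →ₗ[P] F') (hα : j'.comp α = j) (β : F' →ₗ[P] F) (hβ : j.comp β = j') (x) :
    T J α hα (T J β hβ x) = x := by
  obtain ⟨x, hx⟩ := x
  obtain ⟨φ, -, rfl⟩ := Submodule.mem_map.1 hx
  refine Subtype.ext ((Submodule.Quotient.eq _).2 ?_)
  let δ : F →ₗ[P] ↥(LinearMap.ker j) := (β.comp α - LinearMap.id).codRestrict _ fun f => by
    rw [LinearMap.mem_ker, LinearMap.sub_apply, map_sub, LinearMap.id_apply, sub_eq_zero, LinearMap.comp_apply]
    rw [← LinearMap.comp_apply j, hβ, ← LinearMap.comp_apply j', hα]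
  refine ⟨φ.comp δ, LinearMap.ext fun r => ?_⟩
  show φ (δ r.1) = φ (res β hβ (res α hα r)) - φ r
  rw [← map_sub]
  congr 1

/-- The second cotangent module does not depend on the presentation: let P be a commutative ring, J an
ideal and B = P/J. For a presentation of J, i.e. a finitely generated free P-module F with a
P-linear map j : F → P with image J, let R = ker j be the relation module and R^tr ⊆ R the span of
the trivial relations j(u) • v - j(v) • u; the module T^2 of the presentation is the quotient of
Hom_B(R/R^tr, B), realised as the P-linear maps R → P/J vanishing on R^tr, by the restrictions to R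
of the P-linear maps F → P/J (here: the image of that submodule in the quotient of Hom_P(R, P/J) by
the restrictions). Then for two presentations (F, j) and (F', j') of the same ideal J the two
modules T^2 are isomorphic as P-modules (existence of an isomorphism; the comparison maps depend on
expressing one system of generators through the other). (The published statement takes B essentially
of finite type over a field and P smooth; this row allows any commutative ring P and ideal J.) -/
theorem result (P : Type u) [CommRing P] (J : Ideal P)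
    (F : Type u) [AddCommGroup F] [Module P F] [Module.Free P F] [Module.Finite P F]
    (F' : Type u) [AddCommGroup F'] [Module P F'] [Module.Free P F'] [Module.Finite P F']
    (j : F →ₗ[P] P) (j' : F' →ₗ[P] P) (hj : LinearMap.range j = J) (hj' : LinearMap.range j' = J) :
    Nonempty (↥(Submodule.map
          (LinearMap.range (LinearMap.lcomp P (P ⧸ J) (LinearMap.ker j).subtype)).mkQ
          (LinearMap.ker (LinearMap.lcomp P (P ⧸ J)
            (Submodule.comap (LinearMap.ker j).subtype
              (Submodule.span P {y : F | ∃ u v : F, y = j u • v - j v • u})).subtype))) ≃ₗ[P]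
      ↥(Submodule.map
          (LinearMap.range (LinearMap.lcomp P (P ⧸ J) (LinearMap.ker j').subtype)).mkQ
          (LinearMap.ker (LinearMap.lcomp P (P ⧸ J)
            (Submodule.comap (LinearMap.ker j').subtype
              (Submodule.span P {y : F' | ∃ u v : F', y = j' u • v - j' v • u})).subtype)))) := by
  have lift : ∀ {G G' : Type u} [AddCommGroup G] [Module P G] [Module.Free P G] [AddCommGroup G'] [Module P G']
      (a : G →ₗ[P] P) (b : G' →ₗ[P] P), LinearMap.range a ≤ LinearMap.range b → ∃ α : G →ₗ[P] G', b.comp α = a := by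
    intro G G' _ _ _ _ _ a b hab
    obtain ⟨α, hα⟩ := Module.projective_lifting_property b.rangeRestrict
      (a.codRestrict (LinearMap.range b) fun g => hab ⟨g, rfl⟩) b.surjective_rangeRestrict
    exact ⟨α, LinearMap.ext fun g => congrArg Subtype.val (LinearMap.congr_fun hα g)⟩
  obtain ⟨α, hα⟩ := lift j j' (by rw [hj, hj'])
  obtain ⟨β, hβ⟩ := lift j' j (by rw [hj, hj'])
  exact ⟨LinearEquiv.ofLinear (T J β hβ) (T J α hα) (LinearMap.ext fun x => T_T J β hβ α hα x)
    (LinearMap.ext fun x => T_T J α hα β hβ x)⟩

end Groth.Agent.S11299
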