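import Groth.Statements.S11300
import Groth.Agent.Lib.HilbConn18.Main
import Groth.Agent.Lib.FinAffine12.Proj
import Groth.Agent.Lib.ProjSpace.BaseChange
import Groth.Agent.Lib.ProjSpace.Basic

set_option autoImplicit false
set_option linter.style.haveILetI false
set_option backward.isDefEq.respectTransparency.types false
universe u
open CategoryTheory CategoryTheory.Limits AlgebraicGeometry
open HilbD

namespace Groth.Agent.S11300

/-- Let k be an algebraically closed field and Y a connected projective scheme over k (a closed
subscheme of some projective space over k) of positive dimension. Let n ≥ 0 and let (H, Z) represent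
the Hilbert functor of n points of Y over k: Z is a closed subscheme of Y ×_k H finite locally free
of degree n over H, and every such family over a k-scheme T is the pullback of Z along a unique
k-morphism T → H. Then H (the Hilbert scheme Y^[n]) is connected, in particular non-empty. (The
published assertion does not exclude Y of dimension zero; for Y a single reduced point and n ≥ 2 the
Hilbert scheme of n points is empty, hence not connected. The published induction uses that the
universal ideal sheaf is supported on all of Y × Y^[n], which holds when Y has no isolated point,
and a connected scheme of finite type over k of positive dimension has none; this row therefore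
assumes Y of positive dimension.) -/
theorem result (k : Type u) [Field k] [IsAlgClosed k]
    (Y : Over (Spec (CommRingCat.of k))) (hproj : Neron.IsProjectiveOver k Y) [ConnectedSpace Y.left]
    (hY : 0 < topologicalKrullDim Y.left)
    (n : ℕ) (H : Over (Spec (CommRingCat.of k))) (Z : HilbD.Obj Y.hom n H)
    (hH : HilbD.IsUniversal Y.hom n H Z) : ConnectedSpace H.left := by
  obtain ⟨r, i, hi, hw⟩ := hproj
  haveI := hi
  haveI : IsProper Y.hom := hw ▸ inferInstance
  haveI : IsLocallyNoetherian Y.left := LocallyOfFiniteType.isLocallyNoetherian Y.hom
  haveI : CompactSpace Y.left := QuasiCompact.compactSpace_of_compactSpace Y.hom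
  haveI : IsNoetherian Y.left := {}
  haveI : JacobsonSpace Y.left := LocallyOfFiniteType.jacobsonSpace Y.hom
  have hsep : Y.left.IsSeparated := Scheme.IsSeparated.mk (by rw [← terminal.comp_from Y.hom]; infer_instance)
  refine Groth.Agent.HilbConn18.connected_hilb hsep (fun E hE => ?_) (fun E hE => ?_) n H Z hH
  · exact Groth.Agent.FinAffine12.exists_affineOpen_of_finite_proj (CohB1.polyGrading r k)
      (i ≫ (Groth.Agent.ProjSpace.overSpecIso r k).inv) E hE
  · by_contra hcon
    push Not at hcon
    have hfin : (closedPoints Y.left).Finite := hE.subset fun y hy => hcon y hy
    haveI := JacobsonSpace.discreteTopology hfin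
    exact (not_lt.2 (topologicalKrullDim_zero_of_discreteTopology Y.left)) hY

end Groth.Agent.S11300
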