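import Groth.Statements.S11301
import Groth.Agent.Lib.CMReg18.Linear
import Groth.Agent.Lib.CohFound.ProjQuot

set_option autoImplicit false
universe u
open CategoryTheory CategoryTheory.Limits AlgebraicGeometry
open Variety

open Groth.Agent Groth.Agent.CMReg18
namespace Groth.Agent.S11301

/-- m-regularity via linear resolutions: in one-step form: let k be an algebraically closed field and F
a coherent module on P^n_k. Then F is m-regular if and only if there are b ≥ 0 and an epimorphism
O(-m)^b → F (from the direct sum of b copies of O(-m)) whose kernel is (m+1)-regular. (The published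
statement is the equivalent characterisation by a resolution ... → O(-m-2)^{b_2} → O(-m-1)^{b_1} →
O(-m)^{b_0} → F → 0; it follows from this one-step form by induction, and conversely.) -/
theorem result (k : Type u) [Field k] [IsAlgClosed k] (n : ℕ)
    (F : (CohB1.ProjSpace n k).Modules) (hF : Coh.IsCoh F) (m : ℤ) :
    Curv2.IsMRegular k n F m ↔
      ∃ (b : ℕ) (φ : (∐ fun _ : Fin b => Twist.twistProjSpace n k (-m)) ⟶ F),
        Epi φ ∧ Curv2.IsMRegular k n (kernel φ) (m + 1) := by
  haveI := isProper_projSpace k (n := n)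
  haveI : IsNoetherian (CohB1.ProjSpace n k) :=
    CohFound.isNoetherian_of_isProper (CohB1.ProjSpace n k ↘ Spec (CommRingCat.of k))
  let D := projData k n
  have hP : ∀ b : ℕ, Coh.IsCoh (∐ fun _ : Fin b => Twist.twistProjSpace n k (-m)) := fun b =>
    CohFound.isCoh_of_iso (M2.freeModTensorIso _ b _) (CurveCoh17.isCoh_tensor
      (CurveCoh17.isCoh_of_ofRank (M2.isFinLocFreeOfRank_freeMod _ b)) (Snapper.isCoh_of_isInvertible (D.inv (-m))))
  have hK : ∀ {b : ℕ} (φ : (∐ fun _ : Fin b => Twist.twistProjSpace n k (-m)) ⟶ F),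
      Coh.IsQCoh (kernel φ) := fun φ => M1.isQCoh_kernel (hP _).1 hF.1 φ
  have hS : ∀ {b : ℕ} (φ : (∐ fun _ : Fin b => Twist.twistProjSpace n k (-m)) ⟶ F) [Epi φ],
      (ShortComplex.mk (kernel.ι φ) φ (kernel.condition φ)).ShortExact := fun φ _ =>
    { exact := ShortComplex.exact_kernel φ }
  rw [isMRegular_iff k hF.1]
  constructor
  · intro h
    obtain ⟨b, φ, hφ, hsurj⟩ := D.exists_presentation (k := k) hF m (isGloballyGenerated_of_isReg hF h)
    haveI := hφ
    refine ⟨b, φ, hφ, fun i hi _ => ?_⟩
    have hreg := projData_isReg_twist k n b m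
    obtain ⟨p, rfl⟩ : ∃ p, i = p + 1 := ⟨i - 1, by omega⟩
    have e : m + 1 - ((p + 1 : ℕ) : ℤ) = m - p := by push_cast; ring
    rw [e]
    rcases Nat.eq_zero_or_pos p with rfl | hp
    · rw [Nat.cast_zero, sub_zero]
      refine subsingleton_of_forall_eq 0 fun w => ?_
      obtain ⟨z, rfl⟩ := (CurveCoh17.exact_hdelta_hmap k (D.shortExact_tw (@hS _ φ hφ) m) 0 w).1
        ((hreg.van k le_rfl (by omega) : Subsingleton (Coh.HH _ (D.tw _ m) 1)).elim _ _)
      exact (CurveCoh17.exact_hmap_hdelta k (D.shortExact_tw (@hS _ φ hφ) m) 0 z).2 (hsurj z)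
    · exact van₁ k (D.shortExact_tw (@hS _ φ hφ) (m - p)) (h p hp) (hreg.van k (by omega) (by push_cast; omega))
  · rintro ⟨b, φ, hφ, hker⟩
    haveI := hφ
    rw [isMRegular_iff k (hK φ)] at hker
    intro i hi
    exact van₃ k (D.shortExact_tw (@hS _ φ hφ) (m - i)) (projData_isReg_twist k n b m i hi)
      (van_iso k (D.twIso _ (by push_cast; ring)) (hker (i + 1) (by omega)))

end Groth.Agent.S11301
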