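import Groth.Statements.S11302
import Groth.Agent.Lib.CotT3.Koszul

set_option autoImplicit false
universe u
open Deform

namespace Groth.Agent.S11302

open MvPolynomial in
/-- T^1 of a complete intersection; the hypersurface case P/(f, ∂f/∂X_1, ..., ∂f/∂X_d) is n = 1: let k
be an algebraically closed field, P = k[X_1, ..., X_d], f_1, ..., f_n a regular sequence in P (each
f_i a non-zero-divisor modulo the preceding ones), J the ideal they generate and B = P/J. The first
cotangent module T^1_B — the cokernel of Der_k(P, B) → Hom_P(J, B), a derivation being restricted to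
J — is isomorphic, as a P-module, to B^n modulo the B-submodule generated by the d columns
(∂f_1/∂X_j, ..., ∂f_n/∂X_j), j = 1, ..., d, of the Jacobian matrix reduced modulo J, through the map
sending the class of φ : J → B to the class of (φ(f_1), ..., φ(f_n)). (The published formula allows
P to be a localisation of the polynomial ring; this row takes the polynomial ring.) -/
theorem result (k : Type u) [Field k] [IsAlgClosed k] (d n : ℕ)
    (f : Fin n → MvPolynomial (Fin d) k) (hreg : RingTheory.Sequence.IsWeaklyRegular (MvPolynomial (Fin d) k) (List.ofFn f)) :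
    ∃ e : ((↥(Ideal.span (Set.range f)) →ₗ[MvPolynomial (Fin d) k] (MvPolynomial (Fin d) k ⧸ Ideal.span (Set.range f))) ⧸
            Submodule.span (MvPolynomial (Fin d) k)
              {ψ : ↥(Ideal.span (Set.range f)) →ₗ[MvPolynomial (Fin d) k] (MvPolynomial (Fin d) k ⧸ Ideal.span (Set.range f)) |
                ∃ D : Derivation k (MvPolynomial (Fin d) k) (MvPolynomial (Fin d) k ⧸ Ideal.span (Set.range f)), ∀ a : ↥(Ideal.span (Set.range f)), ψ a = D (a : MvPolynomial (Fin d) k)}) ≃ₗ[MvPolynomial (Fin d) k]
          ((Fin n → MvPolynomial (Fin d) k ⧸ Ideal.span (Set.range f)) ⧸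
            Submodule.span (MvPolynomial (Fin d) k ⧸ Ideal.span (Set.range f))
              (Set.range fun j : Fin d => fun i : Fin n => Ideal.Quotient.mk (Ideal.span (Set.range f)) (pderiv j (f i)))),
      ∀ φ : ↥(Ideal.span (Set.range f)) →ₗ[MvPolynomial (Fin d) k] (MvPolynomial (Fin d) k ⧸ Ideal.span (Set.range f)),
        e (Submodule.Quotient.mk φ) =
          Submodule.Quotient.mk (fun i : Fin n => φ ⟨f i, Ideal.subset_span (Set.mem_range_self i)⟩) := by
  classical
  set I := Ideal.span (Set.range f) with hI
  have hrel : ∀ r : Fin n → MvPolynomial (Fin d) k, CotT3.dotA f r = 0 → ∀ i, r i ∈ I := by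
    intro r hr i
    have h := CotT3.mem_trivA_of_regA f ((CotT3.regA_iff_isWeaklyRegular f).2 hreg) r hr
    refine Submodule.span_induction (p := fun y _ => y i ∈ I) ?_ (Ideal.zero_mem _) ?_ ?_ h
    · rintro y ⟨b, c, rfl⟩
      exact sub_mem (Ideal.mul_mem_right _ _ (CotT3.dotA_mem_span f b))
        (Ideal.mul_mem_right _ _ (CotT3.dotA_mem_span f c))
    · exact fun x y _ _ hx hy => add_mem hx hy
    · exact fun a x _ hx => Ideal.mul_mem_left _ a hx
  let ev : (↥I →ₗ[MvPolynomial (Fin d) k] (MvPolynomial (Fin d) k ⧸ I)) →ₗ[MvPolynomial (Fin d) k]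
      (Fin n → MvPolynomial (Fin d) k ⧸ I) :=
    { toFun := fun φ i => φ ⟨f i, Ideal.subset_span (Set.mem_range_self i)⟩
      map_add' := fun _ _ => rfl
      map_smul' := fun _ _ => rfl }
  let π : (Fin n → MvPolynomial (Fin d) k) →ₗ[MvPolynomial (Fin d) k] ↥I :=
    LinearMap.codRestrict I (CotT3.dotA f) (CotT3.dotA_mem_span f)
  have hπ : Function.Surjective π := fun a => by
    obtain ⟨c, hc⟩ := CotT3.exists_dotA f a.2
    exact ⟨c, Subtype.ext hc.symm⟩
  have hev : Function.Bijective ev := by
    constructor
    · intro φ ψ h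
      refine LinearMap.ext fun a => ?_
      obtain ⟨c, rfl⟩ := hπ a
      have e : π c = ∑ i, c i • (⟨f i, Ideal.subset_span (Set.mem_range_self i)⟩ : ↥I) := by
        refine Subtype.ext ?_
        rw [Submodule.coe_sum]
        rfl
      rw [e, map_sum, map_sum]
      exact Finset.sum_congr rfl fun i _ => by rw [map_smul, map_smul]; exact congrArg (c i • ·) (congrFun h i)
    · intro v
      let L : (Fin n → MvPolynomial (Fin d) k) →ₗ[MvPolynomial (Fin d) k] (MvPolynomial (Fin d) k ⧸ I) :=
        Fintype.linearCombination (MvPolynomial (Fin d) k) v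
      have hL : LinearMap.ker π ≤ LinearMap.ker L := fun c hc => by
        rw [LinearMap.mem_ker] at hc ⊢
        have h0 := hrel c (congrArg Subtype.val hc)
        rw [Fintype.linearCombination_apply]
        refine Finset.sum_eq_zero fun i _ => ?_
        obtain ⟨w, hw⟩ := Ideal.Quotient.mk_surjective (v i)
        rw [← hw]
        exact Ideal.Quotient.eq_zero_iff_mem.2 (Ideal.mul_mem_right w I (h0 i))
      refine ⟨(Submodule.liftQ (LinearMap.ker π) L hL).comp (LinearMap.quotKerEquivOfSurjective π hπ).symm.toLinearMap, ?_⟩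
      funext i
      have e : (⟨f i, Ideal.subset_span (Set.mem_range_self i)⟩ : ↥I) = π (Pi.single i 1) := by
        refine Subtype.ext ?_
        simp [π, CotT3.dotA, Fintype.linearCombination_apply_single]
      change Submodule.liftQ (LinearMap.ker π) L hL ((LinearMap.quotKerEquivOfSurjective π hπ).symm _) = v i
      rw [e, LinearMap.quotKerEquivOfSurjective_symm_apply, Submodule.liftQ_apply]
      simp [L, Fintype.linearCombination_apply_single]
  refine ⟨Submodule.Quotient.equiv _ _ (LinearEquiv.ofBijective ev hev) ?_ ≪≫ₗ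
      Submodule.Quotient.restrictScalarsEquiv (MvPolynomial (Fin d) k) _, fun φ => rfl⟩
  rw [Submodule.map_span, Submodule.restrictScalars_span _ _ Ideal.Quotient.mk_surjective]
  refine le_antisymm (Submodule.span_le.2 ?_) (Submodule.span_le.2 ?_)
  · rintro _ ⟨ψ, ⟨D, hD⟩, rfl⟩
    have e : (LinearEquiv.ofBijective ev hev) ψ =
        ∑ j : Fin d, (Function.surjInv Ideal.Quotient.mk_surjective (D (MvPolynomial.X j))) •
          fun i : Fin n => Ideal.Quotient.mk I (pderiv j (f i)) := by
      funext i
      change ψ ⟨f i, _⟩ = _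
      rw [hD, Finset.sum_apply]
      have hDe : D = ∑ j : Fin d, (Function.surjInv Ideal.Quotient.mk_surjective (D (MvPolynomial.X j))) •
          (Submodule.mkQ I).compDer (pderiv j) := by
        refine MvPolynomial.derivation_ext fun l => ?_
        have : (∑ j : Fin d, (Function.surjInv Ideal.Quotient.mk_surjective (D (MvPolynomial.X j))) •
            (Submodule.mkQ I).compDer (pderiv j)) (MvPolynomial.X l) =
            Ideal.Quotient.mk I (Function.surjInv Ideal.Quotient.mk_surjective (D (MvPolynomial.X l))) := by
          rw [← Derivation.coeFnAddMonoidHom_apply, map_sum, Finset.sum_apply, Finset.sum_eq_single l]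
          · change Function.surjInv Ideal.Quotient.mk_surjective (D (MvPolynomial.X l)) •
              Ideal.Quotient.mk I (pderiv l (MvPolynomial.X l)) = _
            rw [pderiv_X_self, map_one]
            exact ((Algebra.smul_def (A := MvPolynomial (Fin d) k ⧸ I) _ _)).trans (mul_one _)
          · intro j _ hj
            change Function.surjInv Ideal.Quotient.mk_surjective (D (MvPolynomial.X j)) •
              Ideal.Quotient.mk I (pderiv j (MvPolynomial.X l)) = _
            rw [pderiv_X_of_ne hj.symm, map_zero, smul_zero]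
          · simp
        rw [this, Function.surjInv_eq Ideal.Quotient.mk_surjective]
      conv_lhs => rw [hDe]
      rw [← Derivation.coeFnAddMonoidHom_apply, map_sum, Finset.sum_apply]
      rfl
    refine Set.mem_of_eq_of_mem e ?_
    exact Submodule.sum_mem _ fun j _ => Submodule.smul_mem _ _ (Submodule.subset_span ⟨j, rfl⟩)
  · rintro _ ⟨j, rfl⟩
    refine Submodule.subset_span ⟨(
      { toFun := fun a => Ideal.Quotient.mk I (pderiv j (a : MvPolynomial (Fin d) k))
        map_add' := fun a b => by simp
        map_smul' := fun c a => ?_ } : ↥I →ₗ[MvPolynomial (Fin d) k] (MvPolynomial (Fin d) k ⧸ I)), ?_, rfl⟩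
    · change Ideal.Quotient.mk I (pderiv j (c * (a : MvPolynomial (Fin d) k))) =
        c • Ideal.Quotient.mk I (pderiv j (a : MvPolynomial (Fin d) k))
      rw [Derivation.leibniz, smul_eq_mul, smul_eq_mul, map_add, Ideal.Quotient.eq_zero_iff_mem.2
        (Ideal.mul_mem_right _ I a.2), add_zero]
      rfl
    · exact ⟨(Submodule.mkQ I).compDer (pderiv j), fun a => rfl⟩

end Groth.Agent.S11302
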