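import Groth.Statements.S11304
import Groth.Agent.Lib.Quot18.Flag
import Groth.Agent.Lib.Chow13.ProjProd
import Groth.Agent.S3218
-- import your own Groth.Agent.* helpers here

set_option autoImplicit false
universe u
open CategoryTheory CategoryTheory.Limits AlgebraicGeometry
open FGA

namespace Groth.Agent.S11304

open Groth.Agent Scheme.Modules

set_option maxHeartbeats 1600000 in
theorem exists_pairs (S : Scheme.{u}) [IsNoetherian S] (n : ℕ) (X : Scheme.{u})
    (i : X ⟶ CohB1.ProjSpaceOver n S) [IsClosedImmersion i] :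
    ∃ (H : Over S) (W₁ W₂ : FGA.HilbSet (i ≫ CohB1.ProjSpaceOver.toBase n S) H),
      W₂.1 ≤ W₁.1 ∧ IsLocallyNoetherian H.left ∧
      (∀ (T : Over S) [IsLocallyNoetherian T.left] (Y₁ Y₂ : FGA.HilbSet (i ≫ CohB1.ProjSpaceOver.toBase n S) T),
          Y₂.1 ≤ Y₁.1 →
          ∃! g : T ⟶ H, FGA.hilbPull (i ≫ CohB1.ProjSpaceOver.toBase n S) g W₁.1 = Y₁.1 ∧
            FGA.hilbPull (i ≫ CohB1.ProjSpaceOver.toBase n S) g W₂.1 = Y₂.1) ∧
      ∃ (ι : Type u) (P : ι → Scheme.{u}) (e : (∐ P) ≅ H.left) (m : ι → ℕ)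
        (c : ∀ a, P a ⟶ CohB1.ProjSpaceOver (m a) S),
        ∀ a, IsClosedImmersion (c a) ∧
          c a ≫ CohB1.ProjSpaceOver.toBase (m a) S = Limits.Sigma.ι P a ≫ e.hom ≫ H.hom := by
  let f := i ≫ CohB1.ProjSpaceOver.toBase n S
  haveI : IsProper f := inferInstanceAs (IsProper (i ≫ CohB1.ProjSpaceOver.toBase n S))
  haveI : IsLocallyNoetherian X := LocallyOfFiniteType.isLocallyNoetherian f
  obtain ⟨H₀, Z, ⟨hH₀, huniv⟩, ι, P, e, m, c, hc⟩ := S3218.result S n X i
  let j : ∀ a, P a ⟶ H₀.left := fun a => Limits.Sigma.ι P a ≫ e.hom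
  haveI : ∀ a, IsOpenImmersion (j a) := fun a => inferInstanceAs (IsOpenImmersion (Limits.Sigma.ι P a ≫ e.hom))
  haveI : LocallyOfFiniteType H₀.hom := by
    refine (MorphismProperty.cancel_left_of_respectsIso @LocallyOfFiniteType e.hom H₀.hom).1 ?_
    refine IsZariskiLocalAtSource.of_openCover (P := @LocallyOfFiniteType) (sigmaOpenCover P) fun a => ?_
    haveI := (hc a).1
    show LocallyOfFiniteType (Limits.Sigma.ι P a ≫ e.hom ≫ H₀.hom)
    rw [← (hc a).2]
    infer_instance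
  let H₂ : Over S := Over.mk (pullback.fst H₀.hom H₀.hom ≫ H₀.hom)
  let p₁ : H₂ ⟶ H₀ := Over.homMk (pullback.fst H₀.hom H₀.hom) rfl
  let p₂ : H₂ ⟶ H₀ := Over.homMk (pullback.snd H₀.hom H₀.hom) pullback.condition.symm
  haveI hH₂ : IsLocallyNoetherian H₂.left :=
    LocallyOfFiniteType.isLocallyNoetherian (pullback.fst H₀.hom H₀.hom ≫ H₀.hom)
  obtain ⟨Y₁, hY₁⟩ := Quot18.exists_hilbPull f p₁ Z
  obtain ⟨Y₂, hY₂⟩ := Quot18.exists_hilbPull f p₂ Z
  obtain ⟨W, w, hw, hWu⟩ := Quot18.exists_closed_le i (M1.isCoh_structureModule X) H₂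
    ⟨Quot18.kOf f H₂ Y₁.1, (Quot18.kOf_mem_iff f H₂ Y₁.1).2 Y₁.2⟩
    ⟨Quot18.kOf f H₂ Y₂.1, (Quot18.kOf_mem_iff f H₂ Y₂.1).2 Y₂.2⟩
  haveI hWn : IsLocallyNoetherian W.left := LocallyOfFiniteType.isLocallyNoetherian w.left
  have key : ∀ (U : Over S) [IsLocallyNoetherian U.left] (g : U ⟶ H₂),
      FGA.hilbPull f g Y₂.1 ≤ FGA.hilbPull f g Y₁.1 ↔ ∃ h : U ⟶ W, h ≫ w = g := by
    intro U _ g
    haveI : IsProper (PicF.XTproj f U) :=
      MorphismProperty.of_isPullback (P := @IsProper) (IsPullback.of_hasPullback f U.hom) inferInstance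
    haveI : IsLocallyNoetherian (PicF.XT f U) := LocallyOfFiniteType.isLocallyNoetherian (PicF.XTproj f U)
    rw [← hWu U g, Quot18.quotPull_kOf, Quot18.quotPull_kOf, Quot18.kOf_le_iff]
  obtain ⟨W₁, hW₁⟩ := Quot18.exists_hilbPull f w Y₁
  obtain ⟨W₂, hW₂⟩ := Quot18.exists_hilbPull f w Y₂
  have hp : ∀ (U : Over S) (h : U ⟶ W),
      FGA.hilbPull f h W₁.1 = FGA.hilbPull f (h ≫ w ≫ p₁) Z.1 ∧
      FGA.hilbPull f h W₂.1 = FGA.hilbPull f (h ≫ w ≫ p₂) Z.1 := by
    intro U h
    have hcomp : ∀ {A B C : Over S} (a : A ⟶ B) (b : B ⟶ C) (I : (PicF.XT f C).IdealSheafData),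
        FGA.hilbPull f (a ≫ b) I = FGA.hilbPull f a (FGA.hilbPull f b I) := fun a b I =>
      HilbBC25.pull_comp f a b I
    rw [hcomp, hcomp, hcomp, hcomp, hY₁, hW₁, hY₂, hW₂]
    exact ⟨rfl, rfl⟩
  refine ⟨W, W₁, W₂, ?_, hWn, fun T _ A₁ A₂ hle => ?_, ?_⟩
  · rw [← hW₁, ← hW₂]
    exact (key W w).2 ⟨𝟙 W, Category.id_comp w⟩
  · obtain ⟨g₁, hg₁, hu₁⟩ := huniv T A₁
    obtain ⟨g₂, hg₂, hu₂⟩ := huniv T A₂
    let g : T ⟶ H₂ := Over.homMk (pullback.lift g₁.left g₂.left (by rw [Over.w, Over.w]))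
      (by show pullback.lift _ _ _ ≫ pullback.fst _ _ ≫ H₀.hom = T.hom; rw [pullback.lift_fst_assoc, Over.w])
    have e₁ : g ≫ p₁ = g₁ := Over.OverMorphism.ext (pullback.lift_fst _ _ _)
    have e₂ : g ≫ p₂ = g₂ := Over.OverMorphism.ext (pullback.lift_snd _ _ _)
    have hcomp : ∀ (q : H₂ ⟶ H₀), FGA.hilbPull f (g ≫ q) Z.1 = FGA.hilbPull f g (FGA.hilbPull f q Z.1) :=
      fun q => HilbBC25.pull_comp f g q Z.1
    obtain ⟨h, hh⟩ := (key T g).1 (by
      rw [← hY₁, ← hY₂, ← hcomp, ← hcomp, e₁, e₂, hg₁, hg₂]; exact hle)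
    refine ⟨h, ⟨?_, ?_⟩, fun h' hh' => ?_⟩
    · rw [(hp T h).1, ← Category.assoc, hh, e₁, hg₁]
    · rw [(hp T h).2, ← Category.assoc, hh, e₂, hg₂]
    · have a₁ := hu₁ (h' ≫ w ≫ p₁) ((hp T h').1.symm.trans hh'.1)
      have a₂ := hu₂ (h' ≫ w ≫ p₂) ((hp T h').2.symm.trans hh'.2)
      have hmono : Mono w := Over.mono_of_mono_left w
      rw [← cancel_mono w, hh]
      apply Over.OverMorphism.ext
      apply pullback.hom_ext
      · exact (Category.assoc _ _ _).trans ((congrArg CommaMorphism.left a₁).trans (pullback.lift_fst _ _ _).symm)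
      · exact (Category.assoc _ _ _).trans ((congrArg CommaMorphism.left a₂).trans (pullback.lift_snd _ _ _).symm)
  · let Pp : ι × ι → Scheme.{u} := fun q => pullback (j q.1 ≫ H₀.hom) (j q.2 ≫ H₀.hom)
    let J : ∀ q : ι × ι, Pp q ⟶ H₂.left := fun q =>
      pullback.map (j q.1 ≫ H₀.hom) (j q.2 ≫ H₀.hom) H₀.hom H₀.hom (j q.1) (j q.2) (𝟙 S) (Category.comp_id _)
        (Category.comp_id _)
    haveI : ∀ q, IsOpenImmersion (J q) := fun q => Scheme.pullback_map_isOpenImmersion ..
    let R : ι × ι → Scheme.{u} := fun q => pullback w.left (J q)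
    have hrange : ∀ q, Set.range (pullback.fst w.left (J q)) =
        w.left ⁻¹' (pullback.fst H₀.hom H₀.hom ⁻¹' Set.range (j q.1) ∩
          pullback.snd H₀.hom H₀.hom ⁻¹' Set.range (j q.2)) := fun q => by
      rw [Scheme.Pullback.range_fst, Scheme.Pullback.range_map]
    have hj : ∀ {a b : ι} {x : H₀.left}, x ∈ Set.range (j a) → x ∈ Set.range (j b) → a = b := by
      rintro a b x ⟨y, rfl⟩ ⟨z, hz⟩
      have hinj : Function.Injective e.hom := e.hom.isOpenEmbedding.injective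
      simp only [j, Scheme.Hom.comp_apply] at hz
      exact ((sigmaι_eq_iff P b a z y).1 (hinj hz) |> Sigma.mk.inj_iff.1).1.symm
    have hjcov : ∀ x : H₀.left, ∃ a, x ∈ Set.range (j a) := fun x => by
      obtain ⟨a, y, hy⟩ := (sigmaOpenCover P).exists_eq (e.inv x)
      exact ⟨a, y, by
        show e.hom (Limits.Sigma.ι P a y) = x
        rw [show Limits.Sigma.ι P a y = e.inv x from hy, ← Scheme.Hom.comp_apply, Iso.inv_hom_id]
        rfl⟩
    obtain ⟨hcl⟩ := nonempty_isColimit_cofanMk_of (fun q => pullback.fst w.left (J q)) (by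
        rw [eq_top_iff]
        intro x _
        obtain ⟨a, ha⟩ := hjcov (pullback.fst H₀.hom H₀.hom (w.left x))
        obtain ⟨b, hb⟩ := hjcov (pullback.snd H₀.hom H₀.hom (w.left x))
        refine TopologicalSpace.Opens.mem_iSup.2 ⟨(a, b), ?_⟩
        show x ∈ Set.range (pullback.fst w.left (J (a, b)))
        rw [hrange]
        exact ⟨ha, hb⟩) (fun q q' hqq => by
        rw [Function.onFun_apply, disjoint_iff, eq_bot_iff]
        rintro x ⟨hx, hx'⟩
        change x ∈ Set.range (pullback.fst w.left (J q)) at hx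
        change x ∈ Set.range (pullback.fst w.left (J q')) at hx'
        rw [hrange] at hx hx'
        exact absurd (Prod.ext (hj hx.1 hx'.1) (hj hx.2 hx'.2)) hqq)
    choose N φ hφ hφb using fun q : ι × ι => Chow13.exists_segreOver S (m q.1) (m q.2)
    have hcb : ∀ a, j a ≫ H₀.hom = c a ≫ CohB1.ProjSpaceOver.toBase (m a) S := fun a =>
      (Category.assoc _ _ _).trans (hc a).2.symm
    let σ : ∀ q : ι × ι, Pp q ⟶ pullback (CohB1.ProjSpaceOver.toBase (m q.1) S) (CohB1.ProjSpaceOver.toBase (m q.2) S) :=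
      fun q => pullback.map _ _ _ _ (c q.1) (c q.2) (𝟙 S) ((Category.comp_id _).trans (hcb q.1))
        ((Category.comp_id _).trans (hcb q.2))
    have hσ : ∀ q, IsClosedImmersion (σ q) := fun q =>
      MorphismProperty.pullbackMap (P := @IsClosedImmersion) (hc q.1).1 (hc q.2).1 (hcb q.1) (hcb q.2)
    refine ⟨ι × ι, R, hcl.coconePointUniqueUpToIso (coproductIsCoproduct R) |>.symm, N,
      fun q => pullback.snd w.left (J q) ≫ σ q ≫ φ q, fun q => ⟨?_, ?_⟩⟩
    · haveI := hw
      haveI := hσ q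
      haveI := hφ q
      haveI : IsClosedImmersion (pullback.snd w.left (J q)) := MorphismProperty.pullback_snd _ _ hw
      infer_instance
    · have hι : Limits.Sigma.ι R q ≫ (hcl.coconePointUniqueUpToIso (coproductIsCoproduct R)).inv =
          pullback.fst w.left (J q) :=
        hcl.comp_coconePointUniqueUpToIso_inv (coproductIsCoproduct R) ⟨q⟩
      simp only [Category.assoc, hφb]
      rw [Iso.symm_hom, reassoc_of% hι, ← Over.w w, pullback.condition_assoc]
      congr 1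
      simp only [σ, J, H₂, pullback.lift_fst_assoc, Over.mk_hom, Category.assoc, hcb]


/-- Flag Hilbert schemes: the case of flags of length two: let k be an algebraically closed field and r
≥ 1. The functor sending a k-scheme T to the set of pairs X_1 ⊆ X_2 of closed subschemes of P^r_T,
each flat and proper over T, is representable by a k-scheme which is a disjoint union of projective
k-schemes, with a universal nested pair. Stated here on locally Noetherian test schemes and with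
closed subschemes given by their quasi-coherent ideal sheaves (X_1 ⊆ X_2 meaning I_{X_2} ≤ I_{X_1}):
there are a locally Noetherian k-scheme H, a nested pair (W_1, W_2) over H through which every
nested pair over a locally Noetherian k-scheme T is pulled back along a unique k-morphism T → H, and
a decomposition of H into pieces each admitting a closed immersion over k into some projective
space. (The published statement treats flags of any length, each piece indexed by a tuple of Hilbert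
polynomials; this row states length two and does not record the indexing.) -/
theorem result (k : Type u) [Field k] [IsAlgClosed k] (r : ℕ) (hr : 1 ≤ r) :
    ∃ (H : Over (Spec (CommRingCat.of k))) (W₁ W₂ : FGA.HilbSet (CohB1.ProjSpaceOver.toBase r (Spec (CommRingCat.of k))) H),
      W₂.1 ≤ W₁.1 ∧ IsLocallyNoetherian H.left ∧
      (∀ (T : Over (Spec (CommRingCat.of k))) [IsLocallyNoetherian T.left] (Y₁ Y₂ : FGA.HilbSet (CohB1.ProjSpaceOver.toBase r (Spec (CommRingCat.of k))) T),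
          Y₂.1 ≤ Y₁.1 →
          ∃! g : T ⟶ H, FGA.hilbPull (CohB1.ProjSpaceOver.toBase r (Spec (CommRingCat.of k))) g W₁.1 = Y₁.1 ∧ FGA.hilbPull (CohB1.ProjSpaceOver.toBase r (Spec (CommRingCat.of k))) g W₂.1 = Y₂.1) ∧
      ∃ (ι : Type u) (P : ι → Scheme.{u}) (e : (∐ P) ≅ H.left) (m : ι → ℕ)
        (c : ∀ a, P a ⟶ CohB1.ProjSpaceOver (m a) (Spec (CommRingCat.of k))),
        ∀ a, IsClosedImmersion (c a) ∧
          c a ≫ CohB1.ProjSpaceOver.toBase (m a) (Spec (CommRingCat.of k)) = Limits.Sigma.ι P a ≫ e.hom ≫ H.hom := by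
  have h := exists_pairs (Spec (CommRingCat.of k)) r _ (𝟙 (CohB1.ProjSpaceOver r (Spec (CommRingCat.of k))))
  rw [Category.id_comp] at h
  exact h

end Groth.Agent.S11304
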