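import Groth.Statements.S11306
import Mathlib.RingTheory.Etale.Basic
import Mathlib.RingTheory.AdicCompletion.Basic
import Mathlib.RingTheory.Ideal.AssociatedPrime.Basic
import Mathlib.RingTheory.Ideal.Operations
import Mathlib.RingTheory.Support
import Mathlib.RingTheory.Spectrum.Prime.Basic
import Mathlib.RingTheory.Filtration
import Mathlib.RingTheory.Flat.Basic
import Mathlib.RingTheory.LocalRing.Module
import Mathlib.RingTheory.Localization.FractionRing
import Mathlib.LinearAlgebra.FiniteDimensional.Basic
import Groth.Agent.Lib.H2Alg.ArtinFlat

set_option autoImplicit false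
universe u
open TensorProduct
open CAlg

namespace Groth.Agent.S11306
open TensorProduct

/-- Take a Noetherian local domain A, with residue field k and fraction field K, and let M be a finitely
generated A-module. If k ⊗_A M and K ⊗_A M have the same dimension r (over k and over K
respectively), then M is a free A-module of rank r. -/
theorem result (A : Type u) [CommRing A] [IsDomain A]
    [IsNoetherianRing A] [IsLocalRing A] (M : Type u) [AddCommGroup M] [Module A M] [Module.Finite A M] (r : ℕ)
    (hk : Module.finrank (IsLocalRing.ResidueField A) (IsLocalRing.ResidueField A ⊗[A] M) = r)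
    (hK : Module.finrank (FractionRing A) (FractionRing A ⊗[A] M) = r) :
    Module.Free A M ∧ Module.finrank A M = r := by
  let b := Module.finBasisOfFinrankEq _ _ hk
  choose m hm using fun i => TensorProduct.mk_surjective A M (IsLocalRing.ResidueField A) Ideal.Quotient.mk_surjective (b i)
  have hspan : Submodule.span A (Set.range m) = ⊤ := IsLocalRing.span_eq_top_of_tmul_eq_basis _ b hm
  let φ : (Fin r → A) →ₗ[A] M := Fintype.linearCombination A m
  have hφ : Function.Surjective φ := by
    rw [← LinearMap.range_eq_top, Fintype.range_linearCombination]; exact hspan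
  let K := FractionRing A
  have hinj : Function.Injective φ := by
    have hs : Function.Surjective (φ.baseChange K) := LinearMap.baseChange_surjective _ hφ
    have hd : Module.finrank K (K ⊗[A] (Fin r → A)) = Module.finrank K (K ⊗[A] M) := by
      rw [hK, Module.finrank_baseChange, Module.finrank_pi, Fintype.card_fin]
    have hi := (LinearMap.injective_iff_surjective_of_finrank_eq_finrank hd).2 hs
    rw [injective_iff_map_eq_zero]
    intro x hx
    have h1 : ((1 : K) ⊗ₜ[A] x) = 0 := hi (by rw [LinearMap.baseChange_tmul, hx, map_zero, tmul_zero])
    funext i
    have h2 := congrArg (fun z => TensorProduct.piScalarRight A K K (Fin r) z i) h1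
    simp only [TensorProduct.piScalarRight_apply, TensorProduct.piScalarRightHom_tmul, map_zero, Pi.zero_apply] at h2
    exact IsFractionRing.injective A K (by simpa [Algebra.smul_def] using h2)
  let e := LinearEquiv.ofBijective φ ⟨hinj, hφ⟩
  exact ⟨Module.Free.of_equiv e, by rw [← e.finrank_eq, Module.finrank_pi, Fintype.card_fin]⟩

end Groth.Agent.S11306
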