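import Groth.Statements.S11308
import Groth.Agent.Lib.BlowUpReg6.Main

set_option autoImplicit false
universe u
open CategoryTheory CategoryTheory.Limits AlgebraicGeometry
open NonsingVar

namespace Groth.Agent.S11308

/-- Let k be an algebraically closed field, X a nonsingular variety over k (an integral scheme,
separated and of finite type over k, all of whose local rings are regular), Y a nonsingular closed
subvariety of X (an integral closed subscheme all of whose local rings are regular) with ideal sheaf
I, and π : X~ → X a blowing-up of X with respect to I, characterised by its universal property. Then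
X~ is nonsingular: all of its local rings are regular. -/
theorem result (k : Type u) [Field k] [IsAlgClosed k]
    (X : Scheme.{u}) [X.Over (Spec (CommRingCat.of k))] [IsIntegral X] [IsSeparated (X ↘ (Spec (CommRingCat.of k)))]
    [LocallyOfFiniteType (X ↘ (Spec (CommRingCat.of k)))] [QuasiCompact (X ↘ (Spec (CommRingCat.of k)))]
    (hreg : ∀ x : ↥X, IsRegularLocalRing ↑(X.presheaf.stalk x))
    (Y : Scheme.{u}) (i : Y ⟶ X) [IsClosedImmersion i] [IsIntegral Y]
    (hregY : ∀ y : ↥Y, IsRegularLocalRing ↑(Y.presheaf.stalk y))
    (Xt : Scheme.{u}) (π : Xt ⟶ X) (hπ : BlowUp.IsBlowUp π i.ker) :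
    ∀ z : ↥Xt, IsRegularLocalRing ↑(Xt.presheaf.stalk z) := by
  haveI : IsLocallyNoetherian X := LocallyOfFiniteType.isLocallyNoetherian (X ↘ Spec (CommRingCat.of k))
  exact Groth.Agent.BlowUpReg6.isRegularLocalRing_stalk i hreg hregY π hπ

end Groth.Agent.S11308
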