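import Groth.Statements.S11311
import Mathlib
import Groth.Agent.Lib.RegSmooth17.Basic

set_option autoImplicit false
universe u
open CAlg

namespace Groth.Agent.S11311
open IsLocalRing KaehlerDifferential

/-- Let k be a field and B a local ring containing k whose residue field is k (the composite k → B → B/m
is bijective), and which is a localization of a finitely generated k-algebra (essentially of finite
type over k); let d = dim B. If the module of differentials Ω_{B/k} is free of rank d then B is a
regular local ring. Conversely, if k is perfect and B is a regular local ring, then Ω_{B/k} is free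
of rank d. (The published statement assumes k perfect as one of its hypotheses and asserts the
equivalence; its proof of the first implication does not use perfectness, so that hypothesis is
placed on the converse only.) -/
theorem result (k B : Type u) [Field k] [CommRing B] [Algebra k B]
    [IsLocalRing B] [Algebra.EssFiniteType k B]
    (hres : Function.Bijective (algebraMap k (IsLocalRing.ResidueField B)))
    (d : ℕ) (hd : ringKrullDim B = (d : WithBot ℕ∞)) :
    ((Module.Free B (KaehlerDifferential k B) ∧ Module.finrank B (KaehlerDifferential k B) = d) →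
        IsRegularLocalRing B) ∧
      (PerfectField k → IsRegularLocalRing B →
        Module.Free B (KaehlerDifferential k B) ∧ Module.finrank B (KaehlerDifferential k B) = d) := by
  classical
  haveI : IsNoetherianRing B := Algebra.EssFiniteType.isNoetherianRing k B
  let e : k ≃+* ResidueField B := RingEquiv.ofBijective _ hres
  let c : B → k := fun b => e.symm (residue B b)
  have hc : ∀ b, b - algebraMap k B (c b) ∈ maximalIdeal B := by
    intro b
    rw [← residue_eq_zero_iff, map_sub, sub_eq_zero]
    exact (e.apply_symm_apply (residue B b)).symm
  have hcm : ∀ b ∈ maximalIdeal B, c b = 0 := by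
    intro b hb; simp [c, (residue_eq_zero_iff b).mpr hb]
  have hc1 : ∀ r : k, c (algebraMap k B r) = r := fun r => e.symm_apply_apply r
  let δ : B →ₗ[k] CotangentSpace B :=
    { toFun := fun b => (maximalIdeal B).toCotangent ⟨b - algebraMap k B (c b), hc b⟩
      map_add' := fun a b => by
        rw [← map_add]
        congr 1
        ext1
        simp [c]
        ring
      map_smul' := fun r b => by
        have : c (r • b) = r * c b := by
          simp only [c, Algebra.smul_def, map_mul]
          rw [show e.symm (residue B (algebraMap k B r)) = r from hc1 r]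
        rw [RingHom.id_apply, ← IsScalarTower.algebraMap_smul B r ((maximalIdeal B).toCotangent _), ← map_smul]
        congr 1
        ext1
        simp only [Submodule.coe_smul_of_tower, SetLike.val_smul, smul_eq_mul, this, map_mul]
        rw [Algebra.smul_def]
        ring }
  have hmsmul : ∀ (a : B) (z : CotangentSpace B), a ∈ maximalIdeal B → a • z = 0 := fun a z ha =>
    Ideal.Cotangent.smul_eq_zero_of_mem ha z
  let Dm : Derivation k B (CotangentSpace B) := Derivation.mk' δ (fun a b => by
    show (maximalIdeal B).toCotangent _ = a • (maximalIdeal B).toCotangent _ + b • (maximalIdeal B).toCotangent _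
    rw [← map_smul, ← map_smul, ← map_add, Ideal.toCotangent_eq]
    simp only [Submodule.coe_add, SetLike.val_smul, smul_eq_mul]
    have hcc : c (a * b) = c a * c b := by simp [c]
    rw [hcc, map_mul]
    have := Ideal.mul_mem_mul (hc a) (hc b)
    rw [← sq] at this
    convert neg_mem this using 1
    ring)
  let Φ := Dm.liftKaehlerDifferential
  have hΦD : ∀ x : maximalIdeal B, Φ (D k B x.1) = (maximalIdeal B).toCotangent x := by
    intro x
    rw [Derivation.liftKaehlerDifferential_comp_D]
    show (maximalIdeal B).toCotangent _ = _
    congr 1
    ext1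
    simp [hcm x.1 x.2]
  have hΦs : Function.Surjective Φ := fun z => by
    obtain ⟨x, rfl⟩ := Ideal.toCotangent_surjective _ z
    exact ⟨_, hΦD x⟩
  have hspan : ∀ {ι : Type u} [Fintype ι] (b : Module.Basis ι B Ω[B⁄k]),
      Submodule.span (ResidueField B) (Set.range fun i => Φ (b i)) = ⊤ := by
    intro ι _ b
    refine top_le_iff.mp fun z _ => ?_
    obtain ⟨ω, rfl⟩ := hΦs z
    rw [← b.sum_repr ω, map_sum]
    refine Submodule.sum_mem _ fun i _ => ?_
    rw [map_smul, ← IsScalarTower.algebraMap_smul (ResidueField B) (b.repr ω i) (Φ (b i))]
    exact Submodule.smul_mem _ _ (Submodule.subset_span ⟨i, rfl⟩)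
  refine ⟨fun ⟨hfree, hrk⟩ => ?_, fun _ hreg => ?_⟩
  · rw [IsRegularLocalRing.iff_finrank_cotangentSpace, hd]
    have h1 : Module.finrank (ResidueField B) (CotangentSpace B) ≤ d := by
      let b := Module.Free.chooseBasis B Ω[B⁄k]
      rw [← finrank_top, ← hspan b]
      refine le_trans (finrank_range_le_card _) ?_
      rw [← Module.finrank_eq_card_basis b, hrk]
    have h2 := ringKrullDim_le_spanFinrank_maximalIdeal B
    rw [spanFinrank_maximalIdeal_eq_finrank_cotangentSpace, hd] at h2
    have h2' : d ≤ Module.finrank (ResidueField B) (CotangentSpace B) := by exact_mod_cast h2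
    exact_mod_cast le_antisymm h1 h2'
  · let B0 := Algebra.EssFiniteType.subalgebra k B
    let M := Algebra.EssFiniteType.submonoid k B
    let q : Ideal B0 := (maximalIdeal B).comap (algebraMap B0 B)
    haveI hq : q.IsPrime := Ideal.IsPrime.comap _
    haveI hloc : IsLocalization.AtPrime B q := by
      have hM : q.primeCompl = Algebra.EssFiniteType.submonoid k B := by
        ext x
        show ¬ (algebraMap B0 B x ∈ maximalIdeal B) ↔ IsUnit (algebraMap B0 B x)
        rw [mem_maximalIdeal, mem_nonunits_iff, not_not]
      show IsLocalization q.primeCompl B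
      rw [hM]; infer_instance
    let eB : Localization.AtPrime q ≃ₐ[B0] B := IsLocalization.algEquiv q.primeCompl _ _
    haveI : IsRegularLocalRing (Localization.AtPrime q) := IsRegularLocalRing.of_ringEquiv eB.symm.toRingEquiv
    haveI : Algebra.FormallySmooth k q.ResidueField := by
      have eR : k ≃ₐ[k] q.ResidueField := AlgEquiv.ofBijective (Algebra.ofId k _) (by
        let er : q.ResidueField ≃+* ResidueField B := ResidueField.mapEquiv eB.toRingEquiv
        have h : (algebraMap k (ResidueField B)) = er.toRingHom.comp (algebraMap k q.ResidueField) := by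
          ext r
          show residue B (algebraMap k B r) = er (residue (Localization.AtPrime q) (algebraMap k (Localization.AtPrime q) r))
          rw [show er (residue _ (algebraMap k (Localization.AtPrime q) r)) = residue B (eB (algebraMap k (Localization.AtPrime q) r)) from rfl]
          congr 1
          show _ = eB (algebraMap k (Localization.AtPrime q) r)
          rw [IsScalarTower.algebraMap_apply k B0 (Localization.AtPrime q), AlgEquiv.commutes]
          rfl
        have hb := hres
        rw [h] at hb
        exact ⟨fun x y hxy => hb.1 (by simp only [RingHom.comp_apply]; exact congrArg er hxy),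
          fun y => let ⟨x, hx⟩ := hb.2 (er y); ⟨x, er.injective hx⟩⟩)
      exact .of_equiv eR
    have hsm := Groth.Agent.RegSmooth17.isSmoothAt_of_isRegularLocalRing k B0 q
    haveI : Algebra.FormallySmooth k B := Algebra.FormallySmooth.of_equiv (A := Localization.AtPrime q) (eB.restrictScalars k)
    haveI : Module.Free B Ω[B⁄k] := Module.free_of_flat_of_isLocalRing
    refine ⟨‹_›, ?_⟩
    let b := Module.Free.chooseBasis B Ω[B⁄k]
    have key : ∀ ω : Ω[B⁄k], ∃ x : maximalIdeal B, Φ ω = (maximalIdeal B).toCotangent x ∧
        ω - D k B x.1 ∈ (maximalIdeal B) • (⊤ : Submodule B Ω[B⁄k]) := by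
      intro ω
      have hω : ω ∈ Submodule.span B (Set.range (D k B)) := by rw [span_range_derivation]; exact Submodule.mem_top
      induction hω using Submodule.span_induction with
      | mem z hz =>
        obtain ⟨a, rfl⟩ := hz
        refine ⟨⟨_, hc a⟩, Derivation.liftKaehlerDifferential_comp_D Dm a, ?_⟩
        show D k B a - D k B (a - algebraMap k B (c a)) ∈ _
        rw [map_sub, Derivation.map_algebraMap, sub_zero, sub_self]
        exact zero_mem _
      | zero => exact ⟨0, by simp, by simp⟩
      | add s t _ _ hs ht =>
        obtain ⟨x, h1, h2⟩ := hs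
        obtain ⟨y, h3, h4⟩ := ht
        refine ⟨x + y, by rw [map_add, map_add, h1, h3], ?_⟩
        convert add_mem h2 h4 using 1
        rw [Submodule.coe_add, map_add]; abel
      | smul a s _ hs =>
        obtain ⟨x, h1, h2⟩ := hs
        refine ⟨a • x, by rw [map_smul, map_smul, h1], ?_⟩
        rw [SetLike.val_smul, smul_eq_mul, Derivation.leibniz, ← sub_sub, ← smul_sub]
        exact sub_mem (Submodule.smul_mem _ _ h2) (Submodule.smul_mem_smul x.2 Submodule.mem_top)
    have hker : ∀ ω, Φ ω = 0 → ω ∈ (maximalIdeal B) • (⊤ : Submodule B Ω[B⁄k]) := by
      intro ω h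
      obtain ⟨x, h1, h2⟩ := key ω
      rw [h, eq_comm, Ideal.toCotangent_eq_zero, pow_two] at h1
      have hx : D k B x.1 ∈ (maximalIdeal B) • (⊤ : Submodule B Ω[B⁄k]) := by
        refine Submodule.mul_induction_on h1 (fun s hs t ht => ?_) (fun s t hs ht => ?_)
        · rw [Derivation.leibniz]
          exact add_mem (Submodule.smul_mem_smul hs Submodule.mem_top) (Submodule.smul_mem_smul ht Submodule.mem_top)
        · rw [map_add]; exact add_mem hs ht
      simpa using add_mem h2 hx
    have hli : LinearIndependent (ResidueField B) (fun i => Φ (b i)) := by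
      rw [Fintype.linearIndependent_iff]
      intro g hg i
      choose g' hg' using fun i => residue_surjective (g i)
      have h0 : Φ (∑ i, g' i • b i) = 0 := by
        rw [← hg, map_sum]
        refine Finset.sum_congr rfl fun i _ => ?_
        rw [map_smul, ← hg' i]
        rfl
      have : g' i ∈ maximalIdeal B := by
        have hmem : ∀ ω ∈ (maximalIdeal B) • (⊤ : Submodule B Ω[B⁄k]), b.repr ω i ∈ maximalIdeal B := by
          intro ω hω
          refine Submodule.smul_induction_on hω (fun r hr z _ => ?_) (fun s t hs ht => ?_)
          · rw [map_smul, Finsupp.smul_apply, smul_eq_mul]; exact Ideal.mul_mem_right _ _ hr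
          · rw [map_add, Finsupp.add_apply]; exact add_mem hs ht
        have h9 := hmem _ (hker _ h0)
        rwa [Module.Basis.repr_sum_self] at h9
      rw [← hg' i, residue_eq_zero_iff]; exact this
    have hfr := Module.finrank_eq_card_basis (Module.Basis.mk hli (hspan b).ge)
    rw [Module.finrank_eq_card_basis b, ← hfr]
    have := (IsRegularLocalRing.iff_finrank_cotangentSpace B).mp hreg
    rw [hd] at this
    exact_mod_cast this

end Groth.Agent.S11311
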