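import Groth.Statements.S11314
import Groth.Agent.Lib.ProjDual12.Top
-- import your own Groth.Agent.* helpers here

set_option autoImplicit false
set_option backward.isDefEq.respectTransparency false
universe u
open CategoryTheory AlgebraicGeometry
open ProjDual

namespace Groth.Agent.S11314

/-- Let k be a field, P = P^n_k and ω = O_P(-n-1). Then there is a k-linear map t : H^n(P, ω) → k such
that for every coherent O_P-module F and every k-linear form ψ on H^n(P, F) there is exactly one
morphism φ : F → ω with ψ = t ∘ H^n(φ); in other words the natural pairing Hom(F, ω) × H^n(P, F) →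
H^n(P, ω) followed by t is perfect, and ω is a dualizing sheaf for P. (The published statement fixes
an isomorphism H^n(P, ω) ≅ k and pairs into it; here t stands for that composite, and the
finite-dimensionality of the two spaces is not restated.) -/
theorem result (k : Type u) [Field k] (n : ℕ) :
    ∃ t : Coh.HH (CohB1.ProjSpace n k) (Twist.twistProjSpace n k (-((n : ℤ) + 1))) n →ₗ[k] k,
      ∀ F : (CohB1.ProjSpace n k).Modules, Coh.IsCoh F → ∀ ψ : Coh.HH (CohB1.ProjSpace n k) F n →ₗ[k] k,
        ∃! φ : F ⟶ (Twist.twistProjSpace n k (-((n : ℤ) + 1))), ∀ x : Coh.HH (CohB1.ProjSpace n k) F n,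
          ψ x = t (Sheaf.H.map ((SheafOfModules.toSheaf (CohB1.ProjSpace n k).ringCatSheaf).map φ) n x) := by
  refine ⟨(ProjDual12.trace k n).toLinearMap, fun F hF ψ => ?_⟩
  obtain ⟨φ, hφ⟩ := (ProjDual12.rep (k := k) (n := n) hF).2 ψ
  refine ⟨φ, fun x => (LinearMap.congr_fun hφ x).symm, fun φ2 h2 => ?_⟩
  exact (ProjDual12.rep (k := k) (n := n) hF).1 (Eq.trans (LinearMap.ext fun x => (h2 x).symm) hφ.symm)

end Groth.Agent.S11314
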