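import Groth.Statements.S11317
import Groth.Agent.S5668
import Groth.Agent.Lib.HodgeSym12.Pairing
import Groth.Agent.Lib.Wedge2.Exists
import Groth.Agent.Lib.HilbObs3.Vanish
-- import your own Groth.Agent.* helpers here

set_option autoImplicit false
set_option backward.isDefEq.respectTransparency false
universe u
open CategoryTheory CategoryTheory.Limits AlgebraicGeometry
open ProjDual

namespace Groth.Agent.S11317

/-- Let k be an algebraically closed field and X a nonsingular projective variety of dimension n over k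
— an integral k-scheme, smooth of relative dimension n over k, with a closed immersion into some
P^N_k over k. Let p, q ≤ n and let L and L' be O_X-modules which are a p-th, respectively an
(n-p)-th, exterior power of the sheaf of differentials of X over k. Then H^q(X, L) and H^(n-q)(X,
L') have the same dimension over k: h^q(Ω^p) = h^(n-q)(Ω^(n-p)). (The published statement gives a
natural isomorphism of H^q(X, Ω^p) with the dual of H^(n-q)(X, Ω^(n-p)); this row records the
equality of dimensions.) -/
theorem result (k : Type u) [Field k] [IsAlgClosed k] (n N : ℕ)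
    (X : Scheme.{u}) [X.Over (Spec (CommRingCat.of k))] [IsIntegral X]
    [SmoothOfRelativeDimension n (X ↘ Spec (CommRingCat.of k))]
    (ι : X ⟶ CohB1.ProjSpace N k) [IsClosedImmersion ι] (hι : ι ≫ CohB1.ProjSpace.toSpec N k = X ↘ Spec (CommRingCat.of k))
    (p q : ℕ) (hp : p ≤ n) (hq : q ≤ n) (L L' : X.Modules)
    (hL : ExtPow.IsExtPow p (Omega.sheaf (X ↘ Spec (CommRingCat.of k))) L)
    (hL' : ExtPow.IsExtPow (n - p) (Omega.sheaf (X ↘ Spec (CommRingCat.of k))) L') :
    Module.finrank k (Coh.HH X L q) = Module.finrank k (Coh.HH X L' (n - q)) := by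
  haveI : Smooth (X ↘ Spec (CommRingCat.of k)) := SmoothOfRelativeDimension.smooth n _
  haveI : IsLocallyNoetherian X := LocallyOfFiniteType.isLocallyNoetherian (X ↘ Spec (CommRingCat.of k))
  haveI := Groth.Agent.FundIso12.quasiSeparated_of_isLocallyNoetherian (X ↘ Spec (CommRingCat.of k))
  let Ω := Omega.sheaf (X ↘ Spec (CommRingCat.of k))
  have hΩ : FlatMod.IsFinLocFreeOfRank n Ω :=
    Groth.Agent.Omega12.isFinLocFreeOfRank_receptacle_of_smooth (f := X ↘ Spec (CommRingCat.of k))
      (Groth.Agent.Omega12.isUniversal_dOmega (f := X ↘ Spec (CommRingCat.of k))) n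
  have hΩ' := Groth.Agent.M2.isFinLocFree_of_ofRank hΩ
  haveI : Coh.IsQCoh Ω := Groth.Agent.M2.isQCoh_of_isFinLocFree hΩ'
  let W := Groth.Agent.Wedge2.extMod n Ω
  have hW : ExtPow.IsExtPow n Ω W :=
    Groth.Agent.Wedge2.isExtPow_extMod n Ω
  have hF := Groth.Agent.DeRhamH7.isFinLocFree_extPow hΩ' hL'
  haveI : DCoh.HasSheafHom L' := Groth.Agent.HilbObs3.hasSheafHom L'
  obtain ⟨e⟩ := Groth.Agent.S5668.result k n N X ι hι W hW L' hF (n - q) (Nat.sub_le n q)
  obtain ⟨a⟩ := Groth.Agent.HilbObs3.nonempty_sheafHom_iso L' W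
  obtain ⟨b⟩ := Groth.Agent.HodgeSym12.nonempty_extPow_iso_hom (show p + (n - p) = n by omega) hΩ hL hL' hW
  have h := (e.trans (Groth.Agent.CurveCoh17.hequiv k (a ≪≫ b.symm) (n - (n - q)))).finrank_eq
  rw [Subspace.dual_finrank_eq, show n - (n - q) = q by omega] at h
  exact h.symm

end Groth.Agent.S11317
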