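import Groth.Statements.S11318
import Mathlib

set_option autoImplicit false
universe u
open CategoryTheory AlgebraicGeometry
open ProjDual

namespace Groth.Agent.S11318

/-- Let k be a field, X a proper k-scheme of dimension n, and (ω, t), (ω', t') two dualizing sheaves for
X: each is a coherent O_X-module with a k-linear map on its n-th cohomology to k such that for every
coherent F and every k-linear form ψ on H^n(X, F) there is exactly one morphism from F into it
through which ψ factors. Then there is exactly one morphism φ : ω → ω' with t = t' ∘ H^n(φ), and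
this φ is an isomorphism. -/
theorem result (k : Type u) [Field k] (X : Scheme.{u}) [X.Over (Spec (CommRingCat.of k))]
    [IsProper (X ↘ Spec (CommRingCat.of k))] (n : ℕ) (hn : topologicalKrullDim ↥X = n)
    (ω ω' : X.Modules) (hω : Coh.IsCoh ω) (hω' : Coh.IsCoh ω')
    (t : Coh.HH X ω n →ₗ[k] k) (t' : Coh.HH X ω' n →ₗ[k] k)
    (hd : ∀ F : X.Modules, Coh.IsCoh F → ∀ ψ : Coh.HH X F n →ₗ[k] k,
        ∃! φ : F ⟶ ω, ∀ x : Coh.HH X F n,
          ψ x = t (Sheaf.H.map ((SheafOfModules.toSheaf X.ringCatSheaf).map φ) n x))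
    (hd' : ∀ F : X.Modules, Coh.IsCoh F → ∀ ψ : Coh.HH X F n →ₗ[k] k,
        ∃! φ : F ⟶ ω', ∀ x : Coh.HH X F n,
          ψ x = t' (Sheaf.H.map ((SheafOfModules.toSheaf X.ringCatSheaf).map φ) n x)) :
    ∃ φ : ω ⟶ ω', IsIso φ ∧
      (∀ x : Coh.HH X ω n, t x = t' (Sheaf.H.map ((SheafOfModules.toSheaf X.ringCatSheaf).map φ) n x)) ∧
      ∀ ψ : ω ⟶ ω', (∀ x : Coh.HH X ω n, t x = t' (Sheaf.H.map ((SheafOfModules.toSheaf X.ringCatSheaf).map ψ) n x)) → ψ = φ := by
  let H := fun {F G : X.Modules} (φ : F ⟶ G) (x : Coh.HH X F n) =>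
    Sheaf.H.map ((SheafOfModules.toSheaf X.ringCatSheaf).map φ) n x
  have hcomp : ∀ {F G K : X.Modules} (φ : F ⟶ G) (ψ : G ⟶ K) (x : Coh.HH X F n), H (φ ≫ ψ) x = H ψ (H φ x) := by
    intro F G K φ ψ x
    exact (congrArg (fun m => Sheaf.H.map m n x) (Functor.map_comp _ φ ψ)).trans (Sheaf.H.map_comp_apply _ _ x)
  have hid : ∀ (F : X.Modules) (x : Coh.HH X F n), H (𝟙 F) x = x := fun F x =>
    (congrArg (fun m => Sheaf.H.map m n x) (CategoryTheory.Functor.map_id _ F)).trans (Sheaf.H.map_id_apply x)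
  obtain ⟨φ, hφ, huniq⟩ := hd' ω hω t
  obtain ⟨ψ, hψ, -⟩ := hd ω' hω' t'
  have e1 : φ ≫ ψ = 𝟙 ω := (hd ω hω t).unique
    (fun x => (hφ x).trans ((hψ _).trans (congrArg t (hcomp φ ψ x)).symm))
    (fun x => (congrArg t (hid ω x)).symm)
  have e2 : ψ ≫ φ = 𝟙 ω' := (hd' ω' hω' t').unique
    (fun x => (hψ x).trans ((hφ _).trans (congrArg t' (hcomp ψ φ x)).symm))
    (fun x => (congrArg t' (hid ω' x)).symm)
  exact ⟨φ, ⟨ψ, e1, e2⟩, hφ, fun ψ' h => huniq ψ' h⟩

end Groth.Agent.S11318
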