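import Groth.Statements.S11319
import Groth.Agent.Lib.CohFound.RpushHc
-- import your own Groth.Agent.* helpers here

set_option autoImplicit false
universe u
open CategoryTheory AlgebraicGeometry
open Coherent

namespace Groth.Agent.S11319

/-- Let f : X → Y be a morphism of schemes, M an O_X-module and n ≥ 0. Then the underlying abelian sheaf
of the n-th higher direct image R^n f_* M computed in the category of O-modules (the n-th right
derived functor of f_* : Mod(O_X) → Mod(O_Y), which needs the stated instance that Mod(O_X) has
injective resolutions — it does) is isomorphic to the n-th higher direct image of the underlying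
abelian sheaf of M (the right derived functor of f_* on abelian sheaves). (Stated for schemes; the
published statement is for ringed spaces. Existence of an isomorphism only.) -/
theorem result {X Y : Scheme.{u}} (f : X ⟶ Y)
    [HasInjectiveResolutions X.Modules] (M : X.Modules) (n : ℕ) :
    Nonempty (Coh.toAb ((Coh.Rpush f n).obj M) ≅ (Coh.RpushAb f n).obj (Coh.toAb M)) := by
  obtain ⟨e⟩ := Groth.Agent.CohFound.nonempty_abF_rpush_iso_shPre f M n
  obtain ⟨e'⟩ := Groth.Agent.CohFound.nonempty_rpush_iso_shPre
    (f.base : Groth.Agent.CohFound.sp X ⟶ Groth.Agent.CohFound.sp Y)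
    ((Groth.Agent.CohFound.abF X).obj M) n
  exact ⟨e ≪≫ e'.symm⟩

end Groth.Agent.S11319
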