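import Groth.Statements.S1132
import Groth.Agent.Lib.SchDesc12.Effective

set_option backward.isDefEq.respectTransparency.types false

set_option autoImplicit false
open CategoryTheory CategoryTheory.Limits AlgebraicGeometry Opposite
universe u
open Desc

namespace Groth.Agent.S1132

/-- If p : X ⟶ S is a surjective flat morphism of schemes, the functor sending a scheme over S to its
canonical descent datum relative to p is faithful. (This is a special case of a more general
published statement; in this case the objects being descended are simply schemes over S. Descent
data are taken in functor-of-points form, equivalent by the Yoneda lemma to an isomorphism over X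
×_S X satisfying the cocycle condition.) -/
theorem result {X S : Scheme.{u}} (p : X ⟶ S) [Surjective p] [Flat p] :
    (Desc.toDD p).Faithful := by
  refine ⟨fun {U U'} {a b} h => Over.OverMorphism.ext ?_⟩
  have h1 := congrArg (fun m : (Desc.toDD p).obj U ⟶ (Desc.toDD p).obj U' =>
    m.hom.left ≫ pullback.snd p U'.hom) h
  have h2 : pullback.snd p U.hom ≫ a.left = pullback.snd p U.hom ≫ b.left :=
    (pullback.lift_snd _ _ _).symm.trans (h1.trans (pullback.lift_snd _ _ _))
  have : Flat (pullback.snd p U.hom) := inferInstance
  have : Surjective (pullback.snd p U.hom) := inferInstance
  have : Epi (pullback.snd p U.hom) := Flat.epi_of_flat_of_surjective _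
  exact (cancel_epi _).1 h2

end Groth.Agent.S1132
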