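import Groth.Statements.S11321
import Groth.Agent.Lib.FlatClosure19.Basic
import Groth.Agent.Lib.Hurwitz17.Fibre
import Groth.Agent.Lib.RefHull26.Normal
import Groth.Agent.Lib.EffCartier.Dense
-- import your own Groth.Agent.* helpers here

set_option autoImplicit false
universe u
open CategoryTheory CategoryTheory.Limits AlgebraicGeometry
open FlatMor

namespace Groth.Agent.S11321

/-- Flat limits over a curve: let Y be a locally Noetherian integral scheme of dimension one all of
whose local rings are regular local rings, P a closed point of Y with open complement U, V = P^n_U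
the inverse image of U in P^n_Y, and X a closed subscheme of V (a closed immersion i : X → V) which
is flat over Y, equivalently over U. Then X extends to a closed subscheme X' of P^n_Y which is flat
over Y and whose restriction to V is X — there are a closed immersion i' : X' → P^n_Y with X' → Y
flat and a morphism j : X → X' making X the fibre product of X' and V over P^n_Y — and such an
extension is unique: for any second one (X'', i'', j'') there is an isomorphism X' ≅ X'' over P^n_Y.
(The published statement does not say that Y is locally Noetherian; the printed argument, through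
associated points and the scheme-theoretic closure, uses it, and this row assumes it.) -/
theorem result
    {Y : Scheme.{u}} [IsIntegral Y] [IsLocallyNoetherian Y] (hreg : ∀ y : Y, IsRegularLocalRing (Y.presheaf.stalk y))
    (hY : topologicalKrullDim ↥Y = 1) (P : Y) (U : Y.Opens) (hU : (U : Set ↥Y) = {P}ᶜ) (n : ℕ)
    (X : Scheme.{u}) (i : X ⟶ ↑(CohB1.ProjSpaceOver.toBase n Y ⁻¹ᵁ U)) [IsClosedImmersion i]
    [Flat (i ≫ (CohB1.ProjSpaceOver.toBase n Y ⁻¹ᵁ U).ι ≫ CohB1.ProjSpaceOver.toBase n Y)] :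
    ∃ (X' : Scheme.{u}) (i' : X' ⟶ CohB1.ProjSpaceOver n Y) (j : X ⟶ X'),
      IsClosedImmersion i' ∧ Flat (i' ≫ CohB1.ProjSpaceOver.toBase n Y) ∧
      IsPullback j i i' (CohB1.ProjSpaceOver.toBase n Y ⁻¹ᵁ U).ι ∧
      ∀ (X'' : Scheme.{u}) (i'' : X'' ⟶ CohB1.ProjSpaceOver n Y) (j'' : X ⟶ X''),
        IsClosedImmersion i'' → Flat (i'' ≫ CohB1.ProjSpaceOver.toBase n Y) →
        IsPullback j'' i i'' (CohB1.ProjSpaceOver.toBase n Y ⁻¹ᵁ U).ι →
        ∃ e : X' ≅ X'', e.hom ≫ i'' = i' := by
  have hU0 : (U : Set Y).Nonempty := by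
    rw [hU, Set.nonempty_compl]
    intro h
    haveI : Subsingleton Y := ⟨fun a b => (show a ∈ ({P} : Set Y) from h ▸ trivial).trans
      (show b ∈ ({P} : Set Y) from h ▸ trivial).symm⟩
    have h1 : topologicalKrullDim Y ≤ 0 := by
      haveI : Subsingleton (TopologicalSpace.IrreducibleCloseds Y) := ⟨fun a b => by
        ext z
        obtain ⟨w, hw⟩ := a.isIrreducible'.1
        obtain ⟨v, hv⟩ := b.isIrreducible'.1
        rw [Subsingleton.elim z w]
        exact ⟨fun _ => Subsingleton.elim v w ▸ hv, fun _ => hw⟩⟩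
      exact Order.krullDim_nonpos_of_subsingleton
    rw [hY] at h1
    exact absurd h1 (by simp)
  let π := CohB1.ProjSpaceOver.toBase n Y
  let V := π ⁻¹ᵁ U
  haveI : IsDominant U.ι := ⟨by
    rw [DenseRange, Scheme.Opens.range_ι]
    exact U.2.dense hU0⟩
  haveI : IsSchemeTheoreticallyDominant U.ι := .of_isDominant _
  haveI : QuasiCompact V.ι :=
    MorphismProperty.of_isPullback (P := @QuasiCompact) (isPullback_morphismRestrict π U) inferInstance
  let f := i ≫ V.ι
  haveI : QuasiCompact f := MorphismProperty.comp_mem _ _ _ inferInstance inferInstance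
  haveI := Groth.Agent.FlatClosure19.isSchemeTheoreticallyDominant_toImage f
  haveI : IsSchemeTheoreticallyDominant f.toImage := ‹_›
  have hflat : Flat (f.imageι ≫ π) := by
    refine (IsZariskiLocalAtTarget.iff_of_iSup_eq_top (P := @Flat) (fun W : Y.affineOpens => W.1) (iSup_affineOpens_eq_top Y)).2 fun W => ?_
    rcases isEmpty_or_nonempty (W.1 : Scheme.{u}) with he | hne
    · haveI : IsEmpty ((f.imageι ≫ π) ⁻¹ᵁ W.1 : Scheme.{u}) := ⟨fun z => he.false (((f.imageι ≫ π) ∣_ W.1) z)⟩
      exact inferInstance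
    haveI : Nonempty W.1 := hne
    haveI := Groth.Agent.Hurwitz17.isDedekindDomain_sections_of_normal
      (Groth.Agent.RH26.isNormalScheme_of_regular hreg) hY.le W.2
    let φ := f.toImage ∣_ ((f.imageι ≫ π) ⁻¹ᵁ W.1)
    haveI : IsSchemeTheoreticallyDominant φ :=
      IsSchemeTheoreticallyDominant.of_isPullback (f := f.toImage) (g := ((f.imageι ≫ π) ⁻¹ᵁ W.1).ι)
        (isPullback_morphismRestrict f.toImage _).flip
    let g := ((f.imageι ≫ π) ∣_ W.1) ≫ W.2.isoSpec.hom
    haveI : Flat ((f.toImage ≫ f.imageι ≫ π) ∣_ W.1) := by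
      haveI : Flat (f.toImage ≫ f.imageι ≫ π) := by
        rw [Scheme.Hom.toImage_imageι_assoc]
        simpa only [f, V, π, Category.assoc] using
          (inferInstance : Flat (i ≫ (CohB1.ProjSpaceOver.toBase n Y ⁻¹ᵁ U).ι ≫ CohB1.ProjSpaceOver.toBase n Y))
      exact IsZariskiLocalAtTarget.restrict ‹Flat (f.toImage ≫ f.imageι ≫ π)› W.1
    haveI : Flat (φ ≫ g) := by
      have : φ ≫ g = ((f.toImage ≫ f.imageι ≫ π) ∣_ W.1) ≫ W.2.isoSpec.hom := by
        show φ ≫ ((f.imageι ≫ π) ∣_ W.1) ≫ _ = _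
        rw [← Category.assoc]
        congr 1
        exact (morphismRestrict_comp f.toImage (f.imageι ≫ π) W.1).symm
      rw [this]; exact MorphismProperty.comp_mem _ _ _ ‹Flat ((f.toImage ≫ f.imageι ≫ π) ∣_ W.1)› inferInstance
    let η := Spec.map (CommRingCat.ofHom (algebraMap Γ(Y, W.1) (FractionRing Γ(Y, W.1))))
    haveI := Groth.Agent.FlatClosure19.dominant_gen Γ(Y, W.1)
    haveI : QuasiCompact φ := MorphismProperty.of_isPullback (P := @QuasiCompact)
      (isPullback_morphismRestrict f.toImage ((f.imageι ≫ π) ⁻¹ᵁ W.1)).flip inferInstance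
    haveI : IsSchemeTheoreticallyDominant (pullback.fst (φ ≫ g) η) := inferInstance
    haveI : Flat g := Groth.Agent.FlatClosure19.flat_of_dominant Γ(Y, W.1) (pullback.fst (φ ≫ g) η ≫ φ) g
      (pullback.snd (φ ≫ g) η) (by rw [Category.assoc]; exact pullback.condition)
    exact (MorphismProperty.cancel_right_of_respectsIso @Flat _ W.2.isoSpec.hom).1 ‹Flat g›
  have hpre : f.toImage ⁻¹ᵁ (f.imageι ⁻¹ᵁ V) = ⊤ := by
    refine top_unique fun x _ => ?_
    show f.imageι (f.toImage x) ∈ V
    rw [← Scheme.Hom.comp_apply, Scheme.Hom.toImage_imageι]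
    exact (i x).2
  let l := IsOpenImmersion.lift (f.imageι ⁻¹ᵁ V).ι f.toImage (by
    rintro _ ⟨x, rfl⟩
    rw [Scheme.Opens.range_ι]
    exact hpre.ge (show x ∈ (⊤ : X.Opens) from trivial))
  have hl : l ≫ (f.imageι ⁻¹ᵁ V).ι = f.toImage := IsOpenImmersion.lift_fac _ _ _
  have hli : l ≫ (f.imageι ∣_ V) = i := by
    rw [← cancel_mono V.ι, Category.assoc, morphismRestrict_ι, reassoc_of% hl, Scheme.Hom.toImage_imageι]
  haveI : IsClosedImmersion (l ≫ (f.imageι ∣_ V)) := hli ▸ ‹_›
  haveI : IsClosedImmersion l := IsClosedImmersion.of_comp l (f.imageι ∣_ V)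
  haveI : IsSchemeTheoreticallyDominant l := by
    have hsq : IsPullback (𝟙 X) l f.toImage (f.imageι ⁻¹ᵁ V).ι :=
      IsPullback.of_horiz_isIso_mono ⟨by rw [Category.id_comp, hl]⟩
    exact IsSchemeTheoreticallyDominant.of_isPullback (f := f.toImage) (g := (f.imageι ⁻¹ᵁ V).ι) hsq
  haveI : IsIso l := IsClosedImmersion.isIso_iff_ker_eq_bot.2 l.ker_eq_bot
  refine ⟨f.image, f.imageι, f.toImage, inferInstance, hflat, ?_, fun X'' i'' j'' hci hfl hpb => ?_⟩
  · exact (isPullback_morphismRestrict f.imageι V).flip.of_iso (asIso l).symm (Iso.refl _) (Iso.refl _) (Iso.refl _)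
      (by simp [← hl]) (by simp [← hli]) (by simp) (by simp [V, π])
  · haveI := hci
    haveI : Flat (i'' ≫ π) := hfl
    haveI : IsSchemeTheoreticallyDominant ((i'' ≫ π) ⁻¹ᵁ U).ι := Groth.Agent.EffCartier.dominant_preimage _ U
    let e₀ := (isPullback_morphismRestrict i'' V).flip.isoIsPullback _ _ hpb
    have he₀ : e₀.inv ≫ (i'' ⁻¹ᵁ V).ι = j'' := IsPullback.isoIsPullback_inv_fst _ _ _ _
    haveI : IsSchemeTheoreticallyDominant j'' := by
      rw [← he₀]
      haveI : IsSchemeTheoreticallyDominant (i'' ⁻¹ᵁ V).ι :=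
        show IsSchemeTheoreticallyDominant ((i'' ≫ π) ⁻¹ᵁ U).ι from inferInstance
      infer_instance
    have hker : i''.ker = f.imageι.ker := by
      rw [Scheme.Hom.imageι, Scheme.IdealSheafData.ker_subschemeι]
      show i''.ker = (i ≫ V.ι).ker
      rw [← hpb.w, Scheme.Hom.ker_comp, j''.ker_eq_bot, Scheme.IdealSheafData.map_bot]
    refine ⟨⟨IsClosedImmersion.lift i'' f.imageι hker.le, IsClosedImmersion.lift f.imageι i'' hker.ge, ?_, ?_⟩, ?_⟩
    · rw [← cancel_mono f.imageι, Category.assoc, IsClosedImmersion.lift_fac, IsClosedImmersion.lift_fac,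
        Category.id_comp]
    · rw [← cancel_mono i'', Category.assoc, IsClosedImmersion.lift_fac, IsClosedImmersion.lift_fac,
        Category.id_comp]
    · exact IsClosedImmersion.lift_fac _ _ _

end Groth.Agent.S11321
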