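import Groth.Statements.S11326
import Groth.Agent.Lib.RelDual12.Pairing
-- import your own Groth.Agent.* helpers here

set_option autoImplicit false
set_option backward.isDefEq.respectTransparency false
universe u
open CategoryTheory AlgebraicGeometry
open ProjDual

namespace Groth.Agent.S11326

/-- Let A be a Noetherian ring, r ≥ 1, X = P^r_A and ω = O_X(-r-1). Then there is an A-linear
isomorphism t : H^r(X, ω) ≅ A such that for every integer n and every A-linear form ψ on H^r(X,
O_X(-n-r-1)) there is exactly one morphism of O_X-modules φ : O_X(-n-r-1) → ω with ψ = t ∘ H^r(φ).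
(The published form of the pairing assertion is a perfect pairing H^0(X, O_X(n)) × H^r(X,
O_X(-n-r-1)) → H^r(X, ω) ≅ A of finitely generated free A-modules; here the first factor is written
as Hom(O_X(-n-r-1), ω), which the pairing identifies with H^0(X, O_X(n)), and only the resulting
bijection onto the A-dual of H^r(X, O_X(-n-r-1)) is stated.) -/
theorem result (A : Type u) [CommRing A]
    [IsNoetherianRing A] (r : ℕ) (hr : 1 ≤ r) :
    ∃ t : Coh.HH (CohB1.ProjSpace r A) (Twist.twistProjSpace r A (-((r : ℤ) + 1))) r ≃ₗ[A] A,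
      ∀ (n : ℤ) (ψ : Coh.HH (CohB1.ProjSpace r A) (Twist.twistProjSpace r A (-(n + r + 1))) r →ₗ[A] A),
        ∃! φ : Twist.twistProjSpace r A (-(n + r + 1)) ⟶ Twist.twistProjSpace r A (-((r : ℤ) + 1)),
          ∀ x : Coh.HH (CohB1.ProjSpace r A) (Twist.twistProjSpace r A (-(n + r + 1))) r,
            ψ x = t (Sheaf.H.map ((SheafOfModules.toSheaf (CohB1.ProjSpace r A).ringCatSheaf).map φ) r x) := by
  refine ⟨RelDual12.trace r A, fun n ψ => ?_⟩
  rcases lt_or_ge n 0 with hn | hn
  · haveI : Subsingleton (Coh.HH (CohB1.ProjSpace r A) (Twist.twistProjSpace r A (-(n + r + 1))) r) :=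
      (CohFound.subsingleton_HH_iff (X := Proj (CohB1.polyGrading r A))
        (Twist.twist (CohB1.polyGrading r A) (-(n + r + 1))) r).2
        (CohFound.ProjNum.subsingleton_hc_Od r hr (Or.inl (by omega)))
    haveI := Groth.Agent.Twist.subsingleton_sections_twistProjSpace_neg r A hr hn
    have hsub : ∀ φ φ' : Twist.twistProjSpace r A (-(n + r + 1)) ⟶ Twist.twistProjSpace r A (-((r : ℤ) + 1)),
        φ = φ' := fun φ φ' => by
      obtain ⟨s, hs⟩ := RelDual12.exists_mulSecHom_eq (c := n)
        (Groth.Agent.Twist.iSup_basicOpen_one r A) (by ring) φ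
      obtain ⟨s', hs'⟩ := RelDual12.exists_mulSecHom_eq (c := n)
        (Groth.Agent.Twist.iSup_basicOpen_one r A) (by ring) φ'
      rw [← hs, ← hs', Subsingleton.elim s s']
    refine ⟨0, fun x => ?_, fun φ _ => hsub _ _⟩
    rw [Subsingleton.elim x 0]
    simp
  · obtain ⟨k, rfl⟩ := Int.eq_ofNat_of_zero_le hn
    have key : ∀ d : ℤ, d = -((r : ℤ) + 1 + k) → Function.Bijective
        (Canon.dualityMap A (CohB1.ProjSpace r A) r (Twist.twistProjSpace r A (-((r : ℤ) + 1)))
          (RelDual12.trace r A).toLinearMap (Twist.twistProjSpace r A d)) := by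
      rintro d rfl
      exact RelDual12.bijective_dualityMap
    obtain ⟨φ, hφ⟩ := (key _ (by ring)).2 ψ
    refine ⟨φ, fun x => (LinearMap.congr_fun hφ x).symm, fun φ' h' => ?_⟩
    exact (key _ (by ring)).1 (Eq.trans (LinearMap.ext fun x => (h' x).symm) hφ.symm)

end Groth.Agent.S11326
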