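import Groth.Statements.S11329
import Groth.Agent.Lib.LocCoh.PunctSec27

set_option autoImplicit false
universe u
open CategoryTheory AlgebraicGeometry Opposite
open Coherent

namespace Groth.Agent.S11329

/-- Let A be a Noetherian ring and I an injective A-module. Then the quasi-coherent sheaf I~ on Spec A
associated with I is flasque: for all opens U ⊆ V of Spec A the restriction map I~(V) → I~(U) is
surjective. -/
theorem result (A : Type u) [CommRing A] [IsNoetherianRing A]
    (I : Type u) [AddCommGroup I] [Module A I] [Module.Injective A I]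
    (U V : (Spec (CommRingCat.of A)).Opens) (hUV : U ≤ V) :
    Function.Surjective ((tilde (ModuleCat.of A I)).val.map (homOfLE hUV).op).hom := by
  intro s
  obtain ⟨a, ha⟩ : ∃ a : Ideal A, U = LocCoh.puncturedOpen A a := by
    obtain ⟨a, ha⟩ := (PrimeSpectrum.isClosed_iff_zeroLocus_ideal _).1 U.2.isClosed_compl
    exact ⟨a, TopologicalSpace.Opens.ext ((compl_compl _).symm.trans (congrArg compl ha))⟩
  subst ha
  obtain ⟨m, hm⟩ := Groth.Agent.LocCohSheafLib.toS_surjective_of_injective (R := A) (a := a) (E := I) s
  exact ⟨Groth.Agent.LocCohSheafLib.toS I V m,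
    (Groth.Agent.LocCohSheafLib.rho_toS I hUV m).trans hm⟩

end Groth.Agent.S11329
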