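import Groth.Statements.S11330
import Groth.Agent.Lib.VB17.Proper
import Groth.Agent.Lib.CurveCoh17.TwistPoint
-- import your own Groth.Agent.* helpers here

set_option autoImplicit false
universe u
open CategoryTheory CategoryTheory.Limits AlgebraicGeometry
open Curves

namespace Groth.Agent.S11330

open CategoryTheory AlgebraicGeometry Groth.Agent.CurveCoh17



/-- Let k be an algebraically closed field and X a curve over k (an integral scheme, proper over k, of
dimension one, with all local rings regular), and L an invertible O_X-module. Then L is generated by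
its global sections (a quotient of a free O_X-module) if and only if for every closed point P of X,
with ideal sheaf I_P ⊆ O_X, dim_k H^0(X, L ⊗ I_P) = dim_k H^0(X, L) - 1. -/
theorem result (k : Type u) [Field k] [IsAlgClosed k] (X : Scheme.{u}) [X.Over (Spec (CommRingCat.of k))]
    [IsIntegral X] [IsProper (X ↘ (Spec (CommRingCat.of k)))] (hdim : topologicalKrullDim X = 1)
    (hreg : ∀ x : X, IsRegularLocalRing (X.presheaf.stalk x)) (L : X.Modules) (hL : PicF.IsInvertible L) :
    Curv2.IsGloballyGenerated L ↔
      ∀ (P : X) (hP : IsClosed ({P} : Set X)),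
        Module.finrank k (Coh.HH X (CohB1.tensorMod L (ClSub.idealMod (Scheme.IdealSheafData.vanishingIdeal ⟨{P}, hP⟩))) 0) + 1 = Module.finrank k (Coh.HH X L 0) := by
  have hX := VB17.curveLike (k := k) hdim
  haveI := hX.noetherian
  have hR : ∀ (P : X) (hP : IsClosed ({P} : Set X)), atPoint k hP L ≠ 0 ↔
      Module.finrank k (Coh.HH X (CohB1.tensorMod L (ClSub.idealMod (Scheme.IdealSheafData.vanishingIdeal ⟨{P}, hP⟩))) 0) + 1 =
        Module.finrank k (Coh.HH X L 0) := fun P hP => by
    obtain ⟨h1, h2⟩ := finrank_twist_point hX hL hP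
    rw [finrank_residueField hP] at h1
    haveI := hX.fin L (isCoh_of_ofRank ((M2.isInvertible_iff_isFinLocFreeOfRank_one L).1 hL)) 0
    constructor
    · intro hne
      have : 0 < Module.finrank k (LinearMap.range (atPoint k hP L)) := by
        rw [Module.finrank_pos_iff]
        exact Submodule.nontrivial_iff_ne_bot.2 (by rwa [ne_eq, LinearMap.range_eq_bot])
      omega
    · intro he h0
      rw [h0, LinearMap.range_zero, finrank_bot] at h2
      omega
  constructor
  · intro hG P hP
    refine (hR P hP).1 ((atPoint_ne_zero_iff hL hP).2 ?_)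
    obtain ⟨t, ht⟩ := RA.exists_gen_of_isGloballyGenerated hL hG P
    refine ⟨Amp.gval t, top_le_iff.1 fun a _ => ?_⟩
    obtain ⟨r, rfl⟩ := ((Amp.mem_genLocus_iff hL t).mp ht).2 a
    exact Submodule.smul_mem _ r (Submodule.subset_span rfl)
  · intro h
    refine RA.isGloballyGenerated_of_gen hL fun x => ?_
    obtain ⟨P, hPmem, hP⟩ := (isClosed_closure (s := ({x} : Set X))).exists_closed_singleton ⟨x, subset_closure rfl⟩
    obtain ⟨t, ht⟩ := (atPoint_ne_zero_iff hL hP).1 ((hR P hP).2 (h P hP))
    refine ⟨M1.secHom t, ?_⟩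
    refine (specializes_iff_mem_closure.2 hPmem).mem_open (CohB1.genLocus L (M1.secHom t)).isOpen ?_
    change P ∈ CohB1.genLocus L (M1.secHom t)
    rw [Amp.mem_genLocus_iff hL, Amp.gval_secHom]
    obtain ⟨e⟩ := nonempty_stalk_equiv ((M2.isInvertible_iff_isFinLocFreeOfRank_one L).1 hL) P
    refine ⟨fun a b hab => ?_, fun a => Submodule.mem_span_singleton.1 (ht ▸ Submodule.mem_top)⟩
    obtain ⟨c, hc⟩ := Submodule.mem_span_singleton.1 (ht ▸ Submodule.mem_top :
      e.symm 1 ∈ Submodule.span (X.presheaf.stalk P) {Amp.gm L P (U := ⊤) trivial t})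
    have h1 : c * e (Amp.gm L P (U := ⊤) trivial t) 0 = 1 := by
      rw [← smul_eq_mul, ← Pi.smul_apply, ← map_smul, hc, LinearEquiv.apply_symm_apply]; rfl
    have h2 : a * e (Amp.gm L P (U := ⊤) trivial t) 0 = b * e (Amp.gm L P (U := ⊤) trivial t) 0 := by
      simpa [map_smul] using congrFun (congrArg e hab) 0
    calc a = a * (c * e (Amp.gm L P (U := ⊤) trivial t) 0) := by rw [h1, mul_one]
      _ = b * (c * e (Amp.gm L P (U := ⊤) trivial t) 0) := by linear_combination c * h2
      _ = b := by rw [h1, mul_one]

end Groth.Agent.S11330
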