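import Groth.Statements.S11331
import Groth.Agent.Lib.CurveCoh17.VeryAmple
import Groth.Agent.Lib.VB17.Proper

set_option autoImplicit false
universe u
open CategoryTheory CategoryTheory.Limits AlgebraicGeometry
open Curves

namespace Groth.Agent.S11331

open TopologicalSpace IsLocalRing Groth.Agent.M1 Groth.Agent.M2 Groth.Agent.CurveCoh17

theorem span_of_notMem {X : Scheme.{u}} {M : X.Modules} {P : X} (hM : PicF.IsInvertible M)
    (a : M.presheaf.stalk P)
    (ha : a ∉ maximalIdeal (X.presheaf.stalk P) • (⊤ : Submodule (X.presheaf.stalk P) (M.presheaf.stalk P))) :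
    Submodule.span (X.presheaf.stalk P) ({a} : Set (M.presheaf.stalk P)) = ⊤ := by
  obtain ⟨e⟩ := nonempty_stalk_equiv ((isInvertible_iff_isFinLocFreeOfRank_one M).1 hM) P
  have hb : ∀ b : M.presheaf.stalk P, b = e b 0 • e.symm 1 := fun b => e.injective (funext fun i => by
    rw [Fin.fin_one_eq_zero i, map_smul, LinearEquiv.apply_symm_apply, Pi.smul_apply, Pi.one_apply, smul_eq_mul, mul_one])
  have hu : IsUnit (e a 0) := by
    by_contra hu
    exact ha ((hb a).symm ▸ Submodule.smul_mem_smul ((IsLocalRing.mem_maximalIdeal _).2 hu) trivial)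
  obtain ⟨v, hv⟩ := hu
  refine Submodule.eq_top_iff'.2 fun m => Submodule.mem_span_singleton.2
    ⟨e m 0 * (↑v⁻¹ : X.presheaf.stalk P), ?_⟩
  rw [hb a, ← hv, smul_smul, mul_assoc, Units.inv_mul, mul_one]
  exact (hb m).symm

theorem map_mem_smul_top {X : Scheme.{u}} {M N : X.Modules} (f : M ⟶ N) (P : X)
    (I : Ideal (X.presheaf.stalk P)) (b : M.presheaf.stalk P)
    (hb : b ∈ I • (⊤ : Submodule (X.presheaf.stalk P) (M.presheaf.stalk P))) :
    stalkLin f P b ∈ I • (⊤ : Submodule (X.presheaf.stalk P) (N.presheaf.stalk P)) := by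
  induction hb using Submodule.smul_induction_on' with
  | smul r hr c _ => rw [map_smul]; exact Submodule.smul_mem_smul hr trivial
  | add b _ c _ hb hc => rw [map_add]; exact add_mem hb hc

variable {k : Type u} [Field k] [IsAlgClosed k] {X : Scheme.{u}} [X.Over (Spec (CommRingCat.of k))]
  [IsIntegral X] [IsProper (X ↘ Spec (CommRingCat.of k))]

theorem drop_of_closedImmersion (hdim : topologicalKrullDim X = 1)
    (hreg : ∀ x : X, IsRegularLocalRing (X.presheaf.stalk x)) {L : X.Modules} (hL : PicF.IsInvertible L) {n : ℕ}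
    (i : X ⟶ CohB1.ProjSpace n k) (hi : IsClosedImmersion i)
    (hf : i ≫ CohB1.ProjSpace.toSpec n k = X ↘ Spec (CommRingCat.of k))
    (φ : (Scheme.Modules.pullback i).obj (Twist.twistProjSpace n k 1) ≅ L)
    (P Q : X) (hP : IsClosed ({P} : Set X)) (hQ : IsClosed ({Q} : Set X)) :
    Module.finrank k (Coh.HH X L 0) = Module.finrank k (Coh.HH X (CohB1.tensorMod L
        (ClSub.idealMod (Scheme.IdealSheafData.vanishingIdeal (⟨{Q}, hQ⟩ : Closeds X)))) 0) + 1 ∧
    Module.finrank k (Coh.HH X (pointSC hP L).X₁ 0) = Module.finrank k (Coh.HH X (CohB1.tensorMod (pointSC hP L).X₁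
        (ClSub.idealMod (Scheme.IdealSheafData.vanishingIdeal (⟨{Q}, hQ⟩ : Closeds X)))) 0) + 1 := by
  have hX := VB17.curveLike (k := k) (X := X) hdim
  haveI := hX.noetherian
  obtain ⟨hsep, htan⟩ := (Curve17.isClosedImmersion_iff_sep (n := n) (X ↘ Spec (CommRingCat.of k)) i hf).1 hi
  let τ : Curve17.pullTwist i ≅ L := φ
  let v : (Fin (n + 1) → k) → Γ(L, (⊤ : X.Opens)) := fun c =>
    τ.hom.app ⊤ (Curve17.vSec (X ↘ Spec (CommRingCat.of k)) i c)
  have hgermv : ∀ (R : X) (c : Fin (n + 1) → k),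
      stalkLin τ.hom R ((Curve17.pullTwist i).presheaf.germ ⊤ R trivial (Curve17.vSec (X ↘ Spec (CommRingCat.of k)) i c)) =
        L.presheaf.germ ⊤ R trivial (v c) :=
    fun R c => germ_naturality _ _ _ _ _
  have hsep' : ∀ R S : X, IsClosed ({R} : Set X) → IsClosed ({S} : Set X) → R ≠ S → ∃ c,
      (L.presheaf.germ ⊤ R trivial (v c) : L.presheaf.stalk R) ∈
        maximalIdeal (X.presheaf.stalk R) • (⊤ : Submodule (X.presheaf.stalk R) (L.presheaf.stalk R)) ∧
      (L.presheaf.germ ⊤ S trivial (v c) : L.presheaf.stalk S) ∉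
        maximalIdeal (X.presheaf.stalk S) • (⊤ : Submodule (X.presheaf.stalk S) (L.presheaf.stalk S)) :=
    fun R S hR hS hne => by
      obtain ⟨c, h1, h2⟩ := hsep R S hR hS hne
      exact ⟨c, by rw [← hgermv]; exact (mem_smul_top_congr τ R _).2 h1,
        fun h => h2 ((mem_smul_top_congr τ S _).1 (by rw [hgermv]; exact h))⟩
  constructor
  · obtain ⟨R, hR, hne⟩ : ∃ R : X, IsClosed ({R} : Set X) ∧ R ≠ Q := by
      by_contra h
      push Not at h
      haveI : JacobsonSpace X := LocallyOfFiniteType.jacobsonSpace (X ↘ Spec (CommRingCat.of k))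
      obtain ⟨R, hR1, hR2⟩ := nonempty_inter_closedPoints (Z := ({Q} : Set X)ᶜ)
        ⟨genericPoint X, Ne.symm (Curve17.ne_genericPoint hdim hQ)⟩ hQ.isOpen_compl.isLocallyClosed
      exact hR1 (h R (mem_closedPoints_iff.1 hR2))
    obtain ⟨c, -, h2⟩ := hsep' R Q hR hQ hne
    exact hX.finrank_twist_of_span hL hQ ⟨v c, span_of_notMem hL _ h2⟩
  set Z := Scheme.IdealSheafData.vanishingIdeal (⟨{P}, hP⟩ : Closeds X)
  have hI := isInvertible_pointIdeal hdim hreg hP
  have hX1 : PicF.IsInvertible (pointSC hP L).X₁ := isInvertible_tensor hI hL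
  refine hX.finrank_twist_of_span hX1 hQ ?_
  have hlift : ∀ c, (L.presheaf.germ ⊤ P trivial (v c) : L.presheaf.stalk P) ∈
      maximalIdeal (X.presheaf.stalk P) • (⊤ : Submodule (X.presheaf.stalk P) (L.presheaf.stalk P)) →
      ∃ t : Γ((pointSC hP L).X₁, (⊤ : X.Opens)), (pointIncl hP L).app ⊤ t = v c := fun c hc => by
    obtain ⟨a, ha⟩ := (germ_mem_iff (k := k) hL hP ((hh0 L).symm (v c))).1 (by rwa [AddEquiv.apply_symm_apply])
    refine ⟨hh0 _ a, ?_⟩
    rw [← hh0_hmap (A := k), ha, AddEquiv.apply_symm_apply]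
  have hgerm : ∀ (R : X) (t : Γ((pointSC hP L).X₁, (⊤ : X.Opens))),
      stalkLin (pointIncl hP L) R ((pointSC hP L).X₁.presheaf.germ ⊤ R trivial t) =
        L.presheaf.germ ⊤ R trivial ((pointIncl hP L).app ⊤ t) := fun R t => germ_naturality _ _ _ _ _
  by_cases hPQ : P = Q
  · subst hPQ
    by_contra hno
    push Not at hno
    have hall : ∀ t : Γ((pointSC hP L).X₁, (⊤ : X.Opens)),
        ((pointSC hP L).X₁.presheaf.germ ⊤ P trivial t : (pointSC hP L).X₁.presheaf.stalk P) ∈
          maximalIdeal (X.presheaf.stalk P) •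
            (⊤ : Submodule (X.presheaf.stalk P) ((pointSC hP L).X₁.presheaf.stalk P)) :=
      fun t => by_contra fun ht => hno t (span_of_notMem hX1 _ ht)
    have hrange : ∀ b, stalkLin (pointIncl hP L) P b ∈
        maximalIdeal (X.presheaf.stalk P) • (⊤ : Submodule (X.presheaf.stalk P) (L.presheaf.stalk P)) := fun b => by
      refine (stalk_pointSC_eq_zero_iff hL hP _).1 ?_
      rw [← stalkLin_comp, Category.assoc]
      erw [Iso.hom_inv_id_assoc]
      rw [(pointSC hP L).zero]
      show (stalkAb P).map (0 : (pointSC hP L).X₁ ⟶ _) b = 0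
      rw [Functor.map_zero]
      rfl
    have hsq : ∀ t, (L.presheaf.germ ⊤ P trivial ((pointIncl hP L).app ⊤ t) : L.presheaf.stalk P) ∈
        maximalIdeal (X.presheaf.stalk P) ^ 2 • (⊤ : Submodule (X.presheaf.stalk P) (L.presheaf.stalk P)) := fun t => by
      rw [← hgerm, pow_two, Submodule.mul_smul]
      have key : ∀ b ∈ maximalIdeal (X.presheaf.stalk P) •
          (⊤ : Submodule (X.presheaf.stalk P) ((pointSC hP L).X₁.presheaf.stalk P)),
          stalkLin (pointIncl hP L) P b ∈ maximalIdeal (X.presheaf.stalk P) •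
            (maximalIdeal (X.presheaf.stalk P) • (⊤ : Submodule (X.presheaf.stalk P) (L.presheaf.stalk P))) := fun b hb => by
        induction hb using Submodule.smul_induction_on' with
        | smul r hr b _ => rw [map_smul]; exact Submodule.smul_mem_smul hr (hrange b)
        | add b _ c _ hb hc => rw [map_add]; exact add_mem hb hc
      exact key _ (hall t)
    have hle : maximalIdeal (X.presheaf.stalk P) • (⊤ : Submodule (X.presheaf.stalk P) (L.presheaf.stalk P)) ≤
        maximalIdeal (X.presheaf.stalk P) ^ 2 • (⊤ : Submodule (X.presheaf.stalk P) (L.presheaf.stalk P)) := by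
      intro y hy
      obtain ⟨a, rfl⟩ : ∃ a, stalkLin τ.hom P a = y := ⟨stalkLin τ.inv P y, by
        rw [← stalkLin_comp, τ.inv_hom_id]
        show (stalkAb P).map (𝟙 L) y = y
        rw [CategoryTheory.Functor.map_id]
        rfl⟩
      have ha := htan P hP ((mem_smul_top_congr τ P a).1 hy)
      obtain ⟨u, hu, w, hw, rfl⟩ := Submodule.mem_sup.1 ha
      rw [map_add]
      refine add_mem ?_ (map_mem_smul_top _ _ _ _ hw)
      clear hy ha
      induction hu using Submodule.span_induction with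
      | mem z hz =>
        obtain ⟨c, rfl, hc⟩ := hz
        rw [hgermv]
        obtain ⟨t, ht⟩ := hlift c (by rw [← hgermv]; exact (mem_smul_top_congr τ P _).2 hc)
        rw [← ht]
        exact hsq t
      | zero => rw [map_zero]; exact zero_mem _
      | add z z' _ _ hz hz' => rw [map_add]; exact add_mem hz hz'
      | smul r z _ hz => rw [map_smul]; exact Submodule.smul_mem _ r hz
    obtain ⟨e⟩ := nonempty_stalk_equiv ((isInvertible_iff_isFinLocFreeOfRank_one L).1 hL) P
    haveI : Module.Finite (X.presheaf.stalk P) (L.presheaf.stalk P) := Module.Finite.equiv e.symm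
    have hbot : maximalIdeal (X.presheaf.stalk P) • (⊤ : Submodule (X.presheaf.stalk P) (L.presheaf.stalk P)) = ⊥ := by
      refine Submodule.eq_bot_of_le_smul_of_le_jacobson_bot (maximalIdeal (X.presheaf.stalk P)) _
        (IsNoetherian.noetherian _) ?_ (IsLocalRing.maximalIdeal_le_jacobson _)
      rw [← Submodule.mul_smul, ← pow_two]
      exact hle
    have hm0 : maximalIdeal (X.presheaf.stalk P) = ⊥ := eq_bot_iff.2 fun r hr => by
      have h := congrArg e ((Submodule.eq_bot_iff _).1 hbot _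
        (Submodule.smul_mem_smul hr (show e.symm 1 ∈ (⊤ : Submodule _ _) from trivial)))
      rw [map_smul, LinearEquiv.apply_symm_apply, map_zero] at h
      simpa using congrFun h 0
    have hdim1 := Curve17.ringKrullDim_stalk hdim hP
    rw [ringKrullDim_eq_zero_of_isField (IsLocalRing.isField_iff_maximalIdeal_eq.2 hm0)] at hdim1
    exact zero_ne_one hdim1
  · obtain ⟨c, h1, h2⟩ := hsep' P Q hP hQ hPQ
    obtain ⟨t, ht⟩ := hlift c h1
    refine ⟨t, span_of_notMem hX1 _ fun h => h2 ?_⟩
    rw [← ht, ← hgerm]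
    exact map_mem_smul_top _ _ _ _ h

/-- Let k be an algebraically closed field and X a curve over k (an integral scheme, proper over k, of
dimension one, with all local rings regular), and L an invertible O_X-module. Then L is very ample
(isomorphic to the pullback of O(1) along some closed immersion of X into a projective space P^n_k
over k) if and only if for every two closed points P, Q of X, possibly equal, with ideal sheaves
I_P, I_Q ⊆ O_X, dim_k H^0(X, L ⊗ I_P ⊗ I_Q) = dim_k H^0(X, L) - 2. -/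
theorem result (k : Type u) [Field k] [IsAlgClosed k] (X : Scheme.{u}) [X.Over (Spec (CommRingCat.of k))]
    [IsIntegral X] [IsProper (X ↘ (Spec (CommRingCat.of k)))] (hdim : topologicalKrullDim X = 1)
    (hreg : ∀ x : X, IsRegularLocalRing (X.presheaf.stalk x)) (L : X.Modules) (hL : PicF.IsInvertible L) :
    (∃ (n : ℕ) (i : X ⟶ CohB1.ProjSpace n k), IsClosedImmersion i ∧ i ≫ CohB1.ProjSpace.toSpec n k = (X ↘ (Spec (CommRingCat.of k))) ∧
        Nonempty ((Scheme.Modules.pullback i).obj (Twist.twistProjSpace n k 1) ≅ L)) ↔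
      ∀ (P Q : X) (hP : IsClosed ({P} : Set X)) (hQ : IsClosed ({Q} : Set X)),
        Module.finrank k (Coh.HH X (CohB1.tensorMod L (CohB1.tensorMod (ClSub.idealMod (Scheme.IdealSheafData.vanishingIdeal ⟨{P}, hP⟩)) (ClSub.idealMod (Scheme.IdealSheafData.vanishingIdeal ⟨{Q}, hQ⟩)))) 0) + 2 = Module.finrank k (Coh.HH X L 0) := by
  have hX := VB17.curveLike (k := k) (X := X) hdim
  constructor
  · rintro ⟨n, i, hi, hf, ⟨φ⟩⟩ P Q hP hQ
    obtain ⟨h1, -⟩ := drop_of_closedImmersion hdim hreg hL i hi hf φ P P hP hP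
    obtain ⟨-, h2⟩ := drop_of_closedImmersion hdim hreg hL i hi hf φ P Q hP hQ
    have e1 := (hequiv k (tensorComm (ClSub.idealMod (Scheme.IdealSheafData.vanishingIdeal (⟨{P}, hP⟩ : Closeds X))) L) 0).finrank_eq
    have e2 := (hequiv k (tensorIso (tensorComm (ClSub.idealMod (Scheme.IdealSheafData.vanishingIdeal (⟨{P}, hP⟩ : Closeds X))) L)
      (Iso.refl (ClSub.idealMod (Scheme.IdealSheafData.vanishingIdeal (⟨{Q}, hQ⟩ : Closeds X)))) ≪≫ tensorAssoc _ _ _) 0).finrank_eq
    change Module.finrank k (Coh.HH X (CohB1.tensorMod (ClSub.idealMod (Scheme.IdealSheafData.vanishingIdeal (⟨{P}, hP⟩ : Closeds X))) L) 0) =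
      Module.finrank k (Coh.HH X (CohB1.tensorMod (CohB1.tensorMod (ClSub.idealMod (Scheme.IdealSheafData.vanishingIdeal (⟨{P}, hP⟩ : Closeds X))) L)
        (ClSub.idealMod (Scheme.IdealSheafData.vanishingIdeal (⟨{Q}, hQ⟩ : Closeds X)))) 0) + 1 at h2
    omega
  · intro h
    haveI : JacobsonSpace X := LocallyOfFiniteType.jacobsonSpace (X ↘ Spec (CommRingCat.of k))
    obtain ⟨P, -, hP⟩ := nonempty_inter_closedPoints (Z := (Set.univ : Set X)) Set.univ_nonempty
      isClosed_univ.isLocallyClosed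
    rw [mem_closedPoints_iff] at hP
    have h2 := h P P hP hP
    obtain ⟨i, hi⟩ := hX.exists_closedImmersion hdim hreg hL (n := Module.finrank k (Coh.HH X L 0) - 1) (by omega) h
    exact ⟨_, i, hi⟩

end Groth.Agent.S11331
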