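import Groth.Statements.S11334
-- import your own Groth.Agent.* helpers here
import Groth.Agent.Lib.CurveOm17.Apps
import Groth.Agent.Lib.RegSmooth17.Scheme

set_option autoImplicit false
universe u
open CategoryTheory CategoryTheory.Limits AlgebraicGeometry
open Curves

namespace Groth.Agent.S11334

/-- Let k be an algebraically closed field and X a curve over k (an integral scheme, proper over k, of
dimension one, with all local rings regular), of genus g = dim_k H^1(X, O_X) ≥ 2. Then the canonical
sheaf Ω_{X/k} is generated by its global sections (the canonical linear system has no base points). -/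
theorem result (k : Type u) [Field k] [IsAlgClosed k] (X : Scheme.{u}) [X.Over (Spec (CommRingCat.of k))]
    [IsIntegral X] [IsProper (X ↘ (Spec (CommRingCat.of k)))] (hdim : topologicalKrullDim X = 1)
    (hreg : ∀ x : X, IsRegularLocalRing (X.presheaf.stalk x)) (hg : 2 ≤ Curv2.genus k X) :
    Curv2.IsGloballyGenerated (Omega.sheaf (X ↘ (Spec (CommRingCat.of k)))) := by
  haveI : Smooth (X ↘ Spec (CommRingCat.of k)) :=
    Groth.Agent.RegSmooth17.smooth_of_regular_of_perfectField (X ↘ Spec (CommRingCat.of k)) hreg
  obtain ⟨hX, h0, hbig⟩ := Groth.Agent.VB17.setup (k := k) (X := X) hdim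
  obtain ⟨-, -, -, -, lam, hW⟩ := Groth.Agent.CurveOm17.exists_isDualizing_omega' hdim h0
    (Groth.Agent.Omega12.isUniversal_dOmega (f := X ↘ Spec (CommRingCat.of k)))
  exact Groth.Agent.CurveOm17.isGloballyGenerated_of_genus_pos hX hdim h0 hbig hW (by omega)

end Groth.Agent.S11334
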