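import Groth.Statements.S11335
-- import your own Groth.Agent.* helpers here
import Groth.Agent.Lib.CurveOm17.Hyp
import Groth.Agent.S11331

set_option autoImplicit false
universe u
open CategoryTheory CategoryTheory.Limits AlgebraicGeometry
open Curves

namespace Groth.Agent.S11335

/-- Let k be an algebraically closed field and X a curve over k (an integral scheme, proper over k, of
dimension one, with all local rings regular), of genus g ≥ 2. Then the canonical sheaf Ω_{X/k} is
very ample (isomorphic to the pullback of O(1) along a closed immersion into some P^n_k over k)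
exactly when X carries no g^1_2 (X is not hyperelliptic), a g^1_2 being an invertible module of
degree 2 together with two k-linearly independent global sections. -/
theorem result (k : Type u) [Field k] [IsAlgClosed k] (X : Scheme.{u}) [X.Over (Spec (CommRingCat.of k))]
    [IsIntegral X] [IsProper (X ↘ (Spec (CommRingCat.of k)))] (hdim : topologicalKrullDim X = 1)
    (hreg : ∀ x : X, IsRegularLocalRing (X.presheaf.stalk x)) (hg : 2 ≤ Curv2.genus k X) :
    (∃ (n : ℕ) (i : X ⟶ CohB1.ProjSpace n k), IsClosedImmersion i ∧ i ≫ CohB1.ProjSpace.toSpec n k = (X ↘ (Spec (CommRingCat.of k))) ∧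
        Nonempty ((Scheme.Modules.pullback i).obj (Twist.twistProjSpace n k 1) ≅ (Omega.sheaf (X ↘ (Spec (CommRingCat.of k)))))) ↔
      ¬ (∃ (M : X.Modules) (s : Fin 2 → LinSer.Sect X M), LinSer.IsLinSer k X M 2 1 s) := by
  haveI : Smooth (X ↘ Spec (CommRingCat.of k)) :=
    Groth.Agent.RegSmooth17.smooth_of_regular_of_perfectField (X ↘ Spec (CommRingCat.of k)) hreg
  obtain ⟨hX, h0, hbig⟩ := Groth.Agent.VB17.setup (k := k) (X := X) hdim
  obtain ⟨-, -, hΩi, -, lam, hW⟩ := Groth.Agent.CurveOm17.exists_isDualizing_omega' hdim h0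
    (Groth.Agent.Omega12.isUniversal_dOmega (f := X ↘ Spec (CommRingCat.of k)))
  haveI := hX.like.noetherian
  have hfin : ∀ {L : X.Modules}, PicF.IsInvertible L → Module.Finite k (Coh.HH X L 0) := fun hL =>
    hX.like.fin _ (Groth.Agent.CurveCoh17.isCoh_of_ofRank ((Groth.Agent.M2.isInvertible_iff_isFinLocFreeOfRank_one _).1 hL)) 0
  have hI := fun (P : X) (hP : IsClosed ({P} : Set X)) => Groth.Agent.VB17.pointIdeal_data k (X := X) hdim hP
  obtain ⟨hW0, -, -⟩ := hW.invariants hX h0 hbig
  rw [Groth.Agent.S11331.result k X hdim hreg _ hΩi]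
  constructor
  · rintro hv ⟨M, s, hs⟩
    haveI := hfin hs.1
    have h2 := Groth.Agent.CurveOm17.two_le_h0_of_isLinSer hs
    obtain ⟨P, Q, hP, hQ, ⟨e⟩⟩ := Groth.Agent.CurveOm17.exists_two_points hdim hs.1 hs.2.1 h2
    have hr := Groth.Agent.CurveOm17.h0_twist_pair hX h0 hbig hW hs.1
      (Groth.Agent.M2.isInvertible_tensor (hI P hP).1 (hI Q hQ).1) e hs.2.1
    have := hv P Q hP hQ
    omega
  · intro hno P Q hP hQ
    have hJ := Groth.Agent.M2.isInvertible_tensor (hI P hP).1 (hI Q hQ).1
    obtain ⟨D, hD, ⟨e⟩⟩ := Groth.Agent.M2.exists_inverse hJ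
    have hdD : Curv2.deg k X D 1 = 2 := by
      rw [hX.like.deg_of_tensor_iso hJ hD e, hX.like.deg_tensor_invertible (hI P hP).1 (hI Q hQ).1, (hI P hP).2, (hI Q hQ).2]
      norm_num
    have hr := Groth.Agent.CurveOm17.h0_twist_pair hX h0 hbig hW hD hJ (Groth.Agent.M2.tensorComm _ _ ≪≫ e) hdD
    haveI := hfin hD
    have hle : Module.finrank k (Coh.HH X D 0) ≤ 1 := Nat.le_of_not_lt fun h2 =>
      hno (let ⟨s, hs⟩ := Groth.Agent.CurveOm17.exists_isLinSer hD hdD h2; ⟨D, s, hs⟩)
    have a := hX.like.h0_le_twist_add_one hΩi hP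
    have b := hX.like.h0_le_twist_add_one (Groth.Agent.M2.isInvertible_tensor hΩi (hI P hP).1) hQ
    rw [(Groth.Agent.CurveCoh17.hequiv k (Groth.Agent.M2.tensorAssoc _ _ _) 0).finrank_eq] at b
    omega

end Groth.Agent.S11335
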