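import Groth.Statements.S11336
-- import your own Groth.Agent.* helpers here
import Groth.Agent.Lib.CurveOm17.Apps
import Groth.Agent.Lib.RegSmooth17.Scheme
import Groth.Agent.Lib.CurveCoh17.Clifford

set_option autoImplicit false
universe u
open CategoryTheory CategoryTheory.Limits AlgebraicGeometry
open Curves

namespace Groth.Agent.S11336

/-- Let k be an algebraically closed field and X a curve over k (an integral scheme, proper over k, of
dimension one, with all local rings regular), and L an invertible O_X-module with an inverse M (L ⊗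
M ≅ O_X) such that H^0(X, L) ≠ 0 and H^0(X, Ω_{X/k} ⊗ M) ≠ 0 (L comes from an effective special
divisor D). Then dim |D| ≤ deg D / 2, i.e. 2 (dim_k H^0(X, L) - 1) ≤ deg L, with deg L = χ(L) -
χ(O_X). -/
theorem result (k : Type u) [Field k] [IsAlgClosed k] (X : Scheme.{u}) [X.Over (Spec (CommRingCat.of k))]
    [IsIntegral X] [IsProper (X ↘ (Spec (CommRingCat.of k)))] (hdim : topologicalKrullDim X = 1)
    (hreg : ∀ x : X, IsRegularLocalRing (X.presheaf.stalk x))
    (L M : X.Modules) (hL : PicF.IsInvertible L) (hM : ClSub.IsInverseOf L M)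
    (hs : Nontrivial (Coh.HH X L 0)) (hsp : Nontrivial (Coh.HH X (CohB1.tensorMod (Omega.sheaf (X ↘ (Spec (CommRingCat.of k)))) M) 0)) :
    2 * (Module.finrank k (Coh.HH X L 0) : ℤ) ≤ Curv2.deg k X L 1 + 2 := by
  obtain ⟨e⟩ := hM
  haveI : Smooth (X ↘ Spec (CommRingCat.of k)) :=
    Groth.Agent.RegSmooth17.smooth_of_regular_of_perfectField (X ↘ Spec (CommRingCat.of k)) hreg
  obtain ⟨hX, h0, hbig⟩ := Groth.Agent.VB17.setup (k := k) (X := X) hdim
  obtain ⟨-, -, -, -, lam, hW⟩ := Groth.Agent.CurveOm17.exists_isDualizing_omega' hdim h0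
    (Groth.Agent.Omega12.isUniversal_dOmega (f := X ↘ Spec (CommRingCat.of k)))
  have hMi : PicF.IsInvertible M := Groth.Agent.M2.isInvertible_of_tensor_iso hL (Groth.Agent.M2.tensorComm _ _ ≪≫ e)
  have h1 := hW.finrank_h1 hX h0 hbig hL hMi (Groth.Agent.M2.tensorComm _ _ ≪≫ e)
  haveI := hX.like.noetherian
  have hR := Groth.Agent.CurveCoh17.rkOne_of_invertible hX.like.dim hL
  haveI := hX.like.fin _ hR.coh 1
  haveI := hX.like.fin _ (Groth.Agent.CurveCoh17.isCoh_of_ofRank ((Groth.Agent.M2.isInvertible_iff_isFinLocFreeOfRank_one _).1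
    (Groth.Agent.M2.isInvertible_tensor hW.inv hMi))) 0
  have hne : Nontrivial (Coh.HH X L 1) := Module.finrank_pos_iff.1
    (show 0 < Module.finrank k (Coh.HH X L 1) by rw [h1]; exact Module.finrank_pos)
  have h := hX.like.clifford hR hs hne
  rw [h0] at h
  exact h.trans (by norm_num)

end Groth.Agent.S11336
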