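import Groth.Statements.S11337
-- import your own Groth.Agent.* helpers here
import Groth.Agent.Lib.CurveOm17.CliffordEq
import Groth.Agent.Lib.CurveOm17.AnyField
import Groth.Agent.Lib.Omega12.Universal
import Groth.Agent.Lib.RegSmooth17.Scheme

set_option autoImplicit false
universe u
open CategoryTheory CategoryTheory.Limits AlgebraicGeometry
open Curves

namespace Groth.Agent.S11337

/-- Let k be an algebraically closed field and X a curve over k (an integral scheme, proper over k, of
dimension one, with all local rings regular), and L an invertible O_X-module with an inverse M such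
that H^0(X, L) ≠ 0, H^0(X, Ω_{X/k} ⊗ M) ≠ 0, L is isomorphic neither to O_X nor to Ω_{X/k}, and 2
(dim_k H^0(X, L) - 1) = deg L. Then X is hyperelliptic and L is a multiple of the g^1_2: there is an
invertible module N of degree 2 with two k-linearly independent global sections (a g^1_2) such that
L ≅ N^{⊗ r} with r = dim_k H^0(X, L) - 1. (Only the implication from equality is stated here; the
converse, that on a hyperelliptic curve the effective special multiples of the g^1_2 attain
equality, is not part of this statement.) -/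
theorem result (k : Type u) [Field k] [IsAlgClosed k] (X : Scheme.{u}) [X.Over (Spec (CommRingCat.of k))]
    [IsIntegral X] [IsProper (X ↘ (Spec (CommRingCat.of k)))] (hdim : topologicalKrullDim X = 1)
    (hreg : ∀ x : X, IsRegularLocalRing (X.presheaf.stalk x))
    (L M : X.Modules) (hL : PicF.IsInvertible L) (hM : ClSub.IsInverseOf L M)
    (hs : Nontrivial (Coh.HH X L 0)) (hsp : Nontrivial (Coh.HH X (CohB1.tensorMod (Omega.sheaf (X ↘ (Spec (CommRingCat.of k)))) M) 0))
    (h0 : IsEmpty (L ≅ Coh.structureModule X)) (hK : IsEmpty (L ≅ (Omega.sheaf (X ↘ (Spec (CommRingCat.of k))))))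
    (heq : 2 * (Module.finrank k (Coh.HH X L 0) : ℤ) = Curv2.deg k X L 1 + 2) :
    ∃ (N : X.Modules) (s : Fin 2 → LinSer.Sect X N), LinSer.IsLinSer k X N 2 1 s ∧
      Nonempty (L ≅ CohB1.tensorPow N (Module.finrank k (Coh.HH X L 0) - 1)) := by
  haveI : Smooth (X ↘ Spec (CommRingCat.of k)) :=
    Groth.Agent.RegSmooth17.smooth_of_regular_of_perfectField (X ↘ Spec (CommRingCat.of k)) hreg
  obtain ⟨hX, h0O, hbig⟩ := Groth.Agent.VB17.setup (k := k) (X := X) hdim
  obtain ⟨-, -, hΩ, -, lam, hW⟩ := Groth.Agent.CurveOm17.exists_isDualizing_omega' hdim h0O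
    (Groth.Agent.Omega12.isUniversal_dOmega (f := X ↘ Spec (CommRingCat.of k)))
  obtain ⟨hW0, hW1, hWd⟩ := hW.invariants hX h0O hbig
  haveI := hX.like.noetherian
  obtain ⟨e⟩ := hM
  have hMi : PicF.IsInvertible M := Groth.Agent.M2.isInvertible_of_tensor_iso hL (Groth.Agent.M2.tensorComm _ _ ≪≫ e)
  have hR := Groth.Agent.CurveCoh17.rkOne_of_invertible hX.like.dim hL
  haveI := hX.like.fin L hR.coh 0
  haveI := hX.like.fin L hR.coh 1
  have h1 := hW.finrank_h1 hX h0O hbig hL hMi (Groth.Agent.M2.tensorComm _ _ ≪≫ e)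
  haveI := hX.like.fin _ (Groth.Agent.CurveCoh17.isCoh_of_ofRank ((Groth.Agent.M2.isInvertible_iff_isFinLocFreeOfRank_one _).1
    (Groth.Agent.M2.isInvertible_tensor hW.inv hMi))) 0
  have hne : Nontrivial (Coh.HH X L 1) := (Module.finrank_pos_iff (R := k)).1
    (show 0 < Module.finrank k (Coh.HH X L 1) by rw [h1]; exact Module.finrank_pos)
  have hpos : 0 < Curv2.deg k X L 1 := by
    obtain ⟨hnn, hz⟩ := hX.like.deg_nonneg hR hs
    refine lt_of_le_of_ne hnn fun h => ?_
    obtain ⟨i⟩ := hz h.symm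
    exact h0.elim' i
  have hlt : Curv2.deg k X L 1 < 2 * (Curv2.genus k X : ℤ) - 2 := by
    refine lt_of_le_of_ne ((hW.max L hL hne).trans hWd.le) fun h => ?_
    obtain ⟨i⟩ := Groth.Agent.CurveOm17.nonempty_iso_of_deg_eq hX h0O hbig hW hL h (by omega)
    exact hK.elim' i
  obtain ⟨N, hN, hd, h2⟩ := Groth.Agent.CurveOm17.exists_g12_of_clifford_eq hdim hW hL heq hpos hlt
  haveI := hX.like.fin N (Groth.Agent.CurveCoh17.isCoh_of_ofRank
    ((Groth.Agent.M2.isInvertible_iff_isFinLocFreeOfRank_one _).1 hN)) 0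
  obtain ⟨s, hs'⟩ := Groth.Agent.CurveOm17.exists_isLinSer hN (d := 2) hd h2
  exact ⟨N, s, hs', Groth.Agent.CurveOm17.nonempty_iso_pow_of_clifford_eq hdim hW hL heq hpos hlt hN hd h2⟩

end Groth.Agent.S11337
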