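import Groth.Statements.S11341
-- import your own Groth.Agent.* helpers here
import Groth.Agent.Lib.SurfRR10.Main

set_option linter.style.haveILetI false
set_option backward.isDefEq.respectTransparency false
set_option backward.isDefEq.respectTransparency.types false

set_option autoImplicit false
universe u
open CategoryTheory CategoryTheory.Limits AlgebraicGeometry
open Surf

namespace Groth.Agent.S11341

noncomputable local instance instLawS11341 (Y : Scheme.{u}) : PicGrp.Law Y := M2.law Y

/-- Let X be a surface over an algebraically closed field k (an integral scheme of dimension two with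
all local rings regular, admitting a closed immersion into some P^n_k over k), let W be the
canonical sheaf of X (a second exterior power of the sheaf of differentials Ω_{X/k}), and let C be a
nonsingular curve of genus g on X: an integral closed subscheme of dimension one with all local
rings regular, with ideal sheaf I ⊆ O_X, g = dim_k H^1(C, O_C). Then 2g - 2 = C.(C + K). Writing
(L·M) for the intersection number χ(O_X) - χ(L) - χ(M) + χ(L ⊗ M) of two invertible modules
(packaged as FGA.intNum), C.C = (I·I) and C.K = -(I·W), so the formula reads 2g - 2 = (I·I) - (I·W). -/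
theorem result (k : Type u) [Field k] [IsAlgClosed k] (X : Scheme.{u}) [X.Over (Spec (CommRingCat.of k))]
    [IsIntegral X] (hdim : topologicalKrullDim X = 2) (hreg : ∀ x : X, IsRegularLocalRing (X.presheaf.stalk x))
    (hproj : ∃ (n : ℕ) (ι : X ⟶ CohB1.ProjSpace n k), IsClosedImmersion ι ∧ ι ≫ CohB1.ProjSpace.toSpec n k = (X ↘ (Spec (CommRingCat.of k))))
    (W : X.Modules) (hW : ExtPow.IsExtPow 2 (Omega.sheaf (X ↘ (Spec (CommRingCat.of k)))) W)
    (C : Scheme.{u}) (i : C ⟶ X) [IsClosedImmersion i] [IsIntegral C] (hC : topologicalKrullDim C = 1)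
    (hCreg : ∀ c : C, IsRegularLocalRing (C.presheaf.stalk c)) :
    letI : C.Over (Spec (CommRingCat.of k)) := ⟨i ≫ (X ↘ (Spec (CommRingCat.of k)))⟩
    2 * (Curv2.genus k C : ℤ) - 2 =
      FGA.intNum k X 2 ![ClSub.idealMod i.ker, ClSub.idealMod i.ker] (Coh.structureModule X) - FGA.intNum k X 2 ![ClSub.idealMod i.ker, W] (Coh.structureModule X) := by
  obtain ⟨n, ι, hι1, hι⟩ := hproj
  haveI := hι1
  haveI := NumPoly18.isProper_of_closedImmersion ι hι
  have hd : topologicalKrullDim X ≤ ((2 : ℕ) : WithBot ℕ∞) := by rw [hdim]; rfl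
  haveI : Smooth (X ↘ Spec (CommRingCat.of k)) :=
    RegSmooth17.smooth_of_regular_of_perfectField (X ↘ Spec (CommRingCat.of k)) hreg
  have hWi : PicF.IsInvertible W :=
    Wedge2.isInvertible_top ((OmegaVar13.main (Omega12.isUniversal_dOmega (f := X ↘ Spec (CommRingCat.of k)))
      (n := 2) (by rw [hdim]; rfl)).2 hreg) hW
  letI : C.Over (Spec (CommRingCat.of k)) := ⟨i ≫ (X ↘ Spec (CommRingCat.of k))⟩
  haveI : IsProper (C ↘ Spec (CommRingCat.of k)) := inferInstanceAs (IsProper (i ≫ (X ↘ Spec (CommRingCat.of k))))
  haveI : Smooth (C ↘ Spec (CommRingCat.of k)) :=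
    RegSmooth17.smooth_of_regular_of_perfectField (C ↘ Spec (CommRingCat.of k)) hCreg
  haveI : IsNoetherian X := CohFound.isNoetherian_of_isProper (X ↘ Spec (CommRingCat.of k))
  have hI : BlowUp.IsEffCartierIdeal i.ker := by
    haveI : IsIntegral i.ker.subscheme := IsIntegral.of_isIso i.toImage
    refine S1684.result X i.ker ?_ fun x _ => ⟨haveI := hreg x; RegLoc.isDomain _,
      haveI := hreg x; RegLoc.ufd_of_isRegularLocalRing _⟩
    have hgen : i.ker.subschemeι (genericPoint ↥i.ker.subscheme) = i (genericPoint C) := by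
      have h1 : i.toImage (genericPoint C) = genericPoint ↥i.ker.subscheme := genericPoint_eq_of_isOpenImmersion i.toImage
      rw [← h1, ← Scheme.Hom.comp_apply]
      exact congrArg (fun g => g (genericPoint C)) (Scheme.Hom.toImage_imageι i)
    rw [hgen]
    have hd2 : topologicalKrullDim X = ((2 : ℕ) : WithBot ℕ∞) := by rw [hdim]; rfl
    have h := NumPoly18.ringKrullDim_stalk_of_sdim (k := k) hd2 (i (genericPoint C))
    have h1 : topologicalKrullDim (closure ({i (genericPoint C)} : Set X)) = 1 := by
      have hcl : closure ({i (genericPoint C)} : Set X) = Set.range i := by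
        rw [← Set.image_singleton, i.isClosedEmbedding.closure_image_eq, genericPoint_closure, Set.image_univ]
      rw [hcl, ← hC]
      exact (IsHomeomorph.topologicalKrullDim_eq i.isEmbedding.toHomeomorph i.isEmbedding.toHomeomorph.isHomeomorph).symm
    rw [NumPoly18.sdim_eq_one h1] at h
    generalize ringKrullDim (X.presheaf.stalk (i (genericPoint C))) = a at h ⊢
    cases a with
    | bot => simp at h
    | coe a =>
      have h' : a + 1 = 2 := WithBot.coe_injective (by exact h)
      cases a using ENat.recTopCoe with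
      | top => simp at h'
      | coe a =>
        have : a + 1 = 2 := ENat.natCast_inj.1 (by push_cast; exact h')
        obtain rfl : a = 1 := by omega
        rfl
  have hIinv := M2.isInvertible_idealMod _ hI
  obtain ⟨N, hN, ⟨e⟩⟩ := M2.exists_inverse hIinv
  have hinv : ClSub.IsInverseOf N (ClSub.idealMod i.ker) := ⟨M2.tensorComm _ _ ≪≫ e⟩
  have ha := SurfRR10.deg_adjunction hreg hdim hC i rfl hI hN hinv hW hWi
  have h1 := (PicGrp.cls_mul_cls_eq_one_iff hN hIinv).2 hinv
  have hs : ∀ c : PicLoc.PicSet X, SymSq10.sdot k (PicGrp.cls _ hIinv) c = - HypSq10.deg k (Abel10.pc i c) := fun c => by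
    have h2 := SymSq10.sdot_mul (k := k) hd (PicGrp.cls N hN) (PicGrp.cls _ hIinv) c
    rw [h1, SymSq10.sdot_one_left, SurfRR10.sdot_curve i rfl hI hN hinv hd] at h2
    linarith
  rw [SymSq10.intNum_eq' hd hIinv hIinv, SymSq10.intNum_eq' hd hIinv hWi, hs, hs,
    show PicGrp.cls _ hIinv = (PicGrp.cls N hN)⁻¹ from eq_inv_of_mul_eq_one_right h1, map_inv, HypSq10.deg_inv hC]
  rw [HypSq10.chi_eq hC, HypSq10.deg_one (k := k) hC] at ha
  linarith

end Groth.Agent.S11341
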