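import Groth.Statements.S11342
-- import your own Groth.Agent.* helpers here
import Groth.Agent.Lib.SurfRR10.Main

set_option linter.style.haveILetI false
set_option backward.isDefEq.respectTransparency false
set_option backward.isDefEq.respectTransparency.types false

set_option autoImplicit false
universe u
open CategoryTheory CategoryTheory.Limits AlgebraicGeometry
open Surf

namespace Groth.Agent.S11342

noncomputable local instance instLawS11342 (Y : Scheme.{u}) : PicGrp.Law Y := M2.law Y

/-- Let X be a surface over an algebraically closed field k (an integral scheme of dimension two with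
all local rings regular, admitting a closed immersion into some P^n_k over k), W its canonical sheaf
(a second exterior power of Ω_{X/k}), and L an invertible O_X-module (the sheaf of a divisor D).
Then l(D) - s(D) + l(K - D) = (1/2) D.(D - K) + 1 + p_a; since the left side is χ(L) by Serre
duality and 1 + p_a = χ(O_X), this reads 2 χ(L) = (L·L) - (L·W) + 2 χ(O_X), where (L·M) = χ(O_X) -
χ(L) - χ(M) + χ(L ⊗ M) is the intersection number (packaged as FGA.intNum). -/
theorem result (k : Type u) [Field k] [IsAlgClosed k] (X : Scheme.{u}) [X.Over (Spec (CommRingCat.of k))]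
    [IsIntegral X] (hdim : topologicalKrullDim X = 2) (hreg : ∀ x : X, IsRegularLocalRing (X.presheaf.stalk x))
    (hproj : ∃ (n : ℕ) (ι : X ⟶ CohB1.ProjSpace n k), IsClosedImmersion ι ∧ ι ≫ CohB1.ProjSpace.toSpec n k = (X ↘ (Spec (CommRingCat.of k))))
    (W : X.Modules) (hW : ExtPow.IsExtPow 2 (Omega.sheaf (X ↘ (Spec (CommRingCat.of k)))) W)
    (L : X.Modules) (hL : PicF.IsInvertible L) :
    2 * Curv2.euler k X L = FGA.intNum k X 2 ![L, L] (Coh.structureModule X) - FGA.intNum k X 2 ![L, W] (Coh.structureModule X) + 2 * Curv2.euler k X (Coh.structureModule X) := by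
  obtain ⟨n, ι, hι1, hι⟩ := hproj
  haveI := hι1
  haveI := NumPoly18.isProper_of_closedImmersion ι hι
  have hd : topologicalKrullDim X ≤ ((2 : ℕ) : WithBot ℕ∞) := by rw [hdim]; rfl
  haveI : Smooth (X ↘ Spec (CommRingCat.of k)) :=
    RegSmooth17.smooth_of_regular_of_perfectField (X ↘ Spec (CommRingCat.of k)) hreg
  have hWi : PicF.IsInvertible W :=
    Wedge2.isInvertible_top ((OmegaVar13.main (Omega12.isUniversal_dOmega (f := X ↘ Spec (CommRingCat.of k)))
      (n := 2) (by rw [hdim]; rfl)).2 hreg) hW
  have h := SurfRR10.phi_eq_zero hreg hdim hW hWi (NumPoly18.isAmple_pullback_twistProjSpace ι) (PicGrp.cls L hL)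
  rw [SymSq10.intNum_eq' hd hL hL, SymSq10.intNum_eq' hd hL hWi, HypSq10.euler_eq_chi hL, ← HypSq10.chi_one]
  rw [SurfRR10.phi] at h
  linarith

end Groth.Agent.S11342
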