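import Groth.Statements.S11343
import Groth.Agent.Lib.SurfRR10.Curves
import Groth.Agent.Lib.Wedge2.Exists

set_option autoImplicit false
set_option linter.style.haveILetI false
set_option maxHeartbeats 2000000
set_option backward.isDefEq.respectTransparency false
set_option backward.isDefEq.respectTransparency.types false
universe u
open CategoryTheory CategoryTheory.Limits AlgebraicGeometry
open Surf

namespace Groth.Agent.S11343

noncomputable local instance instLawS11343 (Y : Scheme.{u}) : PicGrp.Law Y := M2.law Y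

/-- Let X be a surface over an algebraically closed field k (an integral scheme of dimension two with
all local rings (regular (k := k)), admitting a closed immersion into some P^n_k over k), and H an ample
invertible O_X-module. Some integer n₀ has the property that H^2(X, L) = 0 for every invertible
module L with (L·H) > n₀; here (L·H) = χ(O_X) - χ(L) - χ(H) + χ(L ⊗ H) is the intersection number
(packaged as FGA.intNum). -/
theorem result (k : Type u) [Field k] [IsAlgClosed k] (X : Scheme.{u}) [X.Over (Spec (CommRingCat.of k))]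
    [IsIntegral X] (hdim : topologicalKrullDim X = 2) (hreg : ∀ x : X, IsRegularLocalRing (X.presheaf.stalk x))
    (hproj : ∃ (n : ℕ) (ι : X ⟶ CohB1.ProjSpace n k), IsClosedImmersion ι ∧ ι ≫ CohB1.ProjSpace.toSpec n k = (X ↘ (Spec (CommRingCat.of k))))
    (H : X.Modules) (hH : CohB1.IsAmple H) :
    ∃ n₀ : ℤ, ∀ L : X.Modules, PicF.IsInvertible L → n₀ < FGA.intNum k X 2 ![L, H] (Coh.structureModule X) → Subsingleton (Coh.HH X L 2) := by
  obtain ⟨r, ι, hι1, hι⟩ := hproj
  haveI := hι1
  haveI := NumPoly18.isProper_of_closedImmersion ι hι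
  haveI : Smooth (X ↘ Spec (CommRingCat.of k)) :=
    RegSmooth17.smooth_of_regular_of_perfectField (X ↘ Spec (CommRingCat.of k)) hreg
  have hd := SurfRR10.dim_eq (k := k) hdim
  have hΩ : FlatMod.IsFinLocFreeOfRank 2 (Omega.sheaf (X ↘ Spec (CommRingCat.of k))) :=
    (OmegaVar13.main (Omega12.isUniversal_dOmega (f := X ↘ Spec (CommRingCat.of k)))
      (n := 2) (by rw [hdim]; rfl)).2 hreg
  haveI : Coh.IsQCoh (Omega.sheaf (X ↘ Spec (CommRingCat.of k))) :=
    M2.isQCoh_of_isFinLocFree (M2.isFinLocFree_of_ofRank hΩ)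
  have hW := Wedge2.isExtPow_extMod 2 (Omega.sheaf (X ↘ Spec (CommRingCat.of k)))
  have hWi := SurfRR10.isInvertible_canonical hdim hW
  refine ⟨SymSq10.sdot k (PicGrp.cls _ hWi) (PicGrp.cls H hH.1), fun L hL hlt => ?_⟩
  rw [SymSq10.intNum_eq' hd.le hL hH.1] at hlt
  haveI : IsNoetherian X := CohFound.isNoetherian_of_isProper (X ↘ Spec (CommRingCat.of k))
  haveI : Module.Finite k (Coh.HH X L 2) := CohFound.finite_HH_of_isProper _ (Snapper.isCoh_of_isInvertible hL) 2
  refine (Module.finrank_zero_iff (R := k)).1 ?_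
  rw [← (CurveCoh17.hequiv k (HypSq10.rep_cls hL).some 2).finrank_eq]
  refine (SurfRR10.finrank_duality hdim hW hWi (PicGrp.cls L hL) (p := 2) le_rfl).trans
    (SurfRR10.subsingleton_h0_of_neg (k := k) hdim hH _ ?_)
  rw [SymSq10.sdot_mul hd.le, SurfRR10.sdot_inv_left (k := k) hdim]
  omega

end Groth.Agent.S11343
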