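import Groth.Statements.S11345
import Groth.Agent.Lib.BlowCanon10.Basic
import Groth.Agent.S0816
import Groth.Agent.S15540
import Groth.Agent.Lib.ExtFil4.Uniq
import Groth.Agent.Lib.FormalH7.Nbhd
import Groth.Agent.Lib.FormalH7.Power
import Groth.Agent.Lib.AffCompl.Ample
import Groth.Agent.Lib.HdgLef1.Decomp
import Groth.Agent.Lib.Index22.Index

set_option autoImplicit false
set_option maxHeartbeats 1000000
set_option linter.style.haveILetI false
set_option backward.isDefEq.respectTransparency false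
set_option backward.isDefEq.respectTransparency.types false
universe u
open CategoryTheory CategoryTheory.Limits AlgebraicGeometry
open Surf

namespace Groth.Agent.S11345

open TopologicalSpace
open Groth.Agent Groth.Agent.NumConn10
open Groth.Agent.SymSq10 (sdot)
open Groth.Agent.HypSq10 (chi rep rep_inv cls_rep)
open Groth.Agent.NumPoly18 (ptIdeal)

noncomputable local instance instLawCanon (Y : Scheme.{u}) : PicGrp.Law Y := M2.law Y

theorem isIso_idealModι_restrict {X : Scheme.{u}} (I : X.IdealSheafData) (U : X.Opens)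
    (h : Disjoint (U : Set X) (I.support : Set X)) :
    IsIso ((Scheme.Modules.restrictFunctor U.ι).map (ClSub.idealModι I)) := by
  let R := Scheme.Modules.restrictFunctor U.ι
  have hz : IsZero (R.obj (ClSub.quotMod I)) := FormalH7.isZero_restrict_of_disjoint_support U fun x hxU hx =>
    Set.disjoint_left.1 h hxU (NumPoly18.support_quotMod_subset I hx)
  have hS := (M2.shortExact_idealMod I).map_of_exact R
  haveI : Mono (R.map (ClSub.idealModι I)) := hS.mono_f
  haveI : Epi (R.map (ClSub.idealModι I)) := hS.exact.epi_f (hz.eq_of_tgt _ _)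
  exact isIso_of_mono_of_epi _

/-- An invertible module trivial off an irreducible divisor is a power of its ideal. -/
theorem exists_cls_eq_zpow {k : Type u} [Field k] [IsAlgClosed k] {X : Scheme.{u}} [X.Over (Spec (CommRingCat.of k))]
    [IsProper (X ↘ Spec (CommRingCat.of k))] [Smooth (X ↘ Spec (CommRingCat.of k))] [IsIntegral X]
    (hdim : topologicalKrullDim X = 2) {η : X} (hη : topologicalKrullDim (closure ({η} : Set X)) = 1)
    {E : X.IdealSheafData} (hEc : BlowUp.IsEffCartierIdeal E) (hE : E = ptIdeal η)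
    {M : X.Modules} (hM : PicF.IsInvertible M)
    (e : (Scheme.Modules.restrictFunctor (Scheme.Opens.ι E.support.compl)).obj M ≅
      (Scheme.Modules.restrictFunctor (Scheme.Opens.ι E.support.compl)).obj (Coh.structureModule X)) :
    ∃ n : ℤ, PicGrp.cls M hM = icl hEc ^ n := by
  haveI : IsNoetherian X := CohFound.isNoetherian_of_isProper (X ↘ Spec (CommRingCat.of k))
  let U : X.Opens := E.support.compl
  let R := Scheme.Modules.restrictFunctor U.ι
  obtain ⟨F', ι, φ', hι, hF', hιiso, hφ'⟩ := Groth.Agent.S0816.result X (Coh.structureModule X) M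
    (M1.isCoh_structureModule X) (Snapper.isCoh_of_isInvertible hM) U e.inv
  haveI := hι
  haveI := hF'.1
  let J := SecDiv.ofMono ι
  obtain ⟨eJ⟩ := SecDiv.nonempty_iso_idealMod ι
  have hJ : (J.support : Set X) ⊆ (E.support : Set X) := by
    intro z hz
    by_contra hzU
    obtain ⟨W, hW, hzW, hWU⟩ := exists_isAffineOpen_mem_and_subset (U := U) (show z ∈ U from hzU)
    have htop : J.ideal ⟨W, hW⟩ = ⊤ := by
      haveI := hιiso
      have himg : U.ι ''ᵁ (U.ι ⁻¹ᵁ W) = W := by
        rw [U.ι.image_preimage_eq_opensRange_inf, Scheme.Opens.opensRange_ι]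
        exact inf_eq_right.2 hWU
      haveI hb' : IsIso (((R.map ι)).app (U.ι ⁻¹ᵁ W)) := inferInstance
      have hb : Function.Surjective (ι.app W) := by
        have h1 : Function.Surjective (ι.app (U.ι ''ᵁ (U.ι ⁻¹ᵁ W))) :=
          (ConcreteCategory.bijective_of_isIso (((R.map ι)).app (U.ι ⁻¹ᵁ W))).2
        rw [himg] at h1
        exact h1
      refine (Ideal.eq_top_iff_one _).2 ?_
      obtain ⟨a, ha⟩ := hb (1 : Γ(X, W))
      exact ⟨a, ha⟩
    rw [SetLike.mem_coe, Scheme.IdealSheafData.mem_support_iff_of_mem (U := ⟨W, hW⟩) hzW, Scheme.mem_zeroLocus_iff] at hz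
    refine hz 1 (by rw [htop]; trivial) ?_
    rw [Scheme.basicOpen_of_isUnit _ isUnit_one]
    exact hzW
  obtain ⟨n, hn⟩ := FormalH7.exists_pow_le_of_support_le E J hJ
  let K := E ^ (n + 1)
  have hKc : BlowUp.IsEffCartierIdeal K := BlowUpExist.isEffCartierIdeal_pow hEc _
  let T : ClSub.idealMod K ⟶ M := HdgLef1.idealMap hn ≫ eJ.inv ≫ φ'
  have hTiso : IsIso (R.map T) := by
    haveI := hιiso
    haveI : IsIso (R.map φ') := by rw [hφ']; infer_instance
    haveI h1 : IsIso (R.map (ClSub.idealModι J)) := isIso_idealModι_restrict J U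
      (Set.disjoint_left.2 fun z hzU hzJ => hzU (hJ hzJ))
    haveI h2 : IsIso (R.map (ClSub.idealModι K)) := isIso_idealModι_restrict K U
      (Set.disjoint_left.2 fun z hzU hzK => hzU (by rwa [Scheme.IdealSheafData.support_pow _ _ (Nat.succ_ne_zero n)] at hzK))
    haveI h3 : IsIso (R.map (HdgLef1.idealMap hn)) := by
      have h : R.map (HdgLef1.idealMap hn) ≫ R.map (ClSub.idealModι J) = R.map (ClSub.idealModι K) := by
        rw [← Functor.map_comp]
        exact congrArg R.map (kernel.lift_ι _ _ _)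
      exact IsIso.of_isIso_fac_right h
    show IsIso (R.map (HdgLef1.idealMap hn ≫ eJ.inv ≫ φ'))
    rw [Functor.map_comp, Functor.map_comp]
    infer_instance
  obtain ⟨V, hV, ⟨eV⟩⟩ := M2.exists_inverse (M2.isInvertible_idealMod K hKc)
  let N := CohB1.tensorMod M V
  have hN : PicF.IsInvertible N := M2.isInvertible_tensor hM hV
  let σ : Coh.structureModule X ⟶ N := eV.inv ≫ M2.tensorMap T (𝟙 V)
  have hσ : IsIso (R.map σ) := by
    haveI := hTiso
    haveI : IsIso (R.map (M2.tensorMap T (𝟙 V))) := by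
      have h := RHom.restrictTensorIso_natural U.ι T (𝟙 V)
      have e2 : R.map (M2.tensorMap T (𝟙 V)) = (M2.restrictTensorIso U.ι _ _).hom ≫
          M2.tensorMap (R.map T) (R.map (𝟙 V)) ≫ (M2.restrictTensorIso U.ι _ _).inv := by
        rw [← Category.assoc, ← h, Category.assoc, Iso.hom_inv_id, Category.comp_id]
      haveI : IsIso (M2.tensorMap (R.map T) (R.map (𝟙 V))) :=
        (M2.tensorIso (asIso (R.map T)) (asIso (R.map (𝟙 V)))).isIso_hom
      rw [e2]
      infer_instance
    show IsIso (R.map (eV.inv ≫ M2.tensorMap T (𝟙 V)))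
    rw [Functor.map_comp]
    infer_instance
  have hle : U ≤ CohB1.genLocus N σ := Twist.le_genLocus hσ
  have hgen : genericPoint X ∈ U := by
    show genericPoint X ∉ (E.support : Set X)
    rw [hE, Scheme.IdealSheafData.coe_support_vanishingIdeal]
    intro h
    have heq : genericPoint X = η :=
      ((genericPoint_specializes η).antisymm (specializes_iff_mem_closure.2 h)).eq
    rw [← heq, genericPoint_closure, (Homeomorph.Set.univ X).isHomeomorph.topologicalKrullDim_eq, hdim] at hη
    exact absurd hη (by decide)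
  have hσ0 : σ ≠ 0 := fun h => by
    have hη' := hle hgen
    rw [h, Amp.mem_genLocus_iff hN, show Amp.gval (0 : Coh.structureModule X ⟶ N) = 0 from rfl, Amp.gm, map_zero] at hη'
    exact one_ne_zero (hη'.1 ((smul_zero (1 : X.presheaf.stalk (genericPoint X))).trans (smul_zero 0).symm))
  have hZc := IrrDiv13.isEffCartier_zeroScheme hN σ hσ0
  obtain ⟨N', hN', ⟨eN⟩⟩ := M2.exists_inverse hN
  obtain ⟨eZ⟩ := IrrDiv13.nonempty_inverse_iso_zeroScheme hN hN' eN σ hσ0
  have hcN : PicGrp.cls N hN * icl hZc = 1 :=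
    (PicGrp.cls_mul_cls_eq_one_iff hN (M2.isInvertible_idealMod _ hZc)).2 ⟨M2.tensorIso (Iso.refl N) eZ.symm ≪≫ eN⟩
  obtain ⟨s, hs, -, hcl, hsupp⟩ := exists_multiset (k := k) hdim (PicF2.zeroScheme N σ) hZc
  have hall : ∀ ξ ∈ s, ξ = η := by
    intro ξ hξ
    have hm : ξ ∈ ((PicF2.zeroScheme N σ).support : Set X) := (hsupp ξ).2 ⟨ξ, hξ, specializes_rfl⟩
    rw [AffCompl.coe_support_zeroScheme hN σ] at hm
    have hm' : ξ ∈ (E.support : Set X) := by_contra fun h => hm (hle h)
    rw [hE, Scheme.IdealSheafData.coe_support_vanishingIdeal] at hm'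
    by_contra hne
    have h1 := VarDim.sdim_lt_of_specializes (X ↘ Spec (CommRingCat.of k)) (specializes_iff_mem_closure.2 hm') (Ne.symm hne)
    have hx1 := hs ξ hξ
    rw [VarDim.dim_closure_singleton (X ↘ Spec (CommRingCat.of k))] at hη hx1
    have a1 : VarDim.sdim (X ↘ Spec (CommRingCat.of k)) η = 1 := by exact_mod_cast hη
    have a2 : VarDim.sdim (X ↘ Spec (CommRingCat.of k)) ξ = 1 := by exact_mod_cast hx1
    rw [a1, a2] at h1
    exact lt_irrefl _ h1
  have hclZ : icl hZc = icl hEc ^ s.card := by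
    rw [hcl hZc, Multiset.eq_replicate_card.2 hall, Multiset.map_replicate, Multiset.prod_replicate,
      Multiset.card_replicate, icl_congr hEc (cartier_pt (k := k) hdim hη) hE, icl_pt' (k := k) hdim hη, inv_pow]
  have hclV : PicGrp.cls V hV = (icl hEc ^ (n + 1))⁻¹ := by
    rw [Index22.cls_inverse (M2.isInvertible_idealMod K hKc) hV ⟨eV⟩,
      show PicGrp.cls (ClSub.idealMod K) (M2.isInvertible_idealMod K hKc) = icl hKc from rfl,
      icl_pow (k := k) hdim hEc (n + 1) hKc]
  have hclN : PicGrp.cls N hN = PicGrp.cls M hM * PicGrp.cls V hV := (AlgEquiv22.cls_tensor hM hV).symm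
  rw [hclN, hclV, hclZ, mul_eq_one_iff_eq_inv, mul_inv_eq_iff_eq_mul, ← zpow_natCast, ← zpow_natCast, ← zpow_neg,
    ← zpow_add] at hcN
  exact ⟨_, hcN⟩

/-- Let X be a surface over an algebraically closed field k (an integral scheme of dimension two with
all local rings regular, admitting a closed immersion into some P^n_k over k), P a closed point of X
with ideal sheaf m_P, and π : X' → X the monoidal transformation with centre P (a blowing up of X in
m_P, characterised by its universal property), with exceptional curve E of ideal I_E = m_P · O_{X'};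
let W and W' be canonical sheaves of X and X' (second exterior powers of the sheaves of
differentials), X' being again a surface of the same kind. Then K_{X'} = π^* K_X + E in Pic X', i.e.
W' ⊗ I_E ≅ π^* W (existence of an isomorphism), and K_{X'}^2 = K_X^2 - 1, intersection numbers being
(L·M) = χ(O) - χ(L) - χ(M) + χ(L ⊗ M) (packaged as FGA.intNum). -/
theorem result (k : Type u) [Field k] [IsAlgClosed k] (X : Scheme.{u}) [X.Over (Spec (CommRingCat.of k))]
    [IsIntegral X] (hdim : topologicalKrullDim X = 2) (hreg : ∀ x : X, IsRegularLocalRing (X.presheaf.stalk x))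
    (hproj : ∃ (n : ℕ) (ι : X ⟶ CohB1.ProjSpace n k), IsClosedImmersion ι ∧ ι ≫ CohB1.ProjSpace.toSpec n k = (X ↘ (Spec (CommRingCat.of k))))
    (W : X.Modules) (hW : ExtPow.IsExtPow 2 (Omega.sheaf (X ↘ (Spec (CommRingCat.of k)))) W)
    (P : X) (hP : IsClosed ({P} : Set X))
    (X' : Scheme.{u}) (π : X' ⟶ X) (hπ : BlowUp.IsBlowUp π (Scheme.IdealSheafData.vanishingIdeal ⟨{P}, hP⟩))
    [IsIntegral X'] (hdim' : topologicalKrullDim X' = 2) (hreg' : ∀ x : X', IsRegularLocalRing (X'.presheaf.stalk x))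
    (hproj' : ∃ (n : ℕ) (ι : X' ⟶ CohB1.ProjSpace n k), IsClosedImmersion ι ∧ ι ≫ CohB1.ProjSpace.toSpec n k = π ≫ (X ↘ (Spec (CommRingCat.of k))))
    (W' : X'.Modules) (hW' : ExtPow.IsExtPow 2 (Omega.sheaf (π ≫ (X ↘ (Spec (CommRingCat.of k))))) W') :
    letI : X'.Over (Spec (CommRingCat.of k)) := ⟨π ≫ (X ↘ (Spec (CommRingCat.of k)))⟩
    Nonempty (CohB1.tensorMod W' (ClSub.idealMod (BlowUp.exceptional π (Scheme.IdealSheafData.vanishingIdeal ⟨{P}, hP⟩))) ≅
        (Scheme.Modules.pullback π).obj W) ∧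
      FGA.intNum k X' 2 ![W', W'] (Coh.structureModule X') = FGA.intNum k X 2 ![W, W] (Coh.structureModule X) - 1 := by
  classical
  letI : X'.Over (Spec (CommRingCat.of k)) := ⟨π ≫ (X ↘ (Spec (CommRingCat.of k)))⟩
  haveI hXp : IsProper (X ↘ Spec (CommRingCat.of k)) := by
    obtain ⟨n, ι, hι, e⟩ := hproj
    haveI := hι
    rw [← e]
    infer_instance
  haveI hX'p : IsProper (X' ↘ Spec (CommRingCat.of k)) := by
    obtain ⟨n, ι, hι, e⟩ := hproj'
    haveI := hι
    show IsProper (π ≫ (X ↘ Spec (CommRingCat.of k)))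
    rw [← e]
    infer_instance
  haveI : IsNoetherian X := CohFound.isNoetherian_of_isProper (X ↘ Spec (CommRingCat.of k))
  haveI : IsNoetherian X' := CohFound.isNoetherian_of_isProper (X' ↘ Spec (CommRingCat.of k))
  haveI : Smooth (X ↘ Spec (CommRingCat.of k)) :=
    RegSmooth17.smooth_of_regular_of_perfectField (X ↘ Spec (CommRingCat.of k)) hreg
  haveI : Smooth (X' ↘ Spec (CommRingCat.of k)) :=
    RegSmooth17.smooth_of_regular_of_perfectField (X' ↘ Spec (CommRingCat.of k)) hreg'
  have hd := SurfRR10.dim_eq (k := k) (X := X) hdim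
  have hd' := SurfRR10.dim_eq (k := k) (X := X') hdim'
  haveI := hreg P
  have hirr : ∀ Z ∈ irreducibleComponents (X : Type u), topologicalKrullDim Z = 2 := by
    intro Z hZ
    rw [irreducibleComponents_eq_singleton] at hZ
    rw [Set.mem_singleton_iff.1 hZ, (Homeomorph.Set.univ X).isHomeomorph.topologicalKrullDim_eq, hdim]
  have hst := BlowInt10.ringKrullDim_stalk_of_components (k := k) hirr hP
  let J := PointBlowUp.ptIdeal hP
  let E := BlowUp.exceptional π J
  obtain ⟨e, he, -⟩ := PointBlowUp.exceptional_point hP hst π hπ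
  haveI := RegExt.isIntegral_projSpace 1 (X.residueField P)
  haveI : Nonempty E.subscheme := ⟨e.hom (genericPoint _)⟩
  haveI : IsIntegral E.subscheme := isIntegral_of_isOpenImmersion e.inv
  let η := E.subschemeι (genericPoint E.subscheme)
  have hr : Set.range E.subschemeι = closure {η} := by
    have h := ((genericPoint_spec E.subscheme).image E.subschemeι.continuous).def
    rw [Set.image_univ, E.subschemeι.isClosedEmbedding.isClosed_range.closure_eq] at h
    exact h.symm
  have hE : E = ptIdeal η := by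
    refine (Scheme.IdealSheafData.ker_subschemeι E).symm.trans ?_
    rw [SchImage.ker_eq_vanishingIdeal E.subschemeι]
    congr 1
    refine Closeds.ext ?_
    show closure (Set.range E.subschemeι) = closure {η}
    rw [hr, closure_closure]
  have hdE : topologicalKrullDim E.subscheme = 1 := by
    rw [← e.hom.homeomorph.isHomeomorph.topologicalKrullDim_eq, Groth.Agent.S10829.result]
    rfl
  have hη : topologicalKrullDim (closure ({η} : Set X')) = 1 := by
    rw [← hr, ← E.subschemeι.isClosedEmbedding.isEmbedding.toHomeomorph.isHomeomorph.topologicalKrullDim_eq, hdE]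
  have hEc : BlowUp.IsEffCartierIdeal E := hπ.1
  have hWi := SurfRR10.isInvertible_canonical (k := k) hdim hW
  have hW'i := SurfRR10.isInvertible_canonical (k := k) (X := X') hdim' hW'
  let W₀ := (Scheme.Modules.pullback π).obj W
  have hW₀ : PicF.IsInvertible W₀ := Twist.isInvertible_pullback π hWi
  -- the two agree off the exceptional curve
  let U : X'.Opens := E.support.compl
  let R := Scheme.Modules.restrictFunctor U.ι
  obtain ⟨eU⟩ : Nonempty (R.obj W' ≅ R.obj W₀) := by
    have hsub : U = π ⁻¹ᵁ (⟨{P}ᶜ, hP.isOpen_compl⟩ : X.Opens) := by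
      ext z
      show ¬ z ∈ E.support ↔ π z ≠ P
      rw [PointBlowUp.mem_support_exceptional hP π z]
    haveI : IsOpenImmersion (U.ι ≫ π) := by
      rw [hsub, ← morphismRestrict_ι]
      haveI := PointBlowUp.isIso_restrict hP hπ
      infer_instance
    have h1 := Groth.Agent.S15540.result X' (Spec (CommRingCat.of k)) U.toScheme (Spec (CommRingCat.of k))
      (π ≫ (X ↘ Spec (CommRingCat.of k))) (U.ι ≫ π ≫ (X ↘ Spec (CommRingCat.of k))) U.ι (𝟙 _) (Category.comp_id _).symm
      2 W' hW'
    have h2 := Groth.Agent.S15540.result X (Spec (CommRingCat.of k)) U.toScheme (Spec (CommRingCat.of k))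
      (X ↘ Spec (CommRingCat.of k)) (U.ι ≫ π ≫ (X ↘ Spec (CommRingCat.of k))) (U.ι ≫ π) (𝟙 _)
      (by rw [Category.comp_id, Category.assoc]) 2 W hW
    obtain ⟨i⟩ := ExtFil4.isoExtPow h1 h2
    exact ⟨(Scheme.Modules.restrictFunctorIsoPullback U.ι).app W' ≪≫ i ≪≫
      ((Scheme.Modules.pullbackComp U.ι π).app W).symm ≪≫ ((Scheme.Modules.restrictFunctorIsoPullback U.ι).app W₀).symm⟩
  obtain ⟨V, hV, ⟨eV⟩⟩ := M2.exists_inverse hW₀
  have hM := M2.isInvertible_tensor hW'i hV
  obtain ⟨n, hn⟩ := exists_cls_eq_zpow (k := k) hdim' hη hEc hE hM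
    (M2.restrictTensorIso U.ι W' V ≪≫ M2.tensorIso eU (Iso.refl _) ≪≫ (M2.restrictTensorIso U.ι W₀ V).symm ≪≫
      R.mapIso eV)
  set w := PicGrp.cls W hWi with hw
  set w' := PicGrp.cls W' hW'i with hw'
  set w₀ := PicGrp.cls W₀ hW₀ with hw₀
  set c := icl hEc with hc
  rw [← AlgEquiv22.cls_tensor hW'i hV, Index22.cls_inverse hW₀ hV ⟨eV⟩, ← hw', ← hw₀,
    mul_inv_eq_iff_eq_mul] at hn
  obtain ⟨h00, hce, hee⟩ := Groth.Agent.S7868.result k X hirr hreg P hP X' π hπ W W hWi hWi
  rw [CurveCoh17.finrank_residueField (k := k) hP] at hee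
  rw [SymSq10.intNum_eq' hd'.le (M2.isInvertible_idealMod _ hEc) (M2.isInvertible_idealMod _ hEc)] at hee
  rw [SymSq10.intNum_eq' hd'.le hW₀ (M2.isInvertible_idealMod _ hEc)] at hce
  rw [SymSq10.intNum_eq' hd'.le hW₀ hW₀] at h00
  change sdot k c c = _ at hee
  change sdot k w₀ c = _ at hce
  change sdot k w₀ w₀ = _ at h00
  -- adjunction on the exceptional curve
  have hr' := SurfRR10.rr (k := k) (X := X') hdim' hW' hW'i c
  rw [SurfRR10.phi, ← hw'] at hr'
  have hgE : chi k (1 : PicLoc.PicSet X') - chi k c = 1 := Groth.Agent.BlowCanon10.chi_exceptional hdE hEc e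
  have hz : ∀ a : PicLoc.PicSet X', sdot k (c ^ n) a = n * sdot k c a := fun a => by
    cases n with
    | ofNat m => rw [Int.ofNat_eq_natCast, zpow_natCast, SurfRR10.sdot_pow_left (k := k) hdim']
    | negSucc m =>
      rw [zpow_negSucc, SurfRR10.sdot_inv_left (k := k) hdim', SurfRR10.sdot_pow_left (k := k) hdim',
        Int.negSucc_eq]
      push_cast
      ring
  have hcw : sdot k c w' = -n := by
    rw [hn, SymSq10.sdot_comm c, SymSq10.sdot_mul (k := k) hd'.le, hz, hee, hce]
    ring
  rw [hee, hcw] at hr'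
  push_cast at hr'
  have hn1 : n = -1 := by
    linarith
  subst hn1
  rw [zpow_neg_one] at hn
  refine ⟨?_, ?_⟩
  · refine (PicGrp.cls_eq_cls_iff (M2.isInvertible_tensor hW'i (M2.isInvertible_idealMod _ hEc)) hW₀).1 ?_
    rw [← AlgEquiv22.cls_tensor hW'i (M2.isInvertible_idealMod _ hEc), ← hw', ← hw₀,
      show PicGrp.cls (ClSub.idealMod E) (M2.isInvertible_idealMod _ hEc) = c from rfl, hn]
    rw [mul_comm (c⁻¹) w₀, inv_mul_cancel_right]
  · rw [SymSq10.intNum_eq' hd'.le hW'i hW'i]
    show sdot k w' w' = _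
    rw [hn, SymSq10.sdot_mul (k := k) hd'.le, SymSq10.sdot_comm _ (c⁻¹ * w₀), SymSq10.sdot_comm w₀ (c⁻¹ * w₀),
      SymSq10.sdot_mul (k := k) hd'.le, SymSq10.sdot_mul (k := k) hd'.le,
      SurfRR10.sdot_inv_left (k := k) hdim', SurfRR10.sdot_inv_left (k := k) hdim',
      SymSq10.sdot_comm c c⁻¹, SurfRR10.sdot_inv_left (k := k) hdim', SymSq10.sdot_comm w₀ c⁻¹,
      SurfRR10.sdot_inv_left (k := k) hdim', SymSq10.sdot_comm c w₀, hee, hce, h00]
    ring

end Groth.Agent.S11345
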