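import Groth.Statements.S11346
import Groth.Agent.Lib.Ruled10.Van
import Groth.Agent.Lib.EdgeOne28.Inj

set_option autoImplicit false
set_option maxHeartbeats 1000000
set_option linter.style.haveILetI false
set_option backward.isDefEq.respectTransparency false
set_option backward.isDefEq.respectTransparency.types false
universe u
open CategoryTheory CategoryTheory.Limits AlgebraicGeometry
open Surf

namespace Groth.Agent.S11346

/-- Let π : X → C be a ruled surface over an algebraically closed field k: X a surface (integral, of
dimension two, all local rings regular, with a closed immersion into some P^n_k over k), C a curve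
(integral, proper over k, of dimension one, all local rings regular), π : X → C a surjective
k-morphism whose fibre over every closed point is isomorphic to P^1_k and which admits a section σ.
If C has genus g, then p_a(X) = -g, p_g(X) = 0 and q(X) = g; that is, dim_k H^1(X, O_X) = g = dim_k
H^1(C, O_C) and H^2(X, O_X) = 0. -/
theorem result (k : Type u) [Field k] [IsAlgClosed k] (X : Scheme.{u}) [X.Over (Spec (CommRingCat.of k))]
    [IsIntegral X] (hdim : topologicalKrullDim X = 2) (hreg : ∀ x : X, IsRegularLocalRing (X.presheaf.stalk x))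
    (hproj : ∃ (n : ℕ) (ι : X ⟶ CohB1.ProjSpace n k), IsClosedImmersion ι ∧ ι ≫ CohB1.ProjSpace.toSpec n k = (X ↘ (Spec (CommRingCat.of k))))
    (C : Scheme.{u}) [C.Over (Spec (CommRingCat.of k))]
    [IsIntegral C] [IsProper (C ↘ (Spec (CommRingCat.of k)))] (hdimC : topologicalKrullDim C = 1)
    (hregC : ∀ x : C, IsRegularLocalRing (C.presheaf.stalk x))
    (π : X ⟶ C) (hπ : π ≫ (C ↘ (Spec (CommRingCat.of k))) = (X ↘ (Spec (CommRingCat.of k)))) (hsurj : Function.Surjective π)
    (hfib : ∀ y : C, IsClosed ({y} : Set C) → Nonempty (pullback π (C.fromSpecResidueField y) ≅ CohB1.ProjSpace 1 k))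
    (σ : C ⟶ X) (hσ : σ ≫ π = 𝟙 C) :
    Module.finrank k (Coh.HH X (Coh.structureModule X) 1) = Curv2.genus k C ∧ Subsingleton (Coh.HH X (Coh.structureModule X) 2) := by
  classical
  haveI hXp : IsProper (X ↘ Spec (CommRingCat.of k)) := by
    obtain ⟨N, ι, hι, e⟩ := hproj
    haveI := hι
    rw [← e]
    infer_instance
  haveI : IsNoetherian X := CohFound.isNoetherian_of_isProper (X ↘ Spec (CommRingCat.of k))
  haveI : IsNoetherian C := CohFound.isNoetherian_of_isProper (C ↘ Spec (CommRingCat.of k))
  haveI : LocallyOfFinitePresentation (X ↘ Spec (CommRingCat.of k)) := inferInstance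
  haveI : Smooth (X ↘ Spec (CommRingCat.of k)) :=
    RegSmooth17.smooth_of_regular_of_perfectField (X ↘ Spec (CommRingCat.of k)) hreg
  haveI : IsProper π := Ruled10.isProper_of_over π hπ
  haveI : Flat π := Ruled10.flat_of_surj hdimC hregC π hsurj
  have hF : Ruled10.Fam k X C π := ⟨hdim, hπ, hfib⟩
  let O := Coh.structureModule X
  have hO : PicF.IsInvertible O := PicLoc.isInvertible_structureModule X
  have hd := SurfRR10.dim_eq (k := k) (X := X) hdim
  have hdeg : Ruled10.NonnegFib k X π O := fun y hy => by
    obtain ⟨e⟩ := hfib y hy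
    letI : (π.fiber y).Over (Spec (CommRingCat.of k)) := ⟨π.fiberι y ≫ (X ↘ Spec (CommRingCat.of k))⟩
    obtain ⟨-, -, -, -, -, hdg⟩ := Ruled10.fibre_facts (k := k) hdim π hy e
    have h := hdg O hO
    rw [CurveCoh17.deg_iso (Twist.pullbackUnitIso (π.fiberι y)), CurveCoh17.deg_structureModule] at h
    omega
  haveI : IsIso (ClSub.unitToPush π) := EdgeOne28.isIso_unitToPush_of_isIso_app π fun V =>
    (ConcreteCategory.isIso_iff_bijective _).2 (Ruled10.bijective_app hF V)
  have E := fun i => (CurveCoh17.hequiv k (asIso (ClSub.unitToPush π)) i).trans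
    (Ruled10.nonempty_HH_push hF hO hdeg i).some
  refine ⟨(E 1).finrank_eq.symm, ?_⟩
  haveI := (CurveAmple18.curveLike k C hdimC.le).separated
  haveI := CurveCoh17.subsingleton_HH_of_dim hdimC.le (Coh.structureModule C) (M1.isQCoh_structureModule C) 0
  exact (E 2).symm.injective.subsingleton

end Groth.Agent.S11346
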