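import Groth.Statements.S11347
import Groth.Agent.Lib.VB17.Proper
import Groth.Agent.Lib.VB17.Line
import Groth.Agent.Lib.VB17.Simple
import Groth.Agent.Lib.VB17.TwistBound
-- import your own Groth.Agent.* helpers here

set_option autoImplicit false
universe u
open CategoryTheory CategoryTheory.Limits AlgebraicGeometry
open Curves

namespace Groth.Agent.S11347

/-- Let C be a genus-g curve over an algebraically closed field k (integral, proper over k, of dimension
one, all local rings regular), and E a locally free O_C-module of rank 2 which is normalized —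
H^0(C, E) ≠ 0 while H^0(C, E ⊗ M) = 0 for every invertible M with deg M < 0 — and indecomposable —
not isomorphic to a direct sum of two invertible modules. Then the invariant e = -deg E of the ruled
surface P(E) satisfies -2g ≤ e ≤ 2g - 2; here deg E = χ(E) - 2 χ(O_C). -/
theorem result (k : Type u) [Field k] [IsAlgClosed k] (C : Scheme.{u}) [C.Over (Spec (CommRingCat.of k))]
    [IsIntegral C] [IsProper (C ↘ (Spec (CommRingCat.of k)))] (hdimC : topologicalKrullDim C = 1)
    (hregC : ∀ x : C, IsRegularLocalRing (C.presheaf.stalk x))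
    (E : C.Modules) (hE : FlatMod.IsFinLocFreeOfRank 2 E)
    (hn0 : Nontrivial (Coh.HH C E 0))
    (hneg : ∀ M : C.Modules, PicF.IsInvertible M → Curv2.deg k C M 1 < 0 → Subsingleton (Coh.HH C (CohB1.tensorMod E M) 0))
    (hind : ∀ L₁ L₂ : C.Modules, PicF.IsInvertible L₁ → PicF.IsInvertible L₂ → IsEmpty (E ≅ L₁ ⊞ L₂)) :
    2 - 2 * (Curv2.genus k C : ℤ) ≤ Curv2.deg k C E 2 ∧ Curv2.deg k C E 2 ≤ 2 * (Curv2.genus k C : ℤ) := by
  have hC := VB17.curveLike (k := k) hdimC
  haveI := hC.noetherian
  have hR : VB17.RegCurve k C := ⟨hC, inferInstance, fun x =>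
    haveI := hregC x; CurveCoh17.pid_stalk_of_regular hdimC.le x⟩
  have h0 := hC.h0_eq_one
  have hO := PicLoc.isInvertible_structureModule C
  haveI : FiniteDimensional k (Coh.HH C E 0) := hC.fin E (CurveCoh17.isCoh_of_ofRank hE) 0
  obtain ⟨i₀, hi₀⟩ := VB17.exists_mono_of_section hE hO hO (Groth.Agent.M2.tensorLUnit _)
    ((CurveCoh17.hequiv k (Groth.Agent.M2.tensorRUnit E) 0).toEquiv.nontrivial)
  haveI := hi₀
  have hneg' : ∀ (L : C.Modules) (i : L ⟶ E), Mono i → PicF.IsInvertible L → Curv2.deg k C L 1 ≤ 0 := by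
    intro L i hi hL
    haveI := hi
    by_contra hpos
    obtain ⟨L', hL', ⟨e⟩⟩ := Groth.Agent.M2.exists_inverse hL
    haveI := hneg L' hL' (by rw [hC.deg_of_tensor_iso hL hL' e]; omega)
    exact not_nontrivial_iff_subsingleton.2 this (VB17.nontrivial_of_mono hL hL' e i)
  obtain ⟨M, j, hj, hM, hQ, hle, hd⟩ := VB17.exists_max_line hR hE hO i₀
  haveI := hj
  rw [CurveCoh17.deg_structureModule] at hle
  have hM0 := hneg' M j hj hM
  let S : ShortComplex C.Modules := ShortComplex.mk j (cokernel.π j) (cokernel.condition j)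
  have hS : S.ShortExact :=
    { exact := ShortComplex.exact_of_g_is_cokernel _ (cokernelIsCokernel _) }
  have hns : ¬ IsSplitEpi S.g := fun hsp => by
    obtain ⟨⟨σ⟩⟩ := hsp
    exact (hind M (cokernel j) hM hQ).false (ShortComplex.Splitting.ofExactOfSection S hS.exact σ.section_ σ.id hj).isoBinaryBiproduct
  have hb := (VB17.nonsplit_bound hC h0 hS hM hQ hns).1
  change Curv2.deg k C M 1 - Curv2.deg k C (cokernel j) 1 ≤ _ at hb
  have hup : Curv2.deg k C E 2 ≤ 2 * (Curv2.genus k C : ℤ) := by
    obtain ⟨N, hN, hdN⟩ := VB17.exists_invertible_deg hC hdimC hregC (-1)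
    haveI := hneg N hN (by omega)
    have hN1 := (Groth.Agent.M2.isInvertible_iff_isFinLocFreeOfRank_one N).1 hN
    have hEN : FlatMod.IsFinLocFreeOfRank 2 (CohB1.tensorMod E N) := by
      simpa using Groth.Agent.M2.isFinLocFreeOfRank_tensor hE hN1
    have hdEN : Curv2.deg k C (CohB1.tensorMod E N) 2 = Curv2.deg k C E 2 - 2 := by
      have := hC.deg_tensor hE hN1
      rw [hdN] at this
      simpa [sub_eq_add_neg] using this
    rw [Curv2.deg, hC.euler_structureModule, h0, (hC.adm (CurveCoh17.isCoh_of_ofRank hEN)).euler_eq,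
      Module.finrank_zero_of_subsingleton (M := Coh.HH C (CohB1.tensorMod E N) 0)] at hdEN
    push_cast at hdEN
    omega
  omega

end Groth.Agent.S11347
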