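import Groth.Statements.S11349
-- import your own Groth.Agent.* helpers here
import Groth.Agent.Lib.GenusOneAut17.Fibres
import Groth.Agent.Lib.GenusOneAut17.Points
import Groth.Agent.Lib.GenusFF17.Main
import Groth.Agent.Lib.VB17.Proper
import Groth.Agent.Lib.RegSmooth17.Scheme
import Groth.Agent.Lib.Curve17.FrobTwist

set_option autoImplicit false
universe u
open CategoryTheory CategoryTheory.Limits AlgebraicGeometry
open Curves

namespace Groth.Agent.S11349

/-- Take an algebraically closed field k of characteristic different from 2 and an elliptic curve X over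
k — an integral scheme, proper over k, of dimension one, all local rings regular, of genus dim_k
H^1(X, O_X) = 1 — and let P, Q be closed points of X, possibly equal. Then there is an automorphism
σ of X over k with σ² = id and σ(P) = Q such that R + σ(R) is linearly equivalent to P + Q for every
closed point R; the last condition is written on ideal sheaves of points: I_R ⊗ I_{σ(R)} ≅ I_P ⊗
I_Q. -/
theorem result (k : Type u) [Field k] [IsAlgClosed k] (X : Scheme.{u}) [X.Over (Spec (CommRingCat.of k))]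
    [IsIntegral X] [IsProper (X ↘ (Spec (CommRingCat.of k)))] (hdim : topologicalKrullDim X = 1)
    (hreg : ∀ x : X, IsRegularLocalRing (X.presheaf.stalk x)) (hchar : ringChar k ≠ 2) (hg : Curv2.genus k X = 1)
    (P Q : X) (hP : IsClosed ({P} : Set X)) (hQ : IsClosed ({Q} : Set X)) :
    ∃ σ : X ≅ X, σ.hom ≫ (X ↘ (Spec (CommRingCat.of k))) = (X ↘ (Spec (CommRingCat.of k))) ∧ σ.hom ≫ σ.hom = 𝟙 X ∧ σ.hom P = Q ∧
      ∀ (R R' : X) (hR : IsClosed ({R} : Set X)) (hR' : IsClosed ({R'} : Set X)), σ.hom R = R' →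
        Nonempty (CohB1.tensorMod (ClSub.idealMod (Scheme.IdealSheafData.vanishingIdeal ⟨{R}, hR⟩)) (ClSub.idealMod (Scheme.IdealSheafData.vanishingIdeal ⟨{R'}, hR'⟩)) ≅ CohB1.tensorMod (ClSub.idealMod (Scheme.IdealSheafData.vanishingIdeal ⟨{P}, hP⟩)) (ClSub.idealMod (Scheme.IdealSheafData.vanishingIdeal ⟨{Q}, hQ⟩))) := by
  haveI : Smooth (X ↘ Spec (CommRingCat.of k)) := RegSmooth17.smooth_of_regular_of_perfectField _ hreg
  haveI := VB17.isNoetherian_of_over (k := k) (X := X)
  have h0 := (VB17.curveLike (k := k) (X := X) hdim).h0_eq_one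
  letI := Curve17.funAlg (X ↘ Spec (CommRingCat.of k))
  obtain ⟨hK, hgK⟩ : FunFld.IsFunctionField k X.functionField ∧ FunFld.genus k X.functionField = Curv2.genus k X :=
    GenusFF17.genus_functionField (k := k) hdim h0
  rw [hg] at hgK
  have hN := FunFldRH25.normal_curve k hdim (X := X)
  obtain ⟨e, -, ho⟩ := FunFldRH25.exists_placeEquiv (X ↘ Spec (CommRingCat.of k)) hdim (fun n => (hN n).2)
  have hne : ∀ {x : X}, IsClosed ({x} : Set X) → x ≠ genericPoint X := fun hx =>
    (CurveCoh17.genericPoint_ne_of_isClosed hdim hx).symm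
  have hdeg := FunField.deg_eq_one (FunField.ff hK)
  have hchar' : (2 : k) ≠ 0 := Ring.two_ne_zero hchar
  obtain ⟨p, hp⟩ : ∃ p, e ⟨P, hne hP⟩ = p := ⟨_, rfl⟩
  obtain ⟨q, hq⟩ : ∃ q, e ⟨Q, hne hQ⟩ = q := ⟨_, rfl⟩
  obtain ⟨x, σ, hpd, hσ1, hσx, hσσ, hσp⟩ : ∃ (x : X.functionField) (σ : X.functionField ≃ₐ[k] X.functionField),
      FunField.poleDiv (k := k) x = Finsupp.single p 1 + Finsupp.single q 1 ∧ σ ≠ AlgEquiv.refl ∧ σ x = x ∧
        σ.trans σ = AlgEquiv.refl ∧ Wronskian26.comapPlace σ p = q := by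
    by_cases hpq : p = q
    · subst hpq
      obtain ⟨x, hx⟩ := GenusOneAut17.exists_poleDiv_self hK hgK (hdeg p)
      obtain ⟨σ, h1, h2, h3, h4⟩ := GenusOneAut17.exists_involution_self hK hchar' (hdeg p) hx
      exact ⟨x, σ, by rw [hx, ← Finsupp.single_add]; norm_num, h1, h2, h3, h4⟩
    · obtain ⟨x, hx⟩ := GenusOneAut17.exists_poleDiv_pair hK hgK (hdeg p) (hdeg q) hpq
      obtain ⟨σ, h2, h3, h4, -⟩ := GenusOneAut17.exists_involution hK (hdeg p) (hdeg q) hpq hx
      refine ⟨x, σ, hx, fun e => hpq ?_, h2, h3, h4⟩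
      rw [e] at h4
      exact (FunField.place_ext fun z => Iff.rfl).trans h4
  obtain ⟨i, eg, hi, hig⟩ := GenusOneAut17.exists_iso_of_algEquiv (k := k) hdim hN σ
  have hmove : ∀ {R : X} (hR : IsClosed ({R} : Set X)) (hiR : i.hom R ≠ genericPoint X),
      e ⟨i.hom R, hiR⟩ = Wronskian26.comapPlace σ (e ⟨R, hne hR⟩) :=
    fun hR hiR => GenusOneAut17.place_hom e hdim ho i eg σ hig ⟨_, hne hR⟩ hiR
  have hclosed : ∀ {R : X}, IsClosed ({R} : Set X) → i.hom R ≠ genericPoint X := fun {R} hR h =>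
    hne hR ((TopCat.homeoOfIso (Scheme.forgetToTop.mapIso i)).injective (h.trans eg.symm))
  refine ⟨i, hi, ?_, ?_, ?_⟩
  · have hinv : i.hom ≫ i.hom = 𝟙 X := by
      haveI : IsDominant (X.fromSpecStalk (genericPoint X)) := by
        refine ⟨fun y => closure_mono ?_ (specializes_iff_mem_closure.1 (genericPoint_specializes y))⟩
        rintro _ rfl
        exact ⟨_, Scheme.fromSpecStalk_closedPoint⟩
      haveI : X.IsSeparated := ⟨by rw [← terminal.comp_from (X ↘ Spec (CommRingCat.of k))]; infer_instance⟩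
      have hgm : Curve17.genMap i.hom eg ≫ Curve17.genMap i.hom eg = 𝟙 _ := by
        ext z
        show Curve17.genMap i.hom eg (Curve17.genMap i.hom eg z) = z
        rw [hig, hig]
        exact DFunLike.congr_fun hσσ z
      refine ext_of_isDominant_of_isSeparated (terminal.from _) (terminal.hom_ext _ _)
        (X.fromSpecStalk (genericPoint X)) ?_
      rw [← Category.assoc, ← Curve17.SpecMap_genMap i.hom eg, Category.assoc, ← Curve17.SpecMap_genMap i.hom eg,
        ← Category.assoc, ← Spec.map_comp, hgm, Spec.map_id, Category.id_comp, Category.comp_id]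
    exact hinv
  · have h1 := hmove hP (hclosed hP)
    rw [hp, hσp, ← hq] at h1
    exact congrArg Subtype.val (e.injective h1)
  · intro R R' hR hR' hRR
    obtain ⟨a1⟩ := GenusOneAut17.pointIdeal_iso_lineB e hdim hR (hne hR)
    obtain ⟨a2⟩ := GenusOneAut17.pointIdeal_iso_lineB e hdim hR' (hne hR')
    obtain ⟨a3⟩ := GenusOneAut17.pointIdeal_iso_lineB e hdim hP (hne hP)
    obtain ⟨a4⟩ := GenusOneAut17.pointIdeal_iso_lineB e hdim hQ (hne hQ)
    obtain ⟨b1⟩ := FunFldRH25.lineB_add e hdim (Finsupp.single (e ⟨R, hne hR⟩) (-1)) (Finsupp.single (e ⟨R', hne hR'⟩) (-1))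
    obtain ⟨b2⟩ := FunFldRH25.lineB_add e hdim (Finsupp.single (e ⟨P, hne hP⟩) (-1)) (Finsupp.single (e ⟨Q, hne hQ⟩) (-1))
    have hR'e : e ⟨R', hne hR'⟩ = Wronskian26.comapPlace σ (e ⟨R, hne hR⟩) := by
      subst hRR
      exact hmove hR _
    obtain ⟨y, hy0, hy⟩ := GenusOneAut17.le'_fibre hK hpd hσ1 hσx hσσ hσp (e ⟨R, hne hR⟩)
    obtain ⟨c⟩ := (FunFldRH25.lineB_iso_iff e hdim ho
      (Finsupp.single (e ⟨R, hne hR⟩) (-1) + Finsupp.single (e ⟨R', hne hR'⟩) (-1))
      (Finsupp.single (e ⟨P, hne hP⟩) (-1) + Finsupp.single (e ⟨Q, hne hQ⟩) (-1))).2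
      ⟨y⁻¹, inv_ne_zero hy0, by
        rw [FunField.div_inv (FunField.ff hK), hp, hq, hR'e, Finsupp.single_neg, Finsupp.single_neg,
          Finsupp.single_neg, Finsupp.single_neg, ← neg_add, hy]
        abel⟩
    exact ⟨M2.tensorIso a1 a2 ≪≫ b1 ≪≫ c ≪≫ b2.symm ≪≫ (M2.tensorIso a3 a4).symm⟩

end Groth.Agent.S11349
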