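import Groth.Statements.S11351
-- import your own Groth.Agent.* helpers here
import Groth.Agent.Lib.GenusOneAut17.Differ
import Groth.Agent.Lib.GenusFF17.Main
import Groth.Agent.Lib.VB17.Proper
import Groth.Agent.Lib.RegSmooth17.Scheme
import Groth.Agent.Lib.RegExt.P1

set_option autoImplicit false
universe u
open CategoryTheory CategoryTheory.Limits AlgebraicGeometry
open Curves

namespace Groth.Agent.S11351

/-- Take an algebraically closed field k of characteristic different from 2 and an elliptic curve X over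
k (integral, proper over k, of dimension one, all local rings regular, of genus dim_k H^1(X, O_X) =
1), and let f₁, f₂ : X → P^1_k be two finite morphisms over k of degree 2 (the direct image of O_X
is locally free of rank 2). Then there are an automorphism σ of X over k and an automorphism τ of
P^1_k over k such that f₂ ∘ σ = τ ∘ f₁. -/
theorem result (k : Type u) [Field k] [IsAlgClosed k] (X : Scheme.{u}) [X.Over (Spec (CommRingCat.of k))]
    [IsIntegral X] [IsProper (X ↘ (Spec (CommRingCat.of k)))] (hdim : topologicalKrullDim X = 1)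
    (hreg : ∀ x : X, IsRegularLocalRing (X.presheaf.stalk x)) (hchar : ringChar k ≠ 2) (hg : Curv2.genus k X = 1)
    (f₁ f₂ : X ⟶ (CohB1.ProjSpace 1 k)) [IsFinite f₁] [IsFinite f₂]
    (hf₁ : f₁ ≫ CohB1.ProjSpace.toSpec 1 k = (X ↘ (Spec (CommRingCat.of k)))) (hf₂ : f₂ ≫ CohB1.ProjSpace.toSpec 1 k = (X ↘ (Spec (CommRingCat.of k))))
    (hd₁ : FlatMod.IsFinLocFreeOfRank 2 ((Scheme.Modules.pushforward f₁).obj (Coh.structureModule X)))
    (hd₂ : FlatMod.IsFinLocFreeOfRank 2 ((Scheme.Modules.pushforward f₂).obj (Coh.structureModule X))) :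
    ∃ (σ : X ≅ X) (τ : (CohB1.ProjSpace 1 k) ≅ (CohB1.ProjSpace 1 k)), σ.hom ≫ (X ↘ (Spec (CommRingCat.of k))) = (X ↘ (Spec (CommRingCat.of k))) ∧
      τ.hom ≫ CohB1.ProjSpace.toSpec 1 k = CohB1.ProjSpace.toSpec 1 k ∧ σ.hom ≫ f₂ = f₁ ≫ τ.hom := by
  haveI : Smooth (X ↘ Spec (CommRingCat.of k)) := RegSmooth17.smooth_of_regular_of_perfectField _ hreg
  haveI := VB17.isNoetherian_of_over (k := k) (X := X)
  haveI : IsIntegral (CohB1.ProjSpace 1 k) := RegExt.isIntegral_projSpace 1 k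
  have h0 := (VB17.curveLike (k := k) (X := X) hdim).h0_eq_one
  letI := Curve17.funAlg (X ↘ Spec (CommRingCat.of k))
  letI := Curve17.funAlg (CohB1.ProjSpace.toSpec 1 k)
  obtain ⟨hK, hgK⟩ : FunFld.IsFunctionField k X.functionField ∧ FunFld.genus k X.functionField = Curv2.genus k X :=
    GenusFF17.genus_functionField (k := k) hdim h0
  rw [hg] at hgK
  have hchar' : (2 : k) ≠ 0 := Ring.two_ne_zero hchar
  obtain ⟨e₁, G₁, x₁, hG₁, hx₁, ht₁, hd₁'⟩ := GenusOneAut17.exists_coord hdim f₁ hf₁ hd₁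
  obtain ⟨e₂, G₂, x₂, hG₂, hx₂, ht₂, hd₂'⟩ := GenusOneAut17.exists_coord hdim f₂ hf₂ hd₂
  obtain ⟨θ, hθθ, h12, h21⟩ := GenusOneAut17.exists_swap hK hgK hchar' ht₁ ht₂ hd₁' hd₂'
  have hback : ∀ z, ∃ w, G₁ w = θ (G₂ z) := fun z =>
    AlgHom.mem_fieldRange.1 (hx₁ ▸ h21 _ (hx₂.symm ▸ AlgHom.mem_fieldRange.2 ⟨z, rfl⟩))
  choose φ hφ using hback
  let φh : (CohB1.ProjSpace 1 k).functionField →ₐ[k] (CohB1.ProjSpace 1 k).functionField :=
    { toFun := φ
      map_one' := G₁.toRingHom.injective (by simp [hφ])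
      map_mul' := fun a b => G₁.toRingHom.injective (by simp [hφ])
      map_zero' := G₁.toRingHom.injective (by simp [hφ])
      map_add' := fun a b => G₁.toRingHom.injective (by simp [hφ])
      commutes' := fun c => G₁.toRingHom.injective (by simp [hφ]) }
  have hbij : Function.Bijective φh := by
    refine ⟨φh.toRingHom.injective, fun w => ?_⟩
    obtain ⟨z, hz⟩ := AlgHom.mem_fieldRange.1 (hx₂ ▸ h12 _ (hx₁.symm ▸ AlgHom.mem_fieldRange.2 ⟨w, rfl⟩))
    exact ⟨z, G₁.toRingHom.injective (by show G₁ (φ z) = G₁ w; rw [hφ, hz, hθθ])⟩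
  letI : (CohB1.ProjSpace 1 k).Over (Spec (CommRingCat.of k)) := ⟨CohB1.ProjSpace.toSpec 1 k⟩
  haveI : IsProper (CohB1.ProjSpace 1 k ↘ Spec (CommRingCat.of k)) := ProjSpace.isProper_toSpec 1 k
  haveI : IsProper (CohB1.ProjSpace.toSpec 1 k) := ProjSpace.isProper_toSpec 1 k
  haveI : Smooth (CohB1.ProjSpace 1 k ↘ Spec (CommRingCat.of k)) := ProjSpace.smooth_toSpec 1 k
  have hdimY : topologicalKrullDim (CohB1.ProjSpace 1 k) = 1 := by rw [Groth.Agent.S10829.result k 1]; rfl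
  obtain ⟨i, eg, hi, hig⟩ := GenusOneAut17.exists_iso_of_algEquiv (k := k) hdim
    (fun y => ⟨inferInstance, SmoothReg17.isIntegrallyClosed_stalk (X ↘ Spec (CommRingCat.of k)) y⟩) θ
  obtain ⟨τ, et, hτ, hτg⟩ := GenusOneAut17.exists_iso_of_algEquiv (k := k) (E := CohB1.ProjSpace 1 k) hdimY
    (fun y => ⟨SmoothReg17.isDomain_stalk (CohB1.ProjSpace 1 k ↘ Spec (CommRingCat.of k)) y,
      SmoothReg17.isIntegrallyClosed_stalk (CohB1.ProjSpace 1 k ↘ Spec (CommRingCat.of k)) y⟩)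
    (AlgEquiv.ofBijective φh hbij)
  refine ⟨i, τ, hi, hτ, ?_⟩
  haveI : IsDominant (X.fromSpecStalk (genericPoint X)) := by
    refine ⟨fun y => closure_mono ?_ (specializes_iff_mem_closure.1 (genericPoint_specializes y))⟩
    rintro _ rfl
    exact ⟨_, Scheme.fromSpecStalk_closedPoint⟩
  haveI : (CohB1.ProjSpace 1 k).IsSeparated :=
    ⟨by rw [← terminal.comp_from (CohB1.ProjSpace.toSpec 1 k)]; infer_instance⟩
  refine ext_of_isDominant_of_isSeparated (terminal.from _) (terminal.hom_ext _ _)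
    (X.fromSpecStalk (genericPoint X)) ?_
  rw [← Category.assoc, ← Category.assoc, ← Curve17.SpecMap_genMap i.hom eg, ← Curve17.SpecMap_genMap f₁ e₁,
    Category.assoc, Category.assoc, ← Curve17.SpecMap_genMap f₂ e₂, ← Curve17.SpecMap_genMap τ.hom et,
    ← Category.assoc, ← Category.assoc, ← Spec.map_comp, ← Spec.map_comp]
  congr 2
  ext z
  show Curve17.genMap i.hom eg (Curve17.genMap f₂ e₂ z) = Curve17.genMap f₁ e₁ (Curve17.genMap τ.hom et z)
  rw [hτg, hig, ← hG₁, ← hG₂]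
  exact (hφ z).symm

end Groth.Agent.S11351
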