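import Groth.Statements.S11353
import Groth.Agent.Lib.VB17.Proper
import Groth.Agent.Lib.VB17.Duality
import Groth.Agent.Lib.VB17.Line
-- import your own Groth.Agent.* helpers here

set_option autoImplicit false
universe u
open CategoryTheory CategoryTheory.Limits AlgebraicGeometry
open Curves Groth.Agent.M1 Groth.Agent.M2 Groth.Agent.CurveCoh17 Groth.Agent.VB17

namespace Groth.Agent.S11353

/-- Let C be a curve over an algebraically closed field k (integral, proper over k, of dimension one,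
all local rings regular) and E a decomposable locally free sheaf of rank 2 — E ≅ L₁ ⊕ L₂ with L₁, L₂
invertible — which is normalized: H^0(C, E) ≠ 0 while H^0(C, E ⊗ M) = 0 for every invertible M of
negative degree. Then E ≅ O_C ⊕ L for an invertible L with deg L ≤ 0; in particular e = -deg E ≥ 0. -/
theorem result (k : Type u) [Field k] [IsAlgClosed k] (C : Scheme.{u}) [C.Over (Spec (CommRingCat.of k))]
    [IsIntegral C] [IsProper (C ↘ (Spec (CommRingCat.of k)))] (hdimC : topologicalKrullDim C = 1)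
    (hregC : ∀ x : C, IsRegularLocalRing (C.presheaf.stalk x))
    (E L₁ L₂ : C.Modules) (hL₁ : PicF.IsInvertible L₁) (hL₂ : PicF.IsInvertible L₂) (hE : Nonempty (E ≅ L₁ ⊞ L₂))
    (hn0 : Nontrivial (Coh.HH C E 0))
    (hneg : ∀ M : C.Modules, PicF.IsInvertible M → Curv2.deg k C M 1 < 0 → Subsingleton (Coh.HH C (CohB1.tensorMod E M) 0)) :
    ∃ L : C.Modules, PicF.IsInvertible L ∧ Curv2.deg k C L 1 ≤ 0 ∧ Nonempty (E ≅ Coh.structureModule C ⊞ L) := by
  haveI := isNoetherian_of_over (k := k) (X := C)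
  have hX : RegCurve k C := ⟨curveLike hdimC, inferInstance,
    fun x => haveI := hregC x; pid_stalk_of_regular hdimC.le x⟩
  obtain ⟨e⟩ := hE
  have hle : ∀ (L : C.Modules) (i : L ⟶ E), PicF.IsInvertible L → Mono i → Curv2.deg k C L 1 ≤ 0 := by
    intro L i hL hi
    haveI := hi
    by_contra hlt
    obtain ⟨L', hL', ⟨eL⟩⟩ := exists_inverse hL
    exact not_subsingleton_iff_nontrivial.2 (nontrivial_of_mono hL hL' eL i)
      (hneg L' hL' (by rw [hX.like.deg_of_tensor_iso hL hL' eL]; omega))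
  have hO : PicF.IsInvertible (Coh.structureModule C) := PicLoc.isInvertible_structureModule C
  have hiso : ∀ (L : C.Modules) (_ : PicF.IsInvertible L) (f : Coh.structureModule C ⟶ L), f ≠ 0 →
      Curv2.deg k C L 1 ≤ 0 → Nonempty (Coh.structureModule C ≅ L) := by
    intro L hL f hf hd
    haveI := VB17.mono_of_ne_zero hX hO hL f hf
    obtain ⟨h1, h2⟩ := deg_le_of_mono hX.like ((isInvertible_iff_isFinLocFreeOfRank_one _).1 hO)
      ((isInvertible_iff_isFinLocFreeOfRank_one _).1 hL) f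
    haveI := h2 (le_antisymm h1 (hd.trans (deg_structureModule (k := k) (X := C)).ge))
    exact ⟨asIso f⟩
  obtain ⟨z, hz⟩ := exists_ne (0 : Coh.HH C E 0)
  let s := secHom (hh0 E z)
  have hs : s ≠ 0 := fun h => hh0_ne_zero hz (by
    rw [← secHom_app_one (hh0 E z), show secHom (hh0 E z) = 0 from h]; rfl)
  have d₁ := hle L₁ (biprod.inl ≫ e.inv) hL₁ (mono_comp _ _)
  have d₂ := hle L₂ (biprod.inr ≫ e.inv) hL₂ (mono_comp _ _)
  by_cases h1 : s ≫ e.hom ≫ biprod.fst = 0
  · have h2 : s ≫ e.hom ≫ biprod.snd ≠ 0 := fun h2 => hs (by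
      rw [← cancel_mono e.hom, zero_comp]
      exact biprod.hom_ext _ _ (by simpa using h1) (by simpa using h2))
    obtain ⟨e'⟩ := hiso L₂ hL₂ _ h2 d₂
    exact ⟨L₁, hL₁, d₁, ⟨e ≪≫ biprod.braiding L₁ L₂ ≪≫ biprod.mapIso e'.symm (Iso.refl L₁)⟩⟩
  · obtain ⟨e'⟩ := hiso L₁ hL₁ _ h1 d₁
    exact ⟨L₂, hL₂, d₂, ⟨e ≪≫ biprod.mapIso e'.symm (Iso.refl L₂)⟩⟩


end Groth.Agent.S11353
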