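import Groth.Statements.S11355
import Groth.Agent.Lib.VB17.SmoothDuality
import Groth.Agent.Lib.CurveCoh17.Pencil
import Groth.Agent.Lib.CurveCoh17.VeryAmple
import Groth.Agent.S11330
-- import your own Groth.Agent.* helpers here

set_option autoImplicit false
universe u
open CategoryTheory CategoryTheory.Limits AlgebraicGeometry
open Curves

namespace Groth.Agent.S11355

/-- Let k be an algebraically closed field and X a curve over k (an integral scheme, proper over k, of
dimension one, with all local rings regular), of genus g ≥ 2. If X is hyperelliptic its g^1_2 is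
unique: for any two linear series (M, s), (M', s') of degree 2 and dimension 1 on X (invertible
modules of degree 2, each with two k-linearly independent global sections), M ≅ M' (existence of an
isomorphism; for g ≥ 2 such a module has exactly a 2-dimensional space of sections, so the linear
series coincide). -/
theorem result (k : Type u) [Field k] [IsAlgClosed k] (X : Scheme.{u}) [X.Over (Spec (CommRingCat.of k))]
    [IsIntegral X] [IsProper (X ↘ (Spec (CommRingCat.of k)))] (hdim : topologicalKrullDim X = 1)
    (hreg : ∀ x : X, IsRegularLocalRing (X.presheaf.stalk x)) (hg : 2 ≤ Curv2.genus k X)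
    (M : X.Modules) (s : Fin 2 → LinSer.Sect X M) (hM : LinSer.IsLinSer k X M 2 1 s)
    (M' : X.Modules) (s' : Fin 2 → LinSer.Sect X M') (hM' : LinSer.IsLinSer k X M' 2 1 s') :
    Nonempty (M ≅ M') := by
  have hX : Groth.Agent.VB17.RegCurve k X := ⟨Groth.Agent.VB17.curveLike hdim, inferInstance,
    fun x => haveI := hreg x; Groth.Agent.CurveCoh17.pid_stalk_of_regular hdim.le x⟩
  haveI := hX.like.noetherian
  have h0 := hX.like.h0_eq_one
  have key : ∀ (N : X.Modules) (t : Fin 2 → LinSer.Sect X N), LinSer.IsLinSer k X N 2 1 t →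
      Module.finrank k (Coh.HH X N 0) = 2 ∧ Curv2.IsGloballyGenerated N := by
    rintro N t ⟨hN, hd, ht⟩
    have hR := Groth.Agent.CurveCoh17.rkOne_of_invertible hX.like.dim hN
    haveI := hX.like.fin N hR.coh 0
    have hge : 2 ≤ Module.finrank k (Coh.HH X N 0) := by
      have hli : LinearIndependent k fun i => (Groth.Agent.CurveCoh17.hh0 N).symm (t i) := by
        refine Fintype.linearIndependent_iff.2 fun c hc i => congrFun (ht c ?_) i
        have h := congrArg (Groth.Agent.CurveCoh17.hh0 N) hc
        rw [map_sum, map_zero] at h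
        refine Eq.trans (Finset.sum_congr rfl fun j _ => ?_) h
        exact ((Groth.Agent.CurveCoh17.hh0_smul (M := N) _ _).trans
          (congrArg _ ((Groth.Agent.CurveCoh17.hh0 N).apply_symm_apply _))).symm
      simpa using hli.fintype_card_le_finrank
    haveI : Nontrivial (Coh.HH X N 0) := Module.finrank_pos_iff.1 (show 0 < Module.finrank k (Coh.HH X N 0) by omega)
    have hle := hX.like.h0_le_deg_add hR inferInstance
    rw [h0, hd] at hle
    have h2 : Module.finrank k (Coh.HH X N 0) = 2 := by
      by_contra hne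
      have := hX.like.genus_eq_zero_of_h0_eq_deg_add_one h0 hN (by rw [hd]; push_cast; omega) (by rw [hd]; norm_num)
      omega
    refine ⟨h2, (Groth.Agent.S11330.result k X hdim hreg N hN).2 fun P hP => ?_⟩
    have hI := Groth.Agent.CurveCoh17.isInvertible_pointIdeal hdim hreg hP
    have hNI := Groth.Agent.M2.isInvertible_tensor hN hI
    have hdNI := hX.like.deg_tensor_invertible hN hI
    rw [hd, Groth.Agent.VB17.deg_pointIdeal hX.like hP, Groth.Agent.CurveCoh17.finrank_residueField hP] at hdNI
    have hone := hX.like.h0_le_twist_add_one hN hP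
    have hR' := Groth.Agent.CurveCoh17.rkOne_of_invertible hX.like.dim hNI
    haveI := hX.like.fin _ hR'.coh 0
    rcases Nat.lt_or_ge 1 (Module.finrank k (Coh.HH X (CohB1.tensorMod N (ClSub.idealMod (Scheme.IdealSheafData.vanishingIdeal ⟨{P}, hP⟩))) 0)) with h | h
    · exfalso
      haveI : Nontrivial (Coh.HH X (CohB1.tensorMod N (ClSub.idealMod (Scheme.IdealSheafData.vanishingIdeal ⟨{P}, hP⟩))) 0) :=
        Module.finrank_pos_iff.1 (show 0 < Module.finrank k (Coh.HH X (CohB1.tensorMod N (ClSub.idealMod (Scheme.IdealSheafData.vanishingIdeal ⟨{P}, hP⟩))) 0) by omega)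
      have hle' := hX.like.h0_le_deg_add hR' inferInstance
      norm_num at hdNI
      rw [h0, hdNI] at hle'
      push_cast at hle'
      have := hX.like.genus_eq_zero_of_h0_eq_deg_add_one h0 hNI (by rw [hdNI]; push_cast; omega) (by rw [hdNI]; norm_num)
      omega
    · omega
  obtain ⟨h2, hgg⟩ := key M s hM
  obtain ⟨h2', -⟩ := key M' s' hM'
  obtain ⟨hMi, hdM, -⟩ := hM
  obtain ⟨hMi', hdM', -⟩ := hM'
  have hMM := Groth.Agent.M2.isInvertible_tensor hMi hMi'
  have hRMM := Groth.Agent.CurveCoh17.rkOne_of_invertible hX.like.dim hMM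
  haveI := hX.like.fin M' (Groth.Agent.CurveCoh17.rkOne_of_invertible hX.like.dim hMi').coh 0
  haveI := hX.like.fin _ hRMM.coh 0
  have hlt : Module.finrank k (Coh.HH X (CohB1.tensorMod M M') 0) < 2 * Module.finrank k (Coh.HH X M' 0) := by
    rw [h2']
    have hd4 := hX.like.deg_tensor_invertible hMi hMi'
    rw [hdM, hdM'] at hd4
    have hrr := hX.like.rr hRMM.coh
    rw [h0, hd4] at hrr
    rcases subsingleton_or_nontrivial (Coh.HH X (CohB1.tensorMod M M') 0) with h | h
    · rw [Module.finrank_zero_of_subsingleton]; omega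
    · rcases subsingleton_or_nontrivial (Coh.HH X (CohB1.tensorMod M M') 1) with h' | h'
      · rw [Module.finrank_zero_of_subsingleton (M := Coh.HH X (CohB1.tensorMod M M') 1)] at hrr
        omega
      · have hc := hX.like.clifford hRMM h h'
        rw [h0, hd4] at hc
        omega
  obtain ⟨f, hf⟩ := Groth.Agent.CurveCoh17.exists_hom_of_pencil (k := k) hMi hMi' hgg h2 hlt
  haveI := Groth.Agent.VB17.mono_of_ne_zero hX hMi hMi' f hf
  haveI := (Groth.Agent.VB17.deg_le_of_mono hX.like ((Groth.Agent.M2.isInvertible_iff_isFinLocFreeOfRank_one M).1 hMi)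
    ((Groth.Agent.M2.isInvertible_iff_isFinLocFreeOfRank_one M').1 hMi') f).2 (by rw [hdM, hdM'])
  exact ⟨asIso f⟩

end Groth.Agent.S11355
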