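import Groth.Statements.S11356
import Groth.Agent.Lib.Ruled10.Van
import Groth.Agent.Lib.PBK5.Segre

set_option autoImplicit false
set_option maxHeartbeats 1000000
set_option linter.style.haveILetI false
set_option backward.isDefEq.respectTransparency false
set_option backward.isDefEq.respectTransparency.types false
universe u
open CategoryTheory CategoryTheory.Limits AlgebraicGeometry
open Surf

namespace Groth.Agent.S11356

/-- Let π : X → C be a ruled surface over an algebraically closed field k: X a surface (integral, of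
dimension two, all local rings regular, with a closed immersion into some P^n_k over k), C a curve
(integral, proper over k, of dimension one, all local rings regular), π : X → C a surjective
k-morphism whose fibre over every closed point is isomorphic to P^1_k and which admits a section σ;
let L be an invertible O_X-module (the sheaf of a divisor D) with D.f ≥ 0 for every closed fibre f =
π⁻¹(y) — written (L·I_f) ≤ 0 for the ideal I_f = m_y · O_X of the fibre, where (L·M) = χ(O) - χ(L) -
χ(M) + χ(L ⊗ M) is the intersection number (packaged as FGA.intNum) and (L·I_f) = -D.f. Then R^p π_*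
L = 0 for every p > 0, and H^i(X, L) ≅ H^i(C, π_* L) for all i (existence of a k-linear isomorphism;
the canonical one is the edge map of the Leray spectral sequence). -/
theorem result (k : Type u) [Field k] [IsAlgClosed k] (X : Scheme.{u}) [X.Over (Spec (CommRingCat.of k))]
    [IsIntegral X] (hdim : topologicalKrullDim X = 2) (hreg : ∀ x : X, IsRegularLocalRing (X.presheaf.stalk x))
    (hproj : ∃ (n : ℕ) (ι : X ⟶ CohB1.ProjSpace n k), IsClosedImmersion ι ∧ ι ≫ CohB1.ProjSpace.toSpec n k = (X ↘ (Spec (CommRingCat.of k))))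
    (C : Scheme.{u}) [C.Over (Spec (CommRingCat.of k))]
    [IsIntegral C] [IsProper (C ↘ (Spec (CommRingCat.of k)))] (hdimC : topologicalKrullDim C = 1)
    (hregC : ∀ x : C, IsRegularLocalRing (C.presheaf.stalk x))
    (π : X ⟶ C) (hπ : π ≫ (C ↘ (Spec (CommRingCat.of k))) = (X ↘ (Spec (CommRingCat.of k)))) (hsurj : Function.Surjective π)
    (hfib : ∀ y : C, IsClosed ({y} : Set C) → Nonempty (pullback π (C.fromSpecResidueField y) ≅ CohB1.ProjSpace 1 k))
    (σ : C ⟶ X) (hσ : σ ≫ π = 𝟙 C)
    [HasInjectiveResolutions X.Modules] (L : X.Modules) (hL : PicF.IsInvertible L)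
    (hdeg : ∀ (y : C) (hy : IsClosed ({y} : Set C)), FGA.intNum k X 2 ![L, (ClSub.idealMod ((Scheme.IdealSheafData.vanishingIdeal ⟨{y}, hy⟩).comap π))] (Coh.structureModule X) ≤ 0) :
    (∀ p : ℕ, 0 < p → IsZero ((Coh.Rpush π p).obj L)) ∧
      ∀ i : ℕ, Nonempty (Coh.HH X L i ≃ₗ[k] Coh.HH C ((Coh.push π).obj L) i) := by
  classical
  haveI hXp : IsProper (X ↘ Spec (CommRingCat.of k)) := by
    obtain ⟨N, ι, hι, e⟩ := hproj
    haveI := hι
    rw [← e]
    infer_instance
  haveI : IsNoetherian X := CohFound.isNoetherian_of_isProper (X ↘ Spec (CommRingCat.of k))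
  haveI : IsNoetherian C := CohFound.isNoetherian_of_isProper (C ↘ Spec (CommRingCat.of k))
  haveI : LocallyOfFinitePresentation (X ↘ Spec (CommRingCat.of k)) := inferInstance
  haveI : Smooth (X ↘ Spec (CommRingCat.of k)) :=
    RegSmooth17.smooth_of_regular_of_perfectField (X ↘ Spec (CommRingCat.of k)) hreg
  haveI : IsProper π := Ruled10.isProper_of_over π hπ
  haveI : Flat π := Ruled10.flat_of_surj hdimC hregC π hsurj
  have hF : Ruled10.Fam k X C π := ⟨hdim, hπ, hfib⟩
  refine ⟨fun p hp => PBK5.Segre.isZero_rpush_of_ab ((Ruled10.push_facts hF hL hdeg).2 p hp), fun i => ?_⟩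
  exact ⟨(Ruled10.nonempty_HH_push hF hL hdeg i).some.symm⟩

end Groth.Agent.S11356
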