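import Groth.Statements.S11358
import Groth.Agent.Lib.ArtFact28.Basic

set_option autoImplicit false
universe u
open CAlg

namespace Groth.Agent.S11358

/-- A local homomorphism R → S of Artinian local rings factors as R → R' → S with R' Artinian local, R →
R' flat and local with Gorenstein fibre ring R'/m_R R', and R' → S surjective. -/
theorem result (R S : Type u) [CommRing R] [CommRing S] [IsArtinianRing R] [IsLocalRing R] [IsArtinianRing S] [IsLocalRing S] [Algebra R S] [IsLocalHom (algebraMap R S)] : ∃ (R' : Type u) (_ : CommRing R') (_ : Algebra R R'), IsArtinianRing R' ∧ IsLocalRing R' ∧ Module.Flat R R' ∧ IsLocalHom (algebraMap R R') ∧ LocCoh.IsGorensteinLocalRing (R' ⧸ (IsLocalRing.maximalIdeal R).map (algebraMap R R')) ∧ ∃ g : R' →ₐ[R] S, Function.Surjective g := by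
  exact ArtFact28.exists_factorization R S

end Groth.Agent.S11358
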