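import Groth.Statements.S11359
import Groth.Agent.Lib.InjHull.BaseChange27
-- import your own Groth.Agent.* helpers here

set_option autoImplicit false
universe u
open InjHull

namespace Groth.Agent.S11359

/-- For a flat homomorphism A → B of Noetherian local rings whose fibre ring B/m_A B is an Artinian
Gorenstein local ring, tensoring an injective hull of the residue field of A with B gives an
injective hull of the residue field of B. -/
theorem result (A : Type u) [CommRing A] [IsLocalRing A] [IsNoetherianRing A] (B : Type u) [CommRing B] [IsLocalRing B] [IsNoetherianRing B] [Algebra A B] [Module.Flat A B] (hG : LocCoh.IsGorensteinLocalRing (B ⧸ (IsLocalRing.maximalIdeal A).map (algebraMap A B))) (hArt : IsArtinianRing (B ⧸ (IsLocalRing.maximalIdeal A).map (algebraMap A B))) (E : Type u) [AddCommGroup E] [Module A E] (f : IsLocalRing.ResidueField A →ₗ[A] E) (hf : InjHull.IsInjectiveHull f) : ∃ g : IsLocalRing.ResidueField B →ₗ[B] TensorProduct A B E, InjHull.IsInjectiveHull g := by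
  have hne : (IsLocalRing.maximalIdeal A).map (algebraMap A B) ≠ ⊤ :=
    Ideal.Quotient.nontrivial_iff.1 (hG.toIsLocalRing.toNontrivial)
  have : IsLocalHom (algebraMap A B) := ((IsLocalRing.local_hom_TFAE (algebraMap A B)).out 0 3).2 fun a ha => by
    by_contra hb
    exact hne (Ideal.eq_top_of_isUnit_mem _ (Ideal.mem_map_of_mem _ ha) (IsLocalRing.notMem_maximalIdeal.1 hb))
  obtain ⟨N, hN⟩ : ∃ N, IsLocalRing.maximalIdeal B ^ N ≤ (IsLocalRing.maximalIdeal A).map (algebraMap A B) := by
    obtain ⟨N, hN⟩ := (isArtinianRing_iff_isNilpotent_maximalIdeal _).1 hArt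
    refine ⟨N, fun x hx => Ideal.Quotient.eq_zero_iff_mem.1 ?_⟩
    have h2 : Ideal.Quotient.mk _ x ∈ IsLocalRing.maximalIdeal (B ⧸ (IsLocalRing.maximalIdeal A).map (algebraMap A B)) ^ N := by
      have : (IsLocalRing.maximalIdeal B).map (Ideal.Quotient.mk _) ≤
          IsLocalRing.maximalIdeal (B ⧸ (IsLocalRing.maximalIdeal A).map (algebraMap A B)) := by
        have : IsLocalHom (Ideal.Quotient.mk ((IsLocalRing.maximalIdeal A).map (algebraMap A B))) :=
          IsLocalHom.of_surjective _ Ideal.Quotient.mk_surjective
        exact ((IsLocalRing.local_hom_TFAE _).out 0 2).1 this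
      exact Ideal.pow_right_mono this N (Ideal.map_pow (Ideal.Quotient.mk ((IsLocalRing.maximalIdeal A).map (algebraMap A B))) _ N ▸ Ideal.mem_map_of_mem _ hx)
    rw [hN] at h2
    exact h2
  have := hArt
  have := hG
  exact Groth.Agent.InjHullLib.exists_hull_baseChange hN (Groth.Agent.InjHullLib.nonempty_socle_equiv_quotient B _) hf

end Groth.Agent.S11359
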