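import Groth.Statements.S1136
import Groth.Agent.Lib.Pur25.Completion
import Groth.Agent.Lib.Pur25.LocCohKill

set_option autoImplicit false
universe u
open Pi1

namespace Groth.Agent.S1136

open AlgebraicGeometry CategoryTheory CategoryTheory.Limits in
/-- Let A be a Noetherian local ring and f a member of the maximal ideal with the property that some
power of f kills both local cohomology modules H^1_m(A), H^2_m(A). Let V be a finite etale cover of
the punctured spectrum U of A whose restriction to the punctured spectrum of A/fA is the restriction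
of a finite etale cover of Spec(A/fA). Then V is the restriction of a finite etale cover of Spec A. -/
theorem result (A : Type u) [CommRing A] [IsNoetherianRing A] [IsLocalRing A] (f : A) (hf : f ∈ IsLocalRing.maximalIdeal A)
    (h1 : (∃ n : ℕ, ∀ x : LocCoh.H (IsLocalRing.maximalIdeal A) 1 A, (f ^ n) • x = 0)) (h2 : (∃ n : ℕ, ∀ x : LocCoh.H (IsLocalRing.maximalIdeal A) 2 A, (f ^ n) • x = 0)) (V : FEt.Cat (FEt.puncturedSpec A : Scheme.{u}))
    (hV : (∃ Y₀ : FEt.Cat (Spec (CommRingCat.of (A ⧸ Ideal.span {f}))),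
      Nonempty ((FEt.restrict (pullback.snd (FEt.puncturedSpec A).ι (Spec.map (CommRingCat.ofHom (Ideal.Quotient.mk (Ideal.span {f})))))).obj Y₀ ≅ (FEt.restrict (pullback.fst (FEt.puncturedSpec A).ι (Spec.map (CommRingCat.ofHom (Ideal.Quotient.mk (Ideal.span {f})))))).obj V))) :
    ∃ Y : FEt.Cat (Spec (CommRingCat.of A)), Nonempty ((FEt.restrict (FEt.puncturedSpec A).ι).obj Y ≅ V) := by
  obtain ⟨n, x, hx⟩ := Groth.Agent.Pur25.exists_generators A
  obtain ⟨a, ha⟩ := h1
  obtain ⟨b, hb⟩ := h2
  obtain ⟨Y₀, ⟨hY⟩⟩ := hV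
  let S := AdicCompletion (IsLocalRing.maximalIdeal A) A
  haveI : IsNoetherianRing S := Groth.Agent.CplLocH7.isNoetherianRing_cpl A
  haveI : Module.FaithfullyFlat A S := Groth.Agent.Pur25.faithfullyFlat_completion A
  haveI := Groth.Agent.Branch14.henselianLocalRing_cpl A
  have hm : Ideal.span (Set.range fun i => algebraMap A S (x i)) = (IsLocalRing.maximalIdeal A).map (algebraMap A S) := by
    rw [Groth.Agent.Pur25.span_completion hx, AdicCompletion.maximalIdeal_eq_map]
  have hF : algebraMap A S f ∈ IsLocalRing.maximalIdeal S := by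
    rw [AdicCompletion.maximalIdeal_eq_map]
    exact Ideal.mem_map_of_mem _ hf
  haveI : HenselianRing S (Ideal.span {algebraMap A S f}) :=
    Groth.Agent.Hens.henselianRing_of_le (Groth.Agent.Hens.henselianRing_maximalIdeal _) ((Ideal.span_singleton_le_iff_mem _).2 hF)
  have ha' := Groth.Agent.Pur25.H_smul_eq_zero_of_flat S (IsLocalRing.maximalIdeal A) 1 ha
  have hb' := Groth.Agent.Pur25.H_smul_eq_zero_of_flat S (IsLocalRing.maximalIdeal A) 2 hb
  rw [← hm, map_pow] at ha' hb'
  refine Groth.Agent.Pur25.extends_of_hypersurface (x := x) (N := a + b) (Groth.Agent.Pur25.mem_puncturedSpec_iff hx) S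
    (Groth.Agent.Pur25.qBij_completion hx) f (Groth.Agent.Pur25.mem_radical_span (Groth.Agent.Pur25.span_completion hx) hF)
    ?_ ?_ V Y₀ hY
  · rw [pow_add, mul_comm]; exact (Groth.Agent.Pur25.kill0_of_H_one ha').mul _
  · rw [pow_add]; exact (Groth.Agent.Pur25.kill1_of_H_two hb').mul _

end Groth.Agent.S1136
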