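import Groth.Statements.S11370
import Groth.Agent.Lib.NumPoly18.Chow

set_option autoImplicit false
universe u
open CategoryTheory CategoryTheory.Limits AlgebraicGeometry TopologicalSpace
open Variety

open Groth.Agent Groth.Agent.NumPoly18
namespace Groth.Agent.S11370

/-- Let X be proper over an algebraically closed field k and L an invertible O_X-module such that (L ·
C) = χ(O_C ⊗ L) - χ(O_C) ≥ 0 for every integral closed subscheme C ⊆ X of dimension one. Then for
every integral closed subscheme Z ⊆ X of dimension d > 0 the intersection number (L^d · Z) is ≥ 0;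
here (L^d · Z) is the coefficient of n_1⋯n_d in any rational polynomial P with χ(X, O_Z ⊗ L^{⊗n_1} ⊗
⋯ ⊗ L^{⊗n_d}) = P(n_1, …, n_d) for all exponents in ℕ^d. (The published statement is phrased for a
Cartier divisor D; it depends on D only through L = O_X(D), and the printed reduction to integral X
covers every invertible L.) -/
theorem result (k : Type u) [Field k] [IsAlgClosed k] (X : Scheme.{u})
    [X.Over (Spec (CommRingCat.of k))] [IsProper (X ↘ (Spec (CommRingCat.of k)))]
    (L : X.Modules) (hL : PicF.IsInvertible L)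
    (hnef : ∀ C : X.IdealSheafData, IsIntegral C.subscheme →
      topologicalKrullDim (C.support : Set X) = 1 → 0 ≤ (Curv2.euler k X (CohB1.tensorMod (ClSub.quotMod C) L) - Curv2.euler k X (ClSub.quotMod C)))
    (Z : X.IdealSheafData) [IsIntegral Z.subscheme] (d : ℕ) (hd : 0 < d)
    (hZ : topologicalKrullDim (Z.support : Set X) = d)
    (P : MvPolynomial (Fin d) ℚ)
    (hP : ∀ n : Fin d → ℕ, (Curv2.euler k X (Curv2.tensorPows (ClSub.quotMod Z) d (fun _ => L) n) : ℚ) =
      MvPolynomial.eval (fun i => (n i : ℚ)) P) :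
    0 ≤ MvPolynomial.coeff (Finsupp.equivFunOnFinite.symm fun _ : Fin d => 1) P := by
  haveI : IsNoetherian X := CohFound.isNoetherian_of_isProper (X ↘ (Spec (CommRingCat.of k)))
  let ι := Z.subschemeι
  letI : Z.subscheme.Over (Spec (CommRingCat.of k)) := ⟨ι ≫ (X ↘ (Spec (CommRingCat.of k)))⟩
  haveI : IsProper (Z.subscheme ↘ (Spec (CommRingCat.of k))) :=
    inferInstanceAs (IsProper (ι ≫ (X ↘ (Spec (CommRingCat.of k)))))
  obtain ⟨W, str, hp, hW, ⟨A, hA⟩, π, _, hπ, hgen, hdeg⟩ := exists_projective_model k Z.subscheme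
  letI : W.Over (Spec (CommRingCat.of k)) := ⟨str⟩
  haveI := hp
  haveI := hW
  haveI : IsNoetherian W := CohFound.isNoetherian_of_isProper (W ↘ (Spec (CommRingCat.of k)))
  have hdW : topologicalKrullDim W = (d : WithBot ℕ∞) :=
    (dim_eq_of_residueDegree_pos π hπ hgen (by rw [hdeg]; omega)).trans
      ((AmpleFin18.dim_subscheme Z rfl).trans hZ)
  have hdq : topologicalKrullDim (CohB1.support (ClSub.quotMod Z)) ≤ (d : WithBot ℕ∞) := by
    rw [support_quotMod]
    exact hZ.le
  show (0 : ℚ) ≤ MvPolynomial.coeff (ones d) P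
  rw [coeff_eq_mixedDiff (fun _ => hL) (CurveCoh17.isCoh_quotMod Z) hdq hP]
  change 0 ≤ md k (fun _ : Fin d => L) (ClSub.quotMod Z)
  have key := md_pullback_dominant (k := k) π hπ hgen hdW
    (L := fun _ : Fin d => (Scheme.Modules.pullback ι).obj L) (fun _ => Twist.isInvertible_pullback ι hL)
  rw [show ClSub.quotMod Z = (Scheme.Modules.pushforward ι).obj (Coh.structureModule Z.subscheme) from rfl,
    md_push ι rfl (fun _ => hL) (M1.isQCoh_structureModule _)]
  rw [hdeg, Nat.cast_one, one_mul] at key
  rw [← key]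
  refine md_nonneg_of_nef hA (fun _ => Twist.isInvertible_pullback π (Twist.isInvertible_pullback ι hL))
    (fun _ => Nef.of_iso ?_ ((Scheme.Modules.pullbackComp π ι).app L).symm) (M1.isCoh_structureModule W)
    ((Topology.IsInducing.subtypeVal.topologicalKrullDim_le).trans hdW.le)
  intro ξ hξ
  rcases cdeg_pullback (k := k) (π ≫ ι) (by rw [Category.assoc]; exact hπ) hξ with ⟨h0, _⟩ | ⟨h1, c, _, hc⟩
  · rw [h0 L hL]
  · rw [hc L hL]
    refine mul_nonneg (Nat.cast_nonneg c) ?_
    rw [cdeg_quotMod]
    have h := hnef (ptIdeal ((π ≫ ι) ξ)) (isIntegral_pt _).1 (by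
      rw [show ((ptIdeal ((π ≫ ι) ξ)).support : Set X) = closure {(π ≫ ι) ξ} from
        Scheme.IdealSheafData.coe_support_vanishingIdeal _]
      exact h1)
    exact_mod_cast h

end Groth.Agent.S11370
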