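import Groth.Statements.S11372
import Groth.Agent.Lib.AmpleFin18.GenCurves

set_option autoImplicit false
universe u
open CategoryTheory CategoryTheory.Limits AlgebraicGeometry TopologicalSpace
open Variety

namespace Groth.Agent.S11372

/-- Let X be proper and integral over an algebraically closed field k, L an invertible O_X-module
generated by its global sections, and s : O_X ⟶ L a global section, with U = X_s the open subset
where s generates L (the complement of the support of the effective divisor of s). If U contains no
integral closed subscheme of X of dimension one, then U is an affine open of X. -/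
theorem result (k : Type u) [Field k] [IsAlgClosed k] (X : Scheme.{u})
    [X.Over (Spec (CommRingCat.of k))] [IsProper (X ↘ (Spec (CommRingCat.of k)))] [IsIntegral X]
    (L : X.Modules) (hL : PicF.IsInvertible L) (hgen : Curv2.IsGloballyGenerated L)
    (s : Coh.structureModule X ⟶ L)
    (hcurves : ∀ C : X.IdealSheafData, IsIntegral C.subscheme →
      topologicalKrullDim (C.support : Set X) = 1 →
        ¬ ((C.support : Set X) ⊆ (CohB1.genLocus L s : Set X))) :
    IsAffineOpen (CohB1.genLocus L s) := by
  classical
  let p := X ↘ Spec (CommRingCat.of k)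
  haveI : IsNoetherian X := Groth.Agent.CohFound.isNoetherian_of_isProper p
  choose t ht using fun x : X => Groth.Agent.RA.exists_gen_of_isGloballyGenerated hL hgen x
  obtain ⟨T, hT⟩ := isCompact_univ.elim_finite_subcover (fun x : X => (CohB1.genLocus L (t x) : Set X))
    (fun x => (CohB1.genLocus L (t x)).isOpen) fun x _ => Set.mem_iUnion.2 ⟨x, ht x⟩
  let sec : Option T → (Coh.structureModule X ⟶ L) := fun o => o.elim s fun x => t x.1
  have hcov : ⨆ o : Option T, CohB1.genLocus L (sec o) = ⊤ := eq_top_iff.2 fun y _ => by
    obtain ⟨x, hx, hy⟩ := Set.mem_iUnion₂.1 (hT (Set.mem_univ y))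
    exact Opens.mem_iSup.2 ⟨some ⟨x, hx⟩, hy⟩
  obtain ⟨n, j, D, hj, -, haff, hch⟩ := Groth.Agent.AmpleImm18.exists_map_of_sections p hL
    (fun o : Option T => CohB1.genLocus L (sec o)) hcov (fun o => Groth.Agent.Amp.gval (sec o))
    (fun o y => (Groth.Agent.Amp.mem_genLocus_iff hL (sec o)).symm) (fun _ => ∅)
    (fun o a ha => absurd ha (Finset.notMem_empty a))
  obtain ⟨hD, -, -⟩ := hch none
  show IsAffineOpen (CohB1.genLocus L (sec none))
  rw [← hD]
  haveI : IsProper (j ≫ CohB1.ProjSpace.toSpec n k) := hj ▸ inferInstance
  haveI : IsProper j := IsProper.of_comp j (CohB1.ProjSpace.toSpec n k)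
  haveI : JacobsonSpace X := LocallyOfFiniteType.jacobsonSpace p
  let U := j ⁻¹ᵁ D none
  have hfib : ∀ x : U, IsClosed ({x} : Set U) → ((j ∣_ D none).base ⁻¹' {(j ∣_ D none) x}).Finite := by
    intro x hx
    have hxc : IsClosed ({U.ι x} : Set X) := by
      have h : x ∈ closedPoints U := hx
      rw [← U.ι.isOpenEmbedding.preimage_closedPoints] at h
      exact h
    have hp : IsClosed ({j (U.ι x)} : Set (CohB1.ProjSpace n k)) := by
      simpa using j.isClosedMap _ hxc
    have hfin : (j.base ⁻¹' {j (U.ι x)}).Finite := by
      refine Groth.Agent.AmpleImm18.finite_of_forall_isClosed (hp.preimage j.continuous) fun η hη =>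
        by_contra fun hcl => ?_
      obtain ⟨z, hz, hzd⟩ := Groth.Agent.AmpleFin18.exists_curve_below k hcl
      let C : X.IdealSheafData :=
        Scheme.IdealSheafData.vanishingIdeal ⟨closure ({z} : Set X), isClosed_closure⟩
      have hCs : (C.support : Set X) = closure {z} := Scheme.IdealSheafData.coe_support_vanishingIdeal _
      haveI : IsIntegral C.subscheme :=
        Groth.Agent.AmpleFin18.isIntegral_of_irreducible _ isIrreducible_singleton.closure
      have hz' : z ∈ j.base ⁻¹' {j (U.ι x)} :=
        closure_minimal (Set.singleton_subset_iff.2 hη) (hp.preimage j.continuous) hz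
      refine hcurves C inferInstance (hCs ▸ hzd) fun y hy => ?_
      have hy' : y ∈ j.base ⁻¹' {j (U.ι x)} :=
        closure_minimal (Set.singleton_subset_iff.2 hz') (hp.preimage j.continuous) (hCs ▸ hy)
      show y ∈ CohB1.genLocus L (sec none)
      rw [← hD]
      show j y ∈ D none
      rw [show j y = j (U.ι x) from hy']
      exact x.2
    refine Set.Finite.of_finite_image (f := U.ι.base) (hfin.subset ?_) U.ι.isOpenEmbedding.injective.injOn
    rintro _ ⟨w, hw, rfl⟩
    have h := congrArg (fun v => (D none).ι v) (show (j ∣_ D none) w = (j ∣_ D none) x from hw)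
    simp only [morphismRestrict_base_coe, Scheme.Opens.ι_apply] at h
    exact h
  haveI : IsAffine (D none).toScheme := haff none
  haveI : CompactSpace U := QuasiCompact.compactSpace_of_compactSpace (j ∣_ D none)
  haveI : LocallyQuasiFinite (j ∣_ D none) := by
    rw [← Scheme.Hom.quasiFiniteLocus_eq_top_iff]
    by_contra hne
    have hne' : (((j ∣_ D none).quasiFiniteLocus : Set U)ᶜ).Nonempty := by
      rw [Set.nonempty_compl]
      exact fun h => hne (SetLike.coe_injective h)
    obtain ⟨x, hx, hxc⟩ := IsClosed.exists_closed_singleton (j ∣_ D none).quasiFiniteLocus.isOpen.isClosed_compl hne'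
    exact hx (Groth.Agent.CohFound.quasiFiniteAt_of_finite_fibre _ x (hfib x hxc))
  haveI : IsFinite (j ∣_ D none) := IsFinite.of_isProper_of_locallyQuasiFinite _
  exact isAffine_of_isAffineHom (j ∣_ D none)

end Groth.Agent.S11372
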