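import Groth.Statements.S11378
import Groth.Agent.Lib.BC8.LichIff
import Groth.Agent.Lib.CohFound.MV
import Groth.Agent.Lib.CohFound.HHBridge
import Groth.Agent.Lib.DPerf.Noeth
-- import your own Groth.Agent.* helpers here

set_option autoImplicit false
set_option backward.isDefEq.respectTransparency false
universe u
open CategoryTheory CategoryTheory.Limits AlgebraicGeometry TopologicalSpace
open CohDim

namespace Groth.Agent.S11378

/-- Let X be proper and integral over an algebraically closed field k, of dimension n ≥ 2, with all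
local rings regular, and let U ≠ X be an open subscheme whose cohomological dimension is at most n -
2: H^i(U, F) = 0 for every coherent O_U-module F and every i with n - 2 < i. Then Y = X ∖ U is
connected. -/
theorem result (k : Type u) [Field k] [IsAlgClosed k] (X : Scheme.{u})
    [X.Over (Spec (CommRingCat.of k))] [IsProper (X ↘ (Spec (CommRingCat.of k)))] [IsIntegral X]
    (hreg : ∀ x : X, IsRegularLocalRing (X.presheaf.stalk x))
    (n : ℕ) (hn : 2 ≤ n) (hdim : topologicalKrullDim X = n)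
    (U : X.Opens) (hUX : U ≠ ⊤)
    (hcd : ∀ F : (U : Scheme.{u}).Modules, Coh.IsCoh F → ∀ i : ℕ, n - 2 < i → Subsingleton (Coh.HH (U : Scheme.{u}) F i)) :
    _root_.IsConnected ((U : Set X)ᶜ) := by
  haveI : IsNoetherian X := CohFound.isNoetherian_of_isProper (X ↘ Spec (CommRingCat.of k))
  have hne : ((U : Set X)ᶜ).Nonempty := Set.nonempty_compl.2 fun h => hUX (SetLike.coe_injective h)
  refine ⟨hne, isPreconnected_closed_iff.2 fun A B hA hB hcov hYA hYB => ?_⟩
  by_contra hAB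
  rw [Set.not_nonempty_iff_eq_empty] at hAB
  let U₁ : X.Opens := ⟨((U : Set X)ᶜ ∩ A)ᶜ, ((U.2.isClosed_compl).inter hA).isOpen_compl⟩
  let U₂ : X.Opens := ⟨((U : Set X)ᶜ ∩ B)ᶜ, ((U.2.isClosed_compl).inter hB).isOpen_compl⟩
  have hsup : U₁ ⊔ U₂ = ⊤ := by
    refine eq_top_iff.2 fun x _ => ?_
    by_contra hx
    simp only [TopologicalSpace.Opens.mem_sup, not_or] at hx
    obtain ⟨h1, h2⟩ := hx
    have h1' : x ∈ (U : Set X)ᶜ ∩ A := not_not.1 h1
    have h2' : x ∈ (U : Set X)ᶜ ∩ B := not_not.1 h2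
    exact (Set.eq_empty_iff_forall_notMem.1 hAB x) ⟨h1'.1, h1'.2, h2'.2⟩
  have hinf : U₁ ⊓ U₂ = U := by
    refine TopologicalSpace.Opens.ext (Set.ext fun x => ⟨fun hx => ?_, fun hx => ?_⟩)
    · by_contra hxU
      rcases hcov hxU with h | h
      · exact hx.1 ⟨hxU, h⟩
      · exact hx.2 ⟨hxU, h⟩
    · exact ⟨fun h => h.1 hx, fun h => h.1 hx⟩
  obtain ⟨ω, hω, hnt⟩ := BC8.exists_nontrivial_HH_top k X n hdim
  have key : ∀ (W V : X.Opens), W ⊔ V = ⊤ → V ≠ ⊤ → W ≠ ⊤ →
      Subsingleton (CohFound.Hc ((CohFound.abF X).obj ω) n W) := fun W V hWV hV hW => by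
    have hWne : Nonempty (W : Scheme.{u}) := by
      by_contra h
      rw [not_nonempty_iff] at h
      exact hV (by rw [← hWV, show W = ⊥ from (eq_bot_iff.2 fun x hx => (h.false ⟨x, hx⟩).elim), bot_sup_eq])
    haveI := hWne
    haveI : IsIntegral (W : Scheme.{u}) := inferInstance
    have hnp : ¬ IsProper (W.ι ≫ (X ↘ Spec (CommRingCat.of k))) := fun hp => by
      haveI := hp
      haveI : IsProper W.ι := IsProper.of_comp W.ι (X ↘ Spec (CommRingCat.of k))
      have hcl : IsClosed (Set.range W.ι) := W.ι.isClosedMap.isClosed_range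
      rw [Scheme.Opens.range_ι] at hcl
      rcases isClopen_iff.1 (⟨hcl, W.2⟩ : IsClopen (W : Set X)) with h | h
      · obtain ⟨⟨x, hx⟩⟩ := hWne
        exact (h.subset hx).elim
      · exact hW (SetLike.coe_injective h)
    have hd : topologicalKrullDim (W : Scheme.{u}) ≤ (n : WithBot ℕ∞) :=
      le_trans W.ι.isOpenEmbedding.isEmbedding.isInducing.topologicalKrullDim_le hdim.le
    haveI := BC8.subsingleton_HH_of_not_proper k W (W.ι ≫ (X ↘ Spec (CommRingCat.of k))) hnp n hd (ω.restrict W.ι)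
      (DPerf.isCoh_restrict hω W.ι).1
    obtain ⟨e⟩ := CohFound.nonempty_HHon_addEquiv ω W n
    exact e.symm.toEquiv.subsingleton
  have hT₁ : U₁ ≠ ⊤ := fun h => by
    obtain ⟨x, hxY, hxA⟩ := hYA
    exact (h ▸ TopologicalSpace.Opens.mem_top x : x ∈ U₁) ⟨hxY, hxA⟩
  have hT₂ : U₂ ≠ ⊤ := fun h => by
    obtain ⟨x, hxY, hxB⟩ := hYB
    exact (h ▸ TopologicalSpace.Opens.mem_top x : x ∈ U₂) ⟨hxY, hxB⟩
  haveI h1 := key U₁ U₂ hsup hT₂ hT₁
  haveI h2 := key U₂ U₁ (by rw [sup_comm, hsup]) hT₁ hT₂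
  obtain ⟨m, rfl⟩ : ∃ m, n = m + 1 := ⟨n - 1, by omega⟩
  haveI hU : Subsingleton (CohFound.Hc ((CohFound.abF X).obj ω) m (U₁ ⊓ U₂)) := by
    rw [hinf]
    obtain ⟨e⟩ := CohFound.nonempty_HHon_addEquiv ω U m
    haveI := hcd (ω.restrict U.ι) (DPerf.isCoh_restrict hω U.ι) m (by omega)
    exact e.symm.toEquiv.subsingleton
  have hz : Subsingleton (CohFound.Hc ((CohFound.abF X).obj ω) (m + 1) (U₁ ⊔ U₂)) := by
    suffices h : ∀ x : CohFound.Hc ((CohFound.abF X).obj ω) (m + 1) (U₁ ⊔ U₂), x = 0 from ⟨fun a b => (h a).trans (h b).symm⟩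
    intro x
    obtain ⟨v, hv⟩ := CohFound.mv_exact x (Subsingleton.elim _ _) (Subsingleton.elim _ _)
    rw [← hv, Subsingleton.elim v 0, map_zero]
  rw [hsup] at hz
  haveI := hz
  exact not_nontrivial_iff_subsingleton.2 (CohFound.hhExt ω (m + 1)).toEquiv.subsingleton hnt

end Groth.Agent.S11378
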