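import Groth.Statements.S11379
import Groth.Agent.Lib.CdDual8.Main
import Groth.Agent.Lib.CdDual8.Divisor

set_option linter.style.haveILetI false
set_option backward.isDefEq.respectTransparency false
set_option backward.isDefEq.respectTransparency.types false
set_option maxHeartbeats 1600000

set_option autoImplicit false
universe u
open CategoryTheory CategoryTheory.Limits AlgebraicGeometry TopologicalSpace
open Lef

namespace Groth.Agent.S11379

/-- Let X be proper and integral over an algebraically closed field k, of dimension n, with all local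
rings regular and carrying an ample invertible O_X-module; let Y be the closed subscheme of a
quasi-coherent ideal 𝓘 and U = X ∖ Y. Then the following are equivalent: (i) H^i(U, F) = 0 for every
coherent O_U-module F and every i ≥ n - 1 (cohomological dimension of U less than n - 1); (ii) the
Lefschetz condition Lef(X, Y) holds (for every open V ⊇ Y and finite locally free O_V-module D,
Hom(D, O_V) → lim_m Hom(D, O_V/𝓘^{m+1}) is bijective) and Y meets the support of every effective
Cartier divisor of X other than the zero divisor. -/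
theorem result (k : Type u) [Field k] [IsAlgClosed k] (X : Scheme.{u})
    [X.Over (Spec (CommRingCat.of k))] [IsProper (X ↘ (Spec (CommRingCat.of k)))] [IsIntegral X]
    (hreg : ∀ x : X, IsRegularLocalRing (X.presheaf.stalk x))
    (A : X.Modules) (hA : CohB1.IsAmple A)
    (n : ℕ) (hdim : topologicalKrullDim X = n)
    (𝓘 : X.IdealSheafData) (U : X.Opens) (hU : (U : Set X) = (𝓘.support : Set X)ᶜ) :
    (∀ F : (U : Scheme.{u}).Modules, Coh.IsCoh F → ∀ i : ℕ, n ≤ i + 1 →
        Subsingleton (Coh.HH (U : Scheme.{u}) F i)) ↔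
      (Lef.LefCond X 𝓘 ∧
        ∀ D : X.IdealSheafData, BlowUp.IsEffCartierIdeal D → D ≠ ⊤ →
          ((D.support : Set X) ∩ (𝓘.support : Set X)).Nonempty) := by
  let f := X ↘ Spec (CommRingCat.of k)
  haveI : AlgebraicGeometry.IsNoetherian X := CohFound.isNoetherian_of_isProper f
  haveI : X.IsSeparated := ⟨by
    rw [← Limits.terminal.comp_from (X ↘ Spec (CommRingCat.of k))]
    infer_instance⟩
  have hsupp : ∀ D : X.IdealSheafData, D ≠ ⊤ → (D.support : Set X).Nonempty := fun D hne => by
    by_contra he
    refine hne ((Scheme.IdealSheafData.support_eq_bot_iff D).1 (SetLike.coe_injective ?_))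
    rw [Set.not_nonempty_iff_eq_empty.1 he]
    exact TopologicalSpace.Closeds.coe_bot.symm
  constructor
  · intro hcd
    by_cases hn : n ≤ 1
    · have hUe : (U : Set X) = ∅ := by
        rw [Set.eq_empty_iff_forall_notMem]
        intro x hx
        haveI : Nonempty (U : Scheme.{u}) := ⟨⟨x, hx⟩⟩
        haveI : IsIntegral (U : Scheme.{u}) := inferInstance
        letI : (U : Scheme.{u}).Over (Spec (CommRingCat.of k)) := ⟨U.ι ≫ f⟩
        exact CdDual8.nontrivial_HH_zero (k := k) (hcd _ (M1.isCoh_structureModule _) 0 (by omega))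
      have hu : (𝓘.support : Set X) = Set.univ := by
        rw [← compl_compl (𝓘.support : Set X), ← hU, hUe, Set.compl_empty]
      refine ⟨CdDual8.lefCond_of_support_univ 𝓘 hu, fun D _ hne => ?_⟩
      rw [hu, Set.inter_univ]
      exact hsupp D hne
    obtain ⟨m, rfl⟩ : ∃ m, n = m + 2 := ⟨n - 2, by omega⟩
    refine ⟨CdDual8.lefCond_of_cd k X hreg (m + 2) hdim A hA 𝓘 U hU m (by omega)
      fun G hG i hi => hcd G hG i (by omega), fun D hD hne => ?_⟩
    by_contra he
    obtain ⟨x, hx, hxm⟩ := CdDual8.exists_sdim_mem_support (k := k) (m := m + 1) hdim hD (hsupp D hne)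
    have hz : closure ({x} : Set X) ⊆ (U : Set X) := by
      rw [hU]
      refine fun y hy hyI => he ⟨y, ?_, hyI⟩
      exact (closure_minimal (Set.singleton_subset_iff.2 hx) D.support.isClosed) hy
    have := CdDual8.dim_closure_le_of_cd k X U m (fun G hG i hi => hcd G hG i (by omega)) hz
    omega
  rintro ⟨hLef, hmeet⟩ F hF i hi
  by_cases hUn : (U : Set X).Nonempty
  swap
  · refine CdDual8.subsingleton_HH_iSup_affine 0 Fin.elim0 (fun j => j.elim0) U ?_ F hF i (Nat.zero_le i)
    refine SetLike.coe_injective ?_
    rw [Set.not_nonempty_iff_eq_empty.1 hUn, TopologicalSpace.Opens.coe_iSup]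
    exact (Set.iUnion_of_empty _).symm
  have hne' : U ≠ ⊤ := fun h => by
    obtain ⟨y, hy⟩ := CdDual8.support_nonempty_of_lefCond 𝓘 hLef
    have hyU : y ∈ (U : Set X) := h ▸ trivial
    rw [hU] at hyU
    exact hyU hy
  rcases n with _ | _ | N
  · exfalso
    refine hne' (SetLike.coe_injective (Set.eq_univ_of_forall fun y => ?_))
    obtain ⟨x, hx⟩ := hUn
    have h0 : ∀ z : X, VarDim.sdim f z = 0 := fun z => by
      have h1 := VarDim.dim_eq_iSup_sdim f
      rw [hdim] at h1
      have h2 : ((VarDim.sdim f z : ℕ) : WithBot ℕ∞) ≤ ((0 : ℕ) : WithBot ℕ∞) :=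
        h1 ▸ le_iSup (fun y : X => ((VarDim.sdim f y : ℕ) : WithBot ℕ∞)) z
      exact Nat.le_zero.1 (by exact_mod_cast h2)
    have hxy : ∀ z : X, genericPoint X = z := fun z => by
      by_contra hzne
      have := VarDim.sdim_lt_of_specializes f ((genericPoint_spec X).specializes (y := z) (Set.mem_univ z)) hzne
      rw [h0, h0] at this
      exact lt_irrefl 0 this
    rw [← hxy y, hxy x]
    exact hx
  · exfalso
    haveI : JacobsonSpace X := LocallyOfFiniteType.jacobsonSpace f
    obtain ⟨z, hzU, hzc⟩ := nonempty_inter_closedPoints hUn U.isOpen.isLocallyClosed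
    have hz0 : VarDim.sdim f z = 0 := (VarDim.sdim_eq_zero_iff_isClosed f z).2 hzc
    obtain ⟨h1, h2⟩ := CdDual8.isEffCartier_of_sdim (k := k) hreg (m := 0) hdim hz0
    obtain ⟨y, hy, hyI⟩ := hmeet _ h1 h2
    rw [← Scheme.IdealSheafData.range_subschemeι, NumPoly18.range_ptι, hzc.closure_eq] at hy
    subst hy
    rw [hU] at hzU
    exact hzU hyI
  exact CdDual8.subsingleton_HH_open_of_lef k hreg (N + 1) (by omega) hdim A hA 𝓘 U hU hUn hne' hLef F hF i (by omega)

end Groth.Agent.S11379
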