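import Groth.Statements.S1138
import Groth.Agent.Lib.Pur25.Square

set_option autoImplicit false
universe u
open Pi1

namespace Groth.Agent.S1138

open AlgebraicGeometry CategoryTheory CategoryTheory.Limits in
/-- Let A be a Noetherian local ring with completion A', U the punctured spectrum of A and U' its base
change to X' = Spec A'. Let V ⟶ U be finite and let Y' ⟶ X' be finite with Y' ×_{X'} U' isomorphic
to V ×_U U' over U'. Then there is a finite Y ⟶ Spec A with Y ×_X U isomorphic to V over U and Y ×_X
X' isomorphic to Y' over X'. (The source also records that these isomorphisms are compatible over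
U'; this statement only asserts their existence.) -/
theorem result (A : Type u) [CommRing A] [IsNoetherianRing A] [IsLocalRing A]
    (V : Over (FEt.puncturedSpec A : Scheme.{u})) [IsFinite V.hom]
    (Y' : Over (Spec (CommRingCat.of (AdicCompletion (IsLocalRing.maximalIdeal A) A)))) [IsFinite Y'.hom]
    (e : (Over.pullback (pullback.fst (FEt.puncturedSpec A).ι (Spec.map (CommRingCat.ofHom (algebraMap A (AdicCompletion (IsLocalRing.maximalIdeal A) A)))))).obj V ≅ (Over.pullback (pullback.snd (FEt.puncturedSpec A).ι (Spec.map (CommRingCat.ofHom (algebraMap A (AdicCompletion (IsLocalRing.maximalIdeal A) A)))))).obj Y') :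
    ∃ Y : Over (Spec (CommRingCat.of A)), IsFinite Y.hom ∧
      Nonempty ((Over.pullback (FEt.puncturedSpec A).ι).obj Y ≅ V) ∧
      Nonempty ((Over.pullback (Spec.map (CommRingCat.ofHom (algebraMap A (AdicCompletion (IsLocalRing.maximalIdeal A) A))))).obj Y ≅ Y') := by
  classical
  obtain ⟨n, x, hx⟩ := Groth.Agent.Pur25.exists_generators A
  haveI : IsNoetherianRing (AdicCompletion (IsLocalRing.maximalIdeal A) A) := Groth.Agent.CplLocH7.isNoetherianRing_cpl A
  haveI : Module.FaithfullyFlat A (AdicCompletion (IsLocalRing.maximalIdeal A) A) := Groth.Agent.Pur25.faithfullyFlat_completion A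
  obtain ⟨T, b, hb, -, ⟨ε, hε⟩, ⟨ε', hε'⟩⟩ := Groth.Agent.Pur25.extends_of_base_change (x := x)
    (Groth.Agent.Pur25.mem_puncturedSpec_iff hx) (AdicCompletion (IsLocalRing.maximalIdeal A) A)
    (Groth.Agent.Pur25.qBij_completion hx) V.hom Y'.hom ((Over.forget _).mapIso e.symm) (Over.w e.inv)
  exact ⟨Over.mk b, hb, ⟨Over.isoMk ε hε⟩, ⟨Over.isoMk ε' hε'⟩⟩

end Groth.Agent.S1138
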