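import Groth.Statements.S11383
import Groth.Agent.Lib.CdDual8.Cd

set_option linter.style.haveILetI false
set_option backward.isDefEq.respectTransparency false
set_option backward.isDefEq.respectTransparency.types false
set_option maxHeartbeats 1600000

set_option autoImplicit false
universe u
open CategoryTheory CategoryTheory.Limits AlgebraicGeometry TopologicalSpace
open Lef

namespace Groth.Agent.S11383

/-- Let X be proper and integral over an algebraically closed field k, of dimension n, with all local
rings regular and carrying an ample invertible O_X-module, and let 𝓘 be a quasi-coherent ideal whose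
zero set Y is, as a set, the intersection of the supports of m effective Cartier divisors D_1, …,
D_m with m + 1 ≤ n, each D_j having an ample invertible module O_X(D_j) (an ample tensor inverse of
its ideal). Then the Lefschetz condition Lef(X, Y) holds. -/
theorem result (k : Type u) [Field k] [IsAlgClosed k] (X : Scheme.{u})
    [X.Over (Spec (CommRingCat.of k))] [IsProper (X ↘ (Spec (CommRingCat.of k)))] [IsIntegral X]
    (hreg : ∀ x : X, IsRegularLocalRing (X.presheaf.stalk x))
    (A : X.Modules) (hA : CohB1.IsAmple A)
    (n : ℕ) (hdim : topologicalKrullDim X = n) (m : ℕ) (hm : m + 1 ≤ n)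
    (D : Fin m → X.IdealSheafData) (L : Fin m → X.Modules)
    (hD : ∀ j, BlowUp.IsEffCartierIdeal (D j)) (hL : ∀ j, ClSub.IsInverseOf (L j) (ClSub.idealMod (D j)))
    (hLa : ∀ j, CohB1.IsAmple (L j))
    (𝓘 : X.IdealSheafData) (hY : (𝓘.support : Set X) = ⋂ j, ((D j).support : Set X)) :
    Lef.LefCond X 𝓘 := by
  haveI : AlgebraicGeometry.IsNoetherian X := CohFound.isNoetherian_of_isProper (X ↘ Spec (CommRingCat.of k))
  haveI : X.IsSeparated := ⟨by
    rw [← Limits.terminal.comp_from (X ↘ Spec (CommRingCat.of k))]
    infer_instance⟩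
  rcases Nat.eq_zero_or_pos m with rfl | hm0
  · exact CdDual8.lefCond_of_support_univ 𝓘 (by rw [hY]; exact Set.iInter_of_empty _)
  let V : Fin m → X.Opens := fun j => ⟨((D j).support : Set X)ᶜ, (D j).support.isClosed.isOpen_compl⟩
  have hV : ∀ j, IsAffineOpen (V j) := fun j => by
    obtain ⟨e⟩ := id (hL j)
    exact ES11.isAffineOpen_compl_support (X ↘ Spec (CommRingCat.of k)) e (hLa j)
  refine CdDual8.lefCond_of_cd k X hreg n hdim A hA 𝓘 (⨆ j, V j) ?_ (m - 1) (by omega)
    fun G hG i hi => CdDual8.subsingleton_HH_iSup_affine m V hV _ rfl G hG i (by omega)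
  rw [hY, Set.compl_iInter, TopologicalSpace.Opens.coe_iSup]
  rfl

end Groth.Agent.S11383
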