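import Groth.Statements.S11389
import Groth.Agent.S9515
import Groth.Agent.Lib.CurveAmple18.EulerTensor
import Groth.Agent.Lib.Cyc26.PushFin
import Groth.Agent.Lib.IdealMul.Basic
import Groth.Agent.Lib.Twist.GenLocus
import Groth.Agent.Lib.SerreCl8.Main

set_option autoImplicit false
set_option backward.isDefEq.respectTransparency false
set_option backward.isDefEq.respectTransparency.types false
set_option linter.style.haveILetI false
set_option maxHeartbeats 1000000
universe u
open CategoryTheory CategoryTheory.Limits AlgebraicGeometry TopologicalSpace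
open Variety

namespace Groth.Agent.S11389


section Helpers

/-- A free restriction stays free on a smaller open. -/
theorem free_restrict {X : Scheme.{u}} {M : X.Modules} {U W : X.Opens} (hWU : W ≤ U) {n : ℕ}
    (e : FlatMod.freeMod (U : Scheme.{u}) n ≅ M.restrict U.ι) :
    Nonempty (M.restrict W.ι ≅ FlatMod.freeMod (W : Scheme.{u}) n) := by
  have h : Set.range W.ι ⊆ Set.range U.ι := by rw [Scheme.Opens.range_ι, Scheme.Opens.range_ι]; exact hWU
  exact ⟨(Groth.Agent.M1.restrictLiftIso M U.ι W.ι h).symm ≪≫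
    (Scheme.Modules.restrictFunctor (IsOpenImmersion.lift U.ι W.ι h)).mapIso e.symm ≪≫
      Groth.Agent.M2.freeModRestrictIso (IsOpenImmersion.lift U.ι W.ι h) n⟩

/-- Exchange of two finite coproducts. -/
theorem sigma_swap {C : Type*} [Category C] [HasFiniteCoproducts C] (m r : ℕ) (O : C) :
    Nonempty ((∐ fun _ : Fin r => ∐ fun _ : Fin m => O) ≅ ∐ fun _ : Fin m => ∐ fun _ : Fin r => O) :=
  ⟨sigmaSigmaIso (fun _ : Fin r => Fin m) (fun _ _ => O) ≪≫
    Sigma.whiskerEquiv ((Equiv.sigmaEquivProd _ _).trans ((Equiv.prodComm _ _).trans (Equiv.sigmaEquivProd _ _).symm))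
      (fun _ => Iso.refl O) ≪≫
    (sigmaSigmaIso (fun _ : Fin m => Fin r) (fun _ _ => O)).symm⟩

variable {X Y : Scheme.{u}} (f : X ⟶ Y) [IsAffineHom f]

/-- The push forward of `(K O_X) M` maps into `K (f_* M)`. -/
theorem exists_push_idealMul (K : Y.IdealSheafData) (M : X.Modules) (hM : Coh.IsQCoh M)
    (hP : Coh.IsQCoh ((Scheme.Modules.pushforward f).obj M))
    (hQ : Coh.IsQCoh ((Scheme.Modules.pushforward f).obj ((Dual3.idealMul (K.comap f)).obj M))) :
    ∃ c : (Scheme.Modules.pushforward f).obj ((Dual3.idealMul (K.comap f)).obj M) ⟶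
        (Dual3.idealMul K).obj ((Scheme.Modules.pushforward f).obj M),
      c ≫ Dual3.idealMulι K _ = (Scheme.Modules.pushforward f).map (Dual3.idealMulι (K.comap f) M) := by
  haveI := hM
  haveI := hP
  haveI := hQ
  refine Groth.Agent.IdealMulL.exists_lift_affine _ (Groth.Agent.IdealMulL.idl _ K) (fun W : Y.affineOpens => W)
    (fun y => ?_) fun W m => ?_
  · obtain ⟨V, hV, hy, -⟩ := exists_isAffineOpen_mem_and_subset (x := y) (U := ⊤) trivial
    exact ⟨⟨V, hV⟩, hy⟩
  rw [Groth.Agent.IdealMulL.mem_idl]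
  have h1 : (Groth.Agent.IdealMulL.idl M (K.comap f)).mem (f ⁻¹ᵁ W.1)
      ((Dual3.idealMulι (K.comap f) M).app (f ⁻¹ᵁ W.1) m) := ⟨m, rfl⟩
  rw [Groth.Agent.IdealMulL.mem_idl M (K.comap f) ⟨f ⁻¹ᵁ W.1, W.2.preimage f⟩,
    Groth.Agent.EffCartier.comap_ideal K f W ⟨f ⁻¹ᵁ W.1, W.2.preimage f⟩ le_rfl,
    ← Scheme.Hom.app_eq_appLE] at h1
  let T : Submodule Γ(Y, W.1) Γ((Scheme.Modules.pushforward f).obj M, W.1) := K.ideal W • ⊤
  let P : Γ(M, f ⁻¹ᵁ W.1) → Prop := fun z => (show Γ((Scheme.Modules.pushforward f).obj M, W.1) from z) ∈ T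
  have key : ∀ a : Γ(X, f ⁻¹ᵁ W.1), a ∈ (K.ideal W).map (f.app W.1).hom → ∀ b : Γ(M, f ⁻¹ᵁ W.1), P (a • b) := by
    intro a ha
    induction ha using Submodule.span_induction with
    | mem x hx =>
      obtain ⟨s, hs, rfl⟩ := hx
      intro b
      exact Submodule.smul_mem_smul hs (Submodule.mem_top (R := Γ(Y, W.1)) (M := Γ((Scheme.Modules.pushforward f).obj M, W.1)) (x := b))
    | zero => intro b; rw [zero_smul]; exact T.zero_mem
    | add x y _ _ hx hy => intro b; rw [add_smul]; exact T.add_mem (hx b) (hy b)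
    | smul c x _ hx => intro b; rw [smul_eq_mul, mul_comm, mul_smul]; exact hx (c • b)
  have main : ∀ z : Γ(M, f ⁻¹ᵁ W.1), z ∈ (K.ideal W).map (f.app W.1).hom • (⊤ : Submodule Γ(X, f ⁻¹ᵁ W.1) Γ(M, f ⁻¹ᵁ W.1)) →
      P z := fun z hz =>
    Submodule.smul_induction_on (p := P) hz (fun a ha b _ => key a ha b) fun _ _ hx hy => T.add_mem hx hy
  exact main _ h1

omit [IsAffineHom f] in
/-- `J M = M` away from the support of `J`. -/
theorem isIso_restrict_idealMulι {Z : Scheme.{u}} (J : Z.IdealSheafData) (M : Z.Modules) (hM : Coh.IsQCoh M)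
    (U : Z.Opens) (hU : ∀ z ∈ U, z ∉ J.support) :
    IsIso ((Scheme.Modules.restrictFunctor U.ι).map (Dual3.idealMulι J M)) := by
  haveI := hM
  rw [Groth.Agent.Twist.isIso_restrict_map_iff]
  intro V hV
  refine ⟨Groth.Agent.M1.app_injective (Dual3.idealMulι J M) V, fun s => ?_⟩
  show (Groth.Agent.IdealMulL.idl M J).mem V s
  rw [Groth.Agent.M1.Sub.mem_iff_cokernel]
  refine Groth.Agent.M1.section_ext _ _ fun x hx => ?_
  obtain ⟨W, hW, hxW, hWV⟩ := exists_isAffineOpen_mem_and_subset (x := x) (U := V) hx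
  rw [map_zero]
  have htop : J.ideal ⟨W, hW⟩ = ⊤ := by
    by_contra hne
    obtain ⟨p, hp, hle⟩ := Ideal.exists_le_maximal _ hne
    haveI := hp.isPrime
    let y := hW.fromSpec.base ⟨p, hp.isPrime⟩
    have hyW : y ∈ W := by
      have : y ∈ Set.range hW.fromSpec := ⟨_, rfl⟩
      rw [hW.range_fromSpec] at this
      exact this
    refine hU y (hV (hWV hyW)) ?_
    rw [Scheme.IdealSheafData.mem_support_iff_of_mem (U := ⟨W, hW⟩) hyW]
    have : y ∈ hW.fromSpec '' PrimeSpectrum.zeroLocus (J.ideal ⟨W, hW⟩ : Set Γ(Z, W)) := ⟨_, hle, rfl⟩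
    rw [hW.fromSpec_image_zeroLocus] at this
    exact this.1
  have h0 : (Groth.Agent.IdealMulL.idl M J).mem W (M.presheaf.map (homOfLE hWV).op s) := by
    rw [Groth.Agent.IdealMulL.mem_idl M J ⟨W, hW⟩, htop, Submodule.top_smul]
    trivial
  rw [Groth.Agent.M1.Sub.mem_iff_cokernel] at h0
  rw [← TopCat.Presheaf.germ_res_apply _ (homOfLE hWV) x hxW]
  have h1 := congrArg (fun t => (cokernel (Groth.Agent.IdealMulL.idl M J).i).presheaf.germ W x hxW t) h0
  simp only [map_zero] at h1
  rw [← h1]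
  congr 1
  exact (Groth.Agent.M1.map_app_eq _ hWV s).symm

end Helpers

/-- Let k be an algebraically closed field, X and Y integral schemes separated and of finite type over
k, and f : X ⟶ Y a finite surjective k-morphism of degree m = [K(X) : K(Y)], computed as the rank of
the stalk of f_*O_X at the generic point of Y over the function field K(Y). Then for every coherent
O_Y-module F there exist a coherent O_X-module G and a morphism u : f_*G ⟶ F^{⊕m} whose restriction
to some open neighbourhood of the generic point of Y is an isomorphism. -/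
theorem result
    (k : Type u) [Field k] [IsAlgClosed k] (X Y : Scheme.{u})
    [X.Over (Spec (CommRingCat.of k))] [Y.Over (Spec (CommRingCat.of k))]
    [IsSeparated (X ↘ (Spec (CommRingCat.of k)))] [LocallyOfFiniteType (X ↘ (Spec (CommRingCat.of k)))]
    [IsSeparated (Y ↘ (Spec (CommRingCat.of k)))] [LocallyOfFiniteType (Y ↘ (Spec (CommRingCat.of k)))]
    [QuasiCompact (Y ↘ (Spec (CommRingCat.of k)))]
    [IsIntegral X] [IsIntegral Y] (f : X ⟶ Y) [IsFinite f] [Surjective f]
    (hf : f ≫ (Y ↘ (Spec (CommRingCat.of k))) = X ↘ (Spec (CommRingCat.of k)))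
    (F : Y.Modules) (hF : Coh.IsCoh F) :
    ∃ (G : X.Modules) (u : (Scheme.Modules.pushforward f).obj G ⟶
        ∐ fun _ : Fin (Module.finrank (Y.functionField)
            (((Scheme.Modules.pushforward f).obj (Coh.structureModule X)).presheaf.stalk (genericPoint Y))) => F),
      Coh.IsCoh G ∧ ∃ V : Y.Opens, genericPoint Y ∈ V ∧
        IsIso ((Scheme.Modules.restrictFunctor V.ι).map u) := by
  classical
  haveI : IsLocallyNoetherian Y := LocallyOfFiniteType.isLocallyNoetherian (Y ↘ Spec (CommRingCat.of k))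
  haveI : CompactSpace ↥Y := QuasiCompact.compactSpace_of_compactSpace (Y ↘ Spec (CommRingCat.of k))
  haveI : IsNoetherian Y := {}
  haveI : IsLocallyNoetherian X := LocallyOfFiniteType.isLocallyNoetherian f
  let O : X.Modules := Coh.structureModule X
  have hA : Coh.IsCoh ((Scheme.Modules.pushforward f).obj O) :=
    Groth.Agent.Cyc26.isCoh_push_finite f (Groth.Agent.M1.isCoh_structureModule X)
  obtain ⟨U₁, -, hη₁, ⟨e₁⟩⟩ := Groth.Agent.CurveAmple18.exists_affine_generic_free hA
  obtain ⟨U₂, -, hη₂, ⟨e₂⟩⟩ := Groth.Agent.CurveAmple18.exists_affine_generic_free hF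
  generalize hm : Module.finrank (Y.presheaf.stalk (genericPoint Y))
    (((Scheme.Modules.pushforward f).obj O).presheaf.stalk (genericPoint Y)) = m at e₁
  generalize Module.finrank (Y.presheaf.stalk (genericPoint Y)) (F.presheaf.stalk (genericPoint Y)) = r at e₂
  obtain ⟨a₁⟩ := free_restrict (inf_le_left : U₁ ⊓ U₂ ≤ U₁) e₁
  obtain ⟨a₂⟩ := free_restrict (inf_le_right : U₁ ⊓ U₂ ≤ U₂) e₂
  let V := U₁ ⊓ U₂
  let R := Scheme.Modules.restrictFunctor V.ι
  let G₀ : X.Modules := FlatMod.freeMod X r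
  have hG₀ : Coh.IsCoh G₀ :=
    (Groth.Agent.M1.isCoh_iff_isFP _).2
      (Groth.Agent.M1.isFP_of_isFinLocFree (Groth.Agent.M2.isFinLocFree_of_ofRank (Groth.Agent.M2.isFinLocFreeOfRank_freeMod X r)))
  let Fm : Y.Modules := ∐ fun _ : Fin m => F
  obtain ⟨sw⟩ := sigma_swap m r (Coh.structureModule (V : Scheme.{u}))
  let φ : R.obj ((Scheme.Modules.pushforward f).obj G₀) ≅ R.obj Fm :=
    R.mapIso (PreservesCoproduct.iso (Scheme.Modules.pushforward f) fun _ : Fin r => O) ≪≫
      PreservesCoproduct.iso R (fun _ : Fin r => (Scheme.Modules.pushforward f).obj O) ≪≫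
      Sigma.mapIso (fun _ => a₁) ≪≫ sw ≪≫ (Sigma.mapIso (fun _ => a₂)).symm ≪≫
      (PreservesCoproduct.iso R fun _ : Fin m => F).symm
  let I : Y.IdealSheafData := Scheme.IdealSheafData.vanishingIdeal ⟨(V : Set Y)ᶜ, V.isOpen.isClosed_compl⟩
  have hI : (V : Set Y) = (I.support : Set Y)ᶜ := by
    rw [Scheme.IdealSheafData.coe_support_vanishingIdeal]
    exact (compl_compl _).symm
  have hP : Coh.IsCoh ((Scheme.Modules.pushforward f).obj G₀) := Groth.Agent.Cyc26.isCoh_push_finite f hG₀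
  have hFm : Coh.IsQCoh Fm := by
    exact Groth.Agent.M1.isQCoh_of_isIso
      (Sigma.whiskerEquiv (f := fun _ : ULift.{u} (Fin m) => F) (g := fun _ : Fin m => F) Equiv.ulift (fun _ => Iso.refl F))
      (Groth.Agent.SerreCl8.isQCoh_sigma _ fun _ => hF.1)
  obtain ⟨n, ψ, hψ⟩ := Groth.Agent.S9515.result Y Fm ((Scheme.Modules.pushforward f).obj G₀) hFm hP I V hI φ.hom
  let G : X.Modules := (Dual3.idealMul ((I ^ n).comap f)).obj G₀
  have hG : Coh.IsCoh G := Groth.Agent.M1.isCoh_of_mono (Dual3.idealMulι ((I ^ n).comap f) G₀) hG₀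
    (Groth.Agent.IdealMulL.isQCoh_idl G₀ _ hG₀.1)
  obtain ⟨c, hc⟩ := exists_push_idealMul f (I ^ n) G₀ hG₀.1 hP.1 (Groth.Agent.Cyc26.isCoh_push_finite f hG).1
  subst hm
  refine ⟨G, c ≫ ψ, hG, V, ⟨hη₁, hη₂⟩, ?_⟩
  have hsupp : ∀ y ∈ V, y ∉ (I ^ n).support := by
    intro y hy hy'
    have hy1 : y ∉ (I.support : Set Y) := by rw [← Set.mem_compl_iff, ← hI]; exact hy
    cases n with
    | zero => rw [pow_zero, Scheme.IdealSheafData.one_eq_top, Scheme.IdealSheafData.support_top] at hy'; exact hy'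
    | succ n => rw [Scheme.IdealSheafData.support_pow _ _ (Nat.succ_ne_zero n)] at hy'; exact hy1 hy'
  have hi : IsIso ((Scheme.Modules.restrictFunctor V.ι).map
      ((Scheme.Modules.pushforward f).map (Dual3.idealMulι ((I ^ n).comap f) G₀))) := by
    rw [Groth.Agent.Twist.isIso_restrict_map_iff]
    intro W hW
    have h := (Groth.Agent.Twist.isIso_restrict_map_iff _ (f ⁻¹ᵁ V)).1
      (isIso_restrict_idealMulι ((I ^ n).comap f) G₀ hG₀.1 (f ⁻¹ᵁ V) (fun z hz hz' => by
        rw [Scheme.IdealSheafData.support_comap] at hz'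
        exact hsupp _ hz hz'))
    exact h (f ⁻¹ᵁ W) (fun z hz => hW hz)
  have hj := isIso_restrict_idealMulι (I ^ n) ((Scheme.Modules.pushforward f).obj G₀) hP.1 V hsupp
  have hcI : IsIso ((Scheme.Modules.restrictFunctor V.ι).map c) := by
    haveI := hj
    haveI : IsIso ((Scheme.Modules.restrictFunctor V.ι).map c ≫
        (Scheme.Modules.restrictFunctor V.ι).map (Dual3.idealMulι (I ^ n) _)) := by
      rw [← Functor.map_comp, hc]; exact hi
    exact IsIso.of_isIso_comp_right _ ((Scheme.Modules.restrictFunctor V.ι).map (Dual3.idealMulι (I ^ n) _))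
  haveI := hcI
  haveI := hj
  rw [Functor.map_comp, hψ]
  infer_instance

end Groth.Agent.S11389
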