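import Groth.Statements.S11390
import Groth.Agent.Lib.CdDual8.Van
import Groth.Agent.Lib.EnriquesSeveri11.Lef
import Groth.Agent.Lib.ResDesc11.Basic

set_option linter.style.haveILetI false
set_option backward.isDefEq.respectTransparency false
set_option backward.isDefEq.respectTransparency.types false
set_option maxHeartbeats 1600000

set_option autoImplicit false
universe u
open CategoryTheory CategoryTheory.Limits AlgebraicGeometry TopologicalSpace
open CohDim

namespace Groth.Agent.S11390

/-- Let X be proper and integral over an algebraically closed field k, of dimension n, with all local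
rings regular; let 𝓘 be a quasi-coherent ideal with closed subscheme Y, U = X ∖ Y, and r ≥ 0 such
that H^i(U, F) = 0 for every coherent O_U-module F and every i > r. Then for every i with i + r + 2
≤ n, every family of classes in the H^i(X, O_X/𝓘^{m+1}) compatible under the reduction maps
O_X/𝓘^{m+2} ⟶ O_X/𝓘^{m+1} comes from a class in H^i(X, O_X); together with the injectivity
statement, the canonical map α_i : H^i(X, O_X) → lim_m H^i(X, O_X/𝓘^{m+1}) is bijective. (The
published statement treats every locally free O_X-module and is an equivalence; the surjectivity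
clause is written here for O_X only.) -/
theorem result (k : Type u) [Field k] [IsAlgClosed k] (X : Scheme.{u})
    [X.Over (Spec (CommRingCat.of k))] [IsProper (X ↘ (Spec (CommRingCat.of k)))] [IsIntegral X]
    (hreg : ∀ x : X, IsRegularLocalRing (X.presheaf.stalk x))
    (n : ℕ) (hdim : topologicalKrullDim X = n)
    (𝓘 : X.IdealSheafData) (U : X.Opens) (hU : (U : Set X) = (𝓘.support : Set X)ᶜ) (r : ℕ)
    (hcd : ∀ F : (U : Scheme.{u}).Modules, Coh.IsCoh F → ∀ i : ℕ, r < i →
      Subsingleton (Coh.HH (U : Scheme.{u}) F i)) (i : ℕ) (hi : i + r + 2 ≤ n)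
    (y : ∀ m : ℕ, Coh.HH X (ClSub.quotMod (𝓘 ^ (m + 1))) i)
    (hy : ∀ m : ℕ, Sheaf.H.map ((SheafOfModules.toSheaf X.ringCatSheaf).map
      (Lef.quotMap (Lef.pow_succ_le 𝓘 m))) i (y (m + 1)) = y m) :
    ∃ x : Coh.HH X (Coh.structureModule X) i, ∀ m : ℕ,
      Sheaf.H.map ((SheafOfModules.toSheaf X.ringCatSheaf).map
        (ClSub.toSubscheme (𝓘 ^ (m + 1)))) i x = y m := by
  have hO : FlatMod.IsFinLocFree (Coh.structureModule X) :=
    ResDesc11.isFinLocFree_structureModule X
  have hV : ∀ j : ℕ, j + r + 1 ≤ n → TZ11.Van 𝓘 (Coh.structureModule X) j := fun j hj =>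
    CdDual8.van_of_cd k X hreg n hdim 𝓘 U hU r hcd _ hO j hj
  exact (TZ11.formal_bijective k (fun m => ClSub.quotMod (𝓘 ^ (m + 1)))
    (fun m => ClSub.toSubscheme (𝓘 ^ (m + 1))) (fun m => Lef.quotMap (Lef.pow_succ_le 𝓘 m))
    (fun m => ES11.toSubscheme_quotMap _) (fun m => ClSub.idealModι (𝓘 ^ (m + 1)))
    (fun m => kernel.condition _) (fun m => M2.shortExact_idealMod (𝓘 ^ (m + 1)))
    (TZ11.kerVan_idealMod 𝓘 (hV i (by omega))) (TZ11.kerVan_idealMod 𝓘 (hV (i + 1) (by omega)))).2 y hy

end Groth.Agent.S11390
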