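import Groth.Statements.S11392
import Groth.Agent.Lib.CdDual8.Field
import Groth.Agent.Lib.CdDual8.Kill
import Groth.Agent.Lib.TateZero11.Lim
import Groth.Agent.Lib.BC8.CartierAdj
import Groth.Agent.Lib.Depth.CM
import Groth.Agent.Lib.ProjDual12.Trans

set_option linter.style.haveILetI false
set_option backward.isDefEq.respectTransparency false
set_option backward.isDefEq.respectTransparency.types false
set_option maxHeartbeats 1600000

set_option autoImplicit false
universe u
open CategoryTheory CategoryTheory.Limits AlgebraicGeometry TopologicalSpace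
attribute [local instance] HasDerivedCategory.standard
open CohDim

namespace Groth.Agent.S11392

/-- Let X be proper and integral over an algebraically closed field k, of dimension n, with all local
rings regular; let 𝓘 be a quasi-coherent ideal with closed subscheme Y, ι_m : Y_m ⟶ X the closed
subscheme of 𝓘^{m+1}, U = X ∖ Y, and r ≥ 0 such that H^i(U, G) = 0 for every coherent O_U-module G
and every i > r. Then for every finite locally free O_X-module F and every i with i + r + 1 ≤ n, an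
element of H^i(X, F) whose image in H^i(X, ι_{m*} ι_m^* F) under the unit map F ⟶ ι_{m*} ι_m^* F
vanishes for every m is zero; that is, the canonical map from H^i(X, F) to the cohomology of the
formal completion of F along Y is injective. (The published statement is an equivalence and also
asserts surjectivity onto the limit for i + r + 2 ≤ n.) -/
theorem result (k : Type u) [Field k] [IsAlgClosed k] (X : Scheme.{u})
    [X.Over (Spec (CommRingCat.of k))] [IsProper (X ↘ (Spec (CommRingCat.of k)))] [IsIntegral X]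
    (hreg : ∀ x : X, IsRegularLocalRing (X.presheaf.stalk x))
    (n : ℕ) (hdim : topologicalKrullDim X = n)
    (𝓘 : X.IdealSheafData) (U : X.Opens) (hU : (U : Set X) = (𝓘.support : Set X)ᶜ) (r : ℕ)
    (hcd : ∀ G : (U : Scheme.{u}).Modules, Coh.IsCoh G → ∀ i : ℕ, r < i →
      Subsingleton (Coh.HH (U : Scheme.{u}) G i))
    (F : X.Modules) (hF : FlatMod.IsFinLocFree F) (i : ℕ) (hi : i + r + 1 ≤ n)
    (x : Coh.HH X F i)
    (hx : ∀ m : ℕ, Sheaf.H.map ((SheafOfModules.toSheaf X.ringCatSheaf).map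
      ((Scheme.Modules.pullbackPushforwardAdjunction (𝓘 ^ (m + 1)).subschemeι).unit.app F)) i x = 0) :
    x = 0 := by
  classical
  haveI : ∀ (U V : Scheme.{u}) (j : U ⟶ V) [IsOpenImmersion j],
      PreservesFiniteLimits (Scheme.Modules.restrictFunctor j) := fun U V j _ => inferInstance
  haveI : ∀ (R : CommRingCat.{u}), PreservesFiniteLimits (tilde.functor R) := fun R =>
    M1.tilde_preservesFiniteLimits
  let f := X ↘ Spec (CommRingCat.of k)
  haveI : IsLocallyNoetherian X := LocallyOfFiniteType.isLocallyNoetherian f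
  haveI : CompactSpace X := QuasiCompact.compactSpace_of_compactSpace f
  haveI : AlgebraicGeometry.IsNoetherian X := { }
  haveI := DBC9.hasRpush f
  let hp := BC8.rpushPreserves f
  haveI := BC8.isLeftAdjoint_rpushQ f hp
  let adj := Adjunction.ofIsLeftAdjoint (DCoh.RpushQ f hp)
  let eW : (CdDual8.W₁ k).obj ≅ (DPerf.tildeDD (CommRingCat.of k)).obj (Dual.inD k k) := Iso.refl _
  have hK := BC8.isDualizingSch_proper (A := CommRingCat.of k) (BC8.isDualizing_self_field k) f adj eW
  have hcl := BC8.dlt_eq_zero_of_isClosed (A := CommRingCat.of k) (BC8.isDualizing_self_field k)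
    (BC8.isNormalized_self_field k) f adj eW
  have hCM : ∀ y : X, LocCoh.IsCohenMacaulayLocalRing (X.presheaf.stalk y) := fun y =>
    haveI := hreg y
    DepthLib.isCohenMacaulayLocalRing_of_isRegularLocalRing
  have hequi : ∀ Z ∈ irreducibleComponents (X : Type u), topologicalKrullDim Z = n := fun Z hZ => by
    rw [irreducibleComponents_eq_singleton] at hZ
    rw [Set.mem_singleton_iff] at hZ
    subst hZ
    exact (IsHomeomorph.topologicalKrullDim_eq _ (Homeomorph.Set.univ X).isHomeomorph).trans hdim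
  have heq : ∀ y : X, IsClosed ({y} : Set X) → ringKrullDim (X.presheaf.stalk y) = n := fun y hy => by
    obtain ⟨b, hb⟩ := ProjDual12.exists_dim_stalk_eq (X.presheaf.stalk y)
    have hpd := ProjDual12.ringKrullDim_stalk_add_sdim_of_pure f hequi hb
    rw [(VarDim.sdim_eq_zero_iff_isClosed f y).2 hy, add_zero] at hpd
    rw [hb, hpd]
  let K : DCoh.D X := ((DCoh.RpushQ f hp).rightAdjoint.obj (CdDual8.W₁ k)).obj
  have hz : ∀ t : ℤ, t ≠ -(n : ℤ) → IsZero (DCoh.HD K t) := fun t ht => BC8.isZero_HD_of_CM hK hcl n hdim hCM heq t ht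
  haveI : DerivedCategory.IsGE K (-(n : ℤ)) :=
    (DerivedCategory.isGE_iff K _).2 fun t ht => hz t (by omega)
  haveI : DerivedCategory.IsLE K (-(n : ℤ)) :=
    (DerivedCategory.isLE_iff K _).2 fun t ht => hz t (by omega)
  obtain ⟨Z, ⟨eK⟩⟩ := DerivedCategory.exists_iso_singleFunctor_obj_of_isGE_of_isLE K (-(n : ℤ))
  have hZ : Coh.IsCoh Z := CohFound.isCoh_of_iso ((DerivedCategory.homologyFunctor X.Modules (-(n : ℤ))).mapIso eK ≪≫
    (DerivedCategory.singleFunctorCompHomologyFunctorIso X.Modules (-(n : ℤ))).app Z) (BC8.isCohD_dualizing hK _)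
  have hFc : Coh.IsCoh F := CohFound.isCoh_of_isFinLocFree hF
  haveI := hFc.1
  -- every class is the image of a class of `I^(m+1) F`
  have hlift : ∀ m : ℕ, ∃ y : Coh.HH X ((Dual3.idealMul (𝓘 ^ (m + 1))).obj F) i,
      Sheaf.H.map ((SheafOfModules.toSheaf X.ringCatSheaf).map (Dual3.idealMulι (𝓘 ^ (m + 1)) F)) i y = x := fun m => by
    haveI := Groth.Agent.TZ11.epi_unit (𝓘 ^ (m + 1)) F
    let S := ShortComplex.mk (Dual3.idealMulι (𝓘 ^ (m + 1)) F)
      ((Scheme.Modules.pullbackPushforwardAdjunction (𝓘 ^ (m + 1)).subschemeι).unit.app F) (kernel.condition _)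
    have hS : S.ShortExact := ShortComplex.ShortExact.mk'
      (ShortComplex.exact_of_f_is_kernel S (kernelIsKernel _)) (inferInstanceAs (Mono (Dual3.idealMulι _ F))) inferInstance
    obtain ⟨y, hy⟩ := (CurveCoh17.exact_hmap_hmap k hS i x).1 (hx m)
    exact ⟨y, hy⟩
  by_contra hx0
  obtain ⟨N, hN⟩ : ∃ N : ℕ, N = n - i := ⟨_, rfl⟩
  have hNn : (N : ℤ) + (i : ℤ) = (n : ℤ) := by omega
  let sh : (DerivedCategory.singleFunctor X.Modules (-(n : ℤ))).obj Z ≅ ((DCoh.inD X Z)⟦(N : ℤ)⟧)⟦(i : ℤ)⟧ :=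
    (((DerivedCategory.singleFunctors X.Modules).shiftIso (n : ℤ) (-(n : ℤ)) 0 (by ring)).app Z).symm ≪≫
      (shiftFunctorAdd' (DCoh.D X) (N : ℤ) (i : ℤ) (n : ℤ) hNn).app _
  haveI : Subsingleton (Abelian.Ext.{u} ((Scheme.Modules.restrictFunctor U.ι).obj F)
      ((Scheme.Modules.restrictFunctor U.ι).obj Z) N) :=
    CdDual8.subsingleton_ext_open U hF hZ N fun G hG => hcd G hG N (by omega)
  have key : ∀ c : (DCoh.inD X F)⟦(i : ℤ)⟧ ⟶ K, ∃ m : ℕ,
      ((DerivedCategory.singleFunctor X.Modules 0).map (Dual3.idealMulι (𝓘 ^ (m + 1)) F))⟦(i : ℤ)⟧' ≫ c = 0 := by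
    intro c
    obtain ⟨c', hc'⟩ := (shiftFunctor (DCoh.D X) (i : ℤ)).map_surjective (c ≫ eK.hom ≫ sh.hom)
    obtain ⟨l, hl⟩ := CdDual8.exists_pow_comp_eq_zero 𝓘 U hU hFc hZ N c' (CdDual8.map_eq_zero_of_ext U N c')
    refine ⟨l, (cancel_mono (eK.hom ≫ sh.hom)).1 ?_⟩
    rw [Category.assoc, ← hc', zero_comp, ← Functor.map_comp, hl, Functor.map_zero]
  -- otherwise some map to the dualizing complex sees the class
  obtain ⟨c, hc⟩ : ∃ c : (DCoh.inD X F)⟦(i : ℤ)⟧ ⟶ K, ∀ m : ℕ,
      ((DerivedCategory.singleFunctor X.Modules 0).map (Dual3.idealMulι (𝓘 ^ (m + 1)) F))⟦(i : ℤ)⟧' ≫ c ≠ 0 :=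
    CdDual8.exists_class_all k X adj i hFc.1 (fun m => Dual3.idealMulι (𝓘 ^ (m + 1)) F) x hlift hx0
  obtain ⟨m, hm⟩ := key c
  exact hc m hm

end Groth.Agent.S11392
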