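import Groth.Statements.S11393
import Groth.Agent.Lib.Stein6.Finite
import Groth.Agent.S4495

set_option autoImplicit false
universe u
open CategoryTheory CategoryTheory.Limits AlgebraicGeometry TopologicalSpace
open Variety

namespace Groth.Agent.S11393

theorem exists_const_nilpotent {k R : Type u} [Field k] [IsAlgClosed k] [CommRing R] [Nontrivial R]
    [Algebra k R] [Module.Finite k R] (hid : ∀ e : R, IsIdempotentElem e → e = 0 ∨ e = 1) (a : R) :
    ∃ c : k, IsNilpotent (a - algebraMap k R c) := by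
  obtain ⟨c, hc⟩ := spectrum.nonempty_of_isAlgClosed_of_finiteDimensional k a
  refine ⟨c, ?_⟩
  haveI : IsArtinianRing R := IsArtinianRing.of_finite k R
  obtain ⟨n, b, hb⟩ : ∃ (n : ℕ) (b : R), (a - algebraMap k R c) ^ n = (a - algebraMap k R c) ^ (2 * n + 1) * b := by
    obtain ⟨n, hn⟩ := IsArtinian.monotone_stabilizes (R := R) (M := R)
      { toFun := fun j => OrderDual.toDual (Ideal.span {(a - algebraMap k R c) ^ j})
        monotone' := fun i j hij => by
          show Ideal.span {_} ≤ Ideal.span {_}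
          rw [Ideal.span_singleton_le_span_singleton]
          exact pow_dvd_pow _ hij }
    have h := hn (2 * n + 1) (by lia)
    have h' : Ideal.span {(a - algebraMap k R c) ^ n} = Ideal.span {(a - algebraMap k R c) ^ (2 * n + 1)} := h
    obtain ⟨b, hb⟩ := Ideal.span_singleton_le_span_singleton.1 h'.le
    exact ⟨n, b, hb⟩
  set x := a - algebraMap k R c with hx
  have he : IsIdempotentElem (x ^ (n + 1) * b) := by
    show x ^ (n + 1) * b * (x ^ (n + 1) * b) = x ^ (n + 1) * b
    have : x ^ (2 * n + 1) * b * (x * b) = x ^ n * (x * b) := by rw [← hb]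
    calc x ^ (n + 1) * b * (x ^ (n + 1) * b) = x ^ (2 * n + 1) * b * (x * b) := by ring
      _ = x ^ n * (x * b) := this
      _ = x ^ (n + 1) * b := by ring
  rcases hid _ he with h | h
  · refine ⟨n, ?_⟩
    rw [hb, show x ^ (2 * n + 1) * b = x ^ n * (x ^ (n + 1) * b) by ring, h, mul_zero]
  · refine absurd ?_ (spectrum.mem_iff.1 hc)
    rw [← IsUnit.neg_iff, neg_sub, ← hx]
    exact IsUnit.of_mul_eq_one (x ^ n * b) (by rw [← h]; ring)

theorem eq_zero_of_isNilpotent_algebraMap {k R : Type u} [Field k] [CommRing R] [Nontrivial R]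
    (f : k →+* R) {c : k} (h : IsNilpotent (f c)) : c = 0 :=
  f.injective (by rw [map_zero]; exact (IsNilpotent.map_iff f.injective).1 h |>.eq_zero ▸ map_zero f)

open AlgebraicGeometry in
/-- Let X be proper over an algebraically closed field k and 𝓘 a quasi-coherent ideal whose closed
subscheme Y is connected (and nonempty); let Y_m be the closed subscheme of 𝓘^{m+1} and A = lim_m
Γ(Y_m, O_{Y_m}) the ring of formal-regular functions along Y (global sections of the structure sheaf
of the formal completion), formed as the limit in commutative rings along the restriction maps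
Γ(Y_{m+1}, O) → Γ(Y_m, O). Then A is a local ring, and every element a of A differs from the image
of some constant c ∈ k by an element whose image in each Γ(Y_m, O_{Y_m}) is nilpotent (so the
residue field of A is k through the structure map). (The published statement also asserts that A is
a complete local ring; that clause is not included here.) -/
theorem result (k : Type u) [Field k] [IsAlgClosed k] (X : Scheme.{u})
    [X.Over (Spec (CommRingCat.of k))] [IsProper (X ↘ (Spec (CommRingCat.of k)))]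
    (𝓘 : X.IdealSheafData) (hY : _root_.IsConnected (𝓘.support : Set X)) :
    IsLocalRing ↑(limit (Functor.ofOpSequence
        (X := fun m : ℕ => Γ((𝓘 ^ (m + 1)).subscheme, ⊤))
        (fun m : ℕ => (Scheme.IdealSheafData.inclusion (Lef.pow_succ_le 𝓘 m)).appTop))) ∧
      ∀ a : ↑(limit (Functor.ofOpSequence
        (X := fun m : ℕ => Γ((𝓘 ^ (m + 1)).subscheme, ⊤))
        (fun m : ℕ => (Scheme.IdealSheafData.inclusion (Lef.pow_succ_le 𝓘 m)).appTop))),
        ∃ c : k, ∀ m : ℕ, IsNilpotent (Sub.sub (α := ↑Γ((𝓘 ^ (m + 1)).subscheme, ⊤))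
          ((limit.π (Functor.ofOpSequence
              (X := fun m : ℕ => Γ((𝓘 ^ (m + 1)).subscheme, ⊤))
              (fun m : ℕ => (Scheme.IdealSheafData.inclusion (Lef.pow_succ_le 𝓘 m)).appTop)) (Opposite.op m)).hom a)
          (((𝓘 ^ (m + 1)).subschemeι ≫ (X ↘ Spec (CommRingCat.of k))).appTop.hom
            ((Scheme.ΓSpecIso (CommRingCat.of k)).inv.hom c))) := by
  let F := Functor.ofOpSequence
        (X := fun m : ℕ => Γ((𝓘 ^ (m + 1)).subscheme, ⊤))
        (fun m : ℕ => (Scheme.IdealSheafData.inclusion (Lef.pow_succ_le 𝓘 m)).appTop)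
  let R : ℕ → Type u := fun m => ↑Γ((𝓘 ^ (m + 1)).subscheme, ⊤)
  let p : ∀ m : ℕ, (𝓘 ^ (m + 1)).subscheme ⟶ Spec (CommRingCat.of k) := fun m =>
    (𝓘 ^ (m + 1)).subschemeι ≫ (X ↘ Spec (CommRingCat.of k))
  let ρ : ∀ m, k →+* Γ((𝓘 ^ (m + 1)).subscheme, ⊤) := fun m =>
    (p m).appTop.hom.comp (Scheme.ΓSpecIso (CommRingCat.of k)).inv.hom
  have hρ : ∀ (m : ℕ) (c : k), (Scheme.IdealSheafData.inclusion (Lef.pow_succ_le 𝓘 m)).appTop.hom (ρ (m + 1) c) = ρ m c := by
    intro m c
    show ((p (m + 1)).appTop ≫ (Scheme.IdealSheafData.inclusion (Lef.pow_succ_le 𝓘 m)).appTop).hom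
      ((Scheme.ΓSpecIso (CommRingCat.of k)).inv.hom c) = _
    rw [← Scheme.Hom.comp_appTop, show Scheme.IdealSheafData.inclusion (Lef.pow_succ_le 𝓘 m) ≫ p (m + 1) = p m by
      simp only [p, ← Category.assoc, Scheme.IdealSheafData.inclusion_subschemeι]]
    rfl
  haveI hne : ∀ m : ℕ, ConnectedSpace (𝓘 ^ (m + 1)).subscheme := fun m => by
    have h : _root_.IsConnected (Set.range (𝓘 ^ (m + 1)).subschemeι) := by
      rw [Scheme.IdealSheafData.range_subschemeι, Scheme.IdealSheafData.support_pow_succ]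
      exact hY
    haveI : ConnectedSpace (Set.range (𝓘 ^ (m + 1)).subschemeι) := isConnected_iff_connectedSpace.1 h
    have e := (𝓘 ^ (m + 1)).subschemeι.isEmbedding.toHomeomorph
    exact e.symm.surjective.connectedSpace e.symm.continuous
  haveI hnt : ∀ m : ℕ, Nontrivial Γ((𝓘 ^ (m + 1)).subscheme, ⊤) := fun m =>
    haveI : Nonempty ((⊤ : (𝓘 ^ (m + 1)).subscheme.Opens)) := ⟨⟨Classical.arbitrary _, trivial⟩⟩
    Scheme.component_nontrivial _ _
  haveI : IsNoetherianRing Γ(Spec (CommRingCat.of k), ⊤) :=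
    isNoetherianRing_of_ringEquiv k (Scheme.ΓSpecIso (CommRingCat.of k)).commRingCatIsoToRingEquiv.symm
  have hex : ∀ (m : ℕ) (a : Γ((𝓘 ^ (m + 1)).subscheme, ⊤)), ∃ c : k, IsNilpotent (a - ρ m c) := fun m a => by
    letI := (ρ m).toAlgebra
    haveI : IsProper (p m) := inferInstance
    haveI : Module.Finite k Γ((𝓘 ^ (m + 1)).subscheme, ⊤) :=
      RingHom.Finite.comp (Groth.Agent.Stein6.finite_appTop (p m))
        (RingHom.Finite.of_surjective _ (Scheme.ΓSpecIso (CommRingCat.of k)).symm.commRingCatIsoToRingEquiv.surjective)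
    exact exists_const_nilpotent (k := k) (fun e he =>
      ((Groth.Agent.S4495.result (𝓘 ^ (m + 1)).subscheme.toLocallyRingedSpace).1
        (show PreconnectedSpace (𝓘 ^ (m + 1)).subscheme from inferInstance)) e he) a
  have huniq : ∀ (m : ℕ) (a : Γ((𝓘 ^ (m + 1)).subscheme, ⊤)) (c c' : k),
      IsNilpotent (a - ρ m c) → IsNilpotent (a - ρ m c') → c = c' := fun m a c c' h h' => by
    have h2 := (Commute.all _ _).isNilpotent_sub h' h
    rw [sub_sub_sub_cancel_left, ← map_sub] at h2
    exact sub_eq_zero.1 (eq_zero_of_isNilpotent_algebraMap (ρ m) h2)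
  let π : ∀ m : ℕ, ↑(limit F) →+* Γ((𝓘 ^ (m + 1)).subscheme, ⊤) := fun m => (limit.π F (Opposite.op m)).hom
  have hπ : ∀ (m : ℕ) (a : ↑(limit F)),
      (Scheme.IdealSheafData.inclusion (Lef.pow_succ_le 𝓘 m)).appTop.hom (π (m + 1) a) = π m a := fun m a => by
    have h := limit.w F (homOfLE (Nat.le_succ m)).op
    rw [Functor.ofOpSequence_map_homOfLE_succ] at h
    exact congrArg (fun φ => φ.hom a) h
  have key : ∀ a : ↑(limit F), ∃ c : k, ∀ m : ℕ, IsNilpotent (π m a - ρ m c) := fun a => by
    choose c hc using fun m => hex m (π m a)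
    refine ⟨c 0, fun m => ?_⟩
    suffices h : c m = c 0 by rw [← h]; exact hc m
    induction m with
    | zero => rfl
    | succ n ih =>
      rw [← ih]
      refine (huniq n (π n a) _ _ ?_ (hc n))
      have := (hc (n + 1)).map (Scheme.IdealSheafData.inclusion (Lef.pow_succ_le 𝓘 n)).appTop.hom
      rwa [map_sub, hρ, hπ] at this
  have hunit : ∀ (a : ↑(limit F)) (c : k), c ≠ 0 → (∀ m, IsNilpotent (π m a - ρ m c)) → IsUnit a := fun a c hc ha => by
    have hu : ∀ j : ℕᵒᵖ, IsUnit ((limit.π F j).hom a) := fun j => by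
      show IsUnit (π j.unop a)
      rw [← sub_add_cancel (π j.unop a) (ρ j.unop c)]
      exact IsNilpotent.isUnit_add_right_of_commute (ha _) ((IsUnit.mk0 _ hc).map (ρ j.unop)) (Commute.all _ _)
    choose v hv using fun j => (hu j).exists_right_inv
    have hcompat : ∀ (i j : ℕᵒᵖ) (f : i ⟶ j), (F ⋙ forget CommRingCat).map f (v i) = v j := fun i j f => by
      show (F.map f).hom (v i) = v j
      have h1 : (F.map f).hom ((limit.π F i).hom a) = (limit.π F j).hom a :=
        congrArg (fun φ => φ.hom a) (limit.w F f)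
      refine (hu j).mul_left_cancel ?_
      rw [hv j, ← h1, ← map_mul, hv i, map_one]
    let y : ↑(limit F) := (preservesLimitIso (forget CommRingCat) F).inv (Types.Limit.mk (F ⋙ forget CommRingCat) v hcompat)
    have hy : ∀ j, (limit.π F j).hom y = v j := fun j => by
      have h := congrArg (fun φ => φ (Types.Limit.mk (F ⋙ forget CommRingCat) v hcompat))
        (preservesLimitIso_inv_π (forget CommRingCat) F j)
      exact h.trans (Types.Limit.π_mk _ _ _ _)
    refine IsUnit.of_mul_eq_one y (Concrete.limit_ext F _ _ fun j => ?_)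
    show (limit.π F j).hom (a * y) = (limit.π F j).hom 1
    rw [map_mul, hy, hv, map_one]
  have hnu : ∀ (a : ↑(limit F)) (c : k), (∀ m, IsNilpotent (π m a - ρ m c)) → ¬IsUnit a → c = 0 :=
    fun a c h hn => by_contra fun hc => hn (hunit a c hc h)
  refine ⟨?_, fun a => key a⟩
  haveI : Nontrivial ↑(limit F) := (π 0).domain_nontrivial
  refine IsLocalRing.of_nonunits_add fun a b ha hb hab => ?_
  obtain ⟨c, hc⟩ := key a
  obtain ⟨d, hd⟩ := key b
  have hc0 := hnu a c hc ha
  have hd0 := hnu b d hd hb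
  have h1 : IsNilpotent (π 0 (a + b)) := by
    have := (Commute.all _ _).isNilpotent_add (hc 0) (hd 0)
    rwa [hc0, hd0, map_zero, sub_zero, sub_zero, ← map_add] at this
  obtain ⟨N, hN⟩ := h1
  exact not_isUnit_zero (hN ▸ ((hab.map (π 0)).pow N))

end Groth.Agent.S11393
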