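import Groth.Statements.S11398
-- import your own Groth.Agent.* helpers here
import Groth.Agent.Lib.AffPart25.Largest

set_option autoImplicit false
universe u
open CategoryTheory MonoidalCategory CartesianMonoidalCategory MonObj GrpObj AlgebraicGeometry CategoryTheory.Limits
open AlgGrp

namespace Groth.Agent.S11398

/-- Over an algebraically closed field k, every algebraic group G (a smooth k-group scheme of finite
type) has a largest connected affine normal algebraic subgroup G_aff: a homomorphism and closed
immersion i : N → G from a smooth, connected, affine k-group scheme, normal in G, through which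
every other such subgroup factors. Moreover the quotient G/G_aff has trivial G_aff: for every flat
surjective homomorphism q : G → Q of k-group schemes of finite type with kernel i, every smooth
connected affine normal closed subgroup of Q is the trivial group. -/
theorem result (k : Type u) [Field k] [IsAlgClosed k]
    (G : Over (Spec (CommRingCat.of k))) [GrpObj G] [Smooth G.hom] [QuasiCompact G.hom] :
    ∃ (N : Over (Spec (CommRingCat.of k))) (_ : GrpObj N) (i : N ⟶ G), (IsMonHom i ∧ IsClosedImmersion i.left ∧ Smooth N.hom ∧
      ConnectedSpace ↥N.left ∧ IsAffine N.left ∧ AlgGrp.IsNormalHom i) ∧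
      (∀ (N' : Over (Spec (CommRingCat.of k))) [GrpObj N'] (i' : N' ⟶ G) [IsMonHom i'] [IsClosedImmersion i'.left]
        [Smooth N'.hom] [ConnectedSpace ↥N'.left] [IsAffine N'.left], AlgGrp.IsNormalHom i' → ∃ f : N' ⟶ N, f ≫ i = i') ∧
      (∀ (Q : Over (Spec (CommRingCat.of k))) [GrpObj Q] [LocallyOfFiniteType Q.hom] [QuasiCompact Q.hom] (q : G ⟶ Q) [IsMonHom q]
        [Surjective q.left] [Flat q.left], AlgGrp.IsKernel i q →
        ∀ (N'' : Over (Spec (CommRingCat.of k))) [GrpObj N''] (i'' : N'' ⟶ Q) [IsMonHom i''] [IsClosedImmersion i''.left]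
          [Smooth N''.hom] [ConnectedSpace ↥N''.left] [IsAffine N''.left], AlgGrp.IsNormalHom i'' → IsIso N''.hom) := by
  obtain ⟨N, _, i, ⟨hi, hc, hs, hcn, ha, hn⟩, hmax⟩ := Groth.Agent.AffPart25.exists_largest G
  refine ⟨N, inferInstance, i, ⟨hi, hc, hs, hcn, ha, hn⟩, hmax, ?_⟩
  intro Q _ _ _ q _ _ _ hker N'' _ i'' _ _ _ _ _ hn''
  exact Groth.Agent.AffPart25.isIso_hom_of_quotient i hmax q hker i'' hn''

end Groth.Agent.S11398
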