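import Groth.Statements.S11401
-- import your own Groth.Agent.* helpers here
import Groth.Agent.Lib.AffPart25.SpecialSolv
import Groth.Agent.Lib.AffPart25.Rosenlicht
import Groth.Agent.Lib.TorPts21.BorelNormalizer
import Groth.Agent.Lib.GrpTrans20.Subschemes
import Groth.Agent.Lib.BorelFix21.Borels
import Groth.Agent.Lib.TorusIsog19.Basic

set_option autoImplicit false
universe u
open CategoryTheory MonoidalCategory CartesianMonoidalCategory MonObj GrpObj AlgebraicGeometry CategoryTheory.Limits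
open AlgGrp

namespace Groth.Agent.S11401

/-- Over an algebraically closed field k, let G be a connected algebraic group (smooth k-group scheme of
finite type), let i : N → G be its largest connected affine normal algebraic subgroup G_aff (a
homomorphism and closed immersion from a smooth, connected, affine k-group scheme, normal in G,
through which every other such subgroup factors), and let α : G → A be a flat surjective
homomorphism with kernel i onto a proper smooth k-group scheme A (so A = G/G_aff). Then α is a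
Zariski-locally trivial principal bundle: every point of A has an open neighbourhood over which α
admits a section. -/
theorem result (k : Type u) [Field k] [IsAlgClosed k]
    (G : Over (Spec (CommRingCat.of k))) [GrpObj G] [Smooth G.hom] [QuasiCompact G.hom] [ConnectedSpace ↥G.left]
    (N : Over (Spec (CommRingCat.of k))) [GrpObj N] (i : N ⟶ G) [IsMonHom i] [IsClosedImmersion i.left]
    [Smooth N.hom] [ConnectedSpace ↥N.left] [IsAffine N.left] (hN : AlgGrp.IsNormalHom i)
    (hNmax : ∀ (N' : Over (Spec (CommRingCat.of k))) [GrpObj N'] (i' : N' ⟶ G) [IsMonHom i'] [IsClosedImmersion i'.left]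
      [Smooth N'.hom] [ConnectedSpace ↥N'.left] [IsAffine N'.left], AlgGrp.IsNormalHom i' → ∃ f : N' ⟶ N, f ≫ i = i')
    (A : Over (Spec (CommRingCat.of k))) [GrpObj A] [IsProper A.hom] [Smooth A.hom] (α : G ⟶ A) [IsMonHom α]
    [Surjective α.left] [Flat α.left] (hker : AlgGrp.IsKernel i α) (y : ↥A.left) :
    ∃ U : A.left.Opens, y ∈ U ∧ ∃ s : ↑U ⟶ G.left, s ≫ α.left = U.ι := by
  haveI : Mono i := Over.mono_of_mono_left i
  obtain ⟨B, _, b, hB, -⟩ := BorelFix21.exists_isBorelOver N
  obtain ⟨hbm, hbc, hbs, hbn, hbsol, -⟩ := id hB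
  haveI := hbm; haveI := hbc; haveI := hbs; haveI := hbn
  haveI : Mono b := Over.mono_of_mono_left b
  haveI : IsAffine B.left := isAffine_of_isAffineHom b.left
  haveI : IsClosedImmersion (b ≫ i).left := by rw [Over.comp_left]; infer_instance
  obtain ⟨H, _, n, hnc, hnm, hnmono, hn⟩ := GrpTrans20.exists_normalizer (b ≫ i)
  haveI := hnm
  haveI := hnc
  haveI : Mono n := hnmono
  obtain ⟨Z, _, z, hzm, hzc, hziff⟩ := GrpTrans20.exists_centralizer (𝟙 G)
  haveI := hzm; haveI := hzc
  have hZ : Red.IsCentre z := ⟨hzm, Over.mono_of_mono_left z, hziff⟩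
  haveI : Surjective (z ≫ α).left := AffPart25.surjective_centre_comp z hZ α
  obtain ⟨zH, hzH⟩ := (hn Z z).2 fun X' x h => by
    have e := (hziff Z z).1 ⟨𝟙 Z, Category.id_comp z⟩ X' x (h ≫ b ≫ i)
    rw [Category.comp_id] at e
    exact ⟨⟨h, by rw [e, mul_inv_cancel_right]⟩, ⟨h, by rw [_root_.mul_assoc, ← e, inv_mul_cancel_left]⟩⟩
  let β : H ⟶ A := n ≫ α
  haveI : Surjective β.left := ⟨fun a => by
    obtain ⟨w, hw⟩ := (z ≫ α).left.surjective a
    refine ⟨zH.left w, ?_⟩
    rw [← hw, ← hzH]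
    rfl⟩
  haveI : LocallyOfFiniteType H.hom := by rw [← Over.w n]; infer_instance
  haveI : QuasiCompact H.hom := by rw [← Over.w n]; infer_instance
  haveI : IsReduced A.left := OrbitTop19.isReduced_of_smooth A.hom
  haveI : IsSeparated A.hom := inferInstance
  haveI : QuasiCompact β.left := AlgGrpBasic19.quasiCompact_left β
  haveI : Flat β.left := TorusIsog19.flat_of_surjective β
  obtain ⟨l, hl⟩ := (hn B (b ≫ i)).2 fun X' x h =>
    ⟨⟨x * h * x⁻¹, by simp only [MonObj.mul_comp, GrpObj.inv_comp]⟩,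
      ⟨x⁻¹ * h * x, by simp only [MonObj.mul_comp, GrpObj.inv_comp]⟩⟩
  haveI : IsMonHom (b ≫ i) := inferInstance
  haveI : IsMonHom l := BorelFix21.isMonHom_of_comp n l (hl ▸ ‹IsMonHom (b ≫ i)›)
  haveI : Mono (b ≫ i) := mono_comp b i
  have hin : ∀ {T : Over (Spec (CommRingCat.of k))} (m : T ⟶ N), (m ≫ i) ≫ α = 1 := fun {T} m => by
    rw [Category.assoc, hker.w, ← Category.assoc, comp_toUnit, Hom.one_def]
  have hlβ : ∀ {T : Over (Spec (CommRingCat.of k))} (x : T ⟶ B), (x ≫ l) ≫ β = 1 := fun {T} x => by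
    rw [Category.assoc, show l ≫ β = (b ≫ i) ≫ α by rw [← hl, Category.assoc], ← Category.assoc, ← Category.assoc, hin]
  have hkerβ : ∀ {T : Over (Spec (CommRingCat.of k))} (h : T ⟶ H), h ≫ β = 1 → ∃ x : T ⟶ B, x ≫ l = h :=
    fun {T} h hh => by
    let m : T ⟶ N := hker.lift (h ≫ n) (toUnit T) (by rw [Category.assoc]; exact hh.trans Hom.one_def)
    have hm : m ≫ i = h ≫ n := hker.lift_fst _ _ _
    obtain ⟨f, hf⟩ := TorPts21.exists_lift_of_normalizesSub_closed hB m fun X' x y => by
      obtain ⟨⟨h1, e1⟩, ⟨h2, e2⟩⟩ := (hn T (h ≫ n)).1 ⟨h, rfl⟩ X' x y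
      refine ⟨⟨h1, (cancel_mono i).1 ?_⟩, ⟨h2, (cancel_mono i).1 ?_⟩⟩
      · rw [Category.assoc h1 b i, ← e1]
        simp only [MonObj.mul_comp, GrpObj.inv_comp, Category.assoc, hm]
      · rw [Category.assoc h2 b i, ← e2]
        simp only [MonObj.mul_comp, GrpObj.inv_comp, Category.assoc, hm]
    exact ⟨f, (cancel_mono n).1 (by rw [Category.assoc, hl, ← Category.assoc, hf, hm])⟩
  haveI : Mono l := mono_of_mono_fac hl
  let a : AlgGrp.Action B H := (NonAbH1.trivialAction H).restrict l
  have hact : ∀ {T : Over (Spec (CommRingCat.of k))} (x : T ⟶ B) (h : T ⟶ H),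
      lift x h ≫ a.act = (x ≫ l) * h := fun {T} x h => by
    rw [AlgGrp.Action.lift_restrict_act, Hom.mul_def]; rfl
  have hw : a.act ≫ β = snd B H ≫ β := by
    conv_lhs => rw [← Category.id_comp a.act, ← lift_fst_snd, hact, MonObj.mul_comp, hlβ, _root_.one_mul]
  have key : ∀ s : PullbackCone β β, ∃ x : s.pt ⟶ B, (x ≫ l) * s.snd = s.fst := fun s => by
    obtain ⟨x, hx⟩ := hkerβ (s.fst * s.snd⁻¹) (by
      rw [MonObj.mul_comp, GrpObj.inv_comp, s.condition, mul_inv_cancel])
    exact ⟨x, by rw [hx, inv_mul_cancel_right]⟩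
  choose x hx using key
  have hcart : IsPullback a.act (snd B H) β β :=
    ⟨⟨hw⟩, ⟨PullbackCone.IsLimit.mk hw (fun s => lift (x s) s.snd) (fun s => by rw [hact]; exact hx s)
      (fun s => lift_snd _ _) (fun s m h1 h2 => by
        have hm : m = lift (m ≫ fst B H) s.snd := by rw [← h2, ← comp_lift, lift_fst_snd, Category.comp_id]
        rw [hm, hact, ← hx s, mul_left_inj, cancel_mono l] at h1
        rw [hm, h1])⟩⟩
  have hloc : NonAbH1.IsLocallyTrivialFor Scheme.fpqcPrecoverage (Over.mk β.left : Over A.left) := by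
    refine ⟨_, SchDesc12.single_mem_fpqc β.left, ?_⟩
    rintro _ _ ⟨⟨⟩⟩
    exact ⟨𝟙 _, Category.id_comp _⟩
  obtain ⟨R, hR, hs⟩ := AffPart25.special_of_solvable B hbsol H A a β hcart hloc
  obtain ⟨J, W, g, rfl⟩ := Presieve.exists_eq_ofArrows R
  obtain ⟨hcov, hopen⟩ := (Scheme.ofArrows_mem_precoverage_iff @IsOpenImmersion).1 hR
  obtain ⟨j, hj⟩ := hcov y
  haveI : IsOpenImmersion (g j) := hopen j
  obtain ⟨s, hs'⟩ := hs (g j) (Presieve.ofArrows.mk j)
  have hs'' : s ≫ β.left = g j := hs'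
  refine ⟨(g j).opensRange, hj, (g j).isoOpensRange.inv ≫ s ≫ n.left, ?_⟩
  rw [Category.assoc, Category.assoc, show n.left ≫ α.left = β.left from rfl, hs'']
  exact Scheme.Hom.isoOpensRange_inv_comp (g j)


end Groth.Agent.S11401
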