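import Groth.Statements.S11403
-- import your own Groth.Agent.* helpers here
import Groth.Agent.Lib.AffPart25.Rosenlicht

set_option autoImplicit false
universe u
open CategoryTheory MonoidalCategory CartesianMonoidalCategory MonObj GrpObj AlgebraicGeometry CategoryTheory.Limits
open AlgGrp

namespace Groth.Agent.S11403

/-- Over an algebraically closed field k, let G be a connected algebraic group (smooth k-group scheme of
finite type), let i : N → G be its largest connected affine normal algebraic subgroup G_aff (a
homomorphism and closed immersion from a smooth, connected, affine k-group scheme, normal in G,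
through which every other such subgroup factors), and let j : M → G be its largest anti-affine
subgroup scheme G_ant (a homomorphism and closed immersion from a k-group scheme M whose only global
functions are the constants, through which every other such subgroup scheme factors). Then G = G_aff
· G_ant, in the sense that the multiplication morphism G_aff × G_ant → G is surjective, and G_ant is
the smallest closed subgroup scheme H of G with G = G_aff · H: every such H contains G_ant. (The
published statement adds that the scheme-theoretic intersection of G_aff and G_ant contains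
(G_ant)_aff as a normal subgroup of finite index; that clause is not stated here.) -/
theorem result (k : Type u) [Field k] [IsAlgClosed k]
    (G : Over (Spec (CommRingCat.of k))) [GrpObj G] [Smooth G.hom] [QuasiCompact G.hom] [ConnectedSpace ↥G.left]
    (N : Over (Spec (CommRingCat.of k))) [GrpObj N] (i : N ⟶ G) [IsMonHom i] [IsClosedImmersion i.left]
    [Smooth N.hom] [ConnectedSpace ↥N.left] [IsAffine N.left] (hN : AlgGrp.IsNormalHom i)
    (hNmax : ∀ (N' : Over (Spec (CommRingCat.of k))) [GrpObj N'] (i' : N' ⟶ G) [IsMonHom i'] [IsClosedImmersion i'.left]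
      [Smooth N'.hom] [ConnectedSpace ↥N'.left] [IsAffine N'.left], AlgGrp.IsNormalHom i' → ∃ f : N' ⟶ N, f ≫ i = i')
    (M : Over (Spec (CommRingCat.of k))) [GrpObj M] (j : M ⟶ G) [IsMonHom j] [IsClosedImmersion j.left]
    (hM : Function.Bijective ((Scheme.ΓSpecIso (CommRingCat.of k)).inv ≫ M.hom.appTop).hom)
    (hMmax : ∀ (M' : Over (Spec (CommRingCat.of k))) [GrpObj M'] (j' : M' ⟶ G) [IsMonHom j'] [IsClosedImmersion j'.left],
      Function.Bijective ((Scheme.ΓSpecIso (CommRingCat.of k)).inv ≫ M'.hom.appTop).hom → ∃ f : M' ⟶ M, f ≫ j = j') :
    Surjective ((i ⊗ₘ j) ≫ μ[G]).left ∧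
      ∀ (H : Over (Spec (CommRingCat.of k))) [GrpObj H] (h : H ⟶ G) [IsMonHom h] [IsClosedImmersion h.left],
        Surjective ((i ⊗ₘ h) ≫ μ[G]).left → ∃ f : M ⟶ H, f ≫ h = j := by
  obtain ⟨A, _, q, hqm, hqf, hqs, -, hker, hAp, -, -⟩ := Groth.Agent.AffPart25.exists_chevalley G N i hN hNmax
  haveI := hqm
  haveI := hqf
  haveI := hqs
  haveI := hAp
  haveI : LocallyOfFiniteType M.hom := by rw [← Over.w j]; infer_instance
  haveI : QuasiCompact M.hom := by rw [← Over.w j]; infer_instance
  obtain ⟨h1, h2⟩ := Groth.Agent.S14582.result k G N i hN A q hker M j hM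
    (fun M' _ _ _ j' _ _ h => hMmax M' j' h)
  refine ⟨h1, fun H _ h _ _ hs => ?_⟩
  haveI := hs
  exact h2 H h (Groth.Agent.AffPart25.surjective_mul_swap i hN h)

end Groth.Agent.S11403
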