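import Groth.Statements.S11421
import Groth.Agent.Lib.Rigid19.AntiAffine

set_option autoImplicit false
universe u
open CategoryTheory MonoidalCategory CartesianMonoidalCategory MonObj GrpObj AlgebraicGeometry CategoryTheory.Limits
open AlgGrp

namespace Groth.Agent.S11421

/-- Over an algebraically closed field k, let G be an algebraic group (smooth k-group scheme of finite
type) whose only global functions are the constants, H a connected algebraic group, S a connected
k-scheme of finite type and f : G × S → H a morphism of k-schemes. Then there are a unique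
k-morphism φ : S → H and a unique homomorphism ψ : G → H with f(g, s) = φ(s) · ψ(g) on points. (This
is the decomposition, over a connected base, behind the identification of the functor of morphisms
from G to H with H × Hom_gp(G, H); the published statement is the equivalence of representability of
that functor with anti-affineness of G, whose converse direction is not stated here.) -/
theorem result (k : Type u) [Field k] [IsAlgClosed k]
    (G H S : Over (Spec (CommRingCat.of k))) [GrpObj G] [Smooth G.hom] [QuasiCompact G.hom]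
    (hG : Function.Bijective ((Scheme.ΓSpecIso (CommRingCat.of k)).inv ≫ G.hom.appTop).hom)
    [GrpObj H] [Smooth H.hom] [QuasiCompact H.hom] [ConnectedSpace ↥H.left]
    [LocallyOfFiniteType S.hom] [QuasiCompact S.hom] [ConnectedSpace ↥S.left]
    (f : G ⊗ S ⟶ H) :
    ∃ (φ : S ⟶ H) (ψ : G ⟶ H), IsMonHom ψ ∧ f = (snd G S ≫ φ) * (fst G S ≫ ψ) ∧
      ∀ (φ' : S ⟶ H) (ψ' : G ⟶ H), IsMonHom ψ' → f = (snd G S ≫ φ') * (fst G S ≫ ψ') → φ' = φ ∧ ψ' = ψ := by
  haveI := Rigid19.quasiSeparated (X := G)
  haveI : IsLocallyNoetherian S.left := LocallyOfFiniteType.isLocallyNoetherian S.hom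
  obtain ⟨s₀⟩ := Rigid19.exists_point (X := S)
  let φ : S ⟶ H := lift (toUnit S ≫ η[G]) (𝟙 S) ≫ f
  let ψ : G ⟶ H := (toUnit G ≫ s₀ ≫ φ)⁻¹ * (lift (𝟙 G) (toUnit G ≫ s₀) ≫ f)
  have hψ1 : η[G] ≫ ψ = η[H] := by
    simp only [ψ, φ, comp_mul, GrpObj.comp_inv, ← Category.assoc, comp_toUnit, comp_lift, Category.comp_id]
    rw [toUnit_unique (toUnit _) (𝟙 (𝟙_ (Over (Spec (CommRingCat.of k))))), Category.id_comp, Category.id_comp, inv_mul_cancel, Hom.one_def, toUnit_unique (toUnit _) (𝟙 (𝟙_ (Over (Spec (CommRingCat.of k))))), Category.id_comp]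
  haveI hψ := Rigid19.isMonHom_of_unit_comp hG ψ hψ1
  have he : f = (snd G S ≫ φ) * (fst G S ≫ ψ) := by
    let F : G ⊗ S ⟶ H := (snd G S ≫ φ)⁻¹ * f * (fst G S ≫ ψ)⁻¹
    have e : F = 1 := by
      refine Rigid19.eq_one_of_slices (Rigid19.surjective_appTop hG) η[G] s₀ F ?_ ?_
      · have e1 : G ◁ s₀ = fst G _ ≫ lift (𝟙 G) (toUnit G ≫ s₀) := by
          apply CartesianMonoidalCategory.hom_ext
          · simp
          · rw [whiskerLeft_snd, Category.assoc, lift_snd, ← Category.assoc, comp_toUnit,
              toUnit_unique (snd G (𝟙_ _)) (toUnit _)]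
        rw [e1, Category.assoc]
        simp only [F, ψ, comp_mul, GrpObj.comp_inv, lift_fst_assoc, lift_snd_assoc, Category.id_comp, Category.assoc]
        rw [show ∀ a b : G ⊗ 𝟙_ _ ⟶ H, a⁻¹ * b * (a⁻¹ * b)⁻¹ = 1 from fun a b => mul_inv_cancel _]
      · simp only [F, comp_mul, GrpObj.comp_inv, lift_fst_assoc, lift_snd_assoc, Category.id_comp]
        rw [show lift (toUnit S ≫ η[G]) (𝟙 S) ≫ f = φ from rfl, Category.assoc, hψ1, ← Hom.one_def, inv_one,
          _root_.mul_one, inv_mul_cancel]
    calc f = (snd G S ≫ φ) * F * (fst G S ≫ ψ) := by simp [F, _root_.mul_assoc]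
      _ = _ := by rw [e, _root_.mul_one]
  refine ⟨φ, ψ, hψ, he, fun φ' ψ' hψ' he' => ?_⟩
  have hφ : φ' = φ := by
    have := congrArg (lift (toUnit S ≫ η[G]) (𝟙 S) ≫ ·) (he.symm.trans he')
    simp only [comp_mul, lift_fst_assoc, lift_snd_assoc, Category.id_comp, Category.assoc] at this
    rw [hψ1, IsMonHom.one_hom ψ', ← Hom.one_def, _root_.mul_one, _root_.mul_one] at this
    exact this.symm
  subst hφ
  refine ⟨rfl, ?_⟩
  have := congrArg (lift (𝟙 G) (toUnit G ≫ s₀) ≫ ·) (he.symm.trans he')
  simp only [comp_mul, lift_fst_assoc, lift_snd_assoc, Category.id_comp] at this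
  exact (mul_left_cancel this).symm

end Groth.Agent.S11421
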