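import Groth.Statements.S11404
import Groth.Agent.S11421
import Groth.Agent.Lib.AbDual21.Phi
import Groth.Agent.Lib.AbRigid.SmoothGI
import Groth.Agent.Lib.AbRigid.Connected
import Groth.Agent.Lib.CubeField.Product
-- import your own Groth.Agent.* helpers here

set_option autoImplicit false
universe u
open CategoryTheory MonoidalCategory CartesianMonoidalCategory MonObj GrpObj AlgebraicGeometry CategoryTheory.Limits
open AlgGrp

namespace Groth.Agent.S11404

/-- Over an algebraically closed field k, let A be an abelian variety (a proper, smooth, connected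
k-group scheme) and S a connected k-scheme of finite type. For every automorphism f of A × S over S
there are a unique k-morphism g : S → A and a unique group automorphism h of A with f(a, s) = (g(s)
· h(a), s) on points. (This is the functor-of-points form, over a connected base, of the
identification of the automorphism group scheme of A with the semidirect product of A, acting by
translations, and the constant group of group automorphisms; in particular the neutral component is
A.) -/
theorem result (k : Type u) [Field k] [IsAlgClosed k]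
    (A S : Over (Spec (CommRingCat.of k))) [GrpObj A] [IsProper A.hom] [Smooth A.hom] [ConnectedSpace ↥A.left]
    [LocallyOfFiniteType S.hom] [QuasiCompact S.hom] [ConnectedSpace ↥S.left]
    (f : A ⊗ S ≅ A ⊗ S) (hf : f.hom ≫ snd A S = snd A S) :
    ∃ (g : S ⟶ A) (h : A ⟶ A), IsMonHom h ∧ IsIso h ∧
      f.hom ≫ fst A S = (snd A S ≫ g) * (fst A S ≫ h) ∧
      ∀ (g' : S ⟶ A) (h' : A ⟶ A), IsMonHom h' →
        f.hom ≫ fst A S = (snd A S ≫ g') * (fst A S ≫ h') → g' = g ∧ h' = h := by
  haveI := AbRigid.geometricallyIrreducible_of_connected A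
  haveI := CubeField.geometricallyConnected_of_irreducible A.hom
  haveI := AbRigid.geometricallyReduced_of_smooth A.hom
  have hb : Function.Bijective ((Scheme.ΓSpecIso (CommRingCat.of k)).inv ≫ A.hom.appTop).hom :=
    (AbDual21.bijective_appTop A.hom).comp (ConcreteCategory.bijective_of_isIso (Scheme.ΓSpecIso (CommRingCat.of k)).inv)
  obtain ⟨s₀⟩ := Rigid19.exists_point (X := S)
  have hf' : f.inv ≫ snd A S = snd A S := by rw [Iso.inv_comp_eq, hf]
  obtain ⟨g, h, hh, e, huniq⟩ := S11421.result k A A S hb (f.hom ≫ fst A S)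
  obtain ⟨g', h', hh', e', -⟩ := S11421.result k A A S hb (f.inv ≫ fst A S)
  haveI := hh
  haveI := hh'
  have key : ∀ (F F' : A ⊗ S ⟶ A ⊗ S) (g g' : S ⟶ A) (h h' : A ⟶ A) [IsMonHom h] [IsMonHom h'],
      F ≫ F' = 𝟙 _ → F ≫ snd A S = snd A S → F ≫ fst A S = (snd A S ≫ g) * (fst A S ≫ h) →
      F' ≫ fst A S = (snd A S ≫ g') * (fst A S ≫ h') → h ≫ h' = 𝟙 A := by
    intro F F' g g' h h' _ _ hFF hs e e'
    have h1 : fst A S = (snd A S ≫ g') * ((snd A S ≫ g ≫ h') * (fst A S ≫ h ≫ h')) := by
      calc fst A S = F ≫ F' ≫ fst A S := by rw [← Category.assoc, hFF, Category.id_comp]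
        _ = _ := by rw [e', comp_mul, ← Category.assoc, hs, ← Category.assoc, e, MonObj.mul_comp, Category.assoc,
          Category.assoc]
    have h2 := congrArg (lift (toUnit S ≫ η[A]) (𝟙 S) ≫ ·) h1
    simp only [comp_mul, lift_fst, lift_fst_assoc, lift_snd_assoc, Category.id_comp, Category.assoc] at h2
    rw [IsMonHom.one_hom_assoc h, IsMonHom.one_hom h', ← Hom.one_def, _root_.mul_one] at h2
    have h3 : fst A S = fst A S ≫ h ≫ h' := by
      conv_lhs => rw [h1]
      rw [← _root_.mul_assoc, ← comp_mul, ← h2, comp_one, _root_.one_mul]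
    have h4 := congrArg (lift (𝟙 A) (toUnit A ≫ s₀) ≫ ·) h3
    simpa only [lift_fst, lift_fst_assoc, Category.id_comp] using h4.symm
  refine ⟨g, h, hh, ⟨h', key f.hom f.inv g g' h h' f.hom_inv_id hf e e',
    key f.inv f.hom g' g h' h f.inv_hom_id hf' e' e⟩, e, huniq⟩

end Groth.Agent.S11404
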