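import Groth.Statements.S11405
import Groth.Agent.Lib.AffRep19.GMod
import Groth.Agent.Lib.AffRep19.Fixed
import Groth.Agent.Lib.AffRep19.Linear

set_option autoImplicit false
universe u
open CategoryTheory MonoidalCategory CartesianMonoidalCategory MonObj GrpObj AlgebraicGeometry CategoryTheory.Limits
open AlgGrp

namespace Groth.Agent.S11405

/-- Over an algebraically closed field k, the following are equivalent for an algebraic group G (a
smooth k-group scheme of finite type): (i) the only global functions on G are the constants; (ii)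
every finite-dimensional linear representation of G is trivial (every point of G with values in a
k-algebra B acts as the identity on B ⊗ M, for every G-module structure on a finite-dimensional
k-vector space M); (iii) every action of G on a variety (integral, separated k-scheme of finite
type) with a fixed rational point is the trivial action. Stated as (i) ⇔ (ii) and (i) ⇔ (iii). -/
theorem result (k : Type u) [Field k] [IsAlgClosed k]
    (G : Over (Spec (CommRingCat.of k))) [GrpObj G] [Smooth G.hom] [QuasiCompact G.hom] :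
    (Function.Bijective ((Scheme.ΓSpecIso (CommRingCat.of k)).inv ≫ G.hom.appTop).hom ↔
      ∀ (M : Type u) [AddCommGroup M] [Module k M] [Module.Finite k M] (m : VecGrp.GMod G M)
        (B : Type u) [CommRing B] [Algebra k B] (g : VecGrp.pt k B ⟶ G), m.ρ B g = 1) ∧
    (Function.Bijective ((Scheme.ΓSpecIso (CommRingCat.of k)).inv ≫ G.hom.appTop).hom ↔
      ∀ (X : Over (Spec (CommRingCat.of k))) [LocallyOfFiniteType X.hom] [QuasiCompact X.hom] [IsSeparated X.hom]
        [IsIntegral X.left] (a : AlgGrp.Action G X) (x : 𝟙_ (Over (Spec (CommRingCat.of k))) ⟶ X), a.IsFixedPt x → a.act = snd G X) := by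
  haveI : LocallyOfFiniteType G.hom := inferInstance
  refine ⟨⟨fun h M _ _ _ m B _ _ g => Groth.Agent.AffRep19.gmod_eq_one h.2 m B g, fun h => ?_⟩,
    ⟨fun h X _ _ _ _ a x hx => ?_, fun h => ?_⟩⟩
  · refine ⟨Groth.Agent.AffRep19.injective_struct η[G], ?_⟩
    by_contra hs
    obtain ⟨n, ρ, hρ⟩ := Groth.Agent.AffRep19.exists_rep G hs
    let bs := Pi.basisFun k (Fin n)
    let el : ∀ (B : Type u) [CommRing B] [Algebra k B],
        Γ((VecGrp.pt k B).left, ⊤) →+* B := fun B _ _ => (Scheme.ΓSpecIso (CommRingCat.of B)).hom.hom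
    let L : ∀ (B : Type u) [CommRing B] [Algebra k B],
        (VecGrp.pt k B ⟶ G) →* Module.End B (VecGrp.W k (Fin n → k) B) := fun B _ _ =>
      { toFun := fun g => Matrix.toLinAlgEquiv (bs.baseChange B) ((el B).mapMatrix (ρ.R g))
        map_one' := by rw [ρ.one, map_one, map_one]
        map_mul' := fun g g' => by rw [ρ.mul, map_mul, map_mul] }
    let ρ' : VecGrp.GMod G (Fin n → k) :=
      { ρ := fun B _ _ => ((LinearMap.GeneralLinearGroup.generalLinearEquiv B _).toMonoidHom).comp (L B).toHomUnits
        naturality := fun {B B'} _ _ _ _ φ g x => by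
          show VecGrp.Wmap φ (L B g x) = L B' (VecGrp.ptMap φ ≫ g) (VecGrp.Wmap φ x)
          have hx : x = ∑ j, (bs.baseChange B).repr x j • (1 ⊗ₜ[k] bs j) := by
            conv_lhs => rw [← (bs.baseChange B).sum_repr x]
            simp [Module.Basis.baseChange_apply]
          generalize (bs.baseChange B).repr x = cc at hx
          subst hx
          simp only [map_sum, map_smul, VecGrp.Wmap_smul]
          refine Finset.sum_congr rfl fun j _ => ?_
          congr 1
          have eB : (1 : B) ⊗ₜ[k] bs j = bs.baseChange B j := (Module.Basis.baseChange_apply B bs j).symm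
          have eB' : (1 : B') ⊗ₜ[k] bs j = bs.baseChange B' j := (Module.Basis.baseChange_apply B' bs j).symm
          rw [VecGrp.Wmap_tmul, map_one, eB, eB']
          show VecGrp.Wmap φ (Matrix.toLinAlgEquiv (bs.baseChange B) _ (bs.baseChange B j)) =
            Matrix.toLinAlgEquiv (bs.baseChange B') _ (bs.baseChange B' j)
          rw [Matrix.toLinAlgEquiv_self, Matrix.toLinAlgEquiv_self, map_sum]
          refine Finset.sum_congr rfl fun i _ => ?_
          rw [VecGrp.Wmap_smul, Module.Basis.baseChange_apply, Module.Basis.baseChange_apply, VecGrp.Wmap_tmul, map_one]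
          congr 1
          show φ (el B (ρ.R g i j)) = el B' (ρ.R (VecGrp.ptMap φ ≫ g) i j)
          rw [ρ.nat]
          exact (ConcreteCategory.congr_hom (Scheme.ΓSpecIso_naturality (CommRingCat.ofHom φ.toRingHom)) _).symm }
    -- the representation is trivial on affine points, hence trivial
    refine hρ (Matrix.ext fun i j => ?_)
    refine G.left.sheaf.eq_of_locally_eq' (fun V : {V : G.left.Opens // IsAffineOpen V} => V.1) ⊤
      (fun V => homOfLE le_top) (fun y _ => by
        obtain ⟨U, hU, hyU, -⟩ := exists_isAffineOpen_mem_and_subset (X := G.left) (x := y) (U := ⊤) trivial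
        exact TopologicalSpace.Opens.mem_iSup.2 ⟨⟨U, hU⟩, hyU⟩) _ _ fun V => ?_
    letI := Groth.Agent.AffGrp19.algOf G V.1
    have h1 := h (Fin n → k) ρ' Γ(G.left, V.1) (Groth.Agent.AffGrp19.chart G V.1 V.2)
    have h2 : Matrix.toLinAlgEquiv (bs.baseChange Γ(G.left, V.1))
        ((el Γ(G.left, V.1)).mapMatrix (ρ.R (Groth.Agent.AffGrp19.chart G V.1 V.2))) = 1 :=
      congrArg LinearEquiv.toLinearMap h1
    rw [← map_one (Matrix.toLinAlgEquiv (bs.baseChange Γ(G.left, V.1)))] at h2
    have h3 := congrFun (congrFun ((Matrix.toLinAlgEquiv (bs.baseChange Γ(G.left, V.1))).injective h2) i) j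
    rw [← Category.comp_id (Groth.Agent.AffGrp19.chart G V.1 V.2), ρ.nat] at h3
    refine Eq.trans ?_ (h3.trans ?_)
    · show G.left.presheaf.map (homOfLE le_top).op (ρ.R (𝟙 G) i j) =
        (Scheme.ΓSpecIso (CommRingCat.of Γ(G.left, V.1))).hom (V.2.fromSpec.appTop (ρ.R (𝟙 G) i j))
      rw [Scheme.Hom.appTop, IsAffineOpen.fromSpec_app_of_le V.2 ⊤ le_top]
      show G.left.presheaf.map (homOfLE le_top).op (ρ.R (𝟙 G) i j) =
        (Scheme.ΓSpecIso (CommRingCat.of Γ(G.left, V.1))).hom ((Spec Γ(G.left, V.1)).presheaf.map (homOfLE le_top).op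
          ((Scheme.ΓSpecIso Γ(G.left, V.1)).inv (G.left.presheaf.map (homOfLE le_top).op (ρ.R (𝟙 G) i j))))
      refine (Iso.inv_hom_id_apply (Scheme.ΓSpecIso (CommRingCat.of Γ(G.left, V.1))) _).symm.trans (congrArg _ ?_)
      refine (ConcreteCategory.congr_hom (((Spec Γ(G.left, V.1)).presheaf.congr_map
        (Subsingleton.elim _ (𝟙 (Opposite.op ⊤)))).trans ((Spec Γ(G.left, V.1)).presheaf.map_id _)) _).symm
    · show (1 : Matrix (Fin n) (Fin n) Γ(G.left, V.1)) i j =
        G.left.presheaf.map (homOfLE le_top).op ((1 : Matrix (Fin n) (Fin n) Γ(G.left, ⊤)) i j)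
      rw [Matrix.one_apply, Matrix.one_apply]
      split_ifs <;> simp
  · haveI : IsLocallyNoetherian X.left := LocallyOfFiniteType.isLocallyNoetherian X.hom
    exact Groth.Agent.AffRep19.act_eq_snd h a x hx
  · refine ⟨Groth.Agent.AffRep19.injective_struct η[G], ?_⟩
    by_contra hs
    obtain ⟨n, a, x, hx, hne⟩ := Groth.Agent.AffRep19.exists_nontrivial_action G hs
    haveI := Groth.Agent.AffRep19.lft_affSp (k := k) n
    haveI := Groth.Agent.AffRep19.isIntegral_affSp (k := k) n
    haveI : IsAffine (Groth.Agent.AffRep19.affSp k n).left := inferInstanceAs (IsAffine (Spec _))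
    exact hne (h _ a x hx)

end Groth.Agent.S11405
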