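import Groth.Statements.S11407
import Groth.Agent.Lib.Semiab15.AntiAff
import Groth.Agent.Lib.AbDual21.Phi
-- import your own Groth.Agent.* helpers here

set_option autoImplicit false
universe u
open CategoryTheory MonoidalCategory CartesianMonoidalCategory MonObj GrpObj AlgebraicGeometry CategoryTheory.Limits
open AlgGrp

namespace Groth.Agent.S11407

/-- Over an algebraically closed field k of characteristic p > 0, let G be a connected commutative
algebraic group (smooth k-group scheme of finite type) which is an extension of an abelian variety A
(a proper, smooth, connected k-group scheme) by a connected unipotent algebraic group U: i : U → G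
is a homomorphism and closed immersion from a smooth, connected, affine k-group scheme containing no
non-trivial subtorus (for smooth connected affine groups over an algebraically closed field this is
unipotency), and α : G → A is a flat surjective homomorphism with kernel i. Then the only global
functions on G are the constants if and only if U is the trivial group. -/
theorem result (k : Type u) [Field k] [IsAlgClosed k]
    (p : ℕ) [Fact p.Prime] [CharP k p]
    (G : Over (Spec (CommRingCat.of k))) [GrpObj G] [Smooth G.hom] [QuasiCompact G.hom] [ConnectedSpace ↥G.left] [IsCommMonObj G]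
    (U : Over (Spec (CommRingCat.of k))) [GrpObj U] (i : U ⟶ G) [IsMonHom i] [IsClosedImmersion i.left]
    [Smooth U.hom] [ConnectedSpace ↥U.left] [IsAffine U.left] (hU : Red.HasNoSubtorus k U)
    (A : Over (Spec (CommRingCat.of k))) [GrpObj A] [IsProper A.hom] [Smooth A.hom] [ConnectedSpace ↥A.left]
    (α : G ⟶ A) [IsMonHom α] [Surjective α.left] [Flat α.left] (hker : AlgGrp.IsKernel i α) :
    Function.Bijective ((Scheme.ΓSpecIso (CommRingCat.of k)).inv ≫ G.hom.appTop).hom ↔ IsIso U.hom := by
  constructor
  · intro hG
    haveI : Mono i := Over.mono_of_mono_left i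
    haveI := Groth.Agent.AbelGrp20.isCommMonObj_of_mono i
    obtain ⟨n, hn, hn'⟩ := Groth.Agent.Semiab15.hasExp_of_hasNoSubtorus (p := p) U hU
    obtain ⟨-, -, hsu⟩ := Groth.Agent.Semiab15.pow_aa hG hn
    haveI := Groth.Agent.Semiab15.isMonHom_pow (𝟙 G) n
    haveI : QuasiCompact α.left := Groth.Agent.Semiab15.qc_left α
    obtain ⟨g, hg, hαg⟩ := Groth.Agent.CharTorus15.desc_hom i α hker (𝟙 G ^ n) (by
      rw [← Groth.Agent.Semiab15.pow_map, hn', MonObj.one_comp])
    haveI : Surjective g.left := by
      haveI : Surjective (α.left ≫ g.left) := by rw [← Over.comp_left, hαg]; exact hsu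
      exact Surjective.of_comp α.left g.left
    haveI : IsSeparated G.hom := Groth.Agent.AbRigid.isSeparated_of_grpObj G
    haveI : UniversallyClosed (g.left ≫ G.hom) := by rw [Over.w]; infer_instance
    haveI : UniversallyClosed G.hom := UniversallyClosed.of_comp_surjective g.left G.hom
    haveI : IsProper G.hom := {}
    haveI : IsProper U.hom := by rw [← Over.w i]; infer_instance
    haveI : IsAffineHom U.hom := inferInstance
    haveI : IsFinite U.hom := (IsFinite.iff_isProper_and_isAffineHom).2 ⟨inferInstance, inferInstance⟩
    have h1 := Groth.Agent.Semiab15.trivial_of_finite_connected U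
    haveI : IsIso η[U] := Groth.Agent.Semiab15.isIso_one_of_id h1
    haveI : IsIso η[U].left := (inferInstance : IsIso ((Over.forget _).map η[U]))
    exact IsIso.of_isIso_fac_left (show η[U].left ≫ U.hom = 𝟙 _ from Over.w η[U])
  · intro hU'
    haveI : IsClosedImmersion η[A].left :=
      haveI : IsSeparated A.hom := inferInstance
      isClosedImmersion_of_comp_eq_id A.hom η[A].left (Over.w η[A])
    haveI : IsFinite U.hom := inferInstance
    haveI : QuasiCompact α.left := Groth.Agent.Semiab15.qc_left α
    haveI := Groth.Agent.FpqcDesc.descendsAlong_isFinite.{u}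
    haveI : IsFinite α.left := Groth.Agent.AbRigid.of_kernel α i hker @IsFinite ‹_›
    haveI : IsProper G.hom := by rw [← Over.w α]; infer_instance
    haveI := Groth.Agent.AbRigid.geometricallyReduced_of_smooth G.hom
    haveI := Groth.Agent.AbRigid.geometricallyIrreducible_of_connected G
    haveI := Groth.Agent.CubeField.geometricallyConnected_of_irreducible G.hom
    haveI : Flat G.hom := inferInstance
    haveI : LocallyOfFinitePresentation G.hom := inferInstance
    have h := Groth.Agent.AbDual21.bijective_appTop G.hom
    have h2 : Function.Bijective (Scheme.ΓSpecIso (CommRingCat.of k)).inv.hom :=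
      (ConcreteCategory.isIso_iff_bijective (Scheme.ΓSpecIso (CommRingCat.of k)).inv).1 inferInstance
    exact h.comp h2

end Groth.Agent.S11407
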