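import Groth.Statements.S11411
import Groth.Agent.Lib.AffGrp19.Main

set_option autoImplicit false
universe u
open CategoryTheory MonoidalCategory CartesianMonoidalCategory MonObj GrpObj AlgebraicGeometry CategoryTheory.Limits
open AlgGrp

namespace Groth.Agent.S11411

/-- Over an algebraically closed field k, let G be an algebraic group (a smooth k-group scheme of finite
type) and N the kernel of the canonical morphism ρ : G → Spec O(G), i.e. the fibre of ρ over the
image of the unit. Then N is the smallest normal subgroup scheme of G with affine quotient: for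
every closed normal subgroup scheme H of G with a flat surjective homomorphism G → Q of k-group
schemes of finite type with kernel H and Q affine, the inclusion of N factors through H. And N is
the largest anti-affine subgroup scheme: every homomorphism and closed immersion into G from a
k-group scheme whose only global functions are the constants factors through N. (The published
statement also asserts O(N) = k, that N is a connected algebraic group central in G⁰, and O(G/N) =
O(G) finitely generated; those parts are not restated here.) -/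
theorem result (k : Type u) [Field k] [IsAlgClosed k]
    (G : Over (Spec (CommRingCat.of k))) [GrpObj G] [Smooth G.hom] [QuasiCompact G.hom] :
    (∀ (H Q : Over (Spec (CommRingCat.of k))) [GrpObj H] [GrpObj Q] (h : H ⟶ G) [IsMonHom h] [IsClosedImmersion h.left]
        [LocallyOfFiniteType Q.hom] [QuasiCompact Q.hom] (q : G ⟶ Q) [IsMonHom q] [Surjective q.left] [Flat q.left],
        AlgGrp.IsKernel h q → IsAffine Q.left →
        ∃ f : pullback G.left.toSpecΓ (η[G].left ≫ G.left.toSpecΓ) ⟶ H.left, f ≫ h.left = pullback.fst G.left.toSpecΓ (η[G].left ≫ G.left.toSpecΓ)) ∧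
    (∀ (M : Over (Spec (CommRingCat.of k))) [GrpObj M] (j : M ⟶ G) [IsMonHom j] [IsClosedImmersion j.left],
        Function.Bijective ((Scheme.ΓSpecIso (CommRingCat.of k)).inv ≫ M.hom.appTop).hom →
        ∃ f : M.left ⟶ pullback G.left.toSpecΓ (η[G].left ≫ G.left.toSpecΓ), f ≫ pullback.fst G.left.toSpecΓ (η[G].left ≫ G.left.toSpecΓ) = j.left) := by
  haveI : QuasiSeparated G.hom := Groth.Agent.AlgGrpBasic19.quasiSeparatedSpace
  haveI : LocallyOfFiniteType G.hom := inferInstance
  refine ⟨?_, ?_⟩
  · intro H Q _ _ h _ _ _ _ q _ _ _ hker hQ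
    obtain ⟨r, hr⟩ := (Groth.Agent.AffGrp19.good_toAff G).exists_desc q
    set p := Limits.pullback.fst G.left.toSpecΓ (η[G].left ≫ G.left.toSpecΓ)
    set s := Limits.pullback.snd G.left.toSpecΓ (η[G].left ≫ G.left.toSpecΓ)
    have hc : p ≫ (Groth.Agent.AffGrp19.toAff G).left = s ≫ (η[G].left ≫ (Groth.Agent.AffGrp19.toAff G).left) :=
      Limits.pullback.condition
    have hhom : s = p ≫ G.hom := by
      rw [← Over.w (Groth.Agent.AffGrp19.toAff G), reassoc_of% hc, Over.w, Over.w η[G]]
      exact (Category.comp_id s).symm
    let K : Over (Spec (CommRingCat.of k)) := Over.mk (p ≫ G.hom)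
    let i : K ⟶ G := Over.homMk p rfl
    have hi : i ≫ q = toUnit K ≫ η[Q] := by
      refine Over.OverMorphism.ext ?_
      rw [← IsMonHom.one_hom (f := q), ← hr]
      show p ≫ _ ≫ _ = (p ≫ G.hom) ≫ η[G].left ≫ (Groth.Agent.AffGrp19.toAff G).left ≫ r.left
      rw [reassoc_of% hc, hhom]
    exact ⟨(hker.lift i (toUnit K) hi).left, congrArg CommaMorphism.left (hker.lift_fst _ _ _)⟩
  · intro M _ j _ _ hbij
    have hinj : Function.Injective η[M].left.appTop := by
      intro u v huv
      obtain ⟨c, rfl⟩ := hbij.2 u
      obtain ⟨d, rfl⟩ := hbij.2 v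
      congr 1
      have key : ∀ e, η[M].left.appTop (((Scheme.ΓSpecIso (CommRingCat.of k)).inv ≫ M.hom.appTop) e) =
          (Scheme.ΓSpecIso (CommRingCat.of k)).inv e := fun e => by
        rw [← CommRingCat.comp_apply, Category.assoc, ← Scheme.Hom.comp_appTop, Over.w η[M]]
        show ((Scheme.ΓSpecIso (CommRingCat.of k)).inv ≫ (𝟙 (Spec (CommRingCat.of k)) : _ ⟶ _).appTop) e = _
        rw [Scheme.Hom.id_appTop, Category.comp_id]
      rw [key, key] at huv
      exact (Scheme.ΓSpecIso (CommRingCat.of k)).commRingCatIsoToRingEquiv.symm.injective huv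
    have hj : j.left ≫ G.left.toSpecΓ = M.hom ≫ η[G].left ≫ G.left.toSpecΓ := by
      refine ext_of_isAffine (CommRingCat.hom_ext (RingHom.ext fun w => hinj ?_))
      show ((j.left ≫ G.left.toSpecΓ).appTop ≫ η[M].left.appTop) w =
        ((M.hom ≫ η[G].left ≫ G.left.toSpecΓ).appTop ≫ η[M].left.appTop) w
      rw [← Scheme.Hom.comp_appTop, ← Scheme.Hom.comp_appTop, reassoc_of% (Over.w η[M]),
        ← Category.assoc, ← Over.comp_left, IsMonHom.one_hom]
      congr 3
    exact ⟨Limits.pullback.lift j.left M.hom hj, Limits.pullback.lift_fst _ _ _⟩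

end Groth.Agent.S11411
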