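import Groth.Statements.S11412
import Groth.Agent.Lib.AntiAff20.Smooth
import Groth.Agent.Lib.AntiAff20.Flat
-- import your own Groth.Agent.* helpers here

set_option autoImplicit false
universe u
open CategoryTheory MonoidalCategory CartesianMonoidalCategory MonObj GrpObj AlgebraicGeometry CategoryTheory.Limits
open AlgGrp

namespace Groth.Agent.S11412

set_option linter.style.haveILetI false
set_option backward.isDefEq.respectTransparency.types false


/-- Over an algebraically closed field k, let G be a k-group scheme of finite type whose only global
functions are the constants. Then G is reduced, i.e. smooth over k, and for every closed subgroup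
scheme H of G and every quotient G/H (a k-scheme X of locally finite type with a G-action and a
rational point o whose orbit map is flat and surjective and identifies G × H with G ×_X G), the only
global functions on X are the constants. (The published statement also records that G is connected
and commutative.) -/
theorem result (k : Type u) [Field k] [IsAlgClosed k]
    (G : Over (Spec (CommRingCat.of k))) [GrpObj G] [LocallyOfFiniteType G.hom] [QuasiCompact G.hom]
    (hG : Function.Bijective ((Scheme.ΓSpecIso (CommRingCat.of k)).inv ≫ G.hom.appTop).hom) :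
    Smooth G.hom ∧
      ∀ (H : Over (Spec (CommRingCat.of k))) [GrpObj H] (h : H ⟶ G) [IsMonHom h] [IsClosedImmersion h.left]
        (X : Over (Spec (CommRingCat.of k))) (a : AlgGrp.Action G X) (o : 𝟙_ (Over (Spec (CommRingCat.of k))) ⟶ X), AGF.IsQuotient h X a o →
        Function.Bijective ((Scheme.ΓSpecIso (CommRingCat.of k)).inv ≫ X.hom.appTop).hom := by
  classical
  refine ⟨AntiAff20.smooth_of_antiAffine G hG, fun H _ h _ _ X a o hq => ?_⟩
  obtain ⟨-, hfl, hsu, -⟩ := hq
  haveI := hfl; haveI := hsu
  have hinj := AntiAff20.injective_app_of_flat_surjective (a.orbitMap o).left ⊤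
  let φ := (Scheme.ΓSpecIso (CommRingCat.of k)).inv ≫ X.hom.appTop
  let ψ := (Scheme.ΓSpecIso (CommRingCat.of k)).inv ≫ G.hom.appTop
  have e : ∀ r, (a.orbitMap o).left.appTop (φ r) = ψ r := fun r => by
    show (a.orbitMap o).left.appTop (X.hom.appTop ((Scheme.ΓSpecIso (CommRingCat.of k)).inv r)) = _
    rw [← CommRingCat.comp_apply, ← Scheme.Hom.comp_appTop]
    simp only [Over.w]
    rfl
  refine ⟨fun r s hrs => hG.1 ((e r).symm.trans ((congrArg _ hrs).trans (e s))), fun x => ?_⟩
  obtain ⟨r, hr⟩ := hG.2 ((a.orbitMap o).left.appTop x)
  exact ⟨r, hinj ((e r).trans hr)⟩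

end Groth.Agent.S11412
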