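import Groth.Statements.S11413
import Groth.Agent.Lib.Semiab15.Model
-- import your own Groth.Agent.* helpers here

set_option autoImplicit false
universe u
open CategoryTheory MonoidalCategory CartesianMonoidalCategory MonObj GrpObj AlgebraicGeometry CategoryTheory.Limits
open AlgGrp

namespace Groth.Agent.S11413

/-- Let k be an algebraically closed field of characteristic p > 0 which is algebraic over its prime
field (every element x satisfies x^(p^n) = x for some n ≥ 1), so that k is an algebraic closure of a
finite field. Over such a field k, anti-affine algebraic groups are abelian varieties: every smooth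
k-group scheme of finite type whose only global functions are the constants is proper over k. -/
theorem result (k : Type u) [Field k] [IsAlgClosed k]
    (p : ℕ) [Fact p.Prime] [CharP k p] (halg : ∀ x : k, ∃ n : ℕ, 0 < n ∧ x ^ p ^ n = x)
    (G : Over (Spec (CommRingCat.of k))) [GrpObj G] [Smooth G.hom] [QuasiCompact G.hom]
    (hG : Function.Bijective ((Scheme.ΓSpecIso (CommRingCat.of k)).inv ≫ G.hom.appTop).hom) : IsProper G.hom := by
  let F₀ : Subfield k := (ZMod.castHom (dvd_refl p) k).fieldRange
  haveI : Finite F₀ := Set.finite_coe_iff.2 (Set.finite_range (ZMod.castHom (dvd_refl p) k))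
  haveI : Algebra.IsIntegral F₀ k := ⟨fun x => by
    obtain ⟨n, hn, hx⟩ := halg x
    refine ⟨Polynomial.X ^ p ^ n - Polynomial.X, Polynomial.monic_X_pow_sub ?_, by simp [hx]⟩
    rw [Polynomial.degree_X]
    exact_mod_cast Nat.one_lt_pow hn.ne' (Fact.out : p.Prime).one_lt⟩
  obtain ⟨L, _, _, _, _, G₁, _, hl, hq, ⟨e⟩⟩ := Groth.Agent.Semiab15.exists_model_group F₀ k G
  haveI := hl; haveI := hq
  haveI : Finite L := Module.finite_of_finite F₀
  let φ : Spec (CommRingCat.of k) ⟶ Spec (CommRingCat.of L) := Spec.map (CommRingCat.ofHom (algebraMap L k))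
  have hbc : Groth.Agent.Semiab15.AA (Red.bc φ G₁) := by
    haveI : IsIso e.hom.left := (inferInstance : IsIso ((Over.forget _).map e.hom))
    haveI : IsIso e.hom.left.appTop := inferInstanceAs (IsIso (Scheme.Γ.map e.hom.left.op))
    show Function.Bijective ((Scheme.ΓSpecIso (CommRingCat.of k)).inv ≫ (Red.bc φ G₁).hom.appTop).hom
    rw [← Over.w e.hom, Scheme.Hom.comp_appTop, ← Category.assoc]
    exact ((ConcreteCategory.isIso_iff_bijective e.hom.left.appTop).1 inferInstance).comp hG
  haveI : IsProper G₁.hom :=
    Groth.Agent.Semiab15.isProper_of_finite ((Groth.Agent.S19702.result L k G₁).2 hbc)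
  haveI : IsProper (Red.bc φ G₁).hom := Groth.Agent.BorelFix21.isProper_bc φ G₁
  haveI : IsIso e.inv.left := (inferInstance : IsIso ((Over.forget _).map e.inv))
  rw [← Over.w e.inv]
  infer_instance

end Groth.Agent.S11413
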