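import Groth.Statements.S11414
-- import your own Groth.Agent.* helpers here
import Groth.Agent.Lib.AffPart25.Theorem
import Groth.Agent.Lib.AffPart25.BorelQuot

set_option autoImplicit false
set_option backward.isDefEq.respectTransparency false
universe u
open CategoryTheory MonoidalCategory CartesianMonoidalCategory MonObj GrpObj AlgebraicGeometry CategoryTheory.Limits
open AlgGrp

namespace Groth.Agent.S11414

/-- Over an algebraically closed field k, let G be a connected algebraic group (smooth k-group scheme of
finite type), let i : N → G be its largest connected affine normal algebraic subgroup G_aff (a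
homomorphism and closed immersion from a smooth, connected, affine k-group scheme, normal in G,
through which every other such subgroup factors), let H be a closed subgroup scheme of G and X = G/H
a quotient (a k-scheme with a G-action and a rational point o whose orbit map is flat and surjective
and identifies G × H with G ×_X G). Then X is proper over k exactly when some Borel subgroup of
G_aff lies in H (factors through H). (The published statement adds, for such a Borel subgroup B, an
isomorphism of G/B with the product of G/G_aff and G_aff/B; it is not stated here.) -/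
theorem result (k : Type u) [Field k] [IsAlgClosed k]
    (G : Over (Spec (CommRingCat.of k))) [GrpObj G] [Smooth G.hom] [QuasiCompact G.hom] [ConnectedSpace ↥G.left]
    (N : Over (Spec (CommRingCat.of k))) [GrpObj N] (i : N ⟶ G) [IsMonHom i] [IsClosedImmersion i.left]
    [Smooth N.hom] [ConnectedSpace ↥N.left] [IsAffine N.left] (hN : AlgGrp.IsNormalHom i)
    (hNmax : ∀ (N' : Over (Spec (CommRingCat.of k))) [GrpObj N'] (i' : N' ⟶ G) [IsMonHom i'] [IsClosedImmersion i'.left]
      [Smooth N'.hom] [ConnectedSpace ↥N'.left] [IsAffine N'.left], AlgGrp.IsNormalHom i' → ∃ f : N' ⟶ N, f ≫ i = i')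
    (H : Over (Spec (CommRingCat.of k))) [GrpObj H] (h : H ⟶ G) [IsMonHom h] [IsClosedImmersion h.left]
    (X : Over (Spec (CommRingCat.of k))) (a : AlgGrp.Action G X) (o : 𝟙_ (Over (Spec (CommRingCat.of k))) ⟶ X) (hX : AGF.IsQuotient h X a o) :
    IsProper X.hom ↔ ∃ (B : Over (Spec (CommRingCat.of k))) (_ : GrpObj B) (b : B ⟶ N) (f : B ⟶ H),
      Red.IsBorelOver k b ∧ f ≫ h = b ≫ i := by
  constructor
  · intro hp
    exact Groth.Agent.AffPart25.exists_borel_le i hN h a o hX
  · rintro ⟨B, _, b, f, hb, hf⟩
    obtain ⟨A, _, q, hq, hqf, hqs, -, hk, hA, -, -⟩ := Groth.Agent.AffPart25.exists_chevalley G N i hN hNmax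
    haveI := hq; haveI := hqf; haveI := hqs; haveI := hA
    exact Groth.Agent.AffPart25.isProper_of_borel_le i q hk h a o hX b hb f hf


end Groth.Agent.S11414
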