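import Groth.Statements.S11415
import Groth.Agent.Lib.TorusStab19.Main
-- import your own Groth.Agent.* helpers here

set_option autoImplicit false
universe u
open CategoryTheory MonoidalCategory CartesianMonoidalCategory MonObj GrpObj AlgebraicGeometry CategoryTheory.Limits
open AlgGrp

namespace Groth.Agent.S11415

set_option linter.style.haveILetI false
set_option backward.isDefEq.respectTransparency.types false


/-- Over an algebraically closed field k, let T be a torus (a k-group scheme isomorphic to the
diagonalizable group of ℤ^r for some r) acting on a variety X (an integral, separated k-scheme of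
finite type), faithfully in the scheme-theoretic sense: every point of T with values in a k-scheme S
which acts as the identity on X × S is the identity. Then there is a dense open subset U of X such
that for every rational point x of X in U the isotropy subgroup scheme of x is trivial: every
S-valued point of T fixing x is the identity. -/
theorem result (k : Type u) [Field k] [IsAlgClosed k]
    (T X : Over (Spec (CommRingCat.of k))) [GrpObj T] (r : ℕ) (hT : Red.IsSplitTorusWith (Fin r → ℤ) T)
    [LocallyOfFiniteType X.hom] [QuasiCompact X.hom] [IsSeparated X.hom] [IsIntegral X.left]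
    (a : AlgGrp.Action T X)
    (hfaith : ∀ (S : Over (Spec (CommRingCat.of k))) (g : S ⟶ T),
      (∀ (S' : Over (Spec (CommRingCat.of k))) (s : S' ⟶ S) (x : S' ⟶ X), lift (s ≫ g) x ≫ a.act = x) → g = 1) :
    ∃ U : X.left.Opens, Dense (U : Set ↥X.left) ∧
      ∀ x : 𝟙_ (Over (Spec (CommRingCat.of k))) ⟶ X, x.left (IsLocalRing.closedPoint k) ∈ U →
        ∀ (S : Over (Spec (CommRingCat.of k))) (g : S ⟶ T), lift g (toUnit S ≫ x) ≫ a.act = toUnit S ≫ x → g = 1 := by
  classical
  obtain ⟨C⟩ := DiagGL.nonempty_chars hT
  let e : Fin r → Multiplicative (Fin r → ℤ) := fun i => Multiplicative.ofAdd (Pi.single i 1)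
  obtain ⟨U, hU, h⟩ := TorusStab19.exists_open_fix_trivial C a hfaith (Finset.univ.image e)
  refine ⟨U, hU, fun x hx S g hg => C.inj fun m => ?_⟩
  rw [C.one]
  have h1 := h x hx S g hg
  have hm : m = ∏ i, e i ^ (m.toAdd i) := by
    apply Multiplicative.toAdd.injective
    simp only [e, toAdd_prod, toAdd_zpow, toAdd_ofAdd]
    funext j
    simp [Finset.sum_apply, Pi.single_apply]
  rw [hm, map_prod]
  refine Finset.prod_eq_one fun i _ => ?_
  have h2 : C.ch g (e i) = 1 := h1 (e i) (Finset.mem_image_of_mem e (Finset.mem_univ i))
  rcases (m.toAdd i).eq_nat_or_neg with ⟨n, hn | hn⟩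
  · rw [hn, zpow_natCast, map_pow, h2, one_pow]
  · rw [hn, zpow_neg, zpow_natCast]
    have h3 : C.ch g ((e i ^ n)⁻¹) * C.ch g (e i ^ n) = 1 := by rw [← map_mul, inv_mul_cancel, map_one]
    rwa [map_pow, h2, one_pow, _root_.mul_one] at h3

end Groth.Agent.S11415
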