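import Groth.Statements.S11416
import Groth.Agent.Lib.AffGrp19.Main

set_option autoImplicit false
universe u
open CategoryTheory MonoidalCategory CartesianMonoidalCategory MonObj GrpObj AlgebraicGeometry CategoryTheory.Limits
open AlgGrp

namespace Groth.Agent.S11416

/-- The algebra structure of the functions on an open. -/
noncomputable abbrev algU {k : Type u} [Field k] (G : Over (Spec (CommRingCat.of k))) (U : G.left.Opens) :
    Algebra k Γ(G.left, U) :=
  ((Scheme.ΓSpecIso (CommRingCat.of k)).inv ≫ G.hom.appLE ⊤ U le_top).hom.toAlgebra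

/-- The tautological point of an affine open. -/
noncomputable def genPt {k : Type u} [Field k] (G : Over (Spec (CommRingCat.of k))) (U : G.left.Opens)
    (hU : IsAffineOpen U) : letI := algU G U; VecGrp.pt k Γ(G.left, U) ⟶ G :=
  letI := algU G U
  Over.homMk hU.fromSpec (by
    show hU.fromSpec ≫ G.hom = Spec.map _
    rw [show CommRingCat.ofHom (algebraMap k Γ(G.left, U)) =
        (Scheme.ΓSpecIso (CommRingCat.of k)).inv ≫ G.hom.appLE ⊤ U le_top from rfl, Spec.map_comp,
      ← IsAffineOpen.SpecMap_appLE_fromSpec G.hom (isAffineOpen_top _) hU le_top]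
    rw [IsAffineOpen.fromSpec_top, Scheme.isoSpec_Spec_inv])

/-- A functional applied to the first factor. -/
noncomputable def lam {k M : Type u} [Field k] [AddCommGroup M] [Module k M] (l : M →ₗ[k] k) (B : Type u)
    [CommRing B] [Algebra k B] : VecGrp.W k M B →ₗ[k] B :=
  (TensorProduct.rid k B).toLinearMap ∘ₗ l.lTensor B

theorem lam_Wmap {k M : Type u} [Field k] [AddCommGroup M] [Module k M] (l : M →ₗ[k] k) {B B' : Type u}
    [CommRing B] [Algebra k B] [CommRing B'] [Algebra k B'] (φ : B →ₐ[k] B') (x : VecGrp.W k M B) :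
    lam l B' (VecGrp.Wmap φ x) = φ (lam l B x) := by
  induction x using TensorProduct.induction_on with
  | zero => simp
  | tmul b v => simp [lam, map_smul]
  | add a b ha hb => simp [map_add, ha, hb]


/-- Over an algebraically closed field k, let G be an algebraic group (a smooth k-group scheme of finite
type) and M a rational G-module, not necessarily finite-dimensional: a k-vector space with a
G-module structure (points of G with values in a k-algebra B act B-linearly on B ⊗ M, naturally in
B) such that every vector lies in a finite-dimensional subspace N with B ⊗ N stable under all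
B-points of G. If the representation is faithful, in the sense that every rational point of G acting
as the identity on M is the identity element, then G is affine. -/
theorem result (k : Type u) [Field k] [IsAlgClosed k]
    (G : Over (Spec (CommRingCat.of k))) [GrpObj G] [Smooth G.hom] [QuasiCompact G.hom]
    (M : Type u) [AddCommGroup M] [Module k M] (m : VecGrp.GMod G M)
    (hlf : ∀ v : M, ∃ N : Submodule k M, v ∈ N ∧ Module.Finite k ↥N ∧
      ∀ (B : Type u) [CommRing B] [Algebra k B] (g : VecGrp.pt k B ⟶ G) (x : VecGrp.W k M B),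
        x ∈ Submodule.baseChange B N → m.ρ B g x ∈ Submodule.baseChange B N)
    (hfaith : ∀ g : VecGrp.pt k k ⟶ G, m.ρ k g = 1 → g = 1) :
    IsAffine G.left := by
  classical
  haveI : IsSeparated G.hom := AbRigid.isSeparated_of_grpObj G
  refine AffGrp19.isAffine_of_injective_points G fun g₁ g₂ hτ => ?_
  -- transport to points of `pt k k`
  let e : VecGrp.pt k k ⟶ 𝟙_ (Over (Spec (CommRingCat.of k))) := toUnit _
  haveI : IsIso e := by
    haveI : IsIso e.left := by
      show IsIso (Spec.map (CommRingCat.ofHom (algebraMap k k)))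
      rw [Algebra.algebraMap_self, CommRingCat.ofHom_id, Spec.map_id]
      infer_instance
    haveI : IsIso ((Over.forget _).map e) := inferInstanceAs (IsIso e.left)
    exact isIso_of_reflects_iso e (Over.forget _)
  rw [← cancel_epi e]
  rw [← inv_mul_eq_one]
  refine hfaith _ ?_
  rw [map_mul, map_inv, inv_mul_eq_one]
  -- the matrix coefficient functions
  suffices hmc : ∀ (v : M) (l : M →ₗ[k] k), ∃ f : Γ(G.left, ⊤), ∀ g : VecGrp.pt k k ⟶ G,
      lam l k (m.ρ k g (1 ⊗ₜ v)) = (Scheme.ΓSpecIso (CommRingCat.of k)).hom (g.left.appTop f) by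
    have hfun : ∀ (v : M) (l : M →ₗ[k] k), lam l k (m.ρ k (e ≫ g₁) (1 ⊗ₜ v)) = lam l k (m.ρ k (e ≫ g₂) (1 ⊗ₜ v)) := by
      intro v l
      obtain ⟨f, hf⟩ := hmc v l
      rw [hf, hf]
      have hfac : ∀ g : VecGrp.pt k k ⟶ G, g.left.appTop f = (g ≫ AffGrp19.toAff G).left.appTop
          ((Scheme.ΓSpecIso _).inv f) := fun g => by
        rw [Over.comp_left, Scheme.Hom.comp_appTop, CommRingCat.comp_apply]
        refine congrArg _ ?_
        show f = (G.left.toSpecΓ.appTop) ((Scheme.ΓSpecIso _).inv f)
        rw [Scheme.toSpecΓ_appTop, ← CommRingCat.comp_apply, Iso.inv_hom_id]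
        rfl
      rw [hfac, hfac, Category.assoc, Category.assoc, hτ]
    refine LinearEquiv.toLinearMap_injective (TensorProduct.AlgebraTensorModule.ext fun b v => ?_)
    have hb : b ⊗ₜ[k] v = b • ((1 : k) ⊗ₜ[k] v) := by rw [TensorProduct.smul_tmul', smul_eq_mul, _root_.mul_one]
    rw [hb, LinearEquiv.coe_coe, map_smul, LinearEquiv.coe_coe, map_smul]
    congr 1
    apply (TensorProduct.lid k M).injective
    refine Module.forall_dual_apply_eq_zero_iff k (_ - _) |>.mp (fun l => ?_) |> sub_eq_zero.mp
    rw [map_sub, sub_eq_zero]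
    have hl : ∀ x : VecGrp.W k M k, lam l k x = l (TensorProduct.lid k M x) := fun x => by
      induction x using TensorProduct.induction_on with
      | zero => simp
      | tmul b v => simp [lam, mul_comm]
      | add a b ha hb => simp [map_add, ha, hb]
    rw [← hl, ← hl]
    exact hfun v l
  intro v l
  let fU : ∀ U : G.left.affineOpens, Γ(G.left, U.1) := fun U =>
    letI := algU G U.1
    lam l Γ(G.left, U.1) (m.ρ Γ(G.left, U.1) (genPt G U.1 U.2) (1 ⊗ₜ v))
  have hres : ∀ (U V : G.left.affineOpens) (hle : V.1 ≤ U.1),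
      G.left.presheaf.map (homOfLE hle).op (fU U) = fU V := by
    intro U V hle
    letI := algU G U.1
    letI := algU G V.1
    let φ : Γ(G.left, U.1) →ₐ[k] Γ(G.left, V.1) :=
      { (G.left.presheaf.map (homOfLE hle).op).hom with
        commutes' := fun c => by
          show ((Scheme.ΓSpecIso (CommRingCat.of k)).inv ≫ G.hom.appLE ⊤ U.1 le_top ≫
            G.left.presheaf.map (homOfLE hle).op) c = ((Scheme.ΓSpecIso (CommRingCat.of k)).inv ≫ G.hom.appLE ⊤ V.1 le_top) c
          rw [Scheme.Hom.appLE_map] }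
    have hp : VecGrp.ptMap φ ≫ genPt G U.1 U.2 = genPt G V.1 V.2 := by
      refine Over.OverMorphism.ext ?_
      exact IsAffineOpen.map_fromSpec U.2 V.2 (homOfLE hle).op
    show φ (fU U) = fU V
    simp only [fU]
    rw [← lam_Wmap, m.naturality, hp, VecGrp.Wmap_tmul, map_one]
  have hc : TopCat.Presheaf.IsCompatible G.left.sheaf.1 (fun U : G.left.affineOpens => U.1) fU := by
    intro U V
    refine G.left.sheaf.eq_of_locally_eq' (fun W : {W : G.left.affineOpens // W.1 ≤ U.1 ⊓ V.1} => W.1.1) _
      (fun W => homOfLE W.2) ?_ _ _ fun W => ?_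
    · intro z hz
      obtain ⟨W, hW, hzW, hWle⟩ := exists_isAffineOpen_mem_and_subset (X := G.left) (x := z) (U := U.1 ⊓ V.1) hz
      exact TopologicalSpace.Opens.mem_iSup.mpr ⟨⟨⟨W, hW⟩, hWle⟩, hzW⟩
    · simp only [← CommRingCat.comp_apply, ← Functor.map_comp]
      exact (hres U W.1 (W.2.trans inf_le_left)).trans (hres V W.1 (W.2.trans inf_le_right)).symm
  obtain ⟨f, hf, -⟩ := G.left.sheaf.existsUnique_gluing' (fun U : G.left.affineOpens => U.1) ⊤
    (fun U => homOfLE le_top) (iSup_affineOpens_eq_top G.left).ge fU hc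
  refine ⟨f, fun g => ?_⟩
  let x : G.left := g.left (IsLocalRing.closedPoint k)
  obtain ⟨U, hU, hxU, -⟩ := exists_isAffineOpen_mem_and_subset (X := G.left) (x := x) (U := ⊤) trivial
  letI := algU G U
  have hle : (⊤ : (Spec (CommRingCat.of k)).Opens) ≤ g.left ⁻¹ᵁ U := fun z _ => by
    rw [Subsingleton.elim (α := Spec (CommRingCat.of k)) z (IsLocalRing.closedPoint k)]
    exact hxU
  let ψ : Γ(G.left, U) ⟶ CommRingCat.of k := g.left.appLE U ⊤ hle ≫ (Scheme.ΓSpecIso (CommRingCat.of k)).hom
  have hw : g.left ≫ G.hom = Spec.map (CommRingCat.ofHom (algebraMap k k)) := Over.w g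
  let φ : Γ(G.left, U) →ₐ[k] k :=
    { ψ.hom with
      commutes' := fun c => by
        show ((Scheme.ΓSpecIso (CommRingCat.of k)).inv ≫ G.hom.appLE ⊤ U le_top ≫ g.left.appLE U ⊤ hle ≫
          (Scheme.ΓSpecIso (CommRingCat.of k)).hom) c = c
        rw [Scheme.Hom.appLE_comp_appLE_assoc]
        simp only [hw, Algebra.algebraMap_self, CommRingCat.ofHom_id, Spec.map_id]
        simp [Scheme.Hom.appLE] }
  have hg : VecGrp.ptMap φ ≫ genPt G U hU = g := by
    refine Over.OverMorphism.ext ?_
    show Spec.map ψ ≫ hU.fromSpec = g.left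
    simp only [ψ, Spec.map_comp, Category.assoc]
    haveI : IsAffine (VecGrp.pt k k).left := inferInstanceAs (IsAffine (Spec (CommRingCat.of k)))
    rw [IsAffineOpen.SpecMap_appLE_fromSpec g.left hU (isAffineOpen_top _) hle, IsAffineOpen.fromSpec_top]
    show Spec.map (Scheme.ΓSpecIso (CommRingCat.of k)).hom ≫ (Spec (CommRingCat.of k)).isoSpec.inv ≫ g.left = g.left
    rw [Scheme.isoSpec_Spec_inv, ← Category.assoc, ← Spec.map_comp, Iso.inv_hom_id, Spec.map_id, Category.id_comp]
  conv_lhs => rw [← hg, show (1 : k) ⊗ₜ[k] v = VecGrp.Wmap φ (1 ⊗ₜ v) by rw [VecGrp.Wmap_tmul, map_one],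
    ← m.naturality, lam_Wmap]
  show ψ (fU ⟨U, hU⟩) = _
  rw [← hf ⟨U, hU⟩]
  show (G.left.presheaf.map (homOfLE le_top).op ≫ ψ) f = (g.left.appTop ≫ (Scheme.ΓSpecIso (CommRingCat.of k)).hom) f
  congr 2
  simp only [ψ, Scheme.Hom.map_appLE_assoc]
  congr 1

end Groth.Agent.S11416
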