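import Groth.Statements.S11417
import Groth.Agent.Lib.HomSpace15.Main
-- import your own Groth.Agent.* helpers here

set_option autoImplicit false
universe u
open CategoryTheory MonoidalCategory CartesianMonoidalCategory MonObj GrpObj AlgebraicGeometry CategoryTheory.Limits
open AlgGrp

namespace Groth.Agent.S11417

/-- Over an algebraically closed field k, let X be a complete variety (a proper, integral, separated
k-scheme of finite type) which is homogeneous under a connected algebraic group G (the morphism G ×
X → X × X, (g, x) ↦ (g·x, x), is surjective) acting scheme-theoretically faithfully (every point of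
G with values in a k-scheme S acting as the identity on X × S is the identity); let i : N → G be its
largest connected affine normal algebraic subgroup G_aff (a homomorphism and closed immersion from a
smooth, connected, affine k-group scheme, normal in G, through which every other such subgroup
factors), and let j : M → G be its largest anti-affine subgroup scheme G_ant (a homomorphism and
closed immersion from a k-group scheme M whose only global functions are the constants, through
which every other such subgroup scheme factors). Then the multiplication G_ant × G_aff → G is an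
isomorphism of schemes, G_ant is proper over k (an abelian variety A), G_aff is semisimple of
adjoint type (semisimple with trivial scheme-theoretic centre), and there are a k-scheme Y with an
action of G_aff and an isomorphism X ≅ A × Y under which G = A × G_aff acts by translations of A on
the first factor and by the given action of G_aff on Y. (Existence of such Y and isomorphism is
asserted; the published statement calls them canonical.) -/
theorem result (k : Type u) [Field k] [IsAlgClosed k]
    (G X : Over (Spec (CommRingCat.of k))) [GrpObj G] [Smooth G.hom] [QuasiCompact G.hom] [ConnectedSpace ↥G.left]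
    [IsProper X.hom] [IsIntegral X.left]
    (a : AlgGrp.Action G X) (htrans : Surjective (lift a.act (snd G X)).left)
    (hfaith : ∀ (S : Over (Spec (CommRingCat.of k))) (g : S ⟶ G),
      (∀ (S' : Over (Spec (CommRingCat.of k))) (s : S' ⟶ S) (x : S' ⟶ X), lift (s ≫ g) x ≫ a.act = x) → g = 1)
    (N : Over (Spec (CommRingCat.of k))) [GrpObj N] (i : N ⟶ G) [IsMonHom i] [IsClosedImmersion i.left]
    [Smooth N.hom] [ConnectedSpace ↥N.left] [IsAffine N.left] (hN : AlgGrp.IsNormalHom i)
    (hNmax : ∀ (N' : Over (Spec (CommRingCat.of k))) [GrpObj N'] (i' : N' ⟶ G) [IsMonHom i'] [IsClosedImmersion i'.left]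
      [Smooth N'.hom] [ConnectedSpace ↥N'.left] [IsAffine N'.left], AlgGrp.IsNormalHom i' → ∃ f : N' ⟶ N, f ≫ i = i')
    (M : Over (Spec (CommRingCat.of k))) [GrpObj M] (j : M ⟶ G) [IsMonHom j] [IsClosedImmersion j.left]
    (hM : Function.Bijective ((Scheme.ΓSpecIso (CommRingCat.of k)).inv ≫ M.hom.appTop).hom)
    (hMmax : ∀ (M' : Over (Spec (CommRingCat.of k))) [GrpObj M'] (j' : M' ⟶ G) [IsMonHom j'] [IsClosedImmersion j'.left],
      Function.Bijective ((Scheme.ΓSpecIso (CommRingCat.of k)).inv ≫ M'.hom.appTop).hom → ∃ f : M' ⟶ M, f ≫ j = j') :
    IsIso ((j ⊗ₘ i) ≫ μ[G]) ∧ IsProper M.hom ∧ Red.IsSemisimpleOver k N ∧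
      (∀ (Z : Over (Spec (CommRingCat.of k))) [GrpObj Z] (z : Z ⟶ N), Red.IsCentre z → IsIso Z.hom) ∧
      ∃ (Y : Over (Spec (CommRingCat.of k))) (b : AlgGrp.Action N Y) (e : X ≅ M ⊗ Y),
        ∀ (S : Over (Spec (CommRingCat.of k))) (m' : S ⟶ M) (n : S ⟶ N) (x : S ⟶ X),
          lift ((m' ≫ j) * (n ≫ i)) x ≫ a.act ≫ e.hom =
            lift ((x ≫ e.hom ≫ fst M Y) * m') (lift n (x ≫ e.hom ≫ snd M Y) ≫ b.act) := by
  exact Groth.Agent.HomSpace15.structure_thm G X a htrans hfaith N i hN hNmax M j hM hMmax

end Groth.Agent.S11417
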