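import Groth.Statements.S11418
import Groth.Agent.Lib.TorsorSch25.Basic

set_option autoImplicit false
universe u
open CategoryTheory MonoidalCategory CartesianMonoidalCategory MonObj GrpObj AlgebraicGeometry CategoryTheory.Limits
open AlgGrp

namespace Groth.Agent.S11418

set_option backward.isDefEq.respectTransparency.types false


/-- Over an algebraically closed field k, let G be an affine algebraic group (smooth affine k-group
scheme of finite type) and π : X → Y a principal G-bundle of k-schemes of finite type: G acts on X,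
π is G-invariant, faithfully flat, and the square formed by the action, the second projection G × X
→ X and π is cartesian. Then the map θ sending a G-equivariant morphism f : X → G (for the
conjugation action on G, i.e. f(g·x) = g f(x) g⁻¹ on points) to the automorphism x ↦ f(x)·x is a
bijection onto the bundle automorphisms: every G-equivariant automorphism φ of X with π ∘ φ = π
equals θ(f) for exactly one such f. -/
theorem result (k : Type u) [Field k] [IsAlgClosed k]
    (G X Y : Over (Spec (CommRingCat.of k))) [GrpObj G] [Smooth G.hom] [QuasiCompact G.hom] [IsAffine G.left]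
    [LocallyOfFiniteType X.hom] [QuasiCompact X.hom] [LocallyOfFiniteType Y.hom] [QuasiCompact Y.hom]
    (a : AlgGrp.Action G X) (π : X ⟶ Y) (hinv : a.act ≫ π = snd G X ≫ π) [Flat π.left] [Surjective π.left]
    (hcart : IsPullback (snd G X) a.act π π)
    (φ : X ≅ X) (hφ : φ.hom ≫ π = π) (hφeq : (G ◁ φ.hom) ≫ a.act = a.act ≫ φ.hom) :
    ∃! f : X ⟶ G, (∀ (S : Over (Spec (CommRingCat.of k))) (g : S ⟶ G) (x : S ⟶ X),
        lift g x ≫ a.act ≫ f = g * (x ≫ f) * g⁻¹) ∧ φ.hom = lift f (𝟙 X) ≫ a.act := by
  let f : X ⟶ G := hcart.lift (𝟙 X) φ.hom (by rw [Category.id_comp, hφ]) ≫ fst G X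
  have hlift : lift f (𝟙 X) = hcart.lift (𝟙 X) φ.hom (by rw [Category.id_comp, hφ]) := by
    apply CartesianMonoidalCategory.hom_ext
    · rw [lift_fst]
    · rw [lift_snd, hcart.lift_fst]
  have hf : lift f (𝟙 X) ≫ a.act = φ.hom := by rw [hlift, hcart.lift_snd]
  have huniq : ∀ {S : Over (Spec (CommRingCat.of k))} (g g' : S ⟶ G) (x : S ⟶ X),
      lift g x ≫ a.act = lift g' x ≫ a.act → g = g' := by
    intro S g g' x h
    have e : lift g x = lift g' x := hcart.hom_ext (by rw [lift_snd, lift_snd]) h
    simpa using congrArg (· ≫ fst G X) e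
  have key : ∀ {S : Over (Spec (CommRingCat.of k))} (x : S ⟶ X),
      x ≫ φ.hom = lift (x ≫ f) x ≫ a.act := by
    intro S x
    rw [← hf, comp_lift_assoc, Category.comp_id]
  refine ⟨f, ⟨fun S g x => ?_, hf.symm⟩, fun f' hf' => ?_⟩
  · rw [← Category.assoc]
    refine huniq _ _ (lift g x ≫ a.act) ?_
    rw [← key]
    conv_rhs => rw [← AlgGrp.Action.lift_mul_act, inv_mul_cancel_right, AlgGrp.Action.lift_mul_act, ← key]
    rw [Category.assoc, ← hφeq, lift_whiskerLeft_assoc]
  · exact huniq _ _ _ (hf'.2.symm.trans hf.symm)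

end Groth.Agent.S11418
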