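import Groth.Statements.S11419
-- import your own Groth.Agent.* helpers here
import Groth.Agent.Lib.AffPart25.BorelStruct

set_option autoImplicit false
universe u
open CategoryTheory MonoidalCategory CartesianMonoidalCategory MonObj GrpObj AlgebraicGeometry CategoryTheory.Limits
open AlgGrp

namespace Groth.Agent.S11419

/-- Over an algebraically closed field k, let G be a connected algebraic group (smooth k-group scheme of
finite type), let i : N → G be its largest connected affine normal algebraic subgroup G_aff (a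
homomorphism and closed immersion from a smooth, connected, affine k-group scheme, normal in G,
through which every other such subgroup factors), let j : M → G be its largest anti-affine subgroup
scheme G_ant (a homomorphism and closed immersion from a k-group scheme M whose only global
functions are the constants, through which every other such subgroup scheme factors), and let h : H
→ G be a maximal connected solvable algebraic subgroup (maximal among smooth, connected, solvable
closed subgroup schemes). Then H contains G_ant; there is a Borel subgroup B of G_aff contained in H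
with H = B · G_ant (the multiplication B × G_ant → H is surjective); and every other maximal
connected solvable algebraic subgroup of G is conjugate to H by a rational point of G. (The
published statement also identifies B with the scheme-theoretic intersection of G_aff and H, says H
is its own set-theoretic normalizer, and gives G/H ≅ G_aff/B; those clauses are not stated here.) -/
theorem result (k : Type u) [Field k] [IsAlgClosed k]
    (G : Over (Spec (CommRingCat.of k))) [GrpObj G] [Smooth G.hom] [QuasiCompact G.hom] [ConnectedSpace ↥G.left]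
    (N : Over (Spec (CommRingCat.of k))) [GrpObj N] (i : N ⟶ G) [IsMonHom i] [IsClosedImmersion i.left]
    [Smooth N.hom] [ConnectedSpace ↥N.left] [IsAffine N.left] (hN : AlgGrp.IsNormalHom i)
    (hNmax : ∀ (N' : Over (Spec (CommRingCat.of k))) [GrpObj N'] (i' : N' ⟶ G) [IsMonHom i'] [IsClosedImmersion i'.left]
      [Smooth N'.hom] [ConnectedSpace ↥N'.left] [IsAffine N'.left], AlgGrp.IsNormalHom i' → ∃ f : N' ⟶ N, f ≫ i = i')
    (M : Over (Spec (CommRingCat.of k))) [GrpObj M] (j : M ⟶ G) [IsMonHom j] [IsClosedImmersion j.left]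
    (hM : Function.Bijective ((Scheme.ΓSpecIso (CommRingCat.of k)).inv ≫ M.hom.appTop).hom)
    (hMmax : ∀ (M' : Over (Spec (CommRingCat.of k))) [GrpObj M'] (j' : M' ⟶ G) [IsMonHom j'] [IsClosedImmersion j'.left],
      Function.Bijective ((Scheme.ΓSpecIso (CommRingCat.of k)).inv ≫ M'.hom.appTop).hom → ∃ f : M' ⟶ M, f ≫ j = j')
    (H : Over (Spec (CommRingCat.of k))) [GrpObj H] (h : H ⟶ G) (hH : Red.IsBorelOver k h) :
    (∃ f : M ⟶ H, f ≫ h = j) ∧
    (∃ (B : Over (Spec (CommRingCat.of k))) (_ : GrpObj B) (b : B ⟶ N) (f : B ⟶ H), Red.IsBorelOver k b ∧ f ≫ h = b ≫ i ∧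
        ∀ f' : M ⟶ H, f' ≫ h = j → Surjective ((f ⊗ₘ f') ≫ μ[H]).left) ∧
    (∀ (H' : Over (Spec (CommRingCat.of k))) [GrpObj H'] (h' : H' ⟶ G), Red.IsBorelOver k h' →
        ∃ (g : 𝟙_ (Over (Spec (CommRingCat.of k))) ⟶ G) (e : H' ≅ H), e.hom ≫ h = AGF.conjBy g h') := by
  haveI : IsSeparated G.hom := AbRigid.isSeparated_of_grpObj G
  haveI : LocallyOfFiniteType M.hom := by rw [← Over.w j]; infer_instance
  haveI : QuasiCompact M.hom := by rw [← Over.w j]; infer_instance
  haveI : Smooth M.hom := AntiAff20.smooth_of_antiAffine M hM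
  obtain ⟨hMc, hMcomm⟩ := Groth.Agent.S3293.result k M hM
  haveI := hMc
  haveI := hMcomm
  have hcen : ∀ {T : Over (Spec (CommRingCat.of k))} (x : T ⟶ M) (g : T ⟶ G), (x ≫ j) * g = g * (x ≫ j) :=
    fun {T} x g => by
      simpa using Groth.Agent.S7996.result k M G hM j T x T (𝟙 T) g
  have hjn : AlgGrp.IsNormalHom j := fun T g x => ⟨x, by rw [← hcen x g, mul_inv_cancel_right]⟩
  obtain ⟨A, _, q, hqm, hqf, hqs, -, hker, hAp, -, -⟩ := AffPart25.exists_chevalley G N i hN hNmax
  haveI := hqm; haveI := hqf; haveI := hqs; haveI := hAp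
  have hMN := (Groth.Agent.S14582.result k G N i hN A q hker M j hM fun M' _ _ _ j' _ _ h' => hMmax M' j' h').1
  obtain ⟨B, _, b, a, c, hB, ha, hc, hsurj⟩ := AffPart25.exists_borel_structure j i hMN hjn hcen h hH
  obtain ⟨hhm, hhc, hhs, hhn, hhsol, -⟩ := id hH
  haveI := hhm; haveI := hhc; haveI := hhs; haveI := hhn
  haveI : Mono h := Over.mono_of_mono_left h
  refine ⟨⟨a, ha⟩, ⟨B, inferInstance, b, c, hB, hc, fun f' hf' => ?_⟩, fun H' _ h' hH' => ?_⟩
  · obtain rfl : f' = a := (cancel_mono h).1 (hf'.trans ha.symm)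
    exact hsurj
  obtain ⟨B₂, _, b₂, a₂, c₂, hB₂, ha₂, hc₂, hsurj₂⟩ := AffPart25.exists_borel_structure j i hMN hjn hcen h' hH'
  obtain ⟨hhm', hhc', hhs', hhn', hhsol', -⟩ := id hH'
  haveI := hhm'; haveI := hhc'; haveI := hhs'; haveI := hhn'; haveI := hsurj₂
  obtain ⟨g₀, e₀, he₀⟩ := BorelFix21.exists_conjBy b₂ b hB₂ hB
  haveI : IsReduced H'.left := OrbitTop19.isReduced_of_smooth H'.hom
  haveI : LocallyOfFiniteType B₂.hom := by
    obtain ⟨-, -, hs, -⟩ := hB₂
    haveI := hs
    infer_instance
  haveI : LocallyOfFiniteType (B₂ ⊗ M).hom :=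
    inferInstanceAs (LocallyOfFiniteType (pullback.fst B₂.hom M.hom ≫ B₂.hom))
  let g : 𝟙_ (Over (Spec (CommRingCat.of k))) ⟶ G := g₀ ≫ i
  obtain ⟨l, hl⟩ := PtsDetect19.exists_lift_algClosed (k := k) k (AGF.conjBy g h') h fun x => by
    obtain ⟨z, hz⟩ := BorelFix21.exists_pt_lift ((c₂ ⊗ₘ a₂) ≫ μ[H']) (show VecGrp.pt k k ⟶ H' from x)
    let y : VecGrp.pt k k ⟶ B₂ := z ≫ fst B₂ M
    let m : VecGrp.pt k k ⟶ M := z ≫ snd B₂ M
    have hx : (show VecGrp.pt k k ⟶ G from x ≫ h') = (y ≫ b₂ ≫ i) * (m ≫ j) := by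
      show (show VecGrp.pt k k ⟶ H' from x) ≫ h' = _
      rw [← hz, ← hc₂, ← ha₂, Category.assoc, Category.assoc, IsMonHom.mul_hom h', tensorHom_comp_tensorHom_assoc,
        ← lift_comp_fst_snd z, lift_map_assoc, ← Hom.mul_def]
    refine ⟨(y ≫ e₀.hom ≫ c) * (m ≫ a), ?_⟩
    show ((y ≫ e₀.hom ≫ c) * (m ≫ a)) ≫ h = (show VecGrp.pt k k ⟶ H' from x) ≫ AGF.conjBy g h'
    rw [TorPts21.comp_conjBy, show (show VecGrp.pt k k ⟶ H' from x) ≫ h' = _ from hx, AffPart25.conj_central j hcen,
      MonObj.mul_comp, Category.assoc m a h, ha]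
    congr 1
    simp only [Category.assoc, hc]
    rw [← Category.assoc e₀.hom, he₀, ← Category.assoc y, TorPts21.comp_conjBy, MonObj.mul_comp, MonObj.mul_comp,
      GrpObj.inv_comp]
    simp only [g, Category.assoc]
  haveI : IsIso l := BorelFix21.exists_iso_conj h hhsol h' hH' g⁻¹ l (by
    rw [hl]
    simp [AGF.conjBy, GrpObj.comp_inv])
  exact ⟨g, asIso l, hl⟩


end Groth.Agent.S11419
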