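import Groth.Statements.S11420
import Groth.Agent.Lib.AffRep19.ProperGamma

set_option autoImplicit false
universe u
open CategoryTheory MonoidalCategory CartesianMonoidalCategory MonObj GrpObj AlgebraicGeometry CategoryTheory.Limits
open AlgGrp

namespace Groth.Agent.S11420

/-- Over an algebraically closed field k, let X and Y be complete varieties (proper, integral, separated
k-schemes of finite type) and let a connected k-group scheme of finite type G act on X × Y. Then
there are unique actions of G on X and on Y such that the given action is the product action g·(x,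
y) = (g·x, g·y). (This is the form, for actions of connected group schemes, of the identification of
the neutral component of the automorphism group scheme of X × Y with the product of those of X and
Y; the representability of these group schemes is not asserted here.) -/
theorem result (k : Type u) [Field k] [IsAlgClosed k]
    (G X Y : Over (Spec (CommRingCat.of k))) [GrpObj G] [LocallyOfFiniteType G.hom] [QuasiCompact G.hom] [ConnectedSpace ↥G.left]
    [IsProper X.hom] [IsIntegral X.left]
    [IsProper Y.hom] [IsIntegral Y.left]
    (a : AlgGrp.Action G (X ⊗ Y)) :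
    ∃ (b : AlgGrp.Action G X) (c : AlgGrp.Action G Y),
      a.act = lift ((G ◁ fst X Y) ≫ b.act) ((G ◁ snd X Y) ≫ c.act) ∧
      ∀ (b' : AlgGrp.Action G X) (c' : AlgGrp.Action G Y),
        a.act = lift ((G ◁ fst X Y) ≫ b'.act) ((G ◁ snd X Y) ≫ c'.act) → b' = b ∧ c' = c := by
  haveI : IsProper (fst X Y).left := inferInstanceAs (IsProper (Limits.pullback.fst X.hom Y.hom))
  haveI : IsProper (snd X Y).left := inferInstanceAs (IsProper (Limits.pullback.snd X.hom Y.hom))
  have h1 : ∀ U : X.left.Opens, IsIso ((fst X Y).left.app U) := fun U =>
    (ConcreteCategory.isIso_iff_bijective _).mpr (Groth.Agent.Blanchard19.bijective_app_of_isPullback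
      (IsPullback.of_hasPullback X.hom Y.hom).flip (Groth.Agent.AffRep19.bijective_app Y.left Y.hom) U)
  have h2 : ∀ U : Y.left.Opens, IsIso ((snd X Y).left.app U) := fun U =>
    (ConcreteCategory.isIso_iff_bijective _).mpr (Groth.Agent.Blanchard19.bijective_app_of_isPullback
      (IsPullback.of_hasPullback X.hom Y.hom) (Groth.Agent.AffRep19.bijective_app X.left X.hom) U)
  haveI : IsSeparated X.hom := inferInstance
  haveI : IsSeparated Y.hom := inferInstance
  obtain ⟨b, hb, hbu⟩ := Groth.Agent.Blanchard19.existsUnique_action_of_connected (fst X Y) h1 a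
  obtain ⟨c, hc, hcu⟩ := Groth.Agent.Blanchard19.existsUnique_action_of_connected (snd X Y) h2 a
  refine ⟨b, c, ?_, fun b' c' h => ⟨hbu b' ?_, hcu c' ?_⟩⟩
  · ext1
    · rw [lift_fst]; exact hb.symm
    · rw [lift_snd]; exact hc.symm
  · show (G ◁ fst X Y) ≫ b'.act = a.act ≫ fst X Y
    rw [h, lift_fst]
  · show (G ◁ snd X Y) ≫ c'.act = a.act ≫ snd X Y
    rw [h, lift_snd]

end Groth.Agent.S11420
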