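import Groth.Statements.S11424
import Groth.Agent.Lib.AlgGrpBasic19.Basic
import Groth.Agent.Lib.FlatDesc26.Basic
import Mathlib.AlgebraicGeometry.Morphisms.Smooth

set_option autoImplicit false
universe u
open CategoryTheory MonoidalCategory CartesianMonoidalCategory MonObj GrpObj AlgebraicGeometry CategoryTheory.Limits
open AlgGrp

namespace Groth.Agent.S11424

set_option backward.isDefEq.respectTransparency.types false
open CategoryTheory.Limits Groth.Agent.AlgGrpBasic19


/-- Over an algebraically closed field k, let G be an algebraic group (a smooth k-group scheme of finite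
type), h : H → G a smooth affine closed normal subgroup, and q : G → Q a flat surjective
homomorphism of k-group schemes of finite type with kernel h (so Q = G/H). Then the quotient
morphism q is affine. (The published statement is the equivalence between affineness of G and of
both H and G/H; this row states that the quotient morphism G → G/H is affine.) -/
theorem result (k : Type u) [Field k] [IsAlgClosed k]
    (G H Q : Over (Spec (CommRingCat.of k))) [GrpObj G] [Smooth G.hom] [QuasiCompact G.hom]
    [GrpObj H] (h : H ⟶ G) [IsMonHom h] [IsClosedImmersion h.left] [Smooth H.hom] [IsAffine H.left]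
    [GrpObj Q] [LocallyOfFiniteType Q.hom] [QuasiCompact Q.hom]
    (q : G ⟶ Q) [IsMonHom q] [Surjective q.left] [Flat q.left] (hk : AlgGrp.IsKernel h q) :
    IsAffineHom q.left := by
  haveI : Mono h := Over.mono_of_mono_left h
  have hpb : IsPullback ((G ◁ h) ≫ μ[G]) (fst G H) q q := by
    have hval : ∀ {T : Over (Spec (CommRingCat.of k))} (g : T ⟶ G) (x : T ⟶ H),
        lift g x ≫ (G ◁ h) ≫ μ[G] = g * (x ≫ h) := fun {T} g x => by
      rw [lift_whiskerLeft_assoc, Hom.mul_def]
    have hone : ∀ {T : Over (Spec (CommRingCat.of k))} (x : T ⟶ H), (x ≫ h) ≫ q = 1 := fun {T} x => by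
      rw [Category.assoc, hk.w, ← Category.assoc, comp_toUnit, Hom.one_def]
    have hid : ∀ {T : Over (Spec (CommRingCat.of k))} (p : T ⟶ G ⊗ H), p = lift (p ≫ fst G H) (p ≫ snd G H) :=
      fun p => by rw [← comp_lift, lift_fst_snd, Category.comp_id]
    refine ⟨⟨?_⟩, ⟨PullbackCone.IsLimit.mk _
      (fun s => lift s.snd (hk.lift (s.snd⁻¹ * s.fst) (toUnit _) (by
        rw [MonObj.mul_comp, GrpObj.inv_comp, s.condition, inv_mul_cancel, Hom.one_def])))
      (fun s => by rw [hval, hk.lift_fst, mul_inv_cancel_left])
      (fun s => lift_fst _ _) (fun s m h1 h2 => ?_)⟩⟩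
    · have e := hid (𝟙 (G ⊗ H))
      rw [Category.id_comp, Category.id_comp] at e
      conv_lhs => rw [← Category.id_comp ((G ◁ h) ≫ μ[G]), e, hval, MonObj.mul_comp, hone, _root_.mul_one]
    · rw [hid m, h2]
      congr 1
      rw [← cancel_mono h, hk.lift_fst, eq_inv_mul_iff_mul_eq, ← h2, ← hval, ← hid]
      exact h1
  have := (Over.forget (Spec (CommRingCat.of k))).map_isPullback hpb
  have hsq : IsPullback ((G ◁ h) ≫ μ[G]).left (fst G H).left q.left q.left := this
  haveI : IsAffineHom H.hom := inferInstance
  haveI : IsAffineHom (fst G H).left := (MorphismProperty.pullback_fst (P := @IsAffineHom) G.hom H.hom inferInstance : IsAffineHom (pullback.fst G.hom H.hom))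
  haveI : IsAffineHom (pullback.snd q.left q.left) := by
    rw [← hsq.isoPullback_inv_snd]
    infer_instance
  haveI : QuasiCompact q.left := quasiCompact_left q
  have : LocallyOfFiniteType G.hom := inferInstance
  have : QuasiSeparated G.hom := quasiSeparatedSpace
  haveI : QuasiSeparated (q.left ≫ Q.hom) := by rw [Over.w q]; infer_instance
  haveI : QuasiSeparated q.left := QuasiSeparated.of_comp q.left Q.hom
  exact Groth.Agent.FlatDesc26.isAffineHom_of_flat_cover q.left q.left

end Groth.Agent.S11424
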