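import Groth.Statements.S11427
import Groth.Agent.Lib.GITQuot.Orbit

set_option autoImplicit false
universe u
open CategoryTheory MonoidalCategory CartesianMonoidalCategory MonObj GrpObj AlgebraicGeometry Topology
open GIT

namespace Groth.Agent.S11427

/-- A geometric quotient of X by G is a categorical quotient, and a universal geometric quotient is a
universal categorical quotient. -/
theorem result (S : Scheme.{u}) (G X Y : Over S) [GrpObj G] (a : AlgGrp.Action G X)
    (φ : X ⟶ Y) (h : GIT.IsGeomQuot a φ) :
    GIT.IsCatQuot a φ ∧ (GIT.IsUnivGeomQuot a φ → GIT.IsUnivCatQuot a φ) := by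
  refine ⟨Groth.Agent.GITQuot.isCatQuot h, fun hu => ⟨Groth.Agent.GITQuot.isCatQuot h, ?_⟩⟩
  intro X' Y' pr φ' g hg hpb a' ha hi
  exact Groth.Agent.GITQuot.isCatQuot (hu.2 pr φ' g hg hpb a' ha hi)

end Groth.Agent.S11427
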