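import Groth.Statements.S18504
import Groth.Agent.Lib.GITQuot.Descend

set_option autoImplicit false
universe u
open CategoryTheory MonoidalCategory CartesianMonoidalCategory MonObj GrpObj AlgebraicGeometry Topology
open EqInt

namespace Groth.Agent.S18504

open Groth.Agent
set_option backward.isDefEq.respectTransparency.types false


/-- Over a field k, let an affine group scheme G of finite type act on X, with X and Y separated of
finite type over k, and let (Y, φ) be a geometric quotient of X by G. Then φ is universally open.
(The source takes X and Y integral; integrality plays no role. A geometric quotient is taken here
with φ universally submersive, and with this reading the universal openness is what the argument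
gives.) -/
theorem result (k : Type u) [Field k]
    (G X Y : Over (Spec (CommRingCat.of k))) [GrpObj G] [IsAffine G.left] [LocallyOfFiniteType G.hom]
    [LocallyOfFiniteType X.hom] [QuasiCompact X.hom] [IsSeparated X.hom]
    [LocallyOfFiniteType Y.hom] [QuasiCompact Y.hom] [IsSeparated Y.hom]
    (a : AlgGrp.Action G X) (φ : X ⟶ Y) (h : GIT.IsGeomQuot a φ) :
    UniversallyOpen φ.left := by
  haveI : UniversallyOpen a.act.left := AlgGrpBasic19.act_of_property a @UniversallyOpen inferInstance
  exact GITQuot.universallyOpen_of_isGeomQuot h

end Groth.Agent.S18504
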