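import Groth.Statements.S2571
import Groth.Agent.Lib.UnivOpenSec5.Main
import Groth.Agent.Lib.LimH13.ArrowModel
import Groth.Agent.S0021

set_option autoImplicit false
open CategoryTheory AlgebraicGeometry
universe u
open EGA43

namespace Groth.Agent.S2571

open CategoryTheory.Limits in
/-- Let Y be locally Noetherian, f : X ⟶ Y locally of finite type, and g : Y' ⟶ Y locally of finite
type, universally open and surjective. If the base change X ×_Y Y' ⟶ Y' is an affine morphism, then
f is affine. -/
theorem result {X Y Y' : Scheme.{u}} [IsLocallyNoetherian Y]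
    (f : X ⟶ Y) [LocallyOfFiniteType f] (g : Y' ⟶ Y) [LocallyOfFiniteType g] [UniversallyOpen g] [Surjective g]
    [IsAffineHom (pullback.snd f g)] : IsAffineHom f := by
  rw [isAffineHom_iff]
  intro V hV
  haveI : IsAffine (V : Scheme.{u}) := hV
  haveI : IsLocallyNoetherian (V : Scheme.{u}) := inferInstance
  haveI : QuasiSeparatedSpace ↥(V : Scheme.{u}) := inferInstance
  haveI : CompactSpace ↥(V : Scheme.{u}) := inferInstance
  haveI : AlgebraicGeometry.IsNoetherian (V : Scheme.{u}) := {}
  let fV := pullback.snd f V.ι
  let gV := pullback.snd g V.ι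
  haveI : LocallyOfFiniteType gV := MorphismProperty.pullback_snd _ _ ‹LocallyOfFiniteType g›
  haveI : LocallyOfFinitePresentation gV := Groth.Agent.LimH13.locallyOfFinitePresentation_of_noetherian gV
  haveI : UniversallyOpen gV := MorphismProperty.pullback_snd _ _ ‹UniversallyOpen g›
  haveI : Surjective gV := MorphismProperty.pullback_snd _ _ ‹Surjective g›
  obtain ⟨Y₁, p, hps, hpf, -, hloc⟩ := Groth.Agent.UnivOpenSec5.exists_finite gV
  choose W h hyW hh using hloc
  have haff : IsAffineHom (pullback.snd fV p) := by
    refine (IsZariskiLocalAtTarget.iff_of_iSup_eq_top (P := @IsAffineHom) (U := W) ?_).2 fun y => ?_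
    · exact top_le_iff.1 fun y _ => TopologicalSpace.Opens.mem_iSup.2 ⟨y, hyW y⟩
    · have hsq : IsPullback (pullback.snd (pullback.snd fV p) (W y).ι) (pullback.fst (pullback.snd fV p) (W y).ι)
          (W y).ι (pullback.snd fV p) := (IsPullback.of_hasPullback _ _).flip
      rw [← (isPullback_morphismRestrict (pullback.snd fV p) (W y)).flip.isoPullback_hom_snd]
      suffices IsAffineHom (pullback.snd (pullback.snd fV p) (W y).ι) by infer_instance
      let b : ((W y : Y₁.Opens) : Scheme.{u}) ⟶ Y' := h y ≫ pullback.fst g V.ι
      have hb : b ≫ g = ((W y).ι ≫ p) ≫ V.ι := by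
        rw [Category.assoc (h y), pullback.condition, ← Category.assoc, hh y]
      have h1 : IsPullback (pullback.fst (pullback.snd fV p) (W y).ι ≫ pullback.fst fV p ≫ pullback.fst f V.ι)
          (pullback.snd (pullback.snd fV p) (W y).ι) f (b ≫ g) := by
        rw [hb, Category.assoc]
        exact (IsPullback.of_hasPullback (pullback.snd fV p) (W y).ι).paste_horiz
          ((IsPullback.of_hasPullback fV p).paste_horiz (IsPullback.of_hasPullback f V.ι))
      have h2 : IsPullback (pullback.fst (pullback.snd f g) b ≫ pullback.fst f g)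
          (pullback.snd (pullback.snd f g) b) f (b ≫ g) :=
        (IsPullback.of_hasPullback (pullback.snd f g) b).paste_horiz (IsPullback.of_hasPullback f g)
      rw [← h1.isoIsPullback_hom_snd _ _ h2]
      haveI : IsAffineHom (pullback.snd (pullback.snd f g) b) := MorphismProperty.pullback_snd _ _ inferInstance
      infer_instance
  haveI := haff
  haveI : IsAffine Y₁ := isAffine_of_isAffineHom p
  haveI : IsAffine (pullback fV p) := isAffine_of_isAffineHom (pullback.snd fV p)
  haveI : IsFinite (pullback.fst fV p) := MorphismProperty.pullback_fst _ _ hpf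
  haveI : Surjective (pullback.fst fV p) := MorphismProperty.pullback_fst _ _ hps
  haveI : LocallyOfFiniteType fV := MorphismProperty.pullback_snd _ _ ‹LocallyOfFiniteType f›
  haveI : IsLocallyNoetherian (pullback f V.ι) := LocallyOfFiniteType.isLocallyNoetherian fV
  haveI : CompactSpace ↥(pullback f V.ι) :=
    ⟨by rw [← (pullback.fst fV p).surjective.range_eq]; exact isCompact_range (pullback.fst fV p).continuous⟩
  haveI : AlgebraicGeometry.IsNoetherian (pullback f V.ι) := {}
  haveI : IsAffine (pullback f V.ι) := Groth.Agent.S0021.result (pullback.fst fV p)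
  exact IsAffine.of_isIso (pullbackRestrictIsoRestrict f V).inv

end Groth.Agent.S2571
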