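import Groth.Statements.S11429
import Groth.Agent.S18504
import Groth.Agent.S2571
import Groth.Agent.Lib.CohFound.Chevalley

set_option autoImplicit false
universe u
open CategoryTheory MonoidalCategory CartesianMonoidalCategory MonObj GrpObj AlgebraicGeometry Topology
open GIT

namespace Groth.Agent.S11429

open CategoryTheory.Limits

/-- Over a field k, let G (affine), X and Y be separated schemes of finite type, G a group scheme acting
properly on X (the morphism (σ, p₂) : G × X → X × X is proper), and (Y, φ) a geometric quotient of X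
by G. Then φ is affine. -/
theorem result (k : Type u) [Field k] (G X Y : Over (Spec (CommRingCat.of k)))
    [GrpObj G] [IsAffine G.left] [LocallyOfFiniteType G.hom]
    [LocallyOfFiniteType X.hom] [QuasiCompact X.hom] [IsSeparated X.hom]
    [LocallyOfFiniteType Y.hom] [QuasiCompact Y.hom] [IsSeparated Y.hom]
    (a : AlgGrp.Action G X) (hp : IsProper (GIT.psi a (𝟙 X)).left) (φ : X ⟶ Y) (h : GIT.IsGeomQuot a φ) :
    IsAffineHom φ.left := by
  have : UniversallyOpen φ.left := Groth.Agent.S18504.result k G X Y a φ h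
  have : Surjective φ.left := ⟨h.surj⟩
  have : IsLocallyNoetherian Y.left := LocallyOfFiniteType.isLocallyNoetherian Y.hom
  have : IsLocallyNoetherian X.left := LocallyOfFiniteType.isLocallyNoetherian X.hom
  have : CompactSpace X.left := QuasiCompact.compactSpace_of_compactSpace X.hom
  have : LocallyOfFiniteType (φ.left ≫ Y.hom) := by rw [Over.w φ]; infer_instance
  have : LocallyOfFiniteType φ.left := locallyOfFiniteType_of_comp φ.left Y.hom
  have : QuasiCompact (φ.left ≫ Y.hom) := by rw [Over.w φ]; infer_instance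
  have : QuasiCompact φ.left := QuasiCompact.of_comp φ.left Y.hom
  have : IsSeparated (φ.left ≫ Y.hom) := by rw [Over.w φ]; infer_instance
  have : IsSeparated φ.left := IsSeparated.of_comp φ.left Y.hom
  let Ψ := GIT.PsiY a φ h.inv
  let p₂ : pullback φ.left φ.left ⟶ X.left := pullback.snd φ.left φ.left
  have hΨ₂ : Ψ ≫ p₂ = (snd G X).left := pullback.lift_snd _ _ _
  have : IsAffineHom G.hom := inferInstance
  have : IsAffineHom (snd G X).left := MorphismProperty.of_isPullback (P := @IsAffineHom) (IsPullback.of_hasPullback G.hom X.hom) ‹IsAffineHom G.hom›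
  have : IsAffineHom (Ψ ≫ p₂) := hΨ₂ ▸ inferInstance
  have : IsAffineHom Ψ := IsAffineHom.of_comp Ψ p₂
  let m : pullback φ.left φ.left ⟶ (X ⊗ X).left :=
    pullback.lift (pullback.fst φ.left φ.left) p₂ (by
      rw [← Over.w φ, pullback.condition_assoc])
  have : IsSeparated m := by
    have : IsSeparated (m ≫ (snd X X).left) := by
      rw [show m ≫ (snd X X).left = p₂ from pullback.lift_snd _ _ _]; infer_instance
    exact IsSeparated.of_comp m (snd X X).left
  have hm : Ψ ≫ m = (GIT.psi a (𝟙 X)).left := by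
    refine pullback.hom_ext ?_ ?_
    · rw [Category.assoc, pullback.lift_fst]
      refine (pullback.lift_fst _ _ _).trans ?_
      show a.act.left = (GIT.psi a (𝟙 X)).left ≫ (fst X X).left
      rw [← Over.comp_left, GIT.psi, lift_fst, MonoidalCategory.whiskerLeft_id, Category.id_comp]
    · rw [Category.assoc, pullback.lift_snd, hΨ₂]
      show (snd G X).left = (GIT.psi a (𝟙 X)).left ≫ (snd X X).left
      rw [← Over.comp_left, GIT.psi, lift_snd]
  have : IsProper (Ψ ≫ m) := hm ▸ hp
  have : IsProper Ψ := IsProper.of_comp Ψ m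
  have : IsFinite Ψ := (IsFinite.iff_isProper_and_isAffineHom).2 ⟨inferInstance, inferInstance⟩
  have : Surjective Ψ := ⟨h.orbit⟩
  have : IsAffineHom p₂ := by
    refine ⟨fun U hU => ?_⟩
    have : IsAffine (Ψ ⁻¹ᵁ (p₂ ⁻¹ᵁ U) : Scheme.{u}) := by
      have : IsAffineOpen ((Ψ ≫ p₂) ⁻¹ᵁ U) := hU.preimage (Ψ ≫ p₂)
      exact this
    have : IsFinite (Ψ ∣_ (p₂ ⁻¹ᵁ U)) := MorphismProperty.of_isPullback (isPullback_morphismRestrict Ψ _).flip inferInstance
    have : Surjective (Ψ ∣_ (p₂ ⁻¹ᵁ U)) := MorphismProperty.of_isPullback (isPullback_morphismRestrict Ψ _).flip inferInstance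
    have : IsLocallyNoetherian (pullback φ.left φ.left) := LocallyOfFiniteType.isLocallyNoetherian p₂
    have : CompactSpace ↥(p₂ ⁻¹ᵁ U) := isCompact_iff_compactSpace.1 (p₂.isCompact_preimage hU.isCompact)
    have : CompactSpace ↥(p₂ ⁻¹ᵁ U : Scheme.{u}) := ‹CompactSpace ↥(p₂ ⁻¹ᵁ U)›
    have : IsNoetherian (p₂ ⁻¹ᵁ U : Scheme.{u}) := { }
    exact Groth.Agent.CohFound.isAffine_of_finite_surjective (Ψ ∣_ (p₂ ⁻¹ᵁ U))
  exact Groth.Agent.S2571.result φ.left φ.left

end Groth.Agent.S11429
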