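import Groth.Statements.S1143
import Groth.Agent.Lib.SplitSH25.Main

set_option autoImplicit false
universe u
open Pi1

namespace Groth.Agent.S1143

open AlgebraicGeometry CategoryTheory CategoryTheory.Limits in
/-- A finite etale K-scheme that splits over L comes from a finite etale A-scheme (this is the
essential-image part of exactness of the sequence π₁(Spec L) → π₁(Spec K) → π₁(Spec A) → 1; the
surjectivity and composition parts of the exact sequence are separate facts). Let A be a normal
local domain with fraction field K, let R be a strict henselization of A (with A → R local) and L a
fraction field of R, with compatible algebra structures (A → K → L and A → R → L agree). If V is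
finite etale over Spec K and its base change to Spec L is split (a finite disjoint union of copies
of Spec L), then V is isomorphic to the restriction to Spec K of a finite etale cover Y of Spec A
(only the existence of such Y and of an isomorphism is asserted). -/
theorem result (A : Type u) [CommRing A] [IsDomain A]
    [IsLocalRing A] [IsIntegrallyClosed A] (R : Type u) [CommRing R] [IsLocalRing R] [Algebra A R] [IsLocalHom (algebraMap A R)] [Hensel.IsStrictHenselization A R]
    (K L : Type u) [Field K] [Field L] [Algebra A K] [IsFractionRing A K] [Algebra R L] [IsFractionRing R L]
    [Algebra K L] [Algebra A L] [IsScalarTower A K L] [IsScalarTower A R L]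
    (V : FEt.Cat (Spec (CommRingCat.of K)))
    (hV : Pi1.IsSplit ((FEt.restrict (Spec.map (CommRingCat.ofHom (algebraMap K L)))).obj V)) :
    ∃ Y : FEt.Cat (Spec (CommRingCat.of A)),
      Nonempty ((FEt.restrict (Spec.map (CommRingCat.ofHom (algebraMap A K)))).obj Y ≅ V) := by
  exact SplitSH25.exists_extension A R K L V hV

end Groth.Agent.S1143
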