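import Groth.Statements.S11431
import Groth.Agent.Lib.AffAct15.Spec
import Groth.Agent.Lib.GITHM15.Group
-- import your own Groth.Agent.* helpers here

set_option autoImplicit false
universe u
open CategoryTheory MonoidalCategory CartesianMonoidalCategory MonObj GrpObj AlgebraicGeometry Topology
open GIT

namespace Groth.Agent.S11431

/-- Let k be a field of characteristic zero, G a connected reductive algebraic group over k and σ an
action of G on an affine scheme X over k. Then there are an affine scheme Y over k and an invariant
φ : X → Y identifying Γ(Y, O_Y) with the ring of invariant global functions on X, such that (Y, φ)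
is a universal categorical quotient of X by G and φ is universally submersive; moreover Y is
Noetherian if X is, and Y is of finite type over k if X is. (The published statement covers every
characteristic, with a uniform categorical quotient in positive characteristic, and any reductive G;
this row is the characteristic-zero case with G connected, where reductive groups are linearly
reductive.) -/
theorem result (k : Type u) [Field k] [CharZero k]
    (G X : Over (Spec (CommRingCat.of k))) [GrpObj G] (hG : Red.IsReductive G) [IsAffine X.left]
    (a : AlgGrp.Action G X) :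
    ∃ (Y : Over (Spec (CommRingCat.of k))) (φ : X ⟶ Y), IsAffine Y.left ∧
      Function.Injective φ.left.appTop ∧
      Set.range φ.left.appTop = {f : Γ(X.left, ⊤) | a.act.left.appTop f = (snd G X).left.appTop f} ∧
      GIT.IsUnivCatQuot a φ ∧ GIT.IsUnivSubmersive φ.left ∧
      (IsNoetherian X.left → IsNoetherian Y.left) ∧
      (LocallyOfFiniteType X.hom → LocallyOfFiniteType Y.hom) := by
  obtain ⟨hGa, -, -⟩ := Groth.Agent.TorPts21.props_of_isReductive hG
  haveI := hGa
  obtain ⟨A, _, _, ei, _, _, hft, hLR⟩ := Groth.Agent.GITHM15.exists_model_LR hG
  haveI := hft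
  haveI := Groth.Agent.GITHM15.isMonHom_inv ei
  obtain ⟨R, _, _, j, _⟩ := Groth.Agent.AffAct15.exists_affModel X
  obtain ⟨hC, hm, hj⟩ := Groth.Agent.AffAct15.exists_model (inv ei) j a
  have hq := Groth.Agent.AffAct15.isAffQuot_pt_val hj
  haveI : IsIso j.left := inferInstanceAs (IsIso ((Over.forget _).map j))
  refine ⟨_, _, hq.affY, hq.inj, hq.range, (hq.isLocAffQuot (inv ei) hLR).isUnivCatQuot (inv ei) hLR,
    (hq.isLocAffQuot (inv ei) hLR).isUnivSubmersive (inv ei) hLR, fun hN => ?_, fun hN => ?_⟩
  · haveI := hN
    haveI : IsNoetherianRing Γ(X.left, ⊤) :=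
      IsLocallyNoetherian.component_noetherian ⟨⊤, isAffineOpen_top X.left⟩
    haveI : IsNoetherianRing R := isNoetherianRing_of_ringEquiv _
      (RingEquiv.ofBijective (Groth.Agent.AffAct15.fn j) Groth.Agent.AffAct15.fn_bijective).symm
    haveI := Groth.Agent.S17526.result k A hLR R
    exact inferInstanceAs (IsNoetherian (Spec (CommRingCat.of (GLin.invariants k A R))))
  · haveI : LocallyOfFiniteType (CoactBr.sp k R).hom := by rw [← Over.w j]; infer_instance
    haveI : Algebra.FiniteType k R :=
      RingHom.finiteType_algebraMap.1 ((HasRingHomProperty.Spec_iff (P := @LocallyOfFiniteType)).1 ‹_›)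
    haveI := Groth.Agent.AffAct15.finiteType_invariants (A := A) (R := R) hLR
    exact (HasRingHomProperty.Spec_iff (P := @LocallyOfFiniteType)).2 (RingHom.finiteType_algebraMap.2 ‹_›)


end Groth.Agent.S11431
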