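import Groth.Statements.S11433
import Groth.Agent.Lib.AffAct15.Orbit
import Groth.Agent.Lib.AffAct15.Spec
import Groth.Agent.Lib.GITHM15.Group
import Groth.Agent.Lib.GITQuot.Orbit
-- import your own Groth.Agent.* helpers here

set_option autoImplicit false
universe u
open CategoryTheory MonoidalCategory CartesianMonoidalCategory MonObj GrpObj AlgebraicGeometry Topology
open GIT

namespace Groth.Agent.S11433

/-- Let k be a field of characteristic zero, G a connected reductive algebraic group over k acting on an
affine scheme X over k, and (Y, φ) a categorical quotient of X by G. Then (Y, φ) is a geometric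
quotient exactly when every orbit of a geometric point is closed, and in that case (Y, φ) is even a
universal geometric quotient. (The published statement is for any reductive G, the universal
conclusion being stated in characteristic zero; this row is the characteristic-zero case with G
connected.) -/
theorem result (k : Type u) [Field k] [CharZero k]
    (G X Y : Over (Spec (CommRingCat.of k))) [GrpObj G] (hG : Red.IsReductive G) [IsAffine X.left]
    (a : AlgGrp.Action G X) (φ : X ⟶ Y) (hq : GIT.IsCatQuot a φ) :
    (GIT.IsGeomQuot a φ ↔ GIT.IsClosedAction a) ∧ (GIT.IsClosedAction a → GIT.IsUnivGeomQuot a φ) := by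
  obtain ⟨hGa, -, -⟩ := Groth.Agent.TorPts21.props_of_isReductive hG
  haveI := hGa
  obtain ⟨A, _, _, ei, _, _, -, hLR⟩ := Groth.Agent.GITHM15.exists_model_LR hG
  haveI := Groth.Agent.GITHM15.isMonHom_inv ei
  obtain ⟨R, _, _, j, _⟩ := Groth.Agent.AffAct15.exists_affModel X
  obtain ⟨hC, hm, hj⟩ := Groth.Agent.AffAct15.exists_model (inv ei) j a
  have h0 := (Groth.Agent.AffAct15.isAffQuot_pt_val hj).isLocAffQuot (inv ei) hLR
  obtain ⟨χ, _, hχ⟩ := Groth.Agent.AffAct15.catQuot_iso hq (h0.isCatQuot (inv ei) hLR).1
  have hL : Groth.Agent.AffAct15.IsLocAffQuot a φ := hχ ▸ h0.of_iso (inv ei) hLR χ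
  exact ⟨⟨fun h => Groth.Agent.GITQuot.isClosedAction h, fun h => (hL.isUnivGeomQuot (inv ei) hLR h).1⟩,
    fun h => hL.isUnivGeomQuot (inv ei) hLR h⟩


end Groth.Agent.S11433
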