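import Groth.Statements.S11434
import Groth.Agent.Lib.RigidSec19

set_option autoImplicit false
universe u
open CategoryTheory MonoidalCategory CartesianMonoidalCategory MonObj GrpObj AlgebraicGeometry Topology
open GIT

namespace Groth.Agent.S11434

/-- Let S, X, Y be locally Noetherian, p : X → S flat, q : Y → S separated, f : X → Y over S, with S
connected and κ(s) → H⁰(X_s, O_{X_s}) bijective for every point s of S; assume either that p is
proper, or that p is a closed map and has a section. If f collapses one fibre p⁻¹(s) to a single
point, then f = t ∘ p for a section t of q. (The published statement assumes all schemes separated;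
this row assumes only that q is separated, which is what the proof uses.) -/
theorem result (S X Y : Scheme.{u}) [IsLocallyNoetherian S] [IsLocallyNoetherian X]
    [IsLocallyNoetherian Y] (p : X ⟶ S) (q : Y ⟶ S) (f : X ⟶ Y) (hf : f ≫ q = p) [Flat p] [IsSeparated q]
    [ConnectedSpace S]
    (h0 : ∀ s : S, Function.Bijective (Limits.pullback.snd p (S.fromSpecResidueField s)).appTop)
    (hp : IsProper p ∨ (IsClosedMap p.base ∧ ∃ e : S ⟶ X, e ≫ p = 𝟙 S))
    (s : S) (hs : ∀ x x' : X, p.base x = s → p.base x' = s → f.base x = f.base x') :
    ∃ t : S ⟶ Y, t ≫ q = 𝟙 S ∧ f = p ≫ t := by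
  have hfib : ∀ t : S, Function.Surjective
      (Limits.pullback.snd p (S.fromSpecResidueField t)).appTop.hom := fun t => (h0 t).2
  rcases hp with hP | ⟨hcl, e, he⟩
  · haveI := hP
    haveI : Surjective p := ⟨fun t => by
      obtain ⟨z⟩ : Nonempty ↥(Limits.pullback p (S.fromSpecResidueField t)) := by
        by_contra hne
        rw [not_nonempty_iff] at hne
        haveI : Subsingleton Γ(Limits.pullback p (S.fromSpecResidueField t), ⊤) := by
          have htb : (⊤ : (Limits.pullback p (S.fromSpecResidueField t)).Opens) = ⊥ := by
            ext z; exact isEmptyElim z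
          rw [htb]
          exact CommRingCat.subsingleton_of_isTerminal
            (Limits.pullback p (S.fromSpecResidueField t)).sheaf.isTerminalOfEmpty
        haveI := (h0 t).1.subsingleton
        exact not_subsingleton (S.residueField t)
          (Scheme.ΓSpecIso (S.residueField t)).commRingCatIsoToRingEquiv.symm.toEquiv.subsingleton
      refine ⟨Limits.pullback.fst p (S.fromSpecResidueField t) z, ?_⟩
      rw [← Scheme.Hom.comp_apply, Limits.pullback.condition, Scheme.Hom.comp_apply,
        Scheme.fromSpecResidueField_apply]⟩
    have hcf := RigidRel.constFibres_of_fibre p hfib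
    have hb : ∀ U : S.Opens, IsAffineOpen U → Function.Bijective (p.app U).hom :=
      fun U hU => RigidRel.bijective_app p hcf hU
    have hall : RigidRel.collapsed p f = Set.univ := by
      refine IsClopen.eq_univ ⟨RigidRel.isClosed_collapsed p hb f q hf, RigidRel.isOpen_collapsed p hb f⟩ ?_
      obtain ⟨x0, hx0⟩ := p.surjective s
      exact ⟨s, f x0, fun x hx => hs x x0 hx hx0⟩
    obtain ⟨r, hr, hrf⟩ := (RigidRel.exists_factor_iff p hb f q hf S (𝟙 S)).mpr fun t => by
      rw [hall]; trivial
    refine ⟨r, hr, ?_⟩
    have h := congrArg (Limits.pullback.lift (𝟙 X) p (by simp) ≫ ·) hrf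
    simpa only [Limits.pullback.lift_fst_assoc, Limits.pullback.lift_snd_assoc, Category.id_comp] using h
  · exact ⟨e ≫ f, by rw [Category.assoc, hf, he],
      RigidSec19.exists_factor_of_section p q f hf hcl e he hfib s hs⟩

end Groth.Agent.S11434
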