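import Groth.Statements.S11435
import Groth.Agent.Lib.OrbitProper15.Basic
-- import your own Groth.Agent.* helpers here

set_option autoImplicit false
universe u
open CategoryTheory MonoidalCategory CartesianMonoidalCategory MonObj GrpObj AlgebraicGeometry Topology
open GIT

namespace Groth.Agent.S11435

/-- Over an algebraically closed field k, let a group scheme G of finite type act on a scheme X of
finite type and let x be a k-rational point of X. Then the orbit morphism ψ_x : G × Spec k → X ×
Spec k, g ↦ (g · x, pt), is proper if and only if the orbit of x (the image of ψ_x) is closed and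
the stabilizer of x (the fibre of ψ_x over (x, pt)) is proper over k. -/
theorem result (k : Type u) [Field k] [IsAlgClosed k]
    (G X : Over (Spec (CommRingCat.of k))) [GrpObj G] [LocallyOfFiniteType G.hom] [QuasiCompact G.hom]
    [LocallyOfFiniteType X.hom] [QuasiCompact X.hom] (a : AlgGrp.Action G X)
    (x : 𝟙_ (Over (Spec (CommRingCat.of k))) ⟶ X) :
    IsProper (GIT.psi a x).left ↔
      IsClosed (Set.range (GIT.psi a x).left.base) ∧
        IsProper (Limits.pullback.snd (GIT.psi a x).left (lift x (𝟙 (𝟙_ (Over (Spec (CommRingCat.of k)))))).left ≫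
          (𝟙_ (Over (Spec (CommRingCat.of k)))).hom) := by

  set o := a.orbitMap x
  haveI : IsIso (fst G (𝟙_ (Over (Spec (CommRingCat.of k))))) := by rw [← rightUnitor_hom]; infer_instance
  haveI : IsIso (fst X (𝟙_ (Over (Spec (CommRingCat.of k))))) := by rw [← rightUnitor_hom]; infer_instance
  haveI : IsIso (fst G (𝟙_ (Over (Spec (CommRingCat.of k))))).left :=
    inferInstanceAs (IsIso ((Over.forget _).map (fst G (𝟙_ (Over (Spec (CommRingCat.of k)))))))
  haveI : IsIso (fst X (𝟙_ (Over (Spec (CommRingCat.of k))))).left :=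
    inferInstanceAs (IsIso ((Over.forget _).map (fst X (𝟙_ (Over (Spec (CommRingCat.of k)))))))
  have he : GIT.psi a x ≫ fst X _ = fst G _ ≫ o := by
    rw [GIT.psi, lift_fst]
    simp only [o, AlgGrp.Action.orbitMap]
    rw [← Category.assoc (fst G _)]
    congr 1
    refine CartesianMonoidalCategory.hom_ext _ _ (by simp) ?_
    simp only [Category.assoc, lift_snd, whiskerLeft_snd]
    rw [← Category.assoc]
    congr 1
    exact toUnit_unique _ _
  set L := (lift x (𝟙 (𝟙_ (Over (Spec (CommRingCat.of k)))))).left
  set fX := (fst X (𝟙_ (Over (Spec (CommRingCat.of k))))).left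
  set fG := (fst G (𝟙_ (Over (Spec (CommRingCat.of k))))).left
  have he' : (GIT.psi a x).left ≫ fX = fG ≫ o.left := congrArg CommaMorphism.left he
  have hL : L ≫ fX = x.left := by simp only [L, fX, ← Over.comp_left, lift_fst]
  have hψ : (GIT.psi a x).left = fG ≫ o.left ≫ inv fX := by rw [← reassoc_of% he', IsIso.hom_inv_id, Category.comp_id]
  have hP := (IsPullback.of_hasPullback (GIT.psi a x).left L).paste_horiz
    (IsPullback.of_horiz_isIso (fst := fG) (snd := (GIT.psi a x).left) (f := o.left) (g := fX) ⟨he'.symm⟩)
  rw [hL] at hP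
  set H := Limits.pullback o x
  have hH : IsPullback (Limits.pullback.fst o x).left (Limits.pullback.snd o x).left o.left x.left :=
    (IsPullback.of_hasPullback o x).map (Over.forget _)
  have hstab : Limits.pullback.snd (GIT.psi a x).left L ≫ (𝟙_ (Over (Spec (CommRingCat.of k)))).hom =
      (hP.isoIsPullback _ _ hH).hom ≫ H.hom := by
    rw [← Over.w (Limits.pullback.snd o x), IsPullback.isoIsPullback_hom_snd_assoc]
  have hr : IsClosed (Set.range (GIT.psi a x).left.base) ↔ IsClosed (Set.range o.left) := by
    have e : Set.range (GIT.psi a x).left = (inv fX).homeomorph '' Set.range o.left := by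
      rw [hψ, ← Set.range_comp]
      ext z
      constructor
      · rintro ⟨w, rfl⟩; exact ⟨fG w, rfl⟩
      · rintro ⟨g, rfl⟩
        obtain ⟨w, rfl⟩ := fG.surjective g
        exact ⟨w, rfl⟩
    show IsClosed (Set.range (GIT.psi a x).left) ↔ _
    rw [e, Homeomorph.isClosed_image]
  constructor
  · intro hp
    refine ⟨(GIT.psi a x).left.isClosedMap.isClosed_range, ?_⟩
    haveI : IsProper (Limits.pullback.snd (GIT.psi a x).left L) := MorphismProperty.pullback_snd _ _ hp
    haveI : IsIso (𝟙_ (Over (Spec (CommRingCat.of k)))).hom := inferInstanceAs (IsIso (𝟙 _))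
    infer_instance
  · rintro ⟨hc, hs⟩
    haveI : IsProper ((hP.isoIsPullback _ _ hH).hom ≫ H.hom) := hstab ▸ hs
    have hHp : IsProper H.hom :=
      (MorphismProperty.cancel_left_of_respectsIso @IsProper (hP.isoIsPullback _ _ hH).hom _).1 ‹_›
    haveI := Groth.Agent.OrbitProper15.isProper_orbitMap a x (hr.1 hc) hHp
    rw [hψ]
    infer_instance


end Groth.Agent.S11435
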