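import Groth.Statements.S11438
import Groth.Agent.Lib.RigidGIT19.Basic

set_option autoImplicit false
universe u
open CategoryTheory MonoidalCategory CartesianMonoidalCategory MonObj GrpObj AlgebraicGeometry Topology
open GIT

namespace Groth.Agent.S11438

/-- Let S be connected and locally Noetherian, G a locally Noetherian group scheme separated over S, X →
S proper and flat with κ(s) → H⁰(X_s, O_{X_s}) bijective for every s, and f, g : X → G morphisms
over S which agree on one fibre X_s. Then there is a section t of G over S with f = (t ∘ p) · g, the
product taken in the group of X-valued points of G. -/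
theorem result (S : Scheme.{u}) [IsLocallyNoetherian S] [ConnectedSpace S]
    (X G : Over S) [GrpObj G] [IsLocallyNoetherian G.left] [IsSeparated G.hom] [IsProper X.hom] [Flat X.hom]
    (h0 : ∀ s : S, Function.Bijective (Limits.pullback.snd X.hom (S.fromSpecResidueField s)).appTop)
    (f g : X ⟶ G) (s : S)
    (hs : Limits.pullback.fst X.hom (S.fromSpecResidueField s) ≫ f.left =
      Limits.pullback.fst X.hom (S.fromSpecResidueField s) ≫ g.left) :
    ∃ t : 𝟙_ (Over S) ⟶ G, f = (toUnit X ≫ t) * g := by
  haveI := RigidGIT19.surjective_of_h0 X.hom h0
  exact RigidGIT19.exists_eq_section_mul (RigidGIT19.constFibres_of_h0 X.hom h0) f g s hs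

end Groth.Agent.S11438
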