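import Groth.Statements.S11439
import Groth.Agent.Lib.RigidGIT19.Basic

set_option autoImplicit false
universe u
open CategoryTheory MonoidalCategory CartesianMonoidalCategory MonObj GrpObj AlgebraicGeometry Topology
open GIT

namespace Groth.Agent.S11439

/-- Let S be locally Noetherian, G a locally Noetherian group scheme separated over S, X → S proper and
flat with κ(s) → H⁰(X_s, O_{X_s}) bijective for every s, and Y connected, locally Noetherian,
separated over S with a section over S. Then every morphism f : X ×_S Y → G over S factors as f = (g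
∘ p₁) · (h ∘ p₂) with g : X → G and h : Y → G. -/
theorem result (S : Scheme.{u}) [IsLocallyNoetherian S]
    (X Y G : Over S) [GrpObj G] [IsLocallyNoetherian G.left] [IsSeparated G.hom] [IsProper X.hom] [Flat X.hom]
    (h0 : ∀ s : S, Function.Bijective (Limits.pullback.snd X.hom (S.fromSpecResidueField s)).appTop)
    [IsLocallyNoetherian Y.left] [IsSeparated Y.hom] [ConnectedSpace Y.left] (e : 𝟙_ (Over S) ⟶ Y)
    (f : X ⊗ Y ⟶ G) :
    ∃ (g : X ⟶ G) (h : Y ⟶ G), f = (fst X Y ≫ g) * (snd X Y ≫ h) := by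
  haveI := RigidGIT19.surjective_of_h0 X.hom h0
  let g : X ⟶ G := lift (𝟙 X) (toUnit X ≫ e) ≫ f
  obtain ⟨y₀⟩ := (inferInstance : Nonempty Y.left)
  obtain ⟨τ, hτ⟩ := RigidGIT19.exists_eq_snd_mul (RigidGIT19.constFibres_of_h0 X.hom h0) f⁻¹ (fst X Y ≫ g)⁻¹ e
    (Y.hom y₀) (by rw [GrpObj.comp_inv, GrpObj.comp_inv, lift_fst_assoc, Category.id_comp])
  refine ⟨g, τ⁻¹, ?_⟩
  rw [GrpObj.comp_inv, ← _root_.inv_inv f, hτ, _root_.mul_inv_rev, _root_.inv_inv]

end Groth.Agent.S11439
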