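import Groth.Statements.S11440
import Groth.Agent.Lib.RigidGIT19.Basic

set_option autoImplicit false
universe u
open CategoryTheory MonoidalCategory CartesianMonoidalCategory MonObj GrpObj AlgebraicGeometry Topology
open GIT

namespace Groth.Agent.S11440

/-- Let S be Noetherian, X an abelian scheme over S (smooth proper group scheme with connected geometric
fibres), G any locally Noetherian group scheme separated over S, and f : X → G a morphism over S
carrying the unit of X to the unit of G. Then f is a homomorphism. -/
theorem result (S : Scheme.{u}) [IsNoetherian S]
    (X G : Over S) [GrpObj X] [GrpObj G] [Smooth X.hom] [IsProper X.hom]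
    (hc : ∀ s : S, ConnectedSpace (Red.geomFibre s X).left)
    [IsLocallyNoetherian G.left] [IsSeparated G.hom] (f : X ⟶ G) (hf : η[X] ≫ f = η[G]) :
    IsMonHom f := by
  haveI : GeometricallyConnected X.hom := RigidGIT19.geometricallyConnected_of_geomFibre X.hom hc
  haveI : GeometricallyReduced X.hom := AbRigid.geometricallyReduced_of_smooth X.hom
  exact RigidRel.isMonHom_of_one X G f hf

end Groth.Agent.S11440
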