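import Groth.Statements.S11441
import Groth.Agent.Lib.GITQuot.Orbit

set_option autoImplicit false
universe u
open CategoryTheory MonoidalCategory CartesianMonoidalCategory MonObj GrpObj AlgebraicGeometry Topology
open GIT

namespace Groth.Agent.S11441

/-- If a geometric quotient of X by G over S exists, then the action of G on X is closed (orbits of
geometric points are closed in the geometric fibres). -/
theorem result (S : Scheme.{u}) (G X Y : Over S) [GrpObj G]
    (a : AlgGrp.Action G X) (φ : X ⟶ Y) (h : GIT.IsGeomQuot a φ) : GIT.IsClosedAction a := by
  exact Groth.Agent.GITQuot.isClosedAction h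

end Groth.Agent.S11441
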