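import Groth.Statements.S11444
import Groth.Agent.Lib.RelPCS8.SmoothAmp
import Groth.Agent.Lib.RelPCS8.StalkTor
-- import your own Groth.Agent.* helpers here

set_option autoImplicit false
set_option backward.isDefEq.respectTransparency false
attribute [local instance] HasDerivedCategory.standard
universe u
open CategoryTheory MonoidalCategory CartesianMonoidalCategory MonObj GrpObj AlgebraicGeometry Topology
open GIT

namespace Groth.Agent.S11444

/-- Let X → Y → S be morphisms of finite type of Noetherian schemes with Y → S smooth with all fibres of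
dimension n and X → S flat. Then X → Y has Tor-dimension at most n. -/
theorem result (S X Y : Scheme.{u}) [IsNoetherian S] [IsNoetherian X] [IsNoetherian Y]
    (p : X ⟶ S) (q : Y ⟶ S) (f : X ⟶ Y) (hf : f ≫ q = p) [LocallyOfFiniteType f] (n : ℕ)
    [SmoothOfRelativeDimension n q] [Flat p] : DerSch.HasTorDimLE f n := by
  subst hf
  intro x
  let M := (DerSch.stalkOver f x).obj (Coh.structureModule X)
  haveI h1 : Module.Flat (S.presheaf.stalk (q.base (f.base x))) ((DerSch.stalkOver (f ≫ q) x).obj (Coh.structureModule X)) :=
    (Groth.Agent.RelPCS8.flat_iff_isFlatOver_structureModule (f := f ≫ q)).1 inferInstance x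
  have h2 : Module.Flat (S.presheaf.stalk (q.base (f.base x)))
      ((ModuleCat.restrictScalars.{u} (q.stalkMap (f.base x)).hom).obj M) :=
    Module.Flat.of_linearEquiv ((Groth.Agent.RelPCS8.StalkTor.stalkCompIso f q x).app
      (Coh.structureModule X)).toLinearEquiv.symm
  haveI : SmoothOfRelativeDimension n ((⊤ : Y.Opens).ι ≫ q) :=
    IsZariskiLocalAtSource.comp (P := @SmoothOfRelativeDimension n) ‹_› _
  have h3 := Groth.Agent.RelPCS8.SmoothAmp.hasTorDimLE_stalk q (d := n) le_rfl (V := ⊤) (y := f.base x) trivial M h2
  refine Groth.Agent.RelPCS8.StalkTor.hasTorAmplitudeIn_congr ?_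
    (Groth.Agent.TorBal.amplitude_of_hasTorDimLE M n h3)
  exact DerivedCategory.Q.mapIso
    ((HomologicalComplex.singleMapHomologicalComplex (DerSch.stalkOver f x) (ComplexShape.up ℤ) 0).app
      (Coh.structureModule X)).symm

end Groth.Agent.S11444
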