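import Groth.Statements.S11446
import Groth.Agent.Lib.UnivCat19.Basic

set_option autoImplicit false
universe u
open CategoryTheory MonoidalCategory CartesianMonoidalCategory MonObj GrpObj AlgebraicGeometry Topology
open GIT

namespace Groth.Agent.S11446

/-- A universal categorical quotient (Y, φ) of X by G has φ surjective and O_Y equal to the sheaf of
invariant functions; hence it is a universal geometric quotient if and only if φ is universally
submersive and (σ, p₂) : G ×_S X → X ×_Y X is surjective. -/
theorem result (S : Scheme.{u}) (G X Y : Over S) [GrpObj G]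
    (a : AlgGrp.Action G X) (φ : X ⟶ Y) (h : GIT.IsUnivCatQuot a φ) :
    Function.Surjective φ.left.base ∧
      (∀ U : Y.left.Opens,
        Function.Injective (φ.left.app U) ∧ Set.range (φ.left.app U) = {f | GIT.IsInvSection a φ U f}) ∧
      (GIT.IsUnivGeomQuot a φ ↔
        GIT.IsUnivSubmersive φ.left ∧ Function.Surjective (GIT.PsiY a φ h.1.1).base) := by
  exact ⟨UnivCat19.surjective h, UnivCat19.sections h, UnivCat19.isUnivGeomQuot_iff h⟩

end Groth.Agent.S11446
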