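import Groth.Statements.S1145
import Groth.Agent.Lib.FFInfty25.Main

set_option autoImplicit false
universe u
open Pi1

namespace Groth.Agent.S1145

open AlgebraicGeometry CategoryTheory CategoryTheory.Limits in
/-- Let X be a scheme and U a dense open subscheme with quasi-compact inclusion such that every point of
the complement of U is closed and, for every such point x and every strict henselization R of the
local ring at x, the punctured spectrum of R is connected. Then restriction of finite etale covers
from X to U is fully faithful. -/
theorem result {X : Scheme.{u}} (U : X.Opens)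
    (hU : Dense (U : Set X)) [QuasiCompact U.ι] (hcl : ∀ x : X, x ∉ U → IsClosed ({x} : Set X))
    (hsh : ∀ x : X, x ∉ U → ∀ (R : Type u) [CommRing R] [IsLocalRing R] [Algebra (X.presheaf.stalk x) R]
      [IsLocalHom (algebraMap (X.presheaf.stalk x) R)] [Hensel.IsStrictHenselization (X.presheaf.stalk x) R],
      ConnectedSpace (FEt.puncturedSpec R : Scheme.{u})) :
    (FEt.restrict U.ι).Full ∧ (FEt.restrict U.ι).Faithful := by
  exact FFInfty25.fullyFaithful U hU hsh fun g _ _ D hD h1 h2 z hz =>
    FFInfty25.gen_of_quasiCompact U g D hD h1 h2 z hz

end Groth.Agent.S1145
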