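import Groth.Statements.S11450
import Groth.Agent.Lib.FlatSyz.TorDim
import Mathlib.RingTheory.Ideal.AssociatedPrime.Finiteness

set_option autoImplicit false
universe u
open CategoryTheory
open DefT

namespace Groth.Agent.S11450

/-- A module M over a Noetherian commutative ring A is flat if and only if Tor_1^A(M, A/p) vanishes for
every prime ideal p of A. -/
theorem result (A : Type u) [CommRing A]
    [IsNoetherianRing A] (M : Type u) [AddCommGroup M] [Module A M] :
    Module.Flat A M ↔ ∀ p : Ideal A, p.IsPrime →
      Limits.IsZero (((CategoryTheory.Tor (ModuleCat.{u} A) 1).obj (ModuleCat.of A M)).obj (ModuleCat.of A (A ⧸ p))) := by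
  constructor
  · intro h p _
    exact FlatSyz.flat_iff_isZero_tor_one.1 h _
  · intro h
    obtain ⟨F, _, _, _, pr, hpr⟩ : ∃ (F : Type u) (_ : AddCommGroup F) (_ : Module A F)
        (_ : Module.Flat A F) (pr : F →ₗ[A] M), Function.Surjective pr :=
      ⟨M →₀ A, inferInstance, inferInstance, inferInstance, Finsupp.linearCombination A id,
        Finsupp.linearCombination_id_surjective A M⟩
    obtain ⟨K, _, _, i, hi, hipr⟩ : ∃ (K : Type u) (_ : AddCommGroup K) (_ : Module A K) (i : K →ₗ[A] F),
        Function.Injective i ∧ Function.Exact i pr :=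
      ⟨LinearMap.ker pr, inferInstance, inferInstance, (LinearMap.ker pr).subtype,
        (LinearMap.ker pr).injective_subtype, LinearMap.exact_subtype_ker_map pr⟩
    have hkey : ∀ (N : Type u) [AddCommGroup N] [Module A N],
        Limits.IsZero (((CategoryTheory.Tor (ModuleCat.{u} A) 1).obj (ModuleCat.of A M)).obj (ModuleCat.of A N)) →
          Function.Injective (i.rTensor N) := fun N _ _ hN => by
      let Pr := ProjectiveResolution.of (ModuleCat.of A N)
      have := FlatSyz.flat_X Pr 0
      let q : Pr.complex.X 0 →ₗ[A] N := (Pr.π.f 0).hom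
      have hq : Function.Surjective q := (ModuleCat.epi_iff_surjective (Pr.π.f 0)).1 inferInstance
      have hex : Function.Exact (LinearMap.range (FlatSyz.dLin Pr 0)).subtype q := fun x =>
        ⟨fun hx => ⟨⟨x, (ShortComplex.moduleCat_exact_iff _).1 Pr.exact₀ x hx⟩, rfl⟩,
          fun ⟨⟨_, z, hz⟩, hy⟩ => by
            subst hy; subst hz
            exact LinearMap.congr_fun (congrArg ModuleCat.Hom.hom Pr.complex_d_comp_π_f_zero) z⟩
      exact (FlatSyz.lTensor_injective_iff_rTensor_injective (B := A) (K := K) (F := F) (M := M) i hi pr hipr hpr _ (Submodule.injective_subtype _)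
        q hex hq).1 ((FlatSyz.isZero_tor_succ_iff Pr 0).1 hN)
    refine Module.Flat.iff_lTensor_injective'.2 fun I => ?_
    refine (FlatSyz.lTensor_injective_iff_rTensor_injective (B := A) (K := K) (F := F) (M := M) i hi pr hipr hpr _ (Submodule.injective_subtype _) I.mkQ
      (LinearMap.exact_subtype_mkQ I) I.mkQ_surjective).2 ?_
    refine IsNoetherianRing.induction_on_isQuotientEquivQuotientPrime A (M := A ⧸ I) inferInstance
      (motive := fun N _ _ _ => Function.Injective (i.rTensor N)) ?_ ?_ ?_
    · intro N _ _ _ _
      have : Subsingleton (TensorProduct A K N) := inferInstance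
      exact fun a b _ => Subsingleton.elim a b
    · intro N _ _ _ p e
      have h1 := hkey (A ⧸ p.1) (h p.1 p.2)
      intro a b hab
      apply (e.lTensor K).injective
      apply h1
      have := congrArg (e.lTensor F) hab
      simp only [← LinearEquiv.coe_coe, ← LinearMap.comp_apply] at this ⊢
      simp only [LinearEquiv.coe_lTensor, LinearMap.lTensor_comp_rTensor, LinearMap.rTensor_comp_lTensor] at this ⊢
      exact this
    · intro N₁ _ _ _ N₂ _ _ _ N₃ _ _ _ f g hf hg hfg h1 h3
      rw [injective_iff_map_eq_zero]
      intro x hx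
      obtain ⟨y, rfl⟩ := ((lTensor_exact K hfg hg) x).1 (h3 (by
        rw [map_zero, ← LinearMap.comp_apply, LinearMap.rTensor_comp_lTensor, ← LinearMap.lTensor_comp_rTensor,
          LinearMap.comp_apply, hx, map_zero]))
      have h2 : f.lTensor F (i.rTensor N₁ y) = 0 := by
        rw [← LinearMap.comp_apply, LinearMap.lTensor_comp_rTensor, ← LinearMap.rTensor_comp_lTensor, LinearMap.comp_apply, hx]
      rw [(injective_iff_map_eq_zero _).1 h1 y ((injective_iff_map_eq_zero _).1
        (Module.Flat.lTensor_preserves_injective_linearMap f hf) _ h2), map_zero]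

end Groth.Agent.S11450
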