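import Groth.Statements.S11451
import Groth.Agent.Lib.JetLift.Basic
import Groth.Agent.Lib.Curvilinear

set_option autoImplicit false
universe u
open DefT

namespace Groth.Agent.S11451

/-- Let k be an algebraically closed field and A a local k-algebra essentially of finite type over k
with residue field k. Then regularity of A as a local ring is equivalent to the following: for every
local k-algebra B' of finite dimension over k, every ideal J of B' of square zero and every
k-algebra homomorphism f : A → B'/J, there is a k-algebra homomorphism g : A → B' lifting f. (Local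
k-algebras of finite k-dimension are exactly the local Artin rings finite over k; lifting against
square-zero kernels is equivalent to lifting against nilpotent ones by induction.) -/
theorem result (k : Type u) [Field k] [IsAlgClosed k]
    (A : Type u) [CommRing A] [IsLocalRing A] [Algebra k A] [Algebra.EssFiniteType k A]
    (hres : Function.Surjective (algebraMap k (IsLocalRing.ResidueField A))) :
    IsRegularLocalRing A ↔
      ∀ (B' : Type u) [CommRing B'] [IsLocalRing B'] [Algebra k B'] [Module.Finite k B']
        (J : Ideal B'), J ^ 2 = ⊥ → ∀ f : A →ₐ[k] B' ⧸ J,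
          ∃ g : A →ₐ[k] B', (Ideal.Quotient.mkₐ k J).comp g = f := by
  constructor
  · intro _ B' _ _ _ _ J hJ f
    haveI := JetLift.formallySmooth_of_regular (k := k) A
    exact Algebra.FormallySmooth.exists_lift J ⟨2, hJ⟩ f
  · intro H
    obtain ⟨ε, hε⟩ := JetLift.exists_augmentation A hres
    refine JetLift.isRegularLocalRing_of_jets_lift A ε hε fun l hl φ => ?_
    haveI : IsLocalRing (Polynomial k ⧸ Ideal.span {(Polynomial.X : Polynomial k) ^ (l + 1)}) :=
      Curvilinear.truncPoly_isLocalRing (Nat.succ_pos l)
    haveI : Module.Finite k (Polynomial k ⧸ Ideal.span {(Polynomial.X : Polynomial k) ^ (l + 1)}) :=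
      (Polynomial.monic_X_pow (R := k) (l + 1)).finite_quotient
    let g := Ideal.Quotient.factorₐ k (Ideal.span_singleton_le_span_singleton.mpr
      (pow_dvd_pow (Polynomial.X : Polynomial k) (Nat.le_succ l)))
    have hg : Function.Surjective g := fun b => by
      obtain ⟨p, rfl⟩ := Ideal.Quotient.mk_surjective b
      exact ⟨Ideal.Quotient.mk _ p, rfl⟩
    have hsq : RingHom.ker g ^ 2 = ⊥ := by
      have hk : RingHom.ker g = (Ideal.span {(Polynomial.X : Polynomial k) ^ l}).map
          (Ideal.Quotient.mk (Ideal.span {(Polynomial.X : Polynomial k) ^ (l + 1)})) :=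
        Ideal.Quotient.factor_ker (Ideal.span_singleton_le_span_singleton.mpr (pow_dvd_pow (Polynomial.X : Polynomial k) (Nat.le_succ l)))
      rw [hk, ← Ideal.map_pow, Ideal.span_singleton_pow, ← pow_mul, Ideal.map_eq_bot_iff_le_ker,
        Ideal.mk_ker, Ideal.span_singleton_le_span_singleton]
      exact pow_dvd_pow _ (by omega)
    let e := Ideal.quotientKerAlgEquivOfSurjective hg
    obtain ⟨ψ, hψ⟩ := H _ (RingHom.ker g) hsq (e.symm.toAlgHom.comp φ)
    refine ⟨ψ, AlgHom.ext fun a => ?_⟩
    have := AlgHom.congr_fun hψ a
    calc g (ψ a) = e (Ideal.Quotient.mkₐ k _ (ψ a)) := rfl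
      _ = φ a := by rw [← AlgHom.comp_apply (Ideal.Quotient.mkₐ k _), hψ]; exact e.apply_symm_apply _

end Groth.Agent.S11451
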