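import Groth.Statements.S11452
import Groth.Agent.Lib.ThickAff3.BaseChange
import Groth.Agent.Lib.TrivDef.Scheme

set_option autoImplicit false
universe u
open CategoryTheory AlgebraicGeometry
open DefT

namespace Groth.Agent.S11452

/-- Let k be an algebraically closed field, X an affine scheme of finite type over k whose local rings
are all regular, A a local Artin k-algebra with a k-algebra augmentation e : A → k, and g : X' →
Spec A a flat morphism whose fibre over the k-point Spec k → Spec A given by e is X (with its
structure map to Spec k). Then there is an isomorphism from X' to the trivial deformation X ×_{Spec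
k} Spec A compatible with the projections to Spec A. -/
theorem result (k : Type u) [Field k]
    [IsAlgClosed k] (X : Scheme.{u}) (hX : X ⟶ Spec (CommRingCat.of k)) [IsAffine X]
    [LocallyOfFiniteType hX] (hreg : ∀ x : X, IsRegularLocalRing (X.presheaf.stalk x))
    (A : Type u) [CommRing A] [IsLocalRing A] [IsArtinianRing A] [Algebra k A] (e : A →ₐ[k] k)
    (X' : Scheme.{u}) (g : X' ⟶ Spec (CommRingCat.of A)) [Flat g] (i : X ⟶ X')
    (hsq : IsPullback i hX g (Spec.map (CommRingCat.ofHom e.toRingHom))) :
    ∃ φ : X' ≅ Limits.pullback hX (Spec.map (CommRingCat.ofHom (algebraMap k A))),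
      φ.hom ≫ Limits.pullback.snd hX (Spec.map (CommRingCat.ofHom (algebraMap k A))) = g := by
  haveI : IsAffine X' := ThickAff3.isAffine_of_isPullback e.toRingHom
    (fun c => ⟨algebraMap k A c, e.commutes c⟩) hsq
  exact TrivDef.exists_iso_scheme X hX hreg A e X' g i hsq

end Groth.Agent.S11452
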