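import Groth.Statements.S11456
import Groth.Agent.Lib.EmbDef.RegularAux

set_option autoImplicit false
universe u
open DefT

namespace Groth.Agent.S11456

/-- Let C be a local Artin ring with maximal ideal m, A a flat C-algebra such that A₀ = A/mA is a
Cohen–Macaulay local ring, and I ⊆ A an ideal with A/I flat over C whose image in A₀ is generated by
a regular sequence b_1, …, b_r on A₀. Then I is generated by r elements a_1, …, a_r forming a
regular sequence on A (so the Koszul complex on the a_i resolves A/I). -/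
theorem result (C : Type u) [CommRing C]
    [IsLocalRing C] [IsArtinianRing C] (A : Type u) [CommRing A] [Algebra C A] [Module.Flat C A]
    [LocCoh.IsCohenMacaulayLocalRing (A ⧸ (IsLocalRing.maximalIdeal C).map (algebraMap C A))]
    (I : Ideal A) [Module.Flat C (A ⧸ I)] (r : ℕ)
    (b : Fin r → A ⧸ (IsLocalRing.maximalIdeal C).map (algebraMap C A))
    (hb : RingTheory.Sequence.IsRegular (A ⧸ (IsLocalRing.maximalIdeal C).map (algebraMap C A)) (List.ofFn b))
    (hI : I.map (Ideal.Quotient.mk ((IsLocalRing.maximalIdeal C).map (algebraMap C A))) = Ideal.span (Set.range b)) :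
    ∃ a : Fin r → A, RingTheory.Sequence.IsRegular A (List.ofFn a) ∧ I = Ideal.span (Set.range a) := by
  classical
  have hm : IsNilpotent (IsLocalRing.maximalIdeal C) := (isArtinianRing_iff_isNilpotent_maximalIdeal C).1 inferInstance
  have hb' : ∀ i, ∃ x ∈ I, Ideal.Quotient.mk ((IsLocalRing.maximalIdeal C).map (algebraMap C A)) x = b i := fun i =>
    (Ideal.mem_map_iff_of_surjective _ Ideal.Quotient.mk_surjective).1 (by rw [hI]; exact Ideal.subset_span ⟨i, rfl⟩)
  choose a haI ha using hb'
  have hab : List.map (Ideal.Quotient.mk ((IsLocalRing.maximalIdeal C).map (algebraMap C A))) (List.ofFn a) = List.ofFn b := by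
    rw [List.map_ofFn]
    exact congrArg _ (funext ha)
  obtain ⟨hw, hflat⟩ := EmbDef.isWeaklyRegular_lift (IsLocalRing.maximalIdeal C) hm (List.ofFn a) (hab ▸ hb.toIsWeaklyRegular)
  have hle : Ideal.span (Set.range a) ≤ I := Ideal.span_le.2 (by rintro _ ⟨i, rfl⟩; exact haI i)
  have hmap : (Ideal.span (Set.range a)).map (Ideal.Quotient.mk ((IsLocalRing.maximalIdeal C).map (algebraMap C A))) = Ideal.span (Set.range b) := by
    rw [Ideal.map_span, ← Set.range_comp]
    exact congrArg (fun f => Ideal.span (Set.range f)) (funext ha)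
  refine ⟨a, ⟨hw, fun e => hb.top_ne_smul ?_⟩, ?_⟩
  · rw [smul_eq_mul, Ideal.mul_top, EmbDef.ofList_ofFn] at e ⊢
    rw [← hmap, ← e, Ideal.map_top]
  · refine EmbDef.eq_of_flat_quotient (IsLocalRing.maximalIdeal C) hm hle fun x hx => ?_
    have := Ideal.mem_map_of_mem (Ideal.Quotient.mk ((IsLocalRing.maximalIdeal C).map (algebraMap C A))) hx
    rwa [hI, ← hmap, Ideal.mem_quotient_iff_mem_sup] at this

end Groth.Agent.S11456
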