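import Groth.Statements.S11461
import Mathlib.RingTheory.Ideal.AssociatedPrime.Finiteness
import Mathlib.RingTheory.Nakayama
import Mathlib.Algebra.Homology.ShortComplex.ModuleCat

set_option autoImplicit false
universe u
open CategoryTheory
open DefT

namespace Groth.Agent.S11461

/-- Let B be a Noetherian ring and F an additive, B-linear endofunctor of B-modules which preserves
finite generation and is semi-exact on short exact sequences of finitely generated modules (the
image sequence is exact in the middle). If F kills B/m for every maximal ideal m, then F kills every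
finitely generated B-module. (The published statement assumes F only additive; this row assumes F
B-linear, and takes the functor on all B-modules with the hypotheses and the conclusion on the
finitely generated ones.) -/
theorem result (B : Type u) [CommRing B]
    [IsNoetherianRing B] (F : ModuleCat.{u} B ⥤ ModuleCat.{u} B) [F.Additive] [F.Linear B]
    (hfg : ∀ M : ModuleCat.{u} B, Module.Finite B M → Module.Finite B (F.obj M))
    (hex : ∀ S : ShortComplex (ModuleCat.{u} B), S.ShortExact → Module.Finite B S.X₂ → (S.map F).Exact)
    (h0 : ∀ m : Ideal B, m.IsMaximal → Limits.IsZero (F.obj (ModuleCat.of B (B ⧸ m))))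
    (M : ModuleCat.{u} B) (hM : Module.Finite B M) : Limits.IsZero (F.obj M) := by
  suffices key : ∀ I : Ideal B, ∀ (N : Type u) [AddCommGroup N] [Module B N], Module.Finite B N →
      (∀ b ∈ I, ∀ n : N, b • n = 0) → Limits.IsZero (F.obj (ModuleCat.of B N)) from
    key ⊥ M hM fun b hb n => by rw [Ideal.mem_bot.1 hb, zero_smul]
  intro I
  induction I using IsNoetherian.induction with
  | hgt I ih =>
    have hsub : ∀ (N : Type u) [AddCommGroup N] [Module B N], Subsingleton N → Limits.IsZero (F.obj (ModuleCat.of B N)) :=
      fun N _ _ _ => Functor.map_isZero F (ModuleCat.isZero_of_subsingleton _)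
    have hmid : ∀ (N₁ N₂ N₃ : ModuleCat.{u} B) (f : N₁ ⟶ N₂) (g : N₂ ⟶ N₃), Function.Injective f.hom →
        Function.Surjective g.hom → Function.Exact f.hom g.hom → Module.Finite B N₂ →
        ∀ z : F.obj N₂, (F.map g).hom z = 0 → ∃ y : F.obj N₁, (F.map f).hom y = z := by
      intro N₁ N₂ N₃ f g hf hg hfg hN z hz
      let S : ShortComplex (ModuleCat.{u} B) := ShortComplex.mk f g (ModuleCat.hom_ext (LinearMap.ext fun a => hfg.apply_apply_eq_zero a))
      have hS : S.ShortExact :=
        { exact := (ShortComplex.moduleCat_exact_iff _).2 fun a ha => (hfg a).1 ha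
          mono_f := (ModuleCat.mono_iff_injective _).2 hf
          epi_g := (ModuleCat.epi_iff_surjective _).2 hg }
      exact (ShortComplex.moduleCat_exact_iff _).1 (hex S hS hN) z hz
    intro N _ _ hN
    refine IsNoetherianRing.induction_on_isQuotientEquivQuotientPrime B (M := N) hN
      (motive := fun N _ _ _ => (∀ b ∈ I, ∀ n : N, b • n = 0) → Limits.IsZero (F.obj (ModuleCat.of B N))) ?_ ?_ ?_
    · intro N _ _ _ _ _
      exact hsub N inferInstance
    · intro N _ _ _ p e hI
      refine Limits.IsZero.of_iso ?_ (F.mapIso e.toModuleIso)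
      have hIp : I ≤ p.1 := fun b hb => by
        have := hI b hb (e.symm 1)
        rw [← map_smul, LinearEquiv.map_eq_zero_iff, Algebra.smul_def, mul_one] at this
        exact Ideal.Quotient.eq_zero_iff_mem.1 this
      rcases hIp.lt_or_eq with hlt | heq
      · exact ih _ hlt (B ⧸ p.1) inferInstance fun b hb n => by
          rw [Algebra.smul_def, Ideal.Quotient.algebraMap_eq, Ideal.Quotient.eq_zero_iff_mem.2 hb, zero_mul]
      by_cases hmax : p.1.IsMaximal
      · exact h0 _ hmax
      let Q := F.obj (ModuleCat.of B (B ⧸ p.1))
      have : Module.Finite B Q := hfg _ inferInstance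
      have hann : p.1 ≤ Module.annihilator B Q := fun b hb => Module.mem_annihilator.2 fun z => by
        have h : (b • 𝟙 (ModuleCat.of B (B ⧸ p.1)) : ModuleCat.of B (B ⧸ p.1) ⟶ _) = 0 :=
          ModuleCat.hom_ext (LinearMap.ext fun a => by
            change b • a = 0
            rw [Algebra.smul_def, Ideal.Quotient.algebraMap_eq, Ideal.Quotient.eq_zero_iff_mem.2 hb, zero_mul])
        have h2 := congrArg (fun t => (F.map t).hom z) h
        simpa using h2
      suffices Module.annihilator B Q = ⊤ by
        have : Subsingleton Q := subsingleton_iff.2 fun a b => by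
          have h1 : (1 : B) ∈ Module.annihilator B Q := this ▸ Submodule.mem_top
          rw [← one_smul B a, ← one_smul B b, Module.mem_annihilator.1 h1 a, Module.mem_annihilator.1 h1 b]
        exact ModuleCat.isZero_of_subsingleton _
      by_contra hne
      obtain ⟨m, hm, hle⟩ := Ideal.exists_le_maximal _ hne
      obtain ⟨x, hxm, hxp⟩ : ∃ x ∈ m, x ∉ p.1 := by
        by_contra! h
        exact hmax (le_antisymm (hann.trans hle) h ▸ hm)
      let R := B ⧸ (p.1 ⊔ Ideal.span {x})
      have hR : Limits.IsZero (F.obj (ModuleCat.of B R)) := by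
        refine ih (p.1 ⊔ Ideal.span {x}) ?_ R inferInstance fun b hb n => ?_
        · rw [heq]
          exact left_lt_sup.2 fun h => hxp (h (Ideal.mem_span_singleton_self x))
        · rw [Algebra.smul_def, Ideal.Quotient.algebraMap_eq, Ideal.Quotient.eq_zero_iff_mem.2 hb, zero_mul]
      have hsurj : ∀ z : Q, ∃ y : Q, x • y = z := fun z => by
        let f : ModuleCat.of B (B ⧸ p.1) ⟶ ModuleCat.of B (B ⧸ p.1) := x • 𝟙 _
        let g : ModuleCat.of B (B ⧸ p.1) ⟶ ModuleCat.of B R :=
          ModuleCat.ofHom (Submodule.factor (show p.1 ≤ p.1 ⊔ Ideal.span {x} from le_sup_left))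
        have hf : ∀ a, f.hom a = x • a := fun a => rfl
        have hne : (Ideal.Quotient.mk p.1 x) ≠ 0 := fun h => hxp (Ideal.Quotient.eq_zero_iff_mem.1 h)
        obtain ⟨y, hy⟩ := hmid _ _ _ f g (fun a b hab => by
            rw [hf, hf] at hab
            exact mul_left_cancel₀ hne (by simpa only [Algebra.smul_def, Ideal.Quotient.algebraMap_eq] using hab))
          (Submodule.factor_surjective (show p.1 ≤ p.1 ⊔ Ideal.span {x} from le_sup_left))
          (fun a => by
            constructor
            · intro ha
              obtain ⟨a, rfl⟩ := Ideal.Quotient.mk_surjective a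
              change Ideal.Quotient.mk (p.1 ⊔ Ideal.span {x}) a = 0 at ha
              obtain ⟨u, hu, v, hv, rfl⟩ := Submodule.mem_sup.1 (Ideal.Quotient.eq_zero_iff_mem.1 ha)
              obtain ⟨w, rfl⟩ := Ideal.mem_span_singleton'.1 hv
              refine ⟨Ideal.Quotient.mk p.1 w, ?_⟩
              rw [hf, Algebra.smul_def, Ideal.Quotient.algebraMap_eq, ← map_mul, map_add,
                Ideal.Quotient.eq_zero_iff_mem.2 hu, zero_add, mul_comm]
            · rintro ⟨b, rfl⟩
              obtain ⟨b, rfl⟩ := Ideal.Quotient.mk_surjective b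
              rw [hf]
              change Ideal.Quotient.mk (p.1 ⊔ Ideal.span {x}) (x * b) = 0
              exact Ideal.Quotient.eq_zero_iff_mem.2 (Ideal.mul_mem_right _ _ (Submodule.mem_sup_right (Ideal.mem_span_singleton_self x))))
          inferInstance z (by
            have h2 : ((F.map g).hom z) = 0 := by
              have := ModuleCat.subsingleton_of_isZero hR
              exact Subsingleton.elim _ _
            exact h2)
        exact ⟨y, by simpa [f] using hy⟩
      obtain ⟨r, hr, hr0⟩ := Submodule.exists_sub_one_mem_and_smul_eq_zero_of_fg_of_le_smul (Ideal.span {x})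
        (⊤ : Submodule B Q) Module.Finite.fg_top fun z _ => by
          obtain ⟨y, rfl⟩ := hsurj z
          exact Submodule.smul_mem_smul (Ideal.mem_span_singleton_self x) Submodule.mem_top
      have hrm : r ∈ m := hle (Module.mem_annihilator.2 fun z => hr0 z Submodule.mem_top)
      have h1 : r - 1 ∈ m := (Ideal.span_singleton_le_iff_mem m).2 hxm hr
      exact hm.ne_top ((Ideal.eq_top_iff_one m).2 (by simpa using sub_mem hrm h1))
    · intro N₁ _ _ _ N₂ _ _ _ N₃ _ _ _ f g hf hg hfg h1 h3 hI
      have z1 := h1 fun b hb n => hf (by rw [map_smul, hI b hb, map_zero])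
      have z3 := h3 fun b hb n => by
        obtain ⟨n, rfl⟩ := hg n
        rw [← map_smul, hI b hb, map_zero]
      have := ModuleCat.subsingleton_of_isZero z1
      have := ModuleCat.subsingleton_of_isZero z3
      have : Subsingleton (F.obj (ModuleCat.of B N₂)) := subsingleton_of_forall_eq 0 fun z => by
        obtain ⟨y, rfl⟩ := hmid (ModuleCat.of B N₁) (ModuleCat.of B N₂) (ModuleCat.of B N₃) (ModuleCat.ofHom f)
          (ModuleCat.ofHom g) hf hg hfg inferInstance z (Subsingleton.elim _ _)
        rw [Subsingleton.elim y 0, map_zero]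
      exact ModuleCat.isZero_of_subsingleton _

end Groth.Agent.S11461
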