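import Groth.Statements.S11462
import Groth.Agent.Lib.Hartogs3.Scheme

set_option autoImplicit false
universe u
open CategoryTheory AlgebraicGeometry Opposite
open DefT

namespace Groth.Agent.S11462

/-- Let C be a local Artin ring with maximal ideal m, A a Noetherian C-algebra flat over C such that
Spec(A/mA) is a normal scheme, and U ⊆ X = Spec A an open subset whose closed complement has
codimension ≥ 2, i.e. every prime of A not in U has height at least 2. Then the restriction map Γ(X,
O_X) → Γ(U, O_X) is bijective. (The published statement assumes only that A is flat over C with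
normal special fibre; this row also assumes A Noetherian: for a valuation ring of rank two over a
field, which is normal and flat, the functions on the complement of the closed point are not all
global.) -/
theorem result (C : Type u) [CommRing C]
    [IsLocalRing C] [IsArtinianRing C] (A : Type u) [CommRing A] [IsNoetherianRing A] [Algebra C A]
    [Module.Flat C A]
    (hnorm : Pi1.IsNormalScheme (Spec (CommRingCat.of (A ⧸ (IsLocalRing.maximalIdeal C).map (algebraMap C A)))))
    (U : (Spec (CommRingCat.of A)).Opens)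
    (hU : ∀ p : ↥(Spec (CommRingCat.of A)), p ∉ U → (2 : ℕ∞) ≤ p.asIdeal.height) :
    Function.Bijective ((Spec (CommRingCat.of A)).presheaf.map (homOfLE (le_top : U ≤ ⊤)).op) := by
  let π := Ideal.Quotient.mk ((IsLocalRing.maximalIdeal C).map (algebraMap C A))
  have hm : IsNilpotent (IsLocalRing.maximalIdeal C) := by
    rw [← IsLocalRing.jacobson_eq_maximalIdeal ⊥ bot_ne_top]; exact IsArtinianRing.isNilpotent_jacobson_bot
  have hπs : Function.Surjective π := Ideal.Quotient.mk_surjective
  have hnil : (IsLocalRing.maximalIdeal C).map (algebraMap C A) ≤ nilradical A := by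
    rw [Ideal.map_le_iff_le_comap]
    intro t ht
    obtain ⟨n, hn⟩ := hm
    exact ⟨n, by rw [← map_pow, show t ^ n = 0 from Ideal.mem_bot.1 (show t ^ n ∈ (⊥ : Ideal C) by rw [← Ideal.zero_eq_bot, ← hn]; exact Ideal.pow_mem_pow ht n), map_zero]; exact Submodule.zero_mem _⟩
  have hloc : ∀ (P : Ideal (A ⧸ (IsLocalRing.maximalIdeal C).map (algebraMap C A))) [P.IsPrime],
      IsDomain (Localization.AtPrime P) ∧ IsIntegrallyClosed (Localization.AtPrime P) := by
    intro P hP
    obtain ⟨h1, h2⟩ := hnorm ⟨P, hP⟩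
    let e := (Spec.stalkIso (CommRingCat.of (A ⧸ (IsLocalRing.maximalIdeal C).map (algebraMap C A))) ⟨P, hP⟩).commRingCatIsoToRingEquiv
    exact ⟨e.symm.toMulEquiv.isDomain, IsIntegrallyClosed.of_equiv e⟩
  obtain ⟨I, hI⟩ : ∃ I : Ideal A, (SetLike.coe U)ᶜ = PrimeSpectrum.zeroLocus (I : Set A) :=
    (PrimeSpectrum.isClosed_iff_zeroLocus_ideal _).1 U.isOpen.isClosed_compl
  have hI' : ∀ P : Ideal (A ⧸ (IsLocalRing.maximalIdeal C).map (algebraMap C A)), P.IsPrime →
      I.map π ≤ P → (2 : ℕ∞) ≤ P.height := by
    intro P hP hle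
    have hp : (⟨P.comap π, hP.comap π⟩ : PrimeSpectrum A) ∉ U := fun h => by
      have h' : (⟨P.comap π, hP.comap π⟩ : PrimeSpectrum A) ∈ PrimeSpectrum.zeroLocus (I : Set A) :=
        Ideal.map_le_iff_le_comap.1 hle
      rw [← hI] at h'
      exact h' h
    have h2 := hU _ hp
    let e := (Hartogs3.orderIso π hπs fun t ht => hnil (Ideal.Quotient.eq_zero_iff_mem.1 ht))
    haveI := hP
    haveI : (P.comap π).IsPrime := hP.comap π
    rw [show P.height = Order.height (⟨P, hP⟩ : PrimeSpectrum _) from PrimeSpectrum.height_eq_orderHeight ⟨P, hP⟩]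
    rw [PrimeSpectrum.height_eq_orderHeight] at h2
    rw [← Order.height_orderIso e ⟨P, hP⟩]
    exact h2
  obtain ⟨x0, hx0, y0, hy0, hreg, hpair⟩ := Hartogs3.exists_pair (I.map π) hloc hI'
  obtain ⟨x, hx, rfl⟩ := (Ideal.mem_map_iff_of_surjective π hπs).1 hx0
  obtain ⟨y, hy, rfl⟩ := (Ideal.mem_map_iff_of_surjective π hπs).1 hy0
  obtain ⟨hxr, hxy⟩ := Hartogs3.pair_of_pair_mod hm x y
    (fun a ha => by
      rw [← Ideal.Quotient.eq_zero_iff_mem] at ha ⊢
      exact hreg _ (by rw [← map_mul]; exact ha))
    (fun a ha => by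
      have key : ∀ b : A, b ∈ Ideal.span {x} ⊔ (IsLocalRing.maximalIdeal C).map (algebraMap C A) ↔ π x ∣ π b := by
        intro b
        rw [Ideal.mem_span_singleton_sup]
        constructor
        · rintro ⟨c, w, hw, rfl⟩
          refine ⟨π c, ?_⟩
          rw [map_add, map_mul, mul_comm, Ideal.Quotient.eq_zero_iff_mem.2 hw, add_zero]
        · rintro ⟨c, hc⟩
          obtain ⟨c, rfl⟩ := hπs c
          exact ⟨c, b - c * x, by rw [← Ideal.Quotient.eq_zero_iff_mem, map_sub, map_mul, mul_comm, ← hc, sub_self],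
            add_sub_cancel _ _⟩
      rw [key] at ha ⊢
      exact hpair _ (by rw [← map_mul]; exact ha))
  have hDle : ∀ t ∈ I, PrimeSpectrum.basicOpen t ≤ U := fun t ht p hp => by
    by_contra h
    have : p ∈ PrimeSpectrum.zeroLocus (I : Set A) := by rw [← hI]; exact h
    exact hp (this ht)
  exact Hartogs3.bijective_res U x y (hDle x hx) (hDle y hy) hxr hxy

end Groth.Agent.S11462
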