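import Groth.Statements.S11463
import Groth.Agent.Lib.HilbSm18.Dim
import Groth.Agent.Lib.FinAffine12.Proj
import Groth.Agent.Lib.ProjSpace.BaseChange
import Groth.Agent.Lib.ProjSpace.Basic
import Groth.Agent.Lib.RegExt.P1
import Groth.Agent.S10829
-- import your own Groth.Agent.* helpers here

set_option autoImplicit false
universe u
open CategoryTheory AlgebraicGeometry
open DefT

namespace Groth.Agent.S11463

/-- For k algebraically closed and every n > 0, the Hilbert scheme Hilb^n(P²_k) of zero-dimensional
closed subschemes of length n of the projective plane is irreducible: any k-scheme H representing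
the functor Hilb^n of P²_k over Spec k (with universal family Z) has irreducible underlying space. -/
theorem result (k : Type u) [Field k] [IsAlgClosed k]
    (n : ℕ) (hn : 0 < n) (H : Over (Spec (CommRingCat.of k)))
    (Z : HilbD.Obj (CohB1.ProjSpace.toSpec 2 k) n H)
    (hH : HilbD.IsUniversal (CohB1.ProjSpace.toSpec 2 k) n H Z) :
    IrreducibleSpace H.left := by
  haveI := Groth.Agent.RegExt.isIntegral_projSpace 2 k
  haveI : IsImmersion (𝟙 (Proj (CohB1.polyGrading 2 k))) := MorphismProperty.id_mem @IsImmersion _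
  haveI : ConnectedSpace (CohB1.ProjSpace 2 k) := inferInstance
  haveI : IsProper (CohB1.ProjSpace.toSpec 2 k) := inferInstance
  haveI : SmoothOfRelativeDimension 2 (CohB1.ProjSpace.toSpec 2 k) :=
    Groth.Agent.ProjSpace.smoothOfRelativeDimension_toSpec 2 k
  haveI : Smooth (CohB1.ProjSpace.toSpec 2 k) := SmoothOfRelativeDimension.smooth 2 _
  have hdim := Groth.Agent.S10829.result k 2
  obtain ⟨-, hd⟩ := Groth.Agent.HilbSm18.irreducible_and_dim (CohB1.ProjSpace.toSpec 2 k) (d := 2) hdim
  have hfin : ∀ E : Set ↥(CohB1.ProjSpace 2 k), E.Finite →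
      ∃ U : (CohB1.ProjSpace 2 k).Opens, IsAffineOpen U ∧ E ⊆ U :=
    fun E hE => Groth.Agent.FinAffine12.exists_affineOpen_of_finite_proj
      (X := Proj (CohB1.polyGrading 2 k)) (CohB1.polyGrading 2 k) (𝟙 (Proj (CohB1.polyGrading 2 k))) E hE
  obtain ⟨-, -, h3, -⟩ := Groth.Agent.HilbSm18.hilb_surface (CohB1.ProjSpace.toSpec 2 k)
    (fun y hy => (hd y hy).trans (by norm_num))
    hfin
    (Groth.Agent.HilbSm18.exists_closed_notMem (CohB1.ProjSpace.toSpec 2 k) hdim) hH
  exact h3


end Groth.Agent.S11463
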