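import Groth.Statements.S11464
import Groth.Agent.Lib.EmbDef.Statement

set_option autoImplicit false
universe u
open scoped TensorProduct
open DefT

namespace Groth.Agent.S11464

/-- Let C' be a local Artin ring, J ⊊ C' a proper ideal annihilated by the maximal ideal, C = C'/J, A' a
flat C'-algebra, A = A'/JA', I ⊆ A an ideal with B = A/I flat over C, and I', I'' ⊆ A' two ideals
with C'-flat quotients both reducing to I. Then there is a unique A'-linear φ : I → B ⊗_{C'} J (=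
Hom_A(I, J ⊗_C B)) such that for all x ∈ I, all lifts x' ∈ I' and x'' ∈ I'' of x, and every z ∈ A'
⊗_{C'} J mapping to x'' − x' under multiplication, the image of z in B ⊗_{C'} J is φ(x). With the
existence half this makes the set of such ideals a pseudotorsor under Hom_A(I, J ⊗_C B). -/
theorem result (C' : Type u) [CommRing C'] [IsLocalRing C'] [IsArtinianRing C'] (J : Ideal C')
    (hJ : IsLocalRing.maximalIdeal C' * J = ⊥) (hJne : J ≠ ⊤) (A' : Type u) [CommRing A'] [Algebra C' A'] [Module.Flat C' A']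
    (I : Ideal (A' ⧸ J.map (algebraMap C' A')))
    [Module.Flat (C' ⧸ J) ((A' ⧸ J.map (algebraMap C' A')) ⧸ I)]
    (I' I'' : Ideal A') [Module.Flat C' (A' ⧸ I')] [Module.Flat C' (A' ⧸ I'')]
    (hI' : I'.map (Ideal.Quotient.mk (J.map (algebraMap C' A'))) = I)
    (hI'' : I''.map (Ideal.Quotient.mk (J.map (algebraMap C' A'))) = I) :
    ∃! φ : ↥I →ₗ[A'] (((A' ⧸ J.map (algebraMap C' A')) ⧸ I) ⊗[C'] ↥J),
      (∀ (x : (A' ⧸ J.map (algebraMap C' A'))) (hx : x ∈ I) (x' x'' : A'), x' ∈ I' → x'' ∈ I'' →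
          Ideal.Quotient.mk (J.map (algebraMap C' A')) x' = x → Ideal.Quotient.mk (J.map (algebraMap C' A')) x'' = x →
          ∀ z : A' ⊗[C'] ↥J, TensorProduct.rid C' A' (LinearMap.lTensor A' (Submodule.subtype J) z) = x'' - x' →
            LinearMap.rTensor ↥J (IsScalarTower.toAlgHom C' A' ((A' ⧸ J.map (algebraMap C' A')) ⧸ I)).toLinearMap z = φ ⟨x, hx⟩) := by
  obtain ⟨χ, ⟨h0, hd⟩, huniq⟩ := EmbDef.existsUnique_diff ((EmbDef.lifts_iff I I').1 hI') ((EmbDef.lifts_iff I I'').1 hI'')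
  obtain ⟨φ, hφ⟩ := EmbDef.exists_factor I χ h0
  refine ⟨φ, (EmbDef.cond_iff I hI' hI'' φ).2 (hφ ▸ hd), fun φ' hφ' => LinearMap.ext fun x => ?_⟩
  obtain ⟨k, rfl⟩ := EmbDef.redI_surjective I x
  have h' := huniq (φ' ∘ₗ EmbDef.redI I) ⟨fun k hk => by
    have : EmbDef.redI I k = 0 := Subtype.ext (Ideal.Quotient.eq_zero_iff_mem.2 hk)
    rw [LinearMap.comp_apply, this, map_zero], (EmbDef.cond_iff I hI' hI'' φ').1 hφ'⟩
  exact LinearMap.congr_fun (h'.trans hφ.symm) k

end Groth.Agent.S11464
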