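import Groth.Statements.S11466
import Mathlib.RingTheory.Filtration
import Mathlib.RingTheory.HopkinsLevitzki
import Mathlib.RingTheory.Nakayama
import Mathlib.Algebra.Module.SpanRank
import Mathlib.RingTheory.LocalRing.RingHom.Basic
import Mathlib.LinearAlgebra.Dimension.Free
import Mathlib.LinearAlgebra.FreeModule.Finite.Basic
import Mathlib.RingTheory.Artinian.Module
import Mathlib.Tactic.LinearCombination

set_option autoImplicit false
universe u
open DefT

namespace Groth.Agent.S11466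

/-- Let P be a regular local k-algebra with residue field k, I ⊆ m_P² an ideal, and A = P/I. If A has an
obstruction theory whose obstruction space is a finite-dimensional k-vector space V (obstructions in
V ⊗ J attached to k-algebra maps A → C'/J for small extensions 0 → J → C' → C'/J → 0 of local
Artinian k-algebras with residue field k, vanishing exactly when the map lifts to C', and compatible
with passing to C'/K for ideals K ≤ J), then I is generated by at most dim_k V elements. (The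
published statement gives a natural injection of the dual of I/m_P·I into V; this row asserts the
resulting bound on the number of generators.) -/
theorem result (k : Type u) [Field k] (P : Type u) [CommRing P]
    [IsRegularLocalRing P] [Algebra k P]
    (hres : Function.Surjective (algebraMap k (IsLocalRing.ResidueField P)))
    (I : Ideal P) (hI : I ≤ IsLocalRing.maximalIdeal P ^ 2)
    (V : Type u) [AddCommGroup V] [Module k V] [Module.Finite k V]
    (T : W4bk4hartshdef114.ObsTheory k (P ⧸ I) V) :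
    I.spanFinrank ≤ Module.finrank k V := by
  classical
  set m := IsLocalRing.maximalIdeal P
  obtain ⟨N₀, hN₀⟩ := Ideal.exists_pow_inf_eq_pow_smul (M := P) m I
  set N := N₀ + 1
  have hAR : m ^ N ⊓ I ≤ m * I := by
    have := hN₀ N (Nat.le_succ _)
    simp only [smul_eq_mul, Ideal.mul_top] at this
    rw [this, show N - N₀ = 1 by omega, pow_one]
    exact Ideal.mul_mono_right inf_le_right
  have hIm : I ≤ m := hI.trans (Ideal.pow_le_self two_ne_zero)
  set L : Ideal P := m * I ⊔ m ^ N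
  have hLm : L ≤ m := sup_le (Ideal.mul_le_right.trans hIm) (Ideal.pow_le_self (Nat.succ_ne_zero _))
  have : Nontrivial (P ⧸ L) := Ideal.Quotient.nontrivial_iff.2
    (ne_top_of_le_ne_top (IsLocalRing.maximalIdeal.isMaximal P).ne_top hLm)
  have : IsLocalRing (P ⧸ L) := IsLocalRing.of_surjective' (Ideal.Quotient.mk L) Ideal.Quotient.mk_surjective
  have hmap : IsLocalRing.maximalIdeal (P ⧸ L) = m.map (Ideal.Quotient.mk L) := by
    refine (IsLocalRing.eq_maximalIdeal ?_).symm
    exact (Ideal.map_eq_top_or_isMaximal_of_surjective _ Ideal.Quotient.mk_surjective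
      (IsLocalRing.maximalIdeal.isMaximal P)).resolve_left fun e => by
        have := congrArg (Ideal.comap (Ideal.Quotient.mk L)) e
        rw [Ideal.comap_map_of_surjective _ Ideal.Quotient.mk_surjective, ← RingHom.ker_eq_comap_bot,
          Ideal.mk_ker, sup_eq_left.2 hLm, Ideal.comap_top] at this
        exact (IsLocalRing.maximalIdeal.isMaximal P).ne_top this
  have : IsArtinianRing (P ⧸ L) := (isArtinianRing_iff_isNilpotent_maximalIdeal _).2 ⟨N, by
    rw [hmap, ← Ideal.map_pow, Ideal.zero_eq_bot, eq_bot_iff, Ideal.map_le_iff_le_comap, ← RingHom.ker_eq_comap_bot,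
      Ideal.mk_ker]
    exact le_sup_right⟩
  have hnu : ∀ p : P, Ideal.Quotient.mk L p ∈ nonunits (P ⧸ L) → p ∈ m := fun p hp => by
    by_contra h
    exact hp ((IsLocalRing.notMem_maximalIdeal.1 h).map _)
  set J : Ideal (P ⧸ L) := I.map (Ideal.Quotient.mk L)
  have hJm : J ≤ IsLocalRing.maximalIdeal (P ⧸ L) := hmap ▸ Ideal.map_mono hIm
  have hmJ : IsLocalRing.maximalIdeal (P ⧸ L) * J = ⊥ := by
    rw [hmap, ← Ideal.map_mul, Ideal.map_eq_bot_iff_le_ker, Ideal.mk_ker]
    exact le_sup_left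
  have hsmall : W4bk4hartshdef114.IsSmallExt k (P ⧸ L) J := by
    refine ⟨inferInstance, inferInstance, fun x => ?_, fun x j hx hj => ?_, fun e => ?_⟩
    · obtain ⟨p, rfl⟩ := Ideal.Quotient.mk_surjective x
      obtain ⟨c, hc⟩ := hres (IsLocalRing.residue P p)
      refine ⟨c, (IsLocalRing.mem_maximalIdeal _).1 (hmap ▸ ?_)⟩
      change Ideal.Quotient.mk L p - Ideal.Quotient.mk L (algebraMap k P c) ∈ _
      rw [← map_sub]
      refine Ideal.mem_map_of_mem _ (Ideal.Quotient.eq_zero_iff_mem.1 ?_)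
      change IsLocalRing.residue P (p - algebraMap k P c) = 0
      rw [map_sub, ← hc, sub_eq_zero]
      rfl
    · have := Ideal.mul_mem_mul ((IsLocalRing.mem_maximalIdeal x).2 hx) hj
      rwa [hmJ] at this
    · exact (IsLocalRing.maximalIdeal.isMaximal (P ⧸ L)).ne_top (top_le_iff.1 (e ▸ hJm))
  let u : (P ⧸ I) →ₐ[k] (P ⧸ L) ⧸ J :=
    Ideal.Quotient.liftₐ I ((Ideal.Quotient.mkₐ k J).comp (Ideal.Quotient.mkₐ k L)) fun a ha =>
      Ideal.Quotient.eq_zero_iff_mem.2 (Ideal.mem_map_of_mem _ ha)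
  set o := T.obs (P ⧸ L) J u
  let b := Module.finBasis k V
  let w : Fin (Module.finrank k V) → J := fun i => TensorProduct.lid k J ((b.coord i).rTensor J o)
  have ho : o = ∑ i, b i ⊗ₜ[k] w i := by
    simp only [w]
    clear_value o
    induction o using TensorProduct.induction_on with
    | zero => simp
    | tmul v j =>
      simp only [LinearMap.rTensor_tmul, TensorProduct.lid_tmul, ← TensorProduct.smul_tmul]
      rw [← TensorProduct.sum_tmul]
      exact congrArg (· ⊗ₜ[k] j) (b.sum_repr v).symm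
    | add y z hy hz =>
      simp only [map_add, TensorProduct.tmul_add, Finset.sum_add_distrib]
      rw [← hy, ← hz]
  choose l hlI hl using fun i => (Ideal.mem_map_iff_of_surjective _ Ideal.Quotient.mk_surjective).1 (w i).2
  let K : Ideal (P ⧸ L) := (Ideal.span (Set.range l)).map (Ideal.Quotient.mk L)
  have hlI' : Ideal.span (Set.range l) ≤ I := Ideal.span_le.2 (by rintro _ ⟨i, rfl⟩; exact hlI i)
  have hKJ : K ≤ J := Ideal.map_mono hlI'
  have hKm : K ≤ IsLocalRing.maximalIdeal (P ⧸ L) := hKJ.trans hJm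
  have h0 : LinearMap.lTensor V (W4bk4hartshdef114.idealToQuot k J K) o = 0 := by
    rw [ho, map_sum]
    refine Finset.sum_eq_zero fun i _ => ?_
    rw [LinearMap.lTensor_tmul]
    have : W4bk4hartshdef114.idealToQuot k J K (w i) = 0 := Subtype.ext (Ideal.Quotient.eq_zero_iff_mem.2
      (hl i ▸ Ideal.mem_map_of_mem _ (Ideal.subset_span ⟨i, rfl⟩)))
    rw [this, TensorProduct.tmul_zero]
  have hz := T.obs_quot (P ⧸ L) J K hsmall hKJ u
  rw [h0] at hz
  have : Nontrivial ((P ⧸ L) ⧸ K) := Ideal.Quotient.nontrivial_iff.2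
    (ne_top_of_le_ne_top (IsLocalRing.maximalIdeal.isMaximal _).ne_top hKm)
  have : IsLocalRing ((P ⧸ L) ⧸ K) := IsLocalRing.of_surjective' (Ideal.Quotient.mk K) Ideal.Quotient.mk_surjective
  have hnuK : ∀ z : P ⧸ L, Ideal.Quotient.mk K z ∈ nonunits ((P ⧸ L) ⧸ K) → z ∈ IsLocalRing.maximalIdeal (P ⧸ L) :=
    fun z hz => (IsLocalRing.mem_maximalIdeal z).2 fun h => hz (h.map _)
  set J' : Ideal ((P ⧸ L) ⧸ K) := J.map (Ideal.Quotient.mkₐ k K)
  have hmemJ' : ∀ z : P ⧸ L, Ideal.Quotient.mk K z ∈ J' → z ∈ J := fun z hz => by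
    obtain ⟨j, hj, e⟩ := (Ideal.mem_map_iff_of_surjective _ Ideal.Quotient.mk_surjective).1 hz
    have h2 : j - z ∈ K := Ideal.Quotient.eq.1 e
    simpa using sub_mem hj (hKJ h2)
  have hkill : ∀ x j : (P ⧸ L) ⧸ K, x ∈ nonunits _ → j ∈ J' → x * j = 0 := fun x j hx hj => by
    obtain ⟨x, rfl⟩ := Ideal.Quotient.mk_surjective x
    obtain ⟨j, hj', rfl⟩ := (Ideal.mem_map_iff_of_surjective _ Ideal.Quotient.mk_surjective).1 hj
    have h2 := Ideal.mul_mem_mul (hnuK x hx) hj'
    rw [hmJ, Ideal.mem_bot] at h2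
    change Ideal.Quotient.mk K x * Ideal.Quotient.mk K j = 0
    rw [← map_mul, h2, map_zero]
  have hsmall' : W4bk4hartshdef114.IsSmallExt k ((P ⧸ L) ⧸ K) J' := by
    refine ⟨inferInstance, inferInstance, fun x => ?_, hkill, fun e => ?_⟩
    · obtain ⟨x, rfl⟩ := Ideal.Quotient.mk_surjective x
      obtain ⟨c, hc⟩ := hsmall.2.2.1 x
      refine ⟨c, fun h => hc ?_⟩
      change IsUnit (Ideal.Quotient.mk K x - Ideal.Quotient.mk K (algebraMap k (P ⧸ L) c)) at h
      rw [← map_sub] at h
      by_contra hu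
      have h2 : Ideal.Quotient.mk K (x - algebraMap k (P ⧸ L) c) ∈ IsLocalRing.maximalIdeal _ := by
        rw [← IsLocalRing.map_maximalIdeal_of_surjective (Ideal.Quotient.mk K) Ideal.Quotient.mk_surjective]
        exact Ideal.mem_map_of_mem _ ((IsLocalRing.mem_maximalIdeal _).2 hu)
      exact (IsLocalRing.mem_maximalIdeal _).1 h2 h
    · exact hsmall.2.2.2.2 ((Ideal.eq_top_iff_one _).2 (hmemJ' 1 (by rw [e]; exact Submodule.mem_top)))
  obtain ⟨v, hv⟩ := (T.obs_eq_zero_iff _ J' hsmall' _).1 hz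
  let π : P →ₐ[k] (P ⧸ L) ⧸ K := (Ideal.Quotient.mkₐ k K).comp (Ideal.Quotient.mkₐ k L)
  let ψ : P →ₐ[k] (P ⧸ L) ⧸ K := v.comp (Ideal.Quotient.mkₐ k I)
  have hd : ∀ x, ψ x - π x ∈ J' := fun x => by
    have h1 := AlgHom.congr_fun hv (Ideal.Quotient.mk I x)
    refine Ideal.Quotient.eq_zero_iff_mem.1 ?_
    rw [map_sub, sub_eq_zero]
    exact h1
  have hπm : ∀ x ∈ m, π x ∈ nonunits ((P ⧸ L) ⧸ K) := fun x hx h => by
    have h3 : Ideal.Quotient.mk K (Ideal.Quotient.mk L x) ∈ IsLocalRing.maximalIdeal _ := by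
      rw [← IsLocalRing.map_maximalIdeal_of_surjective (Ideal.Quotient.mk K) Ideal.Quotient.mk_surjective]
      exact Ideal.mem_map_of_mem _ (hmap ▸ Ideal.mem_map_of_mem _ hx)
    exact (IsLocalRing.mem_maximalIdeal _).1 h3 h
  have hJnu : ∀ z ∈ J', z ∈ nonunits ((P ⧸ L) ⧸ K) := fun z hz h =>
    hsmall'.2.2.2.2 (Ideal.eq_top_of_isUnit_mem _ hz h)
  have hm2 : ∀ x ∈ m ^ 2, ψ x = π x := fun x hx => by
    rw [pow_two] at hx
    refine Submodule.mul_induction_on hx (fun a ha c hc => ?_) fun a c ha hc => by rw [map_add, map_add, ha, hc]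
    have h1 := hkill _ _ (hπm a ha) (hd c)
    have h2 := hkill _ _ (hπm c hc) (hd a)
    have h3 := hkill _ _ (hJnu _ (hd a)) (hd c)
    rw [map_mul, map_mul]
    linear_combination h1 + h2 + h3
  have hIK : ∀ x ∈ I, Ideal.Quotient.mk L x ∈ K := fun x hx => by
    refine Ideal.Quotient.eq_zero_iff_mem.1 ?_
    change π x = 0
    rw [← hm2 x (hI hx)]
    change v (Ideal.Quotient.mk I x) = 0
    rw [Ideal.Quotient.eq_zero_iff_mem.2 hx, map_zero]
  have hle : I ≤ Ideal.span (Set.range l) ⊔ m • I := fun x hx => by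
    obtain ⟨s, hs, t, ht, rfl⟩ := Submodule.mem_sup.1 (Ideal.mem_quotient_iff_mem_sup.1 (hIK x hx))
    obtain ⟨t₁, ht₁, t₂, ht₂, rfl⟩ := Submodule.mem_sup.1 ht
    refine Submodule.add_mem_sup hs (add_mem ht₁ (hAR ⟨ht₂, ?_⟩))
    have h1 : t₁ ∈ I := Ideal.mul_le_right ht₁
    have h2 := (Submodule.add_mem_iff_right I (hlI' hs)).1 hx
    exact (Submodule.add_mem_iff_right I h1).1 h2
  have heq : I = Ideal.span (Set.range l) :=
    le_antisymm (Submodule.le_of_le_smul_of_le_jacobson_bot (IsNoetherian.noetherian I)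
      (IsLocalRing.maximalIdeal_le_jacobson _) hle) hlI'
  rw [heq]
  refine (Submodule.spanFinrank_span_le_ncard_of_finite (Set.finite_range l)).trans ?_
  rw [← Set.image_univ]
  exact (Set.ncard_image_le (Set.finite_univ)).trans (by simp)

end Groth.Agent.S11466
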