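import Groth.Statements.S11469
import Groth.Agent.Lib.EmbDef.Basic

set_option autoImplicit false
universe u
open scoped TensorProduct
open DefT

namespace Groth.Agent.S11469

/-- Let C' be a local Artin ring with maximal ideal m, J ⊊ C' a proper ideal with mJ = 0, A' a
C'-algebra, M' an A'-module flat over C', and M₀ = M'/mM'. Then (1) every A'-linear endomorphism σ
of M' that is the identity modulo JM' is bijective, and there is exactly one A'-linear τ : M₀ → M₀
⊗_{C'} J such that, for all x ∈ M' and all z ∈ M' ⊗_{C'} J mapping to σ(x) − x in M', the image of z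
in M₀ ⊗_{C'} J is τ applied to the class of x; and (2) every A'-linear τ : M₀ → M₀ ⊗_{C'} J comes in
this way from some such σ. Thus the automorphisms of the extension M' inducing the identity on
M'/JM' correspond to Hom(M₀, M₀ ⊗ J). -/
theorem result (C' : Type u) [CommRing C'] [IsLocalRing C']
    [IsArtinianRing C'] (J : Ideal C') (hJ : IsLocalRing.maximalIdeal C' * J = ⊥) (hJne : J ≠ ⊤)
    (A' : Type u) [CommRing A'] [Algebra C' A'] (M' : Type u) [AddCommGroup M'] [Module A' M'] [Module C' M']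
    [IsScalarTower C' A' M'] [Module.Flat C' M'] :
    (∀ σ : M' →ₗ[A'] M', (∀ x : M', σ x - x ∈ (J.map (algebraMap C' A')) • (⊤ : Submodule A' M')) →
      Function.Bijective σ ∧
        ∃! τ : (M' ⧸ ((IsLocalRing.maximalIdeal C').map (algebraMap C' A')) • (⊤ : Submodule A' M')) →ₗ[A'] ((M' ⧸ ((IsLocalRing.maximalIdeal C').map (algebraMap C' A')) • (⊤ : Submodule A' M')) ⊗[C'] ↥J),
          (∀ (x : M') (z : M' ⊗[C'] ↥J), TensorProduct.rid C' M' (LinearMap.lTensor M' (Submodule.subtype J) z) = σ x - x →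
            LinearMap.rTensor ↥J ((Submodule.mkQ (((IsLocalRing.maximalIdeal C').map (algebraMap C' A')) • (⊤ : Submodule A' M'))).restrictScalars C') z =
              τ (Submodule.mkQ _ x))) ∧
    (∀ τ : (M' ⧸ ((IsLocalRing.maximalIdeal C').map (algebraMap C' A')) • (⊤ : Submodule A' M')) →ₗ[A'] ((M' ⧸ ((IsLocalRing.maximalIdeal C').map (algebraMap C' A')) • (⊤ : Submodule A' M')) ⊗[C'] ↥J),
      ∃ σ : M' →ₗ[A'] M', (∀ x : M', σ x - x ∈ (J.map (algebraMap C' A')) • (⊤ : Submodule A' M')) ∧
          (∀ (x : M') (z : M' ⊗[C'] ↥J), TensorProduct.rid C' M' (LinearMap.lTensor M' (Submodule.subtype J) z) = σ x - x →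
            LinearMap.rTensor ↥J ((Submodule.mkQ (((IsLocalRing.maximalIdeal C').map (algebraMap C' A')) • (⊤ : Submodule A' M'))).restrictScalars C') z =
              τ (Submodule.mkQ _ x))) := by
  set m := IsLocalRing.maximalIdeal C'
  set JA := J.map (algebraMap C' A')
  set mA := m.map (algebraMap C' A')
  set P := mA • (⊤ : Submodule A' M')
  set JM := JA • (⊤ : Submodule A' M')
  have hJm : J ≤ m := IsLocalRing.le_maximalIdeal hJne
  have hkill : mA * JA = ⊥ := by rw [← Ideal.map_mul, hJ, Ideal.map_bot]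
  have hJMP : JM ≤ P := Submodule.smul_mono_left (Ideal.map_mono hJm)
  let θ := EmbDef.theta (A := A') M' J
  have hθi : Function.Injective θ := EmbDef.theta_injective M' J
  have hθr : LinearMap.range θ = JM := Submodule.ext fun x => EmbDef.mem_range_theta M' J x
  let ψ : (M' ⊗[C'] J) →ₗ[A'] ((M' ⧸ P) ⊗[C'] J) := TensorProduct.AlgebraTensorModule.rTensor C' J P.mkQ
  have hψ : ∀ z, LinearMap.rTensor J (P.mkQ.restrictScalars C') z = ψ z := fun z => rfl
  have hψb : Function.Bijective ψ := EmbDef.rTensor_mkQ_bijective M' J m hJ P rfl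
  let eψ := LinearEquiv.ofBijective ψ hψb
  let eθ := LinearEquiv.ofInjective θ hθi
  refine ⟨fun σ hσ => ?_, fun τ => ?_⟩
  · set δ : M' →ₗ[A'] M' := σ - LinearMap.id
    have hδm : ∀ x, δ x ∈ JM := fun x => hσ x
    have hP0 : ∀ x ∈ P, δ x = 0 := fun x hx => by
      refine Submodule.smul_induction_on hx (fun a ha y _ => ?_) fun y z hy hz => by rw [map_add, hy, hz, add_zero]
      rw [map_smul, ← Submodule.mem_bot A']
      have := Submodule.smul_mem_smul ha (hδm y)
      rwa [← Submodule.mul_smul, hkill, Submodule.bot_smul] at this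
    have h2 : ∀ x, δ (δ x) = 0 := fun x => hP0 _ (hJMP (hδm x))
    have hσe : ∀ x, σ x = x + δ x := fun x => (add_sub_cancel x (σ x)).symm
    refine ⟨⟨fun a b hab => ?_, fun y => ⟨y - δ y, by rw [hσe, map_sub, h2, sub_zero, sub_add_cancel]⟩⟩, ?_⟩
    · have h1 : σ (a - b) = 0 := by rw [map_sub, hab, sub_self]
      rw [hσe] at h1
      have : δ (a - b) = 0 := by
        have := congrArg δ h1
        rwa [map_add, h2, add_zero, map_zero] at this
      rwa [this, add_zero, sub_eq_zero] at h1
    let D : M' →ₗ[A'] M' ⊗[C'] J := eθ.symm.toLinearMap ∘ₗ δ.codRestrict (LinearMap.range θ) (fun x => hθr ▸ hδm x)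
    have hD : ∀ x, θ (D x) = δ x := fun x => congrArg Subtype.val (eθ.apply_symm_apply _)
    let T : (M' ⧸ P) →ₗ[A'] (M' ⧸ P) ⊗[C'] J := P.liftQ (ψ ∘ₗ D) fun x hx => by
      rw [LinearMap.mem_ker, LinearMap.comp_apply]
      have : D x = 0 := hθi (by rw [hD, hP0 x hx, map_zero])
      rw [this, map_zero]
    refine ⟨T, fun x z hz => ?_, fun τ hτ => ?_⟩
    · have : z = D x := hθi (by rw [hD, EmbDef.theta_eq_rid, hz]; rfl)
      rw [hψ, this]
      rfl
    · refine Submodule.linearMap_qext _ (LinearMap.ext fun x => ?_)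
      have := hτ x (D x) (by rw [← EmbDef.theta_eq_rid (A := A')]; exact hD x)
      rw [hψ] at this
      exact this.symm
  · refine ⟨LinearMap.id + θ ∘ₗ eψ.symm.toLinearMap ∘ₗ τ ∘ₗ P.mkQ, fun x => ?_, fun x z hz => ?_⟩
    · rw [LinearMap.add_apply, LinearMap.id_apply, add_sub_cancel_left]
      exact hθr ▸ LinearMap.mem_range_self θ _
    · rw [LinearMap.add_apply, LinearMap.id_apply, add_sub_cancel_left, ← EmbDef.theta_eq_rid (A := A')] at hz
      rw [hψ, hθi hz]
      exact eψ.apply_symm_apply _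

end Groth.Agent.S11469
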