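import Groth.Statements.S1147
import Groth.Agent.S9432
import Groth.Agent.S7547
import Mathlib.RingTheory.Spectrum.Prime.Jacobson
import Mathlib.RingTheory.Ideal.GoingDown


set_option autoImplicit false
universe u
open Desc

namespace Groth.Agent.S1147

/-- Let A → B be a faithfully flat ring map of finite presentation. If B is a Jacobson ring then so is
A. (This is the affine descent direction of the statement that the Jacobson property is fppf local.) -/
theorem result (A B : Type u) [CommRing A] [CommRing B] [Algebra A B]
    [Module.FaithfullyFlat A B] [Algebra.FinitePresentation A B] [IsJacobsonRing B] : IsJacobsonRing A := by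
  obtain ⟨C, _, _, hqf, hft, hff, -, ⟨φ⟩⟩ := Groth.Agent.S9432.result A B
  have : Module.FaithfullyFlat A C := hff
  have : Algebra.QuasiFinite A C := hqf
  algebraize [φ.toRingHom]
  have : IsScalarTower A B C := IsScalarTower.of_algHom φ
  have : Algebra.FiniteType B C := Algebra.FiniteType.of_restrictScalars_finiteType A B C
  have : IsJacobsonRing C := isJacobsonRing_of_finiteType (A := B)
  have hC := PrimeSpectrum.isJacobsonRing_iff_jacobsonSpace.mp ‹IsJacobsonRing C›
  rw [PrimeSpectrum.isJacobsonRing_iff_jacobsonSpace]
  by_contra hA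
  obtain ⟨x, hx, hlc⟩ :=
    Groth.Agent.S7547.result (X := PrimeSpectrum A) hA
  let g := PrimeSpectrum.comap (algebraMap A C)
  have hclosed : ∀ q, g q = x → IsClosed ({q} : Set (PrimeSpectrum C)) := by
    intro q hq
    refine isClosed_singleton_of_isLocallyClosed_singleton ?_
    have e : ({q} : Set (PrimeSpectrum C)) =
        g ⁻¹' {x} ∩ PrimeSpectrum.zeroLocus (q.asIdeal : Set C) := by
      ext q'
      refine ⟨fun h => ?_, fun ⟨h1, h2⟩ => ?_⟩
      · rw [Set.mem_singleton_iff] at h
        subst h
        exact ⟨hq, (PrimeSpectrum.mem_zeroLocus _ _).2 fun _ h => h⟩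
      · refine PrimeSpectrum.ext (Algebra.QuasiFinite.eq_of_le_of_under_eq (R := A) q.asIdeal
          q'.asIdeal h2 ?_).symm
        exact congrArg PrimeSpectrum.asIdeal (hq.trans (Set.mem_singleton_iff.1 h1).symm)
    rw [e]
    exact (hlc.preimage (PrimeSpectrum.continuous_comap _)).inter (PrimeSpectrum.isClosed_zeroLocus _).isLocallyClosed
  refine hx (isClosed_of_closure_subset fun y hy => ?_)
  obtain ⟨Q, hQ⟩ := PrimeSpectrum.comap_surjective_of_faithfullyFlat (A := A) (B := C) y
  have hgen : GeneralizingMap g :=
    Algebra.HasGoingDown.iff_generalizingMap_primeSpectrumComap.1 inferInstance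
  obtain ⟨q, hqQ, hq⟩ := hgen (a := Q) (b := x)
    (by rw [show g Q = y from hQ]; exact specializes_iff_mem_closure.2 hy)
  have hQq : Q = q := by
    have h := specializes_iff_mem_closure.1 hqQ
    rwa [(hclosed q hq).closure_eq] at h
  rw [Set.mem_singleton_iff, ← hQ]
  exact (congrArg g hQq).trans hq


end Groth.Agent.S1147
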