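import Groth.Statements.S11470
-- import your own Groth.Agent.* helpers here

set_option autoImplicit false
set_option maxHeartbeats 400000
universe u
open Curves

namespace Groth.Agent.S11470

open Polynomial

section Gen

variable {K : Type*} [Field K]

/-- The j-function of the lambda line. -/
def jf (x : K) : K := 256 * (x ^ 2 - x + 1) ^ 3 / (x ^ 2 * (x - 1) ^ 2)

theorem jf_inv (x : K) (h0 : x ≠ 0) : jf x⁻¹ = jf x := by
  have e1 : x⁻¹ ^ 2 - x⁻¹ + 1 = (x ^ 2 - x + 1) * x⁻¹ ^ 2 := by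
    field_simp
    ring
  have e2 : (x⁻¹ - 1) ^ 2 = (x - 1) ^ 2 * x⁻¹ ^ 2 := by
    field_simp
    ring
  have h3 : x⁻¹ ^ 4 ≠ 0 := pow_ne_zero _ (inv_ne_zero h0)
  unfold jf
  rw [e1, e2]
  generalize (x - 1) ^ 2 = y
  generalize x ^ 2 - x + 1 = z
  rw [show 256 * (z * x⁻¹ ^ 2) ^ 3 = 256 * z ^ 3 * x⁻¹ ^ 2 * x⁻¹ ^ 4 by ring,
    show x⁻¹ ^ 2 * (y * x⁻¹ ^ 2) = y * x⁻¹ ^ 4 by ring, mul_div_mul_right _ _ h3,
    inv_pow, ← div_eq_mul_inv, div_div]

theorem jf_one_sub (x : K) : jf (1 - x) = jf x := by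
  unfold jf
  ring_nf

theorem jf_pow_mul (x : K) (h0 : x ≠ 0) (h1 : x - 1 ≠ 0) (c : ℕ) :
    jf x ^ c * (x * (x - 1)) ^ (c + c) = 256 ^ c * (x ^ 2 - x + 1) ^ (3 * c) := by
  rw [← two_mul, pow_mul, ← mul_pow, pow_mul, ← mul_pow, jf, mul_pow x,
    div_mul_cancel₀ _ (mul_ne_zero (pow_ne_zero _ h0) (pow_ne_zero _ h1))]

theorem inv_factor (x : K) (h0 : x ≠ 0) :
    x⁻¹ * (x⁻¹ - 1) = (-1) * (x * (x - 1)) * x⁻¹ ^ 3 := by
  field_simp
  ring

theorem reflect_identity (x b : K) (h0 : x ≠ 0) (a N : ℕ) (hN : 3 * a ≤ N) :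
    x ^ N * (b * (x⁻¹ * (x⁻¹ - 1)) ^ a) = (-1) ^ a * x ^ (N - 3 * a) * (b * (x * (x - 1)) ^ a) := by
  rw [inv_factor x h0, mul_pow, mul_pow (-1 : K), ← pow_mul]
  have e4 : x ^ N = x ^ (N - 3 * a) * x ^ (3 * a) := by rw [← pow_add, Nat.sub_add_cancel hN]
  have e5 : x ^ (3 * a) * x⁻¹ ^ (3 * a) = 1 := by rw [← mul_pow, mul_inv_cancel₀ h0, one_pow]
  rw [e4]
  linear_combination (x ^ (N - 3 * a) * b * (-1) ^ a * (x * (x - 1)) ^ a) * e5

end Gen

section Aux

variable {k : Type u} [Field k]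

theorem aeval_X_injective : Function.Injective (aeval (RatFunc.X : RatFunc k) : k[X] → RatFunc k) := by
  have h : (aeval (RatFunc.X : RatFunc k) : k[X] →ₐ[k] RatFunc k)
      = IsScalarTower.toAlgHom k k[X] (RatFunc k) := by
    apply Polynomial.algHom_ext
    simp [RatFunc.algebraMap_X]
  rw [h]
  exact RatFunc.algebraMap_injective k

theorem X_ne : (RatFunc.X : RatFunc k) ≠ 0 := RatFunc.X_ne_zero

theorem X_sub_one_ne : (RatFunc.X : RatFunc k) - 1 ≠ 0 := by
  intro h
  have h' : aeval (RatFunc.X : RatFunc k) (X - 1 : k[X]) = aeval (RatFunc.X : RatFunc k) (0 : k[X]) := by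
    simpa using h
  exact X_sub_C_ne_zero (1 : k) (by simpa using aeval_X_injective h')

theorem exists_num (b : RatFunc k) (hb : b ∈ Algebra.adjoin k
    ({RatFunc.X, (RatFunc.X : RatFunc k)⁻¹, ((RatFunc.X : RatFunc k) - 1)⁻¹} : Set (RatFunc k))) :
    ∃ (a : ℕ) (P : k[X]),
      b * (RatFunc.X * (RatFunc.X - 1)) ^ a = aeval (RatFunc.X : RatFunc k) P := by
  have h0 := X_ne (k := k)
  have h1 := X_sub_one_ne (k := k)
  induction hb using Algebra.adjoin_induction with
  | mem x hx =>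
    rcases hx with rfl | rfl | rfl
    · exact ⟨0, X, by simp⟩
    · refine ⟨1, X - 1, ?_⟩
      simp [← mul_assoc, h0]
    · refine ⟨1, X, ?_⟩
      rw [pow_one, aeval_X, mul_left_comm, inv_mul_cancel₀ h1, mul_one]
  | algebraMap r => exact ⟨0, C r, by simp⟩
  | add x y _ _ hx hy =>
    obtain ⟨a, P, hP⟩ := hx
    obtain ⟨c, Q, hQ⟩ := hy
    refine ⟨a + c, P * (X * (X - 1)) ^ c + Q * (X * (X - 1)) ^ a, ?_⟩
    simp only [map_add, map_mul, map_pow, map_sub, map_one, aeval_X, ← hP, ← hQ]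
    ring
  | mul x y _ _ hx hy =>
    obtain ⟨a, P, hP⟩ := hx
    obtain ⟨c, Q, hQ⟩ := hy
    refine ⟨a + c, P * Q, ?_⟩
    simp only [map_mul, ← hP, ← hQ]
    ring

variable (σ τ : RatFunc k ≃ₐ[k] RatFunc k)
  (hσ : σ RatFunc.X = (RatFunc.X : RatFunc k)⁻¹) (hτ : τ RatFunc.X = 1 - (RatFunc.X : RatFunc k))

include hτ in
theorem comp_one_sub {b : RatFunc k} (hb : τ b = b) {a : ℕ} {P : k[X]}
    (hP : b * (RatFunc.X * (RatFunc.X - 1)) ^ a = aeval (RatFunc.X : RatFunc k) P) :
    P.comp (1 - X) = P := by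
  refine aeval_X_injective ?_
  have h := congrArg τ hP
  simp only [map_mul, map_pow, map_sub, map_one, hb, hτ, ← Polynomial.aeval_algHom_apply] at h
  rw [Polynomial.aeval_comp, map_sub, map_one, aeval_X, ← h, ← hP]
  congr 2
  ring

include hσ in
theorem reflect_rel {b : RatFunc k} (hb : σ b = b) {a : ℕ} {P : k[X]}
    (hP : b * (RatFunc.X * (RatFunc.X - 1)) ^ a = aeval (RatFunc.X : RatFunc k) P) :
    P.natDegree ≤ 3 * a ∧ P.reflect (3 * a) = C ((-1 : k) ^ a) * P := by
  have h0 := X_ne (k := k)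
  have h := congrArg σ hP
  simp only [map_mul, map_pow, map_sub, map_one, hb, hσ, ← Polynomial.aeval_algHom_apply] at h
  have hkey : ∀ N, P.natDegree ≤ N → 3 * a ≤ N →
      P.reflect N = C ((-1 : k) ^ a) * X ^ (N - 3 * a) * P := by
    intro N hN hN'
    refine aeval_X_injective ?_
    have hu : (RatFunc.X : RatFunc k)⁻¹ ≠ 0 := inv_ne_zero h0
    have e : aeval (RatFunc.X : RatFunc k) (P.reflect N) * ((RatFunc.X : RatFunc k)⁻¹) ^ N
        = aeval ((RatFunc.X : RatFunc k)⁻¹) P := by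
      letI := invertibleOfNonzero hu
      have := Polynomial.eval₂_reflect_mul_pow (algebraMap k (RatFunc k))
        ((RatFunc.X : RatFunc k)⁻¹) N P hN
      simpa only [invOf_eq_inv, inv_inv, aeval_def] using this
    have e2 : aeval (RatFunc.X : RatFunc k) (P.reflect N)
        = (RatFunc.X : RatFunc k) ^ N * aeval ((RatFunc.X : RatFunc k)⁻¹) P := by
      rw [← e, mul_left_comm, ← mul_pow, mul_inv_cancel₀ h0, one_pow, mul_one]
    rw [e2, ← h, map_mul, map_mul, aeval_C, map_pow, map_neg, map_one, aeval_X_pow, ← hP]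
    exact reflect_identity _ b h0 a N hN'
  have hle : P.natDegree ≤ 3 * a := by
    by_contra hlt
    have hlt : 3 * a < P.natDegree := by omega
    have h1 := hkey _ le_rfl hlt.le
    have hPne : P ≠ 0 := by rintro rfl; simp at hlt
    have h2 : (C ((-1 : k) ^ a) * X ^ (P.natDegree - 3 * a) * P).natDegree
        = P.natDegree - 3 * a + P.natDegree := by
      rw [mul_assoc, natDegree_C_mul (by simp), natDegree_mul (by simp) hPne, natDegree_X_pow]
    have h3 : (P.reflect P.natDegree).natDegree ≤ P.natDegree :=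
      (Polynomial.natDegree_reflect_le).trans (le_of_eq (max_self _))
    rw [h1, h2] at h3
    omega
  exact ⟨hle, by simpa using hkey _ hle le_rfl⟩

include hσ hτ in
theorem invariant_mem_adjoin (h2 : (2 : k) ≠ 0) :
    ∀ (a : ℕ) (b : RatFunc k) (P : k[X]),
      b * (RatFunc.X * (RatFunc.X - 1)) ^ a = aeval (RatFunc.X : RatFunc k) P →
      σ b = b → τ b = b →
      b ∈ Algebra.adjoin k ({(256 : RatFunc k) * ((RatFunc.X : RatFunc k) ^ 2 - RatFunc.X + 1) ^ 3 /
        ((RatFunc.X : RatFunc k) ^ 2 * ((RatFunc.X : RatFunc k) - 1) ^ 2)} : Set (RatFunc k)) := by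
  rw [← jf]
  set j : RatFunc k := jf (RatFunc.X : RatFunc k) with hj
  have h0 := X_ne (k := k)
  have h1 := X_sub_one_ne (k := k)
  have h256 : (256 : k) ≠ 0 := by
    rw [show (256 : k) = 2 ^ 8 by norm_num]
    exact pow_ne_zero _ h2
  have hσj : σ j = j := by
    rw [hj]
    conv_rhs => rw [← jf_inv _ h0, ← hσ]
    simp only [jf, map_mul, map_div₀, map_pow, map_sub, map_add, map_one, map_ofNat]
  have hτj : τ j = j := by
    rw [hj]
    conv_rhs => rw [← jf_one_sub, ← hτ]
    simp only [jf, map_mul, map_div₀, map_pow, map_sub, map_add, map_one, map_ofNat]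
  clear_value j
  intro a
  induction a with
  | zero =>
    intro b P hP hb _
    obtain ⟨hd, -⟩ := reflect_rel σ hσ hb hP
    obtain ⟨c, hc⟩ := Polynomial.natDegree_eq_zero.mp (Nat.le_zero.mp (by simpa using hd))
    rw [pow_zero, mul_one, ← hc, aeval_C] at hP
    rw [hP]
    exact Subalgebra.algebraMap_mem _ c
  | succ a ih =>
    intro b P hP hb hb'
    have red : ∀ (b : RatFunc k) (P : k[X]),
        b * (RatFunc.X * (RatFunc.X - 1)) ^ (a + 1) = aeval (RatFunc.X : RatFunc k) P →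
        σ b = b → τ b = b → P.coeff 0 = 0 → b ∈ Algebra.adjoin k {j} := by
      intro b P hP hb hb' h00
      obtain ⟨P1, rfl⟩ := Polynomial.X_dvd_iff.mpr h00
      have hc := congrArg (Polynomial.eval 1) (comp_one_sub τ hτ hb' hP)
      simp only [eval_comp, eval_sub, eval_one, eval_X, sub_self, eval_mul, zero_mul,
        one_mul] at hc
      obtain ⟨Q, rfl⟩ := (Polynomial.dvd_iff_isRoot (a := (1 : k))).mpr hc.symm
      refine ih b Q ?_ hb hb'
      have hne : (RatFunc.X : RatFunc k) * (RatFunc.X - 1) ≠ 0 := mul_ne_zero h0 h1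
      refine mul_right_cancel₀ hne ?_
      rw [mul_assoc, ← pow_succ, hP]
      simp only [map_mul, map_sub, aeval_X, map_one]
      ring
    by_cases h00 : P.coeff 0 = 0
    · exact red b P hP hb hb' h00
    obtain ⟨hd, hr⟩ := reflect_rel σ hσ hb hP
    have htop : P.coeff (3 * (a + 1)) = (-1 : k) ^ (a + 1) * P.coeff 0 := by
      have := congrArg (fun q : k[X] => q.coeff 0) hr
      simpa only [Polynomial.coeff_reflect, Polynomial.coeff_C_mul, Polynomial.revAt_le (Nat.zero_le _), Nat.sub_zero] using this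
    have hdeg : P.natDegree = 3 * (a + 1) :=
      le_antisymm hd (le_natDegree_of_ne_zero (by rw [htop]; simp [h00]))
    have hev : Even (a + 1) := by
      have hc := congrArg Polynomial.leadingCoeff (comp_one_sub τ hτ hb' hP)
      have e1 : (1 - X : k[X]) = C (-1 : k) * X + C 1 := by simp; ring
      have e2 : (1 - X : k[X]).natDegree = 1 ∧ (1 - X : k[X]).leadingCoeff = -1 := by
        rw [e1]
        exact ⟨natDegree_linear (by simp), leadingCoeff_linear (by simp)⟩
      rw [Polynomial.leadingCoeff_comp (by rw [e2.1]; omega), e2.2, hdeg] at hc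
      have hlc : P.leadingCoeff ≠ 0 := by
        rw [leadingCoeff, hdeg, htop]; simp [h00]
      have h3 : (-1 : k) ^ (3 * (a + 1)) = 1 := by
        exact mul_left_cancel₀ hlc (by rw [hc, mul_one])
      rcases Nat.even_or_odd (3 * (a + 1)) with he | ho
      · exact (Nat.even_mul.mp he).resolve_left (by decide)
      · rw [ho.neg_one_pow] at h3
        exact absurd (by linear_combination -h3 : (2 : k) = 0) h2
    obtain ⟨c, hc⟩ := hev
    set e : k := P.coeff 0 / 256 ^ c with he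
    have hsub : b - algebraMap k (RatFunc k) e * j ^ c ∈ Algebra.adjoin k {j} := by
      refine red _ (P - C (P.coeff 0) * (X ^ 2 - X + 1) ^ (3 * c)) ?_ ?_ ?_ ?_
      · have hjc : j ^ c * (RatFunc.X * (RatFunc.X - 1)) ^ (a + 1)
            = 256 ^ c * ((RatFunc.X : RatFunc k) ^ 2 - RatFunc.X + 1) ^ (3 * c) := by
          rw [hc, hj]
          exact jf_pow_mul _ h0 h1 c
        have hec : algebraMap k (RatFunc k) e * 256 ^ c = algebraMap k (RatFunc k) (P.coeff 0) := by
          rw [he, ← map_ofNat (algebraMap k (RatFunc k)) 256, ← map_pow, ← map_mul,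
            div_mul_cancel₀ _ (pow_ne_zero _ h256)]
        rw [map_sub, map_mul, aeval_C, map_pow, map_add, map_sub, map_pow, map_one, aeval_X, ← hP,
          sub_mul, mul_assoc, hjc, ← mul_assoc, hec]
      · rw [map_sub, map_mul, map_pow, hb, hσj, AlgEquiv.commutes]
      · rw [map_sub, map_mul, map_pow, hb', hτj, AlgEquiv.commutes]
      · simp [Polynomial.coeff_zero_eq_eval_zero]
    have hmem : algebraMap k (RatFunc k) e * j ^ c ∈ Algebra.adjoin k {j} :=
      mul_mem (Subalgebra.algebraMap_mem _ e)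
        (pow_mem (Algebra.self_mem_adjoin_singleton k j) c)
    rw [← sub_add_cancel b (algebraMap k (RatFunc k) e * j ^ c)]
    exact Subalgebra.add_mem _ hsub hmem

end Aux

/-- The algebraic step of its proof: Fix an algebraically closed field k whose characteristic is neither
2 nor 3, let B ⊆ k(λ) be the k-subalgebra generated by λ, λ⁻¹ and (λ - 1)⁻¹ (the coordinate ring of
the λ-line with 0 and 1 removed), and let σ and τ be the k-algebra automorphisms of k(λ) determined
by σ(λ) = λ⁻¹ and τ(λ) = 1 - λ (they generate the group of order six permuting λ, 1/λ, 1-λ, 1/(1-λ),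
λ/(λ-1), (λ-1)/λ). Then the elements of B fixed by σ and τ are exactly the elements of the
k-subalgebra generated by j = 256 (λ² - λ + 1)³ / (λ² (λ - 1)²); in other words the ring of
invariants of B is the polynomial ring k[j]. -/
theorem result (k : Type u) [Field k] [IsAlgClosed k]
    (h2 : (2 : k) ≠ 0) (h3 : (3 : k) ≠ 0)
    (σ τ : RatFunc k ≃ₐ[k] RatFunc k) (hσ : σ RatFunc.X = (RatFunc.X : RatFunc k)⁻¹)
    (hτ : τ RatFunc.X = 1 - (RatFunc.X : RatFunc k)) (b : RatFunc k) :
    (b ∈ Algebra.adjoin k ({RatFunc.X, (RatFunc.X : RatFunc k)⁻¹, ((RatFunc.X : RatFunc k) - 1)⁻¹} : Set (RatFunc k)) ∧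
        σ b = b ∧ τ b = b) ↔
      b ∈ Algebra.adjoin k ({(256 : RatFunc k) * ((RatFunc.X : RatFunc k) ^ 2 - RatFunc.X + 1) ^ 3 /
        ((RatFunc.X : RatFunc k) ^ 2 * ((RatFunc.X : RatFunc k) - 1) ^ 2)} : Set (RatFunc k)) := by
  constructor
  · rintro ⟨hb, hb1, hb2⟩
    obtain ⟨a, P, hP⟩ := exists_num b hb
    exact invariant_mem_adjoin σ τ hσ hτ h2 a b P hP hb1 hb2
  · intro hb
    have h0 := X_ne (k := k)
    have h1 := X_sub_one_ne (k := k)
    set B := Algebra.adjoin k ({RatFunc.X, (RatFunc.X : RatFunc k)⁻¹,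
      ((RatFunc.X : RatFunc k) - 1)⁻¹} : Set (RatFunc k)) with hB
    rw [← jf] at hb
    set j : RatFunc k := jf (RatFunc.X : RatFunc k) with hj
    have hx : (RatFunc.X : RatFunc k) ∈ B := Algebra.subset_adjoin (by simp)
    have hxi : (RatFunc.X : RatFunc k)⁻¹ ∈ B := Algebra.subset_adjoin (by simp)
    have hyi : ((RatFunc.X : RatFunc k) - 1)⁻¹ ∈ B := Algebra.subset_adjoin (by simp)
    have hjB : j ∈ B := by
      rw [hj, jf, div_eq_mul_inv, mul_inv, ← inv_pow, ← inv_pow]
      exact mul_mem (mul_mem (ofNat_mem B 256)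
        (pow_mem (add_mem (sub_mem (pow_mem hx 2) hx) (one_mem B)) 3))
        (mul_mem (pow_mem hxi 2) (pow_mem hyi 2))
    have hσj : σ j = j := by
      rw [hj]
      conv_rhs => rw [← jf_inv _ h0, ← hσ]
      simp only [jf, map_mul, map_div₀, map_pow, map_sub, map_add, map_one, map_ofNat]
    have hτj : τ j = j := by
      rw [hj]
      conv_rhs => rw [← jf_one_sub, ← hτ]
      simp only [jf, map_mul, map_div₀, map_pow, map_sub, map_add, map_one, map_ofNat]
    induction hb using Algebra.adjoin_induction with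
    | mem x hx => obtain rfl : x = j := hx; exact ⟨hjB, hσj, hτj⟩
    | algebraMap r => exact ⟨B.algebraMap_mem r, σ.commutes r, τ.commutes r⟩
    | add x y _ _ hx hy => exact ⟨add_mem hx.1 hy.1, by rw [map_add, hx.2.1, hy.2.1], by rw [map_add, hx.2.2, hy.2.2]⟩
    | mul x y _ _ hx hy => exact ⟨mul_mem hx.1 hy.1, by rw [map_mul, hx.2.1, hy.2.1], by rw [map_mul, hx.2.2, hy.2.2]⟩

end Groth.Agent.S11470
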