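import Groth.Statements.S11473
import Groth.Agent.Lib.P1Bun1.Genus0
import Groth.Agent.S5038

set_option autoImplicit false
universe u
open CategoryTheory CategoryTheory.Limits AlgebraicGeometry
open Curves

namespace Groth.Agent.S11473

/-- Let C be an Artinian local ring whose residue field k is algebraically closed, and let f : X → Spec
C be a family of curves of genus zero: f is smooth and proper and its closed fibre X ×_C k is an
integral k-scheme of dimension one with H¹(O) = 0 (over the algebraically closed field k this is the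
condition on the one geometric fibre). Then the family is trivial: X is C-isomorphic to P¹_C. -/
theorem result (C : Type u) [CommRing C] [IsArtinianRing C] [IsLocalRing C]
    [IsAlgClosed (IsLocalRing.ResidueField C)] {X : Scheme.{u}} (f : X ⟶ Spec (CommRingCat.of C)) [Smooth f] [IsProper f]
    (hint : IsIntegral (pullback f (Spec.map (CommRingCat.ofHom (IsLocalRing.residue C)))))
    (hdim : topologicalKrullDim ↥(pullback f (Spec.map (CommRingCat.ofHom (IsLocalRing.residue C)))) = 1)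
    (hg : @Curv2.genus (IsLocalRing.ResidueField C) _ (pullback f (Spec.map (CommRingCat.ofHom (IsLocalRing.residue C))))
        ⟨pullback.snd f (Spec.map (CommRingCat.ofHom (IsLocalRing.residue C)))⟩ = 0) :
    ∃ e : X ≅ CohB1.ProjSpace 1 C, e.hom ≫ CohB1.ProjSpace.toSpec 1 C = f := by
  let k := IsLocalRing.ResidueField C
  let ι₀ := Spec.map (CommRingCat.ofHom (IsLocalRing.residue C))
  letI : (pullback f ι₀).Over (Spec (CommRingCat.of k)) := ⟨pullback.snd f ι₀⟩
  haveI := hint
  have sq₀ : IsPullback (pullback.fst f ι₀) (pullback.snd f ι₀) f ι₀ := IsPullback.of_hasPullback f ι₀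
  haveI : IsProper ((pullback f ι₀) ↘ Spec (CommRingCat.of k)) :=
    MorphismProperty.of_isPullback (P := @IsProper) sq₀ inferInstance
  haveI := Groth.Agent.CubeField.geometricallyIntegral_of_isIntegral ((pullback f ι₀) ↘ Spec (CommRingCat.of k))
  obtain ⟨e₀, he₀'⟩ := Groth.Agent.S7834.result k (pullback f ι₀) hdim hg
  have he₀ : e₀.hom ≫ CohB1.ProjSpace.toSpec 1 k = pullback.snd f ι₀ := he₀'
  have sqP : IsPullback (e₀.inv ≫ pullback.fst f ι₀) (CohB1.ProjSpace.toSpec 1 k) f ι₀ := by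
    refine sq₀.of_iso e₀ (Iso.refl _) (Iso.refl _) (Iso.refl _) (by simp) ?_ (by simp) (by simp)
    simp only [Iso.refl_hom, Category.comp_id]
    exact he₀.symm
  have hfam : Groth.Agent.P1Bun1.IsP1Fam f := by
    intro Ω _ _ b
    obtain ⟨ρ, hρ⟩ : ∃ ρ : CommRingCat.of C ⟶ CommRingCat.of Ω, Spec.map ρ = b := ⟨Spec.preimage b, Spec.map_preimage b⟩
    haveI : (RingHom.ker ρ.hom).IsPrime := RingHom.ker_isPrime ρ.hom
    have hm : IsLocalRing.maximalIdeal C ≤ RingHom.ker ρ.hom :=
      (IsLocalRing.eq_maximalIdeal (IsArtinianRing.isMaximal_of_isPrime (RingHom.ker ρ.hom))).ge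
    let ρ₀ : k →+* Ω := Ideal.Quotient.lift (IsLocalRing.maximalIdeal C) ρ.hom fun a ha => hm ha
    have hρ₀ : ρ = CommRingCat.ofHom (IsLocalRing.residue C) ≫ CommRingCat.ofHom ρ₀ := by
      ext a; rfl
    have sqΩ : IsPullback (Groth.Agent.ProjSpace.map 1 ρ₀ ≫ e₀.inv ≫ pullback.fst f ι₀)
        (CohB1.ProjSpace.toSpec 1 Ω) f b := by
      rw [← hρ, hρ₀, Spec.map_comp]
      exact (Groth.Agent.ProjSpace.isPullback_map 1 ρ₀).paste_horiz sqP
    exact ⟨sqΩ.isoPullback.symm, sqΩ.isoPullback_inv_snd⟩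
  haveI := Groth.Agent.P1Bun1.smoothOfRelDim_of_fam hfam
  haveI := Groth.Agent.P1Bun1.henselianLocalRing_of_artinian C
  obtain ⟨u₁, hu₁⟩ := Groth.Agent.CurveCoh17.exists_section_P1 k
  obtain ⟨σ, hσ, -⟩ := Groth.Agent.S5038.result C f (u₁ ≫ e₀.inv ≫ pullback.fst f ι₀) (by
    simp only [Category.assoc]
    rw [pullback.condition, ← he₀, Category.assoc, Iso.inv_hom_id_assoc, reassoc_of% hu₁])
  obtain ⟨V, hV, hsV, g, hg⟩ := Groth.Agent.P1Bun1.exists_local_iso hσ hfam (IsLocalRing.closedPoint C)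
  have hVtop : V = ⊤ := top_le_iff.1 fun z _ => by
    haveI : z.asIdeal.IsPrime := z.isPrime
    have hz : z = IsLocalRing.closedPoint C :=
      PrimeSpectrum.ext (IsLocalRing.eq_maximalIdeal (IsArtinianRing.isMaximal_of_isPrime z.asIdeal))
    rw [hz]; exact hsV
  subst hVtop
  let eC : CommRingCat.of Γ(Spec (CommRingCat.of C), ⊤) ≅ CommRingCat.of C := Scheme.ΓSpecIso (CommRingCat.of C)
  have sqT := (Groth.Agent.ProjSpace.isPullback_map 1 eC.hom.hom).paste_horiz hg
  haveI : IsIso (Spec.map (CommRingCat.ofHom eC.hom.hom) ≫ hV.fromSpec) := by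
    have : hV.fromSpec = (Spec (CommRingCat.of C)).isoSpec.inv := IsAffineOpen.fromSpec_top
    haveI hI : IsIso (Spec.map (CommRingCat.ofHom eC.hom.hom)) := inferInstanceAs (IsIso (Spec.map eC.hom))
    rw [this]
    infer_instance
  haveI := sqT.isIso_fst_of_isIso
  refine ⟨(asIso (Groth.Agent.ProjSpace.map 1 eC.hom.hom ≫ g)).symm, ?_⟩
  rw [Iso.symm_hom, asIso_inv, IsIso.inv_comp_eq, sqT.w]
  rw [show Spec.map (CommRingCat.ofHom eC.hom.hom) ≫ hV.fromSpec = 𝟙 _ from ?_, Category.comp_id]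
  rw [IsAffineOpen.fromSpec_top, Scheme.isoSpec_Spec_inv]
  exact (Spec.map_comp _ _).symm.trans ((congrArg Spec.map (Scheme.ΓSpecIso (CommRingCat.of C)).inv_hom_id).trans (Spec.map_id _))

end Groth.Agent.S11473
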