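import Groth.Statements.S1148
import Mathlib.RingTheory.Ideal.GoingDown
import Mathlib.RingTheory.LocalRing.ResidueField.Fiber
import Mathlib.RingTheory.Ideal.MinimalPrime.Noetherian
import Mathlib.RingTheory.FiniteStability
-- import your own Groth.Agent.* helpers here

set_option autoImplicit false
set_option backward.isDefEq.respectTransparency.types false
universe u
open Desc

open scoped TensorProduct

namespace Groth.Agent.S1148

/-- Affine form (finiteness of irreducible components of quasi-compact opens is fppf local; this is the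
ascent direction for a morphism of affine schemes). Let A → B be a flat ring map of finite
presentation. If Spec A has finitely many irreducible components, then so does Spec B. -/
theorem result (A B : Type u) [CommRing A] [CommRing B] [Algebra A B]
    [Module.Flat A B] [Algebra.FinitePresentation A B] (h : (irreducibleComponents (PrimeSpectrum A)).Finite) :
    (irreducibleComponents (PrimeSpectrum B)).Finite := by
  have hA : (minimalPrimes A).Finite := by
    rw [← PrimeSpectrum.vanishingIdeal_irreducibleComponents]
    exact h.image _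
  suffices hB : (minimalPrimes B).Finite by
    rw [← PrimeSpectrum.zeroLocus_minimalPrimes]
    exact hB.image _
  have hsub : ∀ P ∈ minimalPrimes B, P.comap (algebraMap A B) ∈ minimalPrimes A := by
    intro P hP
    haveI := hP.1.1
    refine ⟨⟨inferInstance, bot_le⟩, fun q hq hle => ?_⟩
    haveI := hq.1
    by_contra hne
    have hlt : q < P.under A := lt_of_le_not_ge hle hne
    obtain ⟨Q, hQP, hQ, hover⟩ := Ideal.exists_ideal_lt_liesOver_of_lt (p := q) (S := B) P hlt
    exact hQP.not_ge (hP.2 ⟨hQ, bot_le⟩ hQP.le)
  refine (Set.Finite.biUnion hA (t := fun p => {P | P ∈ minimalPrimes B ∧ P.comap (algebraMap A B) = p})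
    fun p hp => ?_).subset fun P hP => Set.mem_biUnion (hsub P hP) ⟨hP, rfl⟩
  haveI := hp.1.1
  haveI : Algebra.FiniteType A B := inferInstance
  haveI : Algebra.FiniteType p.ResidueField (p.Fiber B) := inferInstanceAs (Algebra.FiniteType p.ResidueField (p.ResidueField ⊗[A] B))
  haveI : IsNoetherianRing (p.Fiber B) := Algebra.FiniteType.isNoetherianRing p.ResidueField _
  let e := PrimeSpectrum.primesOverOrderIsoFiber A B p
  have hF : {Q : PrimeSpectrum (p.Fiber B) | Q.asIdeal ∈ minimalPrimes (p.Fiber B)}.Finite :=
    (minimalPrimes.finite_of_isNoetherianRing (p.Fiber B)).preimage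
      (fun _ _ _ _ h => PrimeSpectrum.ext h)
  refine (hF.image (fun Q => ((e.symm Q) : Ideal B))).subset ?_
  rintro P ⟨hP, hPp⟩
  haveI := hP.1.1
  let P' : p.primesOver B := ⟨P, inferInstance, ⟨hPp.symm⟩⟩
  refine ⟨e P', ⟨⟨(e P').isPrime, bot_le⟩, fun R hR hle => ?_⟩, ?_⟩
  · have h1 : e.symm ⟨R, hR.1⟩ ≤ P' := by
      rw [← e.le_iff_le, OrderIso.apply_symm_apply]
      exact hle
    have h2 : P' ≤ e.symm ⟨R, hR.1⟩ := hP.2 ⟨(e.symm ⟨R, hR.1⟩).2.1, bot_le⟩ h1
    have h3 : e P' ≤ e (e.symm ⟨R, hR.1⟩) := e.monotone h2
    rw [OrderIso.apply_symm_apply] at h3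
    exact h3
  · exact congrArg Subtype.val (e.symm_apply_apply P')

end Groth.Agent.S1148
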