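import Groth.Statements.S11482
import Groth.Agent.Lib.VB17.Proper
import Groth.Agent.Lib.VB17.Line
import Groth.Agent.Lib.VB17.Simple
import Groth.Agent.Lib.VB17.TwistBound
-- import your own Groth.Agent.* helpers here

set_option autoImplicit false
universe u
open CategoryTheory CategoryTheory.Limits AlgebraicGeometry
open Curves

namespace Groth.Agent.S11482

/-- Fix an algebraically closed field k and a nonsingular projective curve X over k of genus g (smooth,
proper, integral, of dimension one, g = dim H¹(X, O_X)) and E a locally free sheaf of rank 2 and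
degree d (degree = χ(E) − 2χ(O_X)) that is indecomposable: in any decomposition E ≅ E₁ ⊕ E₂ one
summand is zero. Then (a) every invertible subsheaf L ⊆ E has 2·deg L ≤ d + 2g − 2, and (b) there is
an invertible subsheaf L ⊆ E with d − 2g ≤ 2·deg L. (The published statement is that indecomposable
bundles of fixed rank and degree form a bounded family; this row states, in rank two, the degree
bounds for invertible subsheaves on which its proof rests.) -/
theorem result (k : Type u) [Field k] [IsAlgClosed k]
    (X : Scheme.{u}) [X.Over (Spec (CommRingCat.of k))] (hX : Curve.IsSmoothProperCurve k X (X ↘ Spec (CommRingCat.of k)))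
    (E : X.Modules) (hE : FlatMod.IsFinLocFreeOfRank 2 E)
    (hind : ∀ (E₁ E₂ : X.Modules), Nonempty (E ≅ E₁ ⊞ E₂) → IsZero E₁ ∨ IsZero E₂) :
    (∀ (L : X.Modules) (ι : L ⟶ E), PicF.IsInvertible L → Mono ι →
        2 * Curv2.deg k X L 1 ≤ Curv2.deg k X E 2 + 2 * (Curv2.genus k X : ℤ) - 2) ∧
      ∃ (L : X.Modules) (ι : L ⟶ E), PicF.IsInvertible L ∧ Mono ι ∧
        Curv2.deg k X E 2 - 2 * (Curv2.genus k X : ℤ) ≤ 2 * Curv2.deg k X L 1 := by
  obtain ⟨hproper, hsm, hint, hdim⟩ := hX
  haveI := hproper
  haveI := hsm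
  haveI := hint
  have hR := VB17.regCurve' (k := k) hdim
  have hC := hR.like
  haveI := hC.noetherian
  have h0 := hC.h0_eq_one
  have hreg : ∀ x : X, IsRegularLocalRing (X.presheaf.stalk x) := fun x =>
    Groth.Agent.SmoothReg17.isRegularLocalRing_stalk (X ↘ Spec (CommRingCat.of k)) x
  constructor
  · intro L ι hL hι
    haveI := hι
    obtain ⟨M, j, hj, hM, hQ, hle, hd⟩ := VB17.exists_max_line hR hE hL ι
    haveI := hj
    let S : ShortComplex X.Modules := ShortComplex.mk j (cokernel.π j) (cokernel.condition j)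
    have hS : S.ShortExact :=
      { exact := ShortComplex.exact_of_g_is_cokernel _ (cokernelIsCokernel _) }
    have hns : ¬ IsSplitEpi S.g := fun hsp => by
      obtain ⟨⟨σ⟩⟩ := hsp
      rcases hind M (cokernel j) ⟨(ShortComplex.Splitting.ofExactOfSection S hS.exact σ.section_ σ.id hj).isoBinaryBiproduct⟩ with h | h
      · exact VB17.not_isZero_of_invertible hM h
      · exact VB17.not_isZero_of_invertible hQ h
    have h := (VB17.nonsplit_bound hC h0 hS hM hQ hns).1
    change Curv2.deg k X M 1 - Curv2.deg k X (cokernel j) 1 ≤ _ at h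
    omega
  · set d := Curv2.deg k X E 2
    set g := (Curv2.genus k X : ℤ)
    obtain ⟨n, hn⟩ : ∃ n : ℤ, n = (2 * g - d) / 2 := ⟨_, rfl⟩
    obtain ⟨N, hN, hdN⟩ := VB17.exists_invertible_deg hC hdim hreg n
    obtain ⟨N', hN', ⟨e⟩⟩ := Groth.Agent.M2.exists_inverse hN
    have hN1 := (Groth.Agent.M2.isInvertible_iff_isFinLocFreeOfRank_one N).1 hN
    have hEN : FlatMod.IsFinLocFreeOfRank 2 (CohB1.tensorMod E N) := by
      simpa using Groth.Agent.M2.isFinLocFreeOfRank_tensor hE hN1
    have hdEN : Curv2.deg k X (CohB1.tensorMod E N) 2 = d + 2 * n := by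
      have := hC.deg_tensor hE hN1
      rw [hdN] at this
      simpa using this
    have hs : Nontrivial (Coh.HH X (CohB1.tensorMod E N) 0) := by
      by_contra h
      rw [not_nontrivial_iff_subsingleton] at h
      rw [Curv2.deg, hC.euler_structureModule, h0, (hC.adm (CurveCoh17.isCoh_of_ofRank hEN)).euler_eq,
        Module.finrank_zero_of_subsingleton (M := Coh.HH X (CohB1.tensorMod E N) 0)] at hdEN
      push_cast at hdEN
      omega
    obtain ⟨i, hi⟩ := VB17.exists_mono_of_section hE hN hN' e hs
    refine ⟨N', i, hN', hi, ?_⟩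
    rw [hC.deg_of_tensor_iso hN hN' e, hdN]
    omega

end Groth.Agent.S11482
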