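import Groth.Statements.S11484
import Groth.Agent.Lib.RankTwo11.Split

set_option autoImplicit false
universe u
open VBPn

namespace Groth.Agent.S11484

open CategoryTheory CategoryTheory.Limits AlgebraicGeometry in
/-- Let k be an algebraically closed field of characteristic zero and n ≥ 2. On P^n_k every short exact
sequence of O-modules whose first term is isomorphic to O(a) and whose third term is isomorphic to
O(b), for integers a and b, admits a splitting; in particular its middle term is isomorphic to O(a)
⊕ O(b). -/
theorem result (k : Type u) [Field k] [IsAlgClosed k] [CharZero k]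
    (n : ℕ) (hn : 2 ≤ n) (a b : ℤ) (S : ShortComplex (CohB1.ProjSpace n k).Modules) (hS : S.ShortExact)
    (ha : Nonempty (S.X₁ ≅ Twist.twistProjSpace n k a)) (hb : Nonempty (S.X₃ ≅ Twist.twistProjSpace n k b)) :
    Nonempty S.Splitting := by
  exact RankTwo11.nonempty_splitting hn hS ha.some hb.some

end Groth.Agent.S11484
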