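import Groth.Statements.S11486
import Groth.Agent.Lib.Horrocks11
import Groth.Agent.Lib.EnriquesSeveri11.NegVan
import Groth.Agent.Lib.VB17.Sub

set_option autoImplicit false
set_option backward.isDefEq.respectTransparency false
universe u
open VBPn

namespace Groth.Agent.S11486

open Groth.Agent CategoryTheory CategoryTheory.Limits AlgebraicGeometry in
theorem rank_sigma {X : Scheme.{u}} {r : ℕ} (f : Fin r → X.Modules) (hf : ∀ j, PicF.IsInvertible (f j)) :
    FlatMod.IsFinLocFreeOfRank r (∐ f) := by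
  intro x
  choose U hU i using fun j => hf j x
  let V : X.Opens := Finset.univ.inf U
  have hxV : x ∈ V := by
    have : x ∈ (((Finset.univ.inf U : X.Opens)) : Set X) := by
      rw [TopologicalSpace.Opens.coe_finset_inf, Finset.inf_set_eq_iInter]
      exact Set.mem_iInter₂.2 fun j _ => hU j
    exact this
  haveI := (Scheme.Modules.restrictAdjunction V.ι).isLeftAdjoint
  exact ⟨V, hxV, ⟨PreservesCoproduct.iso (Scheme.Modules.restrictFunctor V.ι) f ≪≫ Sigma.mapIso fun j =>
    (M2.restrictLEIso (f j) (Finset.inf_le (Finset.mem_univ j) : V ≤ U j)).symm ≪≫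
      (Scheme.Modules.restrictFunctor _).mapIso (i j).some ≪≫ Scheme.Modules.restrictUnitIso _⟩⟩

open Groth.Agent CategoryTheory CategoryTheory.Limits AlgebraicGeometry in
theorem nonempty_iso_of_restrict_top {X : Scheme.{u}} (E : X.Modules) (r : ℕ)
    (e : E.restrict (⊤ : X.Opens).ι ≅ FlatMod.freeMod ((⊤ : X.Opens) : Scheme.{u}) r) :
    Nonempty (E ≅ FlatMod.freeMod X r) := by
  let j := X.topIso.inv
  exact ⟨((Scheme.Modules.restrictFunctorId (X := X)).app E).symm ≪≫
    (Scheme.Modules.restrictFunctorCongr (show 𝟙 X = j ≫ (⊤ : X.Opens).ι from (Scheme.toIso_inv_ι X).symm)).app E ≪≫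
    (Scheme.Modules.restrictFunctorComp j (⊤ : X.Opens).ι).app E ≪≫
    (Scheme.Modules.restrictFunctor j).mapIso e ≪≫ M2.freeModRestrictIso j r⟩


open CategoryTheory CategoryTheory.Limits AlgebraicGeometry in
/-- Let k be a characteristic-zero algebraically closed field and E a finite locally free O-module of
rank r on P^n_k. Then E splits as a direct sum of twisting sheaves O(a_1) ⊕ ⋯ ⊕ O(a_r) if and only
if H^i(P^n_k, E ⊗ O(d)) = 0 for every 0 < i < n and every integer d. -/
theorem result (k : Type u) [Field k] [IsAlgClosed k] [CharZero k]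
    (n r : ℕ) (E : (CohB1.ProjSpace n k).Modules) (hE : FlatMod.IsFinLocFreeOfRank r E) :
    (∃ a : Fin r → ℤ, Nonempty (E ≅ ∐ fun j : Fin r => Twist.twistProjSpace n k (a j))) ↔
      ∀ (i : ℕ) (d : ℤ), 0 < i → i < n →
        Subsingleton (Coh.HH (CohB1.ProjSpace n k) (CohB1.tensorMod E (Twist.twistProjSpace n k d)) i) := by
  haveI : IsIntegral (CohB1.ProjSpace n k) := RegExt.isIntegral_projSpace n k
  refine ⟨fun ⟨a, e⟩ i d hi hin => (Horrocks11.van_of_isSum ⟨r, a, e⟩).2 d i hi hin, fun h => ?_⟩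
  have hc : Coh.IsCoh E := CurveCoh17.isCoh_of_ofRank hE
  obtain rfl | hn := Nat.eq_zero_or_pos n
  · obtain ⟨U, hU, ⟨e⟩⟩ := hE (genericPoint (CohB1.ProjSpace 0 k))
    haveI := (CMReg18.isAmple_twistOne k (n := 0)).2.1
    have hone : ∀ x : CohB1.ProjSpace 0 k, x = genericPoint (CohB1.ProjSpace 0 k) := by
      haveI := CMReg18.isProper_projSpace k (n := 0)
      haveI : AlgebraicGeometry.IsNoetherian (CohB1.ProjSpace 0 k) :=
        CohFound.isNoetherian_of_isProper (CohB1.ProjSpace 0 k ↘ Spec (CommRingCat.of k))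
      intro x
      have h1 := (VB17.ringKrullDim_stalk_le_topologicalKrullDim x).trans (S10829.result k 0).le
      rw [ringKrullDim_stalk_eq_coheight] at h1
      have h2 : Order.coheight x = 0 := nonpos_iff_eq_zero.1 (by exact_mod_cast h1)
      exact ((AlgebraicGeometry.Scheme.le_iff_specializes.1 (Order.coheight_eq_zero.1 h2
        (AlgebraicGeometry.Scheme.le_iff_specializes.2 (genericPoint_specializes x)))).antisymm (genericPoint_specializes x)).eq
    obtain rfl : U = ⊤ := TopologicalSpace.Opens.ext (Set.eq_univ_of_forall fun x => by rw [hone x]; exact hU)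
    obtain ⟨z⟩ := Twist.nonempty_twist_zero_iso (CohB1.polyGrading 0 k)
    let j : (⊤ : (CohB1.ProjSpace 0 k).Opens).toScheme ≅ CohB1.ProjSpace 0 k := Scheme.topIso _
    obtain ⟨u⟩ := nonempty_iso_of_restrict_top E r e
    exact ⟨fun _ => 0, ⟨u ≪≫ Sigma.mapIso fun _ => z.symm⟩⟩
  obtain ⟨r', a, e⟩ := (Horrocks11.isSum_iff (k := k) hn hc).2 ⟨by
    obtain ⟨m₀, hm⟩ := ES11.negVan_of_isFinLocFree (k := k) (r := n) 0 hn (M2.isFinLocFree_of_ofRank hE)
    refine ⟨-m₀, fun m hm' => ?_⟩
    have := hm (-m) (by omega)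
    rwa [show ES11.ptw E (- -m) = (CMReg18.projData k n).tw E m by rw [neg_neg]] at this,
    fun m i hi hin => h i m hi hin⟩
  obtain rfl : r = r' := VB17.rank_unique hE
    (M2.isFinLocFreeOfRank_of_iso e.some.symm (rank_sigma _ fun j => Twist.isInvertible_twistProjSpace n k (a j)))
  exact ⟨a, e⟩


end Groth.Agent.S11486
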