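import Groth.Statements.S11487
import Groth.Agent.Lib.RankTwo11.LineVanish
import Groth.Agent.S11486
import Groth.Agent.Lib.Horrocks11

set_option autoImplicit false
universe u
open VBPn

namespace Groth.Agent.S11487

set_option backward.isDefEq.respectTransparency false
set_option backward.isDefEq.respectTransparency.types false
set_option maxHeartbeats 1000000

open Groth.Agent CategoryTheory CategoryTheory.Limits AlgebraicGeometry in
theorem isSum_pullback {k : Type u} [Field k] {m n : ℕ} (f : CohB1.ProjSpace m k ⟶ CohB1.ProjSpace n k)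
    (eO : (Scheme.Modules.pullback f).obj (_root_.Twist.twistProjSpace n k 1) ≅ _root_.Twist.twistProjSpace m k 1)
    {E : (CohB1.ProjSpace n k).Modules} (h : Horrocks11.IsSum k n E) :
    Horrocks11.IsSum k m ((Scheme.Modules.pullback f).obj E) := by
  obtain ⟨r, a, ⟨e⟩⟩ := h
  exact ⟨r, a, ⟨(Scheme.Modules.pullback f).mapIso e ≪≫ PreservesCoproduct.iso (Scheme.Modules.pullback f) _ ≪≫
    Sigma.mapIso fun j => (RankTwo11.Hyper.nonempty_pull_twist f eO (a j)).some⟩⟩

open Groth.Agent CategoryTheory CategoryTheory.Limits AlgebraicGeometry in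
theorem splitPlane (k : Type u) [Field k] [Infinite k] : ∀ (n : ℕ), 2 ≤ n →
    ∀ (E : (CohB1.ProjSpace n k).Modules), FlatMod.IsFinLocFree E →
    ∀ (i : CohB1.ProjSpace 2 k ⟶ CohB1.ProjSpace n k), IsClosedImmersion i →
    Function.Surjective i.appTop →
    ((Scheme.Modules.pullback i).obj (_root_.Twist.twistProjSpace n k 1) ≅ _root_.Twist.twistProjSpace 2 k 1) →
    Horrocks11.IsSum k 2 ((Scheme.Modules.pullback i).obj E) → Horrocks11.IsSum k n E := by
  intro n
  induction n with
  | zero => intro h; omega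
  | succ N ih =>
    intro hN2 E hE i hi hs eO hl
    haveI := hi
    rcases Nat.lt_or_ge 1 N with hN | hN
    · obtain ⟨i', j, hi', -, hij, hs', ⟨ej⟩, ⟨ei⟩, hses⟩ := RankTwo11.Hyper.exists_hyperplane (by omega) i hs eO
      let D := CMReg18.projData k (N + 1)
      obtain ⟨r', a', e'⟩ := hl
      have hsum : Horrocks11.IsSum k N ((Scheme.Modules.pullback j).obj E) :=
        ih (by omega) _ (M2.isFinLocFree_pullback j hE) i' hi' hs' ei ⟨r', a', ⟨(Scheme.Modules.pullbackComp i' j).app _ ≪≫
          (Scheme.Modules.pullbackCongr hij).app _ ≪≫ e'.some⟩⟩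
      have hq : ∀ (t : ℤ) (q : ℕ), 1 ≤ q → q < N →
          Subsingleton (Coh.HH (CohB1.ProjSpace N k) ((Scheme.Modules.pullback j).obj (D.tw E t)) q) := fun t q h1 h2 =>
        CMReg18.van_iso k (M2.tensorIso (Iso.refl _) (RankTwo11.Hyper.nonempty_pull_twist j ej t).some.symm ≪≫
          (M2.pullTensorIso j _ _).symm) ((Horrocks11.van_of_isSum hsum).2 t q h1 h2)
      have hfree : ∀ t : ℤ, FlatMod.IsFinLocFree (D.tw E t) := fun t =>
        M2.isFinLocFree_tensor hE (M2.isFinLocFree_of_ofRank (RankTwo11.rank_O (k := k) (n := N + 1) t))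
      have hup : ∀ t : ℤ, Subsingleton (Coh.HH _ (D.tw E (t - 1)) 1) → Subsingleton (Coh.HH _ (D.tw E t) 1) := fun t h => by
        obtain ⟨S, hS, ⟨e1⟩, ⟨e2⟩, h3⟩ := hses (D.tw E t) (hfree t)
        haveI : Subsingleton (Coh.HH _ S.X₁ 1) := CMReg18.van_iso k (e1 ≪≫ D.twTwist E t (-1) ≪≫
          D.twIso E (sub_eq_add_neg t 1).symm).symm h
        haveI := (h3 1).2 (hq t 1 le_rfl hN)
        refine CMReg18.van_iso k e2 (subsingleton_of_forall_eq 0 fun x => ?_)
        obtain ⟨y, hy⟩ := (CurveCoh17.exact_hmap_hmap k (S := S) hS 1 x).1 (Subsingleton.elim _ _)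
        rw [← hy, Subsingleton.elim y 0, map_zero]
      have hdown : ∀ (t : ℤ) (q : ℕ), 1 ≤ q → q < N → Subsingleton (Coh.HH _ (D.tw E t) (q + 1)) →
          Subsingleton (Coh.HH _ (D.tw E (t - 1)) (q + 1)) := fun t q h1 h2 h => by
        obtain ⟨S, hS, ⟨e1⟩, ⟨e2⟩, h3⟩ := hses (D.tw E t) (hfree t)
        haveI : Subsingleton (Coh.HH _ S.X₂ (q + 1)) := CMReg18.van_iso k e2.symm h
        haveI := (h3 q).2 (hq t q h1 h2)
        refine CMReg18.van_iso k (e1 ≪≫ D.twTwist E t (-1) ≪≫ D.twIso E (sub_eq_add_neg t 1).symm)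
          (subsingleton_of_forall_eq 0 fun x => ?_)
        obtain ⟨y, hy⟩ := (CurveCoh17.exact_hdelta_hmap k (S := S) hS q x).1 (Subsingleton.elim _ _)
        rw [← hy, Subsingleton.elim y 0, map_zero]
      have hEc : Coh.IsCoh E := CohFound.isCoh_of_isFinLocFree hE
      haveI := CMReg18.isProper_projSpace k (n := N + 1)
      obtain ⟨a₀, ha₀⟩ := D.exists_van_large k (CMReg18.isAmple_twistOne k) hEc
      obtain ⟨m₀, hm₀⟩ := ES11.negVan_of_isFinLocFree (k := k) (r := N + 1) 1 (by omega) hE
      refine (Horrocks11.isSum_iff (k := k) (by omega) hEc).2 ⟨?_, fun t q h1 h2 => ?_⟩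
      · obtain ⟨m₁, hm₁⟩ := ES11.negVan_of_isFinLocFree (k := k) (r := N + 1) 0 (by omega) hE
        exact ⟨-m₁, fun m hm => by
          have h0 := hm₁ (-m) (by omega)
          exact CMReg18.van_iso k (D.twIso E (neg_neg m)) h0⟩
      obtain rfl | ⟨q, rfl⟩ : q = 1 ∨ ∃ q', q = q' + 1 + 1 :=
        (show q = 1 ∨ 2 ≤ q by omega).imp id fun h => ⟨q - 2, by omega⟩
      · have main : ∀ (d : ℕ), Subsingleton (Coh.HH _ (D.tw E (-m₀ + (d : ℤ))) 1) := by
          intro d
          induction d with
          | zero => exact CMReg18.van_iso k (D.twIso E (by simp)) (hm₀ m₀ le_rfl)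
          | succ d hd =>
            exact hup _ (CMReg18.van_iso k (D.twIso E (by push_cast; ring)) hd)
        by_cases ht : -m₀ ≤ t
        · exact CMReg18.van_iso k (D.twIso E (by omega)) (main (t + m₀).toNat)
        · exact CMReg18.van_iso k (D.twIso E (by omega)) (hm₀ (-t) (by omega))
      · have main : ∀ (d : ℕ), Subsingleton (Coh.HH _ (D.tw E (a₀ - (d : ℤ))) (q + 1 + 1)) := by
          intro d
          induction d with
          | zero => exact CMReg18.van_iso k (D.twIso E (by simp)) (ha₀ _ a₀ (by omega) le_rfl)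
          | succ d hd =>
            exact CMReg18.van_iso k (D.twIso E (by push_cast; ring)) (hdown _ (q + 1) (by omega) (by omega) hd)
        by_cases ht : t ≤ a₀
        · exact CMReg18.van_iso k (D.twIso E (by omega)) (main (a₀ - t).toNat)
        · exact ha₀ _ t (by omega) (by omega)
    · obtain rfl : N = 1 := by omega
      haveI : IsIntegral (CohB1.ProjSpace 2 k) := RegExt.isIntegral_projSpace 2 k
      haveI : Surjective i := ⟨ProjDeg17.surjective_of_isFinite_of_dim i
        (by rw [Groth.Agent.S10829.result k 2])⟩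
      haveI : IsIso i := isIso_of_isClosedImmersion_of_surjective i
      let eO' : (Scheme.Modules.pullback (inv i)).obj (_root_.Twist.twistProjSpace 2 k 1) ≅ _root_.Twist.twistProjSpace 2 k 1 :=
        (Scheme.Modules.pullback (inv i)).mapIso eO.symm ≪≫ (Scheme.Modules.pullbackComp (inv i) i).app _ ≪≫
          (Scheme.Modules.pullbackCongr (IsIso.inv_hom_id i)).app _ ≪≫ (Scheme.Modules.pullbackId _).app _
      obtain ⟨r'', a'', ⟨e''⟩⟩ := isSum_pullback (inv i) eO' hl
      exact ⟨r'', a'', ⟨((Scheme.Modules.pullbackId _).app E).symm ≪≫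
        (Scheme.Modules.pullbackCongr (IsIso.inv_hom_id i).symm).app _ ≪≫
        ((Scheme.Modules.pullbackComp (inv i) i).app E).symm ≪≫ e''⟩⟩

open CategoryTheory CategoryTheory.Limits AlgebraicGeometry in
/-- Let k be an algebraically closed field of characteristic zero, n ≥ 2, E a finite locally free
O-module of rank r on P^n_k, and i : P^2_k → P^n_k a closed immersion of k-schemes along which O(1)
pulls back to O(1) (the embedding of a plane). If i^*E ≅ O(a_1) ⊕ ⋯ ⊕ O(a_r) on P^2_k for some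
integers a_j, then E ≅ O(b_1) ⊕ ⋯ ⊕ O(b_r) on P^n_k for some integers b_j. The published statement
is an equivalence; this row states the direction from the plane to P^n_k, the converse being
immediate. -/
theorem result (k : Type u) [Field k] [IsAlgClosed k] [CharZero k]
    (n r : ℕ) (hn : 2 ≤ n) (E : (CohB1.ProjSpace n k).Modules) (hE : FlatMod.IsFinLocFreeOfRank r E)
    (i : CohB1.ProjSpace 2 k ⟶ CohB1.ProjSpace n k) [IsClosedImmersion i]
    (hi : i ≫ CohB1.ProjSpace.toSpec n k = CohB1.ProjSpace.toSpec 2 k)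
    (hO : Nonempty ((Scheme.Modules.pullback i).obj (Twist.twistProjSpace n k 1) ≅ Twist.twistProjSpace 2 k 1))
    (hsplit : ∃ a : Fin r → ℤ,
      Nonempty ((Scheme.Modules.pullback i).obj E ≅ ∐ fun j : Fin r => Twist.twistProjSpace 2 k (a j))) :
    ∃ b : Fin r → ℤ, Nonempty (E ≅ ∐ fun j : Fin r => Twist.twistProjSpace n k (b j)) := by
  open Groth.Agent in
  obtain ⟨eO⟩ := hO
  obtain ⟨a, e⟩ := hsplit
  have hs : Function.Surjective i.appTop := by
    intro y
    obtain ⟨c, rfl⟩ := (RankTwo11.bijective_toGlobal k 2).2 y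
    refine ⟨Coh.toGlobal (CohB1.ProjSpace.toSpec n k) c, ?_⟩
    rw [← hi]
    rfl
  have hS := splitPlane k n hn E (M2.isFinLocFree_of_ofRank hE) i inferInstance hs eO ⟨r, a, e⟩
  exact (S11486.result k n r E hE).2 fun q d hq hqn => (Horrocks11.van_of_isSum hS).2 d q hq hqn

end Groth.Agent.S11487
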