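import Groth.Statements.S11488
import Groth.Agent.Lib.RankTwo11.Pencil
import Groth.Agent.S11486
import Groth.Agent.S11487
import Groth.Agent.Lib.RankTwo11.Serre

set_option autoImplicit false
universe u
open VBPn

namespace Groth.Agent.S11488

set_option backward.isDefEq.respectTransparency false
set_option backward.isDefEq.respectTransparency.types false
set_option maxHeartbeats 1000000

section

open Groth.Agent CategoryTheory CategoryTheory.Limits AlgebraicGeometry

variable (k : Type u) [Field k]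

/-- Triviality on the lines through a point. -/
def LineHyp {n : ℕ} (r : ℕ) (E : (CohB1.ProjSpace n k).Modules) (x : ↥(CohB1.ProjSpace n k)) : Prop :=
  ∀ (i : CohB1.ProjSpace 1 k ⟶ CohB1.ProjSpace n k) [IsClosedImmersion i],
    i ≫ CohB1.ProjSpace.toSpec n k = CohB1.ProjSpace.toSpec 1 k →
    Nonempty ((Scheme.Modules.pullback i).obj (_root_.Twist.twistProjSpace n k 1) ≅ _root_.Twist.twistProjSpace 1 k 1) →
    x ∈ Set.range i.base →
    Nonempty ((Scheme.Modules.pullback i).obj E ≅ FlatMod.freeMod (CohB1.ProjSpace 1 k) r)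

theorem point (r : ℕ) (E : (CohB1.ProjSpace 0 k).Modules) (hE : FlatMod.IsFinLocFreeOfRank r E) :
    Nonempty (E ≅ FlatMod.freeMod (CohB1.ProjSpace 0 k) r) := by
  haveI : IsIntegral (CohB1.ProjSpace 0 k) := RegExt.isIntegral_projSpace 0 k
  obtain ⟨U, hU, ⟨e⟩⟩ := hE (genericPoint (CohB1.ProjSpace 0 k))
  haveI := CMReg18.isProper_projSpace k (n := 0)
  haveI : AlgebraicGeometry.IsNoetherian (CohB1.ProjSpace 0 k) :=
    CohFound.isNoetherian_of_isProper (CohB1.ProjSpace 0 k ↘ Spec (CommRingCat.of k))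
  have hone : ∀ x : CohB1.ProjSpace 0 k, x = genericPoint (CohB1.ProjSpace 0 k) := by
    intro x
    have h1 := (VB17.ringKrullDim_stalk_le_topologicalKrullDim x).trans (Groth.Agent.S10829.result k 0).le
    rw [ringKrullDim_stalk_eq_coheight] at h1
    have h2 : Order.coheight x = 0 := nonpos_iff_eq_zero.1 (by exact_mod_cast h1)
    exact ((AlgebraicGeometry.Scheme.le_iff_specializes.1 (Order.coheight_eq_zero.1 h2
      (AlgebraicGeometry.Scheme.le_iff_specializes.2 (genericPoint_specializes x)))).antisymm (genericPoint_specializes x)).eq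
  obtain rfl : U = ⊤ := TopologicalSpace.Opens.ext (Set.eq_univ_of_forall fun x => by rw [hone x]; exact hU)
  exact Groth.Agent.S11486.nonempty_iso_of_restrict_top E r e

theorem van_retract {n : ℕ} {A B : (CohB1.ProjSpace n k).Modules} (f : A ⟶ B) (g : B ⟶ A) (hfg : f ≫ g = 𝟙 A) {q : ℕ}
    (h : Subsingleton (Coh.HH _ B q)) : Subsingleton (Coh.HH _ A q) :=
  ⟨fun x y => by rw [← CurveCoh17.hmap_id k A q x, ← CurveCoh17.hmap_id k A q y, ← hfg, CurveCoh17.hmap_comp,
    CurveCoh17.hmap_comp, Subsingleton.elim (CurveCoh17.hmap k f q x) (CurveCoh17.hmap k f q y)]⟩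

/-- A sum of twists that is trivial has only zero twists. -/
theorem degree_zero (r : ℕ) (a : Fin r → ℤ)
    (e : (∐ fun j : Fin r => _root_.Twist.twistProjSpace 1 k (a j)) ≅ FlatMod.freeMod (CohB1.ProjSpace 1 k) r) :
    ∀ j, a j = 0 := by
  intro j
  let f : Fin r → (CohB1.ProjSpace 1 k).Modules := fun j => _root_.Twist.twistProjSpace 1 k (a j)
  refine le_antisymm (not_lt.1 fun hj => ?_) (not_lt.1 fun hj => ?_)
  · have h0 : Subsingleton (Coh.HH _ (CohB1.tensorMod (∐ f) (_root_.Twist.twistProjSpace 1 k (-1))) 0) :=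
      CMReg18.van_iso k (M2.tensorIso e.symm (Iso.refl _))
        (Euler2.subsingleton_HH_freeMod_tensor r _ (Groth.Agent.S0844.result k 1 (-1) 0 (by omega) (by omega)))
    have h1 : Subsingleton (Coh.HH _ (CohB1.tensorMod (f j) (_root_.Twist.twistProjSpace 1 k (-1))) 0) :=
      van_retract k ((M2.tensorR _).map (Sigma.ι f j)) ((M2.tensorR _).map (P1Split.proj f j))
        (by rw [← Functor.map_comp, P1Split.ι_proj_self, CategoryTheory.Functor.map_id]) h0
    have h2 := (RankTwo11.subsingleton_O_iff (k := k) (n := 1) le_rfl _).1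
      (CMReg18.van_iso k (RankTwo11.addIso (a j) (-1)) h1)
    omega
  · have hz : e.inv ≫ P1Split.proj f j = 0 := Sigma.hom_ext _ _ fun l => by
      rw [comp_zero]
      exact RankTwo11.eq_zero_of_subsingleton
        ((RankTwo11.subsingleton_O_iff (k := k) (n := 1) le_rfl _).2 hj) _
    have h1 : 𝟙 (f j) = 0 := by
      rw [← P1Split.ι_proj_self f j, ← Category.id_comp (P1Split.proj f j), ← e.hom_inv_id, Category.assoc, hz,
        comp_zero, comp_zero]
    obtain ⟨m, hm⟩ := RankTwo11.exists_ne_zero_twist (k := k) (n := 1) (le_refl (a j))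
    exact hm (by rw [← Category.id_comp m, show 𝟙 (_root_.Twist.twistProjSpace 1 k (a j)) = 0 from h1, zero_comp])

variable [IsAlgClosed k] [CharZero k]

theorem exists_orthogonal {n : ℕ} (z : Fin (n + 1) → k) {p l : Fin (n + 1)} (hpl : p ≠ l) :
    ∑ i, (Pi.single p (z l) - Pi.single l (z p) : Fin (n + 1) → k) i * z i = 0 := by
  simp only [Pi.sub_apply, sub_mul, Finset.sum_sub_distrib, Pi.single_apply, ite_mul, zero_mul, Finset.sum_ite_eq',
    Finset.mem_univ, if_true]
  ring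

/-- The planar case. -/
theorem plane (r : ℕ) (E : (CohB1.ProjSpace 2 k).Modules) (hE : FlatMod.IsFinLocFreeOfRank r E)
    (x : ↥(CohB1.ProjSpace 2 k)) (hx : IsClosed ({x} : Set ↥(CohB1.ProjSpace 2 k))) (h : LineHyp k r E x) :
    Horrocks11.IsSum k 2 E ∧ ∃ i : CohB1.ProjSpace 1 k ⟶ CohB1.ProjSpace 2 k,
      Nonempty ((Scheme.Modules.pullback i).obj (_root_.Twist.twistProjSpace 2 k 1) ≅ _root_.Twist.twistProjSpace 1 k 1) ∧
      Nonempty ((Scheme.Modules.pullback i).obj E ≅ FlatMod.freeMod (CohB1.ProjSpace 1 k) r) := by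
  obtain ⟨z, hz, hzc⟩ := RankTwo11.Pencil.exists_coords x hx
  obtain ⟨l, hl⟩ := Function.ne_iff.1 hz
  have hl' : z l ≠ 0 := hl
  obtain ⟨p, q, hp, hq, hpq⟩ : ∃ p q : Fin 3, p ≠ l ∧ q ≠ l ∧ p ≠ q := by
    fin_cases l
    · exact ⟨1, 2, by decide, by decide, by decide⟩
    · exact ⟨0, 2, by decide, by decide, by decide⟩
    · exact ⟨0, 1, by decide, by decide, by decide⟩
  let c : Fin 3 → k := Pi.single p (z l) - Pi.single l (z p)
  let d : Fin 3 → k := Pi.single q (z l) - Pi.single l (z q)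
  have hd0 : d ≠ 0 := fun h0 => hl' (by simpa [d, Pi.single_apply, hq] using congrFun h0 q)
  have hd : ∑ i, d i * z i = 0 := exists_orthogonal k z hq
  have hc0 : ∀ a : k, c + a • d ≠ 0 := fun a h0 => hl' (by
    simpa [c, d, Pi.single_apply, hp, hpq] using congrFun h0 p)
  have hc : ∀ a : k, ∑ i, (c + a • d) i * z i = 0 := fun a => by
    simp only [Pi.add_apply, Pi.smul_apply, smul_eq_mul, add_mul, mul_assoc, Finset.sum_add_distrib, ← Finset.mul_sum]
    rw [show ∑ i, c i * z i = 0 from exists_orthogonal k z hp, hd, mul_zero, add_zero]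
  let D := CMReg18.projData k 2
  have hfree : ∀ t : ℤ, FlatMod.IsFinLocFree (D.tw E t) := fun t =>
    M2.isFinLocFree_tensor (M2.isFinLocFree_of_ofRank hE) (M2.isFinLocFree_of_ofRank (RankTwo11.rank_O (k := k) (n := 2) t))
  -- the multiplication maps of the pencil
  have key : ∀ v : Fin 3 → k, v ≠ 0 → ∑ i, v i * z i = 0 → ∀ t : ℤ,
      (-1 ≤ t → Function.Surjective (CurveCoh17.hmap k (RankTwo11.Pencil.mu (D.tw E t) v) 1)) ∧
      (t < 0 → Function.Injective (CurveCoh17.hmap k (RankTwo11.Pencil.mu (D.tw E t) v) 1)) := fun v hv0 hv t => by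
    obtain ⟨j, hj, hjs, ⟨ej⟩, hrange, hmu⟩ := RankTwo11.Pencil.mu_data (m := 1) v hv0
    obtain ⟨et⟩ := h j hjs ⟨ej⟩ (by rw [hrange]; exact hzc v hv0 hv)
    let eE := M2.pullTensorIso j E (_root_.Twist.twistProjSpace 2 k t) ≪≫
      M2.tensorIso et (RankTwo11.Hyper.nonempty_pull_twist j ej t).some
    refine ⟨fun ht => (hmu _ (hfree t) 1).1 ?_, fun ht => (hmu _ (hfree t) 0).2 ?_⟩
    · exact CMReg18.van_iso k eE.symm
        (Euler2.subsingleton_HH_freeMod_tensor r _ (Groth.Agent.S0844.result k 1 t 1 (by omega) (by omega)))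
    · exact CMReg18.van_iso k eE.symm
        (Euler2.subsingleton_HH_freeMod_tensor r _ (Groth.Agent.S0844.result k 1 t 0 (by omega) (by omega)))
  have hm1 : Subsingleton (Coh.HH _ (D.tw E (-1)) 1) := by
    haveI := CMReg18.isProper_projSpace k (n := 2)
    haveI := D.finite_HH k (CurveCoh17.isCoh_of_ofRank hE) (-1 + -1) 1
    haveI : Module.Finite k (Coh.HH (CohB1.ProjSpace 2 k) (CohB1.tensorMod (D.tw E (-1)) (_root_.Twist.twistProjSpace 2 k (-1))) 1) :=
      Module.Finite.equiv (CurveCoh17.hequiv k (D.twTwist E (-1) (-1)) 1).symm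
    have hadd : ∀ a : k, CurveCoh17.hmap k (RankTwo11.Pencil.mu (D.tw E (-1)) c) 1 +
        a • CurveCoh17.hmap k (RankTwo11.Pencil.mu (D.tw E (-1)) d) 1 =
          CurveCoh17.hmap k (RankTwo11.Pencil.mu (D.tw E (-1)) (c + a • d)) 1 := fun a => LinearMap.ext fun y => by
      rw [LinearMap.add_apply, LinearMap.smul_apply, RankTwo11.Pencil.mu_add, RankTwo11.Pencil.mu_smul]
      refine Eq.symm ((CMReg18.hmap_add k _ _ 1 y).trans ?_)
      rw [CurveCoh17.hmap_comp, RankTwo11.Pencil.hmap_smulHom]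
    haveI : Subsingleton (Coh.HH _ (CohB1.tensorMod (D.tw E (-1)) (_root_.Twist.twistProjSpace 2 k (-1))) 1) :=
      RankTwo11.Pencil.subsingleton_of_pencil _ _
        ⟨(key d hd0 hd (-1)).2 (by omega), (key d hd0 hd (-1)).1 le_rfl⟩
        fun a => by rw [hadd]; exact (key _ (hc0 a) (hc a) (-1)).2 (by omega)
    exact Function.Surjective.subsingleton ((key d hd0 hd (-1)).1 le_rfl)
  have hup : ∀ m : ℕ, Subsingleton (Coh.HH _ (D.tw E (-1 + (m : ℤ))) 1) := by
    intro m
    induction m with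
    | zero => exact CMReg18.van_iso k (D.twIso E (by simp)) hm1
    | succ m ih =>
      haveI : Subsingleton (Coh.HH (CohB1.ProjSpace 2 k)
          (CohB1.tensorMod (D.tw E (-1 + ((m + 1 : ℕ) : ℤ))) (_root_.Twist.twistProjSpace 2 k (-1))) 1) :=
        CMReg18.van_iso k ((D.twTwist E _ (-1) ≪≫ D.twIso E (by push_cast; ring)).symm) ih
      exact Function.Surjective.subsingleton ((key d hd0 hd (-1 + ((m + 1 : ℕ) : ℤ))).1 (by omega))
  have hdown : ∀ m : ℕ, Subsingleton (Coh.HH _ (D.tw E (-1 - (m : ℤ))) 1) := by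
    intro m
    induction m with
    | zero => exact CMReg18.van_iso k (D.twIso E (by simp)) hm1
    | succ m ih =>
      haveI := ih
      exact CMReg18.van_iso k (D.twTwist E _ (-1) ≪≫ D.twIso E (by push_cast; ring))
        (Function.Injective.subsingleton ((key d hd0 hd (-1 - (m : ℤ))).2 (by omega)))
  refine ⟨?_, ?_⟩
  · obtain ⟨a, e⟩ := (Groth.Agent.S11486.result k 2 r E hE).2 fun q t h1 h2 => by
      obtain rfl : q = 1 := by omega
      by_cases ht : -1 ≤ t
      · exact CMReg18.van_iso k (D.twIso E (by omega)) (hup (t + 1).toNat)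
      · exact CMReg18.van_iso k (D.twIso E (by omega)) (hdown (-1 - t).toNat)
    exact ⟨r, a, e⟩
  · obtain ⟨j, hj, hjs, ej, hrange, -⟩ := RankTwo11.Pencil.mu_data (m := 1) d hd0
    exact ⟨j, ej, h j hjs ej (by rw [hrange]; exact hzc d hd0 hd)⟩

/-- A plane on which the bundle splits, with a line on which it is trivial. -/
theorem exists_plane (r : ℕ) : ∀ (m : ℕ) (E : (CohB1.ProjSpace (m + 2) k).Modules),
    FlatMod.IsFinLocFreeOfRank r E → ∀ x : ↥(CohB1.ProjSpace (m + 2) k),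
    IsClosed ({x} : Set ↥(CohB1.ProjSpace (m + 2) k)) → LineHyp k r E x →
    ∃ p : CohB1.ProjSpace 2 k ⟶ CohB1.ProjSpace (m + 2) k, IsClosedImmersion p ∧ Function.Surjective p.appTop ∧
      Nonempty ((Scheme.Modules.pullback p).obj (_root_.Twist.twistProjSpace (m + 2) k 1) ≅ _root_.Twist.twistProjSpace 2 k 1) ∧
      Horrocks11.IsSum k 2 ((Scheme.Modules.pullback p).obj E) ∧
      ∃ i : CohB1.ProjSpace 1 k ⟶ CohB1.ProjSpace (m + 2) k,
        Nonempty ((Scheme.Modules.pullback i).obj (_root_.Twist.twistProjSpace (m + 2) k 1) ≅ _root_.Twist.twistProjSpace 1 k 1) ∧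
        Nonempty ((Scheme.Modules.pullback i).obj E ≅ FlatMod.freeMod (CohB1.ProjSpace 1 k) r) := by
  intro m
  induction m with
  | zero =>
    intro E hE x hx h
    obtain ⟨⟨r', a, ⟨e⟩⟩, i, ei, et⟩ := plane k r E hE x hx h
    exact ⟨𝟙 _, inferInstance, fun y => ⟨y, by simp⟩, ⟨(Scheme.Modules.pullbackId _).app _⟩,
      ⟨r', a, ⟨(Scheme.Modules.pullbackId _).app E ≪≫ e⟩⟩, i, ei, et⟩
  | succ m ih =>
    intro E hE x hx h
    obtain ⟨z, -, hzc⟩ := RankTwo11.Pencil.exists_coords x hx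
    obtain ⟨c, hc0, hc⟩ : ∃ c : Fin (m + 2 + 1 + 1) → k, c ≠ 0 ∧ ∑ i, c i * z i = 0 := by
      by_cases hz0 : z 0 = 0
      · exact ⟨Pi.single 0 1, fun h0 => one_ne_zero (α := k) (by simpa using congrFun h0 0),
          by simp [Pi.single_apply, ite_mul, hz0]⟩
      · refine ⟨Pi.single 1 (z 0) - Pi.single 0 (z 1), fun h0 => hz0 ?_, exists_orthogonal k z (by simp)⟩
        simpa [Pi.single_apply] using congrFun h0 1
    obtain ⟨j, hj, hjs, ⟨ej⟩, hrange, -⟩ := RankTwo11.Pencil.mu_data (m := m + 2) c hc0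
    obtain ⟨x', hx'⟩ : x ∈ Set.range j.base := by rw [hrange]; exact hzc c hc0 hc
    have hinj := j.isClosedEmbedding.injective
    have hx'c : IsClosed ({x'} : Set ↥(CohB1.ProjSpace (m + 2) k)) := by
      rw [show ({x'} : Set ↥(CohB1.ProjSpace (m + 2) k)) = j.base ⁻¹' {x} from Set.ext fun y =>
        ⟨fun hy => (congrArg j.base (show y = x' from hy)).trans hx', fun hy => hinj ((show j.base y = x from hy).trans hx'.symm)⟩]
      exact hx.preimage j.base.hom.continuous
    have h' : LineHyp k r ((Scheme.Modules.pullback j).obj E) x' := fun i _ his hiO hix => by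
      obtain ⟨ei⟩ := hiO
      obtain ⟨y, hy⟩ := hix
      obtain ⟨et⟩ := h (i ≫ j) (by rw [Category.assoc, hjs, his])
        ⟨((Scheme.Modules.pullbackComp i j).app _).symm ≪≫ (Scheme.Modules.pullback i).mapIso ej ≪≫ ei⟩
        ⟨y, by rw [← hx', ← hy]; rfl⟩
      exact ⟨(Scheme.Modules.pullbackComp i j).app E ≪≫ et⟩
    obtain ⟨p, hp, hps, ⟨ep⟩, ⟨r', a, ⟨e⟩⟩, i, ⟨ei⟩, ⟨et⟩⟩ := ih _ (M2.isFinLocFreeOfRank_pullback j hE) x' hx'c h'
    haveI := hp
    refine ⟨p ≫ j, inferInstance, ?_, ⟨((Scheme.Modules.pullbackComp p j).app _).symm ≪≫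
      (Scheme.Modules.pullback p).mapIso ej ≪≫ ep⟩, ⟨r', a, ⟨((Scheme.Modules.pullbackComp p j).app E).symm ≪≫ e⟩⟩,
      i ≫ j, ⟨((Scheme.Modules.pullbackComp i j).app _).symm ≪≫ (Scheme.Modules.pullback i).mapIso ej ≪≫ ei⟩,
      ⟨((Scheme.Modules.pullbackComp i j).app E).symm ≪≫ et⟩⟩
    intro y
    obtain ⟨y', rfl⟩ := hps y
    obtain ⟨a', rfl⟩ := (RankTwo11.bijective_toGlobal k (m + 2)).2 y'
    refine ⟨Coh.toGlobal (CohB1.ProjSpace.toSpec (m + 2 + 1) k) a', ?_⟩
    show p.appTop (j.appTop _) = _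
    congr 1
    rw [← hjs]
    rfl

end

open CategoryTheory CategoryTheory.Limits AlgebraicGeometry in
/-- Let k be an algebraically closed field of characteristic zero, E a finite locally free O-module of
rank r on P^n_k and x a closed point of P^n_k. If i^*E ≅ O^r for every line through x, that is for
every closed immersion of k-schemes i : P^1_k → P^n_k along which O(1) pulls back to O(1) and whose
image contains x, then E ≅ O^r. -/
theorem result (k : Type u) [Field k] [IsAlgClosed k] [CharZero k]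
    (n r : ℕ) (E : (CohB1.ProjSpace n k).Modules) (hE : FlatMod.IsFinLocFreeOfRank r E) (x : ↥(CohB1.ProjSpace n k))
    (hx : IsClosed ({x} : Set ↥(CohB1.ProjSpace n k)))
    (h : ∀ (i : CohB1.ProjSpace 1 k ⟶ CohB1.ProjSpace n k) [IsClosedImmersion i],
      i ≫ CohB1.ProjSpace.toSpec n k = CohB1.ProjSpace.toSpec 1 k →
      Nonempty ((Scheme.Modules.pullback i).obj (Twist.twistProjSpace n k 1) ≅ Twist.twistProjSpace 1 k 1) →
      x ∈ Set.range i.base →
      Nonempty ((Scheme.Modules.pullback i).obj E ≅ FlatMod.freeMod (CohB1.ProjSpace 1 k) r)) :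
    Nonempty (E ≅ FlatMod.freeMod (CohB1.ProjSpace n k) r) := by
  open Groth.Agent in
  haveI : IsIntegral (CohB1.ProjSpace n k) := RegExt.isIntegral_projSpace n k
  rcases Nat.lt_or_ge n 2 with hn | hn
  · obtain rfl | rfl : n = 0 ∨ n = 1 := by omega
    · exact point k r E hE
    · obtain ⟨e⟩ := h (𝟙 _) (Category.id_comp _)
        ⟨(Scheme.Modules.pullbackId _).app _⟩ ⟨x, rfl⟩
      exact ⟨((Scheme.Modules.pullbackId _).app E).symm ≪≫ e⟩
  obtain ⟨m, rfl⟩ : ∃ m, n = m + 2 := ⟨n - 2, by omega⟩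
  obtain ⟨p, hp, hps, ⟨ep⟩, hsum, i, ⟨ei⟩, ⟨et⟩⟩ := exists_plane k r m E hE x hx h
  have hS := S11487.splitPlane k (m + 2) hn E (M2.isFinLocFree_of_ofRank hE) p hp hps ep hsum
  obtain ⟨r', a, ⟨e⟩⟩ := hS
  have hr : r = r' := VB17.rank_unique hE
    (M2.isFinLocFreeOfRank_of_iso e.symm (S11486.rank_sigma _ fun j => Twist.isInvertible_twistProjSpace _ k (a j)))
  subst hr
  have ha : ∀ j, a j = 0 := degree_zero k r a (((Scheme.Modules.pullback i).mapIso e ≪≫
    PreservesCoproduct.iso (Scheme.Modules.pullback i) _ ≪≫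
    Sigma.mapIso fun j => (RankTwo11.Hyper.nonempty_pull_twist i ei (a j)).some).symm ≪≫ et)
  exact ⟨e ≪≫ Sigma.mapIso fun j => eqToIso (congrArg _ (ha j)) ≪≫ RankTwo11.zeroIso⟩

end Groth.Agent.S11488
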