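import Groth.Statements.S11489
import Groth.Agent.Lib.RankTwo11.TrivDet
import Groth.Agent.Lib.RankTwo11.Proj

set_option autoImplicit false
universe u
open VBPn

namespace Groth.Agent.S11489

open CategoryTheory CategoryTheory.Limits AlgebraicGeometry in
/-- Let k be a characteristic-zero algebraically closed field and E a finite locally free O-module of
rank r on P^n_k. If E is globally generated (there is an epimorphism O^N → E for some N) and its
first Chern class vanishes, in the sense that an r-th exterior power det E of E is isomorphic to O,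
then E ≅ O^r. -/
theorem result (k : Type u) [Field k] [IsAlgClosed k] [CharZero k]
    (n r : ℕ) (E : (CohB1.ProjSpace n k).Modules) (hE : FlatMod.IsFinLocFreeOfRank r E)
    (hgen : ∃ (N : ℕ) (φ : FlatMod.freeMod (CohB1.ProjSpace n k) N ⟶ E), Epi φ)
    (hdet : ∃ L : (CohB1.ProjSpace n k).Modules, ExtPow.IsExtPow r E L ∧
      Nonempty (L ≅ Coh.structureModule (CohB1.ProjSpace n k))) :
    Nonempty (E ≅ FlatMod.freeMod (CohB1.ProjSpace n k) r) := by
  obtain ⟨N, φ, hφ⟩ := hgen
  obtain ⟨L, hL, ⟨eL⟩⟩ := hdet
  haveI : IsIntegral (CohB1.ProjSpace n k) := RegExt.isIntegral_projSpace n k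
  haveI := hφ
  let e : k ≃+* Γ(CohB1.ProjSpace n k, ⊤) := RingEquiv.ofBijective _ (RankTwo11.bijective_toGlobal k n)
  exact RankTwo11.nonempty_iso_freeMod_of_gg (e.symm.toMulEquiv.isField (Field.toIsField k)) hE hL eL φ

end Groth.Agent.S11489
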