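import Groth.Statements.S11492
import Groth.Agent.Lib.GenSec26.Proj
-- import your own Groth.Agent.* helpers here

set_option autoImplicit false
set_option backward.isDefEq.respectTransparency false
universe u
open VBPn

namespace Groth.Agent.S11492

open CategoryTheory CategoryTheory.Limits AlgebraicGeometry in
/-- Let k be a characteristic-zero algebraically closed field and E a finite locally free O-module of
rank r > n on P^n_k. Then for some integer a, E sits in a short exact sequence of vector bundles 0 →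
O(a)^(r−n) → E → F → 0 with F of rank n: a monomorphism from the direct sum of r − n copies of O(a)
into E whose cokernel is finite locally free of rank n. -/
theorem result (k : Type u) [Field k] [IsAlgClosed k] [CharZero k]
    (n r : ℕ) (hrn : n < r) (E : (CohB1.ProjSpace n k).Modules) (hE : FlatMod.IsFinLocFreeOfRank r E) :
    ∃ (a : ℤ) (φ : (∐ fun _ : Fin (r - n) => Twist.twistProjSpace n k a) ⟶ E),
      Mono φ ∧ FlatMod.IsFinLocFreeOfRank n (cokernel φ) := by
  classical
  haveI := CMReg18.isProper_projSpace k (n := n)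
  haveI : IsLocallyNoetherian (CohB1.ProjSpace n k) :=
    LocallyOfFiniteType.isLocallyNoetherian (CohB1.ProjSpace.toSpec n k)
  obtain ⟨m, hm⟩ := RA.exists_globallyGenerated (CMReg18.isAmple_twistOne k (n := n)) E
    (CurveCoh17.isCoh_of_ofRank hE).1 (CurveCoh17.isCoh_of_ofRank hE).2
  let L := CohB1.tensorPow (Twist.twistProjSpace n k 1) m
  let D := Twist.twistProjSpace n k (-(m : ℤ))
  have hL : PicF.IsInvertible L := Amp.isInvertible_tensorPow (CMReg18.isAmple_twistOne k (n := n)).1 m
  let e : CohB1.tensorMod L D ≅ Coh.structureModule (CohB1.ProjSpace n k) :=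
    M2.tensorIso (NumPoly18.twistPowIso k n m) (Iso.refl D) ≪≫
      (Twist.nonempty_tensor_iso (CohB1.polyGrading n k) (m : ℤ) (-(m : ℤ))
        (Twist.iSup_basicOpen_one n k)).some ≪≫
      eqToIso (congrArg (Twist.twist (CohB1.polyGrading n k)) (add_neg_cancel (m : ℤ))) ≪≫
      (Twist.nonempty_twist_zero_iso (CohB1.polyGrading n k)).some
  have hE' : FlatMod.IsFinLocFreeOfRank (r - n + n) (CohB1.tensorMod E L) := by
    have := M2.isFinLocFreeOfRank_tensor hE ((M2.isInvertible_iff_isFinLocFreeOfRank_one L).1 hL)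
    rwa [mul_one, ← Nat.sub_add_cancel hrn.le] at this
  obtain ⟨φ', hφm, hφ'⟩ := GenSec26.exists_trivial_subbundle_over_field (CohB1.ProjSpace.toSpec n k)
    (S10829.result k n).le (j := r - n) (q := n) le_rfl hE' (hm m le_rfl)
  have hD : PicF.IsInvertible D := Twist.isInvertible_twistProjSpace n k _
  haveI := VB17.isEquivalence_tensorR hD
  haveI := hφm
  let G := M2.tensorR D
  let e₁ : (∐ fun _ : Fin (r - n) => Twist.twistProjSpace n k (-(m : ℤ))) ≅
      G.obj (FlatMod.freeMod (CohB1.ProjSpace n k) (r - n)) := (M2.freeModTensorIso _ (r - n) D).symm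
  let e₂ : G.obj (CohB1.tensorMod E L) ≅ E := M2.untwist e E
  refine ⟨-(m : ℤ), e₁.hom ≫ G.map φ' ≫ e₂.hom, inferInstance, ?_⟩
  refine M2.isFinLocFreeOfRank_of_iso
    (((cokernelEpiComp e₁.hom (G.map φ' ≫ e₂.hom)) ≪≫ cokernelCompIsIso (G.map φ') e₂.hom ≪≫
      (PreservesCokernel.iso G φ').symm).symm) ?_
  have := M2.isFinLocFreeOfRank_tensor hφ' ((M2.isInvertible_iff_isFinLocFreeOfRank_one D).1 hD)
  rwa [mul_one] at this

end Groth.Agent.S11492
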