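import Groth.Statements.S11493
import Groth.Agent.Lib.HomDim.Basic
import Mathlib.RingTheory.LocalRing.Module

set_option autoImplicit false
universe u
open CategoryTheory
open VBPn

namespace Groth.Agent.S11493

/-- Let A be a Noetherian local ring and I an ideal with a free resolution of length 1, 0 → A^p → A^q →
I → 0 (equivalently: a surjection A^q → I with free kernel). Let 0 → A → M → I → 0 be an extension
with class e ∈ Ext^1(I, A). Then M is free if and only if e generates the A-module Ext^1(I, A); the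
A-module structure being through End(A) = A, this says every element of Ext^1(I, A) is the composite
of e with an endomorphism of A. -/
theorem result (A : Type u) [CommRing A] [IsNoetherianRing A] [IsLocalRing A]
    (I : Ideal A)
    (hres : ∃ (q : ℕ) (φ : (Fin q → A) →ₗ[A] ↥I), Function.Surjective φ ∧ Module.Free A ↥(LinearMap.ker φ))
    (S : ShortComplex (ModuleCat.{u} A)) (hS : S.ShortExact)
    (h₁ : Nonempty (S.X₁ ≅ ModuleCat.of A A)) (h₃ : Nonempty (S.X₃ ≅ ModuleCat.of A ↥I)) :
    Module.Free A S.X₂ ↔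
      ∀ x : Abelian.Ext S.X₃ S.X₁ 1, ∃ f : S.X₁ ⟶ S.X₁, hS.extClass.comp (Abelian.Ext.mk₀ f) (add_zero 1) = x := by
  classical
  obtain ⟨q, ψ, hψ, hker⟩ := hres
  obtain ⟨e₁⟩ := h₁
  obtain ⟨e₃⟩ := h₃
  haveI : Projective S.X₁ := Projective.of_iso e₁.symm ((IsProjective.iff_projective A).1 inferInstance)
  haveI hp3 : HasProjectiveDimensionLT S.X₃ 2 := by
    haveI := hker
    let T : ShortComplex (ModuleCat.{u} A) := ModuleCat.shortComplexOfCompEqZero
      ψ.ker.subtype ψ (LinearMap.exact_subtype_ker_map ψ).linearMap_comp_eq_zero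
    have hT : T.ShortExact := ModuleCat.shortComplex_shortExact T
      (LinearMap.exact_subtype_ker_map ψ) ψ.ker.injective_subtype hψ
    haveI : Module.Projective A T.X₁ := inferInstanceAs (Module.Projective A ↥ψ.ker)
    haveI : Module.Projective A T.X₂ := inferInstanceAs (Module.Projective A (Fin q → A))
    have h1 : HasProjectiveDimensionLT T.X₁ 1 := inferInstance
    have h2 : HasProjectiveDimensionLT T.X₂ 2 := hasProjectiveDimensionLT_of_ge _ 1 2 (by omega)
    haveI : HasProjectiveDimensionLT T.X₃ 2 := hT.hasProjectiveDimensionLT_X₃ 1 h1 h2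
    exact hasProjectiveDimensionLT_of_iso (X := T.X₃) e₃.symm 2
  refine ⟨fun hfree x => ?_, fun h => ?_⟩
  · haveI := hfree
    haveI : Projective S.X₂ := (IsProjective.iff_projective (R := A) S.X₂).1 inferInstance
    obtain ⟨y, hy⟩ := Abelian.Ext.contravariant_sequence_exact₃ hS S.X₁ x
      (Abelian.Ext.eq_zero_of_projective _) (add_zero 1)
    obtain ⟨f, rfl⟩ := (Abelian.Ext.mk₀_bijective _ _).2 y
    exact ⟨f, hy⟩
  have hM1 : Subsingleton (Abelian.Ext S.X₂ S.X₁ 1) := by
    refine subsingleton_of_forall_eq 0 fun y => ?_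
    obtain ⟨x, hx⟩ := Abelian.Ext.contravariant_sequence_exact₂ hS S.X₁ y (Abelian.Ext.eq_zero_of_projective _)
    obtain ⟨f, hf⟩ := h x
    rw [← hx, ← hf, ShortComplex.ShortExact.comp_extClass_assoc hS]
  haveI hM2 : HasProjectiveDimensionLT S.X₂ 2 :=
    hS.hasProjectiveDimensionLT_X₂ 2 (hasProjectiveDimensionLT_of_ge _ 1 2 (by omega)) hp3
  have hA : Subsingleton (Abelian.Ext S.X₂ (ModuleCat.of A A) 1) := by
    refine subsingleton_of_forall_eq 0 fun y => ?_
    calc y = y.comp (Abelian.Ext.mk₀ (e₁.inv ≫ e₁.hom)) (add_zero 1) := by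
          rw [e₁.inv_hom_id, Abelian.Ext.comp_mk₀_id]
      _ = 0 := by
          rw [← Abelian.Ext.mk₀_comp_mk₀, ← Abelian.Ext.comp_assoc_of_second_deg_zero,
            @Subsingleton.elim _ hM1 (y.comp (Abelian.Ext.mk₀ e₁.inv) (add_zero 1)) 0, Abelian.Ext.zero_comp]
  haveI : Module.Finite A S.X₁ := Module.Finite.equiv (R := A) e₁.symm.toLinearEquiv
  haveI : Module.Finite A S.X₃ := Module.Finite.equiv (R := A) e₃.symm.toLinearEquiv
  haveI : Module.Finite A S.X₂ :=
    Module.Finite.of_exact ((ShortComplex.ShortExact.moduleCat_exact_iff_function_exact S).1 hS.exact) hS.moduleCat_surjective_g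
  have hp1 : HasProjectiveDimensionLT S.X₂ 1 := by
    refine HomDim.hasProjectiveDimensionLT_of_subsingleton_ext_finite 0 S.X₂ fun N hN => ?_
    haveI := hN
    obtain ⟨m, π, hπ⟩ := Module.Finite.exists_fin' A N
    have hfm : Subsingleton (Abelian.Ext S.X₂ (ModuleCat.of A (Fin m → A)) 1) := by
      refine subsingleton_of_forall_eq 0 fun x => ?_
      let Φ : (ModuleCat.of A (Fin m → A) ⟶ ModuleCat.of A (Fin m → A)) →+
          Abelian.Ext S.X₂ (ModuleCat.of A (Fin m → A)) 1 :=
        AddMonoidHom.mk' (fun φ => x.comp (Abelian.Ext.mk₀ φ) (add_zero 1)) fun φ φ' => by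
          rw [Abelian.Ext.mk₀_add, Abelian.Ext.comp_add]
      have hsum : 𝟙 (ModuleCat.of A (Fin m → A)) =
          ∑ j : Fin m, (ModuleCat.ofHom (LinearMap.proj j) ≫ ModuleCat.ofHom (LinearMap.single A (fun _ => A) j)) := by
        apply ModuleCat.hom_ext
        rw [ModuleCat.hom_sum]
        refine LinearMap.ext fun v => ?_
        rw [LinearMap.sum_apply]
        exact (Finset.univ_sum_single v).symm
      calc x = Φ (𝟙 _) := (Abelian.Ext.comp_mk₀_id x).symm
        _ = 0 := by
          rw [hsum, map_sum]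
          refine Finset.sum_eq_zero fun j _ => ?_
          show x.comp (Abelian.Ext.mk₀ (_ ≫ _)) (add_zero 1) = 0
          rw [← Abelian.Ext.mk₀_comp_mk₀, ← Abelian.Ext.comp_assoc_of_second_deg_zero,
            @Subsingleton.elim _ hA (x.comp (Abelian.Ext.mk₀ (ModuleCat.ofHom (LinearMap.proj j))) (add_zero 1)) 0,
            Abelian.Ext.zero_comp]
    let T : ShortComplex (ModuleCat.{u} A) := ModuleCat.shortComplexOfCompEqZero
      π.ker.subtype π (LinearMap.exact_subtype_ker_map π).linearMap_comp_eq_zero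
    have hT : T.ShortExact := ModuleCat.shortComplex_shortExact T
      (LinearMap.exact_subtype_ker_map π) π.ker.injective_subtype hπ
    refine subsingleton_of_forall_eq 0 fun x => ?_
    haveI := HasProjectiveDimensionLT.subsingleton S.X₂ 2 2 le_rfl T.X₁
    obtain ⟨y, hy⟩ := Abelian.Ext.covariant_sequence_exact₃ S.X₂ hT
      (x : Abelian.Ext S.X₂ T.X₃ 1) (rfl : 1 + 1 = 2) (Subsingleton.elim _ _)
    rw [← hy, @Subsingleton.elim _ hfm y 0, Abelian.Ext.zero_comp]
  haveI : Projective S.X₂ := projective_iff_hasProjectiveDimensionLT_one.2 hp1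
  haveI : Module.Projective A S.X₂ := (IsProjective.iff_projective S.X₂).2 this
  exact Module.free_of_flat_of_isLocalRing

end Groth.Agent.S11493
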