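import Groth.Statements.S11495
import Groth.Agent.Lib.RegLoc.GlobalDim
import Groth.Agent.Lib.HomDim.Basic

set_option autoImplicit false
universe u
open CategoryTheory
open VBPn

namespace Groth.Agent.S11495

/-- Let A be a regular local ring and M a finitely generated A-module. For every q ≥ 0, the projective
(homological) dimension of M is at most q if and only if Ext^i_A(M, A) = 0 for all i > q. The
published statement is for stalks of coherent analytic sheaves on a complex manifold; this row is
stated for any regular local ring. -/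
theorem result (A : Type u) [CommRing A] [IsRegularLocalRing A]
    (M : Type u) [AddCommGroup M] [Module A M] [Module.Finite A M] (q : ℕ) :
    HasProjectiveDimensionLT (ModuleCat.of A M) (q + 1) ↔
      ∀ i : ℕ, q < i → Subsingleton (Abelian.Ext (ModuleCat.of A M) (ModuleCat.of A A) i) := by
  classical
  refine ⟨fun h i hi => ?_, fun h => ?_⟩
  · haveI := h
    exact HasProjectiveDimensionLT.subsingleton (ModuleCat.of A M) (q + 1) i hi _
  have hfree : ∀ (i m : ℕ), q < i →
      Subsingleton (Abelian.Ext (ModuleCat.of A M) (ModuleCat.of A (Fin m → A)) i) := fun i m hi => by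
    haveI := h i hi
    refine subsingleton_of_forall_eq 0 fun x => ?_
    let Φ : (ModuleCat.of A (Fin m → A) ⟶ ModuleCat.of A (Fin m → A)) →+
        Abelian.Ext (ModuleCat.of A M) (ModuleCat.of A (Fin m → A)) i :=
      AddMonoidHom.mk' (fun φ => x.comp (Abelian.Ext.mk₀ φ) (add_zero i)) fun φ φ' => by
        rw [Abelian.Ext.mk₀_add, Abelian.Ext.comp_add]
    have hsum : 𝟙 (ModuleCat.of A (Fin m → A)) =
        ∑ j : Fin m, (ModuleCat.ofHom (LinearMap.proj j) ≫ ModuleCat.ofHom (LinearMap.single A (fun _ => A) j)) := by
      apply ModuleCat.hom_ext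
      rw [ModuleCat.hom_sum]
      refine LinearMap.ext fun v => ?_
      rw [LinearMap.sum_apply]
      exact (Finset.univ_sum_single v).symm
    calc x = Φ (𝟙 _) := (Abelian.Ext.comp_mk₀_id x).symm
      _ = 0 := by
        rw [hsum, map_sum]
        refine Finset.sum_eq_zero fun j _ => ?_
        show x.comp (Abelian.Ext.mk₀ (_ ≫ _)) (add_zero i) = 0
        rw [← Abelian.Ext.mk₀_comp_mk₀, ← Abelian.Ext.comp_assoc_of_second_deg_zero,
          Subsingleton.elim (x.comp (Abelian.Ext.mk₀ (ModuleCat.ofHom (LinearMap.proj j))) (add_zero i)) 0,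
          Abelian.Ext.zero_comp]
  have key : ∀ j, HasProjectiveDimensionLT (ModuleCat.of A M) (q + 1 + j) →
      HasProjectiveDimensionLT (ModuleCat.of A M) (q + 1) := by
    intro j
    induction j with
    | zero => exact id
    | succ j ih =>
      intro hj
      refine ih ?_
      rw [show q + 1 + j = (q + j) + 1 by omega]
      refine HomDim.hasProjectiveDimensionLT_of_subsingleton_ext_finite (q + j) (ModuleCat.of A M) fun N hN => ?_
      obtain ⟨m, π, hπ⟩ := Module.Finite.exists_fin' A N
      let S : ShortComplex (ModuleCat.{u} A) := ModuleCat.shortComplexOfCompEqZero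
        π.ker.subtype π (LinearMap.exact_subtype_ker_map π).linearMap_comp_eq_zero
      have hS : S.ShortExact := ModuleCat.shortComplex_shortExact S
        (LinearMap.exact_subtype_ker_map π) π.ker.injective_subtype hπ
      refine subsingleton_of_forall_eq 0 fun x => ?_
      haveI := hj
      haveI := HasProjectiveDimensionLT.subsingleton (ModuleCat.of A M) (q + 1 + (j + 1)) (q + j + 2) (by omega) S.X₁
      obtain ⟨y, hy⟩ := Abelian.Ext.covariant_sequence_exact₃ (ModuleCat.of A M) hS
        (x : Abelian.Ext (ModuleCat.of A M) S.X₃ (q + j + 1)) (rfl : q + j + 1 + 1 = q + j + 2) (Subsingleton.elim _ _)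
      haveI : Subsingleton (Abelian.Ext (ModuleCat.of A M) S.X₂ (q + j + 1)) := hfree _ m (by omega)
      rw [← hy, Subsingleton.elim y 0, Abelian.Ext.zero_comp]
  set d := (IsLocalRing.maximalIdeal A).spanFinrank with hd
  haveI := RegLoc.hasProjectiveDimensionLT_of_regular hd.symm (ModuleCat.of A M)
  exact key d (hasProjectiveDimensionLT_of_ge _ (d + 1) (q + 1 + d) (by omega))

end Groth.Agent.S11495
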