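import Groth.Statements.S11496
import Groth.Agent.Lib.RegLoc.GlobalDim
import Mathlib.RingTheory.KrullDimension.NonZeroDivisors

set_option autoImplicit false
universe u
open CategoryTheory
open VBPn

namespace Groth.Agent.S11496

/-- Let A be a regular local ring, M a finitely generated A-module and i ≥ 0. The support of Ext^i_A(M,
A) has dimension at most dim A − i: for every prime ideal p of A such that Ext^i over the
localization A_p of M_p into A_p is nonzero (this Ext group is the localization at p of Ext^i_A(M,
A)), one has dim(A/p) + i ≤ dim A. The published statement is for coherent analytic sheaves on an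
n-dimensional complex manifold; this row is stated for any regular local ring. -/
theorem result (A : Type u) [CommRing A] [IsRegularLocalRing A]
    (M : Type u) [AddCommGroup M] [Module A M] [Module.Finite A M] (i : ℕ) (p : Ideal A) [p.IsPrime]
    (h : Nontrivial (Abelian.Ext
      (ModuleCat.of (Localization.AtPrime p) (LocalizedModule p.primeCompl M))
      (ModuleCat.of (Localization.AtPrime p) (Localization.AtPrime p)) i)) :
    ringKrullDim (A ⧸ p) + (i : WithBot ℕ∞) ≤ ringKrullDim A := by
  classical
  let R := Localization.AtPrime p
  haveI : IsRegularLocalRing R := RegLoc.isRegularLocalRing_localization A p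
  set d := (IsLocalRing.maximalIdeal R).spanFinrank with hd
  have h1 : (d : WithBot ℕ∞) = p.height := by
    rw [← IsLocalization.AtPrime.ringKrullDim_eq_height p R]
    exact IsRegularLocalRing.spanFinrank_maximalIdeal
  have hi : i ≤ d := by
    by_contra hlt
    push Not at hlt
    haveI := RegLoc.hasProjectiveDimensionLT_of_regular hd.symm
      (ModuleCat.of R (LocalizedModule p.primeCompl M))
    have := HasProjectiveDimensionLT.subsingleton
      (ModuleCat.of R (LocalizedModule p.primeCompl M)) (d + 1) i hlt (ModuleCat.of R R)
    exact not_subsingleton _ this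
  let x : PrimeSpectrum A := ⟨p, inferInstance⟩
  have h2 : ringKrullDim (A ⧸ p) = (Order.coheight x : WithBot ℕ∞) := by
    rw [ringKrullDim_quotient, Order.coheight_eq_krullDim_Ici]
    exact Order.krullDim_eq_of_orderIso (OrderIso.setCongr _ _ (by ext y; rfl))
  have h3 : p.height = Order.height x := PrimeSpectrum.height_eq_orderHeight x
  calc ringKrullDim (A ⧸ p) + (i : WithBot ℕ∞) ≤ ringKrullDim (A ⧸ p) + (d : WithBot ℕ∞) := by
        gcongr
      _ = ((Order.height x + Order.coheight x : ℕ∞) : WithBot ℕ∞) := by
        rw [h1, h2, h3, WithBot.coe_add, add_comm]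
      _ ≤ ringKrullDim A := by
        haveI : Nonempty (PrimeSpectrum A) := ⟨x⟩
        rw [ringKrullDim, Order.krullDim_eq_iSup_height_add_coheight_of_nonempty, WithBot.coe_le_coe]
        exact le_iSup (fun a => Order.height a + Order.coheight a) x

end Groth.Agent.S11496
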