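import Groth.Statements.S11497
import Mathlib.Algebra.Homology.DerivedCategory.Ext.ExactSequences

set_option autoImplicit false
universe w v u
open CategoryTheory
open VBPn

namespace Groth.Agent.S11497

/-- In an abelian category, let M : A → B → C and M' : A' → B' → C' be monads, i.e. short complexes
whose first map is a monomorphism and whose second map is an epimorphism, with cohomology (homology)
objects E and E'. Suppose Hom(B, A') = 0, Hom(C, B') = 0 and Ext^1(C, A') = Ext^1(B, A') = Ext^1(C,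
B') = Ext^2(C, A') = 0. Then the map sending a morphism of monads M → M' to the induced morphism E →
E' is bijective. The published statement is for monads of vector bundles on a complex manifold X,
with Ext^i(C, A') written H^i(X, C^* ⊗ A'); this row is stated in any abelian category. -/
theorem result {C : Type u} [Category.{v} C] [Abelian C] [HasExt.{w} C]
    (M M' : ShortComplex C) [Mono M.f] [Epi M.g] [Mono M'.f] [Epi M'.g]
    (hBA : ∀ f : M.X₂ ⟶ M'.X₁, f = 0) (hCB : ∀ f : M.X₃ ⟶ M'.X₂, f = 0)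
    (hCA₁ : Subsingleton (Abelian.Ext M.X₃ M'.X₁ 1)) (hBA₁ : Subsingleton (Abelian.Ext M.X₂ M'.X₁ 1))
    (hCB₁ : Subsingleton (Abelian.Ext M.X₃ M'.X₂ 1)) (hCA₂ : Subsingleton (Abelian.Ext M.X₃ M'.X₁ 2)) :
    Function.Bijective (fun φ : M ⟶ M' => ShortComplex.homologyMap φ) := by
  classical
  open Abelian in
  have hB : ∀ (N : ShortComplex C) [Epi N.g], (ShortComplex.mk N.iCycles N.g N.iCycles_g).ShortExact := fun N _ =>
    { exact := ShortComplex.exact_of_f_is_kernel _ N.cyclesIsKernel }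
  have hA : ∀ (N : ShortComplex C) [Mono N.f], (ShortComplex.mk N.toCycles N.homologyπ N.toCycles_comp_homologyπ).ShortExact :=
    fun N _ =>
      haveI : Mono N.toCycles := mono_of_mono_fac N.toCycles_i
      { exact := ShortComplex.exact_of_g_is_cokernel _ N.homologyIsCokernel }
  -- extension of maps from the cycles
  have hext : ∀ (Y : C), Subsingleton (Abelian.Ext M.X₃ Y 1) → ∀ u : M.cycles ⟶ Y,
      ∃ w : M.X₂ ⟶ Y, M.iCycles ≫ w = u := by
    intro Y hY u
    obtain ⟨x, hx⟩ := Abelian.Ext.contravariant_sequence_exact₁ (hB M) Y (Abelian.Ext.mk₀ u) (add_zero 1)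
      (@Subsingleton.elim _ hY _ _)
    obtain ⟨w, rfl⟩ := (Abelian.Ext.mk₀_bijective _ _).2 x
    refine ⟨w, (Abelian.Ext.mk₀_bijective _ _).1 ?_⟩
    rw [← hx, Abelian.Ext.mk₀_comp_mk₀]
  refine ⟨?_, fun e => ?_⟩
  · suffices h0 : ∀ φ : M ⟶ M', ShortComplex.homologyMap φ = 0 → φ = 0 by
      intro φ ψ h
      refine sub_eq_zero.1 (h0 _ ?_)
      rw [ShortComplex.homologyMap_sub]
      exact sub_eq_zero.2 h
    intro φ h
    have h1 : ShortComplex.cyclesMap φ ≫ M'.homologyπ = 0 := by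
      rw [← ShortComplex.homologyπ_naturality, h, Limits.comp_zero]
    obtain ⟨u, hu⟩ : ∃ u : M.cycles ⟶ M'.X₁, u ≫ M'.toCycles = ShortComplex.cyclesMap φ := by
      haveI : Mono M'.toCycles := mono_of_mono_fac M'.toCycles_i
      exact ⟨_, (hA M').exact.lift_f (ShortComplex.cyclesMap φ) h1⟩
    obtain ⟨w, hw⟩ := hext _ hCA₁ u
    rw [← hw, hBA w, Limits.comp_zero, Limits.zero_comp] at hu
    have h2 : M.iCycles ≫ φ.τ₂ = 0 := by
      rw [← ShortComplex.cyclesMap_i, ← hu, Limits.zero_comp]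
    obtain ⟨v, hv⟩ : ∃ v : M.X₃ ⟶ M'.X₂, M.g ≫ v = φ.τ₂ :=
      ⟨_, (hB M).exact.g_desc φ.τ₂ h2⟩
    have e₂ : φ.τ₂ = 0 := by rw [← hv, hCB v, Limits.comp_zero]
    have e₃ : φ.τ₃ = 0 := by rw [← cancel_epi M.g, ← φ.comm₂₃, e₂, Limits.zero_comp, Limits.comp_zero]
    have e₁ : φ.τ₁ = 0 := by rw [← cancel_mono M'.f, φ.comm₁₂, e₂, Limits.comp_zero, Limits.zero_comp]
    exact ShortComplex.hom_ext _ _ e₁ e₂ e₃
  · haveI : Subsingleton (Abelian.Ext M.cycles M'.X₁ 1) := by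
      refine subsingleton_of_forall_eq 0 fun y => ?_
      obtain ⟨x, hx⟩ := Abelian.Ext.contravariant_sequence_exact₁ (hB M) M'.X₁ y (show 1 + 1 = 2 from rfl)
        (@Subsingleton.elim _ hCA₂ _ _)
      rw [← hx, @Subsingleton.elim _ hBA₁ x 0, Abelian.Ext.comp_zero]
    obtain ⟨x, hx⟩ := Abelian.Ext.covariant_sequence_exact₃ M.cycles (hA M') (Abelian.Ext.mk₀ (M.homologyπ ≫ e))
      (zero_add 1) (Subsingleton.elim _ _)
    obtain ⟨c, rfl⟩ := (Abelian.Ext.mk₀_bijective _ _).2 x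
    have hc : c ≫ M'.homologyπ = M.homologyπ ≫ e := by
      apply (Abelian.Ext.mk₀_bijective _ _).1
      rw [← hx, Abelian.Ext.mk₀_comp_mk₀]
    obtain ⟨φ₂, hφ₂⟩ := hext _ hCB₁ (c ≫ M'.iCycles)
    haveI : Mono M'.toCycles := mono_of_mono_fac M'.toCycles_i
    obtain ⟨φ₁, hφ₁⟩ : ∃ φ₁ : M.X₁ ⟶ M'.X₁, φ₁ ≫ M'.toCycles = M.toCycles ≫ c :=
      ⟨_, (hA M').exact.lift_f (M.toCycles ≫ c)
        (by rw [Category.assoc, hc, ← Category.assoc, M.toCycles_comp_homologyπ, Limits.zero_comp])⟩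
    obtain ⟨φ₃, hφ₃⟩ : ∃ φ₃ : M.X₃ ⟶ M'.X₃, M.g ≫ φ₃ = φ₂ ≫ M'.g :=
      ⟨_, (hB M).exact.g_desc (φ₂ ≫ M'.g)
        (by rw [← Category.assoc, hφ₂, Category.assoc, M'.iCycles_g, Limits.comp_zero])⟩
    let φ : M ⟶ M' :=
      { τ₁ := φ₁, τ₂ := φ₂, τ₃ := φ₃
        comm₁₂ := by
          rw [← M'.toCycles_i, ← Category.assoc, hφ₁, Category.assoc, ← hφ₂, ← Category.assoc, M.toCycles_i]
        comm₂₃ := hφ₃.symm }
    have hcm : ShortComplex.cyclesMap φ = c := by
      rw [← cancel_mono M'.iCycles, ShortComplex.cyclesMap_i]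
      exact hφ₂
    refine ⟨φ, ?_⟩
    show ShortComplex.homologyMap φ = e
    rw [← cancel_epi M.homologyπ, ShortComplex.homologyπ_naturality, hcm, hc]

end Groth.Agent.S11497
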