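import Groth.Statements.S11498
import Groth.Agent.Lib.RankTwo11.LineVanish

set_option autoImplicit false
universe u
open VBPn

namespace Groth.Agent.S11498

open CategoryTheory CategoryTheory.Limits AlgebraicGeometry in
/-- Let k be a characteristic-zero algebraically closed field and E a rank-2 vector bundle (finite
locally free O-module of rank 2) on P^n_k which is trivial on some line, i.e. i^*E ≅ O ⊕ O for some
closed immersion of k-schemes i : P^1_k → P^n_k along which O(1) pulls back to O(1). Then H^0(P^n_k,
E ⊗ O(−d)) = 0 for all d ≥ 1. The published statement assumes generic splitting type (0, 0) and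
concludes semistability; this row assumes triviality on one line and concludes the vanishing of
H^0(E(−d)) for d ≥ 1, which for rank 2 with c_1 = 0 is semistability and is what the published proof
obtains from one such line. -/
theorem result (k : Type u) [Field k] [IsAlgClosed k] [CharZero k]
    (n : ℕ) (E : (CohB1.ProjSpace n k).Modules) (hE : FlatMod.IsFinLocFreeOfRank 2 E)
    (i : CohB1.ProjSpace 1 k ⟶ CohB1.ProjSpace n k) [IsClosedImmersion i]
    (hi : i ≫ CohB1.ProjSpace.toSpec n k = CohB1.ProjSpace.toSpec 1 k)
    (hO : Nonempty ((Scheme.Modules.pullback i).obj (Twist.twistProjSpace n k 1) ≅ Twist.twistProjSpace 1 k 1))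
    (htriv : Nonempty ((Scheme.Modules.pullback i).obj E ≅ FlatMod.freeMod (CohB1.ProjSpace 1 k) 2))
    (d : ℤ) (hd : 1 ≤ d) :
    Subsingleton (Coh.HH (CohB1.ProjSpace n k) (CohB1.tensorMod E (Twist.twistProjSpace n k (-d))) 0) := by
  open Groth.Agent in
  obtain ⟨eO⟩ := hO
  obtain ⟨et⟩ := htriv
  obtain ⟨hn, -⟩ := RankTwo11.Linear.nonempty_pullback_omega i eO
  have hs : Function.Surjective i.appTop := by
    intro y
    obtain ⟨a, rfl⟩ := (RankTwo11.bijective_toGlobal k 1).2 y
    refine ⟨Coh.toGlobal (CohB1.ProjSpace.toSpec n k) a, ?_⟩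
    rw [← hi]
    rfl
  exact RankTwo11.Hyper.vanish_of_trivial_line hn E (M2.isFinLocFree_of_ofRank hE) i hs eO et hd

end Groth.Agent.S11498
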