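import Groth.Statements.S11499
import Mathlib.RingTheory.Localization.BaseChange
import Mathlib.RingTheory.Localization.Integer
import Mathlib.LinearAlgebra.Dimension.Finite
import Mathlib.RingTheory.TensorProduct.Finite
import Mathlib.LinearAlgebra.Basis.VectorSpace
import Mathlib.LinearAlgebra.FiniteDimensional.Basic

set_option autoImplicit false
universe u
open TensorProduct
open VBPn

namespace Groth.Agent.S11499

/-- Let A be an integral domain with fraction field K and M a finitely generated torsion-free A-module
of rank r (K ⊗_A M is r-dimensional over K). Then there is an injective A-linear map M → A^r. The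
published statement is for torsion-free coherent sheaves on a complex manifold, locally near a
point; this row is its statement for one stalk, over any domain. -/
theorem result (A : Type u) [CommRing A] [IsDomain A]
    (M : Type u) [AddCommGroup M] [Module A M] [Module.Finite A M] [NoZeroSMulDivisors A M] (r : ℕ)
    (hr : Module.finrank (FractionRing A) (FractionRing A ⊗[A] M) = r) :
    ∃ f : M →ₗ[A] (Fin r → A), Function.Injective f := by
  classical
  let K := FractionRing A
  let b := Module.finBasisOfFinrankEq K (K ⊗[A] M) hr
  let g : M →ₗ[A] (Fin r → K) := (b.equivFun.toLinearMap.restrictScalars A).comp (TensorProduct.mk A K M 1)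
  have hg : Function.Injective g := by
    intro x y hxy
    obtain ⟨⟨c, hc⟩, hcxy⟩ := (IsLocalizedModule.eq_iff_exists (nonZeroDivisors A)
      (TensorProduct.mk A K M 1)).1 (b.equivFun.injective hxy)
    exact smul_right_injective M (nonZeroDivisors.ne_zero hc) hcxy
  obtain ⟨t, ht⟩ := Module.Finite.fg_top (R := A) (M := M)
  obtain ⟨⟨c, hc⟩, hcint⟩ := IsLocalization.exist_integer_multiples (nonZeroDivisors A)
    ((t ×ˢ (Finset.univ : Finset (Fin r))).image fun p => g p.1 p.2) id
  have hmem : ∀ x : M, ∀ j, c • g x j ∈ LinearMap.range (Algebra.linearMap A K) := by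
    intro x j
    have hx : x ∈ Submodule.span A (t : Set M) := by rw [ht]; trivial
    induction hx using Submodule.span_induction with
    | mem y hy =>
      obtain ⟨a, ha⟩ := hcint (g y j) (Finset.mem_image.2 ⟨(y, j), by simpa using hy, rfl⟩)
      exact ⟨a, ha⟩
    | zero => simp
    | add p q _ _ hp hq => rw [map_add, Pi.add_apply, smul_add]; exact add_mem hp hq
    | smul s p _ hp => rw [map_smul, Pi.smul_apply, smul_comm]; exact Submodule.smul_mem _ _ hp
  let e := LinearEquiv.ofInjective (Algebra.linearMap A K) (IsFractionRing.injective A K)
  refine ⟨LinearMap.pi fun j => e.symm.toLinearMap.comp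
    (((c • (LinearMap.proj j : (Fin r → K) →ₗ[A] K).comp g)).codRestrict _ fun x => hmem x j), ?_⟩
  intro x y hxy
  refine hg (funext fun j => smul_right_injective K (nonZeroDivisors.ne_zero hc) ?_)
  exact congrArg Subtype.val (e.symm.injective (congrFun hxy j))

end Groth.Agent.S11499
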