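import Groth.Statements.S1150
import Groth.Agent.Lib.TateZero11.LefZero
import Groth.Agent.Lib.LefFEt11.Idem
import Groth.Agent.Lib.AlgClosedExt25.SepClosed

set_option autoImplicit false
set_option backward.isDefEq.respectTransparency false
universe u
open Pi1

namespace Groth.Agent.S1150

open AlgebraicGeometry CategoryTheory CategoryTheory.Limits in
/-- Let X be a proper scheme over a field k, L an ample invertible O_X-module, s a global section of L
and Y = Z(s) its zero scheme. Assume depth(O_{X,x}) + dim(closure of x) > 1 for every point x of X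
not in Y. Then for every open subscheme V of X containing Y, restriction of finite etale covers from
V to Y (realised as Y ×_X V ⟶ V) is fully faithful; V = X is allowed. -/
theorem result (k : Type u) [Field k] (X : Scheme.{u})
    (f : X ⟶ Spec (CommRingCat.of k)) [IsProper f] (L : X.Modules) (hL : CohB1.IsAmple L)
    (s : Coh.structureModule X ⟶ L)
    (hd : ∀ x : X, x ∉ (PicF2.zeroScheme L s).support →
      (1 : WithBot ℕ∞) < (LocCoh.depth (X.presheaf.stalk x) (X.presheaf.stalk x) : WithBot ℕ∞) +
        topologicalKrullDim (closure ({x} : Set X)))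
    (V : X.Opens) (hV : ((PicF2.zeroScheme L s).support : Set X) ⊆ V) :
    (FEt.restrict (pullback.snd (PicF2.zeroScheme L s).subschemeι V.ι)).Full ∧
    (FEt.restrict (pullback.snd (PicF2.zeroScheme L s).subschemeι V.ι)).Faithful := by
  have hd' : ∀ x : X, x ∉ ((PicF2.zeroScheme L s).support : Set X) →
      (1 : WithBot ℕ∞) < (LocCoh.depth (X.presheaf.stalk x) (X.presheaf.stalk x) : WithBot ℕ∞) +
        topologicalKrullDim ↥(closure ({x} : Set X)) := fun x hx => hd x hx
  haveI : AlgebraicGeometry.IsNoetherian X := CohFound.isNoetherian_of_isProper f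
  haveI : AlgebraicGeometry.IsNoetherian (V : Scheme.{u}) := LocImm12.isNoetherian_of_isOpenImmersion V.ι
  have hI := TZ11.lefCond_zeroScheme k f hL s hd' V hV
  obtain ⟨hfull, hfaith⟩ := LefFEt11.fullyFaithful_restrict _ hI
    (hI _ (M2.isFinLocFree_of_isInvertible (PicLoc.isInvertible_structureModule _)))
  let i : pullback (PicF2.zeroScheme L s).subschemeι V.ι ⟶ ((PicF2.zeroScheme L s).comap V.ι).subscheme :=
    (pullbackSymmetry _ _ ≪≫ ((PicF2.zeroScheme L s).comapIso V.ι).symm).hom
  have hi : i ≫ ((PicF2.zeroScheme L s).comap V.ι).subschemeι = pullback.snd _ _ := by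
    simp [i, Scheme.IdealSheafData.comapIso_inv_subschemeι]
  haveI : (FEt.restrict i).IsEquivalence := AlgClosedExt25.isEquivalence_of_universalHomeo i
  let φ := Pur25.restrictComp i ((PicF2.zeroScheme L s).comap V.ι).subschemeι
  rw [← hi]
  haveI := hfull; haveI := hfaith
  exact ⟨Functor.Full.of_iso φ.symm, Functor.Faithful.of_iso φ.symm⟩

end Groth.Agent.S1150
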