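import Groth.Statements.S11502
import Groth.Agent.Lib.RankTwo11.CompleteInt

set_option autoImplicit false
universe u
open VBPn

namespace Groth.Agent.S11502

open CategoryTheory CategoryTheory.Limits AlgebraicGeometry in
/-- Let k be an algebraically closed field of characteristic zero, n ≥ 3, i : Y → P^n_k a closed
immersion which is a local complete intersection of codimension 2 (regular immersion of codimension
2) with ideal sheaf J_Y, and E a rank-2 vector bundle belonging to Y, that is a finite locally free
O-module of rank 2 with a short exact sequence 0 → O → E → J_Y ⊗ O(c) → 0 for some integer c. Then E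
splits as O(a') ⊕ O(b') for some integers a', b' if and only if Y is a global complete intersection:
J_Y is an epimorphic image of O(−a) ⊕ O(−b) for some integers a, b (Y is cut out
scheme-theoretically by two hypersurfaces). -/
theorem result (k : Type u) [Field k] [IsAlgClosed k] [CharZero k]
    (n : ℕ) (hn : 3 ≤ n) {Y : Scheme.{u}} (i : Y ⟶ CohB1.ProjSpace n k) [IsClosedImmersion i]
    (hlci : RegImm.IsRegularImmersionOfCodim RegImm.Kind.regular 2 i) (c : ℤ)
    (S : ShortComplex (CohB1.ProjSpace n k).Modules) (hS : S.ShortExact) (hE : FlatMod.IsFinLocFreeOfRank 2 S.X₂)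
    (h₁ : Nonempty (S.X₁ ≅ Coh.structureModule (CohB1.ProjSpace n k)))
    (h₃ : Nonempty (S.X₃ ≅ CohB1.tensorMod (ClSub.idealMod i.ker) (Twist.twistProjSpace n k c))) :
    (∃ a' b' : ℤ, Nonempty (S.X₂ ≅ Twist.twistProjSpace n k a' ⊞ Twist.twistProjSpace n k b')) ↔
      ∃ (a b : ℤ) (ψ : Twist.twistProjSpace n k (-a) ⊞ Twist.twistProjSpace n k (-b) ⟶ ClSub.idealMod i.ker),
        Epi ψ := by
  open Groth.Agent in
  obtain ⟨e₁⟩ := h₁
  obtain ⟨e₃⟩ := h₃
  exact RankTwo11.CompleteInt.complete_intersection_iff hn hS hE e₁ e₃

end Groth.Agent.S11502
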