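import Groth.Statements.S11503
import Groth.Agent.Lib.RankTwo11.Proj

set_option autoImplicit false
universe u
open VBPn

namespace Groth.Agent.S11503

open CategoryTheory CategoryTheory.Limits AlgebraicGeometry in
/-- Let k be a characteristic-zero algebraically closed field and E a finite locally free O-module of
rank r > 1 on P^n_k. If E has a nonzero section (a nonzero morphism O → E) and its dual has a
nonzero section (a nonzero morphism E → O), then E is not simple: there is an endomorphism of E
which is not a homothety, i.e. whose underlying map of abelian sheaves is not multiplication by any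
scalar c ∈ k. -/
theorem result (k : Type u) [Field k] [IsAlgClosed k] [CharZero k]
    (n r : ℕ) (hr : 1 < r) (E : (CohB1.ProjSpace n k).Modules) (hE : FlatMod.IsFinLocFreeOfRank r E)
    (s : Coh.structureModule (CohB1.ProjSpace n k) ⟶ E) (hs : s ≠ 0)
    (t : E ⟶ Coh.structureModule (CohB1.ProjSpace n k)) (ht : t ≠ 0) :
    ∃ φ : E ⟶ E, ∀ c : k, (SheafOfModules.toSheaf (CohB1.ProjSpace n k).ringCatSheaf).map φ ≠
      Coh.smulAb E (Coh.toGlobal (CohB1.ProjSpace.toSpec n k) c) := by
  refine ⟨(t ≫ RankTwo11.zeroIso.inv) ≫ (RankTwo11.zeroIso.hom ≫ s), fun c h => ?_⟩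
  refine RankTwo11.not_scalar_of_factor hr hE (RankTwo11.comp_iso_ne_zero ht RankTwo11.zeroIso.symm)
    (RankTwo11.iso_comp_ne_zero hs RankTwo11.zeroIso) c
    ((SheafOfModules.toSheaf (CohB1.ProjSpace n k).ringCatSheaf).map_injective ?_)
  exact h.trans (RankTwo11.smulHom_toSheaf E _).symm

end Groth.Agent.S11503
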