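import Groth.Statements.S11504
import Groth.Agent.Lib.NormalH1.Euler
import Groth.Agent.Lib.Euler2.Hodge
import Groth.Agent.Lib.NefH1.Core
import Groth.Agent.Lib.DVRTriv4.Seq
import Groth.Agent.Lib.VecLift3.Lift
import Groth.Agent.Lib.VB17.Pair
import Groth.Agent.Lib.Twist.GlobalProjSpace
import Groth.Agent.Lib.ExtFil4.Uniq
import Groth.Agent.Lib.Omega12.Universal

set_option autoImplicit false
universe u
open VBPn

namespace Groth.Agent.S11504


open CategoryTheory CategoryTheory.Limits AlgebraicGeometry TopologicalSpace Opposite Groth.Agent CurveCoh17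

/-- An extension whose class is killed by a morphism: the morphism extends. -/
theorem exists_extend {k : Type u} [Field k] {X : Scheme.{u}} [X.Over (Spec (CommRingCat.of k))] {M F : X.Modules}
    (f : M ⟶ F) (g : F ⟶ Coh.structureModule X) (w : f ≫ g = 0) (hS : (ShortComplex.mk f g w).ShortExact)
    {N : X.Modules} (ψ : M ⟶ N)
    (h : hmap k ψ 1 (hdelta k hS 0 ((hh0 _).symm (M1.one ⊤))) = 0) : ∃ r : F ⟶ N, f ≫ r = ψ := by
  let S := ShortComplex.mk f g w
  have w' : f ≫ g = ψ ≫ (0 : N ⟶ Coh.structureModule X) := by rw [w, comp_zero]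
  have hS' := VecLift3.shortExact_pushout hS ψ w'
  let S' := ShortComplex.mk (pushout.inr f ψ) (pushout.desc g 0 w') (pushout.inr_desc g 0 w')
  let Φ : S ⟶ S' := { τ₁ := ψ, τ₂ := pushout.inl f ψ, τ₃ := 𝟙 _
                      comm₁₂ := pushout.condition.symm
                      comm₂₃ := (pushout.inl_desc g 0 w').trans (Category.comp_id g).symm }
  let o : Coh.HH X (Coh.structureModule X) 0 := (hh0 _).symm (M1.one ⊤)
  have hn := DVRTriv4.hdelta_natural k hS hS' Φ 0 o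
  have h0 : hdelta k hS' 0 o = 0 := by
    refine Eq.trans (congrArg _ (hmap_id k _ 0 o).symm) (hn.symm.trans h)
  obtain ⟨y, hy⟩ := (exact_hmap_hdelta k hS' 0 o).1 h0
  let σ : Coh.structureModule X ⟶ S'.X₂ := M1.secHom (hh0 _ y)
  have hσ : σ ≫ S'.g = 𝟙 _ := M1.unit_hom_ext <| by
    rw [Scheme.Modules.Hom.comp_app, CategoryTheory.comp_apply, M1.secHom_app_one, ← hh0_hmap k, hy]
    exact (AddEquiv.apply_symm_apply _ _).trans rfl
  haveI := hS'.mono_f
  have hr : (𝟙 S'.X₂ - S'.g ≫ σ) ≫ S'.g = 0 := by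
    rw [Preadditive.sub_comp, Category.assoc, hσ, Category.comp_id, Category.id_comp, sub_self]
  let r : S'.X₂ ⟶ N := hS'.exact.lift _ hr
  have hrf : r ≫ S'.f = 𝟙 S'.X₂ - S'.g ≫ σ := hS'.exact.lift_f _ hr
  refine ⟨pushout.inl f ψ ≫ r, ?_⟩
  rw [← cancel_mono S'.f]
  show (f ≫ pushout.inl f ψ ≫ r) ≫ S'.f = ψ ≫ pushout.inr f ψ
  rw [Category.assoc, Category.assoc, hrf, ← Category.assoc, pushout.condition, Category.assoc, Preadditive.comp_sub,
    Category.comp_id, ← Category.assoc (pushout.inr f ψ), show pushout.inr f ψ ≫ S'.g = 0 from S'.zero, zero_comp,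
    sub_zero]

/-- The twisted Euler sequence `0 → Ω → F → O → 0`. -/
theorem exists_euler_ses (k : Type u) [Field k] (n : ℕ) :
    ∃ (F : (CohB1.ProjSpace n k).Modules) (f : Omega.sheaf (CohB1.ProjSpace.toSpec n k) ⟶ F)
      (g : F ⟶ Coh.structureModule (CohB1.ProjSpace n k)) (w : f ≫ g = 0),
      (ShortComplex.mk f g w).ShortExact ∧
      ∃ (a : Fin (n + 1) → (F ⟶ _root_.Twist.twistProjSpace n k (-1)))
        (b : Fin (n + 1) → (_root_.Twist.twistProjSpace n k (-1) ⟶ F)), ∑ j, a j ≫ b j = 𝟙 F := by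
  let P := CohB1.ProjSpace n k
  let p := CohB1.ProjSpace.toSpec n k
  let Ω := Omega.sheaf p
  haveI : IsProper p := ProjSpace.isProper_toSpec n k
  have hd : OmegaSh.IsUniversal (OmegaSh.dOmega p) := Omega12.isUniversal_dOmega p
  let O1 := _root_.Twist.twistProjSpace n k 1
  let E := _root_.Twist.twistProjSpace n k (-1)
  have hcov := Twist.iSup_basicOpen_one n k
  have hE : PicF.IsInvertible E := Twist.isInvertible_twistProjSpace n k _
  obtain ⟨tt⟩ := Twist.nonempty_tensor_iso (CohB1.polyGrading n k) 1 (-1) hcov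
  obtain ⟨z⟩ := Twist.nonempty_twist_zero_iso (CohB1.polyGrading n k)
  let τ : CohB1.tensorMod O1 E ≅ Coh.structureModule P :=
    tt ≪≫ eqToIso (congrArg (_root_.Twist.twist (CohB1.polyGrading n k)) (by ring)) ≪≫ z
  obtain ⟨u, hu, ⟨α⟩⟩ := Euler2.exists_euler_projSpace n k hd
  haveI := hu
  let S₁ : ShortComplex P.Modules := ShortComplex.mk (kernel.ι u) u (kernel.condition u)
  have hS₁ : S₁.ShortExact := ShortComplex.ShortExact.mk' (ShortComplex.exact_kernel u) inferInstance hu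
  let S₂ := S₁.map (M2.tensorR E)
  let τ' : S₂.X₃ ≅ Coh.structureModule P := τ
  have hS₂ : S₂.ShortExact := CohFound.shortExact_tensor_invertible hS₁ hE
  let γ : Ω ≅ S₂.X₁ :=
    (M2.tensorRUnit Ω).symm ≪≫ M2.tensorIso (Iso.refl Ω) τ.symm ≪≫ (M2.tensorAssoc Ω O1 E).symm ≪≫
      M2.tensorIso α (Iso.refl E)
  have w : (γ.hom ≫ S₂.f) ≫ S₂.g ≫ τ'.hom = 0 := by
    simp only [Category.assoc]
    rw [S₂.zero_assoc, zero_comp, comp_zero]
  have hS : (ShortComplex.mk (γ.hom ≫ S₂.f) (S₂.g ≫ τ'.hom) w).ShortExact :=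
    ShortComplex.shortExact_of_iso (ShortComplex.isoMk γ.symm (Iso.refl _) τ'
      (by simp) (by simp)) hS₂
  let f := γ.hom ≫ S₂.f
  let g := S₂.g ≫ τ'.hom
  -- the middle term is a sum of copies of `E`
  let S₀ := Spec (CommRingCat.of k)
  let Φ : S₀.Modules ⥤ P.Modules := Scheme.Modules.pullback p ⋙ M2.tensorR E
  let O₀ : Fin (n + 1) → S₀.Modules := fun _ => Coh.structureModule S₀
  let ε : Φ.obj (Coh.structureModule S₀) ≅ E :=
    M2.tensorIso (PicLoc.pullbackStructureIso p) (Iso.refl E) ≪≫ M2.tensorLUnit E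
  have hdec : ∑ j, (Φ.map (Sigma.π O₀ j) ≫ ε.hom) ≫ ε.inv ≫ Φ.map (Sigma.ι O₀ j) = 𝟙 S₂.X₂ := by
    have h : ∀ j, (Φ.map (Sigma.π O₀ j) ≫ ε.hom) ≫ ε.inv ≫ Φ.map (Sigma.ι O₀ j) =
        Φ.map (Sigma.π O₀ j ≫ Sigma.ι O₀ j) := fun j => by
      rw [Category.assoc, Iso.hom_inv_id_assoc, Functor.map_comp]
    rw [Finset.sum_congr rfl fun j _ => h j, ← Functor.map_sum, KoszShH13.sum_π_ι, CategoryTheory.Functor.map_id]
    rfl
  exact ⟨S₂.X₂, f, g, w, hS, fun j => Φ.map (Sigma.π O₀ j) ≫ ε.hom, fun j => ε.inv ≫ Φ.map (Sigma.ι O₀ j), hdec⟩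



open CategoryTheory CategoryTheory.Limits AlgebraicGeometry in
/-- Let k be an algebraically closed field of characteristic zero. The sheaf of relative differentials
Ω^1 of P^n_k → Spec k is simple: every O-module endomorphism of it is a homothety, i.e. its
underlying map of abelian sheaves is multiplication by some scalar c ∈ k. The published statement is
for the tangent bundle T, the dual of Ω^1; the two are equivalent since dualising identifies their
endomorphisms. Simplicity implies indecomposability. -/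
theorem result (k : Type u) [Field k] [IsAlgClosed k] [CharZero k] (n : ℕ)
    (φ : Omega.sheaf (CohB1.ProjSpace.toSpec n k) ⟶ Omega.sheaf (CohB1.ProjSpace.toSpec n k)) :
    ∃ c : k, (SheafOfModules.toSheaf (CohB1.ProjSpace n k).ringCatSheaf).map φ =
      Coh.smulAb (Omega.sheaf (CohB1.ProjSpace.toSpec n k)) (Coh.toGlobal (CohB1.ProjSpace.toSpec n k) c) := by
  let P := CohB1.ProjSpace n k
  let p := CohB1.ProjSpace.toSpec n k
  let Ω := Omega.sheaf p
  letI : P.Over (Spec (CommRingCat.of k)) := inferInstance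
  suffices h : ∃ c : k, φ = NefH1.gact k Ω c by
    obtain ⟨c, hc⟩ := h
    refine ⟨c, ?_⟩
    rw [hc]
    ext V s
    rfl
  obtain ⟨e1⟩ : Nonempty (Euler2.Om n k 1 ≅ Ω) :=
    let ⟨a⟩ := ExtFil4.isoExtPow (Euler2.isExtPow_Om n k 1) (ExtFil4.isExtPow_one Ω)
    ⟨a⟩
  rcases Nat.eq_zero_or_pos n with hn | hn
  · exact ⟨0, ((Euler2.isZero_Om (n := n) (R := k) (j := 1) (by omega)).of_iso e1.symm).eq_of_src _ _⟩
  haveI : IsProper p := ProjSpace.isProper_toSpec n k
  let O1 := _root_.Twist.twistProjSpace n k 1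
  let E := _root_.Twist.twistProjSpace n k (-1)
  obtain ⟨F, f, g, w, hS, aj, bj, hdec⟩ := exists_euler_ses k n
  obtain ⟨tt⟩ := Twist.nonempty_tensor_iso (CohB1.polyGrading n k) 1 (-1) (Twist.iSup_basicOpen_one n k)
  obtain ⟨z⟩ := Twist.nonempty_twist_zero_iso (CohB1.polyGrading n k)
  let τ : CohB1.tensorMod O1 E ≅ Coh.structureModule P :=
    tt ≪≫ eqToIso (congrArg (_root_.Twist.twist (CohB1.polyGrading n k)) (by ring)) ≪≫ z
  -- `H⁰(E) = 0` and `Hom(E, Ω) = 0`
  have hOE : ∀ s : Coh.structureModule P ⟶ E, s = 0 := fun s => by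
    haveI := Twist.subsingleton_sections_twistProjSpace_neg n k hn (show (-1 : ℤ) < 0 by norm_num)
    exact M1.unit_hom_ext (@Subsingleton.elim _ (Twist.subsingleton_sections_twistProjSpace_neg n k hn (show (-1 : ℤ) < 0 by norm_num)) _ _)
  have hEΩ : ∀ s : E ⟶ Ω, s = 0 := by
    intro s
    haveI := VB17.isEquivalence_tensorR (X := P) (Twist.isInvertible_twistProjSpace n k 1)
    apply (M2.tensorR O1).map_injective
    let a : CohB1.tensorMod E O1 ≅ Coh.structureModule P := M2.tensorComm E O1 ≪≫ τ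
    have hh : Subsingleton (Coh.HH P (CohB1.tensorMod Ω O1) 0) :=
      Euler2.subsingleton_HH_iso (M2.tensorIso e1 (Iso.refl O1)) (Euler2.van_pos_zero (n := n) (R := k) one_pos 1 le_rfl)
    haveI := hh
    rw [Functor.map_zero]
    let a' : (M2.tensorR O1).obj E ≅ Coh.structureModule P := a
    rw [← cancel_epi a'.inv, comp_zero]
    exact M1.unit_hom_ext (@Subsingleton.elim _ (@Function.Injective.subsingleton _ _ _ (hh0 (CohB1.tensorMod Ω O1)).symm.injective hh) _ _)
  have hFΩ : ∀ r : F ⟶ Ω, r = 0 := fun r => by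
    rw [← Category.id_comp r, ← hdec, Preadditive.sum_comp]
    refine Finset.sum_eq_zero fun j _ => ?_
    rw [Category.assoc, hEΩ (bj j ≫ r), comp_zero]
  have hOF : ∀ s : Coh.structureModule P ⟶ F, s = 0 := fun s => by
    rw [← Category.comp_id s, ← hdec, Preadditive.comp_sum]
    refine Finset.sum_eq_zero fun j _ => ?_
    rw [← Category.assoc, hOE (s ≫ _), zero_comp]
  -- the extension class spans `H¹(Ω)`
  let o : Coh.HH P (Coh.structureModule P) 0 := (hh0 _).symm (M1.one ⊤)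
  let c₁ := hdelta k hS 0 o
  have hc₁ : c₁ ≠ 0 := fun h0 => by
    obtain ⟨y, hy⟩ := (exact_hmap_hdelta k hS 0 o).1 h0
    have hy0 : hh0 _ y = 0 := by
      rw [← M1.secHom_app_one (hh0 _ y), hOF (M1.secHom (hh0 _ y))]
      simp
    replace hy0 : y = 0 := (hh0 _).injective (hy0.trans (map_zero _).symm)
    rw [hy0, map_zero] at hy
    have h1 : (M1.one ⊤ : Γ(Coh.structureModule P, ⊤)) = 0 := by
      rw [← (hh0 _).apply_symm_apply (M1.one ⊤)]
      exact (congrArg (hh0 _) hy.symm).trans (map_zero _)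
    have h2 : (1 : Γ(P, ⊤)) = 0 := h1
    have h3 : 𝟙 Ω = 0 := by
      rw [← NefH1.gact_one k Ω, NefH1.gact, map_one]
      refine Scheme.Modules.hom_ext _ _ fun V => ?_
      ext t
      show (M1.ores (le_top : V ≤ ⊤) (1 : Γ(P, ⊤))) • (t : Γ(Ω, V)) = 0
      rw [h2, map_zero, zero_smul]
    obtain ⟨d⟩ := Euler2.nonempty_diag (n := n) (R := k) 1 hn
    have hd : (hequiv k e1.symm 1).trans d (hmap k (𝟙 Ω) 1 (((hequiv k e1.symm 1).trans d).symm 1)) = 1 := by
      rw [hmap_id, LinearEquiv.apply_symm_apply]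
    rw [h3, hmap_zero, map_zero] at hd
    exact zero_ne_one hd
  have hfin : Module.finrank k (Coh.HH P Ω 1) = 1 := by
    obtain ⟨d⟩ := Euler2.nonempty_diag (n := n) (R := k) 1 hn
    rw [((hequiv k e1.symm 1).trans d).finrank_eq, Module.finrank_self]
  obtain ⟨c, hc⟩ := exists_smul_eq_of_finrank_eq_one hfin hc₁ (hmap k φ 1 c₁)
  refine ⟨c, sub_eq_zero.1 ?_⟩
  have hzero : hmap k (φ - NefH1.gact k Ω c) 1 c₁ = 0 := by
    have h := hmap₀_add (φ - NefH1.gact k Ω c) (NefH1.gact k Ω c) 1 c₁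
    rw [sub_add_cancel] at h
    have h' : hmap k φ 1 c₁ = hmap k (φ - NefH1.gact k Ω c) 1 c₁ + hmap k (NefH1.gact k Ω c) 1 c₁ := h
    rw [NefH1.hmap_gact, ← hc] at h'
    simpa using h'.symm
  obtain ⟨r, hr⟩ := exists_extend f g w hS _ hzero
  rw [← hr, hFΩ r, comp_zero]

end Groth.Agent.S11504
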