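import Groth.Statements.S11505
import Groth.Agent.Lib.RankTwo11.Proj

set_option autoImplicit false
universe u
open VBPn

namespace Groth.Agent.S11505

open CategoryTheory CategoryTheory.Limits AlgebraicGeometry in
/-- Let k be a characteristic-zero algebraically closed field and E a finite locally free O-module of
rank 2 on P^n_k with a second exterior power isomorphic to O(c). Let k₀ be the integer with c + 2k₀
= 0 or c + 2k₀ = −1, so that E ⊗ O(k₀) is the normalised twist, and assume H^0(P^n_k, E ⊗ O(k₀)) =
0. Then every endomorphism of E is a homothety: its underlying map of abelian sheaves is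
multiplication by some scalar c' ∈ k. The published statement is for stable bundles of any rank;
this row is the rank-2 case, with stability written as the vanishing of H^0 of the normalised twist,
which is equivalent to it for rank 2. -/
theorem result (k : Type u) [Field k] [IsAlgClosed k] [CharZero k]
    (n : ℕ) (E : (CohB1.ProjSpace n k).Modules) (hE : FlatMod.IsFinLocFreeOfRank 2 E) (c k₀ : ℤ)
    (hdet : ∃ L : (CohB1.ProjSpace n k).Modules, ExtPow.IsExtPow 2 E L ∧ Nonempty (L ≅ Twist.twistProjSpace n k c))
    (hk₀ : c + 2 * k₀ = 0 ∨ c + 2 * k₀ = -1)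
    (h0 : Subsingleton (Coh.HH (CohB1.ProjSpace n k) (CohB1.tensorMod E (Twist.twistProjSpace n k k₀)) 0))
    (φ : E ⟶ E) :
    ∃ c' : k, (SheafOfModules.toSheaf (CohB1.ProjSpace n k).ringCatSheaf).map φ =
      Coh.smulAb E (Coh.toGlobal (CohB1.ProjSpace.toSpec n k) c') := by
  obtain ⟨L, hL, ⟨e⟩⟩ := hdet
  obtain ⟨c', hc'⟩ := RankTwo11.exists_scalar hE hL e hk₀ (RankTwo11.no_map_of_subsingleton h0) φ
  exact ⟨c', (congrArg _ hc').trans (RankTwo11.smulHom_toSheaf E _)⟩

end Groth.Agent.S11505
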