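import Groth.Statements.S11506
import Groth.Agent.Lib.RankTwo11.Proj

set_option autoImplicit false
universe u
open VBPn

namespace Groth.Agent.S11506

open CategoryTheory CategoryTheory.Limits AlgebraicGeometry in
/-- Let k be a characteristic-zero algebraically closed field and E a finite locally free O-module of
rank 2 on P^n_k with a second exterior power isomorphic to O(c), and let k₀ satisfy c + 2k₀ = 0 or c
+ 2k₀ = −1. If every endomorphism of E is a homothety (its underlying map of abelian sheaves is
multiplication by a scalar in k), then H^0(P^n_k, E ⊗ O(k₀)) = 0. The published statement concludes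
stability; this row concludes the vanishing of H^0 of the normalised twist, which for rank 2 is
stability. -/
theorem result (k : Type u) [Field k] [IsAlgClosed k] [CharZero k]
    (n : ℕ) (E : (CohB1.ProjSpace n k).Modules) (hE : FlatMod.IsFinLocFreeOfRank 2 E) (c k₀ : ℤ)
    (hdet : ∃ L : (CohB1.ProjSpace n k).Modules, ExtPow.IsExtPow 2 E L ∧ Nonempty (L ≅ Twist.twistProjSpace n k c))
    (hk₀ : c + 2 * k₀ = 0 ∨ c + 2 * k₀ = -1)
    (hsimple : ∀ φ : E ⟶ E, ∃ c' : k, (SheafOfModules.toSheaf (CohB1.ProjSpace n k).ringCatSheaf).map φ =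
      Coh.smulAb E (Coh.toGlobal (CohB1.ProjSpace.toSpec n k) c')) :
    Subsingleton (Coh.HH (CohB1.ProjSpace n k) (CohB1.tensorMod E (Twist.twistProjSpace n k k₀)) 0) := by
  by_contra hne
  obtain ⟨L, hL, ⟨e⟩⟩ := hdet
  obtain ⟨s, hs⟩ := RankTwo11.exists_map_of_not_subsingleton hne
  obtain ⟨g, hg⟩ := RankTwo11.exists_map_of_map_from hE hL e s hs
  obtain ⟨m, hm⟩ := RankTwo11.exists_ne_zero_twist (k := k) (n := n) (a := c + -(-k₀)) (b := -k₀) (by omega)
  obtain ⟨a, ha⟩ := hsimple (g ≫ (m ≫ s))
  exact RankTwo11.not_scalar_of_factor (by norm_num) hE hg (RankTwo11.comp_ne_zero hE hm hs) a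
    ((SheafOfModules.toSheaf (CohB1.ProjSpace n k).ringCatSheaf).map_injective
      (ha.trans (RankTwo11.smulHom_toSheaf E _).symm))

end Groth.Agent.S11506
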