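import Groth.Statements.S11508
import Groth.Agent.Lib.RankTwo11.NullCorrHom
import Groth.Agent.Lib.VB17.Fitting

set_option autoImplicit false
universe u
open VBPn

namespace Groth.Agent.S11508

open CategoryTheory CategoryTheory.Limits AlgebraicGeometry in
/-- Let k be an algebraically closed field of characteristic zero and u : O(−1) → Ω^1 ⊗ O(1) a
monomorphism of O-modules on P^n_k whose cokernel M is finite locally free of rank n − 1, so that M
is the dual of a null-correlation bundle N = ker(T(−1) → O(1)). Then every endomorphism of M is a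
homothety (its underlying map of abelian sheaves is multiplication by a scalar in k); equivalently N
is simple. The published argument is for N itself; this row is its dual form. -/
theorem result (k : Type u) [Field k] [IsAlgClosed k] [CharZero k] (n : ℕ)
    (u : Twist.twistProjSpace n k (-1) ⟶
      CohB1.tensorMod (Omega.sheaf (CohB1.ProjSpace.toSpec n k)) (Twist.twistProjSpace n k 1))
    [Mono u] (hM : FlatMod.IsFinLocFreeOfRank (n - 1) (cokernel u)) (φ : cokernel u ⟶ cokernel u) :
    ∃ c : k, (SheafOfModules.toSheaf (CohB1.ProjSpace n k).ringCatSheaf).map φ =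
      Coh.smulAb (cokernel u) (Coh.toGlobal (CohB1.ProjSpace.toSpec n k) c) := by
  open Groth.Agent in
  rcases Nat.eq_zero_or_pos n with rfl | hn
  · have hM' : FlatMod.IsFinLocFreeOfRank 0 (cokernel u) := hM
    have hz : IsZero (cokernel u) := by
      refine (IsZero.iff_id_eq_zero _).2 (Scheme.Modules.hom_ext _ _ fun U => ?_)
      ext a
      refine M1.section_ext _ _ fun x hx => ?_
      obtain ⟨e⟩ := CurveCoh17.nonempty_stalk_equiv hM' x
      exact e.injective (Subsingleton.elim _ _)
    refine ⟨0, ?_⟩
    rw [hz.eq_of_src φ (ThetaGrp19.smulHom _ (Coh.toGlobal (CohB1.ProjSpace.toSpec 0 k) 0))]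
    exact RankTwo11.smulHom_toSheaf _ _
  obtain ⟨c, hc⟩ := RankTwo11.NullCorr.exists_scalar_endo hn u (M2.isFinLocFree_of_ofRank hM) φ
  exact ⟨c, by rw [hc]; exact RankTwo11.smulHom_toSheaf _ _⟩

end Groth.Agent.S11508
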