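import Groth.Statements.S11509
import Groth.Agent.Lib.Euler2.BottDim

set_option autoImplicit false
set_option backward.isDefEq.respectTransparency.types false
set_option backward.isDefEq.respectTransparency false
set_option synthInstance.maxHeartbeats 400000
set_option maxHeartbeats 1000000
set_option linter.style.haveILetI false
set_option linter.unusedVariables false
universe u
open VBPn

namespace Groth.Agent.S11509

open CategoryTheory CategoryTheory.Limits AlgebraicGeometry in
/-- Let k be an algebraically closed field of characteristic zero and u : O(−1) → Ω^1 ⊗ O(1) a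
monomorphism of O-modules on P^3_k whose cokernel M is finite locally free of rank 2 (M is the dual
N^* of a null-correlation bundle N, and N ≅ N^* as c_1(N) = 0). Then H^0(P^3_k, M) = 0. The
published statement says that the null-correlation bundle N is stable; this row states H^0(N^*) = 0,
which is equivalent since N ≅ N^* and c_1(N) = 0. -/
theorem result (k : Type u) [Field k] [IsAlgClosed k] [CharZero k]
    (u : Twist.twistProjSpace 3 k (-1) ⟶
      CohB1.tensorMod (Omega.sheaf (CohB1.ProjSpace.toSpec 3 k)) (Twist.twistProjSpace 3 k 1))
    [Mono u] (hM : FlatMod.IsFinLocFreeOfRank 2 (cokernel u)) :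
    Subsingleton (Coh.HH (CohB1.ProjSpace 3 k) (cokernel u) 0) := by
  open Groth.Agent in
  let e : CohB1.tensorMod (Euler2.Om 3 k 1) (Twist.twistProjSpace 3 k 1) ≅
      CohB1.tensorMod (Omega.sheaf (CohB1.ProjSpace.toSpec 3 k)) (Twist.twistProjSpace 3 k 1) :=
    M2.tensorIso (ExtFil4.isoExtPow (Euler2.isExtPow_Om 3 k 1) (ExtFil4.isExtPow_one _)).some (Iso.refl _)
  let S := ShortComplex.mk u (cokernel.π u) (cokernel.condition u)
  have hS : S.ShortExact := ShortComplex.ShortExact.mk' (ShortComplex.exact_cokernel u) inferInstance inferInstance
  exact Groth.Agent.Euler2.sub_right hS (q := 0)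
    (Groth.Agent.Euler2.subsingleton_HH_iso e
      (Groth.Agent.Euler2.van_pos_zero 3 k (d := 1) one_pos 1 le_rfl))
    (Groth.Agent.Euler2.twist_van 3 k (d := -1) (q := 0 + 1) (by omega) (by omega))

end Groth.Agent.S11509
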