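import Groth.Statements.S11511
import Groth.Agent.Lib.RankTwo11.UniformPlaneIdent
import Groth.Agent.Lib.Euler2.PnDet
import Groth.Agent.S11486

set_option autoImplicit false
universe u
open VBPn

namespace Groth.Agent.S11511

set_option backward.isDefEq.respectTransparency false
set_option backward.isDefEq.respectTransparency.types false
set_option maxHeartbeats 1000000

section

open CategoryTheory CategoryTheory.Limits AlgebraicGeometry Groth.Agent Groth.Agent.RankTwo11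

variable (k : Type u) [Field k]

theorem exists_ordered (E : (CohB1.ProjSpace 2 k).Modules) (a : Fin 2 → ℤ)
    (huniform : ∀ (i : CohB1.ProjSpace 1 k ⟶ CohB1.ProjSpace 2 k) [IsClosedImmersion i],
      i ≫ CohB1.ProjSpace.toSpec 2 k = CohB1.ProjSpace.toSpec 1 k →
      Nonempty ((Scheme.Modules.pullback i).obj (_root_.Twist.twistProjSpace 2 k 1) ≅ _root_.Twist.twistProjSpace 1 k 1) →
      Nonempty ((Scheme.Modules.pullback i).obj E ≅ ∐ fun j : Fin 2 => _root_.Twist.twistProjSpace 1 k (a j))) :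
    ∃ d : Fin 2 → ℤ, d 1 ≤ d 0 ∧ Plane.Uni E d := by
  by_cases h : a 1 ≤ a 0
  · exact ⟨a, h, huniform⟩
  · refine ⟨a ∘ Equiv.swap 0 1, by simp [Equiv.swap_apply_left, Equiv.swap_apply_right]; omega, fun i _ h1 h2 => ?_⟩
    obtain ⟨e⟩ := huniform i h1 h2
    exact ⟨e ≪≫ Sigma.whiskerEquiv (Equiv.swap 0 1) (fun j => eqToIso (by simp))⟩

/-- `Ω` is uniform. -/
theorem uni_omega : Plane.Uni (Omega.sheaf (CohB1.ProjSpace.toSpec 2 k)) ![-1, -2] := fun i _ hi hO => by
  obtain ⟨eO⟩ := hO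
  obtain ⟨-, ⟨e⟩⟩ := Linear.nonempty_pullback_omega i eO
  obtain ⟨dt⟩ := Euler2.nonempty_det_omega_projSpace 1 k
    (L := Omega.sheaf (CohB1.ProjSpace.toSpec 1 k)) (ExtFil4.isExtPow_one _)
  haveI : Unique (Fin (2 - 1)) := by
    rw [show (2 - 1 : ℕ) = 1 from rfl]
    infer_instance
  exact ⟨e ≪≫ biprod.mapIso (dt ≪≫ eqToIso (congrArg _ (by norm_num))) (coproductUniqueIso _) ≪≫ biprod.braiding _ _ ≪≫
    (GM.sumTwoIso ![-1, -2]).symm⟩

theorem identify [IsAlgClosed k] (E : (CohB1.ProjSpace 2 k).Modules) (hE : FlatMod.IsFinLocFreeOfRank 2 E)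
    (d : Fin 2 → ℤ) (hu : Plane.Uni E d) (hgap : d 0 = d 1 + 1) (hs : Plane.hd E 0 (-d 0) = 0) :
    ∃ b : ℤ, Nonempty (E ≅ CohB1.tensorMod (Omega.sheaf (CohB1.ProjSpace.toSpec 2 k))
      (_root_.Twist.twistProjSpace 2 k b)) := by
  let Ω := Omega.sheaf (CohB1.ProjSpace.toSpec 2 k)
  have hΩ : FlatMod.IsFinLocFreeOfRank 2 Ω := Euler2.rank_omega 2 k
  have hsΩ : Plane.hd Ω 0 (-(![-1, -2] : Fin 2 → ℤ) 0) = 0 := by
    haveI : Subsingleton (Coh.HH (CohB1.ProjSpace 2 k)
        ((CMReg18.projData k 2).tw Ω (-(![-1, -2] : Fin 2 → ℤ) 0)) 0) :=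
      CMReg18.van_iso k ((CMReg18.projData k 2).twIso Ω (by simp)) (NullCorr.subsingleton_hh0_Om1 (k := k) (n := 2))
    exact Module.finrank_zero_of_subsingleton
  obtain ⟨e₁⟩ := Plane.dual_iso_Om1 hE hu hgap hs
  obtain ⟨e₂⟩ := Plane.dual_iso_Om1 (d := ![-1, -2]) hΩ (uni_omega k) (by simp) hsΩ
  let D := CMReg18.projData k 2
  obtain ⟨e⟩ := Plane.nonempty_iso_of_dual (M2.isFinLocFree_tensor (M2.isFinLocFree_of_ofRank hE)
      (M2.isFinLocFree_of_ofRank (rank_O (k := k) (n := 2) (1 - d 0))))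
    (M2.isFinLocFree_tensor (M2.isFinLocFree_of_ofRank hΩ)
      (M2.isFinLocFree_of_ofRank (rank_O (k := k) (n := 2) (1 - (![-1, -2] : Fin 2 → ℤ) 0)))) (e₁ ≪≫ e₂.symm)
  refine ⟨1 + d 0, ⟨(D.twIso E (show 1 - d 0 + (d 0 - 1) = 0 by ring) ≪≫ D.twZero E).symm ≪≫
    (D.twTwist E (1 - d 0) (d 0 - 1)).symm ≪≫ M2.tensorIso e (Iso.refl _) ≪≫ D.twTwist Ω _ (d 0 - 1) ≪≫
    D.twIso Ω ?_⟩⟩
  simp
  ring

end

open CategoryTheory CategoryTheory.Limits AlgebraicGeometry in
/-- Let k be a characteristic-zero algebraically closed field and E a uniform rank-2 vector bundle on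
P^2_k — a finite locally free O-module of rank 2 such that, for one fixed pair of integers a_1, a_2,
i^*E ≅ O(a_1) ⊕ O(a_2) for every closed immersion of k-schemes i : P^1_k → P^2_k along which O(1)
pulls back to O(1) — which does not split as a direct sum of two twisting sheaves. Then E ≅ Ω^1 ⊗
O(b) for some integer b, Ω^1 the sheaf of differentials of P^2_k over k; equivalently E is a twist
T_{P^2}(a) of the tangent bundle. (Over P^n_k with n ≥ 3 uniform 2-bundles split.) -/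
theorem result (k : Type u) [Field k] [IsAlgClosed k] [CharZero k]
    (E : (CohB1.ProjSpace 2 k).Modules) (hE : FlatMod.IsFinLocFreeOfRank 2 E) (a : Fin 2 → ℤ)
    (huniform : ∀ (i : CohB1.ProjSpace 1 k ⟶ CohB1.ProjSpace 2 k) [IsClosedImmersion i],
      i ≫ CohB1.ProjSpace.toSpec 2 k = CohB1.ProjSpace.toSpec 1 k →
      Nonempty ((Scheme.Modules.pullback i).obj (Twist.twistProjSpace 2 k 1) ≅ Twist.twistProjSpace 1 k 1) →
      Nonempty ((Scheme.Modules.pullback i).obj E ≅ ∐ fun j : Fin 2 => Twist.twistProjSpace 1 k (a j)))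
    (hns : ¬ ∃ b : Fin 2 → ℤ, Nonempty (E ≅ ∐ fun j : Fin 2 => Twist.twistProjSpace 2 k (b j))) :
    ∃ b : ℤ, Nonempty (E ≅ CohB1.tensorMod (Omega.sheaf (CohB1.ProjSpace.toSpec 2 k)) (Twist.twistProjSpace 2 k b)) := by
  obtain ⟨d, hd, hu⟩ := exists_ordered k E a huniform
  have key : (∀ t, Subsingleton (Coh.HH (CohB1.ProjSpace 2 k) ((Groth.Agent.CMReg18.projData k 2).tw E t) 1)) → False := fun h =>
    hns ((Groth.Agent.S11486.result k 2 2 E hE).2 fun i t h1 h2 => by
      obtain rfl : i = 1 := by omega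
      exact h t)
  rcases hd.lt_or_eq with hlt | heq
  · by_cases hs : Groth.Agent.RankTwo11.Plane.hd E 0 (-d 0) = 0
    · have hgap : d 0 = d 1 + 1 := by
        by_contra hne
        exact Groth.Agent.RankTwo11.Plane.exists_section_of_gap hE hu (by omega) hs
      exact identify k E hE d hu hgap hs
    · exact (key (Groth.Agent.RankTwo11.Plane.h1_vanish_of_section hE hu hlt hs)).elim
  · exact (key (Groth.Agent.RankTwo11.Plane.h1_vanish_of_equal hE hu heq)).elim

end Groth.Agent.S11511
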