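import Groth.Statements.S11513
import Groth.Agent.Lib.RankTwo11.GMOdd

set_option autoImplicit false
universe u
open VBPn

namespace Groth.Agent.S11513

set_option backward.isDefEq.respectTransparency false
set_option backward.isDefEq.respectTransparency.types false

section

open CategoryTheory CategoryTheory.Limits AlgebraicGeometry Groth.Agent Groth.Agent.RankTwo11

theorem core (k : Type u) [Field k] [IsAlgClosed k] {m : ℕ} (E : (CohB1.ProjSpace (m + 1 + 1) k).Modules)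
    (hE : FlatMod.IsFinLocFreeOfRank 2 E) (z : Fin (m + 1) ⊕ Fin (m + 1) → k) (d : Fin 2 → ℤ)
    (ed : (Scheme.Modules.pullback (GM.lineMap z)).obj E ≅ ∐ fun j : Fin 2 => _root_.Twist.twistProjSpace 1 k (d j))
    (t : ℤ) (h0 : d 0 + t < 0) (h1 : d 1 + t < 0)
    (j : CohB1.ProjSpace (m + 1) k ⟶ CohB1.ProjSpace (m + 1 + 1) k)
    (ej : (Scheme.Modules.pullback j).obj (_root_.Twist.twistProjSpace (m + 1 + 1) k 1) ≅ _root_.Twist.twistProjSpace (m + 1) k 1)
    (hij : GM.lineMap (GM.tailPar z) ≫ j = GM.lineMap z) :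
    Subsingleton (Coh.HH (CohB1.ProjSpace (m + 1) k)
      (CohB1.tensorMod ((Scheme.Modules.pullback j).obj E) (_root_.Twist.twistProjSpace (m + 1) k t)) 0) := by
  let i' := GM.lineMap (GM.tailPar z)
  have eO : (Scheme.Modules.pullback i').obj (_root_.Twist.twistProjSpace (m + 1) k 1) ≅ _root_.Twist.twistProjSpace 1 k 1 :=
    eqToIso (by simp [i']) ≪≫ asIso (GM.theta (GM.tailPar z) ((1 : ℕ) : ℤ)) ≪≫ eqToIso (by simp)
  have hs : Function.Surjective i'.appTop := by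
    intro y
    obtain ⟨a, ha⟩ := (bijective_toGlobal k 1).2 y
    refine ⟨Coh.toGlobal (CohB1.ProjSpace.toSpec (m + 1) k) a, ?_⟩
    rw [← ha, ← GM.lineMap_toSpec (GM.tailPar z)]
    rfl
  refine Hyper.subsingleton_of_line (m + 1) (by omega) _ (M2.isFinLocFree_tensor
    (M2.isFinLocFree_pullback j (M2.isFinLocFree_of_ofRank hE)) (M2.isFinLocFree_of_ofRank (rank_O t)))
    i' inferInstance hs eO fun l => ?_
  obtain ⟨et⟩ := Hyper.nonempty_pull_twist i' eO t
  refine CMReg18.van_iso k (M2.tensorIso (M2.pullTensorIso i' _ _ ≪≫ M2.tensorIso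
      ((Scheme.Modules.pullbackComp i' j).app _ ≪≫ (Scheme.Modules.pullbackCongr hij).app _ ≪≫ ed) et) (Iso.refl _) ≪≫
    M2.tensorAssoc _ _ _ ≪≫ M2.tensorIso (Iso.refl _) (addIso t (-(l : ℤ)))).symm ?_
  let f : Fin 2 → (CohB1.ProjSpace 1 k).Modules := fun j => _root_.Twist.twistProjSpace 1 k (d j)
  let T := M2.tensorR (_root_.Twist.twistProjSpace 1 k (t + -(l : ℤ)))
  have hz : ∀ a, Subsingleton (Coh.HH (CohB1.ProjSpace 1 k) (T.obj (f a)) 0) := fun a =>
    CMReg18.van_iso k (addIso (d a) (t + -(l : ℤ))).symm ((subsingleton_O_iff le_rfl _).2 (by fin_cases a <;> simp <;> omega))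
  have hid : 𝟙 (T.obj (∐ f)) = T.map (P1Split.proj f 0) ≫ T.map (Sigma.ι f 0) + T.map (P1Split.proj f 1) ≫ T.map (Sigma.ι f 1) := by
    rw [← Functor.map_comp, ← Functor.map_comp, ← Functor.map_add,
      ← Fin.sum_univ_two fun a => P1Split.proj f a ≫ Sigma.ι f a, P1Split.sum_proj_ι, CategoryTheory.Functor.map_id]
  refine subsingleton_of_forall_eq 0 fun x => ?_
  rw [show x = CurveCoh17.hmap k (𝟙 (T.obj (∐ f))) 0 x from (CurveCoh17.hmap_id k _ 0 x).symm, hid]
  refine (CMReg18.hmap_add k _ _ 0 x).trans ?_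
  rw [CurveCoh17.hmap_comp, CurveCoh17.hmap_comp]
  exact (congrArg₂ (· + ·) ((congrArg _ ((hz 0).elim _ 0)).trans (map_zero _))
    ((congrArg _ ((hz 1).elim _ 0)).trans (map_zero _))).trans (add_zero _)

open Groth.Agent in
theorem odd (k : Type u) [Field k] [IsAlgClosed k] [CharZero k] {m : ℕ} (E : (CohB1.ProjSpace (m + 1 + 1) k).Modules)
    (hE : FlatMod.IsFinLocFreeOfRank 2 E) (c k₀ : ℤ)
    (hdet : ∃ L : (CohB1.ProjSpace (m + 1 + 1) k).Modules, ExtPow.IsExtPow 2 E L ∧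
      Nonempty (L ≅ _root_.Twist.twistProjSpace (m + 1 + 1) k c))
    (hodd : c + 2 * k₀ = -1)
    (hss : Subsingleton (Coh.HH (CohB1.ProjSpace (m + 1 + 1) k)
      (CohB1.tensorMod E (_root_.Twist.twistProjSpace (m + 1 + 1) k (-(c + k₀ + 1)))) 0))
    (hm : 1 ≤ m) (z : Fin (m + 1) ⊕ Fin (m + 1) → k) (d : Fin 2 → ℤ) (h0 : d 0 = -k₀) (h1 : d 1 = c + k₀)
    (ed : (Scheme.Modules.pullback (GM.lineMap z)).obj E ≅ ∐ fun j : Fin 2 => _root_.Twist.twistProjSpace 1 k (d j)) :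
    ∃ (i : CohB1.ProjSpace (m + 1) k ⟶ CohB1.ProjSpace (m + 1 + 1) k), IsClosedImmersion i ∧
      i ≫ CohB1.ProjSpace.toSpec (m + 1 + 1) k = CohB1.ProjSpace.toSpec (m + 1) k ∧
      Nonempty ((Scheme.Modules.pullback i).obj (_root_.Twist.twistProjSpace (m + 1 + 1) k 1) ≅ _root_.Twist.twistProjSpace (m + 1) k 1) ∧
      Subsingleton (Coh.HH (CohB1.ProjSpace (m + 1) k)
        (CohB1.tensorMod ((Scheme.Modules.pullback i).obj E) (_root_.Twist.twistProjSpace (m + 1) k (-(c + k₀ + 1)))) 0) := by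
  obtain ⟨L, hL, ⟨eL⟩⟩ := hdet
  by_contra hno
  set t : ℤ := -(c + k₀ + 1) with ht
  obtain ⟨σ, hσ⟩ := GM.exists_section_odd hm
    (G := CohB1.tensorMod E (_root_.Twist.twistProjSpace (m + 1 + 1) k t))
    (M2.isFinLocFree_tensor (M2.isFinLocFree_of_ofRank hE) (M2.isFinLocFree_of_ofRank (rank_O t)))
    (fun y => by
      obtain ⟨e, he, ⟨ee⟩⟩ := P1Split.exists_splitting k ((Scheme.Modules.pullback (GM.lineMap y)).obj E)
        (M2.isFinLocFreeOfRank_pullback (GM.lineMap y) hE)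
      have eO : (Scheme.Modules.pullback (GM.lineMap y)).obj (_root_.Twist.twistProjSpace (m + 1 + 1) k 1) ≅
          _root_.Twist.twistProjSpace 1 k 1 :=
        eqToIso (by simp) ≪≫ asIso (GM.theta y ((1 : ℕ) : ℤ)) ≪≫ eqToIso (by simp)
      obtain ⟨ec⟩ := Hyper.nonempty_pull_twist (GM.lineMap y) eO c
      have hdeg : e 0 + e 1 = c := GM.deg_eq (M2.isFinLocFree_of_iso ee (M2.isFinLocFree_of_ofRank
          (M2.isFinLocFreeOfRank_pullback (GM.lineMap y) hE))) (Wedge2.isExtPow_of_iso ee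
          ((Scheme.Modules.pullback (GM.lineMap y)).mapIso eL ≪≫ ec)
        (Wedge2.isExtPow_pullback' (GM.lineMap y) (M2.isQCoh_of_isFinLocFree (M2.isFinLocFree_of_ofRank hE)) hL))
      have he01 : e 1 ≤ e 0 := he (by decide)
      obtain ⟨u, p, q, w, hup, -⟩ := GM.split_data y ee t (e 0 + t) (e 1 + t) rfl rfl
      obtain ⟨f, hf⟩ := exists_ne_zero_twist (k := k) (n := 1) (a := ((0 : ℕ) : ℤ)) (b := e 0 + t) (by omega)
      exact ⟨f ≫ u, fun h => hf (by rw [← Category.comp_id f, ← hup, ← Category.assoc, h, zero_comp])⟩)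
    (by
      obtain ⟨u, p, q, w, -, hid⟩ := GM.split_data z ed t ((0 : ℕ) : ℤ) (d 1 + t) (by simp; omega) rfl
      exact ⟨z, d 1 + t, by omega, u, p, q, w, hid⟩)
    (fun j p q h hci hto ⟨ej⟩ => by
      obtain ⟨et⟩ := Hyper.nonempty_pull_twist (GM.gmap (GM.cutHom j p q) h) ej t
      refine GM.exists_hom_of_not_subsingleton fun hs => hno ⟨_, hci, hto, ⟨ej⟩, ?_⟩
      exact CMReg18.van_iso k (M2.pullTensorIso (GM.gmap (GM.cutHom j p q) h) _ _ ≪≫ M2.tensorIso (Iso.refl _) et) hs)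
  refine iso_comp_ne_zero hσ ?_ (eq_zero_of_subsingleton hss _)
  exact zeroIso.symm ≪≫ eqToIso (congrArg _ Nat.cast_zero.symm)

end

open CategoryTheory CategoryTheory.Limits AlgebraicGeometry in
/-- Let k be an algebraically closed field of characteristic zero, n ≥ 3, and E a finite locally free
O-module of rank 2 on P^n_k with a second exterior power isomorphic to O(c); let k₀ satisfy c + 2k₀
= 0 or c + 2k₀ = −1 and assume H^0(P^n_k, E ⊗ O(−(c + k₀ + 1))) = 0 (E semistable, in the rank-2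
form of that notion). Then there is a closed immersion of k-schemes i : P^{n−1}_k → P^n_k along
which O(1) pulls back to O(1) (a hyperplane H) with H^0(P^{n−1}_k, i^*E ⊗ O(−(c + k₀ + 1))) = 0,
i.e. E|H is semistable. The published statement gives a non-empty Zariski-open set of such
hyperplanes; this row asserts one. -/
theorem result (k : Type u) [Field k] [IsAlgClosed k] [CharZero k]
    (n : ℕ) (hn : 3 ≤ n) (E : (CohB1.ProjSpace n k).Modules) (hE : FlatMod.IsFinLocFreeOfRank 2 E) (c k₀ : ℤ)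
    (hdet : ∃ L : (CohB1.ProjSpace n k).Modules, ExtPow.IsExtPow 2 E L ∧ Nonempty (L ≅ Twist.twistProjSpace n k c))
    (hk₀ : c + 2 * k₀ = 0 ∨ c + 2 * k₀ = -1)
    (hss : Subsingleton (Coh.HH (CohB1.ProjSpace n k)
      (CohB1.tensorMod E (Twist.twistProjSpace n k (-(c + k₀ + 1)))) 0)) :
    ∃ (i : CohB1.ProjSpace (n - 1) k ⟶ CohB1.ProjSpace n k), IsClosedImmersion i ∧
      i ≫ CohB1.ProjSpace.toSpec n k = CohB1.ProjSpace.toSpec (n - 1) k ∧
      Nonempty ((Scheme.Modules.pullback i).obj (Twist.twistProjSpace n k 1) ≅ Twist.twistProjSpace (n - 1) k 1) ∧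
      Subsingleton (Coh.HH (CohB1.ProjSpace (n - 1) k)
        (CohB1.tensorMod ((Scheme.Modules.pullback i).obj E) (Twist.twistProjSpace (n - 1) k (-(c + k₀ + 1)))) 0) := by
  obtain ⟨m, rfl⟩ : ∃ m, n = m + 1 + 1 := ⟨n - 2, by omega⟩
  obtain ⟨z, d, h0, h1, ⟨ed⟩⟩ := Groth.Agent.RankTwo11.GM.exists_line E hE c k₀ hdet hk₀ hss
  rcases hk₀ with hev | hodd
  · obtain ⟨j, hj, hjs, ⟨ej⟩, hij⟩ := Groth.Agent.RankTwo11.GM.exists_hyper z
    exact ⟨j, hj, hjs, ⟨ej⟩, core k E hE z d ed (-(c + k₀ + 1)) (by omega) (by omega) j ej hij⟩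
  · exact odd k E hE c k₀ hdet hodd hss (by omega) z d h0 h1 ed

end Groth.Agent.S11513
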