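import Groth.Statements.S11517
import Groth.Agent.Lib.RankTwo11.Linear
import Groth.Agent.Lib.Euler2.PnDet

set_option autoImplicit false
universe u
open VBPn

namespace Groth.Agent.S11517

open CategoryTheory CategoryTheory.Limits AlgebraicGeometry in
/-- Let k be an algebraically closed field of characteristic zero, n ≥ 1, and i : P^1_k → P^n_k a closed
immersion of k-schemes along which O(1) pulls back to O(1), the embedding of a line L. Then
i^*Ω^1_{P^n_k} ≅ O(−2) ⊕ O(−1)^{⊕(n−1)} (Ω^1 the sheaf of differentials over k); dually T_{P^n}|L ≅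
O(2) ⊕ O(1)^{⊕(n−1)} on every line, i.e. the tangent bundle of P^n_k is uniform of splitting type
(2, 1, …, 1). -/
theorem result (k : Type u) [Field k] [IsAlgClosed k] [CharZero k]
    (n : ℕ) (hn : 1 ≤ n) (i : CohB1.ProjSpace 1 k ⟶ CohB1.ProjSpace n k) [IsClosedImmersion i]
    (hi : i ≫ CohB1.ProjSpace.toSpec n k = CohB1.ProjSpace.toSpec 1 k)
    (hO : Nonempty ((Scheme.Modules.pullback i).obj (Twist.twistProjSpace n k 1) ≅ Twist.twistProjSpace 1 k 1)) :
    Nonempty ((Scheme.Modules.pullback i).obj (Omega.sheaf (CohB1.ProjSpace.toSpec n k)) ≅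
      Twist.twistProjSpace 1 k (-2) ⊞ ∐ fun _ : Fin (n - 1) => Twist.twistProjSpace 1 k (-1)) := by
  open Groth.Agent in
  obtain ⟨eO⟩ := hO
  obtain ⟨-, ⟨e⟩⟩ := RankTwo11.Linear.nonempty_pullback_omega i eO
  haveI : QuasiSeparated (CohB1.ProjSpace.toSpec 1 k) := inferInstance
  obtain ⟨d⟩ := Euler2.nonempty_det_omega_projSpace 1 k
    (L := Omega.sheaf (CohB1.ProjSpace.toSpec 1 k)) (ExtFil4.isExtPow_one _)
  have h2 : (-((1 : ℕ) : ℤ) - 1) = -2 := by norm_num
  exact ⟨e ≪≫ biprod.mapIso (d ≪≫ eqToIso (by rw [h2])) (Iso.refl _)⟩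

end Groth.Agent.S11517
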