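import Groth.Statements.S11518
import Groth.Agent.Lib.RankTwo11.SimpleBundle

set_option autoImplicit false
universe u
open VBPn

namespace Groth.Agent.S11518

open CategoryTheory CategoryTheory.Limits AlgebraicGeometry in
/-- Let k be an algebraically closed field of characteristic zero. For every n there is a finite locally
free O-module F of rank n − 1 on P^n_k which is simple, i.e. every endomorphism of F is a homothety
(its underlying map of abelian sheaves is multiplication by a scalar in k); in particular F is
indecomposable. (For n ≤ 2 the assertion is trivial. The published statement also gives the total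
Chern class (1 − 2h)/(1 − h)^{n+1}; this row does not state it.) -/
theorem result (k : Type u) [Field k] [IsAlgClosed k] [CharZero k] (n : ℕ) :
    ∃ F : (CohB1.ProjSpace n k).Modules, FlatMod.IsFinLocFreeOfRank (n - 1) F ∧
      ∀ φ : F ⟶ F, ∃ c : k, (SheafOfModules.toSheaf (CohB1.ProjSpace n k).ringCatSheaf).map φ =
        Coh.smulAb F (Coh.toGlobal (CohB1.ProjSpace.toSpec n k) c) := by
  rcases le_or_gt n 1 with hn | hn
  · refine ⟨FlatMod.freeMod _ 0, by rw [show n - 1 = 0 by omega]; exact M2.isFinLocFreeOfRank_freeMod _ 0, fun φ => ⟨0, ?_⟩⟩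
    exact (congrArg _ (show φ = ThetaGrp19.smulHom _ _ from Sigma.hom_ext _ _ fun j => j.elim0)).trans
      (RankTwo11.smulHom_toSheaf _ _)
  rcases eq_or_lt_of_le (show 2 ≤ n from hn) with rfl | hn3
  · refine ⟨Twist.twistProjSpace 2 k 0, RankTwo11.rank_O 0, fun φ => ?_⟩
    obtain ⟨c', hc', -⟩ := ThetaGrp19.existsUnique_smulHom (RankTwo11.isInvertible_O (k := k) (n := 2) 0) φ
    obtain ⟨c, rfl⟩ := (RankTwo11.bijective_toGlobal k 2).2 c'
    exact ⟨c, (congrArg _ hc').trans (RankTwo11.smulHom_toSheaf _ _)⟩
  refine ⟨cokernel (RankTwo11.Simple.Phi k n), RankTwo11.Simple.rank_target hn, fun φ => ?_⟩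
  obtain ⟨c, hc⟩ := RankTwo11.Simple.exists_scalar_endo hn3 φ
  exact ⟨c, (congrArg _ hc).trans (RankTwo11.smulHom_toSheaf _ _)⟩

end Groth.Agent.S11518
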