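import Groth.Statements.S11519
import Groth.Agent.Lib.RankTwo11.NullCorrHom
import Groth.Agent.Lib.VB17.Fitting

set_option autoImplicit false
universe u
open VBPn

namespace Groth.Agent.S11519

open CategoryTheory CategoryTheory.Limits AlgebraicGeometry in
/-- Let k be an algebraically closed field of characteristic zero and a, a' : O(−1) → Ω^1 ⊗ O(1) two
bundle monomorphisms of O-modules on P^3_k, i.e. monomorphisms whose cokernels E, E' are finite
locally free of rank 2 (null-correlation bundles up to duality). Then E ≅ E' if and only if a' = c·a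
for a nonzero constant c ∈ k: the underlying map of abelian sheaves of a' equals that of a followed
by multiplication by c on Ω^1 ⊗ O(1). -/
theorem result (k : Type u) [Field k] [IsAlgClosed k] [CharZero k]
    (a a' : Twist.twistProjSpace 3 k (-1) ⟶
      CohB1.tensorMod (Omega.sheaf (CohB1.ProjSpace.toSpec 3 k)) (Twist.twistProjSpace 3 k 1))
    [Mono a] [Mono a'] (hE : FlatMod.IsFinLocFreeOfRank 2 (cokernel a)) (hE' : FlatMod.IsFinLocFreeOfRank 2 (cokernel a')) :
    Nonempty (cokernel a ≅ cokernel a') ↔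
      ∃ c : k, c ≠ 0 ∧ (SheafOfModules.toSheaf (CohB1.ProjSpace 3 k).ringCatSheaf).map a' =
        (SheafOfModules.toSheaf (CohB1.ProjSpace 3 k).ringCatSheaf).map a ≫
          Coh.smulAb (CohB1.tensorMod (Omega.sheaf (CohB1.ProjSpace.toSpec 3 k)) (Twist.twistProjSpace 3 k 1))
            (Coh.toGlobal (CohB1.ProjSpace.toSpec 3 k) c) := by
  open Groth.Agent in
  haveI : Nonempty (CohB1.ProjSpace 3 k) :=
    ⟨(RankTwo11.NullCorr.exists_point (fun _ => (1 : k)) (fun h => one_ne_zero (congrFun h 0))).choose⟩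
  have key : ∀ c : k, (SheafOfModules.toSheaf (CohB1.ProjSpace 3 k).ringCatSheaf).map
      (a ≫ ThetaGrp19.smulHom (RankTwo11.NullCorr.Om1 k 3) (RankTwo11.Simple.sc k 3 c)) =
      (SheafOfModules.toSheaf (CohB1.ProjSpace 3 k).ringCatSheaf).map a ≫
        Coh.smulAb (CohB1.tensorMod (Omega.sheaf (CohB1.ProjSpace.toSpec 3 k)) (Twist.twistProjSpace 3 k 1))
          (Coh.toGlobal (CohB1.ProjSpace.toSpec 3 k) c) := fun c =>
    ((SheafOfModules.toSheaf (CohB1.ProjSpace 3 k).ringCatSheaf).map_comp _ _).trans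
      (congrArg _ (RankTwo11.smulHom_toSheaf _ _))
  constructor
  · rintro ⟨φ⟩
    obtain ⟨c, hc0, hc⟩ := RankTwo11.NullCorr.exists_smul_of_iso (by norm_num) a a'
      (VB17.not_isZero_of_rank two_pos hE) φ
    exact ⟨c, hc0, hc ▸ key c⟩
  · rintro ⟨c, hc0, hc⟩
    exact RankTwo11.NullCorr.nonempty_iso_of_smul a a' hc0
      ((SheafOfModules.toSheaf (CohB1.ProjSpace 3 k).ringCatSheaf).map_injective (hc.trans (key c).symm))

end Groth.Agent.S11519
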