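import Groth.Statements.S11523
import Mathlib

set_option autoImplicit false
universe v u v' u'
open CategoryTheory CategoryTheory.Limits
open PervT

namespace Groth.Agent.S11523

theorem exists_simple_mono {A : Type u} [Category.{v} A] [Abelian A]
    (X : A) [IsArtinianObject X] (hX : ¬ IsZero X) :
    ∃ (S : A) (s : S ⟶ X), Simple S ∧ Mono s := by
  obtain ⟨Y, hY⟩ := exists_simple_subobject hX
  exact ⟨_, Y.arrow, hY, inferInstance⟩

theorem key {A : Type u} [Category.{v} A] [Abelian A] {B : Type u'} [Category.{v'} B] [Abelian B]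
    (F : A ⥤ B) [F.Full] [F.Faithful] [PreservesFiniteLimits F] [PreservesFiniteColimits F]
    (hlen : ∀ X : A, IsArtinianObject X ∧ IsNoetherianObject X)
    (hsimple : ∀ X : A, Simple X → Simple (F.obj X))
    {W : A} {K : B} (m : K ⟶ F.obj W) [Mono m] (hK : ¬ IsZero K) :
    ∃ (T : A) (t : T ⟶ W) (h : F.obj T ⟶ K), h ≫ m = F.map t ∧ t ≠ 0 := by
  classical
  haveI := (hlen W).2
  let good : Set (Subobject W) := {P | Mono (m ≫ F.map (cokernel.π P.arrow))}
  have hne : good.Nonempty := by
    refine ⟨⊥, ?_⟩
    show Mono (m ≫ F.map (cokernel.π (⊥ : Subobject W).arrow))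
    have key0 : ∀ {X Y : A} (f : X ⟶ Y), f = 0 → IsIso (cokernel.π f) := by
      rintro X Y f rfl; infer_instance
    haveI := key0 _ (Subobject.bot_arrow (B := W))
    infer_instance
  obtain ⟨P, hP, hmax⟩ := wellFounded_gt.has_min good hne
  haveI : Mono (m ≫ F.map (cokernel.π P.arrow)) := hP
  let Q := cokernel P.arrow
  have hQ : ¬ IsZero Q := fun hz => hK (IsZero.of_mono (m ≫ F.map (cokernel.π P.arrow)) (F.map_isZero hz))
  haveI := (hlen Q).1
  obtain ⟨S, s, hS, hs⟩ := exists_simple_mono Q hQ
  let q : Q ⟶ cokernel s := cokernel.π s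
  let k := m ≫ F.map (cokernel.π P.arrow)
  have hnm : ¬ Mono (k ≫ F.map q) := by
    intro hmono
    let P' : Subobject W := kernelSubobject (cokernel.π P.arrow ≫ q)
    have hle : P ≤ P' := le_kernelSubobject _ _ (by rw [cokernel.condition_assoc, zero_comp])
    haveI : Mono (m ≫ F.map (cokernel.π P'.arrow)) := by
      let d : cokernel P'.arrow ⟶ cokernel s :=
        cokernel.desc _ (cokernel.π P.arrow ≫ q) (kernelSubobject_arrow_comp _)
      haveI : Mono ((m ≫ F.map (cokernel.π P'.arrow)) ≫ F.map d) := by
        rw [Category.assoc, ← F.map_comp, cokernel.π_desc, F.map_comp, ← Category.assoc]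
        exact hmono
      exact mono_of_mono _ (F.map d)
    rcases eq_or_lt_of_le hle with he | hlt
    · have hf : P.Factors (kernel.ι (cokernel.π P.arrow ≫ q)) := by
        have := kernelSubobject_factors (cokernel.π P.arrow ≫ q) _ (kernel.condition _)
        exact Subobject.factors_of_le _ he.ge this
      have h1 : kernel.ι (cokernel.π P.arrow ≫ q) ≫ cokernel.π P.arrow = 0 := by
        rw [← Subobject.factorThru_arrow P _ hf, Category.assoc, cokernel.condition, comp_zero]
      have h2 : pullback.fst (cokernel.π P.arrow) s ≫ (cokernel.π P.arrow ≫ q) = 0 := by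
        rw [← Category.assoc, pullback.condition, Category.assoc, cokernel.condition, comp_zero]
      have h3 : pullback.snd (cokernel.π P.arrow) s ≫ s = 0 := by
        rw [← pullback.condition]
        rw [← kernel.lift_ι _ _ h2, Category.assoc, h1, comp_zero]
      have h4 : s = 0 := by rwa [← cancel_epi (pullback.snd (cokernel.π P.arrow) s), comp_zero]
      exact id_nonzero S (by rw [← cancel_mono s, h4, comp_zero, comp_zero])
    · exact hmax P' this hlt
  have hex : ((ShortComplex.mk s q (cokernel.condition s)).map F).Exact :=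
    (ShortComplex.exact_cokernel s).map F
  haveI : Mono ((ShortComplex.mk s q (cokernel.condition s)).map F).f := inferInstanceAs (Mono (F.map s))
  let L := kernel (k ≫ F.map q)
  have hL : ¬ IsZero L := fun h => hnm (Preadditive.mono_of_isZero_kernel _ h)
  obtain ⟨l, hl⟩ : ∃ l : L ⟶ F.obj S, l ≫ F.map s = kernel.ι (k ≫ F.map q) ≫ k :=
    ⟨hex.lift (kernel.ι (k ≫ F.map q) ≫ k) (by
      show (_ ≫ k) ≫ F.map q = 0
      rw [Category.assoc, kernel.condition]), hex.lift_f _ _⟩
  haveI : Mono (l ≫ F.map s) := hl ▸ mono_comp _ _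
  haveI : Mono l := mono_of_mono l (F.map s)
  haveI := hsimple S hS
  haveI : IsIso l := isIso_of_mono_of_nonzero fun h0 => hL ((IsZero.iff_id_eq_zero L).2 (by
    rw [← cancel_mono l, h0, comp_zero, comp_zero]))
  obtain ⟨t, ht⟩ := F.map_surjective (inv l ≫ kernel.ι (k ≫ F.map q) ≫ m)
  refine ⟨S, t, inv l ≫ kernel.ι (k ≫ F.map q), by rw [Category.assoc, ht], fun h0 => ?_⟩
  have : F.map s = inv l ≫ kernel.ι (k ≫ F.map q) ≫ k := (IsIso.eq_inv_comp l).2 hl
  have h5 : F.map (t ≫ cokernel.π P.arrow) = F.map s := by
    rw [this, F.map_comp, ht]; simp only [k, Category.assoc]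
  have h6 : s = 0 := by rw [← F.map_injective h5, h0, zero_comp]
  exact id_nonzero S (by rw [← cancel_mono s, h6, comp_zero, comp_zero])


/-- Let `u : A ⥤ B` be a fully faithful exact functor of abelian categories admitting a left adjoint and
a right adjoint `uStar`. Suppose every object of `A` has finite length (it is both an artinian and a
noetherian object) and that `u` sends simple objects to simple objects. Then for every object `Y` of
`B` the counit `u (uStar Y) ⟶ Y` of the adjunction `u ⊣ uStar` is a monomorphism. (The published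
statement also lists two further conditions equivalent to this one: that for every object `Y` of `B`
the unit `Y ⟶ u (L Y)` of the adjunction `L ⊣ u` of the left adjoint `L` is an epimorphism, and that
the essential image of `u` is stable under subobjects and quotients; this row states only the counit
condition.) -/
theorem result {A : Type u} [Category.{v} A] [Abelian A] {B : Type u'} [Category.{v'} B] [Abelian B]
    (u : A ⥤ B) [u.Full] [u.Faithful] [PreservesFiniteLimits u] [PreservesFiniteColimits u] [u.IsRightAdjoint]
    (uStar : B ⥤ A) (adj : u ⊣ uStar)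
    (hlen : ∀ X : A, IsArtinianObject X ∧ IsNoetherianObject X)
    (hsimple : ∀ X : A, Simple X → Simple (u.obj X)) (Y : B) :
    Mono (adj.counit.app Y) := by
  refine Preadditive.mono_of_isZero_kernel _ (by_contra fun hK => ?_)
  obtain ⟨T, t, h, ht, ht0⟩ := key u hlen hsimple (kernel.ι (adj.counit.app Y)) hK
  apply ht0
  apply (adj.homEquiv T Y).symm.injective
  rw [Adjunction.homEquiv_counit, Adjunction.homEquiv_counit, ← ht, Category.assoc, kernel.condition, comp_zero,
    Functor.map_zero, zero_comp]


end Groth.Agent.S11523
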