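import Groth.Statements.S11524
import Groth.Agent.Lib.RigH7.Basic

set_option autoImplicit false
universe u
open AdicRing

namespace Groth.Agent.S11524

/-- Let R be a base ring of class (N) or (V) for the ideal I, A an R-algebra topologically of finite
type and M a finite A-module which is flat over R. Then M is of finite presentation over A. (Class
(V) is taken here to consist of complete valuation rings of height one.) -/
theorem result
    (R : Type u) [CommRing R] (I : Ideal R) (hR : AdicRing.IsBase R I)
    (A : Type u) [CommRing A] [Algebra R A] (hA : AdicRing.TopFiniteType R I A)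
    (M : Type u) [AddCommGroup M] [Module A M] [Module R M] [IsScalarTower R A M]
    [Module.Finite A M] [Module.Flat R M] :
    Module.FinitePresentation A M := by
  refine Groth.Agent.Lib.RigH7.finitePresentation_of_torsionFree
    (Groth.Agent.Lib.RigH7.good_topFiniteType hR hA) fun t hIt hN x hx => ?_
  rcases hR.2 with ⟨hN', -⟩ | ⟨hD, -, -, t', ht', hIt'⟩
  · obtain ⟨n, φ, hφ⟩ := hA
    haveI := hN'
    haveI := Groth.Agent.Lib.RigH7.isNoetherianRing_rPow (I := I) n
    exact absurd (isNoetherianRing_of_surjective _ A φ.toRingHom hφ) hN
  · haveI := hD
    rw [algebraMap_smul] at hx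
    have htne : t ≠ 0 := fun h => ht' (by
      have e : Ideal.span {t'} = (⊥ : Ideal R) := by rw [← hIt', hIt, h]; simp
      simpa using e)
    haveI : Module.IsTorsionFree R M := inferInstance
    exact (smul_eq_zero_iff_right htne).mp hx

end Groth.Agent.S11524
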