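import Groth.Statements.S11527
import Groth.Agent.Lib.RigH7.Basic

set_option autoImplicit false
universe u
open AdicRing

namespace Groth.Agent.S11527

/-- Let R be a base ring of class (N) or (V) for the ideal I, A an R-algebra topologically of finite
type, M a finite A-module and N a submodule of M which is saturated with respect to I: every element
x of M with I^n x contained in N for some n already lies in N. Then N is finitely generated. -/
theorem result
    (R : Type u) [CommRing R] (I : Ideal R) (hR : AdicRing.IsBase R I)
    (A : Type u) [CommRing A] [Algebra R A] (hA : AdicRing.TopFiniteType R I A)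
    (M : Type u) [AddCommGroup M] [Module A M] [Module R M] [IsScalarTower R A M]
    [Module.Finite A M] (N : Submodule A M)
    (hsat : ∀ (x : M) (n : ℕ), (∀ a ∈ I ^ n, a • x ∈ N) → x ∈ N) :
    N.FG := by
  exact (Groth.Agent.Lib.RigH7.good_topFiniteType hR hA).fg_of_saturated N hsat

end Groth.Agent.S11527
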