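import Groth.Statements.S11538
import Groth.Agent.Lib.RigH7.Good

set_option autoImplicit false
universe u v
open scoped TensorProduct
open AdicRing

namespace Groth.Agent.S11538

/-- Let A be a commutative ring, π an element of A which is not a zero divisor and M an A-module. Then M
is flat over A if and only if the π-power torsion of M vanishes, (A/πA) ⊗_A M is flat over A/πA, and
A[π⁻¹] ⊗_A M is flat over A[π⁻¹]. -/
theorem result
    (A : Type u) [CommRing A] (π : A) (hπ : π ∈ nonZeroDivisors A)
    (M : Type v) [AddCommGroup M] [Module A M] :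
    Module.Flat A M ↔
      (∀ (x : M) (n : ℕ), π ^ n • x = 0 → x = 0) ∧
        Module.Flat (A ⧸ Ideal.span {π}) ((A ⧸ Ideal.span {π}) ⊗[A] M) ∧
        Module.Flat (Localization.Away π) ((Localization.Away π) ⊗[A] M) := by
  classical
  constructor
  · intro hflat
    haveI := hflat
    refine ⟨fun x n hn => ?_, inferInstance, inferInstance⟩
    obtain ⟨k, a, y, rfl, hay⟩ := Groth.Agent.Lib.RigH7.exists_of_forall_smul_eq_zero
      ({π ^ n} : Finset A) x (by intro b hb; rw [Finset.mem_singleton] at hb; rw [hb]; exact hn)
    refine Finset.sum_eq_zero fun j _ => ?_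
    have h := hay (π ^ n) (Finset.mem_singleton_self _) j
    rw [(mul_cancel_left_mem_nonZeroDivisors (pow_mem hπ n)).mp (h.trans (mul_zero _).symm), zero_smul]
  · rintro ⟨htor, hbar, hloc⟩
    haveI := hbar
    haveI := hloc
    refine Module.Flat.of_forall_isTrivialRelation fun {l f x} hfx => ?_
    let P : (Fin l → M) → Prop := fun z => Module.IsTrivialRelation f z
    -- one step down
    have hstep : ∀ z : Fin l → M, P (π • z) → P z := by
      rintro z ⟨k, b, y, hy, hb⟩
      let q := Ideal.Quotient.mk (Ideal.span {π})
      let B : (Fin l → A ⧸ Ideal.span {π}) →ₗ[A ⧸ Ideal.span {π}] (Fin k → A ⧸ Ideal.span {π}) :=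
        Fintype.linearCombination _ fun i j => q (b i j)
      let Y : (Fin k → A ⧸ Ideal.span {π}) →ₗ[A ⧸ Ideal.span {π}] (A ⧸ Ideal.span {π}) ⊗[A] M :=
        Fintype.linearCombination _ fun j => (1 : A ⧸ Ideal.span {π}) ⊗ₜ[A] y j
      have hYB : Y ∘ₗ B = 0 := by
        refine LinearMap.pi_ext' fun i => LinearMap.ext_ring ?_
        simp only [LinearMap.comp_apply, LinearMap.coe_single, LinearMap.zero_apply]
        have hBi : B (Pi.single i 1) = fun j => q (b i j) := by
          simp only [B, Fintype.linearCombination_apply_single, one_smul]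
        rw [hBi]
        simp only [Y, Fintype.linearCombination_apply]
        have e : ∀ j, q (b i j) • ((1 : A ⧸ Ideal.span {π}) ⊗ₜ[A] y j) =
            (1 : A ⧸ Ideal.span {π}) ⊗ₜ[A] (b i j • y j) := fun j => by
          rw [show q (b i j) = algebraMap A _ (b i j) from rfl, algebraMap_smul, TensorProduct.tmul_smul]
        simp only [e]
        rw [← TensorProduct.tmul_sum, ← hy, Pi.smul_apply, TensorProduct.tmul_smul,
          TensorProduct.smul_tmul']
        rw [show π • (1 : A ⧸ Ideal.span {π}) = 0 from by
          rw [Algebra.smul_def, mul_one]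
          exact Ideal.Quotient.eq_zero_iff_mem.mpr (Ideal.mem_span_singleton_self π),
          TensorProduct.zero_tmul]
      obtain ⟨k', c, w, hw, hc⟩ := Module.Flat.exists_factorization_of_comp_eq_zero_of_free hYB
      choose c' hc' using fun (j : Fin k) (m : Fin k') =>
        Ideal.Quotient.mk_surjective (I := Ideal.span {π}) (c (Pi.single j 1) m)
      have hsurj : Function.Surjective (TensorProduct.mk A (A ⧸ Ideal.span {π}) M 1) :=
        TensorProduct.mk_surjective A M _ Ideal.Quotient.mk_surjective
      choose w' hw' using fun m => hsurj (w (Finsupp.single m 1))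
      -- lift the relations `y = c w` modulo `π`
      have hy' : ∀ j, ∃ u : M, y j = ∑ m, c' j m • w' m + π • u := by
        intro j
        have h1 : (1 : A ⧸ Ideal.span {π}) ⊗ₜ[A] y j =
            (1 : A ⧸ Ideal.span {π}) ⊗ₜ[A] (∑ m, c' j m • w' m) := by
          calc (1 : A ⧸ Ideal.span {π}) ⊗ₜ[A] y j = Y (Pi.single j 1) := by
                simp only [Y, Fintype.linearCombination_apply_single, one_smul]
            _ = w (c (Pi.single j 1)) := by rw [hw]; rfl
            _ = _ := by
              conv_lhs => rw [← Finsupp.univ_sum_single (c (Pi.single j 1))]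
              rw [map_sum, TensorProduct.tmul_sum]
              refine Finset.sum_congr rfl fun m _ => ?_
              rw [← Finsupp.smul_single_one, map_smul, ← hw', ← hc']
              exact (algebraMap_smul (A ⧸ Ideal.span {π}) (c' j m) _).trans
                (TensorProduct.tmul_smul _ _ _).symm
        have h2 := congrArg (TensorProduct.quotTensorEquivQuotSMul M (Ideal.span {π})) h1
        rw [← map_one (Ideal.Quotient.mk (Ideal.span {π})),
          TensorProduct.quotTensorEquivQuotSMul_mk_tmul _ (1 : A),
          TensorProduct.quotTensorEquivQuotSMul_mk_tmul _ (1 : A), one_smul, one_smul,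
          Submodule.Quotient.eq] at h2
        rw [Submodule.ideal_span_singleton_smul, Submodule.mem_smul_pointwise_iff_exists] at h2
        obtain ⟨u, -, hu⟩ := h2
        exact ⟨u, by rw [hu]; abel⟩
      choose u hu using hy'
      -- the products of the matrices vanish modulo `π`
      have hd : ∀ i m, ∃ d, ∑ j, b i j * c' j m = π * d := by
        intro i m
        have h1 : c (B (Pi.single i 1)) = 0 := LinearMap.congr_fun hc _
        have h2 : B (Pi.single i 1) = ∑ j, q (b i j) • Pi.single j (1 : A ⧸ Ideal.span {π}) := by
          simp only [B, Fintype.linearCombination_apply_single, one_smul]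
          exact pi_eq_sum_univ' _
        rw [h2, map_sum] at h1
        have h3 := DFunLike.congr_fun h1 m
        simp only [Finsupp.finsetSum_apply, map_smul, Finsupp.smul_apply, ← hc', smul_eq_mul,
          q, ← map_mul, ← map_sum, Finsupp.zero_apply, Ideal.Quotient.eq_zero_iff_mem,
          Ideal.mem_span_singleton] at h3
        exact h3
      choose d hd using hd
      -- assemble
      refine (Equiv.isTrivialRelation_comp (e := Equiv.refl _)).mp ?_
      refine ⟨k' + k, fun i => Fin.append (d i) (b i), Fin.append w' u, fun i => ?_, fun j => ?_⟩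
      · show z i = _
        rw [Fin.sum_univ_add]
        simp only [Fin.append_left, Fin.append_right]
        refine sub_eq_zero.mp (htor _ 1 ?_)
        rw [pow_one, smul_sub, sub_eq_zero, ← Pi.smul_apply, hy i, smul_add, Finset.smul_sum,
          Finset.smul_sum]
        simp only [smul_smul, ← hd, Finset.sum_smul]
        rw [Finset.sum_comm, ← Finset.sum_add_distrib]
        refine Finset.sum_congr rfl fun j _ => ?_
        rw [hu j, smul_add, Finset.smul_sum, smul_smul, mul_comm π]
        simp only [smul_smul]
      · show ∑ i, f i * _ = 0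
        induction j using Fin.addCases with
        | left m =>
          simp only [Fin.append_left]
          refine (mul_cancel_left_mem_nonZeroDivisors hπ).mp (Eq.trans ?_ (mul_zero π).symm)
          rw [Finset.mul_sum]
          calc ∑ i, π * (f i * d i m) = ∑ i, ∑ j, (f i * b i j) * c' j m := by
                refine Finset.sum_congr rfl fun i _ => ?_
                rw [mul_left_comm, ← hd, Finset.mul_sum]
                exact Finset.sum_congr rfl fun j _ => by ring
            _ = 0 := by
              rw [Finset.sum_comm]
              exact Finset.sum_eq_zero fun j _ => by rw [← Finset.sum_mul, hb j, zero_mul]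
        | right j => simpa only [Fin.append_right] using hb j
    have hpow : ∀ (n : ℕ) (z : Fin l → M), P (π ^ n • z) → P z := by
      intro n
      induction n with
      | zero => intro z hz; simpa using hz
      | succ n ih =>
        intro z hz
        rw [pow_succ', mul_smul] at hz
        exact ih z (hstep _ hz)
    -- the relation is trivial after inverting `π`
    haveI : Module.Flat A ((Localization.Away π) ⊗[A] M) :=
      Module.Flat.trans A (Localization.Away π) _
    let g := TensorProduct.mk A (Localization.Away π) M 1
    have hgx : ∑ i, f i • g (x i) = 0 := by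
      rw [← map_zero g, ← hfx, map_sum]
      simp only [map_smul]
    obtain ⟨k, b, y, hy, hb⟩ := Module.Flat.isTrivialRelation_of_sum_smul_eq_zero hgx
    haveI : IsLocalizedModule (Submonoid.powers π) g := inferInstance
    choose p hp using fun j => IsLocalizedModule.surj (Submonoid.powers π) g (y j)
    choose N hN using fun j => (Submonoid.mem_powers_iff _ π).mp (p j).2.2
    let Nmax := ∑ j, N j
    have hy2 : ∀ j, π ^ Nmax • y j = g (π ^ (Nmax - N j) • (p j).1) := fun j => by
      have h1 : π ^ N j • y j = g (p j).1 := by rw [hN]; exact hp j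
      rw [map_smul, ← h1, smul_smul, ← pow_add, Nat.sub_add_cancel
        (Finset.single_le_sum (fun _ _ => Nat.zero_le _) (Finset.mem_univ j))]
    have heq : ∀ i, ∃ e, π ^ e • (π ^ Nmax • x i) = π ^ e • ∑ j, b i j • (π ^ (Nmax - N j) • (p j).1) := by
      intro i
      have h1 : g (π ^ Nmax • x i) = g (∑ j, b i j • (π ^ (Nmax - N j) • (p j).1)) := by
        rw [map_smul, show g (x i) = _ from hy i, map_sum, Finset.smul_sum]
        refine Finset.sum_congr rfl fun j _ => ?_
        rw [map_smul g (b i j), ← hy2, smul_comm]
      obtain ⟨⟨_, e, rfl⟩, he⟩ := IsLocalizedModule.exists_of_eq (S := Submonoid.powers π) h1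
      exact ⟨e, he⟩
    choose e he using heq
    refine hpow (∑ i, e i + Nmax) x ⟨k, b, fun j => π ^ (∑ i, e i) • π ^ (Nmax - N j) • (p j).1,
      fun i => ?_, hb⟩
    obtain ⟨r, hr⟩ := Nat.exists_eq_add_of_le
      (Finset.single_le_sum (f := e) (fun _ _ => Nat.zero_le _) (Finset.mem_univ i))
    have hE : π ^ (∑ i, e i + Nmax) • x i = π ^ r • (π ^ e i • (π ^ Nmax • x i)) := by
      rw [smul_smul, smul_smul, ← pow_add, ← pow_add, hr]
      congr 2
      ring
    rw [Pi.smul_apply, hE, he i, Finset.smul_sum, Finset.smul_sum]
    refine Finset.sum_congr rfl fun j _ => ?_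
    simp only [smul_smul, hr, pow_add]
    congr 1
    ring

end Groth.Agent.S11538
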