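import Groth.Statements.S1154
import Groth.Agent.Lib.PicInsep22.Main

set_option autoImplicit false
open CategoryTheory CategoryTheory.Limits AlgebraicGeometry Opposite
universe u
open PicF

namespace Groth.Agent.S1154

/-- Let k have characteristic p > 0, let X be quasi-compact and quasi-separated over k whose ring of
global functions is k itself (the structure morphism induces an isomorphism on global sections), let
n be prime to p and k'/k purely inseparable. Then every isomorphism class of invertible modules M on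
X_{k'} with M^n trivial is the pullback of such a class on X (injectivity of this pullback on
classes being a separate fact). -/
theorem result (k : Type u) [Field k] (p : ℕ) [Fact p.Prime] [CharP k p]
    (X : Scheme.{u}) (f : X ⟶ Spec (CommRingCat.of k)) [CompactSpace X] [QuasiSeparatedSpace X]
    (hH0 : IsIso f.appTop) (n : ℕ) (hn : ¬ p ∣ n) (k' : Type u) [Field k'] [Algebra k k'] [IsPurelyInseparable k k'] :
    ∀ d : PicF.Cl (pullback f (Spec.map (CommRingCat.ofHom (algebraMap k k')))), (PicF.IsInvertibleCl d ∧ ∃ M : ((pullback f (Spec.map (CommRingCat.ofHom (algebraMap k k'))))).Modules, PicF.cl M = d ∧ Nonempty (CohB1.tensorPow M n ≅ Coh.structureModule ((pullback f (Spec.map (CommRingCat.ofHom (algebraMap k k'))))))) →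
      ∃ c : PicF.Cl X, (PicF.IsInvertibleCl c ∧ ∃ M : (X).Modules, PicF.cl M = c ∧ Nonempty (CohB1.tensorPow M n ≅ Coh.structureModule (X))) ∧ PicF.pullCl (pullback.fst f (Spec.map (CommRingCat.ofHom (algebraMap k k')))) c = d := by
  letI : ∀ Y : Scheme.{u}, PicGrp.Law Y := fun Y => Groth.Agent.M2.law Y
  rintro _ ⟨hinv, M, rfl, ⟨t⟩⟩
  obtain ⟨L, hLM, hL⟩ := id hinv
  have hM : PicF.IsInvertible M := M2.isInvertible_of_iso ((PicGrp.cl_eq_cl_iff _ _).1 hLM).some hL
  let d := PicGrp.cls M hM
  have hd : d ^ n = 1 := Subtype.ext (by rw [PicGrp.cls_pow_val, PicGrp.one_val]; exact (PicGrp.cl_eq_cl_iff _ _).2 ⟨t⟩)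
  obtain ⟨c, hc, hcd⟩ := PicInsep22.exists_torsion_descend (k := k) p f k'
    ((Fact.out : p.Prime).coprime_iff_not_dvd.2 hn) d hd
  obtain ⟨N, hN, rfl⟩ := PicGrp.exists_eq_cls c
  have hc' := congrArg Subtype.val hc
  rw [PicGrp.cls_pow_val, PicGrp.one_val] at hc'
  exact ⟨PicF.cl N, ⟨⟨N, rfl, hN⟩, N, rfl, (PicGrp.cl_eq_cl_iff _ _).1 hc'⟩, congrArg Subtype.val hcd⟩

end Groth.Agent.S1154
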