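import Groth.Statements.S11540
import Groth.Agent.Lib.RigH7.ChartTorsion

set_option autoImplicit false
universe u
open AdicRing

namespace Groth.Agent.S11540

/-- Let R be a base ring of class (N) or (V) for the ideal I, A an admissible R-algebra and f_0, ...,
f_r elements of A generating an open ideal, i.e. one containing I^k A for some k. Fix i and let C_i
be the I-adic completion of the chart algebra A[ζ_j ; j ≠ i]/(f_i ζ_j − f_j ; j ≠ i). Then the
I-power torsion of C_i coincides with its f_i-power torsion. (That f_i-power torsion is I-power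
torsion is elementary; the content is the converse.) -/
theorem result
    (R : Type u) [CommRing R] (I : Ideal R) (hR : AdicRing.IsBase R I)
    (A : Type u) [CommRing A] [Algebra R A] (hA : AdicRing.Admissible R I A)
    (r : ℕ) (f : Fin (r + 1) → A) (k : ℕ)
    (hopen : (I ^ k).map (algebraMap R A) ≤ Ideal.span (Set.range f)) (i : Fin (r + 1))
    (x : AdicRing.chartCompl I f i) :
    (∃ n : ℕ, ∀ a ∈ I ^ n, a • x = 0) ↔
      ∃ n : ℕ, algebraMap A (AdicRing.chartCompl I f i) (f i) ^ n * x = 0 := by
  constructor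
  · rintro ⟨n, hn⟩
    exact Groth.Agent.Lib.RigH7.chartCompl_torsion f i hR (by
      obtain ⟨⟨m, φ, hφ, -⟩, -⟩ := hA; exact ⟨m, φ, hφ⟩) hA.2 x n hn
  · rintro ⟨n, hn⟩
    refine ⟨k * n, fun a ha => ?_⟩
    set F := algebraMap A (AdicRing.chartCompl I f i) (f i)
    have h1 : (Ideal.span (Set.range f)).map (algebraMap A (AdicRing.chartCompl I f i)) ≤ Ideal.span {F} := by
      rw [Ideal.map_span, Ideal.span_le]
      rintro _ ⟨_, ⟨j, rfl⟩, rfl⟩
      rw [SetLike.mem_coe, Ideal.mem_span_singleton]
      by_cases hj : j = i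
      · subst hj; exact dvd_rfl
      · have h := congr_arg (algebraMap (AdicRing.chartAlg f i) (AdicRing.chartCompl I f i))
          (Groth.Agent.Lib.RigH7.chartAlg_rel f i ⟨j, hj⟩)
        rw [map_mul, ← IsScalarTower.algebraMap_apply, ← IsScalarTower.algebraMap_apply] at h
        exact ⟨_, h.symm⟩
    have h2 : algebraMap R (AdicRing.chartCompl I f i) a ∈ Ideal.span {F ^ n} := by
      rw [← Ideal.span_singleton_pow]
      refine Ideal.pow_right_mono ((Ideal.map_mono hopen).trans h1) n ?_
      rw [Ideal.map_map, ← IsScalarTower.algebraMap_eq, ← Ideal.map_pow, ← pow_mul]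
      exact Ideal.mem_map_of_mem _ ha
    obtain ⟨b, hb⟩ := Ideal.mem_span_singleton'.mp h2
    rw [Algebra.smul_def, ← hb, mul_assoc, hn, mul_zero]

end Groth.Agent.S11540
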