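import Groth.Statements.S11542
import Groth.Agent.Lib.RigH7.DimThree

set_option autoImplicit false
universe u
open AdicRing

namespace Groth.Agent.S11542

/-- Let R be a complete valuation ring of height one with t a nonzero element generating an ideal of
definition, A and B admissible R-algebras with B a local integral domain of Krull dimension one, f
an element of A and u a surjective R-algebra homomorphism from the complete localization A⟨f⁻¹⟩ onto
B. Then the composite of u with the canonical map A → A⟨f⁻¹⟩ is surjective. -/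
theorem result
    (R : Type u) [CommRing R] [IsDomain R] [ValuationRing R] [Ring.KrullDimLE 1 R]
    (t : R) (ht : t ≠ 0) [IsAdicComplete (Ideal.span {t}) R]
    (A : Type u) [CommRing A] [Algebra R A] (hA : AdicRing.Admissible R (Ideal.span {t}) A) (f : A)
    (B : Type u) [CommRing B] [Algebra R B] [IsDomain B] [IsLocalRing B]
    (hB : AdicRing.Admissible R (Ideal.span {t}) B) (hdim : ringKrullDim B = 1)
    (u : AdicRing.CLoc (Ideal.span {t}) f →ₐ[R] B) (hu : Function.Surjective u) :
    Function.Surjective
      (u.toRingHom.comp (algebraMap A (AdicRing.CLoc (Ideal.span {t}) f))) := by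
  obtain ⟨hfin, hfaith⟩ := Groth.Agent.Lib.RigH7.finite_of_dim_one ht hB hdim
  haveI := hfin
  let J : Ideal (Localization.Away f) := (Ideal.span {t}).map (algebraMap R (Localization.Away f))
  let φ : A →ₐ[R] B := u.comp (IsScalarTower.toAlgHom R A (AdicRing.CLoc (Ideal.span {t}) f))
  suffices hs : ∀ b, b ∈ φ.range by exact fun b => hs b
  set M : Submodule R B := φ.range.toSubmodule with hM
  let w : Localization.Away f →+* B :=
    u.toRingHom.comp (algebraMap (Localization.Away f) (AdicRing.CLoc (Ideal.span {t}) f))
  have hw : ∀ a, w (algebraMap A _ a) = φ a := fun a =>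
    congrArg u (IsScalarTower.algebraMap_apply A (Localization.Away f)
      (AdicRing.CLoc (Ideal.span {t}) f) a).symm
  have hfu : IsUnit (φ f) := by
    rw [← hw]
    exact (IsLocalization.Away.algebraMap_isUnit f).map w
  obtain ⟨g, hg⟩ := hfu.exists_right_inv
  have hgmem : g ∈ φ.range := by
    obtain ⟨p, hp, hp0⟩ := Algebra.IsIntegral.isIntegral (R := R) g
    have hker : Algebra.adjoin R {φ f} ≤ φ.range := Algebra.adjoin_le (by
      rintro x rfl; exact ⟨f, rfl⟩)
    refine hker ?_
    have hu : IsUnit (φ f) := IsUnit.of_mul_eq_one g hg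
    -- reverse the integral equation of the inverse
    haveI : Algebra.IsIntegral (Algebra.adjoin R {φ f}) B := Algebra.IsIntegral.tower_top R
    haveI : FaithfulSMul (Algebra.adjoin R {φ f}) B :=
      (faithfulSMul_iff_algebraMap_injective _ _).mpr Subtype.val_injective
    let x : Algebra.adjoin R {φ f} := ⟨φ f, Algebra.self_mem_adjoin_singleton R _⟩
    have hx : IsUnit x := isUnit_of_map_unit (algebraMap (Algebra.adjoin R {φ f}) B) x hu
    obtain ⟨y, hy⟩ := hx.exists_right_inv
    have h1 : φ f * (y : B) = 1 := congrArg Subtype.val hy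
    have h2 : g = y := by
      calc g = g * (φ f * (y : B)) := by rw [h1, mul_one]
        _ = (φ f * g) * y := by ring
        _ = y := by rw [hg, one_mul]
    exact h2 ▸ y.2
  have hloc : ∀ l, w l ∈ φ.range := by
    intro l
    obtain ⟨⟨a, ⟨_, k, rfl⟩⟩, hl⟩ := IsLocalization.surj (Submonoid.powers f) l
    have h := congrArg w hl
    simp only [map_mul, map_pow, hw] at h
    have : w l = φ a * g ^ k := by
      rw [← h, mul_assoc, ← mul_pow, hg, one_pow, mul_one]
    rw [this]
    exact φ.range.mul_mem ⟨a, rfl⟩ (φ.range.pow_mem hgmem k)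
  have hjac : (Ideal.span {t} : Ideal R) ≤ (⊥ : Ideal R).jacobson :=
    IsAdicComplete.le_jacobson_bot _
  have hle : (⊤ : Submodule R B) ≤ M ⊔ (Ideal.span {t} : Ideal R) • ⊤ := by
    rintro b -
    obtain ⟨x, rfl⟩ := hu b
    obtain ⟨l, hl⟩ := Groth.Agent.Lib.RigH7.exists_sub_mem (R := R) (I := Ideal.span {t})
      (C := Localization.Away f) (Submodule.fg_span_singleton t) x 1
    refine Submodule.mem_sup.mpr ⟨w l, hloc l, u x - w l, ?_, add_sub_cancel _ _⟩
    show u x - u _ ∈ _
    rw [← map_sub, Ideal.smul_top_eq_map, Submodule.restrictScalars_mem]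
    rw [pow_one] at hl
    have h2 : ((Ideal.span {t}).map (algebraMap R (AdicRing.CLoc (Ideal.span {t}) f))).map u.toRingHom ≤
        (Ideal.span {t}).map (algebraMap R B) := by
      rw [Ideal.map_map, AlgHom.toRingHom_eq_coe, u.comp_algebraMap]
    exact h2 (Ideal.mem_map_of_mem u.toRingHom hl)
  exact fun b => Submodule.le_of_le_smul_of_le_jacobson_bot Module.Finite.fg_top hjac hle
    (Submodule.mem_top (x := b))

end Groth.Agent.S11542
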