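import Groth.Statements.S11543
import Groth.Agent.Lib.RigH7.DimThree

set_option autoImplicit false
universe u
open scoped TensorProduct
open AdicRing

namespace Groth.Agent.S11543

/-- Let R be a complete valuation ring of height one with t a nonzero element generating an ideal of
definition and K its field of fractions, and let A be an admissible R-algebra. Then the non-open
prime ideals p of A (those not containing t) with A/p of Krull dimension one correspond bijectively
to the maximal ideals of A ⊗_R K: the extension of such a p along A → A ⊗_R K is maximal and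
contracts back to p, and every maximal ideal of A ⊗_R K contracts to such a prime and is the
extension of its contraction. -/
theorem result
    (R : Type u) [CommRing R] [IsDomain R] [ValuationRing R] [Ring.KrullDimLE 1 R]
    (t : R) (ht : t ≠ 0) [IsAdicComplete (Ideal.span {t}) R]
    (A : Type u) [CommRing A] [Algebra R A] (hA : AdicRing.Admissible R (Ideal.span {t}) A) :
    (∀ p : Ideal A, p.IsPrime → algebraMap R A t ∉ p → ringKrullDim (A ⧸ p) = 1 →
        (p.map (Algebra.TensorProduct.includeLeftRingHom :
          A →+* A ⊗[R] FractionRing R)).IsMaximal ∧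
        (p.map (Algebra.TensorProduct.includeLeftRingHom :
          A →+* A ⊗[R] FractionRing R)).comap (Algebra.TensorProduct.includeLeftRingHom :
          A →+* A ⊗[R] FractionRing R) = p) ∧
      (∀ m : Ideal (A ⊗[R] FractionRing R), m.IsMaximal →
        algebraMap R A t ∉ m.comap (Algebra.TensorProduct.includeLeftRingHom :
            A →+* A ⊗[R] FractionRing R) ∧
          ringKrullDim (A ⧸ m.comap (Algebra.TensorProduct.includeLeftRingHom :
            A →+* A ⊗[R] FractionRing R)) = 1 ∧
          (m.comap (Algebra.TensorProduct.includeLeftRingHom :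
            A →+* A ⊗[R] FractionRing R)).map (Algebra.TensorProduct.includeLeftRingHom :
            A →+* A ⊗[R] FractionRing R) = m) := by
  have htu : ¬ IsUnit t := Groth.Agent.Lib.RigH7.not_isUnit_of_isAdicComplete
  let ι : A →+* A ⊗[R] FractionRing R := Algebra.TensorProduct.includeLeftRingHom
  letI : Algebra A (A ⊗[R] FractionRing R) := Algebra.TensorProduct.leftAlgebra
  have hι : ι = algebraMap A (A ⊗[R] FractionRing R) := rfl
  let S := Algebra.algebraMapSubmonoid A (nonZeroDivisors R)
  haveI : IsLocalization S (A ⊗[R] FractionRing R) := IsLocalization.tensor _ _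
  have hmeet : ∀ q : Ideal A, q.IsPrime → (Disjoint (S : Set A) q ↔ algebraMap R A t ∉ q) := by
    intro q hq
    constructor
    · intro h htq
      exact Set.disjoint_left.mp h (Algebra.mem_algebraMapSubmonoid_of_mem
        (⟨t, mem_nonZeroDivisors_of_ne_zero ht⟩ : nonZeroDivisors R)) htq
    · intro h
      rw [Set.disjoint_left]
      rintro _ ⟨r, hr, rfl⟩ hrq
      obtain ⟨k, hk⟩ := Groth.Agent.Lib.RigH7.exists_dvd_pow' htu (nonZeroDivisors.ne_zero hr)
      obtain ⟨c, hc⟩ := hk
      refine h (hq.mem_of_pow_mem k ?_)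
      rw [← map_pow, hc, map_mul]
      exact Ideal.mul_mem_right _ _ hrq
  haveI hAc : IsAdicComplete ((Ideal.span {t}).map (algebraMap R A)) A := by
    obtain ⟨n, φ, hφ, -⟩ := hA.1
    haveI := Groth.Agent.Lib.RigH7.isAdicComplete_of_topFiniteType
      (Groth.Agent.Lib.RigH7.isBase_of ht) (A := A) ⟨n, φ, hφ⟩ A
    exact (isAdicComplete_iff _ A).mpr
      ⟨(IsHausdorff.map_algebraMap_iff (S := A)).mpr inferInstance,
        (IsPrecomplete.map_algebraMap_iff (S := A)).mpr inferInstance⟩
  have htmax : ∀ q : Ideal A, q.IsMaximal → algebraMap R A t ∈ q := fun q hq =>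
    (sInf_le ⟨bot_le, hq⟩ : (⊥ : Ideal A).jacobson ≤ q) (IsAdicComplete.le_jacobson_bot _
      (Ideal.mem_map_of_mem (algebraMap R A) (Ideal.mem_span_singleton_self t)))
  refine ⟨fun p hp htp hdim => ?_, fun M hM => ?_⟩
  · haveI := hp
    have hd := (hmeet p hp).mpr htp
    have hprime := IsLocalization.isPrime_of_isPrime_disjoint S (A ⊗[R] FractionRing R) p hp hd
    have hcomap := IsLocalization.comap_map_of_isPrime_disjoint S (A ⊗[R] FractionRing R) hp hd
    refine ⟨?_, hcomap⟩
    obtain ⟨M, hM, hle⟩ := Ideal.exists_le_maximal _ hprime.ne_top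
    suffices h : p.map ι = M from h ▸ hM
    obtain ⟨hMp, hMd⟩ := (IsLocalization.isPrime_iff_isPrime_disjoint S _ M).mp hM.isPrime
    haveI := hMp
    have hMt := (hmeet _ hMp).mp hMd
    have hpM : p ≤ M.comap ι := Ideal.le_comap_of_map_le hle
    by_contra hne
    have hne' : p ≠ M.comap ι := fun e => hne (by
      rw [e]; exact IsLocalization.map_comap S _ M)
    haveI : Ring.KrullDimLE 1 (A ⧸ p) := Ring.krullDimLE_iff.mpr hdim.le
    have hq : ((M.comap ι).map (Ideal.Quotient.mk p)).IsPrime :=
      Ideal.map_isPrime_of_surjective Ideal.Quotient.mk_surjective (by rwa [Ideal.mk_ker])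
    have hq0 : (M.comap ι).map (Ideal.Quotient.mk p) ≠ ⊥ := fun e => hne' (le_antisymm hpM (by
      rwa [Ideal.map_eq_bot_iff_le_ker, Ideal.mk_ker] at e))
    have hqm := Ideal.comap_isMaximal_of_surjective (Ideal.Quotient.mk p)
      Ideal.Quotient.mk_surjective (H := hq.isMaximal_of_ne_bot hq0)
    rw [Ideal.comap_map_of_surjective _ Ideal.Quotient.mk_surjective, ← RingHom.ker_eq_comap_bot,
      Ideal.mk_ker, sup_eq_left.mpr hpM] at hqm
    exact hMt (htmax _ hqm)
  · haveI := hM
    obtain ⟨hMp, hMd⟩ := (IsLocalization.isPrime_iff_isPrime_disjoint S _ M).mp hM.isPrime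
    have hMt := (hmeet _ hMp).mp hMd
    refine ⟨hMt, ?_, IsLocalization.map_comap S _ M⟩
    set p := M.comap ι with hpdef
    haveI : p.IsPrime := hMp
    have h0 : algebraMap R (A ⧸ p) t ≠ 0 := fun e => hMt
      (Ideal.Quotient.eq_zero_iff_mem.mp e)
    have hB : AdicRing.TopFiniteType R (Ideal.span {t}) (A ⧸ p) := by
      obtain ⟨n, φ, hφ, -⟩ := hA.1
      exact ⟨n, (Ideal.Quotient.mkₐ R p).comp φ,
        (Ideal.Quotient.mkₐ_surjective R p).comp hφ⟩
    haveI := Groth.Agent.Lib.RigH7.finite_of_forall_mem ht hB h0 fun q hq hq0 => by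
      by_contra hqt
      haveI := hq
      have hQt : algebraMap R A t ∉ q.comap (Ideal.Quotient.mk p) := hqt
      have hd' := (hmeet _ inferInstance).mpr hQt
      have hpr := IsLocalization.isPrime_of_isPrime_disjoint S (A ⊗[R] FractionRing R) _ inferInstance hd'
      have hcm := IsLocalization.comap_map_of_isPrime_disjoint S (A ⊗[R] FractionRing R)
        (inferInstance : (q.comap (Ideal.Quotient.mk p)).IsPrime) hd'
      have hle : p ≤ q.comap (Ideal.Quotient.mk p) :=
        le_trans (le_of_eq Ideal.mk_ker.symm) (Ideal.ker_le_comap _)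
      have hMle : M ≤ (q.comap (Ideal.Quotient.mk p)).map ι :=
        (IsLocalization.map_comap S _ M).ge.trans (Ideal.map_mono hle)
      have heq : M = (q.comap (Ideal.Quotient.mk p)).map ι := hM.eq_of_le hpr.ne_top hMle
      refine hq0 ?_
      rw [← Ideal.map_comap_of_surjective _ Ideal.Quotient.mk_surjective q]
      have hqp : q.comap (Ideal.Quotient.mk p) = p := hcm.symm.trans (congrArg (Ideal.comap ι) heq.symm)
      rw [hqp]
      exact Ideal.map_quotient_self p
    haveI := Groth.Agent.Lib.RigH7.faithfulSMul_of_algebraMap_ne_zero htu h0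
    haveI : Algebra.IsIntegral R (A ⧸ p) := Algebra.IsIntegral.of_finite R _
    exact Groth.Agent.Lib.RigH7.ringKrullDim_eq_one_of_isIntegral ht htu (A ⧸ p)

end Groth.Agent.S11543
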