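import Groth.Statements.S11546
import Groth.Agent.Lib.RigH7.Basic

set_option autoImplicit false
universe u
open AdicRing

namespace Groth.Agent.S11546

/-- Let R be a base ring of class (N) or (V) for the ideal I. Then the restricted power series ring
R⟨ζ_1, ..., ζ_n⟩ is flat over R. -/
theorem result
    (R : Type u) [CommRing R] (I : Ideal R) (hR : AdicRing.IsBase R I) (n : ℕ) :
    Module.Flat R (AdicRing.RPow R I n) := by
  exact Groth.Agent.Lib.RigH7.flat_rPow hR n

end Groth.Agent.S11546
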