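import Groth.Statements.S15368
import Groth.Statements.S9607
import Groth.Statements.S14337
import Groth.Statements.S15526
import Groth.Statements.S10891
import Groth.Statements.S11831
import Mathlib.RingTheory.Nakayama
import Mathlib.RingTheory.LocalRing.Module
import Mathlib.RingTheory.Flat.EquationalCriterion
import Mathlib.RingTheory.TensorProduct.Free
import Mathlib.Data.Nat.Choose.Basic
import Mathlib.Data.Nat.Factorization.Basic
import Mathlib.LinearAlgebra.FreeModule.PID

set_option autoImplicit false
universe u v
open TensorProduct
open CAlg

namespace Groth.Agent.S15368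
open CAlg

open IsLocalRing TensorProduct

theorem finrank_le_of_span {R : Type u} [CommRing R] [IsLocalRing R] {N : Type v} [AddCommGroup N] [Module R N]
    {ι : Type*} [Fintype ι] (w : ι → N) (hw : Submodule.span R (Set.range w) = ⊤) :
    Module.finrank (ResidueField R) (ResidueField R ⊗[R] N) ≤ Fintype.card ι := by
  classical
  let q : (ι → R) →ₗ[R] N := Fintype.linearCombination R w
  have hq : Function.Surjective q := by
    rw [← LinearMap.range_eq_top, Fintype.range_linearCombination, hw]
  have h := LinearMap.finrank_le_finrank_of_surjective (R := ResidueField R)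
    (f := q.baseChange (ResidueField R)) (LinearMap.lTensor_surjective (ResidueField R) hq)
  exact h.trans (le_of_eq (Module.finrank_baseChange.trans (Module.finrank_fintype_fun_eq_card R)))

/-- Let R be a discrete valuation ring with uniformizer π and residue field k, n ≥ 0, M₀ a finitely
generated R-module killed by πⁿ and N₀ a submodule of M₀. Then dim_k(N₀/πN₀) ≤ dim_k(M₀/πM₀). The
published lemma is stated for a finitely presented submodule N of a finitely presented module M over
the quotient of the ring of integers of an algebraic closure of K by the elements of valuation ≥ t,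
and the published proof reduces it by descent to exactly this statement over the valuation ring of a
finite extension of K (comparing π-torsion with π-cotorsion by additivity of length); the row states
that step. -/
theorem result
    (R : Type u) [CommRing R] [IsDomain R] [IsDiscreteValuationRing R] (ϖ : R) (hϖ : Irreducible ϖ) (n : ℕ)
    (M : Type v) [AddCommGroup M] [Module R M] [Module.Finite R M] (hM : ∀ m : M, ϖ ^ n • m = 0)
    (N : Submodule R M) :
    Module.finrank (IsLocalRing.ResidueField R) (IsLocalRing.ResidueField R ⊗[R] N) ≤
      Module.finrank (IsLocalRing.ResidueField R) (IsLocalRing.ResidueField R ⊗[R] M) := by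
  classical
  let b := Module.finBasis (ResidueField R) (ResidueField R ⊗[R] M)
  have hs : Function.Surjective (TensorProduct.mk R (ResidueField R) M 1) :=
    TensorProduct.mk_surjective R M (ResidueField R) residue_surjective
  choose w hw using fun i => hs (b i)
  have hspan : Submodule.span R (Set.range w) = ⊤ := by
    refine IsLocalRing.span_eq_top_of_tmul_eq_basis w b hw
  let q : (Fin (Module.finrank (ResidueField R) (ResidueField R ⊗[R] M)) → R) →ₗ[R] M :=
    Fintype.linearCombination R w
  have hq : Function.Surjective q := by
    rw [← LinearMap.range_eq_top, Fintype.range_linearCombination, hspan]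
  obtain ⟨d, bd⟩ := Submodule.nonempty_basis_of_pid (Pi.basisFun R (Fin (Module.finrank (ResidueField R) (ResidueField R ⊗[R] M)))) (N.comap q)
  have hd : d ≤ Module.finrank (ResidueField R) (ResidueField R ⊗[R] M) := by
    have h := LinearMap.finrank_le_finrank_of_injective (f := (N.comap q).subtype) Subtype.val_injective
    obtain ⟨bd⟩ := bd
    rw [Module.finrank_eq_card_basis bd, Module.finrank_fintype_fun_eq_card] at h
    simpa using h
  obtain ⟨bd⟩ := bd
  refine (finrank_le_of_span (fun i => (⟨q (bd i).1, (bd i).2⟩ : N)) ?_).trans ((Fintype.card_fin d).le.trans hd)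
  let r : (N.comap q) →ₗ[R] N := (q.comp (N.comap q).subtype).codRestrict N fun z => z.2
  have hr : Function.Surjective r := fun z => by
    obtain ⟨y, hy⟩ := hq z.1
    exact ⟨⟨y, show q y ∈ N by rw [hy]; exact z.2⟩, Subtype.ext hy⟩
  rw [show (fun i => (⟨q (bd i).1, (bd i).2⟩ : N)) = r ∘ bd from rfl, Set.range_comp, Submodule.span_image,
    bd.span_eq, Submodule.map_top, LinearMap.range_eq_top.2 hr]

end Groth.Agent.S15368
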