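import Groth.Statements.S15367
import Groth.Statements.S12046
import Groth.Statements.S18888
import Groth.Statements.S13157
import Groth.Statements.S14609
import Groth.Statements.S14336
import Groth.Agent.S12045
import Groth.Agent.S15368
import Groth.Agent.Lib.Fitting.More
import Mathlib.RingTheory.Flat.FaithfullyFlat.Algebra
import Mathlib.RingTheory.Spectrum.Prime.FreeLocus
import Mathlib.LinearAlgebra.Dimension.RankNullity
import Mathlib.Topology.Semicontinuity.Basic
import Mathlib.FieldTheory.Minpoly.IsIntegrallyClosed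
import Mathlib.Algebra.Module.PID
import Mathlib.RingTheory.Flat.EquationalCriterion

set_option autoImplicit false
universe u v
open TensorProduct
open CAlg

namespace Groth.Agent.S15367
open CAlg

open IsLocalRing TensorProduct DirectSum

variable {R : Type u} [CommRing R] [IsDomain R] [IsDiscreteValuationRing R]

theorem mono (ϖ : R) (hϖ : Irreducible ϖ) (n : ℕ) {M N : Type v} [AddCommGroup M] [Module R M] [Module.Finite R M]
    [AddCommGroup N] [Module R N] (hM : ∀ m : M, ϖ ^ n • m = 0) (f : N →ₗ[R] M) (hf : Function.Injective f) :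
    Module.finrank (ResidueField R) (ResidueField R ⊗[R] N) ≤
      Module.finrank (ResidueField R) (ResidueField R ⊗[R] M) :=
  ((LinearEquiv.ofInjective f hf).baseChange (A := ResidueField R)).finrank_eq.le.trans
    (Groth.Agent.S15368.result R ϖ hϖ n M hM (LinearMap.range f))

theorem finrank_le_of_span {N : Type v} [AddCommGroup N] [Module R N]
    {ι : Type*} [Fintype ι] (w : ι → N) (hw : Submodule.span R (Set.range w) = ⊤) :
    Module.finrank (ResidueField R) (ResidueField R ⊗[R] N) ≤ Fintype.card ι := by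
  classical
  let q : (ι → R) →ₗ[R] N := Fintype.linearCombination R w
  have hq : Function.Surjective q := by
    rw [← LinearMap.range_eq_top, Fintype.range_linearCombination, hw]
  have h := LinearMap.finrank_le_finrank_of_surjective (R := ResidueField R)
    (f := q.baseChange (ResidueField R)) (LinearMap.lTensor_surjective (ResidueField R) hq)
  exact h.trans (le_of_eq (Module.finrank_baseChange.trans (Module.finrank_fintype_fun_eq_card R)))

theorem dual_le (ϖ : R) (hϖ : Irreducible ϖ) (n : ℕ) (M : Type v) [AddCommGroup M] [Module R M]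
    [Module.Finite R M] :
    Module.finrank (ResidueField R) (ResidueField R ⊗[R] (M →ₗ[R] (R ⧸ Ideal.span {ϖ ^ n}))) ≤
      Module.finrank (ResidueField R) (ResidueField R ⊗[R] M) := by
  classical
  let b := Module.finBasis (ResidueField R) (ResidueField R ⊗[R] M)
  choose w hw using fun i => (TensorProduct.mk_surjective R M (ResidueField R) residue_surjective) (b i)
  have hspan : Submodule.span R (Set.range w) = ⊤ := IsLocalRing.span_eq_top_of_tmul_eq_basis w b hw
  let Q := R ⧸ Ideal.span {ϖ ^ n}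
  have hQ : ∀ x : Q, ϖ ^ n • x = 0 := fun x => by
    obtain ⟨y, rfl⟩ := Ideal.Quotient.mk_surjective x
    exact Ideal.Quotient.eq_zero_iff_mem.2 (Ideal.mul_mem_right _ _ (Ideal.mem_span_singleton_self _))
  let ev : (M →ₗ[R] Q) →ₗ[R] (ULift.{v} (Fin (Module.finrank (ResidueField R) (ResidueField R ⊗[R] M))) → Q) :=
    { toFun := fun g i => g (w i.down), map_add' := fun _ _ => rfl, map_smul' := fun _ _ => rfl }
  have hev : Function.Injective ev := fun g h e => LinearMap.ext_on_range hspan fun i => congrFun e ⟨i⟩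
  refine (mono ϖ hϖ n (fun m => funext fun i => hQ _) ev hev).trans ?_
  refine (finrank_le_of_span (fun i => Pi.single i (1 : Q)) ?_).trans (by simp)
  refine Submodule.eq_top_iff'.2 fun g => ?_
  rw [← Finset.univ_sum_single g]
  refine Submodule.sum_mem _ fun i _ => ?_
  obtain ⟨r, hr⟩ := Ideal.Quotient.mk_surjective (g i)
  have : Pi.single i (g i) = r • (Pi.single i (1 : Q) : _ → Q) := by
    rw [← Pi.single_smul, ← hr, Algebra.smul_def, mul_one]; rfl
  rw [this]
  exact Submodule.smul_mem _ _ (Submodule.subset_span ⟨i, rfl⟩)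

theorem exists_ne_zero (ϖ : R) (hϖ : Irreducible ϖ) (n : ℕ) (M : Type v) [AddCommGroup M] [Module R M]
    [Module.Finite R M] (hM : ∀ m : M, ϖ ^ n • m = 0) (m : M) (hm : m ≠ 0) :
    ∃ g : M →ₗ[R] (R ⧸ Ideal.span {ϖ ^ n}), g m ≠ 0 := by
  classical
  have htor : Module.IsTorsion' M (Submonoid.powers ϖ) := fun x => ⟨⟨ϖ ^ n, n, rfl⟩, hM x⟩
  obtain ⟨d, k, ⟨e⟩⟩ := Module.torsion_by_prime_power_decomposition hϖ htor
  obtain ⟨i, hi⟩ : ∃ i, e m i ≠ 0 := by
    by_contra h
    push_neg at h
    exact hm (e.map_eq_zero_iff.1 (DFinsupp.ext h))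
  have hk : k i ≤ n := by
    have h1 := congrArg (fun z => e z i) (hM (e.symm (DirectSum.lof R (Fin d) (fun j => R ⧸ R ∙ ϖ ^ k j) i (Submodule.Quotient.mk 1))))
    simp only [map_smul, LinearEquiv.apply_symm_apply, map_zero, DirectSum.smul_apply, DirectSum.lof_apply,
      DirectSum.zero_apply, ← Submodule.Quotient.mk_smul, smul_eq_mul, mul_one, Submodule.Quotient.mk_eq_zero,
      Submodule.mem_span_singleton] at h1
    obtain ⟨a, ha⟩ := h1
    exact (pow_dvd_pow_iff hϖ.ne_zero hϖ.not_isUnit).1 ⟨a, by rw [mul_comm]; exact ha.symm⟩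
  let φ : (R ⧸ R ∙ ϖ ^ k i) →ₗ[R] R ⧸ Ideal.span {ϖ ^ n} := Submodule.liftQ _
    (LinearMap.toSpanSingleton R (R ⧸ Ideal.span {ϖ ^ n}) (Ideal.Quotient.mk _ (ϖ ^ (n - k i)))) (by
      rw [Submodule.span_singleton_le_iff_mem, LinearMap.mem_ker, LinearMap.toSpanSingleton_apply,
        Algebra.smul_def, Ideal.Quotient.algebraMap_eq, ← map_mul, ← pow_add, Nat.add_sub_cancel' hk,
        Ideal.Quotient.eq_zero_iff_mem]
      exact Ideal.mem_span_singleton_self _)
  refine ⟨φ ∘ₗ DirectSum.component R (Fin d) (fun j => R ⧸ R ∙ ϖ ^ k j) i ∘ₗ e.toLinearMap, fun h => hi ?_⟩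
  obtain ⟨r, hr⟩ := Submodule.mkQ_surjective _ (e m i)
  have h' : φ (e m i) = 0 := h
  rw [← hr] at h' ⊢
  rw [Submodule.mkQ_apply, Submodule.Quotient.mk_eq_zero, Submodule.mem_span_singleton]
  simp only [φ, Submodule.mkQ_apply, Submodule.liftQ_apply, LinearMap.toSpanSingleton_apply, Algebra.smul_def,
    Ideal.Quotient.algebraMap_eq, ← map_mul, Ideal.Quotient.eq_zero_iff_mem, Ideal.mem_span_singleton] at h'
  rw [← Nat.add_sub_cancel' hk, pow_add] at h'
  obtain ⟨a, ha⟩ := h'
  refine ⟨a, ?_⟩
  rw [Nat.add_sub_cancel' hk] at ha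
  refine (mul_right_cancel₀ (pow_ne_zero (n - k i) hϖ.ne_zero) ?_).symm
  rw [ha, smul_eq_mul]; ring

/-- Let R be a discrete valuation ring with uniformizer π and residue field k, n ≥ 0, and M₀ a finitely
generated module over R/πⁿR, viewed as an R-module killed by πⁿ; put M₀* = Hom_R(M₀, R/πⁿR). Then
dim_k(M₀*/πM₀*) = dim_k(M₀/πM₀). The published lemma is stated for a finitely presented module over
the quotient of the ring of integers of an algebraic closure of K by the elements of valuation ≥ t,
with its dual into that quotient ring, and the published proof reduces it by descent to exactly this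
statement over the valuation ring of a finite extension of K; the row states that step. -/
theorem result
    (R : Type u) [CommRing R] [IsDomain R] [IsDiscreteValuationRing R] (ϖ : R) (hϖ : Irreducible ϖ) (n : ℕ)
    (M : Type v) [AddCommGroup M] [Module R M] [Module.Finite R M] (hM : ∀ m : M, ϖ ^ n • m = 0) :
    Module.finrank (IsLocalRing.ResidueField R)
        (IsLocalRing.ResidueField R ⊗[R] (M →ₗ[R] (R ⧸ Ideal.span {ϖ ^ n}))) =
      Module.finrank (IsLocalRing.ResidueField R) (IsLocalRing.ResidueField R ⊗[R] M) := by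
  refine le_antisymm (dual_le ϖ hϖ n M) ?_
  obtain ⟨d, s, hs⟩ := Module.Finite.exists_fin (R := R) (M := M)
  let ev : (M →ₗ[R] (R ⧸ Ideal.span {ϖ ^ n})) →ₗ[R] (Fin d → R ⧸ Ideal.span {ϖ ^ n}) :=
    { toFun := fun g i => g (s i), map_add' := fun _ _ => rfl, map_smul' := fun _ _ => rfl }
  haveI : IsNoetherianRing R := inferInstance
  haveI : Module.Finite R (M →ₗ[R] (R ⧸ Ideal.span {ϖ ^ n})) :=
    Module.Finite.of_injective ev fun g h e => LinearMap.ext_on_range hs fun i => congrFun e i
  have hQ : ∀ x : R ⧸ Ideal.span {ϖ ^ n}, ϖ ^ n • x = 0 := fun x => by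
    obtain ⟨y, rfl⟩ := Ideal.Quotient.mk_surjective x
    exact Ideal.Quotient.eq_zero_iff_mem.2 (Ideal.mul_mem_right _ _ (Ideal.mem_span_singleton_self _))
  let DD := (M →ₗ[R] (R ⧸ Ideal.span {ϖ ^ n})) →ₗ[R] (R ⧸ Ideal.span {ϖ ^ n})
  haveI : Module.Finite R DD := by
    obtain ⟨d', s', hs'⟩ := Module.Finite.exists_fin (R := R) (M := M →ₗ[R] (R ⧸ Ideal.span {ϖ ^ n}))
    let ev' : DD →ₗ[R] (Fin d' → R ⧸ Ideal.span {ϖ ^ n}) :=
      { toFun := fun g i => g (s' i), map_add' := fun _ _ => rfl, map_smul' := fun _ _ => rfl }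
    exact Module.Finite.of_injective ev' fun g h e => LinearMap.ext_on_range hs' fun i => congrFun e i
  let evM : ULift.{u} M →ₗ[R] DD :=
    { toFun := fun m => { toFun := fun g => g m.down, map_add' := fun _ _ => rfl, map_smul' := fun _ _ => rfl }
      map_add' := fun a b => LinearMap.ext fun g => g.map_add a.down b.down
      map_smul' := fun r a => LinearMap.ext fun g => g.map_smul r a.down }
  have hinj : Function.Injective evM := by
    rw [injective_iff_map_eq_zero]
    intro x hx
    by_contra hne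
    obtain ⟨g, hg⟩ := exists_ne_zero ϖ hϖ n M hM x.down (fun h => hne (ULift.ext _ _ h))
    exact hg (LinearMap.congr_fun hx g)
  rw [← (ULift.moduleEquiv (R := R) (M := M)).baseChange (A := IsLocalRing.ResidueField R) |>.finrank_eq]
  exact (mono ϖ hϖ n (fun φ => LinearMap.ext fun g => hQ (φ g)) evM hinj).trans (dual_le ϖ hϖ n _)

end Groth.Agent.S15367
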