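import Groth.Statements.S1157
import Groth.Agent.Lib.PicGal22.Desc

set_option autoImplicit false
open CategoryTheory CategoryTheory.Limits AlgebraicGeometry Opposite
universe u
open PicF

namespace Groth.Agent.S1157

/-- The descent statement only; injectivity of pullback on Picard groups and continuity of the Galois
action are not asserted: Let X be quasi-compact and quasi-separated over a field k, with ring of
global functions k itself and with a k-rational point, and let k'/k be a Galois extension. Then
every isomorphism class of invertible modules on X ×_k Spec k' which is fixed by all the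
automorphisms id_X × Spec σ, σ ∈ Gal(k'/k), is the pullback of the class of an invertible module on
X. -/
theorem result (k : Type u) [Field k] (X : Scheme.{u}) (f : X ⟶ Spec (CommRingCat.of k))
    [CompactSpace X] [QuasiSeparatedSpace X] (hH0 : IsIso f.appTop)
    (x : Spec (CommRingCat.of k) ⟶ X) (hx : x ≫ f = 𝟙 _)
    (k' : Type u) [Field k'] [Algebra k k'] [IsGalois k k']
    (d : PicF.Cl (pullback f (Spec.map (CommRingCat.ofHom (algebraMap k k'))))) (hd : PicF.IsInvertibleCl d)
    (hfix : ∀ σ : k' ≃ₐ[k] k', PicF.pullCl (PicF2.twistAut f σ) d = d) :
    ∃ c : PicF.Cl X, PicF.IsInvertibleCl c ∧ PicF.pullCl (pullback.fst f (Spec.map (CommRingCat.ofHom (algebraMap k k')))) c = d := by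
  haveI := ‹CompactSpace X›
  refine (PicGal22.exists_of_fixed f hH0 x hx k' (d := d) hd fun σ => ?_).imp fun c hc => hc
  refine Eq.trans ?_ (hfix σ)
  exact congrArg (fun m => PicF.pullCl m d) (pullback.hom_ext
    ((pullback.lift_fst _ _ _).trans (pullback.lift_fst _ _ _).symm)
    ((pullback.lift_snd _ _ _).trans (pullback.lift_snd _ _ _).symm))

end Groth.Agent.S1157
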