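import Groth.Statements.S1162
import Mathlib.AlgebraicGeometry.Morphisms.UniversallyInjective
import Mathlib.AlgebraicGeometry.Morphisms.UniversallyOpen
import Mathlib.AlgebraicGeometry.Morphisms.Separated


set_option autoImplicit false
open CategoryTheory CategoryTheory.Limits AlgebraicGeometry Opposite
universe u
open Desc

namespace Groth.Agent.S1162

/-- Let f : X ⟶ Y be flat and separated. Write X⁰ for the generic points of the irreducible components
of X. If for every ξ in X⁰ the residue field extension κ(f ξ) ⊆ κ(ξ) is trivial and f is injective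
on X⁰, then f is universally injective. -/
theorem result {X Y : Scheme.{u}} (f : X ⟶ Y) [Flat f] [IsSeparated f]
    (h2 : ∀ ξ : X, closure ({ξ} : Set X) ∈ irreducibleComponents (X : Type u) →
      Function.Surjective (f.residueFieldMap ξ).hom)
    (h3 : Set.InjOn f.base {ξ : X | closure ({ξ} : Set X) ∈ irreducibleComponents (X : Type u)}) :
    UniversallyInjective f := by
  rw [UniversallyInjective.iff_diagonal]
  constructor
  intro p
  have hcl : IsClosed (Set.range (pullback.diagonal f)) :=
    (pullback.diagonal f).isClosedEmbedding.isClosed_range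
  let P := pullback.diagonalObj f
  obtain ⟨p0, hp0, hmax⟩ : ∃ p0 : P, p0 ⤳ p ∧ ∀ q : P, q ⤳ p0 → q = p0 := by
    obtain ⟨Z, hZ, hle⟩ := exists_mem_irreducibleComponents_subset_of_isIrreducible ({p} : Set P)
      isIrreducible_singleton
    have hZc := isClosed_of_mem_irreducibleComponents Z hZ
    obtain ⟨p0, hp0⟩ := QuasiSober.sober hZ.1 hZc
    refine ⟨p0, hp0.specializes (hle rfl), fun q hq => ?_⟩
    have h1 : Z ⊆ closure {q} := by
      rw [← hp0.def]
      exact (specializes_iff_closure_subset).1 hq
    have h2 : closure ({q} : Set P) ⊆ Z := hZ.2 isIrreducible_singleton.closure h1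
    exact (hp0.eq (show closure ({q} : Set P) = Z from Set.Subset.antisymm h2 h1)).symm
  have hgen : ∀ g : P ⟶ X, Flat g → closure ({g p0} : Set X) ∈ irreducibleComponents (X : Type u) := by
    intro g hg
    refine ⟨isIrreducible_singleton.closure, fun Z hZ hle => ?_⟩
    obtain ⟨ξ, hξ⟩ := QuasiSober.sober hZ.closure isClosed_closure
    have hs : ξ ⤳ g p0 := hξ.specializes (subset_closure (hle (subset_closure rfl)))
    obtain ⟨q, hq, hqe⟩ := (Flat.generalizingMap (f := g)) hs
    rw [hmax q hq] at hqe
    rw [hqe, hξ.def]
    exact subset_closure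
  let a : P ⟶ X := pullback.fst f f
  let b : P ⟶ X := pullback.snd f f
  have hw : a ≫ f = b ≫ f := pullback.condition
  have hab : a p0 = b p0 := h3 (hgen a inferInstance) (hgen b inferInstance) (by
    simpa only [Scheme.Hom.comp_apply] using congrArg (fun k : P ⟶ Y => k p0) hw)
  have key : ∀ (K : Type u) [Field K] (x : X) (φ ψ : X.residueField x ⟶ CommRingCat.of K),
      closure ({x} : Set X) ∈ irreducibleComponents (X : Type u) →
      (Spec.map φ ≫ X.fromSpecResidueField x) ≫ f = (Spec.map ψ ≫ X.fromSpecResidueField x) ≫ f → φ = ψ := by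
    intro K _ x φ ψ hx h
    rw [Category.assoc, Category.assoc, ← Scheme.Hom.SpecMap_residueFieldMap_fromSpecResidueField,
      ← Spec.map_comp_assoc, ← Spec.map_comp_assoc, cancel_mono] at h
    have h' := Spec.map_injective h
    ext r
    obtain ⟨s, rfl⟩ := h2 x hx r
    exact congr($(h').hom s)
  let c := P.fromSpecResidueField p0
  have hc : c ≫ a = c ≫ b := by
    obtain ⟨⟨xa, φa⟩, ha⟩ := (Scheme.SpecToEquivOfField (P.residueField p0) X).symm.surjective (c ≫ a)
    obtain ⟨⟨xb, φb⟩, hb⟩ := (Scheme.SpecToEquivOfField (P.residueField p0) X).symm.surjective (c ≫ b)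
    change Spec.map φa ≫ X.fromSpecResidueField xa = c ≫ a at ha
    change Spec.map φb ≫ X.fromSpecResidueField xb = c ≫ b at hb
    let z : ↥(Spec (P.residueField p0)) := IsLocalRing.closedPoint (P.residueField p0)
    have hxa : xa = a p0 := by
      have := congrArg (fun k => k z) ha
      simp only [Scheme.Hom.comp_apply] at this
      exact (Scheme.fromSpecResidueField_apply _ _).symm.trans
        (this.trans (congrArg a (Scheme.fromSpecResidueField_apply _ _)))
    have hxb : xb = b p0 := by
      have := congrArg (fun k => k z) hb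
      simp only [Scheme.Hom.comp_apply] at this
      exact (Scheme.fromSpecResidueField_apply _ _).symm.trans
        (this.trans (congrArg b (Scheme.fromSpecResidueField_apply _ _)))
    obtain rfl : xa = xb := hxa.trans (hab.trans hxb.symm)
    rw [← ha, ← hb]
    rw [key (P.residueField p0) xa φa φb (hxa ▸ hgen a inferInstance) (by
      rw [ha, hb, Category.assoc, Category.assoc, hw])]
  have hmem : p0 ∈ Set.range (pullback.diagonal f) := by
    let z : ↥(Spec (P.residueField p0)) := IsLocalRing.closedPoint (P.residueField p0)
    refine ⟨(c ≫ a) z, ?_⟩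
    have : (c ≫ a) ≫ pullback.diagonal f = c := by
      apply pullback.hom_ext
      · simp [a]
      · simp only [Category.assoc, pullback.diagonal_snd, Category.comp_id]
        exact hc
    have h' := congrArg (fun k => k z) this
    simp only [Scheme.Hom.comp_apply] at h'
    exact h'.trans (Scheme.fromSpecResidueField_apply _ _)
  exact hp0.mem_closed hcl hmem


end Groth.Agent.S1162
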