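import Groth.Statements.S1168
import Groth.Agent.Lib.HilbBC25.Incl

set_option autoImplicit false
open CategoryTheory CategoryTheory.Limits AlgebraicGeometry
universe u
open HilbD

namespace Groth.Agent.S1168

section
open HilbBC25

variable {X Y S : Scheme.{u}} (i : X ⟶ Y) [IsClosedImmersion i] (g : Y ⟶ S)

/-- `X_T ⟶ Y_T` -/
noncomputable abbrev iT (T : Over S) : PicF.XT (i ≫ g) T ⟶ PicF.XT g T :=
  pullback.map (i ≫ g) T.hom g T.hom i (𝟙 _) (𝟙 S) (Category.comp_id _) (by simp)

theorem push_eq (T : Over S) (I : (PicF.XT (i ≫ g) T).IdealSheafData) :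
    HilbD.push i g T I = I.map (iT i g T) := rfl

theorem iT_fst (T : Over S) : iT i g T ≫ pullback.fst g T.hom = pullback.fst (i ≫ g) T.hom ≫ i :=
  pullback.lift_fst _ _ _

theorem iT_snd (T : Over S) : iT i g T ≫ PicF.XTproj g T = PicF.XTproj (i ≫ g) T :=
  (pullback.lift_snd _ _ _).trans (Category.comp_id _)

theorem isPullback_iT (T : Over S) :
    IsPullback (iT i g T) (pullback.fst (i ≫ g) T.hom) (pullback.fst g T.hom) i := by
  refine (IsPullback.of_bot (h₁₁ := pullback.fst (i ≫ g) T.hom) (v₁₁ := iT i g T) (v₁₂ := i)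
    (h₂₁ := pullback.fst g T.hom) (v₂₁ := pullback.snd g T.hom) (v₂₂ := g) (h₃₁ := T.hom) ?_
    (iT_fst i g T).symm (IsPullback.of_hasPullback g T.hom)).flip
  rw [show iT i g T ≫ pullback.snd g T.hom = pullback.snd (i ≫ g) T.hom from iT_snd i g T]
  exact IsPullback.of_hasPullback (i ≫ g) T.hom

instance (T : Over S) : IsClosedImmersion (iT i g T) :=
  MorphismProperty.of_isPullback (isPullback_iT i g T).flip ‹IsClosedImmersion i›

theorem ker_iT (T : Over S) : (iT i g T).ker = i.ker.comap (pullback.fst g T.hom) := by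
  rw [← Scheme.IdealSheafData.ker_fst_of_isClosedImmersion, ← (isPullback_iT i g T).isoPullback_hom_fst,
    Scheme.Hom.ker_comp_of_isIso]

theorem pull_ker_iT {T T' : Over S} (h : T' ⟶ T) : HilbD.pull g h (iT i g T).ker = (iT i g T').ker := by
  rw [pull_eq_comap, ker_iT, ker_iT, ← Scheme.IdealSheafData.comap_comp, XTmap_fst]

theorem ker_le_push (T : Over S) (I : (PicF.XT (i ≫ g) T).IdealSheafData) :
    (iT i g T).ker ≤ HilbD.push i g T I := by
  rw [push_eq, ← Scheme.IdealSheafData.map_bot]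
  exact (Scheme.IdealSheafData.map_gc (iT i g T)).monotone_u bot_le

theorem pull_push {T T' : Over S} (h : T' ⟶ T) (I : (PicF.XT (i ≫ g) T).IdealSheafData) :
    HilbD.pull g h (HilbD.push i g T I) = HilbD.push i g T' (HilbD.pull (i ≫ g) h I) := by
  have hle : (iT i g T').ker ≤ HilbD.pull g h (HilbD.push i g T I) := by
    rw [← pull_ker_iT i g h, pull_eq_comap, pull_eq_comap]
    exact (Scheme.IdealSheafData.map_gc (PicF.XTmap g h)).monotone_l (ker_le_push i g T I)
  rw [← map_comap_of_le (iT i g T') _ hle, push_eq i g T', pull_eq_comap, pull_eq_comap,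
    ← Scheme.IdealSheafData.comap_comp,
    show iT i g T' ≫ PicF.XTmap g h = PicF.XTmap (i ≫ g) h ≫ iT i g T from ?_,
    Scheme.IdealSheafData.comap_comp, push_eq i g T, comap_map_of_isClosedImmersion]
  refine pullback.hom_ext ?_ ?_
  · rw [Category.assoc, Category.assoc, XTmap_fst, iT_fst, iT_fst, ← Category.assoc, XTmap_fst]
  · rw [Category.assoc, Category.assoc, XTmap_snd, ← Category.assoc, iT_snd, iT_snd, XTmap_snd]

theorem push_injective (T : Over S) {I J : (PicF.XT (i ≫ g) T).IdealSheafData}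
    (h : HilbD.push i g T I = HilbD.push i g T J) : I = J := by
  rw [← comap_map_of_isClosedImmersion (iT i g T) I, ← comap_map_of_isClosedImmersion (iT i g T) J,
    ← push_eq, ← push_eq, h]

theorem push_deg (d : ℕ) (T : Over S) (I : HilbD.Obj (i ≫ g) d T) :
    Mor2.IsFinLocFreeOfDeg d ((HilbD.push i g T I.1).subschemeι ≫ PicF.XTproj g T) := by
  rw [push_eq]
  refine isFinLocFreeOfDeg_map (iT i g T) (PicF.XTproj g T) I.1 ?_
  rw [iT_snd]
  exact I.2

theorem deg_of_push (d : ℕ) (T : Over S) (J : (PicF.XT g T).IdealSheafData) (hle : (iT i g T).ker ≤ J)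
    (hJ : Mor2.IsFinLocFreeOfDeg d (J.subschemeι ≫ PicF.XTproj g T)) :
    Mor2.IsFinLocFreeOfDeg d ((J.comap (iT i g T)).subschemeι ≫ PicF.XTproj (i ≫ g) T) := by
  set K := J.comap (iT i g T) with hK
  have e : K.map (iT i g T) = J := map_comap_of_le _ _ hle
  have hJ' : Mor2.IsFinLocFreeOfDeg d ((K.subschemeι ≫ iT i g T).imageι ≫ PicF.XTproj g T) := by
    rw [← e] at hJ
    exact hJ
  haveI : IsIso (K.subschemeι ≫ iT i g T).toImage := inferInstance
  have e2 : K.subschemeι ≫ PicF.XTproj (i ≫ g) T =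
      (K.subschemeι ≫ iT i g T).toImage ≫ (K.subschemeι ≫ iT i g T).imageι ≫ PicF.XTproj g T := by
    rw [Scheme.Hom.toImage_imageι_assoc, Category.assoc, iT_snd]
  haveI := hJ'.1.1
  haveI := hJ'.1.2.1
  haveI := hJ'.1.2.2
  rw [e2]
  refine ⟨⟨inferInstance, inferInstance, inferInstance⟩, fun y => ?_⟩
  rw [Scheme.Hom.finrank_comp_left_of_isIso]
  exact hJ'.2 y

end

/-- Let i : X ⟶ Y be a closed immersion of schemes over S (structure morphisms i ≫ g and g) and suppose
(H, Z) represents the degree-d Hilbert functor of points of Y over S. Then the degree-d Hilbert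
functor of points of X over S is representable, and for any representing pair (H', Z') the unique
S-morphism H' ⟶ H classifying the image of Z' in Y ×_S H' is a closed immersion. -/
theorem result {X Y S : Scheme.{u}} (i : X ⟶ Y) [IsClosedImmersion i] (g : Y ⟶ S)
    (d : ℕ) (H : Over S) (Z : HilbD.Obj g d H) (hZ : HilbD.IsUniversal g d H Z) :
    HilbD.Representable (i ≫ g) d ∧
    ∀ (H' : Over S) (Z' : HilbD.Obj (i ≫ g) d H') (_ : HilbD.IsUniversal (i ≫ g) d H' Z') (m : H' ⟶ H),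
      HilbD.pull g m Z.1 = HilbD.push i g H' Z'.1 → IsClosedImmersion m.left := by
  let J₀ := (iT i g H).ker
  obtain ⟨V, j, hj, hV⟩ := HilbBC25.exists_closed_pull_le g (d := d) H J₀ Z.1 Z.2
  haveI := hj
  let HV : Over S := Over.mk (j ≫ H.hom)
  let jm : HV ⟶ H := Over.homMk j rfl
  have hle0 : (iT i g HV).ker ≤ HilbD.pull g jm Z.1 := by
    rw [← pull_ker_iT i g jm]
    exact (hV jm).1 ⟨𝟙 _, Category.id_comp _⟩
  let ZV : HilbD.Obj (i ≫ g) d HV := ⟨_, deg_of_push i g d HV _ hle0 (HilbBC25.isFinLocFreeOfDeg_pull g d jm Z.1 Z.2)⟩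
  have hZV : HilbD.push i g HV ZV.1 = HilbD.pull g jm Z.1 := by
    rw [push_eq]
    exact HilbBC25.map_comap_of_le _ _ hle0
  have huniv : HilbD.IsUniversal (i ≫ g) d HV ZV := by
    intro T Z'
    obtain ⟨m, hm, hmu⟩ := hZ T ⟨_, push_deg i g d T Z'⟩
    simp only at hm
    obtain ⟨z, hz⟩ := (hV m).2 (by rw [pull_ker_iT, hm]; exact ker_le_push i g T Z'.1)
    let zm : T ⟶ HV := Over.homMk z (by
      show z ≫ j ≫ H.hom = T.hom
      rw [reassoc_of% hz, Over.w m])
    have hzm : zm ≫ jm = m := Over.OverMorphism.ext hz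
    refine ⟨zm, push_injective i g T ?_, fun w hw => ?_⟩
    · rw [← pull_push, hZV, ← HilbBC25.pull_comp, hzm, hm]
    · have h2 : w ≫ jm = m := hmu _ (by
        show HilbD.pull g (w ≫ jm) Z.1 = _
        rw [HilbBC25.pull_comp, ← hZV, pull_push, hw])
      refine Over.OverMorphism.ext ?_
      show w.left = z
      rw [← cancel_mono j, hz]
      exact congrArg (fun q => q.left) h2
  refine ⟨⟨HV, ZV, huniv⟩, fun H' Z' hZ' m hm => ?_⟩
  obtain ⟨a, ha, -⟩ := huniv H' Z'
  obtain ⟨b, hb, -⟩ := hZ' HV ZV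
  have hab : a ≫ b = 𝟙 H' := (hZ' H' Z').unique
    (by show HilbD.pull _ (a ≫ b) Z'.1 = _; rw [HilbBC25.pull_comp, hb, ha]) (HilbBC25.pull_id _ _)
  have hba : b ≫ a = 𝟙 HV := (huniv HV ZV).unique
    (by show HilbD.pull _ (b ≫ a) ZV.1 = _; rw [HilbBC25.pull_comp, ha, hb]) (HilbBC25.pull_id _ _)
  have hma : a ≫ jm = m := (hZ H' ⟨_, push_deg i g d H' Z'⟩).unique
    (by show HilbD.pull g (a ≫ jm) Z.1 = _; rw [HilbBC25.pull_comp, ← hZV, pull_push, ha]) hm
  rw [← hma, Over.comp_left]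
  haveI : IsIso a := ⟨b, hab, hba⟩
  haveI : IsIso a.left := inferInstanceAs (IsIso ((Over.forget S).map a))
  show IsClosedImmersion (a.left ≫ j)
  infer_instance

end Groth.Agent.S1168
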