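import Groth.Statements.S1169
import Groth.Agent.Lib.CurveCartier25.Smooth

set_option autoImplicit false
open CategoryTheory CategoryTheory.Limits AlgebraicGeometry
universe u
open HilbD

namespace Groth.Agent.S1169

/-- Let f : X ⟶ S be smooth of relative dimension 1 and separated, and assume the Hilbert functor of
points of X over S is representable in every degree. Then for every d, any scheme H over S carrying
a universal family for the degree-d Hilbert functor of points is smooth over S. (The published
statement also asserts that H has relative dimension d over S; only smoothness is asserted here.) -/
theorem result {X S : Scheme.{u}} (f : X ⟶ S) [SmoothOfRelativeDimension 1 f] [IsSeparated f]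
    (hrep : ∀ e : ℕ, HilbD.Representable f e) (d : ℕ) (H : Over S) (Z : HilbD.Obj f d H)
    (hZ : HilbD.IsUniversal f d H Z) : Smooth H.hom := by
  exact CurveCartier25.smooth_hilb f hrep d H Z hZ

end Groth.Agent.S1169
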