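import Groth.Statements.S1178
import Groth.Agent.Lib.PushFin12.Basic

set_option autoImplicit false
open CategoryTheory CategoryTheory.Limits AlgebraicGeometry Opposite
universe u
open Desc

namespace Groth.Agent.S1178

/-- Let f : X ⟶ Y be finite and locally of finite presentation and F a quasi-coherent O_X-module. Then F
is finitely presented exactly when its pushforward f_*F is a finitely presented O_Y-module. -/
theorem result {X Y : Scheme.{u}} (f : X ⟶ Y) [IsFinite f] [LocallyOfFinitePresentation f]
    (F : X.Modules) [F.IsQuasicoherent] :
    CohB1.IsFP F ↔ CohB1.IsFP ((Scheme.Modules.pushforward f).obj F) := Groth.Agent.PushFin12.isFP_iff f F ‹_›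

end Groth.Agent.S1178
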