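import Groth.Statements.S1181
import Groth.Agent.Lib.HilbBC25.Basic
import Groth.Agent.Lib.FpqcDesc.Basic
import Groth.Agent.Lib.TorsorSch25.Transfer
import Mathlib.AlgebraicGeometry.Morphisms.LocalFlatDescent

set_option autoImplicit false
open CategoryTheory CategoryTheory.Limits AlgebraicGeometry
universe u
open HilbD

namespace Groth.Agent.S1181

/-- Let f : X ⟶ S, d a natural number, T an S-scheme and g : T' ⟶ T quasi-compact, flat and surjective,
viewed over S. Let Z' be a closed subscheme of X ×_S T' finite locally free of degree d over T'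
whose two pullbacks to X ×_S (T' ×_T T') coincide. Then there is exactly one closed subscheme of X
×_S T, finite locally free of degree d over T, pulling back to Z'. -/
theorem result {X S : Scheme.{u}} (f : X ⟶ S) (d : ℕ) (T : Over S) {T' : Scheme.{u}} (g : T' ⟶ T.left)
    [QuasiCompact g] [Flat g] [Surjective g] (Z' : HilbD.Obj f d (HilbD.coverOver T g))
    (hZ' : HilbD.pull f (HilbD.overlapFst T g) Z'.1 = HilbD.pull f (HilbD.overlapSnd T g) Z'.1) :
    ∃! I : (PicF.XT f T).IdealSheafData, Mor2.IsFinLocFreeOfDeg d (I.subschemeι ≫ PicF.XTproj f T) ∧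
      HilbD.pull f (HilbD.coverHom T g) I = Z'.1 := by
  let π : PicF.XT f (HilbD.coverOver T g) ⟶ PicF.XT f T := PicF.XTmap f (HilbD.coverHom T g)
  have hπ : IsPullback π (PicF.XTproj f (HilbD.coverOver T g)) (PicF.XTproj f T) g :=
    HilbBC25.isPullback_XTmap f (HilbD.coverHom T g)
  haveI : Flat π := MorphismProperty.of_isPullback hπ.flip ‹Flat g›
  haveI : Surjective π := MorphismProperty.of_isPullback hπ.flip ‹Surjective g›
  haveI : QuasiCompact π := MorphismProperty.of_isPullback hπ.flip ‹QuasiCompact g›
  have hdd : Z'.1.comap (pullback.fst π π) = Z'.1.comap (pullback.snd π π) := by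
    have hc : (pullback.fst π π ≫ PicF.XTproj f (HilbD.coverOver T g)) ≫ g =
        (pullback.snd π π ≫ PicF.XTproj f (HilbD.coverOver T g)) ≫ g := by
      rw [Category.assoc, Category.assoc, ← hπ.w, pullback.condition_assoc]
    have hfst : pullback.snd π π ≫ pullback.fst f (g ≫ T.hom) = pullback.fst π π ≫ pullback.fst f (g ≫ T.hom) := by
      have := congrArg (· ≫ pullback.fst f T.hom) (pullback.condition (f := π) (g := π))
      simp only [Category.assoc, π, HilbBC25.XTmap_fst] at this
      exact this.symm
    let m : pullback π π ⟶ PicF.XT f (HilbD.overlapOver T g) :=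
      pullback.lift (pullback.fst π π ≫ pullback.fst f (g ≫ T.hom))
        (pullback.lift (pullback.fst π π ≫ PicF.XTproj f (HilbD.coverOver T g))
          (pullback.snd π π ≫ PicF.XTproj f (HilbD.coverOver T g)) hc) (by
        show _ = _ ≫ (pullback.fst g g ≫ g) ≫ T.hom
        rw [Category.assoc, pullback.condition, Category.assoc, pullback.lift_fst_assoc, Category.assoc]
        rfl)
    have e1 : m ≫ PicF.XTmap f (HilbD.overlapFst T g) = pullback.fst π π := by
      refine pullback.hom_ext ?_ ?_
      · rw [Category.assoc]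
        erw [HilbBC25.XTmap_fst, pullback.lift_fst]
        rfl
      · rw [Category.assoc]
        erw [HilbBC25.XTmap_snd, pullback.lift_snd_assoc, pullback.lift_fst]
    have e2 : m ≫ PicF.XTmap f (HilbD.overlapSnd T g) = pullback.snd π π := by
      refine pullback.hom_ext ?_ ?_
      · rw [Category.assoc]
        erw [HilbBC25.XTmap_fst, pullback.lift_fst]
        exact hfst.symm
      · rw [Category.assoc]
        erw [HilbBC25.XTmap_snd, pullback.lift_snd_assoc, pullback.lift_snd]
    rw [← e1, ← e2, Scheme.IdealSheafData.comap_comp, Scheme.IdealSheafData.comap_comp,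
      ← HilbBC25.pull_eq_comap, ← HilbBC25.pull_eq_comap, hZ']
  set I := Z'.1.map π
  have hI : I.comap π = Z'.1 := GrpQuot.SubDesc.comap_map_of_comap_eq π Z'.1 hdd
  refine ⟨I, ⟨?_, (HilbBC25.pull_eq_comap f _ I).trans hI⟩, fun J hJ => ?_⟩
  · let q := I.subschemeι ≫ PicF.XTproj f T
    have hsq : IsPullback (pullback.snd π I.subschemeι) (pullback.fst π I.subschemeι ≫ PicF.XTproj f (HilbD.coverOver T g)) q g :=
      HilbBC25.isPullback_subscheme f (HilbD.coverHom T g) I
    have hd : Mor2.IsFinLocFreeOfDeg d (pullback.fst π I.subschemeι ≫ PicF.XTproj f (HilbD.coverOver T g)) := by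
      have h1 : Mor2.IsFinLocFreeOfDeg d ((I.comap π).subschemeι ≫ PicF.XTproj f (HilbD.coverOver T g)) :=
        hI.symm ▸ Z'.2
      rw [← Scheme.IdealSheafData.comapIso_inv_subschemeι, Category.assoc]
      haveI := h1.1.1
      haveI := h1.1.2.1
      haveI := h1.1.2.2
      refine ⟨⟨inferInstance, inferInstance, inferInstance⟩, fun y => ?_⟩
      rw [Scheme.Hom.finrank_comp_left_of_isIso]
      exact h1.2 y
    have hQ : (@Surjective ⊓ @Flat ⊓ @QuasiCompact : MorphismProperty Scheme.{u}) g :=
      ⟨⟨inferInstance, inferInstance⟩, inferInstance⟩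
    haveI := FpqcDesc.descendsAlong_isFinite.{u}
    haveI := TorsorSch25.flat_descendsAlong.{u}
    haveI : IsFinite q := MorphismProperty.of_isPullback_of_descendsAlong (P := @IsFinite) hsq.flip hQ hd.1.1
    haveI : Flat q := MorphismProperty.of_isPullback_of_descendsAlong (P := @Flat) hsq.flip hQ hd.1.2.1
    haveI : LocallyOfFinitePresentation q :=
      MorphismProperty.of_isPullback_of_descendsAlong (P := @LocallyOfFinitePresentation) hsq.flip hQ hd.1.2.2
    refine ⟨⟨‹_›, ‹_›, ‹_›⟩, fun y => ?_⟩
    obtain ⟨y', rfl⟩ := g.surjective y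
    exact (Scheme.Hom.finrank_of_isPullback _ _ _ _ hsq y').symm.trans (hd.2 y')
  · refine GrpQuot.SubDesc.comap_injective π ?_
    show J.comap π = I.comap π
    rw [hI, ← hJ.2]
    exact (HilbBC25.pull_eq_comap f _ J).symm

end Groth.Agent.S1181
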