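import Groth.Statements.S14152
import Groth.Agent.Lib.VB17.SmoothDuality
import Groth.Agent.Lib.VB17.TwistBound
import Groth.Agent.Lib.CurveCoh17.RegPoint
-- import your own Groth.Agent.* helpers here

set_option autoImplicit false
universe u
open CategoryTheory CategoryTheory.Limits AlgebraicGeometry
open Curves Groth.Agent.M1 Groth.Agent.M2 Groth.Agent.CurveCoh17 Groth.Agent.VB17

namespace Groth.Agent.S14152

/-- Let k be an algebraically closed field and C a smooth proper integral curve over k (proper and
smooth over k, integral, of dimension one) of genus g ≥ 1, where g = dim_k H^1(C, O_C). Then for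
every natural number r ≤ g there is an invertible O_C-module L of degree r, the degree being χ(L) −
χ(O_C), with dim_k H^0(C, L) = 1. (The published statement gives a non-empty open set of r-tuples of
points (x_i) with h^0(O(Σ x_i)) = 1 and is placed in a chapter working in characteristic 0; the
existence of one such divisor, stated here, is what the row records, and the printed argument does
not use the characteristic.) -/
theorem result (k : Type u) [Field k] [IsAlgClosed k]
    (X : Scheme.{u}) [X.Over (Spec (CommRingCat.of k))] [IsIntegral X]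
    [IsProper (X ↘ Spec (CommRingCat.of k))] [Smooth (X ↘ Spec (CommRingCat.of k))]
    (hdim : topologicalKrullDim ↥X = 1) (g : ℕ) (hg : Curv2.genus k X = g) (hg1 : 1 ≤ g)
    (r : ℕ) (hr : r ≤ g) :
    ∃ L : X.Modules, PicF.IsInvertible L ∧ Curv2.deg k X L 1 = (r : ℤ) ∧
      Module.finrank k (Coh.HH X L 0) = 1 := by
  obtain ⟨hX, h0, hbig⟩ := VB17.setup (k := k) (X := X) hdim
  obtain ⟨W, lam, hW⟩ := VB17.exists_dual (k := k) (X := X) hdim
  haveI := hX.like.noetherian
  have hreg : ∀ x : X, IsRegularLocalRing (X.presheaf.stalk x) := fun x =>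
    SmoothReg17.isRegularLocalRing_stalk (X ↘ Spec (CommRingCat.of k)) x
  induction r with
  | zero => exact ⟨_, PicLoc.isInvertible_structureModule X, deg_structureModule, h0⟩
  | succ r ih =>
    obtain ⟨L, hL, hd, hL0⟩ := ih (by omega)
    obtain ⟨L', hL', ⟨e⟩⟩ := exists_inverse hL
    have hV := isInvertible_tensor hW.inv hL'
    have hdual := hW.finrank_h1 hX h0 hbig hL hL' (tensorComm _ _ ≪≫ e)
    have hrr := hX.like.rr (isCoh_of_ofRank ((isInvertible_iff_isFinLocFreeOfRank_one _).1 hL))
    rw [hd, hL0, h0, hg] at hrr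
    haveI := hX.like.fin _ (isCoh_of_ofRank ((isInvertible_iff_isFinLocFreeOfRank_one _).1 hV)) 0
    haveI : Nontrivial (Coh.HH X (CohB1.tensorMod W L') 0) :=
      Module.finrank_pos_iff.1 (show 0 < Module.finrank k (Coh.HH X (CohB1.tensorMod W L') 0) by omega)
    haveI := hX.like.fin _ (CurveCoh17.isCoh_structureModule (X := X)) 0
    haveI : Nontrivial (Coh.HH X (Coh.structureModule X) 0) :=
      Module.finrank_pos_iff.1 (show 0 < Module.finrank k (Coh.HH X (Coh.structureModule X) 0) by omega)
    obtain ⟨z, hz⟩ := exists_ne (0 : Coh.HH X (CohB1.tensorMod W L') 0)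
    obtain ⟨o, ho⟩ := exists_ne (0 : Coh.HH X (Coh.structureModule X) 0)
    obtain ⟨P, hP, hgen, -⟩ := exists_closed_gen (k := k) hV (PicLoc.isInvertible_structureModule X)
      (hh0_ne_zero hz) (hh0_ne_zero ho)
    have hdrop := hX.like.finrank_twist_of_span hV hP ⟨hh0 _ z, top_le_iff.1 fun a _ =>
      Submodule.mem_span_singleton.2 (hgen.2 a)⟩
    have hI := isInvertible_pointIdeal hdim hreg hP
    have hdI := VB17.deg_pointIdeal (k := k) hX.like hP
    rw [finrank_residueField hP] at hdI
    set I := ClSub.idealMod (Scheme.IdealSheafData.vanishingIdeal (⟨{P}, hP⟩ : TopologicalSpace.Closeds X))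
    obtain ⟨J, hJ, ⟨eJ⟩⟩ := exists_inverse hI
    have hN := isInvertible_tensor hL hJ
    have hdN : Curv2.deg k X (CohB1.tensorMod L J) 1 = (r : ℤ) + 1 := by
      rw [hX.like.deg_tensor_invertible hL hJ, hX.like.deg_of_tensor_iso hI hJ eJ, hdI, hd]
      norm_num
    let eN : CohB1.tensorMod (CohB1.tensorMod L' I) (CohB1.tensorMod L J) ≅ Coh.structureModule X :=
      tensorAssoc L' I _ ≪≫ tensorIso (Iso.refl L') (tensorIso (Iso.refl I) (tensorComm L J) ≪≫
        (tensorAssoc I J L).symm ≪≫ tensorIso eJ (Iso.refl L) ≪≫ tensorLUnit L) ≪≫ tensorComm L' L ≪≫ e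
    refine ⟨_, hN, by rw [hdN]; push_cast; ring, ?_⟩
    have hdual' := hW.finrank_h1 hX h0 hbig hN (isInvertible_tensor hL' hI) eN
    rw [← (hequiv k (tensorAssoc W L' I) 0).finrank_eq] at hdual'
    have hrr' := hX.like.rr (isCoh_of_ofRank ((isInvertible_iff_isFinLocFreeOfRank_one _).1 hN))
    rw [hdN, h0, hg] at hrr'
    omega


end Groth.Agent.S14152
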