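import Groth.Statements.S1183
import Groth.Agent.Lib.FlatDepth.RingFib
import Groth.Agent.S9408


set_option autoImplicit false
universe u
open Desc

namespace Groth.Agent.S1183

/-- Let A → B be a smooth ring map of Noetherian rings and k a natural number. If A satisfies (R_k) then
so does B; and if moreover A → B is faithfully flat and B satisfies (R_k), then A does. -/
theorem result (A B : Type u) [CommRing A] [CommRing B] [IsNoetherianRing A] [IsNoetherianRing B]
    [Algebra A B] [Algebra.Smooth A B] (k : ℕ) :
    (LocCoh.HasRk k A → LocCoh.HasRk k B) ∧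
    (Module.FaithfullyFlat A B → LocCoh.HasRk k B → LocCoh.HasRk k A) := by
  have hreg : ∀ (p : Ideal A) [p.IsPrime], IsRegularRing (p.Fiber B) := fun p _ => by
    have hk : CAlg.IsGeometricallyRegular p.ResidueField p.ResidueField := fun k' _ _ _ => by
      exact IsRegularRing.of_ringEquiv (R := k') (Algebra.TensorProduct.rid p.ResidueField k' k').symm.toRingEquiv
    have h := Groth.Agent.S9408.result p.ResidueField p.ResidueField (p.Fiber B) hk
      p.ResidueField inferInstance
    exact IsRegularRing.of_ringEquiv (R := TensorProduct p.ResidueField p.ResidueField (p.Fiber B))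
      (Algebra.TensorProduct.lid p.ResidueField (p.Fiber B)).toRingEquiv
  have hfib : ∀ (q : Ideal B) [q.IsPrime], IsRegularLocalRing (EGA4.FibLocRing A B q) := fun q _ => by
    obtain ⟨p, _, Q, _, ⟨e⟩⟩ := FlatDepth.exists_fibLoc_equiv (A := A) q
    have := hreg p
    exact IsRegularLocalRing.of_ringEquiv (R := Localization.AtPrime Q) e
  refine ⟨fun hA => (FlatDepth.hasRk_iff_rkAt k B).2 fun q _ => ?_, fun hff hB =>
    (FlatDepth.hasRk_iff_rkAt k A).2 fun p hp => ?_⟩
  · exact FlatDepth.rkAt_of_fibres (A := A) q ((FlatDepth.hasRk_iff_rkAt k A).1 hA _)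
      fun q' _ _ _ => hfib q'
  · obtain ⟨q, hq⟩ := PrimeSpectrum.comap_surjective_of_faithfullyFlat (A := A) (B := B) ⟨p, hp⟩
    obtain rfl : q.asIdeal.comap (algebraMap A B) = p := congrArg PrimeSpectrum.asIdeal hq
    exact FlatDepth.rkAt_base q.asIdeal ((FlatDepth.hasRk_iff_rkAt k B).1 hB _)

end Groth.Agent.S1183
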