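import Groth.Statements.S1665
import Groth.Agent.Lib.Semilocal18.Element

set_option autoImplicit false
universe u
open Variety

namespace Groth.Agent.S1665

/-- Let B be a Noetherian domain of dimension one with finitely many maximal ideals and B' its integral
closure in its fraction field. Then B' is a Dedekind domain with finitely many maximal ideals, and
for every nonzero x in the Jacobson radical of B' and every y ∈ B' some power x^n satisfies x^n y ∈
B. -/
theorem result (B : Type u) [CommRing B] [IsDomain B] [IsNoetherianRing B]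
    (hdim : ringKrullDim B = 1) (hsl : Finite (MaximalSpectrum B)) :
    IsDedekindDomain (integralClosure B (FractionRing B)) ∧ Finite (MaximalSpectrum (integralClosure B (FractionRing B))) ∧
      ∀ x : integralClosure B (FractionRing B), x ≠ 0 → x ∈ (⊥ : Ideal (integralClosure B (FractionRing B))).jacobson →
        ∀ y : integralClosure B (FractionRing B), ∃ n : ℕ, (x ^ n * y).1 ∈ (algebraMap B (FractionRing B)).range := by
  let K := FractionRing B
  let B0 : Subring K := (algebraMap B K).range
  let e : B ≃+* B0 := RingEquiv.ofBijective (algebraMap B K).rangeRestrict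
    ⟨fun a b h => IsFractionRing.injective B K (congrArg Subtype.val h), (algebraMap B K).rangeRestrict_surjective⟩
  have he : ∀ b, ((e b : B0) : K) = algebraMap B K b := fun b => rfl
  haveI : IsNoetherianRing B0 := isNoetherianRing_of_ringEquiv B e
  haveI : Ring.KrullDimLE 1 B := Ring.krullDimLE_iff.2 hdim.le
  haveI : IsFractionRing B0 K := IsFractionRing.of_field _ _ fun z => by
    obtain ⟨a, b, hb, h⟩ := IsFractionRing.div_surjective (A := B) z
    exact ⟨e a, e b, h.symm⟩
  have hG : Semilocal18.Good B0 := ⟨inferInstance, inferInstance,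
    (ringKrullDim_eq_of_ringEquiv e).symm.trans hdim,
    Finite.of_injective (fun m : MaximalSpectrum B0 =>
      (⟨m.asIdeal.comap e.toRingHom, Ideal.comap_isMaximal_of_surjective _ e.surjective⟩ : MaximalSpectrum B))
      fun m m' h => MaximalSpectrum.ext (Ideal.comap_injective_of_surjective e.toRingHom e.surjective
        (congrArg MaximalSpectrum.asIdeal h))⟩
  haveI := hG.isDedekind_norm
  haveI := hG.isFractionRing_norm
  haveI := hG.finite_places
  have hiff : ∀ z : K, IsIntegral B0 z ↔ IsIntegral B z := by
    have hc : (algebraMap B0 K).comp e.toRingHom = algebraMap B K := rfl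
    intro z
    constructor
    · rintro ⟨p, hp, hpz⟩
      refine ⟨p.map e.symm.toRingHom, hp.map _, ?_⟩
      rw [Polynomial.eval₂_map, ← hc, RingHom.comp_assoc, RingEquiv.toRingHom_comp_symm_toRingHom,
        RingHom.comp_id]
      exact hpz
    · rintro ⟨p, hp, hpz⟩
      refine ⟨p.map e.toRingHom, hp.map _, ?_⟩
      rw [Polynomial.eval₂_map, hc]
      exact hpz
  let ε : integralClosure B K ≃+* Semilocal18.norm B0 :=
    { toFun := fun z => ⟨z.1, (hiff _).2 z.2⟩
      invFun := fun z => ⟨z.1, (hiff _).1 z.2⟩
      left_inv := fun _ => rfl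
      right_inv := fun _ => rfl
      map_mul' := fun _ _ => rfl
      map_add' := fun _ _ => rfl }
  haveI hD : IsDedekindDomain (integralClosure B K) := KrullAkizuki.isDedekindDomain_integralClosure B K K
  haveI : Finite (PrimeSpectrum B) := by
    haveI := hG.finite_primeSpectrum
    exact Finite.of_surjective (PrimeSpectrum.comap e.toRingHom) fun q =>
      ⟨PrimeSpectrum.comap e.symm.toRingHom q, PrimeSpectrum.ext (by ext b; simp)⟩
  haveI : Algebra.QuasiFinite B (integralClosure B K) :=
    NormRed18.quasiFinite_of_between B K (integralClosure B K) Subtype.val_injective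
  haveI : Finite (PrimeSpectrum (integralClosure B K)) :=
    Algebra.QuasiFinite.finite_primeSpectrum B (integralClosure B K)
  refine ⟨hD, Finite.of_injective (fun m => (⟨m.asIdeal, m.isMaximal.isPrime⟩ : PrimeSpectrum (integralClosure B K)))
    fun m m' h => MaximalSpectrum.ext (congrArg PrimeSpectrum.asIdeal h), fun x _ hx y => ?_⟩
  obtain ⟨f, ⟨N, hN, hfN⟩, hf⟩ := hG.exists_pow_mem_jacobson (x.1 : K) fun p => by
    refine (p.valuation_lt_one_iff_mem (K := K) (ε x)).2 ?_
    haveI : (p.asIdeal.comap ε.toRingHom).IsMaximal :=
      haveI := p.isMaximal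
      Ideal.comap_isMaximal_of_surjective _ ε.surjective
    exact (Ideal.mem_sInf.1 hx) ⟨bot_le, this⟩
  obtain ⟨M, hM⟩ := hG.exists_pow_mul_mem f hf y.1
  refine ⟨N * M, ?_⟩
  have h := hM M le_rfl
  rw [hfN, ← pow_mul] at h
  exact h

end Groth.Agent.S1665
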