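import Groth.Statements.S7635
import Groth.Agent.Lib.Kunneth1.Main
import Groth.Agent.Lib.AssField12.Basic

set_option autoImplicit false
universe u
open CategoryTheory CategoryTheory.Limits AlgebraicGeometry
open scoped TensorProduct
open Variety

namespace Groth.Agent.S7635

open AlgebraicGeometry CategoryTheory in
/-- Affine opens meet in affine opens when the diagonal over an affine base is affine. -/
theorem inf_affine {S X : Scheme.{u}} [IsAffine S] (f : X ⟶ S) [h : IsAffineHom (Limits.pullback.diagonal f)] :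
    ∀ V W : X.Opens, IsAffineOpen V → IsAffineOpen W → IsAffineOpen (V ⊓ W) := by
  haveI : IsAffineHom (Limits.pullback.diagonal (Limits.terminal.from X)) := by
    rw [← Limits.terminal.comp_from f]
    exact MorphismProperty.comp_mem (MorphismProperty.diagonal @IsAffineHom) f (Limits.terminal.from S) h
      (show IsAffineHom (Limits.pullback.diagonal (Limits.terminal.from S)) from inferInstance)
  exact fun V W hV hW => hV.inf hW


/-- Let X and Y be quasi-compact schemes over a field k whose diagonal morphisms over k are affine (for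
instance X and Y separated over k), F a quasi-coherent O_X-module and G a quasi-coherent O_Y-module.
Then for every n ≥ 0 the k-vector space H^n(X ×_k Y, pr_1^*F ⊗ pr_2^*G) is isomorphic to ⊕_{p+q=n}
H^p(X, F) ⊗_k H^q(Y, G). (The published statement asserts that the canonical map built from
pullbacks and cup products is an isomorphism; this row asserts only that some k-linear isomorphism
exists.) -/
theorem result (k : Type u) [Field k] (X : Scheme.{u}) [X.Over (Spec (CommRingCat.of k))] [CompactSpace ↥X] [IsAffineHom (pullback.diagonal (X ↘ (Spec (CommRingCat.of k))))]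
    (Y : Scheme.{u}) [Y.Over (Spec (CommRingCat.of k))] [CompactSpace ↥Y] [IsAffineHom (pullback.diagonal (Y ↘ (Spec (CommRingCat.of k))))]
    (F : X.Modules) (hF : Coh.IsQCoh F) (G : Y.Modules) (hG : Coh.IsQCoh G) (n : ℕ) :
    letI : (pullback (X ↘ (Spec (CommRingCat.of k))) (Y ↘ (Spec (CommRingCat.of k)))).Over (Spec (CommRingCat.of k)) := ⟨pullback.fst (X ↘ (Spec (CommRingCat.of k))) (Y ↘ (Spec (CommRingCat.of k))) ≫ (X ↘ (Spec (CommRingCat.of k)))⟩
    Nonempty ((Π p : Fin (n + 1), Coh.HH X F (p : ℕ) ⊗[k] Coh.HH Y G (n - (p : ℕ))) ≃ₗ[k]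
      Coh.HH (pullback (X ↘ (Spec (CommRingCat.of k))) (Y ↘ (Spec (CommRingCat.of k)))) (CohB1.tensorMod ((Scheme.Modules.pullback (pullback.fst (X ↘ (Spec (CommRingCat.of k))) (Y ↘ (Spec (CommRingCat.of k))))).obj F)
        ((Scheme.Modules.pullback (pullback.snd (X ↘ (Spec (CommRingCat.of k))) (Y ↘ (Spec (CommRingCat.of k))))).obj G)) n) := by
  letI : (pullback (X ↘ (Spec (CommRingCat.of k))) (Y ↘ (Spec (CommRingCat.of k)))).Over (Spec (CommRingCat.of k)) :=
    ⟨pullback.fst (X ↘ (Spec (CommRingCat.of k))) (Y ↘ (Spec (CommRingCat.of k))) ≫ (X ↘ (Spec (CommRingCat.of k)))⟩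
  have hD : Groth.Agent.Kunneth1.Data k (pullback.fst (X ↘ (Spec (CommRingCat.of k))) (Y ↘ (Spec (CommRingCat.of k))))
      (pullback.snd (X ↘ (Spec (CommRingCat.of k))) (Y ↘ (Spec (CommRingCat.of k)))) F :=
    ⟨⟨IsPullback.of_hasPullback _ _, rfl⟩, inferInstance, inf_affine (X ↘ (Spec (CommRingCat.of k))), inferInstance,
      inf_affine (Y ↘ (Spec (CommRingCat.of k))), hF,
      Groth.Agent.AssField12.isFlatOver_spec_field _ _, fun _ => inferInstance⟩
  exact Groth.Agent.Kunneth1.nonempty_kunneth hD hG n

end Groth.Agent.S7635
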