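import Groth.Statements.S1191
import Mathlib.RingTheory.Ideal.AssociatedPrime.Finiteness

set_option autoImplicit false
universe u
open FlatMor

set_option backward.isDefEq.respectTransparency.types false

namespace Groth.Agent.S1191

open TensorProduct in
/-- For a finitely presented algebra S over R, a finitely presented S-module N and a prime q of S over
p, some element of S outside q maps into every associated prime of the fibre module of N over p that
is not contained in the extension of q to the fibre ring. -/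
theorem result {R S : Type u} [CommRing R] [CommRing S] [Algebra R S] [Algebra.FinitePresentation R S]
    (N : Type u) [AddCommGroup N] [Module S N] [Module R N] [IsScalarTower R S N] [Module.FinitePresentation S N]
    (p : Ideal R) [p.IsPrime] (q : Ideal S) [q.IsPrime] [q.LiesOver p] :
    ∃ g : S, g ∉ q ∧ ∀ r ∈ associatedPrimes (p.Fiber S) (FlatCA.fiberMod p S N),
      ¬ r ≤ FlatCA.fiberIdeal p q → (1 : p.ResidueField) ⊗ₜ[R] g ∈ r := by
  classical
  letI : Algebra S (p.Fiber S) := Algebra.TensorProduct.rightAlgebra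
  haveI : IsNoetherianRing (p.Fiber S) := Algebra.FiniteType.isNoetherianRing p.ResidueField (p.Fiber S)
  haveI : Module.Finite (p.Fiber S) (FlatCA.fiberMod p S N) :=
    inferInstanceAs (Module.Finite (p.Fiber S) ((p.Fiber S) ⊗[S] N))
  have hfin := associatedPrimes.finite (p.Fiber S) (FlatCA.fiberMod p S N)
  let φ : S →+* p.Fiber S := (Algebra.TensorProduct.includeRight (R := R) (A := p.ResidueField) (B := S)).toRingHom
  have hscale : ∀ z : p.Fiber S, ∃ c : p.ResidueField, c ≠ 0 ∧ ∃ s : S,
      (algebraMap p.ResidueField (p.Fiber S) c) * z = φ s := by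
    intro z
    obtain ⟨c, hc, s, hcs⟩ := Ideal.Fiber.exists_smul_eq_one_tmul _ z
    refine ⟨algebraMap R p.ResidueField c, ?_, s, ?_⟩
    · rw [Ne, Ideal.algebraMap_residueField_eq_zero]
      exact hc
    · rw [← IsScalarTower.algebraMap_apply, ← Algebra.smul_def]
      exact hcs
  have key : ∀ r ∈ hfin.toFinset, ∃ s : S, ¬ r ≤ FlatCA.fiberIdeal p q → s ∉ q ∧ φ s ∈ r := fun r hr => by
    by_cases h : r ≤ FlatCA.fiberIdeal p q
    · exact ⟨0, fun h' => absurd h h'⟩
    obtain ⟨z, hzr, hzq⟩ := SetLike.not_le_iff_exists.1 h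
    obtain ⟨c, hc, s, hcs⟩ := hscale z
    refine ⟨s, fun _ => ⟨fun hs => hzq ?_, hcs ▸ r.mul_mem_left _ hzr⟩⟩
    have h1 : (algebraMap p.ResidueField (p.Fiber S) c) * z ∈ FlatCA.fiberIdeal p q :=
      hcs.symm ▸ Ideal.mem_map_of_mem φ hs
    exact (Ideal.unit_mul_mem_iff_mem _ ((isUnit_iff_ne_zero.2 hc).map _)).1 h1
  choose s hs using key
  let t := hfin.toFinset.attach.filter fun r => ¬ r.1 ≤ FlatCA.fiberIdeal p q
  refine ⟨∏ r ∈ t, s r.1 r.2, fun hmem => ?_, fun r hr hrq => ?_⟩
  · obtain ⟨r, hrt, hrm⟩ := (Ideal.IsPrime.prod_mem_iff).1 hmem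
    exact (hs r.1 r.2 (Finset.mem_filter.1 hrt).2).1 hrm
  · have hrt : (⟨r, hfin.mem_toFinset.2 hr⟩ : {x // x ∈ hfin.toFinset}) ∈ t := by simp [t, hrq]
    show φ (∏ r ∈ t, s r.1 r.2) ∈ r
    rw [map_prod, ← Finset.mul_prod_erase _ _ hrt]
    exact r.mul_mem_right _ (hs r (hfin.mem_toFinset.2 hr) hrq).2

end Groth.Agent.S1191
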