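import Groth.Statements.S1192
import Groth.Agent.Lib.Dev4.WeakAssTensorIff

set_option autoImplicit false
universe u
open FlatMor

set_option backward.isDefEq.respectTransparency.types false

set_option backward.isDefEq.respectTransparency.types false
namespace Groth.Agent.S1192

open TensorProduct in
/-- For a finitely presented ring map from R to S, a finitely presented S-module N which is flat over R,
an arbitrary R-module M and a prime q of S over the prime p of R: q is weakly associated to the
S-module N ⊗ M exactly when p is weakly associated to M and the extension of q to the fibre ring
over p is an associated prime of the fibre module of N. -/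
theorem result {R S : Type u} [CommRing R] [CommRing S] [Algebra R S] [Algebra.FinitePresentation R S]
    (N : Type u) [AddCommGroup N] [Module S N] [Module R N] [IsScalarTower R S N] [Module.FinitePresentation S N] [Module.Flat R N]
    (M : Type u) [AddCommGroup M] [Module R M]
    (p : Ideal R) [p.IsPrime] (q : Ideal S) [q.IsPrime] [q.LiesOver p] :
    q ∈ FlatCA.weakAss S (N ⊗[R] M) ↔
      (p ∈ FlatCA.weakAss R M ∧ FlatCA.fiberIdeal p q ∈ associatedPrimes (p.Fiber S) (FlatCA.fiberMod p S N)) := by
  exact Dev4.mem_weakAss_tensor_iff N M p q
    (RG4.flat_of_isLocalizedModule q.primeCompl (LocalizedModule.mkLinearMap q.primeCompl N))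

end Groth.Agent.S1192
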