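import Groth.Statements.S1193
import Mathlib.RingTheory.Ideal.AssociatedPrime.Finiteness
import Mathlib.RingTheory.Localization.Ideal
import Mathlib.RingTheory.LocalRing.ResidueField.Ideal

set_option autoImplicit false
universe u
open FlatMor

namespace Groth.Agent.S1193


section
variable {S F M : Type u} [CommRing S] [CommRing F] [Algebra S F] [AddCommGroup M] [Module S M] [Module F M] [IsScalarTower S F M]
  (hs : Function.Surjective (algebraMap S F))

lemma colon_eq (z : M) : (⊥ : Submodule S M).colon {z} = ((⊥ : Submodule F M).colon {z}).comap (algebraMap S F) := by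
  ext s
  simp [Submodule.mem_colon_singleton, algebraMap_smul]

include hs in
lemma associatedPrimes_eq_image :
    associatedPrimes S M = Ideal.comap (algebraMap S F) '' associatedPrimes F M := by
  ext q
  constructor
  · rintro ⟨hq, z, rfl⟩
    have e : ((⊥ : Submodule S M).colon {z}).radical = (((⊥ : Submodule F M).colon {z}).radical).comap (algebraMap S F) := by
      rw [colon_eq (F := F), Ideal.comap_radical]
    refine ⟨_, ⟨?_, z, rfl⟩, e.symm⟩
    rw [e] at hq
    refine ⟨fun h => hq.ne_top (by rw [h, Ideal.comap_top]), fun {a b} hab => ?_⟩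
    obtain ⟨a, rfl⟩ := hs a
    obtain ⟨b, rfl⟩ := hs b
    rw [← map_mul] at hab
    exact hq.mem_or_mem (Ideal.mem_comap.2 hab)
  · rintro ⟨P, ⟨hP, z, rfl⟩, rfl⟩
    exact ⟨inferInstance, z, by rw [Ideal.comap_radical, ← colon_eq]⟩

include hs in
lemma primes_nzd [IsNoetherianRing F] [Module.Finite F M] :
    (∀ (q : Ideal S) [q.IsPrime], Disjoint (q : Set S) (nonZeroSMulDivisors S M) ↔ ∃ q' ∈ associatedPrimes S M, q ≤ q') ∧
    {Q : Ideal (Localization (nonZeroSMulDivisors S M)) | Q.IsMaximal}.Finite ∧
    (∀ Q : Ideal (Localization (nonZeroSMulDivisors S M)), Q.IsMaximal ↔ (Q.IsPrime ∧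
        Maximal (fun r => r ∈ associatedPrimes S M) (Q.comap (algebraMap S (Localization (nonZeroSMulDivisors S M)))))) := by
  classical
  have hfin : (associatedPrimes S M).Finite := by
    rw [associatedPrimes_eq_image (F := F) hs]; exact (associatedPrimes.finite F M).image _
  have h1 : ∀ (q : Ideal S) [q.IsPrime], Disjoint (q : Set S) (nonZeroSMulDivisors S M) ↔ ∃ q' ∈ associatedPrimes S M, q ≤ q' := by
    intro q _
    constructor
    · intro h
      have hsub : (q : Set S) ⊆ ⋃ p ∈ (↑hfin.toFinset : Set (Ideal S)), (p : Set S) := by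
        intro s hsq
        have : s ∉ nonZeroSMulDivisors S M := Set.disjoint_left.1 h hsq
        have hz : algebraMap S F s ∈ {r : F | ∃ x : M, x ≠ 0 ∧ r • x = 0} := by
          simp only [nonZeroSMulDivisors, Submonoid.mem_mk, Subsemigroup.mem_mk, Set.mem_setOf_eq, not_forall] at this
          obtain ⟨z, hz, hz0⟩ := this
          exact ⟨z, hz0, by rwa [algebraMap_smul]⟩
        rw [← biUnion_associatedPrimes_eq_zero_divisors] at hz
        obtain ⟨P, hP, hsP⟩ := Set.mem_iUnion₂.1 hz
        exact Set.mem_biUnion (x := P.comap (algebraMap S F)) (Finset.mem_coe.2 (hfin.mem_toFinset.2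
          ((associatedPrimes_eq_image (F := F) hs).ge ⟨P, hP, rfl⟩))) hsP
      rw [Ideal.subset_union_prime ⊥ ⊥ fun p hp _ _ => (hfin.mem_toFinset.1 hp).isPrime] at hsub
      obtain ⟨p, hp, hle⟩ := hsub
      exact ⟨p, hfin.mem_toFinset.1 hp, hle⟩
    · rintro ⟨q', hq', hle⟩
      rw [associatedPrimes_eq_image (F := F) hs] at hq'
      obtain ⟨P, hP, rfl⟩ := hq'
      rw [Set.disjoint_left]
      intro s hsq hsn
      have : algebraMap S F s ∈ {r : F | ∃ x : M, x ≠ 0 ∧ r • x = 0} := by
        rw [← biUnion_associatedPrimes_eq_zero_divisors]; exact Set.mem_biUnion hP (hle hsq)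
      obtain ⟨z, hz0, hz⟩ := this
      rw [algebraMap_smul] at hz
      exact hz0 (hsn z hz)
  let L := Localization (nonZeroSMulDivisors S M)
  have key : ∀ Q : Ideal L, Q.IsMaximal ↔ (Q.IsPrime ∧ Maximal (fun r => r ∈ associatedPrimes S M) (Q.comap (algebraMap S L))) := by
    intro Q
    constructor
    · intro hQ
      have := hQ.isPrime
      have hd : Disjoint ((Q.comap (algebraMap S L) : Ideal S) : Set S) (nonZeroSMulDivisors S M) :=
        ((IsLocalization.isPrime_iff_isPrime_disjoint (nonZeroSMulDivisors S M) L Q).1 this).2.symm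
      obtain ⟨q', hq', hle⟩ := (h1 _).1 hd
      have : q'.IsPrime := hq'.isPrime
      have hd' : Disjoint (nonZeroSMulDivisors S M : Set S) (q' : Set S) := ((h1 q').2 ⟨q', hq', le_rfl⟩).symm
      have hmax : ∀ r ∈ associatedPrimes S M, Q.comap (algebraMap S L) ≤ r → r = Q.comap (algebraMap S L) := by
        intro r hr hle
        have : r.IsPrime := hr.isPrime
        have hdr : Disjoint (nonZeroSMulDivisors S M : Set S) (r : Set S) := ((h1 r).2 ⟨r, hr, le_rfl⟩).symm
        have hmap := IsLocalization.map_comap (nonZeroSMulDivisors S M) L Q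
        have hQr : Q ≤ r.map (algebraMap S L) := by
          rw [← hmap]; exact Ideal.map_mono hle
        have hrp := IsLocalization.isPrime_of_isPrime_disjoint (nonZeroSMulDivisors S M) L r inferInstance hdr
        rw [hQ.eq_of_le hrp.ne_top hQr]
        exact (IsLocalization.under_map_of_isPrime_disjoint (nonZeroSMulDivisors S M) L inferInstance hdr).symm
      refine ⟨inferInstance, ?_, fun r hr hle => (hmax r hr hle).le⟩
      exact hmax q' hq' hle ▸ hq'
    · rintro ⟨hQ, hmem, hmax⟩
      refine ⟨⟨hQ.ne_top, fun J hJ => ?_⟩⟩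
      by_contra hne
      obtain ⟨P, hP, hJP⟩ := Ideal.exists_le_maximal J hne
      have := hP.isPrime
      have hd : Disjoint ((P.comap (algebraMap S L) : Ideal S) : Set S) (nonZeroSMulDivisors S M) :=
        ((IsLocalization.isPrime_iff_isPrime_disjoint (nonZeroSMulDivisors S M) L P).1 this).2.symm
      obtain ⟨q', hq', hle⟩ := (h1 _).1 hd
      have hlt : Q < P := hJ.trans_le hJP
      have h2 : P.comap (algebraMap S L) ≤ Q.comap (algebraMap S L) :=
        hle.trans (hmax hq' ((Ideal.comap_mono hlt.le).trans hle))
      have h3 := Ideal.map_mono (f := algebraMap S L) h2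
      rw [IsLocalization.map_comap (nonZeroSMulDivisors S M), IsLocalization.map_comap (nonZeroSMulDivisors S M)] at h3
      exact hlt.not_ge h3
  refine ⟨h1, Set.Finite.of_finite_image (f := fun Q : Ideal L => Q.comap (algebraMap S L)) (hfin.subset ?_) ?_, key⟩
  · rintro _ ⟨Q, hQ, rfl⟩
    exact ((key Q).1 hQ).2.1
  · intro Q _ Q' _ he
    rw [← IsLocalization.map_comap (nonZeroSMulDivisors S M) L Q, ← IsLocalization.map_comap (nonZeroSMulDivisors S M) L Q']
    exact congrArg _ he
end

open IsLocalRing in
lemma includeRight_surjective {R S : Type u} [CommRing R] [IsLocalRing R] [CommRing S] [Algebra R S] :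
    Function.Surjective (Algebra.TensorProduct.includeRight : S →ₐ[R] (maximalIdeal R).Fiber S) := by
  intro z
  induction z using TensorProduct.induction_on with
  | zero => exact ⟨0, map_zero _⟩
  | add x y hx hy =>
    obtain ⟨a, rfl⟩ := hx
    obtain ⟨b, rfl⟩ := hy
    exact ⟨a + b, map_add _ _ _⟩
  | tmul c s =>
    obtain ⟨r, rfl⟩ := (maximalIdeal R).algebraMap_residueField_surjective c
    exact ⟨r • s, by rw [Algebra.TensorProduct.includeRight_apply, TensorProduct.tmul_smul, TensorProduct.smul_tmul', Algebra.smul_def, mul_one]⟩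

open IsLocalRing in
/-- Let R be a local ring, S an R-algebra whose closed fibre ring is Noetherian and N an S-module whose
closed fibre module N/𝔪N is finite. Let Σ be the set of elements of S acting injectively on N/𝔪N.
Then a prime of S is disjoint from Σ exactly when it lies inside an associated prime of N/𝔪N (the
primes of the localization at Σ), the localization of S at Σ has finitely many maximal ideals, and
an ideal of that localization is maximal exactly when it is prime and contracts to a maximal member
of the set of associated primes of N/𝔪N. -/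
theorem result {R S : Type u} [CommRing R] [IsLocalRing R] [CommRing S] [Algebra R S]
    (N : Type u) [AddCommGroup N] [Module S N] [Module R N] [IsScalarTower R S N]
    [IsNoetherianRing ((maximalIdeal R).Fiber S)]
    [Module.Finite ((maximalIdeal R).Fiber S) (FlatCA.fiberMod (maximalIdeal R) S N)] :
    (∀ (q : Ideal S) [q.IsPrime], Disjoint (q : Set S) (FlatCA.nzdFiber R S N) ↔
        ∃ q' ∈ associatedPrimes S (FlatCA.fiberMod (maximalIdeal R) S N), q ≤ q') ∧
    {Q : Ideal (Localization (FlatCA.nzdFiber R S N)) | Q.IsMaximal}.Finite ∧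
    (∀ Q : Ideal (Localization (FlatCA.nzdFiber R S N)), Q.IsMaximal ↔ (Q.IsPrime ∧
        Maximal (fun r => r ∈ associatedPrimes S (FlatCA.fiberMod (maximalIdeal R) S N))
          (Q.comap (algebraMap S (Localization (FlatCA.nzdFiber R S N)))))) := by
  letI : Algebra S ((maximalIdeal R).Fiber S) := Algebra.TensorProduct.rightAlgebra
  have : IsScalarTower S ((maximalIdeal R).Fiber S) (FlatCA.fiberMod (maximalIdeal R) S N) :=
    inferInstanceAs (IsScalarTower S ((maximalIdeal R).Fiber S) (TensorProduct S ((maximalIdeal R).Fiber S) N))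
  exact primes_nzd (F := (maximalIdeal R).Fiber S) (M := FlatCA.fiberMod (maximalIdeal R) S N) includeRight_surjective

end Groth.Agent.S1193
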