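import Groth.Statements.S1194
import Groth.Agent.Lib.SchDom.FlatInj
import Groth.Agent.Lib.FlatH4.FlatLocusFP
import Groth.Agent.Lib.FlatH4.FlatAt
import Groth.Agent.Lib.CI2.FibAss

set_option autoImplicit false
universe u
open FlatMor
set_option maxHeartbeats 1000000
set_option linter.style.haveILetI false

set_option backward.isDefEq.respectTransparency.types false

namespace Groth.Agent.S1194


open TensorProduct

/-- A finitely presented module over a localisation comes from a finitely presented module. -/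
theorem exists_fp_model {S₀ S N : Type u} [CommRing S₀] [CommRing S] [Algebra S₀ S] (T : Submonoid S₀) [IsLocalization T S]
    [AddCommGroup N] [Module S N] [Module S₀ N] [IsScalarTower S₀ S N] [Module.FinitePresentation S N] :
    ∃ (N₀ : Type u) (_ : AddCommGroup N₀) (_ : Module S₀ N₀) (ν : N₀ →ₗ[S₀] N),
      Module.FinitePresentation S₀ N₀ ∧ IsLocalizedModule T ν := by
  classical
  obtain ⟨n, K, e, ⟨s, hs⟩⟩ := Module.FinitePresentation.exists_fin S N
  choose c hc using fun v : (Fin n → S) => IsLocalization.exist_integer_multiples_of_finite T v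
  choose g hg using hc
  let ι : (Fin n → S₀) →ₗ[S₀] (Fin n → S) := LinearMap.pi fun i => Algebra.linearMap S₀ S ∘ₗ LinearMap.proj i
  haveI : IsLocalizedModule T ι := IsLocalizedModule.pi T _
  let K₀ : Submodule S₀ (Fin n → S₀) := Submodule.span S₀ (g '' (s : Set (Fin n → S)))
  have hu : ∀ v : Fin n → S, IsUnit (algebraMap S₀ S (c v : S₀)) := fun v => IsLocalization.map_units S (c v)
  have hι : ∀ v, ι (g v) = algebraMap S₀ S (c v : S₀) • v := fun v => funext fun i => by
    rw [Pi.smul_apply, smul_eq_mul, ← Algebra.smul_def]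
    exact hg v i
  have hK : K₀.localized' S T ι = K := by
    rw [Submodule.localized'_span, ← hs]
    refine le_antisymm (Submodule.span_le.2 ?_) (Submodule.span_le.2 fun v hv => ?_)
    · rintro _ ⟨_, ⟨v, hv, rfl⟩, rfl⟩
      rw [hι]
      exact Submodule.smul_mem _ _ (Submodule.subset_span hv)
    · obtain ⟨w, hw⟩ := hu v
      rw [show v = (↑w⁻¹ : S) • ι (g v) by rw [hι, ← hw, smul_smul, Units.inv_mul, one_smul]]
      exact Submodule.smul_mem _ _ (Submodule.subset_span ⟨g v, ⟨v, hv, rfl⟩, rfl⟩)
  subst hK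
  haveI : IsLocalizedModule T (K₀.toLocalizedQuotient' S T ι) := IsLocalizedModule.toLocalizedQuotient' S T ι K₀
  refine ⟨(Fin n → S₀) ⧸ K₀, inferInstance, inferInstance,
    (e.symm.restrictScalars S₀).toLinearMap ∘ₗ K₀.toLocalizedQuotient' S T ι, ?_, inferInstance⟩
  exact Module.finitePresentation_of_surjective K₀.mkQ K₀.mkQ_surjective (by
    rw [Submodule.ker_mkQ]
    exact Submodule.fg_span (s.finite_toSet.image g))

open IsLocalRing in
/-- Let R → S be a local homomorphism of local rings which is essentially of finite presentation, and N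
a finitely presented S-module flat over R. Then multiplication by any element of S acting
injectively on N/𝔪_R N is a universally injective map of R-modules on N, and the localization map
from N to its localization at all such elements is universally injective over R. -/
theorem result {R S : Type u} [CommRing R] [IsLocalRing R] [CommRing S] [IsLocalRing S] [Algebra R S]
    [IsLocalHom (algebraMap R S)] (hS : FlatCA.EssFinitePresentation R S)
    (N : Type u) [AddCommGroup N] [Module S N] [Module R N] [IsScalarTower R S N] [Module.FinitePresentation S N] [Module.Flat R N] :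
    (∀ s ∈ FlatCA.nzdFiber R S N, FlatCA.UnivInj R ((LinearMap.lsmul S N s).restrictScalars R)) ∧
    FlatCA.UnivInj R ((LocalizedModule.mkLinearMap (FlatCA.nzdFiber R S N) N).restrictScalars R) := by
  obtain ⟨S₀, _, _, _, _, T, hfp, hloc⟩ := hS
  letI : Module S₀ N := Module.compHom N (algebraMap S₀ S)
  haveI : IsScalarTower S₀ S N := IsScalarTower.of_algebraMap_smul fun _ _ => rfl
  haveI : IsScalarTower R S₀ N := IsScalarTower.of_algebraMap_smul fun r x => by
    change algebraMap S₀ S (algebraMap R S₀ r) • x = r • x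
    rw [← IsScalarTower.algebraMap_apply, algebraMap_smul]
  haveI := hloc
  obtain ⟨N₀, _, _, ν, hN₀, hν⟩ := exists_fp_model T (S := S) (N := N)
  letI : Module R N₀ := Module.compHom N₀ (algebraMap R S₀)
  haveI : IsScalarTower R S₀ N₀ := IsScalarTower.of_algebraMap_smul fun _ _ => rfl
  haveI := hN₀
  haveI := hfp
  let r : Ideal S₀ := (maximalIdeal S).comap (algebraMap S₀ S)
  have hrunit : ∀ b : S₀, b ∉ r → IsUnit (algebraMap S₀ S b) := fun b hb => by
    by_contra hc
    exact hb (Ideal.mem_comap.2 ((mem_maximalIdeal _).2 hc))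
  have hTr : ∀ t ∈ T, t ∉ r := fun t ht htr =>
    (mem_maximalIdeal _).1 (Ideal.mem_comap.1 htr) (IsLocalization.map_units S ⟨t, ht⟩)
  -- `N` is the localisation at `r`
  haveI hνr : IsLocalizedModule r.primeCompl ν := by
    refine ⟨fun b => ?_, fun y => ?_, fun {x y} h => ?_⟩
    · obtain ⟨w, hw⟩ := hrunit b b.2
      rw [Module.End.isUnit_iff]
      have : (⇑(algebraMap S₀ (Module.End S₀ N) (b : S₀)) : N → N) = fun x => (w : S) • x := funext fun x => by
        rw [Module.algebraMap_end_apply, hw, algebraMap_smul]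
      rw [this]
      exact ⟨fun x y h => by simpa [smul_smul] using congrArg ((↑w⁻¹ : S) • ·) h, fun y => ⟨(↑w⁻¹ : S) • y, by simp [smul_smul]⟩⟩
    · obtain ⟨⟨x, t⟩, ht⟩ := IsLocalizedModule.surj T ν y
      exact ⟨⟨x, ⟨t, hTr t t.2⟩⟩, ht⟩
    · obtain ⟨t, ht⟩ := IsLocalizedModule.exists_of_eq (S := T) h
      exact ⟨⟨t, hTr t t.2⟩, ht⟩
  -- spread flatness to a basic open
  have hflatr : ⟨r, inferInstance⟩ ∈ {q : PrimeSpectrum S₀ | Module.Flat R (LocalizedModule q.asIdeal.primeCompl N₀)} :=
    Module.Flat.of_linearEquiv ((IsLocalizedModule.iso r.primeCompl ν).restrictScalars R)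
  obtain ⟨_, ⟨t, rfl⟩, htr, hle⟩ := PrimeSpectrum.isTopologicalBasis_basic_opens.exists_subset_of_mem_open
    hflatr (Groth.Agent.FlatH4.isOpen_flat_localized (R := R) (S := S₀) (M := N₀))
  let B := Localization.Away t
  let N₁ := LocalizedModule.Away t N₀
  let μ : N₀ →ₗ[S₀] N₁ := LocalizedModule.mkLinearMap (Submonoid.powers t) N₀
  haveI : Algebra.FinitePresentation S₀ B := IsLocalization.Away.finitePresentation t
  haveI : Algebra.FinitePresentation R B := Algebra.FinitePresentation.trans R S₀ B
  haveI : Module.FinitePresentation B N₁ := FinitePresentation.of_isBaseChange μ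
    ((isLocalizedModule_iff_isBaseChange (Submonoid.powers t) B μ).1 inferInstance)
  haveI : Module.Flat R N₁ := Module.Flat.iff_lTensor_injective'.2 fun J =>
    Groth.Agent.FlatH4.lTensor_localized_injective (Submonoid.powers t) μ _ fun x hx => by
      let A : Ideal S₀ := (Submodule.span S₀ {x}).annihilator
      have : t ∈ A.radical := by
        rw [Ideal.radical_eq_sInf, Submodule.mem_sInf]
        intro q hq'
        obtain ⟨hAq, hq⟩ := hq'
        by_contra htq
        haveI := hq
        haveI : Module.Flat R (LocalizedModule (Ideal.primeCompl q) N₀) := hle (show (⟨q, hq⟩ : PrimeSpectrum S₀) ∈ PrimeSpectrum.basicOpen t from htq)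
        obtain ⟨σ, hσ, hσx⟩ := Groth.Agent.FlatH4.exists_smul_eq_zero_of_flat_localized q J.subtype J.injective_subtype x hx
        exact hσ (hAq ((Submodule.mem_annihilator_span_singleton _ _).2 hσx))
      obtain ⟨k, hk⟩ := this
      exact ⟨t ^ k, ⟨k, rfl⟩, (Submodule.mem_annihilator_span_singleton _ _).1 hk⟩
  have hpow : ∀ x : Submonoid.powers t, (x : S₀) ∉ r := fun x hx => by
    obtain ⟨k, hk⟩ := x.2
    exact htr (Ideal.IsPrime.mem_of_pow_mem inferInstance k (by rw [show t ^ k = (x : S₀) from hk]; exact hx))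
  let rB : Ideal B := (maximalIdeal S).comap (IsLocalization.Away.lift t (g := algebraMap S₀ S) (hrunit t htr))
  have hrB : ∀ b : S₀, algebraMap S₀ B b ∈ rB ↔ b ∈ r := fun b => by
    rw [Ideal.mem_comap, IsLocalization.Away.lift_eq]
    rfl
  have hmem : ∀ a : R, a ∈ maximalIdeal R ↔ algebraMap R B a ∈ rB := fun a => by
    rw [IsScalarTower.algebraMap_apply R S₀ B, hrB, Ideal.mem_comap, ← IsScalarTower.algebraMap_apply]
    exact ⟨fun h => map_nonunit (algebraMap R S) a h, fun h hu => h (hu.map _)⟩
  -- every element of `N` comes from `N₀` up to a unit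
  have key : ∀ s ∈ FlatCA.nzdFiber R S N, FlatCA.UnivInj R ((LinearMap.lsmul S N s).restrictScalars R) := by
    intro s hs Q _ _
    obtain ⟨⟨a, v⟩, hav⟩ := IsLocalization.surj T s
    obtain ⟨w, hw⟩ := IsLocalization.map_units S v
    have hsz : ∀ z : N, s • z ∈ maximalIdeal R • (⊤ : Submodule R N) → z ∈ maximalIdeal R • (⊤ : Submodule R N) := by
      intro z hz
      have h0 : FlatCA.toFiberMod (maximalIdeal R) S N z = 0 := (mem_nonZeroSMulDivisors_iff.1 hs) _ (by
        rw [← map_smul]
        exact Groth.Agent.CI2.FibAss.ι_pS (maximalIdeal R) N (Groth.Agent.CI2.FibAss.pR_le (maximalIdeal R) N hz))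
      obtain ⟨σ, hσ, hσz⟩ := Groth.Agent.CI2.FibAss.ι_zero (maximalIdeal R) N h0
      rw [algebraMap_smul, ← Submodule.restrictScalars_mem R, Ideal.smul_restrictScalars, Submodule.restrictScalars_top] at hσz
      obtain ⟨w, rfl⟩ : IsUnit σ := notMem_maximalIdeal.1 hσ
      simpa [smul_smul] using Submodule.smul_mem _ (↑w⁻¹ : R) hσz
    let f : N₁ →ₗ[B] N₁ := LinearMap.lsmul B N₁ (algebraMap S₀ B a)
    have hfa : ∀ y : N₁, f y = a • y := fun y => algebraMap_smul B a y
    have hrR : rB.comap (algebraMap R B) = maximalIdeal R := Ideal.ext fun c => (hmem c).symm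
    -- compare `N₁` with `N`
    let ν₁ : N₁ →ₗ[S₀] N := IsLocalizedModule.lift (Submonoid.powers t) μ ν (fun x =>
      IsLocalizedModule.map_units ν (⟨x, hpow x⟩ : r.primeCompl))
    have hν₁ : ∀ y, ν₁ (μ y) = ν y := fun y => IsLocalizedModule.lift_apply _ _ _ _ y
    obtain ⟨hinj, hflat⟩ := Groth.Agent.SchDom.injective_flat_coker_of_fibre (A := R) rB f (fun z σ hσ hz => by
      rw [hrR] at hz ⊢
      obtain ⟨⟨σ₀, p⟩, hp⟩ := IsLocalization.surj (Submonoid.powers t) σ
      have hσ₀ : σ₀ ∉ r := fun h => hσ (((inferInstance : rB.IsPrime).mem_or_mem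
        (hp ▸ (hrB σ₀).2 h : σ * algebraMap S₀ B p ∈ rB)).resolve_right fun hp' => hpow p ((hrB _).1 hp'))
      have h1 : σ₀ • a • z ∈ maximalIdeal R • (⊤ : Submodule R N₁) := by
        rw [← algebraMap_smul B σ₀, ← hp, mul_comm, mul_smul, ← hfa, algebraMap_smul]
        exact Submodule.smul_induction_on (p := fun y => (p : S₀) • y ∈ maximalIdeal R • (⊤ : Submodule R N₁)) hz
          (fun c hc y _ => by rw [smul_comm]; exact Submodule.smul_mem_smul hc Submodule.mem_top)
          fun y y' h h' => by rw [smul_add]; exact add_mem h h'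
      have h2 := Submodule.mem_map_of_mem (f := ν₁.restrictScalars R) h1
      rw [Submodule.map_smul''] at h2
      have h3 : σ₀ • a • ν₁ z ∈ maximalIdeal R • (⊤ : Submodule R N) := by
        have := (Submodule.smul_mono (le_refl (maximalIdeal R)) (le_top : Submodule.map (ν₁.restrictScalars R) ⊤ ≤ ⊤)) h2
        simpa using this
      obtain ⟨wσ, hwσ⟩ := hrunit σ₀ hσ₀
      have h4 : ν₁ z ∈ maximalIdeal R • (⊤ : Submodule R N) := by
        refine hsz _ ?_
        have : s • ν₁ z = ((↑w⁻¹ : S) * ↑wσ⁻¹) • σ₀ • a • ν₁ z := by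
          rw [← algebraMap_smul S σ₀ (a • ν₁ z), ← algebraMap_smul S a (ν₁ z), ← hav, ← hw, ← hwσ, smul_smul, smul_smul]
          congr 1
          calc s = (↑w⁻¹ * ↑w) * ((↑wσ⁻¹ : S) * ↑wσ) * s := by rw [Units.inv_mul, Units.inv_mul, one_mul, one_mul]
            _ = _ := by ring
        rw [this]
        exact Submodule.smul_induction_on (p := fun y => ((↑w⁻¹ : S) * ↑wσ⁻¹) • y ∈ maximalIdeal R • (⊤ : Submodule R N)) h3
          (fun c hc y _ => by rw [smul_comm]; exact Submodule.smul_mem_smul hc Submodule.mem_top)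
          fun y y' h h' => by rw [smul_add]; exact add_mem h h'
      -- pull back
      have h5 : ∀ y ∈ maximalIdeal R • (⊤ : Submodule R N), ∃ b : S₀, b ∉ r ∧ ∃ y₁ ∈ maximalIdeal R • (⊤ : Submodule R N₁), b • y = ν₁ y₁ := by
        intro y hy
        refine Submodule.smul_induction_on hy (fun c hc y _ => ?_) ?_
        · obtain ⟨⟨x, b⟩, hb⟩ := IsLocalizedModule.surj r.primeCompl ν y
          refine ⟨b, b.2, c • μ x, Submodule.smul_mem_smul hc Submodule.mem_top, ?_⟩
          rw [LinearMap.map_smul_of_tower, hν₁, ← hb, smul_comm]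
          rfl
        · rintro y y' ⟨b, hb, y₁, hy₁, e⟩ ⟨b', hb', y₁', hy₁', e'⟩
          refine ⟨b * b', Ideal.IsPrime.mul_notMem inferInstance hb hb', b' • y₁ + b • y₁', add_mem ?_ ?_, ?_⟩
          · exact Submodule.smul_induction_on (p := fun q => b' • q ∈ maximalIdeal R • (⊤ : Submodule R N₁)) hy₁
              (fun c hc q _ => by rw [smul_comm]; exact Submodule.smul_mem_smul hc Submodule.mem_top)
              fun q q' h h' => by rw [smul_add]; exact add_mem h h'
          · exact Submodule.smul_induction_on (p := fun q => b • q ∈ maximalIdeal R • (⊤ : Submodule R N₁)) hy₁'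
              (fun c hc q _ => by rw [smul_comm]; exact Submodule.smul_mem_smul hc Submodule.mem_top)
              fun q q' h h' => by rw [smul_add]; exact add_mem h h'
          · rw [map_add, map_smul, map_smul, ← e, ← e', smul_add, smul_smul, smul_smul, mul_comm b b']
      obtain ⟨b, hb, z₁, hz₁, hbz⟩ := h5 _ h4
      rw [← map_smul] at hbz
      obtain ⟨⟨y, ⟨_, k, rfl⟩⟩, hy⟩ := IsLocalizedModule.surj (Submonoid.powers t) μ (b • z - z₁)
      have : ν y = 0 := by rw [← hν₁, ← hy, Submonoid.smul_def, map_smul, map_sub, hbz, sub_self, smul_zero]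
      obtain ⟨c, hc⟩ := IsLocalizedModule.exists_of_eq (S := r.primeCompl) (this.trans (map_zero ν).symm)
      rw [smul_zero] at hc
      have hd : (c : S₀) * t ^ k ∉ r := Ideal.IsPrime.mul_notMem inferInstance c.2
        fun h => htr (Ideal.IsPrime.mem_of_pow_mem inferInstance k h)
      refine ⟨algebraMap S₀ B ((c : S₀) * t ^ k * b), fun h => (Ideal.IsPrime.mul_notMem inferInstance hd hb) ((hrB _).1 h), ?_⟩
      have h0 : ((c : S₀) * t ^ k) • (b • z - z₁) = 0 := by
        rw [mul_smul, show t ^ k • (b • z - z₁) = μ y from hy, ← map_smul]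
        exact (congrArg μ hc).trans (map_zero μ)
      rw [smul_sub, sub_eq_zero] at h0
      rw [algebraMap_smul, mul_smul, h0]
      exact Submodule.smul_induction_on (p := fun q => ((c : S₀) * t ^ k) • q ∈ maximalIdeal R • (⊤ : Submodule R N₁)) hz₁
        (fun c hc q _ => by rw [smul_comm]; exact Submodule.smul_mem_smul hc Submodule.mem_top)
        fun q q' h h' => by rw [smul_add]; exact add_mem h h')
    -- the localized short exact sequence
    haveI := hflat
    let loc : ∀ (P : Type u) [AddCommGroup P] [Module B P], P →ₗ[B] LocalizedModule rB.primeCompl P :=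
      fun P _ _ => LocalizedModule.mkLinearMap rB.primeCompl P
    let fl := LocalizedModule.map rB.primeCompl f
    let pl := LocalizedModule.map rB.primeCompl (LinearMap.range f).mkQ
    have hfl : Function.Injective fl := (injective_iff_map_eq_zero _).2 fun y hy => by
      induction y using LocalizedModule.induction_on with
      | h m σ =>
        rw [LocalizedModule.map_mk, ← LocalizedModule.zero_mk 1, LocalizedModule.mk_eq] at hy
        obtain ⟨⟨τ, hτ⟩, h0⟩ := hy
        obtain ⟨τ', hτ', h0'⟩ := hinj m τ hτ (by simpa using h0)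
        exact (LocalizedModule.mk_eq.2 ⟨⟨τ', hτ'⟩, by simpa [Submonoid.smul_def] using h0'⟩).trans (LocalizedModule.zero_mk 1)
    have hex : Function.Exact fl pl := LocalizedModule.map_exact _ _ _ (LinearMap.exact_map_mkQ_range f)
    have hsurj : Function.Surjective pl := LocalizedModule.map_surjective _ _ (LinearMap.range f).mkQ_surjective
    have hfQ : Function.Injective ((fl.restrictScalars R).rTensor Q) :=
      (LinearMap.lTensor_inj_iff_rTensor_inj Q _).1 (LinearMap.lTensor_injective_of_exact_of_flat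
        (pl.restrictScalars R) hsurj (fl.restrictScalars R) hfl hex Q)
    refine (LinearMap.lTensor_inj_iff_rTensor_inj Q _).2 ((injective_iff_map_eq_zero _).2 fun x hx => ?_)
    let gν := AlgebraTensorModule.rTensor R Q ν
    let gμ := AlgebraTensorModule.rTensor R Q μ
    obtain ⟨⟨x₀, b⟩, hb⟩ := IsLocalizedModule.surj r.primeCompl gν x
    have hsmul : ∀ z : N ⊗[R] Q, ((LinearMap.lsmul S N s).restrictScalars R).rTensor Q z = s • z := fun z => by
      induction z using TensorProduct.induction_on with
      | zero => simp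
      | tmul n q => rw [TensorProduct.smul_tmul']; rfl
      | add n q hn hq => rw [map_add, hn, hq, smul_add]
    have ha0 : gν (a • x₀) = 0 := by
      rw [map_smul, ← hb, Submonoid.smul_def, smul_comm, ← algebraMap_smul S a x, ← hav, mul_comm, mul_smul,
        ← hsmul, hx, smul_zero, smul_zero]
    obtain ⟨c, hc⟩ := (IsLocalizedModule.eq_zero_iff r.primeCompl gν).1 ha0
    let y₁ := gμ ((c : S₀) • x₀)
    let m₁ := LocalizedModule.mkLinearMap rB.primeCompl N₁
    let gm := AlgebraTensorModule.rTensor R Q m₁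
    have hy1 : a • y₁ = 0 := by
      have : gμ ((c : S₀) • a • x₀) = 0 := by rw [show (c : S₀) • a • x₀ = 0 from hc, map_zero]
      rw [show y₁ = gμ ((c : S₀) • x₀) from rfl, ← map_smul, smul_comm]
      exact this
    have hgm : gm y₁ = 0 := hfQ (by
      rw [map_zero]
      have hnat : ∀ z : N₁ ⊗[R] Q, (fl.restrictScalars R).rTensor Q (gm z) = gm (algebraMap S₀ B a • z) := fun z => by
        induction z using TensorProduct.induction_on with
        | zero => simp
        | tmul n q =>
          simp only [gm, AlgebraTensorModule.rTensor_tmul, LinearMap.rTensor_tmul, TensorProduct.smul_tmul']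
          congr 1
          simp [m₁, fl, f, LocalizedModule.mkLinearMap_apply, LocalizedModule.map_mk]
          exact (LocalizedModule.mkLinearMap rB.primeCompl N₁).map_smul_of_tower a n
        | add n q hn hq => simp only [map_add, smul_add, hn, hq]
      rw [hnat, algebraMap_smul, hy1, map_zero])
    obtain ⟨τ, hτ⟩ := (IsLocalizedModule.eq_zero_iff rB.primeCompl gm).1 hgm
    obtain ⟨⟨τ₀, p⟩, hp⟩ := IsLocalization.surj (Submonoid.powers t) (τ : B)
    have hτ₀ : τ₀ ∉ r := fun h => τ.2 (((inferInstance : rB.IsPrime).mem_or_mem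
        (hp ▸ (hrB τ₀).2 h : (τ : B) * algebraMap S₀ B p ∈ rB)).resolve_right fun hp' => hpow p ((hrB _).1 hp'))
    have h6 : gμ (τ₀ • (c : S₀) • x₀) = 0 := by
      rw [map_smul, ← algebraMap_smul B τ₀, ← hp, mul_comm, mul_smul]
      rw [show (τ : B) • gμ ((c : S₀) • x₀) = 0 from hτ, smul_zero]
    obtain ⟨⟨_, k, rfl⟩, hk⟩ := (IsLocalizedModule.eq_zero_iff (Submonoid.powers t) gμ).1 h6
    obtain ⟨w', hw'⟩ := hrunit (t ^ k * τ₀ * c * b) (Ideal.IsPrime.mul_notMem inferInstance (Ideal.IsPrime.mul_notMem inferInstance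
      (Ideal.IsPrime.mul_notMem inferInstance (fun h => htr (Ideal.IsPrime.mem_of_pow_mem inferInstance k h)) hτ₀) c.2) b.2)
    have h7 : (w' : S) • x = 0 := by
      rw [hw', algebraMap_smul, mul_smul, show (b : S₀) • x = gν x₀ from hb, ← map_smul, mul_smul, mul_smul,
        show t ^ k • τ₀ • (c : S₀) • x₀ = 0 from hk, map_zero]
    simpa using congrArg ((↑w'⁻¹ : S) • ·) h7
  refine ⟨key, fun Q _ _ => ?_⟩
  refine (LinearMap.lTensor_inj_iff_rTensor_inj Q _).2 ((injective_iff_map_eq_zero _).2 fun x hx => ?_)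
  let g := AlgebraTensorModule.rTensor R Q (LocalizedModule.mkLinearMap (FlatCA.nzdFiber R S N) N)
  obtain ⟨s, hs⟩ := (IsLocalizedModule.eq_zero_iff (FlatCA.nzdFiber R S N) g).1 (show g x = 0 from hx)
  refine (LinearMap.lTensor_inj_iff_rTensor_inj Q _).1 (key s s.2 Q) ?_
  rw [map_zero]
  refine Eq.trans ?_ hs
  have hall : ∀ y : N ⊗[R] Q, ((LinearMap.lsmul S N (s : S)).restrictScalars R).rTensor Q y = s • y := fun y => by
    induction y using TensorProduct.induction_on with
    | zero => simp
    | tmul n q => rw [Submonoid.smul_def, TensorProduct.smul_tmul']; rfl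
    | add n q hn hq => rw [map_add, hn, hq, smul_add]
  exact hall x

end Groth.Agent.S1194
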