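import Groth.Statements.S18589
import Mathlib
import Groth.Agent.Lib.FlatH4.LocCrit

set_option autoImplicit false
open CAlg

namespace Groth.Agent.S18589
open TensorProduct

/-- For a prime p and every natural number n, the n-th Witt addition polynomial over the integers (the
polynomial S_n with (x + y)_n = S_n(x_0, y_0, …, x_n, y_n) for p-typical Witt vectors x, y) is
weighted homogeneous of weighted degree p ^ n for the grading in which the variables x_i and y_i
have weight p ^ i. -/
theorem result (p : ℕ) [Fact p.Prime] (n : ℕ) :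
    MvPolynomial.IsWeightedHomogeneous (fun i : Fin 2 × ℕ => p ^ i.2) (WittVector.wittAdd p n) (p ^ n) := by
  classical
  induction n using Nat.strong_induction_on with
  | _ n ih =>
    set w : Fin 2 × ℕ → ℕ := fun i => p ^ i.2
    let S := WittVector.wittAdd p
    have key := wittStructureInt_prop (p := p) (MvPolynomial.X 0 + MvPolynomial.X 1 : MvPolynomial (Fin 2) ℤ) n
    simp only [wittPolynomial_eq_sum_C_mul_X_pow, map_sum, map_add, map_mul, map_pow, MvPolynomial.bind₁_C_right,
      MvPolynomial.bind₁_X_right, MvPolynomial.rename_C, MvPolynomial.rename_X] at key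
    rw [Finset.sum_range_succ, Nat.sub_self, pow_zero, pow_one] at key
    have hr : ∀ i : Fin 2, MvPolynomial.IsWeightedHomogeneous w
        (∑ j ∈ Finset.range (n + 1), MvPolynomial.C (p : ℤ) ^ j * MvPolynomial.X (i, j) ^ p ^ (n - j)) (p ^ n) := fun i => by
      refine MvPolynomial.IsWeightedHomogeneous.sum _ _ _ fun j hj => ?_
      rw [← MvPolynomial.C_pow]
      refine MvPolynomial.IsWeightedHomogeneous.C_mul ?_ _
      have := (MvPolynomial.isWeightedHomogeneous_X ℤ w (i, j)).pow (p ^ (n - j))
      rwa [smul_eq_mul, show w (i, j) = p ^ j from rfl, ← pow_add, Nat.sub_add_cancel (Nat.lt_succ_iff.1 (Finset.mem_range.1 hj))] at this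
    have hl : MvPolynomial.IsWeightedHomogeneous w
        (∑ j ∈ Finset.range n, MvPolynomial.C (p : ℤ) ^ j * (S j) ^ p ^ (n - j)) (p ^ n) := by
      refine MvPolynomial.IsWeightedHomogeneous.sum _ _ _ fun j hj => ?_
      rw [← MvPolynomial.C_pow]
      refine MvPolynomial.IsWeightedHomogeneous.C_mul ?_ _
      have := (ih j (Finset.mem_range.1 hj)).pow (p ^ (n - j))
      rwa [smul_eq_mul, ← pow_add, Nat.sub_add_cancel (Finset.mem_range.1 hj).le] at this
    have hmul : MvPolynomial.IsWeightedHomogeneous w (MvPolynomial.C ((p : ℤ) ^ n) * S n) (p ^ n) := by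
      have := MvPolynomial.IsWeightedHomogeneous.sub ((hr 0).add (hr 1)) hl
      rw [MvPolynomial.C_pow]
      have e : MvPolynomial.C (p : ℤ) ^ n * S n =
          (∑ j ∈ Finset.range (n + 1), MvPolynomial.C (p : ℤ) ^ j * MvPolynomial.X ((0 : Fin 2), j) ^ p ^ (n - j)) +
          (∑ j ∈ Finset.range (n + 1), MvPolynomial.C (p : ℤ) ^ j * MvPolynomial.X ((1 : Fin 2), j) ^ p ^ (n - j)) -
          ∑ j ∈ Finset.range n, MvPolynomial.C (p : ℤ) ^ j * (S j) ^ p ^ (n - j) := by
        rw [eq_sub_iff_add_eq']
        exact key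
      rw [e]
      exact this
    intro d hd
    refine hmul ?_
    rw [MvPolynomial.coeff_C_mul]
    exact mul_ne_zero (pow_ne_zero _ (by exact_mod_cast (Fact.out : p.Prime).ne_zero)) hd

end Groth.Agent.S18589
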