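import Groth.Statements.S1196
import Groth.Agent.Lib.Dev4.Covering
import Groth.Agent.S1193
import Groth.Agent.S1194
import Mathlib.RingTheory.EssentialFiniteness

set_option autoImplicit false
universe u
open FlatMor

set_option backward.isDefEq.respectTransparency.types false

set_option backward.isDefEq.respectTransparency.types false
attribute [local instance] Algebra.TensorProduct.rightAlgebra
namespace Groth.Agent.S1196

open TensorProduct IsLocalRing in
/-- Let R → S be a local homomorphism of local rings, essentially of finite presentation, N a finitely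
presented S-module flat over R, and S' a flat S-algebra such that every prime of S which is an
associated prime of N/𝔪_R N is the contraction of a prime of S'. Then N → S' ⊗_S N is universally
injective as a map of R-modules. -/
theorem result {R S S' : Type u} [CommRing R] [IsLocalRing R] [CommRing S] [IsLocalRing S] [CommRing S'] [Algebra R S] [IsLocalHom (algebraMap R S)] [Algebra S S'] [Algebra R S'] [IsScalarTower R S S']
    (hS : FlatCA.EssFinitePresentation R S) [Module.Flat S S']
    (N : Type u) [AddCommGroup N] [Module S N] [Module R N] [IsScalarTower R S N] [Module.FinitePresentation S N] [Module.Flat R N]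
    (h : ∀ q ∈ associatedPrimes S (FlatCA.fiberMod (maximalIdeal R) S N),
      ∃ q' : Ideal S', q'.IsPrime ∧ q'.comap (algebraMap S S') = q) :
    FlatCA.UnivInj R ((TensorProduct.mk S S' N 1).restrictScalars R) := by
  intro Q _ _
  obtain ⟨S₀, _, _, _, _, T, hfp, hloc⟩ := id hS
  haveI := hfp
  haveI := hloc
  haveI : Algebra.EssFiniteType S₀ S := Algebra.EssFiniteType.of_isLocalization S T
  haveI : Algebra.EssFiniteType R S := Algebra.EssFiniteType.comp R S₀ S
  haveI : IsNoetherianRing ((maximalIdeal R).Fiber S) :=
    Algebra.EssFiniteType.isNoetherianRing (maximalIdeal R).ResidueField ((maximalIdeal R).Fiber S)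
  letI := (Algebra.TensorProduct.includeRight (R := R) (A := (maximalIdeal R).ResidueField) (B := S)).toRingHom.toAlgebra
  haveI : Module.Finite ((maximalIdeal R).Fiber S) (FlatCA.fiberMod (maximalIdeal R) S N) :=
    inferInstanceAs (Module.Finite ((maximalIdeal R).Fiber S) (((maximalIdeal R).Fiber S) ⊗[S] N))
  rw [injective_iff_map_eq_zero]
  intro z hz
  let J : Ideal S := LinearMap.ker (LinearMap.toSpanSingleton S (N ⊗[R] Q) (TensorProduct.comm R Q N z))
  obtain ⟨s, hsN, hs⟩ : ∃ s ∈ FlatCA.nzdFiber R S N, s • TensorProduct.comm R Q N z = 0 := by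
    by_contra hc
    push Not at hc
    obtain ⟨q, hq, hJq, hdis⟩ := Ideal.exists_le_prime_disjoint J (FlatCA.nzdFiber R S N)
      (Set.disjoint_left.2 fun s hs hsN => hc s hsN (LinearMap.mem_ker.1 hs))
    haveI := hq
    obtain ⟨q₁, hq₁, hle⟩ := ((S1193.result N).1 q).1 hdis
    obtain ⟨q', hq', hq'q⟩ := h q₁ hq₁
    obtain ⟨s, hs, hsq⟩ := Dev4.exists_smul_eq_zero_of_lTensor R N hz q'
    exact hsq (show s ∈ q'.comap (algebraMap S S') by rw [hq'q]; exact hle (hJq (LinearMap.mem_ker.2 hs)))
  refine (S1194.result hS N).1 s hsN Q ?_
  rw [map_zero]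
  apply (TensorProduct.comm R Q N).injective
  rw [map_zero, ← hs]
  clear hs hz J
  induction z using TensorProduct.induction_on with
  | zero => simp
  | add a b ha hb => simp only [map_add, smul_add, ha, hb]
  | tmul x n => rfl

end Groth.Agent.S1196
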