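import Groth.Statements.S1202
import Groth.Agent.Lib.Dev4.ProjPiece

set_option autoImplicit false
universe u
open FlatMor

set_option backward.isDefEq.respectTransparency.types false

namespace Groth.Agent.S1202

open TensorProduct in
/-- Ring form, X = Spec S and S = Spec R affine: let S be a finitely presented R-algebra, N a finitely
presented S-module and q a prime of S over p such that N_q is flat over R. Then there are an étale
R-algebra R' with a prime p' over p having the same residue field, an étale S-algebra S' with a
prime q' over q having the same residue field, and a compatible R'-algebra structure on S' with q'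
over p', such that S' ⊗_S N is a projective R'-module. -/
theorem result {R S : Type u} [CommRing R] [CommRing S] [Algebra R S] [Algebra.FinitePresentation R S]
    (N : Type u) [AddCommGroup N] [Module S N] [Module R N] [IsScalarTower R S N] [Module.FinitePresentation S N]
    (p : Ideal R) [p.IsPrime] (q : Ideal S) [q.IsPrime] [q.LiesOver p] (hflat : FlatCA.FlatAt R q N) :
    ∃ (R' S' : Type u) (_ : CommRing R') (_ : CommRing S') (_ : Algebra R R') (_ : Algebra S S') (_ : Algebra R' S')
      (_ : Algebra R S') (_ : IsScalarTower R R' S') (_ : IsScalarTower R S S')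
      (p' : Ideal R') (q' : Ideal S') (_ : p'.IsPrime) (_ : q'.IsPrime),
      FlatCA.IsEtaleNhd R R' p p' ∧ FlatCA.IsEtaleNhd S S' q q' ∧ q'.LiesOver p' ∧
      Module.Projective R' (RestrictScalars R' S' (S' ⊗[S] N)) := by
  obtain ⟨R', S', i1, i2, i3, i4, i5, i6, i7, i8, p', q', i9, i10, h1, h2, h3, h4⟩ :=
    Dev4.exists_projective_piece N p q hflat
  haveI := h4
  exact ⟨R', S', i1, i2, i3, i4, i5, i6, i7, i8, p', q', i9, i10, h1, h2, h3, Dev4.projective_restrictScalars⟩

end Groth.Agent.S1202
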