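import Groth.Statements.S1203
import Groth.Agent.S1200
import Groth.Agent.S1198
import Groth.Agent.Lib.CAlgLow.CountableML
import Groth.Agent.Lib.RG4.Proj
import Groth.Agent.Lib.Dev4.GeomIntProjective

set_option autoImplicit false
universe u
open FlatMor

set_option backward.isDefEq.respectTransparency.types false

namespace Groth.Agent.S1203

/-- Let R be a Noetherian ring complete with respect to an ideal I, S a finite type R-algebra and N a
finite S-module which is flat over R, such that N/IN is a projective R/I-module and such that for
every prime q of S, over p in R, whose extension to the fibre ring over p is an associated prime of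
the fibre module of N, the ideal IS + q is proper. Then N is a projective R-module. -/
theorem result {R S : Type u} [CommRing R] [CommRing S] [Algebra R S] [IsNoetherianRing R] (I : Ideal R) [IsAdicComplete I R]
    [Algebra.FiniteType R S]
    (N : Type u) [AddCommGroup N] [Module S N] [Module R N] [IsScalarTower R S N] [Module.Finite S N] [Module.Flat R N]
    [Module.Projective (R ⧸ I) (N ⧸ (I • ⊤ : Submodule R N))]
    (h : ∀ (p : Ideal R) (q : Ideal S) [p.IsPrime] [q.IsPrime] [q.LiesOver p],
      FlatCA.fiberIdeal p q ∈ associatedPrimes (p.Fiber S) (FlatCA.fiberMod p S N) → I.map (algebraMap R S) ⊔ q ≠ ⊤) :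
    Module.Projective R N := by
  haveI : IsNoetherianRing S := Algebra.FiniteType.isNoetherianRing R S
  have hu := S1200.result (S := S) I N h
  obtain ⟨-, hML⟩ := S1198.result R I N
  have hcg : CAlg.IsCountablyGenerated R N := by
    obtain ⟨n, φ, hφ⟩ := Algebra.FiniteType.iff_quotient_mvPolynomial''.1 ‹Algebra.FiniteType R S›
    obtain ⟨k, π, hπ⟩ := Module.Finite.exists_fin' S N
    let g : (Fin k → MvPolynomial (Fin n) R) →ₗ[R] N := (π.restrictScalars R).comp (φ.toLinearMap.compLeft (Fin k))
    have hg : Function.Surjective g := hπ.comp fun v => ⟨fun i => (hφ (v i)).choose, funext fun i => (hφ (v i)).choose_spec⟩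
    let b := Pi.basis fun _ : Fin k => MvPolynomial.basisMonomials (Fin n) R
    refine ⟨g '' Set.range b, (Set.countable_range _).image _, ?_⟩
    rw [Submodule.span_image, b.span_eq, Submodule.map_top]
    exact LinearMap.range_eq_top.2 hg
  exact CAlgLow.projective_of_flat_mittagLeffler_countablyGenerated
    (CAlgLow.isMittagLeffler_of_ui (RG4.universallyInjective_of_univInj hu) hML) hcg

end Groth.Agent.S1203
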