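import Groth.Statements.S1204
import Groth.Agent.Lib.Dev4.GeomIntBasis
import Groth.Agent.Lib.RG4.LocFlat
import Mathlib.Tactic.TFAE

set_option autoImplicit false
universe u
open FlatMor

set_option backward.isDefEq.respectTransparency.types false

set_option backward.isDefEq.respectTransparency.types false
attribute [local instance] Algebra.TensorProduct.rightAlgebra
namespace Groth.Agent.S1204

open TensorProduct IsLocalRing in
/-- Let R be a local ring and S a finitely presented flat R-algebra with geometrically integral fibres,
so that 𝔭 = 𝔪_R S is a prime of S; let q be a prime of S over 𝔪_R and N a finite S-module. Then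
there is an S-linear map α from a finite free module S^r to N inducing a bijection after base change
to κ(𝔭); and for any such α the following are equivalent: N_q is flat over R; α is universally
injective over R and the cokernel of α is flat over R at q; α is injective and the cokernel is flat
at q; α localized at 𝔭 is bijective and the cokernel is flat at q; α localized at q is injective and
the cokernel is flat at q. -/
theorem result {R S : Type u} [CommRing R] [IsLocalRing R] [CommRing S] [Algebra R S] [Algebra.FinitePresentation R S] [Module.Flat R S]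
    (hgi : FlatCA.GeomIntegralFibres R S) [((maximalIdeal R).map (algebraMap R S)).IsPrime]
    (q : Ideal S) [q.IsPrime] [q.LiesOver (maximalIdeal R)]
    (N : Type u) [AddCommGroup N] [Module S N] [Module R N] [IsScalarTower R S N] [Module.Finite S N] :
    (∃ (r : ℕ) (α : (Fin r → S) →ₗ[S] N), Function.Bijective (α.baseChange ((maximalIdeal R).map (algebraMap R S)).ResidueField)) ∧
    ∀ (r : ℕ) (α : (Fin r → S) →ₗ[S] N), Function.Bijective (α.baseChange ((maximalIdeal R).map (algebraMap R S)).ResidueField) →
      [FlatCA.FlatAt R q N,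
       FlatCA.UnivInj R (α.restrictScalars R) ∧ FlatCA.FlatAt R q (N ⧸ LinearMap.range α),
       Function.Injective α ∧ FlatCA.FlatAt R q (N ⧸ LinearMap.range α),
       Function.Bijective (LocalizedModule.map ((maximalIdeal R).map (algebraMap R S)).primeCompl α) ∧ FlatCA.FlatAt R q (N ⧸ LinearMap.range α),
       Function.Injective (LocalizedModule.map q.primeCompl α) ∧ FlatCA.FlatAt R q (N ⧸ LinearMap.range α)].TFAE := by
  refine ⟨?_, fun r α hα => ?_⟩
  · obtain ⟨r, α, -, hα⟩ := RG4.exists_bijective_baseChange (D := S) ((maximalIdeal R).map (algebraMap R S)).ResidueField N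
    exact ⟨r, α, hα⟩
  set ξ := (maximalIdeal R).map (algebraMap R S) with hξdef
  have hle : ξ ≤ q := Ideal.map_le_iff_le_comap.2 (Ideal.LiesOver.over (P := q) (p := maximalIdeal R)).le
  -- non-zero-divisors outside the generic point
  haveI : Module.Flat R (Fin 1 → S) :=
    Module.Flat.of_linearEquiv (DirectSum.linearEquivFunOnFintype R (Fin 1) (fun _ => S)).symm
  haveI : Module.Flat R (LocalizedModule ξ.primeCompl S) :=
    RG4.flat_of_isLocalizedModule ξ.primeCompl (LocalizedModule.mkLinearMap ξ.primeCompl S)
  let a₁ : (Fin 1 → S) →ₗ[S] S := LinearMap.proj 0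
  have ha₁ : Function.Bijective a₁ := (LinearEquiv.funUnique (Fin 1) S S).bijective
  have hu₁ := Dev4.univInj_localized_geomInt hgi (N := S) (α := a₁) (show Module.Flat R (LocalizedModule ξ.primeCompl S) from inferInstance)
    ((LinearEquiv.baseChange S ξ.ResidueField _ _ (LinearEquiv.ofBijective a₁ ha₁)).bijective)
  have hreg : Function.Injective (LocalizedModule.mkLinearMap ξ.primeCompl S) := by
    have hcomp : Function.Injective ((LocalizedModule.mkLinearMap ξ.primeCompl S).comp a₁) := fun u v huv => by
      refine (TensorProduct.lid R _).symm.injective (hu₁ R ?_)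
      show (1 : R) ⊗ₜ[R] _ = (1 : R) ⊗ₜ[R] _
      rw [LinearMap.restrictScalars_apply, huv]; rfl
    intro x y hxy
    obtain ⟨u, rfl⟩ := ha₁.2 x
    obtain ⟨v, rfl⟩ := ha₁.2 y
    rw [hcomp hxy]
  have hext : ∀ {β : (Fin r → S) →ₗ[S] N}, Function.Injective (LocalizedModule.map q.primeCompl β) →
      FlatCA.FlatAt R q (N ⧸ LinearMap.range β) → FlatCA.FlatAt R q N := by
    intro β hinj hT
    haveI : Module.Flat R (Fin r → S) :=
      Module.Flat.of_linearEquiv (DirectSum.linearEquivFunOnFintype R (Fin r) (fun _ => S)).symm
    haveI : Module.Flat R (LocalizedModule q.primeCompl (Fin r → S)) :=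
      RG4.flat_of_isLocalizedModule q.primeCompl (LocalizedModule.mkLinearMap q.primeCompl (Fin r → S))
    haveI : Module.Flat R (LocalizedModule q.primeCompl (N ⧸ LinearMap.range β)) := hT
    exact RG4.flat_of_exact
      (g := (LocalizedModule.map q.primeCompl (LinearMap.range β).mkQ).restrictScalars R)
      (LocalizedModule.map_surjective q.primeCompl _ (Submodule.mkQ_surjective _))
      (f := (LocalizedModule.map q.primeCompl β).restrictScalars R)
      (LocalizedModule.map_exact q.primeCompl β (LinearMap.range β).mkQ (LinearMap.exact_map_mkQ_range β)) hinj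
  tfae_have 1 → 2 := fun h => by
    have hu := Dev4.univInj_localized_geomInt hgi (RG4.flatAt_of_le hle h) hα
    have hu' : FlatCA.UnivInj R (α.restrictScalars R) := fun Q _ _ => by
      refine Function.Injective.of_comp (f := ((LocalizedModule.mkLinearMap ξ.primeCompl N).restrictScalars R).lTensor Q) ?_
      rw [← LinearMap.coe_comp, ← LinearMap.lTensor_comp]
      exact hu Q
    exact ⟨hu', RG4.flatAt_coker q α hu' h⟩
  tfae_have 2 → 3 := fun h => ⟨fun x y hxy => (TensorProduct.lid R _).symm.injective (h.1 R (by
    show (1 : R) ⊗ₜ[R] α x = (1 : R) ⊗ₜ[R] α y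
    rw [hxy])), h.2⟩
  tfae_have 3 → 4 := fun h => by
    refine ⟨⟨LocalizedModule.map_injective ξ.primeCompl α h.1, fun z => ?_⟩, h.2⟩
    haveI : Subsingleton (ξ.ResidueField ⊗[S] (N ⧸ LinearMap.range α)) := RG4.subsingleton_baseChange_coker _ α hα.2
    have hns : (⟨ξ, ‹_›⟩ : PrimeSpectrum S) ∉ Module.support S (N ⧸ LinearMap.range α) := fun h => by
      rw [Module.mem_support_iff_nontrivial_residueField_tensorProduct] at h
      exact not_subsingleton _ ‹Subsingleton (ξ.ResidueField ⊗[S] (N ⧸ LinearMap.range α))›
    induction z using LocalizedModule.induction_on with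
    | h w t =>
      obtain ⟨u, hu, huw⟩ := Module.notMem_support_iff'.1 hns (Submodule.Quotient.mk w)
      obtain ⟨v, hv⟩ : u • w ∈ LinearMap.range α := (Submodule.Quotient.mk_eq_zero _).1 (by rw [← huw]; rfl)
      refine ⟨LocalizedModule.mk v (⟨u, hu⟩ * t), ?_⟩
      rw [LocalizedModule.map_mk, hv, LocalizedModule.mk_eq]
      exact ⟨1, by simp only [Submonoid.smul_def, Submonoid.coe_mul, OneMemClass.coe_one, one_smul]; rw [smul_smul, mul_comm]⟩
  tfae_have 4 → 5 := fun h => by
    refine ⟨(injective_iff_map_eq_zero _).2 fun z hz => ?_, h.2⟩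
    induction z using LocalizedModule.induction_on with
    | h v t =>
      rw [LocalizedModule.map_mk, ← LocalizedModule.zero_mk t, LocalizedModule.mk_eq] at hz
      obtain ⟨u, hu⟩ := hz
      simp only [Submonoid.smul_def, smul_zero, smul_smul] at hu
      rw [← map_smul] at hu
      have h1 : LocalizedModule.map ξ.primeCompl α (LocalizedModule.mk (((u : S) * (t : S)) • v) 1) = 0 := by
        rw [LocalizedModule.map_mk, hu, LocalizedModule.zero_mk]
      have h2 := h.1.1 (h1.trans (map_zero _).symm)
      rw [← LocalizedModule.zero_mk (1 : ξ.primeCompl), LocalizedModule.mk_eq] at h2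
      obtain ⟨w, hw⟩ := h2
      simp only [Submonoid.smul_def, OneMemClass.coe_one, one_smul, smul_zero] at hw
      rw [← LocalizedModule.zero_mk t, LocalizedModule.mk_eq]
      refine ⟨u, funext fun j => hreg ?_⟩
      show LocalizedModule.mk _ 1 = LocalizedModule.mk _ 1
      rw [LocalizedModule.mk_eq]
      refine ⟨w, ?_⟩
      have hwj := congrFun hw j
      simp only [Pi.smul_apply, smul_eq_mul, Pi.zero_apply] at hwj
      simp only [Submonoid.smul_def, OneMemClass.coe_one, one_smul, smul_zero, Pi.smul_apply, smul_eq_mul, Pi.zero_apply,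
        mul_zero]
      rw [← hwj]; ring
  tfae_have 5 → 1 := fun h => hext h.1 h.2
  tfae_finish

end Groth.Agent.S1204
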