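import Mathlib.Algebra.Category.ModuleCat.Ext.HasExt
import Mathlib.RingTheory.RegularLocalRing.Defs
import Mathlib.RingTheory.KrullDimension.Module
import Mathlib.RingTheory.Finiteness.Defs
import Mathlib
import Groth.Agent.Lib.Depth.More
import Groth.Agent.Lib.Depth.CM
import Groth.Agent.Lib.RegLoc.Basic

set_option autoImplicit false
universe u
namespace CategoryTheory
end CategoryTheory
open CategoryTheory
namespace Dual
end Dual
open Dual

namespace Groth.Agent.S5671

/-- First assertion, in the local-algebra form to which its proof reduces it: let `A` be a regular local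
ring of dimension `n`, `p ≥ 0`, and `M` a finite `A`-module whose support has dimension at most `n -
p`. Then `Ext^i_A(M, A) = 0` for every `i < p`. (The geometric statement: on a nonsingular
`n`-dimensional variety the sheaves `Ext^i(F, L)` vanish for `i < p` when `F` is coherent with
support of dimension `≤ n - p` and `L` is locally free.) -/
theorem result (A : Type u) [CommRing A] [IsRegularLocalRing A] (M : Type u) [AddCommGroup M] [Module A M] [Module.Finite A M] (p : ℕ) (hdim : Module.supportDim A M + p ≤ ringKrullDim A) (i : ℕ) (hi : i < p) : Subsingleton (Abelian.Ext (ModuleCat.of A M) (ModuleCat.of A A) i) := by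
  by_cases hM : Subsingleton M
  · have hz : Limits.IsZero (ModuleCat.of A M) := ModuleCat.isZero_of_subsingleton _
    exact subsingleton_of_forall_eq 0 fun e => by
      rw [← Abelian.Ext.mk₀_id_comp e, hz.eq_of_src (𝟙 _) 0, Abelian.Ext.mk₀_zero, Abelian.Ext.zero_comp]
  rw [not_subsingleton_iff_nontrivial] at hM
  obtain ⟨r, hr⟩ := DepthLib.exists_supportDim_eq_natCast (R := A) (M := M)
  have hcm := DepthLib.isCohenMacaulayLocalRing_of_isRegularLocalRing (R := A)
  obtain ⟨d, hd⟩ := RegLoc.exists_dim_eq_nat (R := A)
  have hdep : (d : ℕ∞) ≤ LocCoh.idealDepth (IsLocalRing.maximalIdeal A) A := by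
    have h := hcm.supportDim_eq_depth
    rw [Module.supportDim_self_eq_ringKrullDim, hd] at h
    exact_mod_cast h.le
  rw [hr, hd] at hdim
  have hle : r + p ≤ d := by exact_mod_cast hdim
  exact DepthLib.subsingleton_ext_of_supportDim_le (M := A) M hdep hr.le (by omega)

end Groth.Agent.S5671
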