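import Groth.Statements.S12056
-- import your own Groth.Agent.* helpers here

set_option autoImplicit false
open Red

namespace Groth.Agent.S12056

/-- In formal-power-series form, let R be a commutative ring and F ∈ R⟦X⟧ with constant term 1 whose
linear coefficient a is a unit of R. Suppose that in R⟦X₀, X₁⟧ one has F(X₀ + X₁ · F(X₀)) = F(X₀) ·
F(X₁) (the functional equation F(x + y F(x)) = F(x) F(y)). Then F = 1 + a X. (The published
statement concerns a morphism to the multiplicative group from an open neighbourhood of the zero
section in the additive group over a base scheme, the identity holding on an open neighbourhood of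
the origin of the plane on which all terms are defined, with a the derivative at 0; this row states
it for formal power series over a ring.) -/
theorem result (R : Type) [CommRing R] (F : PowerSeries R)
    (h0 : PowerSeries.constantCoeff F = 1) (ha : IsUnit (PowerSeries.coeff 1 F))
    (hFE : PowerSeries.subst
        (MvPowerSeries.X (0 : Fin 2) + MvPowerSeries.X 1 * PowerSeries.subst (MvPowerSeries.X (0 : Fin 2)) F :
          MvPowerSeries (Fin 2) R) F =
      PowerSeries.subst (MvPowerSeries.X (0 : Fin 2)) F * PowerSeries.subst (MvPowerSeries.X (1 : Fin 2)) F) :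
    F = 1 + PowerSeries.C (PowerSeries.coeff 1 F) * PowerSeries.X := by
  have hU0 : PowerSeries.constantCoeff (F - 1) = 0 := by simp [h0]
  have hU1 : IsUnit (PowerSeries.coeff 1 (F - 1)) := by simpa using ha
  let G := (F - 1).substInvOfIsUnit hU1
  let u : MvPowerSeries (Fin 2) R :=
    MvPowerSeries.X 0 + MvPowerSeries.X 1 * PowerSeries.subst (MvPowerSeries.X (0 : Fin 2)) F
  let v : MvPowerSeries (Fin 2) R :=
    MvPowerSeries.X 1 + MvPowerSeries.X 0 * PowerSeries.subst (MvPowerSeries.X (1 : Fin 2)) F
  have hu : PowerSeries.HasSubst u := PowerSeries.HasSubst.of_constantCoeff_zero (by simp [u])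
  have hv : PowerSeries.HasSubst v := PowerSeries.HasSubst.of_constantCoeff_zero (by simp [v])
  have hX : ∀ i : Fin 2, PowerSeries.HasSubst (MvPowerSeries.X i : MvPowerSeries (Fin 2) R) :=
    PowerSeries.HasSubst.X
  let sw : Fin 2 → MvPowerSeries (Fin 2) R := ![MvPowerSeries.X 1, MvPowerSeries.X 0]
  have hsw : MvPowerSeries.HasSubst sw :=
    MvPowerSeries.hasSubst_of_constantCoeff_zero (fun i => by fin_cases i <;> simp [sw])
  have hcomp : ∀ (w : MvPowerSeries (Fin 2) R), PowerSeries.HasSubst w → ∀ P : PowerSeries R,
      MvPowerSeries.subst sw (PowerSeries.subst w P) = PowerSeries.subst (MvPowerSeries.subst sw w) P :=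
    fun w hw P => MvPowerSeries.subst_comp_subst_apply hw.const hsw P
  have hs0 : MvPowerSeries.subst (R := R) sw (MvPowerSeries.X 0) = MvPowerSeries.X 1 := by
    rw [MvPowerSeries.subst_X hsw]; rfl
  have hs1 : MvPowerSeries.subst (R := R) sw (MvPowerSeries.X 1) = MvPowerSeries.X 0 := by
    rw [MvPowerSeries.subst_X hsw]; rfl
  have hswu : MvPowerSeries.subst sw u = v := by
    simp only [u, v, MvPowerSeries.subst_add hsw, MvPowerSeries.subst_mul hsw, hs0, hs1, hcomp _ (hX 0)]
  have hsymm : PowerSeries.subst v F = PowerSeries.subst u F := by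
    rw [← hswu, ← hcomp u hu, hFE, MvPowerSeries.subst_mul hsw, hcomp _ (hX 0), hcomp _ (hX 1), hs0, hs1,
      _root_.mul_comm]
  have huv : u = v := by
    have key : ∀ w : MvPowerSeries (Fin 2) R, PowerSeries.HasSubst w →
        w = PowerSeries.subst (PowerSeries.subst w (F - 1)) G := fun w hw => by
      rw [← PowerSeries.subst_comp_subst_apply (PowerSeries.HasSubst.of_constantCoeff_zero' hU0) hw,
        PowerSeries.subst_substInvOfIsUnit_left _ hU0 hU1, PowerSeries.subst_X hw]
    have hsub : ∀ w : MvPowerSeries (Fin 2) R, PowerSeries.HasSubst w →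
        PowerSeries.subst w (F - 1) = PowerSeries.subst w F - 1 := fun w hw => by
      rw [← PowerSeries.coe_substAlgHom hw, map_sub, map_one]
    rw [key u hu, key v hv, hsub u hu, hsub v hv, hsymm]
  ext n
  rcases n with _ | _ | n
  · simp [h0]
  · simp
  · have h := congrArg (MvPowerSeries.coeff (Finsupp.single 0 (n + 2) + Finsupp.single 1 1)) huv
    have hne : ∀ i : Fin 2, Finsupp.single (0 : Fin 2) (n + 2) + Finsupp.single 1 1 ≠ Finsupp.single i 1 := by
      intro i hi
      have := DFunLike.congr_fun hi 0
      fin_cases i <;> simp at this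
    simp only [u, v, map_add, MvPowerSeries.coeff_X, hne, if_false, zero_add] at h
    rw [_root_.mul_comm, MvPowerSeries.X_def (s := (1 : Fin 2)), MvPowerSeries.coeff_add_mul_monomial, mul_one,
      MvPowerSeries.X_def (s := (0 : Fin 2)), MvPowerSeries.coeff_monomial_mul, if_pos (Finsupp.le_def.mpr fun i => by
        fin_cases i <;> simp), _root_.one_mul] at h
    simp only [← MvPowerSeries.X_def, PowerSeries.coeff_subst_single] at h
    simpa [Finsupp.single_eq_single_iff, Finsupp.ext_iff, Fin.forall_fin_two] using h

end Groth.Agent.S12056
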