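import Groth.Statements.S12058
import Groth.Agent.Lib.ExtUnder.Basic

set_option autoImplicit false
universe w v u
open CategoryTheory CategoryTheory.Limits CategoryTheory.Abelian
open SGA3

namespace Groth.Agent.S12058

/-- In an abelian category, let 0 → A' → A → A'' → 0 be a short exact sequence, φ : A' ⟶ Q a morphism
and π : A'' ⟶ P an epimorphism with kernel C. Consider the quadruples (B, f, g, h) with 0 → Q → B →
P → 0 short exact (maps f, g) and h : A ⟶ B such that the squares commute: (A' → A → B) = (A' → Q →
B) and (A → B → P) = (A → A'' → P). Such a quadruple exists if and only if the image in Ext¹(C, Q)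
of the class of the given extension in Ext¹(A'', A') (push forward along φ, pull back along the
inclusion C → A'') is zero. -/
theorem result {C : Type u} [Category.{v} C] [Abelian C]
    [HasExt.{w} C] {S : ShortComplex C} (hS : S.ShortExact) {Q P : C} (φ : S.X₁ ⟶ Q) (π : S.X₃ ⟶ P) [Epi π] :
    (∃ (B : C) (f : Q ⟶ B) (g : B ⟶ P) (h : S.X₂ ⟶ B) (w : f ≫ g = 0),
        (ShortComplex.mk f g w).ShortExact ∧ S.f ≫ h = φ ≫ f ∧ h ≫ g = S.g ≫ π) ↔
      (Ext.mk₀ (kernel.ι π)).comp (hS.extClass.comp (Ext.mk₀ φ) (add_zero 1)) (zero_add 1) = 0 := by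
  exact Groth.Agent.ExtUnder.main hS φ π

end Groth.Agent.S12058
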