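import Groth.Statements.S1206
import Mathlib.RingTheory.LocalRing.MaximalIdeal.Basic


set_option autoImplicit false
universe u
open FlatMor

namespace Groth.Agent.S1206

/-- Let A be a local domain which is not a field and 𝒮 a set of finitely generated ideals of A, closed
under products, such that the union of the closed sets V(I), I ∈ 𝒮, is exactly the set of nonzero
primes (every nonzero prime contains a member of 𝒮 and no member is zero). Then the intersection of
all members of 𝒮 is zero. -/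
theorem result (A : Type u) [CommRing A] [IsDomain A] [IsLocalRing A] (hA : ¬ IsField A)
    (𝒮 : Set (Ideal A)) (hfg : ∀ I ∈ 𝒮, I.FG) (hmul : ∀ I ∈ 𝒮, ∀ J ∈ 𝒮, I * J ∈ 𝒮)
    (hne : ∀ I ∈ 𝒮, I ≠ ⊥) (hcov : ∀ (p : Ideal A), p.IsPrime → p ≠ ⊥ → ∃ I ∈ 𝒮, I ≤ p) :
    sInf 𝒮 = ⊥ := by
  rw [Submodule.eq_bot_iff]
  intro x hx
  by_contra hx0
  have hxI : ∀ I ∈ 𝒮, x ∈ I := fun I hI => Submodule.mem_sInf.mp hx I hI
  obtain ⟨I, hI, hIle⟩ : ∃ I ∈ 𝒮, I ≤ (Ideal.span {x ^ 2}).radical := by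
    by_contra! hcon
    obtain ⟨J, hJy, hJ⟩ := zorn_le_nonempty₀ {J : Ideal A | ∀ I ∈ 𝒮, ¬ I ≤ J.radical}
      (fun c hc hchain K hK => by
        refine ⟨sSup c, fun I hI hle => ?_, fun z hz => le_sSup hz⟩
        obtain ⟨n, hn⟩ := Ideal.exists_pow_le_of_le_radical_of_fg hle (hfg I hI)
        have hco : IsCompactElement (I ^ n) :=
          (Submodule.fg_iff_compact _).mp ((hfg I hI).pow (n := n))
        obtain ⟨K', hK', hle'⟩ := hco c _ ⟨K, hK⟩ hchain.directedOn (isLUB_sSup c) hn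
        exact hc hK' I hI fun a ha => ⟨n, hle' (Ideal.pow_mem_pow ha n)⟩)
      (Ideal.span {x ^ 2}) (fun I hI h => Set.not_subset.mpr (SetLike.not_le_iff_exists.mp (hcon I hI)) h)
    have hmax : ∀ K : Ideal A, J < K → ∃ I ∈ 𝒮, I ≤ K.radical := by
      intro K hK
      by_contra! h
      exact hK.not_ge (hJ.2 h hK.le)
    obtain ⟨p, hp, hp0, hJp⟩ : ∃ p : Ideal A, p.IsPrime ∧ p ≠ ⊥ ∧ p ≤ J.radical := by
      refine ⟨J, ⟨fun htop => ?_, fun {a b} hab => ?_⟩, fun h => ?_, Ideal.le_radical⟩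
      · obtain ⟨I, hI, -⟩ := hcov (IsLocalRing.maximalIdeal A) inferInstance
          (fun h => hA (IsLocalRing.isField_iff_maximalIdeal_eq.mpr h))
        exact hJ.1 I hI (by rw [htop, Ideal.radical_top]; exact le_top)
      · by_contra! hab'
        have lt : ∀ c, c ∉ J → J < J ⊔ Ideal.span {c} := fun c hc =>
          left_lt_sup.mpr fun h => hc (h (Ideal.mem_span_singleton_self c))
        obtain ⟨I₁, hI₁, h₁⟩ := hmax _ (lt a hab'.1)
        obtain ⟨I₂, hI₂, h₂⟩ := hmax _ (lt b hab'.2)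
        refine hJ.1 _ (hmul _ hI₁ _ hI₂) ((Ideal.mul_mono h₁ h₂).trans ?_)
        refine (Ideal.mul_le_inf).trans ?_
        rw [← Ideal.radical_mul]
        refine Ideal.radical_mono ?_
        rw [Ideal.sup_mul, Ideal.mul_sup, Ideal.mul_sup, Ideal.span_singleton_mul_span_singleton]
        exact sup_le (sup_le Ideal.mul_le_left Ideal.mul_le_left)
          (sup_le Ideal.mul_le_right ((Ideal.span_singleton_le_iff_mem _).mpr hab))
      · refine pow_ne_zero 2 hx0 ?_
        simpa [h] using hJy (Ideal.mem_span_singleton_self (x ^ 2))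
    obtain ⟨I, hI, hIp⟩ := hcov p hp hp0
    exact hJ.1 I hI (hIp.trans hJp)
  obtain ⟨n, hn⟩ := Ideal.exists_pow_le_of_le_radical_of_fg hIle (hfg I hI)
  have hmem : ∀ k, I ^ (k + 1) ∈ 𝒮 := by
    intro k
    induction k with
    | zero => simpa using hI
    | succ k ih => rw [pow_succ]; exact hmul _ ih _ hI
  have := (Ideal.pow_le_pow_right (Nat.le_succ n)).trans hn (hxI _ (hmem n))
  obtain ⟨c, hc⟩ := Ideal.mem_span_singleton.mp this
  have hunit : IsUnit x := by
    refine IsUnit.of_mul_eq_one c (mul_left_cancel₀ hx0 ?_)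
    rw [mul_one, ← mul_assoc, ← pow_two]; exact hc.symm
  obtain ⟨I', hI', hle⟩ := hcov (IsLocalRing.maximalIdeal A) inferInstance
    (fun h => hA (IsLocalRing.isField_iff_maximalIdeal_eq.mpr h))
  exact (IsLocalRing.maximalIdeal.isMaximal A).ne_top
    (Ideal.eq_top_of_isUnit_mem _ (hle (hxI I' hI')) hunit)

end Groth.Agent.S1206
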