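import Groth.Statements.S12066
import Groth.Agent.Lib.EtCovLevelH7.Main

set_option autoImplicit false
universe u
open CategoryTheory AlgebraicGeometry
open FSch

namespace Groth.Agent.S12066

/-- Let 𝔛 be a locally Noetherian formal scheme with an ideal of definition, presented as the adic
system of its thickenings X_0 → X_1 → ⋯ (each X_n locally Noetherian). Then the functor "fibre over
X_0", from the category of étale covers of 𝔛 (adic systems R_n → X_n of finite étale covers) to the
category of finite étale covers of the scheme X_0, is an equivalence of categories. -/
theorem result (𝔛 : FSch.Sys.{u}) (h𝔛 : 𝔛.IsLocNoethFormal) :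
    (FSch.EtCov.level 𝔛 0).IsEquivalence := by
  exact Groth.Agent.EtCovLevelH7.isEquivalence_level 𝔛 h𝔛.1

end Groth.Agent.S12066
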