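import Groth.Statements.S12067
import Groth.Agent.Lib.CoalgH23.Filtration

set_option autoImplicit false
universe u
open TensorProduct
open SGA3t2b

namespace Groth.Agent.S12067

/-- In Hopf-algebra form, let k be a field and A a finitely generated commutative Hopf algebra over k
(an affine algebraic group G) which is unipotent: every nonzero finite-dimensional comodule has a
nonzero fixed vector. Then every finite-dimensional comodule V (a finite-dimensional representation
of G), of dimension n, has a flag of subcomodules 0 = V_0 ⊂ V_1 ⊂ ⋯ ⊂ V_n = V with one-dimensional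
successive quotients on which G acts trivially: for v ∈ V_(i+1) the coaction of v is congruent to v
⊗ 1 modulo V_i ⊗ A. -/
theorem result (k : Type u) [Field k] (A : Type u) [CommRing A]
    [HopfAlgebra k A] [Algebra.FiniteType k A] (hU : HopfRep.IsUnipotent k A)
    (V : Type u) [AddCommGroup V] [Module k V] [HopfRep.Comod k A V] [Module.Finite k V] :
    ∃ F : Fin (Module.finrank k V + 1) → Submodule k V,
      F 0 = ⊥ ∧ F (Fin.last _) = ⊤ ∧
      (∀ i : Fin (Module.finrank k V + 1), HopfRep.IsSubcomod (k := k) (A := A) (F i)) ∧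
      ∀ i : Fin (Module.finrank k V), F i.castSucc ≤ F i.succ ∧
        Module.finrank k ↥(F i.succ) = Module.finrank k ↥(F i.castSucc) + 1 ∧
        ∀ v ∈ F i.succ, HopfRep.Comod.coact (k := k) (A := A) v - v ⊗ₜ[k] (1 : A) ∈
          LinearMap.range ((F i.castSucc).subtype.rTensor A) := by
  classical
  have step : ∀ n, n ≤ Module.finrank k V → ∃ F : ℕ → Submodule k V, F 0 = ⊥ ∧
      ∀ i ≤ n, Module.finrank k (F i) = i ∧ HopfRep.IsSubcomod (k := k) (A := A) (F i) ∧
        (i < n → F i ≤ F (i + 1) ∧ ∀ v ∈ F (i + 1),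
          HopfRep.Comod.coact (k := k) (A := A) v - v ⊗ₜ[k] (1 : A) ∈
            LinearMap.range ((F i).subtype.rTensor A)) := by
    intro n
    induction n with
    | zero =>
      intro _
      refine ⟨fun _ => ⊥, rfl, fun i hi => ⟨by rw [finrank_bot]; omega, ?_, fun h => absurd h (by omega)⟩⟩
      intro w hw; rw [(Submodule.mem_bot k).1 hw, map_zero]; exact zero_mem _
    | succ n ih =>
      intro hn
      obtain ⟨F, h0, hF⟩ := ih (by omega)
      obtain ⟨hrank, hsub, -⟩ := hF n le_rfl
      have htop : ¬ (⊤ : Submodule k V) ≤ F n := fun h => by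
        rw [top_le_iff.1 h, finrank_top] at hrank
        omega
      obtain ⟨v, -, hvn, hv⟩ := CoalgH23.exists_fixed_mod hU hsub
        (fun w _ => ⟨(LinearMap.rTensor A (Submodule.topEquiv.symm : V ≃ₗ[k] (⊤ : Submodule k V)).toLinearMap)
            (HopfRep.Comod.coact (k := k) (A := A) w), by
          rw [← LinearMap.rTensor_comp_apply]
          exact LinearMap.congr_fun (LinearMap.rTensor_id A V) _⟩) htop
      let G : Submodule k V := F n ⊔ Submodule.span k {v}
      have hG : ∀ w ∈ G, HopfRep.Comod.coact (k := k) (A := A) w - w ⊗ₜ[k] (1 : A) ∈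
          LinearMap.range ((F n).subtype.rTensor A) := by
        intro w hw
        obtain ⟨a, ha, b, hb, rfl⟩ := Submodule.mem_sup.1 hw
        obtain ⟨r, rfl⟩ := Submodule.mem_span_singleton.1 hb
        rw [map_add, map_smul, TensorProduct.add_tmul, ← TensorProduct.smul_tmul', add_sub_add_comm,
          ← smul_sub]
        refine Submodule.add_mem _ (Submodule.sub_mem _ (hsub a ha) ?_) (Submodule.smul_mem _ _ hv)
        exact ⟨⟨a, ha⟩ ⊗ₜ 1, rfl⟩
      refine ⟨fun i => if i ≤ n then F i else G, by simp [h0], fun i hi => ?_⟩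
      rcases Nat.lt_or_ge n i with hni | hni
      · obtain rfl : i = n + 1 := by omega
        beta_reduce
        rw [if_neg (by omega : ¬ n + 1 ≤ n)]
        refine ⟨?_, fun w hw => ?_, fun h => absurd h (lt_irrefl _)⟩
        · show Module.finrank k (F n ⊔ Submodule.span k {v} : Submodule k V) = _
          have h1 := Submodule.finrank_sup_add_finrank_inf_eq (F n) (Submodule.span k {v})
          have h2 : F n ⊓ Submodule.span k {v} = ⊥ :=
            disjoint_iff.1 ((Submodule.disjoint_span_singleton' (fun h : v = 0 => hvn (h ▸ zero_mem _))).2 hvn)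
          have h3 : Module.finrank k (Submodule.span k {v}) = 1 :=
            finrank_span_singleton (fun h : v = 0 => hvn (h ▸ zero_mem _))
          rw [h2, finrank_bot, hrank, h3] at h1
          omega
        · obtain ⟨z, hz⟩ := hG w hw
          refine ⟨(Submodule.inclusion le_sup_left).rTensor A z + ⟨w, hw⟩ ⊗ₜ 1, ?_⟩
          rw [map_add, ← LinearMap.rTensor_comp_apply]
          show (F n).subtype.rTensor A z + w ⊗ₜ[k] (1 : A) = _
          rw [hz, sub_add_cancel]
      · obtain ⟨h1, h2, h3⟩ := hF i hni
        beta_reduce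
        rw [if_pos hni]
        refine ⟨h1, h2, fun _ => ?_⟩
        rcases Nat.lt_or_ge i n with hin | hin
        · rw [if_pos (by omega : i + 1 ≤ n)]
          exact h3 hin
        · obtain rfl : i = n := by omega
          rw [if_neg (by omega : ¬ i + 1 ≤ i)]
          exact ⟨le_sup_left, hG⟩
  obtain ⟨F, h0, hF⟩ := step _ le_rfl
  refine ⟨fun i => F i.1, h0, Submodule.eq_top_of_finrank_eq (hF _ le_rfl).1,
    fun i => (hF i.1 (Nat.le_of_lt_succ i.2)).2.1, fun i => ?_⟩
  obtain ⟨h1, -, h3⟩ := hF i.1 i.2.le
  refine ⟨(h3 i.2).1, ?_, (h3 i.2).2⟩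
  show Module.finrank k (F (i.1 + 1)) = Module.finrank k (F i.1) + 1
  rw [h1, (hF (i.1 + 1) i.2).1]

end Groth.Agent.S12067
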