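import Groth.Statements.S12069
import Groth.Agent.Lib.CMReg18.Bounded

set_option autoImplicit false
universe u
open CategoryTheory CategoryTheory.Limits AlgebraicGeometry
open FGA

open Groth.Agent Groth.Agent.CMReg18
namespace Groth.Agent.S12069

/-- Over an algebraically closed field k, let X ⊆ P^n_k be a closed subscheme and P a bounded family of
coherent O_X-modules. Then there are integers m, N and an O_X-module E which is a direct sum of N
copies of O_X(-m) such that every member of the family is a quotient of E. (The published statement
is relative, for families of classes of sheaves on the fibres of a projective scheme over a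
Noetherian base, and gives two necessary conditions for boundedness, which are then shown to be
sufficient together; this row is the necessity of the first condition in the case of the base Spec
k. Finiteness of the set of Hilbert polynomials of the family, the other necessary condition, is a
separate result.) -/
theorem result (k : Type u) [Field k] [IsAlgClosed k] (n : ℕ) (X : Scheme.{u})
    [X.Over (Spec (CommRingCat.of k))] (i : X ⟶ CohB1.ProjSpace n k) [IsClosedImmersion i]
    (hi : i ≫ CohB1.ProjSpace.toSpec n k = X ↘ Spec (CommRingCat.of k))
    (P : X.Modules → Prop) (hP : ∀ F, P F → Coh.IsCoh F) (hb : Pic13.IsBounded k X P) :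
    ∃ (m : ℤ) (N : ℕ) (E : X.Modules) (c : Fin N → (Pic13.twistOn k i (Coh.structureModule X) (-m) ⟶ E)),
      Nonempty (IsColimit (Cofan.mk E c)) ∧ ∀ F, P F → ∃ p : E ⟶ F, Epi p := by
  haveI := isProper_projSpace k (n := n)
  haveI : IsProper (X ↘ Spec (CommRingCat.of k)) := NumPoly18.isProper_of_closedImmersion i hi
  obtain ⟨m, N, S, -, hd⟩ := exists_bounded_data i hb
  let D := (projData k n).pullback i
  let e : Pic13.twistOn k i (Coh.structureModule X) (-m) ≅ D.O (-m) := M2.tensorLUnit _
  refine ⟨m, N, ∐ fun _ : Fin N => Pic13.twistOn k i (Coh.structureModule X) (-m),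
    fun j => Sigma.ι (fun _ : Fin N => Pic13.twistOn k i (Coh.structureModule X) (-m)) j,
    ⟨coproductIsCoproduct _⟩, fun F hF => ?_⟩
  obtain ⟨-, p, hp⟩ := hd F hF
  haveI := hp
  refine ⟨(Sigma.mapIso fun _ => e).hom ≫ (M2.freeModTensorIso X N (D.O (-m))).inv ≫
    (M2.tensorR (D.O (-m))).map p ≫ (D.twTwist F m (-m) ≪≫ D.twIso F (by ring) ≪≫ D.twZero F).hom, ?_⟩
  exact epi_comp' inferInstance (epi_comp' inferInstance (epi_comp' (CohFound.epi_tensorMap p (D.O (-m))) inferInstance))

end Groth.Agent.S12069
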