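import Groth.Statements.S1207
import Mathlib.Tactic.LinearCombination
import Mathlib.RingTheory.LocalRing.MaximalIdeal.Basic


set_option autoImplicit false
universe u
open FlatMor

namespace Groth.Agent.S1207

/-- Let A be a local ring and I, J ideals of A with J finitely generated, J ≠ A, and I ⊆ J^n for all n ≥
1. Then every prime p not containing J which is maximal among the primes not containing J (a closed
point of Spec A ∖ V(J)) contains I. (The published statement leaves the hypothesis J ≠ A implicit;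
for J = A the assertion fails.) -/
theorem result (A : Type u) [CommRing A] [IsLocalRing A] (I J : Ideal A) (hJ : J.FG) (hJ1 : J ≠ ⊤)
    (hI : ∀ n : ℕ, 1 ≤ n → I ≤ J ^ n) (p : Ideal A) [p.IsPrime] (hp : ¬ J ≤ p)
    (hmax : ∀ (p' : Ideal A), p'.IsPrime → p ≤ p' → ¬ J ≤ p' → p' = p) : I ≤ p := by
  intro x hx
  by_contra hxp
  have hbig : ∀ z ∉ p, J ≤ (p ⊔ Ideal.span {z}).radical := by
    intro z hz a ha
    by_contra hna
    obtain ⟨q, hq, hqle, hq'⟩ : ∃ q : Ideal A, q.IsPrime ∧ p ⊔ Ideal.span {z} ≤ q ∧ a ∉ q := by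
      rw [Ideal.radical_eq_sInf, Submodule.mem_sInf] at hna
      push Not at hna
      obtain ⟨q, ⟨hle, hq⟩, haq⟩ := hna
      exact ⟨q, hq, hle, haq⟩
    have := hmax q hq (le_sup_left.trans hqle) (fun h => hq' (h ha))
    exact hz (this ▸ hqle (Ideal.mem_sup_right (Ideal.mem_span_singleton_self z)))
  have hx2 : x ^ 2 ∉ p := fun h => hxp (‹p.IsPrime›.mem_of_pow_mem 2 h)
  obtain ⟨n, hn⟩ := Ideal.exists_pow_le_of_le_radical_of_fg (hbig _ hx2) hJ
  have := (Ideal.pow_le_pow_right (Nat.le_succ n)).trans hn (hI (n+1) (Nat.succ_pos n) hx)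
  obtain ⟨q, hq, r, hr, hqr⟩ := Submodule.mem_sup.mp this
  obtain ⟨c, rfl⟩ := Ideal.mem_span_singleton.mp hr
  have h1 : x * (1 - x * c) ∈ p := by
    have : x * (1 - x * c) = q := by linear_combination -hqr
    rw [this]; exact hq
  have h2 := (‹p.IsPrime›.mem_or_mem h1).resolve_left hxp
  have hxm : x ∈ IsLocalRing.maximalIdeal A :=
    IsLocalRing.le_maximalIdeal hJ1 (by simpa using hI 1 le_rfl hx)
  have hxc : x * c ∈ IsLocalRing.maximalIdeal A := Ideal.mul_mem_right c _ hxm
  exact ‹p.IsPrime›.ne_top (Ideal.eq_top_of_isUnit_mem _ h2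
    (IsLocalRing.isUnit_one_sub_self_of_mem_nonunits _ hxc))

end Groth.Agent.S1207
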