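import Groth.Statements.S12071
import Mathlib.GroupTheory.SpecificGroups.Cyclic
import Mathlib.RingTheory.Int.Basic
import Mathlib.GroupTheory.Archimedean

-- import your own Groth.Agent.* helpers here

set_option autoImplicit false
open RootD

namespace Groth.Agent.S12071

/-- Let G be the group generated by two elements x, y subject to x² = y² = 1 (the infinite dihedral
group; here Mathlib's DihedralGroup 0 with x = sr 0 and y = sr 1, so that x y = r 1). Then every
normal subgroup of G containing neither x nor y is generated by an element (x y)^n with n > 0; such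
a subgroup is cyclic, generated by r n. (The published statement does not exclude the trivial
subgroup, for which no n > 0 works; this row assumes the subgroup nontrivial.) -/
theorem result (N : Subgroup (DihedralGroup 0)) [N.Normal]
    (hN : N ≠ ⊥) (hx : DihedralGroup.sr (0 : ZMod 0) ∉ N) (hy : DihedralGroup.sr (1 : ZMod 0) ∉ N) :
    ∃ n : ℕ, 0 < n ∧ N = Subgroup.zpowers (DihedralGroup.r (n : ZMod 0)) := by
  have hsr : ∀ k : ZMod 0, DihedralGroup.sr k ∉ N := by
    intro k hk
    have hconj : ∀ a : ZMod 0, DihedralGroup.sr (k - 2 * a) ∈ N := by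
      intro a
      have := (‹N.Normal›).conj_mem _ hk (DihedralGroup.r a)
      rw [DihedralGroup.r_mul_sr, DihedralGroup.inv_r, DihedralGroup.sr_mul_r] at this
      convert! this using 2; ring
    rcases Int.even_or_odd (k : ℤ) with ⟨t, ht⟩ | ⟨t, ht⟩
    · refine hx ?_
      convert! hconj (t : ZMod 0) using 2
      exact (by omega : (0 : ℤ) = HSub.hSub (α := ℤ) k (2 * t))
    · refine hy ?_
      convert! hconj (t : ZMod 0) using 2
      exact (by omega : (1 : ℤ) = HSub.hSub (α := ℤ) k (2 * t))
  let H : AddSubgroup ℤ :=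
  { carrier := {z : ℤ | DihedralGroup.r (z : ZMod 0) ∈ N}
    add_mem' := fun {a b} ha hb => by
      have := N.mul_mem ha hb
      rwa [DihedralGroup.r_mul_r] at this
    zero_mem' := by
      show DihedralGroup.r (0 : ZMod 0) ∈ N
      rw [DihedralGroup.r_zero]; exact N.one_mem
    neg_mem' := fun {a} ha => by
      have := N.inv_mem ha
      rwa [DihedralGroup.inv_r] at this }
  obtain ⟨g, hg⟩ : ∃ g : ℤ, H = AddSubgroup.zmultiples g := by
    obtain ⟨g, hg⟩ := Int.subgroup_cyclic H
    exact ⟨g, by rw [hg, AddSubgroup.zmultiples_eq_closure]⟩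
  have hg0 : g ≠ 0 := by
    rintro rfl
    refine hN ((Subgroup.eq_bot_iff_forall N).2 ?_)
    rintro (k | k) hk
    · have : (k : ℤ) ∈ H := hk
      rw [hg] at this
      simp at this
      rw [show k = (0 : ZMod 0) from this, DihedralGroup.r_zero]
    · exact absurd hk (hsr k)
  refine ⟨g.natAbs, Int.natAbs_pos.2 hg0, ?_⟩
  have hmem : ∀ z : ℤ, DihedralGroup.r (z : ZMod 0) ∈ N ↔ (g.natAbs : ℤ) ∣ z := fun z => by
    change z ∈ H ↔ _
    rw [hg, Int.mem_zmultiples_iff, Int.natAbs_dvd]
  ext w
  rcases w with k | k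
  · rw [show (DihedralGroup.r k ∈ N) ↔ _ from hmem k, Subgroup.mem_zpowers_iff]
    constructor
    · rintro ⟨c, hc⟩
      refine ⟨c, ?_⟩
      rw [DihedralGroup.r_zpow]
      congr 1
      exact hc.symm
    · rintro ⟨c, hc⟩
      rw [DihedralGroup.r_zpow] at hc
      exact ⟨c, (DihedralGroup.r.injEq _ _ ▸ hc :).symm⟩
  · refine iff_of_false (hsr k) fun h => ?_
    obtain ⟨c, hc⟩ := Subgroup.mem_zpowers_iff.1 h
    rw [DihedralGroup.r_zpow] at hc
    exact absurd hc (by simp)

end Groth.Agent.S12071
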