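import Groth.Statements.S12072
import Groth.Agent.Lib.CartanImg21.Main
-- import your own Groth.Agent.* helpers here

set_option autoImplicit false
universe u
open CategoryTheory MonoidalCategory CartesianMonoidalCategory MonObj GrpObj AlgebraicGeometry
open SGA3x

namespace Groth.Agent.S12072

/-- Let G and H be smooth connected algebraic groups (not necessarily affine) over an algebraically
closed field k and v : G → H a surjective homomorphism. Then the Cartan subgroups of H are the
images of the Cartan subgroups of G: if C is a Cartan subgroup of G and c′ : C′ → H a subgroup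
scheme with a flat surjective homomorphism C → C′ over v (so C′ = v(C)), then C′ is a Cartan
subgroup of H; and every Cartan subgroup C′ of H arises in this way from some Cartan subgroup C of
G. -/
theorem result (k : Type u) [Field k] [IsAlgClosed k]
    (G H : Over (Spec (CommRingCat.of k))) [GrpObj G] [GrpObj H]
    [Smooth G.hom] [QuasiCompact G.hom] [ConnectedSpace ↥G.left]
    [Smooth H.hom] [QuasiCompact H.hom] [ConnectedSpace ↥H.left]
    (v : G ⟶ H) [IsMonHom v] [Surjective v.left] :
    (∀ (C : Over (Spec (CommRingCat.of k))) [GrpObj C] (c : C ⟶ G), SGA3x.IsCartanOver k c →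
      ∀ (C' : Over (Spec (CommRingCat.of k))) [GrpObj C'] (c' : C' ⟶ H) [IsMonHom c'] [Mono c'] (w : C ⟶ C') [IsMonHom w]
        [Flat w.left] [Surjective w.left], w ≫ c' = c ≫ v → SGA3x.IsCartanOver k c') ∧
    (∀ (C' : Over (Spec (CommRingCat.of k))) [GrpObj C'] (c' : C' ⟶ H), SGA3x.IsCartanOver k c' →
      ∃ (C : Over (Spec (CommRingCat.of k))) (_ : GrpObj C) (c : C ⟶ G) (w : C ⟶ C'), SGA3x.IsCartanOver k c ∧ IsMonHom w ∧
        Flat w.left ∧ Surjective w.left ∧ w ≫ c' = c ≫ v) := by
  refine ⟨fun C _ c hC C' _ c' _ _ w _ _ _ hw => ?_, fun C' _ c' hC' => CartanImg21.exists_cartan_lift v c' hC'⟩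
  obtain ⟨-, -, T, _, i, hT, hCT⟩ := hC
  haveI : IsSeparated H.hom := AbRigid.isSeparated_of_grpObj H
  obtain ⟨T', _, t', wT, hT', -, hwT, hs, hf⟩ :=
    ImTor21.exists_image_maxTorus v (fun s => CentMT21.surjective_map_left v _) i hT
  haveI := hs
  haveI := hf
  exact ⟨inferInstance, inferInstance, T', inferInstance, t', hT',
    CartanImg21.image_centralizer v hT hCT hT' wT hwT c' w hw⟩

end Groth.Agent.S12072
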