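import Groth.Statements.S12074
import Groth.Agent.Lib.RelES12.Formal
-- import your own Groth.Agent.* helpers here

set_option autoImplicit false
set_option backward.isDefEq.respectTransparency false
universe u
open CategoryTheory CategoryTheory.Limits AlgebraicGeometry
open Lef

namespace Groth.Agent.S12074

/-- Let A be a Noetherian ring, X a proper A-scheme and 𝓘 a quasi-coherent ideal whose ideal module is
invertible with ample inverse L (so 𝓘 is the ideal of the zero scheme Y of a section t of L and X is
projective over A). Let F be a coherent O_X-module, flat over A, such that t is F-regular (the map 𝓘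
⊗ F → O_X ⊗ F is a monomorphism), and assume that for every point s of Spec A the restriction F_s of
F to the fibre X_s has depth > n at each closed point of the fibre. Then the canonical map from
H^i(X, F), written as H^i(X, O_X ⊗ F), to the inverse limit of the H^i(X, (O_X/𝓘^(m+1)) ⊗ F), the
transition maps being induced by the quotient maps, is injective for i ≤ n and surjective for i < n.
(The published statement is over a Noetherian base scheme and factors this map through the
cohomology of the formal completion along Y, the comparison of the latter with the inverse limit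
being stated for an affine base; this row composes the two over an affine base. The depth hypothesis
is read at the closed points of the fibres, as in the proof. The case F = O_X is a separate row.) -/
theorem result (A : Type u) [CommRing A]
    [IsNoetherianRing A] (X : Scheme.{u}) [X.Over (Spec (CommRingCat.of A))] [IsProper (X ↘ Spec (CommRingCat.of A))]
    (𝓘 : X.IdealSheafData) (L : X.Modules) (hL : ClSub.IsInverseOf L (ClSub.idealMod 𝓘)) (hamp : CohB1.IsAmple L)
    (F : X.Modules) (hF : Coh.IsCoh F) (hflat : FlatMod.IsFlatOver (X ↘ Spec (CommRingCat.of A)) F)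
    (hreg : Mono ((DCoh.tensorBi.map (ClSub.idealModι 𝓘)).app F))
    (n : ℕ)
    (hdepth : ∀ x : X, IsClosed ({((X ↘ Spec (CommRingCat.of A))).asFiber x} : Set ↥(((X ↘ Spec (CommRingCat.of A))).fiber (((X ↘ Spec (CommRingCat.of A))).base x))) →
      (n : ℕ∞) < LocCoh.depth (CInt.fiberStalk (X ↘ Spec (CommRingCat.of A)) x)
        ((CohIII.fiberMod (X ↘ Spec (CommRingCat.of A)) F (((X ↘ Spec (CommRingCat.of A))).base x)).presheaf.stalk (((X ↘ Spec (CommRingCat.of A))).asFiber x)))
    (i : ℕ) :
    (i ≤ n → ∀ x : Coh.HH X ((DCoh.tensorBi.obj (Coh.structureModule X)).obj F) i,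
      (∀ m : ℕ, Sheaf.H.map ((SheafOfModules.toSheaf X.ringCatSheaf).map
        ((DCoh.tensorBi.map (ClSub.toSubscheme (𝓘 ^ (m + 1)))).app F)) i x = 0) → x = 0) ∧
    (i < n → ∀ y : (∀ m : ℕ, Coh.HH X ((DCoh.tensorBi.obj (ClSub.quotMod (𝓘 ^ (m + 1)))).obj F) i),
      (∀ m : ℕ, Sheaf.H.map ((SheafOfModules.toSheaf X.ringCatSheaf).map
        ((DCoh.tensorBi.map (Lef.quotMap (Lef.pow_succ_le 𝓘 m))).app F)) i (y (m + 1)) = y m) →
      ∃ x : Coh.HH X ((DCoh.tensorBi.obj (Coh.structureModule X)).obj F) i,
        ∀ m : ℕ, Sheaf.H.map ((SheafOfModules.toSheaf X.ringCatSheaf).map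
          ((DCoh.tensorBi.map (ClSub.toSubscheme (𝓘 ^ (m + 1)))).app F)) i x = y m) := by
  haveI : AlgebraicGeometry.IsNoetherian X := CohFound.isNoetherian_of_isProper (X ↘ Spec (CommRingCat.of A))
  obtain ⟨e⟩ := id hL
  let T := (DCoh.tensorBi (X := X)).flip.obj F
  let L' := ClSub.idealMod 𝓘
  have hI : PicF.IsInvertible L' :=
    M2.isInvertible_of_tensor_iso (Amp.isAmple_iff.1 hamp).1 (M2.tensorComm _ L ≪≫ e)
  rw [RelES12.tensorBi_map_app] at hreg
  have hS : ∀ m : ℕ, (ShortComplex.mk (T.map (ClSub.idealModι (𝓘 ^ (m + 1))))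
      (T.map (ClSub.toSubscheme (𝓘 ^ (m + 1)))) (by rw [← Functor.map_comp, show ClSub.idealModι (𝓘 ^ (m + 1)) ≫ ClSub.toSubscheme (𝓘 ^ (m + 1)) = 0 from kernel.condition _, Functor.map_zero])).ShortExact := by
    intro m
    have h := RelES12.shortExact_tensor_of_mono (M2.shortExact_idealMod (I := 𝓘 ^ (m + 1))) F
      (RelES12.mono_tensor_pow hI F hreg (m + 1))
    refine ShortComplex.shortExact_of_iso (ShortComplex.isoMk (Iso.refl _) (Iso.refl _) (Iso.refl _) ?_ ?_) h
    · simp only [Iso.refl_hom, Category.id_comp, Category.comp_id]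
      first | done | exact RelES12.tensorBi_map_app _ F
    · simp only [Iso.refl_hom, Category.id_comp, Category.comp_id]
      first | done | exact RelES12.tensorBi_map_app _ F
  have hdepth' : ∀ x : X, IsClosed ({x} : Set X) → (n : ℕ∞) < RelES12.fdep (X ↘ Spec (CommRingCat.of A)) F x :=
    fun x hx => by
      rw [RelES12.fdep_eq_fiberDepth]
      exact hdepth x (RelES12.isClosed_asFiber _ hx)
  exact RelES12.formal_bijective_of_twists A hamp e hF hflat n hdepth'
    (fun m => T.obj (ClSub.quotMod (𝓘 ^ (m + 1))))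
    (fun m => T.map (ClSub.toSubscheme (𝓘 ^ (m + 1)))) (fun m => T.map (Lef.quotMap (Lef.pow_succ_le 𝓘 m)))
    (fun m => by rw [← Functor.map_comp, ES11.toSubscheme_quotMap])
    (fun m => T.map (ClSub.idealModι (𝓘 ^ (m + 1)))) _ hS
    (fun m => by
      obtain ⟨ep⟩ := CurveCoh17.nonempty_idealMod_pow (SecDiv.isEffCartierIdeal_of_isInvertible 𝓘 hI) (m + 1)
      exact ⟨(M2.tensorIso ep.symm (Iso.refl F) ≪≫ M2.tensorComm _ F :
        CohB1.tensorMod (ClSub.idealMod (𝓘 ^ (m + 1))) F ≅ _)⟩) i

end Groth.Agent.S12074
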