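import Groth.Statements.S12076

-- import your own Groth.Agent.* helpers here

set_option autoImplicit false
open RootD

namespace Groth.Agent.S12076

/-- Let Δ be a system of simple roots (a base b of a root pairing P over ℤ) and Γ₀ the subgroup
generated by the roots. Then Γ₀ has a structure of totally ordered group for which the roots > 0 are
exactly the positive roots defined by Δ and for which the height (the additive function with value 1
on each simple root) is monotone. The order is given here by its positive cone C ⊆ Γ₀: 0 ∉ C, C + C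
⊆ C, and for every x ≠ 0 exactly one of x, −x lies in C (x < y meaning y − x ∈ C). -/
theorem result {ι M N : Type*} [AddCommGroup M] [AddCommGroup N]
    (P : RootPairing ι ℤ M N) [Finite ι] (b : P.Base) :
    ∃ C : Set ↥(Submodule.span ℤ (Set.range P.root)),
      0 ∉ C ∧ (∀ x ∈ C, ∀ y ∈ C, x + y ∈ C) ∧ (∀ x, x ≠ 0 → (x ∈ C ∨ -x ∈ C)) ∧ (∀ x ∈ C, -x ∉ C) ∧
      (∀ i : ι, (⟨P.root i, Submodule.subset_span (Set.mem_range_self i)⟩ : ↥(Submodule.span ℤ (Set.range P.root))) ∈ C ↔
        b.IsPos i) ∧
      ∀ φ : ↥(Submodule.span ℤ (Set.range P.root)) →+ ℤ,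
        (∀ j ∈ b.support, φ ⟨P.root j, Submodule.subset_span (Set.mem_range_self j)⟩ = 1) →
        ∀ x y : ↥(Submodule.span ℤ (Set.range P.root)), y - x ∈ C → φ x ≤ φ y := by
  classical
  let B := b.toWeightBasisInt
  let e := Fintype.equivFin ↥b.support
  let K : ↥(P.rootSpan ℤ) →+ Lex (Fin (Fintype.card ↥b.support) → ℤ) :=
    { toFun := fun x => toLex fun i => B.repr x (e.symm i)
      map_zero' := by simp; rfl
      map_add' := fun x y => by simp; rfl }
  have hKinj : Function.Injective K := fun x y h => B.repr.injective (Finsupp.ext fun j => by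
    have := congrFun (congrArg ofLex h) (e j)
    simpa [K] using this)
  let ht : ↥(P.rootSpan ℤ) →ₗ[ℤ] ℤ := B.constr ℤ fun _ => 1
  have hφ : ∀ φ : ↥(P.rootSpan ℤ) →+ ℤ, (∀ j ∈ b.support, φ (P.rootSpanMem ℤ j) = 1) →
      ∀ x, φ x = ht x := by
    intro φ h x
    refine LinearMap.congr_fun (B.ext fun j => ?_ : φ.toIntLinearMap = ht) x
    rw [B.constr_basis]
    have : B j = P.rootSpanMem ℤ j := Subtype.ext (b.coe_toWeightBasisInt_apply j)
    rw [this]
    exact h j j.2
  have hroot : ∀ i, ht (P.rootSpanMem ℤ i) = b.height i := by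
    intro i
    obtain ⟨f, -, -, hf⟩ := b.exists_root_eq_sum_int i
    rw [RootPairing.Base.height_eq_sum hf]
    have : P.rootSpanMem ℤ i = ∑ j : b.support, f j • B j := Subtype.ext (by
      simp only [RootPairing.rootSpanMem, Submodule.coe_sum, Submodule.coe_smul, b.coe_toWeightBasisInt_apply, B, hf]
      exact (Finset.sum_coe_sort b.support (fun j => f j • P.root j)).symm)
    rw [this, map_sum, ← Finset.sum_coe_sort b.support]
    exact Finset.sum_congr rfl fun j _ => by rw [map_smul, B.constr_basis, smul_eq_mul, mul_one]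
  refine ⟨{x | 0 < ht x ∨ (ht x = 0 ∧ 0 < K x)}, ?_, ?_, ?_, ?_, ?_, ?_⟩
  · simp only [Set.mem_setOf_eq, map_zero]
    rintro (h | ⟨-, h⟩)
    · exact lt_irrefl _ h
    · exact lt_irrefl _ h
  · rintro x hx y hy
    simp only [Set.mem_setOf_eq, map_add] at hx hy ⊢
    rcases hx with hx | ⟨hx, hx'⟩ <;> rcases hy with hy | ⟨hy, hy'⟩
    · left; omega
    · left; omega
    · left; omega
    · exact Or.inr ⟨by omega, add_pos hx' hy'⟩
  · intro x hx
    simp only [Set.mem_setOf_eq, map_neg]
    rcases lt_trichotomy (ht x) 0 with h | h | h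
    · right; left; omega
    · rcases lt_trichotomy (K x) 0 with h' | h' | h'
      · exact Or.inr (Or.inr ⟨by omega, neg_pos.2 h'⟩)
      · exact absurd (hKinj (h'.trans (map_zero K).symm)) hx
      · exact Or.inl (Or.inr ⟨h, h'⟩)
    · left; left; exact h
  · intro x hx hn
    simp only [Set.mem_setOf_eq, map_neg] at hx hn
    rcases hx with hx | ⟨hx, hx'⟩ <;> rcases hn with hn | ⟨hn, hn'⟩
    · omega
    · omega
    · omega
    · exact lt_asymm hx' (neg_pos.1 hn')
  · intro i
    change (0 < ht (P.rootSpanMem ℤ i) ∨ (ht (P.rootSpanMem ℤ i) = 0 ∧ _)) ↔ _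
    rw [hroot]
    refine ⟨fun h => h.resolve_right fun h0 => b.height_ne_zero i h0.1, Or.inl⟩
  · intro φ h x y hxy
    rw [hφ φ h, hφ φ h]
    simp only [Set.mem_setOf_eq, map_sub] at hxy
    rcases hxy with hxy | ⟨hxy, -⟩ <;> omega

end Groth.Agent.S12076
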