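import Groth.Statements.S12077
import Mathlib

set_option autoImplicit false
universe u
open Polynomial
open CAlg

namespace Groth.Agent.S12077
open Polynomial
open CAlg

theorem exists_ext {B : Type u} [CommRing B] (F : Finset B[X]) (hF : ∀ f ∈ F, f.Monic ∧ f.natDegree ≠ 0) :
    ∃ (D : Type u) (_ : CommRing D) (i : B →+* D), Function.Injective i ∧ ∀ f ∈ F, ∃ r : D, f.eval₂ i r = 0 := by
  classical
  induction F using Finset.induction with
  | empty => exact ⟨B, inferInstance, RingHom.id B, Function.injective_id, by simp⟩
  | insert f F hf ih =>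
    obtain ⟨D, hC, i, hi, hroots⟩ := ih fun g hg => hF g (Finset.mem_insert_of_mem hg)
    obtain ⟨hm, hd⟩ := hF f (Finset.mem_insert_self f F)
    have hm' : (f.map i).Monic := hm.map i
    have hd' : 0 < (f.map i).degree := by
      rw [degree_map_eq_of_injective hi]; exact natDegree_pos_iff_degree_pos.1 (Nat.pos_of_ne_zero hd)
    refine ⟨AdjoinRoot (f.map i), inferInstance, (AdjoinRoot.of (f.map i)).comp i, ?_, fun g hg => ?_⟩
    · suffices h : Function.Injective (AdjoinRoot.of (f.map i)) from fun a b hab => hi (h hab)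
      rw [injective_iff_map_eq_zero]
      intro c hc
      rcases subsingleton_or_nontrivial D with hD | hD
      · exact Subsingleton.elim _ _
      have hc' := (AdjoinRoot.mk_eq_zero).1 (show AdjoinRoot.mk (f.map i) (Polynomial.C c) = 0 from hc)
      have h0 := (modByMonic_eq_zero_iff_dvd hm').2 hc'
      rw [(modByMonic_eq_self_iff hm').2 (lt_of_le_of_lt degree_C_le hd')] at h0
      exact C_eq_zero.1 h0
    · rcases Finset.mem_insert.1 hg with rfl | hg
      · exact ⟨AdjoinRoot.root _, by rw [← eval₂_map]; exact AdjoinRoot.eval₂_root _⟩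
      · obtain ⟨r, hr⟩ := hroots g hg
        exact ⟨AdjoinRoot.of _ r, by rw [← hom_eval₂, hr, map_zero]⟩

/-- monic polynomials of positive degree -/
abbrev Mon (B : Type u) [CommRing B] : Type u := {f : B[X] // f.Monic ∧ f.natDegree ≠ 0}

/-- the relations -/
noncomputable def rel (B : Type u) [CommRing B] : Ideal (MvPolynomial (Mon B) B) :=
  Ideal.span (Set.range fun f : Mon B => Polynomial.eval₂ MvPolynomial.C (MvPolynomial.X f) f.1)

/-- one step -/
noncomputable def step (B : CommRingCat.{u}) : CommRingCat.{u} := .of (MvPolynomial (Mon B) B ⧸ rel B)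

/-- the map into one step -/
noncomputable def stepMap (B : CommRingCat.{u}) : B →+* step B := (Ideal.Quotient.mk (rel B)).comp MvPolynomial.C

theorem stepMap_injective (B : CommRingCat.{u}) : Function.Injective (stepMap B) := by
  classical
  rw [injective_iff_map_eq_zero]
  intro c hc
  have hc' : MvPolynomial.C c ∈ rel B := Ideal.Quotient.eq_zero_iff_mem.1 hc
  obtain ⟨T, hT⟩ := Submodule.mem_span_finite_of_mem_span hc'
  obtain ⟨hTsub, hcT⟩ := hT
  choose g hg using fun t : T => hTsub t.2
  obtain ⟨C, _, i, hi, hr⟩ := exists_ext (Finset.univ.image fun t : T => (g t).1) (fun f hf => by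
    obtain ⟨t, -, rfl⟩ := Finset.mem_image.1 hf; exact (g t).2)
  let v : Mon B → C := fun f => if h : ∃ r, f.1.eval₂ i r = 0 then h.choose else 0
  let φ : MvPolynomial (Mon B) B →+* C := MvPolynomial.eval₂Hom i v
  have hle : Submodule.span (MvPolynomial (Mon B) B) (T : Set (MvPolynomial (Mon B) B)) ≤ RingHom.ker φ := by
    rw [Submodule.span_le]
    intro x hx
    obtain ⟨t, rfl⟩ : ∃ t : T, (t : MvPolynomial (Mon B) B) = x := ⟨⟨x, hx⟩, rfl⟩
    rw [← hg t, SetLike.mem_coe, RingHom.mem_ker, hom_eval₂]
    have hex : ∃ r, (g t).1.eval₂ i r = 0 := hr _ (Finset.mem_image_of_mem _ (Finset.mem_univ t))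
    rw [show φ.comp MvPolynomial.C = i from RingHom.ext fun b => MvPolynomial.eval₂Hom_C _ _ b,
      show φ (MvPolynomial.X (g t)) = v (g t) from MvPolynomial.eval₂Hom_X' _ _ _]
    simp only [v, dif_pos hex]
    exact hex.choose_spec
  have := hle hcT
  rw [RingHom.mem_ker, show φ (MvPolynomial.C c) = i c from MvPolynomial.eval₂Hom_C _ _ c] at this
  exact hi (this.trans (map_zero i).symm)

theorem step_root (B : CommRingCat.{u}) (f : Mon B) : ∃ r, f.1.eval₂ (stepMap B) r = 0 :=
  ⟨Ideal.Quotient.mk _ (MvPolynomial.X f), by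
    show Polynomial.eval₂ ((Ideal.Quotient.mk (rel B)).comp MvPolynomial.C) (Ideal.Quotient.mk (rel B) (MvPolynomial.X f)) f.1 = 0
    refine (Polynomial.hom_eval₂ _ _ _ _).symm.trans ?_
    exact Ideal.Quotient.eq_zero_iff_mem.2 (Ideal.subset_span ⟨f, rfl⟩)⟩

/-- the tower -/
noncomputable def G (A : Type u) [CommRing A] : ℕ → CommRingCat.{u}
  | 0 => .of A
  | n + 1 => step (G A n)

/-- the transition maps -/
noncomputable def tr (A : Type u) [CommRing A] (i j : ℕ) (h : i ≤ j) : G A i →+* G A j :=
  Nat.leRecOn h (fun {k} g => (stepMap (G A k)).comp g) (RingHom.id _)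

theorem tr_self (A : Type u) [CommRing A] (i : ℕ) : tr A i i le_rfl = RingHom.id _ :=
  Nat.leRecOn_self (C := fun k => G A i →+* G A k) _

theorem tr_succ (A : Type u) [CommRing A] (i j : ℕ) (h : i ≤ j) :
    tr A i (j + 1) (h.trans (Nat.le_succ j)) = (stepMap (G A j)).comp (tr A i j h) :=
  Nat.leRecOn_succ (C := fun k => G A i →+* G A k) h _

theorem tr_injective (A : Type u) [CommRing A] (i j : ℕ) (h : i ≤ j) : Function.Injective (tr A i j h) := by
  induction j, h using Nat.le_induction with
  | base => rw [tr_self]; exact Function.injective_id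
  | succ j h ih => rw [tr_succ A i j h]; exact (stepMap_injective _).comp ih

/-- Every commutative ring `A` admits an injective ring map into an absolutely integrally closed
commutative ring `B`, that is, one over which every monic polynomial is a product of linear factors
`X - b`. (Only the existence of such an extension is stated, not the finer structure of the
construction.) -/
theorem result (A : Type u) [CommRing A] :
    ∃ (B : Type u) (_ : CommRing B) (_ : Algebra A B), Function.Injective (algebraMap A B) ∧
      ∀ f : B[X], f.Monic → ∃ s : Multiset B, f = (s.map fun b => X - C b).prod := by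
  haveI : DirectedSystem (fun n => (G A n : Type u)) fun i j h => tr A i j h :=
    { map_self := fun i x => by rw [tr_self]; rfl
      map_map := fun k j i hij hjk x => by
        induction k, hjk using Nat.le_induction with
        | base => rw [tr_self]; rfl
        | succ k hjk ih =>
          refine (RingHom.congr_fun (tr_succ A j k hjk) _).trans ?_
          show stepMap (G A k) (tr A j k hjk (tr A i j hij x)) = _
          rw [ih]
          exact (RingHom.congr_fun (tr_succ A i k (hij.trans hjk)) x).symm }
  let B := Ring.DirectLimit (fun n => (G A n : Type u)) (fun i j h => ⇑(tr A i j h))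
  let o : ∀ n, G A n →+* B := fun n => Ring.DirectLimit.of (fun n => (G A n : Type u)) (fun i j h => ⇑(tr A i j h)) n
  have hoinj : ∀ n, Function.Injective (o n) := fun n => Ring.DirectLimit.of_injective (G := fun n => (G A n : Type u)) (fun i j h => tr A i j h) (fun i j h => tr_injective A i j h) n
  letI : Algebra A B := (o 0).toAlgebra
  refine ⟨B, inferInstance, inferInstance, hoinj 0, ?_⟩
  have hroot : ∀ f : B[X], f.Monic → f.natDegree ≠ 0 → ∃ r, f.IsRoot r := by
    intro f hf hd
    obtain ⟨n, q, rfl⟩ := Ring.DirectLimit.Polynomial.exists_of f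
    have hq : q.Monic := monic_of_injective (hoinj n) hf
    rw [natDegree_map_eq_of_injective (hoinj n)] at hd
    obtain ⟨r, hr⟩ := step_root (G A n) ⟨q, hq, hd⟩
    refine ⟨o (n + 1) r, ?_⟩
    show Polynomial.eval (o (n + 1) r) (q.map (o n)) = 0
    have ho : o n = (o (n + 1)).comp (stepMap (G A n)) := RingHom.ext fun x => by
      have := (Ring.DirectLimit.of_f (G := fun n => (G A n : Type u)) (f := fun i j h => ⇑(tr A i j h)) (Nat.le_succ n) x).symm
      rw [tr_succ A n n le_rfl, tr_self] at this
      exact this
    rw [eval_map, ho]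
    exact (hom_eval₂ q (stepMap (G A n)) (o (n + 1)) r).symm.trans ((congrArg _ hr).trans (map_zero _))
  intro f
  induction hn : f.natDegree generalizing f with
  | zero => exact fun hf => ⟨0, by simp [eq_one_of_monic_natDegree_zero hf hn]⟩
  | succ n ih =>
    intro hf
    nontriviality B
    obtain ⟨r, hr⟩ := hroot f hf (by omega)
    obtain ⟨g, rfl⟩ := dvd_iff_isRoot.2 hr
    have hg : g.Monic := (monic_X_sub_C r).of_mul_monic_left hf
    rw [(monic_X_sub_C r).natDegree_mul hg, natDegree_X_sub_C] at hn
    obtain ⟨s, rfl⟩ := ih g (by omega) hg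
    exact ⟨r ::ₘ s, by simp⟩

end Groth.Agent.S12077
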