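import Groth.Statements.S12078
import Groth.Statements.S13132
import Groth.Statements.S13133
import Groth.Statements.S14434
import Groth.Statements.S11180
import Groth.Agent.Lib.CI2.ArtinNzd
import Groth.Agent.Lib.CI2.TorKoszul
import Groth.Agent.Lib.EmbDef.Regular
import Groth.Agent.Lib.CplLocH7.Basic

set_option autoImplicit false
universe u
open CAlg

namespace Groth.Agent.S12078

/-- An elementary divisor domain is Bézout. Here `R` is a domain such that for all `n, m ≥ 1` and every
`n × m` matrix `A` there are invertible matrices `U` (`n × n`) and `V` (`m × m`) with `U * A * V`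
zero off the diagonal and with diagonal entries `f 0 ∣ f 1 ∣ f 2 ∣ …`; the conclusion is that every
finitely generated ideal of `R` is principal. -/
theorem result (R : Type u) [CommRing R] [IsDomain R]
    (hR : ∀ n m : ℕ, 1 ≤ n → 1 ≤ m → ∀ A : Matrix (Fin n) (Fin m) R,
      ∃ (U : (Matrix (Fin n) (Fin n) R)ˣ) (V : (Matrix (Fin m) (Fin m) R)ˣ) (f : ℕ → R),
        (∀ k : ℕ, f k ∣ f (k + 1)) ∧
        ∀ (i : Fin n) (j : Fin m), ((U : Matrix (Fin n) (Fin n) R) * A * (V : Matrix (Fin m) (Fin m) R)) i j =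
          if (i : ℕ) = (j : ℕ) then f i else 0) :
    IsBezout R := by
  rw [IsBezout.iff_span_pair_isPrincipal]
  intro a b
  obtain ⟨U, V, f, -, hf⟩ := hR 1 2 le_rfl (by norm_num) !![a, b]
  let B := (U : Matrix (Fin 1) (Fin 1) R) * !![a, b] * (V : Matrix (Fin 2) (Fin 2) R)
  have hmem : ∀ i, B 0 i ∈ Ideal.span {a, b} := by
    intro i
    simp only [B, Matrix.mul_apply, Fin.sum_univ_two, Fin.sum_univ_one]
    refine add_mem (Ideal.mul_mem_right _ _ (Ideal.mul_mem_left _ _ ?_)) (Ideal.mul_mem_right _ _ (Ideal.mul_mem_left _ _ ?_))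
    · exact Ideal.subset_span (by simp)
    · exact Ideal.subset_span (by simp)
  have hB : !![a, b] = ((U⁻¹ : (Matrix (Fin 1) (Fin 1) R)ˣ) : Matrix (Fin 1) (Fin 1) R) * B *
      ((V⁻¹ : (Matrix (Fin 2) (Fin 2) R)ˣ) : Matrix (Fin 2) (Fin 2) R) := by
    simp only [B, ← Matrix.mul_assoc, Units.inv_mul, Matrix.one_mul]
    rw [Matrix.mul_assoc, Units.mul_inv, Matrix.mul_one]
  have hback : ∀ i, (!![a, b] : Matrix (Fin 1) (Fin 2) R) 0 i ∈ Ideal.span {f 0} := by
    intro i
    rw [hB]
    simp only [Matrix.mul_apply, Fin.sum_univ_two, Fin.sum_univ_one]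
    have h0 : B 0 0 = f 0 := (hf 0 0).trans (if_pos rfl)
    have h1 : B 0 1 = 0 := (hf 0 1).trans (if_neg (by simp))
    rw [h1, h0, mul_zero, zero_mul, add_zero]
    exact Ideal.mul_mem_right _ _ (Ideal.mul_mem_left _ _ (Ideal.mem_span_singleton_self _))
  refine ⟨⟨f 0, le_antisymm (Ideal.span_le.2 ?_) (Ideal.span_le.2 ?_)⟩⟩
  · rintro c (rfl | rfl)
    · exact hback 0
    · exact hback 1
  · rintro c rfl
    have := hmem 0
    rwa [show B 0 0 = f 0 from (hf 0 0).trans (if_pos rfl)] at this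

end Groth.Agent.S12078
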