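import Groth.Statements.S12079
import Mathlib.Algebra.Module.FinitePresentation
import Mathlib.RingTheory.Henselian
import Mathlib.RingTheory.WittVector.Identities
import Mathlib.RingTheory.WittVector.Teichmuller
import Mathlib.RingTheory.WittVector.Domain
import Mathlib.Combinatorics.Nullstellensatz
import Mathlib.NumberTheory.Padics.PadicIntegers
import Mathlib.FieldTheory.Finite.Polynomial
import Mathlib.RingTheory.Polynomial.Basic
import Mathlib.RingTheory.Flat.Basic
import Mathlib.LinearAlgebra.Contraction
import Mathlib.LinearAlgebra.TensorProduct.RightExactness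

set_option autoImplicit false
universe u
open TensorProduct
open CAlg

namespace Groth.Agent.S12079
open TensorProduct

/-- For a finitely presented `R`-module `M`, any `R`-module `N` and a flat `R`-module `L`, the canonical
map `Hom_R(M, N) ⊗_R L → Hom_R(M, N ⊗_R L)` sending `f ⊗ l` to `m ↦ f m ⊗ l` is bijective. -/
theorem result (R : Type u) [CommRing R]
    (M N L : Type u) [AddCommGroup M] [Module R M] [AddCommGroup N] [Module R N] [AddCommGroup L] [Module R L]
    [Module.FinitePresentation R M] [Module.Flat R L] :
    Function.Bijective (TensorProduct.rTensorHomToHomRTensor (RingHom.id R) M N L) := by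
  obtain ⟨n, m, f, g, hf, hg⟩ := Module.FinitePresentation.exists_fin' R M
  have hfree : ∀ k : ℕ, Function.Bijective (TensorProduct.rTensorHomToHomRTensor (RingHom.id R) (Fin k → R) N L) := fun k => by
    rw [← rTensorHomEquivHomRTensor_toLinearMap]; exact LinearEquiv.bijective _
  set T := TensorProduct.rTensorHomToHomRTensor (RingHom.id R) M N L
  have hsq : ∀ {P Q : Type u} [AddCommGroup P] [Module R P] [AddCommGroup Q] [Module R Q] (u : P →ₗ[R] Q) (z : (Q →ₗ[R] N) ⊗[R] L),
      TensorProduct.rTensorHomToHomRTensor (RingHom.id R) P N L ((LinearMap.lcomp R N u).rTensor L z) =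
        (TensorProduct.rTensorHomToHomRTensor (RingHom.id R) Q N L z).comp u := by
    intro P Q _ _ _ _ u z
    induction z using TensorProduct.induction_on with
    | zero => simp
    | tmul a b => ext x; simp
    | add x y hx hy => simp only [map_add, hx, hy, LinearMap.add_comp]
  have hinj : Function.Injective ((LinearMap.lcomp R N f).rTensor L) :=
    Module.Flat.rTensor_preserves_injective_linearMap _ fun a b hab => LinearMap.ext fun x => by
      obtain ⟨y, rfl⟩ := hf x; exact LinearMap.congr_fun hab y
  have hex : Function.Exact ((LinearMap.lcomp R N f).rTensor L) ((LinearMap.lcomp R N g).rTensor L) := by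
    refine Module.Flat.rTensor_exact L ?_
    intro a
    constructor
    · intro ha
      have hk : LinearMap.ker f ≤ LinearMap.ker a := by
        intro x hx
        obtain ⟨y, rfl⟩ := (hg x).1 hx
        exact LinearMap.congr_fun ha y
      exact ⟨(LinearMap.ker f).liftQ a hk ∘ₗ (LinearMap.quotKerEquivOfSurjective f hf).symm.toLinearMap, LinearMap.ext fun x => by
        have : (LinearMap.quotKerEquivOfSurjective f hf).symm (f x) = Submodule.Quotient.mk x := by
          rw [LinearEquiv.symm_apply_eq, LinearMap.quotKerEquivOfSurjective_apply_mk]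
        simp [this]⟩
    · rintro ⟨b, rfl⟩
      exact LinearMap.ext fun x => by simp [(hg (g x)).2 ⟨x, rfl⟩]
  refine ⟨(injective_iff_map_eq_zero _).2 fun z hz => ?_, fun w => ?_⟩
  · apply (injective_iff_map_eq_zero _).1 hinj
    apply (injective_iff_map_eq_zero _).1 (hfree n).1
    rw [hsq, hz, LinearMap.zero_comp]
  · obtain ⟨y, hy⟩ := (hfree n).2 (w.comp f)
    have : (LinearMap.lcomp R N g).rTensor L y = 0 := by
      apply (hfree m).1
      rw [hsq, hy, map_zero, LinearMap.comp_assoc]
      exact LinearMap.ext fun x => by simp [(hg (g x)).2 ⟨x, rfl⟩]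
    obtain ⟨z, rfl⟩ := (hex y).1 this
    rw [hsq] at hy
    exact ⟨z, LinearMap.ext fun x => by obtain ⟨x, rfl⟩ := hf x; exact LinearMap.congr_fun hy x⟩

end Groth.Agent.S12079
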