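import Groth.Statements.S15706
import Mathlib
import Groth.Agent.Lib.H2Alg.WeakAss

set_option autoImplicit false
universe u
open CAlg

namespace Groth.Agent.S15706
open TensorProduct

/-- Let A be a Noetherian ring with Serre's property (S_1), stated here in the equivalent form that
every associated prime of A is a minimal prime of A. Let I be an ideal of A and b an element of A/I
which is regular (a non-zero-divisor) in A/I. Then b is the image of a regular element of A. -/
theorem result (A : Type u) [CommRing A]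
    [IsNoetherianRing A] (hS1 : ∀ p ∈ associatedPrimes A A, p ∈ minimalPrimes A) (I : Ideal A)
    (b : A ⧸ I) (hb : b ∈ nonZeroDivisors (A ⧸ I)) :
    ∃ a : A, a ∈ nonZeroDivisors A ∧ Ideal.Quotient.mk I a = b := by
  classical
  obtain ⟨a0, rfl⟩ := Ideal.Quotient.mk_surjective b
  have hfin : (associatedPrimes A A).Finite := associatedPrimes.finite A A
  let S := hfin.toFinset.filter fun p => a0 ∈ p
  let T := hfin.toFinset.filter fun p => a0 ∉ p
  have hmin : ∀ p, p ∈ hfin.toFinset → p ∈ minimalPrimes A := fun p hp => hS1 p (hfin.mem_toFinset.1 hp)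
  have hI : ∀ p ∈ S, ¬ I ≤ p := fun p hp hle => by
    obtain ⟨hp, ha⟩ := Finset.mem_filter.1 hp
    have hpI : p ∈ I.minimalPrimes := ⟨⟨(hmin p hp).isPrime, hle⟩, fun q hq hqp => (hmin p hp).2 ⟨hq.1, bot_le⟩ hqp⟩
    have := hpI.isPrime
    obtain ⟨-, h⟩ := Groth.Agent.H2Alg.mem_minimalPrimes_iff_exists_mul_pow_mem.1 hpI
    obtain ⟨n, u, hu, h'⟩ := h a0 ha
    rw [← Ideal.Quotient.eq_zero_iff_mem, map_mul, map_pow] at h'
    exact hu (hle (Ideal.Quotient.eq_zero_iff_mem.1 ((mem_nonZeroDivisors_iff.1 (pow_mem hb n)).2 _ h')))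
  obtain ⟨i, hi, hiS⟩ : ∃ i ∈ I ⊓ T.inf id, ∀ p ∈ S, i ∉ p := by
    rcases S.eq_empty_or_nonempty with h | ⟨p₀, hp₀⟩
    · exact ⟨0, zero_mem _, by simp [h]⟩
    · have : ¬ (((I ⊓ T.inf id : Ideal A) : Set A) ⊆ ⋃ p ∈ (↑S : Set (Ideal A)), (p : Set A)) := fun h => by
        obtain ⟨p, hp, hle⟩ := (Ideal.subset_union_prime p₀ p₀ fun p hp _ _ => (hmin p (Finset.mem_filter.1 hp).1).isPrime).1 h
        obtain ⟨hp', ha⟩ := Finset.mem_filter.1 hp
        obtain h' | h' := (hmin p hp').isPrime.inf_le.1 hle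
        · exact hI p hp h'
        · obtain ⟨q, hq, hqp⟩ := (hmin p hp').isPrime.inf_le'.1 h'
          obtain ⟨hq', hqa⟩ := Finset.mem_filter.1 hq
          exact hqa ((hmin p hp').2 ⟨(hmin q hq').isPrime, bot_le⟩ hqp ha)
      obtain ⟨i, hi, hin⟩ := Set.not_subset.1 this
      exact ⟨i, hi, fun p hp h => hin (Set.mem_biUnion hp h)⟩
  refine ⟨a0 + i, ?_, by simp [Ideal.Quotient.eq_zero_iff_mem.2 (Ideal.mem_inf.1 hi).1]⟩
  by_contra hc
  obtain ⟨p, hp, hap⟩ : ∃ p ∈ associatedPrimes A A, a0 + i ∈ p := by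
    have : (a0 + i) ∈ ⋃ p ∈ associatedPrimes A A, (p : Set A) := by
      rw [biUnion_associatedPrimes_eq_zero_divisors]
      simpa [mem_nonZeroDivisors_iff, mul_comm, and_comm] using hc
    simpa using this
  by_cases ha : a0 ∈ p
  · exact hiS p (Finset.mem_filter.2 ⟨hfin.mem_toFinset.2 hp, ha⟩) (by simpa using p.sub_mem hap ha)
  · have : i ∈ p := Finset.inf_le (f := id) (Finset.mem_filter.2 ⟨hfin.mem_toFinset.2 hp, ha⟩ : p ∈ T) (Ideal.mem_inf.1 hi).2
    exact ha (by simpa using p.sub_mem hap this)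

end Groth.Agent.S15706
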