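import Groth.Statements.S12080
import Mathlib
import Groth.Agent.S15706

set_option autoImplicit false
universe u
open TensorProduct
open CAlg

namespace Groth.Agent.S12080
open Polynomial TensorProduct

/-- (1) ⇒ (2): let `M` be a finite locally free `R`-module of rank `1`, i.e. there is a set `s ⊆ R`
generating the unit ideal with `M_f ≅ R_f` as `R_f`-modules for every `f ∈ s`. Then the evaluation
map `Hom_R(M, R) ⊗_R M → R` is bijective, so `M` is invertible with inverse its dual. -/
theorem result (R : Type u) [CommRing R] (M : Type u) [AddCommGroup M]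
    [Module R M] (s : Set R) (hs : Ideal.span s = ⊤)
    (hfree : ∀ f ∈ s, Nonempty (LocalizedModule.Away f M ≃ₗ[Localization.Away f] Localization.Away f)) :
    Module.Invertible R M := by
  have hfp : Module.FinitePresentation R M := by
    refine Module.FinitePresentation.of_localizationSpan s hs ?_
    intro r
    obtain ⟨e⟩ := hfree r.1 r.2
    exact Module.FinitePresentation.of_equiv e.symm
  -- commutation
  have comm : ∀ (g : Module.Dual R M) (x y : M), g x • y = g y • x := by
    intro g x y
    rw [← sub_eq_zero]
    set z := g x • y - g y • x with hz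
    have hrad : (⊤ : Ideal R) ≤ Ideal.radical (LinearMap.ker (LinearMap.toSpanSingleton R M z)) := by
      rw [← hs, Ideal.span_le]
      intro f hf
      obtain ⟨e⟩ := hfree f hf
      let S := Submonoid.powers f
      let mk := LocalizedModule.mkLinearMap S M
      let G : LocalizedModule S M →ₗ[Localization S] Localization S :=
        LinearMap.extendScalarsOfIsLocalization S _ <| IsLocalizedModule.map S mk (Algebra.linearMap R (Localization S)) g
      have hG : ∀ w, G (mk w) = algebraMap R (Localization S) (g w) := fun w =>
        IsLocalizedModule.map_apply S mk (Algebra.linearMap R (Localization S)) g w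
      have hw : ∀ w, mk w = e (mk w) • e.symm 1 := fun w => by
        apply e.injective
        simp
      have key : ∀ a b, mk (g a • b) = (e (mk a) * e (mk b) * G (e.symm 1)) • e.symm 1 := by
        intro a b
        rw [map_smul, ← algebraMap_smul (Localization S) (g a) (mk b), ← hG]
        conv_lhs => rw [hw a, hw b]
        rw [map_smul, smul_smul, smul_eq_mul]
        ring_nf
      have : mk z = 0 := by
        rw [hz, map_sub, key, key, mul_comm (e (mk x)), sub_self]
      obtain ⟨⟨_, n, rfl⟩, hn⟩ := (IsLocalizedModule.eq_zero_iff S mk).1 this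
      exact ⟨n, hn⟩
    have h1 : (1 : R) ∈ LinearMap.ker (LinearMap.toSpanSingleton R M z) := by
      have := Ideal.radical_eq_top.1 (top_le_iff.1 hrad)
      rw [this]; trivial
    simpa using h1
  -- surjectivity
  have surj : Function.Surjective (contractLeft R M) := by
    rw [← LinearMap.range_eq_top]
    by_contra hne
    obtain ⟨m, hm, hle⟩ := Ideal.exists_le_maximal _ hne
    have : ¬ s ⊆ m := fun h => hm.ne_top (top_le_iff.1 (hs ▸ Ideal.span_le.2 h))
    obtain ⟨f, hf, hfm⟩ := Set.not_subset.1 this
    obtain ⟨e⟩ := hfree f hf
    let S := Submonoid.powers f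
    let mk := LocalizedModule.mkLinearMap S M
    obtain ⟨⟨x, t⟩, hx⟩ := IsLocalizedModule.surj S mk (e.symm 1)
    obtain ⟨g, t', hg⟩ := Module.FinitePresentation.exists_lift_of_isLocalizedModule S (Algebra.linearMap R (Localization S))
      ((e.restrictScalars R).toLinearMap ∘ₗ mk)
    have h2 : algebraMap R (Localization S) (g x) = algebraMap R _ ((t' : R) * t) := by
      have := LinearMap.congr_fun hg x
      simp only [LinearMap.comp_apply, Algebra.linearMap_apply, LinearMap.smul_apply] at this
      rw [this]
      have h3 : mk x = (t : R) • e.symm 1 := hx.symm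
      rw [LinearEquiv.coe_toLinearMap, h3, LinearEquiv.restrictScalars_apply, ← algebraMap_smul (Localization S) (t : R) (e.symm 1), map_smul,
        e.apply_symm_apply, smul_eq_mul, mul_one, map_mul, Submonoid.smul_def, Algebra.smul_def]
    obtain ⟨⟨_, n, rfl⟩, hn⟩ := (IsLocalization.eq_iff_exists S _).1 h2
    obtain ⟨_, a, ha⟩ := t
    obtain ⟨_, b, hb⟩ := t'
    subst ha hb
    have hgx : g x ∈ m := hle ⟨g ⊗ₜ x, by simp⟩
    have : f ^ n * (f ^ b * f ^ a) ∈ m := hn ▸ Ideal.mul_mem_left _ _ hgx
    rw [← pow_add, ← pow_add] at this
    exact hfm (hm.isPrime.mem_of_pow_mem _ this)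
  obtain ⟨t₀, ht₀⟩ := surj 1
  have key : ∀ t, t = contractLeft R M t • t₀ := by
    intro t
    induction t using TensorProduct.induction_on with
    | zero => simp
    | add a b ha hb => rw [map_add, add_smul, ← ha, ← hb]
    | tmul h y =>
      have : ∀ t₁ : Module.Dual R M ⊗[R] M, contractLeft R M t₁ • (h ⊗ₜ[R] y) = contractLeft R M (h ⊗ₜ[R] y) • t₁ := by
        intro t₁
        induction t₁ using TensorProduct.induction_on with
        | zero => simp
        | add a b ha hb => rw [map_add, add_smul, smul_add, ha, hb]
        | tmul g x =>
          rw [contractLeft_apply, contractLeft_apply, ← TensorProduct.tmul_smul, comm g x y,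
            TensorProduct.tmul_smul, TensorProduct.smul_tmul', TensorProduct.smul_tmul']
          congr 1
          ext z
          have := congrArg h (comm g y z)
          simp only [map_smul, smul_eq_mul] at this
          simp only [LinearMap.smul_apply, smul_eq_mul]
          rw [this, mul_comm]
      have h4 := this t₀
      rwa [ht₀, one_smul] at h4
  refine ⟨⟨?_, surj⟩⟩
  intro a b hab
  rw [key a, key b, hab]

end Groth.Agent.S12080
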