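import Groth.Statements.S12081
import Groth.Agent.Lib.MilnorSqH7.Glue

set_option autoImplicit false
universe u
open TensorProduct
open EtAlg

namespace Groth.Agent.S12081

/-- Let `B' = B ×_A A'` be a fibre square of rings with `A' → A` surjective with kernel `I`, let `J =
Ker(B' → B)`, let `D'` be a `B'`-algebra and `C' = D' ⊗_{B'} A'`. Then the ideal `I C'` is, as a
subset of `C'`, the image of the ideal `J D'` under `D' → C'`; that is, the map `J D' → I C'` is
surjective. -/
theorem result (B' B A' A : Type u) [CommRing B'] [CommRing B] [CommRing A'] [CommRing A]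
    [Algebra B' B] [Algebra B' A'] [Algebra B A] [Algebra A' A] [Algebra B' A] [IsScalarTower B' B A] [IsScalarTower B' A' A]
    (hsq : EtMil.IsFibreSquare B' B A' A)
    (D' C' : Type u) [CommRing D'] [CommRing C'] [Algebra B' D'] [Algebra A' C']
    [Algebra D' C'] [Algebra B' C'] [IsScalarTower B' A' C'] [IsScalarTower B' D' C'] [Algebra.IsPushout B' A' D' C'] :
    (algebraMap D' C') '' ((RingHom.ker (algebraMap B' B)).map (algebraMap B' D') : Set D') =
      ((RingHom.ker (algebraMap A' A)).map (algebraMap A' C') : Set C') := by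
  have hw := Groth.Agent.MilnorH7.weak_of_isFibreSquare hsq
  have hker : Ideal.map (algebraMap B' A') (RingHom.ker (algebraMap B' B)) ≤ RingHom.ker (algebraMap A' A) :=
    Ideal.map_le_iff_le_comap.2 fun j hj => Groth.Agent.MilnorH7.algebraMap_snd_eq_zero hj
  apply Set.Subset.antisymm
  · rintro _ ⟨x, hx, rfl⟩
    have h1 := Ideal.mem_map_of_mem (algebraMap D' C') hx
    rw [Ideal.map_map, ← IsScalarTower.algebraMap_eq, IsScalarTower.algebraMap_eq B' A' C',
      ← Ideal.map_map] at h1
    exact Ideal.map_mono hker h1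
  · set IS : Ideal D' := (RingHom.ker (algebraMap B' B)).map (algebraMap B' D')
    have hsmul : ∀ (a : A') (y : D'), y ∈ IS → ∃ z ∈ IS, algebraMap D' C' z = a • algebraMap D' C' y := by
      intro a y hy
      induction hy using Submodule.span_induction with
      | mem r hr =>
        obtain ⟨j, hj, rfl⟩ := hr
        obtain ⟨j', hj', hja⟩ := hw.lift (a * algebraMap B' A' j)
          (by rw [map_mul, Groth.Agent.MilnorH7.algebraMap_snd_eq_zero hj, mul_zero])
        refine ⟨algebraMap B' D' j', Ideal.mem_map_of_mem _ hj', ?_⟩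
        rw [← IsScalarTower.algebraMap_apply, ← IsScalarTower.algebraMap_apply,
          IsScalarTower.algebraMap_apply B' A' C', IsScalarTower.algebraMap_apply B' A' C', hja, map_mul,
          Algebra.smul_def]
      | zero => exact ⟨0, zero_mem _, by simp⟩
      | add u v _ _ hu hv =>
        obtain ⟨z, hz, hz'⟩ := hu
        obtain ⟨w, hw', hw''⟩ := hv
        exact ⟨z + w, add_mem hz hw', by rw [map_add, hz', hw'', map_add, smul_add]⟩
      | smul d u _ hu =>
        obtain ⟨z, hz, hz'⟩ := hu
        exact ⟨d * z, Ideal.mul_mem_left _ _ hz, by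
          rw [map_mul, hz', smul_eq_mul, map_mul, mul_smul_comm]⟩
    have hmul : ∀ (c : C') (y : D'), y ∈ IS → ∃ z ∈ IS, algebraMap D' C' z = c * algebraMap D' C' y := by
      intro c
      refine (Algebra.IsPushout.out (R := B') (S := A') (R' := D') (S' := C')).inductionOn c _ ?_ ?_ ?_ ?_
      · intro y hy; exact ⟨0, zero_mem _, by simp⟩
      · intro d y hy; exact ⟨d * y, Ideal.mul_mem_left _ _ hy, by simp⟩
      · intro a c hc y hy
        obtain ⟨z, hz, hz'⟩ := hc y hy
        obtain ⟨z', hz2, hz2'⟩ := hsmul a z hz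
        exact ⟨z', hz2, by rw [hz2', hz', smul_mul_assoc]⟩
      · intro c₁ c₂ h1 h2 y hy
        obtain ⟨z, hz, hz'⟩ := h1 y hy
        obtain ⟨z', hz2, hz2'⟩ := h2 y hy
        exact ⟨z + z', add_mem hz hz2, by rw [map_add, hz', hz2', add_mul]⟩
    intro c hc
    induction hc using Submodule.span_induction with
    | mem r hr =>
      obtain ⟨a, ha, rfl⟩ := hr
      obtain ⟨j, hj, rfl⟩ := hw.lift a ha
      exact ⟨algebraMap B' D' j, Ideal.mem_map_of_mem _ hj, by
        rw [← IsScalarTower.algebraMap_apply, ← IsScalarTower.algebraMap_apply]⟩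
    | zero => exact ⟨0, zero_mem _, map_zero _⟩
    | add u v _ _ hu hv =>
      obtain ⟨z, hz, rfl⟩ := hu
      obtain ⟨w, hw', rfl⟩ := hv
      exact ⟨z + w, add_mem hz hw', map_add _ _ _⟩
    | smul d u _ hu =>
      obtain ⟨z, hz, rfl⟩ := hu
      obtain ⟨w, hw', hw''⟩ := hmul d z hz
      exact ⟨w, hw', hw''⟩

end Groth.Agent.S12081
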