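import Groth.Statements.S12082
import Groth.Agent.Lib.EmbDef.Regular
import Groth.Agent.Lib.Depth.CM
import Mathlib

set_option autoImplicit false
universe u
open Synt

namespace Groth.Agent.S12082

/-- Let `S = k[x_1, …, x_n]/I` over a field `k`, `q` a prime of `S` with preimage `q'` in the polynomial
ring, `c` the natural number with `c + ht(q) = ht(q')`, and `J` the extension of `I` to the local
ring `R = k[x_1, …, x_n]_{q'}`. Any `c` elements of `J` whose images generate `J / q' J` form a
regular sequence in `R`. -/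
theorem result (k : Type u) [Field k] (n : ℕ)
    (I : Ideal (MvPolynomial (Fin n) k)) (q : Ideal (MvPolynomial (Fin n) k ⧸ I)) [q.IsPrime] (c : ℕ)
    (hc : (c : ℕ∞) + q.height = (q.comap (Ideal.Quotient.mk I)).height)
    (f : Fin c → Localization.AtPrime (q.comap (Ideal.Quotient.mk I)))
    (hf : ∀ i, f i ∈ I.map (algebraMap _ (Localization.AtPrime (q.comap (Ideal.Quotient.mk I)))))
    (hgen : Ideal.span (Set.range f) ⊔
        IsLocalRing.maximalIdeal (Localization.AtPrime (q.comap (Ideal.Quotient.mk I))) *
          I.map (algebraMap _ (Localization.AtPrime (q.comap (Ideal.Quotient.mk I)))) =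
      I.map (algebraMap _ (Localization.AtPrime (q.comap (Ideal.Quotient.mk I))))) :
    RingTheory.Sequence.IsRegular (Localization.AtPrime (q.comap (Ideal.Quotient.mk I))) (List.ofFn f) := by
  classical
  let P := q.comap (Ideal.Quotient.mk I)
  let R := Localization.AtPrime P
  let J := I.map (algebraMap (MvPolynomial (Fin n) k) R)
  haveI : IsRegularLocalRing R :=
    (isRegularRing_iff.1 (inferInstance : IsRegularRing (MvPolynomial (Fin n) k))) P
  haveI : LocCoh.IsCohenMacaulayLocalRing R := Groth.Agent.DepthLib.isCohenMacaulayLocalRing_of_isRegularLocalRing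
  have hIP : I ≤ P := fun x hx => by
    show Ideal.Quotient.mk I x ∈ q
    rw [Ideal.Quotient.eq_zero_iff_mem.2 hx]; exact q.zero_mem
  have hJm : J ≤ IsLocalRing.maximalIdeal R := by
    rw [← Localization.AtPrime.map_eq_maximalIdeal]; exact Ideal.map_mono hIP
  have hspan : Ideal.span (Set.range f) = J := by
    refine le_antisymm (Ideal.span_le.2 (by rintro _ ⟨i, rfl⟩; exact hf i)) ?_
    exact Submodule.le_of_le_smul_of_le_jacobson_bot (IsNoetherian.noetherian J)
      (IsLocalRing.maximalIdeal_le_jacobson _) hgen.ge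
  have hlist : Ideal.ofList (List.ofFn f) = J := by
    rw [← hspan, Ideal.ofList]; congr 1; ext x; simp [List.mem_ofFn, eq_comm]
  have hmem : ∀ x ∈ List.ofFn f, x ∈ IsLocalRing.maximalIdeal R := by
    intro x hx
    obtain ⟨i, rfl⟩ := List.mem_ofFn.1 hx
    exact hJm (hf i)
  have hsub : Algebra.algebraMapSubmonoid (MvPolynomial (Fin n) k ⧸ I) P.primeCompl = q.primeCompl := by
    ext x
    constructor
    · rintro ⟨y, hy, rfl⟩; exact hy
    · intro hx
      obtain ⟨y, rfl⟩ := Ideal.Quotient.mk_surjective x
      exact ⟨y, hx, rfl⟩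
  haveI : IsLocalization q.primeCompl (R ⧸ J) := hsub ▸
    (inferInstance : IsLocalization (Algebra.algebraMapSubmonoid (MvPolynomial (Fin n) k ⧸ I) P.primeCompl) (R ⧸ J))
  have hdim : ringKrullDim (R ⧸ Ideal.ofList (List.ofFn f)) + (List.ofFn f).length = ringKrullDim R := by
    rw [hlist, List.length_ofFn, IsLocalization.AtPrime.ringKrullDim_eq_height P R,
      IsLocalization.AtPrime.ringKrullDim_eq_height q (R ⧸ J), ← hc, add_comm]
    push_cast
    rfl
  refine ⟨Groth.Agent.EmbDef.isWeaklyRegular_of_dim _ hmem hdim, ?_⟩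
  rw [hlist, smul_eq_mul, Ideal.mul_top]
  exact fun h => (IsLocalRing.maximalIdeal.isMaximal R).ne_top (eq_top_iff.2 (h ▸ hJm))

end Groth.Agent.S12082
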