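import Groth.Statements.S12083
import Groth.Agent.Lib.RelFPH13.Ops

set_option autoImplicit false
universe u
open CAlg

namespace Groth.Agent.S12083

/-- Let `R → A` be a finite type ring map with a surjective presentation `α : R[x_1, …, x_n] → A` and
`M` an `A`-module finitely presented relative to `R` (finitely presented as an `R[x_1, …,
x_n]`-module through `α`). For a ring map `R → R'` let `A' = R' ⊗_R A` (a pushout square) and `γ :
R'[z_1, …, z_k] → A'` any surjective presentation. Then `A' ⊗_A M = R' ⊗_R M` is finitely presented
relative to `R'`, i.e. finitely presented as an `R'[z_1, …, z_k]`-module through `γ`. -/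
theorem result {R A R' A' : Type u} [CommRing R] [CommRing A] [CommRing R'] [CommRing A']
    [Algebra R A] [Algebra R R'] [Algebra A A'] [Algebra R' A'] [Algebra R A'] [IsScalarTower R A A'] [IsScalarTower R R' A']
    [Algebra.IsPushout R A R' A'] [Algebra.FiniteType R A] (M : Type u) [AddCommGroup M] [Module A M] {n k : ℕ}
    (α : MvPolynomial (Fin n) R →ₐ[R] A) (hα : Function.Surjective α)
    (hM : @Module.FinitePresentation (MvPolynomial (Fin n) R) M _ _ (Module.compHom M α.toRingHom))
    (γ : MvPolynomial (Fin k) R' →ₐ[R'] A') (hγ : Function.Surjective γ) :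
    @Module.FinitePresentation (MvPolynomial (Fin k) R') (TensorProduct A A' M) _ _
      (Module.compHom (TensorProduct A A' M) γ.toRingHom) := by
  exact (RelFPH13.rfp_iff γ hγ).1 (RelFPH13.rfp_baseChange ((RelFPH13.rfp_iff α hα).2 hM))

end Groth.Agent.S12083
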