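import Groth.Statements.S12084
import Groth.Agent.Lib.Fitting.Local
import Mathlib.Algebra.BigOperators.Intervals
-- import your own Groth.Agent.* helpers here

set_option autoImplicit false
universe u
open Fitt

namespace Groth.Agent.S12084

/-- For finite `R`-modules `M`, `M'` and every `l`, the `l`-th Fitting ideal of `M ⊕ M'` equals `∑_{k +
k' = l} Fit_k(M) · Fit_{k'}(M')`; in particular `Fit_0(M ⊕ M') = Fit_0(M) · Fit_0(M')`. -/
theorem result (R : Type u) [CommRing R] (M M' : Type u) [AddCommGroup M] [Module R M]
    [AddCommGroup M'] [Module R M'] [Module.Finite R M] [Module.Finite R M'] (l : ℕ) :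
    Fitt.ideal R (M × M') l = ∑ k ∈ Finset.range (l + 1), Fitt.ideal R M k * Fitt.ideal R M' (l - k) := by
  classical
  obtain ⟨n, x, hx⟩ := Groth.Agent.FittingLib.exists_generators (R := R) (M := M)
  obtain ⟨m, y, hy⟩ := Groth.Agent.FittingLib.exists_generators (R := R) (M := M')
  let z : Fin n ⊕ Fin m → M × M' := Sum.elim (fun i => (x i, 0)) (fun j => (0, y j))
  have hz : Submodule.span R (Set.range z) = ⊤ := by
    rw [Set.Sum.elim_range, Submodule.span_union,
      show (fun i => (x i, (0 : M'))) = LinearMap.inl R M M' ∘ x from rfl,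
      show (fun j => ((0 : M), y j)) = LinearMap.inr R M M' ∘ y from rfl,
      Set.range_comp, Set.range_comp, Submodule.span_image, Submodule.span_image, hx, hy,
      Submodule.map_top, Submodule.map_top]
    exact LinearMap.sup_range_inl_inr
  rw [Groth.Agent.FittingLib.ideal_eq_J z hz]
  simp only [Groth.Agent.FittingLib.ideal_eq_J x hx, Groth.Agent.FittingLib.ideal_eq_J y hy]
  refine le_antisymm ?_ ?_
  · let TL : Set (Fin n ⊕ Fin m → R) := (fun v => Sum.elim v 0) '' ↑(Groth.Agent.FittingLib.rel (R := R) x)
    let TR : Set (Fin n ⊕ Fin m → R) := (fun v => Sum.elim 0 v) '' ↑(Groth.Agent.FittingLib.rel (R := R) y)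
    refine Groth.Agent.FittingLib.J_le_of_forall (TL ∪ TR) ?_ fun B S hS h1 h2 => ?_
    · intro v hv
      rw [Groth.Agent.FittingLib.mem_rel, Fintype.sum_sum_type] at hv
      have e1 := congrArg Prod.fst hv
      have e2 := congrArg Prod.snd hv
      simp [z, Prod.fst_sum] at e1
      simp [z, Prod.snd_sum] at e2
      rw [show v = Sum.elim (v ∘ Sum.inl) (0 : Fin m → R) + Sum.elim (0 : Fin n → R) (v ∘ Sum.inr) by
        ext (a | a) <;> simp]
      exact add_mem (Submodule.subset_span (Or.inl ⟨_, Groth.Agent.FittingLib.mem_rel.2 e1, rfl⟩))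
        (Submodule.subset_span (Or.inr ⟨_, Groth.Agent.FittingLib.mem_rel.2 e2, rfl⟩))
    have hclass : ∀ i, ∃ side : Bool,
        (side = true → (∀ b, B i (Sum.inr b) = 0) ∧ (i ∉ S → (fun a => B i (Sum.inl a)) ∈ Groth.Agent.FittingLib.rel x)) ∧
        (side = false → (∀ a, B i (Sum.inl a) = 0) ∧ (i ∉ S → (fun b => B i (Sum.inr b)) ∈ Groth.Agent.FittingLib.rel y)) := by
      intro i
      by_cases hi : i ∈ S
      · obtain ⟨j, hj⟩ := h2 i hi
        rcases j with a | b
        · exact ⟨true, fun _ => ⟨fun b => by simp [hj], fun h => absurd hi h⟩, by simp⟩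
        · exact ⟨false, by simp, fun _ => ⟨fun a => by simp [hj], fun h => absurd hi h⟩⟩
      · rcases h1 i hi with ⟨w, hw, e⟩ | ⟨w, hw, e⟩
        · exact ⟨true, fun _ => ⟨fun b => by rw [← e]; rfl, fun _ => by rw [← e]; exact hw⟩, by simp⟩
        · exact ⟨false, by simp, fun _ => ⟨fun a => by rw [← e]; rfl, fun _ => by rw [← e]; exact hw⟩⟩
    choose side hsT hsF using hclass
    by_cases hcard : Fintype.card {i // side i = true} = n
    · have hcard' : Fintype.card {i // ¬ side i = true} = m := by
        rw [Fintype.card_subtype_compl, hcard]; simp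
      let ρ : Fin n ⊕ Fin m ≃ Fin n ⊕ Fin m :=
        (Equiv.sumCongr (Fintype.equivFinOfCardEq hcard).symm (Fintype.equivFinOfCardEq hcard').symm).trans
          (Equiv.sumCompl fun i => side i = true)
      have hρl : ∀ a, side (ρ (Sum.inl a)) = true := fun a => ((Fintype.equivFinOfCardEq hcard).symm a).2
      have hρr : ∀ b, side (ρ (Sum.inr b)) = false := fun b =>
        Bool.not_eq_true _ ▸ ((Fintype.equivFinOfCardEq hcard').symm b).2
      let C := B.submatrix ρ id
      let A : Matrix (Fin n) (Fin n) R := C.toBlocks₁₁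
      let D : Matrix (Fin m) (Fin m) R := C.toBlocks₂₂
      have hC : C.det = A.det * D.det := by
        conv_lhs => rw [← Matrix.fromBlocks_toBlocks C]
        have h12 : C.toBlocks₁₂ = 0 := by ext a b; exact (hsT _ (hρl a)).1 b
        rw [h12, Matrix.det_fromBlocks_zero₁₂]
      have hB : B.det = Equiv.Perm.sign ρ * (A.det * D.det) := by
        rw [← hC]
        simp only [C, Matrix.det_permute, ← mul_assoc]
        rw [← Int.cast_mul, ← Units.val_mul, Int.units_mul_self]
        simp
      rw [hB]
      refine Ideal.mul_mem_left _ _ ?_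
      let SA : Finset (Fin n) := Finset.univ.filter fun a => ρ (Sum.inl a) ∈ S
      let SD : Finset (Fin m) := Finset.univ.filter fun b => ρ (Sum.inr b) ∈ S
      have hsum : SA.card + SD.card ≤ l := by
        rw [← Finset.card_disjSum]
        refine le_trans (Finset.card_le_card_of_injOn ρ (fun i hi => ?_) ρ.injective.injOn) hS
        rcases i with a | b <;> simpa [SA, SD] using hi
      have hA : A.det ∈ Groth.Agent.FittingLib.J (R := R) x SA.card :=
        Groth.Agent.FittingLib.det_mem_J le_rfl fun a ha => (hsT _ (hρl a)).2 (by simpa [SA] using ha)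
      have hD : D.det ∈ Groth.Agent.FittingLib.J (R := R) y (l - SA.card) :=
        Groth.Agent.FittingLib.det_mem_J (S := SD) (by omega) fun b hb => (hsF _ (hρr b)).2 (by simpa [SD] using hb)
      exact (Finset.single_le_sum (f := fun k => Groth.Agent.FittingLib.J (R := R) x k * Groth.Agent.FittingLib.J (R := R) y (l - k))
        (fun _ _ => bot_le) (Finset.mem_range.2 (by omega : SA.card < l + 1))) (Ideal.mul_mem_mul hA hD)
    · suffices B.det = 0 by rw [this]; exact Submodule.zero_mem _
      rw [Matrix.det_apply]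
      refine Finset.sum_eq_zero fun σ _ => ?_
      obtain ⟨i, hi⟩ : ∃ i, B (σ i) i = 0 := by
        by_contra! hne
        refine hcard ?_
        refine ((Fintype.card_congr (σ.subtypeEquiv (p := fun i => i.isLeft = true) (q := fun i => side i = true)
          fun i => ?_)).symm.trans ?_)
        · rcases i with a | b
          · simp only [Sum.isLeft_inl, true_iff]
            by_contra hs
            exact hne _ ((hsF _ (Bool.not_eq_true _ ▸ hs)).1 a)
          · simp only [Sum.isLeft_inr, Bool.false_eq_true, false_iff]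
            exact fun hs => hne _ ((hsT _ hs).1 b)
        · rw [Fintype.card_congr (β := Fin n)
            { toFun := fun i => i.1.getLeft i.2
              invFun := fun a => ⟨Sum.inl a, rfl⟩
              left_inv := fun i => Subtype.ext (Sum.inl_getLeft i.1 i.2)
              right_inv := fun a => rfl }, Fintype.card_fin]
      exact (congrArg (Equiv.Perm.sign σ • ·) (Finset.prod_eq_zero (f := fun j => B (σ j) j) (Finset.mem_univ i) hi)).trans (smul_zero _)
  · refine Finset.sum_induction _ (fun I => I ≤ _) (fun a b ha hb => sup_le ha hb) bot_le fun k hk => ?_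
    rw [Finset.mem_range] at hk
    rw [Groth.Agent.FittingLib.J, Groth.Agent.FittingLib.J, Ideal.span_mul_span, Ideal.span_le]
    rintro _ ⟨_, ⟨A, SA, hSA, hA, rfl⟩, _, ⟨D, SD, hSD, hD, rfl⟩, rfl⟩
    change A.det * D.det ∈ _
    rw [show A.det * D.det = (Matrix.fromBlocks A 0 0 D).det by rw [Matrix.det_fromBlocks_zero₁₂]]
    refine Groth.Agent.FittingLib.det_mem_J (S := SA.disjSum SD) ?_ fun i hi => ?_
    · rw [Finset.card_disjSum]; omega
    · rw [Groth.Agent.FittingLib.mem_rel, Fintype.sum_sum_type]
      rcases i with a | b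
      · have := Groth.Agent.FittingLib.mem_rel.1 (hA a fun h => hi (Finset.inl_mem_disjSum.2 h))
        simp [z, Prod.ext_iff, Prod.fst_sum, Prod.snd_sum, this]
      · have := Groth.Agent.FittingLib.mem_rel.1 (hD b fun h => hi (Finset.inr_mem_disjSum.2 h))
        simp [z, Prod.ext_iff, Prod.fst_sum, Prod.snd_sum, this]

end Groth.Agent.S12084
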