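import Groth.Statements.S12085
import Groth.Agent.Lib.UnramModel1.Basic

set_option autoImplicit false
universe u
open TensorProduct
open CAlg

namespace Groth.Agent.S12085

/-- If `R → S` is G-unramified (of finite presentation and formally unramified), then there are a finite
type `ℤ`-algebra `R₀`, a ring map `R₀ → R` and a G-unramified ring map `R₀ → S₀` such that `S ≅ R
⊗_{R₀} S₀` as `R`-algebras (existence of an isomorphism). -/
theorem result (R : Type u) [CommRing R] (S : Type u) [CommRing S]
    [Algebra R S] [Algebra.FinitePresentation R S] [Algebra.FormallyUnramified R S] :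
    ∃ (R₀ : Type u) (_ : CommRing R₀) (_ : Algebra.FiniteType ℤ R₀) (S₀ : Type u) (_ : CommRing S₀)
      (_ : Algebra R₀ S₀) (_ : Algebra.FinitePresentation R₀ S₀) (_ : Algebra.FormallyUnramified R₀ S₀)
      (_ : Algebra R₀ R), Nonempty (R ⊗[R₀] S₀ ≃ₐ[R] S) := by
  obtain ⟨n, π, hπ, s, hsk⟩ := (inferInstance : Algebra.FinitePresentation R S).out
  replace hsk : Ideal.span (s : Set (MvPolynomial (Fin n) R)) = RingHom.ker π.toRingHom := hsk
  obtain ⟨R₀, F₀, hfg, hfin, hu, ψ, -, hb⟩ := UnramModel1.exists_model R S π hπ s (fun f hf => by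
    show f ∈ RingHom.ker π.toRingHom
    rw [← hsk]; exact Ideal.subset_span hf)
  have hft : Algebra.FiniteType ℤ R₀ := by
    have := (Subalgebra.fg_iff_finiteType _).1 hfg
    convert this
  refine ⟨R₀, inferInstance, hft, _, inferInstance, inferInstance, ?_, hu, inferInstance,
    ⟨AlgEquiv.ofBijective ψ (hb ?_)⟩⟩
  · exact Algebra.FinitePresentation.quotient (Submodule.fg_span hfin)
  · rw [hsk]; exact fun x hx => hx

end Groth.Agent.S12085
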