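import Groth.Statements.S12086
import Groth.Agent.Lib.KFlat.Module
import Groth.Agent.Lib.KFlat.Cone
-- import your own Groth.Agent.* helpers here

set_option autoImplicit false
universe u
open CategoryTheory CategoryTheory.Limits MonoidalCategory CategoryTheory.Pretriangulated
open DRing

namespace Groth.Agent.S12086

/-- Let `(K₁•, K₂•, K₃•)` be a distinguished triangle in the homotopy category `K(R)` of complexes of
`R`-modules. If two out of the three complexes are K-flat (tensoring with them carries acyclic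
complexes to acyclic complexes), then so is the third. -/
theorem result (R : Type u) [CommRing R]
    (T : Pretriangulated.Triangle (HomotopyCategory (ModuleCat.{u} R) (ComplexShape.up ℤ)))
    (hT : T ∈ Pretriangulated.distinguishedTriangles) :
    ((∀ L : DRing.Cx R, (∀ i : ℤ, IsZero (L.homology i)) → ∀ i : ℤ, IsZero ((L ⊗ T.obj₁.as).homology i)) → (∀ L : DRing.Cx R, (∀ i : ℤ, IsZero (L.homology i)) → ∀ i : ℤ, IsZero ((L ⊗ T.obj₂.as).homology i)) → (∀ L : DRing.Cx R, (∀ i : ℤ, IsZero (L.homology i)) → ∀ i : ℤ, IsZero ((L ⊗ T.obj₃.as).homology i))) ∧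
    ((∀ L : DRing.Cx R, (∀ i : ℤ, IsZero (L.homology i)) → ∀ i : ℤ, IsZero ((L ⊗ T.obj₁.as).homology i)) → (∀ L : DRing.Cx R, (∀ i : ℤ, IsZero (L.homology i)) → ∀ i : ℤ, IsZero ((L ⊗ T.obj₃.as).homology i)) → (∀ L : DRing.Cx R, (∀ i : ℤ, IsZero (L.homology i)) → ∀ i : ℤ, IsZero ((L ⊗ T.obj₂.as).homology i))) ∧
    ((∀ L : DRing.Cx R, (∀ i : ℤ, IsZero (L.homology i)) → ∀ i : ℤ, IsZero ((L ⊗ T.obj₂.as).homology i)) → (∀ L : DRing.Cx R, (∀ i : ℤ, IsZero (L.homology i)) → ∀ i : ℤ, IsZero ((L ⊗ T.obj₃.as).homology i)) → (∀ L : DRing.Cx R, (∀ i : ℤ, IsZero (L.homology i)) → ∀ i : ℤ, IsZero ((L ⊗ T.obj₁.as).homology i))) := by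
  obtain ⟨P, Q, f, ⟨e⟩⟩ := hT
  have inv : ∀ (X : HomotopyCategory (ModuleCat.{u} R) (ComplexShape.up ℤ)) (Y : DRing.Cx R),
      (X ≅ (HomotopyCategory.quotient (ModuleCat.{u} R) (ComplexShape.up ℤ)).obj Y) →
      ((∀ L : DRing.Cx R, (∀ i : ℤ, IsZero (L.homology i)) → ∀ i : ℤ, IsZero ((L ⊗ X.as).homology i)) ↔
        Groth.Agent.KFlat.IsKFlat (Groth.Agent.KFlat.Module.TM R) Y) := by
    intro X Y t
    rw [← Groth.Agent.KFlat.Module.isKFlat_iff]
    have E : HomotopyEquiv X.as Y := HomotopyCategory.homotopyEquivOfIso t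
    refine forall_congr' fun L => imp_congr_right fun _ => ⟨fun h => ?_, fun h => ?_⟩
    · have := (Groth.Agent.KFlat.splitPres_left (Groth.Agent.KFlat.Module.TM R) L).quasiIso_map_homotopyEquiv E
      exact Groth.Agent.KFlat.acyclic_of_quasiIso (((Groth.Agent.KFlat.tcx _).obj L).map E.hom) h
    · have := (Groth.Agent.KFlat.splitPres_left (Groth.Agent.KFlat.Module.TM R) L).quasiIso_map_homotopyEquiv E
      exact Groth.Agent.KFlat.acyclic_of_quasiIso' (((Groth.Agent.KFlat.tcx _).obj L).map E.hom) h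
  have h1 := inv T.obj₁ _ (Pretriangulated.Triangle.π₁.mapIso e)
  have h2 := inv T.obj₂ _ (Pretriangulated.Triangle.π₂.mapIso e)
  have h3 := inv T.obj₃ _ (Pretriangulated.Triangle.π₃.mapIso e)
  obtain ⟨k₁, k₂, k₃⟩ :=
    Groth.Agent.KFlat.isKFlat_mappingCone_two_out_of_three f (T := Groth.Agent.KFlat.Module.TM R)
  exact ⟨fun a b => h3.2 (k₁ (h1.1 a) (h2.1 b)), fun a c => h2.2 (k₂ (h1.1 a) (h3.1 c)),
    fun b c => h1.2 (k₃ (h2.1 b) (h3.1 c))⟩

end Groth.Agent.S12086
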