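import Groth.Statements.S7246
import Groth.Agent.Lib.TwistBC9.PCTwist
import Groth.Agent.S1061

set_option autoImplicit false
set_option linter.style.haveILetI false
set_option backward.isDefEq.respectTransparency false
set_option linter.style.haveILetI false
set_option backward.isDefEq.respectTransparency false
universe u
open CategoryTheory CategoryTheory.Limits AlgebraicGeometry
attribute [local instance] HasDerivedCategory.standard
open Perf

namespace Groth.Agent.S7246

/-- Let f : X ⟶ S be a morphism of finite presentation (locally of finite presentation, quasi-compact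
and quasi-separated), E a pseudo-coherent object of D(O_X), and G a bounded above cochain complex of
O_X-modules of finite presentation, each flat over S and with support proper over S. Assuming the
derived functors - ⊗^L G and Rf_* exist, K = Rf_*(E ⊗^L_{O_X} G) is a pseudo-coherent object of
D(O_S). (The published statement also asserts that the formation of K commutes with arbitrary base
change; this row states only pseudo-coherence.) -/
theorem result {X S : Scheme.{u}} (f : X ⟶ S)
    [LocallyOfFinitePresentation f] [QuasiCompact f] [QuasiSeparated f]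
    (E : DCoh.D X) (hE : ∀ m : ℤ, DCoh.IsPseudoCoherentD m E) (G : CochainComplex X.Modules ℤ)
    (hGb : ∃ b : ℤ, ∀ i : ℤ, b < i → IsZero (G.X i)) (hGfp : ∀ i : ℤ, CohB1.IsFP (G.X i))
    (hGflat : ∀ i : ℤ, FlatMod.IsFlatOver f (G.X i)) (hGsupp : ∀ i : ℤ, ClSub.IsProperOver f (CohB1.support (G.X i)))
    [DCoh.HasLTensorCx G] [DCoh.HasRpush f] (m : ℤ) :
    DCoh.IsPseudoCoherentD m ((DCoh.Rpush f).obj ((DCoh.LTensorCx G).obj E)) := by
  obtain ⟨b, hb⟩ := hGb
  refine TwistBC9.pc_twist ?_ f G b hb hGfp hGflat hGsupp E hE m
  intro R _ X' f' _ _ E' hE' G' hG' hflat' hsupp'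
  haveI : DCoh.HasRpush f' := DBC9.hasRpush f'
  haveI := KFlat.Sch.hasLTensorMod G'
  obtain ⟨a⟩ := TwistBC9.nonempty_ltensorMod_iso G' E'
  exact DGen9.isPerfect_of_iso ((DCoh.Rpush f').mapIso a) (S1061.result f' E' hE' G' hG' hflat' hsupp')

end Groth.Agent.S7246
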