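import Groth.Statements.S12087
import Groth.Agent.Lib.PCHH9.Main
import Groth.Agent.Lib.TwistBC9.LocFree
import Groth.Agent.Lib.DGen9.Approx
import Groth.Agent.S7246
import Groth.Agent.S6943
import Groth.Agent.S7240
import Groth.Agent.Lib.DPush9.Coh
import Groth.Agent.Lib.EtShriek24.Supp
import Groth.Agent.Lib.SchDom.FlatStage
import Groth.Agent.Lib.RelPCS8.FlatTerms

set_option autoImplicit false
set_option linter.style.haveILetI false
set_option backward.isDefEq.respectTransparency false
set_option backward.isDefEq.respectTransparency.types false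
set_option maxHeartbeats 800000
universe u
open CategoryTheory CategoryTheory.Limits AlgebraicGeometry
open Perf

attribute [local instance] HasDerivedCategory.standard

namespace Groth.Agent.S12087

/-- Let `R` be a coherent ring (every finitely generated ideal is finitely presented), `X` a scheme of
finite presentation over `R` (quasi-compact, quasi-separated, locally of finite presentation over
`Spec R`), and `G` an `O_X`-module of finite presentation that is flat over `R` and whose support is
proper over `R`. Then each `H^i(X, G)` is a coherent `R`-module, that is (over a coherent ring) a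
finitely presented `R`-module. -/
theorem result (R : Type u) [CommRing R]
    (hR : ∀ I : Ideal R, I.FG → Module.FinitePresentation R I)
    (X : Scheme.{u}) [X.Over (Spec (CommRingCat.of R))]
    [QuasiCompact (X ↘ Spec (CommRingCat.of R))] [QuasiSeparated (X ↘ Spec (CommRingCat.of R))]
    [LocallyOfFinitePresentation (X ↘ Spec (CommRingCat.of R))]
    (G : X.Modules) (hG : CohB1.IsFP G) (hflat : FlatMod.IsFlatOver (X ↘ Spec (CommRingCat.of R)) G)
    (hsupp : ClSub.IsProperOver (X ↘ Spec (CommRingCat.of R)) (CohB1.support G)) (i : ℕ) :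
    Module.FinitePresentation R (Coh.HH X G i) := by
  let f := X ↘ Spec (CommRingCat.of R)
  haveI : PreservesFiniteLimits (tilde.functor (CommRingCat.of R)) := M1.tilde_preservesFiniteLimits
  haveI : DCoh.HasRpush f := DBC9.hasRpush f
  let E : CochainComplex X.Modules ℤ := (CochainComplex.singleFunctor X.Modules 0).obj G
  have hX : ∀ k : ℤ, k ≠ 0 → IsZero (E.X k) := fun k hk =>
    HomologicalComplex.isZero_single_obj_X (ComplexShape.up ℤ) 0 G k hk
  have h0 : E.X 0 ≅ G := HomologicalComplex.singleObjXSelf (ComplexShape.up ℤ) 0 G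
  have hsupp' : ∀ k : ℤ, ClSub.IsProperOver f (CohB1.support (E.X k)) := fun k => by
    rcases eq_or_ne k 0 with rfl | hk
    · rw [DGen9.support_iso h0]; exact hsupp
    · rw [DPush9.support_of_isZero (hX k hk)]; exact EtShriek24.isProperOver_empty f
  haveI := KFlat.Sch.hasLTensorCx E
  haveI : IsIso ((RHom.ltCounit E).app (RHom.sg 0 (Coh.structureModule X))) :=
    RHom.isIso_counit_kflat E _ (RHom.isKFlat_sgOne 0)
  let u₀ : (DCoh.LTensorCx E).obj (DCoh.inD X (Coh.structureModule X)) ≅ DCoh.inD X G :=
    (DCoh.LTensorCx E).mapIso ((DerivedCategory.singleFunctorIsoCompQ X.Modules 0).app _) ≪≫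
    asIso ((RHom.ltCounit E).app (RHom.sg 0 (Coh.structureModule X))) ≪≫
      DerivedCategory.Q.mapIso (RHom.lunit.app E) ≪≫
      ((DerivedCategory.singleFunctorIsoCompQ X.Modules 0).app G).symm
  have hpc : ∀ m : ℤ, DCoh.IsPseudoCoherentD m ((DCoh.Rpush f).obj (DCoh.inD X G)) := fun m =>
    DGen9.isPseudoCoherentD_of_isoD ((DCoh.Rpush f).mapIso u₀)
      (S7246.result f _ (DGen9.isPseudoCoherentD_of_isPerfect (TwistBC9.isPerfect_oneD X)) E ⟨0, fun k hk => hX k (by omega)⟩
        (fun k => by
          rcases eq_or_ne k 0 with rfl | hk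
          · exact M1.isFP_of_isIso h0.symm hG
          · exact SchDom.isFP_of_isZero (hX k hk))
        (fun k => by
          rcases eq_or_ne k 0 with rfl | hk
          · exact RelPCS8.isFlatOver_of_iso h0.symm hflat
          · exact RelPCS8.isFlatOver_of_isZero (hX k hk))
        hsupp' m)
  have hq : DCoh.IsQCohD ((DCoh.Rpush f).obj (DCoh.inD X G)) :=
    fun k => (S7240.result (k - 1) _ (hpc _)).1 k (by omega)
  obtain ⟨M, ⟨e⟩⟩ := DQC.exists_iso_of_isQCohD _ hq
  have hpM : ∀ m : ℤ, DRing.IsPseudoCoherent R m M := fun m =>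
    (DPerf.pc_tilde_iff (R := CommRingCat.of R) m M).1 (DGen9.isPseudoCoherentD_of_isoD e.symm (hpc m))
  obtain ⟨b, hb⟩ := DPerf.exists_isLE_of_tilde (R := CommRingCat.of R) (m := 0) (M := M)
    (DGen9.isPseudoCoherentD_of_isoD e.symm (hpc 0))
  obtain ⟨v⟩ := PCHH9.nonempty_HH_linearEquiv R X G M e i
  have hfp : Module.FinitePresentation R (Dual.HD R M (i : ℤ)) :=
    ((S6943.result R hR M ⟨b, fun k hk => ModuleCat.subsingleton_of_isZero
      (DerivedCategory.isZero_of_isLE M b k hk)⟩ ((i : ℤ) - 1)).1.1 (hpM _)).2 _ (by omega)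
  exact Module.FinitePresentation.of_equiv v.symm

end Groth.Agent.S12087
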