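import Groth.Statements.S1209
import Groth.Agent.S1208

set_option autoImplicit false
universe u
open FlatMor

set_option backward.isDefEq.respectTransparency.types false

namespace Groth.Agent.S1209

/-- Let R → S be a ring map of finite type and q a prime of S such that the local ring S_q is flat over
R. Then S_q is essentially of finite presentation over R. (The published statement concludes that
S_q is essentially of finite presentation over R_p, where p is the prime of R below q; the two are
equivalent, since R_p is itself a localization of R.) -/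
theorem result {R S : Type u} [CommRing R] [CommRing S] [Algebra R S] [Algebra.FiniteType R S]
    (q : Ideal S) [q.IsPrime] [Module.Flat R (Localization.AtPrime q)] :
    FlatCA.EssFinitePresentation R (Localization.AtPrime q) := by
  classical
  obtain ⟨k, π, hπ⟩ := Algebra.FiniteType.iff_quotient_mvPolynomial''.1 (inferInstance : Algebra.FiniteType R S)
  let P := MvPolynomial (Fin k) R
  letI : Algebra P S := π.toRingHom.toAlgebra
  haveI : IsScalarTower R P S := IsScalarTower.of_algebraMap_eq fun r => (π.commutes r).symm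
  have hsurj : Function.Surjective (algebraMap P S) := hπ
  haveI : Module.Finite P S := Module.Finite.of_surjective (Algebra.linearMap P S) hπ
  haveI : Algebra.IsIntegral P S := Algebra.IsIntegral.of_finite P S
  let qP : Ideal P := q.comap (algebraMap P S)
  haveI : q.LiesOver qP := ⟨rfl⟩
  have hu : ∀ (Q : Ideal S) [Q.IsPrime], Q.LiesOver qP → Q = q := fun Q _ hQ =>
    Ideal.comap_injective_of_surjective _ hsurj hQ.over.symm
  have hflP : FlatCA.FlatAt R qP S :=
    (RG4.flatAt_iff_of_unique q qP hu).1 ‹Module.Flat R (Localization.AtPrime q)›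
  have hfp := S1208.result S qP hflP
  haveI := hfp
  let Pq := Localization.AtPrime qP
  let Sq := Localization.AtPrime q
  letI : Algebra Pq Sq := (Localization.localRingHom qP q (algebraMap P S) rfl).toAlgebra
  haveI : IsScalarTower P Pq Sq := IsScalarTower.of_algebraMap_eq fun x => by
    rw [RingHom.algebraMap_toAlgebra, Localization.localRingHom_to_map, ← IsScalarTower.algebraMap_apply]
  haveI := RG4.isLocalizedModule_of_unique (M := S) q qP hu
  let e := IsLocalizedModule.iso qP.primeCompl ((LocalizedModule.mkLinearMap q.primeCompl S).restrictScalars P)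
  haveI : Module.FinitePresentation Pq Sq :=
    Module.FinitePresentation.of_equiv (LinearEquiv.extendScalarsOfIsLocalization qP.primeCompl Pq
      (show LocalizedModule qP.primeCompl S ≃ₗ[P] Sq from e))
  have hφ : Function.Surjective (Algebra.linearMap Pq Sq) := by
    intro z
    obtain ⟨⟨a, s⟩, hz⟩ := IsLocalization.mk'_surjective q.primeCompl z
    obtain ⟨a, rfl⟩ := hsurj a
    obtain ⟨t, ht⟩ := hsurj s
    have htq : t ∉ qP := fun h' => s.2 (by rw [← ht]; exact h')
    refine ⟨IsLocalization.mk' Pq a (⟨t, htq⟩ : qP.primeCompl), ?_⟩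
    rw [← hz, IsLocalization.eq_mk'_iff_mul_eq]
    show algebraMap Pq Sq _ * _ = _
    rw [← ht, ← IsScalarTower.algebraMap_apply P S Sq, ← IsScalarTower.algebraMap_apply P S Sq,
      IsScalarTower.algebraMap_apply P Pq Sq t, ← map_mul, IsLocalization.mk'_spec, ← IsScalarTower.algebraMap_apply]
  have hk : (RingHom.ker (algebraMap Pq Sq)).FG :=
    Module.FinitePresentation.fg_ker (Algebra.linearMap Pq Sq) hφ
  obtain ⟨s, hs⟩ := hk
  have hnum : ∀ b ∈ s, ∃ f : P, algebraMap P S f = 0 ∧ b ∈ Ideal.span {algebraMap P Pq f} := by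
    intro b hb
    obtain ⟨⟨a, t⟩, rfl⟩ := IsLocalization.mk'_surjective qP.primeCompl b
    have h0 : algebraMap P Sq a = 0 := by
      have hker0 : IsLocalization.mk' Pq a t ∈ RingHom.ker (algebraMap Pq Sq) := hs ▸ Ideal.subset_span hb
      rw [IsScalarTower.algebraMap_apply P Pq Sq, ← IsLocalization.mk'_spec Pq a t, map_mul,
        RingHom.mem_ker.1 hker0, zero_mul]
    rw [IsScalarTower.algebraMap_apply P S Sq, IsLocalization.map_eq_zero_iff q.primeCompl] at h0
    obtain ⟨c, hc⟩ := h0
    obtain ⟨c', hc'⟩ := hsurj c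
    have hcq : c' ∉ qP := fun h' => c.2 (by rw [← hc']; exact h')
    let c'' : qP.primeCompl := ⟨c', hcq⟩
    refine ⟨c' * a, by rw [map_mul, hc', hc], Ideal.mem_span_singleton'.2
      ⟨IsLocalization.mk' Pq 1 (t * c''), ?_⟩⟩
    show IsLocalization.mk' Pq 1 (t * c'') * algebraMap P Pq (c' * a) = IsLocalization.mk' Pq a t
    rw [mul_comm, IsLocalization.mul_mk'_eq_mk'_of_mul, mul_one, IsLocalization.mk'_eq_iff_eq]
    congr 1
    rw [Submonoid.coe_mul]
    show (t : P) * (c' * a) = (t : P) * c' * a
    ring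
  choose f hf0 hfb using hnum
  let J : Ideal P := Ideal.span (Set.range fun b : {b // b ∈ s} => f b.1 b.2)
  have hJS : J ≤ RingHom.ker (algebraMap P S) := by
    rw [Ideal.span_le]; rintro _ ⟨b, rfl⟩; exact hf0 b.1 b.2
  have hker : RingHom.ker (algebraMap Pq Sq) ≤ J.map (algebraMap P Pq) := by
    rw [← hs, Ideal.span_le]
    intro b hb
    obtain ⟨c, hc⟩ := Ideal.mem_span_singleton'.1 (hfb b hb)
    exact hc ▸ Ideal.mul_mem_left _ c (Ideal.mem_map_of_mem _ (Ideal.subset_span ⟨⟨b, hb⟩, rfl⟩))
  have hJfg : J.FG := Submodule.fg_span (Set.finite_range _)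
  let S₀ := P ⧸ J
  haveI : Algebra.FinitePresentation R S₀ := Algebra.FinitePresentation.quotient hJfg
  letI : Algebra S₀ Sq := (Ideal.Quotient.lift J (algebraMap P Sq) fun x hx => by
    rw [IsScalarTower.algebraMap_apply P S Sq, show algebraMap P S x = 0 from hJS hx, map_zero]).toAlgebra
  have hmk : ∀ x : P, algebraMap S₀ Sq (Ideal.Quotient.mk J x) = algebraMap P Sq x := fun _ => rfl
  refine ⟨S₀, inferInstance, inferInstance, inferInstance, IsScalarTower.of_algebraMap_eq fun r => ?_,
    qP.primeCompl.map (Ideal.Quotient.mk J),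
    inferInstance, ⟨?_, fun z => ?_, fun {x y} hxy => ?_⟩⟩
  · show algebraMap R Sq r = algebraMap S₀ Sq (Ideal.Quotient.mk J (algebraMap R P r))
    rw [hmk, IsScalarTower.algebraMap_apply P S Sq, ← IsScalarTower.algebraMap_apply R P S, ← IsScalarTower.algebraMap_apply]
  · rintro ⟨_, t, ht, rfl⟩
    rw [hmk, IsScalarTower.algebraMap_apply P Pq Sq]
    exact (IsLocalization.map_units Pq ⟨t, ht⟩).map _
  · obtain ⟨w, rfl⟩ := hφ z
    obtain ⟨⟨a, t⟩, ha⟩ := IsLocalization.surj qP.primeCompl w
    refine ⟨⟨Ideal.Quotient.mk J a, ⟨Ideal.Quotient.mk J t, t, t.2, rfl⟩⟩, ?_⟩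
    show algebraMap Pq Sq w * algebraMap S₀ Sq (Ideal.Quotient.mk J t) = algebraMap S₀ Sq (Ideal.Quotient.mk J a)
    rw [hmk, hmk, IsScalarTower.algebraMap_apply P Pq Sq,
      IsScalarTower.algebraMap_apply P Pq Sq, ← map_mul, ha]
  · obtain ⟨x, rfl⟩ := Ideal.Quotient.mk_surjective x
    obtain ⟨y, rfl⟩ := Ideal.Quotient.mk_surjective y
    have h' : algebraMap P Pq (x - y) ∈ J.map (algebraMap P Pq) := hker (by
      rw [RingHom.mem_ker, ← IsScalarTower.algebraMap_apply, map_sub, ← hmk x, ← hmk y]
      exact sub_eq_zero.2 hxy)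
    rw [IsLocalization.algebraMap_mem_map_algebraMap_iff qP.primeCompl] at h'
    obtain ⟨m, hm, hmJ⟩ := h'
    refine ⟨⟨Ideal.Quotient.mk J m, m, hm, rfl⟩, ?_⟩
    show Ideal.Quotient.mk J m * Ideal.Quotient.mk J x = Ideal.Quotient.mk J m * Ideal.Quotient.mk J y
    rw [← map_mul, ← map_mul, Ideal.Quotient.eq, ← mul_sub]
    exact hmJ

end Groth.Agent.S1209
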