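import Groth.Statements.S12091
import Mathlib.RingTheory.Derivation.Basic
import Mathlib.RingTheory.MvPolynomial.Basic
import Mathlib.Algebra.MvPolynomial.PDeriv

set_option autoImplicit false
universe u
open TensorProduct MvPolynomial
open FlatMor

set_option backward.isDefEq.respectTransparency.types false

namespace Groth.Agent.S12091


open MvPolynomial in
theorem main (A : Type u) [CommRing A] (M : Type u)
    [AddCommGroup M] [Module A M] (m : ℕ) (x : Fin m → M)
    (hx : Function.Surjective (Fintype.linearCombination A x))
    (G : Algebra.Generators A (SymmetricAlgebra A M) (Fin m))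
    (hG : ∀ j, G.val j = SymmetricAlgebra.ι A M (x j)) :
    ∃ e : SymmetricAlgebra A M ⊗[A] (LinearMap.ker (Fintype.linearCombination A x)) →ₗ[SymmetricAlgebra A M]
        G.toExtension.Cotangent,
      (∀ (k : LinearMap.ker (Fintype.linearCombination A x))
        (hk : (∑ j, C ((k : Fin m → A) j) * X j : MvPolynomial (Fin m) A) ∈ G.toExtension.ker),
        e (1 ⊗ₜ k) = Algebra.Extension.Cotangent.mk ⟨_, hk⟩) ∧
      Function.Surjective e ∧ (Module.Projective A M → Function.Bijective e) := by
  classical
  let S := SymmetricAlgebra A M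
  let K := LinearMap.ker (Fintype.linearCombination A x)
  let E := G.toExtension
  let ψ : MvPolynomial (Fin m) A →ₐ[A] S := aeval G.val
  have hker : E.ker = RingHom.ker ψ := G.ker_eq_ker_aeval_val
  let lin : (Fin m → A) →ₗ[A] MvPolynomial (Fin m) A := Fintype.linearCombination A X
  have hlin : ∀ v : Fin m → A, lin v = ∑ j, C (v j) * X j := fun v => by
    simp [lin, Fintype.linearCombination_apply, smul_eq_C_mul]
  have hψlin : ∀ v, ψ (lin v) = SymmetricAlgebra.ι A M (Fintype.linearCombination A x v) := fun v => by
    simp [lin, ψ, Fintype.linearCombination_apply, map_sum, hG]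
  have hmem : ∀ k : K, lin k ∈ E.ker := fun k => by
    refine hker.ge (show ψ (lin k) = 0 from ?_)
    rw [hψlin, show Fintype.linearCombination A x (k : Fin m → A) = 0 from k.2, map_zero]
  -- the ideal is generated by the linear forms
  let L : Ideal (MvPolynomial (Fin m) A) := Ideal.span (Set.range fun k : K => lin k)
  have hspan : L = E.ker := by
    refine le_antisymm (Ideal.span_le.2 ?_) fun p hp => ?_
    · rintro _ ⟨k, rfl⟩; exact hmem k
    · choose s hs using hx
      let q : MvPolynomial (Fin m) A →ₐ[A] MvPolynomial (Fin m) A ⧸ L := Ideal.Quotient.mkₐ A L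
      have hwd : ∀ v v' : Fin m → A, Fintype.linearCombination A x v = Fintype.linearCombination A x v' →
          q (lin v) = q (lin v') := fun v v' h => by
        rw [← sub_eq_zero, ← map_sub, ← map_sub]
        exact Ideal.Quotient.eq_zero_iff_mem.2 (Ideal.subset_span ⟨⟨v - v', by
          rw [LinearMap.mem_ker, map_sub, h, sub_self]⟩, rfl⟩)
      let β : M →ₗ[A] MvPolynomial (Fin m) A ⧸ L :=
        { toFun := fun y => q (lin (s y))
          map_add' := fun y z => by
            rw [← map_add, ← map_add]
            exact hwd _ _ (by rw [hs, map_add, hs, hs])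
          map_smul' := fun a y => by
            rw [RingHom.id_apply, ← map_smul, ← map_smul]
            exact hwd _ _ (by rw [hs, map_smul, hs]) }
      have hcomp : (SymmetricAlgebra.lift β).comp ψ = q := by
        refine MvPolynomial.algHom_ext fun j => ?_
        show SymmetricAlgebra.lift β (aeval G.val (X j)) = _
        rw [aeval_X, hG, SymmetricAlgebra.lift_ι_apply]
        show q (lin (s (x j))) = q (X j)
        rw [hwd (s (x j)) (Pi.single j 1) (by rw [hs, Fintype.linearCombination_apply_single, one_smul])]
        simp [lin, Fintype.linearCombination_apply_single]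
      rw [hker, RingHom.mem_ker] at hp
      refine Ideal.Quotient.eq_zero_iff_mem.1 (show q p = 0 from ?_)
      rw [← hcomp, AlgHom.comp_apply]
      change SymmetricAlgebra.lift β (ψ p) = 0
      rw [show ψ p = 0 from hp, map_zero]
  let e₀ : K →ₗ[A] E.Cotangent :=
    { toFun := fun k => Algebra.Extension.Cotangent.mk ⟨lin k, hmem k⟩
      map_add' := fun k k' => by
        rw [← map_add]
        exact congrArg _ (Subtype.ext (map_add lin (k : Fin m → A) k'))
      map_smul' := fun a k => by
        rw [RingHom.id_apply, ← IsScalarTower.algebraMap_smul E.Ring a (Algebra.Extension.Cotangent.mk _),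
          ← map_smul]
        exact congrArg _ (Subtype.ext (by
          show lin (a • (k : Fin m → A)) = algebraMap A (MvPolynomial (Fin m) A) a * lin k
          rw [map_smul, Algebra.smul_def])) }
  let e : S ⊗[A] K →ₗ[S] E.Cotangent := e₀.liftBaseChange S
  have he : ∀ (c : S) (k : K), e (c ⊗ₜ k) = c • Algebra.Extension.Cotangent.mk ⟨lin k, hmem k⟩ :=
    fun c k => LinearMap.liftBaseChange_tmul ..
  have hsmul : ∀ (p : MvPolynomial (Fin m) A) (z : E.Cotangent), ψ p • z = (show E.Ring from p) • z := fun p z => by
    rw [← IsScalarTower.algebraMap_smul S (show E.Ring from p) z]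
    congr 1
    exact (G.algebraMap_apply p).symm
  -- lifts to the polynomial ring
  have hlift : ∀ z : S ⊗[A] K, ∃ w : MvPolynomial (Fin m) A ⊗[A] K,
      ψ.toLinearMap.rTensor K w = z :=
    LinearMap.rTensor_surjective K (fun s => G.aeval_val_surjective s)
  let ev : MvPolynomial (Fin m) A ⊗[A] K →ₗ[A] MvPolynomial (Fin m) A :=
    TensorProduct.lift ((LinearMap.mul A (MvPolynomial (Fin m) A)).compl₂ (lin.comp K.subtype))
  have hev : ∀ w, ∃ h : ev w ∈ E.ker, e (ψ.toLinearMap.rTensor K w) = Algebra.Extension.Cotangent.mk ⟨ev w, h⟩ := by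
    intro w
    induction w using TensorProduct.induction_on with
    | zero =>
      refine ⟨by rw [map_zero]; exact E.ker.zero_mem, ?_⟩
      rw [map_zero, map_zero]
      exact (Algebra.Extension.Cotangent.mk (P := E)).map_zero.symm.trans
        (congrArg _ (Subtype.ext (map_zero ev).symm))
    | tmul p k =>
      refine ⟨E.ker.mul_mem_left _ (hmem k), ?_⟩
      rw [LinearMap.rTensor_tmul, he]
      show ψ p • _ = _
      rw [hsmul, ← map_smul]
      exact congrArg _ (Subtype.ext rfl)
    | add a b ha hb =>
      obtain ⟨ha1, ha2⟩ := ha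
      obtain ⟨hb1, hb2⟩ := hb
      refine ⟨by rw [map_add]; exact E.ker.add_mem ha1 hb1, ?_⟩
      rw [map_add, map_add, ha2, hb2, ← map_add]
      exact congrArg _ (Subtype.ext (map_add ev a b).symm)
  have hsurj : Function.Surjective e := by
    intro z
    obtain ⟨⟨p, hp⟩, rfl⟩ := Algebra.Extension.Cotangent.mk_surjective z
    have hpL : p ∈ L := hspan.ge hp
    have hall : ∀ q ∈ L, ∃ w, ev w = q := by
      intro q hq
      induction hq using Submodule.span_induction with
      | mem q hq => obtain ⟨k, rfl⟩ := hq; exact ⟨1 ⊗ₜ k, one_mul _⟩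
      | zero => exact ⟨0, map_zero ev⟩
      | add a b _ _ ha hb =>
        obtain ⟨w, rfl⟩ := ha
        obtain ⟨w', rfl⟩ := hb
        exact ⟨w + w', map_add ev w w'⟩
      | smul c a hmema ha =>
        obtain ⟨w, rfl⟩ := ha
        clear hpL hmema
        induction w using TensorProduct.induction_on with
        | zero => exact ⟨0, by simp⟩
        | tmul r k => exact ⟨(c * r) ⊗ₜ k, mul_assoc _ _ _⟩
        | add a b ha hb =>
          obtain ⟨w, hw⟩ := ha
          obtain ⟨w', hw'⟩ := hb
          exact ⟨w + w', by rw [map_add, map_add, smul_add, hw, hw']⟩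
    obtain ⟨w, rfl⟩ := hall p hpL
    obtain ⟨h, hw⟩ := hev w
    exact ⟨_, hw⟩
  refine ⟨e, fun k hk => ?_, hsurj, fun hP => ⟨?_, hsurj⟩⟩
  · rw [he, one_smul]
    exact congrArg _ (Subtype.ext (hlin k))
  · haveI := hP
    obtain ⟨σ, hσ⟩ := Module.projective_lifting_property (Fintype.linearCombination A x) LinearMap.id hx
    let π : (Fin m → A) →ₗ[A] K :=
      LinearMap.codRestrict K (LinearMap.id - σ.comp (Fintype.linearCombination A x)) fun v => by
        rw [LinearMap.mem_ker, LinearMap.sub_apply, map_sub, LinearMap.comp_apply, ← LinearMap.comp_apply _ σ, hσ]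
        exact sub_self _
    have hπ : ∀ k : K, π (k : Fin m → A) = k := fun k => Subtype.ext (by
      show (k : Fin m → A) - σ (Fintype.linearCombination A x (k : Fin m → A)) = k
      rw [show Fintype.linearCombination A x (k : Fin m → A) = 0 from k.2, map_zero, sub_zero])
    let D : MvPolynomial (Fin m) A → S ⊗[A] K := fun p =>
      ∑ j, ψ (pderiv j p) ⊗ₜ π (Pi.single j 1)
    have hDadd : ∀ p q, D (p + q) = D p + D q := fun p q => by
      simp only [D, map_add, TensorProduct.add_tmul, Finset.sum_add_distrib]
    have hDmul : ∀ p q, D (p * q) = ψ p • D q + ψ q • D p := fun p q => by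
      simp only [D, pderiv_mul, map_add, map_mul, TensorProduct.add_tmul, Finset.smul_sum,
        TensorProduct.smul_tmul', smul_eq_mul, Finset.sum_add_distrib]
      rw [add_comm]
      refine congrArg₂ (· + ·) rfl (Finset.sum_congr rfl fun j _ => ?_)
      rw [mul_comm]
    have hDlin : ∀ k : K, D (lin k) = 1 ⊗ₜ k := fun k => by
      have hd : ∀ j, ψ (pderiv j (lin k)) = algebraMap A S ((k : Fin m → A) j) := fun j => by
        rw [hlin, map_sum, Finset.sum_eq_single j]
        · simp [ψ]
        · intro b _ hb
          simp [pderiv_X_of_ne hb]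
        · simp
      have : D (lin k) = (1 : S) ⊗ₜ π (∑ j, ((k : Fin m → A) j) • Pi.single (M := fun _ => A) j (1 : A)) := by
        simp only [D, hd, map_sum, map_smul, TensorProduct.tmul_sum, Algebra.algebraMap_eq_smul_one,
          TensorProduct.smul_tmul]
      rw [this, ← pi_eq_sum_univ' (k : Fin m → A), hπ]
    have hDev : ∀ w, D (ev w) = ψ.toLinearMap.rTensor K w := by
      intro w
      induction w using TensorProduct.induction_on with
      | zero => simp [D]
      | tmul p k =>
        show D (p * lin k) = ψ p ⊗ₜ k
        rw [hDmul, hDlin, show ψ (lin k) = 0 from hker.le (hmem k), zero_smul, add_zero,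
          TensorProduct.smul_tmul', smul_eq_mul, mul_one]
      | add a b ha hb => rw [map_add, map_add, hDadd, ha, hb]
    have hDsq : ∀ p ∈ E.ker ^ 2, D p = 0 := by
      intro p hp
      rw [sq] at hp
      induction hp using Submodule.mul_induction_on' with
      | mem_mul_mem a ha b hb =>
        refine (hDmul a b).trans ?_
        rw [show ψ a = 0 from hker.le ha, show ψ b = 0 from hker.le hb, zero_smul, zero_smul, add_zero]
      | add a _ b _ ha hb => exact (hDadd a b).trans (by rw [ha, hb, add_zero])
    rw [injective_iff_map_eq_zero]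
    intro z hz
    obtain ⟨w, rfl⟩ := hlift z
    obtain ⟨h, hw⟩ := hev w
    rw [hw, Algebra.Extension.Cotangent.mk_eq_zero_iff] at hz
    rw [← hDev]
    exact hDsq _ hz

/-- Let `x_1, …, x_m` generate the `A`-module `M`, let `K ⊆ A^m` be the module of relations, `C =
Sym_A(M)` and `α : A[y_1, …, y_m] → C` the presentation with `y_j ↦ x_j`, with kernel `J`. Then the
`C`-linear map `C ⊗_A K → J/J²` sending `1 ⊗ k` to the class of `Σ_j k_j y_j` is surjective, and it
is bijective when `M` is a projective `A`-module (so that then `J/J² ≅ K ⊗_A C` and the naive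
cotangent complex of `α` is `K ⊗_A C → ⊕_j C dy_j`). (The published statement asserts `J/J² ≅ K ⊗_A
C` for every `M`. For `A = ℤ`, `M = (ℤ/2)²`, `m = 2` and the two unit vectors, `K = 2ℤ²` and the
element `y_2 ⊗ (2, 0) - y_1 ⊗ (0, 2)` of `C ⊗_A K` is non-zero but maps to the class of `y_2 · 2y_1
- y_1 · 2y_2 = 0`; in degree `2` the graded piece of `J/J²` has `8` elements and that of `K ⊗_A C`
has `16`. The published degree-by-degree computation does show that `J` is generated by the linear
forms coming from `K`, which is the surjectivity, and it is valid as written when `0 → K → A^m → M →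
0` splits, which is the projective case.) -/
theorem result (A : Type u) [CommRing A] (M : Type u)
    [AddCommGroup M] [Module A M] (m : ℕ) (x : Fin m → M)
    (hx : Function.Surjective (Fintype.linearCombination A x))
    (G : Algebra.Generators A (SymmetricAlgebra A M) (Fin m))
    (hG : ∀ j, G.val j = SymmetricAlgebra.ι A M (x j)) :
    ∃ e : SymmetricAlgebra A M ⊗[A] (LinearMap.ker (Fintype.linearCombination A x)) →ₗ[SymmetricAlgebra A M]
        G.toExtension.Cotangent,
      (∀ (k : LinearMap.ker (Fintype.linearCombination A x))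
        (hk : (∑ j, C ((k : Fin m → A) j) * X j : MvPolynomial (Fin m) A) ∈ G.toExtension.ker),
        e (1 ⊗ₜ k) = Algebra.Extension.Cotangent.mk ⟨_, hk⟩) ∧
      Function.Surjective e ∧ (Module.Projective A M → Function.Bijective e) := by
  exact main A M m x hx G hG

end Groth.Agent.S12091
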