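import Groth.Statements.S12092
import Groth.Agent.Lib.DBaseChange.ResLocal

set_option autoImplicit false
set_option linter.style.haveILetI false
set_option backward.isDefEq.respectTransparency false
universe u
open CategoryTheory
attribute [local instance] HasDerivedCategory.standard
open DRing

namespace Groth.Agent.S12092

/-- (3) ⇒ (1): let `A → B` be a ring map and `K•` a complex of `B`-modules. Suppose that for every
maximal ideal `m ⊆ B`, with `p` its inverse image in `A`, the localization `K•_m`, viewed as a
complex of `A_p`-modules, has tor amplitude in `[a, b]`. Then `K•`, regarded over `A` by restriction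
of scalars, has tor amplitude in `[a, b]`. (Tor amplitude in the frozen sense: isomorphic in the
derived category to a complex of flat modules vanishing outside `[a, b]`.) -/
theorem result (A B : Type u) [CommRing A] [CommRing B]
    [Algebra A B] (K : DRing.Cx B) (a b : ℤ)
    (h3 : ∀ (m : Ideal B) [m.IsMaximal],
      DRing.HasTorAmplitudeIn (Localization.AtPrime (m.comap (algebraMap A B))) a b
        (DRing.toD ((DRing.restrictCx (Localization.localRingHom (m.comap (algebraMap A B)) m (algebraMap A B) rfl)).obj
          (((ModuleCat.extendScalars (algebraMap B (Localization.AtPrime m))).mapHomologicalComplex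
            (ComplexShape.up ℤ)).obj K)))) :
    DRing.HasTorAmplitudeIn A a b (DRing.toD ((DRing.restrictCx (algebraMap A B)).obj K)) := by
  exact Groth.Agent.DBaseChange.torAmp_res_of_maximal K a b h3

end Groth.Agent.S12092
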