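import Groth.Statements.S12093
import Groth.Agent.Lib.DBaseChange.TorGE

set_option autoImplicit false
set_option linter.style.haveILetI false
set_option backward.isDefEq.respectTransparency false
universe u
open CategoryTheory CategoryTheory.Limits MonoidalCategory
attribute [local instance] HasDerivedCategory.standard
open DRing

namespace Groth.Agent.S12093

/-- Let `K•` be a complex of `R`-modules (for which `− ⊗^L_R K•` is assumed to exist) and `a` an
integer. Then `K•` has tor amplitude in `[a, ∞)`, i.e. `H^i(M ⊗^L_R K•) = 0` for every `R`-module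
`M` and every `i < a`, if and only if `K•` is quasi-isomorphic to a K-flat complex `E•` (tensoring
with `E•` preserves acyclic complexes) with flat terms and `E^i = 0` for `i < a`. -/
theorem result (R : Type u) [CommRing R] (a : ℤ) (K : DRing.Cx R)
    [DRing.HasLTensorCx R K] :
    (∀ (M : ModuleCat.{u} R) (i : ℤ), i < a →
        Subsingleton (Dual.HD R ((DRing.LTensorCx R K).obj
          (DRing.toD ((CochainComplex.singleFunctor (ModuleCat.{u} R) 0).obj M))) i)) ↔
      ∃ E : DRing.Cx R, (∀ L : DRing.Cx R, (∀ i : ℤ, IsZero (L.homology i)) → ∀ i : ℤ, IsZero ((L ⊗ E).homology i)) ∧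
        DRing.TermwiseFlat E ∧ (∀ i : ℤ, i < a → IsZero (E.X i)) ∧ Nonempty (DRing.toD E ≅ DRing.toD K) := by
  constructor
  · intro h
    exact Groth.Agent.DBaseChange.exists_flat_ge a K fun M i hi =>
      (Groth.Agent.DBaseChange.subsingleton_hd_lTensorCx_single_iff K M i).1 (h M i hi)
  · rintro ⟨E, hE, -, hz, ⟨e⟩⟩ M i hi
    exact (Groth.Agent.DBaseChange.subsingleton_hd_lTensorCx_single_iff K M i).2
      (Groth.Agent.DBaseChange.exactAt_of_flat_ge a hE hz e M i hi)

end Groth.Agent.S12093
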