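import Groth.Statements.S7078
import Groth.Agent.Lib.DMod.TruncGE

set_option autoImplicit false
universe u
attribute [local instance] HasDerivedCategory.standard
open CategoryTheory
open DRing

namespace Groth.Agent.S7078

/-- For a commutative ring R and an object K of D(R) whose cohomology modules vanish outside degrees -1
and 0, K is represented by a two-term complex K^{-1} → K^0 with K^0 a free R-module. -/
theorem result {R : Type u} [CommRing R] (K : Dual.D R)
    (hK : ∀ i : ℤ, i ≠ -1 → i ≠ 0 → Subsingleton (Dual.HD R K i)) :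
    ∃ E : DRing.Cx R, DRing.VanishesOutside E (-1) 0 ∧ Module.Free R (E.X 0) ∧ Nonempty (DRing.toD E ≅ K) := by
  have := (Groth.Agent.DMod.isLE_iff K 0).2 fun i hi => hK i (by omega) (by omega)
  obtain ⟨P, hP, hPf, ⟨e⟩⟩ := Groth.Agent.DMod.exists_free_resolution K 0
  have : K.IsGE (-1) := (Groth.Agent.DMod.isGE_iff K (-1)).2 fun i hi => hK i (by omega) (by omega)
  have : (DRing.toD P).IsGE (-1) := (Groth.Agent.DMod.tS R).isGE_of_iso e.symm (-1)
  obtain ⟨e'⟩ := Groth.Agent.DMod.exists_truncFrom_iso P (-1)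
  have := hPf 0
  exact ⟨_, Groth.Agent.DMod.vanishesOutside_truncFrom P (-1) 0,
    Module.Free.of_equiv (Groth.Agent.DMod.truncFromXEquiv P (show (-1 : ℤ) < 0 by omega)),
    ⟨e' ≪≫ e⟩⟩

end Groth.Agent.S7078
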