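import Groth.Statements.S7082
import Groth.Agent.Lib.DMod.TwoTerm
import Groth.Agent.S7078

set_option autoImplicit false
universe u
attribute [local instance] HasDerivedCategory.standard
open CategoryTheory
open DRing

namespace Groth.Agent.S7082

/-- (1)⇔(3): let R be a commutative ring, I an ideal and K an object of D(R) whose cohomology vanishes
outside degrees -1 and 0. Then I annihilates Ext^1_R(K, N) = Hom_{D(R)}(K, N[1]) for every R-module
N if and only if, for every two-term complex E in degrees -1 and 0 with E^0 projective that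
represents K, and every a in I, multiplication by a on E^{-1} factors through the differential
E^{-1} → E^0. -/
theorem result {R : Type u} [CommRing R] (I : Ideal R) (K : Dual.D R)
    (hK : ∀ i : ℤ, i ≠ -1 → i ≠ 0 → Subsingleton (Dual.HD R K i)) :
    (∀ (N : Type u) [AddCommGroup N] [Module R N] (a : R), a ∈ I →
        ∀ ξ : K ⟶ (Dual.inD R N)⟦(1 : ℤ)⟧, a • ξ = 0) ↔
      ∀ (E : DRing.Cx R), DRing.VanishesOutside E (-1) 0 → Module.Projective R (E.X 0) →
        Nonempty (DRing.toD E ≅ K) → ∀ a : R, a ∈ I →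
          ∃ h : E.X 0 ⟶ E.X (-1), E.d (-1) 0 ≫ h = a • 𝟙 (E.X (-1)) := by
  constructor
  · intro H E hE hE0 he a ha
    obtain ⟨e⟩ := he
    obtain ⟨h, hh⟩ := (Groth.Agent.DMod.comp_eq_zero_iff_homotopy
      (fun i hi => hE i (Or.inr hi)) (fun i h1 h2 => hE i (by omega)) hE0 (a • 𝟙 E)).1
      (fun N _ _ ξ => by
        have := H N a ha (e.inv ≫ ξ)
        rw [Functor.map_smul, CategoryTheory.Functor.map_id, Linear.smul_comp, Category.id_comp]
        apply (cancel_epi e.inv).1
        rw [Linear.comp_smul, this, CategoryTheory.Limits.comp_zero])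
    exact ⟨h, hh⟩
  · intro H N _ _ a ha ξ
    obtain ⟨E, hE, hE0, ⟨e⟩⟩ := Groth.Agent.S7078.result K hK
    have hE0' : Module.Projective R (E.X 0) := Module.Projective.of_free
    obtain ⟨h, hh⟩ := H E hE hE0' ⟨e⟩ a ha
    have := (Groth.Agent.DMod.comp_eq_zero_iff_homotopy (fun i hi => hE i (Or.inr hi))
      (fun i h1 h2 => hE i (by omega)) hE0' (a • 𝟙 E)).2 ⟨h, hh⟩ N (e.hom ≫ ξ)
    rw [Functor.map_smul, CategoryTheory.Functor.map_id, Linear.smul_comp, Category.id_comp] at this
    apply (cancel_epi e.hom).1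
    rw [Linear.comp_smul, this, CategoryTheory.Limits.comp_zero]

end Groth.Agent.S7082
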