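import Groth.Statements.S12094
import Groth.Agent.Lib.DerTrunc.Basic
import Groth.Agent.S7078
import Groth.Agent.S7082
import Groth.Agent.S7083
-- import your own Groth.Agent.* helpers here

set_option autoImplicit false
set_option linter.style.haveILetI false
set_option backward.isDefEq.respectTransparency false
universe u
open CategoryTheory
attribute [local instance] HasDerivedCategory.standard
open DRing

namespace Groth.Agent.S12094

/-- (1) ⇔ (2): let `I ⊆ R` be an ideal and `K ∈ D(R)` with `H^i(K) = 0` for `i ∉ {-1, 0}`. Then some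
power `I^c` annihilates `Ext¹_R(K, N) = Hom_{D(R)}(K, N[1])` for every `R`-module `N` if and only
if, for some `c`, (a) `I^c` annihilates `H^{-1}(K)` and (b) `H^0(K)` is `I^c`-projective, i.e. `I^c`
annihilates `Ext¹_R(H^0(K), N)` for every `R`-module `N`. -/
theorem result {R : Type u} [CommRing R] (I : Ideal R) (K : Dual.D R)
    (hK : ∀ i : ℤ, i ≠ -1 → i ≠ 0 → Subsingleton (Dual.HD R K i)) :
    (∃ c : ℕ, ∀ (N : Type u) [AddCommGroup N] [Module R N] (a : R), a ∈ I ^ c →
        ∀ ξ : K ⟶ (Dual.inD R N)⟦(1 : ℤ)⟧, a • ξ = 0) ↔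
      ∃ c : ℕ, (∀ a : R, a ∈ I ^ c → ∀ x : Dual.HD R K (-1), a • x = 0) ∧
        ∀ (N : Type u) [AddCommGroup N] [Module R N] (a : R), a ∈ I ^ c →
          ∀ ξ : Dual.inD R (Dual.HD R K 0) ⟶ (Dual.inD R N)⟦(1 : ℤ)⟧, a • ξ = 0 := by
  let t : Triangulated.TStructure (Dual.D R) := DerivedCategory.TStructure.t
  haveI : K.IsLE 0 := (Groth.Agent.DMod.isLE_iff K 0).2 fun i hi => hK i (by omega) (by omega)
  haveI : K.IsGE (-1) := (Groth.Agent.DMod.isGE_iff K (-1)).2 fun i hi => hK i (by omega) (by omega)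
  let X := (t.truncLT 0).obj K
  let T := (t.truncGE 0).obj K
  haveI : DerivedCategory.IsLE X (-1) := t.isLE_truncLT_obj K 0 (-1) (by omega)
  haveI : DerivedCategory.IsGE X (-1) := (inferInstance : t.IsGE ((t.truncLT 0).obj K) (-1))
  haveI : DerivedCategory.IsLE T 0 := (inferInstance : t.IsLE ((t.truncGE 0).obj K) 0)
  haveI : DerivedCategory.IsGE T 0 := (inferInstance : t.IsGE ((t.truncGE 0).obj K) 0)
  obtain ⟨Y, ⟨eX⟩⟩ := DerivedCategory.exists_iso_singleFunctor_obj_of_isGE_of_isLE X (-1)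
  obtain ⟨Y', ⟨eT⟩⟩ := DerivedCategory.exists_iso_singleFunctor_obj_of_isGE_of_isLE T 0
  haveI hLTι := Groth.Agent.DerTrunc.isIso_homology_truncLTι K 0 (-1) (by omega)
  haveI hGEπ := Groth.Agent.DerTrunc.isIso_homology_truncGEπ K 0 0 le_rfl
  let HH := DerivedCategory.homologyFunctor (ModuleCat.{u} R)
  let eY : Y ≅ (HH (-1)).obj K :=
    ((DerivedCategory.singleFunctorCompHomologyFunctorIso (ModuleCat.{u} R) (-1)).app Y).symm ≪≫
      (HH (-1)).mapIso eX.symm ≪≫ asIso ((HH (-1)).map ((t.truncLTι 0).app K))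
  let eY' : Y' ≅ (HH 0).obj K :=
    ((DerivedCategory.singleFunctorCompHomologyFunctorIso (ModuleCat.{u} R) 0).app Y').symm ≪≫
      (HH 0).mapIso eT.symm ≪≫ (asIso ((HH 0).map ((t.truncGEπ 0).app K))).symm
  let eT' : T ≅ Dual.inD R (Dual.HD R K 0) :=
    eT ≪≫ (DerivedCategory.singleFunctor (ModuleCat.{u} R) 0).mapIso eY'
  constructor
  · rintro ⟨c, hc⟩
    refine ⟨c, fun a ha x => ?_, fun N _ _ a ha ξ => ?_⟩
    · obtain ⟨E, hE, hE0, ⟨e⟩⟩ := Groth.Agent.S7078.result K hK
      obtain ⟨h, hh⟩ := (Groth.Agent.S7082.result (I ^ c) K hK).1 (fun N _ _ => hc N) E hE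
        Module.Projective.of_free ⟨e⟩ a ha
      let l : (E.homology (-1)) ≃ₗ[R] Dual.HD R K (-1) :=
        (((DerivedCategory.homologyFunctorFactors (ModuleCat.{u} R) (-1)).app E).symm ≪≫
          (HH (-1)).mapIso e).toLinearEquiv
      obtain ⟨y, rfl⟩ := l.surjective x
      obtain ⟨z, rfl⟩ := Groth.Agent.DMod.homologyπ_surjective E (-1) y
      rw [← map_smul, ← map_smul]
      suffices a • z = 0 by rw [this, map_zero, map_zero]
      refine Groth.Agent.DMod.iCycles_injective E (-1) ?_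
      rw [map_smul, map_zero]
      have h1 := Groth.Agent.DMod.d_iCycles (K := E) (-1) 0 z
      have h2 := congrArg (fun f : E.X (-1) ⟶ E.X (-1) => f (E.iCycles (-1) z)) hh
      simp only [ModuleCat.comp_apply, h1, map_zero] at h2
      exact h2.symm
    · haveI h0 : IsIso ((HH 0).map ((t.truncGEπ 0).app K ≫ eT'.hom)) := by
        rw [Functor.map_comp]; infer_instance
      have hs : ∀ i : ℤ, i ≠ 0 → Subsingleton (Dual.HD R (Dual.inD R (Dual.HD R K 0)) i) := by
        intro i hi
        rcases lt_or_gt_of_ne hi with h | h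
        · exact (Groth.Agent.DMod.isGE_iff _ 0).1 (inferInstanceAs
            (((DerivedCategory.singleFunctor (ModuleCat.{u} R) 0).obj _).IsGE 0)) i h
        · exact (Groth.Agent.DMod.isLE_iff _ 0).1 (inferInstanceAs
            (((DerivedCategory.singleFunctor (ModuleCat.{u} R) 0).obj _).IsLE 0)) i h
      exact Groth.Agent.S7083.result (I ^ c) ((t.truncGEπ 0).app K ≫ eT'.hom) hK
        (fun i _ hi => hs i hi) h0 ⟨fun f g _ => (CategoryTheory.Limits.IsZero.eq_of_src
          ((Groth.Agent.DMod.isZero_iff_subsingleton _).2 (hs (-1) (by omega))) _ _)⟩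
        (fun N _ _ => hc N) N a ha ξ
  · rintro ⟨c, hc₁, hc₂⟩
    refine ⟨c + c, fun N _ _ a ha ξ => ?_⟩
    rw [pow_add] at ha
    refine Submodule.mul_induction_on ha (fun b hb a ha => ?_) (fun p q hp hq => by rw [add_smul, hp, hq, add_zero])
    have hX : a • 𝟙 X = 0 := by
      have hM : a • 𝟙 Y = 0 := by
        ext y
        show a • y = 0
        refine eY.toLinearEquiv.injective ?_
        rw [map_smul, map_zero]
        exact hc₁ a ha _
      rw [← cancel_epi eX.inv, ← cancel_mono eX.hom, CategoryTheory.Limits.comp_zero,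
        CategoryTheory.Limits.zero_comp, Linear.comp_smul, Category.comp_id, Linear.smul_comp, eX.inv_hom_id,
        ← CategoryTheory.Functor.map_id, ← Functor.map_smul, hM, Functor.map_zero]
    obtain ⟨η, hη⟩ : ∃ η : T ⟶ (Dual.inD R N)⟦(1 : ℤ)⟧, a • ξ = (t.truncGEπ 0).app K ≫ η :=
      CategoryTheory.Pretriangulated.Triangle.yoneda_exact₂ _ (t.triangleLTGE_distinguished 0 K) _ (by
        show (t.truncLTι 0).app K ≫ (a • ξ) = 0
        rw [Linear.comp_smul, ← Category.id_comp ((t.truncLTι 0).app K ≫ ξ), ← Linear.smul_comp, hX,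
          CategoryTheory.Limits.zero_comp])
    have hη0 : b • η = 0 := by
      rw [← cancel_epi eT'.inv, Linear.comp_smul, CategoryTheory.Limits.comp_zero]
      exact hc₂ N b hb _
    rw [mul_smul, hη, ← Linear.comp_smul, hη0, CategoryTheory.Limits.comp_zero]

end Groth.Agent.S12094
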