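import Groth.Statements.S12096
import Groth.Agent.Lib.BlowAlg3.Basic

set_option autoImplicit false
universe u
open BlowUp

namespace Groth.Agent.S12096

/-- Néron's blowup is compatible with localization. For a ring `A`, an ideal `I`, elements `π, a ∈ A`,
`A' = A[I/π] ⊆ A_π` the affine blowup algebra and `(A_a)' = A_a[I A_a/π]` that of the localization,
the canonical map `A' → (A_a)'` (the restriction of `A_π → (A_a)_π`, given here as a datum with that
compatibility) identifies `(A_a)'` with the localization `A'_a`. In Néron's situation (`I` the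
inverse image of the maximal ideal of `Λ`, `π` a uniformizer, `a ∉ I`) this reads: the Néron blowup
of `A_a` is `A'_a`; the identity holds for arbitrary `A, I, π, a`. -/
theorem result (A : Type u) [CommRing A] (I : Ideal A) (π a : A) (hπ : π ∈ I)
    (ψ : BlowUp.affineAlgebra A I π →+*
      BlowUp.affineAlgebra (Localization.Away a) (I.map (algebraMap A (Localization.Away a))) (algebraMap A (Localization.Away a) π))
    (hψ : ∀ x : BlowUp.affineAlgebra A I π,
      ((ψ x : BlowUp.affineAlgebra (Localization.Away a) (I.map (algebraMap A (Localization.Away a))) (algebraMap A (Localization.Away a) π)) :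
          Localization.Away (algebraMap A (Localization.Away a) π)) =
        Localization.awayMap (algebraMap A (Localization.Away a)) π (x : Localization.Away π)) :
    letI := ψ.toAlgebra
    IsLocalization.Away (algebraMap A (BlowUp.affineAlgebra A I π) a)
      (BlowUp.affineAlgebra (Localization.Away a) (I.map (algebraMap A (Localization.Away a))) (algebraMap A (Localization.Away a) π)) := by
  classical
  letI := ψ.toAlgebra
  have hel : ∀ z : BlowUp.affineAlgebra A I π, ∃ n, ∃ x ∈ I ^ n, (z : Localization.Away π) = BlowAlg3.frac π n x :=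
    fun z => (BlowAlg3.mem_iff hπ _).1 z.2
  have hπ' := Ideal.mem_map_of_mem (algebraMap A (Localization.Away a)) hπ
  have hψa : ∀ c : A, ψ (algebraMap A (BlowUp.affineAlgebra A I π) c) =
      algebraMap (Localization.Away a) _ (algebraMap A (Localization.Away a) c) := fun c => by
    refine Subtype.ext ?_
    rw [hψ, Subalgebra.coe_algebraMap, Subalgebra.coe_algebraMap,
      ← IsLocalization.mk'_one (M := Submonoid.powers π) (Localization.Away π) c, Localization.awayMap,
      IsLocalization.Away.map, IsLocalization.map_mk']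
    rw [← IsLocalization.mk'_one (M := Submonoid.powers (algebraMap A (Localization.Away a) π))]
    congr 1
    exact Subtype.ext (map_one _)
  refine (isLocalization_iff (Submonoid.powers (algebraMap A (BlowUp.affineAlgebra A I π) a)) _).2 ⟨?_, ?_, ?_⟩
  · rintro ⟨_, n, rfl⟩
    change IsUnit (ψ (algebraMap A _ a ^ n))
    rw [map_pow, hψa]
    exact ((IsLocalization.map_units (Localization.Away a) (⟨a, Submonoid.mem_powers a⟩ : Submonoid.powers a)).map _).pow n
  · intro y
    obtain ⟨n, x', hx', hy⟩ := (BlowAlg3.mem_iff hπ' _).1 y.2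
    rw [← Ideal.map_pow, IsLocalization.mem_map_algebraMap_iff (Submonoid.powers a) (Localization.Away a)] at hx'
    obtain ⟨⟨⟨x, hx⟩, ⟨_, m, rfl⟩⟩, hm⟩ := hx'
    refine ⟨(⟨_, (BlowAlg3.mem_iff hπ _).2 ⟨n, x, hx, rfl⟩⟩, ⟨_, m, rfl⟩), Subtype.ext ?_⟩
    simp only [RingHom.algebraMap_toAlgebra, Subalgebra.coe_mul]
    rw [map_pow, Subalgebra.coe_pow, hψa, Subalgebra.coe_algebraMap, hψ, hy, BlowAlg3.awayMap_frac,
      ← map_pow, ← map_pow, mul_comm, BlowAlg3.frac, IsLocalization.mul_mk'_eq_mk'_of_mul, mul_comm]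
    exact congrArg (fun z => IsLocalization.mk' _ z _) hm
  · intro z₁ z₂ h
    have h' : ψ (z₁ - z₂) = 0 := by rw [map_sub]; exact sub_eq_zero.2 h
    obtain ⟨n, x, hx, hzx⟩ := hel (z₁ - z₂)
    have h2 := congrArg Subtype.val h'
    rw [hψ, hzx, BlowAlg3.awayMap_frac, ZeroMemClass.coe_zero, BlowAlg3.frac_eq_zero_iff] at h2
    obtain ⟨m, hm⟩ := h2
    rw [← map_pow, ← map_mul, IsLocalization.map_eq_zero_iff (Submonoid.powers a)] at hm
    obtain ⟨⟨_, l, rfl⟩, hl⟩ := hm
    refine ⟨⟨_, l, rfl⟩, sub_eq_zero.1 ?_⟩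
    rw [← mul_sub]
    refine Subtype.ext ?_
    change ((algebraMap A (BlowUp.affineAlgebra A I π) a ^ l * (z₁ - z₂) : BlowUp.affineAlgebra A I π) : Localization.Away π) = 0
    rw [Subalgebra.coe_mul, Subalgebra.coe_pow, Subalgebra.coe_algebraMap, hzx, ← map_pow,
      BlowAlg3.frac, IsLocalization.mul_mk'_eq_mk'_of_mul, ← BlowAlg3.frac, BlowAlg3.frac_eq_zero_iff]
    exact ⟨m, by rw [← mul_assoc, mul_comm (π ^ m) (a ^ l), mul_assoc]; exact hl⟩

end Groth.Agent.S12096
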