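import Groth.Statements.S12097
import Groth.Agent.Lib.BlowAlg3.Basic

set_option autoImplicit false
universe u
open BlowUp

namespace Groth.Agent.S12097

/-- Néron's blowup is compatible with closed immersions. For a surjective ring map `B → A` with kernel
`J`, an ideal `I ⊆ B` containing `π`, and the affine blowup algebras `B' = B[I/π] ⊆ B_π`, `A' =
A[IA/π] ⊆ A_π`, the canonical map `B' → A'` (the restriction of `B_π → A_π`, given as a datum with
that compatibility) is surjective with kernel the elements `x` such that `π^n x ∈ J B'` for some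
`n`: `A'` is the quotient of `B'/JB'` by its `π`-power torsion. In Néron's situation (`I` the
inverse image of the maximal ideal of `Λ`, `π` a uniformizer) this is the printed functoriality; the
identity holds for any surjection. -/
theorem result (B A : Type u) [CommRing B] [CommRing A] [Algebra B A]
    (hq : Function.Surjective (algebraMap B A)) (I : Ideal B) (π : B) (hπ : π ∈ I)
    (ψ : BlowUp.affineAlgebra B I π →+* BlowUp.affineAlgebra A (I.map (algebraMap B A)) (algebraMap B A π))
    (hψ : ∀ x : BlowUp.affineAlgebra B I π,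
      ((ψ x : BlowUp.affineAlgebra A (I.map (algebraMap B A)) (algebraMap B A π)) : Localization.Away (algebraMap B A π)) =
        Localization.awayMap (algebraMap B A) π (x : Localization.Away π)) :
    Function.Surjective ψ ∧
      ∀ x : BlowUp.affineAlgebra B I π, x ∈ RingHom.ker ψ ↔
        ∃ n : ℕ, algebraMap B (BlowUp.affineAlgebra B I π) π ^ n * x ∈
          (RingHom.ker (algebraMap B A)).map (algebraMap B (BlowUp.affineAlgebra B I π)) := by
  classical
  have hel : ∀ z : BlowUp.affineAlgebra B I π, ∃ n, ∃ x ∈ I ^ n, (z : Localization.Away π) = BlowAlg3.frac π n x :=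
    fun z => (BlowAlg3.mem_iff hπ _).1 z.2
  refine ⟨fun y => ?_, fun z => ⟨fun hz => ?_, ?_⟩⟩
  · obtain ⟨n, x, hx, hy⟩ := (BlowAlg3.mem_iff (Ideal.mem_map_of_mem (algebraMap B A) hπ) _).1 y.2
    rw [← Ideal.map_pow] at hx
    obtain ⟨x', hx', rfl⟩ := (Ideal.mem_map_iff_of_surjective _ hq).1 hx
    refine ⟨⟨_, (BlowAlg3.mem_iff hπ _).2 ⟨n, x', hx', rfl⟩⟩, Subtype.ext ?_⟩
    rw [hψ, hy, BlowAlg3.awayMap_frac]
  · obtain ⟨n, x, hx, hzx⟩ := hel z
    have h := congrArg Subtype.val (RingHom.mem_ker.1 hz)
    rw [hψ, hzx, BlowAlg3.awayMap_frac, ZeroMemClass.coe_zero, BlowAlg3.frac_eq_zero_iff] at h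
    obtain ⟨m, hm⟩ := h
    refine ⟨m + n, ?_⟩
    have e : algebraMap B (BlowUp.affineAlgebra B I π) π ^ (m + n) * z = algebraMap B _ (π ^ m * x) := by
      refine Subtype.ext ?_
      rw [Subalgebra.coe_mul, Subalgebra.coe_pow, Subalgebra.coe_algebraMap, Subalgebra.coe_algebraMap, hzx,
        pow_add, mul_assoc, ← map_pow _ π n, BlowAlg3.pow_mul_frac, map_mul, map_pow]
    rw [e]
    refine Ideal.mem_map_of_mem _ ?_
    rw [RingHom.mem_ker, map_mul, map_pow]
    exact hm
  · rintro ⟨n, hn⟩
    have hle : (RingHom.ker (algebraMap B A)).map (algebraMap B (BlowUp.affineAlgebra B I π)) ≤ RingHom.ker ψ := by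
      rw [Ideal.map_le_iff_le_comap]
      intro c hc
      rw [Ideal.mem_comap, RingHom.mem_ker]
      refine Subtype.ext ?_
      rw [hψ, Subalgebra.coe_algebraMap, ZeroMemClass.coe_zero, ← IsLocalization.mk'_one (M := Submonoid.powers π) (Localization.Away π) c,
        Localization.awayMap, IsLocalization.Away.map, IsLocalization.map_mk', RingHom.mem_ker.1 hc, IsLocalization.mk'_zero]
    have h := congrArg Subtype.val (RingHom.mem_ker.1 (hle hn))
    rw [hψ, Subalgebra.coe_mul, Subalgebra.coe_pow, Subalgebra.coe_algebraMap, map_mul, map_pow, ZeroMemClass.coe_zero] at h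
    have hu : IsUnit (Localization.awayMap (algebraMap B A) π (algebraMap B (Localization.Away π) π)) :=
      (IsLocalization.map_units (Localization.Away π) (⟨π, Submonoid.mem_powers π⟩ : Submonoid.powers π)).map _
    rw [RingHom.mem_ker]
    refine Subtype.ext ?_
    rw [hψ, ZeroMemClass.coe_zero]
    exact (hu.pow n).mul_right_eq_zero.1 h

end Groth.Agent.S12097
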