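import Groth.Statements.S12098
import Groth.Agent.Lib.StabIso9.Basic

set_option autoImplicit false
set_option linter.style.haveILetI false
set_option backward.isDefEq.respectTransparency false
universe u
open CategoryTheory CategoryTheory.Limits
attribute [local instance] HasDerivedCategory.standard
open DRing
open scoped TensorProduct

namespace Groth.Agent.S12098


theorem finish {R S : Type u} [CommRing R] [CommRing S] (φ : R →+* S) (hfl : φ.Flat) {M N P Q : DRing.Cx R} {a b : ℤ}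
    (hPv : DRing.VanishesOutside P a b) (hQv : DRing.VanishesOutside Q a b) (hPp : DRing.TermwiseFiniteProjective P) (hQp : DRing.TermwiseFiniteProjective Q)
    (HP : Homotopy (𝟙 P) 0) (HQ : Homotopy (𝟙 Q) 0) (e : M ⊞ P ≅ N ⊞ Q) {f₁ f₂ : R}
    (h₁ : letI := φ.toAlgebra; Module.Flat R S → IsUnit (φ f₁) →
      (∀ i : ℤ, Module.Free S (S ⊗[R] P.X i)) ∧ ∀ i : ℤ, Module.Free S (LinearMap.range ((P.d i (i + 1)).hom.baseChange S)))
    (h₂ : letI := φ.toAlgebra; Module.Flat R S → IsUnit (φ f₂) →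
      (∀ i : ℤ, Module.Free S (S ⊗[R] Q.X i)) ∧ ∀ i : ℤ, Module.Free S (LinearMap.range ((Q.d i (i + 1)).hom.baseChange S)))
    (hu₁ : IsUnit (φ f₁)) (hu₂ : IsUnit (φ f₂)) :
    ∃ P' Q' : DRing.Cx S,
      ((∃ a' b' : ℤ, DRing.VanishesOutside P' a' b') ∧ DRing.TermwiseFiniteFree P' ∧
          (∀ i : ℤ, Module.Free S (LinearMap.range (P'.d i (i + 1)).hom)) ∧ Nonempty (Homotopy (𝟙 P') 0)) ∧
      ((∃ a' b' : ℤ, DRing.VanishesOutside Q' a' b') ∧ DRing.TermwiseFiniteFree Q' ∧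
          (∀ i : ℤ, Module.Free S (LinearMap.range (Q'.d i (i + 1)).hom)) ∧ Nonempty (Homotopy (𝟙 Q') 0)) ∧
      Nonempty ((((ModuleCat.extendScalars φ).mapHomologicalComplex (ComplexShape.up ℤ)).obj M) ⊞ P' ≅ (((ModuleCat.extendScalars φ).mapHomologicalComplex (ComplexShape.up ℤ)).obj N) ⊞ Q') := by
  letI := φ.toAlgebra
  haveI : Module.Flat R S := hfl
  obtain ⟨h₁, h₁'⟩ := h₁ hfl hu₁
  obtain ⟨h₂, h₂'⟩ := h₂ hfl hu₂
  let F := (ModuleCat.extendScalars.{u, u, u} φ).mapHomologicalComplex (ComplexShape.up ℤ)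
  haveI : PreservesBinaryBiproducts F := preservesBinaryBiproducts_of_preservesBiproducts F
  refine ⟨F.obj P, F.obj Q, ⟨⟨a, b, Groth.Agent.DBaseChange.vanishesOutside_ext φ hPv⟩, fun i => ?_, fun i => h₁' i, ⟨?_⟩⟩,
    ⟨⟨a, b, Groth.Agent.DBaseChange.vanishesOutside_ext φ hQv⟩, fun i => ?_, fun i => h₂' i, ⟨?_⟩⟩,
    ⟨(F.mapBiprod M P).symm ≪≫ F.mapIso e ≪≫ F.mapBiprod N Q⟩⟩
  · haveI := (hPp i).1
    exact ⟨inferInstanceAs (Module.Finite S (S ⊗[R] P.X i)), h₁ i⟩
  · exact (Homotopy.ofEq (F.map_id P).symm).trans (((ModuleCat.extendScalars φ).mapHomotopy HP).trans (Homotopy.ofEq (F.map_zero P P)))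
  · haveI := (hQp i).1
    exact ⟨inferInstanceAs (Module.Finite S (S ⊗[R] Q.X i)), h₂ i⟩
  · exact (Homotopy.ofEq (F.map_id Q).symm).trans (((ModuleCat.extendScalars φ).mapHomotopy HQ).trans (Homotopy.ofEq (F.map_zero Q Q)))

/-- Let `p ⊆ R` be a prime and `M•`, `N•` bounded complexes whose terms are finite projective
`R`-modules and which are isomorphic in `D(R)`. Then for some `f ∉ p` the localized complexes `M•_f`
and `N•_f` become isomorphic once a finite direct sum of trivial complexes is added to each: `M•_f ⊕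
P•` and `N•_f ⊕ Q•` are isomorphic as complexes, with `P•`, `Q•` finite direct sums of copies of `0
→ R_f = R_f → 0` (placed in arbitrary degrees), expressed here as: bounded, with finite free terms
and free boundary modules, and with null-homotopic identity. -/
theorem result (R : Type u) [CommRing R] (p : Ideal R) [p.IsPrime]
    (M N : DRing.Cx R) (a b : ℤ) (hM : DRing.VanishesOutside M a b) (hN : DRing.VanishesOutside N a b)
    (hMp : DRing.TermwiseFiniteProjective M) (hNp : DRing.TermwiseFiniteProjective N)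
    (h : Nonempty (DRing.toD M ≅ DRing.toD N)) :
    ∃ f : R, f ∉ p ∧ ∃ P Q : DRing.Cx (Localization.Away f),
      ((∃ a' b' : ℤ, DRing.VanishesOutside P a' b') ∧ DRing.TermwiseFiniteFree P ∧
          (∀ i : ℤ, Module.Free (Localization.Away f) (LinearMap.range (P.d i (i + 1)).hom)) ∧ Nonempty (Homotopy (𝟙 P) 0)) ∧
      ((∃ a' b' : ℤ, DRing.VanishesOutside Q a' b') ∧ DRing.TermwiseFiniteFree Q ∧
          (∀ i : ℤ, Module.Free (Localization.Away f) (LinearMap.range (Q.d i (i + 1)).hom)) ∧ Nonempty (Homotopy (𝟙 Q) 0)) ∧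
      Nonempty ((((ModuleCat.extendScalars (algebraMap R (Localization.Away f))).mapHomologicalComplex (ComplexShape.up ℤ)).obj M) ⊞ P ≅ (((ModuleCat.extendScalars (algebraMap R (Localization.Away f))).mapHomologicalComplex (ComplexShape.up ℤ)).obj N) ⊞ Q) := by
  obtain ⟨P₀, Q₀, ⟨hPv, hPp, ⟨HP⟩⟩, ⟨hQv, hQp, ⟨HQ⟩⟩, ⟨e⟩⟩ := Groth.Agent.StabIso9.exists_stable_iso M N a b hM hN hMp hNp h
  obtain ⟨f₁, hf₁, h₁⟩ := Groth.Agent.StabIso9.exists_away_free p hPv hPp HP
  obtain ⟨f₂, hf₂, h₂⟩ := Groth.Agent.StabIso9.exists_away_free p hQv hQp HQ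
  refine ⟨f₁ * f₂, fun hm => (Ideal.IsPrime.mem_or_mem inferInstance hm).elim hf₁ hf₂, ?_⟩
  have hfl : (algebraMap R (Localization.Away (f₁ * f₂))).Flat :=
    RingHom.flat_algebraMap_iff.2 (IsLocalization.flat _ (Submonoid.powers (f₁ * f₂)))
  have hu : IsUnit (algebraMap R (Localization.Away (f₁ * f₂)) (f₁ * f₂)) :=
    IsLocalization.Away.algebraMap_isUnit _
  rw [map_mul, IsUnit.mul_iff] at hu
  exact finish (algebraMap R (Localization.Away (f₁ * f₂))) hfl hPv hQv hPp hQp HP HQ e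
    (fun hF hU => @h₁ _ _ (algebraMap R (Localization.Away (f₁ * f₂))).toAlgebra hF hU)
    (fun hF hU => @h₂ _ _ (algebraMap R (Localization.Away (f₁ * f₂))).toAlgebra hF hU) hu.1 hu.2

end Groth.Agent.S12098
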