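import Groth.Statements.S12102
import Groth.Agent.Lib.PCoh.Criteria

set_option autoImplicit false
universe w v u
open CategoryTheory CategoryTheory.Limits
open PCoh

namespace Groth.Agent.S12102

open HomologicalComplex in
/-- From a resolution to pseudo-coherence. -/
theorem pcn_of_chain {C : Type u} [Category.{v} C] [Abelian C] [HasDerivedCategory.{w} C]
    {P : ObjectProperty C} [P.IsClosedUnderIsomorphisms] [P.ContainsZero]
    (hsum : ∀ X Y : C, P X → P Y → P (X ⨯ Y))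
    (hqs : PCoh.IsQuasiStableUnderKernels P) (hql : PCoh.IsQuasiLiftable P)
    (F : C) (n : ℕ) (K : ChainComplex C ℕ) (e : K.X 0 ≅ F) (hex : ∀ j : ℕ, j ≤ n → K.ExactAt j)
    (hz : ∀ j : ℕ, n + 1 < j → IsZero (K.X j)) (hP : ∀ j : ℕ, 1 ≤ j → j ≤ n + 1 → P (K.X j)) :
    Groth.Agent.PCoh.PCn P (-(n : ℤ)) ((DerivedCategory.singleFunctor C 0).obj F) := by
  let G := K.extend ComplexShape.embeddingDownNat
  have hX : ∀ (j : ℕ) (i : ℤ), i = -(j : ℤ) → Nonempty (G.X i ≅ K.X j) := fun j i hi =>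
    ⟨K.extendXIso ComplexShape.embeddingDownNat (i := j) hi.symm⟩
  have hpos : ∀ i : ℤ, 0 < i → IsZero (G.X i) := fun i hi =>
    K.isZero_extend_X ComplexShape.embeddingDownNat i fun j hj => by
      simp [ComplexShape.embeddingDownNat] at hj
      omega
  have hG : ∀ i, -(n : ℤ) ≤ i → G.ExactAt i := fun i hi => by
    rcases lt_or_ge 0 i with h | h
    · exact ExactAt.of_isZero (hpos i h)
    · exact (K.extend_exactAt_iff ComplexShape.embeddingDownNat (j := (-i).toNat)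
        (show -(((-i).toNat : ℕ) : ℤ) = i by omega)).2 (hex _ (by omega))
  obtain ⟨T, hT, e₁, e₂, G', e₃, hG', hG''⟩ := Groth.Agent.PCoh.exists_top G 0 hpos
  have h₂ : Groth.Agent.PCoh.PCn P (-(n : ℤ) - 1 + 1) T.obj₂ := by
    rw [e₂]
    exact Groth.Agent.PCoh.pcn_of_isZero_homology fun i hi =>
      (Groth.Agent.PCoh.isZero_homology_Q_iff G i).2 (hG i (by omega))
  have h₃ : Groth.Agent.PCoh.PCn P (-(n : ℤ) - 1) T.obj₃ := by
    rw [e₃]
    refine Groth.Agent.PCoh.pcn_Q ⟨⟨0, fun i hi => hG' i hi.le⟩, fun i hi => ?_⟩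
    rcases lt_or_ge i 0 with h | h
    · obtain ⟨eG⟩ := hG'' i h
      obtain ⟨eK⟩ := hX (-i).toNat i (by omega)
      exact P.prop_of_iso (eG ≪≫ eK).symm (hP _ (by omega) (by omega))
    · exact Groth.Agent.PCoh.prop_of_isZero (hG' i h)
  have h₁ := Groth.Agent.PCoh.pcn_obj₁ hsum hqs hql T hT h₂ h₃
  rw [e₁] at h₁
  exact (h₁.mono (by omega)).of_iso ((DerivedCategory.singleFunctor C 0).mapIso ((hX 0 0 (by simp)).some ≪≫ e))

open HomologicalComplex CochainComplex in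
/-- From pseudo-coherence to a resolution. -/
theorem exists_chain {C : Type u} [Category.{v} C] [Abelian C] [HasDerivedCategory.{w} C]
    {P : ObjectProperty C} [P.IsClosedUnderIsomorphisms] [P.ContainsZero]
    (hsum : ∀ X Y : C, P X → P Y → P (X ⨯ Y))
    (hqs : PCoh.IsQuasiStableUnderKernels P) (hql : PCoh.IsQuasiLiftable P)
    (F : C) (n : ℕ) (h : Groth.Agent.PCoh.PCn P (-(n : ℤ)) ((DerivedCategory.singleFunctor C 0).obj F)) :
    ∃ K : ChainComplex C ℕ, Nonempty (K.X 0 ≅ F) ∧ (∀ j : ℕ, j ≤ n → K.ExactAt j) ∧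
        (∀ j : ℕ, n + 1 < j → IsZero (K.X j)) ∧ (∀ j : ℕ, 1 ≤ j → j ≤ n + 1 → P (K.X j)) := by
  let S := (HomologicalComplex.single C (ComplexShape.up ℤ) 0).obj F
  have hS : ∀ i : ℤ, 1 ≤ i → S.ExactAt i := fun i hi =>
    HomologicalComplex.exactAt_single_obj (ComplexShape.up ℤ) 0 F i (by omega)
  have hzS : ∀ i : ℤ, i ≠ 0 → IsZero (S.X i) := fun i hi =>
    HomologicalComplex.isZero_single_obj_X (ComplexShape.up ℤ) 0 F i hi
  obtain ⟨E, w, hE, hw⟩ := Groth.Agent.PCoh.exists_bdd_nIso hsum hql S 1 hS (-(n : ℤ)) (by omega)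
    fun k hk _ E w hE hw => Groth.Agent.PCoh.isOfFiniteType_cone hsum hqs hql w (hE.isStrictPC _) h k hk hw
  let M := mappingCone w
  let K : ChainComplex C ℕ := ChainComplex.of (fun j : ℕ => M.X (-(j : ℤ)))
    (fun j : ℕ => M.d (-((j + 1 : ℕ) : ℤ)) (-(j : ℤ))) fun _ => M.d_comp_d _ _ _
  have hKd : ∀ j, K.d (j + 1) j = M.d (-((j + 1 : ℕ) : ℤ)) (-(j : ℤ)) := fun j =>
    ChainComplex.of_d (fun j : ℕ => M.X (-(j : ℤ))) (fun j : ℕ => M.d (-((j + 1 : ℕ) : ℤ)) (-(j : ℤ))) j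
  refine ⟨K, ?_, fun j hj => ?_, fun j hj => ?_, fun j hj hj' => ?_⟩
  · have hb : IsZero (E.X (0 + 1)) := hE.2 _ (Or.inr (by omega))
    refine ⟨eqToIso (show M.X (-((0 : ℕ) : ℤ)) = M.X 0 from congrArg M.X (by simp)) ≪≫
      homotopyCofiber.XIsoBiprod w 0 (0 + 1) rfl ≪≫
      (⟨biprod.snd, biprod.inr, ?_, biprod.inr_snd⟩ : E.X (0 + 1) ⊞ S.X 0 ≅ S.X 0) ≪≫
      HomologicalComplex.singleObjXSelf (ComplexShape.up ℤ) 0 F⟩
    apply biprod.hom_ext'
    · exact hb.eq_of_src _ _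
    · simp
  · have hM := (M.exactAt_iff' (-((j + 1 : ℕ) : ℤ)) (-(j : ℤ)) (-(j : ℤ) + 1) (by simp; omega) (by simp)).1
      (hw (-(j : ℤ)) (by omega))
    cases j with
    | zero =>
      rw [K.exactAt_iff' 1 0 0 (by simp) (by simp)]
      have hz1 : IsZero (M.X (-((0 : ℕ) : ℤ) + 1)) :=
        Groth.Agent.PCoh.isZero_mappingCone_X w _ (hE.2 _ (Or.inr (by omega))) (hzS _ (by omega))
      have : Epi (M.d (-((0 + 1 : ℕ) : ℤ)) (-((0 : ℕ) : ℤ))) := hM.epi_f (hz1.eq_of_tgt _ _)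
      refine (ShortComplex.exact_iff_epi _ (K.shape 0 0 (by simp))).2 ?_
      change Epi (K.d (0 + 1) 0)
      rw [hKd 0]
      exact this
    | succ l =>
      rw [K.exactAt_iff' (l + 1 + 1) (l + 1) l (by simp) (by simp)]
      refine (ShortComplex.exact_iff_of_iso (ShortComplex.isoMk (S₁ := K.sc' (l + 1 + 1) (l + 1) l)
        (S₂ := M.sc' (-((l + 1 + 1 : ℕ) : ℤ)) (-((l + 1 : ℕ) : ℤ)) (-(l : ℤ)))
        (Iso.refl _) (Iso.refl _) (Iso.refl _) ?_ ?_)).2
        ((M.exactAt_iff' _ _ _ (by simp; omega) (by simp)).1 (hw _ (by omega)))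
      · exact (Category.id_comp _).trans ((Category.comp_id _).trans (hKd (l + 1))).symm
      · exact (Category.id_comp _).trans ((Category.comp_id _).trans (hKd l)).symm
  · exact Groth.Agent.PCoh.isZero_mappingCone_X w _ (hE.2 _ (Or.inl (by omega))) (hzS _ (by omega))
  · exact Groth.Agent.PCoh.prop_mappingCone_X hsum w _ (hE.1 _)
      (Groth.Agent.PCoh.prop_of_isZero (hzS _ (by omega)))


/-- Let C be an abelian category and C₀ a strictly full additive subcategory, quasi-stable under kernels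
of epimorphisms and quasi-liftable; let F be an object of C and n a natural number. Then F is of
n-C₀-finite presentation (there is an exact sequence E_{n+1} → ⋯ → E_1 → F → 0 with all E_j in C₀;
encoded as an ℕ-indexed chain complex K with K_0 ≅ F, exact at the indices 0, …, n, zero beyond
index n + 1, and K_1, …, K_{n+1} in C₀) if and only if F placed in degree 0 is (−n)-pseudo-coherent
(isomorphic in D(C) to a strictly (−n)-pseudo-coherent complex). -/
theorem result {C : Type u} [Category.{v} C] [Abelian C] [HasDerivedCategory.{w} C]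
    (P : ObjectProperty C) [P.IsClosedUnderIsomorphisms] [P.ContainsZero] (hsum : ∀ X Y : C, P X → P Y → P (X ⨯ Y))
    (hqs : PCoh.IsQuasiStableUnderKernels P) (hql : PCoh.IsQuasiLiftable P)
    (F : C) (n : ℕ) :
    (∃ K : ChainComplex C ℕ, Nonempty (K.X 0 ≅ F) ∧ (∀ j : ℕ, j ≤ n → K.ExactAt j) ∧
        (∀ j : ℕ, n + 1 < j → IsZero (K.X j)) ∧ (∀ j : ℕ, 1 ≤ j → j ≤ n + 1 → P (K.X j))) ↔
      (∃ E : CochainComplex C ℤ, PCoh.IsStrictPC P (-(n : ℤ)) E ∧
        Nonempty (DerivedCategory.Q.obj E ≅ (DerivedCategory.singleFunctor C 0).obj F)) := by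
  refine ⟨?_, exists_chain hsum hqs hql F n⟩
  rintro ⟨K, ⟨e⟩, h₁, h₂, h₃⟩
  exact pcn_of_chain hsum hqs hql F n K e h₁ h₂ h₃


end Groth.Agent.S12102
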