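import Groth.Statements.S12105
import Groth.Agent.Lib.ExtSupp8.Spectral
import Groth.Agent.Lib.SiteCoh.Rpush

set_option autoImplicit false
universe u
open CategoryTheory
open CohSite

namespace Groth.Agent.S12105

set_option backward.isDefEq.respectTransparency false
set_option backward.isDefEq.respectTransparency.types false
open Groth.Agent

variable {C : Type u} [SmallCategory C] (J : GrothendieckTopology C)

instance continuous_bot : (𝟭 C).IsContinuous (⊥ : GrothendieckTopology C) J :=
  ⟨fun _ => Presieve.isSheaf_bot⟩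

noncomputable abbrev Lb : Sheaf (⊥ : GrothendieckTopology C) AddCommGrpCat.{u} ⥤ Sheaf J AddCommGrpCat.{u} :=
  sheafToPresheaf _ _ ⋙ presheafToSheaf J AddCommGrpCat.{u}

noncomputable def adjBot : Lb J ⊣ CohSite.push J (⊥ : GrothendieckTopology C) (𝟭 C) :=
  Adjunction.mkOfHomEquiv
    { homEquiv := fun P F => ((sheafificationAdjunction J AddCommGrpCat.{u}).homEquiv P.obj F).trans
        { toFun := fun f => ⟨f⟩
          invFun := fun f => f.hom
          left_inv := fun _ => rfl
          right_inv := fun _ => rfl }
      homEquiv_naturality_left_symm := fun f g =>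
        (sheafificationAdjunction J AddCommGrpCat.{u}).homEquiv_naturality_left_symm f.hom g.hom
      homEquiv_naturality_right := fun f g => by
        apply Sheaf.hom_ext
        exact (sheafificationAdjunction J AddCommGrpCat.{u}).homEquiv_naturality_right f g }

instance : (Lb J).PreservesMonomorphisms :=
  ⟨fun f _ => (presheafToSheaf J AddCommGrpCat.{u}).map_mono ((sheafToPresheaf _ _).map f)⟩



open CategoryTheory.Limits in
/-- On a small site (C, J), for a presheaf of sets R on C and an abelian sheaf M there is a bounded E_2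
spectral sequence of abelian groups with E_2^{p,q} isomorphic to H^p(R, H^q(M)) — the cohomology, in
the topos of presheaves (sheaves for the trivial topology), of the presheaf V ↦ H^q(V, M) with
respect to R, i.e. the p-th Ext out of the free abelian presheaf on R — for p, q ≥ 0 and zero
otherwise, with abutment data whose filtrations are finite on H^n(aR, M), the cohomology of M with
respect to the sheaf of sets associated to R (n ≥ 0; zero for n < 0). The E_2 identifications and
abutment isomorphisms are asserted to exist only, not pinned to the canonical maps, so edge maps and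
functoriality in R and M are not part of this statement. -/
theorem result {C : Type u} [SmallCategory C]
    (J : GrothendieckTopology C) (R : Cᵒᵖ ⥤ Type u) (M : Sheaf J AddCommGrpCat.{u}) :
    ∃ (E : E₂CohomologicalSpectralSequence AddCommGrpCat.{u})
      (a : SpSeq.Abutment E (fun n : ℤ =>
        if 0 ≤ n then AddCommGrpCat.of (CohCx.HK ((presheafToSheaf J (Type u)).obj R) M n.toNat)
        else AddCommGrpCat.of PUnit.{u + 1})),
      (∀ n, a.IsFinite n) ∧ SpSeq.IsBounded E ∧
      ∀ p q : ℤ, Nonempty ((E.page 2 le_rfl).X (p, q) ≅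
        (if 0 ≤ p ∧ 0 ≤ q then
          AddCommGrpCat.of (CohCx.HK (J := (⊥ : GrothendieckTopology C)) ⟨R, Presheaf.isSheaf_bot _⟩
            ⟨M.cohomologyPresheaf q.toNat, Presheaf.isSheaf_bot _⟩ p.toNat)
         else AddCommGrpCat.of PUnit.{u + 1})) := by
  haveI := (adjBot J).left_adjoint_additive
  have hiso : ∀ P : Cᵒᵖ ⥤ AddCommGrpCat.{u},
      IsIso (CategoryTheory.toSheafify (⊥ : GrothendieckTopology C) P) := fun P =>
    isIso_toSheafify _ (Presheaf.isSheaf_bot P)
  haveI := hiso (R ⋙ AddCommGrpCat.free.{u})
  let eP : (Lb J).obj ((Groth.Agent.SiteCoh.frP (⊥ : GrothendieckTopology C)).obj R) ≅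
      (Groth.Agent.SiteCoh.frP J).obj (CategoryTheory.sheafify J R) :=
    ((presheafToSheaf J AddCommGrpCat.{u}).mapIso
      (asIso (CategoryTheory.toSheafify (⊥ : GrothendieckTopology C) (R ⋙ AddCommGrpCat.free.{u}))).symm) ≪≫
      Groth.Agent.SiteCoh.frSheafify R
  let e : CohSite.push J (⊥ : GrothendieckTopology C) (𝟭 C) ⋙
      preadditiveCoyoneda.obj (Opposite.op ((Groth.Agent.SiteCoh.frP (⊥ : GrothendieckTopology C)).obj R)) ≅
      preadditiveCoyoneda.obj (Opposite.op ((Groth.Agent.SiteCoh.frP J).obj (CategoryTheory.sheafify J R))) :=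
    NatIso.ofComponents (fun F => ((((adjBot J).homAddEquiv _ F).symm.trans
        { eP.homCongr (Iso.refl F) with map_add' := fun a b => by simp })).toAddCommGrpIso)
      (fun {F G} g => by
        ext f
        change eP.inv ≫ ((adjBot J).homEquiv _ _).symm (f ≫ (CohSite.push J _ (𝟭 C)).map g) ≫ 𝟙 _ =
          (eP.inv ≫ ((adjBot J).homEquiv _ _).symm f ≫ 𝟙 _) ≫ g
        rw [Adjunction.homEquiv_naturality_right_symm]
        simp)
  exact Groth.Agent.ExtSupp8.ext_spectralSequence (CohSite.push J (⊥ : GrothendieckTopology C) (𝟭 C)) _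
    ((Groth.Agent.SiteCoh.frP J).obj (CategoryTheory.sheafify J R)) e
    (fun I hI k => by
      haveI := hI
      haveI : Injective ((CohSite.push J (⊥ : GrothendieckTopology C) (𝟭 C)).obj I) :=
        Injective.injective_of_adjoint (adjBot J) I
      exact Groth.Agent.SiteCoh.subsingleton_ext_injective _ _ k) M
    (fun n => AddCommGrpCat.of (CohCx.HK ((presheafToSheaf J (Type u)).obj R) M n)) (fun n => ⟨AddEquiv.refl _⟩)
    (fun p q => AddCommGrpCat.of (CohCx.HK (J := (⊥ : GrothendieckTopology C)) ⟨R, Presheaf.isSheaf_bot _⟩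
      ⟨M.cohomologyPresheaf q, Presheaf.isSheaf_bot _⟩ p))
    (fun p q => by
      obtain ⟨i⟩ := Groth.Agent.SiteCoh.exists_rpush_iso (⊥ : GrothendieckTopology C) (𝟭 C) M q
      haveI := hiso (M.cohomologyPresheaf q)
      let i' : (CohSite.Rpush J (⊥ : GrothendieckTopology C) (𝟭 C) q).obj M ≅
          ⟨M.cohomologyPresheaf q, Presheaf.isSheaf_bot _⟩ :=
        i ≪≫ (sheafificationIso (⟨M.cohomologyPresheaf q, Presheaf.isSheaf_bot _⟩ :
          Sheaf (⊥ : GrothendieckTopology C) AddCommGrpCat.{u})).symm
      exact ⟨((Abelian.extFunctorObj ((Groth.Agent.SiteCoh.frP (⊥ : GrothendieckTopology C)).obj R) p).mapIso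
        i').addCommGroupIsoToAddEquiv⟩)


end Groth.Agent.S12105
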