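import Groth.Statements.S12107
import Groth.Agent.Lib.ClosedOpen.Glue

set_option autoImplicit false
universe u
open CategoryTheory
open SGA4

namespace Groth.Agent.S12107

open CategoryTheory.Limits in
/-- In the topos of sheaves of sets on a small site, let U be an open (a subobject of the final object)
and, for an object X, let X_CU be the pushout of U ← U × X → X along the two projections. For a
morphism m : X ⟶ X' let k : X_CU ⟶ X'_CU be the induced morphism (compatible with the maps from U
and with m). Then the square with sides m, k and the canonical maps X ⟶ X_CU, X' ⟶ X'_CU is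
cartesian if and only if id_U × m : U × X ⟶ U × X' is an isomorphism (that is, m restricts to an
isomorphism over U). -/
theorem result {C : Type u} [SmallCategory C] (J : GrothendieckTopology C)
    (U : Sheaf J (Type u)) (hU : SGA4.IsOpen U) {X X' : Sheaf J (Type u)} (m : X ⟶ X')
    (k : pushout (prod.fst : U ⨯ X ⟶ U) (prod.snd : U ⨯ X ⟶ X) ⟶
      pushout (prod.fst : U ⨯ X' ⟶ U) (prod.snd : U ⨯ X' ⟶ X'))
    (hk₁ : pushout.inl (prod.fst : U ⨯ X ⟶ U) (prod.snd : U ⨯ X ⟶ X) ≫ k =
      pushout.inl (prod.fst : U ⨯ X' ⟶ U) (prod.snd : U ⨯ X' ⟶ X'))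
    (hk₂ : pushout.inr (prod.fst : U ⨯ X ⟶ U) (prod.snd : U ⨯ X ⟶ X) ≫ k =
      m ≫ pushout.inr (prod.fst : U ⨯ X' ⟶ U) (prod.snd : U ⨯ X' ⟶ X')) :
    IsPullback m (pushout.inr (prod.fst : U ⨯ X ⟶ U) (prod.snd : U ⨯ X ⟶ X))
        (pushout.inr (prod.fst : U ⨯ X' ⟶ U) (prod.snd : U ⨯ X' ⟶ X')) k ↔
      IsIso (prod.map (𝟙 U) m) := by
  let L := Groth.Agent.ClosedOpen.closedPull hU
  let adj := Groth.Agent.ClosedOpen.closedAdj hU
  have := Groth.Agent.ClosedOpen.preservesFiniteLimits_closedPull hU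
  have : L.IsLeftAdjoint := adj.isLeftAdjoint
  let P := pushout (prod.fst : U ⨯ X ⟶ U) (prod.snd : U ⨯ X ⟶ X)
  let P' := pushout (prod.fst : U ⨯ X' ⟶ U) (prod.snd : U ⨯ X' ⟶ X')
  have hk : IsIso ((Over.star U).map k) := by
    have hA : IsIso (prod.fst : U ⨯ P ⟶ U) := Groth.Agent.ClosedOpen.closed_pushout hU X
    have hB : IsIso (prod.fst : U ⨯ P' ⟶ U) := Groth.Agent.ClosedOpen.closed_pushout hU X'
    have : IsIso ((Over.forget U).map ((Over.star U).map k)) := by
      change IsIso ((Over.star U).map k).left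
      rw [Groth.Agent.ClosedOpen.star_map_left]
      have : IsIso (prod.map (𝟙 U) k ≫ (prod.fst : U ⨯ P' ⟶ U)) := by
        rw [prod.map_fst, Category.comp_id]
        infer_instance
      exact IsIso.of_isIso_comp_right (prod.map (𝟙 U) k) (prod.fst : U ⨯ P' ⟶ U)
    exact isIso_of_reflects_iso _ (Over.forget U)
  have hinr : ∀ Y : Sheaf J (Type u),
      IsIso (L.map (pushout.inr (prod.fst : U ⨯ Y ⟶ U) (prod.snd : U ⨯ Y ⟶ Y))) := fun Y => by
    have hp := (IsPushout.of_hasPushout (prod.fst : U ⨯ Y ⟶ U) (prod.snd : U ⨯ Y ⟶ Y)).map L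
    have hsub : ∀ (T : Sheaf J (Type u)) (_ : T ⟶ U) (Z : (SGA4.closedCompl U).FullSubcategory),
        Subsingleton (L.obj T ⟶ Z) := fun T t Z => by
      refine ⟨fun a b => (adj.homEquiv T Z).injective ?_⟩
      exact (Groth.Agent.ClosedOpen.hom_closed_unique Z.property t _).trans
        (Groth.Agent.ClosedOpen.hom_closed_unique Z.property t _).symm
    have : IsIso (L.map (prod.fst : U ⨯ Y ⟶ U)) :=
      ⟨(adj.homEquiv U (L.obj (U ⨯ Y))).symm
          (Groth.Agent.ClosedOpen.point (L.obj (U ⨯ Y)).property),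
        (hsub _ (prod.fst : U ⨯ Y ⟶ U) _).elim _ _, (hsub _ (𝟙 U) _).elim _ _⟩
    exact hp.isIso_inr_of_isIso
  constructor
  · intro h
    have : IsIso ((Over.star U).map m) := (h.map (Over.star U)).isIso_fst_of_isIso
    rw [← Groth.Agent.ClosedOpen.star_map_left]
    exact inferInstanceAs (IsIso ((Over.forget U).map ((Over.star U).map m)))
  · intro h
    have hm : IsIso ((Over.star U).map m) := by
      have : IsIso ((Over.forget U).map ((Over.star U).map m)) := by
        change IsIso ((Over.star U).map m).left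
        rw [Groth.Agent.ClosedOpen.star_map_left]
        exact h
      exact isIso_of_reflects_iso _ (Over.forget U)
    have hP := IsPullback.of_hasPullback
      (pushout.inr (prod.fst : U ⨯ X' ⟶ U) (prod.snd : U ⨯ X' ⟶ X')) k
    let c := hP.lift m (pushout.inr (prod.fst : U ⨯ X ⟶ U) (prod.snd : U ⨯ X ⟶ X)) hk₂.symm
    have : IsIso ((Over.star U).map (pullback.fst
        (pushout.inr (prod.fst : U ⨯ X' ⟶ U) (prod.snd : U ⨯ X' ⟶ X')) k)) :=
      (hP.map (Over.star U)).isIso_fst_of_isIso
    have : IsIso ((Over.star U).map c) := by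
      have : IsIso ((Over.star U).map c ≫ (Over.star U).map (pullback.fst
          (pushout.inr (prod.fst : U ⨯ X' ⟶ U) (prod.snd : U ⨯ X' ⟶ X')) k)) := by
        rw [← Functor.map_comp, hP.lift_fst]
        exact hm
      exact IsIso.of_isIso_comp_right ((Over.star U).map c) ((Over.star U).map (pullback.fst
          (pushout.inr (prod.fst : U ⨯ X' ⟶ U) (prod.snd : U ⨯ X' ⟶ X')) k))
    have := hinr X
    have := hinr X'
    have : IsIso (L.map (pullback.snd
        (pushout.inr (prod.fst : U ⨯ X' ⟶ U) (prod.snd : U ⨯ X' ⟶ X')) k)) :=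
      (hP.map L).isIso_snd_of_isIso
    have : IsIso (L.map c) := by
      have : IsIso (L.map c ≫ L.map (pullback.snd
          (pushout.inr (prod.fst : U ⨯ X' ⟶ U) (prod.snd : U ⨯ X' ⟶ X')) k)) := by
        rw [← L.map_comp, hP.lift_snd]
        infer_instance
      exact IsIso.of_isIso_comp_right (L.map c) (L.map (pullback.snd
          (pushout.inr (prod.fst : U ⨯ X' ⟶ U) (prod.snd : U ⨯ X' ⟶ X')) k))
    have := Groth.Agent.ClosedOpen.isIso_of_star_of_closed hU adj c
    exact hP.of_iso (asIso c).symm (Iso.refl _) (Iso.refl _) (Iso.refl _)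
      (by simp [c, ← cancel_epi c]) (by simp [c, ← cancel_epi c]) (by simp) (by simp)

end Groth.Agent.S12107
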