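import Groth.Statements.S12108
import Groth.Agent.Lib.Giraud.Cofan

set_option autoImplicit false
open CategoryTheory CategoryTheory.Limits
universe u
open SGA4

namespace Groth.Agent.S12108

/-- Let `(C, J)` be a small site, `X` an object and `s i : Y i ⟶ X` a family of morphisms indexed by a
small type. The following are equivalent: (i) the family is covering, for every `i` the diagonal of
presheaves `h_{Y i} ⟶ h_{Y i} ×_{h_X} h_{Y i}` becomes an isomorphism under the associated-sheaf
functor, and for all `i ≠ j` the sheaf associated to the presheaf `h_{Y i} ×_{h_X} h_{Y j}` is an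
initial object; (ii) the associated sheaf of `X`, with the maps induced by the `s i`, is a coproduct
of the associated sheaves of the `Y i` in sheaves of sets. -/
theorem result
    {C : Type u} [SmallCategory C] (J : GrothendieckTopology C) {X : C} {ι : Type u}
    (Y : ι → C) (s : ∀ i, Y i ⟶ X) :
    (Sieve.ofArrows Y s ∈ J X ∧
      (∀ i, IsIso ((presheafToSheaf J (Type u)).map (pullback.diagonal (yoneda.map (s i))))) ∧
      (∀ i j, i ≠ j → Nonempty (IsInitial ((presheafToSheaf J (Type u)).obj
        (pullback (yoneda.map (s i)) (yoneda.map (s j))))))) ↔
    Nonempty (IsColimit (Cofan.mk ((presheafToSheaf J (Type u)).obj (yoneda.obj X))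
      (fun i => (presheafToSheaf J (Type u)).map (yoneda.map (s i))))) := by
  rw [Groth.Agent.Giraud.isColimit_cofan_sheafify_iff]
  exact and_congr_left fun _ => (Groth.Agent.Topos.jepi_eps_map_iff J s).symm

end Groth.Agent.S12108
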