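import Groth.Statements.S12109
import Groth.Agent.Lib.LanFaithful.Retract

set_option autoImplicit false
open CategoryTheory CategoryTheory.Limits
universe u
open SGA4

namespace Groth.Agent.S12109

/-- Let `u : C ⥤ C'` be a functor between small categories and `u_!` the left Kan extension functor on
presheaves of sets, whose restriction to ind-representable presheaves is the induced functor `Ind C
⥤ Ind C'`. Then `Ind(u)` is an equivalence — `u_!` is bijective on morphisms between
ind-representable presheaves on `C` and every ind-representable presheaf on `C'` is isomorphic to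
`u_! F` for some ind-representable `F` — if and only if `u` is full and faithful and every object of
`C'` is a retract (direct factor) of an object `u X`. -/
theorem result
    {C : Type u} [SmallCategory C] {C' : Type u} [SmallCategory C'] (u : C ⥤ C') :
    ((∀ (F G : Cᵒᵖ ⥤ Type u), IsIndObject F → IsIndObject G →
        Function.Bijective (fun φ : F ⟶ G => (u.op.lan : (Cᵒᵖ ⥤ Type u) ⥤ (C'ᵒᵖ ⥤ Type u)).map φ)) ∧
      (∀ G' : C'ᵒᵖ ⥤ Type u, IsIndObject G' →
        ∃ F : Cᵒᵖ ⥤ Type u, IsIndObject F ∧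
          Nonempty ((u.op.lan : (Cᵒᵖ ⥤ Type u) ⥤ (C'ᵒᵖ ⥤ Type u)).obj F ≅ G'))) ↔
    ((u.Full ∧ u.Faithful) ∧
      ∀ X' : C', ∃ (X : C) (i : X' ⟶ u.obj X) (r : u.obj X ⟶ X'), i ≫ r = 𝟙 X') := by
  refine ⟨fun ⟨h1, h2⟩ => ⟨LanFaithful.full_faithful_of_bijective u h1, fun X' => ?_⟩, ?_⟩
  · obtain ⟨F, -, ⟨e⟩⟩ := h2 _ (isIndObject_yoneda X')
    exact LanFaithful.exists_retract_of_iso u e
  · rintro ⟨⟨_, _⟩, hr⟩
    let L := u.op.lanAdjunction (Type u)
    have hff := L.fullyFaithfulLOfIsIsoUnit
    refine ⟨fun F G _ _ => hff.map_bijective F G, fun G' hG' => ?_⟩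
    haveI := LanFaithful.isIso_counit u hr G'
    exact ⟨u.op ⋙ G', LanFaithful.isIndObject_comp u hr hG', ⟨asIso (L.counit.app G')⟩⟩

end Groth.Agent.S12109
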