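import Groth.Statements.S1211
import Groth.Agent.Lib.Dev4.Conseq

set_option autoImplicit false
universe u
open FlatMor

set_option backward.isDefEq.respectTransparency.types false

namespace Groth.Agent.S1211


attribute [local instance] Algebra.TensorProduct.rightAlgebra

open TensorProduct in
/-- Ring form, X = Spec S and S = Spec R affine: let S be a finite type R-algebra, N a finite S-module
and q a prime of S over p with N_q flat over R. Then there is an étale R-algebra R' with a prime p'
over p having the same residue field such that, writing A for the local ring of R' at p', S_A and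
N_A for the base changes: some element g of S_A outside every prime over both q and the maximal
ideal of A has the localization of N_A at g flat over A. -/
theorem result {R S : Type u} [CommRing R] [CommRing S] [Algebra R S] [Algebra.FiniteType R S]
    (N : Type u) [AddCommGroup N] [Module S N] [Module R N] [IsScalarTower R S N] [Module.Finite S N]
    (p : Ideal R) [p.IsPrime] (q : Ideal S) [q.IsPrime] [q.LiesOver p] (hflat : FlatCA.FlatAt R q N) :
    ∃ (R' : Type u) (_ : CommRing R') (_ : Algebra R R') (p' : Ideal R') (_ : p'.IsPrime), FlatCA.IsEtaleNhd R R' p p' ∧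
      ∀ (SA NA : Type u) [CommRing SA] [Algebra R SA] [Algebra S SA] [Algebra (Localization.AtPrime p') SA]
        [IsScalarTower R S SA] [IsScalarTower R (Localization.AtPrime p') SA]
        [Algebra.IsPushout R S (Localization.AtPrime p') SA]
        [AddCommGroup NA] [Module SA NA] [Module S NA] [IsScalarTower S SA NA]
        [Module (Localization.AtPrime p') NA] [IsScalarTower (Localization.AtPrime p') SA NA]
        (f : N →ₗ[S] NA), IsBaseChange SA f →
        ∃ g : SA, (∀ (Q : Ideal SA) [Q.IsPrime], Q.LiesOver q → Q.LiesOver (IsLocalRing.maximalIdeal (Localization.AtPrime p')) → g ∉ Q) ∧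
          Module.Flat (Localization.AtPrime p') (LocalizedModule (Submonoid.powers g) NA) := by
  obtain ⟨k, π, hπ⟩ := Algebra.FiniteType.iff_quotient_mvPolynomial''.1 (inferInstance : Algebra.FiniteType R S)
  let P := MvPolynomial (Fin k) R
  letI : Algebra P S := π.toRingHom.toAlgebra
  haveI : IsScalarTower R P S := IsScalarTower.of_algebraMap_eq fun r => (π.commutes r).symm
  letI : Module P N := Module.compHom N (algebraMap P S)
  haveI : IsScalarTower P S N := IsScalarTower.of_algebraMap_smul fun _ _ => rfl
  haveI : IsScalarTower R P N := IsScalarTower.of_algebraMap_smul fun r x => by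
    rw [← algebraMap_smul S (algebraMap R P r) x, ← IsScalarTower.algebraMap_apply, algebraMap_smul]
  haveI : Module.Finite P S := Module.Finite.of_surjective (Algebra.linearMap P S) hπ
  haveI : Module.Finite P N := Module.Finite.trans S N
  haveI : Algebra.IsIntegral P S := Algebra.IsIntegral.of_finite P S
  let qP : Ideal P := q.comap (algebraMap P S)
  haveI : q.LiesOver qP := ⟨rfl⟩
  haveI : qP.LiesOver p := ⟨by
    show p = (q.comap (algebraMap P S)).comap (algebraMap R P)
    rw [Ideal.comap_comap, ← IsScalarTower.algebraMap_eq]; exact Ideal.over_def q p⟩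
  have hflP : FlatCA.FlatAt R qP N :=
    (RG4.flatAt_iff_of_unique q qP fun Q _ hQ => Ideal.comap_injective_of_surjective _ hπ hQ.over.symm).1 hflat
  obtain ⟨R', _, _, p', _, hR, h⟩ := Dev4.exists_flat_fp_near N p qP hflP
  refine ⟨R', inferInstance, inferInstance, p', inferInstance, hR, ?_⟩
  intro SA NA _ _ _ _ _ _ _ _ _ _ _ _ _ f hf
  obtain ⟨PA, _, _, _, _, _, _, _, _, _, _, _, _, _, _, _, _, _, _, fP, hfP⟩ :=
    Dev4.exists_poly_bc (R := R) (P := P) (L := Localization.AtPrime p') f hf
  obtain ⟨g, hg, -, hfl⟩ := h PA NA fP hfP
  refine ⟨algebraMap PA SA g, fun Q _ hQq hQm hgQ => ?_, ?_⟩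
  · let QP := Q.comap (algebraMap PA SA)
    haveI : Q.LiesOver QP := ⟨rfl⟩
    refine hg QP ⟨?_⟩ ⟨?_⟩ hgQ
    · show q.comap (algebraMap P S) = (Q.comap (algebraMap PA SA)).comap (algebraMap P PA)
      rw [Ideal.comap_comap, ← IsScalarTower.algebraMap_eq, IsScalarTower.algebraMap_eq P S SA, ← Ideal.comap_comap,
        show Q.comap (algebraMap S SA) = q from hQq.over.symm]
    · show _ = (Q.comap (algebraMap PA SA)).comap (algebraMap (Localization.AtPrime p') PA)
      rw [Ideal.comap_comap, ← IsScalarTower.algebraMap_eq]; exact hQm.over
  · obtain ⟨e⟩ := Dev4.exists_equiv_restrict (L := Localization.AtPrime p') (Dev4.exists_localized_restrict (B := SA) g NA)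
    haveI := hfl
    exact Module.Flat.of_linearEquiv (M := LocalizedModule (Submonoid.powers g) NA) e.symm

end Groth.Agent.S1211
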