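import Groth.Statements.S12113
import Groth.Agent.Lib.CentExt24.Basic

set_option autoImplicit false
universe u
open CategoryTheory CategoryTheory.Limits MonoidalCategory CartesianMonoidalCategory MonObj AlgebraicGeometry
open SGA7

namespace Groth.Agent.S12113

/-- Group schemes, fppf site: over a base scheme S, let P and G be S-group schemes with G commutative,
and let u : G → E, v : E → P and u' : G → E', v' : E' → P be homomorphisms forming sequences 1 → G →
E → P → 1 and 1 → G → E' → P → 1 exact for the fppf topology. Suppose every morphism of S-schemes P
×_S P → G trivial on P × e_P and on e_P × P is trivial. Let f : E → E' be a morphism of S-schemes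
over P (f ≫ v' = v) and under G (u ≫ f = u'), preserving the unit section, and compatible with left
and right translations by G: for all points g of G and x of E with values in any S-scheme, f(u(g) x)
= u'(g) f(x) and f(x u(g)) = f(x) u'(g). Then f is a homomorphism of S-group schemes: such
extensions have no non-multiplicative morphisms of their underlying rigidified bitorsors. (The
published statement is for sheaves of groups on an arbitrary topos and phrased as full faithfulness
of the functor from extensions to rigidified bitorsors; this row is the case of representable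
sheaves on the fppf site of S, with G commutative so that the defect of multiplicativity descends to
P ×_S P as in the printed argument. Morphisms to a group scheme form a group; trivial means equal to
its unit.) -/
theorem result (S : Scheme.{u})
    (P G E E' : Over S) [GrpObj P] [GrpObj G] [GrpObj E] [GrpObj E'] [IsCommMonObj G]
    (u : G ⟶ E) (v : E ⟶ P) (hex : NonAbH1.IsExactSeq Scheme.fppfPrecoverage u v)
    (u' : G ⟶ E') (v' : E' ⟶ P) (hex' : NonAbH1.IsExactSeq Scheme.fppfPrecoverage u' v')
    (hPP : ∀ c : P ⊗ P ⟶ G, lift (𝟙 P) (toUnit P ≫ η[P]) ≫ c = 1 → lift (toUnit P ≫ η[P]) (𝟙 P) ≫ c = 1 → c = 1)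
    (f : E ⟶ E') (hv : f ≫ v' = v) (hu : u ≫ f = u') (h1 : η[E] ≫ f = η[E'])
    (hl : ∀ (T : Over S) (g : T ⟶ G) (x : T ⟶ E), ((g ≫ u) * x) ≫ f = (g ≫ u') * (x ≫ f))
    (hr : ∀ (T : Over S) (g : T ⟶ G) (x : T ⟶ E), (x * (g ≫ u)) ≫ f = (x ≫ f) * (g ≫ u')) :
    IsMonHom f := by
  exact Groth.Agent.CentExt24.bitorsor_isMonHom hex hex' hPP f hv h1 hl hr

end Groth.Agent.S12113
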