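import Groth.Statements.S12114
import Groth.Agent.Lib.QFChain4.Basic
import Groth.Agent.Lib.PicDesc21.Frame
-- import your own Groth.Agent.* helpers here

set_option autoImplicit false
universe u
open CategoryTheory CategoryTheory.Limits AlgebraicGeometry
open EtDl

set_option backward.isDefEq.respectTransparency false
set_option backward.isDefEq.respectTransparency.types false

namespace Groth.Agent.S12114

/-- Let k be an algebraically closed field, X a k-scheme of finite type whose local rings are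
Cohen–Macaulay, and u, v : X ⟶ 𝔸^ι_k (ι a finite index type) two k-morphisms which are locally
quasi-finite and flat. Every closed point x of X has an open neighbourhood U together with a finite
chain of k-morphisms w_0, …, w_m : U ⟶ 𝔸^ι_k (morphisms over Spec k, U carrying the structure map of
X), each locally quasi-finite and flat, with w_0 = u|_U, w_m = v|_U and such that w_{j+1} differs
from w_j in at most one coordinate function. (The published statement asks only for morphisms w_j,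
which would make the assertion trivial; the printed argument produces w_j that are quasi-finite and
flat near x, via systems of parameters of the local ring, and that is what is stated here.) -/
theorem result (k : Type u) [Field k] [IsAlgClosed k]
    (X : Scheme.{u}) [X.Over (Spec (CommRingCat.of k))] [LocallyOfFiniteType (X ↘ Spec (CommRingCat.of k))]
    [QuasiCompact (X ↘ Spec (CommRingCat.of k))]
    (hCM : ∀ y : X, LocCoh.IsCohenMacaulayLocalRing (X.presheaf.stalk y)) (ι : Type u) [Finite ι]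
    (u v : X ⟶ AffineSpace ι (Spec (CommRingCat.of k)))
    (hu : u ≫ (AffineSpace ι (Spec (CommRingCat.of k)) ↘ Spec (CommRingCat.of k)) = X ↘ Spec (CommRingCat.of k))
    (hv : v ≫ (AffineSpace ι (Spec (CommRingCat.of k)) ↘ Spec (CommRingCat.of k)) = X ↘ Spec (CommRingCat.of k))
    [LocallyQuasiFinite u] [Flat u] [LocallyQuasiFinite v] [Flat v] (x : X) (hx : IsClosed ({x} : Set X)) :
    ∃ (U : X.Opens), x ∈ U ∧ ∃ (m : ℕ) (w : Fin (m + 1) → ((U : Scheme.{u}) ⟶ AffineSpace ι (Spec (CommRingCat.of k)))),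
      w 0 = U.ι ≫ u ∧ w (Fin.last m) = U.ι ≫ v ∧
      (∀ j : Fin (m + 1), LocallyQuasiFinite (w j) ∧ Flat (w j) ∧
        w j ≫ (AffineSpace ι (Spec (CommRingCat.of k)) ↘ Spec (CommRingCat.of k)) = U.ι ≫ (X ↘ Spec (CommRingCat.of k))) ∧
      (∀ j : Fin m, ∃ i : ι, ∀ i' : ι, i' ≠ i →
        (w j.castSucc).appTop (AffineSpace.coord (Spec (CommRingCat.of k)) i') =
          (w j.succ).appTop (AffineSpace.coord (Spec (CommRingCat.of k)) i')) := by
  classical
  let S₀ := Spec (CommRingCat.of k)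
  let q : X ⟶ S₀ := X ↘ Spec (CommRingCat.of k)
  let AA := AffineSpace ι S₀
  haveI : Fintype ι := Fintype.ofFinite ι
  let d := Fintype.card ι
  let e : ι ≃ Fin d := Fintype.equivFin ι
  haveI : IsLocallyNoetherian X := LocallyOfFiniteType.isLocallyNoetherian q
  let O := X.presheaf.stalk x
  let m₀ := IsLocalRing.maximalIdeal O
  obtain ⟨cu, hcu, hru, hdim⟩ := Groth.Agent.QFChain4.exists_sop q u hu x e hx
  obtain ⟨cv, hcv, hrv, -⟩ := Groth.Agent.QFChain4.exists_sop q v hv x e hx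
  let κ : k →+* O := Groth.Agent.QFChain4.kst q x
  let tu : ι → O := fun i => X.presheaf.germ ⊤ x trivial (u.appTop (AffineSpace.coord S₀ i))
  let tv : ι → O := fun i => X.presheaf.germ ⊤ x trivial (v.appTop (AffineSpace.coord S₀ i))
  let GoodS : (ι → O) → Prop := fun t => ∃ c : ι → k, (∀ i, t i - κ (c i) ∈ m₀) ∧
    m₀ ≤ (Ideal.span (Set.range fun i => t i - κ (c i))).radical
  let StepT : (ι → O) → (ι → O) → Prop := fun t t' => GoodS t ∧ GoodS t' ∧ ∃ i, ∀ i', i' ≠ i → t i' = t' i'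
  let T : ℕ → ι → O := fun j i => if (e i : ℕ) < j then tv i else tv i - κ (cv i) + κ (cu i)
  have hTgood : ∀ j, GoodS (T j) := fun j => by
    refine ⟨fun i => if (e i : ℕ) < j then cv i else cu i, ?_⟩
    have h : ∀ i, T j i - κ (if (e i : ℕ) < j then cv i else cu i) = Groth.Agent.QFChain4.shifted q v x cv i := fun i => by
      show _ = tv i - κ (cv i)
      simp only [T]
      split_ifs <;> ring
    exact ⟨fun i => (h i).symm ▸ hcv i, by simp only [h]; exact hrv⟩
  have h2 : ∀ j, j ≤ d → Relation.ReflTransGen StepT (T 0) (T j) := by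
    intro j hj
    induction j with
    | zero => exact Relation.ReflTransGen.refl
    | succ j ih =>
      refine (ih (by omega)).tail ⟨hTgood j, hTgood (j + 1), e.symm ⟨j, by omega⟩, fun i hi => ?_⟩
      have : (e i : ℕ) ≠ j := fun h => hi (e.injective (Fin.ext (by rw [e.apply_symm_apply]; exact h)))
      simp only [T]
      split_ifs with h1 h2 <;> first | rfl | omega
  have hrange : ∀ f : ι → O, Set.range (f ∘ e.symm) = Set.range f := fun f => e.symm.surjective.range_comp f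
  have h1 : Relation.ReflTransGen StepT tu (T 0) := by
    have hsu : Groth.Agent.S8586.Sop (⊥ : Ideal O) (Groth.Agent.QFChain4.shifted q u x cu ∘ e.symm) :=
      ⟨fun i => hcu _, by rw [bot_sup_eq, hrange]; exact hru⟩
    have hsv : Groth.Agent.S8586.Sop (⊥ : Ideal O) (Groth.Agent.QFChain4.shifted q v x cv ∘ e.symm) :=
      ⟨fun i => hcv _, by rw [bot_sup_eq, hrange]; exact hrv⟩
    have hgood : ∀ a : Fin d → O, Groth.Agent.S8586.Sop (⊥ : Ideal O) a → GoodS (fun i => a (e i) + κ (cu i)) :=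
      fun a ha => ⟨cu, fun i => by simp only [add_sub_cancel_right]; exact ha.1 (e i), by
        simp only [add_sub_cancel_right]
        rw [show (fun i => a (e i)) = a ∘ e from rfl, e.surjective.range_comp]
        simpa using ha.2⟩
    have hlift := Relation.ReflTransGen.lift (p := StepT) (fun a : Fin d → O => fun i => a (e i) + κ (cu i))
      (fun a b hab => (⟨hgood a hab.1, hgood b hab.2.1, by
        obtain ⟨i, hi⟩ := hab.2.2
        exact ⟨e.symm i, fun i' hi' => congrArg (· + κ (cu i')) (hi (e i') fun h => hi' (by rw [← h, e.symm_apply_apply]))⟩⟩ : StepT _ _))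
      _ _ (Groth.Agent.S8586.connected d (⊥ : Ideal O) _ _ hsu hsv)
    convert hlift using 1
    · funext i
      simp only [Function.comp_apply, Equiv.symm_apply_apply]
      show tu i = (tu i - κ (cu i)) + κ (cu i)
      ring
    · funext i
      simp only [Function.comp_apply, Equiv.symm_apply_apply, T, Nat.not_lt_zero, if_false]
      rfl
  have hTd : T d = tv := funext fun i => if_pos (e i).2
  obtain ⟨m, t, ht0, htl, htr⟩ := Groth.Agent.S8586.exists_seq (h1.trans (hTd ▸ h2 d le_rfl))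
  have htgood : ∀ j, GoodS (t j) := by
    refine Fin.cases ?_ fun j => (htr j).2.1
    refine ht0 ▸ ⟨cu, hcu, hru⟩
  choose Vs hVs rs hrs using fun a : O => X.presheaf.exists_germ_eq a
  have hZu : ∀ i, ∃ (Z : X.Opens), x ∈ Z ∧ ∃ hZ : Z ≤ Vs (tu i),
      X.presheaf.map (homOfLE hZ).op (rs (tu i)) = X.presheaf.map (homOfLE (le_top : Z ≤ ⊤)).op (u.appTop (AffineSpace.coord S₀ i)) := by
    intro i
    obtain ⟨Z, hxZ, i₁, i₂, hZ⟩ := X.presheaf.germ_eq x (hVs (tu i)) (show x ∈ (⊤ : X.Opens) from trivial) _ _ (hrs (tu i))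
    exact ⟨Z, hxZ, i₁.le, hZ⟩
  have hZv : ∀ i, ∃ (Z : X.Opens), x ∈ Z ∧ ∃ hZ : Z ≤ Vs (tv i),
      X.presheaf.map (homOfLE hZ).op (rs (tv i)) = X.presheaf.map (homOfLE (le_top : Z ≤ ⊤)).op (v.appTop (AffineSpace.coord S₀ i)) := by
    intro i
    obtain ⟨Z, hxZ, i₁, i₂, hZ⟩ := X.presheaf.germ_eq x (hVs (tv i)) (show x ∈ (⊤ : X.Opens) from trivial) _ _ (hrs (tv i))
    exact ⟨Z, hxZ, i₁.le, hZ⟩
  have kres : ∀ {Z : X.Opens} (a b : O) (ha : Z ≤ Vs a) (hb : Z ≤ Vs b), a = b →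
      X.presheaf.map (homOfLE ha).op (rs a) = X.presheaf.map (homOfLE hb).op (rs b) := by
    rintro Z a _ ha hb rfl; rfl
  choose Zu hxZu hZu' hZueq using hZu
  choose Zv hxZv hZv' hZveq using hZv
  let U₀ : X.Opens := ⟨(⋂ z : Fin (m + 1) × ι, (Vs (t z.1 z.2) : Set X)) ∩ ((⋂ i, (Zu i : Set X)) ∩ ⋂ i, (Zv i : Set X)),
    (isOpen_iInter_of_finite fun _ => (Vs _).2).inter
      ((isOpen_iInter_of_finite fun i => (Zu i).2).inter (isOpen_iInter_of_finite fun i => (Zv i).2))⟩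
  have hxU₀ : x ∈ U₀ := ⟨Set.mem_iInter.2 fun z => hVs _, Set.mem_iInter.2 hxZu, Set.mem_iInter.2 hxZv⟩
  have hU₀V : ∀ j i, U₀ ≤ Vs (t j i) := fun j i z hz => Set.mem_iInter.1 hz.1 (j, i)
  let qW : (U₀ : Scheme.{u}) ⟶ S₀ := U₀.ι ≫ q
  haveI : LocallyOfFiniteType qW := inferInstance
  let G : Fin (m + 1) → ι → Γ((U₀ : Scheme.{u}), ⊤) := fun j i =>
    U₀.ι.appLE (Vs (t j i)) ⊤ (fun z _ => hU₀V j i z.2) (rs (t j i))
  let w₀ : Fin (m + 1) → ((U₀ : Scheme.{u}) ⟶ AA) := fun j => AffineSpace.homOfVector qW (G j)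
  let x₀ : (U₀ : Scheme.{u}) := ⟨x, hxU₀⟩
  have hx₀ : IsClosed ({x₀} : Set (U₀ : Scheme.{u})) := by
    have : ({x₀} : Set (U₀ : Scheme.{u})) = U₀.ι ⁻¹' {x} := by
      ext z; exact ⟨fun h => h ▸ rfl, fun h => Subtype.ext h⟩
    rw [this]
    exact hx.preimage U₀.ι.continuous
  let σ : O ≅ (U₀ : Scheme.{u}).presheaf.stalk x₀ := asIso (U₀.ι.stalkMap x₀)
  let σe : O ≃+* (U₀ : Scheme.{u}).presheaf.stalk x₀ := σ.commRingCatIsoToRingEquiv
  have hσκ : ∀ a, Groth.Agent.QFChain4.kst qW x₀ a = σe (κ a) := fun a => by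
    show (U₀ : Scheme.{u}).presheaf.germ ⊤ x₀ trivial ((U₀.ι ≫ q).appTop _) =
      U₀.ι.stalkMap x₀ (X.presheaf.germ ⊤ x trivial (q.appTop _))
    refine Eq.trans ?_ (Scheme.Hom.germ_stalkMap_apply U₀.ι ⊤ x₀ trivial _).symm
    rw [Scheme.Hom.comp_appTop]
    rfl
  have hσG : ∀ j i, (U₀ : Scheme.{u}).presheaf.germ ⊤ x₀ trivial (G j i) = σe (t j i) := fun j i => by
    conv_rhs => rw [← hrs (t j i)]
    refine Eq.trans ?_ (Scheme.Hom.germ_stalkMap_apply U₀.ι (Vs (t j i)) x₀ (hVs _) _).symm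
    simp only [G, Scheme.Hom.appLE, CommRingCat.comp_apply, TopCat.Presheaf.germ_res_apply]
  have hgood₀ : ∀ j, ((w₀ j).stalkMap x₀).hom.Flat ∧ (w₀ j).QuasiFiniteAt x₀ := by
    intro j
    obtain ⟨c, hc, hr⟩ := htgood j
    have hsh : ∀ i, Groth.Agent.QFChain4.shifted qW (w₀ j) x₀ c i = σe (t j i - κ (c i)) := fun i => by
      rw [map_sub, ← hσκ, ← hσG]
      simp only [Groth.Agent.QFChain4.shifted, w₀]
      rw [AffineSpace.homOfVector_appTop_coord]
    refine Groth.Agent.QFChain4.flat_and_quasiFiniteAt qW (w₀ j) (AffineSpace.homOfVector_over _ _) x₀ c e hx₀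
      (Groth.Agent.SMT.isCM_of_ringEquiv σe (hCM x)) ((ringKrullDim_eq_of_ringEquiv σe).symm.trans hdim)
      (fun i => ?_) ?_
    · rw [hsh]
      exact fun hu' => (IsLocalRing.mem_maximalIdeal _).1 (hc i) ((MulEquiv.isUnit_map σe).1 hu')
    · intro a ha
      obtain ⟨b, rfl⟩ := σe.surjective a
      obtain ⟨n, hn⟩ := hr (show b ∈ m₀ from fun hb => (IsLocalRing.mem_maximalIdeal _).1 ha (hb.map σe))
      refine ⟨n, ?_⟩
      have h3 := Ideal.mem_map_of_mem (σe : O →+* (U₀ : Scheme.{u}).presheaf.stalk x₀) hn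
      rw [Ideal.map_span, ← Set.range_comp] at h3
      rw [← map_pow, show Groth.Agent.QFChain4.shifted qW (w₀ j) x₀ c =
        (σe : O →+* (U₀ : Scheme.{u}).presheaf.stalk x₀) ∘ fun i => t j i - κ (c i) from funext hsh]
      exact h3
  haveI : LocallyOfFinitePresentation qW := inferInstance
  haveI hlfp : ∀ j, LocallyOfFinitePresentation (w₀ j) := fun j => by
    haveI : LocallyOfFinitePresentation (w₀ j ≫ (AA ↘ S₀)) := by
      rw [AffineSpace.homOfVector_over]; infer_instance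
    exact Groth.Agent.SchBasic.locallyOfFinitePresentation_of_comp (w₀ j) (AA ↘ S₀)
  let N : (U₀ : Scheme.{u}).Opens := ⟨⋂ j, {y | ((w₀ j).stalkMap y).hom.Flat} ∩ {y | (w₀ j).QuasiFiniteAt y},
    isOpen_iInter_of_finite fun j => (Groth.Agent.FlatH4.isOpen_flatLocus (w₀ j)).inter (w₀ j).isOpen_quasiFiniteAt⟩
  have hxN : x₀ ∈ N := Set.mem_iInter.2 hgood₀
  let U : X.Opens := U₀.ι ''ᵁ N
  have hUU₀ : U ≤ U₀ := by
    rintro z ⟨y, -, rfl⟩
    exact y.2
  let jU : (U : Scheme.{u}) ⟶ (U₀ : Scheme.{u}) := X.homOfLE hUU₀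
  have hjι : jU ≫ U₀.ι = U.ι := X.homOfLE_ι hUU₀
  have hjN : ∀ z, jU z ∈ N := fun z => by
    obtain ⟨y, hy, hyz⟩ := z.2
    have : jU z = y := U₀.ι.isOpenEmbedding.injective (by rw [← Scheme.Hom.comp_apply, hjι]; exact hyz.symm)
    rw [this]
    exact hy
  have hG : ∀ j i, jU.appTop (G j i) = U.ι.appLE (Vs (t j i)) ⊤ (fun z _ => hU₀V j i (hUU₀ z.2)) (rs (t j i)) := fun j i => by
    show jU.app ⊤ (U₀.ι.appLE _ ⊤ _ _) = _
    rw [Scheme.Hom.app_eq_appLE, Groth.Agent.PicDesc21.appLE_appLE]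
    have key2 : ∀ (f g : (U : Scheme.{u}) ⟶ X) (e₁ : (⊤ : (U : Scheme.{u}).Opens) ≤ f ⁻¹ᵁ Vs (t j i))
        (e₂ : (⊤ : (U : Scheme.{u}).Opens) ≤ g ⁻¹ᵁ Vs (t j i)), f = g → f.appLE _ ⊤ e₁ = g.appLE _ ⊤ e₂ := by
      rintro f _ e₁ e₂ rfl; rfl
    exact congrArg (fun φ => φ (rs (t j i))) (key2 _ _ _ _ hjι)
  have hend : ∀ (w : X ⟶ AA) (hw : w ≫ (AA ↘ S₀) = q) (j : Fin (m + 1))
      (Zw : ι → X.Opens) (hZw : ∀ i, U₀ ≤ Zw i) (hle : ∀ i, Zw i ≤ Vs (t j i))
      (heq : ∀ i, X.presheaf.map (homOfLE (hle i)).op (rs (t j i)) =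
        X.presheaf.map (homOfLE (le_top : Zw i ≤ ⊤)).op (w.appTop (AffineSpace.coord S₀ i))),
      jU ≫ w₀ j = U.ι ≫ w := by
    intro w hw j Zw hZw hle heq
    refine AffineSpace.hom_ext ?_ fun i => ?_
    · simp only [w₀, qW, Category.assoc, AffineSpace.homOfVector_over]
      rw [← Category.assoc, hjι]
      exact congrArg (U.ι ≫ ·) hw.symm
    · simp only [w₀, Scheme.Hom.comp_appTop, CommRingCat.comp_apply, AffineSpace.homOfVector_appTop_coord]
      rw [hG]
      have h := congrArg (U.ι.appLE (Zw i) ⊤ (fun z _ => hZw i (hUU₀ z.2))) (heq i)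
      rw [← CommRingCat.comp_apply, ← CommRingCat.comp_apply, Scheme.Hom.map_appLE, Scheme.Hom.map_appLE] at h
      refine h.trans ?_
      show _ = U.ι.app ⊤ _
      rw [Scheme.Hom.app_eq_appLE]
      rfl
  refine ⟨U, ⟨x₀, hxN, rfl⟩, m, fun j => jU ≫ w₀ j, ?_, ?_, fun j => ⟨?_, ?_, ?_⟩, fun j => ?_⟩
  · refine hend u hu 0 Zu (fun i z hz => Set.mem_iInter.1 hz.2.1 i) (fun i => by rw [ht0]; exact hZu' i) fun i => ?_
    exact (kres _ _ _ _ (congrFun ht0 i)).trans (hZueq i)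
  · refine hend v hv (Fin.last m) Zv (fun i z hz => Set.mem_iInter.1 hz.2.2 i) (fun i => by rw [htl]; exact hZv' i) fun i => ?_
    exact (kres _ _ _ _ (congrFun htl i)).trans (hZveq i)
  · rw [← Scheme.Hom.quasiFiniteLocus_eq_top_iff, eq_top_iff]
    intro z _
    show (jU ≫ w₀ j).QuasiFiniteAt z
    rw [Scheme.Hom.quasiFiniteAt_comp_iff_of_isOpenImmersion]
    exact (Set.mem_iInter.1 (hjN z) j).2
  · refine Flat.iff_flat_stalkMap _ |>.2 fun z => ?_
    rw [Groth.Agent.FlatH4.flat_stalkMap_comp_left_iff]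
    exact (Set.mem_iInter.1 (hjN z) j).1
  · simp only [w₀, qW, Category.assoc, AffineSpace.homOfVector_over]
    rw [← Category.assoc, hjι]
  · obtain ⟨i, hi⟩ := (htr j).2.2
    refine ⟨i, fun i' hi' => ?_⟩
    simp only [w₀, Scheme.Hom.comp_appTop, CommRingCat.comp_apply]
    erw [AffineSpace.homOfVector_appTop_coord, AffineSpace.homOfVector_appTop_coord]
    show jU.appTop (U₀.ι.appLE _ ⊤ _ (rs (t j.castSucc i'))) = jU.appTop (U₀.ι.appLE _ ⊤ _ (rs (t j.succ i')))
    congr 1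
    have key : ∀ (a b : O) (ha : U₀ ≤ Vs a) (hb : U₀ ≤ Vs b), a = b →
        U₀.ι.appLE (Vs a) ⊤ (fun z _ => ha z.2) (rs a) = U₀.ι.appLE (Vs b) ⊤ (fun z _ => hb z.2) (rs b) := by
      rintro a _ ha hb rfl; rfl
    exact key _ _ (hU₀V _ i') (hU₀V _ i') (hi i' hi')

end Groth.Agent.S12114
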