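import Groth.Statements.S12118
-- import your own Groth.Agent.* helpers here

set_option autoImplicit false
universe u v
open EGA41

namespace Groth.Agent.S12118

/-- Let A be a commutative ring, M an A-module, (M_k)_{k ≥ 0} a decreasing filtration of M by submodules
with M_0 = M and ⋂_k M_k = 0, and f an element of A which is a non-zero-divisor on every graded
piece M_k/M_{k+1} (equivalently on the associated graded module). Then (i) f is a non-zero-divisor
on M, and (ii) M_k ∩ fM = fM_k for every k ≥ 0. -/
theorem result {A : Type u} [CommRing A] {M : Type v} [AddCommGroup M] [Module A M]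
    (F : ℕ → Submodule A M) (hanti : Antitone F) (h0 : F 0 = ⊤) (hsep : ⨅ k, F k = ⊥) (f : A)
    (hreg : ∀ k : ℕ, IsSMulRegular (↥(F k) ⧸ Submodule.comap (F k).subtype (F (k + 1))) f) :
    IsSMulRegular M f ∧ ∀ k : ℕ, F k ⊓ (Ideal.span {f} • (⊤ : Submodule A M)) = Ideal.span {f} • F k := by
  have step : ∀ k, ∀ x ∈ F k, f • x ∈ F (k + 1) → x ∈ F (k + 1) := by
    intro k x hx hfx
    have := (hreg k).right_eq_zero_of_smul (x := Submodule.Quotient.mk (⟨x, hx⟩ : ↥(F k))) (by
      rw [← Submodule.Quotient.mk_smul, Submodule.Quotient.mk_eq_zero]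
      exact hfx)
    exact ((Submodule.Quotient.mk_eq_zero _).1 this : (⟨x, hx⟩ : ↥(F k)) ∈ Submodule.comap (F k).subtype (F (k + 1)))
  have climb : ∀ k, ∀ x : M, f • x ∈ F k → x ∈ F k := by
    intro k
    induction k with
    | zero => intro x _; simp [h0]
    | succ k ih => exact fun x hx => step k x (ih x (hanti (Nat.le_succ k) hx)) hx
  refine ⟨(isSMulRegular_iff_right_eq_zero_of_smul (R := A) (M := M) (r := f)).2 fun x hx => ?_, fun k => ?_⟩
  · have : x ∈ ⨅ k, F k := (Submodule.mem_iInf _).2 fun k => climb k x (by rw [hx]; exact zero_mem _)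
    simpa [hsep] using this
  · refine le_antisymm ?_ (le_inf Submodule.smul_le_right (Submodule.smul_mono le_rfl le_top))
    rintro m ⟨hm, hm'⟩
    rw [SetLike.mem_coe, Submodule.ideal_span_singleton_smul, Submodule.mem_smul_pointwise_iff_exists] at hm'
    obtain ⟨y, -, rfl⟩ := hm'
    rw [Submodule.ideal_span_singleton_smul]
    exact Submodule.smul_mem_pointwise_smul y f _ (climb k y hm)

end Groth.Agent.S12118
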