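import Groth.Statements.S12122
import Groth.Agent.Lib.ConsTop3.QS

set_option autoImplicit false
universe u
open EGA41

namespace Groth.Agent.S12122

open AlgebraicGeometry Topology in
/-- Let X be a quasi-separated scheme. A subset E of X is locally constructible if and only if it is
both open and closed for the constructible topology of X. Here the constructible topology is the one
generated by the quasi-compact open subsets of X and their complements; when X is quasi-separated
its open sets are exactly the ind-constructible subsets, i.e. it is the constructible topology of
the source (for a scheme that is not quasi-separated the two topologies differ, and this row does
not cover that case). -/
theorem result (X : Scheme.{u}) [QuasiSeparatedSpace X] (E : Set X) :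
    Topology.IsLocallyConstructible E ↔
      (IsOpen[constructibleTopology X] E ∧ IsClosed[constructibleTopology X] E) := by
  exact ConsTop3.isLocallyConstructible_iff_isClopen

end Groth.Agent.S12122
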