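import Groth.Statements.S12123
import Groth.Agent.Lib.ConsTop3.QS

set_option autoImplicit false
universe u
open EGA41

namespace Groth.Agent.S12123

open AlgebraicGeometry Topology in
/-- Let X be a quasi-separated scheme and X^cons its underlying set with the constructible topology,
generated by the quasi-compact open subsets and their complements (for X quasi-separated this is the
topology whose open sets are the ind-constructible subsets). Then X^cons is a Hausdorff, locally
compact, totally disconnected space. (The published statement also asserts that X^cons is Hausdorff
only if X is quasi-separated; for the topology used here that converse fails when X is not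
quasi-separated, where the two constructible topologies differ, so it is not part of this row.) -/
theorem result (X : Scheme.{u}) [QuasiSeparatedSpace X] :
    T2Space (WithConstructibleTopology X) ∧ LocallyCompactSpace (WithConstructibleTopology X) ∧
      TotallyDisconnectedSpace (WithConstructibleTopology X) := by
  have h1 := ConsTop3.t2Space_top' (X := X)
  have h2 := ConsTop3.locallyCompact_top' (X := X)
  have h3 := ConsTop3.totallyDisconnected_top' (X := X)
  let e : @Homeomorph (WithConstructibleTopology X) X _ (constructibleTopology X) :=
    @Homeomorph.mk _ _ _ (constructibleTopology X) (WithTopology.equiv X (constructibleTopology X))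
      (WithTopology.continuous_ofTopology _) (WithTopology.continuous_toTopology _)
  exact ⟨@Topology.IsEmbedding.t2Space _ X _ (constructibleTopology X) h1 _
      (@Homeomorph.isEmbedding _ X _ (constructibleTopology X) e),
    @Topology.IsClosedEmbedding.locallyCompactSpace _ X _ (constructibleTopology X) h2 _
      (@Homeomorph.isClosedEmbedding _ X _ (constructibleTopology X) e),
    ⟨(@Topology.IsEmbedding.isTotallyDisconnected _ X _ (constructibleTopology X) _ _
      (@Homeomorph.isEmbedding _ X _ (constructibleTopology X) e)
      (fun t _ ht => @IsPreconnected.subsingleton X (constructibleTopology X) h3 t ht) :)⟩⟩

end Groth.Agent.S12123
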