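import Groth.Statements.S12126
import Groth.Agent.Lib.UCat26.Below
import Mathlib

set_option autoImplicit false
universe u
open CAlg

namespace Groth.Agent.S12126

open Groth.Agent

/-- Let A be a Noetherian local domain with maximal ideal m and residue field k, B a domain containing A
which is an A-algebra of finite type, q a prime ideal of B over m and k' the residue field of B_q.
If for every sub-A-algebra A' of finite type of the polynomial ring B[T] and every maximal ideal m'
of A' lying over m the local ring A'_{m'} is catenary, then ht(q) + trdeg_k k' = dim(A) + trdeg_A B,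
stated with heights and transcendence degrees as cardinals (the transcendence degree of B over A is
that of the fraction fields, and that of k' over k is that of B/q over A/m). -/
theorem result (R : Type u) [CommRing R] [IsDomain R]
    [IsNoetherianRing R] [IsLocalRing R] (S : Type u) [CommRing S] [IsDomain S] [Algebra R S]
    [FaithfulSMul R S] [Algebra.FiniteType R S] (q : Ideal S) [q.IsPrime]
    [q.LiesOver (IsLocalRing.maximalIdeal R)]
    (hcat : ∀ A' : Subalgebra R (Polynomial S), A'.FG →
      ∀ (m' : Ideal A') [m'.IsMaximal], m'.LiesOver (IsLocalRing.maximalIdeal R) →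
        CAlg.IsCatenary (Localization.AtPrime m')) :
    (q.height : Cardinal.{u}) + Algebra.trdeg (R ⧸ IsLocalRing.maximalIdeal R) (S ⧸ q) =
      ((IsLocalRing.maximalIdeal R).height : Cardinal.{u}) + Algebra.trdeg R S := by
  set p := IsLocalRing.maximalIdeal R
  have hC : UCat26.Below.CatOver R S p := fun A' hA' m' hm hle =>
    hcat A' hA' m' ⟨(IsLocalRing.maximalIdeal.isMaximal R).eq_of_le
      (Ideal.comap_ne_top _ hm.ne_top) hle⟩
  obtain ⟨s, hs⟩ := ‹Algebra.FiniteType R S›.out
  have h := UCat26.Below.eq_of_adjoin s.card R S s le_rfl hs p hC q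
  haveI : Algebra.FiniteType R (S ⧸ q) := .trans (R := R) (S := S) inferInstance inferInstance
  haveI : Algebra.FiniteType (R ⧸ p) (S ⧸ q) := .of_restrictScalars_finiteType R (R ⧸ p) (S ⧸ q)
  have h1 : ((DimFormula14.tr (R ⧸ p) (S ⧸ q) : ℕ∞) : Cardinal.{u}) = Algebra.trdeg (R ⧸ p) (S ⧸ q) :=
    Cardinal.ofENat_toENat trdeg_lt_aleph0_of_finiteType.le
  have h2 : ((DimFormula14.tr R S : ℕ∞) : Cardinal.{u}) = Algebra.trdeg R S :=
    Cardinal.ofENat_toENat trdeg_lt_aleph0_of_finiteType.le
  rw [← h1, ← h2, ← Cardinal.ofENat_add, ← Cardinal.ofENat_add, h]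

end Groth.Agent.S12126
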