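import Groth.Statements.S12127
import Groth.Agent.Lib.EGA43Top.QuasiHomeo

set_option autoImplicit false
universe u
open EGA43

namespace Groth.Agent.S12127

/-- Let f : X → Y be a quasi-homeomorphism, i.e. a continuous map such that U ↦ f⁻¹(U) is a bijection
from the open subsets of Y onto the open subsets of X. Call a subset quasi-constructible when it is
a finite union of locally closed subsets, and locally quasi-constructible when every point of the
space has an open neighbourhood V whose intersection with it is quasi-constructible in V. Then Z ↦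
f⁻¹(Z) induces a bijection from the quasi-constructible subsets of Y onto those of X, and from the
locally quasi-constructible subsets of Y onto those of X. -/
theorem result {X Y : Type u}
    [TopologicalSpace X] [TopologicalSpace Y] (f : X → Y) (hf : Continuous f)
    (hq : Function.Bijective (fun U : TopologicalSpace.Opens Y =>
      (⟨f ⁻¹' (U : Set Y), U.isOpen.preimage hf⟩ : TopologicalSpace.Opens X))) :
    Set.BijOn (fun Z : Set Y => f ⁻¹' Z)
        {Z : Set Y | ∃ T : Set (Set Y), T.Finite ∧ (∀ t ∈ T, IsLocallyClosed t) ∧ Z = ⋃₀ T}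
        {Z : Set X | ∃ T : Set (Set X), T.Finite ∧ (∀ t ∈ T, IsLocallyClosed t) ∧ Z = ⋃₀ T} ∧
      Set.BijOn (fun Z : Set Y => f ⁻¹' Z)
        {Z : Set Y | ∀ y : Y, ∃ V : Set Y, IsOpen V ∧ y ∈ V ∧
          ∃ T : Set (Set V), T.Finite ∧ (∀ t ∈ T, IsLocallyClosed t) ∧ (Subtype.val ⁻¹' Z : Set V) = ⋃₀ T}
        {Z : Set X | ∀ x : X, ∃ V : Set X, IsOpen V ∧ x ∈ V ∧
          ∃ T : Set (Set V), T.Finite ∧ (∀ t ∈ T, IsLocallyClosed t) ∧ (Subtype.val ⁻¹' Z : Set V) = ⋃₀ T} := by
  have h := (Groth.Agent.EGA43Top.isQH_iff_bijective hf).2 hq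
  have key : ∀ {A : Type u} [TopologicalSpace A] (Z : Set A),
      (∀ a : A, ∃ V : Set A, IsOpen V ∧ a ∈ V ∧
        ∃ T : Set (Set V), T.Finite ∧ (∀ t ∈ T, IsLocallyClosed t) ∧ (Subtype.val ⁻¹' Z : Set V) = ⋃₀ T) ↔
      Groth.Agent.EGA43Top.IsLQC Z := by
    intro A _ Z
    refine forall_congr' fun a => exists_congr fun V => and_congr_right fun hV => and_congr_right fun _ => ?_
    constructor
    · intro hT
      have := Groth.Agent.EGA43Top.IsQC.image_isLocallyClosed_embedding
        (f := (Subtype.val : V → A)) Topology.IsInducing.subtypeVal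
        (by rw [Subtype.range_coe]; exact hV.isLocallyClosed) hT
      rwa [Subtype.image_preimage_coe] at this
    · intro hT
      have := hT.preimage (f := (Subtype.val : V → A)) continuous_subtype_val
      rwa [Set.preimage_inter, Subtype.coe_preimage_self, Set.univ_inter] at this
  constructor
  · exact ⟨fun Z hZ => Groth.Agent.EGA43Top.IsQC.preimage hZ hf,
      fun Z hZ Z' hZ' e => h.eq_of_preimage_eq (Groth.Agent.EGA43Top.IsQC.isLQC hZ)
        (Groth.Agent.EGA43Top.IsQC.isLQC hZ') e,
      fun Z hZ => h.surj_qc hZ⟩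
  · simp only [key]
    refine ⟨fun Z hZ x => ?_, fun Z hZ Z' hZ' e => h.eq_of_preimage_eq hZ hZ' e, fun Z hZ => h.surj_lqc hZ⟩
    obtain ⟨U, hU, hxU, hQ⟩ := hZ (f x)
    exact ⟨f ⁻¹' U, hU.preimage hf, hxU, hQ.preimage hf⟩

end Groth.Agent.S12127
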