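import Groth.Statements.S12129
import Groth.Agent.Lib.CurveNF.Fibres

set_option autoImplicit false
universe u
open EGA2

namespace Groth.Agent.S12129

open AlgebraicGeometry CategoryTheory in
/-- Let X be a scheme of finite type over a field k. Then the local ring of X at every closed point has
dimension one if and only if the irreducible closed subsets of X other than its irreducible
components are exactly the (singletons of) closed points of X — that is, every irreducible closed
subset which is not an irreducible component is a closed point, and no closed point is by itself an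
irreducible component. -/
theorem result (k : Type u) [Field k] (X : Scheme.{u})
    [X.Over (Spec (CommRingCat.of k))] [LocallyOfFiniteType (X ↘ (Spec (CommRingCat.of k)))]
    [QuasiCompact (X ↘ (Spec (CommRingCat.of k)))] :
    (∀ x : X, IsClosed ({x} : Set X) → ringKrullDim (X.presheaf.stalk x) = 1) ↔
      ((∀ F : Set X, IsClosed F → IsIrreducible F → F ∉ irreducibleComponents (X : Type u) →
          ∃ x : X, IsClosed ({x} : Set X) ∧ F = {x}) ∧
        ∀ x : X, IsClosed ({x} : Set X) → ({x} : Set X) ∉ irreducibleComponents (X : Type u)) := by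
  let p := X ↘ (Spec (CommRingCat.of k))
  have hmax : ∀ g : X, (∀ x, x ⤳ g → x = g) ↔ closure ({g} : Set X) ∈ irreducibleComponents (X : Type u) :=
    fun g => Groth.Agent.VarDim.maximal_iff_mem_irreducibleComponents g
  refine ⟨fun h => ⟨fun F hF hFi hFc => ?_, fun x hx hc => ?_⟩, fun h x hx => ?_⟩
  · refine ⟨hFi.genericPoint, ?_, ?_⟩
    · have hnm : ¬ ∀ x, x ⤳ hFi.genericPoint → x = hFi.genericPoint := fun hh => hFc (by
        have := (hmax _).1 hh
        rwa [hFi.closure_genericPoint hF] at this)
      push Not at hnm
      obtain ⟨z, hz, hzne⟩ := hnm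
      rw [← Groth.Agent.VarDim.sdim_eq_zero_iff_isClosed p]
      have h1 := Groth.Agent.VarDim.sdim_lt_of_specializes p hz hzne
      have h2 := Groth.Agent.CurveNF.sdim_le_one p h z
      omega
    · have hnm : ¬ ∀ x, x ⤳ hFi.genericPoint → x = hFi.genericPoint := fun hh => hFc (by
        have := (hmax _).1 hh
        rwa [hFi.closure_genericPoint hF] at this)
      push Not at hnm
      obtain ⟨z, hz, hzne⟩ := hnm
      have h1 := Groth.Agent.VarDim.sdim_lt_of_specializes p hz hzne
      have h2 := Groth.Agent.CurveNF.sdim_le_one p h z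
      have hc : IsClosed ({hFi.genericPoint} : Set X) := by
        rw [← Groth.Agent.VarDim.sdim_eq_zero_iff_isClosed p]; omega
      rw [← hc.closure_eq, hFi.closure_genericPoint hF]
  · have hm : closure ({x} : Set X) ∈ irreducibleComponents (X : Type u) := by rwa [hx.closure_eq]
    have h1 := Groth.Agent.CurveNF.sdim_eq_one_of_maximal p h ((hmax x).2 hm)
    rw [(Groth.Agent.VarDim.sdim_eq_zero_iff_isClosed p x).2 hx] at h1
    exact zero_ne_one h1
  · refine Groth.Agent.CurveNF.ringKrullDim_stalk_eq_one_of_maximal p (fun g hg => ?_)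
      (fun y => Groth.Agent.VarDim.exists_maximal_specializes p y) hx
    have hgc : ¬ IsClosed ({g} : Set X) := fun hc => h.2 g hc (by have := (hmax g).1 hg; rwa [hc.closure_eq] at this)
    refine le_antisymm ?_ (Nat.one_le_iff_ne_zero.2 fun h0 => hgc ((Groth.Agent.VarDim.sdim_eq_zero_iff_isClosed p g).1 h0))
    have hh : Order.height g ≤ ((1 : ℕ) : ℕ∞) := by
      refine Order.height_le fun l hl => ?_
      by_contra hlt
      have h2 : 2 ≤ l.length := by rw [Nat.cast_le] at hlt; omega
      have a1 : l ⟨0, by omega⟩ < l ⟨1, by omega⟩ :=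
        l.strictMono (show (⟨0, by omega⟩ : Fin (l.length + 1)) < ⟨1, by omega⟩ from Nat.zero_lt_one)
      have a2 : l ⟨1, by omega⟩ < l ⟨2, by omega⟩ :=
        l.strictMono (show (⟨1, by omega⟩ : Fin (l.length + 1)) < ⟨2, by omega⟩ from Nat.one_lt_two)
      obtain ⟨c, hc, hce⟩ := h.1 (closure {l ⟨1, by omega⟩}) isClosed_closure isIrreducible_singleton.closure (fun hm => by
        have hle : l ⟨2, by omega⟩ ⤳ l ⟨1, by omega⟩ := a2.le
        exact a2.ne ((hmax _).2 hm _ hle).symm)
      have e1 : l ⟨1, by omega⟩ = c := by
        have : l ⟨1, by omega⟩ ∈ closure ({l ⟨1, by omega⟩} : Set X) := subset_closure rfl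
        rwa [hce] at this
      have e2 : l ⟨0, by omega⟩ = c := by
        have : l ⟨0, by omega⟩ ∈ closure ({l ⟨1, by omega⟩} : Set X) :=
          specializes_iff_mem_closure.1 (show l ⟨1, by omega⟩ ⤳ l ⟨0, by omega⟩ from a1.le)
        rwa [hce] at this
      exact a1.ne (e2.trans e1.symm)
    rw [Groth.Agent.VarDim.height_eq_sdim p] at hh
    exact_mod_cast hh

end Groth.Agent.S12129
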