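import Groth.Statements.S12130
import Groth.Agent.Lib.InsepNorm5.Scheme
import Groth.Agent.Lib.InsepNorm5.Cover

set_option autoImplicit false
universe u
set_option backward.isDefEq.respectTransparency.types false
open Unram17

namespace Groth.Agent.S12130

open CategoryTheory AlgebraicGeometry in
/-- Let k be a field and X an integral k-scheme of finite type of dimension ≤ 1. Then there is a finite
purely inseparable field extension k' of k such that the reduced closed subscheme Z = (X_{k'})_red
of the base change X_{k'} is integral and the normalization of Z is smooth over k'. (The published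
statement is for an arbitrary k-scheme of finite type of dimension ≤ 1, with the normalization of a
reduced scheme with finitely many irreducible components; this row states the case X integral, where
Z is integral because X_{k'} → X is a homeomorphism. The instance hypotheses on the morphism from
the generic point inside the existential always hold and only serve to form the normalization.) -/
theorem result (k : Type u) [Field k]
    (X : Scheme.{u}) [X.Over (Spec (CommRingCat.of k))] [IsIntegral X]
    [LocallyOfFiniteType (X ↘ Spec (CommRingCat.of k))] [QuasiCompact (X ↘ Spec (CommRingCat.of k))]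
    (hdim : topologicalKrullDim X ≤ 1) :
    ∃ (k' : Type u) (_ : Field k') (_ : Algebra k k'), FiniteDimensional k k' ∧ IsPurelyInseparable k k' ∧
      ∃ (_ : IsIntegral (Curv2.bc k X k').nilradical.subscheme)
        (_ : QuasiCompact ((Curv2.bc k X k').nilradical.subscheme.fromSpecStalk
              (genericPoint (Curv2.bc k X k').nilradical.subscheme)))
        (_ : QuasiSeparated ((Curv2.bc k X k').nilradical.subscheme.fromSpecStalk
              (genericPoint (Curv2.bc k X k').nilradical.subscheme))),
        Smooth (Curv2.normalizationι (Curv2.bc k X k').nilradical.subscheme ≫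
          (Curv2.bc k X k').nilradical.subschemeι ≫ Curv2.bcSnd k X k') := by
  classical
  let κ := X.functionField
  letI : Algebra k κ := ((X.presheaf.germ ⊤ (genericPoint X) trivial).hom.comp
    (Coh.toGlobal (X ↘ Spec (CommRingCat.of k)))).toAlgebra
  let Ω := AlgebraicClosure κ
  let gX : Spec (CommRingCat.of Ω) ⟶ X :=
    Spec.map (CommRingCat.ofHom (algebraMap κ Ω)) ≫ X.fromSpecStalk (genericPoint X)
  have hgX : gX (IsLocalRing.closedPoint Ω) = genericPoint X := CurveNF.apply_closedPoint (g := gX) rfl
  have hgk : gX ≫ X ↘ Spec (CommRingCat.of k) = Spec.map (CommRingCat.ofHom (algebraMap k Ω)) := by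
    have e1 : X.fromSpecStalk (genericPoint X) ≫ X ↘ Spec (CommRingCat.of k) =
        Spec.map (CommRingCat.ofHom (algebraMap k κ)) := by
      rw [InsepNorm5.fromSpecStalk_comp_toSpec]
    rw [Category.assoc, e1, ← Spec.map_comp]
    congr 1
  haveI : CompactSpace X := QuasiCompact.compactSpace_of_compactSpace (X ↘ Spec (CommRingCat.of k))
  choose U hU hxU _h using fun x : X =>
    exists_isAffineOpen_mem_and_subset (X := X) (x := x) (U := ⊤) trivial
  obtain ⟨s, hs⟩ := isCompact_univ.elim_finite_subcover (fun x => (U x : Set X)) (fun x => (U x).2)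
    (fun x _ => Set.mem_iUnion.2 ⟨x, hxU x⟩)
  have hgU : ∀ x, gX (IsLocalRing.closedPoint Ω) ∈ U x := fun x => hgX.symm ▸ CurveNF.generic_mem ⟨x, hxU x⟩
  let K := perfectClosure k Ω
  haveI : PerfectField K := inferInstance
  have hlev : ∀ x : X, ∃ T : Finset Ω, ↑T ⊆ (K : Set Ω) ∧ ∀ F : IntermediateField k Ω, F ≤ K → ↑T ⊆ (F : Set Ω) →
      ∃ C : Subalgebra F Ω, Algebra.Smooth F C ∧ ∀ y : Ω,
        y ∈ C ↔ y ∈ IntermediateField.adjoin F (Set.range (InsepNorm5.ev gX (U x) (hgU x))) ∧
          IsIntegral (Algebra.adjoin F (Set.range (InsepNorm5.ev gX (U x) (hgU x)))) y := by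
    intro x
    exact InsepNorm5.exists_level_of_affine gX hgX hgk hdim K (hU x) ⟨x, hxU x⟩ (hgU x)
  choose T hT hT' using hlev
  let F : IntermediateField k Ω := IntermediateField.adjoin k (↑(s.biUnion T) : Set Ω)
  have hFK : F ≤ K := IntermediateField.adjoin_le_iff.2 fun z hz => by
    simp only [Finset.coe_biUnion, Set.mem_iUnion] at hz
    obtain ⟨x, -, hx⟩ := hz
    exact hT x hx
  haveI : IsPurelyInseparable k F := (le_perfectClosure_iff k Ω F).1 hFK
  haveI : FiniteDimensional k F := IntermediateField.finiteDimensional_adjoin fun z hz =>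
    (Algebra.IsIntegral.isIntegral (R := k) (⟨z, hFK (IntermediateField.subset_adjoin k _ hz)⟩ : K)).map K.val
  haveI hint := InsepNorm5.isIntegral_red (k := k) (X := X) F
  let Z := (Curv2.bc k X F).nilradical.subscheme
  haveI hqc := InsepNorm5.quasiCompact_fromSpecStalk Z
  haveI hqs := InsepNorm5.quasiSeparated_fromSpecStalk Z
  refine ⟨F, inferInstance, inferInstance, inferInstance, inferInstance, hint, hqc, hqs, ?_⟩
  let p : Z ⟶ X := (Curv2.bc k X F).nilradical.subschemeι ≫ Curv2.bcFst k X F
  let V : s → (Curv2.normalization Z).Opens := fun x => Curv2.normalizationι Z ⁻¹ᵁ (p ⁻¹ᵁ U x.1)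
  have hV : ⨆ x, V x = ⊤ := by
    refine top_le_iff.1 fun z _ => TopologicalSpace.Opens.mem_iSup.2 ?_
    obtain ⟨x, hx⟩ := Set.mem_iUnion.1 (hs (Set.mem_univ (p (Curv2.normalizationι Z z))))
    obtain ⟨hxs, hx⟩ := Set.mem_iUnion.1 hx
    exact ⟨⟨x, hxs⟩, hx⟩
  refine InsepNorm5.smooth_of_opens _ V hV (fun x => ?_)
  obtain ⟨C, hC, hCy⟩ := hT' x.1 F hFK fun z hz =>
    IntermediateField.subset_adjoin k _ (Finset.mem_biUnion.2 ⟨x.1, x.2, hz⟩)
  obtain ⟨μ, hμ, hμk, hμr⟩ := InsepNorm5.exists_data gX hgX hgk F (hU x.1) ⟨x.1, hxU x.1⟩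
  haveI : IsIntegralHom (Curv2.normalizationι Z) :=
    inferInstanceAs (IsIntegralHom (Z.fromSpecStalk (genericPoint Z)).fromNormalization)
  haveI : IsAffineHom (Curv2.bcFst k X F) := MorphismProperty.pullback_fst _ _ inferInstance
  refine ⟨((hU x.1).preimage p).preimage (Curv2.normalizationι Z), ?_⟩
  exact InsepNorm5.ringHom_smooth _ (Scheme.ΓSpecIso (CommRingCat.of F)) μ hμ hμk C hC fun y =>
    (hμr y).trans (hCy y).symm

end Groth.Agent.S12130
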