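import Groth.Statements.S12132
import Groth.Agent.Lib.LenMult11.Main

set_option autoImplicit false
universe u
open AssSch

namespace Groth.Agent.S12132

set_option maxHeartbeats 1000000 in

/-- Let B be a Noetherian local ring (the local ring of X at the generic point z of an irreducible
component Z of the support of F/tF), t an element of its maximal ideal, and M a finite B-module (the
stalk F_z) such that the support of M has positive dimension (Z is not an irreducible component of
Supp F) and M/tM has finite length (z is a maximal point of Supp(F/tF)). Then the length of M/tM is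
at least the sum, over the primes p of B minimal over the annihilator of M (the generic points of
the irreducible components of Supp F through z), of the lengths of the B_p-modules M_p; and the two
are equal if and only if t is a non-zero-divisor on M and for every such p the image of t generates
the maximal ideal of B/p (so that B/p is a discrete valuation ring with uniformizer t). -/
theorem result {B : Type u} [CommRing B] [IsNoetherianRing B]
    [IsLocalRing B] (t : B) (ht : t ∈ IsLocalRing.maximalIdeal B)
    (M : Type u) [AddCommGroup M] [Module B M] [Module.Finite B M]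
    (hdim : 0 < Module.supportDim B M)
    (hfin : Module.length B (M ⧸ (Ideal.span {t} • (⊤ : Submodule B M))) ≠ ⊤) :
    (∑ᶠ p : (Module.annihilator B M).minimalPrimes,
        haveI : p.1.IsPrime := p.2.1.1
        Module.length (Localization.AtPrime p.1) (LocalizedModule p.1.primeCompl M)) ≤
      Module.length B (M ⧸ (Ideal.span {t} • (⊤ : Submodule B M))) ∧
    ((∑ᶠ p : (Module.annihilator B M).minimalPrimes,
        haveI : p.1.IsPrime := p.2.1.1
        Module.length (Localization.AtPrime p.1) (LocalizedModule p.1.primeCompl M)) =
      Module.length B (M ⧸ (Ideal.span {t} • (⊤ : Submodule B M))) ↔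
    IsSMulRegular M t ∧
      ∀ p : (Module.annihilator B M).minimalPrimes,
        Ideal.map (Ideal.Quotient.mk p.1) (IsLocalRing.maximalIdeal B) =
          Ideal.span {Ideal.Quotient.mk p.1 t}) := by
  have h1 := Groth.Agent.LenMult11.supportDim_le_one ht hfin
  have hoff : ∀ p : (Module.annihilator B M).minimalPrimes,
      (⟨p.1, p.2.1.1⟩ : PrimeSpectrum B) ∈ Groth.Agent.LenMult11.offSet B M := fun p => by
    refine ⟨Module.mem_support_iff_of_finite.2 p.2.1.2, fun hp => absurd hdim (not_lt.2 ?_)⟩
    rw [Module.supportDim]
    refine Order.krullDim_nonpos_iff_forall_isMax.2 fun q r hqr => ?_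
    replace hp : p.1 = IsLocalRing.maximalIdeal B := hp
    have hq : ∀ s : Module.support B M, s.1.asIdeal = IsLocalRing.maximalIdeal B := fun s =>
      le_antisymm (IsLocalRing.le_maximalIdeal s.1.2.ne_top)
        (hp ▸ p.2.2 ⟨s.1.2, Module.mem_support_iff_of_finite.1 s.2⟩ (hp ▸ IsLocalRing.le_maximalIdeal s.1.2.ne_top))
    exact le_of_eq (Subtype.ext (PrimeSpectrum.ext ((hq r).trans (hq q).symm)))
  have hmin : ∀ p : PrimeSpectrum B, p ∈ Groth.Agent.LenMult11.offSet B M →
      p.asIdeal ∈ (Module.annihilator B M).minimalPrimes := fun p hp =>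
    ⟨⟨p.2, Module.mem_support_iff_of_finite.1 hp.1⟩, fun q hq hqp =>
      (congrArg PrimeSpectrum.asIdeal (Groth.Agent.LenMult11.eq_of_le_of_supportDim_le_one h1 hp.1 hp.2
        (q := ⟨q, hq.1⟩) (Module.mem_support_iff_of_finite.2 hq.2) hqp)).ge⟩
  obtain ⟨hle, hiff⟩ := Groth.Agent.LenMult11.main ht hfin
  have e := Groth.Agent.LenMult11.finsum_minimalPrimes_eq (M := M) (Module.annihilator B M)
    (fun p => Groth.Agent.Herbrand26.locLen p M) hmin (fun p hp hn => absurd (hoff ⟨p.asIdeal, hp⟩) hn)
  dsimp only [Groth.Agent.Herbrand26.locLen] at e hle hiff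
  rw [e]
  refine ⟨hle, ?_⟩
  rw [hiff]
  refine and_congr_right' ⟨fun h p => ?_, fun h p hp => ?_⟩
  · exact h (⟨p.1, p.2.1.1⟩ : PrimeSpectrum B) (hoff p)
  · exact h ⟨p.asIdeal, hmin p hp⟩

end Groth.Agent.S12132
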