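import Groth.Statements.S12133
import Groth.Agent.Lib.GrGen11.Basic

set_option autoImplicit false
universe u
open EGA2

namespace Groth.Agent.S12133

open CategoryTheory AlgebraicGeometry Opposite in
/-- Let Y be a scheme, 𝒮 a quasi-coherent positively graded O_Y-algebra, and (U_i) a finite cover of Y
by affine open sets such that each graded ring 𝒮(U_i) is an algebra of finite type over O_Y(U_i).
Then there is an integer d > 0 such that for every i: 𝒮(U_i)_{nd} = (𝒮(U_i)_d)^n for all n > 0 (as
additive subgroups of the ring 𝒮(U_i); that is, 𝒮^{(d)} is generated by 𝒮_d), and 𝒮(U_i)_d is a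
finitely generated module over the degree-zero subring 𝒮(U_i)_0. (The published statement says 𝒮_d
is an O_Y-module of finite type; its proof gives finite generation over 𝒮_0, which is what is stated
here — for 𝒮 = O_Y[x][T] with x of degree 0 and T of degree 1 over an affine Y, 𝒮 is of finite type
but 𝒮_1 = O_Y[x] T is not a finitely generated O_Y-module.) -/
theorem result {Y : Scheme.{u}} (𝒮 : RelProj.QCGrAlg Y)
    {ι : Type u} [Finite ι] (U : ι → Y.Opens) (hU : ∀ i, IsAffineOpen (U i)) (hcov : ⨆ i, U i = ⊤)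
    (hft : ∀ i, (𝒮.str.app (op (U i))).hom.FiniteType) :
    ∃ d : ℕ, 0 < d ∧ ∀ i,
      (∀ n : ℕ, 0 < n →
        AddSubgroup.toIntSubmodule (𝒮.deg (U i) (hU i) (n * d)) =
          AddSubgroup.toIntSubmodule (𝒮.deg (U i) (hU i) d) ^ n) ∧
      ∃ T : Finset (𝒮.presheaf.obj (op (U i))),
        (↑T : Set (𝒮.presheaf.obj (op (U i)))) ⊆ (𝒮.deg (U i) (hU i) d : Set (𝒮.presheaf.obj (op (U i)))) ∧
        AddSubgroup.toIntSubmodule (𝒮.deg (U i) (hU i) d) =
          AddSubgroup.toIntSubmodule (𝒮.deg (U i) (hU i) 0) *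
            Submodule.span ℤ (↑T : Set (𝒮.presheaf.obj (op (U i)))) := by
  classical
  have := Fintype.ofFinite ι
  choose l n₁ hl hper using fun i => Groth.Agent.GrGen11.exists_period (𝒮.str.app (op (U i))).hom
    (𝒮.deg (U i) (hU i)) (𝒮.str_mem (U i) (hU i)) (hft i)
  let d := (∏ i, l i) * (1 + ∑ i, n₁ i)
  have hP : 0 < ∏ i, l i := Finset.prod_pos fun i _ => hl i
  have hd : 0 < d := Nat.mul_pos hP (by omega)
  refine ⟨d, hd, fun i => ⟨fun n hn => ?_, Groth.Agent.GrGen11.exists_finset _ _ (𝒮.str_mem (U i) (hU i)) (hft i) d⟩⟩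
  obtain ⟨c, hc⟩ : l i ∣ d := Dvd.dvd.mul_right (Finset.dvd_prod_of_mem l (Finset.mem_univ i)) _
  have hcpos : 0 < c := by
    rcases Nat.eq_zero_or_pos c with h | h
    · subst h; simp at hc; omega
    · exact h
  have hnd : n₁ i ≤ d := by
    calc n₁ i ≤ 1 + ∑ i, n₁ i := (Finset.single_le_sum (fun j _ => Nat.zero_le _) (Finset.mem_univ i)).trans (Nat.le_add_left _ _)
      _ ≤ d := Nat.le_mul_of_pos_left _ hP
  induction n with
  | zero => omega
  | succ n ih =>
    rcases Nat.eq_zero_or_pos n with rfl | hn'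
    · rw [Nat.zero_add, one_mul, pow_one]
    · rw [pow_succ', ← ih hn', show (n + 1) * d = n * d + c * l i by rw [hc]; ring,
        hper i c hcpos (n * d) (hnd.trans (Nat.le_mul_of_pos_left _ hn')), ← show d = c * l i by rw [hc]; ring]

end Groth.Agent.S12133
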