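import Groth.Statements.S12134
import Groth.Agent.Lib.NormStrat5.Basic
-- import your own Groth.Agent.* helpers here

set_option autoImplicit false
universe u
open scoped TensorProduct
open EGA43

namespace Groth.Agent.S12134

open AlgebraicGeometry CategoryTheory in
/-- Suppose A₀ is a Noetherian ring and B₀ is a finitely generated A₀-algebra; fix an ideal J₀ ⊆ B₀ and
a finite B₀-module M₀. Then Spec A₀ admits finitely many affine subschemes S_1, …, S_m — presented
as immersions Spec A_i → Spec A₀ — whose underlying sets are mutually disjoint with union all of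
Spec A₀, such that each S_i is open in S_i ∪ S_{i+1} ∪ … ∪ S_m, and such that for each i, setting
N_i = A_i ⊗_{A₀} M₀, the graded module associated to the J₀-adic filtration on N_i is A_i-flat.
Concretely, for every n the A_i-module J₀ⁿN_i / J₀ⁿ⁺¹N_i is flat, where this quotient is encoded as
the image of J₀ⁿN_i inside N_i / J₀ⁿ⁺¹N_i, and J₀ⁿN_i denotes the image in N_i of A_i ⊗_{A₀} J₀ⁿM₀. -/
theorem result {A₀ : Type u} [CommRing A₀] [IsNoetherianRing A₀]
    {B₀ : Type u} [CommRing B₀] [Algebra A₀ B₀] [Algebra.FiniteType A₀ B₀] (J₀ : Ideal B₀)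
    (M₀ : Type u) [AddCommGroup M₀] [Module B₀ M₀] [Module A₀ M₀] [IsScalarTower A₀ B₀ M₀]
    [Module.Finite B₀ M₀] :
    ∃ (m : ℕ) (A : Fin m → Type u) (_ : ∀ i, CommRing (A i)) (_ : ∀ i, Algebra A₀ (A i)),
      (∀ i, IsImmersion (Spec.map (CommRingCat.ofHom (algebraMap A₀ (A i))))) ∧
      (∀ i j, i ≠ j → Disjoint (Set.range (Spec.map (CommRingCat.ofHom (algebraMap A₀ (A i)))))
        (Set.range (Spec.map (CommRingCat.ofHom (algebraMap A₀ (A j)))))) ∧
      (⋃ i, Set.range (Spec.map (CommRingCat.ofHom (algebraMap A₀ (A i)))) = Set.univ) ∧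
      (∀ i, ∃ U : Set (Spec (CommRingCat.of A₀)), IsOpen U ∧
        U ∩ (⋃ j, ⋃ (_ : i ≤ j), Set.range (Spec.map (CommRingCat.ofHom (algebraMap A₀ (A j))))) =
          Set.range (Spec.map (CommRingCat.ofHom (algebraMap A₀ (A i))))) ∧
      ∀ i (n : ℕ), Module.Flat (A i)
        ↥(Submodule.map
            (LinearMap.range (LinearMap.baseChange (A i)
              ((J₀ ^ (n + 1) • (⊤ : Submodule B₀ M₀)).restrictScalars A₀).subtype)).mkQ
            (LinearMap.range (LinearMap.baseChange (A i)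
              ((J₀ ^ n • (⊤ : Submodule B₀ M₀)).restrictScalars A₀).subtype))) := by
  obtain ⟨m, P, f, h1, h2, h3, h4⟩ := Groth.Agent.NormStrat5.exists_strata J₀ M₀ (⊥ : Ideal A₀)
  let A : Fin m → Type u := fun i => Localization.Away (Ideal.Quotient.mk (P i).asIdeal (f i))
  have hrange : ∀ i, Set.range (Spec.map (CommRingCat.ofHom (algebraMap A₀ (A i)))) =
      (PrimeSpectrum.zeroLocus ((P i).asIdeal : Set A₀) ∩ PrimeSpectrum.basicOpen (f i) : Set (PrimeSpectrum A₀)) := by
    intro i
    show Set.range (PrimeSpectrum.comap (algebraMap A₀ (A i))) = _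
    rw [IsScalarTower.algebraMap_eq A₀ (A₀ ⧸ (P i).asIdeal) (A i), PrimeSpectrum.comap_comp, Set.range_comp,
      PrimeSpectrum.localization_away_comap_range (A i) (Ideal.Quotient.mk (P i).asIdeal (f i))]
    ext q
    constructor
    · rintro ⟨z, hz, rfl⟩
      refine ⟨fun a ha => ?_, hz⟩
      show Ideal.Quotient.mk (P i).asIdeal a ∈ z.asIdeal
      rw [Ideal.Quotient.eq_zero_iff_mem.2 ha]
      exact zero_mem _
    · rintro ⟨hq, hqf⟩
      obtain ⟨z, rfl⟩ : q ∈ Set.range (PrimeSpectrum.comap (Ideal.Quotient.mk (P i).asIdeal)) := by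
        rw [range_comap_of_surjective _ _ Ideal.Quotient.mk_surjective, Ideal.mk_ker]
        exact hq
      exact ⟨z, hqf, rfl⟩
  have himm : ∀ i, IsImmersion (Spec.map (CommRingCat.ofHom (algebraMap A₀ (A i)))) := by
    intro i
    rw [IsScalarTower.algebraMap_eq A₀ (A₀ ⧸ (P i).asIdeal) (A i), CommRingCat.ofHom_comp, Spec.map_comp]
    haveI : IsClosedImmersion (Spec.map (CommRingCat.ofHom (algebraMap A₀ (A₀ ⧸ (P i).asIdeal)))) :=
      IsClosedImmersion.spec_of_surjective _ Ideal.Quotient.mk_surjective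
    haveI : IsOpenImmersion (Spec.map (CommRingCat.ofHom (algebraMap (A₀ ⧸ (P i).asIdeal) (A i)))) :=
      IsOpenImmersion.of_isLocalization (Ideal.Quotient.mk (P i).asIdeal (f i))
    infer_instance
  refine ⟨m, A, fun i => inferInstance, fun i => inferInstance, himm, fun i j hij => ?_, ?_, fun i => ?_, fun i n => ?_⟩
  · rw [hrange, hrange]
    exact h2 i j hij
  · simp only [hrange]
    refine h3.trans ?_
    rw [Submodule.bot_coe, PrimeSpectrum.zeroLocus_singleton_zero]
    rfl
  · obtain ⟨U, hU, hUeq⟩ := h4 i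
    refine ⟨U, hU, ?_⟩
    simp only [hrange]
    exact hUeq
  · refine h1 i (A i) ?_ (fun a ha => ?_) n
    · rw [IsScalarTower.algebraMap_apply A₀ (A₀ ⧸ (P i).asIdeal) (A i)]
      exact IsLocalization.Away.algebraMap_isUnit (Ideal.Quotient.mk (P i).asIdeal (f i))
    · rw [IsScalarTower.algebraMap_apply A₀ (A₀ ⧸ (P i).asIdeal) (A i), Ideal.Quotient.algebraMap_eq,
        Ideal.Quotient.eq_zero_iff_mem.2 ha, map_zero]

end Groth.Agent.S12134
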