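import Groth.Statements.S12136
import Groth.Agent.Lib.AdicSmooth.Deriv
import Mathlib.RingTheory.Filtration
import Mathlib.RingTheory.Derivation.Basic
import Mathlib.Algebra.TrivSqZeroExt.Ideal

set_option autoImplicit false
universe u
open TensorProduct KaehlerDifferential
open EGA41

namespace Groth.Agent.S12136

section
variable {A B : Type u} [CommRing A] [CommRing B] [Algebra A B] (I J : Ideal B)

/-- Kernel of `B → (B/J)/Q`. -/
def bigP (Q : Ideal (B ⧸ J)) : Ideal B := Q.comap (Ideal.Quotient.mk J)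

theorem toTop_surjective (Q : Ideal (B ⧸ J)) : Function.Surjective (algebraMap B ((B ⧸ J) ⧸ Q)) :=
  Ideal.Quotient.mk_surjective.comp Ideal.Quotient.mk_surjective

theorem algebraMap_top_eq_zero {Q : Ideal (B ⧸ J)} {x : B} :
    algebraMap B ((B ⧸ J) ⧸ Q) x = 0 ↔ x ∈ bigP J Q := Ideal.Quotient.eq_zero_iff_mem

theorem mem_ker_iff {x : B} : x ∈ RingHom.ker (algebraMap B (B ⧸ J)) ↔ x ∈ J :=
  Ideal.Quotient.eq_zero_iff_mem

theorem pow_le_bigP {n : ℕ} {Q : Ideal (B ⧸ J)} (h : (I.map (Ideal.Quotient.mk J)) ^ n ≤ Q) :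
    I ^ n ≤ bigP J Q :=
  Ideal.map_le_iff_le_comap.mp ((Ideal.map_pow (Ideal.Quotient.mk J) I n).le.trans h)

theorem le_bigP (Q : Ideal (B ⧸ J)) : J ≤ bigP J Q := fun x hx => by
  show Ideal.Quotient.mk J x ∈ Q
  rw [Ideal.Quotient.eq_zero_iff_mem.mpr hx]
  exact zero_mem Q

theorem bigP_pow_le {m : ℕ} {Q : Ideal (B ⧸ J)} (h : Q ^ m ≤ I.map (Ideal.Quotient.mk J)) :
    bigP J Q ^ m ≤ I ⊔ J := by
  refine (Ideal.le_comap_pow (Ideal.Quotient.mk J) m).trans ((Ideal.comap_mono h).trans ?_)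
  rw [Ideal.comap_map_of_surjective _ Ideal.Quotient.mk_surjective, ← RingHom.ker_eq_comap_bot, Ideal.mk_ker]

theorem extend_derivation (h : CAlgX.IsAdicFormallySmooth A (B ⧸ J) (I.map (Ideal.Quotient.mk J)))
    (N : Type u) [AddCommGroup N] [Module B N] [Module A N] [IsScalarTower A B N] [Module Bᵐᵒᵖ N]
    [IsCentralScalar B N] (l : ℕ)
    (h' : ↥(RingHom.ker (algebraMap B (B ⧸ J)) ⊔ I ^ l) →ₗ[B] N)
    (hS : ∀ x ∈ RingHom.ker (algebraMap B (B ⧸ J)) ⊔ I ^ l, ∀ y : N, x • y = 0) :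
    ∃ D : Derivation A B N, ∀ x (hx : x ∈ RingHom.ker (algebraMap B (B ⧸ J))),
      D x = h' ⟨x, Ideal.mem_sup_left hx⟩ := by
  let G : Ideal (TrivSqZeroExt B N) :=
    { carrier := {e | ∃ hx : e.fst ∈ RingHom.ker (algebraMap B (B ⧸ J)) ⊔ I ^ l, e.snd = -h' ⟨e.fst, hx⟩}
      add_mem' := by
        rintro a b ⟨ha, ha'⟩ ⟨hb, hb'⟩
        refine ⟨add_mem ha hb, (TrivSqZeroExt.snd_add a b).trans ?_⟩
        rw [ha', hb', ← neg_add, ← map_add]
        rfl
      zero_mem' := ⟨zero_mem _, (TrivSqZeroExt.snd_zero).trans (neg_eq_zero.mpr (map_zero h')).symm⟩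
      smul_mem' := by
        rintro c a ⟨ha, ha'⟩
        refine ⟨Ideal.mul_mem_left _ c.fst ha, (TrivSqZeroExt.snd_mul c a).trans ?_⟩
        rw [op_smul_eq_smul, hS _ ha, add_zero, ha', smul_neg, ← map_smul]
        rfl }
  let π0 : TrivSqZeroExt B N →ₐ[A] B ⧸ (RingHom.ker (algebraMap B (B ⧸ J)) ⊔ I ^ l) :=
    (Ideal.Quotient.mkₐ A _).comp ((TrivSqZeroExt.fstHom B B N).restrictScalars A)
  have hG : ∀ x ∈ G, π0 x = 0 := fun x hx => Ideal.Quotient.eq_zero_iff_mem.mpr hx.1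
  let π : (TrivSqZeroExt B N ⧸ G) →ₐ[A] B ⧸ (RingHom.ker (algebraMap B (B ⧸ J)) ⊔ I ^ l) :=
    Ideal.Quotient.liftₐ G π0 hG
  let ι : N →+ TrivSqZeroExt B N ⧸ G :=
    (Ideal.Quotient.mk G).toAddMonoidHom.comp (TrivSqZeroExt.inrHom B N).toAddMonoidHom
  have hι : Function.Injective ι := by
    refine (injective_iff_map_eq_zero ι).mpr fun y hy => ?_
    obtain ⟨hx, he⟩ := Ideal.Quotient.eq_zero_iff_mem.mp hy
    exact (TrivSqZeroExt.snd_inr B y).symm.trans (he.trans (neg_eq_zero.mpr (map_zero h')))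
  have hrange : ∀ e, π e = 0 → ∃ y, ι y = e := by
    intro e he
    obtain ⟨e, rfl⟩ := Ideal.Quotient.mk_surjective e
    have hfst : e.fst ∈ RingHom.ker (algebraMap B (B ⧸ J)) ⊔ I ^ l := Ideal.Quotient.eq_zero_iff_mem.mp he
    refine ⟨e.snd + h' ⟨e.fst, hfst⟩, Ideal.Quotient.eq.mpr ?_⟩
    have hf : (TrivSqZeroExt.inr (e.snd + h' ⟨e.fst, hfst⟩) - e : TrivSqZeroExt B N).fst = -e.fst := by simp
    refine ⟨(congrArg (· ∈ _) hf).mpr (neg_mem hfst), (TrivSqZeroExt.snd_sub _ _).trans ?_⟩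
    have he' : h' ⟨_, (congrArg (· ∈ RingHom.ker (algebraMap B (B ⧸ J)) ⊔ I ^ l) hf).mpr (neg_mem hfst)⟩ = - h' ⟨e.fst, hfst⟩ := by
      rw [← map_neg]
      exact congrArg h' (Subtype.ext hf)
    refine ((congrArg (· - e.snd) (TrivSqZeroExt.snd_inr B _)).trans (add_sub_cancel_left _ _)).trans ?_
    exact (neg_eq_iff_eq_neg.mpr he').symm
  have hπs : Function.Surjective π := fun y => by
    obtain ⟨b, rfl⟩ := Ideal.Quotient.mk_surjective y
    exact ⟨Ideal.Quotient.mk G (TrivSqZeroExt.inl b), rfl⟩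
  have hnil : IsNilpotent (RingHom.ker π) := by
    refine ⟨2, le_bot_iff.mp ?_⟩
    rw [Submodule.pow_succ, Submodule.pow_one]
    refine Ideal.mul_le.mpr fun x hx y hy => ?_
    obtain ⟨a, rfl⟩ := hrange x hx
    obtain ⟨b, rfl⟩ := hrange y hy
    show Ideal.Quotient.mk G (TrivSqZeroExt.inr a) * Ideal.Quotient.mk G (TrivSqZeroExt.inr b) ∈ _
    rw [← map_mul, TrivSqZeroExt.inr_mul_inr, map_zero]
    exact zero_mem _
  let u : B ⧸ J →ₐ[A] B ⧸ (RingHom.ker (algebraMap B (B ⧸ J)) ⊔ I ^ l) :=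
    Ideal.Quotient.factorₐ A (fun x hx => Ideal.mem_sup_left ((mem_ker_iff J).mpr hx))
  obtain ⟨χ, hχ⟩ := AdicSmooth.exists_lift_of_surjective h π hπs hnil u ⟨l, fun x hx => by
    rw [← Ideal.map_pow] at hx
    obtain ⟨y, hy, rfl⟩ := (Ideal.mem_map_iff_of_surjective _ Ideal.Quotient.mk_surjective).mp hx
    exact Ideal.Quotient.eq_zero_iff_mem.mpr (Ideal.mem_sup_right hy)⟩
  let inl : B →+* TrivSqZeroExt B N ⧸ G := (Ideal.Quotient.mk G).comp (TrivSqZeroExt.inlHom B N)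
  have hd : ∀ b, ∃ y, ι y = inl b - χ (Ideal.Quotient.mk J b) := fun b => hrange _ (by
    rw [map_sub, show π (χ (Ideal.Quotient.mk J b)) = u (Ideal.Quotient.mk J b) from AlgHom.congr_fun hχ _]
    exact sub_eq_zero.mpr rfl)
  choose d hd using hd
  have hsmul : ∀ (b : B) (y : N), ι (b • y) = inl b * ι y := fun b y => by
    show Ideal.Quotient.mk G (TrivSqZeroExt.inr (b • y)) =
      Ideal.Quotient.mk G (TrivSqZeroExt.inl b) * Ideal.Quotient.mk G (TrivSqZeroExt.inr y)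
    rw [← map_mul, TrivSqZeroExt.inl_mul_inr]
  have halg : ∀ a, inl (algebraMap A B a) = algebraMap A _ a := fun a => rfl
  let D : Derivation A B N :=
    { toFun := d
      map_add' := fun x y => hι (by rw [map_add ι, hd, hd, hd, map_add, map_add, map_add]; ring)
      map_smul' := fun a x => hι (by
        rw [RingHom.id_apply, ← IsScalarTower.algebraMap_smul B a (d x), hsmul, hd, hd, halg, Algebra.smul_def,
          map_mul, map_mul, map_mul, halg]
        rw [show χ (Ideal.Quotient.mk J (algebraMap A B a)) = algebraMap A _ a from χ.commutes a]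
        ring)
      map_one_eq_zero' := hι (by
        show ι (d 1) = ι 0
        rw [hd, map_zero ι, map_one, map_one, map_one, sub_self])
      leibniz' := fun x y => hι (by
        show ι (d (x * y)) = ι (x • d y + y • d x)
        have hsq : ι (d x) * ι (d y) = 0 := by
          show Ideal.Quotient.mk G (TrivSqZeroExt.inr (d x)) * Ideal.Quotient.mk G (TrivSqZeroExt.inr (d y)) = 0
          rw [← map_mul, TrivSqZeroExt.inr_mul_inr, map_zero]
        rw [map_add ι, hsmul, hsmul, hd, map_mul, map_mul, map_mul]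
        rw [hd x, hd y] at hsq
        rw [hd, hd]
        linear_combination -hsq) }
  refine ⟨D, fun x hx => hι ?_⟩
  show ι (d x) = _
  rw [hd, Ideal.Quotient.eq_zero_iff_mem.mpr ((mem_ker_iff J).mp hx), map_zero χ, sub_zero]
  refine Ideal.Quotient.eq.mpr ?_
  have hf : (TrivSqZeroExt.inl x - TrivSqZeroExt.inr (h' ⟨x, Ideal.mem_sup_left hx⟩) : TrivSqZeroExt B N).fst = x := by
    simp
  refine ⟨(congrArg (· ∈ _) hf).mpr (Ideal.mem_sup_left hx), (TrivSqZeroExt.snd_sub _ _).trans ?_⟩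
  refine ((congrArg₂ (· - ·) (TrivSqZeroExt.snd_inl N x) (TrivSqZeroExt.snd_inr B _)).trans (zero_sub _)).trans ?_
  exact congrArg Neg.neg (congrArg h' (Subtype.ext hf.symm))

theorem exists_leftInverse [IsNoetherianRing B] (Q : Ideal (B ⧸ J))
    (hQ : ∃ n : ℕ, (I.map (Ideal.Quotient.mk J)) ^ n ≤ Q)
    (h : CAlgX.IsAdicFormallySmooth A (B ⧸ J) (I.map (Ideal.Quotient.mk J))) :
    ∃ g : ((B ⧸ J) ⧸ Q) ⊗[B] ((B ⧸ J) ⊗[B] Ω[B⁄A]) →ₗ[(B ⧸ J) ⧸ Q]
          ((B ⧸ J) ⧸ Q) ⊗[B] (RingHom.ker (algebraMap B (B ⧸ J))).Cotangent,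
        g ∘ₗ LinearMap.baseChange ((B ⧸ J) ⧸ Q) (KaehlerDifferential.kerCotangentToTensor A B (B ⧸ J)) =
          LinearMap.id := by
  classical
  obtain ⟨n, hn⟩ := hQ
  have hIP := pow_le_bigP I J hn
  let N := ((B ⧸ J) ⧸ Q) ⊗[B] (RingHom.ker (algebraMap B (B ⧸ J))).Cotangent
  have hPN : ∀ x ∈ bigP J Q, ∀ y : N, x • y = 0 := by
    intro x hx y
    rw [← IsScalarTower.algebraMap_smul ((B ⧸ J) ⧸ Q) x y, (algebraMap_top_eq_zero J).mpr hx]
    exact zero_smul ((B ⧸ J) ⧸ Q) y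
  let K := RingHom.ker (algebraMap B (B ⧸ J))
  let h0 : ↥K →ₗ[B] N :=
    (TensorProduct.mk B ((B ⧸ J) ⧸ Q) (RingHom.ker (algebraMap B (B ⧸ J))).Cotangent 1) ∘ₗ K.toCotangent
  obtain ⟨k₀, hk₀⟩ := Ideal.exists_pow_inf_eq_pow_smul I (K : Submodule B B)
  let l := k₀ + n
  have hvan : ∀ x (hx : x ∈ K), x ∈ I ^ l → h0 ⟨x, hx⟩ = 0 := by
    intro x hx hxI
    have h1 : x ∈ I ^ (l - k₀) • (I ^ k₀ • (⊤ : Submodule B B) ⊓ (K : Submodule B B)) := by
      rw [← hk₀ l (Nat.le_add_right k₀ n)]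
      exact ⟨by simpa using hxI, hx⟩
    have h2 : (⟨x, hx⟩ : ↥K) ∈ I ^ n • (⊤ : Submodule B ↥K) := by
      rw [show l - k₀ = n by omega] at h1
      have h3 : x ∈ I ^ n • (K : Submodule B B) := Submodule.smul_mono le_rfl inf_le_right h1
      refine (Submodule.mem_smul_top_iff (I ^ n) (K : Submodule B B) ⟨x, hx⟩).mpr h3
    refine Submodule.smul_induction_on h2 (fun r hr y _ => ?_) fun a b ha hb => by rw [map_add, ha, hb, add_zero]
    rw [map_smul, hPN r (hIP hr)]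
  let co : (↥K × ↥(I ^ l)) →ₗ[B] ↥(K ⊔ I ^ l) :=
    (Submodule.inclusion (le_sup_left : K ≤ K ⊔ I ^ l)).coprod (Submodule.inclusion (le_sup_right : I ^ l ≤ K ⊔ I ^ l))
  have hco : Function.Surjective co := by
    rintro ⟨x, hx⟩
    obtain ⟨a, ha, b, hb, rfl⟩ := Submodule.mem_sup.mp hx
    exact ⟨(⟨a, ha⟩, ⟨b, hb⟩), Subtype.ext rfl⟩
  have hker : LinearMap.ker co ≤ LinearMap.ker (h0 ∘ₗ LinearMap.fst B ↥K ↥(I ^ l)) := by
    rintro ⟨⟨a, ha⟩, ⟨b, hb⟩⟩ hab
    have he : a + b = 0 := congrArg Subtype.val hab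
    refine hvan a ha ?_
    rw [eq_neg_of_add_eq_zero_left he]
    exact neg_mem hb
  let h' : ↥(K ⊔ I ^ l) →ₗ[B] N :=
    (Submodule.liftQ _ _ hker) ∘ₗ (co.quotKerEquivOfSurjective hco).symm.toLinearMap
  have hh' : ∀ x (hx : x ∈ K), h' ⟨x, Ideal.mem_sup_left hx⟩ = h0 ⟨x, hx⟩ := by
    intro x hx
    have : (co.quotKerEquivOfSurjective hco).symm ⟨x, Ideal.mem_sup_left hx⟩ =
        Submodule.Quotient.mk ((⟨x, hx⟩ : ↥K), (0 : ↥(I ^ l))) := by
      rw [LinearEquiv.symm_apply_eq]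
      exact Subtype.ext (show x = x + 0 by rw [add_zero])
    show Submodule.liftQ _ _ hker ((co.quotKerEquivOfSurjective hco).symm _) = _
    rw [this]
    rfl
  have hle : K ⊔ I ^ l ≤ bigP J Q :=
    sup_le (fun y hy => le_bigP J Q ((mem_ker_iff J).mp hy))
      ((Ideal.pow_le_pow_right (Nat.le_add_left n k₀)).trans hIP)
  obtain ⟨D, hD'⟩ := extend_derivation I J h N l h' (fun x hx => hPN x (hle hx))
  have hD : ∀ x (hx : x ∈ K), D x = h0 ⟨x, hx⟩ := fun x hx => (hD' x hx).trans (hh' x hx)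
  let g0 : (B ⧸ J) ⊗[B] Ω[B⁄A] →ₗ[B] N := ((D.liftKaehlerDifferential).liftBaseChange (B ⧸ J)).restrictScalars B
  refine ⟨g0.liftBaseChange ((B ⧸ J) ⧸ Q), TensorProduct.AlgebraTensorModule.ext fun t c => ?_⟩
  obtain ⟨⟨x, hx⟩, rfl⟩ := Ideal.toCotangent_surjective _ c
  simp only [LinearMap.comp_apply, LinearMap.baseChange_tmul, LinearMap.liftBaseChange_tmul,
    KaehlerDifferential.kerCotangentToTensor_toCotangent, g0, LinearMap.restrictScalars_apply, LinearMap.id_coe, id_eq,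
    Derivation.liftKaehlerDifferential_comp_D, one_smul]
  rw [hD x hx]
  show t • ((1 : (B ⧸ J) ⧸ Q) ⊗ₜ[B] _) = _
  rw [TensorProduct.smul_tmul', smul_eq_mul, mul_one]

theorem exists_derivation [IsNoetherianRing B] (hB : CAlgX.IsAdicFormallySmooth A B I) (Q : Ideal (B ⧸ J)) {n : ℕ}
    (hn : (I.map (Ideal.Quotient.mk J)) ^ n ≤ Q)
    (g : ((B ⧸ J) ⧸ Q) ⊗[B] ((B ⧸ J) ⊗[B] Ω[B⁄A]) →ₗ[(B ⧸ J) ⧸ Q]
          ((B ⧸ J) ⧸ Q) ⊗[B] (RingHom.ker (algebraMap B (B ⧸ J))).Cotangent)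
    (hg : g ∘ₗ LinearMap.baseChange ((B ⧸ J) ⧸ Q) (KaehlerDifferential.kerCotangentToTensor A B (B ⧸ J)) =
          LinearMap.id) (r : ℕ) :
    ∀ (N : Type u) [AddCommGroup N] [Module B N] [Module A N] [IsScalarTower A B N],
      (∀ x ∈ bigP J Q ^ r, ∀ y : N, x • y = 0) → (∀ x ∈ J, ∀ y : N, x • y = 0) →
      ∀ h : ↥(RingHom.ker (algebraMap B (B ⧸ J))) →ₗ[B] N,
        ∃ D : Derivation A B N, ∀ x : ↥(RingHom.ker (algebraMap B (B ⧸ J))), D (x : B) = h x := by
  induction r with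
  | zero =>
    intro N _ _ _ _ hr _ h
    have h0 : ∀ y : N, y = 0 := fun y => by simpa using hr 1 (by simp) y
    exact ⟨0, fun x => by rw [h0 (h x)]; rfl⟩
  | succ r ih =>
    intro N _ _ _ _ hr hJ h
    let M : Submodule B N := bigP J Q ^ r • ⊤
    obtain ⟨D'', hD''⟩ := ih (N ⧸ M)
      (fun x hx y => by
        obtain ⟨y, rfl⟩ := Submodule.Quotient.mk_surjective _ y
        rw [← Submodule.Quotient.mk_smul, Submodule.Quotient.mk_eq_zero]
        exact Submodule.smul_mem_smul hx trivial)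
      (fun x hx y => by
        obtain ⟨y, rfl⟩ := Submodule.Quotient.mk_surjective _ y
        rw [← Submodule.Quotient.mk_smul, hJ x hx, Submodule.Quotient.mk_zero])
      (M.mkQ ∘ₗ h)
    obtain ⟨D, hD⟩ := AdicSmooth.derivation_lift hB (n * (r + 1)) (fun x hx y => hr x (by
      rw [pow_mul] at hx
      exact Ideal.pow_right_mono (pow_le_bigP I J hn) _ hx) y) M.mkQ M.mkQ_surjective D''
    have hres : ∀ x : ↥(RingHom.ker (algebraMap B (B ⧸ J))), h x - D (x : B) ∈ M := fun x => by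
      rw [← Submodule.Quotient.eq]
      exact ((hD (x : B)).trans (hD'' x)).symm
    let res : ↥(RingHom.ker (algebraMap B (B ⧸ J))) →ₗ[B] ↥M :=
      { toFun := fun x => ⟨h x - D (x : B), hres x⟩
        map_add' := fun x y => Subtype.ext (by
          show h (x + y) - D ((x : B) + (y : B)) = (h x - D (x : B)) + (h y - D (y : B))
          rw [map_add, map_add]; abel)
        map_smul' := fun b x => Subtype.ext (by
          show h (b • x) - D (b * (x : B)) = b • (h x - D (x : B))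
          rw [map_smul, Derivation.leibniz, hJ _ ((mem_ker_iff J).mp x.2), add_zero, smul_sub]) }
    have hsq : RingHom.ker (algebraMap B (B ⧸ J)) • (⊤ : Submodule B ↥(RingHom.ker (algebraMap B (B ⧸ J)))) ≤
        LinearMap.ker res := by
      rw [Submodule.smul_le]
      intro x hx y _
      rw [LinearMap.mem_ker, map_smul]
      exact Subtype.ext (hJ x ((mem_ker_iff J).mp hx) _)
    let resC : (RingHom.ker (algebraMap B (B ⧸ J))).Cotangent →ₗ[B] ↥M :=
      Submodule.liftQ (RingHom.ker (algebraMap B (B ⧸ J)) • (⊤ : Submodule B _)) res hsq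
    have hP : ∀ x ∈ bigP J Q, ∀ y : ↥M, x • y = 0 := fun x hx y => by
      refine Subtype.ext ?_
      show x • (y : N) = 0
      refine Submodule.smul_induction_on y.2 (fun s hs z _ => ?_) fun a b ha hb => by rw [smul_add, ha, hb, add_zero]
      rw [smul_smul]
      exact hr _ (by rw [pow_succ']; exact Ideal.mul_mem_mul hx hs) z
    let eT := Ideal.quotientKerAlgEquivOfSurjective (f := Algebra.ofId B ((B ⧸ J) ⧸ Q)) (toTop_surjective J Q)
    have hk : (RingHom.ker (Algebra.ofId B ((B ⧸ J) ⧸ Q)) : Submodule B B) ≤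
        LinearMap.ker (LinearMap.toSpanSingleton B ((RingHom.ker (algebraMap B (B ⧸ J))).Cotangent →ₗ[B] ↥M) resC) :=
      fun x hx => LinearMap.ext fun c => hP x ((algebraMap_top_eq_zero J).mp hx) _
    let T2 : ((B ⧸ J) ⧸ Q) →ₗ[B] ((RingHom.ker (algebraMap B (B ⧸ J))).Cotangent →ₗ[B] ↥M) :=
      (Submodule.liftQ _ _ hk) ∘ₗ eT.symm.toLinearMap
    have hT2 : T2 1 = resC := by
      show Submodule.liftQ _ _ hk (eT.symm 1) = resC
      rw [map_one]
      exact (one_smul B resC)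
    let L : ((B ⧸ J) ⧸ Q) ⊗[B] (RingHom.ker (algebraMap B (B ⧸ J))).Cotangent →ₗ[B] ↥M := TensorProduct.lift T2
    let D0 : Derivation A B ↥M := Derivation.mk'
      ((L ∘ₗ (g.restrictScalars B) ∘ₗ (TensorProduct.mk B ((B ⧸ J) ⧸ Q) _ 1) ∘ₗ
        (TensorProduct.mk B (B ⧸ J) (Ω[B⁄A]) 1)).restrictScalars A ∘ₗ (KaehlerDifferential.D A B).toLinearMap)
      (fun x y => by
        simp only [LinearMap.comp_apply, LinearMap.coe_restrictScalars, Derivation.coeFn_coe, Derivation.leibniz,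
          map_add, map_smul, LinearMap.map_smul_of_tower])
    refine ⟨D + (M.subtype).compDer D0, fun x => ?_⟩
    have h1 : D0 (x : B) = res x := by
      have h2 := LinearMap.congr_fun hg ((1 : (B ⧸ J) ⧸ Q) ⊗ₜ[B] Ideal.toCotangent _ x)
      rw [LinearMap.comp_apply, LinearMap.baseChange_tmul, KaehlerDifferential.kerCotangentToTensor_toCotangent] at h2
      show L (g ((1 : (B ⧸ J) ⧸ Q) ⊗ₜ[B] ((1 : B ⧸ J) ⊗ₜ[B] KaehlerDifferential.D A B (x : B)))) = res x
      rw [h2, LinearMap.id_apply]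
      show T2 1 _ = res x
      rw [hT2]
      rfl
    show D (x : B) + ((D0 (x : B) : ↥M) : N) = h x
    rw [h1]
    exact add_sub_cancel _ _

theorem formallySmooth_quotient [IsNoetherianRing B] (hB : CAlgX.IsAdicFormallySmooth A B I) (Q : Ideal (B ⧸ J))
    (hQ : ∃ n : ℕ, (I.map (Ideal.Quotient.mk J)) ^ n ≤ Q)
    (hQ' : ∃ m : ℕ, Q ^ m ≤ I.map (Ideal.Quotient.mk J))
    (g : ((B ⧸ J) ⧸ Q) ⊗[B] ((B ⧸ J) ⊗[B] Ω[B⁄A]) →ₗ[(B ⧸ J) ⧸ Q]
          ((B ⧸ J) ⧸ Q) ⊗[B] (RingHom.ker (algebraMap B (B ⧸ J))).Cotangent)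
    (hg : g ∘ₗ LinearMap.baseChange ((B ⧸ J) ⧸ Q) (KaehlerDifferential.kerCotangentToTensor A B (B ⧸ J)) =
          LinearMap.id) :
    CAlgX.IsAdicFormallySmooth A (B ⧸ J) (I.map (Ideal.Quotient.mk J)) := by
  obtain ⟨n, hn⟩ := hQ
  obtain ⟨m, hm⟩ := hQ'
  intro E _ _ N hN u hu
  obtain ⟨k, hk⟩ := hu
  have hk' : ∀ x ∈ I ^ k, u (Ideal.Quotient.mk J x) = 0 := fun x hx =>
    hk _ (by rw [← Ideal.map_pow]; exact Ideal.mem_map_of_mem _ hx)
  obtain ⟨v, hv⟩ := hB E N hN (u.comp (Ideal.Quotient.mkₐ A J)) ⟨k, hk'⟩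
  letI : Algebra B E := v.toRingHom.toAlgebra
  haveI : IsScalarTower A B E := IsScalarTower.of_algebraMap_eq fun a => (v.commutes a).symm
  have hvJ : ∀ x ∈ J, v x ∈ N := fun x hx => by
    rw [← Ideal.Quotient.eq_zero_iff_mem]
    refine (AlgHom.congr_fun hv x).trans ?_
    show u (Ideal.Quotient.mk J x) = 0
    rw [Ideal.Quotient.eq_zero_iff_mem.mpr hx, map_zero]
  have hvI : ∀ x ∈ I ^ k, v x ∈ N := fun x hx => by
    rw [← Ideal.Quotient.eq_zero_iff_mem]
    exact (AlgHom.congr_fun hv x).trans (hk' x hx)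
  have hNN : ∀ a ∈ N, ∀ b ∈ N, a * b = 0 := fun a ha b hb =>
    (Submodule.mem_bot E).mp (hN ▸ (pow_two N).symm ▸ Ideal.mul_mem_mul ha hb)
  let NN := (N.restrictScalars B)
  have hkill : ∀ x, v x ∈ N → ∀ y : ↥NN, x • y = 0 := fun x hx y => Subtype.ext (by
    show x • (y : E) = 0
    rw [Algebra.smul_def]
    exact hNN _ hx _ y.2)
  let h : ↥(RingHom.ker (algebraMap B (B ⧸ J))) →ₗ[B] ↥NN :=
    LinearMap.codRestrict NN ((Algebra.linearMap B E) ∘ₗ Submodule.subtype _) fun x => hvJ _ ((mem_ker_iff J).mp x.2)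
  obtain ⟨D, hD⟩ := exists_derivation I J hB Q hn g hg (m * k) ↥NN
    (fun x hx => hkill x (by
      rw [pow_mul] at hx
      have h1 := Ideal.pow_right_mono (bigP_pow_le I J hm) k hx
      have h2 : (I ⊔ J) ^ k ≤ I ^ k ⊔ J := by
        clear h1 hx hk hk' hvI
        induction k with
        | zero => simp
        | succ j ih =>
          rw [pow_succ]
          refine (Ideal.mul_mono_left ih).trans ?_
          rw [Ideal.sup_mul, Ideal.mul_sup, Ideal.mul_sup, ← pow_succ]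
          refine sup_le (sup_le le_sup_left ?_) (sup_le ?_ ?_) <;> refine le_trans ?_ le_sup_right <;>
            first | exact Ideal.mul_le_right | exact Ideal.mul_le_left
      obtain ⟨a, ha, b, hb, rfl⟩ := Submodule.mem_sup.mp (h2 h1)
      rw [map_add]
      exact add_mem (hvI a ha) (hvJ b hb)))
    (fun x hx => hkill x (hvJ x hx)) h
  let w : B →ₐ[A] E :=
    { toFun := fun b => v b - (D b : E)
      map_one' := by simp
      map_mul' := fun x y => by
        have hz := hNN _ (D x).2 _ (D y).2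
        rw [Derivation.leibniz, map_mul]
        show v x * v y - (x • (D y : E) + y • (D x : E)) = _
        rw [Algebra.smul_def, Algebra.smul_def]
        show v x * v y - (v x * (D y : E) + v y * (D x : E)) = (v x - (D x : E)) * (v y - (D y : E))
        linear_combination -hz
      map_zero' := by simp
      map_add' := fun x y => by
        rw [map_add, map_add]
        show v x + v y - ((D x : E) + (D y : E)) = _
        ring
      commutes' := fun a => by simp }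
  have hw : ∀ x ∈ J, w x = 0 := fun x hx => by
    show v x - (D x : E) = 0
    rw [show D x = h ⟨x, (mem_ker_iff J).mpr hx⟩ from hD ⟨x, (mem_ker_iff J).mpr hx⟩]
    exact sub_self _
  refine ⟨Ideal.Quotient.liftₐ J w hw, AlgHom.ext fun c => ?_⟩
  obtain ⟨b, rfl⟩ := Ideal.Quotient.mk_surjective c
  show Ideal.Quotient.mk N (v b - (D b : E)) = u (Ideal.Quotient.mk J b)
  rw [map_sub, Ideal.Quotient.eq_zero_iff_mem.mpr (D b).2, sub_zero]
  exact AlgHom.congr_fun hv b

end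

/-- In the Noetherian adic case, which the published statement itself singles out, let A → B be a ring
homomorphism with B Noetherian, I and J ideals of B, and suppose B, with the I-adic topology, is
formally smooth over the discrete ring A. Put C = B/J with the quotient (IC-adic) topology and let Q
be an ideal of definition of C, i.e. an ideal containing a power of IC and a power of which lies in
IC. Then C is formally smooth over A for the IC-adic topology if and only if the C/Q-linear map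
(J/J²) ⊗ (C/Q) → Ω_{B/A} ⊗_B (C/Q), obtained by base change from the conormal map J/J² → Ω_{B/A} ⊗_B
C, x ↦ 1 ⊗ dx, has a C/Q-linear left inverse (is an isomorphism onto a direct summand). Here J is
written as the kernel of B → C and the tensor products are taken over B, which for these C-modules
is the same as over C. (The published statement allows A to be any topological ring with A → B
continuous; this row takes A discrete.) -/
theorem result {A B : Type u} [CommRing A]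
    [CommRing B] [Algebra A B] [IsNoetherianRing B] (I J : Ideal B) (hB : CAlgX.IsAdicFormallySmooth A B I)
    (Q : Ideal (B ⧸ J)) (hQ : ∃ n : ℕ, (I.map (Ideal.Quotient.mk J)) ^ n ≤ Q)
    (hQ' : ∃ m : ℕ, Q ^ m ≤ I.map (Ideal.Quotient.mk J)) :
    CAlgX.IsAdicFormallySmooth A (B ⧸ J) (I.map (Ideal.Quotient.mk J)) ↔
      ∃ g : ((B ⧸ J) ⧸ Q) ⊗[B] ((B ⧸ J) ⊗[B] Ω[B⁄A]) →ₗ[(B ⧸ J) ⧸ Q]
          ((B ⧸ J) ⧸ Q) ⊗[B] (RingHom.ker (algebraMap B (B ⧸ J))).Cotangent,
        g ∘ₗ LinearMap.baseChange ((B ⧸ J) ⧸ Q) (KaehlerDifferential.kerCotangentToTensor A B (B ⧸ J)) =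
          LinearMap.id := by
  constructor
  · intro h
    exact exists_leftInverse I J Q hQ h
  · rintro ⟨g, hg⟩
    exact formallySmooth_quotient I J hB Q hQ hQ' g hg

end Groth.Agent.S12136
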