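import Groth.Statements.S12137
import Groth.Agent.Lib.RelCone11.DegZero

set_option autoImplicit false
universe u
open CategoryTheory CategoryTheory.Limits AlgebraicGeometry Opposite TopologicalSpace
open scoped HomogeneousIdeal
noncomputable section
open EGA2

namespace Groth.Agent.S12137

/-- Let Y be a scheme, 𝒜 a quasi-coherent O_Y-algebra and Ŝ = 𝒜[T], graded with 𝒜 in degree 0 and T in
degree 1 — presented through a homomorphism of algebras ι : 𝒜 → Ŝ landing in degree 0 and a global
section z of Ŝ of degree 1 such that, over every affine open U, the map 𝒜(U)[X] → Ŝ(U) sending X to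
z is bijective — and let p : P → Y with its charts be the relative homogeneous spectrum Proj(Ŝ). For
each affine open U let θ_U : Ŝ(U)_(z) → 𝒜(U) be the ring isomorphism sending ι(a) z^k / z^k to a.
Then there is a unique morphism i : Spec(𝒜) → P which, on the chart Spec 𝒜(U) of Spec(𝒜) over each
affine open U, is Spec(θ_U) followed by the open immersion of D_+(z|U) into Proj Ŝ(U) and the chart
of P; moreover i is an isomorphism and lies over Y. In particular Proj(O_Y[T]) is Y. -/
theorem result {Y P : Scheme.{u}} (𝒜 : RelSpec.QCAlg Y) (Sh : RelProj.QCGrAlg Y)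
    (ι : 𝒜 ⟶ Sh.toQCAlg)
    (hι : ∀ (U : Y.Opens) (hU : IsAffineOpen U) (a : 𝒜.presheaf.obj (op U)), (ι.hom.app (op U)).hom a ∈ Sh.deg U hU 0)
    (z : Sh.presheaf.obj (op ⊤))
    (hz : ∀ (U : Y.Opens) (hU : IsAffineOpen U), (Sh.presheaf.map (homOfLE le_top).op).hom z ∈ Sh.deg U hU 1)
    (hpoly : ∀ (U : Y.Opens) (hU : IsAffineOpen U),
      Function.Bijective (Polynomial.eval₂RingHom (ι.hom.app (op U)).hom ((Sh.presheaf.map (homOfLE le_top).op).hom z)))
    (p : P ⟶ Y)
    (chart : ∀ (U : Y.Opens) (hU : IsAffineOpen U), (((p ⁻¹ᵁ U : P.Opens) : Scheme.{u}) ≅ Proj (Sh.deg U hU)))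
    (hP : RelProj.IsRelProj Sh p chart)
    (θ : ∀ (U : Y.Opens) (hU : IsAffineOpen U),
      CommRingCat.of (HomogeneousLocalization.Away (Sh.deg U hU) ((Sh.presheaf.map (homOfLE le_top).op).hom z)) ⟶
        𝒜.presheaf.obj (op U))
    (hθ : ∀ (U : Y.Opens) (hU : IsAffineOpen U)
      (q : HomogeneousLocalization.Away (Sh.deg U hU) ((Sh.presheaf.map (homOfLE le_top).op).hom z))
      (k : ℕ) (a : 𝒜.presheaf.obj (op U)),
        q.val = Localization.mk ((ι.hom.app (op U)).hom a * (Sh.presheaf.map (homOfLE le_top).op).hom z ^ k)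
          ⟨(Sh.presheaf.map (homOfLE le_top).op).hom z ^ k,
            pow_mem (Submonoid.mem_powers ((Sh.presheaf.map (homOfLE le_top).op).hom z)) k⟩ →
        (θ U hU).hom q = a) :
    (∃! i : 𝒜.spec ⟶ P, ∀ (U : Y.Opens) (hU : IsAffineOpen U),
        𝒜.ι U hU ≫ i =
          Spec.map (θ U hU) ≫
            Proj.awayι (Sh.deg U hU) ((Sh.presheaf.map (homOfLE le_top).op).hom z) (hz U hU) one_pos ≫
              RelProj.emb p chart U hU) ∧
      ∀ i : 𝒜.spec ⟶ P, (∀ (U : Y.Opens) (hU : IsAffineOpen U),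
        𝒜.ι U hU ≫ i =
          Spec.map (θ U hU) ≫
            Proj.awayι (Sh.deg U hU) ((Sh.presheaf.map (homOfLE le_top).op).hom z) (hz U hU) one_pos ≫
              RelProj.emb p chart U hU) →
        IsIso i ∧ i ≫ p = 𝒜.π := by
  let h : RelCone.IsPolyOver (Groth.Agent.RelCone11.degZeroAlg 𝒜) Sh ι z :=
    ⟨Groth.Agent.RelCone11.isGradedHom_degZero ι hι, hz, hpoly⟩
  have hθ' : ∀ (U : Y.Opens) (hU : IsAffineOpen U), θ U hU = CommRingCat.ofHom (h.awayZToBase U hU) := by
    intro U hU
    refine CommRingCat.hom_ext (Groth.Agent.RelCone11.eq_awayZToBase h hU (θ U hU).hom fun q k x hx hq => ?_)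
    rcases k with _ | k
    · exact hθ U hU q 0 x (hq.trans (by simp only [pow_zero, mul_one]; rfl))
    · obtain rfl := Groth.Agent.RelCone11.eq_zero_of_mem_degZero (Nat.succ_pos k) hx
      have : q = 0 := by
        apply HomogeneousLocalization.val_injective
        rw [hq, HomogeneousLocalization.val_zero, map_zero, Localization.mk_zero]
      rw [this, map_zero]
  have key : ∀ i : 𝒜.spec ⟶ P, (∀ (U : Y.Opens) (hU : IsAffineOpen U),
      𝒜.ι U hU ≫ i =
        Spec.map (θ U hU) ≫
          Proj.awayι (Sh.deg U hU) ((Sh.presheaf.map (homOfLE le_top).op).hom z) (hz U hU) one_pos ≫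
            RelProj.emb p chart U hU) ↔ RelCone.IsConeImm (Groth.Agent.RelCone11.degZeroAlg 𝒜) h p chart i := fun i =>
    forall₂_congr fun U hU => by rw [hθ']; rfl
  constructor
  · exact (existsUnique_congr fun i => key i).2 (Groth.Agent.RelCone11.existsUnique_coneImm h hP)
  · intro i hi
    have hi' := (key i).1 hi
    obtain ⟨h1, -, -⟩ := Groth.Agent.RelCone11.coneImm_properties h hP hi'
    refine ⟨?_, Groth.Agent.RelCone11.coneImm_comp h hP hi'⟩
    haveI : IsOpenImmersion i := h1
    haveI : Surjective i := ⟨fun x => by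
      obtain ⟨U, hU, y, rfl⟩ := Groth.Agent.RelCone11.exists_emb chart x
      exact (Groth.Agent.RelCone11.emb_mem_range_coneImm_iff h hP hi' hU y).2
        (Groth.Agent.RelCone11.z_not_mem ι h hU y)⟩
    exact (isIso_iff_isOpenImmersion_and_epi_base i).2 ⟨h1, (TopCat.epi_iff_surjective _).2 i.surjective⟩

end Groth.Agent.S12137
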