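import Groth.Statements.S12139
import Groth.Agent.Lib.RelProj11.QMap

set_option autoImplicit false
universe u
open CategoryTheory CategoryTheory.Limits AlgebraicGeometry TopologicalSpace Opposite
open scoped HomogeneousIdeal
noncomputable section
open EGA2

namespace Groth.Agent.S12139

/-- Let g : Y' → Y be a morphism of schemes, 𝒮 and 𝒮' quasi-coherent positively graded algebras over O_Y
and O_{Y'}, u : 𝒮 → g_*𝒮' a graded g-morphism, P = Proj(𝒮) and P' = Proj(𝒮') the relative
homogeneous spectra (with their charts), and G(u) ⊆ P' the open on which the morphism induced by u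
is defined. There is exactly one morphism v : G(u) → P which, on each standard affine chart Spec
𝒮'(U')_(u f) of G(u) (U' ⊆ g⁻¹(U) affine opens, f ∈ 𝒮(U) homogeneous of positive degree), is Spec of
the canonical homomorphism 𝒮(U)_(f) → 𝒮'(U')_(u f) followed by the standard open D_+(f) of Proj 𝒮(U)
and the chart of P; and every such v makes the square G(u) → P → Y, G(u) → P' → Y' → Y commute. -/
theorem result {Y Y' P P' : Scheme.{u}} (g : Y' ⟶ Y)
    (𝒮 : RelProj.QCGrAlg Y) (𝒮' : RelProj.QCGrAlg Y') (u : RelProj.QGrHom g 𝒮 𝒮')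
    (p : P ⟶ Y) (chart : ∀ (U : Y.Opens) (hU : IsAffineOpen U), (((p ⁻¹ᵁ U : P.Opens) : Scheme.{u}) ≅ Proj (𝒮.deg U hU)))
    (hP : RelProj.IsRelProj 𝒮 p chart)
    (p' : P' ⟶ Y') (chart' : ∀ (U : Y'.Opens) (hU : IsAffineOpen U), (((p' ⁻¹ᵁ U : P'.Opens) : Scheme.{u}) ≅ Proj (𝒮'.deg U hU)))
    (hP' : RelProj.IsRelProj 𝒮' p' chart') :
    (∃! v : ((RelProj.domQ u p' chart' : P'.Opens) : Scheme.{u}) ⟶ P,
        RelProj.IsProjQMapOn u p chart p' chart' (RelProj.domQ u p' chart') v) ∧
      ∀ v : ((RelProj.domQ u p' chart' : P'.Opens) : Scheme.{u}) ⟶ P,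
        RelProj.IsProjQMapOn u p chart p' chart' (RelProj.domQ u p' chart') v →
          v ≫ p = (RelProj.domQ u p' chart').ι ≫ p' ≫ g := by
  exact ⟨RelProj11.existsUnique_qMapOn u hP hP', fun v hv => RelProj11.qMapOn_comp hP hP' hv⟩

end Groth.Agent.S12139
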