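import Groth.Statements.S12140
import Groth.Agent.Lib.RelProj11.QMap

set_option autoImplicit false
universe u
open CategoryTheory CategoryTheory.Limits AlgebraicGeometry TopologicalSpace Opposite
open scoped HomogeneousIdeal
noncomputable section
open EGA2

namespace Groth.Agent.S12140

/-- Let φ : 𝒜 → ℬ be a graded homomorphism of quasi-coherent positively graded O_Y-algebras, PA =
Proj(𝒜), PB = Proj(ℬ) with their charts, G(φ) ⊆ PB the open on which the induced morphism is defined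
and Φ = Proj(φ) : G(φ) → PA that morphism (pinned on the standard affine charts of G(φ)). Then Φ is
affine, and for every affine open U of Y the part of G(φ) over U is the image, under the chart of PB
over U, of the open G(φ(U)) of Proj ℬ(U) where the morphism of homogeneous spectra induced by φ(U) :
𝒜(U) → ℬ(U) is defined. -/
theorem result {Y PA PB : Scheme.{u}} (𝒜 ℬ : RelProj.QCGrAlg Y)
    (φ : 𝒜.toQCAlg ⟶ ℬ.toQCAlg) (hφ : RelProj.IsGradedHom φ)
    (pA : PA ⟶ Y) (chartA : ∀ (U : Y.Opens) (hU : IsAffineOpen U), (((pA ⁻¹ᵁ U : PA.Opens) : Scheme.{u}) ≅ Proj (𝒜.deg U hU)))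
    (hA : RelProj.IsRelProj 𝒜 pA chartA)
    (pB : PB ⟶ Y) (chartB : ∀ (U : Y.Opens) (hU : IsAffineOpen U), (((pB ⁻¹ᵁ U : PB.Opens) : Scheme.{u}) ≅ Proj (ℬ.deg U hU)))
    (hB : RelProj.IsRelProj ℬ pB chartB)
    (Φ : ((RelProj.domQ (RelProj.QGrHom.ofHom φ hφ) pB chartB : PB.Opens) : Scheme.{u}) ⟶ PA)
    (hΦ : RelProj.IsProjQMapOn (RelProj.QGrHom.ofHom φ hφ) pA chartA pB chartB
      (RelProj.domQ (RelProj.QGrHom.ofHom φ hφ) pB chartB) Φ) :
    IsAffineHom Φ ∧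
      ∀ (U : Y.Opens) (hU : IsAffineOpen U),
        RelProj.domQ (RelProj.QGrHom.ofHom φ hφ) pB chartB ⊓ pB ⁻¹ᵁ U =
          (RelProj.emb pB chartB U hU) ''ᵁ RelCone.domOpen (RelProj.gradedHomAt φ hφ U hU) := by
  classical
  have hle : ∀ U : Y.Opens, U ≤ (𝟙 Y : Y ⟶ Y) ⁻¹ᵁ U := fun U => le_refl U
  have hg : ∀ (U : Y.Opens) (hU : IsAffineOpen U),
      (RelProj.QGrHom.ofHom φ hφ).gradedAt U hU U hU (hle U) = RelProj.gradedHomAt φ hφ U hU := fun U hU => by
    ext x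
    show (ℬ.presheaf.map (homOfLE (hle U)).op).hom ((φ.hom.app (op U)).hom x) = (φ.hom.app (op U)).hom x
    exact ConcreteCategory.congr_hom (ℬ.presheaf.map_id (op U)) _
  constructor
  · let O : (Σ U : Y.affineOpens, Σ d : {d : ℕ // 0 < d}, (𝒜.deg U.1 U.2 d.1)) → PA.Opens := fun i =>
      RelProj.emb pA chartA i.1.1 i.1.2 ''ᵁ Proj.basicOpen (𝒜.deg i.1.1 i.1.2) i.2.2.1
    have hO : iSup O = ⊤ := top_le_iff.1 fun x _ => by
      obtain ⟨U, hU, hxU, -⟩ := exists_isAffineOpen_mem_and_subset (U := (⊤ : Y.Opens)) (x := pA x) trivial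
      obtain ⟨w, rfl⟩ : x ∈ Set.range (RelProj.emb pA chartA U hU) := by rw [RelProj11.range_emb]; exact hxU
      obtain ⟨⟨⟨d, hd⟩, ⟨f, hf⟩⟩, hw⟩ : ∃ i : (Proj.affineOpenCover (𝒜.deg U hU)).I₀,
          w ∈ Proj.basicOpen (𝒜.deg U hU) (i.2 : 𝒜.presheaf.obj (op U)) := by
        obtain ⟨y, hy⟩ := (Proj.affineOpenCover (𝒜.deg U hU)).openCover.covers w
        exact ⟨_, (Proj.opensRange_awayι _ _ _ _).le ⟨y, hy⟩⟩
      exact Opens.mem_iSup.2 ⟨⟨⟨U, hU⟩, ⟨d, hd⟩, ⟨f, hf⟩⟩, w, hw, rfl⟩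
    refine isAffineHom_of_forall_exists_isAffineOpen Φ (fun x => ?_)
    obtain ⟨⟨⟨U, hU⟩, ⟨d, hd⟩, ⟨f, hf⟩⟩, hx⟩ := Opens.mem_iSup.1 (hO.ge (show x ∈ (⊤ : PA.Opens) from trivial))
    refine ⟨_, hx, (Proj.isAffineOpen_basicOpen _ _ hf hd).image_of_isOpenImmersion _, ?_⟩
    let i : RelProj11.QIdx (g := 𝟙 Y) (𝒮 := 𝒜) := ⟨U, hU, U, hU, hle U, d, hd, f, hf⟩
    let l := IsOpenImmersion.lift (RelProj.domQ (RelProj.QGrHom.ofHom φ hφ) pB chartB).ι
      (RelProj11.qC (RelProj.QGrHom.ofHom φ hφ) pB chartB i) (RelProj11.range_qC_subset i)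
    haveI : IsOpenImmersion l := by
      haveI : IsOpenImmersion (l ≫ (RelProj.domQ (RelProj.QGrHom.ofHom φ hφ) pB chartB).ι) := by
        rw [IsOpenImmersion.lift_fac]; infer_instance
      exact IsOpenImmersion.of_comp l (RelProj.domQ (RelProj.QGrHom.ofHom φ hφ) pB chartB).ι
    haveI : IsAffine (RelProj11.qDom (u := RelProj.QGrHom.ofHom φ hφ) i) := isAffine_Spec _
    convert isAffineOpen_opensRange l using 1
    ext z
    simp only [SetLike.mem_coe, Scheme.Hom.mem_preimage]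
    constructor
    · intro hz
      have hzU : pB z.1 ∈ U := by
        have h1 := congr($(RelProj11.qMapOn_comp hA hB hΦ) z)
        obtain ⟨w, -, hw⟩ := hz
        have h2 : pA (Φ z) ∈ U := by
          rw [← hw]
          have : RelProj.emb pA chartA U hU w ∈ Set.range (RelProj.emb pA chartA U hU) := ⟨w, rfl⟩
          rwa [RelProj11.range_emb] at this
        rw [← Scheme.Hom.comp_apply] at h2
        rw [h1] at h2
        exact h2
      obtain ⟨y, hy⟩ := (RelProj11.mem_preimage_emb_basicOpen_iff hA hB hΦ i z hzU).1 hz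
      refine ⟨y, (RelProj.domQ (RelProj.QGrHom.ofHom φ hφ) pB chartB).ι.isOpenEmbedding.injective ?_⟩
      rw [← Scheme.Hom.comp_apply, IsOpenImmersion.lift_fac]
      exact hy
    · rintro ⟨y, rfl⟩
      have hy : (l y).1 = RelProj11.qC (RelProj.QGrHom.ofHom φ hφ) pB chartB i y := congr($(IsOpenImmersion.lift_fac
        (RelProj.domQ (RelProj.QGrHom.ofHom φ hφ) pB chartB).ι (RelProj11.qC (RelProj.QGrHom.ofHom φ hφ) pB chartB i)
        (RelProj11.range_qC_subset i)) y)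
      refine (RelProj11.mem_preimage_emb_basicOpen_iff hA hB hΦ i _ ?_).2 ⟨y, hy.symm⟩
      rw [hy]
      exact RelProj11.p'_mem_of_range i ⟨y, rfl⟩
  · intro U hU
    ext x
    constructor
    · rintro ⟨hx, hxU⟩
      obtain ⟨d, hd, f, hf, hxf⟩ := RelProj11.exists_mem_chart hA hB hU hU (hle U) hx hxU
      obtain ⟨w, hw, rfl⟩ := (RelProj11.mem_range_qC _).1 hxf
      refine ⟨w, (RelCone.mem_domOpen _ w).2 ⟨f, HomogeneousIdeal.mem_irrelevant_of_mem _ hd hf, ?_⟩, rfl⟩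
      rw [← hg U hU]
      exact (ProjectiveSpectrum.mem_basicOpen _ _ _).1 hw
    · rintro ⟨w, hw, rfl⟩
      have h1 : RelProj.emb pB chartB U hU w ∈ Set.range (RelProj.emb pB chartB U hU) := ⟨w, rfl⟩
      rw [RelProj11.range_emb] at h1
      refine ⟨Opens.mem_iSup.2 ⟨⟨(⟨U, hU⟩, ⟨U, hU⟩), hle U⟩, w, ?_, rfl⟩, h1⟩
      rw [hg U hU]
      exact hw

end Groth.Agent.S12140
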