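import Groth.Statements.S12141
import Groth.Agent.Lib.RelProj11.QMapProps
import Groth.Agent.Lib.RelProj11.BaseChange

set_option autoImplicit false
universe u
open CategoryTheory CategoryTheory.Limits AlgebraicGeometry TopologicalSpace Opposite
open scoped HomogeneousIdeal
noncomputable section
open EGA2

namespace Groth.Agent.S12141

/-- Let ψ : Y' → Y be a morphism of schemes, 𝒮 a quasi-coherent positively graded O_Y-algebra and 𝒮' =
ψ^*𝒮, presented as a quasi-coherent graded O_{Y'}-algebra with a graded ψ-morphism u : 𝒮 → ψ_*𝒮'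
whose squares over affine opens U' ⊆ ψ⁻¹(U) are pushouts of rings; let P = Proj(𝒮), P' = Proj(𝒮')
with their charts. Then the morphism Proj(u) : P' → P is everywhere defined (its open of definition
G(u) is P' and it exists, pinned on the standard affine charts), and any such morphism identifies P'
with the fibre product P ×_Y Y'. -/
theorem result {Y Y' P P' : Scheme.{u}} (ψ : Y' ⟶ Y)
    (𝒮 : RelProj.QCGrAlg Y) (𝒮' : RelProj.QCGrAlg Y') (u : RelProj.QGrHom ψ 𝒮 𝒮')
    (hu : RelSpec.IsQBaseChange u.toQHom)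
    (p : P ⟶ Y) (chart : ∀ (U : Y.Opens) (hU : IsAffineOpen U), (((p ⁻¹ᵁ U : P.Opens) : Scheme.{u}) ≅ Proj (𝒮.deg U hU)))
    (hP : RelProj.IsRelProj 𝒮 p chart)
    (p' : P' ⟶ Y') (chart' : ∀ (U : Y'.Opens) (hU : IsAffineOpen U), (((p' ⁻¹ᵁ U : P'.Opens) : Scheme.{u}) ≅ Proj (𝒮'.deg U hU)))
    (hP' : RelProj.IsRelProj 𝒮' p' chart') :
    (∃ h : P' ⟶ P, RelProj.IsProjQMap u p chart p' chart' h) ∧
      ∀ h : P' ⟶ P, RelProj.IsProjQMap u p chart p' chart' h → IsPullback h p' p ψ := by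
  classical
  have hirr : ∀ (U : Y.Opens) (hU : IsAffineOpen U) (U' : Y'.Opens) (hU' : IsAffineOpen U') (hle : U' ≤ ψ ⁻¹ᵁ U),
      (𝒮'.deg U' hU')₊ ≤ ((𝒮.deg U hU)₊).map (u.gradedAt U hU U' hU' hle) := by
    intro U hU U' hU' hle
    let ψ₀ := u.gradedAt U hU U' hU' hle
    have hpo := hu U hU U' hU' hle
    letI : Algebra Γ(Y, U) Γ(Y', U') := (ψ.appLE U U' hle).hom.toAlgebra
    letI : Algebra Γ(Y, U) (𝒮.presheaf.obj (op U)) := (𝒮.str.app (op U)).hom.toAlgebra
    letI : Algebra Γ(Y', U') (𝒮'.presheaf.obj (op U')) := (𝒮'.str.app (op U')).hom.toAlgebra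
    letI : Algebra Γ(Y, U) (𝒮'.presheaf.obj (op U')) :=
      ((𝒮'.str.app (op U')).hom.comp (ψ.appLE U U' hle).hom).toAlgebra
    letI : Algebra (𝒮.presheaf.obj (op U)) (𝒮'.presheaf.obj (op U')) := (u.appLE U U' hle).hom.toAlgebra
    haveI : IsScalarTower Γ(Y, U) Γ(Y', U') (𝒮'.presheaf.obj (op U')) := IsScalarTower.of_algebraMap_eq fun _ => rfl
    haveI : IsScalarTower Γ(Y, U) (𝒮.presheaf.obj (op U)) (𝒮'.presheaf.obj (op U')) :=
      IsScalarTower.of_algebraMap_eq fun r => ConcreteCategory.congr_hom hpo.w r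
    haveI hP0 : Algebra.IsPushout Γ(Y, U) Γ(Y', U') (𝒮.presheaf.obj (op U)) (𝒮'.presheaf.obj (op U')) :=
      CommRingCat.isPushout_iff_isPushout.1 hpo
    rw [HomogeneousIdeal.irrelevant_le]
    intro d hd y hy
    show y ∈ (((𝒮.deg U hU)₊).map ψ₀).toIdeal
    have key : ∀ z : 𝒮'.presheaf.obj (op U'),
        (DirectSum.decompose (𝒮'.deg U' hU') z d : 𝒮'.presheaf.obj (op U')) ∈ (((𝒮.deg U hU)₊).map ψ₀).toIdeal := by
      intro z
      refine hP0.out.inductionOn z _ ?_ ?_ ?_ ?_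
      · rw [DirectSum.decompose_zero]; exact zero_mem _
      · intro a
        show (DirectSum.decompose (𝒮'.deg U' hU') (ψ₀ a) d : 𝒮'.presheaf.obj (op U')) ∈ _
        rw [← GradedRingHom.map_directSumDecompose]
        exact Ideal.mem_map_of_mem _ (HomogeneousIdeal.mem_irrelevant_of_mem _ hd (SetLike.coe_mem _))
      · intro s z hz
        rw [Algebra.smul_def]
        show (DirectSum.decompose (𝒮'.deg U' hU') ((𝒮'.str.app (op U')).hom s * z) d : 𝒮'.presheaf.obj (op U')) ∈ _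
        rw [DirectSum.coe_decompose_mul_of_left_mem_of_le (𝒮'.deg U' hU') (𝒮'.str_mem U' hU' s) (Nat.zero_le d)]
        exact Ideal.mul_mem_left _ _ hz
      · intro a b ha hb
        rw [DirectSum.decompose_add]
        exact add_mem ha hb
    have := key y
    rwa [DirectSum.decompose_of_mem_same (𝒮'.deg U' hU') (i := d) hy] at this
  have htop : RelProj.domQ u p' chart' = ⊤ := RelProj11.domQ_eq_top_of_forall u chart' fun U hU U' hU' hle => by
    refine top_le_iff.1 fun w _ => (RelCone.mem_domOpen _ w).2 ?_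
    by_contra h
    push Not at h
    exact w.not_irrelevant_le ((hirr U hU U' hU' hle).trans (Ideal.map_le_iff_le_comap.2 fun a ha => h a ha))
  refine ⟨RelProj11.exists_qMap_of_top u hP hP' htop, fun h hh => ?_⟩
  let v : 𝒮.presheaf ⟶ ψ.base _* 𝒮'.presheaf :=
    { app := fun U => u.app U.unop
      naturality := fun A B i => (u.naturality i.unop.le).symm }
  refine RelProj11.isPullback_baseChange hP hP' v u.gradedAt (fun U hU U' hU' hle => rfl) hu hirr h ?_
  intro U hU U' hU' hle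
  rw [← cancel_epi (chart' U' hU').inv, Iso.inv_hom_id_assoc]
  refine (Proj.mapAffineOpenCover _ (hirr U hU U' hU' hle)).openCover.hom_ext _ _ fun s => ?_
  simp only [Scheme.AffineOpenCover.openCover_f, Proj.mapAffineOpenCover_f]
  refine Eq.trans ?_ (Proj.awayι_comp_map_assoc (u.gradedAt U hU U' hU' hle) (hirr U hU U' hU' hle) s.1.2 (s.2 : 𝒮.presheaf.obj (op U)) s.2.2 _).symm
  have e := hh.2 U hU U' hU' hle s.1.1 s.1.2 (s.2 : 𝒮.presheaf.obj (op U)) s.2.2
  simp only [RelProj.awayEmb, RelProj.emb, Category.assoc] at e ⊢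
  exact e

end Groth.Agent.S12141
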