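import Groth.Statements.S12146
import Groth.Agent.Lib.SymAlg11.LineDom

set_option autoImplicit false
universe u
open CategoryTheory CategoryTheory.Limits AlgebraicGeometry TopologicalSpace Opposite
open scoped HomogeneousIdeal
noncomputable section
open EGA2

namespace Groth.Agent.S12146

/-- Let q : X → Y be a morphism with Y affine, L an invertible O_X-module, 𝒮L = ⊕_{n≥0} L^{⊗n} its
graded symmetric algebra (whose Proj, presented with its charts, is identified with X by its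
structure morphism pL), 𝒮 a quasi-coherent positively graded O_Y-algebra with S = Γ(Y, 𝒮), ψ : q^*𝒮
→ 𝒮L a graded homomorphism given as a graded q-morphism u = ψ♭ : 𝒮 → q_*𝒮L, P = Proj(𝒮), and r =
r_{L,ψ} : G(ψ) → P the associated morphism on its open of definition G(ψ) ⊆ Proj(𝒮L). Then r is
dominant if and only if for every n > 0, every s ∈ S_n such that ψ♭(s) ∈ Γ(X, L^{⊗n}) is locally
nilpotent (as a section of the algebra 𝒮L: each point of X has an affine neighbourhood V with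
ψ♭(s)|V nilpotent in 𝒮L(V)) is nilpotent. -/
theorem result {Y X P PL : Scheme.{u}} (q : X ⟶ Y)
    (L : X.Modules) (hL : PicF.IsInvertible L) (hLq : Coh.IsQCoh L)
    (𝒮 : RelProj.QCGrAlg Y) (𝒮L : RelProj.QCGrAlg X) (j : L ⟶ 𝒮L.toModule) (hj : RelProj.IsGrSymAlg L 𝒮L j)
    (u : RelProj.QGrHom q 𝒮 𝒮L)
    (p : P ⟶ Y) (chart : ∀ (U : Y.Opens) (hU : IsAffineOpen U), (((p ⁻¹ᵁ U : P.Opens) : Scheme.{u}) ≅ Proj (𝒮.deg U hU)))
    (hP : RelProj.IsRelProj 𝒮 p chart)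
    (pL : PL ⟶ X) (chartL : ∀ (U : X.Opens) (hU : IsAffineOpen U), (((pL ⁻¹ᵁ U : PL.Opens) : Scheme.{u}) ≅ Proj (𝒮L.deg U hU)))
    (hPL : RelProj.IsRelProj 𝒮L pL chartL)
    (r : ((RelProj.domQ u pL chartL : PL.Opens) : Scheme.{u}) ⟶ P)
    (hr : RelProj.IsProjQMapOn u p chart pL chartL (RelProj.domQ u pL chartL) r)
    (hY : IsAffineOpen (⊤ : Y.Opens)) :
    IsDominant r ↔
      ∀ (n : ℕ), 0 < n → ∀ s ∈ 𝒮.deg ⊤ hY n,
        (∀ x : X, ∃ (V : X.Opens) (_ : IsAffineOpen V), x ∈ V ∧ IsNilpotent ((u.appLE ⊤ V (le_top.trans (Scheme.Hom.preimage_top q).ge)).hom s)) →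
          IsNilpotent s := by
  haveI := Groth.Agent.SymAlg11.isIso_pL hLq hj hL hPL
  have key : ∀ n : ℕ, 0 < n → ∀ s ∈ 𝒮.deg ⊤ hY n,
      ((∀ x : X, ∃ (V : X.Opens) (_ : IsAffineOpen V), x ∈ V ∧
          IsNilpotent ((u.appLE ⊤ V (le_top.trans (Scheme.Hom.preimage_top q).ge)).hom s)) ↔
        ∀ z, r z ∉ RelProj.emb p chart ⊤ hY ''ᵁ Proj.basicOpen (𝒮.deg ⊤ hY) s) := by
    intro n hn s hs
    have h1 := Groth.Agent.SymAlg11.nv_eq_bot_iff hLq hj hL (n := n)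
      (Groth.Agent.SymAlg11.isHom_usec u hY hs ⊤)
    simp only [Groth.Agent.SymAlg11.gres_usec] at h1
    refine h1.symm.trans ⟨fun h z hz => ?_, fun h => le_bot_iff.1 fun x hx => ?_⟩
    · exact h.le ((Groth.Agent.SymAlg11.mem_preimage_iff hLq hj hL hPL u hY hP hr hn hs z).1 hz)
    · obtain ⟨z, rfl⟩ := pL.surjective x
      have hdom : z ∈ RelProj.domQ u pL chartL :=
        (Groth.Agent.SymAlg11.mem_domQ_iff hLq hj hL hPL u hY hP).2 ⟨n, hn, s, hs, hx⟩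
      exact (h ⟨z, hdom⟩ ((Groth.Agent.SymAlg11.mem_preimage_iff hLq hj hL hPL u hY hP hr hn hs
        ⟨z, hdom⟩).2 hx)).elim
  constructor
  · intro hd n hn s hs hloc
    refine (Groth.Agent.SymAlg11.proj_basicOpen_eq_bot_iff _ hn hs).1 (le_bot_iff.1 fun w hw => ?_)
    obtain ⟨_, hmem, ⟨z, rfl⟩⟩ := mem_closure_iff.1 (hd.denseRange (RelProj.emb p chart ⊤ hY w)) _
      (RelProj.emb p chart ⊤ hY ''ᵁ Proj.basicOpen (𝒮.deg ⊤ hY) s).isOpen ⟨w, hw, rfl⟩
    exact ((key n hn s hs).1 hloc z hmem).elim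
  · intro h
    refine ⟨fun y => mem_closure_iff.2 fun O hO hyO => ?_⟩
    obtain ⟨w, rfl⟩ : y ∈ Set.range (RelProj.emb p chart ⊤ hY) := by
      rw [Groth.Agent.RelProj11.range_emb (𝒮' := 𝒮) p chart ⊤ hY]
      exact trivial
    obtain ⟨n, hn, f, hf, hwf, hfO⟩ := Groth.Agent.SymAlg11.exists_basicOpen_le_proj (𝒮.deg ⊤ hY)
      (O := RelProj.emb p chart ⊤ hY ⁻¹ᵁ ⟨O, hO⟩) (w := w) hyO
    by_contra hc
    have hloc := (key n hn f hf).2 fun z hz => hc ⟨r z, by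
      obtain ⟨w', hw', e⟩ := hz
      exact e ▸ hfO hw', z, rfl⟩
    have := (Groth.Agent.SymAlg11.proj_basicOpen_eq_bot_iff _ hn hf).2 (h n hn f hf hloc)
    exact this.le hwf

end Groth.Agent.S12146
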