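import Groth.Statements.S12153
import Groth.Agent.Lib.RelProj11.QMapComp

set_option autoImplicit false
universe u
open CategoryTheory CategoryTheory.Limits AlgebraicGeometry TopologicalSpace Opposite
open scoped HomogeneousIdeal
noncomputable section
open EGA2

namespace Groth.Agent.S12153

/-- Let q : X → Y be a morphism, L an invertible O_X-module with 𝒮L = ⊕ L^{⊗n} (whose Proj, with its
charts, is X), v : 𝒯 → 𝒮 a graded homomorphism of quasi-coherent positively graded O_Y-algebras, ψ♭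
= u : 𝒮 → q_*𝒮L a graded q-morphism and ψ'♭ = u' its composite with v; let r = r_{L,ψ} : G(ψ) →
Proj(𝒮) and r' = r_{L,ψ'} : G(ψ') → Proj(𝒯). If r' is everywhere defined and an immersion, then r is
everywhere defined and an immersion. -/
theorem result {Y X P PL P' : Scheme.{u}} (q : X ⟶ Y)
    (L : X.Modules) (hL : PicF.IsInvertible L) (hLq : Coh.IsQCoh L)
    (𝒮 : RelProj.QCGrAlg Y) (𝒮L : RelProj.QCGrAlg X) (j : L ⟶ 𝒮L.toModule) (hj : RelProj.IsGrSymAlg L 𝒮L j)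
    (u : RelProj.QGrHom q 𝒮 𝒮L)
    (p : P ⟶ Y) (chart : ∀ (U : Y.Opens) (hU : IsAffineOpen U), (((p ⁻¹ᵁ U : P.Opens) : Scheme.{u}) ≅ Proj (𝒮.deg U hU)))
    (hP : RelProj.IsRelProj 𝒮 p chart)
    (pL : PL ⟶ X) (chartL : ∀ (U : X.Opens) (hU : IsAffineOpen U), (((pL ⁻¹ᵁ U : PL.Opens) : Scheme.{u}) ≅ Proj (𝒮L.deg U hU)))
    (hPL : RelProj.IsRelProj 𝒮L pL chartL)
    (r : ((RelProj.domQ u pL chartL : PL.Opens) : Scheme.{u}) ⟶ P)
    (hr : RelProj.IsProjQMapOn u p chart pL chartL (RelProj.domQ u pL chartL) r)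
    (𝒯 : RelProj.QCGrAlg Y) (v : 𝒯.toQCAlg ⟶ 𝒮.toQCAlg) (hv : RelProj.IsGradedHom v)
    (u' : RelProj.QGrHom q 𝒯 𝒮L) (hu' : ∀ U : Y.Opens, u'.app U = v.hom.app (op U) ≫ u.app U)
    (p' : P' ⟶ Y) (chart' : ∀ (U : Y.Opens) (hU : IsAffineOpen U), (((p' ⁻¹ᵁ U : P'.Opens) : Scheme.{u}) ≅ Proj (𝒯.deg U hU)))
    (hP' : RelProj.IsRelProj 𝒯 p' chart')
    (r' : ((RelProj.domQ u' pL chartL : PL.Opens) : Scheme.{u}) ⟶ P')
    (hr' : RelProj.IsProjQMapOn u' p' chart' pL chartL (RelProj.domQ u' pL chartL) r')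
    (hdef : RelProj.domQ u' pL chartL = ⊤) (himm : IsImmersion r') :
    RelProj.domQ u pL chartL = ⊤ ∧ IsImmersion r := by
  obtain ⟨rv, hrv, -⟩ := Groth.Agent.RelProj11.existsUnique_qMapOn (RelProj.QGrHom.ofHom v hv) hP' hP
  obtain ⟨m, hm, hmr⟩ := Groth.Agent.RelProj11.qMapOn_compHom v hv hu' hP hP' hPL hr hrv hr'
  have hle := Groth.Agent.RelProj11.domQ_comp_le v hv hu' (u := u) (p' := pL) (chart' := chartL)
  have htop : RelProj.domQ u pL chartL = ⊤ := top_le_iff.1 (hdef.symm.trans_le hle)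
  refine ⟨htop, ?_⟩
  haveI : IsImmersion (m ≫ rv) := hmr ▸ himm
  haveI : IsImmersion m := IsImmersion.of_comp m rv
  haveI : IsIso (PL.homOfLE hle) :=
    (isIso_iff_isOpenImmersion_and_surjective _).2 ⟨inferInstance, ⟨fun z =>
      ⟨⟨z.1, hdef.ge (Set.mem_univ z.1)⟩, Subtype.ext (Scheme.homOfLE_apply _ _)⟩⟩⟩
  have e : r = inv (PL.homOfLE hle) ≫ m ≫ (RelProj.domQ (RelProj.QGrHom.ofHom v hv) p chart).ι := by
    rw [hm, IsIso.inv_hom_id_assoc]
  rw [e]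
  infer_instance

end Groth.Agent.S12153
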