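import Groth.Statements.S12154
import Groth.Agent.Lib.RelProj11.QMapComp

set_option autoImplicit false
universe u
open CategoryTheory CategoryTheory.Limits AlgebraicGeometry TopologicalSpace Opposite
open scoped HomogeneousIdeal
noncomputable section
open EGA2

namespace Groth.Agent.S12154

/-- Let q : X → Y be a morphism, L an invertible O_X-module with 𝒮L = ⊕ L^{⊗n} (whose Proj, with its
charts, is X), v : 𝒯 → 𝒮 a graded homomorphism of quasi-coherent positively graded O_Y-algebras, ψ♭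
= u : 𝒮 → q_*𝒮L a graded q-morphism and ψ'♭ = u' its composite with v; let r = r_{L,ψ} : G(ψ) →
Proj(𝒮) and r' = r_{L,ψ'} : G(ψ') → Proj(𝒯), with r' everywhere defined and v (TN)-surjective (v :
𝒯_k → 𝒮_k surjective for all large k, on sections over affine opens). If r' is an open immersion, so
is r; if r' is a closed immersion, so is r. -/
theorem result {Y X P PL P' : Scheme.{u}} (q : X ⟶ Y)
    (L : X.Modules) (hL : PicF.IsInvertible L) (hLq : Coh.IsQCoh L)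
    (𝒮 : RelProj.QCGrAlg Y) (𝒮L : RelProj.QCGrAlg X) (j : L ⟶ 𝒮L.toModule) (hj : RelProj.IsGrSymAlg L 𝒮L j)
    (u : RelProj.QGrHom q 𝒮 𝒮L)
    (p : P ⟶ Y) (chart : ∀ (U : Y.Opens) (hU : IsAffineOpen U), (((p ⁻¹ᵁ U : P.Opens) : Scheme.{u}) ≅ Proj (𝒮.deg U hU)))
    (hP : RelProj.IsRelProj 𝒮 p chart)
    (pL : PL ⟶ X) (chartL : ∀ (U : X.Opens) (hU : IsAffineOpen U), (((pL ⁻¹ᵁ U : PL.Opens) : Scheme.{u}) ≅ Proj (𝒮L.deg U hU)))
    (hPL : RelProj.IsRelProj 𝒮L pL chartL)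
    (r : ((RelProj.domQ u pL chartL : PL.Opens) : Scheme.{u}) ⟶ P)
    (hr : RelProj.IsProjQMapOn u p chart pL chartL (RelProj.domQ u pL chartL) r)
    (𝒯 : RelProj.QCGrAlg Y) (v : 𝒯.toQCAlg ⟶ 𝒮.toQCAlg) (hv : RelProj.IsGradedHom v)
    (u' : RelProj.QGrHom q 𝒯 𝒮L) (hu' : ∀ U : Y.Opens, u'.app U = v.hom.app (op U) ≫ u.app U)
    (p' : P' ⟶ Y) (chart' : ∀ (U : Y.Opens) (hU : IsAffineOpen U), (((p' ⁻¹ᵁ U : P'.Opens) : Scheme.{u}) ≅ Proj (𝒯.deg U hU)))
    (hP' : RelProj.IsRelProj 𝒯 p' chart')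
    (r' : ((RelProj.domQ u' pL chartL : PL.Opens) : Scheme.{u}) ⟶ P')
    (hr' : RelProj.IsProjQMapOn u' p' chart' pL chartL (RelProj.domQ u' pL chartL) r')
    (hTN : ∃ n : ℕ, ∀ k, n ≤ k → ∀ (U : Y.Opens) (hU : IsAffineOpen U), ∀ y ∈ 𝒮.deg U hU k,
      ∃ x ∈ 𝒯.deg U hU k, (v.hom.app (op U)).hom x = y)
    (hdef : RelProj.domQ u' pL chartL = ⊤) :
    (IsOpenImmersion r' → IsOpenImmersion r) ∧ (IsClosedImmersion r' → IsClosedImmersion r) := by
  have htop := Groth.Agent.RelProj11.domQ_ofHom_eq_top v hv hTN (p := p) (chart := chart)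
  obtain ⟨h, hh⟩ := Groth.Agent.RelProj11.exists_qMap_of_top (RelProj.QGrHom.ofHom v hv) hP' hP htop
  obtain ⟨m, hm, hmr⟩ := Groth.Agent.RelProj11.qMapOn_compHom v hv hu' hP hP' hPL hr
    (Groth.Agent.RelProj11.qMapOn_of_qMap hh) hr'
  haveI : IsClosedImmersion h := by
    obtain ⟨n, hn⟩ := hTN
    refine Groth.Agent.RelProj11.qMap_of_forall_away hP' hP hh @IsClosedImmersion fun U hU d hd f hf =>
      IsClosedImmersion.spec_of_surjective _ ?_
    exact Groth.Agent.RelProj11.away_map_surjective_of_large _ n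
      (fun k hk y hy => by
        obtain ⟨x, hx, e⟩ := hn k hk U hU y hy
        exact ⟨x, hx, e⟩) hd hf
  have hle := Groth.Agent.RelProj11.domQ_comp_le v hv hu' (u := u) (p' := pL) (chart' := chartL)
  haveI : IsIso (PL.homOfLE hle) :=
    (isIso_iff_isOpenImmersion_and_surjective _).2 ⟨inferInstance, ⟨fun z =>
      ⟨⟨z.1, hdef.ge (Set.mem_univ z.1)⟩, Subtype.ext (Scheme.homOfLE_apply _ _)⟩⟩⟩
  have e : r ≫ h = inv (PL.homOfLE hle) ≫ r' := by
    rw [IsIso.eq_inv_comp, ← hmr, ← Category.assoc, ← hm, Category.assoc]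
  exact ⟨fun h' => Groth.Agent.RelProj11.of_comp_mono @IsOpenImmersion r h
      (show IsOpenImmersion (r ≫ h) by rw [e]; infer_instance),
    fun h' => Groth.Agent.RelProj11.of_comp_mono @IsClosedImmersion r h
      (show IsClosedImmersion (r ≫ h) by rw [e]; infer_instance)⟩

end Groth.Agent.S12154
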