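import Groth.Statements.S12155
import Groth.Agent.Lib.RelCone11.QMapCone

set_option autoImplicit false
universe u
open CategoryTheory CategoryTheory.Limits AlgebraicGeometry TopologicalSpace Opposite
open scoped HomogeneousIdeal
noncomputable section
open EGA2

namespace Groth.Agent.S12155

/-- Let q : Y' → Y be a morphism, φ : 𝒮 → q_*𝒮' a graded q-morphism of quasi-coherent positively graded
algebras with 𝒮_0 = O_Y, 𝒮'_0 = O_{Y'}, φ̂ : 𝒮[z] → q_*𝒮'[z] its extension with φ̂(z) = z, Ĉ =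
Proj(𝒮[z]), Ĉ' = Proj(𝒮'[z]) the projective cones with pointed cones Ê, Ê', and Φ̂ = Proj(φ̂) :
G(φ̂) → Ĉ. Then Φ̂⁻¹(Ê) ⊆ Ê'; moreover if Proj(φ) is everywhere defined on Proj(𝒮'), then Φ̂ is
everywhere defined on Ĉ' and Φ̂⁻¹(Ê) = Ê'. -/
theorem result {Y Y' PC PC' : Scheme.{u}} (q : Y' ⟶ Y)
    (𝒮 : RelProj.QCGrAlg Y) (𝒮' : RelProj.QCGrAlg Y') (h0 : RelCone.StrZeroBij 𝒮) (h0' : RelCone.StrZeroBij 𝒮')
    (u : RelProj.QGrHom q 𝒮 𝒮')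
    (𝒮h : RelProj.QCGrAlg Y) (ι : 𝒮.toQCAlg ⟶ 𝒮h.toQCAlg) (z : 𝒮h.presheaf.obj (op ⊤))
    (hz : RelCone.IsPolyOver 𝒮 𝒮h ι z)
    (pC : PC ⟶ Y) (chartC : ∀ (U : Y.Opens) (hU : IsAffineOpen U), (((pC ⁻¹ᵁ U : PC.Opens) : Scheme.{u}) ≅ Proj (𝒮h.deg U hU)))
    (hC : RelProj.IsRelProj 𝒮h pC chartC)
    (𝒮h' : RelProj.QCGrAlg Y') (ι' : 𝒮'.toQCAlg ⟶ 𝒮h'.toQCAlg) (z' : 𝒮h'.presheaf.obj (op ⊤))
    (hz' : RelCone.IsPolyOver 𝒮' 𝒮h' ι' z')
    (pC' : PC' ⟶ Y') (chartC' : ∀ (U : Y'.Opens) (hU : IsAffineOpen U), (((pC' ⁻¹ᵁ U : PC'.Opens) : Scheme.{u}) ≅ Proj (𝒮h'.deg U hU)))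
    (hC' : RelProj.IsRelProj 𝒮h' pC' chartC')
    (uh : RelProj.QGrHom q 𝒮h 𝒮h')
    (huh : ∀ U : Y.Opens, ι.hom.app (op U) ≫ uh.app U = u.app U ≫ ι'.hom.app (op (q ⁻¹ᵁ U)))
    (huhz : (uh.app ⊤).hom z = RelCone.restrictTop 𝒮h' z' (q ⁻¹ᵁ ⊤))
    (Φh : ((RelProj.domQ uh pC' chartC' : PC'.Opens) : Scheme.{u}) ⟶ PC)
    (hΦh : RelProj.IsProjQMapOn uh pC chartC pC' chartC' (RelProj.domQ uh pC' chartC') Φh)
    {P' : Scheme.{u}} (p' : P' ⟶ Y') (chart' : ∀ (U : Y'.Opens) (hU : IsAffineOpen U), (((p' ⁻¹ᵁ U : P'.Opens) : Scheme.{u}) ≅ Proj (𝒮'.deg U hU)))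
    (hP' : RelProj.IsRelProj 𝒮' p' chart') :
    (RelProj.domQ uh pC' chartC').ι ''ᵁ (Φh ⁻¹ᵁ RelCone.pointedProjCone 𝒮 hz pC chartC) ≤ RelCone.pointedProjCone 𝒮' hz' pC' chartC' ∧
      (RelProj.domQ u p' chart' = ⊤ →
        RelProj.domQ uh pC' chartC' = ⊤ ∧
          (RelProj.domQ uh pC' chartC').ι ''ᵁ (Φh ⁻¹ᵁ RelCone.pointedProjCone 𝒮 hz pC chartC) = RelCone.pointedProjCone 𝒮' hz' pC' chartC') := by
  have e := Groth.Agent.RelCone11.pointedProjCone_eq_domQ hz pC chartC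
  have e' := Groth.Agent.RelCone11.pointedProjCone_eq_domQ hz' pC' chartC'
  obtain ⟨P, p, chart, hP⟩ := Groth.Agent.RelProj11.exists_isRelProj 𝒮
  let u'' := Groth.Agent.RelProj11.postComp u ι' hz'.graded
  have hu'' : ∀ U : Y.Opens, u''.app U = ι.hom.app (op U) ≫ uh.app U := fun U => (huh U).symm
  have hmem : ∀ x : (RelProj.domQ uh pC' chartC').toScheme,
      Φh x ∈ RelCone.pointedProjCone 𝒮 hz pC chartC ↔ x.1 ∈ RelProj.domQ u'' pC' chartC' := fun x => by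
    rw [e]
    exact Groth.Agent.RelProj11.mem_domQ_comp_iff ι hz.graded hu'' hC hP hC' hΦh x
  have hle : RelProj.domQ u'' pC' chartC' ≤ RelCone.pointedProjCone 𝒮' hz' pC' chartC' := by
    rw [e']
    exact Groth.Agent.RelProj11.domQ_postComp_le u ι' hz'.graded
  refine ⟨?_, fun htop => ?_⟩
  · rintro _ ⟨x, hx, rfl⟩
    exact hle ((hmem x).1 hx)
  · have hge : RelCone.pointedProjCone 𝒮' hz' pC' chartC' ≤ RelProj.domQ u'' pC' chartC' := by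
      intro x hx
      rw [e'] at hx
      obtain ⟨r', hr', -⟩ := Groth.Agent.RelProj11.existsUnique_qMapOn
        (RelProj.QGrHom.ofHom ι' hz'.graded) hP' hC'
      exact (Groth.Agent.RelProj11.mem_domQ_postComp_iff u ι' hz'.graded hP hP' hC' hr' ⟨x, hx⟩).1
        (htop.ge (Set.mem_univ _))
    have htop' : RelProj.domQ uh pC' chartC' = ⊤ := by
      refine top_le_iff.1 fun x _ => ?_
      obtain ⟨U, hU, hyU, -⟩ :=
        exists_isAffineOpen_mem_and_subset (U := (⊤ : Y.Opens)) (x := q (pC' x)) trivial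
      obtain ⟨U', hU', hx', hle'⟩ := exists_isAffineOpen_mem_and_subset (U := q ⁻¹ᵁ U) (x := pC' x) hyU
      obtain ⟨w, rfl⟩ : x ∈ Set.range (RelProj.emb pC' chartC' U' hU') := by
        rw [Groth.Agent.RelProj11.range_emb]; exact hx'
      by_cases hw : RelCone.restrictTop 𝒮h' z' U' ∈ w.asHomogeneousIdeal
      · exact Groth.Agent.RelProj11.domQ_comp_le ι hz.graded hu''
          (hge (Groth.Agent.RelCone11.mem_pointed_of_z_mem hz' hU' w hw))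
      · exact Groth.Agent.RelCone11.mem_domQ_of_z (hz := hz) huhz hU hU' hle' w hw
    refine ⟨htop', le_antisymm ?_ fun x hx => ?_⟩
    · rintro _ ⟨x, hx, rfl⟩
      exact hle ((hmem x).1 hx)
    · exact ⟨⟨x, htop'.ge (Set.mem_univ x)⟩, (hmem _).2 (hge hx), rfl⟩

end Groth.Agent.S12155
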