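import Groth.Statements.S12156
import Groth.Agent.Lib.RelCone11.QMapCone

set_option autoImplicit false
universe u
open CategoryTheory CategoryTheory.Limits AlgebraicGeometry TopologicalSpace Opposite
open scoped HomogeneousIdeal
noncomputable section
open EGA2

namespace Groth.Agent.S12156

/-- Let q : Y' → Y be a morphism, φ : 𝒮 → q_*𝒮' a graded q-morphism of quasi-coherent positively graded
algebras with 𝒮_0 = O_Y, 𝒮'_0 = O_{Y'}, φ̂ : 𝒮[z] → q_*𝒮'[z] its extension with φ̂(z) = z, Ĉ =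
Proj(𝒮[z]), Ĉ' = Proj(𝒮'[z]) the projective cones with pointed cones Ê, Ê', and Φ̂ = Proj(φ̂) :
G(φ̂) → Ĉ; let X = Proj(𝒮), X' = Proj(𝒮'), Proj(φ) : G(φ) → X on its open of definition G(φ) ⊆ X',
and p̂ : Ê → X, p̂' : Ê' → X' the canonical retractions. Then p̂'(Φ̂⁻¹(Ê)) ⊆ G(φ) and on Φ̂⁻¹(Ê) the
composites p̂ ∘ Φ̂ and Proj(φ) ∘ p̂' agree (stated on T-valued points: a : T → Ê' and b : T → G(φ̂)
agreeing in Ĉ' with Φ̂ ∘ b = c : T → Ê). -/
theorem result {Y Y' PC PC' : Scheme.{u}} (q : Y' ⟶ Y)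
    (𝒮 : RelProj.QCGrAlg Y) (𝒮' : RelProj.QCGrAlg Y') (h0 : RelCone.StrZeroBij 𝒮) (h0' : RelCone.StrZeroBij 𝒮')
    (u : RelProj.QGrHom q 𝒮 𝒮')
    (𝒮h : RelProj.QCGrAlg Y) (ι : 𝒮.toQCAlg ⟶ 𝒮h.toQCAlg) (z : 𝒮h.presheaf.obj (op ⊤))
    (hz : RelCone.IsPolyOver 𝒮 𝒮h ι z)
    (pC : PC ⟶ Y) (chartC : ∀ (U : Y.Opens) (hU : IsAffineOpen U), (((pC ⁻¹ᵁ U : PC.Opens) : Scheme.{u}) ≅ Proj (𝒮h.deg U hU)))
    (hC : RelProj.IsRelProj 𝒮h pC chartC)
    (𝒮h' : RelProj.QCGrAlg Y') (ι' : 𝒮'.toQCAlg ⟶ 𝒮h'.toQCAlg) (z' : 𝒮h'.presheaf.obj (op ⊤))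
    (hz' : RelCone.IsPolyOver 𝒮' 𝒮h' ι' z')
    (pC' : PC' ⟶ Y') (chartC' : ∀ (U : Y'.Opens) (hU : IsAffineOpen U), (((pC' ⁻¹ᵁ U : PC'.Opens) : Scheme.{u}) ≅ Proj (𝒮h'.deg U hU)))
    (hC' : RelProj.IsRelProj 𝒮h' pC' chartC')
    (uh : RelProj.QGrHom q 𝒮h 𝒮h')
    (huh : ∀ U : Y.Opens, ι.hom.app (op U) ≫ uh.app U = u.app U ≫ ι'.hom.app (op (q ⁻¹ᵁ U)))
    (huhz : (uh.app ⊤).hom z = RelCone.restrictTop 𝒮h' z' (q ⁻¹ᵁ ⊤))
    (Φh : ((RelProj.domQ uh pC' chartC' : PC'.Opens) : Scheme.{u}) ⟶ PC)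
    (hΦh : RelProj.IsProjQMapOn uh pC chartC pC' chartC' (RelProj.domQ uh pC' chartC') Φh)
    {P P' : Scheme.{u}} (p : P ⟶ Y) (chart : ∀ (U : Y.Opens) (hU : IsAffineOpen U), (((p ⁻¹ᵁ U : P.Opens) : Scheme.{u}) ≅ Proj (𝒮.deg U hU)))
    (hP : RelProj.IsRelProj 𝒮 p chart)
    (p' : P' ⟶ Y') (chart' : ∀ (U : Y'.Opens) (hU : IsAffineOpen U), (((p' ⁻¹ᵁ U : P'.Opens) : Scheme.{u}) ≅ Proj (𝒮'.deg U hU)))
    (hP' : RelProj.IsRelProj 𝒮' p' chart')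
    (Φ : ((RelProj.domQ u p' chart' : P'.Opens) : Scheme.{u}) ⟶ P)
    (hΦ : RelProj.IsProjQMapOn u p chart p' chart' (RelProj.domQ u p' chart') Φ)
    (r : ((RelCone.pointedProjCone 𝒮 hz pC chartC : PC.Opens) : Scheme.{u}) ⟶ P)
    (hr : RelProj.IsProjQMapOn (RelProj.QGrHom.ofHom ι hz.graded) p chart pC chartC (RelCone.pointedProjCone 𝒮 hz pC chartC) r)
    (r' : ((RelCone.pointedProjCone 𝒮' hz' pC' chartC' : PC'.Opens) : Scheme.{u}) ⟶ P')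
    (hr' : RelProj.IsProjQMapOn (RelProj.QGrHom.ofHom ι' hz'.graded) p' chart' pC' chartC' (RelCone.pointedProjCone 𝒮' hz' pC' chartC') r')
    (T : Scheme.{u}) (a : T ⟶ ((RelCone.pointedProjCone 𝒮' hz' pC' chartC' : PC'.Opens) : Scheme.{u}))
    (b : T ⟶ ((RelProj.domQ uh pC' chartC' : PC'.Opens) : Scheme.{u}))
    (c : T ⟶ ((RelCone.pointedProjCone 𝒮 hz pC chartC : PC.Opens) : Scheme.{u}))
    (hab : a ≫ (RelCone.pointedProjCone 𝒮' hz' pC' chartC').ι = b ≫ (RelProj.domQ uh pC' chartC').ι) (hbc : b ≫ Φh = c ≫ (RelCone.pointedProjCone 𝒮 hz pC chartC).ι) :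
    Set.range (a ≫ r').base ⊆ ((RelProj.domQ u p' chart' : P'.Opens) : Set P') ∧
      ∀ d : T ⟶ ((RelProj.domQ u p' chart' : P'.Opens) : Scheme.{u}),
        a ≫ r' = d ≫ (RelProj.domQ u p' chart').ι → c ≫ r = d ≫ Φ := by
  have e := Groth.Agent.RelCone11.pointedProjCone_eq_domQ hz pC chartC
  have e' := Groth.Agent.RelCone11.pointedProjCone_eq_domQ hz' pC' chartC'
  let u'' := Groth.Agent.RelProj11.postComp u ι' hz'.graded
  have hu'' : ∀ U : Y.Opens, u''.app U = ι.hom.app (op U) ≫ uh.app U := fun U => (huh U).symm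
  have key : ∀ (W : PC.Opens) (W' : PC'.Opens)
      (_ : W = RelProj.domQ (RelProj.QGrHom.ofHom ι hz.graded) pC chartC)
      (_ : W' = RelProj.domQ (RelProj.QGrHom.ofHom ι' hz'.graded) pC' chartC') (r : W.toScheme ⟶ P)
      (_ : RelProj.IsProjQMapOn (RelProj.QGrHom.ofHom ι hz.graded) p chart pC chartC W r)
      (r' : W'.toScheme ⟶ P')
      (_ : RelProj.IsProjQMapOn (RelProj.QGrHom.ofHom ι' hz'.graded) p' chart' pC' chartC' W' r')
      (a : T ⟶ W'.toScheme) (b : T ⟶ (RelProj.domQ uh pC' chartC').toScheme) (c : T ⟶ W.toScheme)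
      (_ : a ≫ W'.ι = b ≫ (RelProj.domQ uh pC' chartC').ι) (_ : b ≫ Φh = c ≫ W.ι),
      Set.range (a ≫ r').base ⊆ ((RelProj.domQ u p' chart' : P'.Opens) : Set P') ∧
        ∀ d : T ⟶ ((RelProj.domQ u p' chart' : P'.Opens) : Scheme.{u}),
          a ≫ r' = d ≫ (RelProj.domQ u p' chart').ι → c ≫ r = d ≫ Φ := by
    intro W W' hW hW' r hr r' hr' a b c hab hbc
    subst hW hW'
    have hmemb : ∀ t, (b t).1 ∈ RelProj.domQ u'' pC' chartC' := fun t => by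
      refine (Groth.Agent.RelProj11.mem_domQ_comp_iff ι hz.graded hu'' hC hP hC' hΦh (b t)).1 ?_
      rw [← Scheme.Hom.comp_apply, hbc]
      exact (c t).2
    refine ⟨?_, fun d hd => ?_⟩
    · rintro _ ⟨t, rfl⟩
      refine (Groth.Agent.RelProj11.mem_domQ_postComp_iff u ι' hz'.graded hP hP' hC' hr' (a t)).2 ?_
      rw [show (a t).1 = (b t).1 from congr($hab t)]
      exact hmemb t
    let t0 := IsOpenImmersion.lift (RelProj.domQ u'' pC' chartC').ι (b ≫ (RelProj.domQ uh pC' chartC').ι) (by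
      rw [Scheme.Opens.range_ι]
      rintro _ ⟨t, rfl⟩
      exact hmemb t)
    obtain ⟨r'', hr'', -⟩ := Groth.Agent.RelProj11.existsUnique_qMapOn u'' hP hC'
    obtain ⟨m, hm, hmr⟩ := Groth.Agent.RelProj11.qMapOn_compHom ι hz.graded hu'' hC hP hC' hΦh hr hr''
    obtain ⟨m', hm', hmr'⟩ := Groth.Agent.RelProj11.qMapOn_postComp u ι' hz'.graded hP hP' hC' hr' hΦ hr''
    have eb : t0 ≫ PC'.homOfLE (Groth.Agent.RelProj11.domQ_comp_le ι hz.graded hu'') = b := by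
      rw [← cancel_mono (RelProj.domQ uh pC' chartC').ι, Category.assoc, Scheme.homOfLE_ι]
      exact IsOpenImmersion.lift_fac _ _ _
    have ea : t0 ≫ PC'.homOfLE (Groth.Agent.RelProj11.domQ_postComp_le u ι' hz'.graded) = a := by
      rw [← cancel_mono (RelProj.domQ (RelProj.QGrHom.ofHom ι' hz'.graded) pC' chartC').ι, Category.assoc,
        Scheme.homOfLE_ι, hab]
      exact IsOpenImmersion.lift_fac _ _ _
    rw [Groth.Agent.RelProj11.comp_eq_of_lift hm (c := c) (t := t0) (by rw [← hbc, ← eb, Category.assoc]) hmr,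
      Groth.Agent.RelProj11.comp_eq_of_lift hm' (c := d) (t := t0) (by rw [← hd, ← ea, Category.assoc]) hmr']
  exact key _ _ e e' r hr r' hr' a b c hab hbc

end Groth.Agent.S12156
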