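import Groth.Statements.S12157
import Groth.Agent.Lib.RelCone11.QMapCone
import Groth.Agent.Lib.RelCone11.ConeImm

set_option autoImplicit false
universe u
open CategoryTheory CategoryTheory.Limits AlgebraicGeometry TopologicalSpace Opposite
open scoped HomogeneousIdeal
noncomputable section
open EGA2

namespace Groth.Agent.S12157

/-- Let q : Y' → Y be a morphism, φ : 𝒮 → q_*𝒮' a graded q-morphism of quasi-coherent positively graded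
algebras with 𝒮_0 = O_Y, 𝒮'_0 = O_{Y'}, φ̂ : 𝒮[z] → q_*𝒮'[z] its extension with φ̂(z) = z, Ĉ =
Proj(𝒮[z]), Ĉ' = Proj(𝒮'[z]) the projective cones with pointed cones Ê, Ê', and Φ̂ = Proj(φ̂) :
G(φ̂) → Ĉ; let Φ = Spec(φ) : C' = Spec(𝒮') → C = Spec(𝒮) be the morphism of affine cones and i : C →
Ĉ, i' : C' → Ĉ' the canonical open immersions. Then i'(C') ⊆ G(φ̂) and the square formed by Φ, i', i
and Φ̂ commutes. -/
theorem result {Y Y' PC PC' : Scheme.{u}} (q : Y' ⟶ Y)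
    (𝒮 : RelProj.QCGrAlg Y) (𝒮' : RelProj.QCGrAlg Y') (h0 : RelCone.StrZeroBij 𝒮) (h0' : RelCone.StrZeroBij 𝒮')
    (u : RelProj.QGrHom q 𝒮 𝒮')
    (𝒮h : RelProj.QCGrAlg Y) (ι : 𝒮.toQCAlg ⟶ 𝒮h.toQCAlg) (z : 𝒮h.presheaf.obj (op ⊤))
    (hz : RelCone.IsPolyOver 𝒮 𝒮h ι z)
    (pC : PC ⟶ Y) (chartC : ∀ (U : Y.Opens) (hU : IsAffineOpen U), (((pC ⁻¹ᵁ U : PC.Opens) : Scheme.{u}) ≅ Proj (𝒮h.deg U hU)))
    (hC : RelProj.IsRelProj 𝒮h pC chartC)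
    (𝒮h' : RelProj.QCGrAlg Y') (ι' : 𝒮'.toQCAlg ⟶ 𝒮h'.toQCAlg) (z' : 𝒮h'.presheaf.obj (op ⊤))
    (hz' : RelCone.IsPolyOver 𝒮' 𝒮h' ι' z')
    (pC' : PC' ⟶ Y') (chartC' : ∀ (U : Y'.Opens) (hU : IsAffineOpen U), (((pC' ⁻¹ᵁ U : PC'.Opens) : Scheme.{u}) ≅ Proj (𝒮h'.deg U hU)))
    (hC' : RelProj.IsRelProj 𝒮h' pC' chartC')
    (uh : RelProj.QGrHom q 𝒮h 𝒮h')
    (huh : ∀ U : Y.Opens, ι.hom.app (op U) ≫ uh.app U = u.app U ≫ ι'.hom.app (op (q ⁻¹ᵁ U)))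
    (huhz : (uh.app ⊤).hom z = RelCone.restrictTop 𝒮h' z' (q ⁻¹ᵁ ⊤))
    (Φh : ((RelProj.domQ uh pC' chartC' : PC'.Opens) : Scheme.{u}) ⟶ PC)
    (hΦh : RelProj.IsProjQMapOn uh pC chartC pC' chartC' (RelProj.domQ uh pC' chartC') Φh)
    (Φc : 𝒮'.toQCAlg.spec ⟶ 𝒮.toQCAlg.spec) (hΦc : RelSpec.IsSpecQMap u.toQHom Φc)
    (i : 𝒮.toQCAlg.spec ⟶ PC) (hi : RelCone.IsConeImm 𝒮 hz pC chartC i)
    (i' : 𝒮'.toQCAlg.spec ⟶ PC') (hi' : RelCone.IsConeImm 𝒮' hz' pC' chartC' i') :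
    Set.range i'.base ⊆ ((RelProj.domQ uh pC' chartC' : PC'.Opens) : Set PC') ∧
      ∀ i'' : 𝒮'.toQCAlg.spec ⟶ ((RelProj.domQ uh pC' chartC' : PC'.Opens) : Scheme.{u}),
        i'' ≫ (RelProj.domQ uh pC' chartC').ι = i' → i'' ≫ Φh = Φc ≫ i := by
  have cov : ∀ c : 𝒮'.toQCAlg.spec, ∃ (U : Y.Opens) (hU : IsAffineOpen U) (U' : Y'.Opens) (hU' : IsAffineOpen U')
      (_ : U' ≤ q ⁻¹ᵁ U) (q' : Spec (𝒮'.presheaf.obj (op U'))), 𝒮'.toQCAlg.ι U' hU' q' = c := fun c => by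
    obtain ⟨U, hU, hy, -⟩ :=
      exists_isAffineOpen_mem_and_subset (U := (⊤ : Y.Opens)) (x := q (𝒮'.toQCAlg.π c)) trivial
    obtain ⟨U', hU', hy', hle⟩ := exists_isAffineOpen_mem_and_subset (U := q ⁻¹ᵁ U) (x := 𝒮'.toQCAlg.π c) hy
    obtain ⟨q', hq'⟩ := Groth.Agent.RelCone11.mem_range_ι 𝒮'.toQCAlg hU' c hy'
    exact ⟨U, hU, U', hU', hle, q', hq'⟩
  refine ⟨?_, fun i'' hi'' => ?_⟩
  · rintro _ ⟨c, rfl⟩
    obtain ⟨U, hU, U', hU', hle, q', rfl⟩ := cov c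
    rw [← Scheme.Hom.comp_apply, Groth.Agent.RelCone11.ι_coneImm hz' hi' U' hU', Scheme.Hom.comp_apply]
    refine Groth.Agent.RelCone11.mem_domQ_of_z (hz := hz) huhz hU hU' hle _ ?_
    exact (ProjectiveSpectrum.mem_basicOpen _ _ _).1
      ((Groth.Agent.RelCone11.range_coneChart hz' hU').le ⟨q', rfl⟩)
  choose U hU U' hU' hle q' hq' using cov
  refine Scheme.Cover.hom_ext (𝒮'.toQCAlg.spec.openCoverOfIsOpenCover
    (fun c => (𝒮'.toQCAlg.ι (U' c) (hU' c)).opensRange)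
    (top_le_iff.1 fun c _ => Opens.mem_iSup.2 ⟨c, q' c, hq' c⟩)) _ _
    fun (c : (𝒮'.toQCAlg.spec : Scheme.{u})) => ?_
  suffices h : 𝒮'.toQCAlg.ι (U' c) (hU' c) ≫ i'' ≫ Φh = 𝒮'.toQCAlg.ι (U' c) (hU' c) ≫ Φc ≫ i by
    change (𝒮'.toQCAlg.ι (U' c) (hU' c)).opensRange.ι ≫ _ = (𝒮'.toQCAlg.ι (U' c) (hU' c)).opensRange.ι ≫ _
    rw [← IsOpenImmersion.lift_fac (𝒮'.toQCAlg.ι (U' c) (hU' c)) (𝒮'.toQCAlg.ι (U' c) (hU' c)).opensRange.ι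
      (by rw [Scheme.Opens.range_ι]; rfl), Category.assoc, Category.assoc, h]
  let iz : Groth.Agent.RelProj11.QIdx (g := q) (𝒮 := 𝒮h) :=
    ⟨U c, hU c, U' c, hU' c, hle c, 1, one_pos, _, hz.deg_z (U c) (hU c)⟩
  obtain ⟨n, hn₁, hn₂⟩ := Groth.Agent.RelCone11.exists_chart_map
    (uh.gradedAt (U c) (hU c) (U' c) (hU' c) (hle c)) (hz.deg_z (U c) (hU c)) (hz'.deg_z (U' c) (hU' c))
    (Groth.Agent.RelCone11.appLE_restrictTop huhz (hle c)) (hz.awayZToBase (U c) (hU c))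
    (hz'.awayZToBase (U' c) (hU' c)) (u.appLE (U c) (U' c) (hle c)).hom (hz.evalOne (U c) (hU c))
    (hz'.evalOne (U' c) (hU' c))
    (fun m y hy => Groth.Agent.RelCone11.awayZToBase_mk hz (hU c) m y hy)
    (fun m y hy => Groth.Agent.RelCone11.awayZToBase_mk hz' (hU' c) m y hy)
    (fun y => DFunLike.congr_fun (Groth.Agent.RelCone11.evalOne_comm (hz := hz) (hz' := hz') huh huhz (hU c) (hU' c) (hle c)) y)
  let n' : Spec (𝒮'.presheaf.obj (op (U' c))) ⟶ Groth.Agent.RelProj11.qDom (u := uh) iz := n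
  have hn' : 𝒮'.toQCAlg.ι (U' c) (hU' c) ≫ i'' = n' ≫ IsOpenImmersion.lift (RelProj.domQ uh pC' chartC').ι
      (Groth.Agent.RelProj11.qC uh pC' chartC' iz) (Groth.Agent.RelProj11.range_qC_subset iz) := by
    rw [← cancel_mono (RelProj.domQ uh pC' chartC').ι, Category.assoc, Category.assoc, hi'',
      IsOpenImmersion.lift_fac, hi' (U' c) (hU' c)]
    exact ((Category.assoc _ _ _).symm.trans (congrArg (· ≫ _) hn₁.symm)).trans (Category.assoc _ _ _)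
  rw [reassoc_of% hn', Groth.Agent.RelProj11.lift_qC_comp hΦh iz,
    reassoc_of% hΦc (U c) (hU c) (U' c) (hU' c) (hle c), hi (U c) (hU c)]
  exact ((Category.assoc _ _ _).symm.trans (congrArg (· ≫ _) hn₂)).trans (Category.assoc _ _ _)

end Groth.Agent.S12157
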