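import Groth.Statements.S12160
import Groth.Agent.Lib.RelProj11.QMapColim
import Groth.Agent.Lib.SymAlg11.LineDom
import Groth.Agent.S12149

set_option autoImplicit false
universe u
open CategoryTheory CategoryTheory.Limits AlgebraicGeometry TopologicalSpace Opposite
open scoped HomogeneousIdeal
noncomputable section
open EGA2

namespace Groth.Agent.S12160

/-- Let Y be a quasi-compact scheme, q : X → Y a quasi-compact morphism, L an invertible O_X-module with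
𝒮L = ⊕ L^{⊗n} (whose Proj is X), 𝒮 = colim 𝒮^i a filtered colimit of quasi-coherent positively
graded O_Y-algebras along graded homomorphisms φ_i : 𝒮^i → 𝒮 (colimit taken on sections over affine
opens), ψ♭ = u : 𝒮 → q_*𝒮L a graded q-morphism and ψ_i♭ = u ∘ φ_i; let r = r_{L,ψ} : G(ψ) → Proj(𝒮)
and r_i = r_{L,ψ_i} : G(ψ_i) → Proj(𝒮^i). If all the r_i are dominant then r is dominant; the
converse holds when the φ_i are injective. -/
theorem result {Y X P PL : Scheme.{u}} (q : X ⟶ Y)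
    (L : X.Modules) (hL : PicF.IsInvertible L) (hLq : Coh.IsQCoh L)
    (𝒮 : RelProj.QCGrAlg Y) (𝒮L : RelProj.QCGrAlg X) (j : L ⟶ 𝒮L.toModule) (hj : RelProj.IsGrSymAlg L 𝒮L j)
    (u : RelProj.QGrHom q 𝒮 𝒮L)
    (p : P ⟶ Y) (chart : ∀ (U : Y.Opens) (hU : IsAffineOpen U), (((p ⁻¹ᵁ U : P.Opens) : Scheme.{u}) ≅ Proj (𝒮.deg U hU)))
    (hP : RelProj.IsRelProj 𝒮 p chart)
    (pL : PL ⟶ X) (chartL : ∀ (U : X.Opens) (hU : IsAffineOpen U), (((pL ⁻¹ᵁ U : PL.Opens) : Scheme.{u}) ≅ Proj (𝒮L.deg U hU)))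
    (hPL : RelProj.IsRelProj 𝒮L pL chartL)
    [CompactSpace Y] [QuasiCompact q]
    (r : ((RelProj.domQ u pL chartL : PL.Opens) : Scheme.{u}) ⟶ P)
    (hr : RelProj.IsProjQMapOn u p chart pL chartL (RelProj.domQ u pL chartL) r)
    (Λ : Type u) [Preorder Λ] [IsDirected Λ (· ≤ ·)] [Nonempty Λ]
    (𝒮i : Λ → RelProj.QCGrAlg Y) (φ : ∀ i, (𝒮i i).toQCAlg ⟶ 𝒮.toQCAlg) (hφ : ∀ i, RelProj.IsGradedHom (φ i))
    (t : ∀ i j, i ≤ j → ((𝒮i i).toQCAlg ⟶ (𝒮i j).toQCAlg)) (ht : ∀ i j (h : i ≤ j), RelProj.IsGradedHom (t i j h))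
    (hφt : ∀ i j (h : i ≤ j), t i j h ≫ φ j = φ i)
    (hsurj : ∀ (U : Y.Opens), IsAffineOpen U → ∀ x : 𝒮.presheaf.obj (op U),
      ∃ (i : Λ) (y : (𝒮i i).presheaf.obj (op U)), ((φ i).hom.app (op U)).hom y = x)
    (hker : ∀ (U : Y.Opens), IsAffineOpen U → ∀ (i : Λ) (y : (𝒮i i).presheaf.obj (op U)),
      ((φ i).hom.app (op U)).hom y = 0 → ∃ (j : Λ) (h : i ≤ j), ((t i j h).hom.app (op U)).hom y = 0)
    (ui : ∀ i, RelProj.QGrHom q (𝒮i i) 𝒮L) (hui : ∀ i (U : Y.Opens), (ui i).app U = (φ i).hom.app (op U) ≫ u.app U)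
    (Pi : Λ → Scheme.{u}) (pi : ∀ i, Pi i ⟶ Y)
    (charti : ∀ i (U : Y.Opens) (hU : IsAffineOpen U), ((((pi i) ⁻¹ᵁ U : (Pi i).Opens) : Scheme.{u}) ≅ Proj ((𝒮i i).deg U hU)))
    (hPi : ∀ i, RelProj.IsRelProj (𝒮i i) (pi i) (charti i))
    (ri : ∀ i, ((RelProj.domQ (ui i) pL chartL : PL.Opens) : Scheme.{u}) ⟶ Pi i)
    (hri : ∀ i, RelProj.IsProjQMapOn (ui i) (pi i) (charti i) pL chartL (RelProj.domQ (ui i) pL chartL) (ri i)) :
    ((∀ i, IsDominant (ri i)) → IsDominant r) ∧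
      ((∀ i (U : Y.Opens), IsAffineOpen U → Function.Injective ((φ i).hom.app (op U)).hom) →
        IsDominant r → ∀ i, IsDominant (ri i)) := by
  refine ⟨fun hdom => ⟨fun y => mem_closure_iff.2 fun O hO hyO => ?_⟩, fun hinj hd i => ?_⟩
  · obtain ⟨U, hU, hyU, -⟩ :=
      exists_isAffineOpen_mem_and_subset (U := (⊤ : Y.Opens)) (x := p y) trivial
    obtain ⟨w, rfl⟩ : y ∈ Set.range (RelProj.emb p chart U hU) := by
      rw [Groth.Agent.RelProj11.range_emb]; exact hyU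
    obtain ⟨d, hd, f, hf, hwf, hfO⟩ := Groth.Agent.SymAlg11.exists_basicOpen_le_proj (𝒮.deg U hU)
      (O := RelProj.emb p chart U hU ⁻¹ᵁ ⟨O, hO⟩) (w := w) hyO
    obtain ⟨i, y₀, hy₀, rfl⟩ := Groth.Agent.RelProj11.exists_homogeneous_preimage φ hφ hsurj hU hf
    obtain ⟨w₀, hw₀⟩ : ∃ w₀, w₀ ∈ Proj.basicOpen ((𝒮i i).deg U hU) y₀ := by
      by_contra hc
      push Not at hc
      obtain ⟨k, hk⟩ := (Groth.Agent.SymAlg11.proj_basicOpen_eq_bot_iff _ hd hy₀).1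
        (le_bot_iff.1 fun x hx => (hc x hx).elim)
      have hnil : IsNilpotent (((φ i).hom.app (op U)).hom y₀) := ⟨k, by rw [← map_pow, hk, map_zero]⟩
      exact ((Groth.Agent.SymAlg11.proj_basicOpen_eq_bot_iff _ hd hf).2 hnil).le hwf
    obtain ⟨_, hmem, z, rfl⟩ := mem_closure_iff.1 ((hdom i).denseRange (RelProj.emb (pi i) (charti i) U hU w₀)) _
      (RelProj.emb (pi i) (charti i) U hU ''ᵁ Proj.basicOpen ((𝒮i i).deg U hU) y₀).isOpen ⟨w₀, hw₀, rfl⟩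
    have hzq : q (pL z.1) ∈ U := by
      have h1 : pi i (ri i z) ∈ U := by
        obtain ⟨a, -, ha⟩ := hmem
        rw [← ha]
        exact ((charti i U hU).inv a).2
      have h2 : pi i (ri i z) = q (pL z.1) :=
        congr($(Groth.Agent.RelProj11.qMapOn_comp (hPi i) hPL (hri i)) z)
      rwa [h2] at h1
    obtain ⟨U', hU', hz', hle⟩ := exists_isAffineOpen_mem_and_subset (U := q ⁻¹ᵁ U) (x := pL z.1) hzq
    have h3 := (Groth.Agent.RelProj11.mem_preimage_emb_basicOpen_iff (hPi i) hPL (hri i)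
      ⟨U, hU, U', hU', hle, d, hd, y₀, hy₀⟩ z hz').1 hmem
    rw [← Groth.Agent.RelProj11.qC_push (φ i) (hφ i) (hui i) ⟨U, hU, U', hU', hle, d, hd, y₀, hy₀⟩] at h3
    have hzd := Groth.Agent.RelProj11.range_qC_subset _ h3
    rw [Scheme.Opens.range_ι] at hzd
    obtain ⟨a, ha, e⟩ := (Groth.Agent.RelProj11.mem_preimage_emb_basicOpen_iff hP hPL hr _ ⟨z.1, hzd⟩ hz').2 h3
    exact ⟨r ⟨z.1, hzd⟩, e ▸ hfO ha, _, rfl⟩
  · exact Groth.Agent.S12149.result q L hL hLq 𝒮 𝒮L j hj u p chart hP pL chartL hPL r hr (𝒮i i) (φ i) (hφ i)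
      (ui i) (hui i) (pi i) (charti i) (hPi i) (ri i) (hri i)
      ⟨0, fun k _ U hU x _ hx => hinj i U hU (hx.trans (map_zero _).symm)⟩ hd

end Groth.Agent.S12160
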