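import Groth.Statements.S12161
import Groth.Agent.Lib.RelProj11.QMapColimImm
import Groth.Agent.S12153

set_option autoImplicit false
universe u
open CategoryTheory CategoryTheory.Limits AlgebraicGeometry TopologicalSpace Opposite
open scoped HomogeneousIdeal
noncomputable section
open EGA2

namespace Groth.Agent.S12161

/-- Let Y be a quasi-compact scheme, q : X → Y a quasi-compact morphism, L an invertible O_X-module with
𝒮L = ⊕ L^{⊗n} (whose Proj is X), 𝒮 = colim 𝒮^i a filtered colimit of quasi-coherent positively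
graded O_Y-algebras along graded homomorphisms φ_i : 𝒮^i → 𝒮 (colimit taken on sections over affine
opens), ψ♭ = u : 𝒮 → q_*𝒮L a graded q-morphism and ψ_i♭ = u ∘ φ_i, with q of finite type; let r =
r_{L,ψ} : G(ψ) → Proj(𝒮) and r_i = r_{L,ψ_i} : G(ψ_i) → Proj(𝒮^i). Then r is everywhere defined and
an immersion if and only if some r_i is, and then so is r_j for all j ≥ i. -/
theorem result {Y X P PL : Scheme.{u}} (q : X ⟶ Y)
    (L : X.Modules) (hL : PicF.IsInvertible L) (hLq : Coh.IsQCoh L)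
    (𝒮 : RelProj.QCGrAlg Y) (𝒮L : RelProj.QCGrAlg X) (j : L ⟶ 𝒮L.toModule) (hj : RelProj.IsGrSymAlg L 𝒮L j)
    (u : RelProj.QGrHom q 𝒮 𝒮L)
    (p : P ⟶ Y) (chart : ∀ (U : Y.Opens) (hU : IsAffineOpen U), (((p ⁻¹ᵁ U : P.Opens) : Scheme.{u}) ≅ Proj (𝒮.deg U hU)))
    (hP : RelProj.IsRelProj 𝒮 p chart)
    (pL : PL ⟶ X) (chartL : ∀ (U : X.Opens) (hU : IsAffineOpen U), (((pL ⁻¹ᵁ U : PL.Opens) : Scheme.{u}) ≅ Proj (𝒮L.deg U hU)))
    (hPL : RelProj.IsRelProj 𝒮L pL chartL)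
    [CompactSpace Y] [QuasiCompact q] [LocallyOfFiniteType q]
    (r : ((RelProj.domQ u pL chartL : PL.Opens) : Scheme.{u}) ⟶ P)
    (hr : RelProj.IsProjQMapOn u p chart pL chartL (RelProj.domQ u pL chartL) r)
    (Λ : Type u) [Preorder Λ] [IsDirected Λ (· ≤ ·)] [Nonempty Λ]
    (𝒮i : Λ → RelProj.QCGrAlg Y) (φ : ∀ i, (𝒮i i).toQCAlg ⟶ 𝒮.toQCAlg) (hφ : ∀ i, RelProj.IsGradedHom (φ i))
    (t : ∀ i j, i ≤ j → ((𝒮i i).toQCAlg ⟶ (𝒮i j).toQCAlg)) (ht : ∀ i j (h : i ≤ j), RelProj.IsGradedHom (t i j h))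
    (hφt : ∀ i j (h : i ≤ j), t i j h ≫ φ j = φ i)
    (hsurj : ∀ (U : Y.Opens), IsAffineOpen U → ∀ x : 𝒮.presheaf.obj (op U),
      ∃ (i : Λ) (y : (𝒮i i).presheaf.obj (op U)), ((φ i).hom.app (op U)).hom y = x)
    (hker : ∀ (U : Y.Opens), IsAffineOpen U → ∀ (i : Λ) (y : (𝒮i i).presheaf.obj (op U)),
      ((φ i).hom.app (op U)).hom y = 0 → ∃ (j : Λ) (h : i ≤ j), ((t i j h).hom.app (op U)).hom y = 0)
    (ui : ∀ i, RelProj.QGrHom q (𝒮i i) 𝒮L) (hui : ∀ i (U : Y.Opens), (ui i).app U = (φ i).hom.app (op U) ≫ u.app U)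
    (Pi : Λ → Scheme.{u}) (pi : ∀ i, Pi i ⟶ Y)
    (charti : ∀ i (U : Y.Opens) (hU : IsAffineOpen U), ((((pi i) ⁻¹ᵁ U : (Pi i).Opens) : Scheme.{u}) ≅ Proj ((𝒮i i).deg U hU)))
    (hPi : ∀ i, RelProj.IsRelProj (𝒮i i) (pi i) (charti i))
    (ri : ∀ i, ((RelProj.domQ (ui i) pL chartL : PL.Opens) : Scheme.{u}) ⟶ Pi i)
    (hri : ∀ i, RelProj.IsProjQMapOn (ui i) (pi i) (charti i) pL chartL (RelProj.domQ (ui i) pL chartL) (ri i)) :
    ((RelProj.domQ u pL chartL = ⊤ ∧ IsImmersion r) ↔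
        ∃ i, RelProj.domQ (ui i) pL chartL = ⊤ ∧ IsImmersion (ri i)) ∧
      ∀ i, (RelProj.domQ (ui i) pL chartL = ⊤ ∧ IsImmersion (ri i)) →
        ∀ j, i ≤ j → RelProj.domQ (ui j) pL chartL = ⊤ ∧ IsImmersion (ri j) := by
  haveI := Groth.Agent.SymAlg11.isIso_pL hLq hj hL hPL
  haveI : CompactSpace X := QuasiCompact.compactSpace_of_compactSpace q
  haveI : CompactSpace PL := pL.homeomorph.symm.compactSpace
  have mono : ∀ i, (RelProj.domQ (ui i) pL chartL = ⊤ ∧ IsImmersion (ri i)) →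
      ∀ j, i ≤ j → RelProj.domQ (ui j) pL chartL = ⊤ ∧ IsImmersion (ri j) := by
    rintro i ⟨h₁, h₂⟩ k hk
    exact Groth.Agent.S12153.result q L hL hLq (𝒮i k) 𝒮L j hj (ui k) (pi k) (charti k) (hPi k) pL chartL hPL
      (ri k) (hri k) (𝒮i i) (t i k hk) (ht i k hk) (ui i)
      (Groth.Agent.RelProj11.ui_eq_comp φ t hφt ui hui hk) (pi i) (charti i) (hPi i) (ri i) (hri i) h₁ h₂
  refine ⟨⟨fun ⟨htop, himm⟩ => ?_, fun ⟨i, h₁, h₂⟩ => ?_⟩, mono⟩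
  · haveI : LocallyOfFiniteType ((RelProj.domQ u pL chartL).ι ≫ pL ≫ q) := inferInstance
    choose W i₀ hW hD using fun z : (RelProj.domQ u pL chartL).toScheme =>
      Groth.Agent.RelProj11.exists_closed_at_stage φ hφ t ht hφt hsurj hui hP hPL hr hPi hri z
    obtain ⟨s, hs⟩ := isCompact_univ.elim_finite_subcover (fun z => ((W z : PL.Opens) : Set PL))
      (fun z => (W z).isOpen) fun x _ => Set.mem_iUnion.2 ⟨⟨x, htop.ge (Set.mem_univ x)⟩, hW _⟩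
    obtain ⟨i₁, hi₁⟩ := Groth.Agent.RelProj11.exists_domQ_eq_top φ hφ hsurj t ht hφt ui hui htop
    classical
    obtain ⟨i, hi⟩ := Finset.exists_le (insert i₁ (s.image i₀))
    have htopi : RelProj.domQ (ui i) pL chartL = ⊤ := top_le_iff.1 (hi₁.ge.trans
      (Groth.Agent.RelProj11.domQ_mono φ t ht hφt ui hui (hi i₁ (Finset.mem_insert_self _ _))))
    choose D hD₁ hD₂ using fun z : {z // z ∈ s} => hD z.1 i
      (hi _ (Finset.mem_insert_of_mem (Finset.mem_image_of_mem i₀ z.2))) htopi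
    obtain ⟨r', hr', hcl⟩ := Groth.Agent.SymAlg11.lift_of_forall (ri i) D (fun x ⟨z', hz'⟩ => by
      obtain ⟨z, hz, hzW⟩ := Set.mem_iUnion₂.1 (hs (Set.mem_univ z'.1))
      exact Opens.mem_iSup.2 ⟨⟨z, hz⟩, hz' ▸ hD₂ ⟨z, hz⟩ z' hzW⟩) @IsClosedImmersion hD₁
    exact ⟨i, htopi, hr' ▸ inferInstance⟩
  · exact Groth.Agent.S12153.result q L hL hLq 𝒮 𝒮L j hj u p chart hP pL chartL hPL r hr (𝒮i i) (φ i) (hφ i)
      (ui i) (hui i) (pi i) (charti i) (hPi i) (ri i) (hri i) h₁ h₂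

end Groth.Agent.S12161
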