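import Groth.Statements.S12164
import Groth.Agent.Lib.SymAlg11.Spec
import Groth.Agent.Lib.SymAlg11.Sheaf
import Groth.Agent.Lib.PullBC11.Conv
import Groth.Agent.Lib.ModM1.Pull

set_option autoImplicit false
universe u
open CategoryTheory CategoryTheory.Limits AlgebraicGeometry TopologicalSpace Opposite
open scoped HomogeneousIdeal
noncomputable section
open EGA2

namespace Groth.Agent.S12164

/-- Let g : S' → S be a morphism, E a quasi-coherent O_S-module, A = Sym(E) and B = Sym(g^*E) the
symmetric algebras (given by their universal properties among quasi-coherent algebras, with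
structure maps j : E → A and j' : g^*E → B), u : A → g_*B the g-morphism of algebras extending the
adjunction unit E → g_*g^*E followed by g_*(j'), and h = Spec(u) : V(g^*E) = Spec(B) → V(E) =
Spec(A). Then h identifies V(g^*E) with the base change V(E) ×_S S'. -/
theorem result {S S' : Scheme.{u}} (g : S' ⟶ S)
    (E : S.Modules) (hE : Coh.IsQCoh E) (A : RelSpec.QCAlg S) (j : E ⟶ A.toModule) (hA : RelSpec.IsSymAlg E A j)
    (B : RelSpec.QCAlg S') (j' : (Scheme.Modules.pullback g).obj E ⟶ B.toModule)
    (hB : RelSpec.IsSymAlg ((Scheme.Modules.pullback g).obj E) B j')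
    (u : RelSpec.QHom g A B)
    (hu : ∀ (U : S.Opens) (x : Γ(E, U)),
      (u.app U).hom ((j.app U) x) =
        (j'.app (g ⁻¹ᵁ U)) (((Scheme.Modules.pullbackPushforwardAdjunction g).unit.app E).app U x))
    (h : B.spec ⟶ A.spec) (hh : RelSpec.IsSpecQMap u h) :
    IsPullback h B.π A.π g := by
  refine Groth.Agent.SymAlg11.isPullback_spec_of_isPushout g A B h
    (fun U _ U' _ hle => u.appLE U U' hle) hh fun U hU U' hU' hle => ?_
  let N := (Scheme.Modules.pullback g).obj E
  let θ : E ⟶ (Scheme.Modules.pushforward g).obj N :=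
    (Scheme.Modules.pullbackPushforwardAdjunction g).unit.app E
  haveI := hE
  have hN : Coh.IsQCoh N := Groth.Agent.M1.isQCoh_pullback g hE
  haveI : IsIso (((Scheme.Modules.pullbackPushforwardAdjunction g).homEquiv E N).symm θ) := by
    rw [show θ = (Scheme.Modules.pullbackPushforwardAdjunction g).homEquiv E N (𝟙 _) from
      (Adjunction.homEquiv_id _ _).symm, Equiv.symm_apply_apply]
    infer_instance
  have hbc := Groth.Agent.PullBC11.isBC_of_isIso θ hE hN hU hU' hle
  letI := (g.appLE U U' hle).hom.toAlgebra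
  letI := Groth.Agent.PullBC11.baseModule (g := g) N hle
  haveI : IsScalarTower Γ(S, U) Γ(S', U') Γ(N, U') := IsScalarTower.of_algebraMap_smul fun _ _ => rfl
  let ρ := Groth.Agent.PullBC11.sect θ hle
  have H := Groth.Agent.SymAlg11.isPushout_sym ρ hbc
    (Groth.Agent.SymAlg11.symMap (g.appLE U U' hle).hom ρ.toAddMonoidHom ρ.map_smul)
    (fun r => Groth.Agent.SymAlg11.symMap_algebraMap _ _ _ r)
    (fun m => Groth.Agent.SymAlg11.symMap_ι _ _ _ m)
  let eA := (RingEquiv.ofBijective _
    (Groth.Agent.SymAlg11.bijective_liftOn hE hA U hU)).toCommRingCatIso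
  let eB := (RingEquiv.ofBijective _
    (Groth.Agent.SymAlg11.bijective_liftOn hN hB U' hU')).toCommRingCatIso
  refine H.of_iso (Iso.refl _) (Iso.refl _) eA eB ?_ ?_ ?_ ?_
  · simp only [Iso.refl_hom, Category.comp_id, Category.id_comp]
    rfl
  · exact CommRingCat.hom_ext (RingHom.ext fun r =>
      Groth.Agent.SymAlg11.liftOn_algebraMap A j U r)
  · exact CommRingCat.hom_ext (RingHom.ext fun r =>
      Groth.Agent.SymAlg11.liftOn_algebraMap B j' U' r)
  · refine CommRingCat.hom_ext (Groth.Agent.SymAlg11.symHom_ext (fun r => ?_) (fun m => ?_))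
    · change Groth.Agent.SymAlg11.liftOn B j' U' (Groth.Agent.SymAlg11.symMap (g.appLE U U' hle).hom ρ.toAddMonoidHom ρ.map_smul _) =
        (u.appLE U U' hle).hom (Groth.Agent.SymAlg11.liftOn A j U _)
      rw [Groth.Agent.SymAlg11.symMap_algebraMap, Groth.Agent.SymAlg11.liftOn_algebraMap,
        Groth.Agent.SymAlg11.liftOn_algebraMap]
      exact (ConcreteCategory.congr_hom (u.str_appLE U U' hle) r).symm
    · change Groth.Agent.SymAlg11.liftOn B j' U' (Groth.Agent.SymAlg11.symMap (g.appLE U U' hle).hom ρ.toAddMonoidHom ρ.map_smul _) =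
        (u.appLE U U' hle).hom (Groth.Agent.SymAlg11.liftOn A j U _)
      rw [Groth.Agent.SymAlg11.symMap_ι, Groth.Agent.SymAlg11.liftOn_ι,
        Groth.Agent.SymAlg11.liftOn_ι]
      change j'.app U' (Groth.Agent.M1.mres N hle (θ.app U m)) =
        (B.presheaf.map (homOfLE hle).op).hom ((u.app U).hom (j.app U m))
      rw [hu U m]
      exact Groth.Agent.M1.app_mres j' hle _

end Groth.Agent.S12164
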