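import Groth.Statements.S12165
import Groth.Agent.Lib.RelProj11.QMapProps

set_option autoImplicit false
universe u
open CategoryTheory CategoryTheory.Limits AlgebraicGeometry TopologicalSpace Opposite
open scoped HomogeneousIdeal
noncomputable section
open EGA2

namespace Groth.Agent.S12165

/-- Let φ : 𝒜 → ℬ be a (TN)-surjective graded homomorphism of quasi-coherent positively graded
O_Y-algebras (φ : 𝒜_k → ℬ_k surjective for all large k, on sections over affine opens), PA =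
Proj(𝒜), PB = Proj(ℬ) with their charts. Then Proj(φ) is defined on all of PB and is a closed
immersion PB → PA. -/
theorem result {Y PA PB : Scheme.{u}} (𝒜 ℬ : RelProj.QCGrAlg Y)
    (φ : 𝒜.toQCAlg ⟶ ℬ.toQCAlg) (hφ : RelProj.IsGradedHom φ)
    (hTN : ∃ n : ℕ, ∀ k, n ≤ k → ∀ (U : Y.Opens) (hU : IsAffineOpen U), ∀ y ∈ ℬ.deg U hU k,
      ∃ x ∈ 𝒜.deg U hU k, (φ.hom.app (op U)).hom x = y)
    (pA : PA ⟶ Y) (chartA : ∀ (U : Y.Opens) (hU : IsAffineOpen U), (((pA ⁻¹ᵁ U : PA.Opens) : Scheme.{u}) ≅ Proj (𝒜.deg U hU)))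
    (hA : RelProj.IsRelProj 𝒜 pA chartA)
    (pB : PB ⟶ Y) (chartB : ∀ (U : Y.Opens) (hU : IsAffineOpen U), (((pB ⁻¹ᵁ U : PB.Opens) : Scheme.{u}) ≅ Proj (ℬ.deg U hU)))
    (hB : RelProj.IsRelProj ℬ pB chartB) :
    RelProj.domQ (RelProj.QGrHom.ofHom φ hφ) pB chartB = ⊤ ∧
      ∀ h : PB ⟶ PA, RelProj.IsProjQMap (RelProj.QGrHom.ofHom φ hφ) pA chartA pB chartB h →
        IsClosedImmersion h := by
  classical
  obtain ⟨n, hn⟩ := hTN
  have hsurj : ∀ (U : Y.Opens) (hU : IsAffineOpen U) (k : ℕ), n ≤ k →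
      Set.SurjOn (RelProj.gradedHomAt φ hφ U hU) (𝒜.deg U hU k : Set _) (ℬ.deg U hU k) := fun U hU k hk y hy => by
    obtain ⟨x, hx, hxy⟩ := hn k hk U hU y hy
    exact ⟨x, hx, hxy⟩
  refine ⟨?_, fun h hh => RelProj11.qMap_of_forall_away hA hB hh @IsClosedImmersion fun U hU d hd f hf =>
    IsClosedImmersion.spec_of_surjective _ (RelProj11.away_map_surjective_of_large _ n (hsurj U hU) hd hf)⟩
  refine top_le_iff.1 fun x _ => ?_
  obtain ⟨U, hU, hxU, -⟩ := exists_isAffineOpen_mem_and_subset (U := (⊤ : Y.Opens)) (x := pB x) trivial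
  obtain ⟨w, rfl⟩ : x ∈ Set.range (RelProj.emb pB chartB U hU) := by rw [RelProj11.range_emb]; exact hxU
  refine Opens.mem_iSup.2 ⟨⟨(⟨U, hU⟩, ⟨U, hU⟩), le_refl U⟩, w, (RelCone.mem_domOpen _ w).2 ?_, rfl⟩
  have h1 : ¬ ((ℬ.deg U hU)₊).toIdeal ≤ w.asHomogeneousIdeal.toIdeal := fun h => w.not_irrelevant_le fun z hz => h hz
  rw [HomogeneousIdeal.toIdeal_irrelevant_le] at h1
  push Not at h1
  obtain ⟨d, hd, hnot⟩ := h1
  obtain ⟨b, hb, hbw⟩ := Set.not_subset.1 hnot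
  have hbn : b ^ (n + 1) ∈ ℬ.deg U hU ((n + 1) • d) := SetLike.pow_mem_graded _ hb
  obtain ⟨a, ha, hab⟩ := hsurj U hU ((n + 1) • d)
    ((Nat.le_succ n).trans (Nat.le_mul_of_pos_right _ hd)) hbn
  refine ⟨a, HomogeneousIdeal.mem_irrelevant_of_mem _ (Nat.mul_pos n.succ_pos hd) ha, fun hm => hbw ?_⟩
  rw [RelProj11.gradedAt_ofHom φ hφ U hU, hab] at hm
  exact w.isPrime.mem_of_pow_mem _ hm

end Groth.Agent.S12165
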