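import Groth.Statements.S1218
import Groth.Agent.Lib.Dev4.ProjectiveLocal
import Groth.Agent.Lib.Dev4.ProjectivePure
import Groth.Agent.S1217

set_option autoImplicit false
universe u
open FlatMor
open TensorProduct
set_option maxSynthPendingDepth 3
set_option backward.isDefEq.respectTransparency.types false
attribute [local instance] Algebra.TensorProduct.rightAlgebra

set_option backward.isDefEq.respectTransparency.types false

namespace Groth.Agent.S1218

/-- Ring form, X = Spec B affine: let B be a finite type A-algebra, N a finite B-module and p a prime of
A such that N is flat over A at every prime of B lying over p. If N is pure along the fibre over p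
then N is universally pure along the fibre over p. -/
theorem result {A B : Type u} [CommRing A] [CommRing B] [Algebra A B] [Algebra.FiniteType A B]
    (N : Type u) [AddCommGroup N] [Module B N] [Module A N] [IsScalarTower A B N] [Module.Finite B N] (p : Ideal A) [p.IsPrime]
    (hflat : ∀ (q : Ideal B) [q.IsPrime], q.LiesOver p → FlatCA.FlatAt A q N)
    (hpure : FlatCA.IsPureAlong A B N p) : FlatCA.IsUnivPureAlong A B N p := by
  haveI := Groth.Agent.Dev4.projective_local_of_isPureAlong N p hflat hpure
  let L := Localization.AtPrime p
  let B' := L ⊗[A] B
  haveI : Algebra.IsPushout A B L B' := Algebra.IsPushout.symm inferInstance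
  haveI : Algebra.FiniteType L B' := inferInstance
  haveI : Module.Projective L (B' ⊗[B] N) :=
    Module.Projective.of_equiv (Algebra.IsPushout.cancelBaseChange A L B B' N).symm
  haveI : (IsLocalRing.maximalIdeal L).LiesOver p := ⟨(Localization.AtPrime.comap_maximalIdeal (I := p)).symm⟩
  haveI : Module.Flat A L := IsLocalization.flat L p.primeCompl
  haveI : Module.Flat A (Localization.AtPrime (IsLocalRing.maximalIdeal L)) :=
    haveI : Module.Flat L (Localization.AtPrime (IsLocalRing.maximalIdeal L)) :=
      IsLocalization.flat _ (IsLocalRing.maximalIdeal L).primeCompl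
    Module.Flat.trans A L _
  exact (Groth.Agent.S1217.result N p L B' (B' ⊗[B] N) (TensorProduct.mk B B' N 1) (TensorProduct.isBaseChange B N B')
    (IsLocalRing.maximalIdeal L)).2 (Groth.Agent.Dev4.isUnivPure_of_projective (B' ⊗[B] N) _)

end Groth.Agent.S1218
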