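import Groth.Statements.S12188
import Groth.Agent.Lib.GlueH7.Bridge

set_option autoImplicit false
universe u
open TensorProduct
open EtAlg

namespace Groth.Agent.S12188

/-- Glueing along a glueing pair detects flat morphisms of affine schemes, stated for coordinate rings.
Let (R → R', f) be a glueing pair and φ : A → B a homomorphism of R-algebras with A and B glueable
as R-modules. Then φ is flat exactly when both induced maps A_f → B_f and R' ⊗_R A → R' ⊗_R B are
flat. -/
theorem result (R : Type u) [CommRing R] (R' : Type u) [CommRing R'] [Algebra R R'] (f : R)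
    (hRR' : EtGlue.IsGlueingPair R R' f) (A B : Type u) [CommRing A] [Algebra R A] [CommRing B] [Algebra R B]
    (hA : EtGlue.IsGlueable R R' f A) (hB : EtGlue.IsGlueable R R' f B) (φ : A →ₐ[R] B) :
    φ.toRingHom.Flat ↔ (Localization.awayMap φ.toRingHom (algebraMap R A f)).Flat ∧
      (Algebra.TensorProduct.map (AlgHom.id R R') φ).toRingHom.Flat := by
  letI := Algebra.TensorProduct.rightAlgebra (R := R) (A := R') (B := A)
  letI := φ.toRingHom.toAlgebra
  have : IsScalarTower R A B := IsScalarTower.of_algebraMap_eq fun r => (φ.commutes r).symm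
  have hp := Groth.Agent.GlueH7.isGlueingPair_baseChange hRR' A hA
  have hφ : φ.toRingHom = algebraMap A B := rfl
  obtain ⟨h1, h2⟩ := Groth.Agent.GlueH7.bridge (R' := R') φ (algebraMap R A f) @RingHom.Flat RingHom.Flat.respectsIso
  rw [h1, h2, hφ, RingHom.flat_algebraMap_iff, RingHom.flat_algebraMap_iff, RingHom.flat_algebraMap_iff,
    Groth.Agent.GlueH7.flat_iff hp, and_comm]

end Groth.Agent.S12188
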