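import Groth.Statements.S12192
-- import your own Groth.Agent.* helpers here
import Groth.Agent.Lib.EtModif25.Section

set_option autoImplicit false
universe u
open CategoryTheory CategoryTheory.Limits AlgebraicGeometry
open AlgSp

namespace Groth.Agent.S12192

/-- Let f : Y' → Y be a proper morphism between algebraic spaces over the scheme S, i : Z → Y a closed
immersion, E = Z ×_Y Y', and assume f is an isomorphism over the open complement of Z. Let V₁, V₂ be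
etale over Y, with base changes V₁', V₂' to Y' and W₁, W₂ to Z, and let P₁ be the base change of V₁
to E (through both V₁' and W₁). Then a morphism m' : V₁' → V₂' over Y' and a morphism n : W₁ → W₂
over Z inducing the same morphism P₁ → V₂ are the base changes of exactly one morphism V₁ → V₂ over
Y. (The published statement asserts that the functor sending a space etale over Y to its base
changes to Y' and to Z, glued along E, is an equivalence of categories onto such glueing data; this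
row states that it is fully faithful.) -/
theorem result {S : Scheme.{u}}
    {Y Y' Z E U U' V₁ V₂ V₁' V₂' W₁ W₂ P₁ : AlgSp.Space S} (f : Y' ⟶ Y)
    (hf : AlgSp.IsProperMor f.hom) (i : Z ⟶ Y) (hi : AlgSp.RepWith @IsClosedImmersion i.hom) (j : E ⟶ Y')
    (g : E ⟶ Z) (hE : IsPullback j.hom g.hom f.hom i.hom) (jU : U ⟶ Y)
    (hjU : AlgSp.RepWith @IsOpenImmersion jU.hom)
    (hU : Set.range (AlgSp.Points.map jU.hom) = (Set.range (AlgSp.Points.map i.hom))ᶜ) (fU : U' ⟶ U)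
    (jU' : U' ⟶ Y') (hU' : IsPullback jU'.hom fU.hom f.hom jU.hom) [IsIso fU]
    (v₁ : V₁ ⟶ Y) (v₂ : V₂ ⟶ Y) (hv₁ : AlgSp.IsEtaleMor v₁.hom) (hv₂ : AlgSp.IsEtaleMor v₂.hom)
    (a₁ : V₁' ⟶ V₁) (p₁ : V₁' ⟶ Y') (ha₁ : IsPullback a₁.hom p₁.hom v₁.hom f.hom)
    (a₂ : V₂' ⟶ V₂) (p₂ : V₂' ⟶ Y') (ha₂ : IsPullback a₂.hom p₂.hom v₂.hom f.hom)
    (b₁ : W₁ ⟶ V₁) (q₁ : W₁ ⟶ Z) (hb₁ : IsPullback b₁.hom q₁.hom v₁.hom i.hom)
    (b₂ : W₂ ⟶ V₂) (q₂ : W₂ ⟶ Z) (hb₂ : IsPullback b₂.hom q₂.hom v₂.hom i.hom)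
    (r₁ : P₁ ⟶ V₁') (s₁ : P₁ ⟶ W₁) (e₁ : P₁ ⟶ E)
    (hr₁ : IsPullback r₁.hom e₁.hom p₁.hom j.hom) (hs₁ : IsPullback s₁.hom e₁.hom q₁.hom g.hom)
    (hP₁ : r₁ ≫ a₁ = s₁ ≫ b₁)
    (m' : V₁' ⟶ V₂') (hm' : m' ≫ p₂ = p₁) (n : W₁ ⟶ W₂) (hn : n ≫ q₂ = q₁)
    (hmn : r₁ ≫ m' ≫ a₂ = s₁ ≫ n ≫ b₂) :
    ∃! m : V₁ ⟶ V₂, m ≫ v₂ = v₁ ∧ a₁ ≫ m = m' ≫ a₂ ∧ b₁ ≫ m = n ≫ b₂ := by
  have hH : ∀ {P Q : AlgSp.Space S} {g h : P ⟶ Q}, g = h → g.hom = h.hom :=
    fun e => congrArg InducedCategory.Hom.hom e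
  have w1 : m'.hom ≫ p₂.hom = p₁.hom := hH hm'
  have w2 : n.hom ≫ q₂.hom = q₁.hom := hH hn
  have w3 : r₁.hom ≫ m'.hom ≫ a₂.hom = s₁.hom ≫ n.hom ≫ b₂.hom := hH hmn
  have w4 : r₁.hom ≫ a₁.hom = s₁.hom ≫ b₁.hom := hH hP₁
  have wA : a₁.hom ≫ v₁.hom = (m'.hom ≫ a₂.hom) ≫ v₂.hom := by
    rw [Category.assoc, ha₂.w, reassoc_of% w1, ha₁.w]
  have wB : b₁.hom ≫ v₁.hom = (n.hom ≫ b₂.hom) ≫ v₂.hom := by
    rw [Category.assoc, hb₂.w, reassoc_of% w2, hb₁.w]
  have : Mono i.hom := Groth.Agent.AlgSpace.mono_of_repWith i.hom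
    (Groth.Agent.AlgSpace.repWith_mono (fun _ _ g (hg : IsClosedImmersion g) => (inferInstance : Mono g)) hi)
  have : Mono jU.hom := Groth.Agent.AlgSpace.mono_of_repWith jU.hom
    (Groth.Agent.AlgSpace.repWith_mono (fun _ _ g (hg : IsOpenImmersion g) => (inferInstance : Mono g)) hjU)
  have : Mono b₁.hom := hb₁.mono_fst_of_mono
  have hP := Groth.Agent.AlgSpace.isAlgSpace_pullback Y.property V₁.property V₂.property
    (IsPullback.of_hasPullback v₁.hom v₂.hom)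
  have hπ : AlgSp.IsEtaleMor (pullback.fst v₁.hom v₂.hom) :=
    Groth.Agent.AlgSpDescent.isEtaleMor_of_locP_etale hP V₁.property
      (Groth.Agent.AlgSpace.locP_of_isPullback V₂.property Y.property V₁.property
        (IsPullback.of_hasPullback v₁.hom v₂.hom).flip
        (Groth.Agent.AlgSpDescent.locP_etale_of_isEtaleMor hv₂))
  have hcA : AlgSp.IsUnivClosedMor a₁.hom :=
    Groth.Agent.AlgSpace.univSp_of_isPullback ha₁.flip hf.2.2
  have hcB : AlgSp.IsUnivClosedMor b₁.hom :=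
    Groth.Agent.AlgSpace.isUnivClosedMor_of_repWith_closedImmersion
      (Groth.Agent.AlgSpace.repWith_of_isPullback hb₁.flip hi)
  let σA := pullback.lift a₁.hom (m'.hom ≫ a₂.hom) wA
  let σB := pullback.lift b₁.hom (n.hom ≫ b₂.hom) wB
  have hσA : σA ≫ pullback.fst v₁.hom v₂.hom = a₁.hom := pullback.lift_fst _ _ _
  have hσB : σB ≫ pullback.fst v₁.hom v₂.hom = b₁.hom := pullback.lift_fst _ _ _
  have hAB : ∀ (K : Type u) [Field K] (str : Spec (CommRingCat.of K) ⟶ S)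
      (a : Groth.Agent.EtModif25.fld str ⟶ V₁'.obj) (b : Groth.Agent.EtModif25.fld str ⟶ W₁.obj),
      a ≫ a₁.hom = b ≫ b₁.hom → a ≫ σA = b ≫ σB := fun K _ str a b h => by
    let eE := hE.lift (a ≫ p₁.hom) (b ≫ q₁.hom) (by
      rw [Category.assoc, Category.assoc, ← ha₁.w, ← hb₁.w, reassoc_of% h])
    let z := hr₁.lift a eE (hE.lift_fst _ _ _).symm
    have hz : z ≫ s₁.hom = b := hb₁.hom_ext
      (by rw [Category.assoc, ← w4, ← Category.assoc, hr₁.lift_fst, h])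
      (by rw [Category.assoc, hs₁.w, ← Category.assoc, hr₁.lift_snd, hE.lift_snd])
    apply pullback.hom_ext
    · simp only [Category.assoc, hσA, hσB, h]
    · simp only [σA, σB, Category.assoc, pullback.lift_snd]
      have e₁ := congrArg (z ≫ ·) w3
      simp only [← Category.assoc] at e₁ ⊢
      rw [hz] at e₁
      rw [show z ≫ r₁.hom = a from hr₁.lift_fst _ _ _] at e₁
      exact e₁
  have hpt : ∀ (K : Type u) [Field K] (str : Spec (CommRingCat.of K) ⟶ S)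
      (x : Groth.Agent.EtModif25.fld str ⟶ V₁.obj),
      (∃ b, b ≫ b₁.hom = x) ∨ (∃ l, l ≫ jU.hom = x ≫ v₁.hom) := fun K _ str x => by
    obtain ⟨z⟩ := (inferInstance : Nonempty (AlgSp.Points (Groth.Agent.EtModif25.fld str)))
    by_cases hz : AlgSp.Points.map (x ≫ v₁.hom) z ∈ Set.range (AlgSp.Points.map i.hom)
    · obtain ⟨l, hl⟩ := Groth.Agent.EtModif25.exists_factor_fld hi.1 _ hz
      exact Or.inl ⟨hb₁.lift x l hl.symm, hb₁.lift_fst _ _ _⟩
    · exact Or.inr (Groth.Agent.EtModif25.exists_factor_fld hjU.1 _ (hU.symm.subset hz))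
  haveI : IsIso fU.hom := inferInstanceAs (IsIso ((ObjectProperty.ι _).map fU))
  obtain ⟨m, ⟨h₁, h₂, h₃⟩, huniq⟩ := Groth.Agent.EtModif25.existsUnique_section hP V₁.property
    V₁'.property W₁.property hπ hcA hcB σA hσA σB hσB
    (fun K _ str x => by
      rcases hpt K str x with hb | ⟨l, hl⟩
      · exact Or.inr hb
      · exact Or.inl ⟨ha₁.lift x ((l ≫ inv fU.hom) ≫ jU'.hom) (by
          rw [Category.assoc (l ≫ inv fU.hom), hU'.w, Category.assoc, IsIso.inv_hom_id_assoc, hl]),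
          ha₁.lift_fst _ _ _⟩)
    (fun K _ str a a' h => by
      rcases hpt K str (a ≫ a₁.hom) with ⟨b, hb⟩ | ⟨l, hl⟩
      · rw [hAB K str a b hb.symm, hAB K str a' b (h.symm.trans hb.symm)]
      · have key : ∀ a₀ : Groth.Agent.EtModif25.fld str ⟶ V₁'.obj, a₀ ≫ a₁.hom = a ≫ a₁.hom →
            a₀ ≫ p₁.hom = (l ≫ inv fU.hom) ≫ jU'.hom := fun a₀ h₀ => by
          have e : (a₀ ≫ p₁.hom) ≫ f.hom = l ≫ jU.hom := by
            rw [hl, Category.assoc, ← ha₁.w, reassoc_of% h₀, Category.assoc]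
          have : hU'.lift (a₀ ≫ p₁.hom) l e = l ≫ inv fU.hom := by
            rw [IsIso.eq_comp_inv, hU'.lift_snd]
          rw [← this, hU'.lift_fst]
        rw [show a = a' from ha₁.hom_ext h ((key a rfl).trans (key a' h.symm).symm)])
    (fun K _ str b b' h => by rw [(cancel_mono b₁.hom).1 h])
    hAB
  refine ⟨ObjectProperty.homMk (m ≫ pullback.snd v₁.hom v₂.hom), ⟨?_, ?_, ?_⟩, fun ψ hψ => ?_⟩
  · apply InducedCategory.hom_ext
    change (m ≫ pullback.snd v₁.hom v₂.hom) ≫ v₂.hom = v₁.hom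
    rw [Category.assoc, ← pullback.condition, reassoc_of% h₁]
  · apply InducedCategory.hom_ext
    change a₁.hom ≫ m ≫ pullback.snd v₁.hom v₂.hom = m'.hom ≫ a₂.hom
    rw [reassoc_of% h₂, pullback.lift_snd]
  · apply InducedCategory.hom_ext
    change b₁.hom ≫ m ≫ pullback.snd v₁.hom v₂.hom = n.hom ≫ b₂.hom
    rw [reassoc_of% h₃, pullback.lift_snd]
  · have e₁ : ψ.hom ≫ v₂.hom = v₁.hom := hH hψ.1
    have e₂ : a₁.hom ≫ ψ.hom = m'.hom ≫ a₂.hom := hH hψ.2.1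
    have e₃ : b₁.hom ≫ ψ.hom = n.hom ≫ b₂.hom := hH hψ.2.2
    have hm := huniq (pullback.lift (𝟙 _) ψ.hom (by rw [Category.id_comp, e₁]))
      ⟨pullback.lift_fst _ _ _,
        pullback.hom_ext (by rw [Category.assoc, pullback.lift_fst, Category.comp_id, hσA])
          (by simp only [σA, Category.assoc, pullback.lift_snd, e₂]),
        pullback.hom_ext (by rw [Category.assoc, pullback.lift_fst, Category.comp_id, hσB])
          (by simp only [σB, Category.assoc, pullback.lift_snd, e₃])⟩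
    apply InducedCategory.hom_ext
    change ψ.hom = m ≫ pullback.snd v₁.hom v₂.hom
    rw [← hm, pullback.lift_snd]


end Groth.Agent.S12192
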