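import Groth.Statements.S9966
import Groth.Agent.Lib.AlgSpDecent.RedInduced
import Groth.Agent.Lib.AlgSpace.Points
import Groth.Agent.S10193
import Groth.Agent.Lib.AlgSpace.LqfScheme

set_option autoImplicit false
universe u
open CategoryTheory CategoryTheory.Limits AlgebraicGeometry
open AlgSp

set_option backward.isDefEq.respectTransparency.types false

namespace Groth.Agent.S9966

/-- The scheme theoretic image of a morphism from a reduced algebraic space is the reduced induced
structure on the closure of its image. -/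
theorem result {S : Scheme.{u}} {X Y Z : AlgSp.Space S} (f : X ⟶ Y) (i : Z ⟶ Y)
    (hX : AlgSp.IsReducedSp X.obj) (hZ : AlgSp.IsSchImage f.hom i.hom) :
    AlgSp.IsRedInduced (closure (Set.range (AlgSp.Points.map f.hom))) i.hom := by
  obtain ⟨Z₀, i₀, hi₀, hr₀, hred₀⟩ := Groth.Agent.AlgSpDecent.RedInduced.exists_isRedInduced Y
    (closure (Set.range (AlgSp.Points.map f.hom))) isClosed_closure
  obtain ⟨g, hg⟩ := (Groth.Agent.S10193.result i₀ hi₀ hX f).2 (hr₀ ▸ subset_closure)
  obtain ⟨k, hk⟩ := hZ.2.2 i₀.hom Z₀.property hi₀ ⟨g.hom, congrArg (fun m => m.hom) hg⟩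
  obtain ⟨f', hf'⟩ := hZ.2.1
  have hsub : Set.range (AlgSp.Points.map f.hom) ⊆ Set.range (AlgSp.Points.map i.hom) := by
    rintro _ ⟨x, rfl⟩
    exact ⟨AlgSp.Points.map f' x, by rw [← AlgSp.Points.map_comp, hf']⟩
  have hcl : IsClosed (Set.range (AlgSp.Points.map i.hom)) := Groth.Agent.AlgSpace.isClosed_range_map_of_closedImmersion hZ.1
  obtain ⟨l, hl⟩ := (Groth.Agent.S10193.result i hZ.1 hred₀ i₀).2
    (hr₀ ▸ closure_minimal hsub hcl)
  have := Groth.Agent.AlgSpDescent.mono_of_repWith_closedImmersion hZ.1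
  have := Groth.Agent.AlgSpDescent.mono_of_repWith_closedImmersion hi₀
  have hl' : l.hom ≫ i.hom = i₀.hom := congrArg (fun m => m.hom) hl
  have : IsIso l.hom := ⟨k, (cancel_mono i₀.hom).1 (by rw [Category.assoc, hk, hl', Category.id_comp]),
    (cancel_mono i.hom).1 (by rw [Category.assoc, hl', hk, Category.id_comp])⟩
  refine ⟨hZ.1, ?_, ?_⟩
  · rw [← hr₀, ← hl', Groth.Agent.AlgSpace.map_comp_eq,
      (Groth.Agent.AlgSpace.bijective_map_iso l.hom).2.range_comp]
  · obtain ⟨U, a, hae, has, hU⟩ := hred₀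
    exact ⟨U, a ≫ l.hom, (Groth.Agent.AlgSpace.repWith_respectsIso_right _).2 hae,
      (Groth.Agent.AlgSpace.repWith_respectsIso_right _).2 has, hU⟩

end Groth.Agent.S9966
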