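import Groth.Statements.S12193
import Groth.Agent.S9966
import Groth.Agent.S10193
import Groth.Agent.Lib.AlgSpDescent.OpenSource
import Groth.Agent.Lib.AlgSpDescent.RedNoeth
-- import your own Groth.Agent.* helpers here

set_option autoImplicit false
universe u
open CategoryTheory CategoryTheory.Limits AlgebraicGeometry
open AlgSp

namespace Groth.Agent.S12193

/-- Let X be a reduced algebraic space over S, f : X → Y a morphism of algebraic spaces over S, and Z →
Y the scheme theoretic image of f. Then forming the scheme theoretic image commutes with etale base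
change: for every etale morphism V → Y of algebraic spaces and cartesian squares X ×_Y V, Z ×_Y V,
the closed subspace Z ×_Y V → V is the scheme theoretic image of X ×_Y V → V. -/
theorem result {S : Scheme.{u}} {X Y Z V XV ZV : AlgSp.Space S} (f : X ⟶ Y)
    (i : Z ⟶ Y) (hX : AlgSp.IsReducedSp X.obj) (hZ : AlgSp.IsSchImage f.hom i.hom) (b : V ⟶ Y)
    (hb : AlgSp.IsEtaleMor b.hom) (f₁ : XV ⟶ X) (fV : XV ⟶ V) (i₁ : ZV ⟶ Z) (iV : ZV ⟶ V)
    (sqX : IsPullback f₁.hom fV.hom f.hom b.hom) (sqZ : IsPullback i₁.hom iV.hom i.hom b.hom) :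
    AlgSp.IsSchImage fV.hom iV.hom := by
  have hred := Groth.Agent.S9966.result f i hX hZ
  obtain ⟨hc, hr, hZred⟩ := hred
  have het : AlgSp.LocP @Etale b.hom := Groth.Agent.AlgSpace.locP_of_isEtaleMor hb
  -- reducedness goes up
  have up : ∀ {A A' : AlgSp.Space S} (q : A' ⟶ A) (h : A'.obj ⟶ V.obj) (g : A.obj ⟶ Y.obj),
      IsPullback q.hom h g b.hom → AlgSp.IsReducedSp A.obj → AlgSp.IsReducedSp A'.obj := by
    intro A A' q h g sq hA
    have hq : AlgSp.LocP @Etale q.hom :=
      Groth.Agent.AlgSpace.locP_of_isPullback V.property Y.property A.property sq.flip het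
    obtain ⟨U, a, hae, has, hU⟩ := hA
    obtain ⟨U', p', α, hpe, hps, e⟩ := Groth.Agent.AlgSpace.exists_chart_over A'.property A.property q.hom a hae has
    exact ⟨U', p', hpe, hps, Groth.Agent.AlgSpDescent.isReduced_up α.left (hq p' a α hpe hae e) hU⟩
  have hZV : AlgSp.IsReducedSp ZV.obj := up i₁ _ _ sqZ hZred
  have hopen : AlgSp.IsOpenMor b.hom := by
    have hfl : AlgSp.LocP @Flat b.hom := Groth.Agent.AlgSpace.locP_of_isEtaleMor hb
    have hfp : AlgSp.LocP @LocallyOfFinitePresentation b.hom := Groth.Agent.AlgSpace.locP_of_isEtaleMor hb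
    let Yi : ULift.{u} Bool → AlgSp.Sp S := fun i => match i with
      | ⟨true⟩ => V.obj
      | ⟨false⟩ => Y.obj
    let g : ∀ i, Yi i ⟶ Y.obj := fun i => match i with
      | ⟨true⟩ => b.hom
      | ⟨false⟩ => 𝟙 Y.obj
    have hYi : ∀ i, AlgSp.IsAlgSpace (Yi i) := by
      rintro ⟨_ | _⟩
      · exact Y.property
      · exact V.property
    have hcov : AlgSp.IsFppfCover Yi g := by
      refine ⟨?_, fun y => ⟨⟨false⟩, y, AlgSp.Points.map_id y⟩⟩
      rintro ⟨_ | _⟩
      · exact ⟨Groth.Agent.AlgSpace.locP_id Y.property, Groth.Agent.AlgSpace.locP_id Y.property⟩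
      · exact ⟨hfl, hfp⟩
    exact Groth.Agent.AlgSpDescent.isOpenMor_of_bc V.property Y.property
      (Groth.Agent.AlgSpDescent.bc_fppf_of_isFppfCover Y.property hYi hcov ⟨true⟩)
  refine ⟨Groth.Agent.AlgSpace.repWith_of_isPullback sqZ hc, ?_, fun Z' i' hZ' hi' hfac => ?_⟩
  · obtain ⟨f', hf'⟩ := hZ.2.1
    exact ⟨sqZ.lift (f₁.hom ≫ f') fV.hom (by rw [Category.assoc, hf', sqX.w]), sqZ.lift_snd _ _ _⟩
  obtain ⟨f'', hf''⟩ := hfac
  have hcl : IsClosed (Set.range (AlgSp.Points.map i')) :=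
    Groth.Agent.AlgSpace.isClosed_range_map_of_closedImmersion hi'
  have hsub : Set.range (AlgSp.Points.map iV.hom) ⊆ Set.range (AlgSp.Points.map i') := by
    rintro _ ⟨z, rfl⟩
    have h1 : AlgSp.Points.map b.hom (AlgSp.Points.map iV.hom z) ∈
        closure (Set.range (AlgSp.Points.map f.hom)) := by
      rw [← AlgSp.Points.map_comp, ← sqZ.w, AlgSp.Points.map_comp]
      exact hr.le ⟨_, rfl⟩
    have h2 : AlgSp.Points.map iV.hom z ∈
        closure (AlgSp.Points.map b.hom ⁻¹' Set.range (AlgSp.Points.map f.hom)) :=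
      hopen.preimage_closure_subset_closure_preimage h1
    refine closure_minimal ?_ hcl h2
    rintro v ⟨x, hx⟩
    obtain ⟨w, -, hw⟩ := Groth.Agent.AlgSpDecent.exists_point_lift sqX x v hx
    refine ⟨AlgSp.Points.map f'' w, ?_⟩
    rw [← AlgSp.Points.map_comp, hf'', hw]
  obtain ⟨g, hg⟩ := (Groth.Agent.S10193.result (X := V) (Y := ZV) (Z := ⟨Z', hZ'⟩)
    (ObjectProperty.homMk i') hi' hZV iV).2 hsub
  exact ⟨g.hom, congrArg (fun m => m.hom) hg⟩

end Groth.Agent.S12193
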