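import Groth.Statements.S12194
import Groth.Agent.Lib.QcohEt15.Nbhd
-- import your own Groth.Agent.* helpers here

set_option autoImplicit false
universe u
open CategoryTheory CategoryTheory.Limits AlgebraicGeometry Opposite
open AlgSp

namespace Groth.Agent.S12194

open scoped Groth.Agent.QcohEt15

/-- Let X be a locally Noetherian algebraic space over S, φ : G ⟶ F a morphism of coherent O_X-modules
on the small etale site of X (of finite presentation, X being locally Noetherian) and x̄ a geometric
point of X. If the map φ_x̄ on stalks at x̄ (of the underlying abelian sheaves) is surjective, then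
there is an open subspace X' ⊂ X containing the image of x̄ such that φ|_{X'} is surjective: the
stalk map φ_ȳ is surjective for every geometric point ȳ of X lying over a point of |X'|. -/
theorem result {S : Scheme.{u}} (X : AlgSp.Space S)
    (hX : AlgSp.IsLocNoethSp X.obj) {G F : AlgSp.ModEt X.obj} [G.IsFinitePresentation] [F.IsFinitePresentation]
    (φ : G ⟶ F) (xbar : AlgSp.FieldPt X.obj) (hx : xbar.IsGeometric)
    (hsurj : Epi ((AlgSp.stalkEtFunctor AddCommGrpCat.{u + 1} xbar).map ((AlgSp.toAbEt X.obj).map φ))) :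
    ∃ (X' : AlgSp.Space S) (j : X' ⟶ X), AlgSp.RepWith @IsOpenImmersion j.hom ∧
      AlgSp.Points.mk xbar ∈ Set.range (AlgSp.Points.map j.hom) ∧
        ∀ ybar : AlgSp.FieldPt X.obj, ybar.IsGeometric →
          AlgSp.Points.mk ybar ∈ Set.range (AlgSp.Points.map j.hom) →
            Epi ((AlgSp.stalkEtFunctor AddCommGrpCat.{u + 1} ybar).map ((AlgSp.toAbEt X.obj).map φ)) := by
  have hC : ∀ (E : AlgSp.EtOver X.obj) [IsAffine E.obj.left.left], Groth.Agent.QcohEt15.Good (cokernel φ) E := fun E _ =>
    (Groth.Agent.QcohEt15.cokernel_sections φ (fun Z _ => Groth.Agent.QcohEt15.good_of_isQuasicoherent Z) (fun Z _ => Groth.Agent.QcohEt15.good_of_isQuasicoherent Z)).1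
  have hCf : ∀ (E : AlgSp.EtOver X.obj) [IsAffine E.obj.left.left],
      Module.Finite (Groth.Agent.QcohEt15.Γo E) (AlgSp.sectModEt (cokernel φ) E) := fun E _ => by
    have := Groth.Agent.QcohEt15.finite_of_isFinitePresentation (M := F) E
    exact Module.Finite.of_surjective _ (Groth.Agent.QcohEt15.cokernel_sections (E := E) φ (fun Z _ => Groth.Agent.QcohEt15.good_of_isQuasicoherent Z)
      (fun Z _ => Groth.Agent.QcohEt15.good_of_isQuasicoherent Z)).2
  obtain ⟨W, hW, hxW, h0⟩ := Groth.Agent.QcohEt15.exists_zero_nbhd X.property xbar hx hC hCf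
    (Groth.Agent.QcohEt15.isZero_stalk_cokernel X.property φ xbar hx hsurj)
  obtain ⟨X', j, hj, hr⟩ := Groth.Agent.AlgSpRel14.exists_open_space X
    (Groth.Agent.AlgSpace.isOpenMap_ofPt W.obj.hom W.property).isOpen_range
  exact ⟨X', j, hj, hr ▸ hxW, fun q hq hqW => Groth.Agent.QcohEt15.epi_stalk_of_cokernel_zero X.property φ h0 q hq (hr ▸ hqW)⟩


end Groth.Agent.S12194
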