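import Groth.Statements.S1220
import Groth.Agent.Lib.Dev4.PureCriterion
import Groth.Agent.Lib.Dev4.ProjectivePure
import Groth.Agent.S1217

set_option autoImplicit false
universe u
open FlatMor

set_option backward.isDefEq.respectTransparency.types false

open TensorProduct
set_option maxSynthPendingDepth 3
set_option backward.isDefEq.respectTransparency.types false
attribute [local instance] Algebra.TensorProduct.rightAlgebra
namespace Groth.Agent.S1220

/-- Ring form, X = Spec B affine: let B be a finitely presented A-algebra and N a finitely presented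
B-module flat over A. Then the set of points p of Spec A such that N is pure along the fibre over p
is open. -/
theorem result {A B : Type u} [CommRing A] [CommRing B] [Algebra A B] [Algebra.FinitePresentation A B]
    (N : Type u) [AddCommGroup N] [Module B N] [Module A N] [IsScalarTower A B N] [Module.FinitePresentation B N] [Module.Flat A N] :
    IsOpen {p : PrimeSpectrum A | FlatCA.IsPureAlong A B N p.asIdeal} := by
  refine isOpen_iff_forall_mem_open.2 fun p hp => ?_
  obtain ⟨A', _, _, P, het, hP, hPp, hproj⟩ := Dev4.exists_projective_of_isPureAlong N p.asIdeal hp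
  haveI := het
  haveI := hP
  haveI := hproj
  refine ⟨Set.range (PrimeSpectrum.comap (algebraMap A A')), ?_, ?_, ⟨⟨P, hP⟩, PrimeSpectrum.ext hPp⟩⟩
  · rintro x ⟨Q, rfl⟩
    let B' := B ⊗[A] A'
    haveI : Algebra.IsPushout A A' B B' := Algebra.IsPushout.symm inferInstance
    let N' := B' ⊗[B] N
    haveI : Module.Projective A' N' :=
      Module.Projective.of_equiv (Algebra.IsPushout.cancelBaseChange A A' B B' N).symm
    haveI : Algebra.FiniteType A' B' := Algebra.FiniteType.equiv inferInstance
      ({ (Algebra.TensorProduct.comm A A' B).toRingEquiv with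
        commutes' := fun r => by simp [RingHom.algebraMap_toAlgebra] } : (A' ⊗[A] B) ≃ₐ[A'] B')
    haveI : Q.asIdeal.LiesOver (PrimeSpectrum.comap (algebraMap A A') Q).asIdeal := ⟨rfl⟩
    haveI : Module.Flat A' (Localization.AtPrime Q.asIdeal) := IsLocalization.flat _ Q.asIdeal.primeCompl
    haveI : Module.Flat A (Localization.AtPrime Q.asIdeal) := Module.Flat.trans A A' _
    have h := (S1217.result N (PrimeSpectrum.comap (algebraMap A A') Q).asIdeal A' B' N' (TensorProduct.mk B B' N 1)
      (TensorProduct.isBaseChange B N B') Q.asIdeal).2 (Dev4.isUnivPure_of_projective N' Q.asIdeal)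
    exact fun A'' B'' N'' _ _ _ _ _ _ _ _ _ _ _ _ _ _ f t' t _ _ P _ _ => h A'' B'' N'' f t' t P
  · rw [← Set.image_univ]
    exact PrimeSpectrum.isOpenMap_comap_of_hasGoingDown_of_finitePresentation _ isOpen_univ

end Groth.Agent.S1220
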