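import Groth.Statements.S12205
import Mathlib
import Groth.Agent.Lib.FlatSyz.TorDim

set_option autoImplicit false
universe u
open CategoryTheory
open scoped TensorProduct
open CAlg

namespace Groth.Agent.S12205
open CategoryTheory TensorProduct Groth.Agent.FlatSyz

variable {R : Type u} [CommRing R] {K P M : Type u} [AddCommGroup K] [Module R K] [AddCommGroup P] [Module R P]
  [AddCommGroup M] [Module R M]

theorem injective_of_killed (i : K →ₗ[R] P) (q : P →ₗ[R] M) (hiq : Function.Exact i q) (hq : Function.Surjective q)
    (I : Ideal R) [Module.Flat (R ⧸ I) ((R ⧸ I) ⊗[R] M)] (hI : Function.Injective (i.lTensor (R ⧸ I)))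
    (N : Type u) [AddCommGroup N] [Module R N] (hN : ∀ a ∈ I, ∀ x : N, a • x = 0) :
    Function.Injective (i.lTensor N) := by
  letI := Module.IsTorsionBySet.module (R := R) (M := N) (I := I) fun x a => hN a a.2 x
  haveI : IsScalarTower R (R ⧸ I) N := Module.IsTorsionBySet.isScalarTower (fun x a => hN a a.2 x)
  let A := R ⧸ I
  have h1 : Function.Injective ((i.baseChange A).lTensor N) :=
    LinearMap.lTensor_injective_of_exact_of_flat (R := A) (q.baseChange A)
      (show Function.Surjective (q.lTensor A) from LinearMap.lTensor_surjective A hq) (i.baseChange A) hI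
      (show Function.Exact (i.lTensor A) (q.lTensor A) from lTensor_exact A hiq hq) N
  let eK := AlgebraTensorModule.cancelBaseChange R A A N K
  let eP := AlgebraTensorModule.cancelBaseChange R A A N P
  have hcomm : ∀ z, i.lTensor N (eK z) = eP ((i.baseChange A).lTensor N z) := by
    intro z
    induction z using TensorProduct.induction_on with
    | zero => simp
    | add a b ha hb => simp only [map_add, ha, hb]
    | tmul n w =>
      induction w using TensorProduct.induction_on with
      | zero => simp
      | add a b ha hb => simp only [tmul_add, map_add, ha, hb]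
      | tmul a x => simp [eK, eP]
  intro x y hxy
  obtain ⟨x, rfl⟩ := eK.surjective x
  obtain ⟨y, rfl⟩ := eK.surjective y
  rw [hcomm, hcomm] at hxy
  rw [h1 (eP.injective hxy)]

theorem injective_of_extension (i : K →ₗ[R] P) [Module.Flat R P] (N : Type u) [AddCommGroup N] [Module R N]
    (N' : Submodule R N) (h' : Function.Injective (i.lTensor N')) (h'' : Function.Injective (i.lTensor (N ⧸ N'))) :
    Function.Injective (i.lTensor N) := by
  rw [injective_iff_map_eq_zero]
  intro z hz
  have h0 : N'.mkQ.rTensor K z = 0 := by
    apply h''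
    rw [map_zero, ← LinearMap.comp_apply, LinearMap.lTensor_comp_rTensor, ← LinearMap.rTensor_comp_lTensor,
      LinearMap.comp_apply, hz, map_zero]
  obtain ⟨z', rfl⟩ := (rTensor_exact K (LinearMap.exact_subtype_mkQ N') N'.mkQ_surjective z).1 h0
  have h1 : i.lTensor N' z' = 0 := by
    apply Module.Flat.rTensor_preserves_injective_linearMap (M := P) N'.subtype N'.injective_subtype
    rw [map_zero, ← LinearMap.comp_apply, LinearMap.rTensor_comp_lTensor, ← LinearMap.lTensor_comp_rTensor,
      LinearMap.comp_apply, hz]
  rw [(injective_iff_map_eq_zero _).1 h' z' h1, map_zero]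

/-- Let I be an ideal of a commutative ring R and M an R-module such that M/IM is flat over R/I and
Tor_1^R(R/I, M) = 0. Then Tor_1^R(N, M) = 0 for every R-module N annihilated by I^m for some m ≥ 0.
Here Tor_1^R(N, M) is the first left derived functor of N ⊗_R − evaluated at M. -/
theorem result (R : Type u) [CommRing R] (I : Ideal R) (M : Type u)
    [AddCommGroup M] [Module R M] [Module.Flat (R ⧸ I) ((R ⧸ I) ⊗[R] M)]
    (h : Limits.IsZero (((CategoryTheory.Tor (ModuleCat.{u} R) 1).obj (ModuleCat.of R (R ⧸ I))).obj (ModuleCat.of R M)))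
    (N : Type u) [AddCommGroup N] [Module R N] (m : ℕ) (hN : ∀ a : R, a ∈ I ^ m → ∀ x : N, a • x = 0) :
    Limits.IsZero (((CategoryTheory.Tor (ModuleCat.{u} R) 1).obj (ModuleCat.of R N)).obj (ModuleCat.of R M)) := by
  let Pr := ProjectiveResolution.of (ModuleCat.of R M)
  haveI := flat_X Pr 0
  let q : Pr.complex.X 0 →ₗ[R] M := (Pr.π.f 0).hom
  have hq : Function.Surjective q := (ModuleCat.epi_iff_surjective (Pr.π.f 0)).1 inferInstance
  have hex : Function.Exact (LinearMap.range (dLin Pr 0)).subtype q := fun x =>
    ⟨fun hx => ⟨⟨x, (ShortComplex.moduleCat_exact_iff _).1 Pr.exact₀ x hx⟩, rfl⟩,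
      fun ⟨⟨_, z, hz⟩, hy⟩ => by
        subst hy; subst hz
        exact LinearMap.congr_fun (congrArg ModuleCat.Hom.hom Pr.complex_d_comp_π_f_zero) z⟩
  have hI : Function.Injective ((LinearMap.range (dLin Pr 0)).subtype.lTensor (R ⧸ I)) :=
    (isZero_tor_succ_iff Pr 0).1 h
  rw [isZero_tor_succ_iff Pr 0]
  induction m generalizing N with
  | zero =>
    haveI : Subsingleton N := subsingleton_of_forall_eq 0 fun x => by
      have := hN 1 (by simp) x
      rwa [one_smul] at this
    exact fun a b _ => Subsingleton.elim a b
  | succ m ih =>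
    refine injective_of_extension _ N (I ^ m • ⊤) (injective_of_killed _ q hex hq I hI _ fun a ha x => ?_) (ih _ fun a ha x => ?_)
    · apply Subtype.ext
      rw [Submodule.coe_smul, Submodule.coe_zero]
      refine Submodule.smul_induction_on x.2 (fun b hb y _ => ?_) (fun u v hu hv => by rw [smul_add, hu, hv, add_zero])
      rw [smul_smul]
      exact hN _ (by rw [pow_succ']; exact Ideal.mul_mem_mul ha hb) y
    · obtain ⟨x, rfl⟩ := Submodule.mkQ_surjective _ x
      rw [← map_smul]
      exact (Submodule.Quotient.mk_eq_zero _).2 (Submodule.smul_mem_smul ha trivial)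

end Groth.Agent.S12205
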