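import Groth.Statements.S12206
import Mathlib.Algebra.Module.FinitePresentation
import Mathlib.RingTheory.Henselian
import Mathlib.RingTheory.WittVector.Identities
import Mathlib.RingTheory.WittVector.Teichmuller
import Mathlib.RingTheory.WittVector.Domain
import Mathlib.Combinatorics.Nullstellensatz
import Mathlib.NumberTheory.Padics.PadicIntegers
import Mathlib.FieldTheory.Finite.Polynomial
import Mathlib.RingTheory.Polynomial.Basic
import Mathlib.RingTheory.Flat.Basic
import Mathlib.LinearAlgebra.Contraction
import Mathlib.LinearAlgebra.TensorProduct.RightExactness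

set_option autoImplicit false
universe u
open CAlg

namespace Groth.Agent.S12206
open TensorProduct

/-- Let φ : N → M be a linear map from a finite R-module N to a coherent R-module M, where coherent
means finitely generated with every finitely generated submodule finitely presented. Then the kernel
of φ is finitely generated, and the image of φ and the cokernel M/φ(N) are coherent. -/
theorem result (R : Type u) [CommRing R] {N M : Type u}
    [AddCommGroup N] [Module R N] [AddCommGroup M] [Module R M] [Module.Finite R N]
    (hM : Module.Finite R M ∧ ∀ P : Submodule R M, P.FG → Module.FinitePresentation R P)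
    (φ : N →ₗ[R] M) :
    (LinearMap.ker φ).FG ∧
    (Module.Finite R (LinearMap.range φ) ∧
      ∀ P : Submodule R (LinearMap.range φ), P.FG → Module.FinitePresentation R P) ∧
    (Module.Finite R (M ⧸ LinearMap.range φ) ∧
      ∀ P : Submodule R (M ⧸ LinearMap.range φ), P.FG → Module.FinitePresentation R P) := by
  have hr : (LinearMap.range φ).FG := Module.Finite.iff_fg.1 inferInstance
  have := hM.2 _ hr
  have := hM.1
  refine ⟨?_, ⟨inferInstance, fun P hP => ?_⟩, inferInstance, fun P hP => ?_⟩
  · rw [← LinearMap.ker_rangeRestrict φ]
    exact Module.FinitePresentation.fg_ker φ.rangeRestrict φ.surjective_rangeRestrict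
  · have := hM.2 _ (hP.map (LinearMap.range φ).subtype)
    exact Module.FinitePresentation.of_equiv (Submodule.equivMapOfInjective _ (LinearMap.range φ).injective_subtype P).symm
  · set Q := P.comap (LinearMap.range φ).mkQ
    have hle : LinearMap.range φ ≤ Q := fun x hx => by simp [Q, (Submodule.Quotient.mk_eq_zero _).2 hx]
    have hQ : Q.FG := by
      apply Submodule.fg_of_fg_map_of_fg_inf_ker (LinearMap.range φ).mkQ
      · rwa [Submodule.map_comap_eq_of_surjective (Submodule.mkQ_surjective _)]
      · rwa [Submodule.ker_mkQ, inf_eq_right.2 hle]
    have := hM.2 Q hQ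
    let l : Q →ₗ[R] P := ((LinearMap.range φ).mkQ.comp Q.subtype).codRestrict P fun x => x.2
    refine Module.finitePresentation_of_surjective l (fun y => ?_) ?_
    · obtain ⟨x, hx⟩ := Submodule.mkQ_surjective _ y.1
      exact ⟨⟨x, show _ ∈ P from hx ▸ y.2⟩, Subtype.ext hx⟩
    · rw [show LinearMap.ker l = _ from LinearMap.ker_codRestrict _ _ _, LinearMap.ker_comp, Submodule.ker_mkQ]
      exact (Submodule.fg_top _).1 ((Module.Finite.equiv (Submodule.comapSubtypeEquivOfLe hle).symm).fg_top)

end Groth.Agent.S12206
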