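import Groth.Statements.S12208
import Mathlib
import Groth.Agent.Lib.VarDim.Alg

set_option autoImplicit false
universe u
open CAlg

namespace Groth.Agent.S12208
open MvPolynomial

variable {k : Type u} [Field k]

/-- Base change of an integral polynomial. -/
noncomputable abbrev toK {n : ℕ} (P : MvPolynomial (Fin n) ℤ) : MvPolynomial (Fin n) k :=
  MvPolynomial.map (Int.castRingHom k) P

noncomputable abbrev normHom {n r : ℕ} (I : Ideal (MvPolynomial (Fin n) k)) (y : Fin r → MvPolynomial (Fin n) k) :
    MvPolynomial (Fin r) k →ₐ[k] MvPolynomial (Fin n) k ⧸ I :=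
  (Ideal.Quotient.mkₐ k I).comp (MvPolynomial.aeval y)

/-- The change of variables of Nagata. -/
noncomputable abbrev subst (d M : ℕ) (j : Fin d) : MvPolynomial (Fin (d + 1)) ℤ :=
  X j.succ - X 0 ^ M ^ (j.succ : ℕ)

theorem isIntegral_normHom {d : ℕ} (I : Ideal (MvPolynomial (Fin (d + 1)) k))
    (f : MvPolynomial (Fin (d + 1)) k) (hf : f ≠ 0) (hfI : f ∈ I) :
    (normHom I fun j => toK (subst d (f.totalDegree + 1) j)).toRingHom.IsIntegral := by
  classical
  set M := f.totalDegree + 1
  set φ := normHom I fun j => toK (subst d M j) with hφ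
  letI : Algebra (MvPolynomial (Fin d) k) (MvPolynomial (Fin (d + 1)) k ⧸ I) := φ.toRingHom.toAlgebra
  haveI : IsScalarTower k (MvPolynomial (Fin d) k) (MvPolynomial (Fin (d + 1)) k ⧸ I) :=
    IsScalarTower.of_algHom φ
  let g : Fin (d + 1) → Polynomial (MvPolynomial (Fin d) k) :=
    Fin.cases Polynomial.X fun j => Polynomial.X ^ M ^ (j.succ : ℕ) + Polynomial.C (X j)
  have hgmonic : ∀ i, (g i).Monic := by
    intro i
    cases i using Fin.cases with
    | zero => exact Polynomial.monic_X
    | succ j => exact Polynomial.monic_X_pow_add_C _ (pow_ne_zero _ (Nat.succ_ne_zero _))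
  have hgdeg : ∀ i, (g i).natDegree = M ^ (i : ℕ) := by
    intro i
    cases i using Fin.cases with
    | zero => simp [g]
    | succ j => simp [g, Polynomial.natDegree_X_pow_add_C]
  let N : (Fin (d + 1) →₀ ℕ) → ℕ := fun w => ∑ i, w i * M ^ (i : ℕ)
  have hPw : ∀ w : Fin (d + 1) →₀ ℕ, (∏ i, g i ^ w i).Monic ∧ (∏ i, g i ^ w i).natDegree = N w := by
    intro w
    refine ⟨Polynomial.monic_prod_of_monic _ _ fun i _ => (hgmonic i).pow _, ?_⟩
    rw [Polynomial.natDegree_prod_of_monic _ _ fun i _ => (hgmonic i).pow _]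
    exact Finset.sum_congr rfl fun i _ => by rw [(hgmonic i).natDegree_pow, hgdeg]
  have hNinj : ∀ v ∈ f.support, ∀ w ∈ f.support, N v = N w → v = w := by
    intro v hv w hw h
    have hlt : ∀ u ∈ f.support, ∀ i, u i < M := fun u hu i =>
      Nat.lt_succ_of_le ((monomial_le_degreeOf i hu).trans (degreeOf_le_totalDegree f i))
    have := finFunctionFinEquiv.injective (a₁ := fun i => (⟨v i, hlt v hv i⟩ : Fin M))
      (a₂ := fun i => (⟨w i, hlt w hw i⟩ : Fin M)) (Fin.ext (by simpa [finFunctionFinEquiv_apply] using h))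
    ext i
    simpa using congr_fun this i
  obtain ⟨v, hv, hmax⟩ := Finset.exists_max_image f.support N (support_nonempty.2 hf)
  let q := MvPolynomial.aeval g f
  have hq : q = ∑ w ∈ f.support, Polynomial.C (C (coeff w f)) * ∏ i, g i ^ w i := by
    simp only [q, aeval_def, eval₂_eq']
    rfl
  have hdeg : q.natDegree ≤ N v := by
    rw [hq]
    refine Polynomial.natDegree_sum_le_of_forall_le _ _ fun w hw => ?_
    exact (Polynomial.natDegree_C_mul_le _ _).trans ((hPw w).2.le.trans (hmax w hw))
  have hcoeff : q.coeff (N v) = C (coeff v f) := by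
    rw [hq, Polynomial.finsetSum_coeff, Finset.sum_eq_single v]
    · rw [Polynomial.coeff_C_mul, ← (hPw v).2, Polynomial.Monic.coeff_natDegree (hPw v).1, mul_one]
    · intro w hw hwv
      rw [Polynomial.coeff_C_mul, Polynomial.coeff_eq_zero_of_natDegree_lt, mul_zero]
      rw [(hPw w).2]
      exact lt_of_le_of_ne (hmax w hw) fun h => hwv (hNinj w hw v hv h)
    · exact fun h => absurd hv h
  have hu : IsUnit q.leadingCoeff := by
    have hne : coeff v f ≠ 0 := mem_support_iff.1 hv
    rw [Polynomial.leadingCoeff, le_antisymm hdeg (Polynomial.le_natDegree_of_ne_zero (by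
      rw [hcoeff, ne_eq, map_eq_zero_iff _ (C_injective _ _)]; exact hne)), hcoeff]
    exact (isUnit_iff_ne_zero.2 hne).map C
  set x : Fin (d + 1) → MvPolynomial (Fin (d + 1)) k ⧸ I := fun i => Ideal.Quotient.mkₐ k I (X i) with hx
  have hxs : ∀ j : Fin d, x j.succ = algebraMap (MvPolynomial (Fin d) k) _ (X j) + x 0 ^ M ^ (j.succ : ℕ) := by
    intro j
    simp [x, RingHom.algebraMap_toAlgebra, φ, normHom, toK, subst]
  have hev : Polynomial.aeval (x 0) q = 0 := by
    have : ((Polynomial.aeval (x 0)).restrictScalars k).comp (MvPolynomial.aeval g) =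
        Ideal.Quotient.mkₐ k I := by
      apply MvPolynomial.algHom_ext
      intro i
      cases i using Fin.cases with
      | zero => simp [g, x]
      | succ j =>
        have := hxs j
        simp only [x] at this ⊢
        simp [g, this, add_comm]
    have h2 := AlgHom.congr_fun this f
    simp only [AlgHom.comp_apply, AlgHom.restrictScalars_apply] at h2
    rw [h2, Ideal.Quotient.mkₐ_eq_mk, Ideal.Quotient.eq_zero_iff_mem]
    exact hfI
  have hx0 : IsIntegral (MvPolynomial (Fin d) k) (x 0) :=
    ⟨Polynomial.C (↑hu.unit⁻¹ : MvPolynomial (Fin d) k) * q,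
      Polynomial.monic_C_mul_of_mul_leadingCoeff_eq_one hu.val_inv_mul, by
      rw [← Polynomial.aeval_def, map_mul, hev, mul_zero]⟩
  intro b
  obtain ⟨P, rfl⟩ := Ideal.Quotient.mkₐ_surjective k I b
  show IsIntegral (MvPolynomial (Fin d) k) _
  induction P using MvPolynomial.induction_on with
  | C a =>
    have : Ideal.Quotient.mkₐ k I (C a) = algebraMap (MvPolynomial (Fin d) k) _ (C a) := by
      rw [RingHom.algebraMap_toAlgebra]
      exact (φ.commutes a).symm
    rw [this]
    exact isIntegral_algebraMap
  | add P Q hP hQ => rw [map_add]; exact hP.add hQ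
  | mul_X P i hP =>
    rw [map_mul]
    refine hP.mul ?_
    cases i using Fin.cases with
    | zero => exact hx0
    | succ j =>
      show IsIntegral (MvPolynomial (Fin d) k) (x j.succ)
      rw [hxs]
      exact isIntegral_algebraMap.add (hx0.pow _)

theorem exists_normHom (n : ℕ) (I : Ideal (MvPolynomial (Fin n) k)) (hI : I ≠ ⊤) :
    ∃ (r : ℕ) (y : Fin r → MvPolynomial (Fin n) ℤ),
      Function.Injective (normHom I fun i => toK (y i)) ∧ (normHom I fun i => toK (y i)).Finite := by
  induction n with
  | zero =>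
    have hbot : I = ⊥ := by
      rw [eq_bot_iff]
      intro f hf
      by_contra hne
      rw [eq_C_of_isEmpty f] at hf hne
      refine hI (Ideal.eq_top_of_isUnit_mem _ hf (IsUnit.map C (isUnit_iff_ne_zero.2 ?_)))
      intro h
      simp [h] at hne
    subst hbot
    refine ⟨0, fun i => i.elim0, ?_, ?_⟩
    · show Function.Injective (⇑(Ideal.Quotient.mk (⊥ : Ideal (MvPolynomial (Fin 0) k))) ∘ _)
      refine Function.Injective.comp (Ideal.Quotient.mk_bijective_iff_eq_bot _ |>.2 rfl).1 ?_
      intro a b h
      rw [eq_C_of_isEmpty a, eq_C_of_isEmpty b] at h ⊢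
      simpa using h
    · refine AlgHom.Finite.of_surjective _ ?_
      show Function.Surjective (⇑(Ideal.Quotient.mk (⊥ : Ideal (MvPolynomial (Fin 0) k))) ∘ _)
      refine Function.Surjective.comp Ideal.Quotient.mk_surjective ?_
      intro a
      exact ⟨C (coeff 0 a), by simpa using (eq_C_of_isEmpty a).symm⟩
  | succ d ih =>
    by_cases hbot : I = ⊥
    · subst hbot
      have hid : (MvPolynomial.aeval fun i : Fin (d + 1) => toK (X i) :
          MvPolynomial (Fin (d + 1)) k →ₐ[k] _) = AlgHom.id k _ := by
        apply MvPolynomial.algHom_ext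
        intro i
        simp [toK]
      refine ⟨d + 1, X, ?_, ?_⟩
      · show Function.Injective ((Ideal.Quotient.mkₐ k ⊥).comp _)
        rw [hid, AlgHom.comp_id]
        exact (Ideal.Quotient.mk_bijective_iff_eq_bot _ |>.2 rfl).1
      · show AlgHom.Finite ((Ideal.Quotient.mkₐ k (⊥ : Ideal (MvPolynomial (Fin (d + 1)) k))).comp
          (MvPolynomial.aeval fun i : Fin (d + 1) => toK (X i)))
        rw [hid, AlgHom.comp_id]
        exact AlgHom.Finite.of_surjective _ Ideal.Quotient.mk_surjective
    obtain ⟨f, hfI, hf⟩ := Submodule.exists_mem_ne_zero_of_ne_bot hbot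
    set z := subst d (f.totalDegree + 1)
    set φ := normHom I fun j => toK (z j) with hφ
    have hint := isIntegral_normHom I f hf hfI
    have hfin : φ.Finite := by
      refine hint.to_finite (RingHom.FiniteType.of_comp_finiteType (f := algebraMap k _) ?_)
      rw [AlgHom.toRingHom_eq_coe, AlgHom.comp_algebraMap]
      exact RingHom.finiteType_algebraMap.mpr inferInstance
    have := Ideal.Quotient.nontrivial_iff.mpr hI
    obtain ⟨r, y, hinj, hy⟩ := ih (RingHom.ker φ) (RingHom.ker_ne_top _)
    refine ⟨r, fun i => MvPolynomial.aeval z (y i), ?_⟩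
    have hcomp : normHom I (fun i => toK (MvPolynomial.aeval z (y i))) =
        φ.comp (MvPolynomial.aeval fun i => toK (y i)) := by
      apply MvPolynomial.algHom_ext
      intro i
      simp only [φ, AlgHom.comp_apply, aeval_X, normHom, toK]
      congr 1
      generalize y i = P
      induction P using MvPolynomial.induction_on with
      | C a => simp
      | add P Q hP hQ => simp only [map_add, hP, hQ]
      | mul_X P i hP => simp only [map_mul, hP, map_X, aeval_X]
    rw [hcomp]
    refine ⟨?_, ?_⟩
    · rw [injective_iff_map_eq_zero]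
      intro P hP
      apply hinj
      rw [map_zero, AlgHom.comp_apply, Ideal.Quotient.mkₐ_eq_mk, Ideal.Quotient.eq_zero_iff_mem]
      exact hP
    · have h1 : φ.comp (MvPolynomial.aeval fun i => toK (y i)) = (Ideal.kerLiftAlg φ).comp
          (normHom (RingHom.ker φ) fun i => toK (y i)) := by
        apply MvPolynomial.algHom_ext
        intro i
        simp [normHom, Ideal.kerLiftAlg_mk]
      rw [h1]
      refine AlgHom.Finite.comp (AlgHom.Finite.of_comp_finite (f := Ideal.Quotient.mkₐ k (RingHom.ker φ)) ?_) hy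
      have h2 : (Ideal.kerLiftAlg φ).comp (Ideal.Quotient.mkₐ k (RingHom.ker φ)) = φ := by
        ext i
        exact Ideal.kerLiftAlg_mk φ _
      rw [h2]
      exact hfin

/-- Let k be a field and S = k[x_1, …, x_n]/I with I a proper ideal. Then there exist r ≥ 0 and elements
y_1, …, y_r of k[x_1, …, x_n] lying in the subring generated by x_1, …, x_n (polynomials with
integer coefficients) such that the k-algebra map from the polynomial ring k[t_1, …, t_r] to S
sending t_i to the class of y_i is injective and finite; and for any r ≥ 0 and any y_1, …, y_r in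
k[x_1, …, x_n] (with or without the integer-coefficient condition) for which that map is injective
and finite, r is the Krull dimension of S. -/
theorem result (k : Type u) [Field k] (n : ℕ) (I : Ideal (MvPolynomial (Fin n) k))
    (hI : I ≠ ⊤) :
    (∃ (r : ℕ) (y : Fin r → MvPolynomial (Fin n) k),
      (∀ i, y i ∈ Set.range (MvPolynomial.map (Int.castRingHom k) : MvPolynomial (Fin n) ℤ → MvPolynomial (Fin n) k)) ∧
      Function.Injective ((Ideal.Quotient.mkₐ k I).comp (MvPolynomial.aeval y)) ∧
      ((Ideal.Quotient.mkₐ k I).comp (MvPolynomial.aeval y)).toRingHom.Finite) ∧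
    ∀ (r : ℕ) (y : Fin r → MvPolynomial (Fin n) k),
      Function.Injective ((Ideal.Quotient.mkₐ k I).comp (MvPolynomial.aeval y)) →
      ((Ideal.Quotient.mkₐ k I).comp (MvPolynomial.aeval y)).toRingHom.Finite →
      ringKrullDim (MvPolynomial (Fin n) k ⧸ I) = r := by
  refine ⟨?_, fun r y hinj hfin => ?_⟩
  · obtain ⟨r, y, h1, h2⟩ := exists_normHom n I hI
    exact ⟨r, fun i => toK (y i), fun i => ⟨y i, rfl⟩, h1, h2⟩
  · let ψ := (Ideal.Quotient.mkₐ k I).comp (MvPolynomial.aeval y)
    letI : Algebra (MvPolynomial (Fin r) k) (MvPolynomial (Fin n) k ⧸ I) := ψ.toRingHom.toAlgebra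
    haveI : Module.Finite (MvPolynomial (Fin r) k) (MvPolynomial (Fin n) k ⧸ I) := hfin
    rw [Groth.Agent.VarDim.ringKrullDim_eq_of_isIntegral (R := MvPolynomial (Fin r) k) hinj,
      Groth.Agent.VarDim.ringKrullDim_mvPolynomial]

end Groth.Agent.S12208
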