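import Groth.Statements.S12209
import Mathlib
import Groth.Agent.Lib.Compl.Complete

set_option autoImplicit false
universe u
open CAlg

namespace Groth.Agent.S12209
open CategoryTheory

/-- Let (R_i) be a system of commutative rings over a nonempty directed preorder, with colimit R, and
let M be an R-module which is flat as an R_i-module for every i (the R_i-module structure being
restriction of scalars along R_i → R). Then M is flat as an R-module. -/
theorem result {ι : Type u} [Preorder ι] [Nonempty ι] [IsDirectedOrder ι]
    (G : ι → Type u) [∀ i, CommRing (G i)] (f : ∀ i j, i ≤ j → G i →+* G j)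
    [DirectedSystem G fun i j h => f i j h]
    (M : Type u) [AddCommGroup M] [Module (Ring.DirectLimit G fun i j h => f i j h) M]
    (hflat : ∀ i, letI : Module (G i) M := Module.compHom M (Ring.DirectLimit.of G (fun i j h => f i j h) i);
      Module.Flat (G i) M) :
    Module.Flat (Ring.DirectLimit G fun i j h => f i j h) M := by
  rw [Module.Flat.iff_forall_isTrivialRelation]
  intro l r x h
  classical
  choose j z hz using fun a => Ring.DirectLimit.exists_of (G := G) (f := fun i j h => f i j h) (r a)
  obtain ⟨i, hi⟩ := Finset.exists_le (Finset.univ.image j)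
  have hz' : ∀ a, ∃ y : G i, Ring.DirectLimit.of G (fun i j h => f i j h) i y = r a := fun a =>
    ⟨f _ i (hi (j a) (Finset.mem_image_of_mem _ (Finset.mem_univ a))) (z a), by
      rw [Ring.DirectLimit.of_f]; exact hz a⟩
  choose y hy using hz'
  letI : Module (G i) M := Module.compHom M (Ring.DirectLimit.of G (fun i j h => f i j h) i)
  have := hflat i
  have h' : ∑ a, y a • x a = 0 := by
    rw [← h]
    refine Finset.sum_congr rfl fun a _ => ?_
    show Ring.DirectLimit.of G (fun i j h => f i j h) i (y a) • x a = r a • x a
    rw [hy]
  obtain ⟨k, A, b, hb, hA⟩ := Module.Flat.isTrivialRelation_of_sum_smul_eq_zero h'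
  refine ⟨k, fun a c => Ring.DirectLimit.of G (fun i j h => f i j h) i (A a c), b, fun a => ?_, fun c => ?_⟩
  · rw [hb a]; rfl
  · rw [← map_zero (Ring.DirectLimit.of G (fun i j h => f i j h) i), ← hA c, map_sum]
    refine Finset.sum_congr rfl fun a _ => ?_
    rw [map_mul, hy]

end Groth.Agent.S12209
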