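import Groth.Statements.S12210
import Groth.Agent.S1573
import Groth.Agent.Lib.WeakAss18.Push
import Mathlib.RingTheory.Ideal.Height

set_option autoImplicit false
universe u
open CategoryTheory CategoryTheory.Limits AlgebraicGeometry
open Divisors

namespace Groth.Agent.S12210

/-- Let X be locally Noetherian and U an open subscheme whose inclusion is an affine morphism. If ξ is a
point outside U which is maximal under generization among points outside U (a generic point of an
irreducible component of the complement) and ξ lies in the closure of U, then the local ring of X at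
ξ has dimension exactly one. (The case X separated and U an affine open is the corresponding special
case, since then the inclusion of U is affine.) -/
theorem result (X : Scheme.{u}) [IsLocallyNoetherian X]
    (U : X.Opens) [IsAffineHom U.ι] (ξ : X) (hξ : ξ ∉ U) (hgen : ∀ y : X, y ∉ U → y ⤳ ξ → y = ξ)
    (hcl : ξ ∈ closure (U : Set X)) :
    ringKrullDim (X.presheaf.stalk ξ) = 1 := by
  classical
  have hle := (Groth.Agent.S1573.result X U ξ hξ hgen).1
  obtain ⟨V, hV, hξV, -⟩ := exists_isAffineOpen_mem_and_subset (U := (⊤ : X.Opens)) (x := ξ) trivial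
  haveI : IsNoetherianRing Γ(X, V) := IsLocallyNoetherian.component_noetherian ⟨V, hV⟩
  let := TopCat.Presheaf.algebra_section_stalk X.presheaf (⟨ξ, hξV⟩ : V)
  have := hV.isLocalization_stalk ⟨ξ, hξV⟩
  let P := (hV.primeIdealOf ⟨ξ, hξV⟩).asIdeal
  have hPu : ∀ a, IsUnit (X.presheaf.germ V ξ hξV a) ↔ a ∉ P := fun a => Groth.Agent.M1.isUnit_germ_iff hV hξV a
  refine le_antisymm hle ?_
  rw [IsLocalization.AtPrime.ringKrullDim_eq_height P (X.presheaf.stalk ξ), ← WithBot.coe_one, WithBot.coe_le_coe,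
    Order.one_le_iff_ne_zero]
  intro h0
  have hPmin : P ∈ minimalPrimes Γ(X, V) := Ideal.height_eq_zero_iff.mp h0
  obtain ⟨g, hg, hgP⟩ : ∃ g : Γ(X, V), (∀ Q ∈ minimalPrimes Γ(X, V), Q ≠ P → g ∈ Q) ∧ g ∉ P := by
    let T : Finset (Ideal Γ(X, V)) := (minimalPrimes.finite_of_isNoetherianRing Γ(X, V)).toFinset.erase P
    have hnle : ¬ T.inf id ≤ P := fun h => by
      obtain ⟨Q, hQ, hle⟩ := (hV.primeIdealOf ⟨ξ, hξV⟩).isPrime.inf_le'.mp h
      obtain ⟨hne, hQ⟩ := Finset.mem_erase.mp hQ
      have hQ := (Set.Finite.mem_toFinset _).mp hQ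
      exact hne (le_antisymm hle (hPmin.2 hQ.1 hle))
    obtain ⟨g, hg, hgP⟩ := SetLike.not_le_iff_exists.mp hnle
    exact ⟨g, fun Q hQ hne => (Finset.inf_le (f := id) (Finset.mem_erase.mpr ⟨hne, (Set.Finite.mem_toFinset _).mpr hQ⟩) : T.inf id ≤ Q) hg, hgP⟩
  obtain ⟨z, hzg, hzU⟩ := mem_closure_iff.mp hcl _ (X.basicOpen g).isOpen ((X.mem_basicOpen g ξ hξV).mpr ((hPu g).mpr hgP))
  have hz : z ∈ V := X.basicOpen_le g hzg
  obtain ⟨Q, hQ, hQz⟩ := Ideal.exists_minimalPrimes_le (bot_le : ⊥ ≤ (hV.primeIdealOf ⟨z, hz⟩).asIdeal)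
  have hQP : Q = P := by_contra fun hne =>
    (Groth.Agent.M1.isUnit_germ_iff hV hz g).mp ((X.mem_basicOpen g z hz).mp hzg) (hQz (hg Q hQ hne))
  subst hQP
  refine hξ ((Groth.Agent.WA.specializes_of_isUnit hV hz hξV fun a ha => (hPu a).mpr fun h => ?_).mem_open U.isOpen hzU)
  exact (Groth.Agent.M1.isUnit_germ_iff hV hz a).mp ha (hQz h)

end Groth.Agent.S12210
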