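import Groth.Statements.S12211
import Groth.Agent.Lib.IntMult26.Samuel
-- import your own Groth.Agent.* helpers here

set_option autoImplicit false
universe u
open IntMult

namespace Groth.Agent.S12211

/-- Suppose A is a local Noetherian ring and I ⊆ A is an ideal of definition. Given a short exact
sequence 0 → M' → M → M'' → 0 of finite A-modules and a number d with dim Supp(M) ≤ d, we have
e_I(M, d) = e_I(M', d) + e_I(M'', d), where e_I(N, d) denotes the limit as t → ∞ of d! ·
length_A(N/I^t N)/t^d. Concretely: whenever these limits for M' and M'' exist and equal e' and e'',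
the corresponding limit for M exists and equals e' + e''. -/
theorem result (A : Type u) [CommRing A] [IsNoetherianRing A] [IsLocalRing A]
    (I : Ideal A) (hI : I ≤ IsLocalRing.maximalIdeal A ∧ ∃ n : ℕ, IsLocalRing.maximalIdeal A ^ n ≤ I)
    {M' M M'' : Type u} [AddCommGroup M'] [Module A M'] [AddCommGroup M] [Module A M]
    [AddCommGroup M''] [Module A M''] [Module.Finite A M'] [Module.Finite A M] [Module.Finite A M'']
    (f : M' →ₗ[A] M) (g : M →ₗ[A] M'') (hf : Function.Injective f) (hg : Function.Surjective g)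
    (hfg : LinearMap.range f = LinearMap.ker g)
    (d : ℕ) (hd : Module.supportDim A M ≤ d) (e' e'' : ℝ)
    (h' : Filter.Tendsto (fun t : ℕ => (d.factorial : ℝ) * ((Module.length A (M' ⧸ (I ^ t • (⊤ : Submodule A M')))).toNat : ℝ) / (t : ℝ) ^ d) Filter.atTop (nhds e'))
    (h'' : Filter.Tendsto (fun t : ℕ => (d.factorial : ℝ) * ((Module.length A (M'' ⧸ (I ^ t • (⊤ : Submodule A M'')))).toNat : ℝ) / (t : ℝ) ^ d) Filter.atTop (nhds e'')) :
    Filter.Tendsto (fun t : ℕ => (d.factorial : ℝ) * ((Module.length A (M ⧸ (I ^ t • (⊤ : Submodule A M)))).toNat : ℝ) / (t : ℝ) ^ d) Filter.atTop (nhds (e' + e'')) := by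
  exact IntMult26.tendsto_nhs_add hI f g hf hg hfg d h' h''

end Groth.Agent.S12211
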