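import Groth.Statements.S12214
import Groth.Agent.Lib.Dev4.WeakAssFP
import Mathlib.RingTheory.LocalProperties.FinitePresentation
import Mathlib.RingTheory.Flat.Localization

set_option autoImplicit false
universe u
open FlatMor

set_option backward.isDefEq.respectTransparency.types false
set_option maxSynthPendingDepth 3
namespace Groth.Agent.S12214

/-- Flatness at a prime of a localised ring reads off at the prime below. -/
theorem flatAt_away {R S : Type u} [CommRing R] [CommRing S] [Algebra R S]
    (M : Type u) [AddCommGroup M] [Module S M] [Module R M] [IsScalarTower R S M] (g : S)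
    (q' : Ideal (Localization.Away g)) [q'.IsPrime]
    (h : FlatCA.FlatAt R (q'.comap (algebraMap S (Localization.Away g))) M) :
    FlatCA.FlatAt R q' (LocalizedModule (Submonoid.powers g) M) := by
  let B := LocalizedModule q'.primeCompl (LocalizedModule (Submonoid.powers g) M)
  let q := q'.comap (algebraMap S (Localization.Away g))
  let φ₁ := LocalizedModule.mkLinearMap (Submonoid.powers g) M
  let φ₂ : LocalizedModule (Submonoid.powers g) M →ₗ[S] B :=
    (LocalizedModule.mkLinearMap q'.primeCompl (LocalizedModule (Submonoid.powers g) M)).restrictScalars S
  let φ := φ₂ ∘ₗ φ₁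
  haveI : IsLocalizedModule q.primeCompl φ :=
    { map_units := fun s => by
        have hu := IsLocalizedModule.map_units (S := q'.primeCompl)
          (LocalizedModule.mkLinearMap q'.primeCompl (LocalizedModule (Submonoid.powers g) M))
          ⟨algebraMap S (Localization.Away g) (s : S), s.2⟩
        rw [Module.End.isUnit_iff] at hu ⊢
        convert hu using 2
        exact (algebraMap_smul (Localization.Away g) (s : S) _).symm
      surj := fun y => by
        obtain ⟨⟨m', t'⟩, hy⟩ := IsLocalizedModule.surj q'.primeCompl
          (LocalizedModule.mkLinearMap q'.primeCompl (LocalizedModule (Submonoid.powers g) M)) y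
        obtain ⟨⟨t, a⟩, ht⟩ := IsLocalization.surj (Submonoid.powers g) (t' : Localization.Away g)
        obtain ⟨⟨m, b⟩, hm⟩ := IsLocalizedModule.surj (Submonoid.powers g) φ₁ m'
        have hgb : ∀ c : Submonoid.powers g, algebraMap S (Localization.Away g) c ∉ q' := fun c hc =>
          ‹q'.IsPrime›.ne_top (Ideal.eq_top_of_isUnit_mem _ hc (IsLocalization.map_units _ c))
        have hb : (b : S) ∈ q.primeCompl := hgb b
        have ht' : t ∈ q.primeCompl := fun hc => by
          have hc' : algebraMap S (Localization.Away g) t ∈ q' := hc
          simp only at ht
          rw [← ht] at hc'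
          rcases ‹q'.IsPrime›.mem_or_mem hc' with h | h
          · exact t'.2 h
          · exact hgb a h
        refine ⟨⟨(a : S) • m, ⟨(b : S) * t, q.primeCompl.mul_mem hb ht'⟩⟩, ?_⟩
        simp only [Submonoid.smul_def] at hy hm ⊢
        simp only [φ, LinearMap.comp_apply, map_smul]
        rw [← hm, map_smul]
        simp only [φ₂, LinearMap.restrictScalars_apply]
        rw [← hy, ← algebraMap_smul (Localization.Away g) ((b : S) * t) y,
          ← algebraMap_smul (Localization.Away g) (a : S), ← algebraMap_smul (Localization.Away g) (b : S),
          smul_smul, smul_smul, map_mul]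
        simp only at ht
        rw [← ht]
        congr 1
        ring
      exists_of_eq := fun {x y} hxy => by
        obtain ⟨c', hc⟩ := IsLocalizedModule.exists_of_eq (S := q'.primeCompl)
          (f := LocalizedModule.mkLinearMap q'.primeCompl (LocalizedModule (Submonoid.powers g) M)) hxy
        obtain ⟨⟨c, a⟩, hca⟩ := IsLocalization.surj (Submonoid.powers g) (c' : Localization.Away g)
        simp only at hca
        simp only [Submonoid.smul_def] at hc
        have h1 : φ₁ (c • x) = φ₁ (c • y) := by
          rw [map_smul, map_smul, ← algebraMap_smul (Localization.Away g) c,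
            ← algebraMap_smul (Localization.Away g) c (φ₁ y), ← hca, mul_comm, mul_smul, mul_smul, hc]
        obtain ⟨b, hb⟩ := IsLocalizedModule.exists_of_eq (S := Submonoid.powers g) (f := φ₁) h1
        simp only [Submonoid.smul_def] at hb
        have hgb : ∀ c : Submonoid.powers g, algebraMap S (Localization.Away g) c ∉ q' := fun c hc =>
          ‹q'.IsPrime›.ne_top (Ideal.eq_top_of_isUnit_mem _ hc (IsLocalization.map_units _ c))
        have hc1 : c ∈ q.primeCompl := fun hc => by
          have hc' : algebraMap S (Localization.Away g) c ∈ q' := hc
          rw [← hca] at hc'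
          rcases ‹q'.IsPrime›.mem_or_mem hc' with h | h
          · exact c'.2 h
          · exact hgb a h
        refine ⟨⟨(b : S) * c, q.primeCompl.mul_mem (hgb b) hc1⟩, ?_⟩
        simp only [Submonoid.smul_def]
        rw [mul_smul, mul_smul]
        exact hb }
  haveI : Module.Flat R (LocalizedModule q.primeCompl M) := h
  exact Module.Flat.of_linearEquiv ((IsLocalizedModule.iso q.primeCompl φ).restrictScalars R).symm

/-- Let R → S be a ring map of finite presentation, M a finite S-module, and assume R has finitely many
weakly associated primes. Then for every g ∈ S whose basic open D(g) is contained in the flat locus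
U = {q : M_q is flat over R}, the localization M_g is a finitely presented S_g-module which is flat
over R. (Openness of U is the companion statement.) -/
theorem result {R S : Type u} [CommRing R] [CommRing S] [Algebra R S]
    [Algebra.FinitePresentation R S] (hR : (FlatCA.weakAss R R).Finite)
    (M : Type u) [AddCommGroup M] [Module S M] [Module R M] [IsScalarTower R S M] [Module.Finite S M]
    (g : S) (hg : ∀ (q : Ideal S) [q.IsPrime], g ∉ q → FlatCA.FlatAt R q M) :
    Module.FinitePresentation (Localization.Away g) (LocalizedModule (Submonoid.powers g) M) ∧
      Module.Flat R (LocalizedModule (Submonoid.powers g) M) := by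
  haveI : Algebra.FinitePresentation R (Localization.Away g) :=
    Algebra.FinitePresentation.trans R S (Localization.Away g)
  let M' := LocalizedModule (Submonoid.powers g) M
  have key : ∀ (q' : Ideal (Localization.Away g)) [q'.IsPrime], ∃ h : Localization.Away g, h ∉ q' ∧
      Module.FinitePresentation (Localization.Away h) (LocalizedModule (Submonoid.powers h) M') ∧
      Module.Flat R (LocalizedModule (Submonoid.powers h) M') := fun q' _ => by
    refine Dev4.exists_flat_fp_of_weakAss_finite hR M' q' (flatAt_away M g q' (hg _ fun hc => ?_))
    exact ‹q'.IsPrime›.ne_top (Ideal.eq_top_of_isUnit_mem _ hc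
      (IsLocalization.map_units _ ⟨g, Submonoid.mem_powers g⟩))
  let T : Set (Localization.Away g) := {h |
    Module.FinitePresentation (Localization.Away h) (LocalizedModule (Submonoid.powers h) M') ∧
      Module.Flat R (LocalizedModule (Submonoid.powers h) M')}
  have hT : Ideal.span T = ⊤ := by
    by_contra hne
    obtain ⟨P, hP, hle⟩ := Ideal.exists_le_maximal _ hne
    obtain ⟨h, hh, h1, h2⟩ := key P
    exact hh (hle (Ideal.subset_span ⟨h1, h2⟩))
  exact ⟨Module.FinitePresentation.of_localizationSpan T hT fun h => h.2.1,
    Module.flat_of_isLocalized_span _ _ T hT _ (fun h => LocalizedModule.mkLinearMap _ M') fun h => h.2.2⟩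

end Groth.Agent.S12214
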