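import Groth.Statements.S12215
import Groth.Agent.Lib.WeakAss18.Tilde

set_option autoImplicit false
universe u
open CategoryTheory CategoryTheory.Limits AlgebraicGeometry
open Divisors

namespace Groth.Agent.S12215

/-- Let M be a module over a ring A, M~ the associated quasi-coherent module on Spec A and p a prime of
A. Then p is weakly associated to M — p is minimal among the prime ideals containing the annihilator
of some element of M — if and only if the point p of Spec A is weakly associated to M~, i.e. some
element of the stalk of M~ at p has annihilator whose radical is the maximal ideal of the local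
ring. -/
theorem result (A : CommRingCat.{u}) (M : ModuleCat.{u} A) (p : Spec A) :
    p.asIdeal ∈ FlatCA.weakAss A M ↔ Curv2.IsWeakAssPoint (tilde M) p := by
  have hann : ∀ (m : M) (c : A), c ∈ (Submodule.span A {m}).annihilator ↔ c • m = 0 := fun m c =>
    Submodule.mem_annihilator_span_singleton m c
  constructor
  · rintro ⟨m, ⟨hp, hle⟩, hmin⟩
    refine Groth.Agent.WA.isWeakAssPoint_of_elem' M p m (fun c hc h0 => hc (hle ((hann m c).mpr h0))) fun a ha => ?_
    by_contra hno
    push Not at hno
    obtain ⟨q, hq, hJq, hqd⟩ := Ideal.exists_le_prime_disjoint (Submodule.span A {m}).annihilator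
      (p.asIdeal.primeCompl ⊔ Submonoid.powers a) (by
      rw [Set.disjoint_right]
      intro g hg hgJ
      obtain ⟨c, hc, _, ⟨k, rfl⟩, rfl⟩ := Submonoid.mem_sup.mp hg
      exact hno k c hc (by rw [← mul_smul]; exact (hann m _).mp hgJ))
    have hqp : q ≤ p.asIdeal := fun x hx => by_contra fun hxp =>
      Set.disjoint_left.mp hqd hx (Submonoid.mem_sup_left hxp)
    exact Set.disjoint_left.mp hqd (hmin ⟨hq, hJq⟩ hqp ha) (Submonoid.mem_sup_right (Submonoid.mem_powers a))
  · intro h
    obtain ⟨m, hne, hkill⟩ := Groth.Agent.WA.exists_of_isWeakAssPoint M p h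
    refine ⟨m, ⟨p.isPrime, fun c hc => by_contra fun hcp => hne c hcp ((hann m c).mp hc)⟩, fun q hq hqp a ha => ?_⟩
    obtain ⟨k, c, hc, hc0⟩ := hkill a ha
    have h1 : c * a ^ k ∈ q := hq.2 ((hann m _).mpr (by rw [mul_smul]; exact hc0))
    exact hq.1.mem_of_pow_mem k ((hq.1.mem_or_mem h1).resolve_left fun hcq => hc (hqp hcq))

end Groth.Agent.S12215
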