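import Groth.Statements.S12217
import Groth.Agent.S0343
import Groth.Agent.S0344
import Groth.Agent.S0342
import Groth.Agent.Lib.CplLocH7.Basic
import Groth.Agent.Lib.WeilNum29.Rational

set_option autoImplicit false
universe u
open Curves

namespace Groth.Agent.S12217

open IsLocalRing in
theorem gorenstein_cpl (A : Type u) [CommRing A] [hA : LocCoh.IsGorensteinLocalRing A] :
    LocCoh.IsGorensteinLocalRing (CplLocH7.Cpl A) := by
  haveI := CplLocH7.isNoetherianRing_cpl A
  haveI := CplLocH7.faithfullyFlat_cpl A
  haveI : IsLocalHom (algebraMap A (CplLocH7.Cpl A)) :=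
    ((local_hom_TFAE (algebraMap A (CplLocH7.Cpl A))).out 0 2).2 (CplLocH7.maximalIdeal_cpl A).ge
  refine (Groth.Agent.S0344.result A (CplLocH7.Cpl A)).2 ⟨hA, ?_⟩
  haveI : ((maximalIdeal A).map (algebraMap A (CplLocH7.Cpl A))).IsMaximal := by
    rw [← CplLocH7.maximalIdeal_cpl]; exact maximalIdeal.isMaximal _
  letI := Ideal.Quotient.field ((maximalIdeal A).map (algebraMap A (CplLocH7.Cpl A)))
  exact Groth.Agent.S0342.result _

open IsLocalRing in
theorem eq_two_aux {k C : Type u} [Field k] [CommRing C] [hC : LocCoh.IsGorensteinLocalRing C] (n : ℕ) (hn : 2 ≤ n)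
    (φ : C →+* (Fin n → PowerSeries k)) (hinj : Function.Injective φ)
    (hrange : Set.range φ = {f : Fin n → PowerSeries k | ∀ i j : Fin n, PowerSeries.constantCoeff (f i) = PowerSeries.constantCoeff (f j)}) :
    n = 2 := by
  classical
  by_contra hne
  have hmem : ∀ f : Fin n → PowerSeries k, (∀ i, PowerSeries.constantCoeff (f i) = 0) → ∃ c, φ c = f := fun f hf =>
    hrange.ge (show ∀ i j, PowerSeries.constantCoeff (f i) = PowerSeries.constantCoeff (f j) from fun i j => by rw [hf, hf])
  have hcc : ∀ (c : C) i j, PowerSeries.constantCoeff (φ c i) = PowerSeries.constantCoeff (φ c j) := fun c =>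
    hrange.le ⟨c, rfl⟩
  let i0 : Fin n := ⟨0, by omega⟩
  let i1 : Fin n := ⟨1, by omega⟩
  let i2 : Fin n := ⟨2, by omega⟩
  obtain ⟨x, hx⟩ := hmem (fun _ => PowerSeries.X) (fun _ => PowerSeries.constantCoeff_X)
  have hreg : IsSMulRegular C x := fun a b hab => hinj (funext fun i => by
    have h := congrFun (congrArg φ hab) i
    simp only [smul_eq_mul, map_mul, Pi.mul_apply, hx] at h
    exact mul_left_cancel₀ PowerSeries.X_ne_zero h)
  have hm : ∀ c ∈ maximalIdeal C, ∀ i, PowerSeries.constantCoeff (φ c i) = 0 := by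
    intro c hc i
    by_contra h
    have hu : ∀ j, IsUnit (φ c j) := fun j =>
      PowerSeries.isUnit_iff_constantCoeff.2 (isUnit_iff_ne_zero.2 (by rw [hcc c j i]; exact h))
    choose v hv using fun j => (hu j).exists_right_inv
    have hv0 : ∀ j, PowerSeries.constantCoeff (v j) = (PowerSeries.constantCoeff (φ c i))⁻¹ := fun j => by
      refine eq_inv_of_mul_eq_one_right ?_
      rw [hcc c i j, ← map_mul, hv, map_one]
    obtain ⟨d, hd⟩ : ∃ d, φ d = v :=
      hrange.ge (show ∀ a b, PowerSeries.constantCoeff (v a) = PowerSeries.constantCoeff (v b) from fun a b => by rw [hv0, hv0])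
    exact (mem_maximalIdeal c).1 hc (IsUnit.of_mul_eq_one d (hinj (by rw [map_mul, hd, map_one]; exact funext hv)))
  have hxm : x ∈ maximalIdeal C := (mem_maximalIdeal x).2 fun hu => by
    have h := ((hu.map φ).map (Pi.evalRingHom (fun _ => PowerSeries k) i0))
    rw [Pi.evalRingHom_apply, hx, PowerSeries.isUnit_iff_constantCoeff, PowerSeries.constantCoeff_X] at h
    exact not_isUnit_zero h
  haveI hG : LocCoh.IsGorensteinLocalRing (C ⧸ Ideal.span {x}) := (Groth.Agent.S0343.result C x hxm hreg).1 hC
  have hsingle : ∀ i : Fin n, ∃ e, φ e = Pi.single i PowerSeries.X := fun i => hmem _ fun j => by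
    by_cases h : j = i
    · subst h; simp
    · simp [h]
  choose e he using hsingle
  have hsoc : ∀ i : Fin n, ∀ r ∈ maximalIdeal (C ⧸ Ideal.span {x}), r * Ideal.Quotient.mk _ (e i) = 0 := by
    intro i r hr
    obtain ⟨y, rfl⟩ := Ideal.Quotient.mk_surjective r
    have hy : y ∈ maximalIdeal C := (mem_maximalIdeal y).2 fun hu => (mem_maximalIdeal _).1 hr (hu.map _)
    obtain ⟨g, hg⟩ := hmem (Pi.single i (φ y i)) fun j => by
      by_cases h : j = i
      · subst h; simp [hm y hy]
      · simp [h]
    rw [← map_mul, Ideal.Quotient.eq_zero_iff_mem, Ideal.mem_span_singleton']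
    refine ⟨g, hinj (funext fun j => ?_)⟩
    rw [map_mul, map_mul, Pi.mul_apply, Pi.mul_apply, hg, hx, he]
    by_cases h : j = i
    · subst h; simp
    · simp [h]
  have hne0 : Ideal.Quotient.mk (Ideal.span {x}) (e i0) ≠ 0 := fun h => by
    rw [Ideal.Quotient.eq_zero_iff_mem, Ideal.mem_span_singleton'] at h
    obtain ⟨g, hg⟩ := h
    have h0 := congrFun (congrArg φ hg) i0
    have h1 := congrFun (congrArg φ hg) i1
    rw [map_mul, Pi.mul_apply, hx, he, Pi.single_eq_same] at h0
    rw [map_mul, Pi.mul_apply, hx, he, Pi.single_eq_of_ne (by simp [i0, i1])] at h1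
    have g0 : φ g i0 = 1 := mul_right_cancel₀ PowerSeries.X_ne_zero (h0.trans (one_mul _).symm)
    have g1 : φ g i1 = 0 := (mul_eq_zero.1 h1).resolve_right PowerSeries.X_ne_zero
    have := hcc g i0 i1
    rw [g0, g1, map_one, map_zero] at this
    exact one_ne_zero this
  obtain ⟨c, hc⟩ := Groth.Agent.WeilNum29.exists_mul_eq_of_socle _ hne0 (hsoc i0) (hsoc i1)
  obtain ⟨c, rfl⟩ := Ideal.Quotient.mk_surjective c
  rw [← map_mul, Ideal.Quotient.eq, Ideal.mem_span_singleton'] at hc
  obtain ⟨g, hg⟩ := hc
  have h1 := congrFun (congrArg φ hg) i1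
  have h2 := congrFun (congrArg φ hg) i2
  simp only [map_mul, map_sub, Pi.mul_apply, Pi.sub_apply, hx, he] at h1 h2
  rw [Pi.single_eq_same, Pi.single_eq_of_ne (by simp [i0, i1]), mul_zero, sub_zero] at h1
  rw [Pi.single_eq_of_ne (by simp [i1, i2]), Pi.single_eq_of_ne (by simp [i0, i2]), mul_zero, sub_zero] at h2
  have g1 : φ g i1 = 1 := mul_right_cancel₀ PowerSeries.X_ne_zero (h1.trans (one_mul _).symm)
  have g2 : φ g i2 = 0 := (mul_eq_zero.1 h2).resolve_right PowerSeries.X_ne_zero
  have := hcc g i1 i2
  rw [g1, g2, map_one, map_zero] at this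
  exact one_ne_zero this


/-- In this form A is the local ring of the curve at the point, and a Gorenstein scheme has Gorenstein
local rings. Let k be an algebraically closed field and A a Gorenstein local ring whose completion
with respect to its maximal ideal is isomorphic to the multicross ring with n ≥ 2 branches, the
subring of (k[[t]])^n consisting of the n-tuples of power series having a common constant term. Then
n = 2: a Gorenstein multicross singularity is a node. The isomorphism is given as an injective ring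
map from the completion to (k[[t]])^n with that subring as its range. -/
theorem result (k : Type u) [Field k] [IsAlgClosed k]
    (A : Type u) [CommRing A] [LocCoh.IsGorensteinLocalRing A] (n : ℕ) (hn : 2 ≤ n)
    (φ : AdicCompletion (IsLocalRing.maximalIdeal A) A →+* (Fin n → PowerSeries k))
    (hinj : Function.Injective φ)
    (hrange : Set.range φ = {f : Fin n → PowerSeries k | ∀ i j : Fin n, PowerSeries.constantCoeff (f i) = PowerSeries.constantCoeff (f j)}) :
    n = 2 := by
  exact @eq_two_aux k _ _ _ (gorenstein_cpl A) n hn φ hinj hrange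

end Groth.Agent.S12217
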