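import Groth.Statements.S1224
import Mathlib.RingTheory.Ideal.GoingUp
import Mathlib.RingTheory.Ideal.AssociatedPrime.Basic
import Mathlib.RingTheory.IsTensorProduct

set_option autoImplicit false
universe u
open FlatMor

namespace Groth.Agent.S1224


open TensorProduct in
lemma algebraMap_mem_of_mem_annihilator {B A' B' N N' : Type u} [CommRing B] [CommRing A'] [CommRing B']
    [Algebra B B'] [Algebra A' B'] [AddCommGroup N] [Module B N] [AddCommGroup N'] [Module B' N'] [Module B N']
    [IsScalarTower B B' N'] [Module A' N'] [IsScalarTower A' B' N'] {f : N →ₗ[B] N'} (hf : IsBaseChange B' f)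
    (t' : Ideal A') [t'.IsPrime] (P : Ideal B') [P.IsPrime] [P.LiesOver t']
    (hP : FlatCA.fiberIdeal t' P ∈ associatedPrimes (t'.Fiber B') (FlatCA.fiberMod t' B' N'))
    {a : B} (ha : a ∈ Module.annihilator B N) : algebraMap B B' a ∈ P := by
  set b := algebraMap B B' a with hb
  have hann : ∀ n : N', b • n = 0 := fun n => hf.inductionOn n (motive := fun n => b • n = 0) (smul_zero _)
    (fun m => by rw [hb, algebraMap_smul, ← map_smul, Module.mem_annihilator.1 ha m, map_zero])
    (fun s n hn => by rw [smul_comm, hn, smul_zero]) (fun x y hx hy => by rw [smul_add, hx, hy, add_zero])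
  have hmem : (Algebra.TensorProduct.includeRight : B' →ₐ[A'] t'.Fiber B') b ∈
      Module.annihilator (t'.Fiber B') (FlatCA.fiberMod t' B' N') := by
    letI : Algebra B' (t'.Fiber B') := Algebra.TensorProduct.rightAlgebra
    have key : ∀ z : (t'.Fiber B') ⊗[B'] N', algebraMap B' (t'.Fiber B') b • z = 0 := by
      intro z
      induction z using TensorProduct.induction_on with
      | zero => exact smul_zero _
      | tmul c n => rw [algebraMap_smul, ← TensorProduct.tmul_smul, hann, TensorProduct.tmul_zero]
      | add x y hx hy => rw [smul_add, hx, hy, add_zero]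
    exact Module.mem_annihilator.2 fun z => key z
  have h1 := hP.annihilator_le (by rwa [Submodule.annihilator_top])
  let φ : t'.Fiber B' →ₐ[A'] P.ResidueField :=
    Algebra.TensorProduct.lift (Ideal.ResidueField.mapₐ t' P (Algebra.ofId A' B') (P.over_def t'))
      (IsScalarTower.toAlgHom A' B' P.ResidueField) fun _ _ => Commute.all _ _
  have hφ : FlatCA.fiberIdeal t' P ≤ RingHom.ker φ.toRingHom := by
    rw [FlatCA.fiberIdeal, Ideal.map_le_iff_le_comap]
    intro x hx
    have e : φ ((1 : t'.ResidueField) ⊗ₜ[A'] x) = algebraMap B' P.ResidueField x := by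
      simp [φ]
    exact e.trans (Ideal.algebraMap_residueField_eq_zero.2 hx)
  have h2 : φ ((1 : t'.ResidueField) ⊗ₜ[A'] b) = 0 := hφ h1
  simp only [φ, Algebra.TensorProduct.lift_tmul, map_one, one_mul] at h2
  exact Ideal.algebraMap_residueField_eq_zero.1 h2

/-- Ring form, X = Spec B affine, where proper support means finite support: let B be a finite type
A-algebra and N a finite B-module such that B modulo the annihilator of N is finite over A. Then N
is universally pure relative to Spec A. -/
theorem result {A B : Type u} [CommRing A] [CommRing B] [Algebra A B] [Algebra.FiniteType A B]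
    (N : Type u) [AddCommGroup N] [Module B N] [Module A N] [IsScalarTower A B N] [Module.Finite B N]
    [Module.Finite A (B ⧸ Module.annihilator B N)] : FlatCA.IsUnivPure A B N := by
  classical
  intro p _ A' B' N'
  intros
  rename_i f t' t ht' ht P hP
  rintro ⟨hpush, hbc, hle, -, hPt', hass, hno⟩
  let J : Ideal B' := (Module.annihilator B N).map (algebraMap B B')
  have hJP : J ≤ P := Ideal.map_le_iff_le_comap.2 fun a ha =>
    algebraMap_mem_of_mem_annihilator hbc t' P hass ha
  have : Module.Finite A' (B' ⧸ J) := by
    obtain ⟨s, hs⟩ := (inferInstance : Module.Finite A (B ⧸ Module.annihilator B N)).fg_top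
    let ψ : B →+* B' ⧸ J := (Ideal.Quotient.mk J).comp (algebraMap B B')
    let κ : B ⧸ Module.annihilator B N →+* B' ⧸ J := Ideal.quotientMap J (algebraMap B B') Ideal.le_comap_map
    have hκ : ∀ b, κ (Ideal.Quotient.mk _ b) = Ideal.Quotient.mk J (algebraMap B B' b) := fun b => rfl
    have hB : ∀ b : B, Ideal.Quotient.mk J (algebraMap B B' b) ∈
        Submodule.span A' ((s.image κ : Finset _) : Set (B' ⧸ J)) := by
      intro b
      rw [← hκ]
      generalize Ideal.Quotient.mk (Module.annihilator B N) b = w
      have : w ∈ Submodule.span A (s : Set (B ⧸ Module.annihilator B N)) :=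
        hs ▸ Submodule.mem_top
      induction this using Submodule.span_induction with
      | mem x hx => exact Submodule.subset_span (Finset.mem_coe.2 (Finset.mem_image_of_mem κ hx))
      | zero => rw [map_zero]; exact Submodule.zero_mem _
      | add x y _ _ hx hy => rw [map_add]; exact Submodule.add_mem _ hx hy
      | smul c x _ hx =>
        have : κ (c • x) = algebraMap A A' c • κ x := by
          rw [Algebra.smul_def, map_mul, Algebra.smul_def]
          congr 1
          change Ideal.Quotient.mk J (algebraMap B B' (algebraMap A B c)) = Ideal.Quotient.mk J (algebraMap A' B' (algebraMap A A' c))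
          rw [← IsScalarTower.algebraMap_apply, ← IsScalarTower.algebraMap_apply]
        rw [this]; exact Submodule.smul_mem _ _ hx
    refine ⟨s.image κ, top_unique fun z _ => ?_⟩
    obtain ⟨z, rfl⟩ := Ideal.Quotient.mk_surjective z
    refine hpush.symm.out.inductionOn z (motive := fun z => Ideal.Quotient.mk J z ∈ Submodule.span A' _)
      ?_ hB ?_ ?_
    · rw [map_zero]; exact Submodule.zero_mem _
    · intro c x hx
      exact Submodule.smul_mem _ c hx
    · intro x y hx hy; rw [map_add]; exact Submodule.add_mem _ hx hy
  let Pb : Ideal (B' ⧸ J) := P.map (Ideal.Quotient.mk J)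
  have hcm : Pb.comap (Ideal.Quotient.mk J) = P := Ideal.comap_map_mk hJP
  have : Pb.IsPrime := Ideal.map_isPrime_of_surjective Ideal.Quotient.mk_surjective (by rwa [Ideal.mk_ker])
  obtain ⟨Q, hPQ, hQ, hQt⟩ := Ideal.exists_ideal_over_prime_of_isIntegral_of_isPrime t Pb (by
    rw [IsScalarTower.algebraMap_eq A' B' (B' ⧸ J), ← Ideal.comap_comap,
      Ideal.Quotient.algebraMap_eq, hcm]
    exact (P.over_def t').symm.le.trans hle)
  refine hno (Q.comap (Ideal.Quotient.mk J)) (hcm ▸ Ideal.comap_mono hPQ) ⟨?_⟩
  rw [← hQt, IsScalarTower.algebraMap_eq A' B' (B' ⧸ J), ← Ideal.comap_comap, Ideal.Quotient.algebraMap_eq]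

end Groth.Agent.S1224
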