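import Groth.Statements.S1222
import Groth.Agent.Lib.Dev4.PureFinite
import Groth.Agent.S1224

set_option autoImplicit false
universe u
open FlatMor
open TensorProduct
set_option maxSynthPendingDepth 3
set_option backward.isDefEq.respectTransparency.types false
attribute [local instance] Algebra.TensorProduct.rightAlgebra

set_option backward.isDefEq.respectTransparency.types false

namespace Groth.Agent.S1222



open Groth.Agent.Dev4 in
/-- A pure module with finite fibre supports has finite support. -/
theorem finite_support_of_isPure {A B : Type u} [CommRing A] [CommRing B] [Algebra A B] [Algebra.FiniteType A B]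
    (N : Type u) [AddCommGroup N] [Module B N] [Module A N] [IsScalarTower A B N] [Module.Finite B N]
    (hfin : ∀ (p : Ideal A) [p.IsPrime], (Module.support (p.Fiber B) (FlatCA.fiberMod p B N)).Finite)
    (hpure : FlatCA.IsPure A B N) : Module.Finite A (B ⧸ Module.annihilator B N) := by
  let J := Module.annihilator B N
  let C := B ⧸ J
  haveI : Algebra.FiniteType A C :=
    Algebra.FiniteType.of_surjective (Ideal.Quotient.mkₐ A J) (Ideal.Quotient.mkₐ_surjective A J)
  haveI : Algebra.QuasiFinite A C := Algebra.QuasiFinite.iff_finite_primesOver.2 fun I hI => by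
    haveI := hI
    have hcm : ∀ Q ∈ I.primesOver C, (Q.comap (Ideal.Quotient.mk J)).IsPrime ∧
        (Q.comap (Ideal.Quotient.mk J)).LiesOver I := fun Q hQ => by
      haveI := hQ.1
      exact ⟨inferInstance, ⟨by
        show I = (Q.comap (Ideal.Quotient.mk J)).comap (algebraMap A B)
        rw [Ideal.comap_comap]
        exact hQ.2.over⟩⟩
    refine Set.Finite.of_injOn (f := fun Q => FlatCA.fiberIdeal I (Q.comap (Ideal.Quotient.mk J)))
      (t := PrimeSpectrum.asIdeal '' Module.support (I.Fiber B) (FlatCA.fiberMod I B N)) (fun Q hQ => ?_)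
      (fun Q hQ Q₁ hQ₁ h => ?_) ((hfin I).image _)
    · obtain ⟨h1, h2⟩ := hcm Q hQ
      obtain ⟨x, hx, hxQ⟩ := exists_fibre_support_point N I (Q.comap (Ideal.Quotient.mk J)) (by
        rw [Module.support_eq_zeroLocus]
        exact fun b hb => by
          show Ideal.Quotient.mk J b ∈ Q
          rw [Ideal.Quotient.eq_zero_iff_mem.2 hb]
          exact Q.zero_mem)
      exact ⟨x, hx, hxQ⟩
    · obtain ⟨h1, h2⟩ := hcm Q hQ
      obtain ⟨h3, h4⟩ := hcm Q₁ hQ₁
      apply Ideal.comap_injective_of_surjective _ Ideal.Quotient.mk_surjective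
      rw [← comap_fiberIdeal I (Q.comap (Ideal.Quotient.mk J)), ← comap_fiberIdeal I (Q₁.comap (Ideal.Quotient.mk J))]
      exact congrArg (Ideal.comap _) h
  refine finite_of_specialisesAfterNhd fun p _ A' _ _ t' t _ _ hA hle Q hQ hQt => ?_
  haveI := hQ
  haveI := hQt
  let B' := A' ⊗[A] B
  let N' := B' ⊗[B] N
  let ψ : B' →ₐ[A'] A' ⊗[A] C := Algebra.TensorProduct.map (AlgHom.id A' A') (Ideal.Quotient.mkₐ A J)
  have hψ : Function.Surjective ψ :=
    LinearMap.lTensor_surjective A' (g := (Ideal.Quotient.mkₐ A J).toLinearMap) (Ideal.Quotient.mkₐ_surjective A J)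
  let Q₀ : Ideal B' := Q.comap ψ.toRingHom
  haveI : Q₀.LiesOver t' := ⟨by
    show t' = (Q.comap ψ.toRingHom).comap (algebraMap A' B')
    rw [Ideal.comap_comap, AlgHom.toRingHom_eq_coe, ψ.comp_algebraMap]
    exact hQt.over⟩
  have hsupp : (⟨Q₀, inferInstance⟩ : PrimeSpectrum B') ∈ Module.support B' N' := by
    rw [FlatPur25.mem_support_baseChange_iff, Module.support_eq_zeroLocus]
    exact fun b hb => by
      show ψ ((1 : A') ⊗ₜ[A] b) ∈ Q
      rw [Algebra.TensorProduct.map_tmul, Ideal.Quotient.mkₐ_eq_mk, Ideal.Quotient.eq_zero_iff_mem.2 hb, TensorProduct.tmul_zero]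
      exact Q.zero_mem
  obtain ⟨r, hr, hrt, hrQ, hrass⟩ := exists_assoc_le (R := A') N' t' Q₀ hsupp
  haveI := hr
  haveI := hrt
  obtain ⟨w, hw⟩ := (fiberIdeal_mem_associatedPrimes_iff t' N' r).1 hrass
  have hJr : ∀ b ∈ J, algebraMap B B' b ∈ r := fun b hb => hw.2 _ (by
    have hN' : ∀ n : N', algebraMap B B' b • n = 0 := fun n => by
      rw [algebraMap_smul]
      induction n using TensorProduct.induction_on with
      | zero => exact smul_zero _
      | add u v hu hv => rw [smul_add, hu, hv, add_zero]
      | tmul c n => rw [← TensorProduct.tmul_smul, Module.mem_annihilator.1 hb n, TensorProduct.tmul_zero]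
    clear hw
    induction w using TensorProduct.induction_on with
    | zero => exact smul_zero _
    | add u v hu hv => rw [smul_add, hu, hv, add_zero]
    | tmul n c => rw [TensorProduct.smul_tmul', hN', TensorProduct.zero_tmul])
  have hker : RingHom.ker ψ.toRingHom ≤ r := by
    show RingHom.ker (Algebra.TensorProduct.map (AlgHom.id A A') (Ideal.Quotient.mkₐ A J)) ≤ r
    rw [Algebra.TensorProduct.lTensor_ker _ (Ideal.Quotient.mkₐ_surjective A J)]
    refine Ideal.map_le_iff_le_comap.2 fun b hb => ?_
    exact hJr b (Ideal.Quotient.eq_zero_iff_mem.1 hb)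
  obtain ⟨P', hP', hrP, hP't⟩ : ∃ P' : Ideal B', P'.IsPrime ∧ r ≤ P' ∧ P'.LiesOver t := by
    by_contra hc
    push Not at hc
    exact hpure p A' B' N' (TensorProduct.mk B B' N 1) t' t r hA
      ⟨Algebra.IsPushout.symm inferInstance, TensorProduct.isBaseChange B N B', hle, hA.2.choose, hrt, hrass, fun P hP h => hc P hP h⟩
  haveI := hP'
  haveI := hP't
  haveI : (r.map ψ.toRingHom).IsPrime := Ideal.map_isPrime_of_surjective hψ hker
  have hrQ' : r.map ψ.toRingHom = Q := by
    refine Algebra.QuasiFinite.eq_of_le_of_under_eq (R := A') _ _ ?_ ?_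
    · rw [← Ideal.map_comap_of_surjective ψ.toRingHom hψ Q]
      exact Ideal.map_mono hrQ
    · show (r.map ψ.toRingHom).comap (algebraMap A' _) = Q.under A'
      rw [← hQt.over, ← ψ.comp_algebraMap, ← Ideal.comap_comap]
      show ((r.map ψ.toRingHom).comap ψ.toRingHom).comap _ = _
      rw [Ideal.comap_map_of_surjective ψ.toRingHom hψ, sup_eq_left.2 (show Ideal.comap ψ.toRingHom ⊥ ≤ r from hker)]
      exact hrt.over.symm
  have hkerP : RingHom.ker ψ.toRingHom ≤ P' := hker.trans hrP
  refine ⟨P'.map ψ.toRingHom, Ideal.map_isPrime_of_surjective hψ hkerP, hrQ' ▸ Ideal.map_mono hrP, ⟨?_⟩⟩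
  show t = (P'.map ψ.toRingHom).comap (algebraMap A' _)
  rw [← ψ.comp_algebraMap, ← Ideal.comap_comap]
  show t = ((P'.map ψ.toRingHom).comap ψ.toRingHom).comap _
  rw [Ideal.comap_map_of_surjective ψ.toRingHom hψ, sup_eq_left.2 (show Ideal.comap ψ.toRingHom ⊥ ≤ P' from hkerP)]
  exact hP't.over

/-- Ring form, X = Spec B affine hence separated over Spec A: let B be a finite type A-algebra and N a
finite B-module such that for every prime p of A the fibre module of N over p has finite support.
Then the following are equivalent: N is pure relative to Spec A; the scheme-theoretic support of N,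
namely B modulo the annihilator of N, is finite over A; N is universally pure relative to Spec A. -/
theorem result {A B : Type u} [CommRing A] [CommRing B] [Algebra A B] [Algebra.FiniteType A B]
    (N : Type u) [AddCommGroup N] [Module B N] [Module A N] [IsScalarTower A B N] [Module.Finite B N]
    (hfin : ∀ (p : Ideal A) [p.IsPrime], (Module.support (p.Fiber B) (FlatCA.fiberMod p B N)).Finite) :
    [FlatCA.IsPure A B N, Module.Finite A (B ⧸ Module.annihilator B N), FlatCA.IsUnivPure A B N].TFAE := by
  tfae_have 1 → 2 := finite_support_of_isPure N hfin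
  tfae_have 2 → 3 := fun h => Groth.Agent.S1224.result N
  tfae_have 3 → 1 := fun h p _ A' B' N' _ _ _ _ _ _ _ _ _ _ _ _ _ _ f t' t _ _ P _ _ => h p A' B' N' f t' t P
  tfae_finish

end Groth.Agent.S1222
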