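import Groth.Statements.S12221
import Groth.Agent.Lib.NFlatFormalH7.Points

set_option autoImplicit false
universe u
open CategoryTheory AlgebraicGeometry Opposite
open Algz

namespace Groth.Agent.S12221

/-- Let A be a Noetherian ring, I ⊆ 𝔞 ideals, U the complement of V(𝔞) in Spec A and (F_n) an object of
Coh(U, IO_U), indexed here from 0. Assume that for some Noetherian local ring R with maximal ideal 𝔪
and some ring map φ : R → A we have (1) I = 𝔪A, (2) for every point y of U lying in V(I) the
completed stalk F_y^∧ is flat as an R-module (through R → A → O_{U,y} → O_{U,y}^∧), and (3) the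
cohomology groups H^0(U, F_0), H^1(U, F_0) are finitely generated over A. Then (F_n) has a canonical
extension to Spec A. -/
theorem result (A : Type u) [CommRing A] [IsNoetherianRing A] (I 𝔞 : Ideal A) (hI𝔞 : I ≤ 𝔞)
    (G : ℕᵒᵖ ⥤ (↑(LocCoh.puncturedOpen A 𝔞) : Scheme.{u}).Modules) (hG : Formal.IsCohFormal I G)
    (R : Type u) [CommRing R] [IsNoetherianRing R] [IsLocalRing R] (φ : R →+* A)
    (h1 : I = Ideal.map φ (IsLocalRing.maximalIdeal R))
    (h2 : ∀ (y : (↑(LocCoh.puncturedOpen A 𝔞) : Scheme.{u})), (LocCoh.puncturedOpen A 𝔞).ι.base y ∈ PrimeSpectrum.zeroLocus (R := A) I →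
      letI : Module R ↥(Algz.hatStalk I G y) := Module.compHom ↥(Algz.hatStalk I G y)
        ((algebraMap ((↑(LocCoh.puncturedOpen A 𝔞) : Scheme.{u}).presheaf.stalk y) (Algz.hatRing I y)).comp ((Algz.toStalk A (↑(LocCoh.puncturedOpen A 𝔞) : Scheme.{u}) y).comp φ));
      Module.Flat R ↥(Algz.hatStalk I G y))
    (h3 : Module.Finite A (Coh.HH (↑(LocCoh.puncturedOpen A 𝔞) : Scheme.{u}) (G.obj (op 0)) 0) ∧ Module.Finite A (Coh.HH (↑(LocCoh.puncturedOpen A 𝔞) : Scheme.{u}) (G.obj (op 0)) 1)) :
    Algz.CanonicallyExtends A I (LocCoh.puncturedOpen A 𝔞) G := by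
  open Groth.Agent.NFlatFormalH7 Groth.Agent.GExistH7 in
  subst h1
  obtain ⟨h30, h31⟩ := h3
  classical
  refine canonicallyExtends_of_stalks (isSys_of_isCohFormal hG) (fun n => ?_) h30 h31
  obtain ⟨r, a₀, ha₀, hmin⟩ :=
    exists_minimal_generators (IsLocalRing.maximalIdeal R ^ (n + 1)) (IsNoetherian.noetherian _)
  refine ⟨r, fun j => φ (a₀ j), fun i j => if i = j then 1 else 0, fun j => ?_, fun j => ?_, fun y hy => ?_⟩
  · rw [← Ideal.map_pow]
    exact Ideal.mem_map_of_mem φ (ha₀ ▸ Ideal.subset_span (Set.mem_range_self j))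
  · simp
  · let θ := (Algz.toStalk A _ y).comp φ
    letI : Algebra R _ := θ.toAlgebra
    have hk : ∀ k : ℕ, Algz.stalkIdeal ((IsLocalRing.maximalIdeal R).map φ) y ^ k =
        (IsLocalRing.maximalIdeal R ^ k).map θ := fun k => by
      rw [Algz.stalkIdeal, Ideal.map_map, Ideal.map_pow]
    refine ⟨?_, fun i Z hZ => ?_⟩
    · rw [hk, ← ha₀, Ideal.map_span, ← Set.range_comp]
      exact le_rfl
    · letI : Module R ↥(stFam G y) := Module.compHom _ θ
      haveI : IsScalarTower R ((↑(LocCoh.puncturedOpen A 𝔞) : Scheme.{u}).presheaf.stalk y) ↥(stFam G y) := IsScalarTower.of_algebraMap_smul fun c x => rfl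
      haveI : Module.Flat R ↥(stFam G y) := by
        obtain ⟨e⟩ := nonempty_hatStalk_equiv (isSys_of_isCohFormal hG) y
        have hflat := h2 y hy
        letI : Module R ↥(Algz.hatStalk ((IsLocalRing.maximalIdeal R).map φ) G y) :=
          Module.compHom _ ((algebraMap _ (Algz.hatRing ((IsLocalRing.maximalIdeal R).map φ) y)).comp θ)
        haveI : Module.Flat R ↥(Algz.hatStalk ((IsLocalRing.maximalIdeal R).map φ) G y) := hflat
        exact Module.Flat.of_linearEquiv
          (show ↥(stFam G y) ≃ₗ[R] ↥(Algz.hatStalk ((IsLocalRing.maximalIdeal R).map φ) G y) from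
            { e.toAddEquiv with
              map_smul' := fun c x => (map_smul e (θ c) x).trans (algebraMap_smul (Algz.hatRing ((IsLocalRing.maximalIdeal R).map φ) y) (θ c) (e x)).symm })
      have hZ' : ∑ j, a₀ j • Z j ∈ IsLocalRing.maximalIdeal R ^ (n + 1 + 1) • (⊤ : Submodule R ↥(stFam G y)) := by
        refine (mem_map_smul_top_iff (R := R) (S := (↑(LocCoh.puncturedOpen A 𝔞) : Scheme.{u}).presheaf.stalk y) (M := ↥(stFam G y)) _ _).1 ?_
        rw [hk] at hZ
        exact hZ
      have hq := sum_smul_mem_of_flat (IsLocalRing.maximalIdeal R) (n + 1) a₀ (fun j => if i = j then 1 else 0)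
        (fun c hc => by
          have h := hmin c (by rwa [← pow_succ']) i
          simpa using h)
        (IsNoetherian.noetherian _) Z hZ'
      have hq' := (mem_map_smul_top_iff (R := R) (S := (↑(LocCoh.puncturedOpen A 𝔞) : Scheme.{u}).presheaf.stalk y) (M := ↥(stFam G y)) _ _).2 hq
      rw [← pow_one (Algz.stalkIdeal _ y), hk, pow_one]
      simp [apply_ite θ] at hq' ⊢
      exact hq'

end Groth.Agent.S12221
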