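import Groth.Statements.S12223
import Groth.Agent.Lib.BigSite16.Zar

set_option autoImplicit false
open CategoryTheory CategoryTheory.Limits AlgebraicGeometry Opposite
universe u
open BigSite

namespace Groth.Agent.S12223
set_option linter.style.haveILetI false
set_option backward.isDefEq.respectTransparency false
set_option backward.isDefEq.respectTransparency.types false


/-- For a scheme X and an abelian sheaf F on the big Zariski site of X, the cohomology groups of the
restriction of F to the small Zariski site X_Zar agree with the cohomology groups of F on the big
site, in every degree p. Existence of an additive isomorphism only (the canonical comparison map is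
not named here). The continuity of the inclusion of the small Zariski site into the big site is
carried as an instance hypothesis; it always holds. -/
theorem result (X : Scheme.{u}) [BigSite.ZarCont Scheme.zariskiPrecoverage X]
    (F : BigSite.Ab Scheme.zariskiPrecoverage X) (p : ℕ) :
    Nonempty (EtZar.H ((BigSite.resZar Scheme.zariskiPrecoverage X).obj F) p ≃+
      BigSite.H Scheme.zariskiPrecoverage X F p) := by
  exact Groth.Agent.BigSite16.nonempty_H_resZar_equiv X F p

end Groth.Agent.S12223
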