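import Groth.Statements.S12224
import Groth.Agent.Lib.ModGen6.Constr

set_option autoImplicit false
universe u
open CategoryTheory CategoryTheory.Limits AlgebraicGeometry Opposite
attribute [local instance] HasDerivedCategory.standard
open EtModD

namespace Groth.Agent.S12224

/-- Let Λ be a Noetherian ring and j : U → X an étale morphism of schemes which is quasi-compact and
quasi-separated. If M is an object of D(U_et, Λ) with constructible cohomology sheaves, then j_!M
has constructible cohomology sheaves; here j_! on derived categories is induced by the exact functor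
extension by zero on sheaves of Λ-modules (its left exactness is carried as an instance hypothesis,
as is the continuity of V ↦ (V → U → X) on small étale sites; both always hold). -/
theorem result (Λ : Type (u + 1)) [CommRing Λ] [IsNoetherianRing Λ]
    {U X : Scheme.{u}} (j : U ⟶ X) [Etale j] [QuasiCompact j] [QuasiSeparated j] [EtShriek.JCont j]
    [PreservesFiniteLimits (EtSix.extZeroMod Λ j)] (M : EtModD.D Λ U)
    (hM : ∀ i : ℤ, EtModW.IsConstructible Λ (EtModD.HD M i)) (i : ℤ) :
    EtModW.IsConstructible Λ (EtModD.HD ((EtSix.extZeroMod Λ j).mapDerivedCategory.obj M) i) := by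
  let L := DerivedCategory.Q.objPreimage M
  let e : DerivedCategory.Q.obj L ≅ M := DerivedCategory.Q.objObjPreimageIso M
  let F := EtSix.extZeroMod Λ j
  let H := DerivedCategory.homologyFunctor (EtModW.Mod Λ X) i
  let H' := DerivedCategory.homologyFunctor (EtModW.Mod Λ U) i
  refine Groth.Agent.EtModEps19.isConstructible_of_iso ?_
    (Groth.Agent.ModGen6.isConstructible_extZero j _ (hM i))
  let η := DerivedCategory.homologyFunctorFactors (EtModW.Mod Λ X) i
  let η' := DerivedCategory.homologyFunctorFactors (EtModW.Mod Λ U) i
  haveI : F.PreservesHomology := inferInstance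
  let c : ((F.mapHomologicalComplex (ComplexShape.up ℤ)).obj L).homology i ≅ F.obj (L.homology i) :=
    (L.sc i).mapHomologyIso F
  exact F.mapIso ((H'.mapIso e).symm ≪≫ η'.app L) ≪≫ c.symm ≪≫ (η.app _).symm ≪≫
    H.mapIso ((F.mapDerivedCategoryFactors.app L).symm ≪≫ F.mapDerivedCategory.mapIso e)

end Groth.Agent.S12224
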