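import Groth.Statements.S3464
import Groth.Agent.Lib.SetsGabber24.ProperBC

set_option autoImplicit false
universe u
open CategoryTheory CategoryTheory.Limits AlgebraicGeometry Opposite
open EtBC

namespace Groth.Agent.S3464

/-- Let X' = X ×_S S' be a cartesian square of schemes with f : X → S proper, projections f' : X' → S'
and g' : X' → X over g : S' → S, and let F be a sheaf of sets on the small etale site of X. Then the
base change morphism g^* f_* F → f'_* g'^* F is an isomorphism. -/
theorem result {X S X' S' : Scheme.{u}} (f : X ⟶ S) (g : S' ⟶ S)
    (f' : X' ⟶ S') (g' : X' ⟶ X) (h : IsPullback g' f' f g) [IsProper f] (F : EtDesc.Sh X) :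
    IsIso (EtBC.baseChange0Sh f g f' g' h.w F) := by
  exact Groth.Agent.ProperSets24.isIso_baseChange0_proper f F g f' g' h

end Groth.Agent.S3464
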