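import Groth.Statements.S12226
import Groth.Agent.S6039
import Groth.Agent.Lib.ParaF27.Res
-- import your own Groth.Agent.* helpers here

set_option autoImplicit false
universe u
open CategoryTheory CategoryTheory.Limits AlgebraicGeometry TopologicalSpace
open LocCoh

namespace Groth.Agent.S12226

/-- Let j : U → X be the inclusion of an open subscheme of a Noetherian scheme X and F a coherent
O_X-module such that F' = j_*(F|_U) is coherent. Then (a) for every point x of X outside U the stalk
F'_x has depth at least 2 over O_{X,x}, and (b) F → F' is the unique map with these properties: for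
every coherent O_X-module G and every map φ : F → G whose restriction to U is an isomorphism and
such that depth(G_x) ≥ 2 for all x outside U, there is exactly one map ψ : G → F' whose composite
with φ is the canonical map F → j_*(F|_U), and this ψ is an isomorphism. (The compatibility of this
construction with flat base change is not part of this statement.) -/
theorem result (X : Scheme.{u}) [IsNoetherian X] (U : X.Opens)
    (F : X.Modules) (hF : Coh.IsCoh F) (hF' : Coh.IsCoh ((Coh.push U.ι).obj (F.restrict U.ι))) :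
    (∀ x : ↥X, x ∉ U → (2 : ℕ∞) ≤ LocCoh.depth (X.presheaf.stalk x)
        (((Coh.push U.ι).obj (F.restrict U.ι)).presheaf.stalk x)) ∧
    ∀ (G : X.Modules) (hG : Coh.IsCoh G) (φ : F ⟶ G),
      IsIso ((Scheme.Modules.restrictFunctor U.ι).map φ) →
      (∀ x : ↥X, x ∉ U → (2 : ℕ∞) ≤ LocCoh.depth (X.presheaf.stalk x) (G.presheaf.stalk x)) →
        (∃! ψ : G ⟶ (Coh.push U.ι).obj (F.restrict U.ι),
            φ ≫ ψ = (Scheme.Modules.restrictAdjunction U.ι).unit.app F) ∧
          ∀ ψ : G ⟶ (Coh.push U.ι).obj (F.restrict U.ι),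
            φ ≫ ψ = (Scheme.Modules.restrictAdjunction U.ι).unit.app F → IsIso ψ := by
  open Groth.Agent in
  let R := Scheme.Modules.restrictFunctor U.ι
  let adj := Scheme.Modules.restrictAdjunction U.ι
  let P := (Coh.push U.ι).obj (F.restrict U.ι)
  refine ⟨(S6039.result X U _ hF').2 fun V => ?_, fun G hG φ hφ hd => ?_⟩
  · have h' : U.ι ⁻¹ᵁ V ≤ U.ι ⁻¹ᵁ (V ⊓ U) := fun x hx => ⟨hx, x.2⟩
    let h : U.ι ⁻¹ᵁ (V ⊓ U) ≤ U.ι ⁻¹ᵁ V := fun x hx => hx.1
    show Function.Bijective (M1.mres (F.restrict U.ι) h)
    exact Function.bijective_iff_has_inverse.2 ⟨M1.mres _ h', fun s => by rw [M1.mres_mres, M1.mres_id],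
      fun s => by rw [M1.mres_mres, M1.mres_id]⟩
  haveI : IsIso (adj.unit.app G) := ParaF27.isIso_unit_of_resBij U.ι fun W => by
    rw [Scheme.Opens.opensRange_ι]
    exact (S6039.result X U G hG).1 hd W
  haveI : IsIso (R.map φ) := hφ
  let ψ₀ : G ⟶ P := adj.unit.app G ≫ (Scheme.Modules.pushforward U.ι).map (inv (R.map φ))
  have hψ₀ : φ ≫ ψ₀ = adj.unit.app F := by
    show φ ≫ adj.unit.app G ≫ _ = _
    rw [← Category.assoc, show φ ≫ adj.unit.app G = adj.unit.app F ≫ (Scheme.Modules.pushforward U.ι).map (R.map φ)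
      from adj.unit.naturality φ, Category.assoc, ← Functor.map_comp, IsIso.hom_inv_id]
    exact (congrArg (adj.unit.app F ≫ ·) (CategoryTheory.Functor.map_id _ _)).trans (Category.comp_id _)
  have huniq : ∀ ψ : G ⟶ P, φ ≫ ψ = adj.unit.app F → ψ = ψ₀ := fun ψ hψ => by
    apply (adj.homEquiv G (F.restrict U.ι)).symm.injective
    rw [← cancel_epi (R.map φ), ← Adjunction.homEquiv_naturality_left_symm, ← Adjunction.homEquiv_naturality_left_symm]
    exact congrArg _ (hψ.trans hψ₀.symm)
  refine ⟨⟨ψ₀, hψ₀, huniq⟩, fun ψ hψ => ?_⟩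
  rw [huniq ψ hψ]
  infer_instance


end Groth.Agent.S12226
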