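import Groth.Statements.S12227
import Groth.Agent.Lib.Roofs8.Basic

set_option autoImplicit false
universe w v u
open CategoryTheory CategoryTheory.Limits
open CohDer

namespace Groth.Agent.S12227

open CategoryTheory CategoryTheory.Limits Groth.Agent.Roofs8


/-- Full faithfulness of K⁻(A)[Qis⁻¹] → D⁻(A), written in terms of roofs. Let A be an abelian category
and K, L complexes which are zero above some degree, viewed in the homotopy category. Then every
morphism Qh(K) → Qh(L) in the derived category is Qh(s)⁻¹ ≫ Qh(f) for some quasi-isomorphism s : K'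
→ K and map f : K' → L of K(A) with K' again zero above some degree; and two maps f₁, f₂ : K → L of
K(A) become equal in D(A) only if s ≫ f₁ = s ≫ f₂ for some quasi-isomorphism s : K' → K with K' zero
above some degree. (That the kernel of K⁻(A) → D(A) consists of the acyclic complexes and that the
essential image is D⁻(A) are separate statements.) -/
theorem result {A : Type u} [Category.{v} A] [Abelian A] [HasDerivedCategory.{w} A]
    (K L : HomotopyCategory A (ComplexShape.up ℤ)) (a b : ℤ) [CochainComplex.IsStrictlyLE K.as a] [CochainComplex.IsStrictlyLE L.as b] :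
    (∀ φ : DerivedCategory.Qh.obj K ⟶ DerivedCategory.Qh.obj L,
      ∃ (K' : HomotopyCategory A (ComplexShape.up ℤ)) (n : ℤ) (_ : CochainComplex.IsStrictlyLE K'.as n) (s : K' ⟶ K) (f : K' ⟶ L),
        HomotopyCategory.quasiIso A (ComplexShape.up ℤ) s ∧ DerivedCategory.Qh.map s ≫ φ = DerivedCategory.Qh.map f) ∧
    (∀ f₁ f₂ : K ⟶ L, DerivedCategory.Qh.map f₁ = DerivedCategory.Qh.map f₂ →
      ∃ (K' : HomotopyCategory A (ComplexShape.up ℤ)) (n : ℤ) (_ : CochainComplex.IsStrictlyLE K'.as n) (s : K' ⟶ K),
        HomotopyCategory.quasiIso A (ComplexShape.up ℤ) s ∧ s ≫ f₁ = s ≫ f₂) := by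
  obtain ⟨K, rfl⟩ := HomotopyCategory.quotient_obj_surjective K
  obtain ⟨L, rfl⟩ := HomotopyCategory.quotient_obj_surjective L
  haveI : CochainComplex.IsStrictlyLE K a := ‹CochainComplex.IsStrictlyLE ((HomotopyCategory.quotient A (ComplexShape.up ℤ)).obj K).as a›
  constructor
  · intro φ
    obtain ⟨K', hK', s, hs, f, hf⟩ :=
      DerivedCategory.right_fac_of_isStrictlyLE (show DerivedCategory.Q.obj K ⟶ DerivedCategory.Q.obj L from φ) a
    haveI : _root_.QuasiIso s := (DerivedCategory.isIso_Q_map_iff_quasiIso (φ := s)).mp hs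
    refine ⟨(HomotopyCategory.quotient A (ComplexShape.up ℤ)).obj K', a, hK',
      (HomotopyCategory.quotient A (ComplexShape.up ℤ)).map s,
      (HomotopyCategory.quotient A (ComplexShape.up ℤ)).map f, quasiIso_quotient_map s, ?_⟩
    show DerivedCategory.Q.map s ≫ _ = DerivedCategory.Q.map f
    refine (congrArg (DerivedCategory.Q.map s ≫ ·) hf).trans ?_
    exact IsIso.hom_inv_id_assoc _ _
  · intro f₁ f₂ h
    obtain ⟨f₁, rfl⟩ := (HomotopyCategory.quotient A (ComplexShape.up ℤ)).map_surjective f₁
    obtain ⟨f₂, rfl⟩ := (HomotopyCategory.quotient A (ComplexShape.up ℤ)).map_surjective f₂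
    obtain ⟨K', hK', s, hs, e⟩ := exists_precomp a f₁ f₂ h
    exact ⟨(HomotopyCategory.quotient A (ComplexShape.up ℤ)).obj K', a, hK',
      (HomotopyCategory.quotient A (ComplexShape.up ℤ)).map s, quasiIso_quotient_map s, e⟩


end Groth.Agent.S12227
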