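import Groth.Statements.S12228
import Groth.Agent.Lib.Roofs8.Basic

set_option autoImplicit false
universe w v u
open CategoryTheory CategoryTheory.Limits
open CohDer

namespace Groth.Agent.S12228

open CategoryTheory CategoryTheory.Limits Groth.Agent.Roofs8


/-- Full faithfulness of Kᵇ(A)[Qis⁻¹] → Dᵇ(A), written in terms of roofs. Let A be an abelian category
and K, L bounded complexes (zero outside a finite range of degrees), viewed in the homotopy
category. Then every morphism Qh(K) → Qh(L) in the derived category is Qh(f) ≫ Qh(t)⁻¹ for some map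
f : K → L' and quasi-isomorphism t : L → L' of K(A) with L' again bounded; and two maps f₁, f₂ : K →
L of K(A) become equal in D(A) only if f₁ ≫ t = f₂ ≫ t for some quasi-isomorphism t : L → L' with L'
bounded. -/
theorem result {A : Type u} [Category.{v} A] [Abelian A] [HasDerivedCategory.{w} A]
    (K L : HomotopyCategory A (ComplexShape.up ℤ)) (a b a' b' : ℤ) [CochainComplex.IsStrictlyGE K.as a] [CochainComplex.IsStrictlyLE K.as b]
    [CochainComplex.IsStrictlyGE L.as a'] [CochainComplex.IsStrictlyLE L.as b'] :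
    (∀ φ : DerivedCategory.Qh.obj K ⟶ DerivedCategory.Qh.obj L,
      ∃ (L' : HomotopyCategory A (ComplexShape.up ℤ)) (m n : ℤ) (_ : CochainComplex.IsStrictlyGE L'.as m) (_ : CochainComplex.IsStrictlyLE L'.as n) (f : K ⟶ L') (t : L ⟶ L'),
        HomotopyCategory.quasiIso A (ComplexShape.up ℤ) t ∧ φ ≫ DerivedCategory.Qh.map t = DerivedCategory.Qh.map f) ∧
    (∀ f₁ f₂ : K ⟶ L, DerivedCategory.Qh.map f₁ = DerivedCategory.Qh.map f₂ →
      ∃ (L' : HomotopyCategory A (ComplexShape.up ℤ)) (m n : ℤ) (_ : CochainComplex.IsStrictlyGE L'.as m) (_ : CochainComplex.IsStrictlyLE L'.as n) (t : L ⟶ L'),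
        HomotopyCategory.quasiIso A (ComplexShape.up ℤ) t ∧ f₁ ≫ t = f₂ ≫ t) := by
  obtain ⟨K, rfl⟩ := HomotopyCategory.quotient_obj_surjective K
  obtain ⟨L, rfl⟩ := HomotopyCategory.quotient_obj_surjective L
  haveI : CochainComplex.IsStrictlyLE K b := ‹CochainComplex.IsStrictlyLE ((HomotopyCategory.quotient A (ComplexShape.up ℤ)).obj K).as b›
  haveI : CochainComplex.IsStrictlyGE L a' := ‹CochainComplex.IsStrictlyGE ((HomotopyCategory.quotient A (ComplexShape.up ℤ)).obj L).as a'›
  haveI : CochainComplex.IsStrictlyLE L b' := ‹CochainComplex.IsStrictlyLE ((HomotopyCategory.quotient A (ComplexShape.up ℤ)).obj L).as b'›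
  constructor
  · intro φ
    haveI : CochainComplex.IsStrictlyLE K (max b b') := CochainComplex.isStrictlyLE_of_le K b _ (le_max_left _ _)
    haveI : CochainComplex.IsStrictlyLE L (max b b') := CochainComplex.isStrictlyLE_of_le L b' _ (le_max_right _ _)
    obtain ⟨L', hg, hl, f, t, ht, hf⟩ :=
      DerivedCategory.left_fac_of_isStrictlyLE_of_isStrictlyGE a' (max b b')
        (show DerivedCategory.Q.obj K ⟶ DerivedCategory.Q.obj L from φ)
    haveI : _root_.QuasiIso t := (DerivedCategory.isIso_Q_map_iff_quasiIso (φ := t)).mp ht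
    refine ⟨(HomotopyCategory.quotient A (ComplexShape.up ℤ)).obj L', a', max b b', hg, hl,
      (HomotopyCategory.quotient A (ComplexShape.up ℤ)).map f,
      (HomotopyCategory.quotient A (ComplexShape.up ℤ)).map t, quasiIso_quotient_map t, ?_⟩
    show _ ≫ DerivedCategory.Q.map t = DerivedCategory.Q.map f
    refine (congrArg (· ≫ DerivedCategory.Q.map t) hf).trans ?_
    simp
  · intro f₁ f₂ h
    obtain ⟨f₁, rfl⟩ := (HomotopyCategory.quotient A (ComplexShape.up ℤ)).map_surjective f₁
    obtain ⟨f₂, rfl⟩ := (HomotopyCategory.quotient A (ComplexShape.up ℤ)).map_surjective f₂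
    obtain ⟨L', hg, hl, t, ht, e⟩ := exists_postcomp b a' b' f₁ f₂ h
    exact ⟨(HomotopyCategory.quotient A (ComplexShape.up ℤ)).obj L', a', max b b', hg, hl,
      (HomotopyCategory.quotient A (ComplexShape.up ℤ)).map t, quasiIso_quotient_map t, e⟩


end Groth.Agent.S12228
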