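import Groth.Statements.S1223
import Groth.Agent.Lib.Dev4.GeomIntProjective
import Mathlib.RingTheory.Ideal.GoingDown
import Mathlib.RingTheory.Flat.Stability

set_option autoImplicit false
universe u
open FlatMor

set_option backward.isDefEq.respectTransparency.types false

open TensorProduct
set_option backward.isDefEq.respectTransparency.types false
attribute [local instance] Algebra.TensorProduct.rightAlgebra
namespace Groth.Agent.S1223



open AlgebraicGeometry CategoryTheory in
theorem geomIntegralFibres_baseChange {A B A' B' : Type u} [CommRing A] [CommRing B] [CommRing A'] [CommRing B']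
    [Algebra A B] [Algebra A A'] [Algebra B B'] [Algebra A' B'] [Algebra A B'] [IsScalarTower A B B']
    [IsScalarTower A A' B'] [Algebra.IsPushout A A' B B'] (h : FlatCA.GeomIntegralFibres A B) :
    FlatCA.GeomIntegralFibres A' B' :=
  MorphismProperty.of_isPullback (P := @GeometricallyIntegral)
    (isPullback_SpecMap_of_isPushout _ _ _ _ (CommRingCat.isPushout_of_isPushout A A' B B').flip) h

/-- Ring form, X = Spec B affine: a finite type, flat A-algebra B with geometrically integral fibres is
universally pure relative to Spec A. -/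
theorem result {A B : Type u} [CommRing A] [CommRing B] [Algebra A B] [Algebra.FiniteType A B] [Module.Flat A B]
    (h : FlatCA.GeomIntegralFibres A B) : FlatCA.IsUnivPure A B B := by
  intro p _ A' B' N' _ _ _ _ _ _ _ _ _ _ _ _ _ _ f t' t _ _ P _ himp
  obtain ⟨hpo, hbc, htt, htp, hP, hass, hno⟩ := himp
  haveI := hpo.symm
  let e := Algebra.IsPushout.equiv A A' B B'
  haveI : Algebra.FiniteType A' B' := Algebra.FiniteType.of_surjective e.toAlgHom e.surjective
  haveI : Module.Flat A' B' := Module.Flat.of_linearEquiv e.symm.toLinearEquiv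
  have hgi : FlatCA.GeomIntegralFibres A' B' := geomIntegralFibres_baseChange h
  haveI : IsDomain (t'.Fiber B') := Dev4.isDomain_baseChange hgi t'.ResidueField
  haveI : IsDomain (t.Fiber B') := Dev4.isDomain_baseChange hgi t.ResidueField
  let i' := (Algebra.TensorProduct.includeRight (R := A') (A := t'.ResidueField) (B := B')).toRingHom
  let i := (Algebra.TensorProduct.includeRight (R := A') (A := t.ResidueField) (B := B')).toRingHom
  -- `P` is the generic point of its fibre
  have hbot : FlatCA.fiberIdeal t' P = ⊥ := by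
    letI := i'.toAlgebra
    let eN : N' ≃ₗ[B'] B' := hbc.equiv.symm.trans (TensorProduct.AlgebraTensorModule.rid B B' B')
    let eW : (t'.Fiber B') ⊗[B'] N' ≃ₗ[t'.Fiber B'] t'.Fiber B' :=
      (LinearEquiv.baseChange B' (t'.Fiber B') _ _ eN).trans (TensorProduct.AlgebraTensorModule.rid B' (t'.Fiber B') (t'.Fiber B'))
    obtain ⟨hprime, y, hy⟩ := hass
    rw [eq_bot_iff]
    intro a ha
    rw [hy] at ha
    obtain ⟨k, hk⟩ := ha
    let y' : (t'.Fiber B') ⊗[B'] N' := y
    have hk' : a ^ k • y' = 0 := (Submodule.mem_bot _).1 (Submodule.mem_colon_singleton.1 hk)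
    have hy0 : eW y' ≠ 0 := fun h0 => hprime.ne_top (by
      rw [hy, Ideal.eq_top_iff_one]
      refine Ideal.le_radical (Submodule.mem_colon_singleton.2 ((Submodule.mem_bot _).2 ?_))
      have hz : y' = 0 := eW.injective (h0.trans (map_zero eW).symm)
      exact (one_smul _ y).trans hz)
    have h1 := congrArg eW hk'
    rw [map_zero, map_smul, smul_eq_mul] at h1
    exact (Submodule.mem_bot _).2 (eq_zero_of_pow_eq_zero ((mul_eq_zero.1 h1).resolve_right hy0))
  -- a point of the fibre over `t`
  let Q := (⊥ : Ideal (t.Fiber B')).comap i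
  haveI : (⊥ : Ideal (t.Fiber B')).IsPrime := Ideal.isPrime_bot
  have hover : ∀ (s : Ideal A') [s.IsPrime] (J : Ideal (s.Fiber B')), J.IsPrime →
      (J.comap (Algebra.TensorProduct.includeRight (R := A') (A := s.ResidueField) (B := B')).toRingHom).LiesOver s :=
    fun s _ J hJ => ⟨Ideal.ext fun c => ⟨fun hc => by
      show (Algebra.TensorProduct.includeRight (R := A') (A := s.ResidueField) (B := B')) (algebraMap A' B' c) ∈ J
      rw [AlgHom.commutes, IsScalarTower.algebraMap_apply A' s.ResidueField,
        Ideal.algebraMap_residueField_eq_zero.2 hc, map_zero]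
      exact zero_mem _, fun hc => by
      by_contra hcs
      change (Algebra.TensorProduct.includeRight (R := A') (A := s.ResidueField) (B := B')) (algebraMap A' B' c) ∈ J at hc
      rw [AlgHom.commutes, IsScalarTower.algebraMap_apply A' s.ResidueField] at hc
      exact hJ.ne_top (Ideal.eq_top_of_isUnit_mem _ hc
        ((isUnit_iff_ne_zero.2 fun h0 => hcs (Ideal.algebraMap_residueField_eq_zero.1 h0)).map _))⟩⟩
  haveI : Q.LiesOver t := hover t ⊥ inferInstance
  obtain ⟨Q₁, hQle, hQ₁, hQ₁t⟩ := Ideal.exists_ideal_le_liesOver_of_le (p := t') (q := t) Q htt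
  refine hno Q (le_trans (fun x hx => ?_) hQle) inferInstance
  have h2 : i' x = 0 := by
    have hm : i' x ∈ FlatCA.fiberIdeal t' P := Ideal.mem_map_of_mem i' hx
    rwa [hbot] at hm
  let π : t'.ResidueField →ₐ[A'] Q₁.ResidueField :=
    Ideal.ResidueField.mapₐ t' Q₁ (Algebra.ofId A' B') hQ₁t.over
  have h3 := congrArg (Algebra.TensorProduct.lift π (IsScalarTower.toAlgHom A' B' Q₁.ResidueField)
    fun _ _ => Commute.all _ _) h2
  change Algebra.TensorProduct.lift π _ _ ((1 : t'.ResidueField) ⊗ₜ[A'] x) = _ at h3
  rw [Algebra.TensorProduct.lift_tmul, map_zero, map_one, one_mul] at h3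
  exact Ideal.algebraMap_residueField_eq_zero.1 h3

end Groth.Agent.S1223
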