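import Groth.Statements.S12230
import Groth.Agent.Lib.FC16.Factor

set_option autoImplicit false
universe v u
open CategoryTheory
open FibCat

namespace Groth.Agent.S12230
open CategoryTheory.Functor Groth.Agent.FC16
set_option linter.style.haveILetI false
set_option backward.isDefEq.respectTransparency false
set_option backward.isDefEq.respectTransparency.types false


/-- Let C be a category and F : 𝒳 → 𝒴 a 1-morphism of fibred categories over C. Then there are a fibred
category 𝒳' over C and 1-morphisms of fibred categories u : 𝒳 → 𝒳', v : 𝒳' → 𝒴, w : 𝒳' → 𝒳 over C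
with F = v ∘ u such that u is fully faithful with w as its left adjoint, and v : 𝒳' → 𝒴 makes 𝒳' a
fibred category over 𝒴. (Stated for 𝒳, 𝒴 whose morphisms live in the universe of the morphisms of C
and whose objects live one universe level up, the size of categories of C-data; the adjunction w ⊣ u
is of the underlying functors.) -/
theorem result {C : Type u} [Category.{v} C]
    {𝒳 𝒴 : BasedCategory.{v, max u v} C} [𝒳.p.IsFibered] [𝒴.p.IsFibered]
    (F : 𝒳 ⥤ᵇ 𝒴) (hF : FibCat.PreservesStronglyCartesian F) :
    ∃ (𝒳' : BasedCategory.{v, max u v} C) (u : 𝒳 ⥤ᵇ 𝒳') (v : 𝒳' ⥤ᵇ 𝒴) (w : 𝒳' ⥤ᵇ 𝒳),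
      𝒳'.p.IsFibered ∧ FibCat.PreservesStronglyCartesian u ∧ FibCat.PreservesStronglyCartesian v ∧
        FibCat.PreservesStronglyCartesian w ∧ BasedFunctor.comp u v = F ∧
        u.toFunctor.Full ∧ u.toFunctor.Faithful ∧ Nonempty (w.toFunctor ⊣ u.toFunctor) ∧
        v.toFunctor.IsFibered := by
  refine ⟨FactCat F, factU F, factV F, factW F, fact_isFibered hF, ?_, ?_, ?_, rfl,
    (factU_fullyFaithful F).1, (factU_fullyFaithful F).2, ⟨factAdj F⟩, factV_isFibered hF⟩
  · intro R S f a b φ hφ
    exact @fact_cart _ _ _ _ _ hF _ _ ((factU F).map φ) _ _ f hφ (hF f φ hφ)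
  · exact fun R S f a b φ hφ => (fact_components hF φ f hφ).2
  · exact fun R S f a b φ hφ => (fact_components hF φ f hφ).1

end Groth.Agent.S12230
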