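import Groth.Statements.S12231
import Groth.Agent.Lib.Dev4.SuppDim
import Groth.Agent.Lib.Dev4.BaseChange

set_option autoImplicit false
universe u
open TensorProduct
open FlatMor

set_option backward.isDefEq.respectTransparency.types false

namespace Groth.Agent.S12231


open TensorProduct AlgebraicGeometry CategoryTheory

attribute [local instance] Algebra.TensorProduct.rightAlgebra


/-- All schemes are affine here, as in the ambient rendering of a one-step dévissage. Let R → S be a
ring map of finite type, N a finite S-module, p a prime of R and (C, D, G, n) a one-step dévissage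
of N/S/R over p — C a finitely presented quotient of S with a finite C-module G identified with N
over S, D an R-algebra smooth of relative dimension n with geometrically irreducible fibres and a
finite map D → C over R, n the dimension of the support of the fibre module of N over p. Let R → R'
be a ring map, p' a prime of R' over p, and let S', C', D' be the base changes of S, C, D to R'
(pushout squares, with the R'-algebra maps S' → C' ← D' induced from S → C ← D) and N' = N ⊗_S S',
G' = G ⊗_C C' (base-change maps f, g). Then (C', D', G', n) is a one-step dévissage of N'/S'/R' over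
p'. -/
theorem result
    (R S : Type u) [CommRing R] [CommRing S] [Algebra R S] [Algebra.FiniteType R S]
    (N : Type u) [AddCommGroup N] [Module S N] [Module R N] [IsScalarTower R S N] [Module.Finite S N]
    (p : Ideal R) [p.IsPrime]
    (C D G : Type u) [CommRing C] [CommRing D] [Algebra S C] [Algebra R C] [IsScalarTower R S C]
    [Algebra R D] [Algebra D C] [IsScalarTower R D C] [AddCommGroup G] [Module C G] [Module S G]
    [IsScalarTower S C G] (n : ℕ)
    (h : FlatCA.IsOneStepDevissage R S N p C D G n)
    (R' : Type u) [CommRing R'] [Algebra R R'] (p' : Ideal R') [p'.IsPrime] [p'.LiesOver p]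
    (S' C' D' : Type u) [CommRing S'] [CommRing C'] [CommRing D']
    [Algebra R' S'] [Algebra R S'] [Algebra S S'] [IsScalarTower R R' S'] [IsScalarTower R S S']
    [Algebra.IsPushout R R' S S']
    [Algebra R' C'] [Algebra R C'] [Algebra C C'] [IsScalarTower R R' C'] [IsScalarTower R C C']
    [Algebra.IsPushout R R' C C']
    [Algebra R' D'] [Algebra R D'] [Algebra D D'] [IsScalarTower R R' D'] [IsScalarTower R D D']
    [Algebra.IsPushout R R' D D']
    [Algebra S' C'] [IsScalarTower R' S' C'] [Algebra S C'] [IsScalarTower S S' C'] [IsScalarTower S C C']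
    [Algebra D' C'] [IsScalarTower R' D' C'] [Algebra D C'] [IsScalarTower D D' C'] [IsScalarTower D C C']
    (N' : Type u) [AddCommGroup N'] [Module S' N'] [Module R' N'] [IsScalarTower R' S' N']
    [Module S N'] [IsScalarTower S S' N'] (f : N →ₗ[S] N') (hf : IsBaseChange S' f)
    (G' : Type u) [AddCommGroup G'] [Module C' G'] [Module S' G'] [IsScalarTower S' C' G']
    [Module C G'] [IsScalarTower C C' G'] (g : G →ₗ[C] G') (hg : IsBaseChange C' g) :
    FlatCA.IsOneStepDevissage R' S' N' p' C' D' G' n := by
  obtain ⟨⟨e⟩, hsurj, hfp, hfin, hG, hsm, hgi, hdim⟩ := h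
  haveI hR1 : IsScalarTower R S C' := IsScalarTower.of_algebraMap_eq fun r => by
    rw [IsScalarTower.algebraMap_apply S C, ← IsScalarTower.algebraMap_apply R S C, ← IsScalarTower.algebraMap_apply]
  haveI hR2 : IsScalarTower R S' C' := IsScalarTower.of_algebraMap_eq fun r => by
    rw [IsScalarTower.algebraMap_apply R R' S', ← IsScalarTower.algebraMap_apply R' S', ← IsScalarTower.algebraMap_apply]
  haveI hR3 : IsScalarTower R D C' := IsScalarTower.of_algebraMap_eq fun r => by
    rw [IsScalarTower.algebraMap_apply D C, ← IsScalarTower.algebraMap_apply R D C, ← IsScalarTower.algebraMap_apply]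
  haveI hR4 : IsScalarTower R D' C' := IsScalarTower.of_algebraMap_eq fun r => by
    rw [IsScalarTower.algebraMap_apply R R' D', ← IsScalarTower.algebraMap_apply R' D', ← IsScalarTower.algebraMap_apply]
  haveI hpS : Algebra.IsPushout S S' C C' := by
    haveI : Algebra.IsPushout R S R' S' := .symm inferInstance
    haveI hC : Algebra.IsPushout R C R' C' := .symm inferInstance
    exact ((Algebra.IsPushout.comp_iff R S R' S').1 hC).symm
  haveI hpD : Algebra.IsPushout D D' C C' := by
    haveI : Algebra.IsPushout R D R' D' := .symm inferInstance
    haveI hC : Algebra.IsPushout R C R' C' := .symm inferInstance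
    exact ((Algebra.IsPushout.comp_iff R D R' D').1 hC).symm
  refine ⟨?_, ?_, ?_, ?_, ?_, Dev4.smoothRelDim_bc (R := R) (B := D) hsm, ?_, ?_⟩
  · letI : Module S G' := Module.compHom _ (algebraMap S C)
    haveI : IsScalarTower S C G' := IsScalarTower.of_algebraMap_smul fun _ _ => rfl
    haveI : IsScalarTower S S' G' := IsScalarTower.of_algebraMap_smul fun s x => by
      show algebraMap S S' s • x = algebraMap S C s • x
      rw [← algebraMap_smul C' (algebraMap S S' s) x, ← algebraMap_smul C' (algebraMap S C s) x,
        ← IsScalarTower.algebraMap_apply, ← IsScalarTower.algebraMap_apply]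
    have hg' := Dev4.isBaseChange_comp_equiv e (g.restrictScalars S) (Dev4.isBaseChange_restrict (B := S) (B' := S') g hg)
    exact ⟨hf.equiv.symm.trans hg'.equiv⟩
  · intro x
    induction x using Dev4.pushout_induction S S' C C' with
    | h0 => exact ⟨0, map_zero _⟩
    | hmk r c =>
      obtain ⟨s, rfl⟩ := hsurj c
      exact ⟨r * algebraMap S S' s, by
        rw [map_mul, ← IsScalarTower.algebraMap_apply S S' C', IsScalarTower.algebraMap_apply S C C']⟩
    | hadd a b ha hb =>
      obtain ⟨a, rfl⟩ := ha; obtain ⟨b, rfl⟩ := hb
      exact ⟨a + b, map_add _ _ _⟩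
  · haveI := hfp
    exact Algebra.FinitePresentation.equiv (Algebra.IsPushout.equiv S S' C C')
  · haveI := hfin
    exact Module.Finite.equiv (Algebra.IsPushout.equiv D D' C C').toLinearEquiv
  · haveI := hG
    exact Module.Finite.equiv hg.equiv
  · exact MorphismProperty.of_isPullback (P := @GeometricallyIrreducible)
      (isPullback_SpecMap_of_isPushout _ _ _ _ (CommRingCat.isPushout_of_isPushout R R' D D').flip) hgi
  · exact (Dev4.supportDim_fiberMod_bc (p := p) (p' := p') f hf).trans hdim

end Groth.Agent.S12231
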