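import Groth.Statements.S12232
import Groth.Agent.Lib.KInj.DerivedAdj
import Mathlib.CategoryTheory.Generator.Preadditive

set_option autoImplicit false
universe w w' v u
open CategoryTheory CategoryTheory.Limits
open CohDer

namespace Groth.Agent.S12232


/-- Let C be a Grothendieck abelian category, U a generator, R = End(U)ᵒᵖ, G = Hom(U, −) : C → Mod_R and
F : Mod_R → C its left adjoint, which is exact and makes G fully faithful (Gabriel–Popescu). Then on
derived categories F : D(Mod_R) → D(C) (induced by the exact functor F) is left adjoint to the total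
right derived functor RG : D(C) → D(Mod_R), RG is fully faithful, and F ∘ RG ≅ id. Existence of the
adjunction and of the isomorphism is asserted (the derived unit/counit are not named); the existence
of RG and the exactness and additivity of F are carried as instance hypotheses, all of which hold. -/
theorem result {C : Type u} [Category.{v} C] [Abelian C]
    [IsGrothendieckAbelian.{v} C] [HasDerivedCategory.{w} C] (U : C) (hU : IsSeparator U)
    [HasDerivedCategory.{w'} (ModuleCat.{v} (End U)ᵐᵒᵖ)]
    [(IsGrothendieckAbelian.tensorObj U).Additive] [PreservesFiniteLimits (IsGrothendieckAbelian.tensorObj U)]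
    [PreservesFiniteColimits (IsGrothendieckAbelian.tensorObj U)]
    [((preadditiveCoyonedaObj U).mapHomotopyCategory (ComplexShape.up ℤ) ⋙ DerivedCategory.Qh).HasRightDerivedFunctor
      (HomotopyCategory.quasiIso C (ComplexShape.up ℤ))] :
    let RG := ((preadditiveCoyonedaObj U).mapHomotopyCategory (ComplexShape.up ℤ) ⋙ DerivedCategory.Qh).totalRightDerived
      DerivedCategory.Qh (HomotopyCategory.quasiIso C (ComplexShape.up ℤ))
    let LF := (IsGrothendieckAbelian.tensorObj U).mapDerivedCategory
    Nonempty (LF ⊣ RG) ∧ RG.Full ∧ RG.Faithful ∧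
      Nonempty (RG ⋙ LF ≅ 𝟭 (DerivedCategory C)) := by
---
  intro RG LF
  have h : KInjLib.EnoughKInj C := KInjLib.enoughKInj_of_grothendieck
  let Fh := (preadditiveCoyonedaObj U).mapHomotopyCategory (ComplexShape.up ℤ) ⋙ DerivedCategory.Qh
  let u : Fh ⟶ DerivedCategory.Qh ⋙ RG :=
    Fh.totalRightDerivedUnit DerivedCategory.Qh (HomotopyCategory.quasiIso C (ComplexShape.up ℤ))
  haveI : RG.IsRightDerivedFunctor u (HomotopyCategory.quasiIso C (ComplexShape.up ℤ)) := inferInstanceAs
    ((Fh.totalRightDerived DerivedCategory.Qh (HomotopyCategory.quasiIso C (ComplexShape.up ℤ))).IsRightDerivedFunctor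
      (Fh.totalRightDerivedUnit DerivedCategory.Qh (HomotopyCategory.quasiIso C (ComplexShape.up ℤ)))
      (HomotopyCategory.quasiIso C (ComplexShape.up ℤ)))
  have hu : ∀ X, KInjLib.kInjObj C X → IsIso (u.app X) := KInjLib.isIso_unit_of_kInjObj h u
  haveI := IsGrothendieckAbelian.GabrielPopescu.full U hU
  haveI : (preadditiveCoyonedaObj U).Faithful := (isSeparator_iff_faithful_preadditiveCoyonedaObj U).1 hU
  let adj := KInjLib.derivedAdj (W := HomotopyCategory.quasiIso C (ComplexShape.up ℤ))
    (HomotopyCategory.quasiIso _ (ComplexShape.up ℤ))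
    (KInjLib.adjHomotopy (IsGrothendieckAbelian.tensorObjPreadditiveCoyonedaObjAdjunction U) _)
    LF (IsGrothendieckAbelian.tensorObj U).mapDerivedCategoryFactorsh u
    (KInjLib.derivingClass_Qh h) hu
  haveI : IsIso adj.counit := KInjLib.derivedAdj_isIso_counit _ _ _ _ _ _ hu fun X _ => by
    have := KInjLib.isIso_adjHomotopy_counit
      (IsGrothendieckAbelian.tensorObjPreadditiveCoyonedaObjAdjunction U) (ComplexShape.up ℤ) X
    infer_instance
  exact ⟨⟨adj⟩, adj.fullyFaithfulROfIsIsoCounit.full, adj.fullyFaithfulROfIsIsoCounit.faithful,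
    ⟨asIso adj.counit⟩⟩


end Groth.Agent.S12232
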