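import Groth.Statements.S12233
import Groth.Agent.Lib.FlatH4.LocCrit
import Groth.Agent.Lib.FlatSyz.Kernel

set_option autoImplicit false
universe u
open scoped TensorProduct
open CAlg

namespace Groth.Agent.S12233
open scoped TensorProduct

open TensorProduct in
/-- Tensor with a localization map: every element has a denominator. -/
theorem exists_rTensor {R' P : Type u} [CommRing R'] [CommRing P] [Algebra R' P] (W : Submonoid P)
    {N M' : Type u} [AddCommGroup N] [AddCommGroup M'] [Module R' N] [Module P N] [IsScalarTower R' P N]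
    [Module R' M'] [Module P M'] [IsScalarTower R' P M'] (ι : N →ₗ[P] M') [IsLocalizedModule W ι]
    (X : Type u) [AddCommGroup X] [Module R' X] (y : X ⊗[R'] M') :
    ∃ (w : W) (x : X ⊗[R'] N),
      (((w : P) • LinearMap.id : M' →ₗ[P] M').restrictScalars R').lTensor X y = (ι.restrictScalars R').lTensor X x := by
  induction y with
  | zero => exact ⟨1, 0, by rw [map_zero, map_zero]⟩
  | tmul a m =>
    obtain ⟨⟨n, w⟩, h⟩ := IsLocalizedModule.surj W ι m
    exact ⟨w, a ⊗ₜ n, congrArg (a ⊗ₜ[R'] ·) h⟩
  | add a b ha hb =>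
    obtain ⟨w, x, hx⟩ := ha
    obtain ⟨w', x', hx'⟩ := hb
    have comm : ∀ (v : P) (z : X ⊗[R'] N),
        (((v • LinearMap.id : M' →ₗ[P] M')).restrictScalars R').lTensor X ((ι.restrictScalars R').lTensor X z) =
          (ι.restrictScalars R').lTensor X (((v • LinearMap.id : N →ₗ[P] N).restrictScalars R').lTensor X z) := by
      intro v z
      rw [← LinearMap.lTensor_comp_apply, ← LinearMap.lTensor_comp_apply]
      exact LinearMap.congr_fun (congrArg _ (LinearMap.ext fun n => (ι.map_smul v n).symm)) z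
    have mult : ∀ (v v' : P) (z : X ⊗[R'] M'),
        (((v * v') • LinearMap.id : M' →ₗ[P] M').restrictScalars R').lTensor X z =
          ((v • LinearMap.id : M' →ₗ[P] M').restrictScalars R').lTensor X
            (((v' • LinearMap.id : M' →ₗ[P] M').restrictScalars R').lTensor X z) := by
      intro v v' z
      rw [← LinearMap.lTensor_comp_apply]
      exact LinearMap.congr_fun (congrArg _ (LinearMap.ext fun n => mul_smul v v' n)) z
    refine ⟨w * w', ((((w' : P) • LinearMap.id : N →ₗ[P] N)).restrictScalars R').lTensor X x +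
      ((((w : P) • LinearMap.id : N →ₗ[P] N)).restrictScalars R').lTensor X x', ?_⟩
    rw [map_add, map_add, Submonoid.coe_mul, mult _ _ b, hx', comm, mul_comm, mult _ _ a, hx, comm]

open TensorProduct in
theorem exists_of_mkQ_range {R M N : Type u} [CommRing R] [AddCommGroup M] [Module R M] [AddCommGroup N] [Module R N]
    (Q : Type u) [AddCommGroup Q] [Module R Q] (c : M →ₗ[R] N) (v : Q ⊗[R] N)
    (h : (LinearMap.range c).mkQ.lTensor Q v = 0) : ∃ s, c.lTensor Q s = v :=
  ((_root_.lTensor_exact Q (LinearMap.exact_map_mkQ_range c) (Submodule.mkQ_surjective _)) v).1 h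

open TensorProduct in
/-- Injectivity of a tensored map passes to the localization, up to the image. -/
theorem loc_injective {R' P : Type u} [CommRing R'] [CommRing P] [Algebra R' P] (W : Submonoid P)
    {N M' : Type u} [AddCommGroup N] [AddCommGroup M'] [Module R' N] [Module P N] [IsScalarTower R' P N]
    [Module R' M'] [Module P M'] [IsScalarTower R' P M'] (ι : N →ₗ[P] M') [IsLocalizedModule W ι]
    {X Y : Type u} [AddCommGroup X] [Module R' X] [AddCommGroup Y] [Module R' Y] (f : X →ₗ[R'] Y)
    (h : ∀ x : X ⊗[R'] N, f.rTensor N x = 0 → (ι.restrictScalars R').lTensor X x = 0) :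
    Function.Injective (f.rTensor M') := by
  have hbij : ∀ w : W, Function.Bijective (((w : P) • LinearMap.id : M' →ₗ[P] M').restrictScalars R') := fun w =>
    ((Module.End.isUnit_iff _).1 (IsLocalizedModule.map_units ι w) :)
  have hW : ∀ (Z : Type u) [AddCommGroup Z] [Module R' Z] (w : W),
      Function.Injective ((((w : P) • LinearMap.id : M' →ₗ[P] M').restrictScalars R').lTensor Z) := fun Z _ _ w =>
    ((LinearEquiv.ofBijective _ (hbij w)).lTensor Z).injective
  have hmove : ∀ (g : M' →ₗ[R'] M') (z : X ⊗[R'] M'), f.rTensor M' (g.lTensor X z) = g.lTensor Y (f.rTensor M' z) := by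
    intro g z
    rw [← LinearMap.comp_apply, LinearMap.rTensor_comp_lTensor, ← LinearMap.lTensor_comp_rTensor, LinearMap.comp_apply]
  have hι : ∀ x : X ⊗[R'] N, f.rTensor M' ((ι.restrictScalars R').lTensor X x) =
      (ι.restrictScalars R').lTensor Y (f.rTensor N x) := by
    intro x
    rw [← LinearMap.comp_apply, LinearMap.rTensor_comp_lTensor, ← LinearMap.lTensor_comp_rTensor, LinearMap.comp_apply]
  rw [injective_iff_map_eq_zero]
  intro y hy
  obtain ⟨w, x, hx⟩ := exists_rTensor W ι X y
  let c : (N ⊗[R'] Y) →ₗ[P] M' ⊗[R'] Y := TensorProduct.AlgebraTensorModule.rTensor R' Y ι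
  haveI : IsLocalizedModule W c := inferInstance
  have h0 : c ((TensorProduct.comm R' Y N) (f.rTensor N x)) = 0 := by
    have : (ι.restrictScalars R').lTensor Y (f.rTensor N x) = 0 := by
      rw [← hι, ← hx, hmove, hy, map_zero]
    have h2 : ∀ z : Y ⊗[R'] N, c (TensorProduct.comm R' Y N z) =
        TensorProduct.comm R' Y M' ((ι.restrictScalars R').lTensor Y z) := fun z => by
      induction z with
      | zero => simp only [map_zero]
      | tmul a b => rfl
      | add a b ha hb => simp only [map_add, ha, hb]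
    rw [h2, this, map_zero]
  obtain ⟨v, hv⟩ := (IsLocalizedModule.eq_zero_iff W c).1 h0
  have hvP : ∀ (Z : Type u) [AddCommGroup Z] [Module R' Z] (z : Z ⊗[R'] N),
      TensorProduct.comm R' Z N ((((v : P) • LinearMap.id : N →ₗ[P] N).restrictScalars R').lTensor Z z) =
        (v : P) • TensorProduct.comm R' Z N z := fun Z _ _ z => by
    induction z with
    | zero => simp only [map_zero, smul_zero]
    | tmul a b => rfl
    | add a b ha hb => simp only [map_add, smul_add, ha, hb]
  let x' := (((v : P) • LinearMap.id : N →ₗ[P] N).restrictScalars R').lTensor X x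
  have hx' : f.rTensor N x' = 0 := by
    apply (TensorProduct.comm R' Y N).injective
    show TensorProduct.comm R' Y N (f.rTensor N (LinearMap.lTensor X _ x)) = _
    rw [← LinearMap.comp_apply (f.rTensor N), LinearMap.rTensor_comp_lTensor, ← LinearMap.lTensor_comp_rTensor,
      LinearMap.comp_apply, hvP, map_zero]
    exact hv
  have h3 := h x' hx'
  rw [← LinearMap.lTensor_comp_apply] at h3
  apply hW X w
  apply hW X v
  rw [map_zero, map_zero, hx, ← h3, ← LinearMap.lTensor_comp_apply]
  exact LinearMap.congr_fun (congrArg _ (LinearMap.ext fun n => (ι.map_smul (v : P) n).symm)) x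

set_option maxHeartbeats 400000 in
open TensorProduct in
/-- The kernel of the extended multiplication map comes from the kernel over the base. -/
theorem core {R R' : Type u} [CommRing R] [CommRing R'] [Algebra R R'] (I : Ideal R)
    (M : Type u) [AddCommGroup M] [Module R M] (hflat : Module.Flat (R ⧸ I) ((R ⧸ I) ⊗[R] M))
    {V : Type u} [AddCommGroup V] [Module R' V]
    (G : ↥(I.map (algebraMap R R')) ⊗[R'] (R' ⊗[R] M) →ₗ[R'] V)
    (hG : ∀ x : ↥I ⊗[R] M, I.subtype.rTensor M x = 0 →
      ∀ (Φ : ↥I ⊗[R] M →ₗ[R] ↥(I.map (algebraMap R R')) ⊗[R'] (R' ⊗[R] M)),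
        (∀ (a : I) (m : M), Φ (a ⊗ₜ m) = (Algebra.idealMap R' I a) ⊗ₜ[R'] ((1 : R') ⊗ₜ m)) → G (Φ x) = 0) :
    ∀ x, (I.map (algebraMap R R')).subtype.rTensor (R' ⊗[R] M) x = 0 → G x = 0 := by
  let I' := I.map (algebraMap R R')
  obtain ⟨F, _, _, _, q, hq⟩ : ∃ (F : Type u) (_ : AddCommGroup F) (_ : Module R F) (_ : Module.Flat R F)
      (q : F →ₗ[R] M), Function.Surjective q :=
    ⟨M →₀ R, inferInstance, inferInstance, inferInstance, Finsupp.linearCombination R id,
      Finsupp.linearCombination_id_surjective R M⟩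
  let L := LinearMap.ker q
  have hex : Function.Exact L.subtype q := LinearMap.exact_subtype_ker_map q
  -- the maps `R' ⊗ (I ⊗ Z) → I' ⊗ (R' ⊗ Z)`
  let Φ : ∀ (Z : Type u) [AddCommGroup Z] [Module R Z], ↥I ⊗[R] Z →ₗ[R] ↥I' ⊗[R'] (R' ⊗[R] Z) := fun Z _ _ =>
    TensorProduct.mapOfCompatibleSMul R' R R ↥I' (R' ⊗[R] Z) ∘ₗ
      TensorProduct.map (Algebra.idealMap R' I) (TensorProduct.mk R R' Z 1)
  let Ψ : ∀ (Z : Type u) [AddCommGroup Z] [Module R Z], R' ⊗[R] (↥I ⊗[R] Z) →ₗ[R'] ↥I' ⊗[R'] (R' ⊗[R] Z) :=
    fun Z _ _ => (Φ Z).liftBaseChange R'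
  let μ : ∀ (Z : Type u) [AddCommGroup Z] [Module R Z], ↥I ⊗[R] Z →ₗ[R] Z := fun Z _ _ =>
    (TensorProduct.lid R Z).toLinearMap ∘ₗ I.subtype.rTensor Z
  have hμΨ : ∀ (Z : Type u) [AddCommGroup Z] [Module R Z] (u : R' ⊗[R] (↥I ⊗[R] Z)),
      TensorProduct.lid R' (R' ⊗[R] Z) (I'.subtype.rTensor _ (Ψ Z u)) = (μ Z).baseChange R' u := by
    intro Z _ _ u
    induction u with
    | zero => simp only [map_zero]
    | add a b ha hb => simp only [map_add, ha, hb]
    | tmul r t =>
      induction t with
      | zero => simp only [tmul_zero, map_zero]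
      | add a b ha hb => simp only [tmul_add, map_add, ha, hb]
      | tmul a z =>
        simp only [Ψ, Φ, μ, LinearMap.liftBaseChange_tmul, LinearMap.comp_apply, TensorProduct.map_tmul,
          TensorProduct.mapOfCompatibleSMul_tmul, TensorProduct.mk_apply, map_smul, LinearMap.rTensor_tmul,
          LinearMap.baseChange_tmul, LinearEquiv.coe_coe, TensorProduct.lid_tmul, Submodule.subtype_apply]
        show r • (algebraMap R R' (a : R) • (1 : R') ⊗ₜ[R] z) = r ⊗ₜ[R] ((a : R) • z)
        rw [tmul_smul, algebraMap_smul, smul_comm, smul_tmul', smul_eq_mul, mul_one]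
  have hΨsurj : Function.Surjective (Ψ M) := by
    intro y
    induction y with
    | zero => exact ⟨0, map_zero _⟩
    | add a b ha hb =>
      obtain ⟨a, rfl⟩ := ha
      obtain ⟨b, rfl⟩ := hb
      exact ⟨a + b, map_add _ _ _⟩
    | tmul i n =>
      obtain ⟨i, hi⟩ := i
      suffices h : ∃ hi' : i ∈ I', ∀ n, ∃ u, Ψ M u = (⟨i, hi'⟩ : I') ⊗ₜ[R'] n from h.2 n
      induction hi using Submodule.span_induction with
      | mem z hz =>
        obtain ⟨a, ha, rfl⟩ := hz
        refine ⟨Ideal.mem_map_of_mem _ ha, fun n => ?_⟩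
        induction n with
        | zero => exact ⟨0, by rw [map_zero, tmul_zero]⟩
        | add p q hp hq =>
          obtain ⟨p', hp'⟩ := hp
          obtain ⟨q', hq'⟩ := hq
          exact ⟨p' + q', by rw [map_add, hp', hq', tmul_add]⟩
        | tmul r m =>
          refine ⟨r ⊗ₜ ((⟨a, ha⟩ : I) ⊗ₜ m), (LinearMap.liftBaseChange_tmul R' (Φ M) r _).trans ?_⟩
          show r • ((Algebra.idealMap R' I ⟨a, ha⟩) ⊗ₜ[R'] ((1 : R') ⊗ₜ[R] m)) = _
          rw [← tmul_smul, smul_tmul', smul_eq_mul, mul_one]
          rfl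
      | zero => exact ⟨zero_mem _, fun n => ⟨0, by rw [map_zero]; exact (zero_tmul _ _).symm⟩⟩
      | add a b _ _ ha hb =>
        obtain ⟨ha1, ha2⟩ := ha
        obtain ⟨hb1, hb2⟩ := hb
        refine ⟨add_mem ha1 hb1, fun n => ?_⟩
        obtain ⟨p, hp⟩ := ha2 n
        obtain ⟨q, hq⟩ := hb2 n
        exact ⟨p + q, by rw [map_add, hp, hq, ← add_tmul]; rfl⟩
      | smul c a _ ha =>
        obtain ⟨ha1, ha2⟩ := ha
        refine ⟨Submodule.smul_mem _ c ha1, fun n => ?_⟩
        obtain ⟨p, hp⟩ := ha2 n
        exact ⟨c • p, by rw [map_smul, hp, smul_tmul']; rfl⟩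
  intro x hx
  obtain ⟨x, rfl⟩ := hΨsurj x
  have hx0 : (μ M).baseChange R' x = 0 := by rw [← hμΨ, hx, map_zero]
  obtain ⟨u, rfl⟩ := LinearMap.lTensor_surjective R' (LinearMap.lTensor_surjective I hq) x
  have hnat : ∀ t, q (μ F t) = μ M (q.lTensor I t) := by
    intro t
    induction t with
    | zero => simp only [map_zero]
    | add a b ha hb => simp only [map_add, ha, hb]
    | tmul a z => simp [μ]
  have hexR := _root_.lTensor_exact R' (LinearMap.exact_subtype_ker_map q) hq
  obtain ⟨v, hv⟩ := (hexR ((μ F).lTensor R' u)).1 (by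
    rw [← LinearMap.lTensor_comp_apply, show q ∘ₗ μ F = μ M ∘ₗ q.lTensor I from LinearMap.ext hnat,
      LinearMap.lTensor_comp_apply]
    exact hx0)
  let Pm : Submodule R (↥I ⊗[R] F) := Submodule.comap (μ F) L
  let c : Pm →ₗ[R] L := (μ F ∘ₗ Pm.subtype).codRestrict L fun t => t.2
  -- `L / range c` embeds in `F / I F` with cokernel `M / I M`
  have hexc := exists_of_mkQ_range (M := ↥Pm) R' c v
  let X := L ⧸ LinearMap.range c
  let Y := F ⧸ (I • ⊤ : Submodule R F)
  have hμ : LinearMap.range (μ F) = I • ⊤ := by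
    refine le_antisymm ?_ (Submodule.smul_le.2 fun a ha z _ => ⟨⟨a, ha⟩ ⊗ₜ z, by simp [μ]⟩)
    rintro _ ⟨t, rfl⟩
    induction t with
    | zero => rw [map_zero]; exact zero_mem _
    | add a b ha hb => rw [map_add]; exact add_mem ha hb
    | tmul a z => simpa [μ] using Submodule.smul_mem_smul a.2 Submodule.mem_top
  let ι : X →ₗ[R] Y := (LinearMap.range c).mapQ (I • ⊤ : Submodule R F) L.subtype (by
    rintro _ ⟨t, rfl⟩
    show μ F t.1 ∈ (I • ⊤ : Submodule R F)
    rw [← hμ]; exact LinearMap.mem_range_self _ _)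
  have hιinj : Function.Injective ι := by
    rw [injective_iff_map_eq_zero]
    intro z hz
    obtain ⟨l, rfl⟩ := Submodule.mkQ_surjective _ z
    have : l.1 ∈ LinearMap.range (μ F) := by
      rw [hμ]; exact (Submodule.Quotient.mk_eq_zero _).1 hz
    obtain ⟨t, ht⟩ := this
    exact (Submodule.Quotient.mk_eq_zero _).2 ⟨⟨t, by show μ F t ∈ L; rw [ht]; exact l.2⟩, Subtype.ext ht⟩
  let qb : Y →ₗ[R] M ⧸ (I • ⊤ : Submodule R M) := (I • ⊤ : Submodule R F).mapQ _ q (by
    rw [← Submodule.map_le_iff_le_comap, Submodule.map_smul'']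
    exact Submodule.smul_mono le_rfl le_top)
  have hY : Module.IsTorsionBySet R Y I := Module.isTorsionBySet_quotient_ideal_smul F I
  have hX : Module.IsTorsionBySet R X I := fun z r => hιinj (by rw [map_smul, map_zero]; exact @hY (ι z) r)
  have hZ : Module.IsTorsionBySet R (M ⧸ (I • ⊤ : Submodule R M)) I := Module.isTorsionBySet_quotient_ideal_smul M I
  letI := hX.module
  letI := hY.module
  letI := hZ.module
  haveI : IsScalarTower R (R ⧸ I) X := hX.isScalarTower
  haveI : IsScalarTower R (R ⧸ I) Y := hY.isScalarTower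
  haveI : IsScalarTower R (R ⧸ I) (M ⧸ (I • ⊤ : Submodule R M)) := hZ.isScalarTower
  haveI : Module.Flat (R ⧸ I) (M ⧸ (I • ⊤ : Submodule R M)) := Module.Flat.of_linearEquiv
    ((TensorProduct.quotTensorEquivQuotSMul M I).extendScalarsOfSurjective Ideal.Quotient.mk_surjective).symm
  let ιB : X →ₗ[R ⧸ I] Y := ι.extendScalarsOfSurjective Ideal.Quotient.mk_surjective
  let qB : Y →ₗ[R ⧸ I] M ⧸ (I • ⊤ : Submodule R M) := qb.extendScalarsOfSurjective Ideal.Quotient.mk_surjective
  have hexB : Function.Exact ιB qB := by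
    intro y
    obtain ⟨z, rfl⟩ := Submodule.mkQ_surjective _ y
    constructor
    · intro hz
      have h1 : q z ∈ (I • ⊤ : Submodule R M) := (Submodule.Quotient.mk_eq_zero _).1 hz
      have h2 : q z ∈ Submodule.map q (I • ⊤ : Submodule R F) := by
        rwa [Submodule.map_smul'', Submodule.map_top, LinearMap.range_eq_top.2 hq]
      obtain ⟨d, hd, hdz⟩ := h2
      refine ⟨Submodule.mkQ _ (⟨z - d, by rw [LinearMap.mem_ker, map_sub, hdz, sub_self]⟩ : L), ?_⟩
      show (Submodule.Quotient.mk (z - d) : Y) = Submodule.Quotient.mk z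
      rw [Submodule.Quotient.eq]
      simpa using hd
    · rintro ⟨x, hx⟩
      obtain ⟨l, rfl⟩ := Submodule.mkQ_surjective _ x
      rw [← hx]
      show (Submodule.Quotient.mk (q l.1) : M ⧸ (I • ⊤ : Submodule R M)) = 0
      rw [LinearMap.mem_ker.1 l.2]; rfl
  have hqB : Function.Surjective qB := fun z => by
    obtain ⟨m, rfl⟩ := Submodule.mkQ_surjective _ z
    obtain ⟨f, rfl⟩ := hq m
    exact ⟨Submodule.mkQ _ f, rfl⟩
  have hinjB : Function.Injective (ιB.rTensor ((R ⧸ I) ⊗[R] R')) :=
    (LinearMap.lTensor_inj_iff_rTensor_inj _ _).1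
      (Groth.Agent.FlatSyz.lTensor_subtype_injective_of_flat_quotient ιB hιinj qB hexB hqB _)
  let e := AlgebraTensorModule.cancelBaseChange R (R ⧸ I) (R ⧸ I) X R'
  let e' := AlgebraTensorModule.cancelBaseChange R (R ⧸ I) (R ⧸ I) Y R'
  have key : ∀ z, ι.rTensor R' z = e' (ιB.rTensor _ (e.symm z)) := by
    intro z
    induction z with
    | zero => simp
    | tmul n m => simp [e, e', ιB]
    | add a b ha hb => simp [map_add, ha, hb]
  have hιR : Function.Injective (ι.lTensor R') := by
    rw [LinearMap.lTensor_inj_iff_rTensor_inj]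
    intro a b hab
    rw [key, key] at hab
    exact e.symm.injective (hinjB (e'.injective hab))
  have hv0 : (LinearMap.range c).mkQ.lTensor R' v = 0 := hιR (by
    rw [map_zero, ← LinearMap.lTensor_comp_apply,
      show ι ∘ₗ (LinearMap.range c).mkQ = (I • ⊤ : Submodule R F).mkQ ∘ₗ L.subtype from rfl,
      LinearMap.lTensor_comp_apply, hv, ← LinearMap.lTensor_comp_apply,
      show (I • ⊤ : Submodule R F).mkQ ∘ₗ μ F = 0 from LinearMap.ext fun t =>
        (Submodule.Quotient.mk_eq_zero _).2 (by rw [← hμ]; exact LinearMap.mem_range_self _ _),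
      LinearMap.lTensor_zero, LinearMap.zero_apply])
  obtain ⟨s, hs⟩ := hexc hv0
  -- the difference is killed by multiplication into a flat module
  have h1 : (μ F).baseChange R' (u - Pm.subtype.lTensor R' s) = 0 := by
    show (μ F).lTensor R' (u - Pm.subtype.lTensor R' s) = 0
    have hc : L.subtype ∘ₗ c = μ F ∘ₗ Pm.subtype := LinearMap.subtype_comp_codRestrict _ _ _
    rw [map_sub, ← hv, ← hs, ← LinearMap.lTensor_comp_apply, ← LinearMap.lTensor_comp_apply, hc, sub_self]
  have h2 : Ψ F (u - Pm.subtype.lTensor R' s) = 0 := by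
    haveI : Module.Flat R' (R' ⊗[R] F) := inferInstance
    have hinjF : Function.Injective (I'.subtype.rTensor (R' ⊗[R] F)) :=
      Module.Flat.rTensor_preserves_injective_linearMap I'.subtype I'.injective_subtype
    apply hinjF
    apply (TensorProduct.lid R' (R' ⊗[R] F)).injective
    exact ((hμΨ F _).trans h1).trans ((congrArg _ (map_zero _)).trans (map_zero _)).symm
  have hΨnat : ∀ t, (q.baseChange R').lTensor I' (Ψ F t) = Ψ M ((q.lTensor I).lTensor R' t) := by
    intro t
    induction t with
    | zero => simp only [map_zero]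
    | add a b ha hb => simp only [map_add, ha, hb]
    | tmul r t =>
      induction t with
      | zero => simp only [tmul_zero, map_zero]
      | add a b ha hb => simp only [tmul_add, map_add, ha, hb]
      | tmul a z => simp [Ψ, Φ]
  rw [← hΨnat, show u = (u - Pm.subtype.lTensor R' s) + Pm.subtype.lTensor R' s from (sub_add_cancel _ _).symm,
    map_add, h2, zero_add, hΨnat]
  clear hs h1 h2
  induction s with
  | zero => simp only [map_zero]
  | add a b ha hb => simp only [map_add, ha, hb, add_zero]
  | tmul r t =>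
    rw [LinearMap.lTensor_tmul, LinearMap.lTensor_tmul]
    show G (r • Φ M (q.lTensor I t.1)) = 0
    rw [map_smul, hG _ ?_ (Φ M) (fun a m => rfl), smul_zero]
    apply (TensorProduct.lid R M).injective
    rw [map_zero]
    exact (hnat t.1).symm.trans (LinearMap.mem_ker.1 t.2)

attribute [local instance] Algebra.TensorProduct.rightAlgebra in

/-- Let R → S, R → R', S → S' and R' → S' be local homomorphisms of Noetherian local rings forming a
commutative square, I ⊊ R an ideal, M a finite S-module, I' = IR' and M' = M ⊗_S S' (given through a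
base-change map f : M → M'). Assume (1) S' is a localization of S ⊗_R R' via the induced map, (2)
M/IM is flat over R/I, and (3) the map Tor_1^R(M, R/I) → Tor_1^{R'}(M', R'/I') is zero — with
Tor_1(−, R/I) computed as the kernel of I ⊗_R M → M, this says that every element of that kernel
goes to zero under the natural map I ⊗_R M → I' ⊗_{R'} M'. Then M' is flat over R'. -/
theorem result
    (R S R' S' : Type u) [CommRing R] [CommRing S] [CommRing R'] [CommRing S']
    [IsLocalRing R] [IsLocalRing S] [IsLocalRing R'] [IsLocalRing S']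
    [IsNoetherianRing R] [IsNoetherianRing S] [IsNoetherianRing R'] [IsNoetherianRing S']
    [Algebra R S] [Algebra R R'] [Algebra S S'] [Algebra R' S'] [Algebra R S']
    [IsScalarTower R S S'] [IsScalarTower R R' S']
    [IsLocalHom (algebraMap R S)] [IsLocalHom (algebraMap R R')] [IsLocalHom (algebraMap S S')]
    [IsLocalHom (algebraMap R' S')]
    (I : Ideal R) (hI : I ≠ ⊤) (M : Type u) [AddCommGroup M] [Module S M] [Module R M] [IsScalarTower R S M]
    [Module.Finite S M]
    (M' : Type u) [AddCommGroup M'] [Module S' M'] [Module R' M'] [IsScalarTower R' S' M']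
    [Module S M'] [IsScalarTower S S' M'] [Module R M'] [IsScalarTower R R' M'] [IsScalarTower R S M']
    (f : M →ₗ[S] M') (hf : IsBaseChange S' f)
    (h1 : ∃ W : Submonoid (S ⊗[R] R'),
      letI : Algebra (S ⊗[R] R') S' :=
        (Algebra.TensorProduct.lift (IsScalarTower.toAlgHom R S S') (IsScalarTower.toAlgHom R R' S')
          (fun s r => Commute.all _ _)).toRingHom.toAlgebra;
      IsLocalization W S')
    (h2 : Module.Flat (R ⧸ I) ((R ⧸ I) ⊗[R] M))
    (h3 : ∀ x : ↥I ⊗[R] M, (Submodule.subtype I).rTensor M x = 0 →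
      (TensorProduct.mapOfCompatibleSMul R' R R ↥(I.map (algebraMap R R')) M')
        ((TensorProduct.map (Algebra.idealMap R' I) (f.restrictScalars R)) x) = 0) :
    Module.Flat R' M' := by
  obtain ⟨W, hW⟩ := h1
  letI algP : Algebra (S ⊗[R] R') S' :=
    (Algebra.TensorProduct.lift (IsScalarTower.toAlgHom R S S') (IsScalarTower.toAlgHom R R' S')
      (fun s r => Commute.all _ _)).toRingHom.toAlgebra
  haveI := hW
  haveI : IsScalarTower S (S ⊗[R] R') S' := IsScalarTower.of_algebraMap_eq fun s => by
    show algebraMap S S' s = Algebra.TensorProduct.lift _ _ _ (s ⊗ₜ[R] (1 : R'))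
    simp
  haveI : IsScalarTower R' (S ⊗[R] R') S' := IsScalarTower.of_algebraMap_eq fun r => by
    show algebraMap R' S' r = Algebra.TensorProduct.lift _ _ _ ((1 : S) ⊗ₜ[R] r)
    simp
  letI : Module (S ⊗[R] R') M' := Module.compHom M' (algebraMap (S ⊗[R] R') S')
  haveI : IsScalarTower (S ⊗[R] R') S' M' := IsScalarTower.of_algebraMap_smul fun _ _ => rfl
  haveI : IsScalarTower R' (S ⊗[R] R') M' := IsScalarTower.of_algebraMap_smul fun r m => by
    show algebraMap (S ⊗[R] R') S' (algebraMap R' (S ⊗[R] R') r) • m = r • m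
    rw [← IsScalarTower.algebraMap_apply, algebraMap_smul]
  haveI : IsScalarTower S (S ⊗[R] R') M' := IsScalarTower.of_algebraMap_smul fun r m => by
    show algebraMap (S ⊗[R] R') S' (algebraMap S (S ⊗[R] R') r) • m = r • m
    rw [← IsScalarTower.algebraMap_apply, algebraMap_smul]
  let N := (S ⊗[R] R') ⊗[S] M
  let ι : N →ₗ[S ⊗[R] R'] M' := f.liftBaseChange (S ⊗[R] R')
  have hbc : IsBaseChange S' ι := by
    refine IsBaseChange.of_comp (TensorProduct.isBaseChange S M (S ⊗[R] R')) ?_
    convert hf using 1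
    ext m
    show f.liftBaseChange (S ⊗[R] R') (1 ⊗ₜ m) = f m
    rw [LinearMap.liftBaseChange_tmul, one_smul]
  haveI : IsLocalizedModule W ι := (isLocalizedModule_iff_isBaseChange W S' ι).2 hbc
  -- `R' ⊗ M ≅ N`
  let j : R' ⊗[R] M →ₗ[R'] N :=
    ((TensorProduct.mk S (S ⊗[R] R') M 1).restrictScalars R).liftBaseChange R'
  have hj1 : ∀ (r : R') (m : M), j (r ⊗ₜ m) = ((1 : S) ⊗ₜ[R] r) ⊗ₜ[S] m := fun r m => by
    show r • ((1 : S ⊗[R] R') ⊗ₜ[S] m) = _
    rw [TensorProduct.smul_tmul', Algebra.smul_def, mul_one]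
    rfl
  let act : S →ₗ[R] M →ₗ[R] M := LinearMap.mk₂ R (fun s m => s • m)
    (fun a b c => add_smul a b c) (fun a b c => smul_assoc a b c) (fun a b c => smul_add a b c)
    (fun a b c => smul_comm b a c)
  let k₀ : S ⊗[R] R' →ₗ[R] (M →ₗ[R] R' ⊗[R] M) := TensorProduct.lift
    (LinearMap.mk₂ R (fun s r => TensorProduct.mk R R' M r ∘ₗ act s)
      (fun a b c => by rw [map_add, LinearMap.comp_add]) (fun a b c => by rw [map_smul, LinearMap.comp_smul])
      (fun a b c => by rw [map_add, LinearMap.add_comp]) (fun a b c => by rw [map_smul, LinearMap.smul_comp]))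
  let k : N →+ R' ⊗[R] M := TensorProduct.liftAddHom
    { toFun := fun p => (k₀ p).toAddMonoidHom
      map_zero' := by rw [map_zero]; rfl
      map_add' := fun a b => by rw [map_add]; rfl }
    (fun t p m => by
      show k₀ (t • p) m = k₀ p (t • m)
      symm
      induction p with
      | zero => rw [smul_zero, map_zero]; rfl
      | tmul s r =>
        rw [TensorProduct.smul_tmul']
        show r ⊗ₜ[R] (s • t • m) = r ⊗ₜ[R] ((t • s) • m)
        rw [smul_assoc, smul_comm]
      | add a b ha hb => rw [smul_add, map_add, map_add, LinearMap.add_apply, LinearMap.add_apply, ha, hb])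
  have hjinj : Function.Injective j := Function.LeftInverse.injective (g := k) fun z => by
    induction z with
    | zero => simp only [map_zero]
    | add a b ha hb => simp only [map_add, ha, hb]
    | tmul r m =>
      rw [hj1]
      show r ⊗ₜ[R] ((1 : S) • m) = _
      rw [one_smul]
  have hjsurj : Function.Surjective j := by
    intro z
    induction z using TensorProduct.induction_on with
    | zero => exact ⟨0, map_zero _⟩
    | add a b ha hb =>
      obtain ⟨a, rfl⟩ := ha
      obtain ⟨b, rfl⟩ := hb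
      exact ⟨a + b, map_add _ _ _⟩
    | tmul p m =>
      induction p with
      | zero => exact ⟨0, by rw [map_zero, TensorProduct.zero_tmul]⟩
      | add a b ha hb =>
        obtain ⟨a', ha⟩ := ha
        obtain ⟨b', hb⟩ := hb
        exact ⟨a' + b', by rw [map_add, ha, hb, TensorProduct.add_tmul]⟩
      | tmul s r =>
        refine ⟨r ⊗ₜ (s • m), ?_⟩
        rw [hj1, ← TensorProduct.smul_tmul, TensorProduct.smul_tmul', smul_eq_mul, mul_one]
  let je : R' ⊗[R] M ≃ₗ[R'] N := LinearEquiv.ofBijective j ⟨hjinj, hjsurj⟩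
  have hje : ∀ (X Y : Type u) [AddCommGroup X] [Module R' X] [AddCommGroup Y] [Module R' Y] (g : X →ₗ[R'] Y)
      (x : X ⊗[R'] (R' ⊗[R] M)), g.rTensor N (je.toLinearMap.lTensor X x) = je.toLinearMap.lTensor Y (g.rTensor _ x) := by
    intro X Y _ _ _ _ g x
    rw [← LinearMap.comp_apply, LinearMap.rTensor_comp_lTensor, ← LinearMap.lTensor_comp_rTensor, LinearMap.comp_apply]
  let I' := I.map (algebraMap R R')
  have hinj : Function.Injective (I'.subtype.rTensor M') := by
    refine loc_injective W ι I'.subtype fun x hx => ?_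
    obtain ⟨x, rfl⟩ := (je.lTensor I').surjective x
    have hx' : I'.subtype.rTensor (R' ⊗[R] M) x = 0 := (je.lTensor R').injective (by
      rw [map_zero, ← hx]; exact (hje _ _ I'.subtype x).symm)
    have hG := core I M h2 (((ι.restrictScalars R') ∘ₗ je.toLinearMap).lTensor I') (fun t ht Φ hΦ => ?_) x hx'
    · rw [← hG]; exact (LinearMap.lTensor_comp_apply _ _ _ _).symm
    · rw [← h3 t ht]
      clear ht
      induction t with
      | zero => simp only [map_zero]
      | add a b ha hb => simp only [map_add, ha, hb]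
      | tmul a m =>
        rw [hΦ, LinearMap.lTensor_tmul, TensorProduct.map_tmul, TensorProduct.mapOfCompatibleSMul_tmul]
        show _ ⊗ₜ[R'] ι (j ((1 : R') ⊗ₜ m)) = _ ⊗ₜ[R'] f m
        rw [hj1]
        show _ ⊗ₜ[R'] f.liftBaseChange (S ⊗[R] R') ((1 : S ⊗[R] R') ⊗ₜ m) = _
        rw [LinearMap.liftBaseChange_tmul, one_smul]
  have hflat : Module.Flat (R' ⧸ I') ((R' ⧸ I') ⊗[R'] M') := by
    refine Module.Flat.iff_rTensor_injective'.2 fun J => ?_
    let c := TensorProduct.AlgebraTensorModule.cancelBaseChange R' (R' ⧸ I') (R' ⧸ I') J M'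
    let c' := TensorProduct.AlgebraTensorModule.cancelBaseChange R' (R' ⧸ I') (R' ⧸ I') (R' ⧸ I') M'
    have e : ∀ z, (J.subtype.restrictScalars R').rTensor M' (c z) = c' (J.subtype.rTensor ((R' ⧸ I') ⊗[R'] M') z) := by
      intro z
      induction z with
      | zero => simp
      | add a b ha hb => simp only [map_add, ha, hb]
      | tmul r w =>
        induction w with
        | zero => simp
        | add a b ha hb => simp only [TensorProduct.tmul_add, map_add, ha, hb]
        | tmul s m => simp [c, c']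
    have hJ : Function.Injective ((J.subtype.restrictScalars R').rTensor M') := by
      refine loc_injective W ι _ fun x hx => ?_
      obtain ⟨x, rfl⟩ := (je.lTensor J).surjective x
      have hx' : (J.subtype.restrictScalars R').rTensor (R' ⊗[R] M) x = 0 := (je.lTensor (R' ⧸ I')).injective (by
        rw [map_zero, ← hx]; exact (hje _ _ _ x).symm)
      have htor : ∀ (X : Type u) [AddCommGroup X] [Module R' X] [Module (R' ⧸ I') X] [Module R X]
          [IsScalarTower R R' X] [IsScalarTower R' (R' ⧸ I') X], Module.IsTorsionBySet R X (I : Set R) := by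
        intro X _ _ _ _ _ _ z a
        show (a : R) • z = 0
        rw [← algebraMap_smul R' (a : R) z, ← algebraMap_smul (R' ⧸ I') (algebraMap R R' a) z,
          show algebraMap R' (R' ⧸ I') (algebraMap R R' a) = 0 from
            Ideal.Quotient.eq_zero_iff_mem.2 (Ideal.mem_map_of_mem _ a.2), zero_smul]
      have hinjR := Groth.Agent.FlatH4.lTensor_injective_of_flat_mod I h2 (htor J) (htor (R' ⧸ I'))
        (J.subtype.restrictScalars R) Subtype.val_injective
      rw [LinearMap.lTensor_inj_iff_rTensor_inj] at hinjR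
      let d := TensorProduct.AlgebraTensorModule.cancelBaseChange R R' R' J M
      let d' := TensorProduct.AlgebraTensorModule.cancelBaseChange R R' R' (R' ⧸ I') M
      have e2 : ∀ z, (J.subtype.restrictScalars R).rTensor M (d z) = d' ((J.subtype.restrictScalars R').rTensor (R' ⊗[R] M) z) := by
        intro z
        induction z with
        | zero => simp
        | add a b ha hb => simp only [map_add, ha, hb]
        | tmul r w =>
          induction w with
          | zero => simp
          | add a b ha hb => simp only [TensorProduct.tmul_add, map_add, ha, hb]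
          | tmul s m => simp [d, d']
      have : x = 0 := d.injective (hinjR (by rw [e2, hx', map_zero, map_zero, map_zero]))
      rw [this, map_zero, map_zero]
    intro a b hab
    exact c.injective (hJ (by rw [e, e, hab]))
  haveI : Module.Finite S' M' := Module.Finite.equiv hf.equiv
  refine Groth.Agent.FlatH4.flat_of_le_jacobson (S := S') (M := M') I' ?_
    ((LinearMap.lTensor_inj_iff_rTensor_inj _ _).2 hinj) hflat
  rw [IsLocalRing.jacobson_eq_maximalIdeal ⊥ bot_ne_top]
  refine le_trans (Ideal.map_mono (IsLocalRing.le_maximalIdeal ?_)) (IsLocalRing.map_maximalIdeal_le (algebraMap R' S'))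
  refine ne_top_of_le_ne_top (IsLocalRing.maximalIdeal.isMaximal R').ne_top ?_
  exact le_trans (Ideal.map_mono (IsLocalRing.le_maximalIdeal hI)) (IsLocalRing.map_maximalIdeal_le (algebraMap R R'))

end Groth.Agent.S12233
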