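import Groth.Statements.S4989
import Groth.Agent.Lib.NormalSmooth12.Basic
import Groth.Agent.S9407
-- import your own Groth.Agent.* helpers here

set_option autoImplicit false
set_option backward.isDefEq.respectTransparency false
universe u
open CategoryTheory CategoryTheory.Limits AlgebraicGeometry TopologicalSpace
open Unram17

namespace Groth.Agent.S4989

open TensorProduct in
theorem local_of_smooth {R S : Type u} [CommRing R] [CommRing S] [Algebra R S] [Algebra.Smooth R S]
    (Q : Ideal S) [Q.IsPrime] :
    (IsReduced (Localization.AtPrime (Q.comap (algebraMap R S))) → IsReduced (Localization.AtPrime Q)) ∧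
    ((IsDomain (Localization.AtPrime (Q.comap (algebraMap R S))) ∧
        IsIntegrallyClosed (Localization.AtPrime (Q.comap (algebraMap R S)))) →
      (IsDomain (Localization.AtPrime Q) ∧ IsIntegrallyClosed (Localization.AtPrime Q))) := by
  let p := Q.comap (algebraMap R S)
  let Ap := Localization.AtPrime p
  let M := Algebra.algebraMapSubmonoid S p.primeCompl
  let B' := Ap ⊗[R] S
  let := (Algebra.TensorProduct.rightAlgebra : Algebra S B')
  have : IsLocalization M B' := IsLocalization.tensorRight (R := R) (A := Ap) (S := S) p.primeCompl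
  have hdisj : Disjoint (M : Set S) (Q : Set S) := by
    rw [Set.disjoint_left]
    rintro _ ⟨a, ha, rfl⟩ hx
    exact ha hx
  let Q' : Ideal B' := Q.map (algebraMap S B')
  have : Q'.IsPrime := IsLocalization.isPrime_of_isPrime_disjoint M B' Q ‹_› hdisj
  have hcomap : Q'.comap (algebraMap S B') = Q :=
    IsLocalization.comap_map_of_isPrime_disjoint M B' ‹Q.IsPrime› hdisj
  have : IsLocalization.AtPrime (Localization.AtPrime Q') Q := by
    have := IsLocalization.isLocalization_isLocalization_atPrime_isLocalization M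
      (Localization.AtPrime Q') Q'
    simpa only [hcomap] using this
  let e := (IsLocalization.algEquiv Q.primeCompl (Localization.AtPrime Q') (Localization.AtPrime Q)).toRingEquiv
  refine ⟨fun hr => ?_, fun ⟨hd, hi⟩ => ?_⟩
  · haveI := hr
    haveI : IsReduced B' := Groth.Agent.S9407.result Ap B'
    haveI : IsReduced (Localization.AtPrime Q') := inferInstance
    exact isReduced_of_injective e.symm.toRingHom e.symm.injective
  · haveI := hd
    haveI := hi
    exact NormalSmooth12.normalDomain_of_ringEquiv e (NormalSmooth12.isNormalRing_of_smooth_domain (R := Ap) Q')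


/-- Let f : X ⟶ Y be locally of finite presentation and smooth at a point x with image y. Then the local
ring of X at x is reduced if and only if the local ring of Y at y is reduced, and it is an
integrally closed domain if and only if the local ring of Y at y is one. (The published statement
also covers geometrically unibranch local rings; this row states only the reduced and the integrally
closed cases.) -/
theorem result {X Y : Scheme.{u}} (f : X ⟶ Y)
    [LocallyOfFinitePresentation f] (x : ↥X) (hx : x ∈ f.smoothLocus) :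
    (IsReduced ↑(X.presheaf.stalk x) ↔ IsReduced ↑(Y.presheaf.stalk (f.base x))) ∧
    ((IsDomain ↑(X.presheaf.stalk x) ∧ IsIntegrallyClosed ↑(X.presheaf.stalk x)) ↔
      (IsDomain ↑(Y.presheaf.stalk (f.base x)) ∧ IsIntegrallyClosed ↑(Y.presheaf.stalk (f.base x)))) := by
  rw [Scheme.Hom.mem_smoothLocus] at hx
  obtain ⟨U, hU, V, hV, hVU, hxV, hsm⟩ := exists_smooth_of_formallySmooth_stalk f x hx
  algebraize [(f.appLE U V hVU).hom]
  let q := (hV.primeIdealOf ⟨x, hxV⟩).asIdeal
  let p := (hU.primeIdealOf ⟨f.base x, hVU hxV⟩).asIdeal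
  have hpq : p = q.comap (algebraMap Γ(Y, U) Γ(X, V)) :=
    congr($(IsAffineOpen.comap_primeIdealOf_appLE U hU V hV hVU hxV).1).symm
  haveI := hV.isLocalization_stalk ⟨x, hxV⟩
  haveI := hU.isLocalization_stalk ⟨f.base x, hVU hxV⟩
  letI : Algebra Γ(X, V) (X.presheaf.stalk (⟨x, hxV⟩ : V).1) := X.presheaf.algebra_section_stalk ⟨x, hxV⟩
  letI : Algebra Γ(Y, U) (Y.presheaf.stalk (⟨f.base x, hVU hxV⟩ : U).1) := Y.presheaf.algebra_section_stalk ⟨f.base x, hVU hxV⟩
  let eX : X.presheaf.stalk (⟨x, hxV⟩ : V).1 ≃+* Localization.AtPrime q :=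
    (IsLocalization.algEquiv q.primeCompl (X.presheaf.stalk (⟨x, hxV⟩ : V).1) _).toRingEquiv
  let eY : Y.presheaf.stalk (⟨f.base x, hVU hxV⟩ : U).1 ≃+* Localization.AtPrime (q.comap (algebraMap Γ(Y, U) Γ(X, V))) :=
    (IsLocalization.algEquiv p.primeCompl (Y.presheaf.stalk (⟨f.base x, hVU hxV⟩ : U).1)
      (Localization.AtPrime p)).toRingEquiv.trans (IsLocalization.ringEquivOfRingEquiv (M := p.primeCompl)
      (T := (q.comap (algebraMap Γ(Y, U) Γ(X, V))).primeCompl) _ _ (RingEquiv.refl _) (by
        ext z; simp [hpq]))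
  algebraize [(f.stalkMap x).hom]
  haveI : IsLocalHom (algebraMap (Y.presheaf.stalk (f.base x)) (X.presheaf.stalk x)) :=
    (inferInstance : IsLocalHom (f.stalkMap x).hom)
  haveI : Module.Flat (Y.presheaf.stalk (f.base x)) (X.presheaf.stalk x) := by
    rw [← RingHom.flat_algebraMap_iff]
    refine ((RingHom.Flat.respectsIso).arrow_mk_iso_iff (IsAffineOpen.arrowStalkMapIso f U hU V hV hVU hxV)).2 ?_
    haveI : Algebra.Smooth Γ(Y, U) Γ(X, V) := hsm
    exact RingHom.Flat.localRingHom (RingHom.flat_algebraMap_iff.2 inferInstance) _ _ hpq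
  haveI : Module.FaithfullyFlat (Y.presheaf.stalk (f.base x)) (X.presheaf.stalk x) :=
    Module.FaithfullyFlat.of_flat_of_isLocalHom
  obtain ⟨hred, hnor⟩ := local_of_smooth (R := Γ(Y, U)) q
  refine ⟨⟨fun h => isReduced_of_injective _ (FaithfulSMul.algebraMap_injective (Y.presheaf.stalk (f.base x)) (X.presheaf.stalk x)),
    fun h => ?_⟩, ⟨fun h => NormalSmooth12.normalDomain_of_faithfullyFlat _ _ h, fun h => ?_⟩⟩
  · haveI := hred (isReduced_of_injective eY.symm.toRingHom eY.symm.injective)
    exact isReduced_of_injective eX.toRingHom eX.injective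
  · exact NormalSmooth12.normalDomain_of_ringEquiv eX.symm (hnor (NormalSmooth12.normalDomain_of_ringEquiv eY h))

end Groth.Agent.S4989
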