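import Groth.Statements.S9791
import Groth.Agent.S4989
import Groth.Agent.Lib.NormUP12.Basic
import Groth.Agent.Lib.GeomIrr18.Roof

set_option autoImplicit false
universe u
open CategoryTheory CategoryTheory.Limits AlgebraicGeometry
open FlatMor

set_option backward.isDefEq.respectTransparency.types false

namespace Groth.Agent.S9791

instance {Y : Scheme.{u}} [IsIntegral Y] [QuasiCompact (Y.fromSpecStalk (genericPoint Y))]
    [QuasiSeparated (Y.fromSpecStalk (genericPoint Y))] : IsIntegral (Curv2.normalization Y) :=
  (CurveNF.isIntegral_and_normal (g := Y.fromSpecStalk (genericPoint Y)) NormUP12.id_hg).1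

theorem genericPoint_eq_of_specializes {Z : Scheme.{u}} [IsIntegral Z] {y : Z} (h : y ⤳ genericPoint Z) :
    y = genericPoint Z :=
  (h.antisymm (genericPoint_specializes y)).eq

/-- Points over the generic point of the base are determined by their image in `X`. -/
theorem eq_of_fst_eq {X Y : Scheme.{u}} (f : X ⟶ Y) [IsIntegral Y]
    [QuasiCompact (Y.fromSpecStalk (genericPoint Y))] [QuasiSeparated (Y.fromSpecStalk (genericPoint Y))]
    (w z : ↥(pullback f (Curv2.normalizationι Y)))
    (hw : pullback.snd f (Curv2.normalizationι Y) w = genericPoint (Curv2.normalization Y))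
    (hz : pullback.snd f (Curv2.normalizationι Y) z = genericPoint (Curv2.normalization Y))
    (h : pullback.fst f (Curv2.normalizationι Y) w = pullback.fst f (Curv2.normalizationι Y) z) : w = z := by
  let g := Y.fromSpecStalk (genericPoint Y)
  let t : Spec (Y.presheaf.stalk (genericPoint Y)) ⟶ Curv2.normalization Y := g.toNormalization
  have ht : t ≫ Curv2.normalizationι Y = g := g.toNormalization_fromNormalization
  have htg : t (IsLocalRing.closedPoint Y.functionField) = genericPoint (Curv2.normalization Y) :=
    CurveNF.toNormalization_closedPoint (g := g)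
  obtain ⟨w', hw', -⟩ := Scheme.Pullback.exists_preimage_pullback (f := pullback.snd f (Curv2.normalizationι Y))
    (g := t) w (IsLocalRing.closedPoint Y.functionField) (hw.trans htg.symm)
  obtain ⟨z', hz', -⟩ := Scheme.Pullback.exists_preimage_pullback (f := pullback.snd f (Curv2.normalizationι Y))
    (g := t) z (IsLocalRing.closedPoint Y.functionField) (hz.trans htg.symm)
  haveI : IsPreimmersion (t ≫ Curv2.normalizationι Y) := by rw [ht]; infer_instance
  have key : Function.Injective (pullback.fst (pullback.snd f (Curv2.normalizationι Y)) t ≫
      pullback.fst f (Curv2.normalizationι Y)) := by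
    rw [← pullbackLeftPullbackSndIso_hom_fst]
    exact (Scheme.Hom.isEmbedding _).injective
  have h2 := @key w' z' (by simp only [Scheme.Hom.comp_apply, hw', hz', h])
  rw [← hw', ← hz', h2]


/-- In the case of integral schemes: let f : X ⟶ Y be a smooth morphism with X and Y integral, and let
X^ν ⟶ X and Y^ν ⟶ Y be the normalizations (in the function fields). Then X^ν is isomorphic over X to
the fibre product X ×_Y Y^ν, and such an isomorphism is unique. (The published statement requires
only that each quasi-compact open subset of Y meet finitely many irreducible components of Y, and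
also derives this for X; this row assumes X and Y integral, the case in which the normalization used
here is defined. The quasi-compactness and quasi-separatedness binders on Spec K(X) → X and Spec
K(Y) → Y always hold and are needed only to form the normalization.) -/
theorem result {X Y : Scheme.{u}} (f : X ⟶ Y) [Smooth f] [IsIntegral X] [IsIntegral Y]
    [QuasiCompact (X.fromSpecStalk (genericPoint X))] [QuasiSeparated (X.fromSpecStalk (genericPoint X))]
    [QuasiCompact (Y.fromSpecStalk (genericPoint Y))] [QuasiSeparated (Y.fromSpecStalk (genericPoint Y))] :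
    ∃! e : Curv2.normalization X ≅ pullback f (Curv2.normalizationι Y),
      e.hom ≫ pullback.fst f (Curv2.normalizationι Y) = Curv2.normalizationι X := by
  let νY := Curv2.normalizationι Y
  let νX := Curv2.normalizationι X
  let P := pullback f νY
  let p := pullback.fst f νY
  let q := pullback.snd f νY
  haveI : IsIntegralHom νY := inferInstanceAs (IsIntegralHom (Y.fromSpecStalk (genericPoint Y)).fromNormalization)
  haveI : IsIntegralHom p := MorphismProperty.pullback_fst _ _ inferInstance
  obtain ⟨hNYi, hNYn⟩ := CurveNF.isIntegral_and_normal (g := Y.fromSpecStalk (genericPoint Y)) NormUP12.id_hg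
  haveI hNYi' : IsIntegral (Curv2.normalization Y) := hNYi
  obtain ⟨hNXi, hNXn⟩ := CurveNF.isIntegral_and_normal (g := X.fromSpecStalk (genericPoint X)) NormUP12.id_hg
  haveI hNXi' : IsIntegral (Curv2.normalization X) := hNXi
  haveI : Smooth q := MorphismProperty.pullback_snd _ _ inferInstance
  have hPn : Pi1.IsNormalScheme P := fun z =>
    (S4989.result q z (by rw [Scheme.Hom.smoothLocus_eq_top_iff.2 inferInstance]; trivial)).2.2 (hNYn (q z))
  have hXgen : f (genericPoint X) = genericPoint Y :=
    (GeomIrr.IsMaximalPt.map f (fun y hy => (genericPoint_eq_of_specializes hy))) _ (genericPoint_specializes _) |>.symm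
  have hmaxP : ∀ z : P, closure {z} ∈ irreducibleComponents P →
      q z = genericPoint (Curv2.normalization Y) ∧ p z = genericPoint X := by
    intro z hz
    have hzmax := GeomIrr.isMaximalPt_of_closure_mem hz
    have hq : q z = genericPoint (Curv2.normalization Y) :=
      ((GeomIrr.IsMaximalPt.map q hzmax) _ (genericPoint_specializes _)).symm
    refine ⟨hq, ?_⟩
    have hηY : νY (genericPoint (Curv2.normalization Y)) = genericPoint Y :=
      CurveNF.fromNormalization_genericPoint (g := Y.fromSpecStalk (genericPoint Y)) NormUP12.id_hg
    haveI : Surjective νY :=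
      CurveNF.surjective_fromNormalization (g := Y.fromSpecStalk (genericPoint Y)) NormUP12.id_hg
    haveI : Surjective p := MorphismProperty.pullback_fst _ _ inferInstance
    obtain ⟨z', hz'⟩ := p.surjective (genericPoint X)
    obtain ⟨w, hw, hwp⟩ := p.isClosedMap.specializingMap (show p z' ⤳ p z by rw [hz']; exact genericPoint_specializes _)
    have hq' : ∀ v : P, f (p v) = genericPoint Y → q v = genericPoint (Curv2.normalization Y) := by
      intro v hv
      have h1 : νY (q v) = genericPoint Y := by
        rw [← Scheme.Hom.comp_apply, ← pullback.condition, Scheme.Hom.comp_apply, hv]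
      have h2 := (CurveNF.preimage_genericPoint (g := Y.fromSpecStalk (genericPoint Y)) NormUP12.id_hg).le h1
      exact h2
    have hfpz : f (p z) = genericPoint Y := by
      rw [← Scheme.Hom.comp_apply, pullback.condition, Scheme.Hom.comp_apply, hq, hηY]
    have hwz : w = z := S9791.eq_of_fst_eq f w z (hq' w (by rw [hwp, hfpz])) hq hwp
    rw [← hz', hzmax z' (hwz ▸ hw)]
  obtain ⟨h, hh, huniq⟩ := NormUP12.existsUnique_fac (g := p) hPn fun z hz => (hmaxP z hz).2
  have hdX : ∀ z : Curv2.normalization X, closure {z} ∈ irreducibleComponents (Curv2.normalization X) →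
      νX z = genericPoint X := by
    intro z hz
    have : genericPoint (Curv2.normalization X) = z :=
      GeomIrr.isMaximalPt_of_closure_mem hz _ (genericPoint_specializes z)
    rw [← this]
    exact CurveNF.fromNormalization_genericPoint (g := X.fromSpecStalk (genericPoint X)) NormUP12.id_hg
  obtain ⟨l₂, hl₂, -⟩ := NormUP12.existsUnique_fac (g := νX ≫ f) hNXn fun z hz => by
    rw [Scheme.Hom.comp_apply, hdX z hz, hXgen]
  let l : Curv2.normalization X ⟶ P := pullback.lift νX l₂ hl₂.symm
  have hlh : l ≫ h = 𝟙 _ := (NormUP12.existsUnique_fac (g := νX) hNXn hdX).unique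
    (by rw [Category.assoc, hh]; exact pullback.lift_fst _ _ _) (Category.id_comp _)
  have hhl : h ≫ l = 𝟙 P := by
    refine pullback.hom_ext ?_ ?_
    · rw [Category.assoc, pullback.lift_fst, hh, Category.id_comp]
    · refine (NormUP12.existsUnique_fac (g := p ≫ f) hPn fun z hz => ?_).unique ?_ ?_
      · rw [Scheme.Hom.comp_apply, (hmaxP z hz).2, hXgen]
      · rw [Category.assoc, Category.assoc, ← Category.assoc l, pullback.lift_snd, hl₂, ← Category.assoc, hh]
      · rw [Category.id_comp, pullback.condition]
  refine ⟨⟨l, h, hlh, hhl⟩, pullback.lift_fst _ _ _, fun e he => ?_⟩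
  have : e.inv = h := huniq _ ((Iso.inv_comp_eq e).2 he.symm)
  ext1
  rw [← cancel_mono e.inv, e.hom_inv_id]
  exact hlh.symm.trans (by rw [this])

end Groth.Agent.S9791
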