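import Groth.Statements.S12240
import Groth.Agent.S9791
import Groth.Agent.S4989
import Groth.Agent.Lib.SchImage.ReducedKer
import Groth.Agent.Lib.NormUP12.Basic
import Groth.Agent.Lib.GeomIrr18.Roof
-- import your own Groth.Agent.* helpers here

set_option autoImplicit false
universe u
open CategoryTheory CategoryTheory.Limits AlgebraicGeometry
open Curves

namespace Groth.Agent.S12240

set_option backward.isDefEq.respectTransparency.types false

theorem isNormalScheme_field (Ω : Type u) [Field Ω] :
    Pi1.IsNormalScheme (Spec (CommRingCat.of Ω)) := by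
  intro x
  let St := (Spec (CommRingCat.of Ω)).presheaf.stalk x
  letI : Algebra Ω St := (StructureSheaf.toStalk Ω x).hom.toAlgebra
  haveI : IsLocalization.AtPrime St x.asIdeal :=
    (inferInstance : IsLocalization.AtPrime ((Spec.structureSheaf Ω).presheaf.stalk x) x.asIdeal)
  let e : Ω ≃ₐ[Ω] St := IsLocalization.atUnits Ω x.asIdeal.primeCompl (S := St) fun a ha =>
    IsUnit.mk0 a fun h => ha (h ▸ x.asIdeal.zero_mem)
  haveI : IsDomain St := e.symm.toMulEquiv.isDomain Ω
  exact ⟨inferInstance, IsIntegrallyClosed.of_equiv e.toRingEquiv⟩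


/-- Stated over the field where the nonsingular projective model is already smooth. Let K be a field and
X a proper geometrically irreducible curve over K (proper over K, integral, of dimension one) whose
normalization Y = X^ν is smooth over K. Then for every field extension Ω of K the base change Y_Ω,
together with its map to X_Ω, is the normalization of the reduction (X_Ω)_red: there is an
isomorphism from Y_Ω to the normalization of (X_Ω)_red whose composite with the normalization map
and the closed immersion (X_Ω)_red → X_Ω is the base change Y_Ω → X_Ω of Y → X. (Applied to the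
reduction of the base change of a geometrically irreducible proper curve to a field over which its
nonsingular projective model becomes smooth, this says that the smooth model is compatible with all
further field extensions; the instance hypotheses on (X_Ω)_red — integrality and the two conditions
needed to form the normalization — always hold.) -/
theorem result (K : Type u) [Field K] (X : Scheme.{u})
    [X.Over (Spec (CommRingCat.of K))] [IsIntegral X] [IsProper (X ↘ (Spec (CommRingCat.of K)))]
    [GeometricallyIrreducible (X ↘ (Spec (CommRingCat.of K)))] (hdim : topologicalKrullDim X = 1)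
    [QuasiCompact (X.fromSpecStalk (genericPoint X))] [QuasiSeparated (X.fromSpecStalk (genericPoint X))]
    (hsm : Smooth (Curv2.normalizationι X ≫ (X ↘ (Spec (CommRingCat.of K)))))
    (Ω : Type u) [Field Ω] [Algebra K Ω]
    [IsIntegral ((Curv2.bc K X Ω).nilradical).subscheme]
    [QuasiCompact ((((Curv2.bc K X Ω).nilradical).subscheme).fromSpecStalk (genericPoint ((Curv2.bc K X Ω).nilradical).subscheme))]
    [QuasiSeparated ((((Curv2.bc K X Ω).nilradical).subscheme).fromSpecStalk (genericPoint ((Curv2.bc K X Ω).nilradical).subscheme))] :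
    ∃ e : Limits.pullback (Curv2.normalizationι X ≫ (X ↘ (Spec (CommRingCat.of K))))
          (Spec.map (CommRingCat.ofHom (algebraMap K Ω))) ≅
        Curv2.normalization ((Curv2.bc K X Ω).nilradical).subscheme,
      e.hom ≫ Curv2.normalizationι ((Curv2.bc K X Ω).nilradical).subscheme ≫ ((Curv2.bc K X Ω).nilradical).subschemeι =
        Limits.pullback.map (Curv2.normalizationι X ≫ (X ↘ (Spec (CommRingCat.of K))))
          (Spec.map (CommRingCat.ofHom (algebraMap K Ω))) (X ↘ (Spec (CommRingCat.of K)))
          (Spec.map (CommRingCat.ofHom (algebraMap K Ω))) (Curv2.normalizationι X) (𝟙 _) (𝟙 _)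
          (Category.comp_id _) ((Category.comp_id _).trans (Category.id_comp _).symm) := by
  let π : X ⟶ Spec (CommRingCat.of K) := X ↘ _
  let qΩ : Spec (CommRingCat.of Ω) ⟶ Spec (CommRingCat.of K) :=
    Spec.map (CommRingCat.ofHom (algebraMap K Ω))
  let νX := Curv2.normalizationι X
  let XΩ := Curv2.bc K X Ω
  let R := XΩ.nilradical.subscheme
  let ι : R ⟶ XΩ := XΩ.nilradical.subschemeι
  let νR := Curv2.normalizationι R
  let b : XΩ ⟶ X := pullback.fst π qΩ
  let P := pullback (νX ≫ π) qΩ
  let a : P ⟶ Curv2.normalization X := pullback.fst _ _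
  let m : P ⟶ XΩ := pullback.map (νX ≫ π) qΩ π qΩ νX (𝟙 _) (𝟙 _) (Category.comp_id _)
    ((Category.comp_id _).trans (Category.id_comp _).symm)
  have hmb : m ≫ b = a ≫ νX := pullback.lift_fst _ _ _
  have hms : m ≫ pullback.snd π qΩ = pullback.snd (νX ≫ π) qΩ :=
    (pullback.lift_snd _ _ _).trans (Category.comp_id _)
  have hpb : IsPullback m a b νX := by
    refine (IsPullback.of_bot ?_ hmb.symm (IsPullback.of_hasPullback π qΩ)).flip
    rw [hms]
    exact IsPullback.of_hasPullback (νX ≫ π) qΩ
  haveI : IsIntegralHom νX := inferInstanceAs (IsIntegralHom (X.fromSpecStalk (genericPoint X)).fromNormalization)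
  haveI : IsIntegralHom m := MorphismProperty.of_isPullback (P := @IsIntegralHom) hpb.flip inferInstance
  haveI : Surjective νX :=
    CurveNF.surjective_fromNormalization (g := X.fromSpecStalk (genericPoint X)) NormUP12.id_hg
  haveI : Surjective m := MorphismProperty.of_isPullback (P := @Surjective) hpb.flip inferInstance
  haveI : Flat qΩ := by
    rw [HasRingHomProperty.Spec_iff (P := @Flat)]
    exact RingHom.flat_algebraMap_iff.mpr inferInstance
  haveI : Flat a := MorphismProperty.pullback_fst _ _ inferInstance
  haveI : Flat b := MorphismProperty.pullback_fst _ _ inferInstance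
  haveI : Surjective qΩ := ⟨fun z => ⟨IsLocalRing.closedPoint Ω,
    Subsingleton.elim (α := PrimeSpectrum K) _ z⟩⟩
  haveI : Surjective b := MorphismProperty.pullback_fst _ _ inferInstance
  obtain ⟨hNXi, hNXn⟩ := CurveNF.isIntegral_and_normal (g := X.fromSpecStalk (genericPoint X)) NormUP12.id_hg
  obtain ⟨hNRi, hNRn⟩ := CurveNF.isIntegral_and_normal (g := R.fromSpecStalk (genericPoint R)) NormUP12.id_hg
  haveI : IsIntegral (Curv2.normalization X) := hNXi
  haveI : IsIntegral (Curv2.normalization R) := hNRi
  haveI : Smooth (pullback.snd (νX ≫ π) qΩ) := MorphismProperty.pullback_snd _ _ hsm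
  have hPn : Pi1.IsNormalScheme P := fun z =>
    (S4989.result (pullback.snd (νX ≫ π) qΩ) z
      (by rw [Scheme.Hom.smoothLocus_eq_top_iff.2 inferInstance]; trivial)).2.2
      (isNormalScheme_field Ω _)
  haveI : IsReduced P := NormUP12.isReduced_of_normal hPn
  let m' : P ⟶ R := IsClosedImmersion.lift ι m (by
    rw [show ι.ker = _ from Scheme.IdealSheafData.ker_subschemeι _,
      Groth.Agent.SchImage.ker_eq_vanishingIdeal, ← Scheme.IdealSheafData.vanishingIdeal_top]
    exact Scheme.IdealSheafData.vanishingIdeal_antimono le_top)
  have hm' : m' ≫ ι = m := IsClosedImmersion.lift_fac _ _ _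
  haveI : Surjective ι := ⟨fun z => by
    show z ∈ Set.range ι
    rw [Scheme.IdealSheafData.range_subschemeι, Scheme.support_nilradical]
    trivial⟩
  have hbR : b (ι (genericPoint R)) = genericPoint X := by
    obtain ⟨r, hr⟩ := (ι ≫ b).surjective (genericPoint X)
    refine S9791.genericPoint_eq_of_specializes ?_
    have := (genericPoint_specializes r).map (ι ≫ b).continuous
    rw [hr] at this
    exact this
  have hηX : νX (genericPoint (Curv2.normalization X)) = genericPoint X :=
    CurveNF.fromNormalization_genericPoint (g := X.fromSpecStalk (genericPoint X)) NormUP12.id_hg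
  have hmaxP : ∀ z : P, closure {z} ∈ irreducibleComponents P → m' z = genericPoint R := by
    intro z hz
    have hzmax := GeomIrr.isMaximalPt_of_closure_mem hz
    have haz : a z = genericPoint (Curv2.normalization X) :=
      ((GeomIrr.IsMaximalPt.map a hzmax) _ (genericPoint_specializes _)).symm
    obtain ⟨z', hz'⟩ := m.surjective (ι (genericPoint R))
    have hsp : m z' ⤳ m z := by
      rw [hz', ← hm', Scheme.Hom.comp_apply]
      exact (genericPoint_specializes _).map ι.continuous
    obtain ⟨w, hw, hwm⟩ := m.isClosedMap.specializingMap hsp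
    have haw : a w = genericPoint (Curv2.normalization X) := by
      have h1 : νX (a w) = genericPoint X := by
        rw [← Scheme.Hom.comp_apply, ← hmb, Scheme.Hom.comp_apply, hwm, ← Scheme.Hom.comp_apply,
          hmb, Scheme.Hom.comp_apply, haz, hηX]
      exact (CurveNF.preimage_genericPoint (g := X.fromSpecStalk (genericPoint X)) NormUP12.id_hg).le h1
    let e := hpb.isoPullback
    have he1 : ∀ t, pullback.fst b νX (e.hom t) = m t := fun t => by
      rw [← Scheme.Hom.comp_apply, hpb.isoPullback_hom_fst]
    have he2 : ∀ t, pullback.snd b νX (e.hom t) = a t := fun t => by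
      rw [← Scheme.Hom.comp_apply, hpb.isoPullback_hom_snd]
    have hwz : w = z := e.hom.homeomorph.injective
      (S9791.eq_of_fst_eq b (e.hom w) (e.hom z) ((he2 w).trans haw) ((he2 z).trans haz)
        (((he1 w).trans hwm).trans (he1 z).symm))
    apply ι.isEmbedding.injective
    rw [← Scheme.Hom.comp_apply, hm', ← hz', hzmax z' (hwz ▸ hw)]
  obtain ⟨h, hh, -⟩ := NormUP12.existsUnique_fac (g := m') hPn hmaxP
  have hgenN : ∀ z : Curv2.normalization R, closure {z} ∈ irreducibleComponents (Curv2.normalization R) →
      νR z = genericPoint R := by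
    intro z hz
    have : genericPoint (Curv2.normalization R) = z :=
      GeomIrr.isMaximalPt_of_closure_mem hz _ (genericPoint_specializes z)
    rw [← this]
    exact CurveNF.fromNormalization_genericPoint (g := R.fromSpecStalk (genericPoint R)) NormUP12.id_hg
  obtain ⟨l₂, hl₂, -⟩ := NormUP12.existsUnique_fac (g := νR ≫ ι ≫ b) hNRn fun z hz => by
    rw [Scheme.Hom.comp_apply, hgenN z hz, Scheme.Hom.comp_apply, hbR]
  let l : Curv2.normalization R ⟶ P := pullback.lift l₂ (νR ≫ ι ≫ pullback.snd π qΩ) (by
    rw [← Category.assoc, hl₂, Category.assoc, Category.assoc, Category.assoc, Category.assoc]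
    congr 2
    exact pullback.condition)
  have hlm : l ≫ m = νR ≫ ι := by
    apply pullback.hom_ext
    · erw [Category.assoc, hmb, ← Category.assoc, pullback.lift_fst, hl₂, Category.assoc]
    · erw [Category.assoc, hms, pullback.lift_snd, Category.assoc]
  have hlh : l ≫ h = 𝟙 _ := by
    refine (NormUP12.existsUnique_fac (g := νR) hNRn hgenN).unique ?_ (Category.id_comp _)
    rw [Category.assoc, hh, ← cancel_mono ι, Category.assoc, hm', hlm]
  have hhl : h ≫ l = 𝟙 P := by
    refine pullback.hom_ext ?_ ?_
    · erw [Category.assoc, pullback.lift_fst, Category.id_comp]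
      refine (NormUP12.existsUnique_fac (g := a ≫ νX) hPn fun z hz => ?_).unique ?_ rfl
      · rw [← hmb, ← hm', Scheme.Hom.comp_apply, Scheme.Hom.comp_apply, hmaxP z hz, hbR]
      · rw [Category.assoc, hl₂, ← Category.assoc, hh, ← Category.assoc, hm', hmb]
    · erw [Category.assoc, pullback.lift_snd, Category.id_comp]
      rw [← Category.assoc, hh, ← Category.assoc, hm', hms]
  refine ⟨⟨h, l, hhl, hlh⟩, ?_⟩
  show h ≫ νR ≫ ι = m
  rw [← Category.assoc, hh, hm']

end Groth.Agent.S12240
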