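import Groth.Statements.S12235
import Groth.Agent.S12240
import Groth.Agent.S1536
import Groth.Agent.Lib.VarDim.Irred
-- import your own Groth.Agent.* helpers here

set_option autoImplicit false
universe u
open CategoryTheory CategoryTheory.Limits AlgebraicGeometry
open Curves

namespace Groth.Agent.S12235

set_option backward.isDefEq.respectTransparency.types false
set_option linter.style.haveILetI false

theorem isReduced_of_smooth_field {L : Type u} [Field L] {P : Scheme.{u}}
    (f : P ⟶ Spec (CommRingCat.of L)) [Smooth f] : IsReduced P :=
  NormUP12.isReduced_of_normal fun z =>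
    (S4989.result f z (by rw [Scheme.Hom.smoothLocus_eq_top_iff.2 inferInstance]; trivial)).2.2
      (S12240.isNormalScheme_field L _)

/-- The normalization is geometrically irreducible when the scheme is. -/
theorem irreducibleSpace_baseChange {K L : Type u} [Field K] [Field L] (R : Scheme.{u}) [IsIntegral R]
    [QuasiCompact (R.fromSpecStalk (genericPoint R))] [QuasiSeparated (R.fromSpecStalk (genericPoint R))]
    (t : R ⟶ Spec (CommRingCat.of K)) (y : Spec (CommRingCat.of L) ⟶ Spec (CommRingCat.of K))
    [IrreducibleSpace ↥(pullback t y)] :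
    IrreducibleSpace ↥(pullback (Curv2.normalizationι R ≫ t) y) := by
  let νR := Curv2.normalizationι R
  let RL := pullback t y
  let YL := pullback (νR ≫ t) y
  let b : RL ⟶ R := pullback.fst t y
  let a : YL ⟶ Curv2.normalization R := pullback.fst _ _
  let m : YL ⟶ RL := pullback.map (νR ≫ t) y t y νR (𝟙 _) (𝟙 _) (Category.comp_id _)
    ((Category.comp_id _).trans (Category.id_comp _).symm)
  have hmb : m ≫ b = a ≫ νR := pullback.lift_fst _ _ _
  have hms : m ≫ pullback.snd t y = pullback.snd (νR ≫ t) y :=
    (pullback.lift_snd _ _ _).trans (Category.comp_id _)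
  have hpb : IsPullback m a b νR := by
    refine (IsPullback.of_bot ?_ hmb.symm (IsPullback.of_hasPullback t y)).flip
    rw [hms]
    exact IsPullback.of_hasPullback (νR ≫ t) y
  haveI : IsIntegralHom νR := inferInstanceAs (IsIntegralHom (R.fromSpecStalk (genericPoint R)).fromNormalization)
  haveI : IsIntegralHom m := MorphismProperty.of_isPullback (P := @IsIntegralHom) hpb.flip inferInstance
  haveI : Surjective νR :=
    CurveNF.surjective_fromNormalization (g := R.fromSpecStalk (genericPoint R)) NormUP12.id_hg
  haveI : Surjective m := MorphismProperty.of_isPullback (P := @Surjective) hpb.flip inferInstance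
  haveI : Flat y := by
    rw [← Spec.map_preimage y, HasRingHomProperty.Spec_iff (P := @Flat)]
    letI := (Spec.preimage y).hom.toAlgebra
    exact (inferInstance : Module.Flat K L)
  haveI : Surjective y := ⟨fun z => ⟨IsLocalRing.closedPoint L,
    Subsingleton.elim (α := PrimeSpectrum K) _ z⟩⟩
  haveI : Flat a := MorphismProperty.pullback_fst _ _ inferInstance
  haveI : Surjective b := MorphismProperty.pullback_fst _ _ inferInstance
  obtain ⟨hNRi, -⟩ := CurveNF.isIntegral_and_normal (g := R.fromSpecStalk (genericPoint R)) NormUP12.id_hg
  haveI : IsIntegral (Curv2.normalization R) := hNRi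
  have hbη : b (genericPoint RL) = genericPoint R := by
    obtain ⟨r, hr⟩ := b.surjective (genericPoint R)
    refine S9791.genericPoint_eq_of_specializes ?_
    have := (genericPoint_specializes r).map b.continuous
    rw [hr] at this
    exact this
  have hηR : νR (genericPoint (Curv2.normalization R)) = genericPoint R :=
    CurveNF.fromNormalization_genericPoint (g := R.fromSpecStalk (genericPoint R)) NormUP12.id_hg
  let e := hpb.isoPullback
  have he1 : ∀ v, pullback.fst b νR (e.hom v) = m v := fun v => by
    rw [← Scheme.Hom.comp_apply, hpb.isoPullback_hom_fst]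
  have he2 : ∀ v, pullback.snd b νR (e.hom v) = a v := fun v => by
    rw [← Scheme.Hom.comp_apply, hpb.isoPullback_hom_snd]
  have hinj : ∀ w z : YL, a w = genericPoint (Curv2.normalization R) →
      a z = genericPoint (Curv2.normalization R) → m w = m z → w = z := fun w z haw haz h =>
    e.hom.homeomorph.injective
      (S9791.eq_of_fst_eq b (e.hom w) (e.hom z) ((he2 w).trans haw) ((he2 z).trans haz)
        (((he1 w).trans h).trans (he1 z).symm))
  have hmax : ∀ z : YL, (∀ w, w ⤳ z → w = z) →
      a z = genericPoint (Curv2.normalization R) ∧ m z = genericPoint RL := by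
    intro z hzmax
    have haz : a z = genericPoint (Curv2.normalization R) :=
      ((GeomIrr.IsMaximalPt.map a hzmax) _ (genericPoint_specializes _)).symm
    refine ⟨haz, ?_⟩
    obtain ⟨z', hz'⟩ := m.surjective (genericPoint RL)
    obtain ⟨w, hw, hwm⟩ :=
      m.isClosedMap.specializingMap (show m z' ⤳ m z by rw [hz']; exact genericPoint_specializes _)
    have haw : a w = genericPoint (Curv2.normalization R) := by
      have h1 : νR (a w) = genericPoint R := by
        rw [← Scheme.Hom.comp_apply, ← hmb, Scheme.Hom.comp_apply, hwm, ← Scheme.Hom.comp_apply,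
          hmb, Scheme.Hom.comp_apply, haz, hηR]
      exact (CurveNF.preimage_genericPoint (g := R.fromSpecStalk (genericPoint R)) NormUP12.id_hg).le h1
    have hwz : w = z := hinj w z haw haz hwm
    rw [← hz', hzmax z' (hwz ▸ hw)]
  obtain ⟨x₀, -⟩ := m.surjective (genericPoint RL)
  obtain ⟨z₀, -, hz₀⟩ := VarDim.exists_generic_of_mem_irreducibleComponents
    (irreducibleComponent_mem_irreducibleComponents x₀)
  refine (irreducibleSpace_def _).mpr ?_
  show IsIrreducible (Set.univ : Set ↥YL)
  suffices (Set.univ : Set ↥YL) = closure {z₀} by
    rw [this]; exact isIrreducible_singleton.closure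
  refine (Set.eq_univ_of_forall fun x => ?_).symm
  obtain ⟨z, hzc, hz⟩ := VarDim.exists_generic_of_mem_irreducibleComponents
    (irreducibleComponent_mem_irreducibleComponents x)
  have hzz : z = z₀ := hinj z z₀ (hmax z hz).1 (hmax z₀ hz₀).1 ((hmax z hz).2.trans (hmax z₀ hz₀).2.symm)
  rw [← hzz, hzc]
  exact mem_irreducibleComponent


/-- Let k be a field, X a proper geometrically irreducible curve over k (proper over k, integral, of
dimension one), K/k a field extension and Y_K the normalization of the reduction of X_K (that
reduction is integral). If Y_K is smooth over K then H^0(Y_K, O) = K: the global functions of Y_K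
form a one-dimensional K-vector space. (Stated for proper X; the instance hypotheses on (X_K)_red
always hold.) -/
theorem result (k : Type u) [Field k] (X : Scheme.{u})
    [X.Over (Spec (CommRingCat.of k))] [IsIntegral X] [IsProper (X ↘ (Spec (CommRingCat.of k)))]
    [GeometricallyIrreducible (X ↘ (Spec (CommRingCat.of k)))] (hdim : topologicalKrullDim X = 1)
    (K : Type u) [Field K] [Algebra k K] [IsIntegral ((Curv2.bc k X K).nilradical).subscheme]
    [QuasiCompact ((((Curv2.bc k X K).nilradical).subscheme).fromSpecStalk (genericPoint ((Curv2.bc k X K).nilradical).subscheme))]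
    [QuasiSeparated ((((Curv2.bc k X K).nilradical).subscheme).fromSpecStalk (genericPoint ((Curv2.bc k X K).nilradical).subscheme))]
    (hsm : Smooth (Curv2.normalizationι ((Curv2.bc k X K).nilradical).subscheme ≫ ((Curv2.bc k X K).nilradical).subschemeι ≫ Curv2.bcSnd k X K)) :
    letI : (Curv2.normalization ((Curv2.bc k X K).nilradical).subscheme).Over (Spec (CommRingCat.of K)) := ⟨(Curv2.normalizationι ((Curv2.bc k X K).nilradical).subscheme ≫ ((Curv2.bc k X K).nilradical).subschemeι ≫ Curv2.bcSnd k X K)⟩
    Module.finrank K (Coh.HH (Curv2.normalization ((Curv2.bc k X K).nilradical).subscheme) (Coh.structureModule (Curv2.normalization ((Curv2.bc k X K).nilradical).subscheme)) 0) = 1 := by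
  let R := (Curv2.bc k X K).nilradical.subscheme
  let ι : R ⟶ Curv2.bc k X K := (Curv2.bc k X K).nilradical.subschemeι
  let νR := Curv2.normalizationι R
  let s := νR ≫ ι ≫ Curv2.bcSnd k X K
  letI : (Curv2.normalization R).Over (Spec (CommRingCat.of K)) := ⟨s⟩
  haveI : Smooth s := hsm
  haveI : IsProper (Curv2.bcSnd k X K) :=
    MorphismProperty.pullback_snd (X ↘ Spec (CommRingCat.of k))
      (Spec.map (CommRingCat.ofHom (algebraMap k K))) inferInstance
  haveI : IsProper s := by
    haveI : IsIntegralHom νR :=
      inferInstanceAs (IsIntegralHom (R.fromSpecStalk (genericPoint R)).fromNormalization)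
    haveI : LocallyOfFiniteType (νR ≫ ι ≫ Curv2.bcSnd k X K) :=
      (inferInstance : LocallyOfFiniteType s)
    haveI : LocallyOfFiniteType νR := locallyOfFiniteType_of_comp νR (ι ≫ Curv2.bcSnd k X K)
    haveI : IsFinite νR := (IsFinite.iff_isIntegralHom_and_locallyOfFiniteType νR).mpr ⟨‹_›, ‹_›⟩
    infer_instance
  haveI : GeometricallyReduced s := by
    refine ⟨fun L _ y Z fst snd h => ?_⟩
    haveI : Smooth snd := MorphismProperty.of_isPullback (P := @Smooth) h hsm
    exact isReduced_of_smooth_field snd
  haveI : GeometricallyConnected s := by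
    rw [geometricallyConnected_iff]
    intro L _ y Z fst snd h
    haveI : GeometricallyIrreducible (Curv2.bcSnd k X K) :=
      MorphismProperty.pullback_snd (X ↘ Spec (CommRingCat.of k))
        (Spec.map (CommRingCat.ofHom (algebraMap k K))) inferInstance
    haveI : IrreducibleSpace ↥(pullback (Curv2.bcSnd k X K) y) :=
      GeometricallyIrreducible.geometrically_irreducibleSpace y _ _ (IsPullback.of_hasPullback _ _)
    haveI : IrreducibleSpace ↥(pullback (ι ≫ Curv2.bcSnd k X K) y) := by
      let j : pullback (ι ≫ Curv2.bcSnd k X K) y ⟶ pullback (Curv2.bcSnd k X K) y :=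
        (pullbackRightPullbackFstIso (Curv2.bcSnd k X K) y ι).inv ≫ pullback.snd _ _
      haveI : Surjective ι := ⟨fun z => by
        show z ∈ Set.range ι
        rw [Scheme.IdealSheafData.range_subschemeι, Scheme.support_nilradical]
        trivial⟩
      haveI : Surjective (pullback.snd ι (pullback.fst (Curv2.bcSnd k X K) y)) :=
        MorphismProperty.pullback_snd _ _ inferInstance
      haveI : IsClosedImmersion j := inferInstance
      haveI : Surjective j := inferInstance
      have hh : IsHomeomorph j :=
        isHomeomorph_iff_isEmbedding_surjective.2 ⟨j.isEmbedding, j.surjective⟩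
      exact hh.homeomorph.irreducibleSpace_iff.2 inferInstance
    haveI := irreducibleSpace_baseChange R (ι ≫ Curv2.bcSnd k X K) y
    haveI : ConnectedSpace ↥(pullback s y) := inferInstanceAs
      (ConnectedSpace ↥(pullback (νR ≫ ι ≫ Curv2.bcSnd k X K) y))
    exact h.isoPullback.hom.homeomorph.symm.surjective.connectedSpace
      h.isoPullback.hom.homeomorph.symm.continuous
  haveI : IsProper (Curv2.normalization R ↘ Spec (CommRingCat.of K)) := ‹IsProper s›
  haveI : GeometricallyReduced (Curv2.normalization R ↘ Spec (CommRingCat.of K)) :=
    ‹GeometricallyReduced s›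
  haveI : GeometricallyConnected (Curv2.normalization R ↘ Spec (CommRingCat.of K)) :=
    ‹GeometricallyConnected s›
  exact S1536.result K (Curv2.normalization R)

end Groth.Agent.S12235
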