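import Groth.Prelude.Def_Hensel
import Groth.Prelude.Def_PBC
import Mathlib.RingTheory.LocalRing.RingHom.Basic
import Groth.Agent.Lib.Hens.IndEtale

set_option autoImplicit false
universe u
open Hensel

namespace Groth.Agent.S12236

/-- Let R be a local ring and R^h a henselization of R, characterised by its universal property
(henselian local, local structure map, initial among local homomorphisms from R to henselian local
rings). Then R^h is ind-étale over R: the R-algebra R^h is a filtered colimit, in the category of
R-algebras, of étale R-algebras. -/
theorem result (R : Type u) [CommRing R] [IsLocalRing R]
    (Rh : Type u) [CommRing Rh] [IsLocalRing Rh] [Algebra R Rh] [IsLocalHom (algebraMap R Rh)]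
    [Hensel.IsHenselization R Rh] : EtPBC.IsIndEtale R Rh := by
  exact Groth.Agent.Hens.isIndEtale_henselization R Rh

end Groth.Agent.S12236
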