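import Groth.Statements.S12242
import Groth.Agent.Lib.Dev4.OneStep

set_option autoImplicit false
universe u
open FlatMor

set_option backward.isDefEq.respectTransparency.types false

namespace Groth.Agent.S12242


theorem dvd_isUnit {R S : Type u} [CommRing R] [CommRing S] [Algebra R S] {g : R} {hX : S}
    (h : algebraMap R S g ∣ hX) : IsUnit (algebraMap R (Localization.Away hX) g) := by
  rw [IsScalarTower.algebraMap_apply R S (Localization.Away hX)]
  exact isUnit_of_dvd_unit (map_dvd _ h) (IsLocalization.Away.algebraMap_isUnit hX)

theorem awayEq_isUnit {S C : Type u} [CommRing S] [CommRing C] [Algebra S C] {hX : S} {hZ : C}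
    (h : Dev4.AwayEq (algebraMap S C hX) hZ) : IsUnit (algebraMap S (Localization.Away hZ) hX) := by
  obtain ⟨k, hk⟩ := h.1
  rw [IsScalarTower.algebraMap_apply S C (Localization.Away hZ)]
  refine isUnit_of_dvd_unit (map_dvd _ hk) ?_
  rw [map_pow]
  exact (IsLocalization.Away.algebraMap_isUnit hZ).pow k


open TensorProduct in
/-- All schemes are affine and standard opens are rendered as localizations away from one element. Let R
→ S be of finite type, N a finite S-module, p ⊆ R and q ⊆ S primes with q over p, and (C, D, G, n;
z, y) a one-step dévissage of N/S/R at q: (C, D, G, n) is a one-step dévissage over p (C a finitely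
presented quotient of S carrying a finite module G identified with N, D smooth of relative dimension
n over R with geometrically irreducible fibres, D → C finite, n the dimension of the support of N ⊗
κ(p)), z is a prime of C over q and over the prime y of D, the local dimension at q of that support
is n, z is the only prime of C over y, and κ(y)/κ(p) is purely transcendental. Then for every w ∈ D
outside y (a standard open neighbourhood D(w) of the point y) there is a standard shrinking whose
piece of Spec D is D(w) pulled back to the shrunken base: elements g ∉ p, hX ∉ q, hZ ∉ z, and ring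
and module structures making S[1/hX], C[1/hZ], D[1/wg] algebras over R[1/g], C[1/hZ] an algebra over
S[1/hX] and over D[1/wg], all compatibly with the given maps, such that (C[1/hZ], D[1/wg], G[1/hZ],
n) is a one-step dévissage of N[1/hX] over S[1/hX] relative to R[1/g] at the extended prime of q,
with the extended primes of z and y as its points (z-point over the q-point and the y-point, unique
over the y-point, purely transcendental residue field over that of pR[1/g], and local dimension n of
the fibre support at the q-point). Here wg denotes the product of w with the image of g in D. -/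
theorem result
    (R S : Type u) [CommRing R] [CommRing S] [Algebra R S] [Algebra.FiniteType R S]
    (N : Type u) [AddCommGroup N] [Module S N] [Module R N] [IsScalarTower R S N] [Module.Finite S N]
    (p : Ideal R) [p.IsPrime] (q : Ideal S) [q.IsPrime] [q.LiesOver p]
    (C D G : Type u) [CommRing C] [CommRing D] [Algebra S C] [Algebra R C] [IsScalarTower R S C]
    [Algebra R D] [Algebra D C] [IsScalarTower R D C] [AddCommGroup G] [Module C G] [Module S G]
    [IsScalarTower S C G] (n : ℕ)
    (h : FlatCA.IsOneStepDevissage R S N p C D G n)
    (z : Ideal C) [z.IsPrime] (y : Ideal D) [y.IsPrime] [z.LiesOver q] [z.LiesOver y] [y.LiesOver p]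
    (h1 : ∃ (ξ : PrimeSpectrum (p.Fiber S)) (hξ : ξ ∈ Module.support (p.Fiber S) (FlatCA.fiberMod p S N)),
      ξ.asIdeal = FlatCA.fiberIdeal p q ∧
      FlatMor.localDim (Module.support (p.Fiber S) (FlatCA.fiberMod p S N)) ⟨ξ, hξ⟩ = n)
    (h3 : ∀ (z₁ : Ideal C) [z₁.IsPrime], z₁.LiesOver y → z₁ = z)
    (h4 : FlatCA.PurelyTranscendental p y)
    (w : D) (hw : w ∉ y) :
    ∃ (g : R) (hX : S) (hZ : C), g ∉ p ∧ hX ∉ q ∧ hZ ∉ z ∧
      ∃ (_ : Algebra (Localization.Away g) (Localization.Away hX)) (_ : IsScalarTower R (Localization.Away g) (Localization.Away hX))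
        (_ : Algebra (Localization.Away g) (Localization.Away hZ)) (_ : IsScalarTower R (Localization.Away g) (Localization.Away hZ))
        (_ : Algebra (Localization.Away g) (Localization.Away (w * algebraMap R D g))) (_ : IsScalarTower R (Localization.Away g) (Localization.Away (w * algebraMap R D g)))
        (_ : Algebra (Localization.Away hX) (Localization.Away hZ)) (_ : IsScalarTower S (Localization.Away hX) (Localization.Away hZ))
        (_ : IsScalarTower (Localization.Away g) (Localization.Away hX) (Localization.Away hZ))
        (_ : Algebra (Localization.Away (w * algebraMap R D g)) (Localization.Away hZ)) (_ : IsScalarTower D (Localization.Away (w * algebraMap R D g)) (Localization.Away hZ))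
        (_ : IsScalarTower (Localization.Away g) (Localization.Away (w * algebraMap R D g)) (Localization.Away hZ))
        (_ : Module (Localization.Away g) (LocalizedModule (Submonoid.powers hX) N)) (_ : IsScalarTower (Localization.Away g) (Localization.Away hX) (LocalizedModule (Submonoid.powers hX) N))
        (_ : Module (Localization.Away hX) (LocalizedModule (Submonoid.powers hZ) G)) (_ : IsScalarTower (Localization.Away hX) (Localization.Away hZ) (LocalizedModule (Submonoid.powers hZ) G))
        (_ : (Ideal.map (algebraMap R (Localization.Away g)) p).IsPrime) (_ : (Ideal.map (algebraMap D (Localization.Away (w * algebraMap R D g))) y).IsPrime) (_ : (Ideal.map (algebraMap D (Localization.Away (w * algebraMap R D g))) y).LiesOver (Ideal.map (algebraMap R (Localization.Away g)) p)),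
        FlatCA.IsOneStepDevissage (Localization.Away g) (Localization.Away hX) (LocalizedModule (Submonoid.powers hX) N) (Ideal.map (algebraMap R (Localization.Away g)) p) (Localization.Away hZ) (Localization.Away (w * algebraMap R D g)) (LocalizedModule (Submonoid.powers hZ) G) n ∧
        (∃ (ξ : PrimeSpectrum ((Ideal.map (algebraMap R (Localization.Away g)) p).Fiber (Localization.Away hX)))
            (hξ : ξ ∈ Module.support ((Ideal.map (algebraMap R (Localization.Away g)) p).Fiber (Localization.Away hX)) (FlatCA.fiberMod (Ideal.map (algebraMap R (Localization.Away g)) p) (Localization.Away hX) (LocalizedModule (Submonoid.powers hX) N))),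
          ξ.asIdeal = FlatCA.fiberIdeal (Ideal.map (algebraMap R (Localization.Away g)) p) (Ideal.map (algebraMap S (Localization.Away hX)) q) ∧
          FlatMor.localDim (Module.support ((Ideal.map (algebraMap R (Localization.Away g)) p).Fiber (Localization.Away hX)) (FlatCA.fiberMod (Ideal.map (algebraMap R (Localization.Away g)) p) (Localization.Away hX) (LocalizedModule (Submonoid.powers hX) N))) ⟨ξ, hξ⟩ = n) ∧
        (Ideal.map (algebraMap C (Localization.Away hZ)) z).LiesOver (Ideal.map (algebraMap S (Localization.Away hX)) q) ∧ (Ideal.map (algebraMap C (Localization.Away hZ)) z).LiesOver (Ideal.map (algebraMap D (Localization.Away (w * algebraMap R D g))) y) ∧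
        (∀ (z₂ : Ideal (Localization.Away hZ)) [z₂.IsPrime], z₂.LiesOver (Ideal.map (algebraMap D (Localization.Away (w * algebraMap R D g))) y) → z₂ = Ideal.map (algebraMap C (Localization.Away hZ)) z) ∧
        FlatCA.PurelyTranscendental (Ideal.map (algebraMap R (Localization.Away g)) p) (Ideal.map (algebraMap D (Localization.Away (w * algebraMap R D g))) y) := by
  have h1y : (1 : D) ∉ y := fun h' => (inferInstance : y.IsPrime).ne_top ((Ideal.eq_top_iff_one _).2 h')
  obtain ⟨g, hX, b, hgp, hXq, hby, hgX, hgb, he, -, hbeq, hsu⟩ := Dev4.exists_oneStep_elements (z := z) (y := y) h 1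
    (fun h' => (inferInstance : q.IsPrime).ne_top ((Ideal.eq_top_iff_one _).2 h')) 1 h1y ⟨1, by simp⟩ w hw
  have hb2 : b = w * algebraMap R D g := by rw [hbeq, mul_one]
  subst hb2
  clear hbeq
  have hbyy : w * algebraMap R D g ∉ y := hby
  let R' := Localization.Away g
  let S' := Localization.Away hX
  let C' := Localization.Away (algebraMap D C (w * algebraMap R D g))
  let D' := Localization.Away (w * algebraMap R D g)
  have hbC : IsUnit (algebraMap D C' (w * algebraMap R D g)) := by
    rw [IsScalarTower.algebraMap_apply D C C']; exact IsLocalization.Away.algebraMap_isUnit _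
  letI aS : Algebra R' S' := (IsLocalization.Away.lift g (g := algebraMap R S') (dvd_isUnit hgX)).toAlgebra
  haveI tS : IsScalarTower R R' S' := IsScalarTower.of_algebraMap_eq' (IsLocalization.lift_comp _).symm
  letI aD : Algebra R' D' := (IsLocalization.Away.lift g (g := algebraMap R D') (dvd_isUnit hgb)).toAlgebra
  haveI tD : IsScalarTower R R' D' := IsScalarTower.of_algebraMap_eq' (IsLocalization.lift_comp _).symm
  letI aSC : Algebra S' C' := (IsLocalization.Away.lift hX (g := algebraMap S C') (awayEq_isUnit he)).toAlgebra
  haveI tSC : IsScalarTower S S' C' := IsScalarTower.of_algebraMap_eq' (IsLocalization.lift_comp _).symm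
  letI aDC : Algebra D' C' := (IsLocalization.Away.lift (w * algebraMap R D g) (g := algebraMap D C') hbC).toAlgebra
  haveI tDC : IsScalarTower D D' C' := IsScalarTower.of_algebraMap_eq' (IsLocalization.lift_comp _).symm
  letI aC : Algebra R' C' := Algebra.compHom _ (algebraMap R' D')
  haveI tRDC : IsScalarTower R' D' C' := IsScalarTower.of_algebraMap_eq fun _ => rfl
  haveI tC : IsScalarTower R R' C' := IsScalarTower.of_algebraMap_eq fun r => by
    rw [IsScalarTower.algebraMap_apply R' D' C', ← IsScalarTower.algebraMap_apply R R' D',
      IsScalarTower.algebraMap_apply R D D', ← IsScalarTower.algebraMap_apply D D' C',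
      IsScalarTower.algebraMap_apply D C C', ← IsScalarTower.algebraMap_apply R D C, ← IsScalarTower.algebraMap_apply]
  haveI tRSC : IsScalarTower R' S' C' := IsScalarTower.of_algebraMap_eq' (by
    refine IsLocalization.ringHom_ext (Submonoid.powers g) (RingHom.ext fun r => ?_)
    simp only [RingHom.comp_apply]
    rw [← IsScalarTower.algebraMap_apply R R' C', ← IsScalarTower.algebraMap_apply R R' S', IsScalarTower.algebraMap_apply R S S',
      ← IsScalarTower.algebraMap_apply S S' C', IsScalarTower.algebraMap_apply S C C', ← IsScalarTower.algebraMap_apply R S C,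
      ← IsScalarTower.algebraMap_apply])
  letI mN : Module R' (LocalizedModule (Submonoid.powers hX) N) := Module.compHom _ (algebraMap R' S')
  haveI tN : IsScalarTower R' S' (LocalizedModule (Submonoid.powers hX) N) :=
    IsScalarTower.of_algebraMap_smul fun _ _ => rfl
  letI mG : Module S' (LocalizedModule (Submonoid.powers (algebraMap D C (w * algebraMap R D g))) G) := Module.compHom _ (algebraMap S' C')
  haveI tG : IsScalarTower S' C' (LocalizedModule (Submonoid.powers (algebraMap D C (w * algebraMap R D g))) G) :=
    IsScalarTower.of_algebraMap_smul fun _ _ => rfl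
  have hdp : Disjoint (Submonoid.powers g : Set R) (p : Set R) :=
    (Ideal.disjoint_powers_iff_notMem_of_isPrime _).2 hgp
  have hdq : Disjoint (Submonoid.powers hX : Set S) (q : Set S) :=
    (Ideal.disjoint_powers_iff_notMem_of_isPrime _).2 hXq
  have hdy : Disjoint (Submonoid.powers (w * algebraMap R D g) : Set D) (y : Set D) :=
    (Ideal.disjoint_powers_iff_notMem_of_isPrime _).2 hbyy
  haveI hp' : (p.map (algebraMap R R')).IsPrime :=
    IsLocalization.isPrime_of_isPrime_disjoint (Submonoid.powers g) _ _ ‹_› hdp
  haveI hq' : (q.map (algebraMap S S')).IsPrime :=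
    IsLocalization.isPrime_of_isPrime_disjoint (Submonoid.powers hX) _ _ ‹_› hdq
  haveI hy' : (y.map (algebraMap D D')).IsPrime :=
    IsLocalization.isPrime_of_isPrime_disjoint (Submonoid.powers (w * algebraMap R D g)) _ _ ‹_› hdy
  have hRS : (algebraMap R' S').comp (algebraMap R R') = (algebraMap S S').comp (algebraMap R S) := by
    rw [← IsScalarTower.algebraMap_eq, ← IsScalarTower.algebraMap_eq]
  have hRD : (algebraMap R' D').comp (algebraMap R R') = (algebraMap D D').comp (algebraMap R D) := by
    rw [← IsScalarTower.algebraMap_eq, ← IsScalarTower.algebraMap_eq]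
  haveI hyo : (y.map (algebraMap D D')).LiesOver (p.map (algebraMap R R')) := ⟨by
    refine Dev4.comap_localization_inj g _ _ ?_
    show (p.map (algebraMap R R')).comap (algebraMap R R') = ((y.map (algebraMap D D')).comap (algebraMap R' D')).comap (algebraMap R R')
    rw [Ideal.comap_comap, hRD, ← Ideal.comap_comap]
    refine (IsLocalization.under_map_of_isPrime_disjoint (Submonoid.powers g) R' ‹_› hdp).trans ?_
    rw [show (y.map (algebraMap D D')).comap (algebraMap D D') = y from
      IsLocalization.under_map_of_isPrime_disjoint (Submonoid.powers (w * algebraMap R D g)) D' ‹_› hdy]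
    exact Ideal.over_def y p⟩
  have hf : IsBaseChange S' (LocalizedModule.mkLinearMap (Submonoid.powers hX) N) :=
    (isLocalizedModule_iff_isBaseChange (Submonoid.powers hX) _ _).1 inferInstance
  have hgG : IsBaseChange C' (LocalizedModule.mkLinearMap (Submonoid.powers (algebraMap D C (w * algebraMap R D g))) G) :=
    (isLocalizedModule_iff_isBaseChange (Submonoid.powers (algebraMap D C (w * algebraMap R D g))) _ _).1 inferInstance
  have H := Dev4.oneStep_loc h h1 h3 h4 hgp hXq hby he hsu R' S' C' D' hRS hRD _ _ hf _ _ hgG
  exact ⟨g, hX, algebraMap D C (w * algebraMap R D g), hgp, hXq, fun h' => hby ((Ideal.mem_of_liesOver z y _).2 h'), aS, tS, aC, tC, aD, tD, aSC, tSC, tRSC, aDC, tDC, tRDC, mN, tN, mG, tG, hp', hy', hyo, H⟩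

end Groth.Agent.S12242
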