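import Groth.Statements.S12244
import Groth.Agent.Lib.Dev4.BaseChange

set_option autoImplicit false
universe u
open FlatMor

set_option backward.isDefEq.respectTransparency.types false

namespace Groth.Agent.S12244


open TensorProduct

attribute [local instance] Algebra.TensorProduct.rightAlgebra


open TensorProduct in
/-- All schemes are affine. Let R → S be of finite type, N a finite S-module, p ⊆ R and q ⊆ S primes, 𝒟
a complete dévissage of N/S/R over p in the prelude's algebraic form and 𝒜 a datum making it a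
complete dévissage at q (primes qB_i ⊆ B_i over p with purely transcendental residue fields, unique
primes qA_i ⊆ A_i over them, threaded through q and through the maps B_i → A_{i+1}, relative
dimensions d_i of R → B_i equal to the local dimension of the fibre support of M_i at qB_i). Let R →
R' be a ring map and p' a prime over p with κ(p) → κ(p') bijective, S' the base change of S, N' = N
⊗_S S', and q' a prime of S' over q and over p'. Let 𝒟' be a complete dévissage of N'/S'/R' over p'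
of the same length whose rings A'_i, B'_i (i below the length) are base changes of A_i, B_i along R
→ R' compatibly with B_i → A_i, B_i → A_{i+1}, S → A_0 and S' → A'_0, and whose modules M'_i are
base changes of M_i along A_i → A'_i compatibly with N ≅ M_0 and N' ≅ M'_0. Assume moreover that at
every index at or beyond the length the ring B'_i has a prime over p' and A'_i a prime over that one
(the structure's families run over all natural numbers and constrain nothing at those indices, while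
a datum at a point asks for such primes at every index; the condition touches only this
unconstrained tail and holds, for instance, when the tail repeats the last genuine step — without it
the zero ring could sit there and no datum would exist). Then 𝒟' is a complete dévissage at q' with
the same relative dimensions: there is a datum 𝒜' for (𝒟', q') with d' = d whose primes qB'_i, qA'_i
lie over qB_i, qA_i for every step i below the length. -/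
theorem result
    (R S : Type u) [CommRing R] [CommRing S] [Algebra R S] [Algebra.FiniteType R S]
    (N : Type u) [AddCommGroup N] [Module S N] [Module.Finite S N]
    (p : Ideal R) [p.IsPrime] (q : Ideal S) [q.IsPrime] (𝒟 : FlatCA.CompleteDevissage R S N p)
    (𝒜 : FlatCA.CompleteDevissageAt R S N p q 𝒟)
    (R' : Type u) [CommRing R'] [Algebra R R'] (p' : Ideal R') [p'.IsPrime] [hp' : p'.LiesOver p]
    (hκ : Function.Bijective (Ideal.ResidueField.mapₐ p p' (Algebra.ofId R R') hp'.over))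
    (S' : Type u) [CommRing S'] [Algebra R' S'] [Algebra R S'] [Algebra S S'] [IsScalarTower R R' S']
    [IsScalarTower R S S'] [Algebra.IsPushout R R' S S']
    (N' : Type u) [AddCommGroup N'] [Module S' N'] [Module S N'] [IsScalarTower S S' N']
    (f : N →ₗ[S] N') (hf : IsBaseChange S' f)
    (q' : Ideal S') [q'.IsPrime] [q'.LiesOver q] [q'.LiesOver p']
    (𝒟' : FlatCA.CompleteDevissage R' S' N' p') (hn : 𝒟'.n = 𝒟.n)
    (htail : ∀ i, 𝒟.n ≤ i → ∃ (Q : Ideal (𝒟'.B i)) (P : Ideal (𝒟'.A i)),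
      Q.IsPrime ∧ P.IsPrime ∧ Q.LiesOver p' ∧ P.LiesOver Q)
    [aA : ∀ i : Fin 𝒟.n, Algebra (𝒟.A i) (𝒟'.A i)] [rA : ∀ i : Fin 𝒟.n, Algebra R (𝒟'.A i)]
      [∀ i : Fin 𝒟.n, IsScalarTower R (R') (𝒟'.A i)] [∀ i : Fin 𝒟.n, IsScalarTower R (𝒟.A i) (𝒟'.A i)]
      [aB : ∀ i : Fin 𝒟.n, Algebra (𝒟.B i) (𝒟'.B i)] [rB : ∀ i : Fin 𝒟.n, Algebra R (𝒟'.B i)]
      [∀ i : Fin 𝒟.n, IsScalarTower R (R') (𝒟'.B i)] [∀ i : Fin 𝒟.n, IsScalarTower R (𝒟.B i) (𝒟'.B i)]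
      [bA : ∀ i : Fin 𝒟.n, Algebra (𝒟.B i) (𝒟'.A i)] [∀ i : Fin 𝒟.n, IsScalarTower (𝒟.B i) (𝒟.A i) (𝒟'.A i)]
      [∀ i : Fin 𝒟.n, IsScalarTower (𝒟.B i) (𝒟'.B i) (𝒟'.A i)]
      [bA' : ∀ i : Fin 𝒟.n, Algebra (𝒟.B i) (𝒟'.A (i + 1))]
      [∀ i : Fin 𝒟.n, IsScalarTower (𝒟.B i) (𝒟'.B i) (𝒟'.A (i + 1))]
      [sA : Algebra S (𝒟'.A 0)] [IsScalarTower S (S') (𝒟'.A 0)]
      [mA : ∀ i : Fin 𝒟.n, Module (𝒟.A i) (𝒟'.M i)] [∀ i : Fin 𝒟.n, IsScalarTower (𝒟.A i) (𝒟'.A i) (𝒟'.M i)]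
      (gM : ∀ i : Fin 𝒟.n, 𝒟.M i →ₗ[𝒟.A i] 𝒟'.M i)
    (hbc : (letI := aA ⟨0, 𝒟.pos⟩; IsScalarTower S (𝒟.A 0) (𝒟'.A 0)) ∧
      (∀ x : N, 𝒟'.isoN (f x) = gM ⟨0, 𝒟.pos⟩ (𝒟.isoN x)) ∧
      (∀ (i : Fin 𝒟.n) (h : (i : ℕ) + 1 < 𝒟.n),
        letI := aA ⟨i + 1, h⟩; IsScalarTower (𝒟.B i) (𝒟.A (i + 1)) (𝒟'.A (i + 1))) ∧
      ∀ i : Fin 𝒟.n,
        Algebra.IsPushout R R' (𝒟.A i) (𝒟'.A i) ∧ Algebra.IsPushout R R' (𝒟.B i) (𝒟'.B i) ∧
        IsBaseChange (𝒟'.A i) (gM i)) :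
    ∃ 𝒜' : FlatCA.CompleteDevissageAt R' S' N' p' q' 𝒟', 𝒜'.d = 𝒜.d ∧
      ∀ i : Fin 𝒟.n, (𝒜'.qB i).LiesOver (𝒜.qB i) ∧ (𝒜'.qA i).LiesOver (𝒜.qA i) := by
  classical
  obtain ⟨hS, -, hstep, hi⟩ := hbc
  have T1 := ‹∀ i : Fin 𝒟.n, IsScalarTower R R' (𝒟'.A i)›
  have T2 := ‹∀ i : Fin 𝒟.n, IsScalarTower R (𝒟.A i) (𝒟'.A i)›
  have T3 := ‹∀ i : Fin 𝒟.n, IsScalarTower R R' (𝒟'.B i)›
  have T4 := ‹∀ i : Fin 𝒟.n, IsScalarTower R (𝒟.B i) (𝒟'.B i)›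
  haveI hqp : q.LiesOver p := by
    haveI : q'.LiesOver p := Ideal.LiesOver.trans q' p' p
    exact Ideal.LiesOver.tower_bot q' q p
  have hex : ∀ i : ℕ, ∃ (Q : Ideal (𝒟'.B i)) (P : Ideal (𝒟'.A i)),
      Q.IsPrime ∧ P.IsPrime ∧ Q.LiesOver p' ∧ P.LiesOver Q ∧
      ∀ h : i < 𝒟.n, letI := aA ⟨i, h⟩; letI := aB ⟨i, h⟩;
        Q.LiesOver (𝒜.qB i) ∧ P.LiesOver (𝒜.qA i) := by
    intro i
    by_cases h : i < 𝒟.n
    · skip
      letI := rA ⟨i, h⟩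
      letI := rB ⟨i, h⟩
      letI := aA ⟨i, h⟩
      letI := aB ⟨i, h⟩
      haveI := T1 ⟨i, h⟩
      haveI := T2 ⟨i, h⟩
      haveI := T3 ⟨i, h⟩
      haveI := T4 ⟨i, h⟩
      haveI := (hi ⟨i, h⟩).1
      haveI := (hi ⟨i, h⟩).2.1
      haveI := 𝒜.hqA i
      haveI := 𝒜.hqB i
      haveI := 𝒜.overA i
      haveI := 𝒜.overB i
      haveI : (𝒜.qA i).LiesOver p := Ideal.LiesOver.trans (𝒜.qA i) (𝒜.qB i) p
      letI := aA ⟨i, h⟩
      letI := aB ⟨i, h⟩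
      obtain ⟨P, hP, hPp, hPz⟩ := Dev4.exists_prime_over (B := 𝒟.A i) (B' := 𝒟'.A i) hκ (𝒜.qA i)
      refine ⟨P.comap (algebraMap (𝒟'.B i) (𝒟'.A i)), P, inferInstance, hP, ?_, ⟨rfl⟩, fun _ => ⟨?_, hPz⟩⟩
      · haveI : P.LiesOver (P.comap (algebraMap (𝒟'.B i) (𝒟'.A i))) := ⟨rfl⟩
        exact Ideal.LiesOver.tower_bot P _ p'
      · haveI : P.LiesOver (P.comap (algebraMap (𝒟'.B i) (𝒟'.A i))) := ⟨rfl⟩
        letI := bA ⟨i, h⟩
        haveI : IsScalarTower (𝒟.B i) (𝒟.A i) (𝒟'.A i) := ‹∀ i : Fin 𝒟.n, IsScalarTower (𝒟.B i) (𝒟.A i) (𝒟'.A i)› ⟨i, h⟩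
        haveI : IsScalarTower (𝒟.B i) (𝒟'.B i) (𝒟'.A i) := ‹∀ i : Fin 𝒟.n, IsScalarTower (𝒟.B i) (𝒟'.B i) (𝒟'.A i)› ⟨i, h⟩
        haveI : P.LiesOver (𝒜.qB i) := Ideal.LiesOver.trans P (𝒜.qA i) (𝒜.qB i)
        exact Ideal.LiesOver.tower_bot P _ (𝒜.qB i)
    · obtain ⟨Q, P, hQ, hP, hQp, hPQ⟩ := htail i (not_lt.1 h)
      exact ⟨Q, P, hQ, hP, hQp, hPQ, fun h' => absurd h' h⟩
  choose Q P hQ hP hQp hPQ hover using hex
  have hPp : ∀ i, (P i).LiesOver p' := fun i => by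
    haveI := hPQ i; haveI := hQp i; exact Ideal.LiesOver.trans (P i) (Q i) p'
  have huniq : ∀ i, i < 𝒟'.n → ∀ (X : Ideal (𝒟'.A i)) [X.IsPrime], X.LiesOver (Q i) → X = P i := by
    intro i hi' X _ hX
    have h : i < 𝒟.n := hn ▸ hi'
    letI := rA ⟨i, h⟩
    letI := rB ⟨i, h⟩
    letI := aA ⟨i, h⟩
    letI := aB ⟨i, h⟩
    haveI := T1 ⟨i, h⟩
    haveI := T2 ⟨i, h⟩
    haveI := T3 ⟨i, h⟩
    haveI := T4 ⟨i, h⟩
    haveI := (hi ⟨i, h⟩).1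
    haveI := hQ i
    haveI := hP i
    haveI := hPp i
    haveI := hQp i
    haveI := 𝒜.hqA i
    haveI := 𝒜.hqB i
    letI := aA ⟨i, h⟩
    letI := aB ⟨i, h⟩
    letI := bA ⟨i, h⟩
    haveI : IsScalarTower (𝒟.B i) (𝒟.A i) (𝒟'.A i) := ‹∀ i : Fin 𝒟.n, IsScalarTower (𝒟.B i) (𝒟.A i) (𝒟'.A i)› ⟨i, h⟩
    haveI : IsScalarTower (𝒟.B i) (𝒟'.B i) (𝒟'.A i) := ‹∀ i : Fin 𝒟.n, IsScalarTower (𝒟.B i) (𝒟'.B i) (𝒟'.A i)› ⟨i, h⟩
    haveI : X.LiesOver p' := Ideal.LiesOver.trans X (Q i) p'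
    haveI := (hover i h).1
    haveI : X.LiesOver (𝒜.qB i) := Ideal.LiesOver.trans X (Q i) (𝒜.qB i)
    refine Dev4.prime_ext (B := 𝒟.A i) hκ X (P i) ?_
    haveI hX' : (X.comap (algebraMap (𝒟.A i) (𝒟'.A i))).LiesOver (𝒜.qB i) := ⟨by
      rw [Ideal.under_def, Ideal.comap_comap, ← IsScalarTower.algebraMap_eq]; exact Ideal.over_def X (𝒜.qB i)⟩
    rw [show (P i).comap (algebraMap (𝒟.A i) (𝒟'.A i)) = 𝒜.qA i from (hover i h).2.over.symm]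
    exact 𝒜.uniq i h _ hX'
  have hq0 : (P 0).comap (algebraMap S' (𝒟'.A 0)) = q' := by
    haveI := hP 0
    haveI := hPp 0
    haveI : ((P 0).comap (algebraMap S' (𝒟'.A 0))).LiesOver p' :=
      haveI : (P 0).LiesOver ((P 0).comap (algebraMap S' (𝒟'.A 0))) := ⟨rfl⟩
      Ideal.LiesOver.tower_bot (P 0) _ p'
    refine Dev4.prime_ext (B := S) hκ _ q' ?_
    letI := aA ⟨0, 𝒟.pos⟩
    haveI := hS
    rw [Ideal.comap_comap, ← IsScalarTower.algebraMap_eq, show q'.comap (algebraMap S S') = q from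
      (‹q'.LiesOver q›).over.symm, IsScalarTower.algebraMap_eq S (𝒟.A 0) (𝒟'.A 0), ← Ideal.comap_comap,
      show (P 0).comap (algebraMap (𝒟.A 0) (𝒟'.A 0)) = 𝒜.qA 0 from (hover 0 𝒟.pos).2.over.symm, 𝒜.q0]
  have hqStep : ∀ i, i + 1 < 𝒟'.n → (P (i + 1)).comap (algebraMap (𝒟'.B i) (𝒟'.A (i + 1))) = Q i := by
    intro i hi'
    have h : i + 1 < 𝒟.n := hn ▸ hi'
    have h' : i < 𝒟.n := by omega
    letI := rA ⟨i, h'⟩
    letI := rB ⟨i, h'⟩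
    letI := aA ⟨i, h'⟩
    letI := aB ⟨i, h'⟩
    haveI := T1 ⟨i, h'⟩
    haveI := T2 ⟨i, h'⟩
    haveI := T3 ⟨i, h'⟩
    haveI := T4 ⟨i, h'⟩
    haveI := (hi ⟨i, h'⟩).2.1
    haveI := hP (i + 1)
    haveI := hPp (i + 1)
    haveI := hQ i
    haveI := hQp i
    haveI : ((P (i + 1)).comap (algebraMap (𝒟'.B i) (𝒟'.A (i + 1)))).LiesOver p' :=
      haveI : (P (i + 1)).LiesOver ((P (i + 1)).comap (algebraMap (𝒟'.B i) (𝒟'.A (i + 1)))) := ⟨rfl⟩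
      Ideal.LiesOver.tower_bot (P (i + 1)) _ p'
    letI := aB ⟨i, h'⟩
    letI := aA ⟨i + 1, h⟩
    letI := bA' ⟨i, h'⟩
    haveI : IsScalarTower (𝒟.B i) (𝒟'.B i) (𝒟'.A (i + 1)) :=
      ‹∀ i : Fin 𝒟.n, IsScalarTower (𝒟.B i) (𝒟'.B i) (𝒟'.A (i + 1))› ⟨i, h'⟩
    haveI : IsScalarTower (𝒟.B i) (𝒟.A (i + 1)) (𝒟'.A (i + 1)) := hstep ⟨i, h'⟩ h
    refine Dev4.prime_ext (B := 𝒟.B i) hκ _ (Q i) ?_
    rw [Ideal.comap_comap, ← IsScalarTower.algebraMap_eq, IsScalarTower.algebraMap_eq (𝒟.B i) (𝒟.A (i + 1)) (𝒟'.A (i + 1)),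
      ← Ideal.comap_comap, show (P (i + 1)).comap (algebraMap (𝒟.A (i + 1)) (𝒟'.A (i + 1))) = 𝒜.qA (i + 1) from
      (hover (i + 1) h).2.over.symm, 𝒜.qStep i h]
    exact (hover i h').1.over
  have hpure : ∀ i, i < 𝒟'.n → (letI := hQ i; letI := hQp i; FlatCA.PurelyTranscendental p' (Q i)) := by
    intro i hi'
    have h : i < 𝒟.n := hn ▸ hi'
    letI := rA ⟨i, h⟩
    letI := rB ⟨i, h⟩
    letI := aA ⟨i, h⟩
    letI := aB ⟨i, h⟩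
    haveI := T1 ⟨i, h⟩
    haveI := T2 ⟨i, h⟩
    haveI := T3 ⟨i, h⟩
    haveI := T4 ⟨i, h⟩
    haveI := (hi ⟨i, h⟩).2.1
    haveI := 𝒜.hqB i
    haveI := 𝒜.overB i
    haveI := hQ i
    haveI := hQp i
    letI := aB ⟨i, h⟩
    haveI := (hover i h).1
    exact Dev4.pureTrans_bc (B := 𝒟.B i) hκ (𝒜.qB i) (Q i) (𝒜.pureTrans i h)
  have hrel : ∀ i, i < 𝒟'.n → FlatCA.SmoothRelDim (𝒜.d i) R' (𝒟'.B i) := by
    intro i hi'
    have h : i < 𝒟.n := hn ▸ hi'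
    letI := rA ⟨i, h⟩
    letI := rB ⟨i, h⟩
    letI := aA ⟨i, h⟩
    letI := aB ⟨i, h⟩
    haveI := T1 ⟨i, h⟩
    haveI := T2 ⟨i, h⟩
    haveI := T3 ⟨i, h⟩
    haveI := T4 ⟨i, h⟩
    haveI := (hi ⟨i, h⟩).2.1
    letI := aB ⟨i, h⟩
    exact Dev4.smoothRelDim_bc (R := R) (B := 𝒟.B i) (𝒜.relDim i h)
  have hloc : ∀ i, i < 𝒟'.n → ∃ (x : PrimeSpectrum (p'.Fiber (𝒟'.B i)))
      (hx : x ∈ Module.support (p'.Fiber (𝒟'.B i)) (FlatCA.fiberMod p' (𝒟'.B i) (𝒟'.M i))),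
      x.asIdeal = FlatCA.fiberIdeal p' (Q i) ∧
      FlatMor.localDim (Module.support (p'.Fiber (𝒟'.B i)) (FlatCA.fiberMod p' (𝒟'.B i) (𝒟'.M i))) ⟨x, hx⟩ = 𝒜.d i := by
    intro i hi'
    have h : i < 𝒟.n := hn ▸ hi'
    letI := rA ⟨i, h⟩
    letI := rB ⟨i, h⟩
    letI := aA ⟨i, h⟩
    letI := aB ⟨i, h⟩
    haveI := T1 ⟨i, h⟩
    haveI := T2 ⟨i, h⟩
    haveI := T3 ⟨i, h⟩
    haveI := T4 ⟨i, h⟩
    obtain ⟨hpA, hpB, hg⟩ := hi ⟨i, h⟩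
    haveI := 𝒜.hqB i
    haveI := 𝒜.overB i
    haveI := hQ i
    haveI := hQp i
    letI := aA ⟨i, h⟩
    letI := aB ⟨i, h⟩
    letI := rA ⟨i, h⟩
    letI := rB ⟨i, h⟩
    letI := bA ⟨i, h⟩
    letI := mA ⟨i, h⟩
    haveI := (hover i h).1
    haveI : Algebra.IsPushout R R' (𝒟.A i) (𝒟'.A i) := hpA
    haveI : Algebra.IsPushout R R' (𝒟.B i) (𝒟'.B i) := hpB
    haveI : IsScalarTower (𝒟.B i) (𝒟.A i) (𝒟'.A i) := ‹∀ i : Fin 𝒟.n, IsScalarTower (𝒟.B i) (𝒟.A i) (𝒟'.A i)› ⟨i, h⟩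
    haveI : IsScalarTower (𝒟.B i) (𝒟'.B i) (𝒟'.A i) := ‹∀ i : Fin 𝒟.n, IsScalarTower (𝒟.B i) (𝒟'.B i) (𝒟'.A i)› ⟨i, h⟩
    haveI : IsScalarTower (𝒟.A i) (𝒟'.A i) (𝒟'.M i) := ‹∀ i : Fin 𝒟.n, IsScalarTower (𝒟.A i) (𝒟'.A i) (𝒟'.M i)› ⟨i, h⟩
    haveI : Algebra.IsPushout (𝒟.B i) (𝒟'.B i) (𝒟.A i) (𝒟'.A i) := by
      haveI hD : Algebra.IsPushout R (𝒟.B i) R' (𝒟'.B i) := .symm hpB
      haveI hC : Algebra.IsPushout R (𝒟.A i) R' (𝒟'.A i) := .symm hpA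
      haveI : IsScalarTower R R' (𝒟'.A i) := ‹∀ i : Fin 𝒟.n, IsScalarTower R R' (𝒟'.A i)› ⟨i, h⟩
      haveI : IsScalarTower R R' (𝒟'.B i) := ‹∀ i : Fin 𝒟.n, IsScalarTower R R' (𝒟'.B i)› ⟨i, h⟩
      haveI : IsScalarTower R (𝒟.A i) (𝒟'.A i) := ‹∀ i : Fin 𝒟.n, IsScalarTower R (𝒟.A i) (𝒟'.A i)› ⟨i, h⟩
      haveI : IsScalarTower R (𝒟'.B i) (𝒟'.A i) := IsScalarTower.of_algebraMap_eq fun r => by
        rw [IsScalarTower.algebraMap_apply R R' (𝒟'.B i), ← IsScalarTower.algebraMap_apply R' (𝒟'.B i),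
          ← IsScalarTower.algebraMap_apply]
      haveI : IsScalarTower R (𝒟.B i) (𝒟'.A i) := IsScalarTower.of_algebraMap_eq fun r => by
        rw [IsScalarTower.algebraMap_apply (𝒟.B i) (𝒟.A i), ← IsScalarTower.algebraMap_apply R (𝒟.B i) (𝒟.A i),
          ← IsScalarTower.algebraMap_apply]
      exact ((Algebra.IsPushout.comp_iff R (𝒟.B i) R' (𝒟'.B i)).1 hC).symm
    letI : Module (𝒟.B i) (𝒟'.M i) := Module.compHom _ (algebraMap (𝒟.B i) (𝒟.A i))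
    haveI : IsScalarTower (𝒟.B i) (𝒟.A i) (𝒟'.M i) := IsScalarTower.of_algebraMap_smul fun _ _ => rfl
    haveI : IsScalarTower (𝒟.B i) (𝒟'.B i) (𝒟'.M i) := IsScalarTower.of_algebraMap_smul fun b x => by
      show algebraMap (𝒟.B i) (𝒟'.B i) b • x = algebraMap (𝒟.B i) (𝒟.A i) b • x
      rw [← algebraMap_smul (𝒟'.A i) (algebraMap (𝒟.B i) (𝒟'.B i) b) x, ← algebraMap_smul (𝒟'.A i) (algebraMap (𝒟.B i) (𝒟.A i) b) x,
        ← IsScalarTower.algebraMap_apply, ← IsScalarTower.algebraMap_apply]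
    haveI := 𝒟.finiteBA i h
    haveI := 𝒟.finiteM i h
    haveI : Module.Finite (𝒟.B i) (𝒟.M i) := Module.Finite.trans (𝒟.A i) (𝒟.M i)
    exact Dev4.locDim_bc (B := 𝒟.B i) hκ ((gM ⟨i, h⟩).restrictScalars (𝒟.B i))
      (Dev4.isBaseChange_restrict _ hg) (𝒜.qB i) (Q i) (𝒜.d i) (𝒜.locDim i h)
  exact ⟨{ qB := Q, qA := P, hqB := hQ, hqA := hP, overB := hQp, overA := hPQ, pureTrans := hpure, uniq := huniq,
           q0 := hq0, qStep := hqStep, d := 𝒜.d, relDim := hrel, locDim := hloc }, rfl,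
    fun i => hover i i.2⟩

end Groth.Agent.S12244
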