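import Groth.Statements.S12245
import Groth.Agent.Lib.Dev4.OneStep
import Groth.Agent.Lib.Dev4.EtaleStep

set_option autoImplicit false
universe u
open FlatMor

set_option backward.isDefEq.respectTransparency.types false

namespace Groth.Agent.S12245


attribute [local instance] Algebra.TensorProduct.rightAlgebra


open TensorProduct AlgebraicGeometry in
/-- All schemes are affine. Let R → S be of finite type, N a finite S-module, p ⊆ R and q ⊆ S primes
with q over p, and (C, D, G, n; z, y) a one-step dévissage of N/S/R at q (one-step dévissage over p;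
z a prime of C over q and over the prime y of D, unique over y; κ(y)/κ(p) purely transcendental;
local dimension of the fibre support at q equal to n). Let (R, p) → (R', p') and (D, y) → (D', y')
be elementary étale ring maps at those primes (étale, prime over prime, trivial residue field
extension) with D' an R'-algebra compatibly with D and R, and y' over p'. Then there are: an
elementary étale ring map (R', p') → (R'', p''); an R''-algebra D'' which is an affine open of the
base change of D' to R'' (an open immersion on spectra out of a pushout T of D' along R' → R''),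
compatibly with D' and R'', with a prime y'' over y' and over p''; the base change C'' of C along D
→ D'' with a prime z'' over z and y'' and the base change G'' of G to C''; an elementary étale ring
map (S, q) → (S'', q'') with S'' an R''-algebra compatibly with R → S and a surjection S'' → C''
compatible with S → C and with D'' → C'' over R'', z'' lying over q''; and the base change N'' of N
to S'' — such that (C'', D'', G'', n; z'', y'') is a one-step dévissage of N''/S''/R'' at q''
(including the four pointed conditions). -/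
theorem result
    (R S : Type u) [CommRing R] [CommRing S] [Algebra R S] [Algebra.FiniteType R S]
    (N : Type u) [AddCommGroup N] [Module S N] [Module R N] [IsScalarTower R S N] [Module.Finite S N]
    (p : Ideal R) [p.IsPrime] (q : Ideal S) [q.IsPrime] [q.LiesOver p]
    (C D G : Type u) [CommRing C] [CommRing D] [Algebra S C] [Algebra R C] [IsScalarTower R S C]
    [Algebra R D] [Algebra D C] [IsScalarTower R D C] [AddCommGroup G] [Module C G] [Module S G]
    [IsScalarTower S C G] (n : ℕ)
    (h : FlatCA.IsOneStepDevissage R S N p C D G n)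
    (z : Ideal C) [z.IsPrime] (y : Ideal D) [y.IsPrime] [z.LiesOver q] [z.LiesOver y] [y.LiesOver p]
    (h1 : ∃ (ξ : PrimeSpectrum (p.Fiber S)) (hξ : ξ ∈ Module.support (p.Fiber S) (FlatCA.fiberMod p S N)),
      ξ.asIdeal = FlatCA.fiberIdeal p q ∧
      FlatMor.localDim (Module.support (p.Fiber S) (FlatCA.fiberMod p S N)) ⟨ξ, hξ⟩ = n)
    (h3 : ∀ (z₁ : Ideal C) [z₁.IsPrime], z₁.LiesOver y → z₁ = z)
    (h4 : FlatCA.PurelyTranscendental p y)
    (R' : Type u) [CommRing R'] [Algebra R R'] (p' : Ideal R') [p'.IsPrime] (hR' : FlatCA.IsEtaleNhd R R' p p')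
    (D' : Type u) [CommRing D'] [Algebra D D'] [Algebra R' D'] [Algebra R D'] [IsScalarTower R R' D']
    [IsScalarTower R D D'] (y' : Ideal D') [y'.IsPrime] (hD' : FlatCA.IsEtaleNhd D D' y y') [y'.LiesOver p'] :
    ∃ (R'' : Type u) (_ : CommRing R'') (_ : Algebra R' R'') (_ : Algebra R R'') (_ : IsScalarTower R R' R'')
      (p'' : Ideal R'') (_ : p''.IsPrime),
      FlatCA.IsEtaleNhd R' R'' p' p'' ∧
    ∃ (T : Type u) (_ : CommRing T) (_ : Algebra R' T) (_ : Algebra R'' T) (_ : Algebra D' T)
      (_ : IsScalarTower R' R'' T) (_ : IsScalarTower R' D' T),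
      Algebra.IsPushout R' R'' D' T ∧
    ∃ (D'' : Type u) (_ : CommRing D'') (_ : Algebra T D'') (_ : Algebra D' D'') (_ : Algebra R'' D'')
      (_ : Algebra D D'') (_ : Algebra R D'') (_ : IsScalarTower D' T D'') (_ : IsScalarTower R'' T D'')
      (_ : IsScalarTower D D' D'') (_ : IsScalarTower R R'' D'') (_ : IsScalarTower R D D'')
      (y'' : Ideal D'') (_ : y''.IsPrime) (_ : y''.LiesOver y') (_ : y''.LiesOver p''),
      IsOpenImmersion (Spec.map (CommRingCat.ofHom (algebraMap T D''))) ∧
    ∃ (C'' : Type u) (_ : CommRing C'') (_ : Algebra C C'') (_ : Algebra D'' C'') (_ : Algebra D C'')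
      (_ : Algebra R'' C'') (_ : IsScalarTower D D'' C'') (_ : IsScalarTower D C C'') (_ : IsScalarTower R'' D'' C'')
      (z'' : Ideal C'') (_ : z''.IsPrime) (_ : z''.LiesOver z) (_ : z''.LiesOver y''),
      Algebra.IsPushout D D'' C C'' ∧
    ∃ (G'' : Type u) (_ : AddCommGroup G'') (_ : Module C'' G'') (_ : Module C G'') (_ : IsScalarTower C C'' G'')
      (gG : G →ₗ[C] G''), IsBaseChange C'' gG ∧
    ∃ (S'' : Type u) (_ : CommRing S'') (_ : Algebra S S'') (_ : Algebra R'' S'') (_ : Algebra R S'')
      (_ : IsScalarTower R S S'') (_ : IsScalarTower R R'' S'') (q'' : Ideal S'') (_ : q''.IsPrime)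
      (_ : Algebra S'' C'') (_ : Algebra S C'') (_ : IsScalarTower S S'' C'') (_ : IsScalarTower S C C'')
      (_ : IsScalarTower R'' S'' C'') (_ : Module S'' G'') (_ : IsScalarTower S'' C'' G''),
      FlatCA.IsEtaleNhd S S'' q q'' ∧ z''.LiesOver q'' ∧
    ∃ (N'' : Type u) (_ : AddCommGroup N'') (_ : Module S'' N'') (_ : Module S N'') (_ : IsScalarTower S S'' N'')
      (_ : Module R'' N'') (_ : IsScalarTower R'' S'' N'') (gN : N →ₗ[S] N''), IsBaseChange S'' gN ∧
      FlatCA.IsOneStepDevissage R'' S'' N'' p'' C'' D'' G'' n ∧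
      (∃ (ξ : PrimeSpectrum (p''.Fiber S'')) (hξ : ξ ∈ Module.support (p''.Fiber S'') (FlatCA.fiberMod p'' S'' N'')),
        ξ.asIdeal = FlatCA.fiberIdeal p'' q'' ∧
        FlatMor.localDim (Module.support (p''.Fiber S'') (FlatCA.fiberMod p'' S'' N'')) ⟨ξ, hξ⟩ = n) ∧
      (∀ (z₂ : Ideal C'') [z₂.IsPrime], z₂.LiesOver y'' → z₂ = z'') ∧
      FlatCA.PurelyTranscendental p'' y'' := by
  obtain ⟨⟨e⟩, hsurj, hfp, hfin, hG, hsm, -, -⟩ := h
  haveI := hfp
  haveI := hfin
  haveI := hG
  obtain ⟨heR, hlR, hκR⟩ := id hR'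
  obtain ⟨heD, hlD, hκD⟩ := id hD'
  haveI := heR
  haveI := hlR
  haveI := heD
  haveI := hlD
  have hrel' : FlatCA.SmoothRelDim n R' D' := Dev4.smoothRelDim_of_etale_base n hsm
  haveI : Algebra.Smooth R' D' := Dev4.smooth_of_relDim hrel'
  have hpt' : FlatCA.PurelyTranscendental p' y' := by
    refine Dev4.pureTrans_transfer ?_ p p' y y' hκR hκD h4
    rw [← IsScalarTower.algebraMap_eq, ← IsScalarTower.algebraMap_eq]
  obtain ⟨R'', _, _, p'', _, y₁, _, d, hnR, hy₁p, hy₁y, hd, hgi⟩ := Dev4.exists_geomIntegral_basic p' y' hpt'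
  obtain ⟨heR'', hlR'', hκR''⟩ := id hnR
  haveI := heR''
  haveI := hlR''
  haveI := hy₁p
  haveI := hy₁y
  letI aRR'' : Algebra R R'' := Algebra.compHom R'' (algebraMap R R')
  haveI tRR'' : IsScalarTower R R' R'' := IsScalarTower.of_algebraMap_eq fun _ => rfl
  have hnRR : FlatCA.IsEtaleNhd R R'' p p'' := Dev4.isEtaleNhd_trans p p' p'' hR' hnR
  haveI : Algebra.Etale R R'' := hnRR.1
  haveI : p''.LiesOver p := hnRR.2.1
  let T := R'' ⊗[R'] D'
  let D'' := Localization.Away d
  have hdd : Disjoint (Submonoid.powers d : Set T) (y₁ : Set T) := (Ideal.disjoint_powers_iff_notMem_of_isPrime _).2 hd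
  let y'' : Ideal D'' := y₁.map (algebraMap T D'')
  haveI hy'' : y''.IsPrime := IsLocalization.isPrime_of_isPrime_disjoint (Submonoid.powers d) _ _ ‹_› hdd
  haveI hy''₁ : y''.LiesOver y₁ :=
    ⟨(IsLocalization.under_map_of_isPrime_disjoint (Submonoid.powers d) _ ‹_› hdd).symm⟩
  haveI hy''y' : y''.LiesOver y' := Ideal.LiesOver.trans y'' y₁ y'
  haveI hy''p : y''.LiesOver p'' := Ideal.LiesOver.trans y'' y₁ p''
  letI aDD'' : Algebra D D'' := Algebra.compHom D'' (algebraMap D D')
  haveI tDD'' : IsScalarTower D D' D'' := IsScalarTower.of_algebraMap_eq fun _ => rfl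
  haveI tRR''D'' : IsScalarTower R R'' D'' := inferInstance
  haveI tRDD'' : IsScalarTower R D D'' := IsScalarTower.of_algebraMap_eq fun r => by
    rw [IsScalarTower.algebraMap_apply D D' D'', ← IsScalarTower.algebraMap_apply R D D',
      IsScalarTower.algebraMap_apply R R'' D'', IsScalarTower.algebraMap_apply R R' R'',
      ← IsScalarTower.algebraMap_apply R' R'' D'', IsScalarTower.algebraMap_apply R R' D',
      ← IsScalarTower.algebraMap_apply R' D' D'']
  have hnD : FlatCA.IsEtaleNhd D D'' y y'' :=
    Dev4.isEtaleNhd_trans y y' y'' hD' (Dev4.isEtaleNhd_trans y' y₁ y''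
      (Dev4.isEtaleNhd_bc hnR y' y₁) (Dev4.isEtaleNhd_away d y₁ y''))
  obtain ⟨heDD, hlDD, hκDD⟩ := id hnD
  haveI := heDD
  haveI := hlDD
  let C'' := D'' ⊗[D] C
  obtain ⟨z'', hz'', hz''y, hz''z⟩ := Dev4.exists_prime_over (B := C) (B' := C'') hκDD z
  haveI := hz''y
  haveI := hz''z
  haveI : Algebra.IsPushout D D'' C C'' := inferInstance
  have hnC : FlatCA.IsEtaleNhd C C'' z z'' := Dev4.isEtaleNhd_bc hnD z z''
  haveI : Algebra.Etale C C'' := hnC.1
  haveI tR''DC : IsScalarTower R'' D'' C'' := inferInstance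
  haveI tRR''C : IsScalarTower R R'' C'' := inferInstance
  haveI tRCC : IsScalarTower R C C'' := IsScalarTower.of_algebraMap_eq fun r => by
    rw [IsScalarTower.algebraMap_apply R D C, ← IsScalarTower.algebraMap_apply D C C'',
      IsScalarTower.algebraMap_apply D D'' C'', ← IsScalarTower.algebraMap_apply R D D'',
      ← IsScalarTower.algebraMap_apply R D'' C'']
  obtain ⟨E, _, φS, φR, θ, hφS, hRS, hθ, hker, hθS, hθR⟩ :=
    Dev4.exists_etale_lift_over (R := R) (S := S) (C := C) (R'' := R'') (C'' := C'') hsurj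
  letI aSE : Algebra S E := φS.toAlgebra
  letI aR''E : Algebra R'' E := φR.toAlgebra
  letI aRE : Algebra R E := Algebra.compHom E (algebraMap R S)
  haveI tRSE : IsScalarTower R S E := IsScalarTower.of_algebraMap_eq fun _ => rfl
  haveI tRR''E : IsScalarTower R R'' E := IsScalarTower.of_algebraMap_eq' hRS
  letI aEC : Algebra E C'' := θ.toAlgebra
  letI aSC'' : Algebra S C'' := Algebra.compHom C'' (algebraMap S C)
  haveI tSCC : IsScalarTower S C C'' := IsScalarTower.of_algebraMap_eq fun _ => rfl
  haveI tSEC : IsScalarTower S E C'' := IsScalarTower.of_algebraMap_eq' hθS.symm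
  haveI tR''EC : IsScalarTower R'' E C'' := IsScalarTower.of_algebraMap_eq' hθR.symm
  haveI : Algebra.Etale S E := RingHom.etale_algebraMap.1 hφS
  haveI hpS : Algebra.IsPushout S E C C'' := Dev4.isPushout_of_surjective hsurj hθ hker
  let q'' : Ideal E := z''.comap (algebraMap E C'')
  haveI hz''q : z''.LiesOver q'' := ⟨rfl⟩
  haveI hq''q : q''.LiesOver q := ⟨by
    show q = (z''.comap (algebraMap E C'')).comap (algebraMap S E)
    rw [Ideal.comap_comap, ← IsScalarTower.algebraMap_eq, IsScalarTower.algebraMap_eq S C C'', ← Ideal.comap_comap,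
      show z''.comap (algebraMap C C'') = z from hz''z.over.symm]
    exact Ideal.over_def z q⟩
  haveI hq''p : q''.LiesOver p'' := ⟨by
    show p'' = (z''.comap (algebraMap E C'')).comap (algebraMap R'' E)
    rw [Ideal.comap_comap, ← IsScalarTower.algebraMap_eq, IsScalarTower.algebraMap_eq R'' D'' C'', ← Ideal.comap_comap,
      show z''.comap (algebraMap D'' C'') = y'' from hz''y.over.symm]
    exact hy''p.over⟩
  have hqz : Function.Bijective (Ideal.ResidueField.map q z (algebraMap S C) (Ideal.over_def z q)) :=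
    (RingHom.surjectiveOnStalks_of_surjective hsurj).residueFieldMap_bijective q z _
  have hnS : FlatCA.IsEtaleNhd S E q q'' := by
    refine ⟨inferInstance, hq''q, RingHom.injective _, fun w => ?_⟩
    obtain ⟨v, hv⟩ := (hnC.2.2.comp hqz).2 (Ideal.ResidueField.map q'' z'' (algebraMap E C'') rfl w)
    refine ⟨v, (Ideal.ResidueField.map q'' z'' (algebraMap E C'') rfl).injective ?_⟩
    rw [← hv]
    have hcomp := Ideal.ResidueField.ringHom_ext (I := q)
      (f := (Ideal.ResidueField.map q'' z'' (algebraMap E C'') rfl).comp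
        (Ideal.ResidueField.mapₐ q q'' (Algebra.ofId S E) hq''q.over).toRingHom)
      (g := (Ideal.ResidueField.mapₐ z z'' (Algebra.ofId C C'') hnC.2.1.over).toRingHom.comp
        (Ideal.ResidueField.map q z (algebraMap S C) (Ideal.over_def z q))) (RingHom.ext fun s => by
        show Ideal.ResidueField.map q'' z'' (algebraMap E C'') rfl (Ideal.ResidueField.mapₐ q q'' (Algebra.ofId S E) _ (algebraMap S q.ResidueField s)) =
          Ideal.ResidueField.mapₐ z z'' (Algebra.ofId C C'') _ (Ideal.ResidueField.map q z (algebraMap S C) _ (algebraMap S q.ResidueField s))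
        rw [AlgHom.commutes, Ideal.ResidueField.map_algebraMap, AlgHom.commutes, IsScalarTower.algebraMap_apply S E q''.ResidueField,
          Ideal.ResidueField.map_algebraMap, ← IsScalarTower.algebraMap_apply S E C'', IsScalarTower.algebraMap_apply S C C'',
          ← IsScalarTower.algebraMap_apply C C'' z''.ResidueField])
    exact DFunLike.congr_fun hcomp v
  let N'' := E ⊗[S] N
  let G'' := C'' ⊗[C] G
  let gN : N →ₗ[S] N'' := TensorProduct.mk S E N 1
  have hgN : IsBaseChange E gN := TensorProduct.isBaseChange S N E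
  let gG : G →ₗ[C] G'' := TensorProduct.mk C C'' G 1
  have hgG : IsBaseChange C'' gG := TensorProduct.isBaseChange C G C''
  haveI tR''N : IsScalarTower R'' E N'' := inferInstance
  haveI tEG : IsScalarTower E C'' G'' := inferInstance
  obtain ⟨iso⟩ : Nonempty (N'' ≃ₗ[E] G'') := Dev4.nonempty_iso_of_pushout (S := S) (E := E) (C := C) (C' := C'') e
  have hrel'' : FlatCA.SmoothRelDim n R'' D'' := Dev4.smoothRelDim_of_etale_base n hsm
  haveI : Module.Finite D'' C'' := inferInstance
  haveI : Module.Finite C'' G'' := inferInstance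
  have hloc := Dev4.locDim_etale gN hgN p p'' q q'' n h1
  have hdim : Module.supportDim (p''.Fiber E) (FlatCA.fiberMod p'' E N'') = n := by
    haveI : Module.Finite E N'' := inferInstance
    refine le_antisymm (Dev4.supportDim_le_of_step (D := D'') (C := C'') (N := N'') (G := G'') iso hθ p'' n hrel'') ?_
    obtain ⟨hm, hd'⟩ := (Dev4.locDim_iff p'' N'' q'' n).1 hloc
    rw [Dev4.supportDim_eq_topDim, ← hd']
    exact TopDimLib.localDim_le _
  haveI : IsScalarTower R R'' D'' := tRR''D''
  have hpt'' : FlatCA.PurelyTranscendental p'' y'' := by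
    refine Dev4.pureTrans_transfer ?_ p p'' y y'' hnRR.2.2 hκDD h4
    rw [← IsScalarTower.algebraMap_eq, ← IsScalarTower.algebraMap_eq]
  have huniq : ∀ (z₂ : Ideal C'') [z₂.IsPrime], z₂.LiesOver y'' → z₂ = z'' := by
    intro z₂ _ h2
    haveI := h2
    haveI : z₂.LiesOver y := Ideal.LiesOver.trans z₂ y'' y
    refine Dev4.prime_ext (B := C) hκDD z₂ z'' ?_
    haveI hX : (z₂.comap (algebraMap C C'')).LiesOver y := ⟨by
      rw [Ideal.under_def, Ideal.comap_comap, ← IsScalarTower.algebraMap_eq]; exact Ideal.over_def z₂ y⟩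
    rw [show z''.comap (algebraMap C C'') = z from hz''z.over.symm]
    exact h3 _ hX
  have hfpE : Algebra.FinitePresentation E C'' :=
    Algebra.FinitePresentation.equiv (Algebra.IsPushout.equiv S E C C'')
  haveI : GeometricallyIntegral (Spec.map (CommRingCat.ofHom (algebraMap R'' D''))) := hgi
  refine ⟨R'', inferInstance, inferInstance, aRR'', tRR'', p'', inferInstance, hnR,
    T, inferInstance, inferInstance, inferInstance, inferInstance, inferInstance, inferInstance, inferInstance,
    D'', inferInstance, inferInstance, inferInstance, inferInstance, aDD'', inferInstance, inferInstance, inferInstance,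
    tDD'', tRR''D'', tRDD'', y'', hy'', hy''y', hy''p, IsOpenImmersion.of_isLocalization d,
    C'', inferInstance, inferInstance, inferInstance, inferInstance, inferInstance, inferInstance, inferInstance, tR''DC,
    z'', hz'', hz''z, hz''y, inferInstance,
    G'', inferInstance, inferInstance, inferInstance, inferInstance, gG, hgG,
    E, inferInstance, aSE, aR''E, aRE, tRSE, tRR''E, q'', inferInstance,
    aEC, aSC'', tSEC, tSCC, tR''EC, inferInstance, tEG, hnS, hz''q,
    N'', inferInstance, inferInstance, inferInstance, inferInstance, inferInstance, tR''N, gN, hgN,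
    ⟨⟨iso⟩, hθ, hfpE, inferInstance, inferInstance, hrel'', inferInstance, hdim⟩, hloc, huniq, hpt''⟩

end Groth.Agent.S12245
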