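import Groth.Statements.S12247
import Groth.Agent.Lib.Dev4.LocBundle

set_option autoImplicit false
universe u
open FlatMor

set_option backward.isDefEq.respectTransparency.types false

namespace Groth.Agent.S12247


open Groth.Agent in
theorem hXdvd_isUnit {R S : Type u} [CommRing R] [CommRing S] [Algebra R S] {g : R} {hX : S}
    (h : algebraMap R S g ∣ hX) : IsUnit (algebraMap R (Localization.Away hX) g) := by
  rw [IsScalarTower.algebraMap_apply R S (Localization.Away hX)]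
  exact isUnit_of_dvd_unit (map_dvd _ h) (IsLocalization.Away.algebraMap_isUnit hX)


open TensorProduct in
/-- All schemes are affine and standard opens are rendered as localizations away from one element. Let R
→ S be of finite type, N a finite S-module, p ⊆ R and q ⊆ S primes, and (𝒟, 𝒜) a complete dévissage
of N/S/R at q in the prelude's algebraic form, of length m (rings A_i, smooth R-algebras B_i,
modules M_i, maps α_i, points qA_i, qB_i, relative dimensions d_i, for i < m). Then for every w in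
the last smooth algebra B_{m-1} outside its point qB_{m-1} there is a standard shrinking whose last
smooth piece is D(w) restricted over the shrunken base: g ∉ p and hX ∉ q, compatible structures
making S[1/hX] and N[1/hX] live over R[1/g], and a complete dévissage (𝒟', 𝒜') of N[1/hX] over
S[1/hX] relative to R[1/g] at the extended prime of q, of the same length, ranks and relative
dimensions, whose rings A'_i, B'_i are localizations of A_i, B_i away from single elements a_i ∉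
qA_i, b_i ∉ qB_i with b_{m-1} the product of w and the image of g (as algebras compatible with R →
R[1/g], with B_i → A_i, B_i → A_{i+1}, S → A_0 and S[1/hX] → A'_0), whose modules M'_i are the
corresponding localizations of M_i (compatibly with N ≅ M_0), whose points lie over the qA_i, qB_i,
and with the image of α_i generating the image of α'_i. (The cokernel identifications of 𝒟' are not
pinned.) -/
theorem result
    (R S : Type u) [CommRing R] [CommRing S] [Algebra R S] [Algebra.FiniteType R S]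
    (N : Type u) [AddCommGroup N] [Module S N] [Module.Finite S N]
    (p : Ideal R) [p.IsPrime] (q : Ideal S) [q.IsPrime] (𝒟 : FlatCA.CompleteDevissage R S N p)
    (𝒜 : FlatCA.CompleteDevissageAt R S N p q 𝒟)
    (w : 𝒟.B (𝒟.n - 1)) (hw : w ∉ 𝒜.qB (𝒟.n - 1)) :
    ∃ (g : R) (hX : S), g ∉ p ∧ hX ∉ q ∧
      ∃ (_ : Algebra (Localization.Away g) (Localization.Away hX)) (_ : IsScalarTower R (Localization.Away g) (Localization.Away hX))
        (_ : Module (Localization.Away g) (LocalizedModule (Submonoid.powers hX) N)) (_ : IsScalarTower (Localization.Away g) (Localization.Away hX) (LocalizedModule (Submonoid.powers hX) N))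
        (_ : (Ideal.map (algebraMap R (Localization.Away g)) p).IsPrime) (_ : (Ideal.map (algebraMap S (Localization.Away hX)) q).IsPrime)
        (𝒟' : FlatCA.CompleteDevissage (Localization.Away g) (Localization.Away hX) (LocalizedModule (Submonoid.powers hX) N) (Ideal.map (algebraMap R (Localization.Away g)) p))
        (𝒜' : FlatCA.CompleteDevissageAt (Localization.Away g) (Localization.Away hX) (LocalizedModule (Submonoid.powers hX) N) (Ideal.map (algebraMap R (Localization.Away g)) p) (Ideal.map (algebraMap S (Localization.Away hX)) q) 𝒟')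
        (a : ∀ i : Fin 𝒟.n, 𝒟.A i) (b : ∀ i : Fin 𝒟.n, 𝒟.B i)
      (aA : ∀ i : Fin 𝒟.n, Algebra (𝒟.A i) (𝒟'.A i)) (rA : ∀ i : Fin 𝒟.n, Algebra R (𝒟'.A i))
      (_t1 : ∀ i : Fin 𝒟.n, IsScalarTower R (Localization.Away g) (𝒟'.A i)) (_t2 : ∀ i : Fin 𝒟.n, IsScalarTower R (𝒟.A i) (𝒟'.A i))
      (aB : ∀ i : Fin 𝒟.n, Algebra (𝒟.B i) (𝒟'.B i)) (rB : ∀ i : Fin 𝒟.n, Algebra R (𝒟'.B i))
      (_t3 : ∀ i : Fin 𝒟.n, IsScalarTower R (Localization.Away g) (𝒟'.B i)) (_t4 : ∀ i : Fin 𝒟.n, IsScalarTower R (𝒟.B i) (𝒟'.B i))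
      (bA : ∀ i : Fin 𝒟.n, Algebra (𝒟.B i) (𝒟'.A i)) (_t5 : ∀ i : Fin 𝒟.n, IsScalarTower (𝒟.B i) (𝒟.A i) (𝒟'.A i))
      (_t6 : ∀ i : Fin 𝒟.n, IsScalarTower (𝒟.B i) (𝒟'.B i) (𝒟'.A i))
      (bA' : ∀ i : Fin 𝒟.n, Algebra (𝒟.B i) (𝒟'.A (i + 1)))
      (_t7 : ∀ i : Fin 𝒟.n, IsScalarTower (𝒟.B i) (𝒟'.B i) (𝒟'.A (i + 1)))
      (sA : Algebra S (𝒟'.A 0)) (_t8 : IsScalarTower S (Localization.Away hX) (𝒟'.A 0))
      (mA : ∀ i : Fin 𝒟.n, Module (𝒟.A i) (𝒟'.M i)) (_t9 : ∀ i : Fin 𝒟.n, IsScalarTower (𝒟.A i) (𝒟'.A i) (𝒟'.M i))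
      (gM : ∀ i : Fin 𝒟.n, 𝒟.M i →ₗ[𝒟.A i] 𝒟'.M i),
        𝒟'.n = 𝒟.n ∧ 𝒟'.r = 𝒟.r ∧ 𝒜'.d = 𝒜.d ∧
        (letI := aA ⟨0, 𝒟.pos⟩; IsScalarTower S (𝒟.A 0) (𝒟'.A 0)) ∧
      (∀ x : N, 𝒟'.isoN (LocalizedModule.mkLinearMap (Submonoid.powers hX) N x) = gM ⟨0, 𝒟.pos⟩ (𝒟.isoN x)) ∧
      (∀ (i : Fin 𝒟.n) (h : (i : ℕ) + 1 < 𝒟.n),
        letI := aA ⟨i + 1, h⟩; IsScalarTower (𝒟.B i) (𝒟.A (i + 1)) (𝒟'.A (i + 1))) ∧
        b ⟨𝒟.n - 1, Nat.sub_one_lt_of_lt 𝒟.pos⟩ = w * algebraMap R (𝒟.B (𝒟.n - 1)) g ∧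
        ∀ i : Fin 𝒟.n,
          a i ∉ 𝒜.qA i ∧ b i ∉ 𝒜.qB i ∧
          IsLocalization.Away (a i) (𝒟'.A i) ∧ IsLocalization.Away (b i) (𝒟'.B i) ∧
          IsLocalizedModule (Submonoid.powers (a i)) (gM i) ∧
          (𝒜'.qA i).LiesOver (𝒜.qA i) ∧ (𝒜'.qB i).LiesOver (𝒜.qB i) ∧
          LinearMap.range (𝒟'.α i) =
            Submodule.span (𝒟'.B i) ((gM i) '' (LinearMap.range (𝒟.α i) : Set (𝒟.M i))) := by
  classical
  haveI := 𝒜.hqB
  haveI := 𝒜.hqA
  have h1 : ∀ i, (1 : 𝒟.B i) ∉ 𝒜.qB i := fun i h => (𝒜.hqB i).ne_top ((Ideal.eq_top_iff_one _).2 h)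
  obtain ⟨g, hX, b, hok, -, hlast⟩ := Dev4.exists_shrinkOK 𝒜 1
    (fun h => (inferInstance : q.IsPrime).ne_top ((Ideal.eq_top_iff_one _).2 h)) (fun _ => 1) h1
    ⟨1, by simp⟩ (fun i _ => ⟨1, by simp⟩) (Function.update (fun _ => 1) (𝒟.n - 1) w) fun i => by
      rcases eq_or_ne i (𝒟.n - 1) with rfl | hne
      · rwa [Function.update_self]
      · rw [Function.update_of_ne hne]; exact h1 i
  have hlast' : b (𝒟.n - 1) = w * algebraMap R (𝒟.B (𝒟.n - 1)) g := by
    rw [hlast _ (Nat.sub_add_cancel 𝒟.pos), Function.update_self, mul_one]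
  letI aRS : Algebra (Localization.Away g) (Localization.Away hX) :=
    (IsLocalization.Away.lift g (g := algebraMap R (Localization.Away hX)) (hXdvd_isUnit hok.g_dvd_hX)).toAlgebra
  haveI tRS : IsScalarTower R (Localization.Away g) (Localization.Away hX) :=
    IsScalarTower.of_algebraMap_eq' (IsLocalization.lift_comp _).symm
  letI mN : Module (Localization.Away g) (LocalizedModule (Submonoid.powers hX) N) :=
    Module.compHom _ (algebraMap (Localization.Away g) (Localization.Away hX))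
  haveI tN : IsScalarTower (Localization.Away g) (Localization.Away hX) (LocalizedModule (Submonoid.powers hX) N) :=
    IsScalarTower.of_algebraMap_smul fun _ _ => rfl
  have hdp : Disjoint (Submonoid.powers g : Set R) (p : Set R) :=
    (Ideal.disjoint_powers_iff_notMem_of_isPrime _).2 hok.g_notMem
  have hdq : Disjoint (Submonoid.powers hX : Set S) (q : Set S) :=
    (Ideal.disjoint_powers_iff_notMem_of_isPrime _).2 hok.hX_notMem
  haveI hp' : (Ideal.map (algebraMap R (Localization.Away g)) p).IsPrime :=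
    IsLocalization.isPrime_of_isPrime_disjoint (Submonoid.powers g) _ _ ‹_› hdp
  haveI hq' : (Ideal.map (algebraMap S (Localization.Away hX)) q).IsPrime :=
    IsLocalization.isPrime_of_isPrime_disjoint (Submonoid.powers hX) _ _ ‹_› hdq
  haveI : (Ideal.map (algebraMap R (Localization.Away g)) p).LiesOver p :=
    ⟨(IsLocalization.under_map_of_isPrime_disjoint (Submonoid.powers g) _ ‹_› hdp).symm⟩
  haveI : (Ideal.map (algebraMap S (Localization.Away hX)) q).LiesOver q :=
    ⟨(IsLocalization.under_map_of_isPrime_disjoint (Submonoid.powers hX) _ ‹_› hdq).symm⟩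
  have hf : IsBaseChange (Localization.Away hX) (LocalizedModule.mkLinearMap (Submonoid.powers hX) N) :=
    (isLocalizedModule_iff_isBaseChange (Submonoid.powers hX) _ _).1 inferInstance
  obtain ⟨𝒟', 𝒜', ⟨E⟩⟩ := Dev4.exists_locData (𝒟.n - 1) 𝒟 (Nat.sub_add_cancel 𝒟.pos).symm 𝒜 g hX b hok
    (Localization.Away g) (Ideal.map (algebraMap R (Localization.Away g)) p) (Localization.Away hX)
    (Ideal.map (algebraMap S (Localization.Away hX)) q) _ hf
  refine ⟨g, hX, hok.g_notMem, hok.hX_notMem, aRS, tRS, mN, tN, hp', hq', 𝒟', 𝒜',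
    fun i => algebraMap (𝒟.B i) (𝒟.A i) (b i), fun i => b i,
    E.aA, E.rA, E.t1, E.t2, E.aB, E.rB, E.t3, E.t4,
    fun i => letI := E.aA i; Algebra.compHom _ (algebraMap (𝒟.B i) (𝒟.A i)),
    fun i => letI := E.aA i; letI : Algebra (𝒟.B i) (𝒟'.A i) := Algebra.compHom _ (algebraMap (𝒟.B i) (𝒟.A i));
      IsScalarTower.of_algebraMap_eq fun _ => rfl,
    fun i => letI := E.aA i; letI := E.aB i;
      letI : Algebra (𝒟.B i) (𝒟'.A i) := Algebra.compHom _ (algebraMap (𝒟.B i) (𝒟.A i));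
      IsScalarTower.of_algebraMap_eq fun b => (E.commBA i b).symm,
    fun i => letI := E.aB i; Algebra.compHom _ (algebraMap (𝒟.B i) (𝒟'.B i)),
    fun i => letI := E.aB i; letI : Algebra (𝒟.B i) (𝒟'.A (i + 1)) := Algebra.compHom _ (algebraMap (𝒟.B i) (𝒟'.B i));
      IsScalarTower.of_algebraMap_eq fun _ => rfl,
    Algebra.compHom _ (algebraMap S (Localization.Away hX)),
    letI : Algebra S (𝒟'.A 0) := Algebra.compHom _ (algebraMap S (Localization.Away hX)); IsScalarTower.of_algebraMap_eq fun _ => rfl,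
    E.mA, E.t9, E.gM, E.n_eq, E.r_eq, E.d_eq, ?_, E.isoN_eq, ?_, hlast', fun i => ?_⟩
  · letI : Algebra S (𝒟'.A 0) := Algebra.compHom _ (algebraMap S (Localization.Away hX))
    letI := E.aA ⟨0, 𝒟.pos⟩
    exact IsScalarTower.of_algebraMap_eq fun s => E.commS s
  · intro i h
    letI := E.aB i
    letI := E.aA ⟨i + 1, h⟩
    letI : Algebra (𝒟.B i) (𝒟'.A (i + 1)) := Algebra.compHom _ (algebraMap (𝒟.B i) (𝒟'.B i))
    exact IsScalarTower.of_algebraMap_eq fun b => E.commBA' i h b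
  · letI := E.aA i
    letI := E.aB i
    letI := E.mA i
    haveI := E.t9 i
    haveI := E.locA i
    exact ⟨Dev4.notMem_qA 𝒜 (hok.b_notMem i), hok.b_notMem i, E.locA i, E.locB i,
      (isLocalizedModule_iff_isBaseChange (Submonoid.powers (algebraMap (𝒟.B i) (𝒟.A i) (b i))) (𝒟'.A i) (E.gM i)).2 (E.bc i),
      ⟨(E.overA i).symm⟩, ⟨(E.overB i).symm⟩, E.range i⟩

end Groth.Agent.S12247
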