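import Groth.Statements.S12732
import Groth.Agent.Lib.ArtFun.Hull

set_option autoImplicit false
universe u v
open CategoryTheory
open ArtFun

namespace Groth.Agent.S12732

/-- (3) ⇒ (1): suppose k admits no nonzero Λ-derivation into itself (that is, k is separable over the
image of Λ in k; this holds in the classical case). A functor F on Artinian local Λ-algebras with
residue field k with F(k) a point which satisfies (S1), (S2) and has finite-dimensional tangent
space admits a hull: a versal family over a complete local Noetherian ring with residue field k that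
is bijective on tangent spaces. -/
theorem result {Λ : Type u} {k : Type u} [CommRing Λ] [Field k] [Algebra Λ k]
    [IsNoetherianRing Λ] [Module.Finite Λ k]
    (hk : Subsingleton (Derivation Λ k k))
    (F : ArtFun.Art Λ k ⥤ Type v) [ArtFun.TangentStr F]
    (h0 : ArtFun.H0 F) (h1 : ArtFun.S1 F) (h2 : ArtFun.Heps F) (h3 : ArtFun.Hfin F) :
    ArtFun.HasHull F := by
  obtain ⟨V⟩ := Groth.Agent.ArtFunLib.hasVersal_of F h0 h1 h2 h3
  refine Groth.Agent.ArtFunLib.hasHull_of_versal h0 h2 (fun x₀ σ _ =>
    Groth.Agent.ArtFunLib.hom_ext' fun (a : k) => TrivSqZeroExt.ext (R := k) (M := k)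
      (ArtFun.Art.res_app σ a) ?_) V
  let σ₀ : k →ₐ[Λ] DualNumber k := σ.toAlgHom
  let l : k →ₗ[Λ] k :=
    { toFun := fun c => TrivSqZeroExt.snd (σ₀ c)
      map_add' := fun c d => by rw [map_add, TrivSqZeroExt.snd_add]
      map_smul' := fun r c => by rw [map_smul, TrivSqZeroExt.snd_smul]; rfl }
  let D : Derivation Λ k k := Derivation.mk' l fun c d => by
    have hc : TrivSqZeroExt.fst (σ₀ c) = c := ArtFun.Art.res_app σ c
    have hd : TrivSqZeroExt.fst (σ₀ d) = d := ArtFun.Art.res_app σ d
    change TrivSqZeroExt.snd (σ₀ (c * d)) =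
      c * TrivSqZeroExt.snd (σ₀ d) + d * TrivSqZeroExt.snd (σ₀ c)
    rw [map_mul, TrivSqZeroExt.snd_mul, hc, hd, op_smul_eq_smul, smul_eq_mul, smul_eq_mul]
  exact (congrArg (fun E : Derivation Λ k k => E a) (Subsingleton.elim D 0)).trans rfl

end Groth.Agent.S12732
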