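import Groth.Statements.S12248
import Groth.Agent.S12732

set_option autoImplicit false
universe u v
open CategoryTheory
open Deform

namespace Groth.Agent.S12248

/-- Let k be an algebraically closed field, Λ a complete local Noetherian k-algebra with residue field
k, and F a set-valued functor on local Artinian Λ-algebras with residue field k such that F(k) is a
single point, with its k-vector-space structure on F(k[ε]) given as data compatible with ε ↦ cε and
(ε₁, ε₂) ↦ (ε, ε). Then F is prorepresentable (by a complete local Noetherian Λ-algebra with residue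
field k) if and only if: the comparison map F(A' ×_A A'') → F(A') ×_{F(A)} F(A'') is surjective
whenever A'' → A is a small extension; it is bijective whenever A = k and A'' = k[ε]; F(k[ε]) is
finite-dimensional; and the comparison map F(A' ×_A A') → F(A') ×_{F(A)} F(A') is bijective for
every small extension A' → A. -/
theorem result
    {k Λ : Type u} [Field k] [IsAlgClosed k] [CommRing Λ] [IsLocalRing Λ] [IsNoetherianRing Λ]
    [IsAdicComplete (IsLocalRing.maximalIdeal Λ) Λ] [Algebra k Λ] [Algebra Λ k] [IsScalarTower k Λ k]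
    (F : ArtFun.Art Λ k ⥤ Type v) [ArtFun.TangentStr F] (h0 : ArtFun.H0 F) :
    ArtFun.IsProrepresentable F ↔
      (ArtFun.Hbar F ∧ ArtFun.Heps F ∧ ArtFun.Hfin F ∧ ArtFun.HSq F) := by
  have hsurj : Function.Surjective (algebraMap Λ k) := fun x =>
    ⟨algebraMap k Λ x, (IsScalarTower.algebraMap_apply k Λ k x).symm⟩
  have : Module.Finite Λ k := Module.Finite.of_surjective (Algebra.linearMap Λ k) hsurj
  constructor
  · rintro ⟨P⟩
    have hrs := Groth.Agent.ArtFunLib.rs_of_universal P.universal
    exact ⟨hrs.hbar, hrs.heps, Groth.Agent.ArtFunLib.hfin_of_hasHull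
      ⟨⟨P.ring, P.family, Groth.Agent.ArtFunLib.isMiniversal_of_universal P.universal⟩⟩, hrs.hsq⟩
  · rintro ⟨h1, h2, h3, h4⟩
    have : Subsingleton (Derivation Λ k k) := ⟨fun D D' => Derivation.ext fun x => by
      obtain ⟨a, rfl⟩ := hsurj x
      rw [Derivation.map_algebraMap, Derivation.map_algebraMap]⟩
    obtain ⟨⟨R, ξ, hξ⟩⟩ := Groth.Agent.S12732.result (by infer_instance) F h0
      (fun _ _ _ _ p' p'' f' f'' h hf => Groth.Agent.ArtFunLib.cmp_surjective_of_small h1 p' p'' f' f'' h hf) h2 h3
    exact ⟨⟨R, ξ, Groth.Agent.ArtFunLib.isUniversal_of_miniversal hξ h0 h4⟩⟩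

end Groth.Agent.S12248
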