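import Groth.Statements.S12249
import Groth.Agent.Lib.ArtFun.Families
import Mathlib.RingTheory.Nakayama
import Mathlib.LinearAlgebra.Dual.Lemmas

set_option autoImplicit false
universe u v
open CategoryTheory
open Deform

namespace Groth.Agent.S12249

set_option linter.style.haveILetI false

/-- Let k be an algebraically closed field and F a set-valued functor on local Artinian k-algebras with
residue field k such that F(k) is a single point. If F has a semiuniversal formal element and its
tangent space F(k[ε]) is reduced to one element, then F(A) consists of exactly one element for every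
A: F is the constant one-point functor h_k. -/
theorem result
    {k : Type u} [Field k] [IsAlgClosed k]
    (F : ArtFun.Art k k ⥤ Type v) (h0 : ArtFun.H0 F) (hF : ArtFun.HasHull F)
    (ht : Subsingleton (ArtFun.TangentSpace F)) (A : ArtFun.Art k k) :
    Nonempty (F.obj A) ∧ Subsingleton (F.obj A) := by
  obtain ⟨⟨R, ξ, hξ⟩⟩ := hF
  have hs := Groth.Agent.ArtFunLib.versal_surjective hξ.1 h0
  haveI : Subsingleton (ArtFun.HomSet R.carrier R.res (ArtFun.Art.dual k k)) :=
    @Function.Injective.subsingleton _ _ _ hξ.2.1 ht
  have hinl : ∀ r : R.carrier, r - algebraMap k R.carrier (R.res r) ∈ IsLocalRing.maximalIdeal R.carrier := fun r => by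
    rw [ArtFun.CRing.mem_maximalIdeal_iff, map_sub, AlgHom.commutes, Algebra.algebraMap_self, RingHom.id_apply, sub_self]
  have hm : IsLocalRing.maximalIdeal R.carrier = ⊥ := by
    refine Submodule.eq_bot_of_le_smul_of_le_jacobson_bot (IsLocalRing.maximalIdeal R.carrier) _
      (IsNoetherian.noetherian _) (fun x hx => ?_) (IsLocalRing.maximalIdeal_le_jacobson _)
    by_contra hx2
    obtain ⟨χ, hχ, hχM⟩ := Submodule.exists_dual_map_eq_bot_of_notMem
      (p := (IsLocalRing.maximalIdeal R.carrier • IsLocalRing.maximalIdeal R.carrier).restrictScalars k) hx2 inferInstance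
    have hχ0 : ∀ y ∈ IsLocalRing.maximalIdeal R.carrier • IsLocalRing.maximalIdeal R.carrier, χ y = 0 := fun y hy => by
      have := Submodule.mem_map_of_mem (f := χ)
        (show y ∈ (IsLocalRing.maximalIdeal R.carrier • IsLocalRing.maximalIdeal R.carrier).restrictScalars k from hy)
      rwa [hχM, Submodule.mem_bot] at this
    let d : R.carrier → k := fun r => χ (r - algebraMap k R.carrier (R.res r))
    let g : R.carrier →ₐ[k] DualNumber k :=
      { toFun := fun r => (TrivSqZeroExt.inl (R.res r) + TrivSqZeroExt.inr (d r) : DualNumber k)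
        map_one' := TrivSqZeroExt.ext (by simp) (by simp [d])
        map_mul' := fun r s => TrivSqZeroExt.ext (by simp) (by
          have e : r * s - algebraMap k R.carrier (R.res (r * s)) =
              (r - algebraMap k R.carrier (R.res r)) • (s - algebraMap k R.carrier (R.res s)) +
              (R.res r • (s - algebraMap k R.carrier (R.res s)) + R.res s • (r - algebraMap k R.carrier (R.res r))) := by
            rw [map_mul, map_mul]
            simp only [Algebra.smul_def, Algebra.algebraMap_self, RingHom.id_apply]
            ring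
          have e' := hχ0 _ (Submodule.smul_mem_smul (hinl r) (hinl s))
          simp only [TrivSqZeroExt.snd_add, TrivSqZeroExt.snd_inl, TrivSqZeroExt.snd_inr, TrivSqZeroExt.snd_mul,
            TrivSqZeroExt.fst_add, TrivSqZeroExt.fst_inl, TrivSqZeroExt.fst_inr, zero_add, add_zero, d]
          rw [e, map_add χ, map_add χ, e', map_smul, map_smul, zero_add]
          simp [smul_eq_mul, mul_comm])
        map_zero' := TrivSqZeroExt.ext (by simp) (by simp [d])
        map_add' := fun r s => TrivSqZeroExt.ext (by simp) (by
          simp only [TrivSqZeroExt.snd_add, TrivSqZeroExt.snd_inl, TrivSqZeroExt.snd_inr, zero_add, d]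
          rw [← map_add χ]
          congr 1
          rw [map_add, map_add]; ring)
        commutes' := fun c => TrivSqZeroExt.ext (by simp [TrivSqZeroExt.algebraMap_eq_inl'])
          (by simp [d, TrivSqZeroExt.algebraMap_eq_inl']) }
    let g0 : R.carrier →ₐ[k] DualNumber k := (Algebra.ofId k (DualNumber k)).comp R.res
    have e : (⟨g, AlgHom.ext fun r => (show R.res r + 0 = R.res r from add_zero _)⟩ :
        ArtFun.HomSet R.carrier R.res (ArtFun.Art.dual k k)) = ⟨g0, AlgHom.ext fun r => rfl⟩ :=
      @Subsingleton.elim (ArtFun.HomSet R.carrier R.res (ArtFun.Art.dual k k)) inferInstance _ _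
    have e1 : (0 : k) + d x = 0 :=
      (congrArg (fun t : ArtFun.HomSet R.carrier R.res (ArtFun.Art.dual k k) => TrivSqZeroExt.snd (t.1 x)) e).trans rfl
    rw [zero_add] at e1
    change χ (x - algebraMap k R.carrier (R.res x)) = 0 at e1
    rw [(ArtFun.CRing.mem_maximalIdeal_iff R x).1 hx, map_zero, sub_zero] at e1
    exact hχ e1
  refine ⟨⟨ξ.app A ⟨(Algebra.ofId k A).comp R.res, AlgHom.ext fun r => A.res.commutes (R.res r)⟩⟩, ⟨fun a b => ?_⟩⟩
  obtain ⟨φ, rfl⟩ := hs A a
  obtain ⟨ψ, rfl⟩ := hs A b
  congr 1
  refine Subtype.ext (AlgHom.ext fun r => ?_)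
  have : r = algebraMap k R.carrier (R.res r) := by
    have := hinl r
    rw [hm, Ideal.mem_bot, sub_eq_zero] at this
    exact this
  rw [this, AlgHom.commutes, AlgHom.commutes]

end Groth.Agent.S12249
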