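import Groth.Statements.S1225
import Groth.Agent.Lib.Dev4.PurePoint
import Groth.Agent.S1221

set_option autoImplicit false
universe u
open FlatMor
open TensorProduct

set_option backward.isDefEq.respectTransparency.types false

set_option backward.isDefEq.respectTransparency.types false
set_option maxSynthPendingDepth 3
namespace Groth.Agent.S1225



open IsLocalRing in
theorem isEtaleNhd_id {A : Type u} [CommRing A] (p : Ideal A) [p.IsPrime] : FlatCA.IsEtaleNhd A A p p := by
  refine ⟨inferInstance, ⟨rfl⟩, ?_⟩
  convert Function.bijective_id using 1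
  exact congrArg DFunLike.coe (Ideal.ResidueField.algHom_ext (g := AlgHom.id A p.ResidueField) (Subsingleton.elim _ _))

open IsLocalRing in
/-- Ring form, X = Spec B affine: let A be a local ring, B a finite type A-algebra and N a finite
B-module which is flat over A and pure along the closed fibre. Then a B-linear map φ from N to any
B-module is injective if and only if its localization at q is injective for every prime q of B over
𝔪_A whose extension to the closed fibre ring is an associated prime of the closed fibre module. -/
theorem result {A B : Type u} [CommRing A] [IsLocalRing A] [CommRing B] [Algebra A B] [Algebra.FiniteType A B]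
    (N : Type u) [AddCommGroup N] [Module B N] [Module A N] [IsScalarTower A B N] [Module.Finite B N] [Module.Flat A N]
    (hpure : FlatCA.IsPureAlong A B N (maximalIdeal A))
    (N' : Type u) [AddCommGroup N'] [Module B N'] (φ : N →ₗ[B] N') :
    Function.Injective φ ↔ ∀ (q : Ideal B) [q.IsPrime], q.LiesOver (maximalIdeal A) →
      FlatCA.fiberIdeal (maximalIdeal A) q ∈ associatedPrimes ((maximalIdeal A).Fiber B) (FlatCA.fiberMod (maximalIdeal A) B N) →
      Function.Injective (LocalizedModule.map q.primeCompl φ) := by
  constructor
  · intro hφ q _ _ _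
    exact LocalizedModule.map_injective q.primeCompl φ hφ
  intro h
  rw [injective_iff_map_eq_zero]
  intro x hx
  by_contra hx0
  have hne : (Submodule.span B {x}).annihilator ≠ ⊤ := fun hc => hx0 (by
    simpa using (Submodule.mem_annihilator_span_singleton (R := B) x 1).1 (hc ▸ Submodule.mem_top))
  obtain ⟨r, hr⟩ := Ideal.nonempty_minimalPrimes hne
  haveI : r.IsPrime := hr.1.1
  let t' : Ideal A := r.comap (algebraMap A B)
  haveI : r.LiesOver t' := ⟨rfl⟩
  have hflat : ∀ (q : Ideal B) [q.IsPrime], FlatCA.FlatAt A q N := fun q _ =>
    RG4.flat_of_isLocalizedModule (R := A) q.primeCompl (LocalizedModule.mkLinearMap q.primeCompl N)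
  have hwk : r ∈ FlatCA.weakAss B (TensorProduct A N A) := by
    refine ⟨(AlgebraTensorModule.rid A B N).symm x, ?_⟩
    convert hr using 2
    ext b
    rw [Submodule.mem_annihilator_span_singleton, Submodule.mem_annihilator_span_singleton, ← map_smul,
      LinearEquiv.map_eq_zero_iff]
  have hass := ((Groth.Agent.Dev4.mem_weakAss_tensor_iff N A t' r (hflat r)).1 hwk).2
  have hspec : ∃ P : Ideal B, P.IsPrime ∧ r ≤ P ∧ P.LiesOver (maximalIdeal A) := by
    by_contra hc
    push Not at hc
    refine hpure A B N LinearMap.id t' (maximalIdeal A) r (isEtaleNhd_id _)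
      ⟨inferInstance, IsBaseChange.of_equiv (TensorProduct.lid B N) (fun n => by simp),
        le_maximalIdeal (Ideal.IsPrime.ne_top inferInstance), ⟨rfl⟩, inferInstance, hass,
        fun P hP hle => hc P hP hle⟩
  obtain ⟨q, hq, hrq, hqm, hqass⟩ := Groth.Agent.S1221.result N (maximalIdeal A) (fun q _ _ => hflat q) t'
    (le_maximalIdeal (Ideal.IsPrime.ne_top inferInstance)) r hass hspec
  haveI := hq
  have h0 : LocalizedModule.mkLinearMap q.primeCompl N x = LocalizedModule.mkLinearMap q.primeCompl N 0 := by
    rw [map_zero]
    apply h q hqm hqass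
    rw [map_zero]
    show LocalizedModule.map q.primeCompl φ (LocalizedModule.mk x 1) = 0
    rw [LocalizedModule.map_mk, hx, LocalizedModule.zero_mk]
  obtain ⟨s, hs⟩ := (IsLocalizedModule.eq_iff_exists q.primeCompl (LocalizedModule.mkLinearMap q.primeCompl N)).1 h0
  exact s.2 (hrq (hr.1.2 ((Submodule.mem_annihilator_span_singleton _ _).2 (by simpa [Submonoid.smul_def] using hs))))

end Groth.Agent.S1225
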