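import Groth.Statements.S12252
import Groth.Agent.Lib.ArtFun.Families

set_option autoImplicit false
universe u v
open CategoryTheory
open Deform

namespace Groth.Agent.S12252

theorem uniq {k Λ : Type u} [Field k] [CommRing Λ] [Algebra Λ k] {F : ArtFun.Art Λ k ⥤ Type v}
    {R : ArtFun.CRing Λ k} (ξ : ArtFun.Family R.carrier R.res F) (hξ : ArtFun.IsUniversal ξ)
    (S : ArtFun.CRing Λ k) (g₁ g₂ : R.carrier →ₐ[Λ] S.carrier)
    (hg₁ : S.res.comp g₁ = R.res) (hg₂ : S.res.comp g₂ = R.res)
    (h : ∀ A ψ, (ξ.along g₁ hg₁).app A ψ = (ξ.along g₂ hg₂).app A ψ) : g₁ = g₂ :=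
  Groth.Agent.ArtFunLib.truncPoint_ext fun n => congrArg Subtype.val ((hξ _).1 (h _ (S.truncHom n)))

/-- Let k be an algebraically closed field, Λ a complete local Noetherian k-algebra with residue field k
and F a set-valued functor on local Artinian Λ-algebras with residue field k. If (R, u) and (S, v)
both prorepresent F (complete local Noetherian Λ-algebras with residue field k carrying universal
families), then there is a unique isomorphism of Λ-algebras R ≅ S, compatible with the augmentations
to k, along which the universal family of R is transported to that of S. -/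
theorem result
    {k Λ : Type u} [Field k] [IsAlgClosed k] [CommRing Λ] [IsLocalRing Λ] [IsNoetherianRing Λ]
    [IsAdicComplete (IsLocalRing.maximalIdeal Λ) Λ] [Algebra k Λ] [Algebra Λ k] [IsScalarTower k Λ k]
    {F : ArtFun.Art Λ k ⥤ Type v} (P Q : ArtFun.ProRep F) :
    ∃! e : P.ring.carrier ≃ₐ[Λ] Q.ring.carrier,
      ∃ he : Q.ring.res.comp e.toAlgHom = P.ring.res, P.family.along e.toAlgHom he = Q.family := by
  have h0 := Groth.Agent.ArtFunLib.h0_of_surjective (P.universal _).2
  obtain ⟨g, hg, eg⟩ := Groth.Agent.ArtFunLib.exists_along (Groth.Agent.ArtFunLib.isVersal_of_universal P.universal)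
    h0 Q.family.toFormalElt
  obtain ⟨h, hh, eh⟩ := Groth.Agent.ArtFunLib.exists_along (Groth.Agent.ArtFunLib.isVersal_of_universal Q.universal)
    h0 P.family.toFormalElt
  have egf : P.family.along g hg = Q.family := (Groth.Agent.ArtFunLib.bijective_toFormalElt F).1 eg
  have ehf : Q.family.along h hh = P.family := (Groth.Agent.ArtFunLib.bijective_toFormalElt F).1 eh
  have e1 : h.comp g = AlgHom.id Λ _ := by
    refine uniq P.family P.universal P.ring _ _ (by rw [← AlgHom.comp_assoc, hh, hg]) (AlgHom.comp_id _) fun A ψ => ?_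
    change (P.family.along g hg).app A ⟨ψ.1.comp h, by rw [← AlgHom.comp_assoc, ψ.2, hh]⟩ = _
    rw [egf]
    change (Q.family.along h hh).app A ψ = _
    rw [ehf]
    rfl
  have e2 : g.comp h = AlgHom.id Λ _ := by
    refine uniq Q.family Q.universal Q.ring _ _ (by rw [← AlgHom.comp_assoc, hg, hh]) (AlgHom.comp_id _) fun A ψ => ?_
    change (Q.family.along h hh).app A ⟨ψ.1.comp g, by rw [← AlgHom.comp_assoc, ψ.2, hg]⟩ = _
    rw [ehf]
    change (P.family.along g hg).app A ψ = _
    rw [egf]
    rfl
  refine ⟨AlgEquiv.ofAlgHom g h e2 e1, ⟨hg, egf⟩, ?_⟩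
  rintro e ⟨he, hef⟩
  have e3 : e.toAlgHom = g := uniq P.family P.universal Q.ring _ _ he hg fun A ψ => by
    rw [hef, egf]
  exact AlgEquiv.ext fun x => AlgHom.congr_fun e3 x

end Groth.Agent.S12252
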