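import Groth.Statements.S12253
import Groth.Agent.S12248

set_option autoImplicit false
universe u v
open CategoryTheory
open Deform

namespace Groth.Agent.S12253

/-- Let k be an algebraically closed field, Λ a complete local Noetherian k-algebra with residue field k
and F a set-valued functor on local Artinian Λ-algebras with residue field k such that F(k) is a
single point, with its k-vector-space structure on F(k[ε]) given as data compatible with ε ↦ cε and
(ε₁, ε₂) ↦ (ε, ε). Then F is prorepresentable by a complete local Noetherian Λ-algebra with residue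
field k if and only if F is left exact, i.e. the comparison map F(A' ×_A A'') → F(A') ×_{F(A)}
F(A'') is bijective for every fibre-product square, and F(k[ε]) is finite-dimensional. -/
theorem result
    {k Λ : Type u} [Field k] [IsAlgClosed k] [CommRing Λ] [IsLocalRing Λ] [IsNoetherianRing Λ]
    [IsAdicComplete (IsLocalRing.maximalIdeal Λ) Λ] [Algebra k Λ] [Algebra Λ k] [IsScalarTower k Λ k]
    (F : ArtFun.Art Λ k ⥤ Type v) [ArtFun.TangentStr F] (h0 : ArtFun.H0 F) :
    ArtFun.IsProrepresentable F ↔ (ArtFun.IsLeftExact F ∧ ArtFun.Hfin F) := by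
  refine ⟨fun h => ⟨?_, ((Groth.Agent.S12248.result F h0).1 h).2.2.1⟩, fun ⟨hle, hf⟩ =>
    (Groth.Agent.S12248.result F h0).2 ⟨fun _ _ _ _ p' p'' f' f'' h _ => (hle p' p'' f' f'' h).2,
      fun _ _ p' p'' h => hle p' p'' _ _ h, hf, fun _ _ _ p₁ p₂ f h _ => hle p₁ p₂ f f h⟩⟩
  obtain ⟨⟨R, ξ, hξ⟩⟩ := h
  intro B A A' A'' p' p'' f' f'' h
  have hh := Groth.Agent.ArtFunLib.isLeftExact_hR R.res p' p'' f' f'' h
  refine ⟨(Groth.Agent.ArtFunLib.cmp_injective_iff F h).2 fun z z' e1 e2 => ?_,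
    (Groth.Agent.ArtFunLib.cmp_surjective_iff F h).2 fun a b e => ?_⟩
  · obtain ⟨φ, rfl⟩ := (hξ B).2 z
    obtain ⟨ψ, rfl⟩ := (hξ B).2 z'
    exact congrArg _ ((Groth.Agent.ArtFunLib.cmp_injective_iff _ h).1 hh.1 φ ψ ((hξ _).1 ((ξ.natural _ _).trans
      (e1.trans (ξ.natural _ _).symm))) ((hξ _).1 ((ξ.natural _ _).trans (e2.trans (ξ.natural _ _).symm))))
  · obtain ⟨φ, rfl⟩ := (hξ A').2 a
    obtain ⟨ψ, rfl⟩ := (hξ A'').2 b
    obtain ⟨χ, h1, h2⟩ := (Groth.Agent.ArtFunLib.cmp_surjective_iff _ h).1 hh.2 φ ψ ((hξ A).1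
      ((ξ.natural _ _).trans (e.trans (ξ.natural _ _).symm)))
    exact ⟨ξ.app B χ, by rw [← ξ.natural]; exact congrArg _ h1, by rw [← ξ.natural]; exact congrArg _ h2⟩

end Groth.Agent.S12253
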