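import Groth.Statements.S12254
import Groth.Agent.Lib.DefAut3.Bwd

set_option autoImplicit false
universe u
open CategoryTheory CategoryTheory.Limits AlgebraicGeometry
open Deform

namespace Groth.Agent.S12254

/-- Let k be an algebraically closed field and X a projective k-scheme, given with a closed immersion
into some P^n_k over k. Then the space of infinitesimal automorphisms H^0(X, T_X) =
Hom_{O_X}(Ω_{X/k}, O_X) vanishes if and only if, for every local Artinian k-algebra A with residue
field k and every deformation of X over A (a scheme flat over Spec A together with a morphism from X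
identifying X with the closed fibre), the only automorphism of the total space over Spec A
compatible with the inclusion of X is the identity. -/
theorem result
    {k : Type u} [Field k] [IsAlgClosed k] (X : Scheme.{u}) (x : X ⟶ Spec (CommRingCat.of k))
    [LocallyOfFiniteType x] [IsSeparated x] [QuasiCompact x]
    (hproj : ∃ (n : ℕ) (c : X ⟶ CohB1.ProjSpaceOver n (Spec (CommRingCat.of k))),
      IsClosedImmersion c ∧ c ≫ CohB1.ProjSpaceOver.toBase n (Spec (CommRingCat.of k)) = x) :
    Subsingleton (Omega.sheaf x ⟶ Coh.structureModule X) ↔
      ∀ (A : ArtFun.Art k k) (ξ : ArtFun.DefSch X x A) (e : ξ.Iso ξ), e.iso.hom = 𝟙 ξ.total := by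
  constructor
  · intro h A ξ e
    exact DefAut3.iso_eq_id ξ h e
  · intro h
    refine subsingleton_of_forall_eq 0 fun α => DefAut3.eq_zero_of_affine x α fun U s => ?_
    have hflat : Flat x := inferInstance
    let A : ArtFun.Art k k := ArtFun.Art.dual k k
    let ξ := ArtFun.DefSch.trivial X x hflat A
    let pr : ξ.total ⟶ X := pullback.fst _ _
    let ε : A := (DualNumber.eps : DualNumber k)
    have hε : ε * ε = 0 := DualNumber.eps_mul_eps
    have hann : ∀ r : A, ε * r = 0 → r ∈ IsLocalRing.maximalIdeal A := fun r hr => by
      rw [A.mem_maximalIdeal_iff]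
      have key : ∀ t : DualNumber k, DualNumber.eps * t = 0 → TrivSqZeroExt.fst t = 0 := fun t ht => by
        have h1 := congrArg TrivSqZeroExt.snd ht
        simpa [DualNumber.snd_mul] using h1
      exact key r hr
    haveI : IsAffineHom (ArtFun.Art.specMap (ArtFun.Art.ofBase A)) := isAffineHom_of_isAffine _
    haveI : IsAffineHom pr := MorphismProperty.pullback_fst _ _ inferInstance
    exact DefAut3.der_eq_zero ξ pr ε hε (IsPullback.of_hasPullback _ _)
      ((pullback.lift_fst _ _ _).trans rfl) (DualNumber.fst_eps) hann
      (fun U => AddMonoidHom.mk' (fun b => α.app U (OmegaSh.dSect x U b)) (fun a b => by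
        show α.app U (OmegaSh.dSect x U (a + b)) = _
        rw [OmegaSh.dSect_add, map_add]
        rfl))
      (fun U a b => by
        show α.app U (OmegaSh.dSect x U (a * b)) = _
        rw [OmegaSh.dSect_mul, map_add, Scheme.Modules.Hom.app_smul, Scheme.Modules.Hom.app_smul]
        rfl)
      (fun U c => by
        show α.app U (OmegaSh.dSect x U (ThickAff3.str x U c)) = 0
        rw [show OmegaSh.dSect x U (ThickAff3.str x U c) = 0 from OmAff.dSect_appLE x ⊤ U le_top _]
        exact map_zero _)
      (fun U V h a => by
        show M1.mres (Coh.structureModule X) h (α.app U (OmegaSh.dSect x U a)) = _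
        refine (M1.app_mres α h _).symm.trans ?_
        exact congrArg _ (OmegaSh.dSect_map x h a).symm)
      (fun e => h A ξ e) U s

end Groth.Agent.S12254
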