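import Groth.Statements.S12734
import Groth.Agent.Lib.ArtFun.Hull

set_option autoImplicit false
universe u v
open CategoryTheory
open ArtFun

namespace Groth.Agent.S12734

/-- A functor F on Artinian local Λ-algebras with residue field k is prorepresentable if and only if (a)
F(k) is a point and F satisfies (RS): F(A₁ ×_A A₂) → F(A₁) ×_{F(A)} F(A₂) is bijective whenever A₂ →
A is surjective; (b) its tangent space is finite-dimensional; and (c) the map from morphisms k →
k[ε] of the category (the Λ-derivations of k) to the tangent space, σ ↦ F(σ)(x₀), is injective.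
Condition (c) is empty when k is separable over the image of Λ in k. -/
theorem result {Λ : Type u} {k : Type u} [CommRing Λ] [Field k] [Algebra Λ k]
    [IsNoetherianRing Λ] [Module.Finite Λ k]
    (F : ArtFun.Art Λ k ⥤ Type v) [ArtFun.TangentStr F] :
    ArtFun.IsProrepresentable F ↔
      ((ArtFun.H0 F ∧ (∀ ⦃B A A' A'' : ArtFun.Art Λ k⦄ (p' : B ⟶ A') (p'' : B ⟶ A'') (f' : A' ⟶ A) (f'' : A'' ⟶ A)
        (h : ArtFun.Art.IsFibreProd p' p'' f' f''), Function.Surjective f'' → Function.Bijective (ArtFun.cmp F h))) ∧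
        ArtFun.Hfin F ∧
        ∀ x₀ : F.obj (ArtFun.Art.base Λ k),
          Function.Injective (fun σ : ArtFun.Art.base Λ k ⟶ ArtFun.Art.dual Λ k => F.map σ x₀)) := by
  constructor
  · rintro ⟨⟨R, ξ, hξ⟩⟩
    refine ⟨⟨Groth.Agent.ArtFunLib.h0_of_surjective (hξ _).2, Groth.Agent.ArtFunLib.rs_of_universal hξ⟩,
      Groth.Agent.ArtFunLib.hfin_of_hasHull ⟨⟨R, ξ, Groth.Agent.ArtFunLib.isMiniversal_of_universal hξ⟩⟩,
      fun x₀ σ σ' h => ?_⟩
    obtain ⟨pt, rfl⟩ := (hξ _).2 x₀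
    have e := (hξ _).1 ((ξ.natural σ pt).trans (h.trans (ξ.natural σ' pt).symm))
    refine Groth.Agent.ArtFunLib.hom_ext' fun (a : k) => ?_
    obtain ⟨r, hr⟩ := R.res_surjective a
    have hp : pt.1 r = a := (AlgHom.congr_fun pt.2 r).trans hr
    rw [← hp]
    exact congrArg (fun χ : ArtFun.HomSet R.carrier R.res (ArtFun.Art.dual Λ k) => χ.1 r) e
  · rintro ⟨⟨h0, hrs⟩, h3, hc⟩
    have hrs' : Groth.Agent.ArtFunLib.RS F := hrs
    obtain ⟨V⟩ := Groth.Agent.ArtFunLib.hasVersal_of F h0 hrs'.s1 hrs'.heps h3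
    obtain ⟨H⟩ := Groth.Agent.ArtFunLib.hasHull_of_versal h0 hrs'.heps (fun x₀ σ h => hc x₀ h) V
    exact ⟨⟨H.ring, H.family,
      Groth.Agent.ArtFunLib.isUniversal_of_miniversal H.miniversal h0 hrs'.hsq⟩⟩

end Groth.Agent.S12734
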