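import Groth.Statements.S12256
import Groth.Agent.Lib.NodeDef.Node
import Groth.Agent.Lib.NodeDef.Rings

set_option autoImplicit false
universe u
open CategoryTheory CategoryTheory.Limits AlgebraicGeometry
open Deform

namespace Groth.Agent.S12256

/-- Let k be an algebraically closed field and C = Spec k[x, y]/(xy) the union of the two coordinate
axes in the affine plane. Then the local moduli functor Def_C, of isomorphism classes of
deformations of C over local Artinian k-algebras with residue field k, is not prorepresentable by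
any complete local Noetherian k-algebra with residue field k. -/
theorem result
    {k : Type u} [Field k] [IsAlgClosed k] :
    ¬ ArtFun.IsProrepresentable (ArtFun.defFunctor (Λ := k)
      (Spec (CommRingCat.of (MvPolynomial (Fin 2) k ⧸
        Ideal.span {(MvPolynomial.X 0 * MvPolynomial.X 1 : MvPolynomial (Fin 2) k)})))
      (Spec.map (CommRingCat.ofHom (algebraMap k (MvPolynomial (Fin 2) k ⧸
        Ideal.span {(MvPolynomial.X 0 * MvPolynomial.X 1 : MvPolynomial (Fin 2) k)}))))) := by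
  rintro ⟨⟨R, ξ, hξ⟩⟩
  obtain ⟨φ, hφ⟩ := (hξ (NodeDef.artTE k)).2 (NodeDef.defn (NodeDef.elt k 0) (NodeDef.res_elt k 0)).cl
  obtain ⟨ψ, hψ⟩ := (hξ (NodeDef.artTE k)).2 (NodeDef.defn (NodeDef.elt k 1) (NodeDef.res_elt k 1)).cl
  have hrt : (NodeDef.artT3 k).res (NodeDef.tt k) = 0 := NodeDef.resT3_tt k
  have hru : NodeDef.resT3 k (NodeDef.tt k + NodeDef.tt k ^ 2) = 0 := by
    simp [NodeDef.resT3_tt]
  have e0 : NodeDef.pr2 k (NodeDef.elt k 0) = NodeDef.tt k := by
    change NodeDef.tt k + algebraMap k (NodeDef.T3 k) 0 * NodeDef.tt k ^ 2 = NodeDef.tt k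
    simp
  have e1 : NodeDef.pr2 k (NodeDef.elt k 1) = NodeDef.tt k + NodeDef.tt k ^ 2 := by
    change NodeDef.tt k + algebraMap k (NodeDef.T3 k) 1 * NodeDef.tt k ^ 2 = NodeDef.tt k + NodeDef.tt k ^ 2
    simp
  have hu : IsUnit (1 + NodeDef.tt k) :=
    (IsNilpotent.isUnit_one_add ⟨3, NodeDef.tt_pow k⟩)
  obtain ⟨u, hu⟩ := hu
  have hu1 : NodeDef.resT3 k (u : NodeDef.T3 k) = 1 := by
    simp [hu, NodeDef.resT3_tt]
  have hmul : NodeDef.tt k + NodeDef.tt k ^ 2 = u * NodeDef.tt k := by rw [hu]; ring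
  have h1 : ArtFun.HomSet.map (NodeDef.pr1 k) φ = ArtFun.HomSet.map (NodeDef.pr1 k) ψ := (hξ _).1 (by
    rw [ξ.natural, ξ.natural, hφ, hψ, ArtFun.defFunctor_map_cl, ArtFun.defFunctor_map_cl]
    exact Quotient.sound ⟨(NodeDef.baseChangeIso (NodeDef.pr1 k) _ hrt rfl).trans
      (NodeDef.baseChangeIso (NodeDef.pr1 k) _ hrt rfl).symm⟩)
  have h2 : ArtFun.HomSet.map (NodeDef.pr2 k) φ = ArtFun.HomSet.map (NodeDef.pr2 k) ψ := (hξ _).1 (by
    rw [ξ.natural, ξ.natural, hφ, hψ, ArtFun.defFunctor_map_cl, ArtFun.defFunctor_map_cl]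
    exact Quotient.sound ⟨((NodeDef.baseChangeIso (NodeDef.pr2 k) _ hrt e0).trans
      (NodeDef.scaleIso hrt hru u hu1 hmul)).trans (NodeDef.baseChangeIso (NodeDef.pr2 k) _ hru e1).symm⟩)
  have heq : φ = ψ := Subtype.ext (AlgHom.ext fun r => NodeDef.pr_jointly_injective k
    (congrArg (fun χ : ArtFun.HomSet R.carrier R.res (NodeDef.artT3 k) => χ.1 r) h1)
    (congrArg (fun χ : ArtFun.HomSet R.carrier R.res (NodeDef.artT3 k) => χ.1 r) h2))
  have h3 := congrArg (fun χ => (ArtFun.defFunctor _ _).map (NodeDef.prE k) χ) (hφ.symm.trans ((congrArg _ heq).trans hψ))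
  simp only [ArtFun.defFunctor_map_cl] at h3
  obtain ⟨e⟩ := Quotient.exact h3
  have hr1 : (ArtFun.Art.dual k k).res (TrivSqZeroExt.inr (1 : k)) = 0 := rfl
  have hm : ∀ a b : DualNumber k, a.fst = 0 → b.fst = 0 → a * b = 0 := fun a b ha hb =>
    TrivSqZeroExt.ext (by simp [ha]) (by simp [ha, hb])
  have := NodeDef.eq_of_iso (A := ArtFun.Art.dual k k)
    (fun a b ha hb => hm a b ha hb) hr1
    (((NodeDef.baseChangeIso (NodeDef.prE k) _ (map_zero _) (TrivSqZeroExt.inr_zero k)).symm.trans e).trans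
      (NodeDef.baseChangeIso (NodeDef.prE k) _ hr1 rfl))
  exact one_ne_zero (congrArg TrivSqZeroExt.snd this : (1 : k) = 0)

end Groth.Agent.S12256
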