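import Groth.Statements.S14065
-- import your own Groth.Agent.* helpers here
import Groth.Agent.Lib.CurveOm17.Apps

set_option autoImplicit false
universe u
open CategoryTheory CategoryTheory.Limits AlgebraicGeometry TopologicalSpace
open Curves

namespace Groth.Agent.S14065

/-- Let k be an algebraically closed field and C a smooth projective connected curve over k — an
integral scheme, proper and smooth over k, of dimension 1 — of genus g = dim_k H¹(C, O_C) with g ≥
2, and let T be the tangent module of C, a tensor inverse of the module of differentials Ω_{C/k}.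
Then dim_k H¹(C, T) = 3g − 3. (The published proof makes this computation, together with the
vanishing of H⁰(C, T), to find the dimension of the tangent space of the moduli stack of genus-g
curves at C; only the dimension of H¹(C, T) is stated here.) -/
theorem result (k : Type u) [Field k] [IsAlgClosed k]
    (C : Scheme.{u}) [C.Over (Spec (CommRingCat.of k))] [IsProper (C ↘ (Spec (CommRingCat.of k)))] [Smooth (C ↘ (Spec (CommRingCat.of k)))] [IsIntegral C]
    (hdim : topologicalKrullDim C = 1) (g : ℕ) (hg : Curv2.genus k C = g) (h2 : 2 ≤ g)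
    (T : C.Modules) (hT : ClSub.IsInverseOf T (Omega.sheaf (C ↘ (Spec (CommRingCat.of k))))) :
    Module.finrank k (Coh.HH C T 1) = 3 * g - 3 := by
  obtain ⟨e⟩ := hT
  obtain ⟨hX, h0, hbig⟩ := Groth.Agent.VB17.setup (k := k) (X := C) hdim
  obtain ⟨-, -, hΩ, hdO, lam, hW⟩ := Groth.Agent.CurveOm17.exists_isDualizing_omega' hdim h0
    (Groth.Agent.Omega12.isUniversal_dOmega (f := C ↘ Spec (CommRingCat.of k)))
  set Ω := Omega.sheaf (C ↘ Spec (CommRingCat.of k))
  have hTi : PicF.IsInvertible T := Groth.Agent.M2.isInvertible_of_tensor_iso hΩ e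
  have h2 := Groth.Agent.M2.isInvertible_tensor hΩ hΩ
  have h2' := Groth.Agent.M2.isInvertible_tensor hTi hTi
  let e2 : CohB1.tensorMod (CohB1.tensorMod T T) (CohB1.tensorMod Ω Ω) ≅ Coh.structureModule C :=
    Groth.Agent.M2.tensorInterchange T T Ω Ω ≪≫ Groth.Agent.M2.tensorIso e e ≪≫ Groth.Agent.M2.tensorLUnit _
  have hd2 : Curv2.deg k C (CohB1.tensorMod Ω Ω) 1 = 4 * (g : ℤ) - 4 := by
    rw [hX.like.deg_tensor_invertible hΩ hΩ, hdO, hg]; ring
  have hdT : Curv2.deg k C T 1 = -(2 * (g : ℤ) - 2) := by
    rw [hX.like.deg_of_tensor_iso hΩ hTi (Groth.Agent.M2.tensorComm _ _ ≪≫ e), hdO, hg]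
  haveI : Subsingleton (Coh.HH C T 0) := by
    by_contra hne
    rw [not_subsingleton_iff_nontrivial] at hne
    obtain ⟨i⟩ := Groth.Agent.CurveOm17.nonempty_iso_of_deg_nonpos hX hTi (by omega) hne
    have := (Groth.Agent.CurveCoh17.deg_iso (k := k) (r := 1) i).symm.trans Groth.Agent.CurveCoh17.deg_structureModule
    omega
  have h1 := hW.finrank_h1 hX h0 hbig hTi hΩ (Groth.Agent.M2.tensorComm _ _ ≪≫ e)
  have hr := hX.like.rr (Groth.Agent.CurveCoh17.isCoh_of_ofRank
    ((Groth.Agent.M2.isInvertible_iff_isFinLocFreeOfRank_one _).1 hTi))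
  rw [h0, Module.finrank_zero_of_subsingleton (R := k) (M := Coh.HH C T 0), hdT] at hr
  rw [hg] at hr
  omega

end Groth.Agent.S14065
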