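import Groth.Statements.S12259
import Groth.Agent.S12255
import Groth.Agent.S14065

set_option autoImplicit false
universe u
open CategoryTheory CategoryTheory.Limits AlgebraicGeometry
open Deform

namespace Groth.Agent.S12259

/-- Let k be an algebraically closed field and X a nonsingular connected projective curve over k, i.e. X
is smooth over k, connected, of dimension one and a closed subscheme of some projective space P^n_k,
and assume its genus g = dim_k H^1(X, O_X) is at least 2. Then the local moduli functor Def_X
(isomorphism classes of deformations of X over local Artinian k-algebras with residue field k) is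
prorepresentable by a complete local Noetherian k-algebra with residue field k. (The published
statement treats every genus and identifies the prorepresenting ring with a power series ring in 0,
1 or 3g − 3 variables; this row is the prorepresentability for g ≥ 2 only.) -/
theorem result
    {k : Type u} [Field k] [IsAlgClosed k] (X : Scheme.{u}) [X.Over (Spec (CommRingCat.of k))]
    [Smooth (X ↘ Spec (CommRingCat.of k))] [IsSeparated (X ↘ Spec (CommRingCat.of k))]
    [QuasiCompact (X ↘ Spec (CommRingCat.of k))] [ConnectedSpace X]
    (hdim : topologicalKrullDim X = 1)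
    (hproj : ∃ (n : ℕ) (c : X ⟶ CohB1.ProjSpaceOver n (Spec (CommRingCat.of k))),
      IsClosedImmersion c ∧ c ≫ CohB1.ProjSpaceOver.toBase n (Spec (CommRingCat.of k)) = X ↘ Spec (CommRingCat.of k))
    (hg : 2 ≤ Curv2.genus k X) :
    ArtFun.IsProrepresentable (ArtFun.defFunctor (Λ := k) X (X ↘ Spec (CommRingCat.of k))) := by
  haveI : LocallyOfFiniteType (X ↘ Spec (CommRingCat.of k)) := inferInstance
  obtain ⟨n, c, hc, hcx⟩ := hproj
  haveI := hc
  haveI : IsProper (X ↘ Spec (CommRingCat.of k)) := by rw [← hcx]; infer_instance
  haveI : GeometricallyConnected (X ↘ Spec (CommRingCat.of k)) :=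
    Groth.Agent.GeomIrr.geometricallyConnected_of_isSepClosed _
  haveI : IsIntegral X := Groth.Agent.VB17.isIntegral_of_smooth (k := k) (X := X)
  refine Groth.Agent.S12255.result X _ ⟨n, c, hc, hcx⟩ ⟨fun α β => ?_⟩
  obtain ⟨hX, h0, -⟩ := Groth.Agent.VB17.setup (k := k) (X := X) hdim
  obtain ⟨-, -, hΩ, hdO, -⟩ := Groth.Agent.CurveOm17.exists_isDualizing_omega' hdim h0
    (Groth.Agent.Omega12.isUniversal_dOmega (f := X ↘ Spec (CommRingCat.of k)))
  have key : ∀ γ : Omega.sheaf (X ↘ Spec (CommRingCat.of k)) ⟶ Coh.structureModule X, γ = 0 := by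
    intro γ
    by_contra hne
    haveI := Groth.Agent.VB17.mono_of_ne_zero hX hΩ (PicLoc.isInvertible_structureModule X) γ hne
    have hle := (Groth.Agent.VB17.deg_le_of_mono hX.like
      ((Groth.Agent.M2.isInvertible_iff_isFinLocFreeOfRank_one _).1 hΩ)
      ((Groth.Agent.M2.isInvertible_iff_isFinLocFreeOfRank_one _).1
        (PicLoc.isInvertible_structureModule X)) γ).1
    rw [hdO, Groth.Agent.CurveCoh17.deg_structureModule] at hle
    omega
  rw [key α, key β]

end Groth.Agent.S12259
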