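import Groth.Statements.S1226
import Groth.Agent.Lib.Dev4.ImpurityQuasiFinite

set_option autoImplicit false
universe u
open FlatMor
set_option maxSynthPendingDepth 3
set_option backward.isDefEq.respectTransparency.types false
attribute [local instance] Algebra.TensorProduct.rightAlgebra

set_option backward.isDefEq.respectTransparency.types false

namespace Groth.Agent.S1226

/-- Ring form, X = Spec B affine: let B be a finite type A-algebra, N a finite B-module and p a prime of
A; let A' be an A-algebra with a prime p' over p such that A' is of finite type over A and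
quasi-finite at p', and let B', N' be the base changes of B, N. If N is pure along the fibre over p
then N' is pure along the fibre over p'. -/
theorem result {A B : Type u} [CommRing A] [CommRing B] [Algebra A B] [Algebra.FiniteType A B]
    (N : Type u) [AddCommGroup N] [Module B N] [Module.Finite B N] (p : Ideal A) [p.IsPrime]
    (A' B' N' : Type u) [CommRing A'] [CommRing B'] [Algebra A A'] [Algebra B B'] [Algebra A' B'] [Algebra A B']
    [IsScalarTower A B B'] [IsScalarTower A A' B'] [Algebra.IsPushout A B A' B']
    [AddCommGroup N'] [Module B' N'] [Module B N'] [IsScalarTower B B' N'] (f : N →ₗ[B] N') (hf : IsBaseChange B' f)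
    (p' : Ideal A') [p'.IsPrime] [p'.LiesOver p] [Algebra.FiniteType A A'] [Algebra.QuasiFiniteAt A p']
    (h : FlatCA.IsPureAlong A B N p) : FlatCA.IsPureAlong A' B' N' p' := by
  intro A₁ B₁ N₁ _ _ _ _ _ _ _ _ _ _ _ _ _ _ g t' t _ _ P _ hnhd himp
  obtain ⟨het, htp', -⟩ := id hnhd
  haveI := het
  haveI := htp'
  obtain ⟨hpo, hbc, hle, -, hPt, hass, hno⟩ := himp
  haveI := hpo
  letI : Algebra A A₁ := Algebra.compHom A₁ (algebraMap A A')
  haveI : IsScalarTower A A' A₁ := IsScalarTower.of_algebraMap_eq fun _ => rfl
  letI : Algebra A B₁ := Algebra.compHom B₁ (algebraMap A A')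
  haveI : IsScalarTower A A' B₁ := IsScalarTower.of_algebraMap_eq fun _ => rfl
  haveI : IsScalarTower A A₁ B₁ := IsScalarTower.of_algebraMap_eq fun c => by
    rw [IsScalarTower.algebraMap_apply A A' A₁, ← IsScalarTower.algebraMap_apply A' A₁ B₁]; rfl
  haveI : IsScalarTower A B' B₁ := IsScalarTower.of_algebraMap_eq fun c => by
    rw [IsScalarTower.algebraMap_apply A A' B', ← IsScalarTower.algebraMap_apply A' B' B₁]; rfl
  letI : Algebra B B₁ := Algebra.compHom B₁ (algebraMap B B')
  haveI : IsScalarTower B B' B₁ := IsScalarTower.of_algebraMap_eq fun _ => rfl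
  haveI : IsScalarTower A B B₁ := IsScalarTower.of_algebraMap_eq fun c => by
    rw [IsScalarTower.algebraMap_apply B B' B₁, ← IsScalarTower.algebraMap_apply A B B', IsScalarTower.algebraMap_apply A B' B₁]
  letI : Module B N₁ := Module.compHom N₁ (algebraMap B B')
  haveI : IsScalarTower B B' N₁ := IsScalarTower.of_algebraMap_smul fun _ _ => rfl
  haveI : IsScalarTower B B₁ N₁ := IsScalarTower.of_algebraMap_smul fun b x => by
    rw [IsScalarTower.algebraMap_apply B B' B₁, algebraMap_smul, algebraMap_smul]
  haveI hpo₁ : Algebra.IsPushout A B A₁ B₁ :=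
    (haveI : Algebra.IsPushout A A' B B' := Algebra.IsPushout.symm inferInstance
    (Algebra.IsPushout.comp_iff (R := A) (S := A') (R' := B) (S' := B') (T := A₁) (T' := B₁)
      ).2 (Algebra.IsPushout.symm hpo)).symm
  have himp₁ : FlatCA.IsImpurity A B N p A₁ B₁ N₁ ((g.restrictScalars B).comp f) t' t P :=
    ⟨hpo₁, hf.comp hbc, hle, Ideal.LiesOver.trans t p' p, hPt, hass, hno⟩
  letI : Module A N := Module.compHom N (algebraMap A B)
  haveI : IsScalarTower A B N := IsScalarTower.of_algebraMap_smul fun _ _ => rfl
  haveI : Algebra.FiniteType A A₁ := Algebra.FiniteType.trans (S := A') inferInstance inferInstance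
  haveI : Algebra.QuasiFiniteAt A t := by
    haveI : Algebra.QuasiFinite A (Localization.AtPrime p') := ‹Algebra.QuasiFiniteAt A p'›
    letI := Localization.AtPrime.algebraOfLiesOver p' t
    haveI : Algebra.QuasiFinite A' (Localization.AtPrime t) := Algebra.QuasiFinite.of_isLocalization (R := A') t.primeCompl
    haveI : Algebra.QuasiFinite (Localization.AtPrime p') (Localization.AtPrime t) :=
      Algebra.QuasiFinite.of_restrictScalars A' _ _
    exact Algebra.QuasiFinite.trans A (Localization.AtPrime p') (Localization.AtPrime t)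
  have hd := Groth.Agent.Dev4.hasDatum_of_isImpurity himp₁
  haveI : t.LiesOver p := Ideal.LiesOver.trans t p' p
  obtain ⟨A₀, _, _, u', u, _, _, hnhd₀, hle₀, hd₀⟩ :=
    Groth.Agent.Dev4.exists_etaleNhd_datum (p := p) t' t hle hd
  obtain ⟨P₀, hP₀, himp₀⟩ := Groth.Agent.Dev4.hasImpurity_of_hasDatum u' u hle₀ hnhd₀.2.choose hd₀
  exact h A₀ (TensorProduct A A₀ B) (TensorProduct B (TensorProduct A A₀ B) N) (TensorProduct.mk B (TensorProduct A A₀ B) N 1)
    u' u P₀ hnhd₀ himp₀

end Groth.Agent.S1226
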