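import Groth.Statements.S12261
import Groth.Agent.S12726
import Groth.Agent.S12734
import Groth.Agent.Lib.HilbRS3.Tangent
import Groth.Agent.Lib.ProjSpace.Basic

set_option autoImplicit false
universe u
open CategoryTheory CategoryTheory.Limits AlgebraicGeometry
open Deform

namespace Groth.Agent.S12261

/-- Let k be an algebraically closed field, Y a separated k-scheme of finite type and X ⊆ Y the closed
subscheme of a quasi-coherent ideal sheaf I₀; assume X is projective over k, i.e. X admits a closed
immersion over k into some projective space P^n_k. Then the local Hilbert functor of X in Y (closed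
subschemes of Y ×_k Spec A flat over Spec A restricting to X on the closed fibre, for A local
Artinian with residue field k) is prorepresentable by a complete local Noetherian k-algebra with
residue field k. (The published statement assumes only that the space of global sections of the
normal sheaf of X in Y is finite-dimensional, X projective being the named instance; this row states
the projective case.) -/
theorem result
    {k : Type u} [Field k] [IsAlgClosed k] (Y : Scheme.{u}) (y : Y ⟶ Spec (CommRingCat.of k))
    [LocallyOfFiniteType y] [IsSeparated y] [QuasiCompact y] (I₀ : Y.IdealSheafData)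
    (hproj : ∃ (n : ℕ) (c : I₀.subscheme ⟶ CohB1.ProjSpaceOver n (Spec (CommRingCat.of k))),
      IsClosedImmersion c ∧ c ≫ CohB1.ProjSpaceOver.toBase n (Spec (CommRingCat.of k)) = I₀.subschemeι ≫ y) :
    ArtFun.IsProrepresentable (ArtFun.localHilb Y y I₀) := by
  have heps : ∀ ⦃B A A' A'' : ArtFun.Art k k⦄ (p' : B ⟶ A') (p'' : B ⟶ A'') (f' : A' ⟶ A) (f'' : A'' ⟶ A)
      (h : ArtFun.Art.IsFibreProd p' p'' f' f''), Function.Surjective f'' →
      Function.Bijective (ArtFun.cmp (ArtFun.localHilb Y y I₀) h) :=
    fun B A A' A'' p' p'' f' f'' h hf => HilbRS3.rs Y y I₀ p' p'' f' f'' h hf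
  obtain ⟨T⟩ := S12726.result (ArtFun.localHilb Y y I₀) (HilbRS3.h0 Y y I₀)
    (fun B A' p' p'' h => heps p' p'' _ _ h (fun c => ⟨algebraMap k _ c, (ArtFun.Art.dual k k).res.commutes c⟩))
  letI := T
  haveI : IsProper (I₀.subschemeι ≫ y) := by
    obtain ⟨n, c, hc, hcy⟩ := hproj
    rw [← hcy]
    haveI := hc
    haveI : IsProper (CohB1.ProjSpaceOver.toBase n (Spec (CommRingCat.of k))) := ProjSpace.isProper_toBase _ _
    infer_instance
  refine (S12734.result (ArtFun.localHilb Y y I₀)).2 ⟨⟨HilbRS3.h0 Y y I₀, heps⟩, HilbRS3.hfin y, ?_⟩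
  intro x₀ σ σ' _
  refine ArtFun.Art.hom_ext (AlgHom.ext fun c => ?_)
  exact (σ.toAlgHom.commutes c).trans (σ'.toAlgHom.commutes c).symm

end Groth.Agent.S12261
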