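import Groth.Statements.S12262
import Groth.Agent.Lib.HilbObs3.Regular
import Groth.Agent.Lib.HilbObs3.Vanish

set_option autoImplicit false
universe u
open CategoryTheory CategoryTheory.Limits AlgebraicGeometry
open Deform

namespace Groth.Agent.S12262

/-- Let k be an algebraically closed field, Y a separated k-scheme of finite type and X ⊆ Y the closed
subscheme of a quasi-coherent ideal sheaf I, such that the inclusion X → Y is a regular closed
immersion (I is locally generated by a regular sequence) and X is projective over k. Let N =
Hom_{O_X}(I/I², O_X) be the normal sheaf and suppose H^1(X, N) = 0, written here as Ext¹_{O_X}(I/I²,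
O_X) = 0 for the conormal sheaf I/I² (the same group, since I/I² is locally free). Then every
deformation of X in Y over a local Artinian k-algebra A with residue field k (a closed subscheme of
Y ×_k Spec A, flat over Spec A, restricting to X on the closed fibre) lifts along every small
extension A' → A: the map of the local Hilbert functor from A' to A is surjective. (The published
statement says that H^1(X, N) is an obstruction space: each deformation over A has an obstruction
class in H^1(X, N) attached to each small extension of A, vanishing exactly when a lifting exists;
this row states the consequence for H^1(X, N) = 0.) -/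
theorem result
    {k : Type u} [Field k] [IsAlgClosed k] (Y : Scheme.{u}) (y : Y ⟶ Spec (CommRingCat.of k))
    [LocallyOfFiniteType y] [IsSeparated y] [QuasiCompact y] (I₀ : Y.IdealSheafData)
    (hreg : Mor2.IsRegularClosedImmersion I₀.subschemeι)
    (hproj : ∃ (n : ℕ) (c : I₀.subscheme ⟶ CohB1.ProjSpaceOver n (Spec (CommRingCat.of k))),
      IsClosedImmersion c ∧ c ≫ CohB1.ProjSpaceOver.toBase n (Spec (CommRingCat.of k)) = I₀.subschemeι ≫ y)
    [HasExt.{u} I₀.subscheme.Modules]
    (h1 : Subsingleton (Abelian.Ext.{u} (Omega.conormal I₀.subschemeι) (Coh.structureModule I₀.subscheme) 1))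
    {A' A : ArtFun.Art k k} (p : A' ⟶ A) (hp : ArtFun.Art.IsSmallExt p) :
    Function.Surjective ((ArtFun.localHilb Y y I₀).map p) := by
  haveI : IsLocallyNoetherian Y := LocallyOfFiniteType.isLocallyNoetherian y
  haveI : CompactSpace Y := QuasiCompact.compactSpace_of_compactSpace y
  haveI : IsNoetherian Y := {}
  haveI : DCoh.HasSheafHom (Omega.conormal I₀.subschemeι) := HilbObs3.hasSheafHom _
  refine HilbObs3.surjective_map_of_local y p hp (HilbObs3.subsingleton_HH_homMod I₀
    (HilbObs3.subsingleton_HH_one_sheafHom _ _ h1)) fun J t ht z => ?_
  exact HilbObs3.exists_liftOn_of_regularImmersion y p J hreg hp ht z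

end Groth.Agent.S12262
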