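import Groth.Statements.S12263
import Groth.Agent.Lib.DefAff3.Scheme
import Groth.Agent.Lib.ArtFun.Basic

set_option autoImplicit false
universe u
open CategoryTheory CategoryTheory.Limits AlgebraicGeometry
open Deform

namespace Groth.Agent.S12263

set_option backward.isDefEq.respectTransparency false

open Groth.Agent

theorem subsingleton_T1 {k B₀ : Type u} [Field k] [CommRing B₀] [Algebra k B₀]
    (hT : ∀ E : Exal.Ext k B₀ B₀, E.IsTrivial) : Subsingleton (CotT.T1 (CotT.canon k B₀) B₀) := by
  suffices h : ∀ v : CotT.T1 (CotT.canon k B₀) B₀, v = 0 from ⟨fun a b => (h a).trans (h b).symm⟩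
  intro v
  obtain ⟨φ, rfl⟩ := CotT3.homToT1_surjective (CotT.canon k B₀) B₀ v
  obtain ⟨X, h, hh⟩ := CotT3.exists_classified_ext (CotT.canon k B₀) φ
  obtain ⟨s, hs⟩ := hT X
  let P := (CotT.canon k B₀).toExtension
  have h' : CotT3.IsClassifier (CotT.canon k B₀) X (s.toRingHom.comp (algebraMap P.Ring B₀)) 0 := by
    refine ⟨fun a => ?_, fun r => hs _, fun x => ?_⟩
    · show s (algebraMap P.Ring B₀ (algebraMap k P.Ring a)) = _
      rw [← IsScalarTower.algebraMap_apply, AlgHom.commutes]
    · show s (algebraMap P.Ring B₀ x) = X.incl 0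
      rw [x.2, map_zero, map_zero]
  rw [CotT3.homToT1_eq_of_isClassifier (CotT.canon k B₀) hh h', map_zero]

theorem T1congr {A B : Type u} [CommRing A] [CommRing B] [Algebra A B] {ι σ : Type u}
    (P : Algebra.Presentation A B ι σ) {M N : Type u} [AddCommGroup M] [Module B M] [AddCommGroup N] [Module B N]
    (L : M ≃ₗ[B] N) : Nonempty (CotT.T1 P M ≃ CotT.T1 P N) := by
  refine ⟨⟨CotT.T1map P L.toLinearMap, CotT.T1map P L.symm.toLinearMap, fun v => ?_, fun v => ?_⟩⟩
  · obtain ⟨φ, rfl⟩ := Submodule.mkQ_surjective _ v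
    exact congrArg Submodule.Quotient.mk (Subtype.ext (LinearMap.ext fun z => L.symm_apply_apply (φ.1 z)))
  · obtain ⟨φ, rfl⟩ := Submodule.mkQ_surjective _ v
    exact congrArg Submodule.Quotient.mk (Subtype.ext (LinearMap.ext fun z => L.apply_symm_apply (φ.1 z)))

theorem ofBase_comp {k : Type u} [Field k] {A B : ArtFun.Art k k} (g : A ⟶ B) :
    ArtFun.Art.ofBase A ≫ g = ArtFun.Art.ofBase B :=
  ArtFun.Art.hom_ext (AlgHom.ext fun c => g.toAlgHom.commutes c)

/-- Let k be an algebraically closed field and B₀ a finitely generated commutative k-algebra. Suppose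
T^1_{B₀} = 0 in the form: every k-algebra extension of B₀ by the B₀-module B₀ (square-zero kernel)
is trivial. Then B₀ is rigid: every deformation of Spec B₀ over a local Artinian k-algebra A with
residue field k (a scheme flat over Spec A together with a cartesian square exhibiting Spec B₀ as
the fibre over the closed point) is isomorphic, over Spec A and under Spec B₀, to the product
deformation Spec B₀ ×_k Spec A. (The published statement is for a k-algebra B₀, Noetherian by the
standing convention; this row takes B₀ finitely generated over k, the case covered by the results on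
algebraic schemes that its proof cites. It also asserts a semiuniversal formal element when T^1_{B₀}
is finite-dimensional, in particular for isolated singularities; those clauses are instances of
results on all algebraic schemes and are not repeated here. The first-order deformations of B₀
correspond to the k-algebra extensions of B₀ by B₀, the trivial deformation to the trivial
extension.) -/
theorem result
    {k : Type u} [Field k] [IsAlgClosed k] (B₀ : Type u) [CommRing B₀] [Algebra k B₀] [Algebra.FiniteType k B₀]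
    (hT : ∀ E : Exal.Ext k B₀ B₀, E.IsTrivial) (A : ArtFun.Art k k)
    (ξ : ArtFun.DefSch (Spec (CommRingCat.of B₀)) (Spec.map (CommRingCat.ofHom (algebraMap k B₀))) A) :
    Nonempty (ξ.Iso (ArtFun.DefSch.trivial (Spec (CommRingCat.of B₀))
      (Spec.map (CommRingCat.ofHom (algebraMap k B₀))) inferInstance A)) := by
  classical
  let x := Spec.map (CommRingCat.ofHom (algebraMap k B₀))
  let triv : ∀ A : ArtFun.Art k k, ArtFun.DefSch (Spec (CommRingCat.of B₀)) x A := fun A =>
    ArtFun.DefSch.trivial (Spec (CommRingCat.of B₀)) x inferInstance A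
  have htriv : ∀ {A B : ArtFun.Art k k} (g : A ⟶ B), Nonempty (((triv A).baseChange g).Iso (triv B)) := fun {A B} g => by
    refine ⟨(ArtFun.DefSch.baseChangeComp _ (ArtFun.Art.ofBase A) g).symm.trans ?_⟩
    rw [ofBase_comp]
    exact ArtFun.DefSch.Iso.refl _
  -- deformations over the residue field are trivial
  have hbase : ∀ ξ : ArtFun.DefSch (Spec (CommRingCat.of B₀)) x (ArtFun.Art.base k k),
      Nonempty (ξ.Iso (triv (ArtFun.Art.base k k))) := by
    intro ξ
    haveI : IsIso ξ.i := ξ.isPullback.isIso_fst_of_isIso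
    let u : ξ.Iso (ArtFun.DefSch.self _ x inferInstance) :=
      { iso := (asIso ξ.i).symm
        hom_f := (Iso.inv_comp_eq _).2 (ξ.i_f.trans (ArtFun.Art.comp_specRes_base x)).symm
        i_hom := (asIso ξ.i).hom_inv_id }
    refine ⟨u.trans ?_⟩
    show ArtFun.DefSch.Iso _ ((ArtFun.DefSch.self _ x inferInstance).baseChange (ArtFun.Art.ofBase _))
    rw [show ArtFun.Art.ofBase (ArtFun.Art.base k k) = 𝟙 _ from ArtFun.Art.hom_ext (AlgHom.ext fun c => rfl)]
    exact (ArtFun.DefSch.baseChangeId _).symm
  suffices H : ∀ ⦃A' A : ArtFun.Art k k⦄ (f : A ⟶ A'), Function.Surjective f →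
      (∀ ξ : ArtFun.DefSch (Spec (CommRingCat.of B₀)) x A', Nonempty (ξ.Iso (triv A'))) →
      ∀ ξ : ArtFun.DefSch (Spec (CommRingCat.of B₀)) x A, Nonempty (ξ.Iso (triv A)) from
    H (ArtFun.Art.toBase A) A.res_surjective hbase ξ
  refine ArtFunLib.surjInduction ?_ ?_ ?_
  · intro A' A e he hA' ξ
    obtain ⟨t⟩ := hA' (ξ.baseChange e)
    obtain ⟨t'⟩ := htriv (inv e)
    have h1 : (ξ.baseChange (e ≫ inv e)).Iso ξ := by
      rw [IsIso.hom_inv_id]; exact ArtFun.DefSch.baseChangeId ξ
    exact ⟨h1.symm.trans ((ArtFun.DefSch.baseChangeComp ξ e (inv e)).trans ((t.baseChange (inv e)).trans t'))⟩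
  · intro A' A p hp hA' ξ
    obtain ⟨u⟩ := hA' (ξ.baseChange p)
    obtain ⟨u₀⟩ := htriv p
    let a : DefAff3.Pt p (triv A') := ⟨ξ, u⟩
    let b : DefAff3.Pt p (triv A') := ⟨triv A, u₀⟩
    obtain ⟨t⟩ := DefAff3.nonempty_quot_equiv_T1 p (triv A') hp.isSemismallExt b
    -- the kernel is one-dimensional
    obtain ⟨x₀, hx₀⟩ : (RingHom.ker p.toAlgHom).IsPrincipal := hp.2.2.1
    let j₀ : ↥(RingHom.ker p.toAlgHom) := ⟨x₀, hx₀ ▸ Submodule.mem_span_singleton_self x₀⟩
    have hsmul : ∀ c : k, ((c • j₀ : ↥(RingHom.ker p.toAlgHom)) : A) = algebraMap k A c * x₀ := fun c => by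
      rw [Submodule.coe_smul_of_tower, Algebra.smul_def]
    have hx0 : x₀ ≠ 0 := fun h => hp.2.1 (by rw [hx₀, h, Submodule.span_zero_singleton])
    have hbij : Function.Bijective (LinearMap.toSpanSingleton k _ j₀) := by
      constructor
      · rw [injective_iff_map_eq_zero]
        intro c hc
        by_contra hc0
        have : algebraMap k A c * x₀ = 0 := by
          rw [← hsmul]; exact congrArg Subtype.val hc
        exact hx0 (((isUnit_iff_ne_zero.2 hc0).map (algebraMap k A)).mul_right_eq_zero.1 this)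
      · rintro ⟨y, hy⟩
        obtain ⟨r, rfl⟩ := Submodule.mem_span_singleton.1 (hx₀ ▸ hy)
        refine ⟨A.res r, Subtype.ext ?_⟩
        show ((A.res r • j₀ : ↥(RingHom.ker p.toAlgHom)) : A) = r • x₀
        rw [hsmul, smul_eq_mul, eq_comm, ← sub_eq_zero, ← sub_mul]
        have := Ideal.mul_mem_mul (DefAff3.res_sub_mem r) j₀.2
        rwa [hp.2.2.2, Submodule.mem_bot] at this
    let L : TensorProduct k B₀ ↥(RingHom.ker p.toAlgHom) ≃ₗ[B₀] B₀ :=
      (TensorProduct.AlgebraTensorModule.congr (LinearEquiv.refl B₀ B₀) (LinearEquiv.ofBijective _ hbij).symm).trans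
        (TensorProduct.AlgebraTensorModule.rid k B₀ B₀)
    obtain ⟨t'⟩ := T1congr (CotT.canon k B₀) L
    haveI := subsingleton_T1 hT
    have hab : Quot.mk (DefAff3.Rel p (triv A')) a = Quot.mk _ b := (t.trans t').injective (Subsingleton.elim _ _)
    let cl : DefAff3.Pt p (triv A') → (ArtFun.defFunctor (Λ := k) (Spec (CommRingCat.of B₀)) x).obj A := fun a => a.1.cl
    have hcl : ∀ a b, DefAff3.Rel p (triv A') a b → cl a = cl b := fun a b h => Quotient.sound ⟨h.choose⟩
    exact Quotient.exact (congrArg (Quot.lift cl hcl) hab)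
  · intro A'' A' A p q _ _ hP hQ hA'' ξ
    exact hP (hQ hA'') ξ

end Groth.Agent.S12263
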