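import Groth.Statements.S12264
import Groth.Agent.Lib.DefAff3.Surj
import Groth.Agent.Lib.ArtFun.Basic

set_option autoImplicit false
universe u
open CategoryTheory CategoryTheory.Limits AlgebraicGeometry
open Deform

namespace Groth.Agent.S12264

set_option backward.isDefEq.respectTransparency false

open Groth.Agent

theorem T2congr {A B : Type u} [CommRing A] [CommRing B] [Algebra A B] {ι σ : Type u}
    (P : Algebra.Presentation A B ι σ) {M N : Type u} [AddCommGroup M] [Module B M] [AddCommGroup N] [Module B N]
    (L : M ≃ₗ[B] N) (h : Subsingleton (CotT.T2 P N)) : Subsingleton (CotT.T2 P M) := by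
  suffices H : ∀ v : CotT.T2 P M, v = 0 from ⟨fun a b => (H a).trans (H b).symm⟩
  intro v
  have : CotT.T2map P L.symm.toLinearMap (CotT.T2map P L.toLinearMap v) = v := by
    obtain ⟨φ, rfl⟩ := Submodule.mkQ_surjective _ v
    exact congrArg Submodule.Quotient.mk (LinearMap.ext fun z => L.symm_apply_apply (φ z))
  rw [← this, Subsingleton.elim (CotT.T2map P L.toLinearMap v) 0, map_zero]

/-- Let k be an algebraically closed field and B₀ a k-algebra given with a finite presentation P =
k[X_i]/(f_s) (finitely many variables and relations), and let T² = T²(B₀/k, B₀) be the second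
cotangent module computed from P (classes of B₀-linear maps on the relation module modulo trivial
relations, modulo those extending to the free module on the relations). Suppose T² = 0. Then Spec B₀
is unobstructed: for every small extension A' → A of local Artinian k-algebras with residue field k
the map Def_{B₀}(A') → Def_{B₀}(A) between isomorphism classes of deformations (schemes flat over
the Artinian base with Spec B₀ as closed fibre) is surjective. (The published statement says that
T²_{B₀} is an obstruction space for Def_{B₀}, for B₀ the quotient of any smooth k-algebra that is a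
localisation of a polynomial ring: each deformation over A has an obstruction in T²_{B₀} attached to
each small extension of A, vanishing exactly when a lifting exists; this row states the consequence
for T²_{B₀} = 0 and a polynomial presentation.) -/
theorem result
    {k : Type u} [Field k] [IsAlgClosed k] (B₀ : Type u) [CommRing B₀] [Algebra k B₀] {ι σ : Type u} [Finite ι] [Finite σ]
    (P : Algebra.Presentation k B₀ ι σ)
    (hT2 : Subsingleton (CotT.T2 P B₀))
    {A' A : ArtFun.Art k k} (p : A' ⟶ A) (hp : ArtFun.Art.IsSmallExt p) :
    Function.Surjective ((ArtFun.defFunctor (Λ := k) (Spec (CommRingCat.of B₀)) (Spec.map (CommRingCat.ofHom (algebraMap k B₀)))).map p) := by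
  classical
  let x := Spec.map (CommRingCat.ofHom (algebraMap k B₀))
  intro c
  induction c using Quotient.inductionOn with
  | h 𝒳 =>
    obtain ⟨x₀, hx₀⟩ : (RingHom.ker p.toAlgHom).IsPrincipal := hp.2.2.1
    let j₀ : ↥(RingHom.ker p.toAlgHom) := ⟨x₀, hx₀ ▸ Submodule.mem_span_singleton_self x₀⟩
    have hsmul : ∀ c : k, ((c • j₀ : ↥(RingHom.ker p.toAlgHom)) : A') = algebraMap k A' c * x₀ := fun c => by
      rw [Submodule.coe_smul_of_tower, Algebra.smul_def]
    have hx0 : x₀ ≠ 0 := fun h => hp.2.1 (by rw [hx₀, h, Submodule.span_zero_singleton])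
    have hbij : Function.Bijective (LinearMap.toSpanSingleton k _ j₀) := by
      constructor
      · rw [injective_iff_map_eq_zero]
        intro c hc
        by_contra hc0
        have : algebraMap k A' c * x₀ = 0 := by
          rw [← hsmul]; exact congrArg Subtype.val hc
        exact hx0 (((isUnit_iff_ne_zero.2 hc0).map (algebraMap k A')).mul_right_eq_zero.1 this)
      · rintro ⟨y, hy⟩
        obtain ⟨r, rfl⟩ := Submodule.mem_span_singleton.1 (hx₀ ▸ hy)
        refine ⟨A'.res r, Subtype.ext ?_⟩
        show ((A'.res r • j₀ : ↥(RingHom.ker p.toAlgHom)) : A') = r • x₀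
        rw [hsmul, smul_eq_mul, eq_comm, ← sub_eq_zero, ← sub_mul]
        have := Ideal.mul_mem_mul (DefAff3.res_sub_mem r) j₀.2
        rwa [hp.2.2.2, Submodule.mem_bot] at this
    let L : TensorProduct k B₀ ↥(RingHom.ker p.toAlgHom) ≃ₗ[B₀] B₀ :=
      (TensorProduct.AlgebraTensorModule.congr (LinearEquiv.refl B₀ B₀) (LinearEquiv.ofBijective _ hbij).symm).trans
        (TensorProduct.AlgebraTensorModule.rid k B₀ B₀)
    haveI := T2congr P L hT2
    obtain ⟨⟨𝒳', u⟩⟩ := DefAff3.nonempty_pt_of_T2 p 𝒳 hp.isSemismallExt P this
    exact ⟨𝒳'.cl, Quotient.sound ⟨u⟩⟩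

end Groth.Agent.S12264
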