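import Groth.Statements.S12268
import Groth.Agent.Lib.DefHull3.Obs
import Groth.Agent.Lib.DefHull3.Count
import Groth.Agent.Lib.DefHull3.Tangent
import Groth.Agent.Lib.ArtFun.Smooth
import Groth.Agent.Lib.H2Alg.PSHom
import Mathlib.RingTheory.MvPowerSeries.NoZeroDivisors

set_option autoImplicit false
universe u
open CategoryTheory CategoryTheory.Limits AlgebraicGeometry
open Deform

namespace Groth.Agent.S12268

open Groth.Agent ArtFun DefHull3 ArtFunLib

section

variable {k : Type u} [Field k] {B₀ : Type u} [CommRing B₀] [Algebra k B₀]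

local notation "DF" => ArtFun.defFunctor (Λ := k) (Spec (CommRingCat.of B₀)) (Spec.map (CommRingCat.ofHom (algebraMap k B₀)))

theorem subsingleton_base_def : Subsingleton ((DF).obj (Art.base k k)) := by
  let x := Spec.map (CommRingCat.ofHom (algebraMap k B₀))
  have hself : ∀ ξ : DefSch (Spec (CommRingCat.of B₀)) x (Art.base k k),
      Nonempty (ξ.Iso (DefSch.self _ x inferInstance)) := fun ξ => by
    haveI : IsIso ξ.i := ξ.isPullback.isIso_fst_of_isIso
    exact ⟨{ iso := (asIso ξ.i).symm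
             hom_f := (Iso.inv_comp_eq _).2 (ξ.i_f.trans (Art.comp_specRes_base x)).symm
             i_hom := (asIso ξ.i).hom_inv_id }⟩
  refine ⟨fun a b => ?_⟩
  obtain ⟨ξ, rfl⟩ := Quotient.exists_rep a
  obtain ⟨η, rfl⟩ := Quotient.exists_rep b
  obtain ⟨u⟩ := hself ξ
  obtain ⟨v⟩ := hself η
  exact Quotient.sound ⟨u.trans v.symm⟩

theorem isSmoothFunctor_iff_hR (H : Hull (DF)) :
    IsSmoothFunctor (DF) ↔ IsSmoothFunctor (hR H.ring.carrier H.ring.res) := by
  constructor
  · intro h B A μ hμ φ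
    obtain ⟨y, hy⟩ := h μ hμ (H.family.app A φ)
    obtain ⟨ψ, hψ, -⟩ := H.miniversal.1 μ hμ φ y hy
    exact ⟨ψ, hψ⟩
  · intro h B A μ hμ a
    haveI := subsingleton_base_def (k := k) (B₀ := B₀)
    let φ₀ : HomSet H.ring.carrier H.ring.res (Art.base k k) := ⟨H.ring.res, AlgHom.id_comp _⟩
    obtain ⟨φ, -, hφ⟩ := H.miniversal.1 (Art.toBase A) A.res_surjective φ₀ a (Subsingleton.elim _ _)
    obtain ⟨ψ, hψ⟩ := h μ hμ φ
    let ψ' : HomSet H.ring.carrier H.ring.res B := ψ
    exact ⟨H.family.app B ψ', (H.family.natural μ ψ').symm.trans ((congrArg (H.family.app A) hψ).trans hφ)⟩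

theorem exists_lift_quot {ι σ : Type u} (P : Algebra.Presentation k B₀ ι σ) [Module.Finite k (CotT.T2 P B₀)]
    {C' C : Art k k} (p : C' ⟶ C) (hp : Art.IsSemismallExt p) (u : (DF).obj C) :
    ∃ x : Fin (Module.finrank k (CotT.T2 P B₀)) → ↥(RingHom.ker p.toAlgHom),
      ∀ (K : Ideal C') (hK : K ≤ IsLocalRing.maximalIdeal C') (hKJ : K ≤ RingHom.ker p.toAlgHom),
        (∀ i, (x i : C') ∈ K) → ∃ u', (DF).map (Art.quotFactor hK p hKJ) u' = u := by
  obtain ⟨𝒳, rfl⟩ := Quotient.exists_rep u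
  obtain ⟨x, hx⟩ := exists_obs p 𝒳 hp P
  refine ⟨x, fun K hK hKJ h => ?_⟩
  obtain ⟨⟨𝒳', e⟩⟩ := hx K hK hKJ h
  exact ⟨𝒳'.cl, Quotient.sound ⟨e⟩⟩

variable {R : CRing k k} {n : ℕ} (π : (psRing (fieldRing k) n).carrier →ₐ[k] R.carrier)

theorem exists_universal_point (hπ : R.res.comp π = (psRing (fieldRing k) n).res) (hπs : Function.Surjective π)
    (hJ2 : RingHom.ker π ≤ IsLocalRing.maximalIdeal (psRing (fieldRing k) n).carrier ^ 2) :
    ∃ q : HomSet R.carrier R.res (tn k k n),
      Function.Bijective fun L : (Fin n → k) →ₗ[k] k => HomSet.map (tnDual (Λ := k) L) q := by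
  classical
  let g : HomSet (fieldRing k).carrier (fieldRing k).res (tn k k n) :=
    ⟨Algebra.ofId k _, AlgHom.ext fun r => (tn k k n).res.commutes r⟩
  obtain ⟨ψ, -, hψX⟩ := exists_ps_point (R := fieldRing k) (n := n) g
    (fun i => (TrivSqZeroExt.inr (Pi.single i 1) : TrivSqZeroExt k (Fin n → k)))
    (fun i => ((tn k k n).mem_maximalIdeal_iff _).2 rfl)
  have hkill : RingHom.ker π ≤ RingHom.ker ψ.1 := fun j hj => by
    have h2 := hJ2 hj
    rw [pow_two] at h2
    refine RingHom.mem_ker.2 (Submodule.mul_induction_on h2 (fun a ha b hb => ?_)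
      fun x y hx hy => by rw [map_add, hx, hy, add_zero])
    have h1 : ∀ c ∈ IsLocalRing.maximalIdeal (psRing (fieldRing k) n).carrier,
        (ψ.1 c : TrivSqZeroExt k (Fin n → k)).fst = 0 := fun c hc =>
      ((tn k k n).mem_maximalIdeal_iff _).1 (homSet_mem_max ψ hc)
    rw [map_mul]
    refine TrivSqZeroExt.ext ((TrivSqZeroExt.fst_mul _ _).trans ?_) ((TrivSqZeroExt.snd_mul _ _).trans ?_)
    · rw [h1 a ha, zero_mul]; rfl
    · rw [h1 a ha, h1 b hb, zero_smul, MulOpposite.op_zero, zero_smul, add_zero]; rfl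
  obtain ⟨q, hq⟩ := exists_desc_point π hπs hπ ψ hkill
  refine ⟨q, fun L L' h => ?_, fun φ => ?_⟩
  · refine (Pi.basisFun k (Fin n)).ext fun i => ?_
    rw [Pi.basisFun_apply]
    have := congrArg (fun χ : HomSet R.carrier R.res (Art.dual k k) => χ.1 (π (MvPowerSeries.X i))) h
    have e : ∀ L : (Fin n → k) →ₗ[k] k, ((HomSet.map (tnDual (Λ := k) L) q).1 (π (MvPowerSeries.X i)) :
        DualNumber k).snd = L (Pi.single i 1) := fun L => by
      show L (TrivSqZeroExt.snd (q.1 (π (MvPowerSeries.X i)) : TrivSqZeroExt k (Fin n → k))) = _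
      exact congrArg (fun t : TrivSqZeroExt k (Fin n → k) => L t.snd) ((hq _).trans (hψX i))
    exact (e L).symm.trans ((congrArg TrivSqZeroExt.snd this).trans (e L'))
  · let c : Fin n → k := fun i => (φ.1 (π (MvPowerSeries.X i)) : DualNumber k).snd
    let L : (Fin n → k) →ₗ[k] k := ∑ i, c i • LinearMap.proj i
    refine ⟨L, homSet_ext fun r => ?_⟩
    obtain ⟨a, rfl⟩ := hπs r
    let pre : HomSet R.carrier R.res (Art.dual k k) →
        HomSet (psRing (fieldRing k) n).carrier (psRing (fieldRing k) n).res (Art.dual k k) :=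
      fun χ => ⟨χ.1.comp π, by rw [← AlgHom.comp_assoc, χ.2, hπ]⟩
    suffices pre (HomSet.map (tnDual (Λ := k) L) q) = pre φ from
      congrArg (fun χ : HomSet (psRing (fieldRing k) n).carrier _ (Art.dual k k) => χ.1 a) this
    refine ps_point_ext (fun (r : k) => ?_) fun i => ?_
    · exact (AlgHom.commutes _ r).trans (AlgHom.commutes _ r).symm
    · show tnDual (Λ := k) L (q.1 (π (MvPowerSeries.X i))) = φ.1 (π (MvPowerSeries.X i))
      rw [hq, hψX]
      refine TrivSqZeroExt.ext ?_ ?_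
      · show (0 : k) = _
        refine (((Art.dual k k).mem_maximalIdeal_iff _).1 (homSet_mem_max φ ?_)).symm
        rw [CRing.mem_maximalIdeal_iff, CRing.res_comp_apply π hπ]
        exact res_psX (fieldRing k) i
      · show L (Pi.single i 1) = c i
        simp [L, Pi.single_apply]

theorem finrank_T1_eq {ι σ : Type u} (P : Algebra.Presentation k B₀ ι σ) (ξ : Family R.carrier R.res (DF))
    (hξ : Function.Bijective (ξ.app (Art.dual k k)))
    (hπ : R.res.comp π = (psRing (fieldRing k) n).res) (hπs : Function.Surjective π)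
    (hJ2 : RingHom.ker π ≤ IsLocalRing.maximalIdeal (psRing (fieldRing k) n).carrier ^ 2) :
    Module.finrank k (CotT.T1 P B₀) = n := by
  classical
  obtain ⟨q, hq⟩ := exists_universal_point π hπ hπs hJ2
  obtain ⟨𝒳, h𝒳⟩ := Quotient.exists_rep (ξ.app _ q)
  obtain ⟨v, hv⟩ := exists_tcl_baseChange P 𝒳
  let T : (DF).obj (Art.dual k k) → CotT.T1 P B₀ := Quotient.lift (fun 𝒴 => tcl P 𝒴) fun a b ⟨e⟩ => by
    obtain ⟨G, hG, hG'⟩ := exists_ringHom_iso e
    exact tcl_eq_of_hom P G hG hG'
  have hT : Function.Bijective T := by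
    constructor
    · intro a b
      obtain ⟨a, rfl⟩ := Quotient.exists_rep a
      obtain ⟨b, rfl⟩ := Quotient.exists_rep b
      exact fun h => Quotient.sound (nonempty_iso_of_tcl_eq P h)
    · intro v
      obtain ⟨𝒴, h𝒴⟩ := exists_tcl_eq P v
      exact ⟨𝒴.cl, h𝒴⟩
  let Ψ : ((Fin n → k) →ₗ[k] k) →ₗ[k] CotT.T1 P B₀ :=
    ∑ i, (LinearMap.applyₗ (R := k) (M := Fin n → k) (M₂ := k) (Pi.single i 1)).smulRight (v i)
  have hΨ : ∀ L, Ψ L = T (ξ.app _ (HomSet.map (tnDual (Λ := k) L) q)) := fun L => by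
    rw [ξ.natural, ← h𝒳]
    refine Eq.trans ?_ (hv L).symm
    rw [LinearMap.sum_apply]
    exact Finset.sum_congr rfl fun i _ => (algebraMap_smul B₀ _ (v i)).symm
  have hb : Function.Bijective Ψ := by
    rw [show (Ψ : _ → _) = T ∘ ξ.app _ ∘ fun L => HomSet.map (tnDual (Λ := k) L) q from funext hΨ]
    exact hT.comp (hξ.comp hq)
  rw [← (LinearEquiv.ofBijective Ψ hb).finrank_eq]
  simp

theorem ker_eq_bot_of_smooth (hπ : R.res.comp π = (psRing (fieldRing k) n).res) (hπs : Function.Surjective π)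
    (hJ2 : RingHom.ker π ≤ IsLocalRing.maximalIdeal (psRing (fieldRing k) n).carrier ^ 2)
    (hR' : IsSmoothFunctor (hR R.carrier R.res)) : RingHom.ker π = ⊥ := by
  obtain ⟨s, hs, hπs'⟩ := exists_lift_of_smooth hR' π hπ hπs (AlgHom.id k _) (AlgHom.comp_id _)
  let m := IsLocalRing.maximalIdeal (psRing (fieldRing k) n).carrier
  let J := RingHom.ker π
  have hd : ∀ a, a - s (π a) ∈ J := fun a => RingHom.mem_ker.2 (by
    rw [map_sub, ← AlgHom.comp_apply π s, hπs', AlgHom.id_apply, sub_self])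
  have hm : ∀ a ∈ m, s (π a) ∈ m := fun a ha => by
    rw [show s (π a) = a - (a - s (π a)) by ring]
    exact sub_mem ha (Ideal.pow_le_self two_ne_zero (hJ2 (hd a)))
  have h2 : ∀ x ∈ m ^ 2, x - s (π x) ∈ m * J := fun x hx => by
    rw [pow_two] at hx
    refine Submodule.mul_induction_on hx (fun a ha b hb => ?_) fun x y hx hy => by
      rw [map_add, map_add, add_sub_add_comm]; exact add_mem hx hy
    rw [map_mul, map_mul, show a * b - s (π a) * s (π b) = b * (a - s (π a)) + s (π a) * (b - s (π b)) by ring]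
    exact add_mem (Ideal.mul_mem_mul hb (hd a)) (Ideal.mul_mem_mul (hm a ha) (hd b))
  have hle : J ≤ m • J := fun j hj => by
    have := h2 j (hJ2 hj)
    rwa [show π j = 0 from hj, map_zero, sub_zero] at this
  exact Submodule.eq_bot_of_le_smul_of_le_jacobson_bot m J (IsNoetherian.noetherian J) hle
    (IsLocalRing.maximalIdeal_le_jacobson ⊥)

theorem smooth_of_ker_eq_bot (hP : IsSmoothFunctor (hR (psRing (fieldRing k) n).carrier (psRing (fieldRing k) n).res))
    (hπ : R.res.comp π = (psRing (fieldRing k) n).res) (hπs : Function.Surjective π)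
    (h : RingHom.ker π = ⊥) : IsSmoothFunctor (hR R.carrier R.res) := fun B A μ hμ (φ : HomSet R.carrier R.res A) => by
  let φ' : HomSet (psRing (fieldRing k) n).carrier (psRing (fieldRing k) n).res A :=
    ⟨φ.1.comp π, by rw [← AlgHom.comp_assoc, φ.2, hπ]⟩
  obtain ⟨ψ, hψ⟩ := hP μ hμ φ'
  obtain ⟨u, hu⟩ := exists_desc_point π hπs hπ ψ (by rw [h]; exact bot_le)
  refine ⟨u, homSet_ext fun r => ?_⟩
  obtain ⟨a, rfl⟩ := hπs r
  exact (congrArg μ (hu a)).trans (congrArg (fun χ : HomSet _ _ A => χ.1 a) hψ)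

end

/-- Let k be an algebraically closed field and B₀ a k-algebra with a finite presentation P =
k[X_i]/(f_s); let T¹ = T¹(B₀/k, B₀) and T² = T²(B₀/k, B₀) be the first and second cotangent modules
computed from P, and assume T¹ is finite-dimensional over k. Then for every semiuniversal formal
deformation of Spec B₀ — a complete local Noetherian k-algebra R̄ with residue field k carrying a
miniversal family for the functor Def_{B₀} of isomorphism classes of deformations — one has dim R̄ ≤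
dim_k T¹; if T² is finite-dimensional as well, dim_k T¹ ≤ dim R̄ + dim_k T²; and dim R̄ = dim_k T¹
holds exactly when Spec B₀ is unobstructed, i.e. Def_{B₀}(B) → Def_{B₀}(A) is surjective for every
surjection B → A of local Artinian k-algebras with residue field k. (The published statement writes
the lower bound as dim_k T¹ − dim_k T² ≤ dim R̄, empty when T² is infinite-dimensional, and allows a
localisation of the polynomial ring as ambient algebra.) -/
theorem result
    {k : Type u} [Field k] [IsAlgClosed k] (B₀ : Type u) [CommRing B₀] [Algebra k B₀] {ι σ : Type u} [Finite ι] [Finite σ]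
    (P : Algebra.Presentation k B₀ ι σ)
    [Module.Finite k (CotT.T1 P B₀)] (H : ArtFun.Hull (ArtFun.defFunctor (Λ := k) (Spec (CommRingCat.of B₀)) (Spec.map (CommRingCat.ofHom (algebraMap k B₀))))) :
    ringKrullDim H.ring.carrier ≤ ((Module.finrank k (CotT.T1 P B₀) : ℕ∞) : WithBot ℕ∞) ∧
      (Module.Finite k (CotT.T2 P B₀) →
        ((Module.finrank k (CotT.T1 P B₀) : ℕ∞) : WithBot ℕ∞) ≤
          ringKrullDim H.ring.carrier + ((Module.finrank k (CotT.T2 P B₀) : ℕ∞) : WithBot ℕ∞)) ∧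
      (ringKrullDim H.ring.carrier = ((Module.finrank k (CotT.T1 P B₀) : ℕ∞) : WithBot ℕ∞) ↔
        ArtFun.IsSmoothFunctor (ArtFun.defFunctor (Λ := k) (Spec (CommRingCat.of B₀)) (Spec.map (CommRingCat.ofHom (algebraMap k B₀))))) := by
  obtain ⟨n, π, hπ, hπs, hJ2, hPsm, hreg⟩ := ArtFunLib.exists_presentation H.ring
  have he := finrank_T1_eq π P H.family H.miniversal.2 hπ hπs hJ2
  have hdim : ringKrullDim (ArtFunLib.psRing (ArtFunLib.fieldRing k) n).carrier = ((n : ℕ∞) : WithBot ℕ∞) :=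
    H2Alg.PSHom.ringKrullDim_eq k n
  have h1 : ringKrullDim H.ring.carrier ≤ ((n : ℕ∞) : WithBot ℕ∞) :=
    (ringKrullDim_le_of_surjective π.toRingHom hπs).trans hdim.le
  rw [he]
  refine ⟨h1, fun hfin => ?_, ?_⟩
  · obtain ⟨s, hs, hspan⟩ := exists_generators_le H.miniversal.1
      (fun p hp u => exists_lift_quot P p hp u) π hπs hJ2
    have hsm : (s : Set _) ⊆ (Ring.jacobson (ArtFunLib.psRing (ArtFunLib.fieldRing k) n).carrier : Set (ArtFunLib.psRing (ArtFunLib.fieldRing k) n).carrier) := by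
      rw [IsLocalRing.ringJacobson_eq_maximalIdeal]
      exact fun a ha => Ideal.pow_le_self two_ne_zero (hJ2 (hspan.le (Ideal.subset_span ha)))
    have h := ringKrullDim_le_ringKrullDim_quotient_add_card s hsm
    rw [ringKrullDim_eq_of_ringEquiv ((Ideal.quotEquivOfEq hspan).trans
      (RingHom.quotientKerEquivOfSurjective (f := π.toRingHom) hπs)), hdim] at h
    refine h.trans (add_le_add le_rfl ?_)
    exact_mod_cast hs
  · rw [isSmoothFunctor_iff_hR]
    refine ⟨fun h => smooth_of_ker_eq_bot π hPsm hπ hπs ?_, fun h => le_antisymm h1 ?_⟩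
    · by_contra hne
      obtain ⟨x, hx, hx0⟩ := Submodule.exists_mem_ne_zero_of_ne_bot hne
      have : IsDomain (ArtFunLib.psRing (ArtFunLib.fieldRing k) n).carrier :=
        (NoZeroDivisors.to_isDomain _ : IsDomain (MvPowerSeries (Fin n) k))
      have h' := ringKrullDim_succ_le_of_surjective π.toRingHom hπs
        (mem_nonZeroDivisors_of_ne_zero hx0) (RingHom.mem_ker.1 hx)
      rw [h, hdim] at h'
      have : ((n + 1 : ℕ) : WithBot ℕ∞) ≤ ((n : ℕ) : WithBot ℕ∞) := by simpa using h'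
      exact Nat.not_succ_le_self n (by exact_mod_cast this)
    · have hker := ker_eq_bot_of_smooth π hπ hπs hJ2 h
      rw [← hdim, ringKrullDim_eq_of_ringEquiv (RingEquiv.ofBijective π.toRingHom
        ⟨(RingHom.injective_iff_ker_eq_bot π.toRingHom).2 hker, hπs⟩)]

end Groth.Agent.S12268
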