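import Groth.Statements.S1227


set_option autoImplicit false
universe u
open FlatMor

set_option backward.isDefEq.respectTransparency.types false

namespace Groth.Agent.S1227

open TensorProduct in
/-- Let u be a surjective linear map from a projective A-module M to an A-module N. Then there is an
ideal I of A such that for every A-algebra B, the base change u ⊗ 1 from B ⊗ M to B ⊗ N is bijective
if and only if the image of I in B is zero. -/
theorem result {A : Type u} [CommRing A] {M N : Type u} [AddCommGroup M] [Module A M] [Module.Projective A M]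
    [AddCommGroup N] [Module A N] (u : M →ₗ[A] N) (hu : Function.Surjective u) :
    ∃ I : Ideal A, ∀ (B : Type u) [CommRing B] [Algebra A B],
      Function.Bijective (u.baseChange B) ↔ I.map (algebraMap A B) = ⊥ := by
  classical
  let S : Set A := {a | ∃ (φ : Module.Dual A M), ∃ k ∈ LinearMap.ker u, φ k = a}
  refine ⟨Ideal.span S, fun B _ _ => ?_⟩
  have hsurj : Function.Surjective (u.baseChange B) := by
    exact LinearMap.lTensor_surjective B hu
  rw [Ideal.map_span, Ideal.span_eq_bot]
  constructor
  · rintro ⟨hinj, -⟩ _ ⟨_, ⟨φ, k, hk, rfl⟩, rfl⟩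
    have h1 : (1 : B) ⊗ₜ[A] k = 0 := hinj (by simp [LinearMap.baseChange_tmul, LinearMap.mem_ker.1 hk])
    have := congrArg (fun z => Algebra.TensorProduct.rid A B B ((φ.baseChange B) z)) h1
    simpa [LinearMap.baseChange_tmul, Algebra.smul_def] using this
  · intro h
    refine ⟨?_, hsurj⟩
    have hk0 : ∀ k ∈ LinearMap.ker u, (1 : B) ⊗ₜ[A] k = 0 := by
      intro k hk
      obtain ⟨s, hs⟩ := Module.projective_def.1 ‹Module.Projective A M›
      rw [← hs k, Finsupp.linearCombination_apply, Finsupp.sum, TensorProduct.tmul_sum]
      refine Finset.sum_eq_zero fun i _ => ?_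
      rw [← TensorProduct.smul_tmul, ← Algebra.algebraMap_eq_smul_one]
      have : algebraMap A B (s k i) = 0 :=
        h _ ⟨s k i, ⟨(Finsupp.lapply i).comp s, k, hk, rfl⟩, rfl⟩
      rw [this, TensorProduct.zero_tmul]
    have hex := lTensor_exact B (M := (LinearMap.ker u : Submodule A M)) (N := M) (P := N)
      (f := (LinearMap.ker u).subtype) (g := u) (LinearMap.exact_subtype_ker_map u) hu
    rw [injective_iff_map_eq_zero]
    intro z hz
    obtain ⟨y, rfl⟩ := (hex z).1 hz
    clear hz
    induction y using TensorProduct.induction_on with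
    | zero => simp
    | tmul b k =>
      show b ⊗ₜ[A] (k : M) = 0
      rw [show b ⊗ₜ[A] (k : M) = b • ((1 : B) ⊗ₜ[A] (k : M)) from by
        rw [TensorProduct.smul_tmul', smul_eq_mul, mul_one], hk0 k k.2, smul_zero]
    | add a b ha hb => simp [map_add, ha, hb]

end Groth.Agent.S1227
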