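import Groth.Statements.S12271
import Groth.Agent.Lib.HilbPt3.Normal
import Groth.Agent.Lib.HilbPt3.Dim
import Groth.Agent.Lib.HilbPt3.Tangent
import Groth.Agent.Lib.ProjSpace.Basic

set_option autoImplicit false
universe u
open CategoryTheory CategoryTheory.Limits AlgebraicGeometry
attribute [local instance] HasDerivedCategory.standard
open Deform

namespace Groth.Agent.S12271

/-- Let k be an algebraically closed field, Y a separated k-scheme of finite type and i : X → Y a
regular closed immersion over k (its ideal is locally generated by a regular sequence) with X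
projective over k; let N = Hom_{O_X}(I/I², O_X) be the normal sheaf (sheaf Hom of the conormal sheaf
of i, as a right adjoint, assumed to exist). Let R̄ be a complete local Noetherian k-algebra with
residue field k prorepresenting the local Hilbert functor of X in Y (closed subschemes of Y ×_k Spec
A flat over A restricting to X, X ⊆ Y given by the kernel ideal of i), i.e. carrying a universal
family — the formal universal deformation of X in Y. Then dim R̄ ≤ h⁰(X, N); h⁰(X, N) ≤ dim R̄ +
h¹(X, N); and dim R̄ = h⁰(X, N) if and only if X is unobstructed in Y, i.e. the local Hilbert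
functor takes every surjection B → A of local Artinian k-algebras with residue field k to a
surjective map. (The published statement writes the second bound as h⁰(N) − h¹(N) ≤ dim R̄.) -/
theorem result
    {k : Type u} [Field k] [IsAlgClosed k] (Y : Scheme.{u}) (y : Y ⟶ Spec (CommRingCat.of k))
    [LocallyOfFiniteType y] [IsSeparated y] [QuasiCompact y]
    (X : Scheme.{u}) [X.Over (Spec (CommRingCat.of k))] (i : X ⟶ Y) [IsClosedImmersion i] (hi : i ≫ y = X ↘ (Spec (CommRingCat.of k)))
    (hreg : Mor2.IsRegularClosedImmersion i)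
    (hproj : ∃ (n : ℕ) (c : X ⟶ CohB1.ProjSpaceOver n (Spec (CommRingCat.of k))),
      IsClosedImmersion c ∧ c ≫ CohB1.ProjSpaceOver.toBase n (Spec (CommRingCat.of k)) = X ↘ (Spec (CommRingCat.of k)))
    [DCoh.HasSheafHom (Omega.conormal i)]
    (R : ArtFun.ProRep (ArtFun.localHilb Y y i.ker)) :
    ringKrullDim R.ring.carrier ≤ ((Module.finrank k (Coh.HH X ((DCoh.sheafHom (Omega.conormal i)).obj (Coh.structureModule X)) 0) : ℕ∞) : WithBot ℕ∞) ∧
      ((Module.finrank k (Coh.HH X ((DCoh.sheafHom (Omega.conormal i)).obj (Coh.structureModule X)) 0) : ℕ∞) : WithBot ℕ∞) ≤ ringKrullDim R.ring.carrier + ((Module.finrank k (Coh.HH X ((DCoh.sheafHom (Omega.conormal i)).obj (Coh.structureModule X)) 1) : ℕ∞) : WithBot ℕ∞) ∧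
      (ringKrullDim R.ring.carrier = ((Module.finrank k (Coh.HH X ((DCoh.sheafHom (Omega.conormal i)).obj (Coh.structureModule X)) 0) : ℕ∞) : WithBot ℕ∞) ↔ ArtFun.IsSmoothFunctor (ArtFun.localHilb Y y i.ker)) := by
  obtain ⟨m, c, hc, hcy⟩ := hproj
  haveI := hc
  haveI : IsProper (CohB1.ProjSpaceOver.toBase m (Spec (CommRingCat.of k))) := ProjSpace.isProper_toBase _ _
  haveI : IsProper (X ↘ (Spec (CommRingCat.of k))) := by rw [← hcy]; infer_instance
  letI : Y.Over (Spec (CommRingCat.of k)) := ⟨y⟩
  haveI : LocallyOfFiniteType (Y ↘ Spec (CommRingCat.of k)) := ‹LocallyOfFiniteType y›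
  haveI : QuasiCompact (Y ↘ Spec (CommRingCat.of k)) := ‹QuasiCompact y›
  obtain ⟨T⟩ := ArtFunLib.nonempty_tangentStr (F := ArtFun.localHilb Y y i.ker) (HilbRS3.h0 Y y i.ker)
    (fun B A' p' p'' hh => HilbRS3.rs Y y i.ker p' p'' _ _ hh (ArtFunLib.surjective_toBase _))
  letI := T
  obtain ⟨e⟩ := HilbPt3.nonempty_tangent_h0 y i hi
  obtain ⟨h1, h2, h3, -⟩ := HilbPt3.bounds R.family R.universal fun p hp u =>
    HilbPt3.exists_obstructions (k := k) i hi hreg p hp u
  rw [← e.finrank_eq]
  exact ⟨h1, h2, h3⟩

end Groth.Agent.S12271
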