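import Groth.Statements.S12274
import Groth.Agent.Lib.HilbRS3.NormalH0

set_option autoImplicit false
universe u
open CategoryTheory CategoryTheory.Limits AlgebraicGeometry
open scoped TensorProduct
attribute [local instance] HasDerivedCategory.standard
open DefT

namespace Groth.Agent.S12274

/-- Let k be an algebraically closed field, X a separated k-scheme of finite type and Y ⊆ X the closed
subscheme cut out by a quasi-coherent ideal sheaf I, regarded as a k-scheme through X, with normal
sheaf N_{Y/X} = Hom_{O_Y}(I/I², O_Y) (the sheaf Hom, assumed to exist as the right adjoint of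
tensoring with the conormal sheaf I/I²). Give the set of deformations of Y over the dual numbers
inside X (closed subschemes of X ×_k Spec k[ε], flat over Spec k[ε], whose pull-back to the closed
fibre X is Y) its k-vector-space structure, in which scalars act through ε ↦ cε and addition comes
from k[ε₁, ε₂] → k[ε]. Then this space and H^0(Y, N_{Y/X}) are isomorphic k-vector spaces. (The
published statement is for an arbitrary scheme X over an arbitrary field and gives a natural
bijection taking the trivial deformation to zero; this row takes X separated of finite type over an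
algebraically closed field, where the vector-space structure is determined, and asserts the
existence of a k-linear isomorphism.) -/
theorem result
    {k : Type u} [Field k] [IsAlgClosed k] (X : Scheme.{u}) [X.Over (Spec (CommRingCat.of k))]
    [LocallyOfFiniteType (X ↘ Spec (CommRingCat.of k))]
    [IsSeparated (X ↘ Spec (CommRingCat.of k))] [QuasiCompact (X ↘ Spec (CommRingCat.of k))]
    (I₀ : X.IdealSheafData) [I₀.subscheme.Over (Spec (CommRingCat.of k))]
    (hY : I₀.subscheme ↘ Spec (CommRingCat.of k) = I₀.subschemeι ≫ (X ↘ Spec (CommRingCat.of k)))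
    [DCoh.HasSheafHom (Omega.conormal I₀.subschemeι)]
    [ArtFun.TangentStr (ArtFun.localHilb X (X ↘ Spec (CommRingCat.of k)) I₀)] :
    Nonempty (ArtFun.TangentSpace (ArtFun.localHilb X (X ↘ Spec (CommRingCat.of k)) I₀) ≃ₗ[k]
      Coh.HH I₀.subscheme ((DCoh.sheafHom (Omega.conormal I₀.subschemeι)).obj (Coh.structureModule I₀.subscheme)) 0) := by
  let x : X ⟶ Spec (CommRingCat.of k) := X ↘ Spec (CommRingCat.of k)
  let L : Coh.HH I₀.subscheme ((DCoh.sheafHom (Omega.conormal I₀.subschemeι)).obj (Coh.structureModule I₀.subscheme)) 0 ≃
      ArtFun.TangentSpace (ArtFun.localHilb X x I₀) :=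
    (HilbRS3.h0Hom I₀).trans (HilbRS3.normalEquiv x I₀).symm
  have hL : ∀ z, HilbRS3.normal x I₀ (L z).val = HilbRS3.h0Hom I₀ z := fun z =>
    (HilbRS3.normalEquiv x I₀).apply_symm_apply _
  refine ⟨(LinearEquiv.symm { L with map_add' := fun z w => ?_, map_smul' := fun c z => ?_ })⟩
  · refine HilbRS3.normal_injective x ?_
    show HilbRS3.normal x I₀ (L (z + w)).val = HilbRS3.normal x I₀ (L z + L w).val
    rw [HilbRS3.normal_add, hL, hL, hL, HilbRS3.h0Hom_add]
  · refine HilbRS3.normal_injective x (HilbRS3.normal_ext fun U m => ?_)
    show (HilbRS3.normal x I₀ (L (c • z)).val).app U.1 m = (HilbRS3.normal x I₀ (c • L z).val).app U.1 m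
    rw [HilbRS3.normal_smul, hL, hL, HilbRS3.h0Hom_smul x I₀ hY]

end Groth.Agent.S12274
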