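import Groth.Statements.S12275
import Groth.Agent.Lib.DefH13.Rigid
import Groth.Agent.Lib.DefH13.Torsor
import Groth.Agent.Lib.CBC10.Crit2
import Mathlib.LinearAlgebra.TensorProduct.Pi

set_option autoImplicit false
universe u
open CategoryTheory CategoryTheory.Limits AlgebraicGeometry
open scoped TensorProduct
attribute [local instance] HasDerivedCategory.standard
open DefT

namespace Groth.Agent.S12275

/-- Let k be an algebraically closed field and X₀ a separated k-scheme of finite type, smooth over k,
with tangent sheaf T = Hom_{O_{X₀}}(Ω_{X₀/k}, O_{X₀}) (the sheaf Hom, assumed to exist as the right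
adjoint of tensoring with Ω_{X₀/k}). Let C' → C be a surjection of local Artinian k-algebras with
residue field k whose kernel J is annihilated by the maximal ideal of C', and let X be a deformation
of X₀ over C (a scheme flat over Spec C with a morphism from X₀ identifying X₀ with the closed
fibre). By an extension of X over C' we mean a deformation X' of X₀ over C' equipped with an
isomorphism of deformations (over Spec C and under X₀) from the base change of X' to C onto X; two
extensions are equivalent when there is an isomorphism of deformations X' ≅ X'' over C' whose base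
change to C carries the first identification to the second. If at least one extension exists, then
the set of equivalence classes of extensions of X over C' is in bijection with H^1(X₀, T) ⊗_k J.
(The published statement says that this set is a torsor under H^1(X₀, T ⊗ J) for X₀ nonsingular;
this row asserts only the existence of a bijection, and also assumes X₀ separated, which the printed
argument uses when it treats intersections of affine opens as affine.) -/
theorem result
    {k : Type u} [Field k] [IsAlgClosed k] (X₀ : Scheme.{u}) [X₀.Over (Spec (CommRingCat.of k))]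
    [LocallyOfFiniteType (X₀ ↘ Spec (CommRingCat.of k))]
    [IsSeparated (X₀ ↘ Spec (CommRingCat.of k))] [QuasiCompact (X₀ ↘ Spec (CommRingCat.of k))]
    [Smooth (X₀ ↘ Spec (CommRingCat.of k))]
    [DCoh.HasSheafHom (Omega.sheaf (X₀ ↘ Spec (CommRingCat.of k)))]
    {C' C : ArtFun.Art k k} (p : C' ⟶ C) (hp : ArtFun.Art.IsSemismallExt p)
    (𝒳 : ArtFun.DefSch X₀ (X₀ ↘ Spec (CommRingCat.of k)) C)
    (hne : ∃ 𝒳' : ArtFun.DefSch X₀ (X₀ ↘ Spec (CommRingCat.of k)) C', Nonempty ((𝒳'.baseChange p).Iso 𝒳)) :
    Nonempty (Quot (fun a b : (Σ 𝒳' : ArtFun.DefSch X₀ (X₀ ↘ Spec (CommRingCat.of k)) C', (𝒳'.baseChange p).Iso 𝒳) =>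
        ∃ ψ : a.1.Iso b.1, ((ψ.baseChange p).trans b.2).iso = a.2.iso) ≃
      (Coh.HH X₀ ((DCoh.sheafHom (Omega.sheaf (X₀ ↘ Spec (CommRingCat.of k)))).obj (Coh.structureModule X₀)) 1 ⊗[k]
        ↥(RingHom.ker p.toAlgHom))) := by
  let x := X₀ ↘ Spec (CommRingCat.of k)
  obtain ⟨T⟩ := ArtFunLib.nonempty_tangentStr (F := ArtFun.defFunctor (Λ := k) X₀ x) DefGlue3.h0 DefGlue3.heps
  haveI : CompactSpace X₀ := QuasiCompact.compactSpace_of_compactSpace x
  obtain ⟨m, U, hU, hV⟩ := CubeField.exists_finite_affine_cover X₀
  obtain ⟨e⟩ := HilbObs3.nonempty_sheafHom_iso (Omega.sheaf x) (Coh.structureModule X₀)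
  let L := (LinearEquiv.ofBijective (DefH13.clsLin (x := x) (V := fun i => ⟨U i, hU i⟩) hV rfl)
    (DefH13.clsLin_bijective hV rfl)).trans (CBC10.hmapLinEquiv k e.symm 1)
  haveI := HilbRS3.finite_ker p hp
  let b := Module.finBasis k (RingHom.ker p.toAlgHom)
  obtain ⟨P, p₁, p₂, g, hP, hP'⟩ := HilbRS3.exists_doubled' p hp b
  obtain ⟨𝒳', ⟨i⟩⟩ := hne
  obtain ⟨e1⟩ := DefH13.nonempty_quot_equiv hp.1 hP hP' (⟨𝒳', i⟩ : DefH13.PtG p 𝒳)
  exact ⟨(e1.trans (Equiv.ofBijective _ (ArtFunLib.tnProj_bijective DefGlue3.h0 DefGlue3.heps _))).trans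
    ((Equiv.piCongrRight fun _ => L.toEquiv).trans
      ((TensorProduct.piScalarRight k k _ _).symm.trans (LinearEquiv.lTensor _ b.equivFun.symm)).toEquiv)⟩

end Groth.Agent.S12275
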