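import Groth.Statements.S1228
import Groth.Agent.Lib.Dev4.PureCriterion

set_option autoImplicit false
universe u
open FlatMor
set_option maxSynthPendingDepth 3
set_option backward.isDefEq.respectTransparency.types false

set_option backward.isDefEq.respectTransparency.types false

namespace Groth.Agent.S1228

open TensorProduct in
/-- Ring form, S = Spec A and X = Spec B affine, test schemes affine: let B be a finitely presented
A-algebra, N a finitely presented B-module which is flat over A and pure relative to Spec A, and u a
surjective B-linear map from N to a B-module N'. Then the functor 'u becomes an isomorphism after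
base change' is represented by a closed subscheme of Spec A: there is an ideal I of A such that for
every A-algebra A' the base change A' ⊗_A N → A' ⊗_A N' is bijective if and only if IA' = 0. If N'
is finitely presented then I is finitely generated. -/
theorem result {A B : Type u} [CommRing A] [CommRing B] [Algebra A B] [Algebra.FinitePresentation A B]
    (N : Type u) [AddCommGroup N] [Module B N] [Module A N] [IsScalarTower A B N] [Module.FinitePresentation B N] [Module.Flat A N]
    (hpure : FlatCA.IsPure A B N)
    (N' : Type u) [AddCommGroup N'] [Module B N'] [Module A N'] [IsScalarTower A B N'] (u : N →ₗ[B] N') (hu : Function.Surjective u) :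
    ∃ I : Ideal A, (∀ (A' : Type u) [CommRing A'] [Algebra A A'],
        Function.Bijective ((u.restrictScalars A).baseChange A') ↔ I.map (algebraMap A A') = ⊥) ∧
      (Module.FinitePresentation B N' → I.FG) := by
  haveI : Module.Projective A N := Groth.Agent.Dev4.projective_of_isPure N hpure
  obtain ⟨σ, hσ⟩ := Module.projective_def.1 (inferInstance : Module.Projective A N)
  let κ : N → Ideal A := fun x => Ideal.span (Set.range fun n => σ x n)
  have hmem : ∀ (x : N) (J : Ideal A), x ∈ J • (⊤ : Submodule A N) → κ x ≤ J := fun x J hx => by
    refine Ideal.span_le.2 ?_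
    rintro _ ⟨n, rfl⟩
    have h1 := Submodule.mem_map_of_mem (f := (Finsupp.lapply n).comp σ) hx
    rw [Submodule.map_smul''] at h1
    have h2 : σ x n ∈ J • (⊤ : Submodule A A) := Submodule.smul_mono le_rfl le_top h1
    rwa [smul_eq_mul, Ideal.mul_top] at h2
  have hself : ∀ x : N, x ∈ κ x • (⊤ : Submodule A N) := fun x => by
    have h : Finsupp.linearCombination A id (σ x) ∈ κ x • (⊤ : Submodule A N) := by
      rw [Finsupp.linearCombination_apply]
      exact Submodule.sum_mem _ fun n _ => Submodule.smul_mem_smul
        (show σ x n ∈ κ x from Ideal.subset_span ⟨n, rfl⟩) (Submodule.mem_top (x := id n))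
    rwa [hσ x] at h
  have hzero : ∀ (A' : Type u) [CommRing A'] [Algebra A A'] (x : N),
      ((1 : A') ⊗ₜ[A] x = 0 ↔ (κ x).map (algebraMap A A') = ⊥) := fun A' _ _ x => by
    refine ⟨fun h => ?_, fun h => ?_⟩
    · rw [Ideal.map_eq_bot_iff_le_ker, Ideal.span_le]
      rintro _ ⟨n, rfl⟩
      have h1 := congrArg (((Finsupp.lapply n).comp σ).baseChange A') h
      rw [map_zero, LinearMap.baseChange_tmul] at h1
      have h2 := congrArg (TensorProduct.rid A A') h1
      rw [map_zero, TensorProduct.rid_tmul] at h2
      simpa [Algebra.smul_def] using h2
    · rw [Ideal.map_eq_bot_iff_le_ker] at h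
      have := hself x
      generalize hJ : κ x = J at this h
      clear hJ
      induction this using Submodule.smul_induction_on' with
      | smul r hr n _ =>
        rw [TensorProduct.tmul_smul, TensorProduct.smul_tmul', Algebra.smul_def, RingHom.mem_ker.1 (h hr), zero_mul,
          TensorProduct.zero_tmul]
      | add a _ b _ ha hb => rw [TensorProduct.tmul_add, ha, hb, add_zero]
  let K := LinearMap.ker u
  refine ⟨⨆ x : K, κ x, fun A' _ _ => ?_, fun hfp => ?_⟩
  · rw [Ideal.map_iSup, iSup_eq_bot]
    have hex : Function.Exact (K.subtype.restrictScalars A) (u.restrictScalars A) :=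
      LinearMap.exact_subtype_ker_map u
    have hexA := lTensor_exact A' hex (show Function.Surjective (u.restrictScalars A) from hu)
    refine ⟨fun h x => (hzero A' x).1 (h.1 ?_), fun h => ⟨?_, ?_⟩⟩
    · rw [map_zero, LinearMap.baseChange_tmul, show (u.restrictScalars A) (x : N) = 0 from x.2, TensorProduct.tmul_zero]
    · rw [injective_iff_map_eq_zero]
      intro z hz
      obtain ⟨w, rfl⟩ := (hexA z).1 hz
      clear hz
      induction w using TensorProduct.induction_on with
      | zero => exact map_zero _
      | add a b ha hb => rw [map_add, ha, hb, add_zero]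
      | tmul a k =>
        rw [LinearMap.lTensor_tmul, ← mul_one a, ← smul_eq_mul, ← TensorProduct.smul_tmul']
        show a • ((1 : A') ⊗ₜ[A] (k : N)) = 0
        rw [(hzero A' k).2 (h k), smul_zero]
    · exact LinearMap.lTensor_surjective A' (show Function.Surjective (u.restrictScalars A) from hu)
  · haveI := hfp
    obtain ⟨s, hs⟩ := Module.FinitePresentation.fg_ker u hu
    have hgen : (⨆ x : K, κ x) = ⨆ x ∈ s, κ x := by
      refine le_antisymm (iSup_le fun x => hmem _ _ ?_) (iSup₂_le fun x hx =>
        le_iSup (fun y : K => κ y) ⟨x, show x ∈ LinearMap.ker u from hs ▸ Submodule.subset_span hx⟩)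
      have hxs : (x : N) ∈ Submodule.span B (s : Set N) := hs.symm ▸ x.2
      generalize (x : N) = y at hxs
      induction hxs using Submodule.span_induction with
      | mem z hz => exact Submodule.smul_mono_left (le_iSup₂ (f := fun x _ => κ x) z hz) (hself z)
      | zero => exact zero_mem _
      | add a b _ _ ha hb => exact add_mem ha hb
      | smul b z _ hz =>
        clear * - hz
        induction hz using Submodule.smul_induction_on' with
        | smul r hr n _ => rw [smul_comm]; exact Submodule.smul_mem_smul hr Submodule.mem_top
        | add a _ c _ ha hc => rw [smul_add]; exact add_mem ha hc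
    rw [hgen]
    classical
    refine Submodule.fg_biSup s _ fun x _ => ?_
    refine ⟨insert 0 ((σ x).support.image fun n => σ x n), le_antisymm (Submodule.span_le.2 ?_) (Ideal.span_le.2 ?_)⟩
    · intro a ha
      rcases Finset.mem_insert.1 (Finset.mem_coe.1 ha) with rfl | ha
      · exact zero_mem _
      · obtain ⟨n, -, rfl⟩ := Finset.mem_image.1 ha
        exact Ideal.subset_span ⟨n, rfl⟩
    · rintro _ ⟨n, rfl⟩
      by_cases hn : n ∈ (σ x).support
      · exact Submodule.subset_span (Finset.mem_insert_of_mem (Finset.mem_image_of_mem _ hn))
      · simp only [Finsupp.notMem_support_iff.1 hn]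
        exact zero_mem _

end Groth.Agent.S1228
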