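import Groth.Statements.S12280
import Groth.Agent.Lib.HilbPt3.Hilb
import Groth.Agent.Lib.HilbPt3.Vanish
import Groth.Agent.Lib.HilbPt3.Tangent
import Groth.Agent.Lib.HilbObs3.Regular
import Groth.Agent.Lib.ProjSpace.Basic

set_option autoImplicit false
universe u
open CategoryTheory CategoryTheory.Limits AlgebraicGeometry
open scoped TensorProduct
attribute [local instance] HasDerivedCategory.standard
open DefT

namespace Groth.Agent.S12280

/-- Let k be an algebraically closed field, X = P^n_k, and (H, Z) a Hilbert scheme of X over k: H is a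
locally Noetherian k-scheme and Z ⊆ X ×_k H a closed subscheme, proper and flat over H, such that
every closed subscheme of X ×_k T proper and flat over a locally Noetherian k-scheme T is the
pull-back of Z along a unique k-morphism T → H. Let Y ⊆ X be a closed subscheme, regarded as a
k-scheme through X, with ideal sheaf I and normal sheaf N = Hom_{O_Y}(I/I², O_Y) (the sheaf Hom,
assumed to exist as the right adjoint of tensoring with I/I²), and let y ∈ H be the k-point
classifying Y (the pull-back of Z along Spec k → H is Y). If Y → X is a regular closed immersion (Y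
is a local complete intersection in X) and H^1(Y, N) = 0, then H is nonsingular at y: the local ring
O_{H,y} is regular, and its dimension equals dim_k H^0(Y, N). -/
theorem result
    {k : Type u} [Field k] [IsAlgClosed k] (n : ℕ)
    (H : Over (Spec (CommRingCat.of k))) (Z : FGA.HilbSet (CohB1.ProjSpaceOver.toBase n (Spec (CommRingCat.of k))) H) (hH : FGA.HilbRepresentedBy (CohB1.ProjSpaceOver.toBase n (Spec (CommRingCat.of k))) H Z)
    (Y : Scheme.{u}) [Y.Over (Spec (CommRingCat.of k))] (i : Y ⟶ CohB1.ProjSpaceOver n (Spec (CommRingCat.of k))) [IsClosedImmersion i]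
    (hi : i ≫ CohB1.ProjSpaceOver.toBase n (Spec (CommRingCat.of k)) = Y ↘ Spec (CommRingCat.of k))
    (hreg : Mor2.IsRegularClosedImmersion i)
    [DCoh.HasSheafHom (Omega.conormal i)]
    (y : Over.mk (𝟙 (Spec (CommRingCat.of k))) ⟶ H)
    (hy : FGA.hilbPull (CohB1.ProjSpaceOver.toBase n (Spec (CommRingCat.of k))) y Z.1 = i.ker.comap (pullback.fst (CohB1.ProjSpaceOver.toBase n (Spec (CommRingCat.of k))) (Over.mk (𝟙 (Spec (CommRingCat.of k)))).hom))
    (h1 : Subsingleton (Coh.HH Y ((DCoh.sheafHom (Omega.conormal i)).obj (Coh.structureModule Y)) 1)) :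
    IsRegularLocalRing (H.left.presheaf.stalk (y.left.base (IsLocalRing.closedPoint k))) ∧
      ringKrullDim (H.left.presheaf.stalk (y.left.base (IsLocalRing.closedPoint k))) = (Module.finrank k (Coh.HH Y ((DCoh.sheafHom (Omega.conormal i)).obj (Coh.structureModule Y)) 0) : WithBot ℕ∞) := by
  haveI : IsProper (CohB1.ProjSpaceOver.toBase n (Spec (CommRingCat.of k))) := ProjSpace.isProper_toBase _ _
  let P := CohB1.ProjSpaceOver n (Spec (CommRingCat.of k))
  let f : P ⟶ Spec (CommRingCat.of k) := CohB1.ProjSpaceOver.toBase n (Spec (CommRingCat.of k))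
  haveI : IsLocallyNoetherian P := LocallyOfFiniteType.isLocallyNoetherian f
  haveI : CompactSpace P := QuasiCompact.compactSpace_of_compactSpace f
  haveI : IsNoetherian P := {}
  have hR : IsRegularLocalRing (H.left.presheaf.stalk (y.left.base (IsLocalRing.closedPoint k))) := by
    refine HilbPt3.isRegularLocalRing_stalk f y hy hH fun q hq => ?_
    refine HilbObs3.surjective_map_of_local f q hq (HilbObs3.subsingleton_HH_homMod' i h1) fun J t ht z => ?_
    obtain ⟨j, hj⟩ : ∃ j : i.ker.subscheme ⟶ Y, j ≫ i = i.ker.subschemeι :=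
      ⟨IsClosedImmersion.lift i i.ker.subschemeι (Scheme.IdealSheafData.ker_subschemeι i.ker).ge,
        IsClosedImmersion.lift_fac _ _ _⟩
    obtain ⟨U, hU, hz, rs, hrs, hI⟩ := hreg.2 (j.base z)
    refine ⟨⟨U, hU⟩, ?_, HilbObs3.exists_liftOn_of_regular f q J hq ht ⟨U, hU⟩ rs hrs.toIsWeaklyRegular hI⟩
    rw [← hj]
    exact hz
  refine ⟨hR, ?_⟩
  obtain ⟨T⟩ := ArtFunLib.nonempty_tangentStr (F := ArtFun.localHilb P f i.ker) (HilbRS3.h0 P f i.ker)
    (fun B A' p' p'' hh => HilbRS3.rs P f i.ker p' p'' _ _ hh (ArtFunLib.surjective_toBase _))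
  letI := T
  obtain ⟨e⟩ := HilbPt3.nonempty_tangent_h0 f i hi
  rw [← e.finrank_eq, ← HilbPt3.finrank_cotangentSpace f y hy hH]
  exact ((IsRegularLocalRing.iff_finrank_cotangentSpace _).1 hR).symm

end Groth.Agent.S12280
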