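import Groth.Statements.S12282
import Groth.Agent.Lib.HilbPt3.Normal
import Groth.Agent.Lib.HilbPt3.Dim
import Groth.Agent.Lib.HilbPt3.Tangent
import Groth.Agent.Lib.HilbPt3.Hilb
import Groth.Agent.Lib.ArtFun.Completion
import Groth.Agent.Lib.Compl.Dim
import Groth.Agent.Lib.ProjSpace.Basic

set_option autoImplicit false
universe u
open CategoryTheory CategoryTheory.Limits AlgebraicGeometry
open scoped TensorProduct
attribute [local instance] HasDerivedCategory.standard
open DefT

namespace Groth.Agent.S12282

/-- Let k be an algebraically closed field, X = P^n_k, and (H, Z) a Hilbert scheme of X over k: H is a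
locally Noetherian k-scheme and Z ⊆ X ×_k H a closed subscheme, proper and flat over H, such that
every closed subscheme of X ×_k T proper and flat over a locally Noetherian k-scheme T is the
pull-back of Z along a unique k-morphism T → H. Let Y ⊆ X be a closed subscheme, regarded as a
k-scheme through X, with ideal sheaf I and normal sheaf N = Hom_{O_Y}(I/I², O_Y) (the sheaf Hom,
assumed to exist as the right adjoint of tensoring with I/I²), and let y ∈ H be the k-point
classifying Y (the pull-back of Z along Spec k → H is Y). If Y → X is a regular closed immersion (Y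
is a local complete intersection in X), then the dimension of H at y is at least h^0(Y, N) − h^1(Y,
N), written dim_k H^0(Y, N) ≤ dim O_{H,y} + dim_k H^1(Y, N); and when equality holds, O_{H,y} is a
complete intersection ring (its completion is the quotient of a regular local ring modulo a regular
sequence). -/
theorem result
    {k : Type u} [Field k] [IsAlgClosed k] (n : ℕ)
    (H : Over (Spec (CommRingCat.of k))) (Z : FGA.HilbSet (CohB1.ProjSpaceOver.toBase n (Spec (CommRingCat.of k))) H) (hH : FGA.HilbRepresentedBy (CohB1.ProjSpaceOver.toBase n (Spec (CommRingCat.of k))) H Z)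
    (Y : Scheme.{u}) [Y.Over (Spec (CommRingCat.of k))] (i : Y ⟶ CohB1.ProjSpaceOver n (Spec (CommRingCat.of k))) [IsClosedImmersion i]
    (hi : i ≫ CohB1.ProjSpaceOver.toBase n (Spec (CommRingCat.of k)) = Y ↘ Spec (CommRingCat.of k))
    (hreg : Mor2.IsRegularClosedImmersion i)
    [DCoh.HasSheafHom (Omega.conormal i)]
    (y : Over.mk (𝟙 (Spec (CommRingCat.of k))) ⟶ H)
    (hy : FGA.hilbPull (CohB1.ProjSpaceOver.toBase n (Spec (CommRingCat.of k))) y Z.1 = i.ker.comap (pullback.fst (CohB1.ProjSpaceOver.toBase n (Spec (CommRingCat.of k))) (Over.mk (𝟙 (Spec (CommRingCat.of k)))).hom)) :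
    (Module.finrank k (Coh.HH Y ((DCoh.sheafHom (Omega.conormal i)).obj (Coh.structureModule Y)) 0) : WithBot ℕ∞) ≤
        ringKrullDim (H.left.presheaf.stalk (y.left.base (IsLocalRing.closedPoint k))) + (Module.finrank k (Coh.HH Y ((DCoh.sheafHom (Omega.conormal i)).obj (Coh.structureModule Y)) 1) : WithBot ℕ∞) ∧
      (ringKrullDim (H.left.presheaf.stalk (y.left.base (IsLocalRing.closedPoint k))) + (Module.finrank k (Coh.HH Y ((DCoh.sheafHom (Omega.conormal i)).obj (Coh.structureModule Y)) 1) : WithBot ℕ∞) =
          (Module.finrank k (Coh.HH Y ((DCoh.sheafHom (Omega.conormal i)).obj (Coh.structureModule Y)) 0) : WithBot ℕ∞) →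
        Pi1.IsCompleteIntersection (H.left.presheaf.stalk (y.left.base (IsLocalRing.closedPoint k)))) := by
  haveI : IsProper (CohB1.ProjSpaceOver.toBase n (Spec (CommRingCat.of k))) := ProjSpace.isProper_toBase _ _
  let P := CohB1.ProjSpaceOver n (Spec (CommRingCat.of k))
  let f : P ⟶ Spec (CommRingCat.of k) := CohB1.ProjSpaceOver.toBase n (Spec (CommRingCat.of k))
  letI : P.Over (Spec (CommRingCat.of k)) := ⟨f⟩
  haveI : IsProper (P ↘ Spec (CommRingCat.of k)) := ‹IsProper f›
  haveI : IsProper (Y ↘ Spec (CommRingCat.of k)) := by rw [← hi]; infer_instance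
  obtain ⟨T⟩ := ArtFunLib.nonempty_tangentStr (F := ArtFun.localHilb P f i.ker) (HilbRS3.h0 P f i.ker)
    (fun B A' p' p'' hh => HilbRS3.rs P f i.ker p' p'' _ _ hh (ArtFunLib.surjective_toBase _))
  letI := T
  obtain ⟨e⟩ := HilbPt3.nonempty_tangent_h0 f i hi
  haveI := HilbPt3.isNoetherianRing_stalk f y hH
  let R := ArtFunLib.completionRing (HilbPt3.augO y) (HilbPt3.augO_surjective y)
  let ξ : ArtFun.Family R.carrier R.res (ArtFun.localHilb P f i.ker) :=
    { app := fun A φ => HilbPt3.toFun f y hy A (ArtFunLib.restrictPoint _ (HilbPt3.augO_surjective y) A φ)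
      natural := fun g φ => ((congrArg (HilbPt3.toFun f y hy _)
        (ArtFunLib.restrictPoint_map _ (HilbPt3.augO_surjective y) g φ)).trans
          (HilbPt3.toFun_map f y hy g _).symm) }
  have hξ : ∀ A, Function.Bijective (ξ.app A) := fun A =>
    (HilbPt3.toFun_bijective f y hy hH A).comp (ArtFunLib.restrictPoint_bijective _ _ A)
  obtain ⟨-, h2, -, h4⟩ := HilbPt3.bounds ξ hξ fun p hp u =>
    HilbPt3.exists_obstructions (k := k) i hi hreg p hp u
  have hdim : ringKrullDim R.carrier = ringKrullDim (H.left.presheaf.stalk (y.left.base (IsLocalRing.closedPoint k))) :=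
    Compl.ringKrullDim_maximalIdeal_adicCompletion _
  rw [← e.finrank_eq, ← hdim]
  exact ⟨h2, h4⟩

end Groth.Agent.S12282
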