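import Groth.Statements.S12284
import Groth.Agent.Lib.CotT3.Chase

set_option autoImplicit false
universe u w m
open scoped TensorProduct
open DefT

namespace Groth.Agent.S12284

theorem lcomp_inj {R X N N' : Type*} [CommRing R] [AddCommGroup X] [Module R X] [AddCommGroup N] [Module R N]
    [AddCommGroup N'] [Module R N'] (f : N →ₗ[R] N') (hf : Function.Injective f) :
    Function.Injective (LinearMap.llcomp R X N N' f : (X →ₗ[R] N) →ₗ[R] (X →ₗ[R] N')) := fun a b h => LinearMap.ext fun x => hf (LinearMap.congr_fun h x)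

theorem lcomp_exact {R X N N' N'' : Type*} [CommRing R] [AddCommGroup X] [Module R X] [AddCommGroup N] [Module R N]
    [AddCommGroup N'] [Module R N'] [AddCommGroup N''] [Module R N''] (f : N →ₗ[R] N') (g : N' →ₗ[R] N'')
    (hf : Function.Injective f) (h : Function.Exact f g) :
    Function.Exact (LinearMap.llcomp R X N N' f : (X →ₗ[R] N) →ₗ[R] (X →ₗ[R] N'))
      (LinearMap.llcomp R X N' N'' g : (X →ₗ[R] N') →ₗ[R] (X →ₗ[R] N'')) := by
  intro φ
  constructor
  · intro hφ
    have hr : ∀ x, φ x ∈ LinearMap.range f := fun x => (h (φ x)).1 (LinearMap.congr_fun hφ x)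
    refine ⟨(LinearEquiv.ofInjective f hf).symm.toLinearMap ∘ₗ φ.codRestrict _ hr, ?_⟩
    ext x
    exact LinearEquiv.ofInjective_symm_apply (f := f) (h := hf) ⟨_, hr x⟩
  · rintro ⟨ψ, rfl⟩
    exact LinearMap.ext fun x => h.apply_apply_eq_zero (ψ x)

/-- Let A → B be a ring homomorphism, P a presentation of B over A with cotangent complex L₂ → L₁ → L₀,
and 0 → M' → M → M'' → 0 a short exact sequence of B-modules (f : M' → M injective, g : M → M''
surjective, image of f = kernel of g). Write T^i(N) for the i-th cohomology of Hom_B(L•, N) and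
T^i(f), T^i(g) for the maps induced by composition. Then T^0(f) is injective, the sequences T^i(M')
→ T^i(M) → T^i(M'') are exact for i = 0, 1, 2, and there are B-linear connecting maps δ₀ : T^0(M'')
→ T^1(M') and δ₁ : T^1(M'') → T^2(M') such that the nine-term sequence 0 → T^0(M') → T^0(M) →
T^0(M'') → T^1(M') → T^1(M) → T^1(M'') → T^2(M') → T^2(M) → T^2(M'') is exact. (The connecting maps
are asserted to exist with this exactness; the text does not single them out otherwise.) -/
theorem result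
    (A B : Type u) [CommRing A] [CommRing B] [Algebra A B] (ι σ : Type w)
    (P : Algebra.Presentation A B ι σ)
    (M' M M'' : Type m) [AddCommGroup M'] [Module B M'] [AddCommGroup M] [Module B M] [AddCommGroup M''] [Module B M'']
    (f : M' →ₗ[B] M) (g : M →ₗ[B] M'') (hf : Function.Injective f) (hg : Function.Surjective g)
    (hfg : Function.Exact f g) :
    Function.Injective (CotT.T0map P f) ∧ Function.Exact (CotT.T0map P f) (CotT.T0map P g) ∧
      Function.Exact (CotT.T1map P f) (CotT.T1map P g) ∧ Function.Exact (CotT.T2map P f) (CotT.T2map P g) ∧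
      ∃ (δ₀ : CotT.T0 P M'' →ₗ[B] CotT.T1 P M') (δ₁ : CotT.T1 P M'' →ₗ[B] CotT.T2 P M'),
        Function.Exact (CotT.T0map P g) δ₀ ∧ Function.Exact δ₀ (CotT.T1map P f) ∧
        Function.Exact (CotT.T1map P g) δ₁ ∧ Function.Exact δ₁ (CotT.T2map P f) := by
  have hproj0 : ∀ φ : CotT.L0 P →ₗ[B] M'', ∃ ψ : CotT.L0 P →ₗ[B] M, g ∘ₗ ψ = φ := fun φ =>
    Module.projective_lifting_property g φ hg
  have hproj1 : ∀ φ : CotT.L1 P →ₗ[B] M'', ∃ ψ : CotT.L1 P →ₗ[B] M, g ∘ₗ ψ = φ := fun φ => by
    have := Module.Free.of_basis (CotT.L1basis P)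
    exact Module.projective_lifting_property g φ hg
  exact Groth.Agent.CotT3.Chase.longExact (S := B) (CotT.d1Star P M') (CotT.d2Star P M') (CotT.d1Star P M) (CotT.d2Star P M)
    (CotT.d1Star P M'') (CotT.d2Star P M'')
    (fun y => LinearMap.congr_fun (CotT.d2Star_comp_d1Star P M) y)
    (LinearMap.llcomp B _ M' M f) (LinearMap.llcomp B _ M' M f) (LinearMap.llcomp B _ M' M f)
    (LinearMap.llcomp B _ M M'' g) (LinearMap.llcomp B _ M M'' g) (LinearMap.llcomp B _ M M'' g)
    (fun _ => rfl) (fun _ => rfl) (fun _ => rfl) (fun _ => rfl)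
    (lcomp_inj f hf) (lcomp_inj f hf) (lcomp_inj f hf)
    (lcomp_exact f g hf hfg) (lcomp_exact f g hf hfg) (lcomp_exact f g hf hfg)
    hproj0 hproj1
    (CotT.T0map P f) (fun _ => rfl) (CotT.T0map P g) (fun _ => rfl)
    (CotT.T1map P f) (fun x => ⟨CotT.cocycles1Map P f x, rfl, rfl⟩)
    (CotT.T1map P g) (fun x => ⟨CotT.cocycles1Map P g x, rfl, rfl⟩)
    (CotT.T2map P f) (fun _ => rfl) (CotT.T2map P g) (fun _ => rfl)

end Groth.Agent.S12284
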