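import Groth.Statements.S12286
import Groth.Agent.Lib.CotT3.Basic

set_option autoImplicit false
universe u w m
open scoped TensorProduct
open DefT

namespace Groth.Agent.S12286

set_option backward.isDefEq.respectTransparency false

open scoped TensorProduct

/-- Let A → B be a ring homomorphism, P a presentation of B over A and M a B-module. The canonical
B-linear map from the A-derivations Der_A(B, M) = Hom_B(Ω_{B/A}, M) to T^0(B/A, M) (the kernel of
Hom_B(L₀, M) → Hom_B(L₁, M), L₀ = B ⊗_R Ω_{R/A}), sending a derivation D to b ⊗ dr ↦ b·D(r̄), is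
bijective. -/
theorem result
    (A B : Type u) [CommRing A] [CommRing B] [Algebra A B] (ι σ : Type w) (P : Algebra.Presentation A B ι σ)
    (M : Type m) [AddCommGroup M] [Module B M] [Module A M] [IsScalarTower A B M] :
    Function.Bijective (CotT.derToT0 P M) := by
  have hval : ∀ (D : Derivation A B M) (r : P.toExtension.Ring),
      (CotT.derToT0 P M D : CotT.L0 P →ₗ[B] M) (1 ⊗ₜ KaehlerDifferential.D A P.toExtension.Ring r) =
        D (algebraMap P.toExtension.Ring B r) := fun D r => by
    rw [CotT.derToT0_apply, CotT.derLift_tmul_D, one_smul]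
  refine ⟨fun D D' h => Derivation.ext fun b => ?_, fun φ => ?_⟩
  · obtain ⟨r, rfl⟩ := Groth.Agent.CotT3.algebraMap_surjective P b
    rw [← hval, ← hval, h]
  · have h0 : ∀ c, (φ : CotT.L0 P →ₗ[B] M) (P.toExtension.cotangentComplex c) = 0 := fun c =>
      LinearMap.congr_fun ((Groth.Agent.CotT3.ker_d1Star P M).le φ.2) c
    let g : P.toExtension.Ring → M := fun r => (φ : CotT.L0 P →ₗ[B] M) (1 ⊗ₜ KaehlerDifferential.D A P.toExtension.Ring r)
    have hg : ∀ r r', algebraMap P.toExtension.Ring B r = algebraMap P.toExtension.Ring B r' → g r = g r' := by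
      intro r r' e
      have hk : r - r' ∈ P.toExtension.ker := by rw [RingHom.mem_ker, map_sub, e, sub_self]
      have := h0 (Algebra.Extension.Cotangent.mk ⟨r - r', hk⟩)
      rw [Algebra.Extension.cotangentComplex_mk, map_sub, TensorProduct.tmul_sub, map_sub, sub_eq_zero] at this
      exact this
    choose s hs using Groth.Agent.CotT3.algebraMap_surjective P
    let D : Derivation A B M := Derivation.mk'
      { toFun := fun b => g (s b)
        map_add' := fun a b => by
          rw [hg _ (s a + s b) (by rw [map_add, hs, hs, hs])]
          simp only [g, map_add, TensorProduct.tmul_add]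
        map_smul' := fun a b => by
          rw [hg _ (algebraMap A P.toExtension.Ring a * s b) (by
            rw [map_mul, hs, hs, ← IsScalarTower.algebraMap_apply, Algebra.smul_def])]
          simp only [g, Derivation.leibniz, Derivation.map_algebraMap, smul_zero, add_zero, RingHom.id_apply]
          rw [Groth.Agent.CotT3.one_tmul_smul, map_smul, ← IsScalarTower.algebraMap_apply A P.toExtension.Ring B,
            algebraMap_smul] }
      (fun a b => by
        change g (s (a * b)) = a • g (s b) + b • g (s a)
        rw [hg _ (s a * s b) (by rw [map_mul, hs, hs, hs])]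
        simp only [g, Derivation.leibniz, TensorProduct.tmul_add, Groth.Agent.CotT3.one_tmul_smul, map_add, map_smul, hs])
    refine ⟨D, Subtype.ext (P.cotangentSpaceBasis.ext fun i => ?_)⟩
    have e : P.cotangentSpaceBasis i =
        (1 : B) ⊗ₜ KaehlerDifferential.D A P.toExtension.Ring (MvPolynomial.X i) :=
      Algebra.Generators.cotangentSpaceBasis_apply P.toGenerators i
    rw [e, hval]
    exact hg _ _ (hs _)

end Groth.Agent.S12286
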