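import Groth.Statements.S12287
import Groth.Agent.Lib.CotT3.Comp

set_option autoImplicit false
universe u w m
open scoped TensorProduct
open DefT

namespace Groth.Agent.S12287

/-- Let B be an A-algebra that is isomorphic over A to a polynomial ring A[x_j] in some set of
variables. Then for every B-module M the modules T^1(B/A, M) and T^2(B/A, M), computed from the
choice-free presentation of B over A (every element of B a variable, every element of the kernel a
relation), are zero. -/
theorem result
    (A B : Type u) [CommRing A] [CommRing B] [Algebra A B] (κ : Type u) (e : MvPolynomial κ A ≃ₐ[A] B)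
    (M : Type u) [AddCommGroup M] [Module B M] :
    Subsingleton (CotT.T1 (CotT.canon A B) M) ∧ Subsingleton (CotT.T2 (CotT.canon A B) M) := by
  let g : Algebra.Generators A B κ :=
    Algebra.Generators.ofAlgHom e.toAlgHom e.surjective
  have hg : g.ker = ⊥ := by
    rw [Algebra.Generators.ker_eq_ker_aeval_val, eq_bot_iff]
    intro x hx
    have : (MvPolynomial.aeval g.val) = e.toAlgHom := MvPolynomial.algHom_ext fun i => by
      simp [g, Algebra.Generators.ofAlgHom, Algebra.Generators.ofSurjective]
    rw [RingHom.mem_ker, this] at hx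
    exact e.injective (hx.trans (map_zero e).symm)
  let P' : Algebra.Presentation A B κ PEmpty.{u + 1} :=
    { toGenerators := g
      relation := PEmpty.elim
      span_range_relation_eq_ker := by rw [hg, Set.range_eq_empty, Ideal.span_empty] }
  obtain ⟨h⟩ := Groth.Agent.CotT3.nonempty_presHom (CotT.canon A B) P'
  have h1 : Subsingleton (CotT.L1 P') := ⟨fun x y => by
    obtain ⟨a, rfl⟩ := Groth.Agent.CotT3.exists_one_tmul P' x
    obtain ⟨b, rfl⟩ := Groth.Agent.CotT3.exists_one_tmul P' y
    rw [Subsingleton.elim a b]⟩
  have h2 : Subsingleton (CotT.L2 P') := (Groth.Agent.CotT3.L2mk_surjective P').subsingleton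
  have h1' : Subsingleton (CotT.T1 P' M) :=
    (Groth.Agent.CotT3.subsingleton_T1_iff P' M).2 fun φ => ⟨0, LinearMap.ext fun c => by
      obtain ⟨y, rfl⟩ := Groth.Agent.CotT3.toCot_surjective P' c
      rw [Subsingleton.elim y 0]
      simp⟩
  have h2' : Subsingleton (CotT.T2 P' M) := ⟨fun a b => by
    obtain ⟨a, rfl⟩ := Submodule.Quotient.mk_surjective _ a
    obtain ⟨b, rfl⟩ := Submodule.Quotient.mk_surjective _ b
    exact congrArg _ (LinearMap.ext fun y => by rw [Subsingleton.elim y 0, map_zero, map_zero])⟩
  exact ⟨(Groth.Agent.CotT3.T1pull_bijective M h).2.subsingleton,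
    (Groth.Agent.CotT3.T2pull_bijective M h).2.subsingleton⟩

end Groth.Agent.S12287
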