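import Groth.Statements.S12288
import Groth.Agent.Lib.CotT3.Quot

set_option autoImplicit false
universe u w m
open scoped TensorProduct
open DefT

namespace Groth.Agent.S12288

/-- Let A be a local ring and A → B a surjective ring homomorphism whose kernel is generated by a
regular sequence a_1, …, a_r on A (each a_i is a non-zero-divisor on A/(a_1, …, a_{i-1}) and the
ideal is proper). Then T^2(B/A, M) = 0 for every B-module M, the module being computed from the
choice-free presentation of B over A. -/
theorem result
    (A B : Type u) [CommRing A] [IsLocalRing A] [CommRing B] [Algebra A B]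
    (hs : Function.Surjective (algebraMap A B)) (rs : List A) (hreg : RingTheory.Sequence.IsRegular A rs)
    (hI : RingHom.ker (algebraMap A B) = Ideal.ofList rs) (M : Type u) [AddCommGroup M] [Module B M] :
    Subsingleton (CotT.T2 (CotT.canon A B) M) := by
  let a : Fin rs.length → A := rs.get
  have hrange : Ideal.span (Set.range a) = Ideal.ofList rs := by
    simp [a, Ideal.ofList]
  let P' := Groth.Agent.CotT3.quotPres hs a (hI.trans hrange.symm)
  have hreg' : Groth.Agent.CotT3.RegA a := by
    rw [Groth.Agent.CotT3.regA_iff_isWeaklyRegular, List.ofFn_get]
    exact hreg.toIsWeaklyRegular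
  have : Subsingleton (CotT.L2 P') :=
    (Groth.Agent.CotT3.subsingleton_L2_quotPres_iff hs a _).2
      (Groth.Agent.CotT3.mem_trivA_of_regA a hreg')
  have := Groth.Agent.CotT3.subsingleton_T2_of_subsingleton_L2 P' M
  exact Groth.Agent.CotT3.subsingleton_T2_of_presentation M (CotT.canon A B) P'

end Groth.Agent.S12288
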