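import Groth.Statements.S12291
import Groth.Agent.Lib.CotT3.NineTerm
import Groth.Agent.Lib.CotT3.Quot
import Groth.Agent.Lib.Depth.CM

set_option linter.style.haveILetI false

set_option autoImplicit false
universe u w m
open scoped TensorProduct
open DefT

namespace Groth.Agent.S12291

/-- Let k be an algebraically closed field and A a regular local k-algebra with residue field k such
that T^1(A/k, N) = 0 and T^2(A/k, N) = 0 for all A-modules N; let I be a proper ideal of A and B =
A/I. Then B is cut out of A as a local complete intersection — meaning I is generated by some list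
of r elements with r + dim B = dim A, i.e. by dim A − dim B elements — exactly when T^2(B/k, M)
vanishes for each B-module M. The T^i are computed from the choice-free presentations. (The
published statement assumes only that A is a regular local k-algebra with residue field k; its proof
uses the vanishing of T^1(A/k, −) and T^2(A/k, −), which holds when A is essentially of finite type
over k and which this row carries as a hypothesis.) -/
theorem result
    (k A : Type u) [Field k] [IsAlgClosed k] [CommRing A] [IsRegularLocalRing A] [Algebra k A]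
    (hres : Function.Surjective (algebraMap k (IsLocalRing.ResidueField A)))
    (hT : ∀ (N : Type u) [AddCommGroup N] [Module A N],
      Subsingleton (CotT.T1 (CotT.canon k A) N) ∧ Subsingleton (CotT.T2 (CotT.canon k A) N))
    (I : Ideal A) (hI : I ≠ ⊤) :
    (∃ rs : List A, Ideal.ofList rs = I ∧ (rs.length : WithBot ℕ∞) + ringKrullDim (A ⧸ I) = ringKrullDim A) ↔
      ∀ (M : Type u) [AddCommGroup M] [Module (A ⧸ I) M], Subsingleton (CotT.T2 (CotT.canon k (A ⧸ I)) M) := by
  haveI : IsLocalRing (A ⧸ I) := Groth.Agent.RegLoc.isLocalRing_quotient hI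
  have hIm : I ≤ IsLocalRing.maximalIdeal A := IsLocalRing.le_maximalIdeal hI
  have hker : RingHom.ker (algebraMap A (A ⧸ I)) = I := Ideal.mk_ker
  have hs : Function.Surjective (algebraMap A (A ⧸ I)) := Ideal.Quotient.mk_surjective
  constructor
  · rintro ⟨rs, hrs, hdim⟩ M _ _
    letI : Module A M := Module.compHom M (algebraMap A (A ⧸ I))
    haveI : IsScalarTower A (A ⧸ I) M := IsScalarTower.of_compHom A (A ⧸ I) M
    have hcm := (Groth.Agent.DepthLib.isCohenMacaulayLocalRing_of_isRegularLocalRing (R := A)).supportDim_eq_depth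
    have hd := Groth.Agent.DepthLib.supportDim_eq_quotient_add_idealDepth (R := A) (M := A) hcm hI
    rw [Ideal.smul_eq_mul, Ideal.mul_top, Module.supportDim_self_eq_ringKrullDim,
      Module.supportDim_quotient_eq_ringKrullDim] at hd
    have hdep : (rs.length : ℕ∞) ≤ LocCoh.idealDepth I A := by
      obtain ⟨d, hd'⟩ := Groth.Agent.DepthLib.exists_ringKrullDim_quotient_eq_natCast I hI
      obtain ⟨e, he⟩ := Groth.Agent.RegLoc.exists_dim_eq_nat (R := A)
      rw [hd', he] at hdim hd
      generalize LocCoh.idealDepth I A = g at hd ⊢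
      induction g using ENat.recTopCoe with
      | top => exact le_top
      | coe g =>
        have h1 : rs.length + d = e := by exact_mod_cast hdim
        have h2 : e = d + g := by exact_mod_cast hd
        exact_mod_cast (show rs.length ≤ g by omega)
    have hmem : ∀ x ∈ rs, x ∈ IsLocalRing.maximalIdeal A := fun x hx =>
      hIm (hrs ▸ Ideal.subset_span hx)
    have hw := Groth.Agent.DepthLib.isWeaklyRegular_of_length_le_idealDepth (R := A) (M := A) rs hmem
      (hrs.symm ▸ hdep)
    let a : Fin rs.length → A := rs.get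
    have hrange : Ideal.span (Set.range a) = I := by rw [← hrs]; simp [a, Ideal.ofList]
    let P' := Groth.Agent.CotT3.quotPres hs a (hker.trans hrange.symm)
    have : Subsingleton (CotT.L2 P') :=
      (Groth.Agent.CotT3.subsingleton_L2_quotPres_iff hs a _).2
        (Groth.Agent.CotT3.mem_trivA_of_regA a
          ((Groth.Agent.CotT3.regA_iff_isWeaklyRegular a).2 (by rw [List.ofFn_get]; exact hw)))
    haveI := Groth.Agent.CotT3.subsingleton_T2_of_subsingleton_L2 P' M
    haveI := Groth.Agent.CotT3.subsingleton_T2_of_presentation M (CotT.canon A (A ⧸ I)) P'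
    haveI := (hT M).2
    obtain ⟨-, -, -, h2, -⟩ := Groth.Agent.CotT3.nine_term (CotT.canon k A) (CotT.canon A (A ⧸ I)) M
      (CotT.canon k (A ⧸ I)) (CotT.canonHom k (A ⧸ I) A (A ⧸ I)) (CotT.canonHom k A k (A ⧸ I))
    refine ⟨fun x y => ?_⟩
    obtain ⟨x', rfl⟩ := (h2 x).1 (Subsingleton.elim _ _)
    obtain ⟨y', rfl⟩ := (h2 y).1 (Subsingleton.elim _ _)
    rw [Subsingleton.elim x' y']
  · intro h
    classical
    have hfg : ∃ n, ∃ a : Fin n → A, Ideal.span (Set.range a) = I := by
      obtain ⟨s, hs⟩ := Submodule.fg_iff_exists_fin_generating_family.1 (IsNoetherian.noetherian I)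
      exact ⟨s, hs⟩
    obtain ⟨a, ha⟩ := Nat.find_spec hfg
    generalize hn : Nat.find hfg = n at a ha
    have hcoef : ∀ r, Groth.Agent.CotT3.dotA a r = 0 → ∀ i, r i ∈ IsLocalRing.maximalIdeal A := by
      intro r hr i
      by_contra hu
      rw [IsLocalRing.mem_maximalIdeal, mem_nonunits_iff, not_not] at hu
      cases n with
      | zero => exact i.elim0
      | succ n =>
        refine Nat.find_min hfg (show n < Nat.find hfg by omega) ⟨a ∘ i.succAbove, ?_⟩
        refine le_antisymm (Ideal.span_le.2 ?_) ?_
        · rintro _ ⟨j, rfl⟩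
          exact ha ▸ Ideal.subset_span ⟨_, rfl⟩
        · refine ha.symm.trans_le (Ideal.span_le.2 ?_)
          rintro _ ⟨j, rfl⟩
          rcases Fin.eq_self_or_eq_succAbove i j with rfl | ⟨l, rfl⟩
          · rw [Groth.Agent.CotT3.dotA_apply, Fin.sum_univ_succAbove _ j, add_eq_zero_iff_eq_neg] at hr
            have : r j * a j ∈ Ideal.span (Set.range (a ∘ j.succAbove)) := hr ▸ (Ideal.neg_mem_iff _).2
              (Ideal.sum_mem _ fun l _ => Ideal.mul_mem_left _ _ (Ideal.subset_span ⟨l, rfl⟩))
            exact (Ideal.unit_mul_mem_iff_mem _ hu).1 this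
          · exact Ideal.subset_span ⟨l, rfl⟩
    let P' := Groth.Agent.CotT3.quotPres hs a (hker.trans ha.symm)
    haveI : IsNoetherianRing P'.toExtension.Ring :=
      isNoetherianRing_of_ringEquiv A Groth.Agent.CotT3.noVarEquiv
    haveI : Module.Finite P'.toExtension.Ring (CotT.relKer P') := Module.IsNoetherian.finite _ _
    haveI : Module.Finite (A ⧸ I) (CotT.L2 P') := Module.Finite.quotient _ _
    have hP2 : Subsingleton (CotT.L2 P') := by
      let J : Submodule (A ⧸ I) (CotT.L2 P') := IsLocalRing.maximalIdeal (A ⧸ I) • ⊤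
      let M := CotT.L2 P' ⧸ J
      haveI := h M
      haveI := (hT M).1
      obtain ⟨-, -, -, -, δ₀, δ₁, -, -, -, h2⟩ := Groth.Agent.CotT3.nine_term (CotT.canon k A)
        (CotT.canon A (A ⧸ I)) M (CotT.canon k (A ⧸ I)) (CotT.canonHom k (A ⧸ I) A (A ⧸ I))
        (CotT.canonHom k A k (A ⧸ I))
      haveI : Subsingleton (CotT.T2 (CotT.canon A (A ⧸ I)) M) := subsingleton_of_forall_eq 0 fun x => by
        obtain ⟨y, rfl⟩ := (h2 x).1 (Subsingleton.elim _ _)
        rw [Subsingleton.elim y 0, map_zero]
      haveI := Groth.Agent.CotT3.subsingleton_T2_of_presentation M P' (CotT.canon A (A ⧸ I))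
      obtain ⟨χ, hχ⟩ : J.mkQ ∈ LinearMap.range (CotT.d2Star P' M) :=
        (Submodule.Quotient.mk_eq_zero _).1 (Subsingleton.elim _ _)
      have hd2 : ∀ z, CotT.d2 P' z ∈ IsLocalRing.maximalIdeal (A ⧸ I) • (⊤ : Submodule (A ⧸ I) (CotT.L1 P')) := by
        intro z
        obtain ⟨q, rfl⟩ := Groth.Agent.CotT3.L2mk_surjective P' z
        rw [Groth.Agent.CotT3.d2_L2mk]
        have hq : (q : CotT.relMod P') = ∑ i, ((q : CotT.relMod P') i) • Finsupp.single i 1 := by
          ext j; simp
        rw [hq, TensorProduct.tmul_sum]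
        refine Submodule.sum_mem _ fun i _ => ?_
        rw [Groth.Agent.CotT3.one_tmul_smul]
        refine Submodule.smul_mem_smul ?_ trivial
        let e : A ≃+* P'.toExtension.Ring := Groth.Agent.CotT3.noVarEquiv
        have hr : Groth.Agent.CotT3.dotA a (fun i => e.symm ((q : CotT.relMod P') i)) = 0 := by
          apply e.injective
          rw [map_zero, Groth.Agent.CotT3.dotA_apply, map_sum]
          have h0 : CotT.jmap P' (q : CotT.relMod P') = 0 := q.2
          rw [← Groth.Agent.CotT3.relFun_dotA, Groth.Agent.CotT3.dotA_apply] at h0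
          rw [← h0]
          refine Finset.sum_congr rfl fun i _ => ?_
          rw [map_mul, RingEquiv.apply_symm_apply]
          rfl
        have h1 : algebraMap P'.toExtension.Ring (A ⧸ I) ((q : CotT.relMod P') i) =
            algebraMap A (A ⧸ I) (e.symm ((q : CotT.relMod P') i)) := by
          conv_lhs => rw [← e.apply_symm_apply ((q : CotT.relMod P') i)]
          rw [CotT.algebraMap_toExtension]
          exact (congrArg _ (Groth.Agent.CotT3.noVarEquiv_apply _)).trans (MvPolynomial.aeval_C _ _)
        rw [h1, IsLocalRing.mem_maximalIdeal, mem_nonunits_iff]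
        intro hu
        obtain ⟨y, hy⟩ := hu.exists_right_inv
        obtain ⟨y, rfl⟩ := hs y
        rw [← map_mul, ← map_one (algebraMap A (A ⧸ I))] at hy
        have h1 := Ideal.sub_mem _ (Ideal.mul_mem_right y _ (hcoef _ hr i)) (hIm (Ideal.Quotient.eq.1 hy))
        rw [sub_sub_cancel] at h1
        exact (Ideal.ne_top_iff_one _).1 (IsLocalRing.maximalIdeal.isMaximal A).ne_top h1
      have hM0 : ∀ y ∈ IsLocalRing.maximalIdeal (A ⧸ I) • (⊤ : Submodule (A ⧸ I) (CotT.L1 P')), χ y = 0 := by
        intro y hy
        refine Submodule.smul_induction_on hy ?_ ?_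
        · intro r hr x _
          rw [map_smul]
          obtain ⟨z, hz⟩ := J.mkQ_surjective (χ x)
          rw [← hz, ← map_smul, Submodule.mkQ_apply, Submodule.Quotient.mk_eq_zero]
          exact Submodule.smul_mem_smul hr trivial
        · intro x y hx hy
          rw [map_add, hx, hy, add_zero]
      have htop : (⊤ : Submodule (A ⧸ I) (CotT.L2 P')) ≤ J := fun z _ => by
        rw [← Submodule.Quotient.mk_eq_zero J, ← Submodule.mkQ_apply, ← hχ]
        exact hM0 _ (hd2 z)
      have hb := Submodule.eq_bot_of_le_smul_of_le_jacobson_bot (IsLocalRing.maximalIdeal (A ⧸ I)) ⊤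
        Module.Finite.fg_top htop (IsLocalRing.maximalIdeal_le_jacobson _)
      exact Submodule.subsingleton_iff (A ⧸ I) |>.1 (subsingleton_of_bot_eq_top hb.symm)
    have ham : ∀ i, a i ∈ IsLocalRing.maximalIdeal A := fun i => hIm (ha ▸ Ideal.subset_span ⟨i, rfl⟩)
    have hreg := Groth.Agent.CotT3.regA_of_trivA a ham
      ((Groth.Agent.CotT3.subsingleton_L2_quotPres_iff hs a _).1 hP2)
    rw [Groth.Agent.CotT3.regA_iff_isWeaklyRegular] at hreg
    have hof : Ideal.ofList (List.ofFn a) = I := by
      rw [← ha]; exact congrArg Ideal.span (Set.ext fun x => List.mem_ofFn)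
    refine ⟨List.ofFn a, hof, ?_⟩
    have := ringKrullDim_add_length_eq_ringKrullDim_of_isRegular (List.ofFn a)
      ((IsLocalRing.isRegular_iff_isWeaklyRegular_of_subset_maximalIdeal (M := A) (fun x hx => by
        obtain ⟨i, rfl⟩ := List.mem_ofFn.1 hx
        exact ham i)).2 hreg)
    rw [← this, hof, add_comm]

end Groth.Agent.S12291
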