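import Groth.Statements.S12292
import Groth.Agent.Lib.CotT3.ExalT1

set_option autoImplicit false
universe u w m
open scoped TensorProduct
open DefT

namespace Groth.Agent.S12292

attribute [local instance] Exal.opModule Exal.isCentralScalar_opModule

/-- Let A → B be a ring homomorphism and M a B-module. The equivalence classes of extensions of B by M
as A-algebras (surjections of A-algebras B' → B whose kernel is an ideal of square zero identified
with M, two extensions being equivalent when there is an isomorphism compatible with the identities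
of B and M) are in bijection with T^1(B/A, M), computed from the choice-free presentation, the class
of the trivial extension B ⊕ M corresponding to zero. (The published statement calls the
correspondence natural; this row asserts the existence of a bijection taking the trivial class to
zero.) -/
theorem result
    (A B : Type u) [CommRing A] [CommRing B] [Algebra A B] (M : Type u) [AddCommGroup M] [Module B M] :
    ∃ e : Exal.Exalcom A B M ≃ CotT.T1 (CotT.canon A B) M, e 0 = 0 := by
  classical
  let P := CotT.canon A B
  have hsound : ∀ X Y : Exal.Ext A B M, Nonempty (X.Equiv Y) →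
      ∀ h h' φ φ', Groth.Agent.CotT3.IsClassifier P X h φ → Groth.Agent.CotT3.IsClassifier P Y h' φ' →
        CotT.homToT1 P M φ = CotT.homToT1 P M φ' := by
    rintro X Y ⟨e⟩ h h' φ φ' hh hh'
    exact Groth.Agent.CotT3.homToT1_eq_of_isClassifier P (Groth.Agent.CotT3.isClassifier_of_equiv P e hh) hh'
  choose h φ hφ using fun X : Exal.Ext A B M => Groth.Agent.CotT3.exists_isClassifier P X
  let c : Exal.Exalcom A B M → CotT.T1 P M :=
    Quotient.lift (s := Exal.Ext.setoid A B M) (fun X => CotT.homToT1 P M (φ X))
      (fun X Y e => hsound X Y e _ _ _ _ (hφ X) (hφ Y))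
  have hinj : Function.Injective c := by
    intro a b
    refine Quotient.inductionOn₂ a b fun X Y e => ?_
    obtain ⟨ψ, hψ⟩ := (Groth.Agent.CotT3.homToT1_eq_iff P _ _).1 e
    obtain ⟨h'', hh'', -⟩ := Groth.Agent.CotT3.exists_isClassifier_add P (hφ X) ψ
    exact Quotient.sound (Groth.Agent.CotT3.nonempty_equiv_of_classifier P hh'' (hψ ▸ hφ Y))
  have hsurj : Function.Surjective c := by
    intro t
    obtain ⟨ψ, rfl⟩ := Groth.Agent.CotT3.homToT1_surjective P M t
    obtain ⟨X, h', hX⟩ := Groth.Agent.CotT3.exists_classified_ext P ψ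
    exact ⟨X.cl, hsound X X ⟨Exal.Ext.Equiv.refl X⟩ _ _ _ _ (hφ X) hX⟩
  refine ⟨Equiv.ofBijective c ⟨hinj, hsurj⟩, ?_⟩
  change CotT.homToT1 P M (φ (Exal.Ext.trivial A B M)) = 0
  let h0 : P.toExtension.Ring →+* (Exal.Ext.trivial A B M).E :=
    (TrivSqZeroExt.inlHom B M).comp (algebraMap P.toExtension.Ring B)
  have hh0 : Groth.Agent.CotT3.IsClassifier P (Exal.Ext.trivial A B M) h0 0 := by
    refine ⟨fun a => ?_, fun r => rfl, fun x => ?_⟩
    · change TrivSqZeroExt.inl (algebraMap P.toExtension.Ring B (MvPolynomial.C a)) = TrivSqZeroExt.inl (algebraMap A B a)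
      rw [CotT.algebraMap_toExtension, MvPolynomial.aeval_C]
    · change TrivSqZeroExt.inl (algebraMap P.toExtension.Ring B x) = _
      rw [RingHom.mem_ker.1 x.2, LinearMap.zero_apply, map_zero, TrivSqZeroExt.inl_zero]
      rfl
  rw [hsound _ _ ⟨Exal.Ext.Equiv.refl _⟩ _ _ _ _ (hφ _) hh0, map_zero]

end Groth.Agent.S12292
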