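import Groth.Statements.S12293
import Groth.Agent.Lib.DefAff3.Scheme

set_option autoImplicit false
universe u w m
open CategoryTheory CategoryTheory.Limits AlgebraicGeometry
open scoped TensorProduct
open DefT

namespace Groth.Agent.S12293

set_option backward.isDefEq.respectTransparency false

theorem T1congr {A B : Type u} [CommRing A] [CommRing B] [Algebra A B] {ι σ : Type u}
    (P : Algebra.Presentation A B ι σ) {M N : Type u} [AddCommGroup M] [Module B M] [AddCommGroup N] [Module B N]
    (L : M ≃ₗ[B] N) : Nonempty (CotT.T1 P M ≃ CotT.T1 P N) := by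
  refine ⟨⟨CotT.T1map P L.toLinearMap, CotT.T1map P L.symm.toLinearMap, fun v => ?_, fun v => ?_⟩⟩
  · obtain ⟨φ, rfl⟩ := Submodule.mkQ_surjective _ v
    exact congrArg Submodule.Quotient.mk (Subtype.ext (LinearMap.ext fun z => L.symm_apply_apply (φ.1 z)))
  · obtain ⟨φ, rfl⟩ := Submodule.mkQ_surjective _ v
    exact congrArg Submodule.Quotient.mk (Subtype.ext (LinearMap.ext fun z => L.apply_symm_apply (φ.1 z)))

/-- Let k be a field and B a k-algebra. The set of isomorphism classes of deformations of X = Spec B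
over the dual numbers D = k[ε] (schemes flat over Spec D with a morphism from X identifying X with
the fibre over the closed point, up to isomorphism over Spec D and under X) is in bijection with the
B-module T^1(B/k, B), computed from the choice-free presentation of B over k. (The published
statement calls the correspondence natural; this row asserts the existence of a bijection.) -/
theorem result
    (k B : Type u) [Field k] [CommRing B] [Algebra k B] :
    Nonempty ((ArtFun.defFunctor (Λ := k) (Spec (CommRingCat.of B)) (Spec.map (CommRingCat.ofHom (algebraMap k B)))).obj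
        (ArtFun.Art.dual k k) ≃ CotT.T1 (CotT.canon k B) B) := by
  classical
  let p : ArtFun.Art.dual k k ⟶ ArtFun.Art.base k k := ArtFun.Art.toBase _
  let x := Spec.map (CommRingCat.ofHom (algebraMap k B))
  let 𝒳 : ArtFun.DefSch (Spec (CommRingCat.of B)) x (ArtFun.Art.base k k) :=
    ArtFun.DefSch.self (Spec (CommRingCat.of B)) x inferInstance
  have hker : ∀ a : ArtFun.Art.dual k k, a ∈ RingHom.ker p.toAlgHom ↔ TrivSqZeroExt.fst (a : DualNumber k) = 0 :=
    fun _ => RingHom.mem_ker
  have hp : ArtFun.Art.IsSemismallExt p := by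
    refine ⟨(ArtFun.Art.dual k k).res_surjective, le_bot_iff.1 (Ideal.mul_le.2 fun a ha b hb => ?_)⟩
    rw [Submodule.mem_bot]
    have key : ∀ a b : DualNumber k, TrivSqZeroExt.fst a = 0 → TrivSqZeroExt.fst b = 0 → a * b = 0 := fun a b ha hb =>
      TrivSqZeroExt.ext (by simp [ha]) (by simp [ha, hb])
    exact key a b (((ArtFun.Art.dual k k).mem_maximalIdeal_iff a).1 ha) ((hker b).1 hb)
  let a₀ : Groth.Agent.DefAff3.Pt p 𝒳 :=
    ⟨𝒳.baseChange (ArtFun.Art.ofBase _),
      (ArtFun.DefSch.baseChangeComp 𝒳 (ArtFun.Art.ofBase _) p).symm.trans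
        (by rw [ArtFun.Art.ofBase_toBase]; exact ArtFun.DefSch.baseChangeId 𝒳)⟩
  -- the rigidification over the residue field is unique
  have hiso : ∀ 𝒳' : ArtFun.DefSch (Spec (CommRingCat.of B)) x (ArtFun.Art.dual k k), IsIso (𝒳'.baseChange p).i :=
    fun 𝒳' => (𝒳'.baseChange p).isPullback.isIso_fst_of_isIso
  let cl : Groth.Agent.DefAff3.Pt p 𝒳 → (ArtFun.defFunctor (Λ := k) (Spec (CommRingCat.of B)) x).obj (ArtFun.Art.dual k k) :=
    fun a => a.1.cl
  have hcl : ∀ a b, Groth.Agent.DefAff3.Rel p 𝒳 a b → cl a = cl b := fun a b h => Quotient.sound ⟨h.choose⟩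
  have e : Quot (Groth.Agent.DefAff3.Rel p 𝒳) ≃
      (ArtFun.defFunctor (Λ := k) (Spec (CommRingCat.of B)) x).obj (ArtFun.Art.dual k k) := by
    refine Equiv.ofBijective (Quot.lift cl hcl) ⟨fun s t => ?_, fun c => ?_⟩
    · induction s using Quot.inductionOn with
      | h a => induction t using Quot.inductionOn with
        | h b =>
          intro h
          obtain ⟨ψ⟩ := Quotient.exact h
          refine Quot.sound ⟨ψ, Iso.ext ?_⟩
          haveI := hiso a.1
          rw [← cancel_epi (a.1.baseChange p).i]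
          exact ((ψ.baseChange p).trans b.2).i_hom.trans a.2.i_hom.symm
    · induction c using Quotient.inductionOn with
      | h 𝒳' =>
        haveI := hiso 𝒳'
        refine ⟨Quot.mk _ ⟨𝒳', ⟨(asIso (𝒳'.baseChange p).i).symm, ?_, (asIso (𝒳'.baseChange p).i).hom_inv_id⟩⟩, rfl⟩
        show (asIso (𝒳'.baseChange p).i).inv ≫ x = _
        exact (Iso.inv_comp_eq _).2 ((𝒳'.baseChange p).i_f.trans (ArtFun.Art.comp_specRes_base x)).symm
  obtain ⟨t⟩ := Groth.Agent.DefAff3.nonempty_quot_equiv_T1 p 𝒳 hp a₀
  let snd : ↥(RingHom.ker p.toAlgHom) ≃ₗ[k] k :=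
    { toFun := fun a => TrivSqZeroExt.snd (a.1 : DualNumber k)
      invFun := fun c => ⟨(TrivSqZeroExt.inr c : DualNumber k), (hker _).2 (TrivSqZeroExt.fst_inr _ c)⟩
      map_add' := fun _ _ => rfl
      map_smul' := fun c a => by
        show TrivSqZeroExt.snd (((c • a : ↥(RingHom.ker p.toAlgHom)) : ArtFun.Art.dual k k) : DualNumber k) = _
        rw [Submodule.coe_smul_of_tower]
        rfl
      left_inv := fun a => Subtype.ext (TrivSqZeroExt.ext ((hker _).1 a.2).symm rfl)
      right_inv := fun c => rfl }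
  let L : B ⊗[k] ↥(RingHom.ker p.toAlgHom) ≃ₗ[B] B :=
    (TensorProduct.AlgebraTensorModule.congr (LinearEquiv.refl B B) snd).trans
      (TensorProduct.AlgebraTensorModule.rid k B B)
  obtain ⟨t'⟩ := T1congr (CotT.canon k B) L
  exact ⟨e.symm.trans (t.trans t')⟩

end Groth.Agent.S12293
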