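import Groth.Statements.S12295
import Groth.Agent.Lib.CotT3.Relabel

set_option autoImplicit false
universe u w m
open scoped TensorProduct
open DefT

namespace Groth.Agent.S12295

set_option backward.isDefEq.respectTransparency false

theorem key {k : Type*} [CommRing k] {ι : Type*} (ι' : Type*) (x : MvPolynomial ι k) :
    MvPolynomial.aeval (fun i => (MvPolynomial.C (MvPolynomial.X i) : MvPolynomial ι' (MvPolynomial ι k))) x =
      MvPolynomial.C x := by
  induction x using MvPolynomial.induction_on with
  | C a => rw [MvPolynomial.aeval_C]; rfl
  | add p q hp hq => rw [map_add, hp, hq, map_add]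
  | mul_X p i hp => rw [map_mul, hp, MvPolynomial.aeval_X, map_mul]

/-- Let k be a commutative ring, B a k-algebra and P a presentation of B over k with polynomial ring R =
k[x_i] (any set of variables), so that B = R/I; let P' be a presentation of B over R with no
polynomial variables (R itself mapping onto B, with chosen generators of I), and M a B-module. Then
T^2(B/R, M), computed from P', and T^2(B/k, M), computed from P, are isomorphic B-modules.
(Existence of a B-linear isomorphism only; the published statement has finitely many variables over
a field and notes that any base ring works.) -/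
theorem result
    (k B : Type u) [CommRing k] [CommRing B] [Algebra k B] (ι σ ι' σ' : Type w)
    (P : Algebra.Presentation k B ι σ) [IsEmpty ι']
    (P' : Algebra.Presentation P.toExtension.Ring B ι' σ')
    (M : Type m) [AddCommGroup M] [Module B M] :
    Nonempty (CotT.T2 P' M ≃ₗ[B] CotT.T2 P M) := by
  let g := P'.toGenerators
  have hC : ∀ x : P.toExtension.Ring, algebraMap P'.toExtension.Ring B (MvPolynomial.C x) = algebraMap P.toExtension.Ring B x :=
    fun x => (CotT.algebraMap_toExtension P' _).trans (MvPolynomial.aeval_C _ x)
  let e : P.toExtension.Ring ≃+* MvPolynomial ι' P.toExtension.Ring :=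
    (MvPolynomial.isEmptyAlgEquiv P.toExtension.Ring ι').symm.toRingEquiv
  have he : ∀ x, e x = MvPolynomial.C x := fun x => ((MvPolynomial.isEmptyAlgEquiv P.toExtension.Ring ι').symm).commutes x
  let W : Algebra.Presentation P.toExtension.Ring B ι' σ :=
    { toGenerators := g
      relation := fun s => MvPolynomial.C (CotT.rel P s)
      span_range_relation_eq_ker := by
        refine le_antisymm (Ideal.span_le.2 ?_) fun x hx => ?_
        · rintro _ ⟨s, rfl⟩
          exact (hC _).trans (CotT.algebraMap_rel P s)
        · obtain ⟨y, rfl⟩ := e.surjective x
          rw [he] at hx ⊢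
          have hy : y ∈ Ideal.span (Set.range P.relation) := by
            rw [P.span_range_relation_eq_ker]
            exact (hC y).symm.trans hx
          have := Ideal.mem_map_of_mem (MvPolynomial.C (σ := ι') (R := P.toExtension.Ring)) hy
          rw [Ideal.map_span, ← Set.range_comp] at this
          exact this }
  let h : CotT.PresHom P W :=
    { hom := { val := fun i => MvPolynomial.C (MvPolynomial.X i)
               aeval_val := fun i => (MvPolynomial.aeval_C _ _).trans
                 ((CotT.algebraMap_toExtension P _).trans (MvPolynomial.aeval_X _ i)) }
      relVal := fun s => Finsupp.single s 1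
      jmap_relVal := fun s => by
        rw [CotT.jmap_single, one_mul]
        change MvPolynomial.C (CotT.rel P s) = MvPolynomial.aeval _ (CotT.rel P s)
        exact (key ι' (CotT.rel P s)).symm }
  have hr : ∀ x, h.ringHom x = e x := fun x => (key ι' x).trans (he x).symm
  have hbij : Function.Bijective h.ringHom := by
    rw [show ⇑h.ringHom = e from funext hr]; exact e.bijective
  obtain ⟨g'⟩ := Groth.Agent.CotT3.nonempty_presHom W P'
  exact ⟨(LinearEquiv.ofBijective _ (Groth.Agent.CotT3.T2pull_bijective M g')).trans
    (LinearEquiv.ofBijective _ (Groth.Agent.CotT3.T2pull_bijective_of_relabel h hbij (fun s => rfl) M))⟩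

end Groth.Agent.S12295
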