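import Groth.Statements.S12297
import Groth.Agent.Lib.CotT3.Regular
import Groth.Agent.Lib.CotT3.Localization
import Groth.Agent.Lib.CotT3.NineTerm
import Mathlib.RingTheory.Localization.LocalizationLocalization

set_option autoImplicit false
universe u w m
open scoped TensorProduct
open DefT

namespace Groth.Agent.S12297

set_option linter.style.haveILetI false

theorem isRegular_of_away (k B : Type u) [Field k] [IsAlgClosed k] [CommRing B] [Algebra k B]
    [Algebra.FiniteType k B] (m : Ideal B) [m.IsPrime] {g : B} (hg : g ∉ m)
    [Algebra.Smooth k (Localization.Away g)] : IsRegularLocalRing (Localization.AtPrime m) := by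
  let Bg := Localization.Away g
  have hdisj : Disjoint ((Submonoid.powers g : Submonoid B) : Set B) (m : Set B) := by
    rw [Set.disjoint_left]
    rintro x ⟨i, rfl⟩ hx
    exact hg (Ideal.IsPrime.mem_of_pow_mem ‹_› i hx)
  let q : Ideal Bg := m.map (algebraMap B Bg)
  haveI : q.IsPrime := IsLocalization.isPrime_of_isPrime_disjoint (Submonoid.powers g) Bg m inferInstance hdisj
  have hcomap : q.comap (algebraMap B Bg) = m :=
    IsLocalization.under_map_of_isPrime_disjoint (Submonoid.powers g) Bg inferInstance hdisj
  haveI : IsRegularLocalRing (Localization.AtPrime q) :=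
    (Groth.Agent.CotT3.formallySmooth_iff_forall_regular k Bg).2 inferInstance q
  haveI : IsLocalization.AtPrime (Localization.AtPrime q) m := by
    have := IsLocalization.isLocalization_isLocalization_atPrime_isLocalization (Submonoid.powers g)
      (Localization.AtPrime q) q
    simpa only [hcomap] using this
  exact IsRegularLocalRing.of_ringEquiv
    (IsLocalization.algEquiv m.primeCompl (Localization.AtPrime q) (Localization.AtPrime m)).toRingEquiv

/-- Let k be an algebraically closed field, B a finitely generated k-algebra, m a maximal ideal of B and
B_m the localization, a local k-algebra with residue field k. Then B_m is a regular local ring if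
and only if T^1(B_m/k, M) = 0 for all B_m-modules M, and in that case T^2(B_m/k, M) = 0 for all M as
well; the T^i are computed from the choice-free presentation of B_m over k. (The published statement
is for a local k-algebra with residue field k, k algebraically closed, proved by localization from
the finitely generated case; this row states it for the localizations of finitely generated
k-algebras at maximal ideals, the case that proof covers.) -/
theorem result
    (k B : Type u) [Field k] [IsAlgClosed k] [CommRing B] [Algebra k B] [Algebra.FiniteType k B]
    (m : Ideal B) [m.IsMaximal] :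
    (IsRegularLocalRing (Localization.AtPrime m) ↔
      ∀ (M : Type u) [AddCommGroup M] [Module (Localization.AtPrime m) M],
        Subsingleton (CotT.T1 (CotT.canon k (Localization.AtPrime m)) M)) ∧
    (IsRegularLocalRing (Localization.AtPrime m) →
      ∀ (M : Type u) [AddCommGroup M] [Module (Localization.AtPrime m) M],
        Subsingleton (CotT.T2 (CotT.canon k (Localization.AtPrime m)) M)) := by
  let L := Localization.AtPrime m
  haveI : Algebra.FinitePresentation k B := Algebra.FinitePresentation.of_finiteType.1 inferInstance
  have hiff : IsRegularLocalRing L ↔ Algebra.FormallySmooth k L := by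
    constructor
    · intro h
      haveI : Algebra.FormallySmooth k m.ResidueField :=
        Groth.Agent.FieldFS.formallySmooth_of_perfectField k m.ResidueField
      exact Groth.Agent.RegSmooth17.isSmoothAt_of_isRegularLocalRing k B m
    · intro h
      haveI : Algebra.IsSmoothAt k m := h
      obtain ⟨g, hg, hsm⟩ := Algebra.IsSmoothAt.exists_notMem_smooth k m
      exact isRegular_of_away k B m hg
  refine ⟨⟨fun h M _ _ => ?_, fun h => ?_⟩, fun h M _ _ => ?_⟩
  · haveI := hiff.1 h
    exact Groth.Agent.CotT3.subsingleton_T1_of_formallySmooth (CotT.canon k L) M
  · exact hiff.2 (Groth.Agent.CotT3.formallySmooth_of_subsingleton_T1 (CotT.canon k L) (h _))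
  · haveI : Algebra.IsSmoothAt k m := hiff.1 h
    obtain ⟨g, hg, hsm⟩ := Algebra.IsSmoothAt.exists_notMem_smooth k m
    let Bg := Localization.Away g
    have hu : IsUnit (algebraMap B L g) := IsLocalization.map_units L (⟨g, hg⟩ : m.primeCompl)
    letI : Algebra Bg L := (IsLocalization.Away.lift g hu).toAlgebra
    haveI : IsScalarTower B Bg L := IsScalarTower.of_algebraMap_eq fun b =>
      (IsLocalization.Away.lift_eq g hu b).symm
    haveI : IsScalarTower k Bg L := IsScalarTower.of_algebraMap_eq fun c => by
      rw [IsScalarTower.algebraMap_apply k B L, IsScalarTower.algebraMap_apply k B Bg,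
        ← IsScalarTower.algebraMap_apply B Bg L]
    have hle : Submonoid.powers g ≤ m.primeCompl := Submonoid.powers_le.2 hg
    haveI : IsLocalization (m.primeCompl.map (algebraMap B Bg)) L :=
      IsLocalization.isLocalization_of_submonoid_le Bg L _ _ hle
    letI : Module Bg M := Module.compHom M (algebraMap Bg L)
    haveI : IsScalarTower Bg L M := IsScalarTower.of_compHom Bg L M
    haveI : Algebra.FiniteType k Bg := inferInstance
    haveI := Groth.Agent.CotT3.subsingleton_T2_localization (m.primeCompl.map (algebraMap B Bg)) L M
    haveI := Groth.Agent.CotT3.subsingleton_T2_of_regular k Bg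
      ((Groth.Agent.CotT3.formallySmooth_iff_forall_regular k Bg).2 hsm.formallySmooth) M
    obtain ⟨-, -, -, h2, -⟩ := Groth.Agent.CotT3.nine_term (CotT.canon k Bg) (CotT.canon Bg L) M
      (CotT.canon k L) (CotT.canonHom k L Bg L) (CotT.canonHom k Bg k L)
    refine ⟨fun x y => ?_⟩
    obtain ⟨x', rfl⟩ := (h2 x).1 (Subsingleton.elim _ _)
    obtain ⟨y', rfl⟩ := (h2 y).1 (Subsingleton.elim _ _)
    rw [Subsingleton.elim x' y']

end Groth.Agent.S12297
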