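import Groth.Statements.S12304
import Groth.Agent.Lib.ArtFun.Completion
import Mathlib.AlgebraicGeometry.Stalk
import Mathlib.AlgebraicGeometry.Noetherian
import Mathlib.AlgebraicGeometry.Morphisms.Preimmersion

set_option autoImplicit false
universe u
open CategoryTheory CategoryTheory.Limits AlgebraicGeometry
open ArtFun

namespace Groth.Agent.S12304

open AlgebraicGeometry CategoryTheory ArtFun ArtFun.Art Groth.Agent.ArtFunLib IsLocalRing in
theorem stalk_points
    {k : Type u} [Field k] (M : Scheme.{u}) (m : M ⟶ Spec (CommRingCat.of k))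
    [IsLocallyNoetherian M] (x₀ : Spec (CommRingCat.of k) ⟶ M) (hx₀ : x₀ ≫ m = 𝟙 _) :
    ∃ (R : ArtFun.CRing k k)
      (e : ∀ A : ArtFun.Art k k, ArtFun.HomSet R.carrier R.res A ≃
        {g : ArtFun.Art.spec A ⟶ M // g ≫ m = ArtFun.Art.specMap (ArtFun.Art.ofBase A) ∧ ArtFun.Art.specRes A ≫ g = x₀}),
      ∀ (A B : ArtFun.Art k k) (h : A ⟶ B) (φ : ArtFun.HomSet R.carrier R.res A),
        ((e B) (ArtFun.HomSet.map h φ)).1 = ArtFun.Art.specMap h ≫ ((e A) φ).1 := by
  set x : M := x₀ (closedPoint k) with hx
  let σ : CommRingCat.of k ⟶ M.presheaf.stalk x := Spec.preimage (M.fromSpecStalk x ≫ m)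
  let ψ₀ : M.presheaf.stalk x ⟶ CommRingCat.of k := Scheme.stalkClosedPointTo x₀
  have hψ₀ : Spec.map ψ₀ ≫ M.fromSpecStalk x = x₀ := Scheme.Spec_stalkClosedPointTo_fromSpecStalk x₀
  have hσ : σ ≫ ψ₀ = 𝟙 _ := Spec.map_injective (by
    rw [Spec.map_comp, Spec.map_id, show Spec.map σ = M.fromSpecStalk x ≫ m from Spec.map_preimage _,
      ← Category.assoc, hψ₀, hx₀])
  let _ : Algebra k (M.presheaf.stalk x) := σ.hom.toAlgebra
  let res : M.presheaf.stalk x →ₐ[k] k :=
    { toRingHom := ψ₀.hom, commutes' := fun c => congrArg (fun f : CommRingCat.of k ⟶ CommRingCat.of k => f.hom c) hσ }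
  have hres : Function.Surjective res := fun c => ⟨algebraMap k _ c, res.commutes c⟩
  let pt : ∀ A : Art k k, HomSet (M.presheaf.stalk x) res A → (spec A ⟶ M) := fun A ψ =>
    Spec.map (CommRingCat.ofHom ψ.1.toRingHom) ≫ M.fromSpecStalk x
  have hpt : ∀ A ψ, pt A ψ ≫ m = specMap (ofBase A) ∧ specRes A ≫ pt A ψ = x₀ := by
    intro A ψ
    constructor
    · rw [Category.assoc, show M.fromSpecStalk x ≫ m = Spec.map σ from (Spec.map_preimage _).symm,
        ← Spec.map_comp]
      exact congrArg Spec.map (CommRingCat.hom_ext (RingHom.ext fun c => ψ.1.commutes c))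
    · refine Eq.trans ?_ hψ₀
      change Spec.map _ ≫ Spec.map _ ≫ M.fromSpecStalk x = _
      rw [← Category.assoc, ← Spec.map_comp]
      congr 2
      exact CommRingCat.hom_ext (congrArg AlgHom.toRingHom ψ.2)
  have hbij : ∀ A, Function.Bijective (fun ψ => (⟨pt A ψ, hpt A ψ⟩ :
      {g : spec A ⟶ M // g ≫ m = specMap (ofBase A) ∧ specRes A ≫ g = x₀})) := by
    intro A
    refine ⟨fun ψ ψ' h => ?_, ?_⟩
    · have h' := Spec.map_injective ((cancel_mono (M.fromSpecStalk x)).1 (congrArg Subtype.val h))
      exact Subtype.ext (AlgHom.ext fun s => RingHom.congr_fun (congrArg CommRingCat.Hom.hom h') s)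
    rintro ⟨g, hg1, hg2⟩
    let g' : Spec (CommRingCat.of A) ⟶ M := g
    have hp : g' (closedPoint A) = x := by
      have hloc : IsLocalHom A.res.toRingHom := ⟨fun a ha => by
        by_contra hna
        exact ha.ne_zero ((A.mem_maximalIdeal_iff a).1 hna)⟩
      rw [hx, ← hg2, Scheme.Hom.comp_apply]
      congr 1
      exact (IsLocalRing.comap_closedPoint A.res.toRingHom).symm
    let ψ : M.presheaf.stalk x ⟶ CommRingCat.of A :=
      M.presheaf.stalkSpecializes (specializes_of_eq hp) ≫ Scheme.stalkClosedPointTo g'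
    have hψ : Spec.map ψ ≫ M.fromSpecStalk x = g := by
      rw [Spec.map_comp, Category.assoc, Scheme.SpecMap_stalkSpecializes_fromSpecStalk,
        Scheme.Spec_stalkClosedPointTo_fromSpecStalk]
    have hc : σ ≫ ψ = CommRingCat.ofHom (ofBase A).toAlgHom.toRingHom := Spec.map_injective (by
      rw [Spec.map_comp, show Spec.map σ = M.fromSpecStalk x ≫ m from Spec.map_preimage _,
        ← Category.assoc, hψ, hg1]
      rfl)
    have hr : ψ ≫ CommRingCat.ofHom A.res.toRingHom = ψ₀ := by
      refine Spec.map_injective ((cancel_mono (M.fromSpecStalk x)).1 ?_)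
      rw [Spec.map_comp, Category.assoc, hψ, hψ₀]
      exact hg2
    refine ⟨⟨{ toRingHom := ψ.hom, commutes' := fun c => RingHom.congr_fun (congrArg CommRingCat.Hom.hom hc) c },
      AlgHom.ext fun s => RingHom.congr_fun (congrArg CommRingCat.Hom.hom hr) s⟩, Subtype.ext hψ⟩
  refine ⟨completionRing res hres, fun A =>
    (Equiv.ofBijective _ (restrictPoint_bijective res hres A)).trans (Equiv.ofBijective _ (hbij A)), ?_⟩
  intro A B h φ
  change pt B (restrictPoint res hres B (HomSet.map h φ)) = specMap h ≫ pt A (restrictPoint res hres A φ)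
  rw [restrictPoint_map]
  change Spec.map _ ≫ _ = Spec.map _ ≫ Spec.map _ ≫ _
  rw [← Category.assoc, ← Spec.map_comp]
  rfl



/-- Let k be an algebraically closed field, M a locally Noetherian k-scheme and x₀ : Spec k → M a
k-rational point. For a local Artinian k-algebra A with residue field k consider the k-morphisms
Spec A → M whose restriction along the closed point Spec k → Spec A is x₀ (the local functor of M at
x₀, a morphism A → B acting by composition with Spec B → Spec A). This functor is pro-representable: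
there are a complete local Noetherian k-algebra R with residue field k and bijections, natural in A,
between the augmentation-compatible k-algebra maps R → A and these morphisms. (The published
statement is phrased for the fine moduli scheme M of a moduli problem, whose local functor at the
point of a given object is this one; M is taken locally Noetherian here so that the coefficient ring
is Noetherian.) -/
theorem result
    {k : Type u} [Field k] [IsAlgClosed k] (M : Scheme.{u}) (m : M ⟶ Spec (CommRingCat.of k))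
    [IsLocallyNoetherian M] (x₀ : Spec (CommRingCat.of k) ⟶ M) (hx₀ : x₀ ≫ m = 𝟙 _) :
    ∃ (R : ArtFun.CRing k k)
      (e : ∀ A : ArtFun.Art k k, ArtFun.HomSet R.carrier R.res A ≃
        {g : ArtFun.Art.spec A ⟶ M // g ≫ m = ArtFun.Art.specMap (ArtFun.Art.ofBase A) ∧ ArtFun.Art.specRes A ≫ g = x₀}),
      ∀ (A B : ArtFun.Art k k) (h : A ⟶ B) (φ : ArtFun.HomSet R.carrier R.res A),
        ((e B) (ArtFun.HomSet.map h φ)).1 = ArtFun.Art.specMap h ≫ ((e A) φ).1 := by
  exact stalk_points M m x₀ hx₀

end Groth.Agent.S12304
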