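import Groth.Statements.S12306
import Groth.Agent.Lib.CotRigid8.Smoothing
import Mathlib.RingTheory.Jacobson.Ring
import Mathlib.RingTheory.KrullDimension.Field
import Mathlib.RingTheory.Flat.TorsionFree

set_option autoImplicit false
universe u
open CotT

namespace Groth.Agent.S12306


/-- Let k be an algebraically closed field and B₀ a finitely generated k-algebra which is not smooth
over k and is rigid, in the sense that the cotangent module T¹(B₀/k, B₀) (from the choice-free
presentation) vanishes. Let A be a finitely generated k-algebra which is a domain, smooth over k of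
Krull dimension one, t ∈ A an element generating a maximal ideal, and B a finitely generated flat
A-algebra, a k-algebra compatibly with A, whose fibre B/tB is k-isomorphic to B₀. Then this family
does not smooth Spec B₀: there is a prime of B not containing t at which B is not smooth over A.
(The published statement asserts that a singular rigid scheme admits no smoothing by any flat
family; this row states it for flat families with affine total space over an affine nonsingular
curve whose point is cut out by one equation.) -/
theorem result
    {k : Type u} [Field k] [IsAlgClosed k] (B₀ : Type u) [CommRing B₀] [Algebra k B₀] [Algebra.FiniteType k B₀]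
    (hsing : ¬ Algebra.Smooth k B₀) (hrigid : Subsingleton (CotT.T1 (CotT.canon k B₀) B₀))
    (A B : Type u) [CommRing A] [CommRing B] [IsDomain A] [Algebra k A] [Algebra.FiniteType k A]
    [Algebra.Smooth k A] (hdim : ringKrullDim A = 1) (t : A) (ht : (Ideal.span {t}).IsMaximal)
    [Algebra A B] [Algebra.FiniteType A B] [Module.Flat A B] [Algebra k B] [IsScalarTower k A B]
    (e : (B ⧸ Ideal.span {algebraMap A B t}) ≃ₐ[k] B₀) :
    ∃ q : PrimeSpectrum B, algebraMap A B t ∉ q.asIdeal ∧ q ∉ Algebra.smoothLocus A B := by
  by_contra hcon
  push Not at hcon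
  apply hsing
  haveI : IsNoetherianRing A := Algebra.FiniteType.isNoetherianRing k A
  haveI : IsNoetherianRing B := Algebra.FiniteType.isNoetherianRing A B
  haveI : Algebra.FinitePresentation A B := Algebra.FinitePresentation.of_finiteType.1 inferInstance
  haveI := ht
  letI : Field (A ⧸ Ideal.span {t}) := Ideal.Quotient.field _
  haveI : Algebra.FiniteType k (A ⧸ Ideal.span {t}) :=
    Algebra.FiniteType.of_surjective (Ideal.Quotient.mkₐ k _) Ideal.Quotient.mk_surjective
  haveI : Module.Finite k (A ⧸ Ideal.span {t}) := finite_of_finite_type_of_isJacobsonRing k _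
  have hA : ∀ a : A, ∃ (l : k) (a' : A), a = algebraMap k A l + t * a' := fun a => by
    obtain ⟨l, hl⟩ := IsAlgClosed.algebraMap_bijective_of_isIntegral (k := k)
      (K := A ⧸ Ideal.span {t}) |>.2 (Ideal.Quotient.mk _ a)
    rw [← Ideal.Quotient.mk_algebraMap, Ideal.Quotient.eq] at hl
    obtain ⟨a', ha'⟩ := Ideal.mem_span_singleton'.1 hl
    exact ⟨l, -a', by linear_combination ha'⟩
  have ht0 : t ≠ 0 := fun h => by
    subst h
    rw [Ideal.span_singleton_zero] at ht
    have hf : IsField A := by
      by_contra hf
      exact Ring.ne_bot_of_isMaximal_of_not_isField ht hf rfl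
    letI := hf.toField
    rw [ringKrullDim_eq_zero_of_field A] at hdim
    exact zero_ne_one hdim
  have htc : ∀ c : ℕ, t ^ c ∉ Ideal.span {t ^ (c + 1)} := fun c h => by
    obtain ⟨a, ha⟩ := Ideal.mem_span_singleton'.1 h
    refine ht.ne_top (Ideal.span_singleton_eq_top.2 (IsUnit.of_mul_eq_one a
      (mul_left_cancel₀ (pow_ne_zero c ht0) ?_)))
    rw [mul_one]; exact Eq.trans (by ring) ha
  let q₀ : B →ₐ[k] B₀ := e.toAlgHom.comp (Ideal.Quotient.mkₐ k _)
  have hker : RingHom.ker q₀ = Ideal.span {algebraMap A B t} := by
    ext b
    rw [RingHom.mem_ker]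
    change e (Ideal.Quotient.mk _ b) = 0 ↔ _
    rw [map_eq_zero_iff e e.injective, Ideal.Quotient.eq_zero_iff_mem]
  have hreg : ∀ b, algebraMap A B t * b = 0 → b = 0 := fun b hb => by
    rw [← Algebra.smul_def] at hb
    exact Module.IsTorsionFree.isSMulRegular (M := B) (isRegular_of_ne_zero ht0) (hb.trans (smul_zero t).symm)
  haveI := CotRigid8.formallySmooth_of_rigid_smoothing t hA htc q₀
    (e.surjective.comp Ideal.Quotient.mk_surjective) hker hreg hrigid fun q hq => hcon q hq
  exact ⟨inferInstance, Algebra.FinitePresentation.of_finiteType.1 inferInstance⟩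


end Groth.Agent.S12306
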