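import Groth.Statements.S12308
import Groth.Agent.Lib.DefGlue3.AffineTangent
import Groth.Agent.Lib.ArtFun.Tangent
import Groth.Agent.S12732
-- import your own Groth.Agent.* helpers here

set_option autoImplicit false
universe u
open CategoryTheory AlgebraicGeometry
open SGA7

namespace Groth.Agent.S12308

/-- Suppose Λ is a Noetherian local ring, complete for its maximal ideal, whose residue field is k (so
the map Λ → k is surjective), and work with functors on local Artinian Λ-algebras having residue
field k. Take X₀ to be an affine scheme of finite type over k, together with an open subscheme U ⊆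
X₀ that is smooth over k and has finite complement (thus X₀ fails to be smooth at only finitely many
points). Under these assumptions the deformation functor of X₀, which sends A to isomorphism classes
of schemes flat over Spec A whose closed fibre is X₀, has a hull; equivalently, there is a
miniversal family defined over a complete local Noetherian Λ-algebra with residue field k. -/
theorem result (Λ k : Type u) [CommRing Λ] [IsLocalRing Λ] [IsNoetherianRing Λ]
    [IsAdicComplete (IsLocalRing.maximalIdeal Λ) Λ] [Field k] [Algebra Λ k]
    (hk : Function.Surjective (algebraMap Λ k))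
    (X : Scheme.{u}) [IsAffine X] (x : X ⟶ Spec (CommRingCat.of k)) [LocallyOfFiniteType x]
    (U : X.Opens) (hU : Smooth (U.ι ≫ x)) (hfin : ((U : Set X)ᶜ).Finite) :
    ArtFun.HasHull (ArtFun.defFunctor (Λ := Λ) X x) := by
  haveI : Module.Finite Λ k := Module.Finite.of_surjective (Algebra.linearMap Λ k) hk
  obtain ⟨T⟩ := Groth.Agent.ArtFunLib.nonempty_tangentStr (F := ArtFun.defFunctor (Λ := Λ) X x)
    Groth.Agent.DefGlue3.h0 Groth.Agent.DefGlue3.heps
  letI := T
  have hder : Subsingleton (Derivation Λ k k) := ⟨fun D D' => Derivation.ext fun a => by
    obtain ⟨l, rfl⟩ := hk a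
    rw [Derivation.map_algebraMap, Derivation.map_algebraMap]⟩
  exact Groth.Agent.S12732.result hder _ Groth.Agent.DefGlue3.h0 Groth.Agent.DefGlue3.s1
    Groth.Agent.DefGlue3.heps (Groth.Agent.DefGlue3.hfin_of_finite_nonsmooth U hU hfin)

end Groth.Agent.S12308
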