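import Groth.Statements.S12310
import Groth.Agent.Lib.DefGlue3.LCISmooth

set_option autoImplicit false
universe u
open CategoryTheory AlgebraicGeometry
open SGA7

namespace Groth.Agent.S12310

/-- Suppose Λ is a Noetherian local ring, complete for its maximal-ideal-adic topology, whose residue
field is k (so Λ → k is surjective), and work with functors defined on local Artinian Λ-algebras
having residue field k. Take a finite-type k-algebra A₀ that is a local complete intersection over k
(meaning it admits a presentation as a quotient of a polynomial algebra in finitely many variables
whose kernel is Koszul-regular), and put X₀ = Spec A₀. Then X₀ has a smooth deformation functor (the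
functor of isomorphism classes of schemes flat over Spec A whose closed fibre is X₀): given any
surjection A' → A, each deformation over A can be lifted to one over A'. -/
theorem result (Λ k : Type u) [CommRing Λ] [IsLocalRing Λ] [IsNoetherianRing Λ]
    [IsAdicComplete (IsLocalRing.maximalIdeal Λ) Λ] [Field k] [Algebra Λ k]
    (hk : Function.Surjective (algebraMap Λ k))
    (A₀ : Type u) [CommRing A₀] [Algebra k A₀] (hA : LCI.IsLCI k A₀) :
    ArtFun.IsSmoothFunctor (ArtFun.defFunctor (Λ := Λ) (Spec (CommRingCat.of A₀))
      (Spec.map (CommRingCat.ofHom (algebraMap k A₀)))) := by
  exact DefGlue3.isSmoothFunctor_defFunctor A₀ hA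

end Groth.Agent.S12310
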