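import Groth.Statements.S12316
import Groth.Agent.Lib.ArtFun24.Smooth

set_option autoImplicit false
universe u v
open CategoryTheory
open SGA7

namespace Groth.Agent.S12316

/-- Suppose Λ is a Noetherian local ring, complete for its maximal ideal, whose residue field is k (so Λ
→ k is surjective), and work with functors defined on the category of local Artinian Λ-algebras
having residue field k. Take morphisms φ : F → G and ψ : G → H of such functors. Assume that each of
F(k), G(k), H(k) consists of a single point; that for G the comparison map on fibre products A₁ ×_A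
A₂ is surjective as soon as A₂ → A is surjective, and is bijective for products of the form A' ×_k
k[ε]; that for H the comparison map is bijective on every fibre product A₁ ×_A A₂ with A₂ → A
surjective; and that the induced map on tangent spaces G(k[ε]) → H(k[ε]) coming from ψ is injective.
Under these assumptions, φ ≫ ψ is smooth if and only if both φ and ψ are smooth. (The published
statement is for functors of cofibred groupoids with G semi-homogeneous and H homogeneous; this row
is the case of set-valued functors.) -/
theorem result (Λ k : Type u) [CommRing Λ] [IsLocalRing Λ] [IsNoetherianRing Λ]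
    [IsAdicComplete (IsLocalRing.maximalIdeal Λ) Λ] [Field k] [Algebra Λ k]
    (hk : Function.Surjective (algebraMap Λ k))
    {F G H : ArtFun.Art Λ k ⥤ Type v} (φ : F ⟶ G) (ψ : G ⟶ H)
    (hF : ArtFun.H0 F) (hG : ArtFun.H0 G ∧ ArtFun.S1 G ∧ ArtFun.Heps G) (hH0 : ArtFun.H0 H)
    (hH : ∀ ⦃B A A' A'' : ArtFun.Art Λ k⦄ (p' : B ⟶ A') (p'' : B ⟶ A'') (f' : A' ⟶ A) (f'' : A'' ⟶ A)
      (h : ArtFun.Art.IsFibreProd p' p'' f' f''), Function.Surjective f'' → Function.Bijective (ArtFun.cmp H h))
    (hψ : Function.Injective (ArtFun.TangentSpace.map ψ)) :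
    ArtFun.IsSmooth (φ ≫ ψ) ↔ (ArtFun.IsSmooth φ ∧ ArtFun.IsSmooth ψ) := by
  exact Groth.Agent.ArtFun24.isSmooth_comp_iff φ ψ hF hH0
    (Groth.Agent.ArtFun24.injective_app hk ψ hG.1 hG.2.1 hG.2.2 hH hψ)

end Groth.Agent.S12316
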