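import Groth.Statements.S1237
import Groth.Agent.Lib.Dev4.WeakAssFP
import Groth.Agent.Lib.RG4.LocFlat

set_option autoImplicit false
universe u
open FlatMor

set_option backward.isDefEq.respectTransparency.types false

set_option maxSynthPendingDepth 3
namespace Groth.Agent.S1237

/-- Ring form, X = Spec S and S = Spec R affine, where local finiteness of the weakly associated points
means finiteness: let R be a ring with finitely many weakly associated primes, S a finitely
presented R-algebra and N a finite S-module. Then the set U of primes q of S with N_q flat over R is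
open in Spec S, and every q in U has a basic open neighbourhood D(g) on which N becomes finitely
presented over S_g and flat over R. -/
theorem result {R S : Type u} [CommRing R] [CommRing S] [Algebra R S] [Algebra.FinitePresentation R S]
    (hR : (FlatCA.weakAss R R).Finite)
    (N : Type u) [AddCommGroup N] [Module S N] [Module R N] [IsScalarTower R S N] [Module.Finite S N] :
    IsOpen {q : PrimeSpectrum S | FlatCA.FlatAt R q.asIdeal N} ∧
    ∀ (q : Ideal S) [q.IsPrime], FlatCA.FlatAt R q N → ∃ g : S, g ∉ q ∧
      Module.FinitePresentation (Localization.Away g) (LocalizedModule (Submonoid.powers g) N) ∧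
      Module.Flat R (LocalizedModule (Submonoid.powers g) N) := by
  refine ⟨?_, fun q _ hq => Dev4.exists_flat_fp_of_weakAss_finite hR N q hq⟩
  refine isOpen_iff_forall_mem_open.2 fun q hq => ?_
  obtain ⟨g, hg, -, hflat⟩ := Dev4.exists_flat_fp_of_weakAss_finite hR N q.asIdeal hq
  refine ⟨PrimeSpectrum.basicOpen g, fun x hx => ?_, (PrimeSpectrum.basicOpen g).2, hg⟩
  haveI := hflat
  exact RG4.flat_of_isLocalizedModule x.asIdeal.primeCompl
    (IsLocalizedModule.liftOfLE (Submonoid.powers g) x.asIdeal.primeCompl
      (Submonoid.powers_le.2 hx)
      (LocalizedModule.mkLinearMap (Submonoid.powers g) N) (LocalizedModule.mkLinearMap x.asIdeal.primeCompl N))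

end Groth.Agent.S1237
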