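import Groth.Statements.S1238
import Groth.Agent.Lib.Dev4.WeakAssFT

set_option autoImplicit false
universe u
open FlatMor

set_option backward.isDefEq.respectTransparency.types false

set_option maxSynthPendingDepth 3
namespace Groth.Agent.S1238

/-- Ring form, X = Spec S, S = Spec R affine: let R be a ring with finitely many weakly associated
primes and S a finite type R-algebra. Then the set of primes q of S with S_q flat over R is open in
Spec S, and every such q has a basic open neighbourhood D(g) with S_g flat and of finite
presentation over R. -/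
theorem result {R S : Type u} [CommRing R] [CommRing S] [Algebra R S] [Algebra.FiniteType R S]
    (hR : (FlatCA.weakAss R R).Finite) :
    IsOpen {q : PrimeSpectrum S | Module.Flat R (Localization.AtPrime q.asIdeal)} ∧
    ∀ (q : Ideal S) [q.IsPrime], Module.Flat R (Localization.AtPrime q) → ∃ g : S, g ∉ q ∧
      Algebra.FinitePresentation R (Localization.Away g) ∧ Module.Flat R (Localization.Away g) := by
  have e : ∀ T : Submonoid S, LocalizedModule T S ≃ₗ[S] Localization T := fun T =>
    IsLocalizedModule.iso T (Algebra.linearMap S (Localization T))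
  have hiff : ∀ (q : Ideal S) [q.IsPrime], Module.Flat R (Localization.AtPrime q) ↔ FlatCA.FlatAt R q S := fun q _ =>
    (Module.Flat.equiv_iff ((e q.primeCompl).restrictScalars R)).symm
  refine ⟨?_, fun q _ hq => ?_⟩
  · have : {q : PrimeSpectrum S | Module.Flat R (Localization.AtPrime q.asIdeal)} =
        {q : PrimeSpectrum S | FlatCA.FlatAt R q.asIdeal S} := Set.ext fun q => hiff q.asIdeal
    rw [this]
    refine Dev4.isOpen_flatLocus_of_exists fun q hq => ?_
    obtain ⟨g, hg, hfl, -⟩ := Dev4.exists_flat_rfp_of_weakAss_finite hR S q.asIdeal hq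
    exact ⟨g, hg, hfl⟩
  · obtain ⟨g, hg, hfl, hr⟩ := Dev4.exists_flat_rfp_of_weakAss_finite hR S q ((hiff q).1 hq)
    exact ⟨g, hg, Dev4.finitePresentation_of_rfp_self
      (LinearEquiv.extendScalarsOfIsLocalization (Submonoid.powers g) (Localization.Away g) (e (Submonoid.powers g))) hr,
      (Module.Flat.equiv_iff ((e (Submonoid.powers g)).restrictScalars R)).1 hfl⟩

end Groth.Agent.S1238
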