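import Groth.Statements.S1241
import Groth.Agent.Lib.Dev4.ProjPiece
import Groth.Agent.Lib.Dev4.CoverPieces
import Groth.Agent.Lib.Dev4.PiTensor

set_option autoImplicit false
universe u
open FlatMor

set_option backward.isDefEq.respectTransparency.types false

attribute [local instance] Algebra.TensorProduct.rightAlgebra

namespace Groth.Agent.S1241

open TensorProduct in
/-- Ring form, X = Spec S and S = Spec R affine: let S be a finitely presented R-algebra, N a finitely
presented S-module and p a prime of R such that N_q is flat over R for every prime q of S over p.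
Then there are an étale R-algebra R' with a prime p' over p having the same residue field, and an
étale S-algebra S' with a compatible R'-algebra structure, such that every prime of S over p is the
contraction of a prime of S' and S' ⊗_S N is a projective R'-module. -/
theorem result {R S : Type u} [CommRing R] [CommRing S] [Algebra R S] [Algebra.FinitePresentation R S]
    (N : Type u) [AddCommGroup N] [Module S N] [Module R N] [IsScalarTower R S N] [Module.FinitePresentation S N]
    (p : Ideal R) [p.IsPrime] (hflat : ∀ (q : Ideal S) [q.IsPrime], q.LiesOver p → FlatCA.FlatAt R q N) :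
    ∃ (R' S' : Type u) (_ : CommRing R') (_ : CommRing S') (_ : Algebra R R') (_ : Algebra S S') (_ : Algebra R' S')
      (_ : Algebra R S') (_ : IsScalarTower R R' S') (_ : IsScalarTower R S S')
      (p' : Ideal R') (_ : p'.IsPrime),
      FlatCA.IsEtaleNhd R R' p p' ∧ Algebra.Etale S S' ∧
      (∀ (q : Ideal S) [q.IsPrime], q.LiesOver p → ∃ q' : Ideal S', q'.IsPrime ∧ q'.comap (algebraMap S S') = q) ∧
      Module.Projective R' (RestrictScalars R' S' (S' ⊗[S] N)) := by
  classical
  have h0 : ∀ y : PrimeSpectrum (p.Fiber S), ∃ (Ri Si : Type u) (_ : CommRing Ri) (_ : CommRing Si) (_ : Algebra R Ri)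
      (_ : Algebra S Si) (_ : Algebra Ri Si) (_ : Algebra R Si) (_ : IsScalarTower R Ri Si) (_ : IsScalarTower R S Si)
      (_ : Algebra.Etale S Si)
      (pi : Ideal Ri) (_ : pi.IsPrime) (W : Set (PrimeSpectrum (p.Fiber S))), FlatCA.IsEtaleNhd R Ri p pi ∧ IsOpen W ∧
      y ∈ W ∧ Module.Projective Ri (Si ⊗[S] N) ∧
      ∀ (R'' : Type u) [CommRing R''] [Algebra R R''] [Algebra Ri R''] [IsScalarTower R Ri R'']
        (p'' : Ideal R'') [p''.IsPrime] [p''.LiesOver pi] (_ : FlatCA.IsEtaleNhd R R'' p p''),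
        ∀ y ∈ W, ∃ Q : Ideal (R'' ⊗[Ri] Si), Q.IsPrime ∧ Q.LiesOver p'' ∧
          Q.comap ((Algebra.TensorProduct.includeRight : Si →ₐ[Ri] R'' ⊗[Ri] Si).toRingHom.comp (algebraMap S Si)) =
            y.asIdeal.comap (algebraMap S (p.Fiber S)) := fun y => by
    let q := y.asIdeal.comap (algebraMap S (p.Fiber S))
    haveI hqp : q.LiesOver p := by
      obtain ⟨-, hr⟩ := Dev4.isEmbedding_fiber (B := S) p
      have : PrimeSpectrum.comap (algebraMap S (p.Fiber S)) y ∈ Set.range (PrimeSpectrum.comap (algebraMap S (p.Fiber S))) :=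
        ⟨_, rfl⟩
      rw [hr] at this
      exact ⟨this.symm⟩
    obtain ⟨Ri, Si, _, _, _, _, _, _, _, _, pi, qi, _, _, hR, hS, hqp', hP⟩ :=
      Dev4.exists_projective_piece N p q (hflat q hqp)
    haveI := hS.1
    haveI := hqp'
    obtain ⟨W, hW, hmem, hlift⟩ := Dev4.exists_piece_open (S := S) (S' := Si) p pi hR qi
    obtain ⟨-, hqi, -⟩ := hS
    exact ⟨Ri, Si, inferInstance, inferInstance, inferInstance, inferInstance, inferInstance, inferInstance,
      inferInstance, inferInstance, inferInstance, pi, inferInstance, W, hR, hW, hmem y hqi.over, hP, hlift⟩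
  choose Ry Sy i1 i2 i3 i4 i5 i6 i7 i8 i9 py i10 W hR hW hmem hproj hlift using h0
  obtain ⟨t, ht⟩ := (isCompact_univ (X := PrimeSpectrum (p.Fiber S))).elim_finite_subcover W hW
    fun y _ => Set.mem_iUnion.2 ⟨y, hmem y⟩
  let e : Fin t.card ≃ {y // y ∈ t} := t.equivFin.symm
  obtain ⟨R'', _, _, p'', _, φ, hR'', hφ⟩ :=
    Dev4.exists_refinement p t.card (fun i => Ry (e i).1) (fun i => py (e i).1) fun i => hR (e i).1
  haveI := hR''.1
  have hT : ∀ i : Fin t.card, ∃ (T : Type u) (_ : CommRing T) (_ : Algebra R'' T) (_ : Algebra S T) (_ : Algebra R T)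
      (_ : IsScalarTower R R'' T) (_ : IsScalarTower R S T), Algebra.Etale S T ∧ Module.Projective R'' (T ⊗[S] N) ∧
      ∀ y ∈ W (e i).1, ∃ Q : Ideal T, Q.IsPrime ∧ Q.LiesOver p'' ∧
        Q.comap (algebraMap S T) = y.asIdeal.comap (algebraMap S (p.Fiber S)) := fun i => by
    letI : Algebra (Ry (e i).1) R'' := (φ i).toRingHom.toAlgebra
    haveI : IsScalarTower R (Ry (e i).1) R'' := IsScalarTower.of_algebraMap_eq fun r => ((φ i).commutes r).symm
    haveI : p''.LiesOver (py (e i).1) := ⟨(hφ i).symm⟩
    haveI := (hR (e i).1).1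
    obtain ⟨T, _, _, _, _, _, _, _, _, _, _, _, _, het, hQ⟩ :=
      Dev4.exists_bc_piece (R := R) (S := S) (R' := Ry (e i).1) (S' := Sy (e i).1) R''
    exact ⟨T, inferInstance, inferInstance, inferInstance, inferInstance, inferInstance, inferInstance, het,
      Dev4.projective_bc_piece (R := R) (R' := Ry (e i).1) (S' := Sy (e i).1) N (hproj (e i).1),
      fun y hy => hQ p'' _ (hlift (e i).1 R'' p'' hR'' y hy)⟩
  choose T j1 j2 j3 j4 j5 j6 het hP hQ using hT
  refine ⟨R'', ∀ i, T i, inferInstance, inferInstance, inferInstance, inferInstance, inferInstance, inferInstance,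
    inferInstance, inferInstance, p'', inferInstance, hR'', inferInstance, fun q _ hq => ?_, ?_⟩
  · haveI := hq
    obtain ⟨y, hy⟩ := RG4.exists_fiber_point p q
    obtain ⟨z, hz, hyz⟩ := Set.mem_iUnion₂.1 (ht (Set.mem_univ y))
    obtain ⟨i, rfl⟩ : ∃ i, (e i).1 = z := ⟨e.symm ⟨z, hz⟩, by rw [Equiv.apply_symm_apply]⟩
    obtain ⟨x', hx', hxp, hxq⟩ := hQ i y hyz
    refine ⟨x'.comap (Pi.evalRingHom T i), Ideal.IsPrime.comap _, ?_⟩
    rw [Ideal.comap_comap]
    exact hxq.trans hy
  · obtain ⟨g, hg, -⟩ := Dev4.exists_piTensor (S := S) T N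
    haveI : Module.Projective R'' (∀ i, T i ⊗[S] N) :=
      Module.Projective.of_equiv (DirectSum.linearEquivFunOnFintype R'' (Fin t.card) fun i => T i ⊗[S] N)
    haveI : Module.Projective R'' ((∀ i, T i) ⊗[S] N) :=
      Module.Projective.of_equiv (LinearEquiv.ofBijective (g.restrictScalars R'') hg).symm
    exact Dev4.projective_restrictScalars

end Groth.Agent.S1241
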