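import Groth.Statements.S12417
import Mathlib.AlgebraicGeometry.Morphisms.QuasiSeparated

set_option autoImplicit false
set_option backward.isDefEq.respectTransparency.types false
universe u
open CategoryTheory AlgebraicGeometry
open Props

namespace Groth.Agent.S12417

/-- Let X be a quasi-compact quasi-separated scheme and P a property of opens of X such that (a) P holds
for every affine open, and (b) whenever a quasi-compact open U has a finite affine open covering U =
V_1 ∪ … ∪ V_n with P holding for every intersection V_i ∩ V_j, P holds for U. Then P holds for every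
quasi-compact open of X. -/
theorem result (X : Scheme.{u}) [CompactSpace X] [QuasiSeparatedSpace X]
    (P : X.Opens → Prop) (ha : ∀ U : X.Opens, IsAffineOpen U → P U)
    (hb : ∀ (U : X.Opens) (n : ℕ) (V : Fin n → X.Opens), IsCompact (U : Set X) →
      (∀ i, IsAffineOpen (V i)) → ⨆ i, V i = U → (∀ i j, P (V i ⊓ V j)) → P U)
    (U : X.Opens) (hU : IsCompact (U : Set X)) : P U := by
  have key : ∀ (A W : X.Opens), IsAffineOpen A → W ≤ A → IsCompact (W : Set X) → P W := by
    intro A W hA hWA hW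
    have hB : ∀ x ∈ W, ∃ a : Γ(X, A), X.basicOpen a ≤ W ∧ x ∈ X.basicOpen a := fun x hx => by
      obtain ⟨a, ha, hxa⟩ := hA.exists_basicOpen_le ⟨x, hx⟩ (hWA hx)
      exact ⟨a, ha, hxa⟩
    choose! a haW hxa using hB
    obtain ⟨t, ht⟩ := hW.elim_finite_subcover (fun x : (W : Set X) => (X.basicOpen (a x) : Set X))
      (fun x => (X.basicOpen (a x)).2) (fun x hx => Set.mem_iUnion.2 ⟨⟨x, hx⟩, hxa x hx⟩)
    refine hb W t.card (fun i => X.basicOpen (a (t.equivFin.symm i).1.1)) hW
      (fun i => hA.basicOpen _) (le_antisymm (iSup_le fun i => haW _ (t.equivFin.symm i).1.2)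
        fun x hx => ?_) fun i j => ?_
    · obtain ⟨y, hy, hxy⟩ := Set.mem_iUnion₂.1 (ht hx)
      exact TopologicalSpace.Opens.mem_iSup.2 ⟨t.equivFin ⟨y, hy⟩, by simpa using hxy⟩
    · rw [← Scheme.basicOpen_mul]
      exact ha _ (hA.basicOpen _)
  have hB : ∀ x ∈ U, ∃ A : X.Opens, IsAffineOpen A ∧ x ∈ A ∧ A ≤ U := fun x hx => by
    obtain ⟨A, hA, hxA, hAU⟩ := exists_isAffineOpen_mem_and_subset hx
    exact ⟨A, hA, hxA, hAU⟩
  choose! A hA hxA hAU using hB
  obtain ⟨t, ht⟩ := hU.elim_finite_subcover (fun x : (U : Set X) => (A x : Set X))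
    (fun x => (A x).2) (fun x hx => Set.mem_iUnion.2 ⟨⟨x, hx⟩, hxA x hx⟩)
  refine hb U t.card (fun i => A (t.equivFin.symm i).1.1) hU (fun i => hA _ (t.equivFin.symm i).1.2)
    (le_antisymm (iSup_le fun i => hAU _ (t.equivFin.symm i).1.2) fun x hx => ?_) fun i j => ?_
  · obtain ⟨y, hy, hxy⟩ := Set.mem_iUnion₂.1 (ht hx)
    exact TopologicalSpace.Opens.mem_iSup.2 ⟨t.equivFin ⟨y, hy⟩, by simpa using hxy⟩
  · exact key _ _ (hA _ (t.equivFin.symm i).1.2) inf_le_left
      ((hA _ (t.equivFin.symm i).1.2).isCompact.inter_of_isOpen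
        ((hA _ (t.equivFin.symm j).1.2).isCompact) (A _).2 (A _).2)

end Groth.Agent.S12417
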