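import Groth.Statements.S12418
import Mathlib.RingTheory.Ideal.AssociatedPrime.Finiteness
import Mathlib.RingTheory.Jacobson.Ring
import Mathlib.RingTheory.Artinian.Module
import Mathlib.RingTheory.Artinian.Ring
import Mathlib.RingTheory.Regular.IsSMulRegular
import Mathlib.RingTheory.AdicCompletion.Basic
import Mathlib.RingTheory.IntegralDomain
import Mathlib.RingTheory.FinitePresentation
import Mathlib.RingTheory.Flat.FaithfullyFlat.Basic
import Mathlib.RingTheory.Flat.FaithfullyFlat.Algebra
import Mathlib.RingTheory.IntegralClosure.IntegrallyClosed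
import Mathlib.LinearAlgebra.Matrix.MvPolynomial
import Mathlib.RingTheory.Polynomial.Basic
import Mathlib.RingTheory.Localization.FractionRing
import Mathlib.RingTheory.IntegralClosure.IsIntegral.Basic
import Mathlib.LinearAlgebra.TensorProduct.Tower
import Mathlib.RingTheory.Ideal.Quotient.Operations
import Mathlib.RingTheory.Ideal.Colon
import Mathlib.RingTheory.Support
import Mathlib.RingTheory.Noetherian.OfPrime
import Mathlib.RingTheory.HopkinsLevitzki
import Mathlib.RingTheory.Ideal.AssociatedPrime.Localization
import Mathlib.RingTheory.Flat.FaithfullyFlat.Descent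
import Mathlib.LinearAlgebra.TensorProduct.Quotient
import Mathlib.LinearAlgebra.TensorProduct.RightExactness
import Mathlib.RingTheory.PrincipalIdealDomain
import Mathlib.LinearAlgebra.Matrix.Charpoly.Basic
import Mathlib.RingTheory.Flat.Stability
import Mathlib.RingTheory.Nilpotent.Lemmas
import Mathlib.Algebra.Module.Projective
import Mathlib.RingTheory.LocalRing.ResidueField.Basic
import Mathlib.GroupTheory.OrderOfElement
import Mathlib.Algebra.EuclideanDomain.Int
import Mathlib.RingTheory.Spectrum.Maximal.Basic

set_option autoImplicit false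
universe u
open CAlg

namespace Groth.Agent.S12418
open TensorProduct

/-- Let R be a Noetherian ring and b ∈ R; for x outside the ideal (b) put I_x = ((b) : x), the ideal of
r with r x ∈ (b). If s ∉ (b) and I_s is maximal among the I_x (x ∉ (b)), then I_s is prime. -/
theorem result {R : Type u} [CommRing R] [IsNoetherianRing R]
    (b s : R) (hs : s ∉ Ideal.span {b})
    (hmax : ∀ x : R, x ∉ Ideal.span {b} →
      Submodule.colon (Ideal.span {b}) (Ideal.span {s}) ≤ Submodule.colon (Ideal.span {b}) (Ideal.span {x}) →
      Submodule.colon (Ideal.span {b}) (Ideal.span {x}) = Submodule.colon (Ideal.span {b}) (Ideal.span {s})) :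
    (Submodule.colon (Ideal.span {b}) (Ideal.span ({s} : Set R))).IsPrime := by
  have mc : ∀ x a : R, a ∈ Submodule.colon (Ideal.span {b}) (Ideal.span ({x} : Set R)) ↔ a * x ∈ Ideal.span {b} := by
    intro x a; rw [Submodule.mem_colon]
    refine ⟨fun h => h x (Ideal.mem_span_singleton_self x), fun h p hp => ?_⟩
    obtain ⟨c, rfl⟩ := Ideal.mem_span_singleton'.1 hp
    rw [smul_eq_mul, show a * (c * x) = c * (a * x) by ring]; exact Ideal.mul_mem_left _ _ h
  refine ⟨fun h => hs (by simpa using (mc s 1).1 (h ▸ Submodule.mem_top)), fun {x y} hxy => ?_⟩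
  by_contra! hne
  have hxs : x * s ∉ Ideal.span {b} := fun h => hne.1 ((mc _ _).2 h)
  have := hmax (x * s) hxs (fun a ha => (mc _ _).2 (by
    rw [show a * (x * s) = x * (a * s) by ring]; exact Ideal.mul_mem_left _ _ ((mc _ _).1 ha)))
  exact hne.2 (this ▸ (mc _ _).2 (by rw [show y * (x * s) = x * y * s by ring]; exact (mc _ _).1 hxy))

end Groth.Agent.S12418
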