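import Groth.Statements.S12419
import Groth.Agent.S6352
import Groth.Agent.Lib.FlatH4.LocCrit
import Mathlib

set_option autoImplicit false
universe u
open TensorProduct
open CAlg

namespace Groth.Agent.S12419
open scoped TensorProduct
open CAlg

theorem flat_field {R : Type u} [CommRing R] (I : Ideal R) [I.IsMaximal] (V : Type u)
    [AddCommGroup V] [Module (R ⧸ I) V] : Module.Flat (R ⧸ I) V :=
  letI := Ideal.Quotient.field I
  inferInstance

theorem flat_quot (A B A' : Type u) [CommRing A] [CommRing B] [CommRing A'] [Algebra A B] [Algebra A A']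
    (m : Ideal A) [m.IsMaximal] (J : Ideal A') (hrad : J.comap (algebraMap A A') = m)
    (N : ℕ) (n : ℕ) (hn : n ≠ 0) (hN : (J ^ N).comap (algebraMap A A') ≤ m ^ n)
    [Module.Flat A' (A' ⊗[A] B)] : Module.Flat (A ⧸ m ^ n) ((A ⧸ m ^ n) ⊗[A] B) := by
  let K := (J ^ N).comap (algebraMap A A')
  have hinj : Function.Injective (algebraMap (A ⧸ K) (A' ⧸ J ^ N)) :=
    Ideal.algebraMap_quotient_injective
  let I : Ideal (A ⧸ K) := m.map (Ideal.Quotient.mk K)
  have hI : IsNilpotent I := by
    refine ⟨N, ?_⟩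
    rw [Ideal.zero_eq_bot, ← Ideal.map_pow, Ideal.map_eq_bot_iff_le_ker, Ideal.mk_ker]
    refine le_trans ?_ (Ideal.comap_mono le_rfl)
    rw [← hrad]
    exact Ideal.le_comap_pow _ N
  have hKm : K ≤ m := hN.trans (Ideal.pow_le_self hn)
  have hmax : I.IsMaximal := (Ideal.map_eq_top_or_isMaximal_of_surjective (Ideal.Quotient.mk K)
    Ideal.Quotient.mk_surjective inferInstance).resolve_left fun hI' => by
      have h1 := Ideal.comap_map_of_surjective (Ideal.Quotient.mk K) Ideal.Quotient.mk_surjective m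
      rw [show m.map (Ideal.Quotient.mk K) = ⊤ from hI', Ideal.comap_top, ← RingHom.ker_eq_comap_bot,
        Ideal.mk_ker, sup_eq_left.2 hKm] at h1
      exact Ideal.IsMaximal.ne_top inferInstance h1.symm
  haveI : Module.Flat ((A ⧸ K) ⧸ I) (((A ⧸ K) ⧸ I) ⊗[A ⧸ K] ((A ⧸ K) ⊗[A] B)) := flat_field I _
  haveI : Module.Flat (A' ⧸ J ^ N) ((A' ⧸ J ^ N) ⊗[A ⧸ K] ((A ⧸ K) ⊗[A] B)) :=
    Module.Flat.of_linearEquiv ((TensorProduct.AlgebraTensorModule.cancelBaseChange A (A ⧸ K) (A' ⧸ J ^ N) (A' ⧸ J ^ N) B).trans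
      (TensorProduct.AlgebraTensorModule.cancelBaseChange A A' (A' ⧸ J ^ N) (A' ⧸ J ^ N) B).symm)
  haveI := Groth.Agent.S6352.result (A ⧸ K) (A' ⧸ J ^ N) hinj I hI ((A ⧸ K) ⊗[A] B)
  letI := (Ideal.Quotient.factor hN).toAlgebra
  haveI : IsScalarTower A (A ⧸ K) (A ⧸ m ^ n) := IsScalarTower.of_algebraMap_eq fun x => rfl
  exact Module.Flat.of_linearEquiv
    (TensorProduct.AlgebraTensorModule.cancelBaseChange A (A ⧸ K) (A ⧸ m ^ n) (A ⧸ m ^ n) B).symm

/-- Let A → B be a local homomorphism of Noetherian local rings, m the maximal ideal of A, and φ : A →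
A' a ring homomorphism to a semi-local Noetherian ring A' with Jacobson radical r', such that
φ⁻¹(r') = m and such that every power m^n contains φ⁻¹(r'^N) for some N. Then B is flat over A if
and only if A' ⊗_A B is flat over A'. (Given φ⁻¹(r') = m, the condition on powers says that the
m-adic topology of A is induced by the r'-adic topology of A', equivalently that the induced
homomorphism of adic completions is injective, which is how the published statement phrases this
hypothesis.) -/
theorem result (A B A' : Type u) [CommRing A] [CommRing B]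
    [CommRing A'] [IsNoetherianRing A] [IsLocalRing A] [IsNoetherianRing B] [IsLocalRing B]
    [Algebra A B] [IsLocalHom (algebraMap A B)] [IsNoetherianRing A'] [Finite (MaximalSpectrum A')]
    [Algebra A A']
    (hrad : (Ideal.jacobson (⊥ : Ideal A')).comap (algebraMap A A') = IsLocalRing.maximalIdeal A)
    (htop : ∀ n : ℕ, ∃ N : ℕ,
      ((Ideal.jacobson (⊥ : Ideal A')) ^ N).comap (algebraMap A A') ≤ (IsLocalRing.maximalIdeal A) ^ n) :
    Module.Flat A B ↔ Module.Flat A' (A' ⊗[A] B) := by
  refine ⟨fun h => inferInstance, fun h => ?_⟩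
  refine Groth.Agent.FlatH4.flat_of_forall_flat_quotient_pow (R := A) (S := B) (M := B)
    (IsLocalRing.maximalIdeal A) ?_ fun n hn => ?_
  · rw [IsLocalRing.jacobson_eq_maximalIdeal _ bot_ne_top]
    exact Ideal.map_le_iff_le_comap.2 fun x hx => map_nonunit (algebraMap A B) x hx
  · obtain ⟨N, hN⟩ := htop n
    exact flat_quot A B A' _ _ hrad N n (by omega) hN

end Groth.Agent.S12419
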