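import Groth.Statements.S12420
import Groth.Agent.Lib.Compl.Dim
import Groth.Agent.Lib.CplLocH7.Basic
import Mathlib

set_option autoImplicit false
universe u
open CAlg

namespace Groth.Agent.S12420
open scoped TensorProduct
open IsLocalRing

/-- Chevalley's lemma in a complete Noetherian local ring. -/
theorem chevalley {R : Type u} [CommRing R] [IsNoetherianRing R] [IsLocalRing R]
    [IsAdicComplete (maximalIdeal R) R] (b : ℕ → Ideal R) (hb : Antitone b) (h0 : ⨅ n, b n = ⊥) (j : ℕ) :
    ∃ n, b n ≤ maximalIdeal R ^ j := by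
  set m := maximalIdeal R with hm
  have hstab : ∀ i : ℕ, ∃ N : ℕ, ∀ n, N ≤ n → b n ⊔ m ^ i = b N ⊔ m ^ i := by
    intro i
    haveI : IsArtinianRing (R ⧸ m ^ i) := by
      rw [isArtinianRing_iff_krullDimLE_zero, Ring.krullDimLE_zero_iff]
      intro p hp
      have h1 : m ≤ p.comap (Ideal.Quotient.mk (m ^ i)) :=
        Ideal.IsPrime.le_of_pow_le (n := i) fun y hy => by
          rw [Ideal.mem_comap, Ideal.Quotient.eq_zero_iff_mem.2 hy]; exact p.zero_mem
      have h2 : m = p.comap (Ideal.Quotient.mk (m ^ i)) :=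
        (IsLocalRing.maximalIdeal.isMaximal R).eq_of_le (Ideal.IsPrime.ne_top inferInstance) h1
      have h3 : (p.comap (Ideal.Quotient.mk (m ^ i))).map (Ideal.Quotient.mk (m ^ i)) = p :=
        Ideal.map_comap_of_surjective _ Ideal.Quotient.mk_surjective p
      rw [← h3, ← h2]
      exact Ideal.IsMaximal.map_of_surjective_of_ker_le Ideal.Quotient.mk_surjective
        (by
          rw [Ideal.mk_ker]
          intro y hy
          rw [h2, Ideal.mem_comap, Ideal.Quotient.eq_zero_iff_mem.2 hy]
          exact p.zero_mem)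
    have := IsArtinian.monotone_stabilizes (R := R ⧸ m ^ i) (M := R ⧸ m ^ i)
      ⟨fun n => OrderDual.toDual ((b n).map (Ideal.Quotient.mk (m ^ i))),
        fun n n' h => Ideal.map_mono (hb h)⟩
    obtain ⟨N, hN⟩ := this
    refine ⟨N, fun n hn => ?_⟩
    have h2 : (b N).map (Ideal.Quotient.mk (m ^ i)) = (b n).map (Ideal.Quotient.mk (m ^ i)) :=
      OrderDual.toDual.injective (hN n hn)
    have := congrArg (Ideal.comap (Ideal.Quotient.mk (m ^ i))) h2
    simpa [Ideal.comap_map_of_surjective _ Ideal.Quotient.mk_surjective, ← RingHom.ker_eq_comap_bot] using this.symm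
  choose N hN using hstab
  let S : ℕ → Ideal R := fun i => b (N i) ⊔ m ^ i
  have hS : ∀ i n, S i ≤ b n ⊔ m ^ i := fun i n => by
    rcases le_total (N i) n with h | h
    · exact (hN i n h).ge
    · exact sup_le_sup_right (hb h) _
  refine ⟨N j, fun x hx => ?_⟩
  have hstep : ∀ i, S i ≤ S (i + 1) ⊔ m ^ i := fun i => by
    refine (hS i (N (i + 1))).trans (sup_le ?_ le_sup_right)
    exact le_sup_left.trans le_sup_left
  have key : ∀ i, ∀ y ∈ S (j + i), ∃ z ∈ S (j + (i + 1)), z - y ∈ m ^ (j + i) := fun i y hy => by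
    obtain ⟨z, hz, c, hc, rfl⟩ := Submodule.mem_sup.1 (hstep _ hy)
    exact ⟨z, by rwa [← add_assoc], by simpa using (m ^ (j + i)).neg_mem hc⟩
  choose g hg hg' using key
  let f : (i : ℕ) → {y : R // y ∈ S (j + i)} :=
    Nat.rec ⟨x, Submodule.mem_sup_left hx⟩ (fun i p => ⟨g i p.1 p.2, hg i p.1 p.2⟩)
  have hf : ∀ i, (f (i + 1)).1 - (f i).1 ∈ m ^ (j + i) := fun i => hg' i _ _
  have hfd : ∀ i l, (f (i + l)).1 - (f i).1 ∈ m ^ (j + i) := fun i l => by
    induction l with
    | zero => simp
    | succ l ih =>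
      have h1 : (f (i + l + 1)).1 - (f (i + l)).1 ∈ m ^ (j + i) :=
        Ideal.pow_le_pow_right (by omega) (hf (i + l))
      have h3 := add_mem h1 ih
      rw [sub_add_sub_cancel] at h3
      exact h3
  obtain ⟨L, hL⟩ := IsPrecomplete.prec (I := m) (M := R) inferInstance (f := fun i => (f i).1) (fun {a c} h => by
    rw [smul_eq_mul, Ideal.mul_top, SModEq.sub_mem]
    obtain ⟨l, rfl⟩ := Nat.exists_eq_add_of_le h
    rw [← neg_sub, neg_mem_iff]
    exact Ideal.pow_le_pow_right (by omega) (hfd a l))
  have hL' : ∀ i, (f i).1 - L ∈ m ^ i := fun i => by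
    have := hL i
    rwa [smul_eq_mul, Ideal.mul_top, SModEq.sub_mem] at this
  have hLd : ∀ i, (f i).1 - L ∈ m ^ (j + i) := fun i => by
    have h1 := hL' (i + j)
    rw [add_comm i j] at h1
    have h2 := hfd i j
    rw [add_comm i j] at h2
    simpa using sub_mem h1 h2
  have hLb : ∀ n, L ∈ b n := by
    intro n
    rw [← Ideal.Quotient.eq_zero_iff_mem, ← Submodule.mem_bot R,
      ← Ideal.iInf_pow_smul_eq_bot_of_le_jacobson (M := R ⧸ b n) m (IsLocalRing.maximalIdeal_le_jacobson _),
      Submodule.mem_iInf]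
    intro i
    obtain ⟨p, hp, q, hq, hpq⟩ := Submodule.mem_sup.1 (hS _ n (f i).2)
    have : Ideal.Quotient.mk (b n) L = (q - ((f i).1 - L)) • (1 : R ⧸ b n) := by
      rw [Algebra.smul_def, mul_one, Ideal.Quotient.algebraMap_eq, ← hpq]
      refine Ideal.Quotient.eq.2 ?_
      have : L - (q - (p + q - L)) = p := by ring
      rwa [this]
    rw [this]
    exact Submodule.smul_mem_smul (Ideal.pow_le_pow_right (by omega) (sub_mem hq (hLd i))) Submodule.mem_top
  have hL0 : L = 0 := by
    rw [← Submodule.mem_bot R, ← h0]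
    exact Submodule.mem_iInf _ |>.2 hLb
  have := hLd 0
  rw [hL0, sub_zero] at this
  exact this

/-- Let φ : A → A' be an injective local homomorphism of Noetherian local rings, essentially of finite
type, such that the adic completion of A at its maximal ideal m is an integral domain. Then every
power m^j contains φ⁻¹(m'^n) for some n, m' the maximal ideal of A': the m-adic topology of A is
induced from the m'-adic topology of A'. (Equivalently, the induced homomorphism of completions Â →
Â' is injective, which is how the published statement phrases the conclusion; the inclusion of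
ideals is what its proof establishes.) -/
theorem result (A A' : Type u) [CommRing A]
    [CommRing A'] [IsNoetherianRing A] [IsNoetherianRing A'] [IsLocalRing A] [IsLocalRing A'] [Algebra A A']
    (hinj : Function.Injective (algebraMap A A')) [IsLocalHom (algebraMap A A')] [Algebra.EssFiniteType A A']
    [IsDomain (AdicCompletion (IsLocalRing.maximalIdeal A) A)] (j : ℕ) :
    ∃ n : ℕ, ((IsLocalRing.maximalIdeal A') ^ n).comap (algebraMap A A') ≤ (IsLocalRing.maximalIdeal A) ^ j := by
  haveI := Groth.Agent.Compl.isNoetherianRing_maximalIdeal_adicCompletion A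
  set Ah := AdicCompletion (maximalIdeal A) A
  haveI : Module.FaithfullyFlat A Ah := Groth.Agent.CplLocH7.faithfullyFlat_cpl A
  have hAh : Function.Injective (algebraMap A Ah) := FaithfulSMul.algebraMap_injective A Ah
  haveI : IsDomain A := hAh.isDomain _
  obtain ⟨P, hP, hP0⟩ := Ideal.exists_minimalPrimes_comap_eq (I := (⊥ : Ideal A')) (algebraMap A A') ⊥
    (by
      rw [show (⊥ : Ideal A').comap (algebraMap A A') = ⊥ from (RingHom.ker_eq_bot_iff_eq_zero _).2
        fun x hx => hinj (hx.trans (map_zero _).symm)]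
      rw [Ideal.minimalPrimes_eq_subsingleton_self]; rfl)
  haveI hPp : P.IsPrime := hP.1.1
  let D := A' ⧸ P
  have hAD : Function.Injective (algebraMap A D) := by
    rw [injective_iff_map_eq_zero]
    intro a ha
    have ha' : Ideal.Quotient.mk P (algebraMap A A' a) = 0 := ha
    have : a ∈ P.comap (algebraMap A A') :=
      Ideal.mem_comap.2 (Ideal.Quotient.eq_zero_iff_mem.1 ha')
    rwa [hP0, Ideal.mem_bot] at this
  let K := FractionRing D
  haveI : FaithfulSMul A K := (faithfulSMul_iff_algebraMap_injective A K).2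
    (by rw [IsScalarTower.algebraMap_eq A D K]; exact (IsFractionRing.injective D K).comp hAD)
  letI := FractionRing.liftAlgebra A K
  haveI : Module.Flat A K := Module.Flat.trans A (FractionRing A) K
  let T := Ah ⊗[A] D
  haveI : IsNoetherianRing T := Algebra.EssFiniteType.isNoetherianRing Ah T
  have hnzd : ∀ x : Ah, x ≠ 0 → ∀ t : T, (x ⊗ₜ[A] (1 : D)) * t = 0 → t = 0 := by
    intro x hx t ht
    let ι : T →ₗ[A] Ah ⊗[A] K := LinearMap.lTensor Ah (IsScalarTower.toAlgHom A D K).toLinearMap
    have hι : Function.Injective ι :=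
      Module.Flat.lTensor_preserves_injective_linearMap _ (IsFractionRing.injective D K)
    apply hι
    apply Module.Flat.rTensor_preserves_injective_linearMap (M := K) (LinearMap.mulLeft A x)
      (mul_right_injective₀ hx)
    rw [map_zero, map_zero]
    have h2 := congrArg ι ht
    rw [map_zero] at h2
    rw [← h2]
    clear ht h2
    induction t using TensorProduct.induction_on with
    | zero => simp
    | tmul a d =>
      rw [Algebra.TensorProduct.tmul_mul_tmul, one_mul]
      rfl
    | add s t hs ht => simp only [map_add, mul_add, hs, ht]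
  let π1 : A ⧸ maximalIdeal A →ₐ[A] A' ⧸ maximalIdeal A' :=
    Ideal.Quotient.liftₐ _ ((Ideal.Quotient.mkₐ A (maximalIdeal A')).comp (Algebra.ofId A A')) fun a ha =>
      Ideal.Quotient.eq_zero_iff_mem.2 (map_nonunit (algebraMap A A') a ha)
  let π2 : D →ₐ[A] A' ⧸ maximalIdeal A' := Ideal.Quotient.factorₐ A (IsLocalRing.le_maximalIdeal hPp.ne_top)
  let π : T →ₐ[A] A' ⧸ maximalIdeal A' :=
    Algebra.TensorProduct.lift (π1.comp (AdicCompletion.evalOneₐ (maximalIdeal A))) π2 fun _ _ => Commute.all _ _
  have hπs : Function.Surjective π := fun y => by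
    obtain ⟨y, rfl⟩ := Ideal.Quotient.mk_surjective y
    refine ⟨(1 : Ah) ⊗ₜ[A] Ideal.Quotient.mk P y, ?_⟩
    rw [Algebra.TensorProduct.lift_tmul, map_one, one_mul]
    rfl
  let Q : Ideal T := RingHom.ker π.toRingHom
  haveI : Q.IsMaximal := by
    letI := Ideal.Quotient.field (maximalIdeal A')
    exact RingHom.ker_isMaximal_of_surjective _ hπs
  let b : ℕ → Ideal Ah := fun n => (Q ^ n).comap (Algebra.TensorProduct.includeLeft : Ah →ₐ[A] T).toRingHom
  have hb : Antitone b := fun n n' h => Ideal.comap_mono (Ideal.pow_le_pow_right h)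
  have hb0 : ⨅ n, b n = ⊥ := by
    refine eq_bot_iff.2 fun x hx => ?_
    by_contra hx0
    rw [Submodule.mem_iInf] at hx
    have hx' : (x ⊗ₜ[A] (1 : D) : T) ∈ (⨅ n : ℕ, Q ^ n • ⊤ : Submodule T T) := by
      rw [Submodule.mem_iInf]
      intro n
      rw [smul_eq_mul, Ideal.mul_top]
      exact hx n
    obtain ⟨⟨r, hr⟩, hr'⟩ := (Ideal.mem_iInf_smul_pow_eq_bot_iff Q _).1 hx'
    have h1 : r - 1 = 0 := hnzd x hx0 _ (by
      rw [smul_eq_mul] at hr'
      linear_combination hr')
    exact Ideal.IsPrime.ne_top (Ideal.IsMaximal.isPrime inferInstance)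
      ((Ideal.eq_top_iff_one Q).2 (by rwa [sub_eq_zero.1 h1] at hr))
  haveI : IsAdicComplete (maximalIdeal Ah) Ah := inferInstance
  obtain ⟨n, hn⟩ := chevalley b hb hb0 j
  refine ⟨n, fun a ha => ?_⟩
  have hmap : (maximalIdeal A').map ((Algebra.TensorProduct.includeRight : D →ₐ[A] T).toRingHom.comp
      (Ideal.Quotient.mk P)) ≤ Q := by
    rw [Ideal.map_le_iff_le_comap]
    intro y hy
    show π ((1 : Ah) ⊗ₜ[A] Ideal.Quotient.mk P y) = 0
    rw [Algebra.TensorProduct.lift_tmul, map_one, one_mul]
    exact Ideal.Quotient.eq_zero_iff_mem.2 hy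
  have h2 : algebraMap A Ah a ∈ b n := by
    show (algebraMap A Ah a) ⊗ₜ[A] (1 : D) ∈ Q ^ n
    rw [← Algebra.TensorProduct.includeLeft_apply (S := A), AlgHom.commutes,
      ← (Algebra.TensorProduct.includeRight : D →ₐ[A] T).commutes a]
    have := Ideal.pow_right_mono hmap n
    rw [← Ideal.map_pow] at this
    have h3 := this (Ideal.mem_map_of_mem _ ha)
    exact h3
  have h4 := hn h2
  rw [AdicCompletion.maximalIdeal_eq_map, ← Ideal.map_pow] at h4
  have h5 := (Ideal.comap_map_eq_self_of_faithfullyFlat (B := Ah) ((maximalIdeal A) ^ j))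
  rw [← h5]
  exact h4

end Groth.Agent.S12420
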