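import Groth.Statements.S12422
import Groth.Agent.Lib.OmegaVar13.Basic

set_option autoImplicit false
universe u
open CategoryTheory CategoryTheory.Limits AlgebraicGeometry
open NonsingVar

set_option backward.isDefEq.respectTransparency false
set_option backward.isDefEq.respectTransparency.types false

namespace Groth.Agent.S12422

/-- Let k be an algebraically closed field, X an irreducible scheme which is separated and of finite
type over k, n = dim X, and (Ω, d) a sheaf of relative differentials of X over k, i.e. d : O_X → Ω a
universal k-derivation. Then Ω is locally free of rank n if and only if every local ring of X is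
regular (X is a nonsingular variety over k). -/
theorem result (k : Type u) [Field k] [IsAlgClosed k] (n : ℕ)
    (X : Scheme.{u}) [X.Over (Spec (CommRingCat.of k))] [IrreducibleSpace ↥X]
    [IsSeparated (X ↘ (Spec (CommRingCat.of k)))] [LocallyOfFiniteType (X ↘ (Spec (CommRingCat.of k)))]
    [QuasiCompact (X ↘ (Spec (CommRingCat.of k)))]
    (hn : topologicalKrullDim ↥X = (n : WithBot ℕ∞))
    (Ω : X.Modules) (d : OmegaSh.Der (X ↘ (Spec (CommRingCat.of k))) Ω) (hd : OmegaSh.IsUniversal d) :
    FlatMod.IsFinLocFreeOfRank n Ω ↔ ∀ x : ↥X, IsRegularLocalRing ↑(X.presheaf.stalk x) := by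
  exact Groth.Agent.OmegaVar13.main hd hn

end Groth.Agent.S12422
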