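import Groth.Statements.S12424
import Groth.Agent.Lib.PfaffH28.SingLines

set_option autoImplicit false
universe u
open Cubic

namespace Groth.Agent.S12424

/-- Let k be an algebraically closed field of characteristic zero and S = V_+(f) ⊂ P^3_k a smooth cubic
surface, f a nonzero homogeneous cubic in four variables with the Jacobian condition at every
nonzero zero. For every hyperplane H of P^3_k the scheme-theoretic intersection S ∩ H is reduced;
concretely, for every 4 × 3 matrix A of rank 3 over k (a linear parametrisation of H), the ternary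
cubic obtained from f by substituting X_i ↦ Σ_j A_{ij} Y_j is squarefree. -/
theorem result (k : Type u) [Field k] [IsAlgClosed k] [CharZero k]
    (f : MvPolynomial (Fin 4) k) (hf : f.IsHomogeneous 3) (hf0 : f ≠ 0)
    (hsm : ∀ v : Fin 4 → k, v ≠ 0 → MvPolynomial.eval v f = 0 →
      ∃ i : Fin 4, MvPolynomial.eval v (MvPolynomial.pderiv i f) ≠ 0)
    (A : Matrix (Fin 4) (Fin 3) k) (hA : A.rank = 3) :
    Squarefree (MvPolynomial.aeval (fun i : Fin 4 => ∑ j : Fin 3, MvPolynomial.C (A i j) * MvPolynomial.X j) f) := by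
  classical
  set g : Fin 4 → MvPolynomial (Fin 3) k := fun i => ∑ j, MvPolynomial.C (A i j) * MvPolynomial.X j with hg
  have hev : ∀ (z : Fin 3 → k), MvPolynomial.eval z (MvPolynomial.aeval g f) = MvPolynomial.eval (A.mulVec z) f := by
    intro z
    rw [MvPolynomial.aeval_def, MvPolynomial.eval₂_comp_left (MvPolynomial.eval z),
      show (MvPolynomial.eval z).comp (algebraMap k (MvPolynomial (Fin 3) k)) = RingHom.id k from RingHom.ext fun r => by simp,
      MvPolynomial.eval₂_id]
    congr 2
    funext i
    simp [g, Matrix.mulVec, dotProduct]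
  have hG : (MvPolynomial.aeval g f).IsHomogeneous 3 :=
    hf.aeval g fun i => MvPolynomial.IsHomogeneous.sum _ _ _ fun j _ => (MvPolynomial.isHomogeneous_X k j).C_mul _
  have hinj : Function.Injective A.mulVec := by
    have h1 := LinearMap.finrank_range_add_finrank_ker (Matrix.mulVecLin A)
    rw [Module.finrank_pi, Fintype.card_fin] at h1
    have h2 : Module.finrank k (LinearMap.ker (Matrix.mulVecLin A)) = 0 := by
      have : Module.finrank k (LinearMap.range (Matrix.mulVecLin A)) = 3 := hA
      omega
    exact LinearMap.ker_eq_bot.1 (Submodule.finrank_eq_zero.1 h2)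
  -- a quadratic form in two variables has a zero
  have hroot : ∀ P Q R : k, ∃ X Y : k, (X ≠ 0 ∨ Y ≠ 0) ∧ P * X ^ 2 + Q * (X * Y) + R * Y ^ 2 = 0 := by
    intro P Q R
    obtain ⟨l₁, l₂, m₁, m₂, hq⟩ := PfaffH28.binary_quad P Q R
    by_cases hm : m₁ = 0 ∧ m₂ = 0
    · exact ⟨1, 0, Or.inl one_ne_zero, by rw [hq, hm.1, hm.2]; ring⟩
    · refine ⟨m₂, -m₁, ?_, by rw [hq]; ring⟩
      by_contra hh; push Not at hh; exact hm ⟨neg_eq_zero.1 hh.2, hh.1⟩
  -- the plane section is singular along a double component
  have hsing : ∀ z : Fin 3 → k, z ≠ 0 → (∀ w t, ∃ P : Polynomial k, MvPolynomial.eval (z + t • w) (MvPolynomial.aeval g f) = t ^ 2 * P.eval t ∧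
      ∀ s, MvPolynomial.eval (z + s • w) (MvPolynomial.aeval g f) = s ^ 2 * P.eval s) →
      MvPolynomial.eval (A.mulVec z) f = 0 ∧ ∀ w, CubicH28.T f (A.mulVec z) (A.mulVec z) (A.mulVec w) = 0 := by
    intro z hz h
    have key : ∀ w, MvPolynomial.eval (A.mulVec z) f = 0 ∧ CubicH28.T f (A.mulVec z) (A.mulVec z) (A.mulVec w) = 0 := by
      intro w
      obtain ⟨P, -, hP⟩ := h w 0
      have hp : Polynomial.C (MvPolynomial.eval (A.mulVec z) f)
          + Polynomial.X * Polynomial.C (CubicH28.T f (A.mulVec z) (A.mulVec z) (A.mulVec w) / 2)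
          + Polynomial.X ^ 2 * Polynomial.C (CubicH28.T f (A.mulVec z) (A.mulVec w) (A.mulVec w) / 2)
          + Polynomial.X ^ 3 * Polynomial.C (MvPolynomial.eval (A.mulVec w) f) = Polynomial.X ^ 2 * P :=
        Polynomial.funext fun s => by
          have := hP s
          rw [hev, Matrix.mulVec_add, Matrix.mulVec_smul, CubicH28.eval_line hf] at this
          simp at this ⊢
          linear_combination this
      have c0 := congrArg (fun q : Polynomial k => q.coeff 0) hp
      have c1 := congrArg (fun q : Polynomial k => q.coeff 1) hp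
      simp [Polynomial.coeff_X_pow_mul'] at c0 c1
      exact ⟨c0, c1⟩
    exact ⟨(key 0).1, fun w => (key w).2⟩
  rintro x ⟨y, hy⟩
  by_contra hx
  -- the factor vanishes on a nonzero point where the normal derivative also vanishes
  obtain ⟨n, hn⟩ : ∃ n, n ∉ LinearMap.range (Matrix.mulVecLin A) := by
    by_contra h
    push Not at h
    have : LinearMap.range (Matrix.mulVecLin A) = ⊤ := eq_top_iff.2 fun v _ => h v
    have h3 : Module.finrank k (LinearMap.range (Matrix.mulVecLin A)) = 3 := hA
    rw [this, finrank_top, Module.finrank_pi, Fintype.card_fin] at h3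
    omega
  have hfull : ∀ v : Fin 4 → k, (∀ w, CubicH28.T f v v (A.mulVec w) = 0) → CubicH28.T f v v n = 0 →
      ∀ u, CubicH28.T f v v u = 0 := by
    intro v h1 h2 u
    have hsup : LinearMap.range (Matrix.mulVecLin A) ⊔ Submodule.span k {n} = ⊤ := by
      refine Submodule.eq_top_of_finrank_eq (le_antisymm (Submodule.finrank_le _) ?_)
      have hlt : LinearMap.range (Matrix.mulVecLin A) < LinearMap.range (Matrix.mulVecLin A) ⊔ Submodule.span k {n} :=
        lt_of_le_of_ne le_sup_left fun h => hn (h ▸ Submodule.mem_sup_right (Submodule.mem_span_singleton_self n))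
      have := Submodule.finrank_lt_finrank_of_lt hlt
      rw [show Module.finrank k (LinearMap.range (Matrix.mulVecLin A)) = 3 from hA] at this
      rw [Module.finrank_pi, Fintype.card_fin]
      omega
    obtain ⟨r, hr, s, hs, rfl⟩ := Submodule.mem_sup.1 (hsup ▸ Submodule.mem_top : u ∈ _)
    obtain ⟨w, rfl⟩ := hr
    obtain ⟨c, rfl⟩ := Submodule.mem_span_singleton.1 hs
    rw [CubicH28.T_add₃ hf, CubicH28.T_smul₃ hf, h2, mul_zero, add_zero]
    exact h1 w
  obtain ⟨z, hz, hzG, hzn⟩ : ∃ z : Fin 3 → k, z ≠ 0 ∧
      (∀ w t, ∃ P : Polynomial k, MvPolynomial.eval (z + t • w) (MvPolynomial.aeval g f) = t ^ 2 * P.eval t ∧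
        ∀ s, MvPolynomial.eval (z + s • w) (MvPolynomial.aeval g f) = s ^ 2 * P.eval s) ∧
      CubicH28.T f (A.mulVec z) (A.mulVec z) n = 0 := by
    -- a line of points killed by the factor
    have hline : ∀ z₁ z₂ : Fin 3 → k, LinearIndependent k ![z₁, z₂] →
        ∃ X Y : k, X • z₁ + Y • z₂ ≠ 0 ∧ CubicH28.T f (A.mulVec (X • z₁ + Y • z₂)) (A.mulVec (X • z₁ + Y • z₂)) n = 0 := by
      intro z₁ z₂ hli
      obtain ⟨X, Y, hXY, hq⟩ := hroot (CubicH28.T f (A.mulVec z₁) (A.mulVec z₁) n)
        (2 * CubicH28.T f (A.mulVec z₁) (A.mulVec z₂) n) (CubicH28.T f (A.mulVec z₂) (A.mulVec z₂) n)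
      refine ⟨X, Y, fun h => ?_, ?_⟩
      · have := Fintype.linearIndependent_iff.1 hli ![X, Y] (by simpa [Fin.sum_univ_two] using h)
        rcases hXY with h' | h'
        exacts [h' (this 0), h' (this 1)]
      · simp only [Matrix.mulVec_add, Matrix.mulVec_smul, CubicH28.T_add hf, CubicH28.T_smul hf,
          CubicH28.T_add₂ hf, CubicH28.T_smul₂ hf, CubicH28.T_symm12 f (A.mulVec z₂) (A.mulVec z₁) n]
        linear_combination hq
    have hsq : ∀ z w : Fin 3 → k, MvPolynomial.eval z (MvPolynomial.aeval g f) = 0 → ∀ s : k,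
        MvPolynomial.eval (z + s • w) (MvPolynomial.aeval g f) =
          MvPolynomial.eval (z + s • w) x ^ 2 * MvPolynomial.eval (z + s • w) y := fun z w _ s => by
      rw [hy, map_mul, map_mul]; ring
    by_cases hG0 : MvPolynomial.aeval g f = 0
    · have hli : LinearIndependent k ![(Pi.single 0 1 : Fin 3 → k), Pi.single 1 1] := by
        rw [Fintype.linearIndependent_iff]
        intro c hc
        have e0 := congrFun hc 0
        have e1 := congrFun hc 1
        simp [Fin.sum_univ_two, Pi.single_apply] at e0 e1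
        intro i; fin_cases i <;> assumption
      obtain ⟨X, Y, hne, hT⟩ := hline _ _ hli
      exact ⟨_, hne, fun w t => ⟨0, by rw [hG0]; simp, fun s => by rw [hG0]; simp⟩, hT⟩
    have hx0 : x ≠ 0 := fun h => hG0 (by rw [hy, h, zero_mul, zero_mul])
    have hy0 : y ≠ 0 := fun h => hG0 (by rw [hy, h, mul_zero])
    have hd := congrArg MvPolynomial.totalDegree hy
    rw [hG.totalDegree hG0, MvPolynomial.totalDegree_mul_of_isDomain (mul_ne_zero hx0 hx0) hy0,
      MvPolynomial.totalDegree_mul_of_isDomain hx0 hx0] at hd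
    have hx1 : x.totalDegree = 1 := by
      rcases Nat.eq_zero_or_pos x.totalDegree with h | h
      · exfalso
        rw [MvPolynomial.totalDegree_eq_zero_iff_eq_C] at h
        refine hx (h ▸ (isUnit_iff_ne_zero.2 fun h0 => hx0 ?_).map MvPolynomial.C)
        rw [h, h0, map_zero]
      · omega
    -- x is affine linear
    have hxl : ∀ v, MvPolynomial.eval v x = MvPolynomial.coeff 0 x + ∑ i, MvPolynomial.coeff (Finsupp.single i 1) x * v i := by
      intro v
      have hx' : x = MvPolynomial.C (MvPolynomial.coeff 0 x) + ∑ i, MvPolynomial.C (MvPolynomial.coeff (Finsupp.single i 1) x) * MvPolynomial.X i := by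
        refine MvPolynomial.ext _ _ fun d => ?_
        rw [MvPolynomial.coeff_add, MvPolynomial.coeff_sum, MvPolynomial.coeff_C]
        simp only [MvPolynomial.coeff_C_mul, MvPolynomial.coeff_X']
        by_cases hd1 : (d.sum fun _ e => e) ≤ 1
        · by_cases hd0 : d = 0
          · subst hd0; simp
          · obtain ⟨i, hi⟩ : ∃ i, d = Finsupp.single i 1 := by
              have h1 : (d.sum fun _ e => e) = 1 := le_antisymm hd1 (Nat.one_le_iff_ne_zero.2 fun h => hd0 (Finsupp.ext fun j => by
                by_contra hj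
                have := Finset.single_le_sum (f := fun j => d j) (fun _ _ => Nat.zero_le _) (Finsupp.mem_support_iff.2 hj)
                simp only [Finsupp.sum] at h
                simp at hj; omega))
              exact (Finsupp.sum_eq_one_iff d).1 h1
            subst hi
            rw [if_neg (Ne.symm hd0), Finset.sum_eq_single i]
            · simp
            · intro j _ hj
              rw [if_neg fun h => hj (Finsupp.single_left_injective one_ne_zero h), mul_zero]
            · simp
        · have hd0 : MvPolynomial.coeff d x = 0 := by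
            by_contra hc
            have := MvPolynomial.le_totalDegree (MvPolynomial.mem_support_iff.2 hc)
            omega
          rw [hd0, if_neg (fun h => hd1 (by rw [← h]; simp)), zero_add]
          symm
          refine Finset.sum_eq_zero fun j _ => ?_
          rw [if_neg fun h => hd1 (by rw [← h]; simp), mul_zero]
      conv_lhs => rw [hx']
      simp
    set c0 := MvPolynomial.coeff 0 x
    set l : Fin 3 → k := fun i => MvPolynomial.coeff (Finsupp.single i 1) x
    have hl0 : l ≠ 0 := fun hl => hx (by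
      have hxc : x = MvPolynomial.C c0 := MvPolynomial.funext fun v => by
        rw [hxl, MvPolynomial.eval_C, Finset.sum_eq_zero fun i _ => by rw [show MvPolynomial.coeff _ x = l i from rfl, hl]; simp]
        simp
      rw [hxc, MvPolynomial.totalDegree_C] at hx1
      omega)
    -- no constant term
    have hc0 : c0 = 0 := by
      by_contra hc
      apply hG0
      obtain ⟨i, hi⟩ := Function.ne_iff.1 hl0
      have hvan : ∀ v, (∑ j, l j * v j) ≠ 0 → MvPolynomial.eval v (MvPolynomial.aeval g f) = 0 := by
        intro v hv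
        have h0 : MvPolynomial.eval ((-c0 / ∑ j, l j * v j) • v) (MvPolynomial.aeval g f) = 0 := by
          rw [hy, map_mul, map_mul, hxl]
          have : c0 + ∑ j, l j * ((-c0 / ∑ j, l j * v j) • v) j = 0 := by
            simp only [Pi.smul_apply, smul_eq_mul, mul_left_comm (l _), ← Finset.mul_sum]
            field_simp; ring
          rw [this, zero_mul, zero_mul]
        rw [hev, Matrix.mulVec_smul, PfaffH28.eval_smul_cubic f hf] at h0
        rw [hev]
        exact (mul_eq_zero.1 h0).resolve_left (pow_ne_zero _ (div_ne_zero (neg_ne_zero.2 hc) hv))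
      have : MvPolynomial.aeval g f * (∑ j, MvPolynomial.C (l j) * MvPolynomial.X j) = 0 :=
        MvPolynomial.funext fun v => by
          by_cases hv : (∑ j, l j * v j) = 0
          · simp [hv]
          · rw [map_mul, hvan v hv]; simp
      refine (mul_eq_zero.1 this).resolve_right fun h => hi ?_
      have := congrArg (MvPolynomial.eval (Pi.single i (1 : k))) h
      simpa [Pi.single_apply] using this
    let Φ : (Fin 3 → k) →ₗ[k] k := ∑ i, l i • LinearMap.proj i
    have hΦ : ∀ v, Φ v = ∑ i, l i * v i := fun v => by simp [Φ, LinearMap.sum_apply]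
    have hker : 2 ≤ Module.finrank k (LinearMap.ker Φ) := by
      have h1 := LinearMap.finrank_range_add_finrank_ker Φ
      have h2 := (LinearMap.range Φ).finrank_le
      rw [Module.finrank_pi, Fintype.card_fin] at h1
      rw [Module.finrank_self] at h2
      omega
    obtain ⟨z₁, hz₁, hn₁⟩ : ∃ z ∈ LinearMap.ker Φ, z ≠ 0 :=
      (LinearMap.ker Φ).exists_mem_ne_zero_of_ne_bot (fun h => by rw [h, finrank_bot] at hker; omega)
    obtain ⟨z₂, hz₂, hn₂⟩ : ∃ z ∈ LinearMap.ker Φ, z ∉ Submodule.span k {z₁} := by
      by_contra h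
      push Not at h
      have := Submodule.finrank_mono (show LinearMap.ker Φ ≤ Submodule.span k {z₁} from h)
      rw [finrank_span_singleton hn₁] at this
      omega
    have hli : LinearIndependent k ![z₁, z₂] := by
      rw [LinearIndependent.pair_iff' hn₁]
      intro a ha
      exact hn₂ (Submodule.mem_span_singleton.2 ⟨a, ha⟩)
    obtain ⟨X, Y, hne, hT⟩ := hline _ _ hli
    refine ⟨_, hne, fun w t => ?_, hT⟩
    have hxv : ∀ s : k, MvPolynomial.eval (X • z₁ + Y • z₂ + s • w) x = s * Φ w := fun s => by
      rw [hxl, hc0, zero_add, ← hΦ, map_add, map_add, map_smul, map_smul, map_smul,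
        LinearMap.mem_ker.1 hz₁, LinearMap.mem_ker.1 hz₂]
      simp
    refine ⟨Polynomial.C (Φ w ^ 2) * MvPolynomial.aeval (fun i => Polynomial.C ((X • z₁ + Y • z₂) i) + Polynomial.X * Polynomial.C (w i)) y,
      ?_, fun s => ?_⟩ <;>
    · rw [hy, map_mul, map_mul, hxv, Polynomial.eval_mul, Polynomial.eval_C, PfaffH28.eval_aeval_poly]
      simp only [Polynomial.eval_add, Polynomial.eval_mul, Polynomial.eval_C, Polynomial.eval_X]
      have e : ∀ s : k, (fun i => (X • z₁ + Y • z₂) i + s * w i) = X • z₁ + Y • z₂ + s • w := fun s => rfl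
      rw [e]
      ring
  obtain ⟨h0, hT⟩ := hsing z hz hzG
  have hAz : A.mulVec z ≠ 0 := fun h => hz (hinj (by rw [h, Matrix.mulVec_zero]))
  obtain ⟨i, hi⟩ := hsm _ hAz h0
  have h := CubicH28.pderiv_eq hf (A.mulVec z) (Pi.single i 1)
  rw [hfull _ hT hzn] at h
  simp [Pi.single_apply] at h
  exact hi h

end Groth.Agent.S12424
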