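import Groth.Statements.S12425
import Groth.Agent.Lib.PfaffH28.Tritangent

set_option autoImplicit false
universe u
open Cubic

namespace Groth.Agent.S12425

/-- Let k be an algebraically closed field of characteristic zero, S = V_+(f) ⊂ P^3_k a smooth cubic
surface (f a nonzero homogeneous cubic with the Jacobian condition at every nonzero zero) and L a
line on S, i.e. a 2-dimensional subspace of k^4 on which f vanishes. Then exactly five hyperplanes H
⊇ L have H ∩ S equal to a union of three different lines: the set of 3-dimensional subspaces H of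
k^4 containing L and containing two further lines of S, distinct from each other and from L, has
exactly 5 elements. -/
theorem result (k : Type u) [Field k] [IsAlgClosed k] [CharZero k]
    (f : MvPolynomial (Fin 4) k) (hf : f.IsHomogeneous 3) (hf0 : f ≠ 0)
    (hsm : ∀ v : Fin 4 → k, v ≠ 0 → MvPolynomial.eval v f = 0 →
      ∃ i : Fin 4, MvPolynomial.eval v (MvPolynomial.pderiv i f) ≠ 0)
    (L : Submodule k (Fin 4 → k)) (hL : Module.finrank k ↥L = 2) (hLS : ∀ u ∈ L, MvPolynomial.eval u f = 0) :
    {H : Submodule k (Fin 4 → k) | Module.finrank k ↥H = 3 ∧ L ≤ H ∧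
      ∃ L' L'' : Submodule k (Fin 4 → k), Module.finrank k ↥L' = 2 ∧ Module.finrank k ↥L'' = 2 ∧
        L' ≠ L ∧ L'' ≠ L ∧ L' ≠ L'' ∧ L' ≤ H ∧ L'' ≤ H ∧
        (∀ u ∈ L', MvPolynomial.eval u f = 0) ∧ (∀ u ∈ L'', MvPolynomial.eval u f = 0)}.ncard = 5 := by
  refine PfaffH28.five_planes f hf (fun v hv hsg => ?_) L hL hLS
  obtain ⟨i, hi⟩ := hsm v hv (PfaffH28.Sg.self f hf hsg)
  have h := CubicH28.pderiv_eq hf v (Pi.single i 1)
  rw [hsg] at h
  simp [Pi.single_apply] at h
  exact hi h

end Groth.Agent.S12425
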