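import Groth.Statements.S12427
import Groth.Agent.Lib.CohMop.DualTensor

set_option autoImplicit false
universe u
open CategoryTheory AlgebraicGeometry
open Coherent

namespace Groth.Agent.S12427

/-- Let X be a scheme, L a finite locally free O_X-module with dual L^∨ = Hom_{O_X}(L, O_X), and F, G
arbitrary O_X-modules. Then for every i ≥ 0 the Ext sheaf Ext^i(F ⊗ L, G) is isomorphic to Ext^i(F,
G) ⊗ L^∨. Here Ext^i(M, -) is the i-th right derived functor of the internal Hom functor Hom(M, -),
whose existence, like that of injective resolutions, is an instance hypothesis (always true);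
existence of an isomorphism only, the published statement naming no map. (The published statement is
for ringed spaces and also gives the global Ext isomorphism; this row is for schemes and states the
sheaf isomorphism only.) -/
theorem result (X : Scheme.{u}) (F G L : X.Modules)
    (hL : FlatMod.IsFinLocFree L) (i : ℕ)
    [ModSite.HasSheafHom (O := X.sheaf) F] [ModSite.HasSheafHom (O := X.sheaf) L]
    [ModSite.HasSheafHom (O := X.sheaf) (CohB1.tensorMod F L)]
    [HasInjectiveResolutions (ModSite.Mod X.sheaf)] :
    Nonempty ((ModSite.extSh (O := X.sheaf) (CohB1.tensorMod F L) i).obj G ≅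
      CohB1.tensorMod ((ModSite.extSh (O := X.sheaf) F i).obj G)
        ((ModSite.sheafHom (O := X.sheaf) L).obj (Coh.structureModule X))) := by
  haveI := fun Q : X.Modules => CohMop.additive_ihom Q
  obtain ⟨e⟩ := CohMop.nonempty_ext_tensor hL F G i
  let ψ := CohMop.ihomIso (M2.tensorComm F L)
  let e' : (CohMop.ihom (CohB1.tensorMod F L)).rightDerived i ≅ (CohMop.ihom (CohB1.tensorMod L F)).rightDerived i :=
    { hom := NatTrans.rightDerived ψ.hom i
      inv := NatTrans.rightDerived ψ.inv i
      hom_inv_id := by rw [← NatTrans.rightDerived_comp, Iso.hom_inv_id, NatTrans.rightDerived_id]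
      inv_hom_id := by rw [← NatTrans.rightDerived_comp, Iso.inv_hom_id, NatTrans.rightDerived_id] }
  exact ⟨e'.app G ≪≫ e.symm⟩

end Groth.Agent.S12427
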