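import Groth.Statements.S12428
import Groth.Agent.Lib.InvRing21.Points
-- import your own Groth.Agent.* helpers here

set_option autoImplicit false
universe u
open CategoryTheory MonoidalCategory CartesianMonoidalCategory MonObj GrpObj AlgebraicGeometry
open scoped TensorProduct
open AGF

namespace Groth.Agent.S12428

/-- Let k be an algebraically closed field, G a linear algebraic group over k (an affine smooth group
scheme over k), i : H → G a closed subgroup (smooth closed subgroup scheme), j : G° → G the identity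
component (a connected open subgroup scheme), and K = H ∩ G° the intersection subgroup scheme, with
homomorphisms a : K → H and b : K → G° whose underlying square of schemes is a pullback of i and j.
Then H is observable in G if and only if K is observable in G°. -/
theorem result (k : Type u) [Field k] [IsAlgClosed k]
    (G : Over (Spec (CommRingCat.of k))) [GrpObj G] [IsAffine G.left] [Smooth G.hom]
    (H : Over (Spec (CommRingCat.of k))) [GrpObj H] [Smooth H.hom] (i : H ⟶ G) [IsMonHom i]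
    [IsClosedImmersion i.left]
    (G₀ : Over (Spec (CommRingCat.of k))) [GrpObj G₀] [ConnectedSpace G₀.left] (j : G₀ ⟶ G) [IsMonHom j]
    [IsOpenImmersion j.left]
    (K : Over (Spec (CommRingCat.of k))) [GrpObj K] (a : K ⟶ H) [IsMonHom a] (b : K ⟶ G₀) [IsMonHom b]
    (hK : IsPullback a.left b.left i.left j.left) :
    AGF.IsObservableIn k i ↔ AGF.IsObservableIn k b := by
  classical
  haveI : IsAffine H.left := isAffine_of_isAffineHom i.left
  haveI hjc : IsClosedImmersion j.left := Groth.Agent.InvRing21.isClosedImmersion_of_open_subgroup j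
  haveI : IsAffine G₀.left := isAffine_of_isAffineHom j.left
  haveI : Smooth G₀.hom := by rw [← Over.w j]; infer_instance
  haveI hbc : IsClosedImmersion b.left := MorphismProperty.of_isPullback hK inferInstance
  haveI hao : IsOpenImmersion a.left := MorphismProperty.of_isPullback hK.flip inferInstance
  haveI : IsAffine K.left := isAffine_of_isAffineHom b.left
  haveI : Smooth K.hom := by rw [← Over.w a]; infer_instance
  have hsq : a ≫ i = b ≫ j := Over.OverMorphism.ext hK.w
  have hlift : ∀ (y : VecGrp.pt k k ⟶ G₀) (h : VecGrp.pt k k ⟶ H), h ≫ i = y ≫ j →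
      ∃ κ : VecGrp.pt k k ⟶ K, κ ≫ b = y ∧ κ ≫ a = h := fun y h e => by
    have e' : h.left ≫ i.left = y.left ≫ j.left := congrArg (fun m => m.left) e
    refine ⟨Over.homMk (hK.lift h.left y.left e') ?_, Over.OverMorphism.ext (hK.lift_snd _ _ _),
      Over.OverMorphism.ext (hK.lift_fst _ _ _)⟩
    rw [← Over.w b, ← Category.assoc, hK.lift_snd]
    exact Over.w y
  constructor
  · intro hobs g hg
    obtain ⟨h, hh⟩ := hobs (g ≫ j) fun F hF => by
      rw [Groth.Agent.InvRing21.isRTransInv_iff_val] at hF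
      rw [Groth.Agent.InvRing21.isRTransInv_pt_iff_val]
      intro x
      have hf : AGF.IsRTransInv b ((j ≫ Groth.Agent.InvRing21.lTr x).left.appTop F) := by
        rw [Groth.Agent.InvRing21.isRTransInv_iff_val]
        intro y κ
        rw [Groth.Agent.InvRing21.appTop_val, Groth.Agent.InvRing21.appTop_val, ← Category.assoc, ← Category.assoc,
          Groth.Agent.InvRing21.comp_lTr, Groth.Agent.InvRing21.comp_lTr, MonObj.mul_comp, Category.assoc κ b j,
          ← hsq, ← Category.assoc κ a i, ← _root_.mul_assoc]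
        exact hF _ (κ ≫ a)
      have := (Groth.Agent.InvRing21.isRTransInv_pt_iff_val g _).1 (hg _ hf) 1
      rwa [Groth.Agent.InvRing21.appTop_val, Groth.Agent.InvRing21.appTop_val, ← Category.assoc, ← Category.assoc,
        Groth.Agent.InvRing21.comp_lTr, Groth.Agent.InvRing21.comp_lTr, _root_.one_mul g, MonObj.one_comp,
        _root_.mul_one, Groth.Agent.InvRing21.toPt_pt, Category.id_comp] at this
    obtain ⟨κ, hκ, -⟩ := hlift g h hh
    exact ⟨κ, hκ⟩
  · intro hobs g hg
    let InU : (VecGrp.pt k k ⟶ G) → Prop := fun x => ∃ y, y ≫ j = x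
    have hUmul : ∀ x x', InU x → InU x' → InU (x * x') := fun _ _ ⟨y, hy⟩ ⟨y', hy'⟩ =>
      ⟨y * y', by rw [MonObj.mul_comp, hy, hy']⟩
    have hUinv : ∀ x, InU x → InU x⁻¹ := fun _ ⟨y, hy⟩ => ⟨y⁻¹, by rw [GrpObj.inv_comp, hy]⟩
    obtain ⟨s, hs⟩ := Groth.Agent.InvRing21.exists_finite_cosets j
    let T : Finset (VecGrp.pt k k ⟶ G) := s.filter fun c => ∃ h : VecGrp.pt k k ⟶ H, InU ((h ≫ i) * c⁻¹)
    let Q : Finset (Set (VecGrp.pt k k ⟶ G)) := T.image fun c => {x | InU (x * c⁻¹)}
    have hrep : ∀ q ∈ Q, ∃ h : VecGrp.pt k k ⟶ H, ∀ x, x ∈ q ↔ InU (x * (h ≫ i)⁻¹) := by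
      intro q hq
      obtain ⟨c, hc, rfl⟩ := Finset.mem_image.1 hq
      obtain ⟨h, hh⟩ := (Finset.mem_filter.1 hc).2
      refine ⟨h, fun x => ⟨fun hx => ?_, fun hx => ?_⟩⟩
      · have := hUmul _ _ hx (hUinv _ hh)
        rwa [_root_.mul_inv_rev, _root_.inv_inv, _root_.mul_assoc, inv_mul_cancel_left] at this
      · have := hUmul _ _ hx hh
        rwa [_root_.mul_assoc, inv_mul_cancel_left] at this
    choose rep hrep using hrep
    have hcov : ∀ (x : VecGrp.pt k k ⟶ G) (h : VecGrp.pt k k ⟶ H), InU (x * (h ≫ i)⁻¹) → ∃ q ∈ Q, x ∈ q := by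
      intro x h hx
      obtain ⟨c, hc, hcu⟩ := hs (h ≫ i)⁻¹
      have hhc : InU ((h ≫ i) * c⁻¹) := by
        have := hUinv _ hcu
        rwa [_root_.mul_inv_rev, _root_.inv_inv] at this
      refine ⟨_, Finset.mem_image.2 ⟨c, Finset.mem_filter.2 ⟨hc, h, hhc⟩, rfl⟩, ?_⟩
      have := hUmul _ _ hx hhc
      rwa [_root_.mul_assoc, inv_mul_cancel_left] at this
    obtain ⟨e, he⟩ := Groth.Agent.InvRing21.exists_indicator j hjc.base_closed.isClosed_range
    have key : ∀ f : Γ(G₀.left, ⊤), AGF.IsRTransInv b f → ∃ F, AGF.IsRTransInv i F ∧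
        (∀ (y : VecGrp.pt k k ⟶ G₀) (h : VecGrp.pt k k ⟶ H),
          Groth.Agent.InvRing21.val ((y ≫ j) * (h ≫ i)) F = Groth.Agent.InvRing21.val y f) ∧
        ∀ x, (¬ ∃ h : VecGrp.pt k k ⟶ H, InU (x * (h ≫ i)⁻¹)) → Groth.Agent.InvRing21.val x F = 0 := by
      intro f hf
      rw [Groth.Agent.InvRing21.isRTransInv_iff_val] at hf
      obtain ⟨F', hF'⟩ := (IsClosedImmersion.isAffine_surjective_of_isAffine (f := j.left)).2 f
      let F₀ := e * F'
      let F : Γ(G.left, ⊤) := ∑ q ∈ Q.attach,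
        (Groth.Agent.InvRing21.rTr (rep q.1 q.2 ≫ i)⁻¹).left.appTop F₀
      have h0 : ∀ x, ¬ InU x → Groth.Agent.InvRing21.val x F₀ = 0 := fun x hx => by
        rw [map_mul, (he x).2 hx, zero_mul]
      have h1 : ∀ y : VecGrp.pt k k ⟶ G₀, Groth.Agent.InvRing21.val (y ≫ j) F₀ = Groth.Agent.InvRing21.val y f :=
        fun y => by rw [map_mul, (he _).1 ⟨y, rfl⟩, _root_.one_mul, ← Groth.Agent.InvRing21.appTop_val, hF']
      have hval : ∀ x, Groth.Agent.InvRing21.val x F =
          ∑ q ∈ Q.attach, Groth.Agent.InvRing21.val (x * (rep q.1 q.2 ≫ i)⁻¹) F₀ := fun x => by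
        rw [map_sum]
        exact Finset.sum_congr rfl fun q _ => Groth.Agent.InvRing21.val_rTr _ _ _
      have hz : ∀ x, (¬ ∃ h : VecGrp.pt k k ⟶ H, InU (x * (h ≫ i)⁻¹)) → Groth.Agent.InvRing21.val x F = 0 := by
        intro x hx
        rw [hval]
        exact Finset.sum_eq_zero fun q _ => h0 _ fun hq => hx ⟨_, hq⟩
      have hy : ∀ (y : VecGrp.pt k k ⟶ G₀) (h : VecGrp.pt k k ⟶ H),
          Groth.Agent.InvRing21.val ((y ≫ j) * (h ≫ i)) F = Groth.Agent.InvRing21.val y f := by
        intro y h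
        set x := (y ≫ j) * (h ≫ i) with hxdef
        obtain ⟨q, hq, hxq⟩ := hcov x h ⟨y, by rw [hxdef, mul_inv_cancel_right]⟩
        rw [hval, Finset.sum_eq_single ⟨q, hq⟩]
        · obtain ⟨y', hy'⟩ := (hrep q hq x).1 hxq
          obtain ⟨κ, hκb, -⟩ := hlift (y⁻¹ * y') (h * (rep q hq)⁻¹) (by
            rw [MonObj.mul_comp, MonObj.mul_comp, GrpObj.inv_comp, GrpObj.inv_comp, hy', hxdef]
            group)
          rw [← hy', h1, ← mul_inv_cancel_left y y', ← hκb]
          exact hf y κ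
        · intro q' _ hne
          refine h0 _ fun hq' => hne (Subtype.ext (Set.ext fun z => ?_))
          have hxq' := (hrep q'.1 q'.2 x).2 hq'
          obtain ⟨c, -, hc⟩ := Finset.mem_image.1 q'.2
          obtain ⟨c', -, hc'⟩ := Finset.mem_image.1 hq
          simp only [← hc, ← hc', Set.mem_setOf_eq] at hxq hxq' ⊢
          constructor
          · intro hzq
            have := hUmul _ _ (hUmul _ _ hzq (hUinv _ hxq')) hxq
            simpa [_root_.mul_inv_rev, _root_.mul_assoc] using this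
          · intro hzq
            have := hUmul _ _ (hUmul _ _ hzq (hUinv _ hxq)) hxq'
            simpa [_root_.mul_inv_rev, _root_.mul_assoc] using this
        · exact fun hq' => absurd (Finset.mem_attach _ _) hq'
      refine ⟨F, ?_, hy, hz⟩
      rw [Groth.Agent.InvRing21.isRTransInv_iff_val]
      intro x h
      by_cases hx : ∃ h' : VecGrp.pt k k ⟶ H, InU (x * (h' ≫ i)⁻¹)
      · obtain ⟨h', y, hy'⟩ := hx
        obtain rfl : x = (y ≫ j) * (h' ≫ i) := by rw [hy', inv_mul_cancel_right]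
        rw [_root_.mul_assoc, ← MonObj.mul_comp, hy, hy]
      · rw [hz x hx, hz]
        rintro ⟨h', hh'⟩
        refine hx ⟨h' * h⁻¹, ?_⟩
        rw [MonObj.mul_comp, GrpObj.inv_comp, _root_.mul_inv_rev, _root_.inv_inv, ← _root_.mul_assoc]
        exact hh'
    obtain ⟨E, hE, hEy, hEz⟩ := key 1 (by rw [Groth.Agent.InvRing21.isRTransInv_iff_val]; simp)
    have hE1 : Groth.Agent.InvRing21.val (1 : VecGrp.pt k k ⟶ G) E = 1 := by
      have := hEy 1 1
      rwa [MonObj.one_comp, MonObj.one_comp, _root_.mul_one (1 : VecGrp.pt k k ⟶ G), map_one] at this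
    have hgE := (Groth.Agent.InvRing21.isRTransInv_pt_iff_val g E).1 (hg E hE) 1
    rw [_root_.one_mul g, hE1] at hgE
    obtain ⟨h₀, y₀, hy₀⟩ : ∃ h₀ : VecGrp.pt k k ⟶ H, InU (g * (h₀ ≫ i)⁻¹) := by
      by_contra hno
      rw [hEz g hno] at hgE
      exact zero_ne_one hgE
    obtain ⟨κ, hκ⟩ := hobs y₀ fun f hf => by
      obtain ⟨F, hF, hFy, -⟩ := key f hf
      rw [Groth.Agent.InvRing21.isRTransInv_pt_iff_val]
      intro z
      have := (Groth.Agent.InvRing21.isRTransInv_pt_iff_val g F).1 (hg F hF) (z ≫ j)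
      have e1 := hFy z 1
      rw [MonObj.one_comp, _root_.mul_one] at e1
      rw [e1, show (z ≫ j) * g = ((z * y₀) ≫ j) * (h₀ ≫ i) by
        rw [MonObj.mul_comp, hy₀, _root_.mul_assoc, inv_mul_cancel_right], hFy] at this
      exact this
    refine ⟨(κ ≫ a) * h₀, ?_⟩
    rw [MonObj.mul_comp, Category.assoc, hsq, ← Category.assoc, hκ, hy₀, inv_mul_cancel_right]

end Groth.Agent.S12428
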