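import Groth.Statements.S12429
import Groth.Agent.Lib.Ruled10.Van

set_option autoImplicit false
set_option maxHeartbeats 1000000
set_option linter.style.haveILetI false
set_option backward.isDefEq.respectTransparency false
set_option backward.isDefEq.respectTransparency.types false
universe u
open CategoryTheory CategoryTheory.Limits AlgebraicGeometry
open Surf

namespace Groth.Agent.S12429

/-- Let π : X → C be a ruled surface over an algebraically closed field k: X a surface (integral, of
dimension two, all local rings regular, with a closed immersion into some P^n_k over k), C a curve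
(integral, proper over k, of dimension one, all local rings regular), π a surjective k-morphism
whose fibre over every closed point is isomorphic to P^1_k and which admits a section σ. Let L be an
invertible O_X-module, the sheaf of a divisor D, with D.f = n for every closed fibre f = π⁻¹(y),
written (L·I_f) = −n for the ideal I_f = m_y·O_X of the fibre and the intersection number (L·M) =
χ(O) − χ(L) − χ(M) + χ(L ⊗ M). Then π_*L is a locally free O_C-module of rank n + 1. Moreover π_*O_X
= O_C: for every open U of C the map O_C(U) → O_X(π⁻¹U) is bijective. -/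
theorem result (k : Type u) [Field k] [IsAlgClosed k] (X : Scheme.{u}) [X.Over (Spec (CommRingCat.of k))]
    [IsIntegral X] (hdim : topologicalKrullDim X = 2) (hreg : ∀ x : X, IsRegularLocalRing (X.presheaf.stalk x))
    (hproj : ∃ (n : ℕ) (ι : X ⟶ CohB1.ProjSpace n k), IsClosedImmersion ι ∧ ι ≫ CohB1.ProjSpace.toSpec n k = (X ↘ (Spec (CommRingCat.of k))))
    (C : Scheme.{u}) [C.Over (Spec (CommRingCat.of k))]
    [IsIntegral C] [IsProper (C ↘ (Spec (CommRingCat.of k)))] (hdimC : topologicalKrullDim C = 1)
    (hregC : ∀ x : C, IsRegularLocalRing (C.presheaf.stalk x))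
    (π : X ⟶ C) (hπ : π ≫ (C ↘ (Spec (CommRingCat.of k))) = (X ↘ (Spec (CommRingCat.of k)))) (hsurj : Function.Surjective π)
    (hfib : ∀ y : C, IsClosed ({y} : Set C) → Nonempty (pullback π (C.fromSpecResidueField y) ≅ CohB1.ProjSpace 1 k))
    (σ : C ⟶ X) (hσ : σ ≫ π = 𝟙 C)
    [HasInjectiveResolutions X.Modules] (n : ℕ) (L : X.Modules) (hL : PicF.IsInvertible L)
    (hdeg : ∀ (y : C) (hy : IsClosed ({y} : Set C)), FGA.intNum k X 2 ![L, (ClSub.idealMod ((Scheme.IdealSheafData.vanishingIdeal ⟨{y}, hy⟩).comap π))] (Coh.structureModule X) = -(n : ℤ)) :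
    FlatMod.IsFinLocFreeOfRank (n + 1) ((Coh.push π).obj L) ∧
      ∀ U : C.Opens, Function.Bijective (π.app U).hom := by
  classical
  haveI hXp : IsProper (X ↘ Spec (CommRingCat.of k)) := by
    obtain ⟨N, ι, hι, e⟩ := hproj
    haveI := hι
    rw [← e]
    infer_instance
  haveI : IsNoetherian X := CohFound.isNoetherian_of_isProper (X ↘ Spec (CommRingCat.of k))
  haveI : IsNoetherian C := CohFound.isNoetherian_of_isProper (C ↘ Spec (CommRingCat.of k))
  haveI : LocallyOfFinitePresentation (X ↘ Spec (CommRingCat.of k)) := inferInstance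
  haveI : Smooth (X ↘ Spec (CommRingCat.of k)) :=
    RegSmooth17.smooth_of_regular_of_perfectField (X ↘ Spec (CommRingCat.of k)) hreg
  haveI : IsProper π := Ruled10.isProper_of_over π hπ
  haveI : Flat π := Ruled10.flat_of_surj hdimC hregC π hsurj
  have hF : Ruled10.Fam k X C π := ⟨hdim, hπ, hfib⟩
  exact ⟨Ruled10.isFinLocFreeOfRank_push hF hL hdeg, fun U => Ruled10.bijective_app hF U⟩

end Groth.Agent.S12429
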