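import Groth.Statements.S1243
import Mathlib

set_option autoImplicit false
universe u
open FlatMor

namespace Groth.Agent.S1243

open AlgebraicGeometry CategoryTheory Limits

open AlgebraicGeometry CategoryTheory in
/-- Let S be a quasi-compact and quasi-separated scheme, Y → S separated and of finite type, and X → Y a
morphism such that X has a compactification over S (a quasi-compact open immersion into a scheme
proper over S, compatible with the structure maps). Then X has a compactification over Y: the
morphism X → Y factors as a quasi-compact open immersion followed by a proper morphism. -/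
theorem result {S X Y Xb : Scheme.{u}} [CompactSpace S] [QuasiSeparatedSpace S]
    (g : Y ⟶ S) [IsSeparated g] [LocallyOfFiniteType g] [QuasiCompact g]
    (f : X ⟶ Y) (j : X ⟶ Xb) [IsOpenImmersion j] [QuasiCompact j] (b : Xb ⟶ S) [IsProper b] (hj : j ≫ b = f ≫ g) :
    ∃ (Xb' : Scheme.{u}) (j' : X ⟶ Xb') (b' : Xb' ⟶ Y), IsOpenImmersion j' ∧ QuasiCompact j' ∧ IsProper b' ∧ j' ≫ b' = f := by
  let P := pullback b g
  let l : X ⟶ P := pullback.lift j f hj
  have hl1 : l ≫ pullback.fst b g = j := pullback.lift_fst _ _ _
  have : IsImmersion (l ≫ pullback.fst b g) := by rw [hl1]; infer_instance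
  have : IsImmersion l := IsImmersion.of_comp l (pullback.fst b g)
  have : QuasiCompact (l ≫ pullback.fst b g) := by rw [hl1]; infer_instance
  have : QuasiCompact l := QuasiCompact.of_comp l (pullback.fst b g)
  refine ⟨l.image, l.toImage, l.imageι ≫ pullback.snd b g, inferInstance, ?_, inferInstance, ?_⟩
  · have : QuasiCompact (l.toImage ≫ l.imageι) := by rw [Scheme.Hom.toImage_imageι]; infer_instance
    exact QuasiCompact.of_comp l.toImage l.imageι
  · rw [Scheme.Hom.toImage_imageι_assoc]
    exact pullback.lift_snd _ _ _

end Groth.Agent.S1243
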