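import Groth.Statements.S12430
import Groth.Agent.Lib.Twist.GenLocus
import Groth.Agent.Lib.VB17.Proper
import Groth.Agent.Lib.VB17.Saturate
import Groth.Agent.Lib.VB17.Line
import Groth.Agent.Lib.CurveCoh17.RegPoint
-- import your own Groth.Agent.* helpers here

set_option autoImplicit false
universe u
open CategoryTheory CategoryTheory.Limits AlgebraicGeometry
open Curves Groth.Agent.M1 Groth.Agent.M2 Groth.Agent.CurveCoh17 Groth.Agent.VB17

namespace Groth.Agent.S12430

/-- Let C be a curve over an algebraically closed field k (integral, proper over k, of dimension one,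
all local rings regular) and E a locally free O_C-module of rank 2 which is normalized — H^0(C, E) ≠
0 while H^0(C, E ⊗ M) = 0 for every invertible O_C-module M of negative degree. Then for every
nonzero morphism s : O_C → E the cokernel of s is an invertible O_C-module (so E is an extension of
an invertible module by O_C). -/
theorem result (k : Type u) [Field k] [IsAlgClosed k] (C : Scheme.{u}) [C.Over (Spec (CommRingCat.of k))]
    [IsIntegral C] [IsProper (C ↘ (Spec (CommRingCat.of k)))] (hdimC : topologicalKrullDim C = 1)
    (hregC : ∀ x : C, IsRegularLocalRing (C.presheaf.stalk x))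
    (E : C.Modules) (hE : FlatMod.IsFinLocFreeOfRank 2 E)
    (hE0 : Nontrivial (Coh.HH C E 0))
    (hEneg : ∀ M : C.Modules, PicF.IsInvertible M → Curv2.deg k C M 1 < 0 → Subsingleton (Coh.HH C (CohB1.tensorMod E M) 0))
    (s : Coh.structureModule C ⟶ E) (hs : s ≠ 0) :
    PicF.IsInvertible (cokernel s) := by
  haveI := isNoetherian_of_over (k := k) (X := C)
  have hX : RegCurve k C := ⟨curveLike hdimC, inferInstance,
    fun x => haveI := hregC x; pid_stalk_of_regular hdimC.le x⟩
  have hO : FlatMod.IsFinLocFreeOfRank 1 (Coh.structureModule C) :=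
    (isInvertible_iff_isFinLocFreeOfRank_one _).1 (PicLoc.isInvertible_structureModule C)
  haveI : Mono s := by
    rw [Twist.eq_secHom s]
    refine (mono_iff_stalk _).2 (injective_stalk_secHom hE fun h => hs ?_)
    rw [Twist.eq_secHom s]
    exact unit_hom_ext (by rw [secHom_app_one, h]; rfl)
  have hfree := isFinLocFree_cokernel_factor hX hE hO s fun P j u hj hP _ => by
    rw [deg_structureModule]
    by_contra hlt
    have hPi := (isInvertible_iff_isFinLocFreeOfRank_one P).2 hP
    obtain ⟨P', hP', ⟨e⟩⟩ := exists_inverse hPi
    refine not_subsingleton_iff_nontrivial.2 (nontrivial_of_mono hPi hP' e j) (hEneg P' hP' ?_)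
    rw [hX.like.deg_of_tensor_iso hPi hP' e]
    omega
  obtain ⟨n, hn⟩ := exists_rank_of_isFinLocFree hfree
  have hsS : (ShortComplex.mk s (cokernel.π s) (cokernel.condition s)).ShortExact :=
    { exact := ShortComplex.exact_of_g_is_cokernel _ (cokernelIsCokernel s) }
  obtain rfl : n = 1 := by
    have := rank_add hsS hO hE hn
    omega
  exact (isInvertible_iff_isFinLocFreeOfRank_one _).2 hn


end Groth.Agent.S12430
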