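import Groth.Statements.S12431
import Groth.Agent.Lib.VB17.Proper
import Groth.Agent.Lib.VB17.Line
import Groth.Agent.Lib.VB17.Simple
import Groth.Agent.Lib.VB17.TwistBound
import Groth.Agent.Lib.ProjDual12.RangeDuality
import Groth.Agent.Lib.AutCard17.Curve
import Groth.Agent.Lib.CohMop.Bidual
-- import your own Groth.Agent.* helpers here

set_option autoImplicit false
universe u
open CategoryTheory CategoryTheory.Limits AlgebraicGeometry
open Curves

namespace Groth.Agent.S12431

open Abelian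

/-- Non-split extensions of `O` by `O` have isomorphic middle terms when `dim Ext¹(O, O) = 1`. -/
theorem nonempty_iso_of_ext_one {C : Type*} [Category C] [Abelian C] {k : Type*} [Field k] [Linear k C] [HasExt C]
    {O : C} (hdim : Module.finrank k (Ext O O 1) = 1) (hfield : ∀ a : O ⟶ O, a = 0 ∨ IsIso a)
    {E E' : C} (i : O ⟶ E) (g : E ⟶ O) (w : i ≫ g = 0) (hS : (ShortComplex.mk i g w).ShortExact)
    (i' : O ⟶ E') (g' : E' ⟶ O) (w' : i' ≫ g' = 0) (hS' : (ShortComplex.mk i' g' w').ShortExact)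
    (hns : ¬ IsSplitEpi g) (hns' : ¬ IsSplitEpi g') : Nonempty (E ≅ E') := by
  have hne : hS.extClass ≠ 0 := fun h0 => by
    obtain ⟨x, hx⟩ := Ext.covariant_sequence_exact₃ O hS (Ext.mk₀ (𝟙 O)) (n₁ := 1) rfl
      (by rw [Ext.mk₀_id_comp]; exact h0)
    obtain ⟨σ, rfl⟩ := (Ext.mk₀_bijective O E).2 x
    refine hns (IsSplitEpi.mk' ⟨σ, (Ext.mk₀_bijective O O).1 ?_⟩)
    rw [← hx, Ext.mk₀_comp_mk₀]
  obtain ⟨c, hc⟩ := (finrank_eq_one_iff_of_nonzero' hS.extClass hne).1 hdim hS'.extClass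
  have h0 : (Ext.mk₀ g).comp hS'.extClass (zero_add 1) = 0 := by
    rw [← hc]
    exact (Ext.comp_smul _ _ _ c).trans (by rw [hS.comp_extClass]; exact smul_zero c)
  obtain ⟨x, hx⟩ := Ext.covariant_sequence_exact₃ E hS' (Ext.mk₀ g) (n₁ := 1) rfl h0
  obtain ⟨h, rfl⟩ := (Ext.mk₀_bijective E E').2 x
  have hg : h ≫ g' = g := by
    refine (Ext.mk₀_bijective E O).1 ?_
    rw [← hx, Ext.mk₀_comp_mk₀]
  haveI := hS.mono_f
  haveI := hS'.mono_f
  haveI : Epi g := hS.epi_g
  obtain ⟨a, ha⟩ : ∃ a : O ⟶ O, a ≫ i' = i ≫ h := by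
    obtain ⟨a, ha⟩ := KernelFork.IsLimit.lift' hS'.fIsKernel (i ≫ h) (show (i ≫ h) ≫ g' = 0 by rw [Category.assoc, hg, w])
    exact ⟨a, ha⟩
  rcases hfield a with rfl | hiso
  · rw [zero_comp] at ha
    obtain ⟨σ, hσ⟩ := CokernelCofork.IsColimit.desc' hS.gIsCokernel h ha.symm
    have hσ' : g ≫ σ = h := hσ
    exact absurd (IsSplitEpi.mk' ⟨σ, (cancel_epi g).1 (((Category.assoc g σ g').symm.trans (congrArg (fun φ => φ ≫ g') hσ')).trans (hg.trans (Category.comp_id g).symm))⟩) hns'
  · let φ : ShortComplex.mk i g w ⟶ ShortComplex.mk i' g' w' := ShortComplex.homMk a h (𝟙 O) ha (by simpa using hg)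
    haveI : IsIso φ.τ₁ := hiso
    haveI : IsIso φ.τ₃ := inferInstanceAs (IsIso (𝟙 O))
    haveI : IsIso h := ShortComplex.isIso₂_of_shortExact_of_isIso₁₃ φ hS hS'
    exact ⟨asIso h⟩

/-- Uniqueness, e = 0 case: let C be an elliptic curve over an algebraically closed field k — integral,
proper over k, of dimension one, all local rings regular, of genus 1 — and let E and E′ be locally
free O_C-modules of rank 2 which are normalized (H^0(C, E) ≠ 0 while H^0(C, E ⊗ M) = 0 for every
invertible M of negative degree; likewise for E′), indecomposable (not isomorphic to a direct sum of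
two invertible modules) and of degree 0, where deg E = χ(E) − 2χ(O_C). Then E and E′ are isomorphic:
there is exactly one elliptic ruled surface with invariant e = 0 and indecomposable E. -/
theorem result (k : Type u) [Field k] [IsAlgClosed k] (C : Scheme.{u}) [C.Over (Spec (CommRingCat.of k))]
    [IsIntegral C] [IsProper (C ↘ (Spec (CommRingCat.of k)))] (hdimC : topologicalKrullDim C = 1)
    (hregC : ∀ x : C, IsRegularLocalRing (C.presheaf.stalk x)) (hg : Curv2.genus k C = 1)
    (E : C.Modules) (hE : FlatMod.IsFinLocFreeOfRank 2 E)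
    (hE0 : Nontrivial (Coh.HH C E 0))
    (hEneg : ∀ M : C.Modules, PicF.IsInvertible M → Curv2.deg k C M 1 < 0 → Subsingleton (Coh.HH C (CohB1.tensorMod E M) 0))
    (hEind : ∀ L₁ L₂ : C.Modules, PicF.IsInvertible L₁ → PicF.IsInvertible L₂ → IsEmpty (E ≅ L₁ ⊞ L₂))
    (hEdeg : Curv2.deg k C E 2 = 0)
    (E' : C.Modules) (hE' : FlatMod.IsFinLocFreeOfRank 2 E')
    (hE'0 : Nontrivial (Coh.HH C E' 0))
    (hE'neg : ∀ M : C.Modules, PicF.IsInvertible M → Curv2.deg k C M 1 < 0 → Subsingleton (Coh.HH C (CohB1.tensorMod E' M) 0))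
    (hE'ind : ∀ L₁ L₂ : C.Modules, PicF.IsInvertible L₁ → PicF.IsInvertible L₂ → IsEmpty (E' ≅ L₁ ⊞ L₂))
    (hE'deg : Curv2.deg k C E' 2 = 0) :
    Nonempty (E ≅ E') := by
  have hX := VB17.curveLike (k := k) hdimC
  haveI := hX.noetherian
  have hR : VB17.RegCurve k C := ⟨hX, inferInstance, fun x =>
    haveI := hregC x; CurveCoh17.pid_stalk_of_regular hdimC.le x⟩
  have h0 := hX.h0_eq_one
  have hO := PicLoc.isInvertible_structureModule C
  have key : ∀ (F : C.Modules), FlatMod.IsFinLocFreeOfRank 2 F → Nontrivial (Coh.HH C F 0) →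
      (∀ M : C.Modules, PicF.IsInvertible M → Curv2.deg k C M 1 < 0 → Subsingleton (Coh.HH C (CohB1.tensorMod F M) 0)) →
      (∀ L₁ L₂ : C.Modules, PicF.IsInvertible L₁ → PicF.IsInvertible L₂ → IsEmpty (F ≅ L₁ ⊞ L₂)) →
      Curv2.deg k C F 2 = 0 →
      ∃ (i : Coh.structureModule C ⟶ F) (g : F ⟶ Coh.structureModule C) (w : i ≫ g = 0),
        (ShortComplex.mk i g w).ShortExact ∧ ¬ IsSplitEpi g := by
    intro F hF hn0 hneg hind hd
    haveI : FiniteDimensional k (Coh.HH C F 0) := hX.fin F (CurveCoh17.isCoh_of_ofRank hF) 0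
    obtain ⟨i₀, hi₀⟩ := VB17.exists_mono_of_section hF hO hO (Groth.Agent.M2.tensorLUnit _)
      ((CurveCoh17.hequiv k (Groth.Agent.M2.tensorRUnit F) 0).toEquiv.nontrivial)
    haveI := hi₀
    obtain ⟨M, j, hj, hM, hQ, hle, hdeg⟩ := VB17.exists_max_line hR hF hO i₀
    haveI := hj
    rw [CurveCoh17.deg_structureModule] at hle
    have hM0 : Curv2.deg k C M 1 = 0 := by
      by_contra hne
      obtain ⟨L', hL', ⟨e⟩⟩ := Groth.Agent.M2.exists_inverse hM
      haveI := hneg L' hL' (by rw [hX.deg_of_tensor_iso hM hL' e]; omega)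
      exact not_nontrivial_iff_subsingleton.2 this (VB17.nontrivial_of_mono hM hL' e j)
    have hQ0 : Curv2.deg k C (cokernel j) 1 = 0 := by omega
    let S : ShortComplex C.Modules := ShortComplex.mk j (cokernel.π j) (cokernel.condition j)
    have hS : S.ShortExact :=
      { exact := ShortComplex.exact_of_g_is_cokernel _ (cokernelIsCokernel _) }
    have hns : ¬ IsSplitEpi S.g := fun hsp => by
      obtain ⟨⟨σ⟩⟩ := hsp
      exact (hind M (cokernel j) hM hQ).false (ShortComplex.Splitting.ofExactOfSection S hS.exact σ.section_ σ.id hj).isoBinaryBiproduct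
    obtain ⟨eQ⟩ : Nonempty (cokernel j ≅ M) := by
      by_contra hn
      have hb := (VB17.nonsplit_bound hX h0 hS hM hQ hns).2
        (AutCard17.hom_eq_zero hR hQ hM (hQ0.trans hM0.symm) hn)
      change Curv2.deg k C M 1 - Curv2.deg k C (cokernel j) 1 ≤ _ at hb
      omega
    obtain ⟨eM⟩ : Nonempty (M ≅ Coh.structureModule C) := by
      rcases AutCard17.hom_eq_zero_or_isIso hR hO hQ (CurveCoh17.deg_structureModule.trans hQ0.symm)
        (i₀ ≫ cokernel.π j) with h | h
      · let c := hS.exact.lift i₀ h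
        have hc : c ≫ j = i₀ := hS.exact.lift_f i₀ h
        rcases AutCard17.hom_eq_zero_or_isIso hR hO hM (CurveCoh17.deg_structureModule.trans hM0.symm) c with h' | h'
        · exfalso
          have hi : i₀ = 0 := by rw [← hc, h', zero_comp]
          have hz : IsZero (Coh.structureModule C) :=
            (IsZero.iff_id_eq_zero _).2 ((cancel_mono i₀).1 (by rw [hi, comp_zero, comp_zero]))
          haveI : Subsingleton (Coh.structureModule C ⟶ Coh.structureModule C) :=
            ⟨fun a b => hz.eq_of_src a b⟩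
          haveI : Subsingleton (Coh.HH C (Coh.structureModule C) 0) :=
            ((CurveCoh17.hh0 (Coh.structureModule C)).toEquiv.trans (AutCard17.homEquivGamma _).symm).subsingleton
          exact one_ne_zero (h0.symm.trans Module.finrank_zero_of_subsingleton)
        · exact ⟨(@asIso _ _ _ _ c h').symm⟩
      · exact ⟨eQ.symm ≪≫ (@asIso _ _ _ _ (i₀ ≫ cokernel.π j) h).symm⟩
    refine ⟨eM.inv ≫ j, cokernel.π j ≫ (eQ ≪≫ eM).hom, by simp, ?_, fun hsp => hns ?_⟩
    · exact ShortComplex.shortExact_of_iso (ShortComplex.isoMk eM (Iso.refl F) (eQ ≪≫ eM) (by simp [S]) (by simp [S])) hS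
    · obtain ⟨⟨σ⟩⟩ := hsp
      refine IsSplitEpi.mk' ⟨(eQ ≪≫ eM).hom ≫ σ.section_, ?_⟩
      refine (cancel_mono (eQ ≪≫ eM).hom).1 ?_
      simp only [Category.assoc, Category.id_comp]
      exact (congrArg (fun φ => (eQ ≪≫ eM).hom ≫ φ) σ.id).trans (Category.comp_id _)
  obtain ⟨i, g, w, hS, hns⟩ := key E hE hE0 hEneg hEind hEdeg
  obtain ⟨i', g', w', hS', hns'⟩ := key E' hE' hE'0 hE'neg hE'ind hE'deg
  haveI : HasExt.{u} C.Modules := hasExt_of_enoughInjectives _
  have hflf := Groth.Agent.M2.isFinLocFree_of_isInvertible hO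
  obtain ⟨e₁⟩ := ProjDual12.nonempty_ext_linearEquiv_HH (k := k) hflf (Coh.structureModule C) 1
  refine nonempty_iso_of_ext_one (k := k) ?_ (fun a => AutCard17.hom_eq_zero_or_isIso hR hO hO rfl a)
    i g w hS i' g' w' hS' hns hns'
  exact e₁.finrank_eq.trans ((CurveCoh17.hequiv k (CohMop.ihomUnitIso _) 1).finrank_eq.trans hg)

end Groth.Agent.S12431
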