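import Groth.Statements.S12432
-- import your own Groth.Agent.* helpers here
import Groth.Agent.Lib.CurveOm17.CliffordEq
import Groth.Agent.Lib.CurveOm17.AnyField
import Groth.Agent.Lib.Omega12.Universal
import Groth.Agent.Lib.RegSmooth17.Scheme
import Groth.Agent.Lib.CurveOm17.Nondeg
import Groth.Agent.S11331
import Groth.Agent.Lib.CurveOm17.Colength

set_option autoImplicit false
universe u
open CategoryTheory CategoryTheory.Limits AlgebraicGeometry
open Curves

namespace Groth.Agent.S12432

/-- In degree d = 6 the curve is canonical. Take k algebraically closed and suppose X is a curve over k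
(integral, proper over k, one-dimensional, with every local ring regular), equipped with a closed
immersion i : X → P^3_k over k whose image lies in no plane — that is, any nonzero global section of
O(1) on P^3_k pulls back to a nonzero global section of i^*O(1). Assume the hyperplane section is
special, meaning H^1(X, i^*O(1)) ≠ 0, and that deg i^*O(1) = 6. Then i^*O(1) is isomorphic to the
canonical sheaf Ω_{X/k}, and X has genus 4 (so X is a canonical curve of genus 4; the isomorphism is
asserted to exist as O_X-modules). -/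
theorem result (k : Type u) [Field k] [IsAlgClosed k] (X : Scheme.{u}) [X.Over (Spec (CommRingCat.of k))]
    [IsIntegral X] [IsProper (X ↘ (Spec (CommRingCat.of k)))] (hdim : topologicalKrullDim X = 1)
    (hreg : ∀ x : X, IsRegularLocalRing (X.presheaf.stalk x))
    (i : X ⟶ CohB1.ProjSpace 3 k) [IsClosedImmersion i] (hi : i ≫ CohB1.ProjSpace.toSpec 3 k = (X ↘ (Spec (CommRingCat.of k))))
    (hplane : ∀ s : LinSer.Sect (CohB1.ProjSpace 3 k) (Twist.twistProjSpace 3 k 1), s ≠ 0 →
      OmegaSh.pullSect i (Twist.twistProjSpace 3 k 1) ⊤ s ≠ 0)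
    (hspecial : Nontrivial (Coh.HH X ((Scheme.Modules.pullback i).obj (Twist.twistProjSpace 3 k 1)) 1))
    (hdeg : Curv2.deg k X ((Scheme.Modules.pullback i).obj (Twist.twistProjSpace 3 k 1)) 1 = 6) :
    Nonempty (((Scheme.Modules.pullback i).obj (Twist.twistProjSpace 3 k 1)) ≅ Omega.sheaf (X ↘ (Spec (CommRingCat.of k)))) ∧ Curv2.genus k X = 4 := by
  haveI : Smooth (X ↘ Spec (CommRingCat.of k)) :=
    Groth.Agent.RegSmooth17.smooth_of_regular_of_perfectField (X ↘ Spec (CommRingCat.of k)) hreg
  obtain ⟨hX, h0O, hbig⟩ := Groth.Agent.VB17.setup (k := k) (X := X) hdim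
  obtain ⟨-, -, hΩ, -, lam, hW⟩ := Groth.Agent.CurveOm17.exists_isDualizing_omega' hdim h0O
    (Groth.Agent.Omega12.isUniversal_dOmega (f := X ↘ Spec (CommRingCat.of k)))
  obtain ⟨hW0, hW1, hWd⟩ := hW.invariants hX h0O hbig
  haveI := hX.like.noetherian
  set L := (Scheme.Modules.pullback i).obj (Twist.twistProjSpace 3 k 1) with hLdef
  have hL : PicF.IsInvertible L := Groth.Agent.Twist.isInvertible_pullback i (Twist.isInvertible_twistProjSpace 3 k 1)
  have hR := Groth.Agent.CurveCoh17.rkOne_of_invertible hX.like.dim hL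
  haveI := hX.like.fin L hR.coh 0
  haveI := hX.like.fin L hR.coh 1
  have h4 := Groth.Agent.CurveOm17.succ_le_h0_of_nondegenerate k 3 X hdim i hi hplane
  change 3 + 1 ≤ Module.finrank k (Coh.HH X L 0) at h4
  have h := hX.like.clifford hR ((Module.finrank_pos_iff (R := k)).1 (show 0 < Module.finrank k (Coh.HH X L 0) by omega)) hspecial
  rw [h0O, hdeg] at h
  push_cast at h
  have hle := (hW.max L hL hspecial).trans hWd.le
  rw [hdeg] at hle
  by_cases hlt : Curv2.deg k X L 1 < 2 * (Curv2.genus k X : ℤ) - 2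
  · exfalso
    have heq : 2 * (Module.finrank k (Coh.HH X L 0) : ℤ) = Curv2.deg k X L 1 + 2 := by omega
    obtain ⟨N, hN, hd, h2⟩ := Groth.Agent.CurveOm17.exists_g12_of_clifford_eq hdim hW hL heq (by omega) hlt
    obtain ⟨j⟩ := Groth.Agent.CurveOm17.nonempty_iso_pow_of_clifford_eq hdim hW hL heq (by omega) hlt hN hd h2
    rw [show Module.finrank k (Coh.HH X L 0) - 1 = 2 + 1 by omega] at j
    obtain ⟨P, Q, hP, hQ, ⟨e⟩⟩ := Groth.Agent.CurveOm17.exists_two_points hdim hN hd h2
    have hva := (Groth.Agent.S11331.result k X hdim hreg L hL).1 ⟨3, i, ‹_›, hi, ⟨Iso.refl _⟩⟩ P Q hP hQ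
    have h3 := Groth.Agent.CurveOm17.succ_le_h0_pow hdim hW hN h2 2
    rw [(Groth.Agent.CurveCoh17.hequiv k (Groth.Agent.M2.tensorIso j (Iso.refl _) ≪≫ Groth.Agent.M2.tensorAssoc _ _ _ ≪≫
      Groth.Agent.M2.tensorIso (Iso.refl _) e ≪≫ Groth.Agent.M2.tensorRUnit (CohB1.tensorPow N 2)) 0).finrank_eq] at hva
    omega
  · have hd' : Curv2.deg k X L 1 = 2 * (Curv2.genus k X : ℤ) - 2 := by omega
    exact ⟨Groth.Agent.CurveOm17.nonempty_iso_of_deg_eq hX h0O hbig hW hL hd' (by omega), by omega⟩

end Groth.Agent.S12432
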