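import Groth.Statements.S12433
import Groth.Agent.Lib.ProjNoeth9.Main

set_option autoImplicit false
universe u
open CategoryTheory CategoryTheory.Limits AlgebraicGeometry Opposite
attribute [local instance] HasDerivedCategory.standard
open Dual

namespace Groth.Agent.S12433

/-- Let f : X → Y be a morphism of Noetherian schemes of finite Krull dimension (f is then quasi-compact
and quasi-separated), F ∈ D⁻(X) a bounded-above object with arbitrary (not necessarily
quasi-coherent) cohomology, K a bounded-above cochain complex of O_Y-modules whose image in D(O_Y)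
has quasi-coherent cohomology, and M a complex of O_X-modules representing Lf^*K. Assuming the
derived functors involved exist, Rf_*(F) ⊗^L K and Rf_*(F ⊗^L M) are isomorphic in D(O_Y). (Only the
existence of an isomorphism is asserted; the published statement says the canonical projection map
is an isomorphism.) -/
theorem result {X Y : Scheme.{u}} (f : X ⟶ Y)
    [AlgebraicGeometry.IsNoetherian X] [AlgebraicGeometry.IsNoetherian Y]
    (dX dY : ℕ) (hX : topologicalKrullDim X ≤ dX) (hY : topologicalKrullDim Y ≤ dY)
    [QuasiCompact f] [QuasiSeparated f] [DCoh.HasRpush f] [DCoh.HasLpull f]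
    (E : DCoh.D X) (a : ℤ) [E.IsLE a] (K : CochainComplex Y.Modules ℤ) (b : ℤ) [(DCoh.toD Y K).IsLE b]
    (hK : DCoh.IsQCohD (DCoh.toD Y K)) [DCoh.HasLTensorCx K]
    (M : CochainComplex X.Modules ℤ) (hM : Nonempty (DCoh.toD X M ≅ (DCoh.Lpull f).obj (DCoh.toD Y K))) [DCoh.HasLTensorCx M] :
    Nonempty ((DCoh.LTensorCx K).obj ((DCoh.Rpush f).obj E) ≅ (DCoh.Rpush f).obj ((DCoh.LTensorCx M).obj E)) := by
  exact ProjNoeth9.nonempty_projection f hX E K hK M hM

end Groth.Agent.S12433
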