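import Groth.Statements.S12481
import Groth.Agent.Lib.AmpleFib.PnVA
import Groth.Agent.Lib.VeryAmple11.Locality

set_option autoImplicit false
universe u
open CategoryTheory CategoryTheory.Limits AlgebraicGeometry TopologicalSpace Opposite
open scoped HomogeneousIdeal
open Mor

namespace Groth.Agent.S12481

/-- (2) ⇒ (1): let f : X ⟶ S be of finite type, L an invertible O_X-module and (V_j) an open covering of
S such that for each j the restriction of L to f⁻¹(V_j) is isomorphic to the inverse image of O(1)
along some immersion of f⁻¹(V_j) into a projective space P^{n_j}_{V_j} over V_j. Then L is very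
ample relative to f: there are a quasi-coherent O_S-module E and an S-immersion i of X into the
projective bundle P(E) with L isomorphic to i^*O_{P(E)}(1). (The converse implication of the
published statement is stated separately.) -/
theorem result {X S : Scheme.{u}} (f : X ⟶ S)
    [LocallyOfFiniteType f] [QuasiCompact f] (L : X.Modules) (hLinv : PicF.IsInvertible L)
    {ι : Type u} (V : ι → S.Opens) (hV : (⨆ j, V j) = ⊤)
    (h : ∀ j, RelAmple.IsRelVeryAmplePn (f ∣_ V j) (L.restrict (f ⁻¹ᵁ V j).ι)) :
    RelProj.IsRelVeryAmple f L := by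
  let T := Σ j, {W : (V j : Scheme.{u}).Opens // IsAffineOpen W}
  let U : T → S.Opens := fun t => (V t.1).ι ''ᵁ t.2.1
  refine VA11.isRelVeryAmple_of_cover hLinv U ?_ fun t => ?_
  · exact top_le_iff.1 fun x _ => by
      obtain ⟨j, hx⟩ := TopologicalSpace.Opens.mem_iSup.1 (hV.ge (TopologicalSpace.Opens.mem_top x))
      obtain ⟨W, hW, hxW, -⟩ := exists_isAffineOpen_mem_and_subset
        (x := (show ↥((V j).toScheme) from ⟨x, hx⟩)) (U := ⊤) trivial
      exact TopologicalSpace.Opens.mem_iSup.2 ⟨⟨j, W, hW⟩, ⟨⟨x, hx⟩, hxW, rfl⟩⟩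
  · obtain ⟨j, W, hW⟩ := t
    have hle : (V j).ι ''ᵁ W ≤ V j := (V j).ι_image_le W
    haveI : IsAffine ((V j).ι ''ᵁ W : S.Opens).toScheme := hW.image_of_isOpenImmersion _
    have w : X.homOfLE (f.preimage_mono hle) ≫ (f ∣_ V j) = (f ∣_ (V j).ι ''ᵁ W) ≫ S.homOfLE hle := by
      rw [← cancel_mono (V j).ι]; simp
    exact VA11.isRelVeryAmple_of_iso ((Scheme.Modules.restrictFunctorIsoPullback _).app _ ≪≫
      (Scheme.Modules.pullback _).mapIso ((Scheme.Modules.restrictFunctorIsoPullback _).app L) ≪≫
      (Scheme.Modules.pullbackComp _ _).app L ≪≫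
      eqToIso (congrArg (fun g => (Scheme.Modules.pullback g).obj L) (X.homOfLE_ι _)) ≪≫
      ((Scheme.Modules.restrictFunctorIsoPullback _).app L).symm)
      (AmpleFib.isRelVeryAmple_of_pn _ (M2.isInvertible_restrict (M2.isInvertible_restrict hLinv _) _)
        (AmpleFib.isRelVeryAmplePn_baseChange w (h j)))

end Groth.Agent.S12481
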