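import Groth.Statements.S12435
import Groth.Agent.Lib.VADesc9.Main
import Groth.Agent.S12481
import Groth.Agent.S9719
import Groth.Agent.Lib.Twist.Pullback
-- import your own Groth.Agent.* helpers here

set_option autoImplicit false
universe u
open CategoryTheory CategoryTheory.Limits AlgebraicGeometry
open Desc

namespace Groth.Agent.S12435

/-- Let f : X → Y be a morphism of finite type, g : Y′ → Y faithfully flat and quasi-compact, X′ = X ×_Y
Y′ with projections f′ : X′ → Y′ and g′ : X′ → X, and L an invertible O_X-module (locally isomorphic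
to O_X). Then L is very ample for f — every point of Y has an open neighbourhood U with an immersion
of f⁻¹(U) into some P^n_U over U under which O(1) pulls back to L — if and only if g′^*L is very
ample for f′ in the same sense. (The published statement has X, Y over a base S and base change
along a faithfully flat quasi-compact S′ → S; the case S = Y stated here is equivalent.) -/
theorem result {X Y Y' : Scheme.{u}} (f : X ⟶ Y)
    [LocallyOfFiniteType f] [QuasiCompact f] (g : Y' ⟶ Y) [Surjective g] [Flat g] [QuasiCompact g]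
    (L : X.Modules) (hL : PicF.IsInvertible L) :
    (∀ y : Y, ∃ U : Y.Opens, y ∈ U ∧ RelAmple.IsRelVeryAmplePn (f ∣_ U) (L.restrict (f ⁻¹ᵁ U).ι)) ↔
      ∀ y' : Y', ∃ U' : Y'.Opens, y' ∈ U' ∧
        RelAmple.IsRelVeryAmplePn (pullback.snd f g ∣_ U')
          (((Scheme.Modules.pullback (pullback.fst f g)).obj L).restrict (pullback.snd f g ⁻¹ᵁ U').ι) := by
  have hL' : PicF.IsInvertible ((Scheme.Modules.pullback (pullback.fst f g)).obj L) :=
    Groth.Agent.Twist.isInvertible_pullback _ hL
  haveI : LocallyOfFiniteType (pullback.snd f g) := inferInstance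
  haveI : QuasiCompact (pullback.snd f g) := inferInstance
  constructor
  · intro h y'
    choose U hyU hU using h
    have hva := Groth.Agent.S12481.result f L hL U
      (top_le_iff.1 fun y _ => TopologicalSpace.Opens.mem_iSup.2 ⟨y, hyU y⟩) hU
    obtain ⟨ι, V, hV, hVa⟩ := Groth.Agent.S9719.result (pullback.snd f g) _ hL'
      (Groth.Agent.VA11.isRelVeryAmple_baseChange (IsPullback.of_hasPullback f g) hL hva)
    obtain ⟨i, hi⟩ := TopologicalSpace.Opens.mem_iSup.1 (hV.ge (TopologicalSpace.Opens.mem_top y'))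
    exact ⟨V i, hi, hVa i⟩
  · intro h y
    choose U' hyU' hU' using h
    have hva' := Groth.Agent.S12481.result (pullback.snd f g) _ hL' U'
      (top_le_iff.1 fun y _ => TopologicalSpace.Opens.mem_iSup.2 ⟨y, hyU' y⟩) hU'
    obtain ⟨U, hU, hyU, -⟩ := exists_isAffineOpen_mem_and_subset (x := y) (U := ⊤) trivial
    refine ⟨U, hyU, ?_⟩
    haveI : IsAffine U.toScheme := hU
    haveI : CompactSpace (g ⁻¹ᵁ U).toScheme := isCompact_iff_compactSpace.1 (g.isCompact_preimage hU.isCompact)
    let 𝒰 := (g ⁻¹ᵁ U).toScheme.affineCover.finiteSubcover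
    haveI : ∀ i, IsAffine (𝒰.X i) := fun i => by dsimp [𝒰]; infer_instance
    haveI : IsAffine (∐ 𝒰.X) := inferInstance
    let π : (∐ 𝒰.X) ⟶ (g ⁻¹ᵁ U).toScheme := Sigma.desc 𝒰.f
    haveI : Flat π := inferInstance
    haveI : Surjective π := ⟨fun z => by
      obtain ⟨i, w, hw⟩ := 𝒰.exists_eq z
      exact ⟨Sigma.ι 𝒰.X i w, by rw [← Scheme.Hom.comp_apply, Sigma.ι_desc]; exact hw⟩⟩
    let e := (∐ 𝒰.X).isoSpec
    let h : Spec (CommRingCat.of Γ(∐ 𝒰.X, ⊤)) ⟶ U.toScheme := e.inv ≫ π ≫ (g ∣_ U)
    haveI : Surjective (g ∣_ U) := IsZariskiLocalAtTarget.restrict ‹Surjective g› U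
    haveI : Flat h := inferInstance
    haveI : Surjective h := inferInstance
    let a : Spec (CommRingCat.of Γ(∐ 𝒰.X, ⊤)) ⟶ Y' := e.inv ≫ π ≫ (g ⁻¹ᵁ U).ι
    have ha : a ≫ g = h ≫ U.ι := by simp [a, h, morphismRestrict_ι]
    let fU := f ∣_ U
    let g0 := pullback.fst fU h
    let q' := pullback.snd fU h
    have sq : IsPullback g0 q' fU h := IsPullback.of_hasPullback fU h
    have sqo : IsPullback (g0 ≫ (f ⁻¹ᵁ U).ι) q' f (a ≫ g) := by
      rw [ha]
      exact sq.paste_horiz (isPullback_morphismRestrict f U).flip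
    let m := pullback.lift (f := f) (g := g) (g0 ≫ (f ⁻¹ᵁ U).ι) (q' ≫ a) (sqo.w.trans (Category.assoc _ _ _).symm)
    have hm : m ≫ pullback.fst f g = g0 ≫ (f ⁻¹ᵁ U).ι := pullback.lift_fst _ _ _
    have sqm : IsPullback m q' (pullback.snd f g) a :=
      IsPullback.of_right (by rw [hm]; exact sqo) (pullback.lift_snd _ _ _) (IsPullback.of_hasPullback f g)
    refine Groth.Agent.VADesc9.isRelVeryAmplePn_of_baseChange fU sq
      (Groth.Agent.M2.isInvertible_restrict hL _) (Groth.Agent.VA11.isRelVeryAmple_of_iso ?_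
        (Groth.Agent.VA11.isRelVeryAmple_baseChange sqm hL' hva'))
    exact (Scheme.Modules.pullbackComp m (pullback.fst f g)).app L ≪≫
      (Scheme.Modules.pullbackCongr hm).app L ≪≫ ((Scheme.Modules.pullbackComp g0 (f ⁻¹ᵁ U).ι).app L).symm ≪≫
      (Scheme.Modules.pullback g0).mapIso ((Scheme.Modules.restrictFunctorIsoPullback (f ⁻¹ᵁ U).ι).app L).symm

end Groth.Agent.S12435
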