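import Groth.Statements.S12436
import Groth.Agent.Lib.NumConn10.Fibre
import Groth.Agent.Lib.ArInter.Deg
import Groth.Agent.Lib.RegSmooth17.Scheme
import Groth.Agent.Lib.CurveCoh17.RegPoint
import Groth.Agent.Lib.CurveCoh17.Point
import Groth.Agent.Lib.SecDiv18.Basic
import Groth.Agent.Lib.SchImage.ReducedKer
import Groth.Agent.Lib.FunFldRH25.CurvePic
import Groth.Agent.Lib.NumPoly18.Nakai

set_option autoImplicit false
set_option maxHeartbeats 1000000
set_option linter.style.haveILetI false
set_option backward.isDefEq.respectTransparency false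
set_option backward.isDefEq.respectTransparency.types false
universe u
open CategoryTheory CategoryTheory.Limits AlgebraicGeometry
open Surf

namespace Groth.Agent.S12436

open TopologicalSpace Opposite
open Groth.Agent Groth.Agent.NumConn10
open Groth.Agent.SymSq10 (sdot)
open Groth.Agent.NumPoly18 (ptIdeal)

noncomputable local instance instLawRuled (Y : Scheme.{u}) : PicGrp.Law Y := M2.law Y

/-- Let π : X → C be a ruled surface over an algebraically closed field k — X a surface (integral, of
dimension two, all local rings regular, with a closed immersion into some P^n_k over k), C a curve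
(integral, proper over k, of dimension one, all local rings regular), π a surjective k-morphism with
every closed fibre isomorphic to P^1_k, σ a section — let C₀ = σ(C) with ideal sheaf ker σ, and let
f = π⁻¹(y) be the fibre over a closed point y, with ideal m_y·O_X. Then C₀.f = 1 and f² = 0; in
terms of the intersection number (L·M) = χ(O) − χ(L) − χ(M) + χ(L ⊗ M) of the ideal sheaves,
(I_{C₀}·I_f) = 1 and (I_f·I_f) = 0. -/
theorem result (k : Type u) [Field k] [IsAlgClosed k] (X : Scheme.{u}) [X.Over (Spec (CommRingCat.of k))]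
    [IsIntegral X] (hdim : topologicalKrullDim X = 2) (hreg : ∀ x : X, IsRegularLocalRing (X.presheaf.stalk x))
    (hproj : ∃ (n : ℕ) (ι : X ⟶ CohB1.ProjSpace n k), IsClosedImmersion ι ∧ ι ≫ CohB1.ProjSpace.toSpec n k = (X ↘ (Spec (CommRingCat.of k))))
    (C : Scheme.{u}) [C.Over (Spec (CommRingCat.of k))]
    [IsIntegral C] [IsProper (C ↘ (Spec (CommRingCat.of k)))] (hdimC : topologicalKrullDim C = 1)
    (hregC : ∀ x : C, IsRegularLocalRing (C.presheaf.stalk x))
    (π : X ⟶ C) (hπ : π ≫ (C ↘ (Spec (CommRingCat.of k))) = (X ↘ (Spec (CommRingCat.of k)))) (hsurj : Function.Surjective π)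
    (hfib : ∀ y : C, IsClosed ({y} : Set C) → Nonempty (pullback π (C.fromSpecResidueField y) ≅ CohB1.ProjSpace 1 k))
    (σ : C ⟶ X) (hσ : σ ≫ π = 𝟙 C)
    [HasInjectiveResolutions X.Modules] (y : C) (hy : IsClosed ({y} : Set C)) :
    FGA.intNum k X 2 ![ClSub.idealMod σ.ker, (ClSub.idealMod ((Scheme.IdealSheafData.vanishingIdeal ⟨{y}, hy⟩).comap π))] (Coh.structureModule X) = 1 ∧
      FGA.intNum k X 2 ![(ClSub.idealMod ((Scheme.IdealSheafData.vanishingIdeal ⟨{y}, hy⟩).comap π)), (ClSub.idealMod ((Scheme.IdealSheafData.vanishingIdeal ⟨{y}, hy⟩).comap π))] (Coh.structureModule X) = 0 := by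
  classical
  haveI hXp : IsProper (X ↘ Spec (CommRingCat.of k)) := by
    obtain ⟨n, ι, hι, e⟩ := hproj
    haveI := hι
    rw [← e]
    infer_instance
  haveI : IsNoetherian X := CohFound.isNoetherian_of_isProper (X ↘ Spec (CommRingCat.of k))
  haveI : IsNoetherian C := CohFound.isNoetherian_of_isProper (C ↘ Spec (CommRingCat.of k))
  haveI : LocallyOfFinitePresentation (X ↘ Spec (CommRingCat.of k)) := inferInstance
  haveI : Smooth (X ↘ Spec (CommRingCat.of k)) :=
    RegSmooth17.smooth_of_regular_of_perfectField (X ↘ Spec (CommRingCat.of k)) hreg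
  haveI : Smooth (C ↘ Spec (CommRingCat.of k)) :=
    RegSmooth17.smooth_of_regular_of_perfectField (C ↘ Spec (CommRingCat.of k)) hregC
  have hd := SurfRR10.dim_eq (k := k) (X := X) hdim
  haveI : Surjective π := ⟨hsurj⟩
  let P := Scheme.IdealSheafData.vanishingIdeal (⟨{y}, hy⟩ : Closeds C)
  have hPi := CurveCoh17.isInvertible_pointIdeal hdimC hregC hy
  have hPc : BlowUp.IsEffCartierIdeal P := SecDiv.isEffCartierIdeal_of_isInvertible P hPi
  have hgen : π (genericPoint X) ∉ (P.support : Set C) := by
    rw [Scheme.IdealSheafData.coe_support_vanishingIdeal]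
    intro h
    obtain ⟨x, hx⟩ := hsurj (genericPoint C)
    have h2 := (genericPoint_specializes x).map π.continuous
    rw [hx] at h2
    exact CurveCoh17.genericPoint_ne_of_isClosed hdimC hy (h2.mem_closed hy h)
  have hFc : BlowUp.IsEffCartierIdeal (P.comap π) := ArInter.isEffCartier_comap π hPc hgen
  obtain ⟨eF⟩ := ArInter.nonempty_pullback_idealMod π hPc hFc
  have hcl : icl hFc = PicGrp.cls _ (Twist.isInvertible_pullback π hPi) := (PicGrp.cls_eq_cls_iff _ _).2 ⟨eF.symm⟩
  have hFF : sdot k (icl hFc) (icl hFc) = 0 := by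
    obtain ⟨s, hs, -, hclF, hsu⟩ := exists_multiset (k := k) hdim (P.comap π) hFc
    nth_rw 1 [hclF hFc]
    rw [SurfRR10.sdot_inv_left (k := k) hdim, SymSq10.sdot_comm,
      Finset.prod_multiset_map_count, Goodman10.sdot_prod (k := k) (SurfRR10.regular (k := k)) hd,
      Finset.sum_eq_zero, neg_zero]
    intro η hη
    rw [SymSq10.sdot_comm, hcl, sdot_pullback_eq_zero (k := k) hdim π hPi (hs η (Multiset.mem_toFinset.1 hη)) y
      (fun x hx => ?_), mul_zero]
    have hm : x ∈ ((P.comap π).support : Set X) := (hsu x).2 ⟨η, Multiset.mem_toFinset.1 hη, hx⟩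
    rw [Scheme.IdealSheafData.support_comap] at hm
    have hm' : π x ∈ (P.support : Set C) := hm
    rw [Scheme.IdealSheafData.coe_support_vanishingIdeal] at hm'
    exact hm'
  -- the section is a curve
  haveI : IsClosedImmersion σ := by
    haveI : IsSeparated π := by
      haveI : IsSeparated (π ≫ (C ↘ Spec (CommRingCat.of k))) := by rw [hπ]; infer_instance
      exact IsSeparated.of_comp π (C ↘ Spec (CommRingCat.of k))
    haveI : IsClosedImmersion (σ ≫ π) := by rw [hσ]; infer_instance
    exact IsClosedImmersion.of_comp σ π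
  let ξ := σ (genericPoint C)
  have hrange : Set.range σ = closure ({ξ} : Set X) := by
    refine Set.Subset.antisymm ?_ (closure_minimal (Set.singleton_subset_iff.2 ⟨_, rfl⟩) σ.isClosedEmbedding.isClosed_range)
    rintro _ ⟨c, rfl⟩
    exact specializes_iff_mem_closure.1 ((genericPoint_specializes c).map σ.continuous)
  have hσker : σ.ker = ptIdeal ξ := by
    rw [SchImage.ker_eq_vanishingIdeal σ]
    congr 1
    refine Closeds.ext ?_
    show closure (Set.range σ) = closure {ξ}
    rw [hrange, closure_closure]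
  have hξ : topologicalKrullDim (closure ({ξ} : Set X)) = 1 := by
    rw [← hrange, ← σ.isClosedEmbedding.isEmbedding.toHomeomorph.isHomeomorph.topologicalKrullDim_eq, hdimC]
  have hσc : BlowUp.IsEffCartierIdeal σ.ker := by rw [hσker]; exact cartier_pt (k := k) hdim hξ
  have hclσ : icl hσc = (ccl (k := k) hdim ξ)⁻¹ := by
    rw [icl_congr hσc (cartier_pt (k := k) hdim hξ) hσker, icl_pt' (k := k) hdim hξ]
  have hdeg : sdot k (ccl (k := k) hdim ξ) (icl hFc) = -1 := by
    have hσk : σ ≫ (X ↘ Spec (CommRingCat.of k)) = C ↘ Spec (CommRingCat.of k) := by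
      rw [← hπ, ← Category.assoc, hσ, Category.id_comp]
    have hfN := Twist.isInvertible_pullback π hPi
    have h1 := Goodman10.cdeg_eq_sdot (k := k) (SurfRR10.regular (k := k)) hd hξ hfN
    obtain ⟨eQ⟩ := NumPoly18.nonempty_quotMod_ker σ
    have hQ : NumPoly18.cdeg k ((Scheme.Modules.pullback π).obj (ClSub.idealMod P)) (ClSub.quotMod σ.ker) =
        NumPoly18.cdeg k ((Scheme.Modules.pullback π).obj (ClSub.idealMod P))
          ((Scheme.Modules.pushforward σ).obj (Coh.structureModule C)) := by
      rw [NumPoly18.cdeg_eq, NumPoly18.cdeg_eq, CurveCoh17.euler_iso (M2.tensorIso eQ (Iso.refl _)),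
        CurveCoh17.euler_iso eQ]
    rw [← hσker, hQ, NumPoly18.cdeg_push σ hσk hfN] at h1
    let i : (Scheme.Modules.pullback σ).obj ((Scheme.Modules.pullback π).obj (ClSub.idealMod P)) ≅ ClSub.idealMod P :=
      (Scheme.Modules.pullbackComp σ π).app (ClSub.idealMod P) ≪≫
        (Scheme.Modules.pullbackCongr hσ).app (ClSub.idealMod P) ≪≫ (Scheme.Modules.pullbackId C).app (ClSub.idealMod P)
    rw [CurveCoh17.deg_iso i, FunFldRH25.deg_pointIdeal (CurveAmple18.curveLike k C hdimC.le) hy,
      CurveCoh17.finrank_residueField hy] at h1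
    rw [hcl, ccl, Goodman10.cl'_eq (k := k) _ _ hξ]
    exact_mod_cast h1.symm
  constructor
  · rw [SymSq10.intNum_eq' hd.le (M2.isInvertible_idealMod _ hσc) (M2.isInvertible_idealMod _ hFc)]
    show sdot k (icl hσc) (icl hFc) = 1
    rw [hclσ, SurfRR10.sdot_inv_left (k := k) hdim, hdeg, neg_neg]
  · rw [SymSq10.intNum_eq' hd.le (M2.isInvertible_idealMod _ hFc) (M2.isInvertible_idealMod _ hFc)]
    exact hFF

end Groth.Agent.S12436
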