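import Groth.Statements.S12437
import Groth.Agent.Lib.Esymm28.Surface

set_option autoImplicit false
universe u
open Cubic

namespace Groth.Agent.S12437

/-- Over an algebraically closed field k of characteristic zero, the closed subscheme V(σ₂, σ₄) of A^5_k
cut out by the elementary symmetric polynomials of degrees 2 and 4 in five variables — the affine
cone over the surface H = V_+(σ₂, σ₄) ⊂ P^4_k — is irreducible: the radical of the ideal (σ₂, σ₄) of
k[X_0, …, X_4] is a prime ideal. -/
theorem result (k : Type u) [Field k] [IsAlgClosed k] [CharZero k] :
    (Ideal.span ({MvPolynomial.esymm (Fin 5) k 2, MvPolynomial.esymm (Fin 5) k 4} :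
      Set (MvPolynomial (Fin 5) k))).radical.IsPrime := by
  exact Groth.Agent.Esymm28.isPrime_radical k

end Groth.Agent.S12437
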