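import Groth.Statements.S12438
import Groth.Agent.Lib.UMod21.General
import Groth.Agent.Lib.GModComod21.Semisimple
-- import your own Groth.Agent.* helpers here

set_option autoImplicit false
universe u
open CategoryTheory MonoidalCategory CartesianMonoidalCategory MonObj GrpObj AlgebraicGeometry
open scoped TensorProduct
open AGF

namespace Groth.Agent.S12438

theorem exists_sum_of_mem_span {k A : Type*} [CommRing k] [CommRing A] [Algebra k A] (P Q : Submodule k A) {f : A}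
    (hf : f ∈ Submodule.span k {z | ∃ a ∈ P, ∃ b ∈ Q, a * b = z}) :
    ∃ L : A →₀ A, (∀ b ∈ L.support, L b ∈ P ∧ b ∈ Q) ∧ f = L.sum fun b a => a * b := by
  classical
  induction hf using Submodule.span_induction with
  | mem z hz =>
    obtain ⟨a, ha, b, hb, rfl⟩ := hz
    refine ⟨Finsupp.single b a, fun b' hb' => ?_, ?_⟩
    · have := Finsupp.support_single_subset hb'
      rw [Finset.mem_singleton] at this
      subst this
      exact ⟨by rw [Finsupp.single_eq_same]; exact ha, hb⟩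
    · rw [Finsupp.sum_single_index (h := fun b a => a * b) (MulZeroClass.zero_mul b)]
  | zero => exact ⟨0, by simp, by simp⟩
  | add p q _ _ hp hq =>
    obtain ⟨L₁, h1, rfl⟩ := hp
    obtain ⟨L₂, h2, rfl⟩ := hq
    refine ⟨L₁ + L₂, fun b hb => ?_, ?_⟩
    · have hmem : ∀ L : A →₀ A, (∀ b ∈ L.support, L b ∈ P ∧ b ∈ Q) → ∀ b, L b ∈ P := fun L hL b => by
        by_cases h : b ∈ L.support
        · exact (hL b h).1
        · rw [Finsupp.notMem_support_iff.1 h]; exact P.zero_mem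
      refine ⟨P.add_mem (hmem L₁ h1 b) (hmem L₂ h2 b), ?_⟩
      rcases Finset.mem_union.1 (Finsupp.support_add hb) with h | h
      · exact (h1 b h).2
      · exact (h2 b h).2
    · rw [Finsupp.sum_add_index' (fun b => MulZeroClass.zero_mul b) (fun b => fun x y => add_mul x y b)]
  | smul s p _ hp =>
    obtain ⟨L, h1, rfl⟩ := hp
    refine ⟨s • L, fun b hb => ⟨?_, (h1 b (Finsupp.support_smul hb)).2⟩, ?_⟩
    · exact P.smul_mem _ (h1 b (Finsupp.support_smul hb)).1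
    · rw [Finsupp.sum_smul_index' (fun b => MulZeroClass.zero_mul b), Finsupp.smul_sum]
      simp only [smul_mul_assoc]

set_option maxHeartbeats 1000000 in
/-- Let k be an algebraically closed field of characteristic zero, G a connected reductive linear
algebraic group over k, B a Borel subgroup with unipotent radical U, T a maximal torus of G inside
B, and ω, ω′ characters of T. Write E(ω) for the space of global functions f on G with f(x·u) = f(x)
for u in U and f(x·t) = ω(t)·f(x) for t in T, and assume E(ω) and E(ω′) are nonzero (equivalently ω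
and ω′ are dominant). Then the multiplication map E(ω) ⊗ E(ω′) → E(ω + ω′) is surjective: every
function in the weight space of the product character ω·ω′ is a finite sum of products a·b with a ∈
E(ω) and b ∈ E(ω′). -/
theorem result (k : Type u) [Field k] [IsAlgClosed k] [CharZero k]
    (G : Over (Spec (CommRingCat.of k))) [GrpObj G] (hG : Red.IsReductiveOver k G)
    (Bo : Over (Spec (CommRingCat.of k))) [GrpObj Bo] (iB : Bo ⟶ G) (hB : Red.IsBorelOver k iB)
    (U : Over (Spec (CommRingCat.of k))) [GrpObj U] (u : U ⟶ Bo) (hU : Par.IsUnipotentRadical u)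
    (T : Over (Spec (CommRingCat.of k))) [GrpObj T] (t : T ⟶ Bo) [IsMonHom t] (hT : AGF.IsMaxTorus (t ≫ iB))
    (ω ω' : T ⟶ Red.Gm (Spec (CommRingCat.of k))) [IsMonHom ω] [IsMonHom ω']
    (hω : ∃ a : Γ(G.left, ⊤), a ≠ 0 ∧ (((G ◁ (u ≫ iB)) ≫ μ[G]).left.appTop a = (fst G U).left.appTop a ∧
        ((G ◁ (t ≫ iB)) ≫ μ[G]).left.appTop a = (fst G T).left.appTop a * (snd G T).left.appTop (Red.gmFn ω)))
    (hω' : ∃ b : Γ(G.left, ⊤), b ≠ 0 ∧ (((G ◁ (u ≫ iB)) ≫ μ[G]).left.appTop b = (fst G U).left.appTop b ∧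
        ((G ◁ (t ≫ iB)) ≫ μ[G]).left.appTop b = (fst G T).left.appTop b * (snd G T).left.appTop (Red.gmFn ω')))
    (f : Γ(G.left, ⊤)) (hf : (((G ◁ (u ≫ iB)) ≫ μ[G]).left.appTop f = (fst G U).left.appTop f ∧
        ((G ◁ (t ≫ iB)) ≫ μ[G]).left.appTop f = (fst G T).left.appTop f * (snd G T).left.appTop (Red.gmFn ω * Red.gmFn ω'))) :
    ∃ s : Finset (Γ(G.left, ⊤) × Γ(G.left, ⊤)),
      (∀ p ∈ s, (((G ◁ (u ≫ iB)) ≫ μ[G]).left.appTop p.1 = (fst G U).left.appTop p.1 ∧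
        ((G ◁ (t ≫ iB)) ≫ μ[G]).left.appTop p.1 = (fst G T).left.appTop p.1 * (snd G T).left.appTop (Red.gmFn ω)) ∧ (((G ◁ (u ≫ iB)) ≫ μ[G]).left.appTop p.2 = (fst G U).left.appTop p.2 ∧
        ((G ◁ (t ≫ iB)) ≫ μ[G]).left.appTop p.2 = (fst G T).left.appTop p.2 * (snd G T).left.appTop (Red.gmFn ω'))) ∧
      f = ∑ p ∈ s, p.1 * p.2 := by
  classical
  letI := InvRing21.gamAlg (k := k) G
  letI := InvRing21.gamAlg (k := k) U
  letI := InvRing21.gamAlg (k := k) T
  haveI := hG.1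
  haveI := hG.2.1
  haveI := hG.2.2.1
  haveI := hB.1
  haveI := hB.2.1
  haveI : IsAffine Bo.left := isAffine_of_isAffineHom iB.left
  obtain ⟨hum, huc, -, hus, -, hucn, hU0, -⟩ := (TorPts21.isUnipotentRadical_iff u).1 hU
  haveI := hum
  haveI := huc
  haveI := hus
  haveI : IsAffine U.left := isAffine_of_isAffineHom u.left
  obtain ⟨hTa, hTs, -, -⟩ := TorPts21.props_of_isTorus hT.2.2.1
  haveI := hTa
  haveI := hTs
  haveI := hT.1
  haveI : Smooth (G ⊗ U).hom := inferInstanceAs (Smooth (Limits.pullback.fst G.hom U.hom ≫ G.hom))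
  haveI : Smooth (G ⊗ T).hom := inferInstanceAs (Smooth (Limits.pullback.fst G.hom T.hom ≫ G.hom))
  obtain ⟨F, hFB, hFT⟩ := UMod21.exists_frame hG hB t hT
  haveI := F.maxT.1
  haveI := F.maxT.2.1
  obtain ⟨hFa, hFs, -, -⟩ := TorPts21.props_of_isTorus F.maxT.2.2.1
  haveI := hFa
  haveI := hFs
  haveI := TorPts21.isClosedImmersion_of_torus F.maxT.2.2.1 F.iT
  have hrad := F.range_radical hB hU hFB
  -- the torus of the frame
  have hTF : ∀ τ : VecGrp.pt k k ⟶ F.T, ∃ τ₀ : VecGrp.pt k k ⟶ T, τ₀ ≫ t ≫ iB = τ ≫ F.iT := fun τ => by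
    obtain ⟨e, he⟩ := TorPts21.exists_lift_of_pts F.iT (t ≫ iB) hFT
    haveI : IsIso e := hT.2.2.2 F.T F.iT e F.maxT.2.2.1 he
    exact ⟨τ ≫ inv e, by rw [← he, Category.assoc, IsIso.inv_hom_id_assoc]⟩
  -- right conditions on points
  have hval : ∀ {X : Over (Spec (CommRingCat.of k))} [IsAffine X.left] (j : X ⟶ G) (q : VecGrp.pt k k ⟶ G ⊗ X)
      (a : Γ(G.left, ⊤)), InvRing21.val q (((G ◁ j) ≫ μ[G]).left.appTop a) =
        InvRing21.val ((q ≫ fst G X) * ((q ≫ snd G X) ≫ j)) a := fun {X} _ j q a => by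
    rw [InvRing21.appTop_val, InvRing21.whisker_mul, MonObj.comp_mul, Category.assoc]
  have hright : ∀ (g : Γ(T.left, ⊤)) (a : Γ(G.left, ⊤)),
      (((G ◁ (u ≫ iB)) ≫ μ[G]).left.appTop a = (fst G U).left.appTop a ∧
        ((G ◁ (t ≫ iB)) ≫ μ[G]).left.appTop a = (fst G T).left.appTop a * (snd G T).left.appTop g) ↔
      (∀ (x : VecGrp.pt k k ⟶ G) (q : VecGrp.pt k k ⟶ U),
        InvRing21.val (x * (q ≫ u ≫ iB)) a = InvRing21.val x a) ∧
      ∀ (x : VecGrp.pt k k ⟶ G) (τ : VecGrp.pt k k ⟶ T),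
        InvRing21.val (x * (τ ≫ t ≫ iB)) a = InvRing21.val x a * InvRing21.val τ g := by
    intro g a
    refine ⟨fun ⟨h1, h2⟩ => ⟨fun x q => ?_, fun x τ => ?_⟩, fun ⟨h1, h2⟩ => ⟨?_, ?_⟩⟩
    · have := congrArg (InvRing21.val (lift x q)) h1
      rwa [hval, InvRing21.appTop_val, lift_fst, lift_snd] at this
    · have := congrArg (InvRing21.val (lift x τ)) h2
      rwa [hval, map_mul, InvRing21.appTop_val, InvRing21.appTop_val, lift_fst, lift_snd] at this
    · refine InvRing21.ext_val fun q => ?_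
      rw [hval, InvRing21.appTop_val]
      exact h1 _ _
    · refine InvRing21.ext_val fun q => ?_
      rw [hval, map_mul, InvRing21.appTop_val, InvRing21.appTop_val]
      exact h2 _ _
  -- inversion
  let J : Γ(G.left, ⊤) →ₐ[k] Γ(G.left, ⊤) := InvRing21.appAlg (k := k) ((𝟙 G)⁻¹ : G ⟶ G)
  have hJ : ∀ (x : VecGrp.pt k k ⟶ G) (a : Γ(G.left, ⊤)), InvRing21.val x (J a) = InvRing21.val x⁻¹ a := fun x a => by
    show InvRing21.val x ((𝟙 G)⁻¹.left.appTop a) = _
    rw [InvRing21.appTop_val, GrpObj.comp_inv, Category.comp_id]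
  have hJJ : ∀ a, J (J a) = a := fun a => InvRing21.ext_val fun x => by rw [hJ, hJ, _root_.inv_inv]
  -- left conditions
  let E : ((VecGrp.pt k k ⟶ T) → k) → Submodule k Γ(G.left, ⊤) := fun c =>
    { carrier := {a | (∀ (x : VecGrp.pt k k ⟶ G) (q : VecGrp.pt k k ⟶ U),
          InvRing21.val ((q ≫ u ≫ iB) * x) a = InvRing21.val x a) ∧
        ∀ (x : VecGrp.pt k k ⟶ G) (τ : VecGrp.pt k k ⟶ T),
          InvRing21.val ((τ ≫ t ≫ iB) * x) a = c τ * InvRing21.val x a}
      zero_mem' := ⟨fun x q => by simp, fun x τ => by simp⟩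
      add_mem' := fun {p q} hp hq => ⟨fun x w => by rw [map_add, map_add, hp.1, hq.1],
        fun x τ => by rw [map_add, map_add, hp.2, hq.2, mul_add]⟩
      smul_mem' := fun s p hp => ⟨fun x w => by rw [map_smul, map_smul, hp.1],
        fun x τ => by rw [map_smul, map_smul, hp.2, smul_eq_mul, smul_eq_mul, mul_left_comm]⟩ }
  have hEJ : ∀ (g : Γ(T.left, ⊤)) (a : Γ(G.left, ⊤)),
      (((G ◁ (u ≫ iB)) ≫ μ[G]).left.appTop a = (fst G U).left.appTop a ∧
        ((G ◁ (t ≫ iB)) ≫ μ[G]).left.appTop a = (fst G T).left.appTop a * (snd G T).left.appTop g) ↔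
      J a ∈ E (fun τ => InvRing21.val τ⁻¹ g) := by
    intro g a
    rw [hright]
    refine ⟨fun ⟨h1, h2⟩ => ⟨fun x q => ?_, fun x τ => ?_⟩, fun ⟨h1, h2⟩ => ⟨fun x q => ?_, fun x τ => ?_⟩⟩
    · rw [hJ, hJ, _root_.mul_inv_rev, ← GrpObj.inv_comp, h1]
    · rw [hJ, hJ, _root_.mul_inv_rev, ← GrpObj.inv_comp, h2, _root_.mul_comm]
    · have := h1 x⁻¹ q⁻¹
      rwa [hJ, hJ, _root_.mul_inv_rev, _root_.inv_inv, GrpObj.inv_comp, _root_.inv_inv] at this
    · have := h2 x⁻¹ τ⁻¹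
      rw [hJ, hJ, _root_.mul_inv_rev, _root_.inv_inv, GrpObj.inv_comp, _root_.inv_inv] at this
      exact this.trans (by simp only [_root_.inv_inv]; exact _root_.mul_comm _ _)
  set c : (VecGrp.pt k k ⟶ T) → k := fun τ => InvRing21.val τ⁻¹ (Red.gmFn ω)
  set c' : (VecGrp.pt k k ⟶ T) → k := fun τ => InvRing21.val τ⁻¹ (Red.gmFn ω')
  obtain ⟨a₀, ha₀0, ha₀⟩ := hω
  obtain ⟨b₀, hb₀0, hb₀⟩ := hω'
  rw [hEJ] at ha₀ hb₀
  rw [hEJ] at hf
  replace hf : J f ∈ E (fun τ => c τ * c' τ) := ⟨hf.1, fun x τ => by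
    rw [hf.2]
    congr 1
    exact map_mul _ _ _⟩
  let τreg := InvRing21.regular G
  let P₀ : Submodule k Γ(G.left, ⊤) := Submodule.span k {z | ∃ a ∈ E c, ∃ b ∈ E c', a * b = z}
  have hreg : ∀ (x g : VecGrp.pt k k ⟶ G) (a : Γ(G.left, ⊤)), InvRing21.val x (InvRing21.ptAct τreg g a) = InvRing21.val (x * g) a :=
    UInvFG21.val_ptAct_regular
  have hEst : ∀ e (g : VecGrp.pt k k ⟶ G), ∀ a ∈ E e, InvRing21.ptAct τreg g a ∈ E e := fun e g a ha =>
    ⟨fun x q => by rw [hreg, hreg, _root_.mul_assoc, ha.1], fun x τ => by rw [hreg, hreg, _root_.mul_assoc, ha.2]⟩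
  have hP₀st : ∀ (g : VecGrp.pt k k ⟶ G), ∀ z ∈ P₀, InvRing21.ptAct τreg g z ∈ P₀ := fun g z hz => by
    have h : P₀ ≤ P₀.comap (UMod21.actLin τreg g) := Submodule.span_le.2 fun z ⟨a, ha, b, hb, e⟩ =>
      Submodule.subset_span ⟨_, hEst _ g a ha, _, hEst _ g b hb, by
        rw [← e]
        exact InvRing21.ext_val fun x => by rw [map_mul, UMod21.actLin_apply, hreg, hreg, hreg, map_mul]⟩
    exact h hz
  have hP₀E : P₀ ≤ E (fun τ => c τ * c' τ) := Submodule.span_le.2 fun z ⟨a, ha, b, hb, e⟩ =>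
    ⟨fun x q => by rw [← e, map_mul, map_mul, ha.1, hb.1],
      fun x τ => by rw [← e, map_mul, map_mul, ha.2, hb.2]; ring⟩
  -- the opposite unipotent group
  obtain ⟨Bn, _, iBn, hBn, hBnpts⟩ := F.neg.exists_borel
  haveI := hBn.1
  haveI := hBn.2.1
  haveI := hBn.2.2.1
  haveI := hBn.2.2.2.1
  haveI : IsAffine Bn.left := isAffine_of_isAffineHom iBn.left
  obtain ⟨Un, _, un, hUn, -⟩ := TorPts21.exists_unipotentRadical Bn hBn.2.2.2.2.1
  obtain ⟨hnm, hnc, -, hns, -, hncn, hn0, -⟩ := (TorPts21.isUnipotentRadical_iff un).1 hUn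
  haveI := hnm
  haveI := hnc
  haveI := hns
  haveI := hncn
  haveI : IsAffine Un.left := isAffine_of_isAffineHom un.left
  have hradn := F.neg.range_radical hBn hUn hBnpts
  -- functions invariant on the right under the opposite group
  have hkey : ∀ e, ∀ v ∈ E e, (∀ x ∈ F.neg.up₁, InvRing21.ptAct τreg x v = v) →
      InvRing21.val (1 : VecGrp.pt k k ⟶ G) v = 0 → v = 0 := fun e v hv hfix h1 => by
    refine F.neg.eq_zero_of_cell v fun p hp q hq => ?_
    obtain ⟨τ', q₁, hq₁, rfl⟩ := F.neg.exists_torus_mul hq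
    have hp' : p ∈ F.up := by
      have e : F.neg.neg.up = F.up := by
        show BorelLam21.upPts F.r (BigCell21.wt F.a (- -F.b)) = BorelLam21.upPts F.r (BigCell21.wt F.a F.b)
        rw [neg_neg]
      rw [← e]
      exact hp
    rw [← _root_.mul_assoc, ← hreg, hfix q₁ hq₁]
    obtain ⟨τ, p₁, hp₁, e₁⟩ := F.exists_torus_mul (mul_mem hp' (F.torus_mem τ'))
    obtain ⟨τ₀, hτ₀⟩ := hTF τ
    obtain ⟨w, hw⟩ := (hrad p₁).2 hp₁
    rw [show p * (τ' ≫ F.neg.iT) = (τ ≫ F.iT) * p₁ from e₁, ← hτ₀, hv.2, ← _root_.mul_one p₁, ← hw, hv.1, h1,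
      MulZeroClass.mul_zero]
  have hnz : ∀ e, ∀ v ∈ E e, v ≠ 0 → ∃ v' ∈ E e, InvRing21.val (1 : VecGrp.pt k k ⟶ G) v' ≠ 0 ∧
      v' ∈ τreg.fixedUnder (un ≫ iBn) := fun e v hv hv0 => by
    obtain ⟨v', hv', hv'0, hfix⟩ := UMod21.exists_fixed_of_stable τreg hn0 (un ≫ iBn) (W := E e)
      (fun h w hw => hEst e _ w hw) (fun h => hv0 ((Submodule.eq_bot_iff _).1 h v hv))
    refine ⟨v', hv', fun h1 => hv'0 (hkey e v' hv' (fun x hx => ?_) h1), hfix⟩
    obtain ⟨q, rfl⟩ := (hradn x).2 hx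
    exact UInvFG21.ptAct_eq_of_fixed τreg hfix q
  have hne : ∀ a, a ≠ 0 → J a ≠ 0 := fun a ha h => ha (by rw [← hJJ a, h, map_zero])
  obtain ⟨a, haE, ha1, haf⟩ := hnz c _ ha₀ (hne _ ha₀0)
  obtain ⟨b, hbE, hb1, hbf⟩ := hnz c' _ hb₀ (hne _ hb₀0)
  have hab : a * b ∈ P₀ := Submodule.subset_span ⟨a, haE, b, hbE, rfl⟩
  -- complete reducibility
  obtain ⟨V₁, hV₁f, hfV₁, hV₁⟩ := UMod21.exists_finite_stableSub τreg {J f}
  haveI := hV₁f
  let V' : Submodule k Γ(G.left, ⊤) := V₁ ⊓ E (fun τ => c τ * c' τ)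
  haveI : FiniteDimensional k V' := Submodule.finiteDimensional_inf_left _ _
  have hV' : ∀ (g : VecGrp.pt k k ⟶ G), ∀ z ∈ V', InvRing21.ptAct τreg g z ∈ V' := fun g z hz =>
    ⟨hV₁ g z hz.1, hEst _ g z hz.2⟩
  obtain ⟨σ, hσ⟩ := GrassAct21.exists_subMod τreg V' hV'
  have hσpt : ∀ g (z : V'), (InvRing21.ptAct σ g z).1 = InvRing21.ptAct τreg g z.1 := fun g z => by
    have := congrArg (TensorProduct.lid k _) (hσ k g ((1 : k) ⊗ₜ[k] z))
    rw [GrassAct21.lid_baseChange, LinearMap.baseChange_tmul] at this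
    exact this
  obtain ⟨P, hc, hP⟩ := GModComod21.exists_stable_compl hG σ (P₀.comap V'.subtype) fun g w hw => by
    show (InvRing21.ptAct σ g w).1 ∈ P₀
    rw [hσpt]
    exact hP₀st g _ hw
  have hmem : J f ∈ P₀ := by
    rcases eq_or_ne P ⊥ with rfl | hne'
    · have := hc.sup_eq_top
      rw [sup_bot_eq] at this
      exact (this ▸ Submodule.mem_top :
        (⟨J f, hfV₁ _ (Finset.mem_singleton_self _), hf⟩ : V') ∈ P₀.comap V'.subtype)
    · exfalso
      obtain ⟨v, hv, hv0, hvf⟩ := UMod21.exists_fixed_of_stable τreg hn0 (un ≫ iBn) (W := P.map V'.subtype)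
        (fun h w hw => by
          obtain ⟨z, hz, rfl⟩ := hw
          exact ⟨_, hP _ z hz, hσpt _ z⟩)
        (fun e => hne' (Submodule.map_injective_of_injective V'.injective_subtype (e.trans (Submodule.map_bot _).symm)))
      obtain ⟨z, hz, rfl⟩ := hv
      replace hvf : z.1 ∈ τreg.fixedUnder (un ≫ iBn) := hvf
      have hab1 : InvRing21.val (1 : VecGrp.pt k k ⟶ G) (a * b) ≠ 0 := by
        rw [map_mul]; exact mul_ne_zero ha1 hb1
      set r : k := InvRing21.val (1 : VecGrp.pt k k ⟶ G) z.1 / InvRing21.val (1 : VecGrp.pt k k ⟶ G) (a * b)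
      have habf : ∀ x ∈ F.neg.up₁, InvRing21.ptAct τreg x (a * b) = a * b := fun x hx => by
        obtain ⟨q, rfl⟩ := (hradn x).2 hx
        refine InvRing21.ext_val fun y => ?_
        have h1 := UInvFG21.ptAct_eq_of_fixed τreg haf q
        have h2 := UInvFG21.ptAct_eq_of_fixed τreg hbf q
        rw [hreg, map_mul, map_mul, ← hreg, ← hreg, h1, h2]
      have h0 : (z.1 - r • (a * b)) = 0 := hkey _ _ (Submodule.sub_mem _ z.2.2 (Submodule.smul_mem _ _ (hP₀E hab)))
        (fun x hx => by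
          obtain ⟨q, rfl⟩ := (hradn x).2 hx
          rw [← UMod21.actLin_apply, map_sub, map_smul, UMod21.actLin_apply, UMod21.actLin_apply, habf _ hx,
            UInvFG21.ptAct_eq_of_fixed τreg hvf q])
        (by rw [map_sub, map_smul, smul_eq_mul, div_mul_cancel₀ _ hab1, sub_self])
      have hzP : z ∈ P₀.comap V'.subtype := by
        show z.1 ∈ P₀
        rw [sub_eq_zero.1 h0]
        exact P₀.smul_mem _ hab
      exact hv0 (congrArg Subtype.val ((Submodule.disjoint_def.1 hc.disjoint) z hzP hz))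
  -- unfold the span
  have hQ := exists_sum_of_mem_span (E c) (E c') hmem
  obtain ⟨L, hL, hJf⟩ := hQ
  refine ⟨L.support.image fun b => (J (L b), J b), fun p hp => ?_, ?_⟩
  · obtain ⟨b, hb, rfl⟩ := Finset.mem_image.1 hp
    exact ⟨(hEJ _ _).2 (by rw [hJJ]; exact (hL b hb).1), (hEJ _ _).2 (by rw [hJJ]; exact (hL b hb).2)⟩
  · rw [Finset.sum_image fun b _ b' _ e => by
      have := congrArg (fun p : _ × _ => J p.2) e
      simpa [hJJ] using this]
    rw [← hJJ f, hJf, Finsupp.sum, map_sum]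
    simp only [map_mul]

end Groth.Agent.S12438
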