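import Groth.Statements.S12439
import Groth.Agent.Lib.CAlgLow.RefNorm
import Groth.Agent.Lib.VarDim.Alg
import Mathlib

set_option autoImplicit false
universe u
open Variety

namespace Groth.Agent.S12439


section Aux
open MvPolynomial

variable {k : Type u} [Field k] {n : ℕ}

/-- setting the first `a` variables to zero -/
noncomputable def pr (k : Type u) [Field k] (n a : ℕ) :
    MvPolynomial (Fin n) k →ₐ[k] MvPolynomial {l : Fin n // ¬ (l : ℕ) < a} k :=
  aeval fun l => if h : ¬ (l : ℕ) < a then X ⟨l, h⟩ else 0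

/-- section of `pr` -/
noncomputable def sec (k : Type u) [Field k] (n a : ℕ) :
    MvPolynomial {l : Fin n // ¬ (l : ℕ) < a} k →ₐ[k] MvPolynomial (Fin n) k :=
  rename Subtype.val

/-- the ideal of the first `a` variables -/
noncomputable abbrev tI (k : Type u) [Field k] (n a : ℕ) : Ideal (MvPolynomial (Fin n) k) :=
  Ideal.span (MvPolynomial.X '' {l : Fin n | (l : ℕ) < a})

theorem pr_sec (a : ℕ) (x : MvPolynomial {l : Fin n // ¬ (l : ℕ) < a} k) : pr k n a (sec k n a x) = x := by
  have : (pr k n a).comp (sec k n a) = AlgHom.id k _ := MvPolynomial.algHom_ext fun l => by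
    simp only [pr, sec, AlgHom.comp_apply, rename_X, aeval_X, dif_pos l.2, Subtype.coe_eta, AlgHom.id_apply]
  exact DFunLike.congr_fun this x

theorem sub_sec_pr_mem (a : ℕ) (x : MvPolynomial (Fin n) k) : x - sec k n a (pr k n a x) ∈ tI k n a := by
  have : (Ideal.Quotient.mkₐ k (tI k n a)).comp ((sec k n a).comp (pr k n a)) = Ideal.Quotient.mkₐ k (tI k n a) :=
    MvPolynomial.algHom_ext fun l => by
      by_cases h : ¬ (l : ℕ) < a
      · simp only [pr, sec, AlgHom.comp_apply, aeval_X, dif_pos h, rename_X]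
      · simp only [pr, sec, AlgHom.comp_apply, aeval_X, dif_neg h, map_zero]
        exact ((Ideal.Quotient.eq_zero_iff_mem (I := tI k n a)).2 (Ideal.subset_span ⟨l, not_not.1 h, rfl⟩)).symm
  exact (Ideal.Quotient.eq (I := tI k n a)).1 (DFunLike.congr_fun this x).symm

theorem ker_pr (a : ℕ) : RingHom.ker (pr k n a) = tI k n a := by
  refine le_antisymm (fun x hx => ?_) (Ideal.span_le.2 ?_)
  · have := sub_sec_pr_mem a x
    rw [show pr k n a x = 0 from hx, map_zero, sub_zero] at this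
    exact this
  · rintro _ ⟨l, hl, rfl⟩
    show pr k n a (X l) = 0
    simp only [pr, aeval_X]
    exact dif_neg (not_not.2 hl)

theorem tI_isPrime (k : Type u) [Field k] (n a : ℕ) : (tI k n a).IsPrime := by
  rw [← ker_pr]; exact RingHom.ker_isPrime _

theorem tI_mono {a c : ℕ} (h : a ≤ c) : tI k n a ≤ tI k n c :=
  Ideal.span_mono (Set.image_mono fun _ hl => lt_of_lt_of_le hl h)

theorem tI_zero (k : Type u) [Field k] (n : ℕ) : tI k n 0 = ⊥ := by simp [tI]

theorem X_mem_tI_iff {a : ℕ} (l : Fin n) : (X l : MvPolynomial (Fin n) k) ∈ tI k n a ↔ (l : ℕ) < a := by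
  refine ⟨fun h => ?_, fun h => Ideal.subset_span ⟨l, h, rfl⟩⟩
  rw [← ker_pr, RingHom.mem_ker] at h
  by_contra hl
  simp only [pr, aeval_X, dif_pos hl] at h
  exact X_ne_zero _ h

theorem tI_injective {a c : ℕ} (ha : a ≤ n) (hc : c ≤ n) (h : tI k n a = tI k n c) : a = c := by
  by_contra hne
  rcases Nat.lt_or_gt_of_ne hne with hlt | hlt
  · exact lt_irrefl _ ((X_mem_tI_iff ⟨a, by omega⟩).1 (h ▸ (X_mem_tI_iff (k := k) ⟨a, by omega⟩).2 hlt))
  · exact lt_irrefl _ ((X_mem_tI_iff ⟨c, by omega⟩).1 (h.symm ▸ (X_mem_tI_iff (k := k) ⟨c, by omega⟩).2 hlt))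

theorem dim_quot_tI {a : ℕ} (ha : a ≤ n) :
    ringKrullDim (MvPolynomial (Fin n) k ⧸ tI k n a) = ((n - a : ℕ) : WithBot ℕ∞) := by
  have hs : Function.Surjective (pr k n a).toRingHom := by
    intro x
    exact Exists.intro (sec k n a x) (pr_sec a x)
  have e := RingHom.quotientKerEquivOfSurjective hs
  have hcard : Fintype.card {l : Fin n // ¬ (l : ℕ) < a} = n - a := by
    rw [Fintype.card_subtype_compl, Fintype.card_fin, Fintype.card_subtype, Fin.card_filter_val_lt, min_eq_right ha]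
  rw [← ringKrullDim_eq_of_ringEquiv ((Ideal.quotEquivOfEq (ker_pr a).symm).trans e).symm,
    ringKrullDim_eq_of_ringEquiv (renameEquiv k (Fintype.equivFinOfCardEq hcard)).toRingEquiv,
    VarDim.ringKrullDim_mvPolynomial]

/-- kill the variables from `s` on -/
noncomputable def cut (k : Type u) [Field k] (n s : ℕ) : MvPolynomial (Fin n) k →ₐ[k] MvPolynomial (Fin n) k :=
  aeval fun i => if (i : ℕ) < s then X i else 0

theorem injective_of_isIntegral (φ : MvPolynomial (Fin n) k →ₐ[k] MvPolynomial (Fin n) k)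
    (h : φ.toRingHom.IsIntegral) : Function.Injective φ := by
  letI : Algebra (MvPolynomial (Fin n) k) (MvPolynomial (Fin n) k) := φ.toRingHom.toAlgebra
  haveI : Algebra.IsIntegral (MvPolynomial (Fin n) k) (MvPolynomial (Fin n) k) := ⟨h⟩
  have h1 := VarDim.coheight_comap_eq (R := MvPolynomial (Fin n) k) (S := MvPolynomial (Fin n) k)
    (⟨⊥, Ideal.isPrime_bot⟩ : PrimeSpectrum (MvPolynomial (Fin n) k))
  rw [RingHom.injective_iff_ker_eq_bot]
  by_contra hne
  let P : PrimeSpectrum (MvPolynomial (Fin n) k) :=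
    ⟨RingHom.ker φ, RingHom.ker_isPrime _⟩
  have hP : PrimeSpectrum.comap φ.toRingHom ⟨⊥, Ideal.isPrime_bot⟩ = P := PrimeSpectrum.ext rfl
  have hco : Order.coheight P = Order.coheight (⟨⊥, Ideal.isPrime_bot⟩ : PrimeSpectrum (MvPolynomial (Fin n) k)) :=
    hP ▸ h1
  have hb := VarDim.height_add_coheight_mvPolynomial k n ⟨⊥, Ideal.isPrime_bot⟩
  have hq := VarDim.height_add_coheight_mvPolynomial k n P
  have hb0 : Order.height (⟨⊥, Ideal.isPrime_bot⟩ : PrimeSpectrum (MvPolynomial (Fin n) k)) = 0 :=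
    Order.height_bot _
  rw [hb0, zero_add] at hb
  rw [hco, hb] at hq
  have hpos : 0 < Order.height P := by
    rw [pos_iff_ne_zero, Ne, Order.height_eq_zero]
    intro hmin
    exact hne (le_bot_iff.1 (hmin (b := (⊥ : PrimeSpectrum (MvPolynomial (Fin n) k))) bot_le))
  cases h2 : Order.height P with
  | top => rw [h2, top_add] at hq; exact ENat.top_ne_coe n hq
  | coe m =>
    rw [h2, ← Nat.cast_add, Nat.cast_inj] at hq
    rw [h2, Nat.cast_pos] at hpos
    omega

open Classical in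
theorem exists_norm_chain : ∀ (n : ℕ) (r : ℕ) (P : Fin r → Ideal (MvPolynomial (Fin n) k)),
    (∀ i, (P i).IsPrime) → Monotone P →
    ∃ (φ : MvPolynomial (Fin n) k →ₐ[k] MvPolynomial (Fin n) k), φ.toRingHom.IsIntegral ∧
      ∀ i, ∃ s ≤ n, (P i).comap φ = RingHom.ker (cut k n s) := by
  intro n
  have hcutid : ∀ m, cut k m m = AlgHom.id k _ := fun m => MvPolynomial.algHom_ext fun i => by
    simp only [cut, aeval_X, AlgHom.id_apply, if_pos i.2]
  induction n with
  | zero =>
    intro r P hP _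
    refine ⟨AlgHom.id k _, RingHom.isIntegral_of_surjective _ Function.surjective_id, fun i => ⟨0, le_rfl, ?_⟩⟩
    rw [hcutid]
    ext p
    show p ∈ P i ↔ p = 0
    refine ⟨fun hp => ?_, fun h => h ▸ zero_mem _⟩
    obtain ⟨c, rfl⟩ := MvPolynomial.C_surjective (R := k) (Fin 0) p
    by_contra h
    exact (hP i).ne_top (Ideal.eq_top_of_isUnit_mem _ hp
      ((isUnit_iff_ne_zero.2 fun hc => h (by rw [hc, map_zero])).map MvPolynomial.C))
  | succ n ih =>
    intro r P hP hmono
    by_cases hall : ∀ i, P i = ⊥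
    · refine ⟨AlgHom.id k _, RingHom.isIntegral_of_surjective _ Function.surjective_id, fun i => ⟨n + 1, le_rfl, ?_⟩⟩
      rw [hcutid, hall i]
      ext p
      simp
    push Not at hall
    obtain ⟨i₀, hi₀, hmin⟩ := Finset.exists_min_image (Finset.univ.filter fun i => P i ≠ ⊥) id
      (by obtain ⟨i, hi⟩ := hall; exact ⟨i, by simpa using hi⟩)
    simp only [Finset.mem_filter, Finset.mem_univ, true_and, id_eq] at hi₀ hmin
    obtain ⟨f, hf, hf0⟩ := Submodule.exists_mem_ne_zero_of_ne_bot hi₀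
    have hfmem : ∀ i, P i ≠ ⊥ → f ∈ P i := fun i hi => hmono (hmin i hi) hf
    obtain ⟨φ₁, hφ₁X, hφ₁⟩ := RefNorm.exists_integral f hf0
      fun h => (hP i₀).ne_top (Ideal.eq_top_of_isUnit_mem _ hf h)
    let emb : MvPolynomial (Fin n) k →ₐ[k] MvPolynomial (Fin (n + 1)) k := rename Fin.castSucc
    obtain ⟨ψ, hψ, hψc⟩ := ih r (fun i => ((P i).comap φ₁).comap emb)
      (fun i => by haveI := hP i; exact Ideal.comap_isPrime _ _)
      (fun i j hij => Ideal.comap_mono (Ideal.comap_mono (hmono hij)))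
    let π : MvPolynomial (Fin (n + 1)) k →ₐ[k] MvPolynomial (Fin n) k := aeval (Fin.lastCases 0 X)
    let Ψ : MvPolynomial (Fin (n + 1)) k →ₐ[k] MvPolynomial (Fin (n + 1)) k :=
      aeval (Fin.lastCases (X (Fin.last n)) fun i => emb (ψ (X i)))
    have hΨe : Ψ.comp emb = emb.comp ψ := MvPolynomial.algHom_ext fun i => by simp [Ψ, emb]
    have hΨi : Ψ.toRingHom.IsIntegral := by
      letI := Ψ.toRingHom.toAlgebra
      intro p
      show IsIntegral (MvPolynomial (Fin (n + 1)) k) p
      induction p using MvPolynomial.induction_on with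
      | C c =>
        rw [← MvPolynomial.algebraMap_eq, ← Ψ.commutes c]
        exact isIntegral_algebraMap (x := algebraMap k (MvPolynomial (Fin (n + 1)) k) c)
      | add a b ha hb => exact ha.add hb
      | mul_X a i ha =>
        refine ha.mul ?_
        refine Fin.lastCases ?_ (fun j => ?_) i
        · rw [show (X (Fin.last n) : MvPolynomial (Fin (n + 1)) k) = Ψ (X (Fin.last n)) by simp [Ψ]]
          exact isIntegral_algebraMap (x := (X (Fin.last n) : MvPolynomial (Fin (n + 1)) k))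
        · obtain ⟨F, hF, hFj⟩ := hψ (X j)
          refine ⟨F.map emb.toRingHom, hF.map _, ?_⟩
          show Polynomial.eval₂ Ψ.toRingHom (X j.castSucc) _ = 0
          rw [Polynomial.eval₂_map, show Ψ.toRingHom.comp emb.toRingHom = emb.toRingHom.comp ψ.toRingHom from
            congrArg AlgHom.toRingHom hΨe, show (X j.castSucc : MvPolynomial (Fin (n + 1)) k) = emb.toRingHom (X j) by
            simp [emb], ← Polynomial.hom_eval₂, hFj, map_zero]
    have hint : (φ₁.comp Ψ).toRingHom.IsIntegral := RingHom.IsIntegral.trans Ψ.toRingHom φ₁.toRingHom hΨi hφ₁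
    refine ⟨φ₁.comp Ψ, hint, fun i => ?_⟩
    by_cases hi : P i = ⊥
    · refine ⟨n + 1, le_rfl, ?_⟩
      rw [hi, hcutid, Ideal.comap_bot_of_injective _ (injective_of_isIntegral _ hint)]
      ext p
      simp
    obtain ⟨s, hs, hc⟩ := hψc i
    refine ⟨s, Nat.le_succ_of_le hs, ?_⟩
    have hπ : ∀ p, p ∈ (P i).comap φ₁ ↔ emb (π p) ∈ (P i).comap φ₁ := by
      intro p
      have e : (Ideal.Quotient.mkₐ k ((P i).comap φ₁)).comp (emb.comp π) = Ideal.Quotient.mkₐ k ((P i).comap φ₁) :=
        MvPolynomial.algHom_ext fun l => by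
          refine Fin.lastCases ?_ (fun j => ?_) l
          · simp only [AlgHom.comp_apply, π, aeval_X, Fin.lastCases_last, map_zero]
            refine (Ideal.Quotient.eq_zero_iff_mem.2 ?_).symm
            show φ₁ (X (Fin.last n)) ∈ P i
            rw [hφ₁X]; exact hfmem i hi
          · simp [π, emb]
      have h := DFunLike.congr_fun e p
      rw [← Ideal.Quotient.eq_zero_iff_mem, ← Ideal.Quotient.eq_zero_iff_mem]
      exact ⟨fun hp => h.trans hp, fun hp => h.symm.trans hp⟩
    ext p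
    show Ψ p ∈ (P i).comap φ₁ ↔ cut k (n + 1) s p = 0
    rw [hπ]
    have e2 : π.comp Ψ = ψ.comp π := MvPolynomial.algHom_ext fun l => by
      refine Fin.lastCases ?_ (fun j => ?_) l
      · simp [π, Ψ]
      · have hid : π.comp emb = AlgHom.id k _ := MvPolynomial.algHom_ext fun i => by simp [π, emb]
        have := DFunLike.congr_fun hid (ψ (X j))
        simpa [π, Ψ] using this
    rw [show π (Ψ p) = ψ (π p) from DFunLike.congr_fun e2 p]
    have h3 : ψ (π p) ∈ ((P i).comap φ₁).comap emb ↔ cut k n s (π p) = 0 := by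
      rw [← RingHom.mem_ker, ← hc]; rfl
    refine h3.trans ?_
    have e3 : emb.comp ((cut k n s).comp π) = cut k (n + 1) s := MvPolynomial.algHom_ext fun i => by
      refine Fin.lastCases ?_ (fun j => ?_) i
      · simp [π, emb, cut, not_lt.2 hs]
      · by_cases hj : (j : ℕ) < s <;> simp [π, emb, cut, hj]
    rw [← e3]
    exact ⟨fun h => by rw [AlgHom.comp_apply, AlgHom.comp_apply, h, map_zero], fun h =>
      rename_injective _ (Fin.castSucc_injective n) (h.trans (map_zero _).symm)⟩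

variable {A : Type u} [CommRing A] [IsDomain A] [Algebra k A]

theorem coheight_eq_dim (p : PrimeSpectrum A) :
    ((Order.coheight p : ℕ∞) : WithBot ℕ∞) = ringKrullDim (A ⧸ p.asIdeal) := by
  rw [Order.coheight_eq_krullDim_Ici, ringKrullDim_quotient]
  exact Order.krullDim_eq_of_orderIso (OrderIso.setCongr _ _ (by ext q; rfl))

theorem dim_quot_comap (φ : MvPolynomial (Fin n) k →ₐ[k] A) (hφ : φ.toRingHom.IsIntegral) (q : PrimeSpectrum A) :
    ringKrullDim (MvPolynomial (Fin n) k ⧸ q.asIdeal.comap φ) = ringKrullDim (A ⧸ q.asIdeal) := by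
  letI : Algebra (MvPolynomial (Fin n) k) A := φ.toRingHom.toAlgebra
  haveI : Algebra.IsIntegral (MvPolynomial (Fin n) k) A := ⟨hφ⟩
  have h := congrArg (fun x : ℕ∞ => (x : WithBot ℕ∞)) (VarDim.coheight_comap_eq (R := MvPolynomial (Fin n) k) q)
  simp only [coheight_eq_dim] at h
  exact h

theorem part_one [Algebra.FiniteType k A] (d : ℕ) (hd : ringKrullDim A = (d : WithBot ℕ∞))
    (r : ℕ) (q : Fin r → PrimeSpectrum A) (hq : Monotone q) (h : Fin r → ℕ) (hh : ∀ i, h i ≤ d)
    (hdim : ∀ i, ringKrullDim (A ⧸ (q i).asIdeal) = ((d - h i : ℕ) : WithBot ℕ∞)) :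
    ∃ φ : MvPolynomial (Fin d) k →ₐ[k] A, φ.toRingHom.Finite ∧ Function.Injective φ ∧
      ∀ i, (q i).asIdeal.comap φ = tI k d (h i) := by
  obtain ⟨s, g, hg, hgi, hgd, -⟩ := VarDim.exists_noether_dim k A
  obtain rfl : s = d := by
    have := hgd.symm.trans hd
    exact_mod_cast this
  obtain ⟨φ₁, hφ₁, hc⟩ := exists_norm_chain s r (fun i => (q i).asIdeal.comap g)
    (fun i => Ideal.comap_isPrime _ _) (fun i j hij => Ideal.comap_mono (hq hij))
  let rev : MvPolynomial (Fin s) k →ₐ[k] MvPolynomial (Fin s) k := rename Fin.rev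
  have hrev : rev.toRingHom.IsIntegral := RingHom.isIntegral_of_surjective _
    (rename_surjective _ Fin.rev_bijective.surjective)
  let φ := (g.comp φ₁).comp rev
  have hint : φ.toRingHom.IsIntegral :=
    RingHom.IsIntegral.trans _ _ hrev (RingHom.IsIntegral.trans _ _ hφ₁ hgi)
  have hinj : Function.Injective φ :=
    (hg.comp (injective_of_isIntegral _ hφ₁)).comp (rename_injective _ Fin.rev_injective)
  refine ⟨φ, ?_, hinj, fun i => ?_⟩
  · refine RingHom.IsIntegral.to_finite hint ?_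
    exact RingHom.FiniteType.of_comp_finiteType (f := algebraMap k (MvPolynomial (Fin s) k))
      (by rw [show φ.toRingHom.comp (algebraMap k _) = algebraMap k _ from φ.comp_algebraMap]
          exact RingHom.finiteType_algebraMap.2 inferInstance)
  obtain ⟨t, ht, hti⟩ := hc i
  have hcom : (q i).asIdeal.comap φ = tI k s (s - t) := by
    rw [← ker_pr]
    ext p
    show rev p ∈ ((q i).asIdeal.comap g).comap φ₁ ↔ pr k s (s - t) p = 0
    rw [hti, RingHom.mem_ker]
    have e : (cut k s t).comp rev = (rev.comp (sec k s (s - t))).comp (pr k s (s - t)) :=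
      MvPolynomial.algHom_ext fun l => by
        simp only [AlgHom.comp_apply, rev, rename_X, cut, aeval_X, pr, sec, Fin.val_rev]
        by_cases hl : ¬ (l : ℕ) < s - t
        · rw [dif_pos hl, if_pos (by omega)]
          simp
        · rw [dif_neg hl, if_neg (by omega), map_zero, map_zero]
    rw [show cut k s t (rev p) = rev (sec k s (s - t) (pr k s (s - t) p)) from DFunLike.congr_fun e p]
    exact map_eq_zero_iff (rev.comp (sec k s (s - t)))
      ((rename_injective _ Fin.rev_injective).comp (rename_injective _ Subtype.val_injective))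
  have h1 := dim_quot_comap φ hint (q i)
  rw [hcom, dim_quot_tI (Nat.sub_le _ _), hdim i] at h1
  have h2 : s - (s - t) = s - h i := by exact_mod_cast h1
  rw [hcom]
  congr 1
  have := hh i
  omega

theorem incomparable (φ : MvPolynomial (Fin n) k →ₐ[k] A) (hφ : φ.toRingHom.IsIntegral) {p q : PrimeSpectrum A}
    (hle : p ≤ q) (h : p.asIdeal.comap φ = q.asIdeal.comap φ) : p = q := by
  letI : Algebra (MvPolynomial (Fin n) k) A := φ.toRingHom.toAlgebra
  haveI : Algebra.IsIntegral (MvPolynomial (Fin n) k) A := ⟨hφ⟩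
  rcases hle.eq_or_lt with he | hlt
  · exact he
  · exfalso
    exact (ne_of_lt (VarDim.strictMono_comap_of_isIntegral (R := MvPolynomial (Fin n) k) hlt)) (PrimeSpectrum.ext h)

theorem between (φ : MvPolynomial (Fin n) k →ₐ[k] A) (hφ : φ.toRingHom.IsIntegral) {a j c : ℕ}
    (haj : a ≤ j) (hjc : j ≤ c) {p q : PrimeSpectrum A} (hle : p ≤ q)
    (hp : p.asIdeal.comap φ = tI k n a) (hq : q.asIdeal.comap φ = tI k n c) :
    ∃ P : PrimeSpectrum A, p ≤ P ∧ P ≤ q ∧ P.asIdeal.comap φ = tI k n j := by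
  let θ : MvPolynomial {l : Fin n // ¬ (l : ℕ) < a} k →ₐ[k] A ⧸ p.asIdeal :=
    (Ideal.Quotient.mkₐ k p.asIdeal).comp (φ.comp (sec k n a))
  have hθ : ∀ x, Ideal.Quotient.mk p.asIdeal (φ x) = θ (pr k n a x) := by
    intro x
    refine Ideal.Quotient.eq.2 ?_
    show φ x - φ (sec k n a (pr k n a x)) ∈ _
    rw [← map_sub]
    show x - sec k n a (pr k n a x) ∈ p.asIdeal.comap φ
    rw [hp]
    exact sub_sec_pr_mem a x
  have hinj : Function.Injective θ := by
    rw [injective_iff_map_eq_zero]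
    intro x hx
    have h1 : sec k n a x ∈ p.asIdeal.comap φ := (Ideal.Quotient.eq_zero_iff_mem (I := p.asIdeal)).1 hx
    rw [hp, ← ker_pr, RingHom.mem_ker, pr_sec] at h1
    exact h1
  have hint : θ.toRingHom.IsIntegral := by
    intro y
    obtain ⟨y, rfl⟩ := Ideal.Quotient.mk_surjective y
    obtain ⟨F, hF, hFy⟩ := hφ y
    refine ⟨F.map (pr k n a).toRingHom, hF.map _, ?_⟩
    rw [Polynomial.eval₂_map, show θ.toRingHom.comp (pr k n a).toRingHom =
      (Ideal.Quotient.mk p.asIdeal).comp φ.toRingHom from RingHom.ext fun x => (hθ x).symm,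
      ← Polynomial.hom_eval₂, hFy, map_zero]
  letI : Algebra (MvPolynomial {l : Fin n // ¬ (l : ℕ) < a} k) (A ⧸ p.asIdeal) := θ.toRingHom.toAlgebra
  haveI : Algebra.IsIntegral (MvPolynomial {l : Fin n // ¬ (l : ℕ) < a} k) (A ⧸ p.asIdeal) := ⟨hint⟩
  haveI : FaithfulSMul (MvPolynomial {l : Fin n // ¬ (l : ℕ) < a} k) (A ⧸ p.asIdeal) :=
    (faithfulSMul_iff_algebraMap_injective _ _).mpr hinj
  let m := Ideal.Quotient.mk p.asIdeal
  haveI hqp : (q.asIdeal.map m).IsPrime :=
    Ideal.map_isPrime_of_surjective Ideal.Quotient.mk_surjective (by rw [Ideal.mk_ker]; exact hle)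
  have hqm : (q.asIdeal.map m).comap m = q.asIdeal := by
    rw [Ideal.comap_map_of_surjective m Ideal.Quotient.mk_surjective, ← RingHom.ker_eq_comap_bot, Ideal.mk_ker,
      sup_eq_left.mpr hle]
  haveI := tI_isPrime k n j
  haveI := tI_isPrime k n c
  have hover : ∀ x, θ x ∈ q.asIdeal.map m ↔ sec k n a x ∈ tI k n c := by
    intro x
    rw [← hq]
    show m (φ (sec k n a x)) ∈ q.asIdeal.map m ↔ φ (sec k n a x) ∈ q.asIdeal
    conv_rhs => rw [← hqm]
    rfl
  haveI : (q.asIdeal.map m).LiesOver ((tI k n c).comap (sec k n a)) := ⟨Ideal.ext fun x => (hover x).symm⟩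
  obtain ⟨P, hPQ, hP, hPo⟩ := Ideal.exists_ideal_le_liesOver_of_le
    (p := (tI k n j).comap (sec k n a)) (q := (tI k n c).comap (sec k n a)) (q.asIdeal.map m)
    (Ideal.comap_mono (tI_mono hjc))
  refine ⟨⟨P.comap m, Ideal.comap_isPrime _ _⟩, fun x hx => ?_, fun x hx => ?_, ?_⟩
  · show m x ∈ P
    rw [Ideal.Quotient.eq_zero_iff_mem.2 hx]
    exact P.zero_mem
  · rw [← hqm]; exact hPQ hx
  · ext x
    show m (φ x) ∈ P ↔ x ∈ tI k n j
    rw [show m (φ x) = θ (pr k n a x) from hθ x]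
    have h1 : θ (pr k n a x) ∈ P ↔ sec k n a (pr k n a x) ∈ tI k n j :=
      (Iff.of_eq (congrArg (fun I => pr k n a x ∈ I) hPo.over)).symm
    rw [h1]
    have h2 := tI_mono haj (sub_sec_pr_mem (k := k) a x)
    exact ⟨fun h => by simpa using (tI k n j).add_mem h2 h, fun h => by simpa using (tI k n j).sub_mem h h2⟩

theorem part_two (d : ℕ) (r : ℕ) (q : Fin r → PrimeSpectrum A) (hq : StrictMono q) (h : Fin r → ℕ)
    (hh : ∀ i, h i ≤ d) (φ : MvPolynomial (Fin d) k →ₐ[k] A) (hfin : φ.toRingHom.Finite)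
    (hinj : Function.Injective φ) (hc : ∀ i, (q i).asIdeal.comap φ = tI k d (h i)) :
    ∃ Q : ℕ → PrimeSpectrum A,
        (∀ j, j ≤ d → (Q j).asIdeal.comap φ = tI k d j) ∧
        (∀ j, j < d → Q j < Q (j + 1)) ∧ (∀ i, Q (h i) = q i) := by
  classical
  have hint : φ.toRingHom.IsIntegral := hfin.to_isIntegral
  have hmono : Monotone h := by
    intro i i' hii
    by_contra hlt
    push Not at hlt
    have h1 : tI k d (h i) ≤ tI k d (h i') := by rw [← hc, ← hc]; exact Ideal.comap_mono (hq.monotone hii)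
    exact hlt.ne (tI_injective (hh _) (hh _) (le_antisymm (tI_mono hlt.le) h1))
  have hlow : ∀ j, ∃ (a : ℕ) (p : PrimeSpectrum A), a ≤ j ∧ p.asIdeal.comap φ = tI k d a ∧
      (∀ i, h i ≤ j → q i ≤ p) ∧ (p = ⊥ ∨ ∃ i, h i ≤ j ∧ p = q i) := by
    intro j
    by_cases hex : ∃ i, h i ≤ j
    · obtain ⟨i₀, hi₀, hmax⟩ := Finset.exists_max_image (Finset.univ.filter fun i => h i ≤ j) id
        (by obtain ⟨i, hi⟩ := hex; exact ⟨i, by simpa using hi⟩)
      simp only [Finset.mem_filter, Finset.mem_univ, true_and, id_eq] at hi₀ hmax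
      exact ⟨h i₀, q i₀, hi₀, hc i₀, fun i hi => hq.monotone (hmax i hi), Or.inr ⟨i₀, hi₀, rfl⟩⟩
    · push Not at hex
      refine ⟨0, ⊥, Nat.zero_le _, ?_, fun i hi => absurd hi (not_le.2 (hex i)), Or.inl rfl⟩
      rw [tI_zero]
      exact Ideal.comap_bot_of_injective _ hinj
  let S : ℕ → Type u := fun j => {P : PrimeSpectrum A // P.asIdeal.comap φ = tI k d j ∧ ∀ i, h i ≤ j → q i ≤ P}
  have htop : Nonempty (S d) := by
    obtain ⟨a, p, ha, hp, hpi, -⟩ := hlow d
    letI : Algebra (MvPolynomial (Fin d) k) A := φ.toRingHom.toAlgebra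
    haveI : Algebra.IsIntegral (MvPolynomial (Fin d) k) A := ⟨hint⟩
    haveI := tI_isPrime k d d
    obtain ⟨P, hP, hPp, hPc⟩ := Ideal.exists_ideal_over_prime_of_isIntegral (S := A) (tI k d d) p.asIdeal
      (le_of_eq_of_le hp (tI_mono ha))
    exact ⟨⟨⟨P, hPp⟩, hPc, fun i hi => (hpi i hi).trans hP⟩⟩
  have hstep : ∀ m, ∀ P : S (d - m), ∃ P' : S (d - (m + 1)), P'.1 ≤ P.1 := by
    intro m P
    obtain ⟨a, p, ha, hp, hpi, hor⟩ := hlow (d - (m + 1))
    have hle : p ≤ P.1 := by
      rcases hor with rfl | ⟨i, hi, rfl⟩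
      · exact bot_le
      · exact P.2.2 i (hi.trans (by omega))
    obtain ⟨P', h1, h2, h3⟩ := between φ hint ha (show d - (m + 1) ≤ d - m by omega) hle hp P.2.1
    exact ⟨⟨P', h3, fun i hi => (hpi i hi).trans h1⟩, h2⟩
  choose st hst using hstep
  let G : ∀ m, S (d - m) := fun m => Nat.rec (motive := fun m => S (d - m)) htop.some (fun m P => st m P) m
  refine ⟨fun j => (G (d - j)).1, fun j hj => ?_, fun j hj => ?_, fun i => ?_⟩
  · exact ((G (d - j)).2.1).trans (congrArg (tI k d) (Nat.sub_sub_self hj))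
  · have e : d - j = (d - (j + 1)) + 1 := by omega
    have hle : (G (d - j)).1 ≤ (G (d - (j + 1))).1 := by
      rw [e]; exact hst _ (G (d - (j + 1)))
    refine lt_of_le_of_ne hle fun he => ?_
    have h1 := (G (d - j)).2.1
    have h2 := (G (d - (j + 1))).2.1
    replace he : (G (d - j)).1 = (G (d - (j + 1))).1 := he
    rw [he] at h1
    have h1 := ((congrArg (tI k d) (Nat.sub_sub_self hj)).symm.trans h2.symm).trans (h1.trans (congrArg (tI k d) (Nat.sub_sub_self hj.le)))
    exact absurd (tI_injective hj hj.le h1) (by omega)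
  · have h1 := (G (d - h i)).2.1
    replace h1 := h1.trans (congrArg (tI k d) (Nat.sub_sub_self (hh i)))
    exact (incomparable φ hint ((G (d - h i)).2.2 i (by rw [Nat.sub_sub_self (hh i)])) ((hc i).trans h1.symm)).symm

end Aux


/-- Let k be a field, A an integral domain which is a finitely generated k-algebra of Krull dimension d,
and q_{h(1)} ⊊ … ⊊ q_{h(r)} a chain of prime ideals with dim A/q_{h(i)} = d − h(i), where 0 ≤ h(i) ≤
d. Then (1) there is a finite injective k-algebra homomorphism φ : k[T_1, …, T_d] → A with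
φ⁻¹(q_{h(i)}) = (T_1, …, T_{h(i)}) for every i (variables indexed from 0 below: the ideal generated
by the T_l with l < h(i)); and (2) for every such φ the given chain extends to a chain of primes q_0
⊊ … ⊊ q_d of A with φ⁻¹(q_j) = (T_1, …, T_j) for all j ≤ d. -/
theorem result (k A : Type u) [Field k]
    [CommRing A] [IsDomain A] [Algebra k A] [Algebra.FiniteType k A] (d : ℕ) (hd : ringKrullDim A = (d : WithBot ℕ∞))
    (r : ℕ) (q : Fin r → PrimeSpectrum A) (hq : StrictMono q) (h : Fin r → ℕ) (hh : ∀ i, h i ≤ d)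
    (hdim : ∀ i, ringKrullDim (A ⧸ (q i).asIdeal) = ((d - h i : ℕ) : WithBot ℕ∞)) :
    (∃ φ : MvPolynomial (Fin d) k →ₐ[k] A, φ.toRingHom.Finite ∧ Function.Injective φ ∧
      ∀ i, (q i).asIdeal.comap φ = Ideal.span (MvPolynomial.X '' {l : Fin d | (l : ℕ) < h i})) ∧
    (∀ φ : MvPolynomial (Fin d) k →ₐ[k] A, φ.toRingHom.Finite → Function.Injective φ →
      (∀ i, (q i).asIdeal.comap φ = Ideal.span (MvPolynomial.X '' {l : Fin d | (l : ℕ) < h i})) →
      ∃ Q : ℕ → PrimeSpectrum A,
        (∀ j, j ≤ d → (Q j).asIdeal.comap φ = Ideal.span (MvPolynomial.X '' {l : Fin d | (l : ℕ) < j})) ∧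
        (∀ j, j < d → Q j < Q (j + 1)) ∧ (∀ i, Q (h i) = q i)) := by
  exact ⟨part_one d hd r q hq.monotone h hh hdim, fun φ hf hi hc => part_two d r q hq h hh φ hf hi hc⟩

end Groth.Agent.S12439
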