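import Groth.Statements.S1244
import Groth.Agent.Lib.SchDesc12.LQF
import Mathlib.RingTheory.Nilpotent.Basic

set_option autoImplicit false
universe u
open FlatMor

set_option backward.isDefEq.respectTransparency.types false

namespace Groth.Agent.S1244


open AlgebraicGeometry CategoryTheory in
/-- The images of sections over a system with nil transition kernels agree. -/
theorem range_subset_of_nil {R S : Type u} [CommRing R] [CommRing S] (φ : R →+* S) (hs : Function.Surjective φ)
    (hn : ∀ x ∈ RingHom.ker φ, IsNilpotent x) {T : Scheme.{u}} (g : Spec (CommRingCat.of R) ⟶ T)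
    (g' : Spec (CommRingCat.of S) ⟶ T) (hg : Spec.map (CommRingCat.ofHom φ) ≫ g = g') :
    Set.range g ⊆ Set.range g' := by
  rintro _ ⟨x, rfl⟩
  obtain ⟨y, hy⟩ : x ∈ Set.range (PrimeSpectrum.comap φ) := by
    rw [range_comap_of_surjective _ φ hs]
    exact fun a ha => nilradical_le_prime x.asIdeal (hn a ha)
  refine ⟨y, ?_⟩
  rw [← hg, Scheme.Hom.comp_apply]
  exact congrArg g hy

/-- Limit of surjections surjects to the first term, with kernel in the Jacobson radical. -/
theorem limit_props {A : Type u} [CommRing A] (A' : ℕ → Type u) [∀ n, CommRing (A' n)]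
    (φ : ∀ n, A' (n + 1) →+* A' n) (π : ∀ n, A →+* A' n) (hlim : FlatCA.IsRingLimit A A' φ π)
    (hsurj : ∀ n, Function.Surjective (φ n)) (hnil : ∀ n, ∀ x ∈ RingHom.ker (φ n), IsNilpotent x) :
    Function.Surjective (π 0) ∧ ∀ m : Ideal A, m.IsMaximal → RingHom.ker (π 0) ≤ m := by
  constructor
  · intro a
    let s : ∀ n, A' n := fun n => Nat.rec (motive := fun n => A' n) a (fun k b => (hsurj k b).choose) n
    obtain ⟨b, hb⟩ := hlim.2.2 s fun n => (hsurj n (s n)).choose_spec
    exact ⟨b, hb 0⟩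
  · intro m hm x hx
    by_contra hxm
    obtain ⟨a, ha⟩ := (Ideal.Quotient.maximal_ideal_iff_isField_quotient m).1 hm |>.mul_inv_cancel
      (a := Ideal.Quotient.mk m x) (fun h => hxm (Ideal.Quotient.eq_zero_iff_mem.1 h))
    obtain ⟨b, rfl⟩ := Ideal.Quotient.mk_surjective a
    have hy : 1 - x * b ∈ m := by
      rw [← Ideal.Quotient.eq_zero_iff_mem, map_sub, map_one, map_mul, ha, sub_self]
    have hu : ∀ n, IsUnit (π n (1 - x * b)) := by
      intro n
      induction n with
      | zero => simp [map_sub, map_mul, RingHom.mem_ker.1 hx]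
      | succ n ih =>
        obtain ⟨c, hc⟩ := ih.exists_right_inv
        obtain ⟨d, rfl⟩ := hsurj n c
        have : IsNilpotent (π (n + 1) (1 - x * b) * d - 1) := hnil n _ (by
          rw [RingHom.mem_ker, map_sub, map_mul, ← RingHom.comp_apply (φ n), hlim.1 n, hc, map_one, sub_self])
        have h1 := this.isUnit_add_one
        rw [sub_add_cancel] at h1
        exact isUnit_of_mul_isUnit_left h1
    choose v hv using fun n => (hu n).exists_right_inv
    obtain ⟨w, hw⟩ := hlim.2.2 v fun n => by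
      refine (IsUnit.mul_right_inj (hu n)).1 ?_
      rw [hv n]
      have := congrArg (φ n) (hv (n + 1))
      rwa [map_mul, map_one, ← RingHom.comp_apply (φ n), hlim.1 n] at this
    have h1 : (1 - x * b) * w = 1 := hlim.2.1 _ _ fun n => by rw [map_mul, hw n, hv n, map_one]
    exact hm.ne_top ((Ideal.eq_top_iff_one m).2 (h1 ▸ Ideal.mul_mem_right _ _ hy))


open AlgebraicGeometry CategoryTheory in
/-- Let A be the limit of an inverse system of rings (A_n) indexed by the natural numbers whose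
transition maps are surjective with locally nilpotent kernels. Let T → Spec A be a monomorphism of
schemes which is locally of finite type. If each Spec A_n → Spec A factors through T, then T → Spec
A is an isomorphism. -/
theorem result {A : Type u} [CommRing A] (A' : ℕ → Type u) [∀ n, CommRing (A' n)]
    (φ : ∀ n, A' (n + 1) →+* A' n) (π : ∀ n, A →+* A' n) (hlim : FlatCA.IsRingLimit A A' φ π)
    (hsurj : ∀ n, Function.Surjective (φ n)) (hnil : ∀ n, ∀ x ∈ RingHom.ker (φ n), IsNilpotent x)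
    {T : Scheme.{u}} (h : T ⟶ Spec (CommRingCat.of A)) [Mono h] [LocallyOfFiniteType h]
    (hsec : ∀ n, ∃ g : Spec (CommRingCat.of (A' n)) ⟶ T, g ≫ h = Spec.map (CommRingCat.ofHom (π n))) :
    IsIso h := by
  intros
  classical
  obtain ⟨hπ, hker⟩ := limit_props A' φ π hlim hsurj hnil
  choose g hg using hsec
  have hcomp : ∀ n, Spec.map (CommRingCat.ofHom (φ n)) ≫ g (n + 1) = g n := fun n => by
    rw [← cancel_mono h, Category.assoc, hg, hg, ← Spec.map_comp, ← CommRingCat.ofHom_comp, hlim.1 n]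
  have hrange : ∀ n, Set.range (g n) ⊆ Set.range (g 0) := fun n => by
    induction n with
    | zero => exact le_rfl
    | succ n ih => exact (range_subset_of_nil (φ n) (hsurj n) (hnil n) (g (n + 1)) (g n) (hcomp n)).trans ih
  choose W hW using fun x : T => T.isBasis_affineOpens.exists_subset_of_mem_open (Set.mem_univ x) isOpen_univ
  have hWa : ∀ x, ∃ U : T.Opens, IsAffineOpen U ∧ (U : Set T) = W x := fun x => by
    obtain ⟨U, hU, hUW⟩ := (hW x).1
    exact ⟨U, hU, hUW⟩
  choose U hU hUW using hWa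
  obtain ⟨F, hF⟩ := (isCompact_range (g 0).continuous).elim_finite_subcover (fun x => (U x : Set T))
    (fun x => (U x).2) (fun x _ => Set.mem_iUnion.2 ⟨x, (hUW x).symm ▸ (hW x).2.1⟩)
  let T₀ : T.Opens := ⟨⋃ x ∈ F, (U x : Set T), isOpen_biUnion fun x _ => (U x).2⟩
  haveI : CompactSpace T₀ := isCompact_iff_compactSpace.1 (F.isCompact_biUnion fun x _ => (hU x).isCompact)
  haveI : T₀.toScheme.IsQuasiAffine := Groth.Agent.SchDesc12.isQuasiAffine_of_lqf (T₀.ι ≫ h)
  let g' : ∀ n, Spec (CommRingCat.of (A' n)) ⟶ T₀.toScheme := fun n =>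
    IsOpenImmersion.lift T₀.ι (g n) (by rw [Scheme.Opens.range_ι]; exact (hrange n).trans hF)
  have hg' : ∀ n, g' n ≫ T₀.ι = g n := fun n => IsOpenImmersion.lift_fac _ _ _
  have hcomp' : ∀ n, Spec.map (CommRingCat.ofHom (φ n)) ≫ g' (n + 1) = g' n := fun n => by
    rw [← cancel_mono T₀.ι, Category.assoc, hg', hg', hcomp]
  let ψ : ∀ n, Γ(T₀.toScheme, ⊤) ⟶ CommRingCat.of (A' n) := fun n => (g' n).appTop ≫ (Scheme.ΓSpecIso _).hom
  have hψ : ∀ n, ψ (n + 1) ≫ CommRingCat.ofHom (φ n) = ψ n := fun n => by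
    simp only [ψ, ← hcomp' n, Scheme.Hom.comp_appTop, Category.assoc, Scheme.ΓSpecIso_naturality]
  have hex : ∀ b, ∃ a : A, ∀ n, π n a = ψ n b := fun b => hlim.2.2 _ fun n =>
    congrArg (fun k => k.hom b) (hψ n)
  choose s hs using hex
  let sR : Γ(T₀.toScheme, ⊤) ⟶ CommRingCat.of A := CommRingCat.ofHom
    { toFun := s
      map_one' := hlim.2.1 _ _ fun n => (hs 1 n).trans ((ψ n).hom.map_one.trans (map_one (π n)).symm)
      map_zero' := hlim.2.1 _ _ fun n => (hs 0 n).trans ((ψ n).hom.map_zero.trans (map_zero (π n)).symm)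
      map_add' := fun a b => hlim.2.1 _ _ fun n => by
        rw [map_add, hs, hs, hs]
        exact (ψ n).hom.map_add a b
      map_mul' := fun a b => hlim.2.1 _ _ fun n => by
        rw [map_mul, hs, hs, hs]
        exact (ψ n).hom.map_mul a b }
  have hsR : ∀ n, sR ≫ CommRingCat.ofHom (π n) = ψ n := fun n => CommRingCat.hom_ext (RingHom.ext fun b => hs b n)
  let c : CommRingCat.of A ⟶ Γ(T₀.toScheme, ⊤) := (Scheme.ΓSpecIso _).inv ≫ (T₀.ι ≫ h).appTop
  have hcs : c ≫ sR = 𝟙 _ := by
    refine CommRingCat.hom_ext (RingHom.ext fun a => hlim.2.1 _ _ fun n => ?_)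
    show ((c ≫ sR) ≫ CommRingCat.ofHom (π n)).hom a = π n a
    rw [Category.assoc, hsR]
    simp only [c, ψ, Category.assoc, ← Scheme.Hom.comp_appTop_assoc]
    rw [← Category.assoc (g' n), hg', hg, Scheme.ΓSpecIso_naturality, Iso.inv_hom_id_assoc]
    rfl
  have h0 : ∀ n, g' n ≫ T₀.toScheme.toSpecΓ = Spec.map (CommRingCat.ofHom (π n)) ≫ Spec.map sR := fun n => by
    rw [← Spec.map_comp, hsR, Scheme.toSpecΓ_naturality]
    simp only [ψ, Spec.map_comp]
    rw [SpecMap_ΓSpecIso_hom]
  have hsub : Set.range (Spec.map sR) ⊆ Set.range T₀.toScheme.toSpecΓ := by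
    rintro _ ⟨p, rfl⟩
    obtain ⟨m, hm, hpm⟩ := Ideal.exists_le_maximal p.asIdeal p.isPrime.ne_top
    obtain ⟨y, hy⟩ : (⟨m, hm.isPrime⟩ : PrimeSpectrum A) ∈ Set.range (PrimeSpectrum.comap (π 0)) := by
      rw [range_comap_of_surjective _ _ hπ]
      exact hker m hm
    have hmem : Spec.map sR (⟨m, hm.isPrime⟩ : PrimeSpectrum A) ∈ Set.range T₀.toScheme.toSpecΓ := by
      refine ⟨g' 0 y, ?_⟩
      rw [← Scheme.Hom.comp_apply, h0, Scheme.Hom.comp_apply]
      exact congrArg (Spec.map sR) hy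
    exact ((PrimeSpectrum.le_iff_specializes p ⟨m, hm.isPrime⟩).1 hpm).map (Spec.map sR).continuous |>.mem_open
      T₀.toScheme.toSpecΓ.isOpenEmbedding.isOpen_range hmem
  let γ := IsOpenImmersion.lift T₀.toScheme.toSpecΓ (Spec.map sR) hsub
  have hγ : γ ≫ T₀.ι ≫ h = 𝟙 _ := by
    have hn : T₀.ι ≫ h = T₀.toScheme.toSpecΓ ≫ Spec.map c := by
      simp only [c, Spec.map_comp, ← Category.assoc]
      rw [← Scheme.toSpecΓ_naturality, Category.assoc, ← SpecMap_ΓSpecIso_hom, ← Spec.map_comp, Iso.inv_hom_id,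
        Spec.map_id, Category.comp_id]
    rw [hn, IsOpenImmersion.lift_fac_assoc, ← Spec.map_comp, hcs, Spec.map_id]
  haveI : IsSplitEpi h := ⟨⟨⟨γ ≫ T₀.ι, by rw [Category.assoc, hγ]⟩⟩⟩
  exact isIso_of_mono_of_isSplitEpi h

end Groth.Agent.S1244
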