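import Groth.Statements.S12440
import Groth.Agent.Lib.DlzTwist27.Exist
-- import your own Groth.Agent.* helpers here

set_option autoImplicit false
universe u
open CategoryTheory
attribute [local instance] HasDerivedCategory.standard
open Dual

namespace Groth.Agent.S12440

/-- Let A be a Noetherian ring whose prime spectrum is connected, and let ω and ω′ be dualizing
complexes for A. Then there exist an invertible A-module P (finite locally free of rank one) and an
integer n such that ω′ ≅ (ω ⊗^L_A P)[n] in D(A); here the total left derived functor − ⊗^L_A P is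
assumed to exist (a true statement carried as a hypothesis). The published statement is for a
connected locally Noetherian scheme; the affine case is stated. -/
theorem result (A : Type u) [CommRing A] [IsNoetherianRing A]
    [ConnectedSpace (PrimeSpectrum A)] (ω ω' : Dual.D A) (hω : Dual.IsDualizing A ω) (hω' : Dual.IsDualizing A ω') :
    ∃ (P : ModuleCat.{u} A) (_ : Module.Invertible A P) (n : ℤ),
      ∀ [DRing.HasLTensor A P], Nonempty (ω' ≅ ((DRing.LTensor A P).obj ω)⟦n⟧) := by
  classical
  haveI : Nonempty (PrimeSpectrum A) := ConnectedSpace.toNonempty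
  obtain ⟨k, hk⟩ := DlzTwist27.exists_pairs hω hω'
  choose s f g hs h1 h2 using hk
  have htop : Ideal.span (Set.range s) = ⊤ := by
    by_contra hne
    obtain ⟨m, hm, hle⟩ := Ideal.exists_le_maximal _ hne
    exact hs ⟨m, hm.isPrime⟩ (hle (Ideal.subset_span ⟨_, rfl⟩))
  obtain ⟨c, hc⟩ := Finsupp.mem_span_range_iff_exists_finsupp.1 ((Ideal.eq_top_iff_one _).1 htop)
  let e := c.support.equivFin.symm
  let f' := fun l => c (e l).1 • f (e l).1
  let g' := fun l => g (e l).1
  let s' := fun l => c (e l).1 * s (e l).1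
  have hsum : ∑ l, s' l = 1 := by
    refine Eq.trans ?_ hc
    show ∑ l, c (e l).1 * s (e l).1 = _
    rw [Finsupp.sum, ← Finset.sum_coe_sort c.support]
    exact Fintype.sum_equiv e _ _ fun l => by simp [smul_eq_mul]
  have hs1 : ∀ l, f' l ≫ g' l = s' l • 𝟙 (ω⟦k⟧) := fun l => by
    show (c _ • f _) ≫ g _ = _
    rw [Linear.smul_comp, h1, smul_smul]
  have hs2 : ∀ l, g' l ≫ f' l = s' l • 𝟙 ω' := fun l => by
    show g _ ≫ (c _ • f _) = _
    rw [Linear.comp_smul, h2, smul_smul]
  have h1' : ∑ l, f' l ≫ g' l = 𝟙 (ω⟦k⟧) := by simp only [hs1, ← Finset.sum_smul, hsum, one_smul]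
  have h2' : ∑ l, g' l ≫ f' l = 𝟙 ω' := by simp only [hs2, ← Finset.sum_smul, hsum, one_smul]
  have hX := (Dlz27.isDualizing_shift hω k).toEnd_bijective
  haveI := DlzTwist27.invertible_hom hX hω'.toEnd_bijective f' g' h1' h2' s' hs1 hs2
  obtain ⟨P, ⟨eP⟩⟩ := DlzTwist27.exists_small_hom f' g' h2' hX
  haveI hP : Module.Invertible A P := Module.Invertible.congr eP.symm
  refine ⟨P, hP, k, ?_⟩
  intro _
  let M := Dlz27.model hω
  obtain ⟨i1⟩ := DlzTwist27.nonempty_iso_twist (DlzTwist27.shiftModel M k) f' g' h2' hX P eP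
  obtain ⟨t⟩ := DlzTwist27.nonempty_lTensor_iso P M.W
  exact ⟨i1 ≪≫ DerivedCategory.Q.mapIso (((DBaseChange.tm P).commShiftIso k).app M.W) ≪≫
    (DerivedCategory.Q.commShiftIso k).app (DlzTwist27.twCx P M.W) ≪≫
    (shiftFunctor (Dual.D A) k).mapIso (t.symm ≪≫ (DRing.LTensor A P).mapIso M.e)⟩

end Groth.Agent.S12440
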