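import Groth.Statements.S12442


set_option autoImplicit false
universe u
open Mor

namespace Groth.Agent.S12442

open AlgebraicGeometry CategoryTheory in
/-- Let f : X → Y and g : Y → S be morphisms of schemes. If the composite X → S is locally of finite
presentation and g is locally of finite type, then f is locally of finite presentation. -/
theorem result {X Y S : Scheme.{u}} (f : X ⟶ Y) (g : Y ⟶ S)
    [LocallyOfFinitePresentation (f ≫ g)] [LocallyOfFiniteType g] :
    LocallyOfFinitePresentation f := by
  rw [HasRingHomProperty.iff_exists_appLE (P := @LocallyOfFinitePresentation)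
    (RingHom.finitePresentation_stableUnderComposition.stableUnderCompositionWithLocalizationAway RingHom.finitePresentation_holdsForLocalizationAway).left]
  · intro x
    obtain ⟨(W : S.Opens), hW, hxW, -⟩ := TopologicalSpace.Opens.isBasis_iff_nbhd.mp
      S.isBasis_affineOpens (TopologicalSpace.Opens.mem_top (g (f x)))
    obtain ⟨(V : Y.Opens), hV, hxV, eV⟩ := TopologicalSpace.Opens.isBasis_iff_nbhd.mp
      Y.isBasis_affineOpens (show f x ∈ g ⁻¹ᵁ W from hxW)
    obtain ⟨(U : X.Opens), hU, hxU, eU⟩ := TopologicalSpace.Opens.isBasis_iff_nbhd.mp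
      X.isBasis_affineOpens (show x ∈ f ⁻¹ᵁ V from hxV)
    refine ⟨⟨V, hV⟩, ⟨U, hU⟩, hxU, eU, ?_⟩
    refine RingHom.FinitePresentation.of_comp_finiteType _ ?_
      (HasRingHomProperty.appLE (P := @LocallyOfFiniteType) g inferInstance ⟨W, hW⟩ ⟨V, hV⟩ eV)
    rw [← CommRingCat.hom_comp, Scheme.Hom.appLE_comp_appLE]
    exact Scheme.Hom.finitePresentation_appLE (f ≫ g) hW hU _

end Groth.Agent.S12442
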