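import Groth.Statements.S12445
import Groth.Agent.Lib.CatenarySch12.Basic

set_option autoImplicit false
set_option backward.isDefEq.respectTransparency.types false
universe u
open CategoryTheory AlgebraicGeometry
open Props

namespace Groth.Agent.S12445

/-- (1) ⇔ (3) ⇔ (4): for a scheme S, the underlying topological space of S is catenary if and only if
the coordinate ring of every affine open of S is a catenary ring, if and only if S is covered by
affine opens with catenary coordinate rings. (Clause (2), openness of catenarity, and the final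
assertion on locally closed subschemes are the topological statement for open coverings and locally
closed subspaces.) -/
theorem result (S : Scheme.{u}) :
    (PtTop.IsCatenarySpace S ↔ ∀ U : S.affineOpens, CAlg.IsCatenary Γ(S, U)) ∧
    (PtTop.IsCatenarySpace S ↔
      ∀ s : S, ∃ U : S.affineOpens, s ∈ (U : S.Opens) ∧ CAlg.IsCatenary Γ(S, U)) := by
  have h1 : PtTop.IsCatenarySpace S → ∀ U : S.affineOpens, CAlg.IsCatenary Γ(S, U) := fun h U =>
    (Groth.Agent.CatenarySch12.isCatenarySpace_affineOpen U).1
      (Groth.Agent.CatenarySch12.isCatenarySpace_opens _ h)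
  have h2 : (∀ U : S.affineOpens, CAlg.IsCatenary Γ(S, U)) →
      ∀ s : S, ∃ U : S.affineOpens, s ∈ (U : S.Opens) ∧ CAlg.IsCatenary Γ(S, U) := fun h s => by
    obtain ⟨U, hU, hsU, -⟩ := exists_isAffineOpen_mem_and_subset (x := s) (U := ⊤) trivial
    exact ⟨⟨U, hU⟩, hsU, h ⟨U, hU⟩⟩
  exact ⟨⟨h1, fun h => Groth.Agent.CatenarySch12.isCatenarySpace_of_cover (h2 h)⟩,
    ⟨fun h => h2 (h1 h), Groth.Agent.CatenarySch12.isCatenarySpace_of_cover⟩⟩

end Groth.Agent.S12445
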