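import Groth.Statements.S1245
import Groth.Agent.Lib.Dev4.ImpurityDescent

set_option autoImplicit false
universe u
open FlatMor
set_option maxSynthPendingDepth 3
set_option backward.isDefEq.respectTransparency.types false
attribute [local instance] Algebra.TensorProduct.rightAlgebra

set_option backward.isDefEq.respectTransparency.types false

namespace Groth.Agent.S1245

/-- Ring form, X = Spec B affine, base change rings affine: let B be a finite type A-algebra, N a finite
B-module and p a prime of A. If there is an impurity of N above p, then there is one whose base
change A → A' is of finite presentation and whose point t is a closed point of the fibre of Spec A'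
over p (the extension of t to the fibre ring is maximal). -/
theorem result {A B : Type u} [CommRing A] [CommRing B] [Algebra A B] [Algebra.FiniteType A B]
    (N : Type u) [AddCommGroup N] [Module B N] [Module.Finite B N] (p : Ideal A) [p.IsPrime]
    (h : FlatCA.HasImpurity A B N p (fun _ _ _ _ => True)) :
    FlatCA.HasImpurity A B N p (fun A' _ _ t => Algebra.FinitePresentation A A' ∧ (FlatCA.fiberIdeal p t).IsMaximal) := by
  obtain ⟨A', B', N', _, _, _, _, _, _, _, _, _, _, _, _, _, _, f, t', t, _, _, P, _, himp, -⟩ := h
  letI : Module A N := Module.compHom N (algebraMap A B)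
  haveI : IsScalarTower A B N := IsScalarTower.of_algebraMap_smul fun _ _ => rfl
  have hd := Groth.Agent.Dev4.hasDatum_of_isImpurity himp
  obtain ⟨-, -, hle, htp, -⟩ := himp
  obtain ⟨A₀, _, _, u', u, _, _, hfp, hle₀, hup, hmax, hd₀⟩ :=
    Groth.Agent.Dev4.exists_fp_closedPoint (p := p) t' t hle htp hd
  obtain ⟨P₀, hP₀, himp₀⟩ := Groth.Agent.Dev4.hasImpurity_of_hasDatum u' u hle₀ hup hd₀
  exact ⟨A₀, TensorProduct A A₀ B, TensorProduct B (TensorProduct A A₀ B) N, inferInstance, inferInstance, inferInstance,
    inferInstance, inferInstance, inferInstance, inferInstance, inferInstance, inferInstance, inferInstance, inferInstance,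
    inferInstance, inferInstance, inferInstance, TensorProduct.mk B (TensorProduct A A₀ B) N 1, u', u, inferInstance,
    inferInstance, P₀, hP₀, himp₀, hfp, hmax⟩

end Groth.Agent.S1245
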