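import Groth.Statements.S12452
import Mathlib.Topology.Sheaves.SheafCondition.UniqueGluing

set_option autoImplicit false
universe u
open CategoryTheory TopologicalSpace Opposite
open ShSp

namespace Groth.Agent.S12452

/-- For sheaves of sets, let f : X → Y be a continuous map, F a sheaf of sets on X, G a sheaf of sets on
Y, and B_X, B_Y bases for the topologies of X and Y. Suppose given, for every V in B_Y and U in B_X
with U ⊆ f⁻¹V, a map φ_V^U : G(V) → F(U), compatibly with restrictions. Then there is exactly one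
morphism of sheaves ψ : G → f_*F (an f-map G → F) such that G(V) → F(f⁻¹V) → F(U) equals φ_V^U for
every such pair. -/
theorem result {X Y : TopCat.{u}} (f : X ⟶ Y) (F : X.Sheaf (Type u)) (G : Y.Sheaf (Type u))
    {BX : Set (Opens X)} (hBX : Opens.IsBasis BX) {BY : Set (Opens Y)} (hBY : Opens.IsBasis BY)
    (φ : ∀ (V : BY) (U : BX), (U : Opens X) ≤ (Opens.map f).obj V →
      (G.presheaf.obj (op (V : Opens Y)) → F.presheaf.obj (op (U : Opens X))))
    (hφ : ∀ (V V' : BY) (U U' : BX) (hUV : (U : Opens X) ≤ (Opens.map f).obj V)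
      (hU'V' : (U' : Opens X) ≤ (Opens.map f).obj V') (hV : (V' : Opens Y) ≤ V) (hU : (U' : Opens X) ≤ U)
      (s : G.presheaf.obj (op (V : Opens Y))),
      F.presheaf.map (homOfLE hU).op (φ V U hUV s) = φ V' U' hU'V' (G.presheaf.map (homOfLE hV).op s)) :
    ∃! ψ : G ⟶ (TopCat.Sheaf.pushforward (Type u) f).obj F,
      ∀ (V : BY) (U : BX) (hUV : (U : Opens X) ≤ (Opens.map f).obj V) (s : G.presheaf.obj (op (V : Opens Y))),
        F.presheaf.map (homOfLE hUV).op (ψ.1.app (op (V : Opens Y)) s) = φ V U hUV s := by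
  classical
  -- index: pairs of basic opens below a given open
  let K : Opens Y → Type u := fun W => {p : BY × BX // (p.1 : Opens Y) ≤ W ∧ (p.2 : Opens X) ≤ (Opens.map f).obj p.1}
  have hle : ∀ (W : Opens Y) (k : K W), (k.1.2 : Opens X) ≤ (Opens.map f).obj W := fun W k x hx => k.2.1 (k.2.2 hx)
  have hpair : ∀ (W : Opens Y) (O : Opens X) (x : X), f x ∈ W → x ∈ O → ∃ k : K W, x ∈ (k.1.2 : Opens X) ∧ (k.1.2 : Opens X) ≤ O := by
    intro W O x hfx hx
    obtain ⟨V, hV, hxV, hVW⟩ := Opens.isBasis_iff_nbhd.1 hBY hfx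
    obtain ⟨U, hU, hxU, hUW⟩ := Opens.isBasis_iff_nbhd.1 hBX (U := O ⊓ (Opens.map f).obj V) (x := x) ⟨hx, hxV⟩
    exact ⟨⟨⟨⟨V, hV⟩, ⟨U, hU⟩⟩, hVW, hUW.trans inf_le_right⟩, hxU, hUW.trans inf_le_left⟩
  have hcov : ∀ W : Opens Y, (Opens.map f).obj W ≤ ⨆ k : K W, (k.1.2 : Opens X) := fun W x hx => by
    obtain ⟨k, hk, -⟩ := hpair W ⊤ x hx (Set.mem_univ x)
    exact Opens.mem_iSup.2 ⟨k, hk⟩
  have rr : ∀ {A B C : Opens X} (h : B ≤ A) (h' : C ≤ B) (t : F.presheaf.obj (op A)),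
      F.presheaf.map (homOfLE h').op (F.presheaf.map (homOfLE h).op t) = F.presheaf.map (homOfLE (h'.trans h)).op t :=
    fun h h' t => (CategoryTheory.congr_fun (F.presheaf.map_comp (homOfLE h).op (homOfLE h').op) t).symm
  have rg : ∀ {A B C : Opens Y} (h : B ≤ A) (h' : C ≤ B) (t : G.presheaf.obj (op A)),
      G.presheaf.map (homOfLE h').op (G.presheaf.map (homOfLE h).op t) = G.presheaf.map (homOfLE (h'.trans h)).op t :=
    fun h h' t => (CategoryTheory.congr_fun (G.presheaf.map_comp (homOfLE h).op (homOfLE h').op) t).symm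
  have hglue : ∀ (W : Opens Y) (s : G.presheaf.obj (op W)), ∃! t : F.presheaf.obj (op ((Opens.map f).obj W)),
      ∀ k : K W, F.presheaf.map (homOfLE (hle W k)).op t = φ k.1.1 k.1.2 k.2.2 (G.presheaf.map (homOfLE k.2.1).op s) := by
    intro W s
    refine F.existsUnique_gluing' (fun k : K W => (k.1.2 : Opens X)) _ (fun k => homOfLE (hle W k)) (hcov W) _ fun k l => ?_
    let KK := {m : K (k.1.1 ⊓ l.1.1 : Opens Y) // (m.1.2 : Opens X) ≤ (k.1.2 : Opens X) ⊓ (l.1.2 : Opens X)}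
    refine F.eq_of_locally_eq' (fun m : KK => (m.1.1.2 : Opens X)) _ (fun m => homOfLE m.2) (fun x hx => ?_) _ _ fun m => ?_
    · obtain ⟨m, hxm, hm⟩ := hpair (k.1.1 ⊓ l.1.1 : Opens Y) ((k.1.2 : Opens X) ⊓ (l.1.2 : Opens X)) x ⟨k.2.2 hx.1, l.2.2 hx.2⟩ hx
      exact Opens.mem_iSup.2 ⟨⟨m, hm⟩, hxm⟩
    · obtain ⟨⟨⟨V3, U3⟩, hV3, hU3⟩, hm⟩ := m
      refine (rr _ _ _).trans (Eq.trans ?_ (rr _ _ _).symm)
      refine (hφ k.1.1 V3 k.1.2 U3 k.2.2 hU3 (hV3.trans inf_le_left) (hm.trans inf_le_left) _).trans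
        (Eq.trans ?_ (hφ l.1.1 V3 l.1.2 U3 l.2.2 hU3 (hV3.trans inf_le_right) (hm.trans inf_le_right) _).symm)
      rw [rg, rg]
  choose g hg hgu using hglue
  refine ⟨⟨{ app := fun W => ↾(g W.unop), naturality := ?_ }⟩, ?_, ?_⟩
  · intro W₁ W₂ i
    ext s
    refine (hgu W₂.unop _ _ fun k => ?_).symm
    let k' : K W₁.unop := ⟨k.1, k.2.1.trans i.unop.le, k.2.2⟩
    refine (rr (A := (Opens.map f).obj W₁.unop) (B := (Opens.map f).obj W₂.unop) (fun x hx => i.unop.le hx) (hle W₂.unop k) (g W₁.unop s)).trans ((hg W₁.unop s k').trans ?_)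
    exact congrArg _ (rg i.unop.le k.2.1 s).symm
  · intro V U hUV s
    refine (hg (V : Opens Y) s ⟨⟨V, U⟩, le_rfl, hUV⟩).trans (congrArg _ ?_)
    exact CategoryTheory.congr_fun (G.presheaf.map_id _) s
  · intro ψ hψ
    apply ObjectProperty.hom_ext
    ext W s
    induction W with | op W => ?_
    refine hgu W _ _ fun k => ?_
    have := CategoryTheory.congr_fun (ψ.1.naturality (homOfLE k.2.1).op) s
    rw [← hψ k.1.1 k.1.2 k.2.2]
    refine (rr (A := (Opens.map f).obj W) (B := (Opens.map f).obj k.1.1) (fun x hx => k.2.1 hx) k.2.2 _).symm.trans ?_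
    exact congrArg _ this.symm

end Groth.Agent.S12452
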