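import Groth.Statements.S12454


set_option autoImplicit false
universe u
open CategoryTheory AlgebraicGeometry
open FlatMor

set_option backward.isDefEq.respectTransparency.types false

namespace Groth.Agent.S12454

/-- A composition of formally étale morphisms of schemes is formally étale (formally étale meaning:
unique lifting in every solid commutative square whose left side is a square-zero thickening
Spec(A/I) → Spec(A) of affine schemes). -/
theorem result {X Y Z : Scheme.{u}} (f : X ⟶ Y) (g : Y ⟶ Z)
    (hf : MoreMor.IsFormallyEtaleHom f) (hg : MoreMor.IsFormallyEtaleHom g) :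
    MoreMor.IsFormallyEtaleHom (f ≫ g) := by
  intro A _ I hI a b hb
  obtain ⟨m, ⟨hm1, hm2⟩, hmu⟩ := hg A I hI (a ≫ f) b (by rw [hb, Category.assoc])
  obtain ⟨l, ⟨hl1, hl2⟩, hlu⟩ := hf A I hI a m hm1
  refine ⟨l, ⟨hl1, by rw [reassoc_of% hl2, hm2]⟩, fun l' ⟨h1, h2⟩ => hlu l' ⟨h1, ?_⟩⟩
  exact hmu (l' ≫ f) ⟨by rw [reassoc_of% h1], by rw [Category.assoc, h2]⟩

end Groth.Agent.S12454
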