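import Groth.Statements.S12459
import Groth.Agent.Lib.CatenarySch12.Basic
import Groth.Agent.S0553
import Groth.Agent.S9126
import Mathlib.AlgebraicGeometry.Morphisms.FiniteType

set_option autoImplicit false
set_option backward.isDefEq.respectTransparency.types false
universe u
open CategoryTheory AlgebraicGeometry
open Props

namespace Groth.Agent.S12459

/-- For a locally Noetherian scheme S, the scheme S is universally catenary — every scheme X locally of
finite type over S has catenary underlying topological space — if and only if all local rings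
O_{S,s} are universally catenary rings. (Schemes X over S are taken in the universe of S.) -/
theorem result (S : Scheme.{u}) [IsLocallyNoetherian S] :
    (∀ (X : Scheme.{u}) (f : X ⟶ S), LocallyOfFiniteType f → PtTop.IsCatenarySpace X) ↔
      ∀ s : S, CAlg.IsUniversallyCatenary (S.presheaf.stalk s) := by
  constructor
  · intro h s
    obtain ⟨U, hU, hsU, -⟩ := exists_isAffineOpen_mem_and_subset (x := s) (U := ⊤) trivial
    have hUC : CAlg.IsUniversallyCatenary Γ(S, U) := by
      refine ⟨IsLocallyNoetherian.component_noetherian ⟨U, hU⟩, fun B _ _ hB => ?_⟩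
      let g : Spec (CommRingCat.of B) ⟶ S :=
        Spec.map (CommRingCat.ofHom (algebraMap Γ(S, U) B)) ≫ hU.fromSpec
      haveI : LocallyOfFiniteType (Spec.map (CommRingCat.ofHom (algebraMap Γ(S, U) B))) :=
        (HasRingHomProperty.Spec_iff (P := @LocallyOfFiniteType)).2
          (RingHom.finiteType_algebraMap.2 hB)
      exact (Groth.Agent.CatenarySch12.isCatenarySpace_spec B).1 (h _ g inferInstance)
    letI := S.presheaf.algebra_section_stalk ⟨s, hsU⟩
    haveI := hU.isLocalization_stalk ⟨s, hsU⟩
    haveI : Algebra.EssFiniteType Γ(S, U) (S.presheaf.stalk s) :=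
      Algebra.EssFiniteType.of_isLocalization _ (hU.primeIdealOf ⟨s, hsU⟩).asIdeal.primeCompl
    exact Groth.Agent.S9126.result Γ(S, U) _ hUC
  · intro h X f hf
    refine Groth.Agent.CatenarySch12.isCatenarySpace_of_cover fun x => ?_
    obtain ⟨U, hU, hxU, -⟩ := exists_isAffineOpen_mem_and_subset (x := f x) (U := ⊤) trivial
    obtain ⟨V, hV, hxV, hVU⟩ := exists_isAffineOpen_mem_and_subset (x := x) (U := f ⁻¹ᵁ U) hxU
    haveI : IsNoetherianRing Γ(S, U) := IsLocallyNoetherian.component_noetherian ⟨U, hU⟩
    have hUC : CAlg.IsUniversallyCatenary Γ(S, U) := by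
      refine (Groth.Agent.S0553.result _).2 fun m hm => ?_
      let y : PrimeSpectrum Γ(S, U) := ⟨m, hm.isPrime⟩
      have hy : hU.fromSpec y ∈ U := by
        rw [← SetLike.mem_coe, ← hU.range_fromSpec]
        exact ⟨y, rfl⟩
      letI := S.presheaf.algebra_section_stalk (U := U) ⟨hU.fromSpec y, hy⟩
      haveI : IsLocalization.AtPrime (S.presheaf.stalk (hU.fromSpec y)) m := hU.isLocalization_stalk' y hy
      let e := IsLocalization.algEquiv m.primeCompl (S.presheaf.stalk (hU.fromSpec y))
        (Localization.AtPrime m)
      letI : Algebra (S.presheaf.stalk (hU.fromSpec y)) (Localization.AtPrime m) :=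
        e.toRingEquiv.toRingHom.toAlgebra
      haveI : Algebra.FiniteType (S.presheaf.stalk (hU.fromSpec y)) (Localization.AtPrime m) :=
        RingHom.finiteType_algebraMap.1 (RingHom.FiniteType.of_surjective _ e.surjective)
      exact Groth.Agent.S9126.result (S.presheaf.stalk (hU.fromSpec y)) _ (h _)
    have hft := f.finiteType_appLE hU hV hVU
    algebraize [(f.appLE U V hVU).hom]
    exact ⟨⟨V, hV⟩, hxV, hUC.2 _ inferInstance⟩

end Groth.Agent.S12459
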