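import Groth.Statements.S1246
import Groth.Agent.Lib.Dev4.ImpurityQuasiFinite

set_option autoImplicit false
universe u
open FlatMor
set_option maxSynthPendingDepth 3
set_option backward.isDefEq.respectTransparency.types false
attribute [local instance] Algebra.TensorProduct.rightAlgebra

set_option backward.isDefEq.respectTransparency.types false

namespace Groth.Agent.S1246

/-- Ring form, X = Spec B affine: let B be a finite type A-algebra, N a finite B-module and p a prime of
A. If there is an impurity of N above p whose base change A → A' is of finite type and quasi-finite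
at the point t, then there is an impurity of N above p for which (A', t) is an elementary étale ring
map at p. -/
theorem result {A B : Type u} [CommRing A] [CommRing B] [Algebra A B] [Algebra.FiniteType A B]
    (N : Type u) [AddCommGroup N] [Module B N] [Module.Finite B N] (p : Ideal A) [p.IsPrime]
    (h : FlatCA.HasImpurity A B N p (fun A' _ _ t => ∃ _ : t.IsPrime, Algebra.FiniteType A A' ∧ Algebra.QuasiFiniteAt A t)) :
    FlatCA.HasImpurity A B N p (fun A' _ _ t => ∃ _ : t.IsPrime, FlatCA.IsEtaleNhd A A' p t) := by
  obtain ⟨A', B', N', _, _, _, _, _, _, _, _, _, _, _, _, _, _, f, t', t, _, _, P, _, himp, _, hft, hqf⟩ := h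
  letI : Module A N := Module.compHom N (algebraMap A B)
  haveI : IsScalarTower A B N := IsScalarTower.of_algebraMap_smul fun _ _ => rfl
  haveI := hft
  haveI := hqf
  have hd := Groth.Agent.Dev4.hasDatum_of_isImpurity himp
  obtain ⟨-, -, hle, htp, -⟩ := himp
  haveI := htp
  obtain ⟨A₀, _, _, u', u, _, _, hnhd, hle₀, hd₀⟩ :=
    Groth.Agent.Dev4.exists_etaleNhd_datum (p := p) t' t hle hd
  obtain ⟨P₀, hP₀, himp₀⟩ := Groth.Agent.Dev4.hasImpurity_of_hasDatum u' u hle₀ hnhd.2.choose hd₀
  exact ⟨A₀, TensorProduct A A₀ B, TensorProduct B (TensorProduct A A₀ B) N, inferInstance, inferInstance, inferInstance,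
    inferInstance, inferInstance, inferInstance, inferInstance, inferInstance, inferInstance, inferInstance, inferInstance,
    inferInstance, inferInstance, inferInstance, TensorProduct.mk B (TensorProduct A A₀ B) N 1, u', u, inferInstance,
    inferInstance, P₀, hP₀, himp₀, inferInstance, hnhd⟩

end Groth.Agent.S1246
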