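import Groth.Statements.S12461
import Groth.Agent.Lib.QCoh8.Main
import Groth.Agent.Lib.ModM1.Push
import Groth.Agent.Lib.ClImmProj14.Derived
-- import your own Groth.Agent.* helpers here

set_option autoImplicit false
set_option linter.style.haveILetI false
set_option backward.isDefEq.respectTransparency false
universe u
open CategoryTheory AlgebraicGeometry
open QCohSub
open CategoryTheory CategoryTheory.Limits

namespace Groth.Agent.S12461

/-- Let i : Z → X be a closed immersion of schemes. The functor i_* : QCoh(O_Z) → QCoh(O_X) has a right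
adjoint i^! : QCoh(O_X) → QCoh(O_Z). Stated as: there is a functor L between the full subcategories
of quasi-coherent modules which agrees with i_* after the inclusion into all O_X-modules (this
determines L up to isomorphism, the inclusion being fully faithful) and which is a left adjoint. -/
theorem result {Z X : Scheme.{u}} (i : Z ⟶ X) [IsClosedImmersion i] :
    ∃ L : QCohCat.QCoh Z ⥤ QCohCat.QCoh X,
      Nonempty (L ⋙ (QCohCat.isQCoh X).ι ≅ (QCohCat.isQCoh Z).ι ⋙ Coh.push i) ∧ L.IsLeftAdjoint := by
  haveI : QuasiCompact i := inferInstance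
  haveI : QuasiSeparated i := inferInstance
  let L := (QCohCat.isQCoh X).lift ((QCohCat.isQCoh Z).ι ⋙ Coh.push i)
    (fun M => Agent.M1.isQCoh_push i M.property)
  refine ⟨L, ⟨(QCohCat.isQCoh X).liftCompιIso _ _⟩, ?_⟩
  haveI : (Scheme.Modules.pushforward i).IsLeftAdjoint := Agent.ClImmProj14.isLeftAdjoint_push i
  haveI : PreservesColimitsOfSize.{u, u} (Scheme.Modules.pushforward i) :=
    (Adjunction.ofIsLeftAdjoint (Scheme.Modules.pushforward i)).leftAdjoint_preservesColimits
  haveI : PreservesColimitsOfSize.{u, u} L := ⟨fun {J} _ => by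
    haveI : PreservesColimitsOfShape J (L ⋙ (QCohCat.isQCoh X).ι) :=
      preservesColimitsOfShape_of_natIso ((QCohCat.isQCoh X).liftCompιIso _ _).symm
    exact preservesColimitsOfShape_of_reflects_of_preserves L (QCohCat.isQCoh X).ι⟩
  exact Agent.QCoh8.isLeftAdjoint_of_preservesColimits Z L

end Groth.Agent.S12461
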