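import Groth.Statements.S12462
import Groth.Agent.Lib.PtSet.SpectralLimit

set_option autoImplicit false
universe u
open CategoryTheory CategoryTheory.Limits
open SpecSp

namespace Groth.Agent.S12462

/-- A spectral space is a directed inverse limit of finite sober topological spaces. Precisely: for X
spectral there exist a nonempty directed preordered index set J, a functor from the opposite of J to
topological spaces whose values are finite sober (T0, every irreducible closed subset has a generic
point) spaces, and a limit cone of it whose vertex is isomorphic to X. -/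
theorem result (X : Type u) [TopologicalSpace X] [SpectralSpace X] :
    ∃ (J : Type u) (_ : Preorder J) (_ : Nonempty J) (_ : IsDirected J (· ≤ ·)) (F : Jᵒᵖ ⥤ TopCat.{u})
      (c : Cone F), Nonempty (IsLimit c) ∧
        (∀ j : Jᵒᵖ, Finite (F.obj j) ∧ T0Space (F.obj j) ∧ QuasiSober (F.obj j)) ∧
        Nonempty (c.pt ≅ TopCat.of X) := by
  classical
  let B := {U : Set X // IsOpen U ∧ IsCompact U}
  let f : ∀ s : Finset B, X → ((↥s) → Prop) := fun s x U ↦ x ∈ U.1.1
  have hf : ∀ s, Continuous (f s) := fun s ↦ continuous_pi fun U ↦ continuous_Prop.2 U.1.2.1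
  haveI hpT0 : ∀ s : Finset B, T0Space ((↥s) → Prop) := fun s ↦
    ⟨fun a b hab ↦ funext fun i ↦ propext
      (hab.mem_open_iff (continuous_Prop.1 (continuous_apply i)))⟩
  let res : ∀ {s t : Finset B}, s ⊆ t → Set.range (f t) → Set.range (f s) := fun {s t} h a ↦
    ⟨fun U ↦ a.1 ⟨U.1, h U.2⟩, by obtain ⟨x, hx⟩ := a.2; exact ⟨x, by rw [← hx]⟩⟩
  have hres : ∀ {s t : Finset B} (h : s ⊆ t), Continuous (res h) := fun {s t} h ↦
    Continuous.subtype_mk (f := fun (a : Set.range (f t)) (U : ↥s) ↦ a.1 ⟨U.1, h U.2⟩)
      (continuous_pi fun U ↦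
        (continuous_apply (⟨U.1, h U.2⟩ : ↥t)).comp continuous_subtype_val) _
  let F : (Finset B)ᵒᵖ ⥤ TopCat.{u} :=
    { obj := fun s ↦ TopCat.of (Set.range (f s.unop))
      map := fun {s t} h ↦ TopCat.ofHom ⟨res (leOfHom h.unop), hres _⟩
      map_id := fun s ↦ rfl
      map_comp := fun a b ↦ rfl }
  let πX : ∀ s : (Finset B)ᵒᵖ, TopCat.of X ⟶ F.obj s := fun s ↦ TopCat.ofHom
    ⟨fun x ↦ ⟨f s.unop x, x, rfl⟩, (hf _).subtype_mk _⟩
  let c : Cone F := { pt := TopCat.of X, π := { app := πX, naturality := fun s t h ↦ rfl } }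
  refine ⟨Finset B, inferInstance, inferInstance, inferInstance, F, c, ?_, ?_, ⟨Iso.refl _⟩⟩
  · let l : c.pt ⟶ (TopCat.limitCone F).pt := (TopCat.limitConeIsLimit F).lift c
    have hl : ∀ (x : X) (s : (Finset B)ᵒᵖ) (U : ↥s.unop), ((l x).1 s).1 U ↔ x ∈ U.1.1 :=
      fun x s U ↦ Iff.rfl
    have hbij : Function.Bijective l := by
      refine ⟨fun (x : X) (y : X) hxy ↦ by_contra fun hne ↦ ?_, fun z ↦ ?_⟩
      · obtain ⟨U, hU, hUc, h⟩ := Groth.Agent.PtSet.exists_compactOpen_separating hne
        have h1 := hl x (Opposite.op {⟨U, hU, hUc⟩}) ⟨⟨U, hU, hUc⟩, Finset.mem_singleton_self _⟩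
        have h2 := hl y (Opposite.op {⟨U, hU, hUc⟩}) ⟨⟨U, hU, hUc⟩, Finset.mem_singleton_self _⟩
        rw [hxy, h2] at h1
        simp only at h1
        tauto
      · let fib : Finset B → Set X := fun s ↦ {x | f s x = (z.1 (Opposite.op s)).1}
        have hne : ∀ s, (fib s).Nonempty := fun s ↦
          let ⟨x, hx⟩ := (z.1 (Opposite.op s)).2; ⟨x, hx⟩
        have hmono : ∀ {s t : Finset B}, s ⊆ t → fib t ⊆ fib s := by
          intro s t hst x hx
          have h2 : res hst (z.1 (Opposite.op t)) = z.1 (Opposite.op s) :=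
            z.2 (homOfLE hst).op
          funext U
          rw [← h2]
          exact congrFun hx ⟨U.1, hst U.2⟩
        have hcl : ∀ s, IsClosed (Groth.Agent.PtSet.toPatch (fib s)) := by
          intro s
          have e : fib s = ⋂ U : ↥s, (if (z.1 (Opposite.op s)).1 U then U.1.1 else U.1.1ᶜ) := by
            ext x
            simp only [fib, Set.mem_ofPred_eq, Set.mem_iInter, funext_iff, f, eq_iff_iff]
            refine forall_congr' fun U ↦ ?_
            split_ifs with h <;> simp [h]
          rw [e, Groth.Agent.PtSet.toPatch, Set.preimage_iInter]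
          refine isClosed_iInter fun U ↦ ?_
          have hU := Groth.Agent.PtSet.isClopen_toPatch U.1.2.1 U.1.2.2
          split_ifs
          · exact hU.1
          · exact hU.2.isClosed_compl
        obtain ⟨a, ha⟩ := IsCompact.nonempty_iInter_of_directed_nonempty_isCompact_isClosed
          (fun s ↦ Groth.Agent.PtSet.toPatch (fib s))
          (fun s t ↦ ⟨s ∪ t, fun a ha ↦ hmono Finset.subset_union_left ha,
            fun a ha ↦ hmono Finset.subset_union_right ha⟩)
          (fun s ↦ let ⟨x, hx⟩ := hne s; ⟨WithTopology.toTopology _ x, hx⟩)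
          (fun s ↦ (hcl s).isCompact) hcl
        refine ⟨a.ofTopology, Subtype.ext (funext fun s ↦ Subtype.ext ?_)⟩
        exact Set.mem_iInter.1 ha s.unop
    have hind : Topology.IsInducing l := by
      refine ⟨le_antisymm (continuous_iff_le_induced.1 l.hom.continuous) ?_⟩
      conv_rhs => rw [(PrespectralSpace.isTopologicalBasis (X := X)).eq_generateFrom]
      refine le_generateFrom fun U hU ↦ ?_
      refine isOpen_induced_iff.2 ⟨{z | (z.1 (Opposite.op {⟨U, hU⟩})).1
        ⟨⟨U, hU⟩, Finset.mem_singleton_self _⟩}, ?_, Set.ext fun x ↦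
          hl x (Opposite.op {⟨U, hU⟩}) ⟨⟨U, hU⟩, Finset.mem_singleton_self _⟩⟩
      exact continuous_Prop.1 ((continuous_apply _).comp (continuous_subtype_val.comp
        ((continuous_apply _).comp continuous_subtype_val)))
    have hhomeo : IsHomeomorph l := by
      rw [isHomeomorph_iff_isEmbedding_surjective]
      exact ⟨⟨hind, hbij.1⟩, hbij.2⟩
    have : IsIso l := TopCat.isIso_of_bijective_of_isOpenMap l hbij hhomeo.isOpenMap
    exact ⟨IsLimit.ofPointIso (t := c) (TopCat.limitConeIsLimit F)⟩
  · intro s
    haveI : Finite ((↥s.unop) → Prop) := inferInstance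
    haveI : Finite (Set.range (f s.unop)) := inferInstance
    haveI : T0Space (Set.range (f s.unop)) := inferInstance
    refine ⟨inferInstanceAs (Finite (Set.range (f s.unop))),
      inferInstanceAs (T0Space (Set.range (f s.unop))), ?_⟩
    letI : TopologicalSpace (Set.range (f s.unop)) := inferInstance
    haveI : CompactSpace (Set.range (f s.unop)) := Finite.compactSpace
    exact (Groth.Agent.PtSet.spectralSpace_of_patch (X := Set.range (f s.unop))
      (P := WithTopology (Set.range (f s.unop)) ⊥) (WithTopology.ofTopology_surjective _)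
      TopologicalSpace.isTopologicalBasis_opens
      (fun U _ ↦ by
        haveI : DiscreteTopology (WithTopology (Set.range (f s.unop)) ⊥) :=
          discreteTopology_iff_forall_isOpen.2 fun V ↦ (WithTopology.isOpen_iff _).2 trivial
        exact isClopen_discrete _)).toQuasiSober

end Groth.Agent.S12462
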