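import Groth.Prelude.Def_Curv2
import Groth.Prelude.Def_Brnch
import Groth.Prelude.Def_Found
import Mathlib.RingTheory.Henselian
import Mathlib.FieldTheory.IsSepClosed
import Mathlib.RingTheory.DiscreteValuationRing.Basic
import Mathlib.RingTheory.KrullDimension.Basic
import Groth.Agent.Lib.WedgeDVR3
-- import your own Groth.Agent.* helpers here

namespace Variety
end Variety

set_option autoImplicit false
universe u
open Variety

namespace Groth.Agent.S12463

/-- Let (A, m) be a strictly henselian reduced Nagata local ring of dimension one with δ-invariant equal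
to the number of geometric branches minus one, and A' the integral closure of A in its total ring of
fractions. Then A is a wedge of discrete valuation rings: for every maximal ideal m' of A' the
localization A'_{m'} is a discrete valuation ring whose residue field is the image of A, and A
consists exactly of the elements of A' congruent to an element of A modulo every maximal ideal of A'
(the displayed inclusion; the reverse inclusion is trivial). (The inequality δ ≥ branches − 1 of the
published statement holds for every reduced Nagata local ring of dimension one and is not restated.) -/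
theorem result (A : Type u) [CommRing A] [HenselianLocalRing A]
    [IsSepClosed (IsLocalRing.ResidueField A)] [IsReduced A] (hN : CAlg.IsNagata A) (hdim : ringKrullDim A = 1)
    (heq : Curv2.deltaInv A + 1 = Brnch.numGeomBranches A) :
    (∀ m' : MaximalSpectrum ↥(integralClosure A (FractionRing A)),
        (∃ _ : IsDomain (Localization.AtPrime m'.asIdeal), IsDiscreteValuationRing (Localization.AtPrime m'.asIdeal)) ∧
        Function.Surjective (⇑(IsLocalRing.residue (Localization.AtPrime m'.asIdeal)) ∘
          ⇑(algebraMap ↥(integralClosure A (FractionRing A)) (Localization.AtPrime m'.asIdeal)) ∘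
          ⇑(algebraMap A ↥(integralClosure A (FractionRing A))))) ∧
    ∀ a' : ↥(integralClosure A (FractionRing A)),
      (∃ a : A, ∀ m' : MaximalSpectrum ↥(integralClosure A (FractionRing A)),
          a' - algebraMap A _ a ∈ m'.asIdeal) →
      a' ∈ (algebraMap A ↥(integralClosure A (FractionRing A))).range := by
  haveI : IsLocalRing A := inferInstance
  have hw := Groth.Agent.WedgeDVR3.wedge A hN hdim heq
  refine ⟨fun m' => ⟨Groth.Agent.WedgeDVR3.dvr A hN hdim m', fun y => ?_⟩, hw.2⟩
  obtain ⟨x, rfl⟩ := IsLocalRing.residue_surjective y
  obtain ⟨⟨b, s⟩, hb⟩ := IsLocalization.surj m'.asIdeal.primeCompl x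
  obtain ⟨a1, ha1⟩ := hw.1 m' (Ideal.Quotient.mk _ b)
  obtain ⟨a2, ha2⟩ := hw.1 m' (Ideal.Quotient.mk _ (s : integralClosure A (FractionRing A)))
  let g := algebraMap (integralClosure A (FractionRing A)) (Localization.AtPrime m'.asIdeal)
  let R := IsLocalRing.residue (Localization.AtPrime m'.asIdeal)
  have key : ∀ u v, Ideal.Quotient.mk m'.asIdeal u = Ideal.Quotient.mk m'.asIdeal v → R (g u) = R (g v) := by
    intro u v h
    rw [Ideal.Quotient.mk_eq_mk_iff_sub_mem] at h
    rw [← sub_eq_zero, ← map_sub R, show g u - g v = g (u - v) from (map_sub g u v).symm, IsLocalRing.residue_eq_zero_iff, ← Localization.AtPrime.map_eq_maximalIdeal]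
    exact Ideal.mem_map_of_mem _ h
  have hu : a2 ∉ IsLocalRing.maximalIdeal A := fun hm => s.2 (by
    have h0 : algebraMap A (integralClosure A (FractionRing A)) a2 ∈ m'.asIdeal := by
      rw [← Ideal.mem_comap, IsLocalRing.eq_maximalIdeal (Ideal.isMaximal_comap_of_isIntegral_of_isMaximal (R := A) m'.asIdeal)]
      exact hm
    show (s : integralClosure A (FractionRing A)) ∈ m'.asIdeal
    rw [← Ideal.Quotient.eq_zero_iff_mem, ← ha2]
    exact Ideal.Quotient.eq_zero_iff_mem.2 h0)
  obtain ⟨w, hw2⟩ := (IsLocalRing.notMem_maximalIdeal.1 hu).exists_left_inv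
  refine ⟨a1 * w, ?_⟩
  show R (g (algebraMap A _ (a1 * w))) = R x
  have e1 := key _ _ ha1
  have e2 := key _ _ ha2
  have hsu : IsUnit (R (g s)) := (IsLocalization.map_units _ s).map R
  refine hsu.mul_right_cancel ?_
  rw [← map_mul R x, hb, ← e2]
  change _ = R (g b)
  rw [← e1, ← map_mul R, ← map_mul g, ← map_mul, mul_assoc, hw2, mul_one]

end Groth.Agent.S12463
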