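import Groth.Statements.S12464
import Groth.Agent.Lib.BigSite16.BaseChange

set_option autoImplicit false
universe v' u' u
open CategoryTheory AlgebraicGeometry
open BigSite

namespace Groth.Agent.S12464
set_option linter.style.haveILetI false
set_option backward.isDefEq.respectTransparency false
set_option backward.isDefEq.respectTransparency.types false


/-- Let g' : T' → T, f' : T' → S', f : T → S, g : S' → S be a cartesian square of schemes. Then g_big⁻¹
∘ f_big,* ≅ f'_big,* ∘ g'_big⁻¹ as functors from sheaves on Sch/T to sheaves on Sch/S', both for the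
big Zariski sites and for the big étale sites. (Existence of natural isomorphisms; the published one
sends both sides to U' ↦ F(U' ×_{S'} T').) -/
theorem result {S T S' T' : Scheme.{u}} (f : T ⟶ S) (g : S' ⟶ S) (g' : T' ⟶ T) (f' : T' ⟶ S') (hsq : IsPullback g' f' f g)
    (A : Type u') [Category.{v'} A] :
    Nonempty (BigSite.pushBig Scheme.zariskiPrecoverage f A ⋙ BigSite.pullBig Scheme.zariskiPrecoverage g A ≅
        BigSite.pullBig Scheme.zariskiPrecoverage g' A ⋙ BigSite.pushBig Scheme.zariskiPrecoverage f' A) ∧
      Nonempty (BigSite.pushBig Scheme.etalePrecoverage f A ⋙ BigSite.pullBig Scheme.etalePrecoverage g A ≅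
        BigSite.pullBig Scheme.etalePrecoverage g' A ⋙ BigSite.pushBig Scheme.etalePrecoverage f' A) := by
  exact ⟨⟨Groth.Agent.BigSite16.pullPushIso hsq Scheme.zariskiPrecoverage A⟩,
    ⟨Groth.Agent.BigSite16.pullPushIso hsq Scheme.etalePrecoverage A⟩⟩

end Groth.Agent.S12464
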