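import Groth.Statements.S12469
import Groth.Agent.Lib.VeryAmple11.Ops

set_option autoImplicit false
universe u
open CategoryTheory CategoryTheory.Limits AlgebraicGeometry TopologicalSpace Opposite
open scoped HomogeneousIdeal
open EGA2

namespace Groth.Agent.S12469

/-- Let q : X → Y be a morphism of schemes, L an invertible O_X-module and K an invertible O_Y-module.
Then L is very ample relative to q (isomorphic to the inverse image of O(1) along a Y-immersion of X
into the projective bundle P(E) of a quasi-coherent O_Y-module E) if and only if L ⊗ q^*K is. -/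
theorem result {X Y : Scheme.{u}} (q : X ⟶ Y) (L : X.Modules)
    (hL : PicF.IsInvertible L) (K : Y.Modules) (hK : PicF.IsInvertible K) :
    RelProj.IsRelVeryAmple q L ↔
      RelProj.IsRelVeryAmple q (CohB1.tensorMod L ((Scheme.Modules.pullback q).obj K)) := by
  have hqK : PicF.IsInvertible ((Scheme.Modules.pullback q).obj K) := PicLoc.isInvertible_pullback q hK
  refine ⟨fun h => VA11.isRelVeryAmple_tensor hL hqK h (Twist.isQCoh_of_isInvertible hK) _
    (VA11.gens_of_epi hqK (𝟙 _)), fun h => ?_⟩
  obtain ⟨D, hD, ⟨e⟩⟩ := M2.exists_inverse hK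
  have hqD : PicF.IsInvertible ((Scheme.Modules.pullback q).obj D) := PicLoc.isInvertible_pullback q hD
  refine VA11.isRelVeryAmple_of_iso ?_ (VA11.isRelVeryAmple_tensor (M2.isInvertible_tensor hL hqK) hqD h
    (Twist.isQCoh_of_isInvertible hD) _ (VA11.gens_of_epi hqD (𝟙 _)))
  exact M2.tensorAssoc L _ _ ≪≫ M2.tensorIso (Iso.refl L) ((M2.pullTensorIso q K D).symm ≪≫
    (Scheme.Modules.pullback q).mapIso e ≪≫ PicLoc.pullbackStructureIso q) ≪≫ M2.tensorRUnit L

end Groth.Agent.S12469
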