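import Groth.Statements.S12471
import Groth.Agent.Lib.VeryAmple11.Ops

set_option autoImplicit false
universe u
open CategoryTheory CategoryTheory.Limits AlgebraicGeometry TopologicalSpace Opposite
open scoped HomogeneousIdeal
open EGA2

namespace Groth.Agent.S12471

/-- Let q : X → Y be a morphism of schemes and L an invertible O_X-module which is very ample relative
to q (isomorphic to the inverse image of O(1) along a Y-immersion of X into the projective bundle
P(E) of a quasi-coherent O_Y-module E). Then for every n > 0 the tensor power L^{⊗n} is very ample
relative to q. -/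
theorem result {X Y : Scheme.{u}} (q : X ⟶ Y) (L : X.Modules)
    (hL : PicF.IsInvertible L) (hva : RelProj.IsRelVeryAmple q L) (n : ℕ) (hn : 0 < n) :
    RelProj.IsRelVeryAmple q (CohB1.tensorPow L n) := by
  obtain ⟨n, rfl⟩ := Nat.exists_eq_succ_of_ne_zero hn.ne'
  exact VA11.isRelVeryAmple_tensorPow hL hva n

end Groth.Agent.S12471
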