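import Groth.Statements.S12477
import Groth.Agent.Lib.VeryAmple11.Disjoint

set_option autoImplicit false
universe u
open CategoryTheory CategoryTheory.Limits AlgebraicGeometry TopologicalSpace Opposite
open scoped HomogeneousIdeal
open EGA2

namespace Groth.Agent.S12477

/-- Let X and X' be schemes with disjoint union X ⨿ X', let f'' : X ⨿ X' → Y be a morphism (given by a
morphism f on X and a morphism f' on X') and L'' an invertible module on X ⨿ X' (given by an
invertible O_X-module L and an invertible O_{X'}-module L'). Then L'' is very ample relative to f''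
(isomorphic to the inverse image of O(1) along a Y-immersion of X into the projective bundle P(E) of
a quasi-coherent O_Y-module E) if and only if L, the inverse image of L'' on X, is very ample
relative to f and L', the inverse image of L'' on X', is very ample relative to f'. -/
theorem result {X X' Y : Scheme.{u}} (f'' : X ⨿ X' ⟶ Y) (L'' : (X ⨿ X').Modules)
    (hL'' : PicF.IsInvertible L'') :
    RelProj.IsRelVeryAmple f'' L'' ↔
      RelProj.IsRelVeryAmple (coprod.inl ≫ f'') ((Scheme.Modules.pullback (coprod.inl : X ⟶ X ⨿ X')).obj L'') ∧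
        RelProj.IsRelVeryAmple (coprod.inr ≫ f'') ((Scheme.Modules.pullback (coprod.inr : X' ⟶ X ⨿ X')).obj L'') := by
  open Groth.Agent in
  refine ⟨fun h => ⟨VA11.isRelVeryAmple_comp_immersion _ h, VA11.isRelVeryAmple_comp_immersion _ h⟩, fun ⟨h, h'⟩ => ?_⟩
  have key : ∀ {Z : Scheme.{u}} (j : Z ⟶ X ⨿ X') [IsOpenImmersion j],
      RelProj.IsRelVeryAmple (j ≫ f'') ((Scheme.Modules.pullback j).obj L'') →
        RelProj.IsRelVeryAmple (j.opensRange.ι ≫ f'') (L''.restrict j.opensRange.ι) := by
    intro Z j _ hj
    let e := j.isoOpensRange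
    have h1 := VA11.isRelVeryAmple_comp_immersion e.inv hj
    have he : e.inv ≫ j = j.opensRange.ι := by
      rw [Iso.inv_comp_eq]; exact (Scheme.Hom.isoOpensRange_hom_ι j).symm
    rw [← Category.assoc, he] at h1
    exact VA11.isRelVeryAmple_of_iso ((Scheme.Modules.pullbackComp e.inv j).app L'' ≪≫
      (Scheme.Modules.pullbackCongr he).app L'' ≪≫
      ((Scheme.Modules.restrictFunctorIsoPullback j.opensRange.ι).app L'').symm) h1
  exact VA11.isRelVeryAmple_of_disjoint (isCompl_opensRange_inl_inr X X').inf_eq_bot
    (isCompl_opensRange_inl_inr X X').sup_eq_top (key _ h) (key _ h')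

end Groth.Agent.S12477
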