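import Groth.Statements.S1248
import Groth.Agent.Lib.ImpHens28.Main

set_option autoImplicit false
universe u
open FlatMor

set_option maxSynthPendingDepth 3
set_option backward.isDefEq.respectTransparency.types false
attribute [local instance] Algebra.TensorProduct.rightAlgebra
set_option linter.style.haveILetI false

namespace Groth.Agent.S1248

open IsLocalRing in
/-- Ring form, X = Spec B affine: let B be a finite type A-algebra, N a finite B-module and p a prime of
A. If there is an impurity of N above p whose base change ring A' is a henselization of the local
ring A_p (compatibly with A → A_p) and whose point t is the maximal ideal, then there is an impurity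
of N above p for which (A', t) is an elementary étale ring map at p. -/
theorem result {A B : Type u} [CommRing A] [CommRing B] [Algebra A B] [Algebra.FiniteType A B]
    (N : Type u) [AddCommGroup N] [Module B N] [Module.Finite B N] (p : Ideal A) [p.IsPrime]
    (h : FlatCA.HasImpurity A B N p (fun A' _ _ t => ∃ (_ : IsLocalRing A') (_ : Algebra (Localization.AtPrime p) A')
        (_ : IsScalarTower A (Localization.AtPrime p) A') (_ : IsLocalHom (algebraMap (Localization.AtPrime p) A')),
        Hensel.IsHenselization (Localization.AtPrime p) A' ∧ t = maximalIdeal A')) :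
    FlatCA.HasImpurity A B N p (fun A' _ _ t => ∃ _ : t.IsPrime, FlatCA.IsEtaleNhd A A' p t) := by
  obtain ⟨A', B', N', _, _, _, _, _, _, _, _, _, _, _, _, _, _, f, t', t, _, _, P, _, himp, _, _, _, _, hH, rfl⟩ := h
  letI : Module A N := Module.compHom N (algebraMap A B)
  haveI : IsScalarTower A B N := IsScalarTower.of_algebraMap_smul fun _ _ => rfl
  haveI := hH
  have hd := Groth.Agent.Dev4.hasDatum_of_isImpurity himp
  obtain ⟨A₀, _, _, u', u, _, _, hnhd, hle₀, hd₀⟩ := Groth.Agent.ImpHens28.exists_nhd_datum (p := p) t' hd
  obtain ⟨P₀, hP₀, himp₀⟩ := Groth.Agent.Dev4.hasImpurity_of_hasDatum u' u hle₀ hnhd.2.choose hd₀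
  exact ⟨A₀, TensorProduct A A₀ B, TensorProduct B (TensorProduct A A₀ B) N, inferInstance, inferInstance, inferInstance,
    inferInstance, inferInstance, inferInstance, inferInstance, inferInstance, inferInstance, inferInstance, inferInstance,
    inferInstance, inferInstance, inferInstance, TensorProduct.mk B (TensorProduct A A₀ B) N 1, u', u, inferInstance,
    inferInstance, P₀, hP₀, himp₀, inferInstance, hnhd⟩

end Groth.Agent.S1248
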