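import Groth.Statements.S12480
import Groth.Agent.Lib.VeryAmple11.AmplePow
import Groth.Agent.Lib.Ample18.Avoid

set_option autoImplicit false
universe u
open CategoryTheory CategoryTheory.Limits AlgebraicGeometry TopologicalSpace Opposite
open scoped HomogeneousIdeal
open EGA2

namespace Groth.Agent.S12480

/-- Let X be a quasi-affine scheme and L an invertible O_X-module. Then L is very ample relative to the
canonical morphism u : X → Spec Γ(X, O_X): there are a quasi-coherent module E on that spectrum and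
an immersion i of X into the projective bundle P(E), compatible with u, with L isomorphic to
i^*O_{P(E)}(1). (The published statement adds that L is then ample; that assertion is stated
separately.) -/
theorem result (X : Scheme.{u}) [X.IsQuasiAffine] (L : X.Modules)
    (hL : PicF.IsInvertible L) : RelProj.IsRelVeryAmple X.toSpecΓ L := by
  open Groth.Agent Groth.Agent.M1 in
  let φ := 𝟙 ((Scheme.Modules.pushforward X.toSpecΓ).obj L)
  refine VA11.isRelVeryAmple_of_vamp (isQCoh_push X.toSpecΓ (Twist.isQCoh_of_isInvertible hL)) φ fun x => ?_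
  obtain ⟨s, hx, -, -⟩ := Amp.exists_section_le hL (x := x) (V := ⊤) trivial
  obtain ⟨_, ⟨_, ⟨r, hA, rfl⟩, rfl⟩, hxr, hrs⟩ :=
    (Scheme.IsQuasiAffine.isBasis_basicOpen X).exists_subset_of_mem_open hx (CohB1.genLocus L s).isOpen
  let e₀ : Γ(L, ⊤) := Amp.gval s
  let e : Γ((Scheme.Modules.pushforward X.toSpecΓ).obj L, ⊤) := e₀
  let σ := VA11.secs φ (⊤ : (Spec Γ(X, ⊤)).Opens)
  have hgl : VA11.gl (σ e) = CohB1.genLocus L s := VA11.gl_gval hL s
  have hsurj : Function.Surjective (X.toSpecΓ.app ⊤).hom := by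
    show Function.Surjective X.toSpecΓ.appTop.hom
    rw [Scheme.toSpecΓ_appTop]
    exact (ConcreteCategory.bijective_of_isIso (Scheme.ΓSpecIso Γ(X, ⊤)).hom).2
  obtain ⟨r', hr'⟩ := hsurj r
  let b := ores (VA11.gl_le (σ e)) ((X.toSpecΓ.app ⊤).hom r')
  have hb : X.basicOpen b = X.basicOpen r := by
    show X.basicOpen (ores (VA11.gl_le (σ e)) ((X.toSpecΓ.app ⊤).hom r')) = _
    rw [hr', VA11.basicOpen_ores, hgl]
    exact inf_eq_right.2 hrs
  refine ⟨⊤, isAffineOpen_top _, e, b, VA11.base_mem_ratSub r', hb.ge hxr, hb ▸ hA, eq_top_iff.2 fun t _ => ?_⟩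
  letI : Algebra Γ(X, ⊤) Γ(X, X.basicOpen r) := (ores (X.basicOpen_le r)).hom.toAlgebra
  haveI : IsLocalization.Away r Γ(X, X.basicOpen r) :=
    isLocalization_basicOpen_of_qcqs (U := ⊤) isCompact_univ isQuasiSeparated_univ r
  obtain ⟨k, c, hc⟩ := IsLocalization.Away.surj r (ores hb.ge t)
  obtain ⟨c', hc'⟩ := hsurj c
  refine ⟨k, _, VA11.base_mem_ratSub c', VA11.ores_injective hb.ge hb.le ?_⟩
  show ores hb.ge (t * ores (X.basicOpen_le b) b ^ k) = ores hb.ge _
  simp only [b, map_mul, map_pow, hr', hc', ores_ores]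
  exact hc

end Groth.Agent.S12480
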