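import Groth.Statements.S12482
import Mathlib
-- import your own Groth.Agent.* helpers here

set_option autoImplicit false
universe u
open Dual

namespace Groth.Agent.S12482

theorem rel_mem {A : Type u} [CommRing A] : ∀ (p : ℕ) (x : Fin p → A),
    RingTheory.Sequence.IsWeaklyRegular A (List.ofFn x) → ∀ c : Fin p → A, ∑ i, c i * x i = 0 →
      ∀ i, c i ∈ Ideal.span (Set.range x) := by
  intro p
  induction p with
  | zero => exact fun _ _ _ _ i => i.elim0
  | succ p ih =>
    intro x hx c hc
    rw [List.ofFn_succ', List.concat_eq_append, RingTheory.Sequence.isWeaklyRegular_append_iff,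
      RingTheory.Sequence.isWeaklyRegular_singleton_iff] at hx
    obtain ⟨hinit, hlast⟩ := hx
    let x' : Fin p → A := fun i => x i.castSucc
    have hJ : Ideal.ofList (List.ofFn x') = Ideal.span (Set.range x') :=
      congrArg Ideal.span (by ext a; simp)
    rw [Fin.sum_univ_castSucc] at hc
    have hcl : c (Fin.last p) ∈ Ideal.span (Set.range x') := by
      have h0 : x (Fin.last p) • (Submodule.Quotient.mk (c (Fin.last p)) :
          A ⧸ (Ideal.ofList (List.ofFn x') • (⊤ : Submodule A A))) = x (Fin.last p) • 0 := by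
        rw [smul_zero, ← Submodule.Quotient.mk_smul, Submodule.Quotient.mk_eq_zero, smul_eq_mul,
          Ideal.mul_top, hJ, smul_eq_mul, mul_comm, eq_neg_of_add_eq_zero_right hc]
        exact neg_mem (Ideal.sum_mem _ fun i _ => Ideal.mul_mem_left _ _ (Ideal.subset_span ⟨i, rfl⟩))
      have h1 := hlast h0
      rw [Submodule.Quotient.mk_eq_zero, smul_eq_mul, Ideal.mul_top, hJ] at h1
      exact h1
    obtain ⟨d, hd⟩ := (Submodule.mem_span_range_iff_exists_fun A).mp hcl
    have h2 := ih x' hinit (fun i => c i.castSucc + d i * x (Fin.last p)) (by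
      simp only [add_mul, Finset.sum_add_distrib]
      rw [show (∑ i, d i * x (Fin.last p) * x' i) = c (Fin.last p) * x (Fin.last p) by
        rw [← hd, Finset.sum_mul]; exact Finset.sum_congr rfl fun i _ => by simp only [smul_eq_mul]; ring]
      exact hc)
    have hle : Ideal.span (Set.range x') ≤ Ideal.span (Set.range x) :=
      Ideal.span_mono (by rintro _ ⟨i, rfl⟩; exact ⟨_, rfl⟩)
    refine Fin.lastCases (hle hcl) fun i => ?_
    rw [← add_sub_cancel_right (c i.castSucc) (d i * x (Fin.last p))]
    exact sub_mem (hle (h2 i)) (Ideal.mul_mem_left _ _ (Ideal.subset_span ⟨_, rfl⟩))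

/-- Let `A` be a commutative ring, `x_1, …, x_p` a sequence of elements of `A` such that each `x_i` is a
non-zero-divisor on `A/(x_1, …, x_{i-1})`, and `J` the ideal generated by the `x_i`. Then `J/J²` is
a free `(A/J)`-module with basis the classes of the `x_i`: there is a basis of `J/J²` over `A/J`,
indexed by `1, …, p`, whose `i`-th vector is the class of `x_i`. (The other assertions of the
published statement, on the Koszul complex and on Ext and Tor against `A/J`, are stated separately.) -/
theorem result (A : Type u) [CommRing A] (p : ℕ) (x : Fin p → A)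
    (hreg : RingTheory.Sequence.IsWeaklyRegular A (List.ofFn x)) :
    ∃ b : Module.Basis (Fin p) (A ⧸ Ideal.span (Set.range x)) (Ideal.span (Set.range x)).Cotangent,
      ∀ i, b i = (Ideal.span (Set.range x)).toCotangent ⟨x i, Ideal.subset_span (Set.mem_range_self i)⟩ := by
  let J := Ideal.span (Set.range x)
  let g : Fin p → J.Cotangent := fun i => J.toCotangent ⟨x i, Ideal.subset_span (Set.mem_range_self i)⟩
  have hval : ∀ c : Fin p → A, ∑ i, c i • g i = J.toCotangent ⟨∑ i, c i * x i,
      Ideal.sum_mem _ fun i _ => Ideal.mul_mem_left _ _ (Ideal.subset_span (Set.mem_range_self i))⟩ := by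
    intro c
    rw [show (⟨∑ i, c i * x i, _⟩ : J) = ∑ i, c i • (⟨x i, Ideal.subset_span (Set.mem_range_self i)⟩ : J)
      from Subtype.ext (by simp [AddSubmonoidClass.coe_finsetSum]), map_sum]
    simp [g]
    exact Finset.sum_congr rfl fun i _ => (map_smul J.toCotangent (c i) _).symm
  have hli : LinearIndependent (A ⧸ J) g := by
    rw [Fintype.linearIndependent_iff]
    intro c hc i
    choose c' hc' using fun i => Ideal.Quotient.mk_surjective (c i)
    obtain rfl : c = fun i => Ideal.Quotient.mk J (c' i) := funext fun i => (hc' i).symm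
    have h0 : ∑ i, c' i • g i = 0 := hc
    rw [hval, Ideal.toCotangent_eq_zero] at h0
    rw [pow_two] at h0
    change (∑ i, c' i * x i) ∈ J * J at h0
    rw [← Ideal.smul_eq_mul, Submodule.mem_ideal_smul_span_iff_exists_sum J x] at h0
    obtain ⟨a, ha, hsum⟩ := h0
    have hs : ∑ j, a j * x j = ∑ j, c' j * x j :=
      (Finsupp.sum_fintype a (fun i c => c * x i) (fun i => zero_mul _)).symm.trans hsum
    have h1 := rel_mem p x hreg (fun j => c' j - a j) (by
      simp only [sub_mul, Finset.sum_sub_distrib, hs, sub_self]) i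
    rw [Ideal.Quotient.eq_zero_iff_mem, ← sub_add_cancel (c' i) (a i)]
    exact add_mem h1 (ha i)
  have hsp : ⊤ ≤ Submodule.span (A ⧸ J) (Set.range g) := by
    rintro z -
    obtain ⟨⟨a, ha⟩, rfl⟩ := J.toCotangent_surjective z
    obtain ⟨c, hc⟩ := (Submodule.mem_span_range_iff_exists_fun A).mp ha
    refine (Submodule.mem_span_range_iff_exists_fun _).mpr ⟨fun i => Ideal.Quotient.mk J (c i), ?_⟩
    show ∑ i, c i • g i = _
    rw [hval]
    exact congrArg _ (Subtype.ext hc)
  exact ⟨Module.Basis.mk hli hsp, fun i => Module.Basis.mk_apply hli hsp i⟩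

end Groth.Agent.S12482
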