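import Groth.Statements.S12491
import Groth.Agent.Lib.RegLoc.GlobalDim

set_option autoImplicit false
universe u
open VBPn

namespace Groth.Agent.S12491

/-- Let A be a regular local ring, k ≥ 0, and N_0, N_1, … A-modules with N_0 finitely generated and N_1,
…, N_k finitely generated and free, with linear maps d_i : N_i → N_{i+1} such that d_0 is injective
and the sequence 0 → N_0 → N_1 → ⋯ → N_k is exact. Then for every prime ideal p of A of height at
most k the localization of N_0 at p is a free module over A_p. The published statement is for a
coherent analytic sheaf on a complex manifold that is locally a k-th syzygy sheaf and says its set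
of non-free stalks has codimension greater than k; this row is the statement at one stalk, over any
regular local ring. -/
theorem result (A : Type u) [CommRing A] [IsRegularLocalRing A]
    (k : ℕ) (N : ℕ → Type u) [∀ i, AddCommGroup (N i)] [∀ i, Module A (N i)] [Module.Finite A (N 0)]
    (hfree : ∀ i, 1 ≤ i → i ≤ k → Module.Free A (N i) ∧ Module.Finite A (N i))
    (d : ∀ i, N i →ₗ[A] N (i + 1)) (hinj : Function.Injective (d 0))
    (hex : ∀ i, i + 1 < k → LinearMap.range (d i) = LinearMap.ker (d (i + 1)))
    (p : Ideal A) [p.IsPrime] (hp : p.height ≤ k) :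
    Module.Free (Localization.AtPrime p) (LocalizedModule p.primeCompl (N 0)) := by
  classical
  let S := p.primeCompl
  let R := Localization.AtPrime p
  haveI : IsRegularLocalRing R := RegLoc.isRegularLocalRing_localization A p
  set h := (IsLocalRing.maximalIdeal R).spanFinrank with hh
  have hhk : h ≤ k := by
    have h1 : (h : WithBot ℕ∞) = ringKrullDim R := IsRegularLocalRing.spanFinrank_maximalIdeal
    rw [IsLocalization.AtPrime.ringKrullDim_eq_height p R] at h1
    have h2 : (h : ℕ∞) = p.height := by exact_mod_cast h1
    have : (h : ℕ∞) ≤ k := h2 ▸ hp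
    exact_mod_cast this
  haveI : Module.Finite R (LocalizedModule S (N 0)) := Module.Finite.of_isLocalizedModule S (LocalizedModule.mkLinearMap S (N 0))
  suffices RegLoc.PD R (LocalizedModule S (N 0)) 0 by
    haveI := RegLoc.pd_zero_iff.1 this
    exact Module.free_of_flat_of_isLocalRing
  rcases Nat.eq_zero_or_pos k with rfl | hk
  · have h0 : h = 0 := Nat.le_zero.1 hhk
    exact RegLoc.pd_le_spanFinrank 0 R (hh.symm.trans h0) _
  let L : ℕ → Type u := fun i => LocalizedModule S (N i)
  let D : ∀ i, L i →ₗ[R] L (i + 1) := fun i => LocalizedModule.map S (d i)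
  have hproj : ∀ i, 1 ≤ i → i ≤ k → Module.Projective R (L i) ∧ Module.Finite R (L i) := fun i h1 h2 => by
    obtain ⟨hf, hfi⟩ := hfree i h1 h2
    haveI := hf
    haveI := hfi
    haveI : Module.Free R (L i) := Module.free_of_isLocalizedModule S (LocalizedModule.mkLinearMap S (N i))
    exact ⟨inferInstance, Module.Finite.of_isLocalizedModule S (LocalizedModule.mkLinearMap S (N i))⟩
  have hexL : ∀ i, i + 1 < k → Function.Exact (D i) (D (i + 1)) := fun i hi =>
    LocalizedModule.map_exact S (d i) (d (i + 1)) (LinearMap.exact_iff.2 (hex i hi).symm)
  have hinjL : Function.Injective (D 0) := LocalizedModule.map_injective S (d 0) hinj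
  have key : ∀ j i, i + j + 1 = k → RegLoc.PD R (LinearMap.range (D i)) i := by
    intro j
    induction j with
    | zero =>
      intro i hi
      obtain ⟨hP, hF⟩ := hproj (i + 1) (by omega) (by omega)
      haveI := hP
      haveI := hF
      refine RegLoc.PD.submodule (LinearMap.range (D i)).subtype (LinearMap.range (D i)).mkQ
        (Submodule.subtype_injective _) (Submodule.mkQ_surjective _) ?_ (RegLoc.PD.of_projective _) ?_
      · exact LinearMap.exact_iff.2 (by rw [Submodule.ker_mkQ, Submodule.range_subtype])
      · exact (RegLoc.pd_le_spanFinrank h R hh.symm _).mono (by omega)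
    | succ j ih =>
      intro i hi
      obtain ⟨hP, hF⟩ := hproj (i + 1) (by omega) (by omega)
      haveI := hP
      refine RegLoc.PD.submodule (LinearMap.range (D i)).subtype (D (i + 1)).rangeRestrict
        (Submodule.subtype_injective _) (D (i + 1)).surjective_rangeRestrict ?_ (RegLoc.PD.of_projective _)
        (ih (i + 1) (by omega))
      rw [LinearMap.exact_iff, LinearMap.ker_rangeRestrict, Submodule.range_subtype]
      exact LinearMap.exact_iff.1 (hexL i (by omega))
  exact (key (k - 1) 0 (by omega)).congr (LinearEquiv.ofInjective (D 0) hinjL).symm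

end Groth.Agent.S12491
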