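import Groth.Statements.S12498
import Mathlib.RingTheory.Flat.EquationalCriterion
import Mathlib.RingTheory.Derivation.Basic

set_option autoImplicit false
universe u
open Deform

namespace Groth.Agent.S12498

/-- Let k be an algebraically closed field, A a local Artinian k-algebra with residue field k, and t a
nonzero element of the maximal ideal m_A annihilated by m_A, so that A → A/tA is a small extension.
Let B be a flat A-algebra (a deformation over A of its closed fibre B_0 = B/m_A B), and σ an
A-algebra automorphism of B/tB inducing the identity on B_0. Fix an A-algebra automorphism τ of B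
inducing σ (so τ induces the identity on B_0). Then the A-algebra automorphisms η of B inducing σ
correspond bijectively to the k-derivations d of B_0 through the rule η = τ + t·d, meaning η(b) =
τ(b) + t b′ for all b ∈ B and all b′ ∈ B lifting d applied to the image of b in B_0: every such η
determines a unique d, and every d comes from some such η. (The published statement phrases the
conclusion as a free and transitive action of Der_k(B_0, B_0) on the nonempty set of lifts of σ; the
condition that σ induces the identity on B_0 is expressed here through the chosen lift τ.) -/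
theorem result
    {k : Type u} [Field k] [IsAlgClosed k]
    {A : Type u} [CommRing A] [Algebra k A] [IsLocalRing A] [IsArtinianRing A]
    (hres : ∀ a : A, ∃ c : k, a - algebraMap k A c ∈ IsLocalRing.maximalIdeal A)
    (t : A) (ht : t ∈ IsLocalRing.maximalIdeal A) (ht0 : t ≠ 0)
    (htm : ∀ a ∈ IsLocalRing.maximalIdeal A, a * t = 0)
    {B : Type u} [CommRing B] [Algebra A B] [Module.Flat A B] [Algebra k B] [IsScalarTower k A B]
    (σ : (B ⧸ Ideal.span {algebraMap A B t}) ≃ₐ[A] (B ⧸ Ideal.span {algebraMap A B t}))
    (τ : B ≃ₐ[A] B)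
    (hτ : ∀ b : B, Ideal.Quotient.mk (Ideal.span {algebraMap A B t}) (τ b) =
      σ (Ideal.Quotient.mk (Ideal.span {algebraMap A B t}) b))
    (hτ0 : ∀ b : B, τ b - b ∈ (IsLocalRing.maximalIdeal A).map (algebraMap A B)) :
    (∀ η : B ≃ₐ[A] B, (∀ b : B, Ideal.Quotient.mk (Ideal.span {algebraMap A B t}) (η b) =
        σ (Ideal.Quotient.mk (Ideal.span {algebraMap A B t}) b)) →
      ∃! d : Derivation k (B ⧸ (IsLocalRing.maximalIdeal A).map (algebraMap A B))
          (B ⧸ (IsLocalRing.maximalIdeal A).map (algebraMap A B)),
        ∀ b b' : B, Ideal.Quotient.mk ((IsLocalRing.maximalIdeal A).map (algebraMap A B)) b' =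
            d (Ideal.Quotient.mk ((IsLocalRing.maximalIdeal A).map (algebraMap A B)) b) →
          η b = τ b + algebraMap A B t * b') ∧
    (∀ d : Derivation k (B ⧸ (IsLocalRing.maximalIdeal A).map (algebraMap A B))
        (B ⧸ (IsLocalRing.maximalIdeal A).map (algebraMap A B)),
      ∃ η : B ≃ₐ[A] B, (∀ b : B, Ideal.Quotient.mk (Ideal.span {algebraMap A B t}) (η b) =
          σ (Ideal.Quotient.mk (Ideal.span {algebraMap A B t}) b)) ∧
        ∀ b b' : B, Ideal.Quotient.mk ((IsLocalRing.maximalIdeal A).map (algebraMap A B)) b' =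
            d (Ideal.Quotient.mk ((IsLocalRing.maximalIdeal A).map (algebraMap A B)) b) →
          η b = τ b + algebraMap A B t * b') := by
  set mB : Ideal B := (IsLocalRing.maximalIdeal A).map (algebraMap A B) with hmB
  set T : B := algebraMap A B t with hT
  let q := Ideal.Quotient.mk mB
  have hqA : ∀ a ∈ IsLocalRing.maximalIdeal A, algebraMap A B a ∈ mB := fun a ha => Ideal.mem_map_of_mem _ ha
  have hTm : ∀ x ∈ mB, T * x = 0 := by
    intro x hx
    refine Submodule.span_induction ?_ (mul_zero T) (fun x y _ _ hx hy => by rw [mul_add, hx, hy, add_zero])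
      (fun c x _ hx => by rw [smul_eq_mul, mul_left_comm, hx, mul_zero]) hx
    rintro _ ⟨a, ha, rfl⟩
    rw [hT, ← map_mul, mul_comm, htm a ha, map_zero]
  have hTmem : T ∈ mB := hqA t ht
  have hann : ∀ x : B, T * x = 0 → x ∈ mB := by
    intro x hx
    have h : ∑ _i : Unit, t • x = 0 := by simpa [Algebra.smul_def, ← hT] using hx
    obtain ⟨κ, a, y, hx', hta⟩ := Module.Flat.isTrivialRelation_of_sum_smul_eq_zero (f := fun _ : Unit => t) (x := fun _ => x) h
    rw [show x = _ from hx' ()]
    refine sum_mem fun j _ => ?_
    rw [Algebra.smul_def]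
    refine Ideal.mul_mem_right _ _ (hqA _ ((IsLocalRing.mem_maximalIdeal _).2 fun hu => ht0 ?_))
    exact hu.mul_left_eq_zero.1 (by simpa using hta j)
  have hTq : ∀ x y : B, q x = q y → T * x = T * y := fun x y h => by
    rw [← sub_eq_zero, ← mul_sub]; exact hTm _ (Ideal.Quotient.eq.1 h)
  have hqT : ∀ x y : B, T * x = T * y → q x = q y := fun x y h =>
    Ideal.Quotient.eq.2 (hann _ (by rw [mul_sub, h, sub_self]))
  have hqτ : ∀ b, q (τ b) = q b := fun b => Ideal.Quotient.eq.2 (hτ0 b)
  have hτT : ∀ x, τ (T * x) = T * τ x := fun x => by rw [map_mul, hT, AlgEquiv.commutes]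
  constructor
  · intro η hη
    have hdiff : ∀ b, ∃ b', η b = τ b + T * b' := by
      intro b
      have : η b - τ b ∈ Ideal.span {T} := Ideal.Quotient.eq.1 ((hη b).trans (hτ b).symm)
      obtain ⟨c, hc⟩ := Ideal.mem_span_singleton'.1 this
      exact ⟨c, by rw [mul_comm, hc]; abel⟩
    choose δ hδ using hdiff
    have hηq : ∀ b, q (η b) = q b := fun b => by
      rw [hδ, map_add, hqτ, map_mul, show q T = 0 from Ideal.Quotient.eq_zero_iff_mem.2 hTmem, zero_mul, add_zero]
    have hadd : ∀ b c, q (δ (b + c)) = q (δ b) + q (δ c) := fun b c => by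
      rw [← map_add]
      refine hqT _ _ ?_
      have h := hδ (b + c)
      rw [map_add η, map_add τ, hδ b, hδ c] at h
      linear_combination -h
    have hmul : ∀ b c, q (δ (b * c)) = q b * q (δ c) + q c * q (δ b) := fun b c => by
      rw [← hηq b, ← hqτ c, ← map_mul, ← map_mul, ← map_add]
      refine hqT _ _ ?_
      have h := hδ (b * c)
      rw [map_mul η, map_mul τ] at h
      linear_combination -h + η b * hδ c + τ c * hδ b
    have halg : ∀ a : A, q (δ (algebraMap A B a)) = 0 := fun a => by
      rw [← map_zero q]
      refine hqT _ _ ?_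
      have h := hδ (algebraMap A B a)
      rw [AlgEquiv.commutes, AlgEquiv.commutes] at h
      linear_combination -h
    have hker : ∀ b ∈ mB, q (δ b) = 0 := by
      intro b hb
      refine Submodule.span_induction ?_ ?_ (fun x y _ _ hx hy => by rw [hadd, hx, hy, add_zero])
        (fun c x hxm hx => ?_) hb
      · rintro _ ⟨a, _, rfl⟩; exact halg a
      · simpa using halg 0
      · rw [smul_eq_mul, hmul, hx, mul_zero, zero_add, Ideal.Quotient.eq_zero_iff_mem.2
          (show x ∈ mB from hxm), zero_mul]
    have hwd : ∀ b c, q b = q c → q (δ b) = q (δ c) := fun b c h => by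
      have : b = c + (b - c) := by ring
      rw [this, hadd, hker _ (Ideal.Quotient.eq.1 h), add_zero]
    let d₀ : B ⧸ mB → B ⧸ mB := fun x => q (δ (Function.surjInv Ideal.Quotient.mk_surjective x))
    have hd₀ : ∀ b, d₀ (q b) = q (δ b) := fun b => hwd _ _ (Function.surjInv_eq Ideal.Quotient.mk_surjective _)
    let dl : B ⧸ mB →ₗ[k] B ⧸ mB :=
      { toFun := d₀
        map_add' := fun x y => by
          obtain ⟨b, rfl⟩ := Ideal.Quotient.mk_surjective x
          obtain ⟨c, rfl⟩ := Ideal.Quotient.mk_surjective y
          rw [← map_add, hd₀, hd₀, hd₀, hadd]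
        map_smul' := fun r x => by
          obtain ⟨b, rfl⟩ := Ideal.Quotient.mk_surjective x
          show d₀ (r • q b) = r • d₀ (q b)
          rw [Algebra.smul_def, Algebra.smul_def,
            show algebraMap k (B ⧸ mB) r = q (algebraMap A B (algebraMap k A r)) by
              rw [← IsScalarTower.algebraMap_apply]; rfl,
            ← map_mul, hd₀, hd₀, hmul, halg, mul_zero, add_zero] }
    let d : Derivation k (B ⧸ mB) (B ⧸ mB) := Derivation.mk' dl fun x y => by
      obtain ⟨b, rfl⟩ := Ideal.Quotient.mk_surjective x
      obtain ⟨c, rfl⟩ := Ideal.Quotient.mk_surjective y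
      show d₀ (q b * q c) = q b * d₀ (q c) + q c * d₀ (q b)
      rw [← map_mul, hd₀, hd₀, hd₀, hmul]
    refine ⟨d, fun b b' h => ?_, fun d' hd' => Derivation.ext fun x => ?_⟩
    · rw [hδ b]
      congr 1
      exact hTq _ _ ((hd₀ b).symm.trans h.symm)
    · obtain ⟨b, rfl⟩ := Ideal.Quotient.mk_surjective x
      obtain ⟨b', hb'⟩ := Ideal.Quotient.mk_surjective (d' (q b))
      have h := hd' b b' hb'
      rw [hδ b] at h
      show d' (q b) = d₀ (q b)
      rw [← hb', hd₀]
      exact hqT _ _ (by linear_combination -h)
  · intro d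
    choose lift hlift using fun x : B ⧸ mB => Ideal.Quotient.mk_surjective x
    have hl : ∀ x y, T * lift x = T * y ↔ x = q y := fun x y =>
      ⟨fun h => (hlift x).symm.trans (hqT _ _ h), fun h => hTq _ _ ((hlift x).trans h)⟩
    have hTT : T * T = 0 := hTm T hTmem
    let f : B → B := fun b => τ b + T * lift (d (q b))
    have hfadd : ∀ b c, f (b + c) = f b + f c := fun b c => by
      show τ (b + c) + _ = _
      rw [(hl (d (q (b + c))) (lift (d (q b)) + lift (d (q c)))).2 (by
        rw [map_add, map_add, map_add q]
        show _ = Ideal.Quotient.mk mB _ + Ideal.Quotient.mk mB _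
        rw [hlift, hlift]), map_add]
      ring
    have hfmul : ∀ b c, f (b * c) = f b * f c := fun b c => by
      show τ (b * c) + _ = _
      rw [(hl (d (q (b * c))) (τ b * lift (d (q c)) + τ c * lift (d (q b)))).2 (by
        rw [map_mul q, Derivation.leibniz, map_add q, map_mul q, map_mul q, hqτ, hqτ, smul_eq_mul, smul_eq_mul]
        congr 1 <;> congr 1 <;> exact (hlift _).symm), map_mul]
      show _ = (τ b + T * lift (d (q b))) * (τ c + T * lift (d (q c)))
      linear_combination -(lift (d (q b)) * lift (d (q c))) * hTT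
    have hfalg : ∀ a : A, f (algebraMap A B a) = algebraMap A B a := fun a => by
      obtain ⟨c, hc⟩ := hres a
      have hq : q (algebraMap A B a) = algebraMap k (B ⧸ mB) c := by
        rw [show algebraMap k (B ⧸ mB) c = q (algebraMap A B (algebraMap k A c)) by
          rw [← IsScalarTower.algebraMap_apply]; rfl]
        exact Ideal.Quotient.eq.2 (by rw [← map_sub]; exact hqA _ hc)
      show τ _ + _ = _
      rw [AlgEquiv.commutes, hq, Derivation.map_algebraMap, (hl 0 0).2 (map_zero q).symm, mul_zero, add_zero]
    let F : B →ₐ[A] B :=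
      { toFun := f
        map_one' := by simpa using hfalg 1
        map_mul' := hfmul
        map_zero' := by simpa using hfalg 0
        map_add' := hfadd
        commutes' := hfalg }
    have hFT : ∀ x, F (T * x) = T * τ x := fun x => by
      rw [map_mul, hT, AlgHom.commutes, ← hT]
      show T * (τ x + T * _) = _
      rw [mul_add, ← mul_assoc, hTT, zero_mul, add_zero]
    have hinj : Function.Injective F := by
      rw [injective_iff_map_eq_zero]
      intro b hb
      have hb0 : b = T * τ.symm (-lift (d (q b))) := by
        apply τ.injective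
        rw [hτT, AlgEquiv.apply_symm_apply]
        change τ b + T * lift (d (q b)) = 0 at hb
        linear_combination hb
      rw [hb0, hFT, ← hτT] at hb
      rw [hb0]
      exact τ.injective (hb.trans (map_zero τ).symm)
    have hsurj : Function.Surjective F := fun y => by
      refine ⟨τ.symm y - T * τ.symm (lift (d (q (τ.symm y)))), ?_⟩
      rw [map_sub, hFT, AlgEquiv.apply_symm_apply]
      show τ (τ.symm y) + T * _ - _ = y
      rw [AlgEquiv.apply_symm_apply]; ring
    refine ⟨AlgEquiv.ofBijective F ⟨hinj, hsurj⟩, fun b => ?_, fun b b' h => ?_⟩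
    · show Ideal.Quotient.mk _ (f b) = _
      rw [← hτ b]
      exact Ideal.Quotient.eq.2 (by
        show τ b + T * _ - τ b ∈ _
        rw [add_sub_cancel_left]
        exact Ideal.mul_mem_right _ _ (Ideal.subset_span rfl))
    · show τ b + T * lift (d (q b)) = τ b + T * b'
      rw [(hl _ _).2 h.symm]

end Groth.Agent.S12498
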