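import Groth.Statements.S1250
import Groth.Agent.Lib.FlatElem4.Basic
import Groth.Agent.Lib.WEtaleH7.AbsFlat
import Mathlib.RingTheory.Etale.Weakly

set_option autoImplicit false
universe u
open FlatMor

set_option backward.isDefEq.respectTransparency.types false

namespace Groth.Agent.S1250


open Groth.Agent.FlatElem4

/-- Flatness over a base is flatness over an étale algebra of it. -/
theorem killed_iff_of_etale {A A' B : Type u} [CommRing A] [CommRing A'] [CommRing B] [Algebra A A']
    [Algebra.Etale A A'] [Algebra A B] [Algebra A' B] [IsScalarTower A A' B]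
    (M : Type u) [AddCommGroup M] [Module B M] [Module A M] [IsScalarTower A B M] [Module A' M]
    [IsScalarTower A' B M] [IsScalarTower A A' M] (T : Submonoid B) :
    Killed A M T ↔ Killed A' M T := by
  rw [← flat_localizedModule_iff, ← flat_localizedModule_iff]
  haveI : IsScalarTower A A' (LocalizedModule T M) := IsScalarTower.of_algebraMap_smul fun a x => by
    rw [← algebraMap_smul B (algebraMap A A' a) x, ← IsScalarTower.algebraMap_apply, algebraMap_smul]
  haveI : Algebra.WeaklyEtale A A' := inferInstance
  exact ⟨fun _ => Groth.Agent.WEtaleH7.flat_of_flat_lmul A (LocalizedModule T M) (Algebra.WeaklyEtale.flat_lmul' A A'),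
    fun _ => Module.Flat.trans A A' _⟩


/-- Given an elementary dévissage E of N at q over p in dimension n, the following are equivalent: N_q
is flat over R; G_z is flat over R'; G_y (G viewed as a D-module) is flat over R'. Also equivalent
to each other: N becomes flat over R on some basic open D(g) ∋ q of Spec S; G becomes flat over R'
on some basic open of Spec C containing z; G as a D-module becomes flat over R' on some basic open
of Spec D containing y. -/
theorem result {R S : Type u} [CommRing R] [CommRing S] [Algebra R S] [Algebra.FiniteType R S]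
    (N : Type u) [AddCommGroup N] [Module S N] [Module R N] [IsScalarTower R S N] [Module.Finite S N]
    (p : Ideal R) [p.IsPrime] (q : Ideal S) [q.IsPrime] [q.LiesOver p] (n : ℕ) (E : FlatCA.ElemDevissage R S N p q n) :
    [FlatCA.FlatAt R q N, FlatCA.FlatAt E.R' E.z E.G, FlatCA.FlatAt E.R' E.y E.G].TFAE ∧
    [∃ g : S, g ∉ q ∧ Module.Flat R (LocalizedModule (Submonoid.powers g) N),
     ∃ g : E.C, g ∉ E.z ∧ Module.Flat E.R' (LocalizedModule (Submonoid.powers g) E.G),
     ∃ g : E.D, g ∉ E.y ∧ Module.Flat E.R' (LocalizedModule (Submonoid.powers g) E.G)].TFAE := by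
  intros
  classical
  letI : Module R E.N' := Module.compHom E.N' (algebraMap R E.S')
  letI : Module E.R' E.N' := Module.compHom E.N' (algebraMap E.R' E.S')
  haveI : IsScalarTower R E.S' E.N' := IsScalarTower.of_algebraMap_smul fun _ _ => rfl
  haveI : IsScalarTower E.R' E.S' E.N' := IsScalarTower.of_algebraMap_smul fun _ _ => rfl
  haveI : IsScalarTower R E.R' E.N' := IsScalarTower.of_algebraMap_smul fun a x => by
    show algebraMap E.R' E.S' (algebraMap R E.R' a) • x = algebraMap R E.S' a • x
    rw [← IsScalarTower.algebraMap_apply]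
  haveI : IsScalarTower E.R' E.S' E.G := IsScalarTower.of_algebraMap_smul fun a x => by
    rw [← algebraMap_smul E.C (algebraMap E.R' E.S' a) x, ← IsScalarTower.algebraMap_apply, algebraMap_smul]
  haveI : Algebra.Etale R E.R' := E.etaleR.1
  haveI : Algebra.Etale S E.S' := E.etaleS.1
  haveI : Module.Finite E.D E.C := E.finiteDC
  haveI : Algebra.IsIntegral E.D E.C := Algebra.IsIntegral.of_finite E.D E.C
  haveI : Algebra.IsIntegral E.S' E.C := Algebra.IsIntegral.of_surjective (Algebra.ofId E.S' E.C) E.surjC
  have hq' : E.q'.comap (algebraMap S E.S') = q := E.etaleS.2.choose.over.symm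
  have hz : E.z.comap (algebraMap E.S' E.C) = E.q' := E.zOver.over.symm
  have hy : E.z.comap (algebraMap E.D E.C) = E.y := E.zOverY.over.symm
  have hzu : ∀ (Q : Ideal E.C) [Q.IsPrime], Q.comap (algebraMap E.S' E.C) = E.q' → Q = E.z :=
    fun Q _ h => Ideal.comap_injective_of_surjective _ E.surjC (h.trans hz.symm)
  have hyu : ∀ (Q : Ideal E.C) [Q.IsPrime], Q.comap (algebraMap E.D E.C) = E.y → Q = E.z :=
    fun Q _ h => E.uniq Q ⟨h.symm⟩
  have hAB : ∀ T : Submonoid E.S', Killed R E.N' T ↔ Killed E.R' E.G T := fun T =>
    (killed_iff_of_etale E.N' T).trans (killed_congr E.N' E.iso T)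
  constructor
  · simp only [FlatCA.FlatAt, flat_localizedModule_iff]
    tfae_have 1 ↔ 2 := by
      rw [← killed_primeCompl_iff_of_integral (B := E.S') (G := E.G) E.q' E.z hz hzu, ← hAB]
      exact ⟨killed_baseChange N E.isBaseChange (fun s hs h' => hs (hq' ▸ h')),
        killed_primeCompl_of_baseChange N E.isBaseChange q E.q' hq'⟩
    tfae_have 2 ↔ 3 := (killed_primeCompl_iff_of_integral E.y E.z hy hyu).symm
    tfae_finish
  · simp only [flat_localizedModule_iff]
    tfae_have 1 ↔ 2 := by
      rw [← exists_killed_powers_iff_of_integral (B := E.S') (G := E.G) E.q' E.z hz hzu]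
      simp only [← hAB]
      constructor
      · rintro ⟨g, hg, h⟩
        refine ⟨algebraMap S E.S' g, fun h' => hg (hq' ▸ h'), killed_baseChange N E.isBaseChange ?_ h⟩
        rintro _ ⟨k, rfl⟩
        exact ⟨k, (map_pow _ _ _).symm⟩
      · rintro ⟨g', hg', h⟩
        exact exists_killed_powers_of_baseChange N E.isBaseChange q E.q' hq' hg' h
    tfae_have 2 ↔ 3 := (exists_killed_powers_iff_of_integral E.y E.z hy hyu).symm
    tfae_finish

end Groth.Agent.S1250
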