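import Groth.Statements.S12500
import Groth.Agent.Lib.DimOne23.Class
import Groth.Agent.Lib.DimOne23.Connected
import Groth.Agent.Lib.HopfPts19.Scheme
import Groth.Agent.Lib.DiagGL.Chars
import Groth.Agent.Lib.MTRigid29.BaseChange
import Groth.Agent.Lib.GammaD.Split26
import Groth.Agent.Lib.GaPts.Basic
import Groth.Agent.Lib.TorsorSch25.ExactPts
import Groth.Agent.Lib.BddFin29.AffPts
import Groth.Agent.Lib.ProjSpace.Basic
import Groth.Agent.Lib.PerfProd19.Basic
import Groth.Agent.Lib.AbRigid.Connected
import Groth.Agent.S1627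
import Groth.Agent.S7976
import Mathlib.AlgebraicGeometry.Group.Abelian

set_option autoImplicit false
set_option backward.isDefEq.respectTransparency.types false
universe u
open CategoryTheory AlgebraicGeometry
open Neron
open CategoryTheory.Limits MonoidalCategory CartesianMonoidalCategory
open scoped TensorProduct

namespace Groth.Agent.S12500

/-- Let k be an algebraically closed field and G a k-group scheme whose underlying scheme is integral,
separated and of finite type over k and has dimension one. Then either G is isomorphic to G_a as a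
k-group scheme, or G is isomorphic to G_m as a k-group scheme, or G is proper over k and its group
law is commutative. (The published third alternative says G is an elliptic curve, i.e. a smooth
proper curve of genus one whose group-variety law is the elliptic-curve addition with origin the
identity; this row records properness and the commutativity that the printed proof establishes.) -/
theorem result (k : Type u) [Field k] [IsAlgClosed k]
    (G : Over (Spec (CommRingCat.of k))) [GrpObj G] [IsIntegral G.left]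
    [IsSeparated G.hom] [LocallyOfFiniteType G.hom] [QuasiCompact G.hom]
    (hdim : topologicalKrullDim ↥G.left = 1) :
    Nonempty (Grp.mk G ≅ Grp.mk (Red.Ga (Spec (CommRingCat.of k)))) ∨
      Nonempty (Grp.mk G ≅ Grp.mk (Red.Gm (Spec (CommRingCat.of k)))) ∨
      (IsProper G.hom ∧ IsCommMonObj G) := by
  classical
  letI : G.left.Over (Spec (CommRingCat.of k)) := ⟨G.hom⟩
  haveI : IsSeparated (G.left ↘ Spec (CommRingCat.of k)) := ‹IsSeparated G.hom›
  haveI : LocallyOfFiniteType (G.left ↘ Spec (CommRingCat.of k)) := ‹LocallyOfFiniteType G.hom›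
  haveI : QuasiCompact (G.left ↘ Spec (CommRingCat.of k)) := ‹QuasiCompact G.hom›
  rcases Groth.Agent.S1627.result k G.left hdim with haff | ⟨d, c, hc, hcw⟩
  swap
  · refine Or.inr (Or.inr ?_)
    haveI := hc
    haveI : IsProper (CohB1.ProjSpace.toSpec d k) := ProjSpace.isProper_toSpec d k
    haveI hp : IsProper G.hom := by
      show IsProper (G.left ↘ Spec (CommRingCat.of k))
      rw [← hcw]; infer_instance
    haveI : IsReduced (G ⊗ G).left := PerfProd19.isReduced_tensorObj G G
    haveI := AbRigid.geometricallyIrreducible_of_connected G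
    haveI : IrreducibleSpace (G ⊗ G).left := inferInstanceAs (IrreducibleSpace ↥(pullback G.hom G.hom))
    haveI : IsIntegral (G ⊗ G).left := isIntegral_of_irreducibleSpace_of_isReduced _
    exact ⟨hp, isCommMonObj_of_isProper_of_isIntegral_tensorObj_of_isAlgClosed G⟩
  haveI := haff
  obtain ⟨A, _, _, ⟨eA⟩⟩ := HopfPts19.exists_model G
  let e : Grp.mk (CoactBr.sp k A) ≅ Grp.mk G := eA
  haveI : IsIso e.hom.hom.hom := ⟨e.inv.hom.hom, by simp [← Grp.comp', ← Mon.comp_hom'], by simp [← Grp.comp', ← Mon.comp_hom']⟩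
  haveI : IsIso e.hom.hom.hom.left := inferInstanceAs (IsIso ((Over.forget _).map e.hom.hom.hom))
  let h := TopCat.homeoOfIso (Scheme.forgetToTop.mapIso (asIso e.hom.hom.hom.left))
  haveI : IsIntegral (CoactBr.sp k A).left := by
    haveI : Nonempty (CoactBr.sp k A).left := ⟨h.symm (genericPoint G.left)⟩
    exact isIntegral_of_isOpenImmersion e.hom.hom.hom.left
  haveI : IsIntegral (Spec (CommRingCat.of A)) := ‹IsIntegral (CoactBr.sp k A).left›
  haveI : IsDomain A := (affine_isIntegral_iff (CommRingCat.of A)).1 inferInstance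
  haveI hlft : LocallyOfFiniteType (CoactBr.sp k A).hom := by
    rw [← Over.w e.hom.hom.hom]; infer_instance
  haveI : Algebra.FiniteType k A :=
    RingHom.finiteType_algebraMap.1 ((HasRingHomProperty.Spec_iff (P := @LocallyOfFiniteType)).1
      (hlft : LocallyOfFiniteType (Spec.map (CommRingCat.ofHom (algebraMap k A)))))
  have hdimA : ringKrullDim A = 1 := by
    rw [← PrimeSpectrum.topologicalKrullDim_eq_ringKrullDim, ← hdim]
    exact IsHomeomorph.topologicalKrullDim_eq _ h.isHomeomorph
  have hconn : ∀ a : A, IsIdempotentElem a → a = 0 ∨ a = 1 := fun a ha =>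
    IsIdempotentElem.iff_eq_zero_or_one.1 ha
  rcases Groth.Agent.S7976.result k A hconn hdimA with ⟨⟨E₀⟩⟩ | ⟨⟨E₀⟩⟩
  · refine Or.inr (Or.inl ?_)
    let E : A ≃ₐ[k] MonoidAlgebra k (Multiplicative ℤ) := E₀
    let χ : Multiplicative ℤ →* A :=
      (E.symm : MonoidAlgebra k (Multiplicative ℤ) →* A).comp (MonoidAlgebra.of k _)
    have hχ : ∀ m, IsGroupLikeElem k (χ m) := fun m =>
      (MonoidAlgebra.isGroupLikeElem_iff_mem_range_of.2 ⟨m, rfl⟩).map E₀.symm
    let C : DiagGL.Chars ℤ (CoactBr.sp k A) :=
      { ch := fun {T} x => (DiagGL.ev x : A →* Γ(T.left, ⊤)).comp χ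
        nat := fun t x a => DiagGL.ev_comp t x _
        mul := fun x y a => DiagGL.ev_mul_glike x y (hχ a).comul_eq_tmul_self
        inj := fun {T x y} hxy => by
          letI := (DiagGL.alg T).toAlgebra
          refine DiagGL.ev_injective fun b => ?_
          obtain ⟨p, rfl⟩ := E.symm.surjective b
          have : ((⟨DiagGL.ev x, DiagGL.ev_algebraMap x⟩ : A →ₐ[k] Γ(T.left, ⊤))).comp E.symm.toAlgHom =
              ((⟨DiagGL.ev y, DiagGL.ev_algebraMap y⟩ : A →ₐ[k] Γ(T.left, ⊤))).comp E.symm.toAlgHom :=
            (MonoidAlgebra.lift k _ _).symm.injective (MonoidHom.ext fun a => hxy a)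
          exact AlgHom.congr_fun this p
        surj := fun {T} c => by
          letI := (DiagGL.alg T).toAlgebra
          let θ : A →ₐ[k] Γ(T.left, ⊤) := (MonoidAlgebra.lift k _ _ c).comp E.toAlgHom
          refine ⟨DiagGL.mk θ.toRingHom θ.commutes, MonoidHom.ext fun a => ?_⟩
          show DiagGL.ev (DiagGL.mk θ.toRingHom θ.commutes) (χ a) = c a
          rw [DiagGL.ev_mk]
          show MonoidAlgebra.lift k _ _ c (E (E.symm (MonoidAlgebra.of k _ a))) = c a
          rw [E.apply_symm_apply, MonoidAlgebra.lift_of] }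
    exact MTRigid29.nonempty_grpIso_of_chars (C.transport e.symm) (DiagGL.charsDS _ ℤ)
  · refine Or.inl ?_
    let E : A ≃ₐ[k] SymmetricAlgebra k k := E₀
    let p : A := E.symm (SymmetricAlgebra.ι k k 1)
    have hp : Bialgebra.comulAlgHom k A p = p ⊗ₜ[k] 1 + 1 ⊗ₜ[k] p := by
      show Coalgebra.comul (R := k) (E₀.symm (SymmetricAlgebra.ι k k 1)) = _
      rw [← CoalgHomClass.map_comp_comul_apply E₀.symm]
      simp [p, E]
      rfl
    let V : CoactBr.sp k A ⟶ Red.Ga (Spec (CommRingCat.of k)) :=
      GaPts.ptOfFn ((Scheme.ΓSpecIso (CommRingCat.of A)).inv p)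
    have hV : ∀ (T : Over (Spec (CommRingCat.of k))) (x : T ⟶ CoactBr.sp k A),
        Red.gaFn (x ≫ V) = DiagGL.ev x p := fun T x => by
      rw [GaPts.gaFn_comp, GaPts.gaFn_ptOfFn]; rfl
    haveI : IsIso V := by
      refine BddFin29.isIso_of_bijective_points V fun T => ⟨fun x y hxy => ?_, fun z => ?_⟩
      · letI := (DiagGL.alg T).toAlgebra
        have h1 : DiagGL.ev x p = DiagGL.ev y p := by rw [← hV, ← hV]; exact congrArg Red.gaFn hxy
        refine DiagGL.ev_injective fun b => ?_
        obtain ⟨q, rfl⟩ := E.symm.surjective b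
        have : ((⟨DiagGL.ev x, DiagGL.ev_algebraMap x⟩ : A →ₐ[k] Γ(T.left, ⊤))).comp E.symm.toAlgHom =
            ((⟨DiagGL.ev y, DiagGL.ev_algebraMap y⟩ : A →ₐ[k] Γ(T.left, ⊤))).comp E.symm.toAlgHom :=
          SymmetricAlgebra.algHom_ext (LinearMap.ext_ring h1)
        exact AlgHom.congr_fun this q
      · letI := (DiagGL.alg T).toAlgebra
        let θ : A →ₐ[k] Γ(T.left, ⊤) :=
          (SymmetricAlgebra.lift (LinearMap.toSpanSingleton k Γ(T.left, ⊤) (Red.gaFn z))).comp E.toAlgHom
        refine ⟨DiagGL.mk θ.toRingHom θ.commutes, GaPts.gaFn_injective ?_⟩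
        show Red.gaFn (DiagGL.mk θ.toRingHom θ.commutes ≫ V) = Red.gaFn z
        rw [hV, DiagGL.ev_mk]
        show SymmetricAlgebra.lift _ (E (E.symm _)) = Red.gaFn z
        rw [E.apply_symm_apply, SymmetricAlgebra.lift_ι_apply, LinearMap.toSpanSingleton_apply, one_smul]
    haveI : IsMonHom (asIso V).hom := TorsorSch25.isMonHom_of_points V fun T x y => GaPts.gaFn_injective (by
      show Red.gaFn _ = Red.gaFn _
      letI := (DiagGL.alg T).toAlgebra
      rw [hV, GaPts.gaFn_mul, hV, hV, DiagGL.ev_mul, hp, map_add, Algebra.TensorProduct.lift_tmul,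
        Algebra.TensorProduct.lift_tmul, map_one, map_one, mul_one, one_mul]
      rfl)
    exact ⟨e.symm ≪≫ Grp.mkIso' (asIso V)⟩

end Groth.Agent.S12500
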