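import Groth.Statements.S12504
import Groth.Agent.Lib.KInj.DerivedAdj

set_option autoImplicit false
universe v u
open CategoryTheory CategoryTheory.Limits
attribute [local instance] HasDerivedCategory.standard
open CohDer

namespace Groth.Agent.S12504


/-- Let A and B be abelian categories with B a Grothendieck category, F : A → B an exact additive
functor with right adjoint G, and RG : D(B) → D(A) a right derived functor of G on the unbounded
derived categories, i.e. a functor equipped with a natural transformation α from the composite 'G
termwise on cochain complexes, then localisation' to 'localisation, then RG' that makes (RG, α) a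
right derived functor with respect to quasi-isomorphisms. Then the functor D(A) → D(B) induced by F
is left adjoint to RG (existence of an adjunction; the existence of RG itself is assumed, as a
binder). -/
theorem result
    {A : Type u} [Category.{v} A] [Abelian A] {B : Type u} [Category.{v} B] [Abelian B]
    [IsGrothendieckAbelian.{v} B]
    (F : A ⥤ B) (G : B ⥤ A) (adj : F ⊣ G) [F.Additive] [G.Additive]
    [PreservesFiniteLimits F] [PreservesFiniteColimits F]
    (RG : DerivedCategory B ⥤ DerivedCategory A)
    (α : G.mapHomologicalComplex (ComplexShape.up ℤ) ⋙ DerivedCategory.Q ⟶ DerivedCategory.Q ⋙ RG)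
    [RG.IsRightDerivedFunctor α (HomologicalComplex.quasiIso B (ComplexShape.up ℤ))] :
    Nonempty (F.mapDerivedCategory ⊣ RG) := by
---
  have h : KInjLib.EnoughKInj B := KInjLib.enoughKInj_of_grothendieck
  exact ⟨KInjLib.derivedAdj (W := HomologicalComplex.quasiIso B (ComplexShape.up ℤ))
    (HomologicalComplex.quasiIso A (ComplexShape.up ℤ)) (KInjLib.adjComplexes adj _)
    F.mapDerivedCategory F.mapDerivedCategoryFactors α (KInjLib.derivingClass_Q h)
    (fun I hI => KInjLib.isIso_app_Q_of_isKInjective h G α I hI)⟩


end Groth.Agent.S12504
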