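import Groth.Statements.S12505
import Groth.Agent.Lib.KFlat.Site

set_option autoImplicit false
universe u
open CategoryTheory
open ModSite

namespace Groth.Agent.S12505
set_option linter.style.haveILetI false
set_option backward.isDefEq.respectTransparency false
set_option backward.isDefEq.respectTransparency.types false


open CategoryTheory.MonoidalCategory in
/-- Let (C, J) be a small site and O a sheaf of commutative rings on it; for presheaves of O-modules M
and N, with u_M : M → aM and u_N : N → aN the unit maps of the sheafification adjunction (aM, aN
regarded as presheaves), the morphism a(u_M ⊗ u_N) from the sheafification of the presheaf tensor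
product M ⊗_p N to the sheafification of aM ⊗_p aN is an isomorphism. -/
theorem result {C : Type u} [SmallCategory C] {J : GrothendieckTopology C}
    (O : Sheaf J CommRingCat.{u})
    (M N : PresheafOfModules.{u} (O.obj ⋙ forget₂ CommRingCat.{u} RingCat.{u})) :
    IsIso ((ModSite.sheafify O).map
      (MonoidalCategoryStruct.tensorHom (C := PresheafOfModules.{u} (O.obj ⋙ forget₂ CommRingCat.{u} RingCat.{u}))
        ((PresheafOfModules.sheafificationAdjunction (𝟙 (ModSite.ringSh O).obj)).unit.app M)
        ((PresheafOfModules.sheafificationAdjunction (𝟙 (ModSite.ringSh O).obj)).unit.app N))) := by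
  rw [tensorHom_def, Functor.map_comp]
  haveI h1 := Groth.Agent.KFlat.Site.isIso_shPre_map O _ (Groth.Agent.KFlat.SiteW.W.whiskerRight N
      (Groth.Agent.KFlat.Site.W_unit O M))
  haveI h2 := Groth.Agent.KFlat.Site.isIso_shPre_map O _ (Groth.Agent.KFlat.SiteW.W.whiskerLeft
      ((ModSite.toPre O).obj ((ModSite.shPre O).obj M)) (Groth.Agent.KFlat.Site.W_unit O N))
  exact @IsIso.comp_isIso _ _ _ _ _ _ _ h1 h2

end Groth.Agent.S12505
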