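import Groth.Statements.S1251
import Groth.Agent.Lib.FlatElem4.Spread
import Mathlib.RingTheory.Etale.Basic
import Mathlib.RingTheory.Smooth.Basic
import Mathlib.AlgebraicGeometry.Morphisms.Smooth
import Mathlib.RingTheory.Finiteness.ModuleFinitePresentation

set_option autoImplicit false
universe u
open FlatMor

set_option backward.isDefEq.respectTransparency.types false

namespace Groth.Agent.S1251


open Groth.Agent.FlatElem4


/-- Given an elementary dévissage E of N at q over p in dimension n, with S of finite presentation over
R: the finite map D → C is of finite presentation; the following are equivalent: N_q is a finitely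
presented S_q-module; G_z is a finitely presented C_z-module; G_y is a finitely presented
D_y-module. Also equivalent to each other: N is finitely presented on some basic open of Spec S
containing q; G is finitely presented on some basic open of Spec C containing z; G as a D-module is
finitely presented on some basic open of Spec D containing y. -/
theorem result {R S : Type u} [CommRing R] [CommRing S] [Algebra R S] [Algebra.FinitePresentation R S]
    (N : Type u) [AddCommGroup N] [Module S N] [Module R N] [IsScalarTower R S N] [Module.Finite S N]
    (p : Ideal R) [p.IsPrime] (q : Ideal S) [q.IsPrime] [q.LiesOver p] (n : ℕ) (E : FlatCA.ElemDevissage R S N p q n) :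
    Algebra.FinitePresentation E.D E.C ∧
    [Module.FinitePresentation (Localization.AtPrime q) (LocalizedModule q.primeCompl N),
     Module.FinitePresentation (Localization.AtPrime E.z) (LocalizedModule E.z.primeCompl E.G),
     Module.FinitePresentation (Localization.AtPrime E.y) (LocalizedModule E.y.primeCompl E.G)].TFAE ∧
    [∃ g : S, g ∉ q ∧ Module.FinitePresentation (Localization.Away g) (LocalizedModule (Submonoid.powers g) N),
     ∃ g : E.C, g ∉ E.z ∧ Module.FinitePresentation (Localization.Away g) (LocalizedModule (Submonoid.powers g) E.G),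
     ∃ g : E.D, g ∉ E.y ∧ Module.FinitePresentation (Localization.Away g) (LocalizedModule (Submonoid.powers g) E.G)].TFAE := by
  intros
  classical
  haveI : Algebra.Etale R E.R' := E.etaleR.1
  haveI : Algebra.Etale S E.S' := E.etaleS.1
  haveI : Module.Finite E.D E.C := E.finiteDC
  haveI : Module.Finite E.C E.G := E.finiteG
  haveI : Algebra.FinitePresentation E.S' E.C := E.fpC
  haveI : Algebra.FinitePresentation E.R' E.D := by
    have h : AlgebraicGeometry.SmoothOfRelativeDimension n
        (AlgebraicGeometry.Spec.map (CommRingCat.ofHom (algebraMap E.R' E.D))) := E.smooth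
    haveI := AlgebraicGeometry.SmoothOfRelativeDimension.smooth (n := n)
      (f := AlgebraicGeometry.Spec.map (CommRingCat.ofHom (algebraMap E.R' E.D)))
    have h2 : AlgebraicGeometry.LocallyOfFinitePresentation
        (AlgebraicGeometry.Spec.map (CommRingCat.ofHom (algebraMap E.R' E.D))) := inferInstance
    exact RingHom.finitePresentation_algebraMap.1
      ((AlgebraicGeometry.HasRingHomProperty.Spec_iff
        (P := @AlgebraicGeometry.LocallyOfFinitePresentation)).1 h2)
  haveI : Module.Finite E.S' E.C := Module.Finite.of_surjective (Algebra.linearMap E.S' E.C) E.surjC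
  letI : Algebra R E.C := ((algebraMap E.S' E.C).comp (algebraMap R E.S')).toAlgebra
  haveI : IsScalarTower R E.S' E.C := IsScalarTower.of_algebraMap_eq fun _ => rfl
  haveI : IsScalarTower R E.R' E.C := IsScalarTower.of_algebraMap_eq fun a => by
    rw [IsScalarTower.algebraMap_apply E.R' E.S' E.C, ← IsScalarTower.algebraMap_apply R E.R' E.S']
    rfl
  haveI : Algebra.FinitePresentation R E.S' := Algebra.FinitePresentation.trans R S E.S'
  haveI : Algebra.FinitePresentation R E.C := Algebra.FinitePresentation.trans R E.S' E.C
  haveI : Algebra.FinitePresentation E.R' E.C :=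
    Algebra.FinitePresentation.of_restrict_scalars_finitePresentation R E.R' E.C
  haveI hDC : Algebra.FinitePresentation E.D E.C :=
    Algebra.FinitePresentation.of_restrict_scalars_finitePresentation E.R' E.D E.C
  haveI : Module.FinitePresentation E.S' E.C := Module.FinitePresentation.of_finite_of_finitePresentation E.S' E.C
  haveI : Module.FinitePresentation E.D E.C := Module.FinitePresentation.of_finite_of_finitePresentation E.D E.C
  have hq' : E.q'.comap (algebraMap S E.S') = q := E.etaleS.2.choose.over.symm
  have hz : E.z.comap (algebraMap E.S' E.C) = E.q' := E.zOver.over.symm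
  have hy : E.z.comap (algebraMap E.D E.C) = E.y := E.zOverY.over.symm
  have hzu : ∀ (Q : Ideal E.C) [Q.IsPrime], Q.comap (algebraMap E.S' E.C) = E.q' → Q = E.z :=
    fun Q _ h => Ideal.comap_injective_of_surjective _ E.surjC (h.trans hz.symm)
  have hyu : ∀ (Q : Ideal E.C) [Q.IsPrime], Q.comap (algebraMap E.D E.C) = E.y → Q = E.z :=
    fun Q _ h => E.uniq Q ⟨h.symm⟩
  obtain ⟨k, π, hπ⟩ := Module.Finite.exists_fin' S N
  obtain ⟨m, σ, hσ⟩ := Module.Finite.exists_fin' E.C E.G
  haveI : Module.FinitePresentation E.S' (Fin m → E.C) := Module.FinitePresentation.trans E.S' (Fin m → E.C) E.C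
  haveI : Module.FinitePresentation E.D (Fin m → E.C) := Module.FinitePresentation.trans E.D (Fin m → E.C) E.C
  let ρ := (E.isBaseChange.equiv.trans E.iso).toLinearMap ∘ₗ π.baseChange E.S'
  have hρ : Function.Surjective ρ :=
    (E.isBaseChange.equiv.trans E.iso).surjective.comp (LinearMap.lTensor_surjective E.S' hπ)
  have hker : LinearMap.ker ρ = (LinearMap.ker π).baseChange E.S' := by
    ext x
    rw [Submodule.baseChange, LinearMap.mem_range]
    simp only [ρ, LinearMap.mem_ker, LinearMap.comp_apply, LinearEquiv.coe_coe, LinearEquiv.map_eq_zero_iff]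
    exact (lTensor_exact E.S' (LinearMap.exact_subtype_ker_map π) hπ) x
  have hS' : ∀ T : Submonoid E.S', Spread T ((LinearMap.ker π).baseChange E.S') ↔
      Spread T ((LinearMap.ker σ).restrictScalars E.S') := fun T => by
    rw [← hker, ← finitePresentation_iff_spread ρ hρ T, finitePresentation_iff_spread (σ.restrictScalars E.S') hσ T,
      LinearMap.ker_restrictScalars]
  refine ⟨hDC, ?_, ?_⟩
  · have e1 := finitePresentation_iff_spread π hπ q.primeCompl
    have e2 := finitePresentation_iff_spread σ hσ E.z.primeCompl
    have e3 := finitePresentation_iff_spread (σ.restrictScalars E.D) hσ E.y.primeCompl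
    rw [LinearMap.ker_restrictScalars] at e3
    tfae_have 1 ↔ 2 := by
      rw [e1, e2, ← spread_primeCompl_iff_of_finite (B := E.S') E.q' E.z hz hzu, ← hS']
      exact ⟨spread_baseChange E.S' _ (fun s hs h' => hs (hq' ▸ h')),
        spread_primeCompl_of_baseChange E.S' _ q E.q' hq'⟩
    tfae_have 2 ↔ 3 := by rw [e2, e3, spread_primeCompl_iff_of_finite E.y E.z hy hyu]
    tfae_finish
  · have e1 := fun g : S => finitePresentation_iff_spread π hπ (Submonoid.powers g)
    have e2 := fun g : E.C => finitePresentation_iff_spread σ hσ (Submonoid.powers g)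
    have e3 : ∀ g : E.D, Module.FinitePresentation (Localization.Away g) (LocalizedModule (Submonoid.powers g) E.G) ↔
        Spread (Submonoid.powers g) ((LinearMap.ker σ).restrictScalars E.D) := fun g => by
      rw [← LinearMap.ker_restrictScalars]
      exact finitePresentation_iff_spread (σ.restrictScalars E.D) hσ (Submonoid.powers g)
    tfae_have 1 ↔ 2 := by
      simp only [Localization.Away] at e1 e2 ⊢
      simp only [e1, e2, ← exists_spread_powers_iff_of_finite (B := E.S') E.q' E.z hz hzu, ← hS']
      constructor
      · rintro ⟨g, hg, h⟩
        refine ⟨algebraMap S E.S' g, fun h' => hg (hq' ▸ h'), spread_baseChange E.S' _ ?_ h⟩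
        rintro _ ⟨k, rfl⟩
        exact ⟨k, (map_pow _ _ _).symm⟩
      · rintro ⟨g', hg', h⟩
        exact exists_spread_powers_of_baseChange E.S' _ q E.q' hq' hg' h
    tfae_have 2 ↔ 3 := by
      simp only [Localization.Away] at e2 e3 ⊢
      simp only [e2, e3, exists_spread_powers_iff_of_finite E.y E.z hy hyu]
    tfae_finish

end Groth.Agent.S1251
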