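import Groth.Statements.S12513
import Groth.Agent.Lib.WeakAss18.Mero

set_option autoImplicit false
universe u
open Mero

namespace Groth.Agent.S12513

open AlgebraicGeometry in
/-- For a scheme X and an affine open U of X, the sections of O_X over U with nonzerodivisor germ at
every point of U are exactly the nonzerodivisors of the ring O_X(U). No Noetherian hypothesis is
needed. -/
theorem result (X : Scheme.{u}) (U : X.Opens)
    (hU : IsAffineOpen U) : Mero.regSub X U = nonZeroDivisors Γ(X, U) := by
  refine le_antisymm (fun f hf => ?_) (fun f hf => Groth.Agent.WA.mem_regSub_of_nonZeroDivisors hU hf)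
  rw [mem_nonZeroDivisors_iff_right]
  intro c hc
  refine TopCat.Presheaf.section_ext X.sheaf U c 0 fun x hx => ?_
  change X.presheaf.germ U x hx c = X.presheaf.germ U x hx 0
  rw [map_zero]
  refine mem_nonZeroDivisors_iff_right.mp (hf ⟨x, hx⟩) _ ?_
  rw [← map_mul, hc, map_zero]

end Groth.Agent.S12513
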