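import Groth.Statements.S12515
import Groth.Agent.Lib.FunField.HyperPlaces26
-- import your own Groth.Agent.* helpers here

set_option autoImplicit false
open FunFld

namespace Groth.Agent.S12515

/-- If `char k ≠ 2` and `K` has degree `2` over the rational function field `k(x)`, then `K = k(x)(y)`
for some `y` with `y² = f(x)`, `f` a squarefree polynomial over `k`. -/
theorem result (k K : Type*) [Field k] [Field K] (h2 : ringChar k ≠ 2)
    [Algebra (RatFunc k) K] (hdeg : Module.finrank (RatFunc k) K = 2) :
    ∃ (y : K) (f : Polynomial k), Squarefree f ∧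
      y ^ 2 = algebraMap (RatFunc k) K (algebraMap (Polynomial k) (RatFunc k) f) ∧
      IntermediateField.adjoin (RatFunc k) ({y} : Set K) = ⊤ := by
  letI : Algebra k K := ((algebraMap (RatFunc k) K).comp (algebraMap k (RatFunc k))).toAlgebra
  haveI : IsScalarTower k (RatFunc k) K := IsScalarTower.of_algebraMap_eq fun _ => rfl
  haveI : FiniteDimensional (RatFunc k) K := Module.finite_of_finrank_eq_succ hdeg
  have h2k := Ring.two_ne_zero h2
  have h2F : (2 : RatFunc k) ≠ 0 := by
    rw [← map_ofNat (algebraMap k (RatFunc k)) 2]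
    simpa using h2k
  obtain ⟨w, hw, r, hr⟩ := Groth.Agent.FunField.exists_sq_mem_of_finrank_two hdeg h2F
  have hr0 : r ≠ 0 := by
    rintro rfl
    rw [map_zero] at hr
    exact hw ⟨0, by rw [map_zero]; exact ((pow_eq_zero_iff two_ne_zero).1 hr.symm).symm⟩
  obtain ⟨s, f, hs, hf, hsf⟩ := Groth.Agent.FunField.exists_sq_mul_squarefree (r.num * r.denom)
    (mul_ne_zero (RatFunc.num_ne_zero hr0) r.denom_ne_zero)
  set c : RatFunc k := algebraMap (Polynomial k) (RatFunc k) r.denom /
    algebraMap (Polynomial k) (RatFunc k) s with hcdef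
  have hs' : algebraMap (Polynomial k) (RatFunc k) s ≠ 0 := by simpa using hs
  have hd' : algebraMap (Polynomial k) (RatFunc k) r.denom ≠ 0 :=
    RatFunc.algebraMap_ne_zero r.denom_ne_zero
  have hc : c ≠ 0 := div_ne_zero hd' hs'
  have key : r * c ^ 2 = algebraMap (Polynomial k) (RatFunc k) f := by
    have e := congrArg (algebraMap (Polynomial k) (RatFunc k)) hsf
    rw [map_mul, map_mul, map_pow] at e
    conv_lhs => rw [← RatFunc.num_div_denom r]
    rw [hcdef]
    field_simp
    linear_combination e
  refine ⟨w * algebraMap (RatFunc k) K c, f, hf, ?_, ?_⟩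
  · rw [mul_pow, ← hr, ← map_pow, ← map_mul, key]
  · haveI : IsSimpleOrder (IntermediateField (RatFunc k) K) :=
      IntermediateField.isSimpleOrder_of_finrank_prime (RatFunc k) K (by rw [hdeg]; exact Nat.prime_two)
    refine (IsSimpleOrder.eq_bot_or_eq_top _).resolve_left fun hbot => ?_
    rw [IntermediateField.adjoin_simple_eq_bot_iff] at hbot
    obtain ⟨a, ha⟩ := IntermediateField.mem_bot.1 hbot
    refine hw ⟨a / c, ?_⟩
    rw [map_div₀, ha, mul_div_cancel_right₀ w (by simpa using hc)]

end Groth.Agent.S12515
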