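import Groth.Statements.S12516
import Groth.Agent.Lib.FunField.HyperPlaces26
-- import your own Groth.Agent.* helpers here

set_option autoImplicit false
open FunFld

namespace Groth.Agent.S12516

/-- Let `char k ≠ 2`, `K` of degree `2` over `k(x)`, `y ∈ K` with `y² = f(x)` for a squarefree
polynomial `f` of degree `≥ 1`, and `P∞` the place of `k(x)` at which `x` has a pole. If `deg f` is
odd there is a unique place of `K` above `P∞`; it has ramification index `2` and degree `1`. If `deg
f` is even, every place of `K` above `P∞` is unramified and the conorm of `P∞` has degree `2` (so it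
is one place of degree `2` or the sum of two places of degree `1`). -/
theorem result (k K : Type*) [Field k] [Field K] (h2 : ringChar k ≠ 2) [Algebra k K]
    [Algebra (RatFunc k) K] [IsScalarTower k (RatFunc k) K]
    (hdeg : Module.finrank (RatFunc k) K = 2) (y : K) (f : Polynomial k) (hf : Squarefree f)
    (hd : 1 ≤ f.natDegree)
    (heq : y ^ 2 = algebraMap (RatFunc k) K (algebraMap (Polynomial k) (RatFunc k) f))
    (Pinf : FunFld.Place k (RatFunc k)) (hinf : Pinf.ord (RatFunc.X : RatFunc k) < 0) :
    (Odd f.natDegree → (∃! P : FunFld.Place k K, FunFld.IsOver P Pinf) ∧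
      ∀ P : FunFld.Place k K, FunFld.IsOver P Pinf → FunFld.IsOverWith P Pinf 2 ∧ P.deg = 1) ∧
    (Even f.natDegree → (FunFld.conorm K (Finsupp.single Pinf 1)).deg = 2 ∧
      ∀ P : FunFld.Place k K, FunFld.IsOver P Pinf → FunFld.IsOverWith P Pinf 1) := by
  open Groth.Agent.FunField in
  haveI : FiniteDimensional (RatFunc k) K := Module.finite_of_finrank_eq_succ hdeg
  open Groth.Agent.FunField in
  have H := Hyp.of_ratFunc h2 hdeg hf hd heq
  have h0 : 1 < Pinf.1 (RatFunc.X : RatFunc k) := by
    by_contra hc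
    have := (Groth.Agent.FunField.ord_nonneg_iff Pinf _).2 (not_lt.1 hc)
    omega
  have hdeg1 := Groth.Agent.FunField.deg_infinity Pinf h0
  refine ⟨fun hodd => ⟨?_, fun P hP => ?_⟩, fun heven => ⟨?_, fun P hP => ?_⟩⟩
  · obtain ⟨P, e, he⟩ := Groth.Agent.FunField.exists_over (K' := K) Groth.Agent.FunField.ff_ratFunc Pinf
    have h := H.infinity_odd hdeg h0 hodd he
    exact ⟨P, ⟨e, he⟩, fun Q hQ => ((Groth.Agent.FunField.fibre_of_two hdeg he).2 h.ge).2 Q hQ⟩
  · obtain ⟨e, he⟩ := hP
    obtain rfl := H.infinity_odd hdeg h0 hodd he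
    exact ⟨he, ((Groth.Agent.FunField.fibre_of_two hdeg he).2 le_rfl).1.trans hdeg1⟩
  · rw [Groth.Agent.FunField.deg_conorm Groth.Agent.FunField.ff_ratFunc,
      Groth.Agent.FunField.deg_single, hdeg, hdeg1]
    norm_num
  · obtain ⟨e, he⟩ := hP
    obtain rfl := H.infinity_even hdeg h0 heven he
    exact he

end Groth.Agent.S12516
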