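import Groth.Statements.S12518
import Groth.Agent.Lib.FunField.AS26
-- import your own Groth.Agent.* helpers here

set_option autoImplicit false
open FunFld

namespace Groth.Agent.S12518

/-- If `k` is perfect of characteristic `2` and `K` is a separable extension of degree `2` of `k(x)`,
then `K = k(x)(y)` for some `y` with `y² + y = f(x)` such that every pole of `f`, at any place of
`k(x)/k` including the infinite one, has odd order. -/
theorem result (k K : Type*) [Field k] [Field K] [PerfectField k] (h2 : ringChar k = 2)
    [Algebra k K] [Algebra (RatFunc k) K] [IsScalarTower k (RatFunc k) K]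
    (hdeg : Module.finrank (RatFunc k) K = 2) [Algebra.IsSeparable (RatFunc k) K] :
    ∃ (y : K) (f : RatFunc k), y ^ 2 + y = algebraMap (RatFunc k) K f ∧
      IntermediateField.adjoin (RatFunc k) ({y} : Set K) = ⊤ ∧
      ∀ P : FunFld.Place k (RatFunc k), P.ord f < 0 → Odd (P.ord f) := by
  haveI : FiniteDimensional (RatFunc k) K := Module.finite_of_finrank_eq_succ hdeg
  have h2' := Groth.Agent.FunField.two_eq_zero_of_ringChar h2
  obtain ⟨y, f, hy, hyf⟩ := Groth.Agent.FunField.exists_as_gen hdeg (Groth.Agent.FunField.two_eq_zero_alg (k := k) h2')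
  obtain ⟨a, ha⟩ := Groth.Agent.FunField.exists_odd_poles h2' f
  haveI : IsSimpleOrder (IntermediateField (RatFunc k) K) :=
    IntermediateField.isSimpleOrder_of_finrank_prime (RatFunc k) K (by rw [hdeg]; exact Nat.prime_two)
  refine ⟨y + algebraMap (RatFunc k) K a, f + a ^ 2 + a, ?_, ?_, ha⟩
  · rw [map_add, map_add, map_pow, ← hyf]
    linear_combination (y * algebraMap (RatFunc k) K a) * Groth.Agent.FunField.two_eq_zero_alg (k := k) (A := K) h2'
  · refine (IsSimpleOrder.eq_bot_or_eq_top _).resolve_left fun hbot => ?_
    obtain ⟨r, hr⟩ := IntermediateField.mem_bot.1 (IntermediateField.adjoin_simple_eq_bot_iff.1 hbot)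
    exact hy ⟨r - a, by rw [map_sub, hr, add_sub_cancel_right]⟩

end Groth.Agent.S12518
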