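import Groth.Statements.S12520
import Groth.Agent.Lib.GeomFF26.Basic
-- import your own Groth.Agent.* helpers here

set_option autoImplicit false
universe u v
open FunFld

namespace Groth.Agent.S12520

/-- For a geometric function field of one variable `K/k` of characteristic `p > 0` and a geometric
function field `K₀/k₀` with `K₀ ⊆ K` of finite index (and `k₀ ⊆ k` compatibly), the map `Ω_{K₀/k₀} →
Ω_{K/k}` induced by the inclusion vanishes when `K₀ ⊆ kK^p` and is injective otherwise. -/
theorem result (k₀ k : Type u) (K₀ K : Type v) [Field k₀] [Field k] [Field K₀] [Field K]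
    [Algebra k₀ k] [Algebra k₀ K₀] [Algebra k₀ K] [Algebra k K] [Algebra K₀ K]
    [IsScalarTower k₀ k K] [IsScalarTower k₀ K₀ K] [FiniteDimensional K₀ K]
    (p : ℕ) [Fact p.Prime] [CharP K p]
    (hK : FunFld.IsFunctionField k K) (hg : FunFld.IsGeometric k K)
    (hK₀ : FunFld.IsFunctionField k₀ K₀) (hg₀ : FunFld.IsGeometric k₀ K₀) :
    (Set.range (algebraMap K₀ K) ⊆ ↑(IntermediateField.adjoin k (Set.range fun y : K => y ^ p)) →
      KaehlerDifferential.map k₀ k K₀ K = 0) ∧
    (¬ Set.range (algebraMap K₀ K) ⊆ ↑(IntermediateField.adjoin k (Set.range fun y : K => y ^ p)) →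
      Function.Injective (KaehlerDifferential.map k₀ k K₀ K)) := by
  obtain ⟨x, hx⟩ := GeomFF26.exists_sep hK₀.1 hg₀
  have hspan : ∀ ω : KaehlerDifferential k₀ K₀, ∃ c : K₀, c • KaehlerDifferential.D k₀ K₀ x = ω := fun ω =>
    Submodule.mem_span_singleton.1 (by rw [hx]; trivial)
  have hmap : ∀ a : K₀, KaehlerDifferential.map k₀ k K₀ K (KaehlerDifferential.D k₀ K₀ a) =
      KaehlerDifferential.D k K (algebraMap K₀ K a) := fun a => KaehlerDifferential.map_D k₀ k K₀ K a
  refine ⟨fun h => ?_, fun h => ?_⟩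
  · refine LinearMap.ext fun ω => ?_
    obtain ⟨c, rfl⟩ := hspan ω
    rw [map_smul, hmap, (GeomFF26.mem_kKp_iff p hK.1 hg _).1 (h ⟨x, rfl⟩), smul_zero, LinearMap.zero_apply]
  · rw [Set.range_subset_iff, not_forall] at h
    obtain ⟨a, ha⟩ := h
    have hxne : KaehlerDifferential.D k K (algebraMap K₀ K x) ≠ 0 := by
      intro h0
      refine ha ((GeomFF26.mem_kKp_iff p hK.1 hg _).2 ?_)
      obtain ⟨c, hc⟩ := hspan (KaehlerDifferential.D k₀ K₀ a)
      rw [← hmap, ← hc, map_smul, hmap, h0, smul_zero]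
    refine (injective_iff_map_eq_zero _).2 fun ω hω => ?_
    obtain ⟨c, rfl⟩ := hspan ω
    rw [map_smul, hmap, ← algebraMap_smul K c, smul_eq_zero] at hω
    rw [(map_eq_zero (algebraMap K₀ K)).1 (hω.resolve_right hxne), zero_smul]

end Groth.Agent.S12520
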