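import Groth.Statements.S12524
import Mathlib
import Groth.Agent.Lib.Compl.Complete

set_option autoImplicit false
universe u v
open CAlg

namespace Groth.Agent.S12524
open CategoryTheory

open IsLocalRing in

open IsLocalRing in
/-- Let `A` be a complete discrete valuation ring with maximal ideal `m`, containing a field `K` such
that `K → A → A/m` is bijective (a coefficient field), and let `x` be any generator of `m`. Then the
`K`-algebra map `K[X] → A`, `X ↦ x`, extends to a bijective `K`-algebra map `φ : K⟦X⟧ → A`,
characterised by `φ(∑ aᵢ Xⁱ) ≡ ∑_{i<n} aᵢ xⁱ (mod mⁿ)` for every `n`. -/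
theorem result (K : Type u) (A : Type v) [Field K]
    [CommRing A] [IsDomain A] [IsDiscreteValuationRing A] [Algebra K A]
    [IsAdicComplete (maximalIdeal A) A]
    (hK : Function.Bijective ((residue A).comp (algebraMap K A)))
    (x : A) (hx : maximalIdeal A = Ideal.span {x}) :
    ∃ φ : PowerSeries K →ₐ[K] A, φ PowerSeries.X = x ∧ Function.Bijective φ ∧
      ∀ (f : PowerSeries K) (n : ℕ),
        φ f - (Finset.range n).sum (fun i => algebraMap K A (PowerSeries.coeff i f) * x ^ i) ∈
          maximalIdeal A ^ n := by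
  classical
  let q : ∀ n : ℕ, Polynomial K →+* A ⧸ maximalIdeal A ^ n := fun n =>
    (Ideal.Quotient.mk _).comp (Polynomial.aeval x).toRingHom
  have hq : ∀ (n : ℕ) (p : Polynomial K), q n (PowerSeries.trunc n (p : PowerSeries K)) = q n p := by
    intro n p
    have hd : Polynomial.X ^ n ∣ (p - PowerSeries.trunc n (p : PowerSeries K)) := by
      rw [Polynomial.X_pow_dvd_iff]
      intro d hd
      rw [Polynomial.coeff_sub, PowerSeries.coeff_trunc, if_pos hd, Polynomial.coeff_coe, sub_self]
    obtain ⟨c, hc⟩ := hd
    symm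
    rw [← sub_eq_zero, ← map_sub, hc, map_mul]
    have : q n (Polynomial.X ^ n) = 0 := by
      simp only [q, RingHom.comp_apply, AlgHom.toRingHom_eq_coe, RingHom.coe_coe, map_pow, Polynomial.aeval_X]
      rw [← map_pow, Ideal.Quotient.eq_zero_iff_mem]
      exact Ideal.pow_mem_pow (hx ▸ Ideal.mem_span_singleton_self x) n
    rw [this, zero_mul]
  let ψ : ∀ n : ℕ, PowerSeries K →+* A ⧸ maximalIdeal A ^ n := fun n =>
    { toFun := fun f => q n (PowerSeries.trunc n f)
      map_one' := by rw [← Polynomial.coe_one, hq, map_one]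
      map_mul' := fun f g => by rw [← PowerSeries.trunc_trunc_mul_trunc, ← Polynomial.coe_mul, hq, map_mul]
      map_zero' := by rw [map_zero, map_zero]
      map_add' := fun f g => by rw [map_add, map_add] }
  have hψ : ∀ {m n : ℕ} (h : m ≤ n), (Ideal.Quotient.factorPow (maximalIdeal A) h).comp (ψ n) = ψ m := by
    intro m n h
    refine RingHom.ext fun f => ?_
    show Ideal.Quotient.factorPow (maximalIdeal A) h (q n (PowerSeries.trunc n f)) = q m (PowerSeries.trunc m f)
    rw [← PowerSeries.trunc_trunc_of_le f h, hq m]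
    rfl
  let φ₀ : PowerSeries K →+* A := IsAdicComplete.liftRingHom (maximalIdeal A) ψ hψ
  have hφ : ∀ f n, Ideal.Quotient.mk (maximalIdeal A ^ n) (φ₀ f) = q n (PowerSeries.trunc n f) := fun f n =>
    IsAdicComplete.mk_liftRingHom _ ψ hψ n f
  have hausd : ∀ a b : A, (∀ n, Ideal.Quotient.mk (maximalIdeal A ^ n) a = Ideal.Quotient.mk _ b) → a = b := by
    intro a b h
    rw [← sub_eq_zero]
    refine IsHausdorff.haus' (I := maximalIdeal A) _ fun n => ?_
    rw [SModEq.zero, smul_eq_mul, Ideal.mul_top, ← Ideal.Quotient.eq]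
    exact h n
  have hcoe : ∀ p : Polynomial K, φ₀ (p : PowerSeries K) = Polynomial.aeval x p := fun p =>
    hausd _ _ fun n => by rw [hφ, hq]; rfl
  let φ : PowerSeries K →ₐ[K] A := { φ₀ with
    commutes' := fun c => by
      show φ₀ (algebraMap K (PowerSeries K) c) = algebraMap K A c
      rw [show algebraMap K (PowerSeries K) c = ((Polynomial.C c : Polynomial K) : PowerSeries K) by simp, hcoe, Polynomial.aeval_C] }
  have hX : φ PowerSeries.X = x := by
    show φ₀ PowerSeries.X = x
    rw [← Polynomial.coe_X, hcoe, Polynomial.aeval_X]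
  have hsum : ∀ (f : PowerSeries K) (n : ℕ),
      φ f - (Finset.range n).sum (fun i => algebraMap K A (PowerSeries.coeff i f) * x ^ i) ∈ maximalIdeal A ^ n := by
    intro f n
    rw [← Ideal.Quotient.eq]
    show Ideal.Quotient.mk (maximalIdeal A ^ n) (φ₀ f) = _
    rw [hφ]
    show Ideal.Quotient.mk (maximalIdeal A ^ n) (Polynomial.aeval x (PowerSeries.trunc n f)) = _
    congr 1
    have e : PowerSeries.trunc n f = ∑ i ∈ Finset.range n, Polynomial.monomial i (PowerSeries.coeff i f) := by
      ext j
      rw [PowerSeries.coeff_trunc, Polynomial.finsetSum_coeff]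
      simp only [Polynomial.coeff_monomial]
      rw [Finset.sum_ite_eq' (Finset.range n) j fun i => PowerSeries.coeff i f]
      simp only [Finset.mem_range]
    rw [e, map_sum]
    simp only [Polynomial.aeval_monomial]
  refine ⟨φ, hX, ⟨?_, ?_⟩, hsum⟩
  · rw [injective_iff_map_eq_zero]
    intro f hf
    by_contra hf0
    have hu : IsUnit (PowerSeries.divXPowOrder f) := by
      rw [PowerSeries.isUnit_iff_constantCoeff, isUnit_iff_ne_zero]
      exact PowerSeries.constantCoeff_divXPowOrder_eq_zero_iff.not.2 hf0
    have hx0 : x ≠ 0 := fun h => IsDiscreteValuationRing.not_a_field A (by rw [hx, h, Ideal.span_singleton_eq_bot])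
    rw [← PowerSeries.X_pow_order_mul_divXPowOrder (f := f), map_mul, map_pow, hX] at hf
    exact mul_ne_zero (pow_ne_zero _ hx0) (hu.map φ).ne_zero hf
  · intro a
    have step : ∀ a : A, ∃ c : K × A, a = algebraMap K A c.1 + x * c.2 := by
      intro a
      obtain ⟨c, hc⟩ := hK.2 (residue A a)
      have : a - algebraMap K A c ∈ maximalIdeal A := Ideal.Quotient.eq.1 hc.symm
      rw [hx, Ideal.mem_span_singleton'] at this
      obtain ⟨b, hb⟩ := this
      exact ⟨(c, b), by rw [mul_comm]; simp [hb]⟩
    choose c hc using step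
    let as : ℕ → A := fun n => Nat.rec a (fun _ b => (c b).2) n
    refine ⟨PowerSeries.mk fun i => (c (as i)).1, ?_⟩
    have key : ∀ n, a = (Finset.range n).sum (fun i => algebraMap K A (c (as i)).1 * x ^ i) + x ^ n * as n := by
      intro n
      induction n with
      | zero => simp [as]
      | succ n ih =>
        rw [Finset.sum_range_succ]
        conv_lhs => rw [ih, hc (as n)]
        simp only [as]
        ring
    refine hausd _ _ fun n => ?_
    rw [Ideal.Quotient.eq]
    have h1 := hsum (PowerSeries.mk fun i => (c (as i)).1) n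
    simp only [PowerSeries.coeff_mk] at h1
    have h2 : x ^ n * as n ∈ maximalIdeal A ^ n := Ideal.mul_mem_right _ _ (Ideal.pow_mem_pow (hx ▸ Ideal.mem_span_singleton_self x) n)
    have := sub_mem h1 h2
    convert this using 1
    conv_lhs => rw [key n]
    ring

end Groth.Agent.S12524
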