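import Groth.Statements.S12526
import Groth.Agent.Lib.FunField.ConstExt26
-- import your own Groth.Agent.* helpers here

set_option autoImplicit false
universe u v
open FunFld

attribute [local instance high] Algebra.toModule

namespace Groth.Agent.S12526

/-- Let `K/k` be a geometric function field of one variable, `P` a place of `K`, `k'/k` finite and `K' =
k' ⊗_k K`; let `R` be the integral closure of `O_P` in `K'` and `R̃ = k' ⊗_k O_P = O_P[k']`. Then
`R/R̃` is finite-dimensional over `k`, and `R̃` contains a nonzero ideal of `R`. -/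
theorem result (k k' : Type u) (K K' : Type v) [Field k] [Field k'] [Field K] [Field K']
    [Algebra k k'] [FiniteDimensional k k'] [Algebra k K] [Algebra K K'] [Algebra k' K'] [Algebra k K']
    [IsScalarTower k k' K'] [IsScalarTower k K K']
    (h : Function.Bijective (Algebra.TensorProduct.productMap
      (IsScalarTower.toAlgHom k k' K') (IsScalarTower.toAlgHom k K K')))
    (hK : FunFld.IsFunctionField k K) (hg : FunFld.IsGeometric k K)
    (P : FunFld.Place k K) [Algebra P.O K'] [IsScalarTower P.O K K'] :
    (∃ V : Submodule k K', FiniteDimensional k V ∧ ∀ r ∈ integralClosure P.O K',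
        ∃ s ∈ Algebra.adjoin P.O (Set.range (algebraMap k' K')), r - s ∈ V) ∧
    (∃ c ∈ integralClosure P.O K', c ≠ 0 ∧ ∀ r ∈ integralClosure P.O K',
        c * r ∈ Algebra.adjoin P.O (Set.range (algebraMap k' K'))) := by
  classical
  haveI := Groth.Agent.FunField.finite_of_bijective h
  obtain ⟨t, ht0, ht⟩ := Groth.Agent.FunField.exists_uniformizer P
  obtain ⟨M, hM⟩ := Groth.Agent.FunField.exists_conductor P h hK.1 ht
  have hmap := Groth.Agent.FunField.algebraMap_O_apply (K' := K') P
  have hT0 : algebraMap K K' t ≠ 0 := by simpa using ht0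
  let tO : P.O := ⟨t, by rw [Groth.Agent.FunField.mem_O_iff, ht, ← WithZero.exp_zero, WithZero.exp_le_exp]; norm_num⟩
  refine ⟨?_, algebraMap K K' t ^ M, ?_, pow_ne_zero _ hT0, hM⟩
  swap
  · exact pow_mem (hmap tO ▸ Subalgebra.algebraMap_mem (integralClosure P.O K') tO) M
  have hrel := Groth.Agent.FunField.rel_filt hK.1 P (show (-(M : ℤ)) ≤ 0 by omega)
  haveI := hrel.fin
  let c := Module.finBasis k ((Groth.Agent.FunField.filt P 0) ⧸ (Groth.Agent.FunField.filt P (-(M : ℤ))).comap (Groth.Agent.FunField.filt P 0).subtype)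
  choose v hv using fun i => Submodule.mkQ_surjective _ (c i)
  obtain ⟨S, hS⟩ := (Groth.Agent.FunField.finite_integralClosure (K' := K') hK.1 P).fg_top
  let V : Submodule k K' := Submodule.span k
    (Set.range fun p : Fin (Module.finrank k ((Groth.Agent.FunField.filt P 0) ⧸ (Groth.Agent.FunField.filt P (-(M : ℤ))).comap (Groth.Agent.FunField.filt P 0).subtype)) × ↥S =>
      algebraMap K K' (v p.1 : K) * ((p.2 : integralClosure P.O K') : K'))
  refine ⟨V, FiniteDimensional.span_of_finite k (Set.finite_range _), fun r hr => ?_⟩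
  have hrS : (⟨r, hr⟩ : integralClosure P.O K') ∈ Submodule.span P.O (S : Set _) := by
    rw [hS]; trivial
  obtain ⟨o, -, ho⟩ := Submodule.mem_span_finset.1 hrS
  have happrox : ∀ o : P.O, ∃ a : Fin _ → k, P.1 ((o : K) - ∑ i, a i • (v i : K)) ≤ WithZero.exp (-(M : ℤ)) := by
    intro o
    have hoF : (o : K) ∈ Groth.Agent.FunField.filt P 0 := by rw [Groth.Agent.FunField.mem_filt, WithZero.exp_zero]; exact o.2
    refine ⟨c.repr (Submodule.Quotient.mk ⟨o, hoF⟩), ?_⟩
    have h1 := c.sum_repr (Submodule.Quotient.mk ⟨o, hoF⟩)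
    simp only [← hv, ← map_smul, ← map_sum] at h1
    have h2 := (Submodule.Quotient.eq _).1 h1.symm
    simp only [Submodule.mem_comap, map_sub, map_sum, map_smul, Submodule.subtype_apply] at h2
    exact h2
  choose a ha using happrox
  let u : integralClosure P.O K' → K := fun j => ∑ i, a (o j) i • (v i : K)
  refine ⟨∑ j ∈ S, algebraMap K K' ((o j : K) - u j) * (j : K'), Subalgebra.sum_mem _ fun j _ => ?_, ?_⟩
  · have h3 : P.1 (((o j : K) - u j) / t ^ M) ≤ 1 := by
      rw [map_div₀, map_pow, ht, ← WithZero.exp_nsmul, div_le_iff₀ WithZero.exp_pos, one_mul]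
      exact (ha (o j)).trans (le_of_eq (by simp))
    have e : algebraMap K K' ((o j : K) - u j) * (j : K') =
        algebraMap P.O K' ⟨_, h3⟩ * (algebraMap K K' t ^ M * (j : K')) := by
      rw [hmap, ← mul_assoc, ← map_pow, ← map_mul, div_mul_cancel₀ _ (pow_ne_zero _ ht0)]
    rw [e]
    exact mul_mem (Subalgebra.algebraMap_mem _ _) (hM _ j.2)
  · have hr' : r = ∑ j ∈ S, algebraMap K K' (o j : K) * (j : K') := by
      have := congrArg (integralClosure P.O K').val ho
      rw [map_sum] at this
      simp only [map_smul, Subalgebra.coe_val, Algebra.smul_def, hmap, MulMemClass.coe_mul, Subalgebra.coe_algebraMap] at this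
      exact this.symm
    rw [hr', ← Finset.sum_sub_distrib]
    refine Submodule.sum_mem _ fun j hj => ?_
    rw [← sub_mul, ← map_sub, sub_sub_cancel, map_sum, Finset.sum_mul]
    refine Submodule.sum_mem _ fun i _ => ?_
    have e : algebraMap K K' (a (o j) i • (v i : K)) * (j : K') =
        a (o j) i • (algebraMap K K' (v i : K) * (j : K')) := by
      rw [Algebra.smul_def, Algebra.smul_def, map_mul, ← IsScalarTower.algebraMap_apply]; ring
    rw [e]
    exact Submodule.smul_mem _ _ (Submodule.subset_span ⟨(i, ⟨j, hj⟩), rfl⟩)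

end Groth.Agent.S12526
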