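import Groth.Statements.S1253
import Groth.Agent.Lib.RG4.Step

set_option autoImplicit false
universe u
open FlatMor

set_option backward.isDefEq.respectTransparency.types false

namespace Groth.Agent.S1253


set_option backward.isDefEq.respectTransparency.types false
/-- Rearranging a chain of splittings. -/
theorem chain {R : Type u} [CommRing R] : ∀ (n : ℕ) (X M : ℕ → Type u) [∀ i, AddCommGroup (X i)] [∀ i, Module R (X i)]
    [∀ i, AddCommGroup (M i)] [∀ i, Module R (M i)], 0 < n →
    (∀ i, i + 1 < n → Nonempty (M i ≃ₗ[R] X i × M (i + 1))) → Nonempty (M (n - 1) ≃ₗ[R] X (n - 1)) →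
    Nonempty (M 0 ≃ₗ[R] ∀ i : Fin n, X i) := by
  intro n
  induction n with
  | zero => exact fun _ _ _ _ _ _ h => absurd h (lt_irrefl 0)
  | succ n ih =>
    intro X M _ _ _ _ _ hstep hlast
    rcases Nat.eq_zero_or_pos n with rfl | hn
    · obtain ⟨e⟩ := hlast
      exact ⟨e.trans (LinearEquiv.piUnique R fun i : Fin 1 => X i).symm⟩
    · obtain ⟨e⟩ := ih (fun i => X (i + 1)) (fun i => M (i + 1)) hn (fun i hi => hstep (i + 1) (by omega))
        (by rw [show n - 1 + 1 = n + 1 - 1 by omega]; exact hlast)
      obtain ⟨e₀⟩ := hstep 0 (by omega)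
      exact ⟨(e₀.trans ((LinearEquiv.refl R (X 0)).prodCongr e)).trans
        (Fin.consLinearEquiv R fun i : Fin (n + 1) => X i)⟩

open IsLocalRing in
/-- Let R be a local ring, S a finitely presented R-algebra, N a finite S-module and q a prime of S over
𝔪_R with N_q flat over R. If N/S/R admits a complete dévissage at q, then N is of finite
presentation over S and free over R; more precisely N is R-isomorphic to the product over the steps
of the dévissage of the free modules B_i^{r_i}, with B_i and r_i the dévissage's own smooth algebras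
and ranks. -/
theorem result {R S : Type u} [CommRing R] [IsLocalRing R] [CommRing S] [Algebra R S] [Algebra.FinitePresentation R S]
    (N : Type u) [AddCommGroup N] [Module S N] [Module R N] [IsScalarTower R S N] [Module.Finite S N]
    (q : Ideal S) [q.IsPrime] [q.LiesOver (maximalIdeal R)] (hflat : FlatCA.FlatAt R q N)
    (D : FlatCA.CompleteDevissage R S N (maximalIdeal R)) (hD : Nonempty (FlatCA.CompleteDevissageAt R S N (maximalIdeal R) q D)) :
    Module.FinitePresentation S N ∧ Module.Free R N ∧
      Nonempty (N ≃ₗ[R] (∀ i : Fin D.n, Fin (D.r i) → D.B i)) := by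
  obtain ⟨DA⟩ := hD
  let m := maximalIdeal R
  haveI : ∀ i, (DA.qB i).IsPrime := DA.hqB
  haveI : ∀ i, (DA.qA i).IsPrime := DA.hqA
  haveI : ∀ i, (DA.qB i).LiesOver m := DA.overB
  haveI : ∀ i, (DA.qA i).LiesOver (DA.qB i) := DA.overA
  haveI hRAM : ∀ i, IsScalarTower R (D.A i) (D.M i) := fun i => IsScalarTower.of_algebraMap_smul fun x y => by
    rw [IsScalarTower.algebraMap_apply R (D.B i) (D.A i), algebraMap_smul, algebraMap_smul]
  haveI hRB'M : ∀ i, IsScalarTower R (D.B i) (D.M (i + 1)) := fun i => IsScalarTower.of_algebraMap_smul fun x y => by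
    rw [← algebraMap_smul (D.A (i + 1)) (algebraMap R (D.B i) x) y, ← IsScalarTower.algebraMap_apply, algebraMap_smul]
  haveI hRSM : IsScalarTower R S (D.M 0) := IsScalarTower.of_algebraMap_smul fun x y => by
    rw [← algebraMap_smul (D.A 0) (algebraMap R S x) y, ← IsScalarTower.algebraMap_apply, algebraMap_smul]
  haveI : Module.Finite S (D.A 0) := Module.Finite.of_surjective (Algebra.linearMap S (D.A 0)) D.surjSA
  haveI : (DA.qA 0).LiesOver q := ⟨DA.q0.symm⟩
  have hA0 : FlatCA.FlatAt R (DA.qA 0) (D.M 0) :=
    (RG4.flatAt_iff_of_unique (DA.qA 0) q fun Q _ hQ => Ideal.comap_injective_of_surjective _ D.surjSA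
      (hQ.over.symm.trans DA.q0.symm)).2 (RG4.flatAt_congr q D.isoN hflat)
  have hfinB : ∀ i, i < D.n → Module.Finite (D.B i) (D.M i) := fun i hi => by
    haveI := D.finiteBA i hi
    haveI := D.finiteM i hi
    exact Module.Finite.trans (D.A i) (D.M i)
  have hstep : ∀ i, i < D.n → FlatCA.FlatAt R (DA.qA i) (D.M i) →
      FlatCA.UnivInj R ((D.α i).restrictScalars R) ∧ FlatCA.FlatAt R (DA.qB i) (D.M i ⧸ LinearMap.range (D.α i)) := by
    intro i hi h
    haveI := D.finiteBA i hi
    haveI := D.smooth i hi
    haveI := hfinB i hi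
    exact RG4.univInj_and_flatAt_coker (D.geomIrred i hi) (DA.qB i)
      ((RG4.flatAt_iff_of_unique (DA.qA i) (DA.qB i) fun Q _ hQ => DA.uniq i hi Q hQ).1 h) (D.α i) (D.fibreIso i hi)
  have hA : ∀ i, i < D.n → FlatCA.FlatAt R (DA.qA i) (D.M i) := by
    intro i
    induction i with
    | zero => exact fun _ => hA0
    | succ i ih =>
      intro hi
      have hsurj := D.surjBA' i hi
      haveI : Module.Finite (D.B i) (D.A (i + 1)) :=
        Module.Finite.of_surjective (Algebra.linearMap (D.B i) (D.A (i + 1))) hsurj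
      haveI : (DA.qA (i + 1)).LiesOver (DA.qB i) := ⟨(DA.qStep i hi).symm⟩
      exact (RG4.flatAt_iff_of_unique (DA.qA (i + 1)) (DA.qB i) fun Q _ hQ =>
        Ideal.comap_injective_of_surjective _ hsurj (hQ.over.symm.trans (DA.qStep i hi).symm)).2
        (RG4.flatAt_congr _ (D.isoCoker i hi) (hstep i (by omega) (ih (by omega))).2)
  have hinj : ∀ i, i < D.n → Function.Injective (D.α i) := fun i hi x y hxy => by
    have h := (hstep i hi (hA i hi)).1 R
    refine (TensorProduct.lid R _).symm.injective (h ?_)
    show (1 : R) ⊗ₜ[R] D.α i x = (1 : R) ⊗ₜ[R] D.α i y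
    rw [hxy]
  have hfreeB : ∀ i, i < D.n → Module.Free R (Fin (D.r i) → D.B i) := fun i hi => by
    haveI := D.smooth i hi
    haveI := RG4.free_of_smooth (D.geomIrred i hi)
    infer_instance
  have eLast : (Fin (D.r (D.n - 1)) → D.B (D.n - 1)) ≃ₗ[D.B (D.n - 1)] D.M (D.n - 1) :=
    LinearEquiv.ofBijective (D.α (D.n - 1)) ⟨hinj _ (by have := D.pos; omega), D.cokerLast⟩
  -- downwards induction
  have hdown : ∀ j i, i + j + 1 = D.n → Module.Free R (D.M i) ∧ Module.FinitePresentation (D.A i) (D.M i) := by
    intro j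
    induction j with
    | zero =>
      intro i hi
      obtain rfl : i = D.n - 1 := by omega
      have hlt : D.n - 1 < D.n := by omega
      haveI := hfreeB _ hlt
      haveI := D.finiteBA _ hlt
      haveI : Module.FinitePresentation (D.B (D.n - 1)) (D.M (D.n - 1)) := Module.FinitePresentation.of_equiv eLast
      exact ⟨Module.Free.of_equiv (eLast.restrictScalars R),
        RG4.finitePresentation_of_finite (B := D.B (D.n - 1))⟩
    | succ j ih =>
      intro i hi
      have hlt : i < D.n := by omega
      have hlt' : i + 1 < D.n := by omega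
      obtain ⟨hfree, hfp⟩ := ih (i + 1) (by omega)
      haveI := hfree
      haveI := hfp
      haveI := hfreeB i hlt
      haveI := D.finiteBA i hlt
      have hsurj := D.surjBA' i hlt'
      haveI : Algebra.FinitePresentation (D.B i) (D.A (i + 1)) := D.fpBA' i hlt'
      haveI : Module.FinitePresentation (D.B i) (D.A (i + 1)) :=
        Module.finitePresentation_of_surjective (Algebra.linearMap (D.B i) (D.A (i + 1))) hsurj
          (Algebra.FinitePresentation.ker_fG_of_surjective (Algebra.ofId (D.B i) (D.A (i + 1))) hsurj)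
      haveI : Module.FinitePresentation (D.B i) (D.M (i + 1)) :=
        Module.FinitePresentation.trans (D.B i) (D.M (i + 1)) (D.A (i + 1))
      haveI : Module.Projective R (D.M (i + 1)) := inferInstance
      obtain ⟨e⟩ := RG4.exists_equiv_prod (D.α i) (hinj i hlt) ((D.isoCoker i hlt').restrictScalars R)
      haveI : Module.FinitePresentation (D.B i) (D.M i ⧸ LinearMap.range (D.α i)) :=
        Module.FinitePresentation.of_equiv (D.isoCoker i hlt').symm
      haveI : Module.FinitePresentation (D.B i) (LinearMap.ker (LinearMap.range (D.α i)).mkQ) := by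
        rw [Submodule.ker_mkQ]
        exact Module.FinitePresentation.of_equiv (LinearEquiv.ofInjective (D.α i) (hinj i hlt))
      haveI : Module.FinitePresentation (D.B i) (D.M i) :=
        Module.finitePresentation_of_ker _ (Submodule.mkQ_surjective (LinearMap.range (D.α i)))
      exact ⟨Module.Free.of_equiv e.symm, RG4.finitePresentation_of_finite (B := D.B i)⟩
  obtain ⟨hfree0, hfp0⟩ := hdown (D.n - 1) 0 (by have := D.pos; omega)
  haveI := hfree0
  haveI := hfp0
  haveI : Algebra.FinitePresentation S (D.A 0) := D.fpSA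
  haveI : Module.FinitePresentation S (D.A 0) :=
    Module.finitePresentation_of_surjective (Algebra.linearMap S (D.A 0)) D.surjSA
      (Algebra.FinitePresentation.ker_fG_of_surjective (Algebra.ofId S (D.A 0)) D.surjSA)
  haveI : Module.FinitePresentation S (D.M 0) := Module.FinitePresentation.trans S (D.M 0) (D.A 0)
  refine ⟨Module.FinitePresentation.of_equiv D.isoN.symm, Module.Free.of_equiv (D.isoN.restrictScalars R).symm, ?_⟩
  obtain ⟨e⟩ := chain (R := R) D.n (fun i => Fin (D.r i) → D.B i) D.M D.pos (fun i hi => by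
    obtain ⟨hfree, -⟩ := hdown (D.n - (i + 1) - 1) (i + 1) (by omega)
    haveI := hfree
    exact RG4.exists_equiv_prod (D.α i) (hinj i (by omega)) ((D.isoCoker i hi).restrictScalars R))
    ⟨eLast.symm.restrictScalars R⟩
  exact ⟨(D.isoN.restrictScalars R).trans e⟩

end Groth.Agent.S1253
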