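import Groth.Statements.S12532
import Groth.Agent.Lib.FunField.Proj3
-- import your own Groth.Agent.* helpers here

set_option autoImplicit false
open FunFld

namespace Groth.Agent.S12532

/-- Over an algebraically closed field `k`, let `φ = (φ₀, …, φₙ)`, `n ≥ 1`, be a birational projective
map of the function field `K/k` and `P` a place with image point `a = φ(P)`. Then for some `N`,
every `z ∈ K` with `ord_Q z ≥ N` at all places `Q` over `a` belongs to the local ring `O_a` of `φ`
at `P` (quotients of polynomials in the ratios `φᵢ/φⱼ` with denominator a unit at `P`). (The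
published statement asserts that each nonzero ideal of `O_a` includes some nonzero ideal of the
integral closure `R_a`, with `R_a/I` finite-dimensional; this row states the inclusion the printed
proof establishes, from which those follow.) -/
theorem result (k K : Type*) [Field k] [IsAlgClosed k] [Field K] [Algebra k K]
    (hK : FunFld.IsFunctionField k K) {n : ℕ} (hn : 1 ≤ n)
    (φ : Fin (n + 1) → K) (hφ : LinearIndependent k φ)
    (hbir : IntermediateField.adjoin k (Set.range fun i => φ i / φ 0) = ⊤) (P : FunFld.Place k K) :
    ∃ N : ℕ, ∀ z : K, (∀ Q : FunFld.Place k K, FunFld.SameImage φ P Q → Q.1 z ≤ WithZero.exp (-(N : ℤ))) →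
      FunFld.InLocRing φ P z := by
  obtain ⟨hG, hd⟩ := Groth.Agent.FunField.gen_of_linearIndependent hK hn hφ
  obtain ⟨j, hjV, hj0, hjP, hjm⟩ := hG.exists_index P
  obtain ⟨N, hN⟩ := hG.exists_bound hK hd (Groth.Agent.FunField.bir_of_adjoin hbir) hjV hjP
  exact ⟨N, fun z hz => (Groth.Agent.FunField.inLocRing_iff hG hjV hjP ⟨j, hjm⟩ z).2
    (hN z fun Q hS => hz Q ((Groth.Agent.FunField.sameImage_iff hK hG hjV hjP).2 hS))⟩

end Groth.Agent.S12532
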