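import Groth.Statements.S12535
import Groth.Agent.Lib.FunField.HyperPlaces26
-- import your own Groth.Agent.* helpers here

set_option autoImplicit false
open FunFld

namespace Groth.Agent.S12535

/-- Let `char k ≠ 2`, `K` of degree `2` over `k(x)`, and `y ∈ K` with `y² = f(x)`, `f` a squarefree
polynomial of degree `≥ 1`. Then a place `P` of `K` is a zero of `y` exactly when it lies over a
finite place of `k(x)` where `f` has a zero, and in that case `ord_P(y) = 1`: the divisor of zeros
of `y` is `Σ P_i`, one place over each irreducible factor of `f`, with multiplicity one. -/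
theorem result (k K : Type*) [Field k] [Field K] (h2 : ringChar k ≠ 2) [Algebra k K]
    [Algebra (RatFunc k) K] [IsScalarTower k (RatFunc k) K]
    (hdeg : Module.finrank (RatFunc k) K = 2) (y : K) (f : Polynomial k) (hf : Squarefree f)
    (hd : 1 ≤ f.natDegree)
    (heq : y ^ 2 = algebraMap (RatFunc k) K (algebraMap (Polynomial k) (RatFunc k) f)) (P : FunFld.Place k K) :
    (0 < P.ord y → P.ord y = 1) ∧
    (0 < P.ord y ↔ ∃ P₀ : FunFld.Place k (RatFunc k), FunFld.IsOver P P₀ ∧ 0 ≤ P₀.ord (RatFunc.X : RatFunc k) ∧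
      0 < P₀.ord (algebraMap (Polynomial k) (RatFunc k) f)) := by
  open Groth.Agent.FunField in
  haveI : FiniteDimensional (RatFunc k) K := Module.finite_of_finrank_eq_succ hdeg
  open Groth.Agent.FunField in
  have H := Hyp.of_ratFunc h2 hdeg hf hd heq
  refine ⟨fun hy => ?_, fun hy => ?_, ?_⟩
  · obtain ⟨P₀, e, p, he, hp, hpf, h1, -, -⟩ := H.exists_root_below hy
    exact (H.ramified hdeg hp hpf h1 he).2.1
  · obtain ⟨P₀, e, p, he, hp, hpf, h1, hX, hF⟩ := H.exists_root_below hy
    exact ⟨P₀, ⟨e, he⟩, (Groth.Agent.FunField.ord_nonneg_iff P₀ _).2 hX,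
      (Groth.Agent.FunField.val_lt_one_iff' P₀ (by simpa using H.f_ne_zero)).1 hF⟩
  · rintro ⟨P₀, ⟨e, he⟩, -, hF⟩
    have hF' := (Groth.Agent.FunField.val_lt_one_iff' P₀ (by simpa using H.f_ne_zero)).2 hF
    obtain ⟨p, hp, hpf, h1⟩ :=
      Groth.Agent.FunField.exists_irreducible_of_val_lt P₀ H.f_ne_zero hF'
    have := (H.ramified hdeg hp hpf h1 he).2.1
    omega

end Groth.Agent.S12535
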