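import Groth.Statements.S12536
import Groth.Agent.Lib.BC8.NoEmbedded
import Groth.Agent.Lib.BC8.DlzProper
import Groth.Agent.Lib.BC8.DlzCMModule
import Groth.Agent.Lib.BC8.ViaCM
import Groth.Agent.Lib.BC8.DlzTen

set_option autoImplicit false
universe u
open CategoryTheory CategoryTheory.Limits AlgebraicGeometry Opposite
attribute [local instance] HasDerivedCategory.standard
open Dual3

namespace Groth.Agent.S12536


/-- Let `X` be proper and reduced over a field `k`, of pure dimension `1`, with dualizing module `ω =
H^{-1}(a(O))` (`a` right adjoint to `Rf_*` on `D_QCoh`, `O` the structure sheaf of `Spec k` in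
degree `0`), and let `U ⊆ X` be an open subscheme containing every non-closed point. Then `ω →
j_*(ω|_U)` is injective: for every open `V`, restriction of sections `ω(V) → ω(V ∩ U)` is injective.
(The published statement takes `U` to be the dense open smooth locus of a generically smooth `X`;
this row allows any open `U` containing the generic points, which is what the printed proof uses:
the kernel is supported at finitely many closed points.) -/
theorem result (k : Type u) [Field k] (X : Scheme.{u}) (f : X ⟶ Spec (CommRingCat.of k))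
    [IsProper f] [IsReduced X]
    (hdim : ∀ Z ∈ irreducibleComponents X, topologicalKrullDim ↥Z = (1 : WithBot ℕ∞))
    [DCoh.HasRpush f] (hf : DCoh.RpushPreservesQCoh f)
    (a : DCoh.DQCoh (Spec (CommRingCat.of k)) ⥤ DCoh.DQCoh X) (adj : DCoh.RpushQ f hf ⊣ a)
    (O : DCoh.DQCoh (Spec (CommRingCat.of k)))
    (hO : Nonempty (O.obj ≅ DCoh.inD (Spec (CommRingCat.of k)) (Coh.structureModule (Spec (CommRingCat.of k)))))
    (U : X.Opens) (hU : ∀ x : X, ¬ IsClosed ({x} : Set X) → x ∈ U) (V : X.Opens) :
    Function.Injective ((DCoh.HD (a.obj O).obj (-(1 : ℤ))).presheaf.map (homOfLE (inf_le_left : V ⊓ U ≤ V)).op) := by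
  haveI : ∀ (U V : Scheme.{u}) (j : U ⟶ V) [IsOpenImmersion j],
      PreservesFiniteLimits (Scheme.Modules.restrictFunctor j) := fun U V j _ => inferInstance
  haveI : ∀ (R : CommRingCat.{u}), PreservesFiniteLimits (tilde.functor R) := fun R => M1.tilde_preservesFiniteLimits
  haveI : IsLocallyNoetherian X := LocallyOfFiniteType.isLocallyNoetherian f
  haveI : CompactSpace X := QuasiCompact.compactSpace_of_compactSpace f
  obtain ⟨eO⟩ := hO
  let ω : Dual.D (CommRingCat.of k) := Dual.inD k k
  have hω : Dual.IsDualizing k ω := BC8.isDualizing_self_field k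
  let eW : O.obj ≅ (DPerf.tildeDD (CommRingCat.of k)).obj ω := eO ≪≫ DGen9.KO.oneIso (R := CommRingCat.of k)
  have hK := BC8.isDualizingSch_proper hω f adj eW
  have hn := BC8.dlt_eq_zero_of_isClosed hω (BC8.isNormalized_self_field k) f adj eW
  have hlow : ∀ x : X, (-1 : ℤ) ≤ BC8.dlt hK x := fun x => by
    obtain ⟨ξ, hxξ, -, hc⟩ := BC8.exists_component hK x
    have h := hdim _ hc
    rw [VarDim.topologicalKrullDim_closure_singleton, BC8.height_eq_neg_dlt hK hn] at h
    have h1 : (-BC8.dlt hK ξ).toNat = 1 := by exact_mod_cast h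
    have h2 := Order.height_mono hxξ
    rw [BC8.height_eq_neg_dlt hK hn, BC8.height_eq_neg_dlt hK hn] at h2
    have h3 : (-BC8.dlt hK x).toNat ≤ (-BC8.dlt hK ξ).toNat := by exact_mod_cast h2
    omega
  refine BC8.injective_restrict_lowest hK (-1) (fun i hi => DPerf.isZero_of_stalks fun x =>
    not_nontrivial_iff_subsingleton.1 fun h => ?_) U (fun x hx => hU x fun hcl => ?_) V
  · obtain ⟨-, ξ, -, h2⟩ := BC8.range_of_nontrivial hK x i h
    have := hlow ξ
    omega
  · have := hn x hcl
    omega


end Groth.Agent.S12536
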