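import Groth.Statements.S12543
import Groth.Agent.Lib.HM15.Criterion
-- import your own Groth.Agent.* helpers here

set_option autoImplicit false
universe u
open TensorProduct LaurentPolynomial
open GIT

namespace Groth.Agent.S12543

/-- Let k be an algebraically closed field of characteristic zero and G = Spec A a linearly reductive
affine algebraic group acting linearly on affine ι-space, and let v ≠ 0. Then v is stable for the
affine action (its orbit is closed and its stabiliser finite, i.e. the point [v] of projective space
is properly stable) if and only if μ(v, λ) > 0 for every non-trivial one-parameter subgroup λ of G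
(one that does not factor through the counit), where μ(v, λ) = m means that t^m · (v moved by λ(t))
tends to a non-zero vector as t → 0. (The published result concerns a reductive group acting on any
proper scheme with an ample linearised invertible sheaf and its properly stable points; this row is
the case of projective space with the hyperplane bundle, to which the published proof reduces,
stated on the affine cone. The published statement also lets λ range over all one-parameter
subgroups; along the trivial one μ = 0 for every v ≠ 0, so that reading fails for every stable
vector and the trivial subgroup is excluded here, as the published proof in fact produces a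
non-trivial one.) -/
theorem result (k : Type u) [Field k] [IsAlgClosed k] [CharZero k]
    (A : Type u) [CommRing A] [HopfAlgebra k A] [Algebra.FiniteType k A] (hG : HopfRep.IsLinearlyReductive k A)
    (ι : Type u) [Fintype ι] [HopfRep.Comod k A (MvPolynomial ι k)] [GLin.IsCoactAlg k A (MvPolynomial ι k)]
    (hlin : GLin.IsLinear k A ι) (v : ι → k) (hv : v ≠ 0) :
    GLin.IsStableVec k A v ↔
      ∀ lam : A →ₐc[k] k[T;T⁻¹], ¬ SGA3t2b.IsTrivialBialgHom lam →
        ∀ m : ℤ, GLin.IsMu k A lam v m → 0 < m := by
  constructor
  · intro hst lam hlam m hm
    by_contra hle
    push Not at hle
    have h := (Comodule.isMu_iff lam v m).1 hm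
    refine HM15.not_hasLimit_of_isStableVec hst hlam ((Comodule.hasLimit_iff lam v).2 fun i n hn => ?_)
    by_contra hne
    have := h.1 i n hne
    omega
  · intro hall
    by_contra hst
    obtain ⟨lam, hnt, hlam⟩ := HM15.exists_lam_of_not_isStableVec hG hlin hst
    obtain ⟨d, hd⟩ := Comodule.exists_isLowest lam hv
    have hmu : GLin.IsMu k A lam v (-d) := (Comodule.isMu_iff lam v _).2 (by simpa using hd)
    have h0 := hall lam hnt _ hmu
    obtain ⟨i, hi⟩ := hd.2
    exact hi (hlam i d (by omega))

end Groth.Agent.S12543
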