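import Groth.Statements.S12548
import Groth.Agent.Lib.GLCrit15.Smooth
-- import your own Groth.Agent.* helpers here

set_option autoImplicit false
universe u
open TensorProduct LaurentPolynomial
open GIT

namespace Groth.Agent.S12548

/-- Let k be an algebraically closed field of characteristic zero, m ≥ 3, and let SL_(n+1) act by
substitution on forms of degree m in n+1 variables, the point a having the form F = Σ_e (m; e) a_e
x^e. If the hypersurface F = 0 is non-singular (at every non-zero vector some partial derivative of
F is non-zero), then a is stable: its orbit is closed and its stabiliser is finite. -/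
theorem result (k : Type u) [Field k] [IsAlgClosed k] [CharZero k]
    (n m : ℕ) (hm : 3 ≤ m) (a : CoordGrp.FormIdx (n + 1) m → k)
    (hsmooth : ∀ w : Fin (n + 1) → k, w ≠ 0 →
      ∃ i : Fin (n + 1), MvPolynomial.eval w (MvPolynomial.pderiv i (CoordGrp.formPoly a)) ≠ 0) :
    @GLin.IsStableVec k _ (CoordGrp.SLn (n + 1) k) _ _ (CoordGrp.FormIdx (n + 1) m) (GLin.comodAlong ((CoordGrp.SLn.mkHom (n + 1) k).comp (CoordGrp.Mat.toGLn (n + 1) k)) (CoordGrp.formsCoact k (n + 1) m))
      (GLin.isCoactAlg_comodAlong ((CoordGrp.SLn.mkHom (n + 1) k).comp (CoordGrp.Mat.toGLn (n + 1) k)) (CoordGrp.formsCoact k (n + 1) m)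
        (CoordGrp.formsCoact_isCoactAlg k (n + 1) m))
      a := by
  refine Groth.Agent.GLCrit15.isStableVec_of_crit (Nat.cast_ne_zero.2 (Nat.factorial_ne_zero m))
    (Groth.Agent.GLCrit15.crit_of_smooth hm (Groth.Agent.FormSub28.isHomogeneous_formPoly a) hsmooth)


end Groth.Agent.S12548
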