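import Groth.Statements.S12549
import Mathlib.Tactic.Linarith
import Mathlib.Tactic.Positivity
import Mathlib.Algebra.BigOperators.Fin
import Mathlib.Algebra.Order.BigOperators.Group.Finset
import Mathlib.Tactic.Ring
import Mathlib.Algebra.BigOperators.Intervals
import Mathlib.Order.Interval.Finset.Nat

set_option autoImplicit false
universe u
open GIT

namespace Groth.Agent.S12549

open Finset

lemma telescope_nonneg (D w : ℕ → ℝ) (μ : ℕ) (h0 : D 0 = 0) (hμ : D μ = 0)
    (hD : ∀ j ≤ μ, 0 ≤ D j) (hw : ∀ j, j + 1 < μ → w (j + 1) ≤ w j) :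
    0 ≤ ∑ j ∈ range μ, (D (j + 1) - D j) * w j := by
  cases μ with
  | zero => simp
  | succ m =>
    have key : ∀ l ≤ m, D (l + 1) * w l ≤ ∑ j ∈ range (l + 1), (D (j + 1) - D j) * w j := by
      intro l hl
      induction l with
      | zero => simp [h0]
      | succ l ih =>
        rw [sum_range_succ]
        have h1 := hD (l + 1) (by omega)
        have h2 := hw l (by omega)
        nlinarith [ih (by omega), mul_le_mul_of_nonneg_left h2 h1]
    have := key m le_rfl
    rw [hμ, zero_mul] at this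
    exact this

/-- The value of the chain which is complete outside of `[a,b]`, with gap weights bounded above. -/
noncomputable def jump (n g : ℕ) (r : ℕ → ℝ) (a b : ℕ) : ℝ :=
  -(r 0 + r n) - (∑ i ∈ Ico a b, (r i + r (i + 1))) + ((b : ℝ) - a + g) * (r a + r b)

lemma exists_chain (n g : ℕ) (e r : ℕ → ℝ) (he0 : e 0 = 0) (hen : e n = n + g)
    (hle : ∀ i, i ≤ n - g → e i ≤ i) (hle' : ∀ i ≤ n, e i ≤ i + g)
    (hanti : ∀ i j, i ≤ j → j ≤ n → r j ≤ r i) (hsum : ∑ i ∈ range (n + 1), r i = 0)
    (a b : ℕ) (ha : a ≤ n - g) (hab : a < b) (hb : b ≤ n) :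
    ∃ (μ : ℕ) (c : ℕ → ℕ), (∀ i j, i < j → c i < c j) ∧ c 0 = 0 ∧ c μ = n ∧
      (∑ j ∈ range μ, (e (c (j + 1)) - e (c j)) * (r (c (j + 1)) + r (c j))) ≤ jump n g r a b := by
  set d := b - a - 1 with hd
  set c : ℕ → ℕ := fun j => if j ≤ a then j else j + d with hc
  set μ := n - d with hμ
  set f : ℕ → ℝ := fun i => if i ≤ a then (i : ℝ) else (i : ℝ) + g with hf
  have hcμ : c μ = n := by simp only [hc]; rw [if_neg (by omega)]; omega
  have hmono : ∀ i j, i < j → c i < c j := by
    intro i j hij; simp only [hc]; split_ifs <;> omega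
  have hcn : ∀ j ≤ μ, c j ≤ n := fun j hj => by simp only [hc]; split_ifs <;> omega
  have hc0 : c 0 = 0 := by simp [hc]
  have hcase : ∀ j, c j ≤ a ∨ b ≤ c j := fun j => by simp only [hc]; split_ifs <;> omega
  refine ⟨μ, c, hmono, hc0, hcμ, ?_⟩
  have h0 : 0 ≤ ∑ j ∈ range μ, (((fun j => f (c j) - e (c j)) (j + 1)) - ((fun j => f (c j) - e (c j)) j)) *
      (r (c (j + 1)) + r (c j)) := by
    refine telescope_nonneg (fun j => f (c j) - e (c j)) (fun j => r (c (j + 1)) + r (c j)) μ ?_ ?_ ?_ ?_
    · simp [hc0, hf, he0]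
    · simp only [hcμ, hf, hen]; rw [if_neg (by omega)]; ring
    · intro j hj
      simp only [hf]
      split_ifs with h
      · linarith [hle (c j) (le_trans h ha)]
      · linarith [hle' (c j) (hcn j hj)]
    · intro j hj
      have h1 := hanti (c (j + 1)) (c (j + 1 + 1)) (hmono _ _ (by omega)).le (hcn _ (by omega))
      have h2 := hanti (c j) (c (j + 1)) (hmono _ _ (by omega)).le (hcn _ (by omega))
      linarith
  have h1 : ∑ j ∈ range μ, (f (c (j + 1)) - f (c j)) * (r (c (j + 1)) + r (c j)) = jump n g r a b := by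
    rw [show μ = a + (1 + (n - b)) by omega, sum_range_add, sum_range_add]
    have e1 : ∑ j ∈ range a, (f (c (j + 1)) - f (c j)) * (r (c (j + 1)) + r (c j)) =
        ∑ j ∈ range a, (r j + r (j + 1)) := by
      refine sum_congr rfl fun j hj => ?_
      rw [mem_range] at hj
      simp only [hc, hf]
      rw [if_pos (by omega : j ≤ a), if_pos (by omega : j + 1 ≤ a), if_pos (by omega : j ≤ a), if_pos (by omega : j + 1 ≤ a)]
      push_cast; ring
    have e2 : ∑ j ∈ range 1, (f (c (a + j + 1)) - f (c (a + j))) * (r (c (a + j + 1)) + r (c (a + j))) =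
        ((b : ℝ) - a + g) * (r a + r b) := by
      rw [sum_range_one]
      simp only [hc, hf, add_zero]
      rw [if_neg (by omega : ¬ a + 1 ≤ a), if_pos le_rfl, if_neg (by omega : ¬ a + 1 + d ≤ a), if_pos le_rfl]
      rw [show a + 1 + d = b by omega]; ring
    have e3 : ∑ j ∈ range (n - b), (f (c (a + (1 + j) + 1)) - f (c (a + (1 + j)))) *
          (r (c (a + (1 + j) + 1)) + r (c (a + (1 + j)))) =
        ∑ j ∈ range (n - b), (r (b + j) + r (b + j + 1)) := by
      refine sum_congr rfl fun j _ => ?_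
      simp only [hc, hf]
      rw [if_neg (by omega : ¬ a + (1 + j) + 1 ≤ a), if_neg (by omega : ¬ a + (1 + j) ≤ a),
        if_neg (by omega : ¬ a + (1 + j) + 1 + d ≤ a), if_neg (by omega : ¬ a + (1 + j) + d ≤ a),
        show a + (1 + j) + 1 + d = b + j + 1 by omega, show a + (1 + j) + d = b + j by omega]
      push_cast; ring
    rw [e1, e2, e3]
    have hfull : ∑ i ∈ range n, (r i + r (i + 1)) = -(r 0 + r n) := by
      rw [sum_add_distrib]
      have p := sum_range_succ r n
      have q := sum_range_succ' r n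
      linarith
    have hsplit : ∑ i ∈ range n, (r i + r (i + 1)) =
        ∑ j ∈ range a, (r j + r (j + 1)) + ∑ i ∈ Ico a b, (r i + r (i + 1)) +
          ∑ j ∈ range (n - b), (r (b + j) + r (b + j + 1)) := by
      rw [← sum_range_add_sum_Ico _ (le_trans hab.le hb), ← sum_Ico_consecutive _ hab.le hb,
        sum_Ico_eq_sum_range _ b n]
      ring
    simp only [jump]
    linarith
  have h2 : ∀ j, (((fun j => f (c j) - e (c j)) (j + 1)) - ((fun j => f (c j) - e (c j)) j)) *
      (r (c (j + 1)) + r (c j)) = (f (c (j + 1)) - f (c j)) * (r (c (j + 1)) + r (c j)) -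
        (e (c (j + 1)) - e (c j)) * (r (c (j + 1)) + r (c j)) := fun j => by ring
  rw [sum_congr rfl fun j _ => h2 j, sum_sub_distrib, h1] at h0
  linarith

lemma exists_jump_neg (n g : ℕ) (hg : 1 ≤ g) (hn : 2 * g ≤ n) (r : ℕ → ℝ)
    (hanti : ∀ i j, i ≤ j → j ≤ n → r j ≤ r i) (hsum : ∑ i ∈ range (n + 1), r i = 0)
    (hne : ∃ i ≤ n, r i ≠ 0) :
    ∃ a b, a ≤ n - g ∧ a < b ∧ b ≤ n ∧ jump n g r a b < 0 := by
  by_contra hcon
  push Not at hcon
  have hfull : ∑ i ∈ range n, (r i + r (i + 1)) = -(r 0 + r n) := by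
    rw [sum_add_distrib]
    have p := sum_range_succ r n
    have q := sum_range_succ' r n
    linarith
  have hs0 : 0 ≤ r 0 + r n := by
    have h := hcon 0 n (Nat.zero_le _) (by omega) le_rfl
    simp only [jump, ← range_eq_Ico, hfull] at h
    push_cast at h
    have hn0 : (0 : ℝ) < (n : ℝ) + g := by have : (1 : ℝ) ≤ g := (by exact_mod_cast hg); positivity
    nlinarith
  let s : ℕ → ℝ := fun k => r k + r (n - k)
  let U : ℕ → ℝ := fun k => 2 * (∑ i ∈ range k, s i) - s 0
  have hmid : ∀ k, k ≤ g → 2 * (∑ i ∈ range k, s i) + 2 * ∑ i ∈ Icc k (n - k), r i = 0 := by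
    intro k hk
    induction k with
    | zero =>
      simp only [range_zero, sum_empty, mul_zero, zero_add, Nat.sub_zero]
      rw [show Icc 0 n = range (n + 1) by ext; simp only [mem_Icc, mem_range]; omega, hsum, mul_zero]
    | succ k ih =>
      have h := ih (by omega)
      have hrec : ∑ i ∈ Icc k (n - k), r i = r k + (∑ i ∈ Icc (k + 1) (n - (k + 1)), r i) + r (n - k) := by
        rw [show Icc k (n - k) = insert k (insert (n - k) (Icc (k + 1) (n - (k + 1)))) by
          ext x; simp only [mem_Icc, mem_insert]; omega]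
        rw [sum_insert (by simp only [mem_insert, mem_Icc]; omega), sum_insert (by simp only [mem_Icc]; omega)]
        ring
      rw [sum_range_succ]
      simp only [s] at h ⊢
      linarith
  have hI : ∀ k, k < g → ∑ i ∈ Ico k (n - k), (r i + r (i + 1)) = -(2 * ∑ i ∈ range k, s i) - s k := by
    intro k hk
    have h := hmid k hk.le
    have h1 : ∑ i ∈ Icc k (n - k), r i = ∑ i ∈ Ico k (n - k), r i + r (n - k) := by
      rw [show Icc k (n - k) = insert (n - k) (Ico k (n - k)) by ext x; simp only [mem_Icc, mem_insert, mem_Ico]; omega,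
        sum_insert (by simp)]
      ring
    have h2 : ∑ i ∈ Ico k (n - k), r (i + 1) + r k = ∑ i ∈ Icc k (n - k), r i := by
      rw [show Icc k (n - k) = insert k ((Ico k (n - k)).map ⟨(· + 1), add_left_injective 1⟩) by
        ext x; simp only [mem_Icc, mem_insert, mem_map, mem_Ico, Function.Embedding.coeFn_mk]
        constructor
        · intro h; by_cases hx : x = k
          · exact Or.inl hx
          · exact Or.inr ⟨x - 1, by omega, by omega⟩
        · rintro (rfl | ⟨y, hy, rfl⟩) <;> omega]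
      rw [sum_insert (by simp only [mem_map, mem_Ico, Function.Embedding.coeFn_mk]; rintro ⟨y, hy, hy'⟩; omega), sum_map]
      simp only [Function.Embedding.coeFn_mk]; ring
    rw [sum_add_distrib]
    simp only [s] at h ⊢
    linarith
  have hstep : ∀ k, 1 ≤ k → k < g → -U k ≤ ((n : ℝ) + g + 1 - 2 * k) * s k := by
    intro k h1 hk
    have h := hcon k (n - k) (by omega) (by omega) (by omega)
    simp only [jump, hI k hk] at h
    rw [Nat.cast_sub (by omega : k ≤ n)] at h
    simp only [U, s, Nat.sub_zero] at h ⊢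
    nlinarith
  have hD : ∀ k : ℕ, k < g → (2 : ℝ) < (n : ℝ) + g + 1 - 2 * k := by
    intro k hk
    have : (2 * k + 2 : ℝ) ≤ n := by exact_mod_cast (show 2 * k + 2 ≤ n by omega)
    have : (1 : ℝ) ≤ g := by exact_mod_cast hg
    linarith
  have hU : ∀ k, 1 ≤ k → k ≤ g → 0 ≤ U k ∧ (U k = 0 → ∀ j < k, s j = 0) := by
    intro k h1 hk
    induction k with
    | zero => omega
    | succ k ih =>
      rcases Nat.eq_zero_or_pos k with rfl | hkpos
      · refine ⟨?_, fun h j hj => ?_⟩
        · simp only [U, s, zero_add, sum_range_one, Nat.sub_zero]; linarith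
        · obtain rfl : j = 0 := by omega
          simp only [U, zero_add, sum_range_one] at h; linarith
      · obtain ⟨hU0, hUz⟩ := ih hkpos (by omega)
        have hs := hstep k hkpos (by omega)
        have hd := hD k (by omega)
        have hrec : U (k + 1) = U k + 2 * s k := by simp only [U, sum_range_succ]; ring
        refine ⟨?_, fun h => ?_⟩
        · rw [hrec]; nlinarith
        · have hk0 : U k = 0 := by nlinarith
          intro j hj
          rcases Nat.lt_succ_iff_lt_or_eq.mp hj with hj | rfl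
          · exact hUz hk0 j hj
          · linarith
  obtain ⟨hUg, hUg0⟩ := hU g hg le_rfl
  have hM := hmid g le_rfl
  have hlow : ((n - g + 1 - g : ℕ) : ℝ) * r (n - g) ≤ ∑ i ∈ Icc g (n - g), r i := by
    have h := card_nsmul_le_sum (Icc g (n - g)) r (r (n - g)) fun i hi => by
      rw [mem_Icc] at hi; exact hanti i (n - g) hi.2 (by omega)
    rwa [Nat.card_Icc, nsmul_eq_mul] at h
  have hcnt : (1 : ℝ) ≤ ((n - g + 1 - g : ℕ) : ℝ) := by exact_mod_cast (show 1 ≤ n - g + 1 - g by omega)
  have hmle : 2 * ∑ i ∈ Icc g (n - g), r i ≤ -(r 0 + r n) := by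
    simp only [U, s, Nat.sub_zero] at hUg hM ⊢; linarith
  have hra : r (n - g) ≤ 0 := by nlinarith
  have hrb := hanti (n - g) (n - g + 1) (by omega) (by omega)
  have hF := hcon (n - g) (n - g + 1) le_rfl (by omega) (by omega)
  simp only [jump, Nat.Ico_succ_singleton, sum_singleton] at hF
  push_cast at hF
  have hg' : (1 : ℝ) ≤ g := by exact_mod_cast hg
  have hz : r 0 + r n = 0 := by nlinarith
  have hza : r (n - g) = 0 := by nlinarith
  have hzb : r (n - g + 1) = 0 := by nlinarith
  have hMz : ∑ i ∈ Icc g (n - g), r i = 0 := by rw [hza, mul_zero] at hlow; linarith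
  have hrg : r g = 0 := by
    have h1 : r g - r (n - g) ≤ ∑ i ∈ Icc g (n - g), (r i - r (n - g)) :=
      single_le_sum (f := fun i => r i - r (n - g)) (fun i hi => by
        rw [mem_Icc] at hi; linarith [hanti i (n - g) hi.2 (by omega)]) (by rw [mem_Icc]; omega)
    rw [sum_sub_distrib, sum_const, hza, smul_zero, hMz] at h1
    linarith [hanti g (n - g) (by omega) (by omega)]
  have hUz : U g = 0 := by simp only [U, s, Nat.sub_zero] at hM ⊢; linarith
  have hsz := hUg0 hUz
  -- the vector is antisymmetric about the middle, which vanishes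
  have hpos : 0 < r 0 := by
    obtain ⟨i, hi, hne⟩ := hne
    by_contra h
    have h1 := hanti 0 i (Nat.zero_le _) hi
    have h2 := hanti i n hi le_rfl
    exact hne (le_antisymm (by linarith) (by linarith))
  obtain ⟨j, hjg, hj, hj1⟩ : ∃ j, j + 1 < g ∧ 0 < r j ∧ r (j + 1) ≤ 0 := by
    have hprev : r (g - 1) ≤ 0 := by
      have := hsz (g - 1) (by omega)
      simp only [s] at this
      rw [show n - (g - 1) = n - g + 1 by omega, hzb] at this
      linarith
    by_contra h
    push Not at h
    have : ∀ j, j ≤ g - 1 → 0 < r j := by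
      intro j hj
      induction j with
      | zero => exact hpos
      | succ j ih => exact h j (by omega) (ih (by omega))
    linarith [this (g - 1) le_rfl]
  have hzero : ∀ i, j + 1 ≤ i → i ≤ n - (j + 1) → r i = 0 := by
    intro i h1 h2
    have e1 := hanti (j + 1) i h1 (by omega)
    have e2 := hanti i (n - (j + 1)) h2 (by omega)
    have e3 := hsz (j + 1) hjg
    have e4 : 0 ≤ r (j + 1) := by
      rw [← hrg]; exact hanti (j + 1) g hjg.le (by omega)
    simp only [s] at e3
    linarith
  have hb : r (n - j) < 0 := by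
    have := hsz j (by omega); simp only [s] at this; linarith
  have h := hcon (j + 1) (n - j) (by omega) (by omega) (by omega)
  have hsumI : ∑ i ∈ Ico (j + 1) (n - j), (r i + r (i + 1)) = r (n - j) := by
    rw [sum_eq_single (n - (j + 1))]
    · rw [hzero _ (by omega) le_rfl, show n - (j + 1) + 1 = n - j by omega, zero_add]
    · intro i hi hne'
      rw [mem_Ico] at hi
      rw [hzero i hi.1 (by omega), hzero (i + 1) (by omega) (by omega), add_zero]
    · intro hni; exact absurd (by rw [mem_Ico]; omega) hni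
  simp only [jump, hsumI, hz, hzero (j + 1) le_rfl (by omega)] at h
  rw [Nat.cast_sub (by omega : j ≤ n)] at h
  push_cast at h
  have : (2 * j + 2 : ℝ) ≤ n := by exact_mod_cast (show 2 * j + 2 ≤ n by omega)
  nlinarith


/-- Let g ≥ 1 and n ≥ 2g, and let e_0, …, e_n be natural numbers with e_0 = 0, e_n = n + g, e_0 ≤ … ≤
e_n, e_i ≤ i for i ≤ n − g and e_i ≤ i + g for all i. Then for all real r_0 ≥ r_1 ≥ … ≥ r_n with Σ
r_i = 0, not all zero, some chain 0 = c_0 < c_1 < … < c_μ = n has Σ_j (e_(c_(j+1)) − e_(c_j)) ·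
(r_(c_(j+1)) + r_(c_j)) < 0. -/
theorem result (n g : ℕ) (hg : 1 ≤ g) (hn : 2 * g ≤ n)
    (e : Fin (n + 1) → ℕ) (he0 : e 0 = 0) (hen : e (Fin.last n) = n + g) (hmono : Monotone e)
    (hle : ∀ i : Fin (n + 1), (i : ℕ) ≤ n - g → e i ≤ (i : ℕ)) (hle' : ∀ i : Fin (n + 1), e i ≤ (i : ℕ) + g)
    (r : Fin (n + 1) → ℝ) (hanti : Antitone r) (hsum : ∑ i, r i = 0) (hr : r ≠ 0) :
    ∃ (μ : ℕ) (c : Fin (μ + 1) → Fin (n + 1)), StrictMono c ∧ c 0 = 0 ∧ c (Fin.last μ) = Fin.last n ∧
      ∑ j : Fin μ, ((e (c j.succ) : ℝ) - (e (c j.castSucc) : ℝ)) * (r (c j.succ) + r (c j.castSucc)) < 0 := by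
  let r' : ℕ → ℝ := fun i => if h : i < n + 1 then r ⟨i, h⟩ else 0
  let e' : ℕ → ℝ := fun i => if h : i < n + 1 then (e ⟨i, h⟩ : ℝ) else 0
  have hr' : ∀ i : Fin (n + 1), r' i = r i := fun i => by simp only [r', dif_pos i.2]
  have he' : ∀ i : Fin (n + 1), e' i = (e i : ℝ) := fun i => by simp only [e', dif_pos i.2]
  have hsum' : ∑ i ∈ range (n + 1), r' i = 0 := by
    rw [← Fin.sum_univ_eq_sum_range r' (n + 1)]; simp_rw [hr']; exact hsum
  have hanti' : ∀ i j, i ≤ j → j ≤ n → r' j ≤ r' i := by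
    intro i j hij hj
    simp only [r', dif_pos (show i < n + 1 by omega), dif_pos (show j < n + 1 by omega)]
    exact hanti (by exact hij)
  have hne : ∃ i ≤ n, r' i ≠ 0 := by
    obtain ⟨i, hi⟩ := Function.ne_iff.mp hr
    exact ⟨i, Nat.lt_succ_iff.mp i.2, by rw [hr']; exact hi⟩
  obtain ⟨a, b, ha, hab, hb, hneg⟩ := exists_jump_neg n g hg hn r' hanti' hsum' hne
  obtain ⟨μ, c, hmono, hc0, hcμ, hle_jump⟩ := exists_chain n g e' r'
    (by simpa [he0] using he' 0) (by simpa [hen] using he' (Fin.last n))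
    (fun i hi => by
      simp only [e', dif_pos (show i < n + 1 by omega)]; exact_mod_cast hle ⟨i, by omega⟩ hi)
    (fun i hi => by
      simp only [e', dif_pos (show i < n + 1 by omega)]; exact_mod_cast hle' ⟨i, by omega⟩)
    hanti' hsum' a b ha hab hb
  have hcn : ∀ j : Fin (μ + 1), c j < n + 1 := fun j => by
    rcases (Nat.lt_succ_iff.mp j.2).lt_or_eq with h | h
    · have := hmono _ _ h; omega
    · rw [h, hcμ]; omega
  refine ⟨μ, fun j => ⟨c j, hcn j⟩, fun i j hij => hmono _ _ hij, ?_, ?_, ?_⟩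
  · ext; simpa using hc0
  · ext; simpa using hcμ
  · refine lt_of_le_of_lt (le_trans (le_of_eq ?_) hle_jump) hneg
    rw [← Fin.sum_univ_eq_sum_range (fun j => (e' (c (j + 1)) - e' (c j)) * (r' (c (j + 1)) + r' (c j))) μ]
    refine Fintype.sum_congr _ _ fun j => ?_
    simp only [← hr', ← he', Fin.val_succ, Fin.val_castSucc]

end Groth.Agent.S12549
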