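import Groth.Statements.S12550
import Mathlib.LinearAlgebra.FiniteDimensional.Lemmas

set_option autoImplicit false
universe u
open GIT

namespace Groth.Agent.S12550

/-- Let V be a finite-dimensional vector space over a field K and x_0, …, x_m non-zero vectors, a
configuration of m + 1 points of the projective space P(V). If for every subspace L with 0 ≠ L ≠ V
the number of indices i with x_i ∈ L, multiplied by dim V, is less than dim L · (m + 1) (the
configuration is stable), then no two proper subspaces L', L'' with L' ∩ L'' = 0 contain between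
them all the x_i. -/
theorem result (K : Type u) [Field K]
    (V : Type u) [AddCommGroup V] [Module K V] [FiniteDimensional K V]
    (m : ℕ) (x : Fin (m + 1) → V) (hx : ∀ i, x i ≠ 0)
    (hst : ∀ L : Submodule K V, L ≠ ⊥ → L ≠ ⊤ →
      Set.ncard {i : Fin (m + 1) | x i ∈ L} * Module.finrank K V < Module.finrank K L * (m + 1)) :
    ¬ ∃ L' L'' : Submodule K V, L' ≠ ⊤ ∧ L'' ≠ ⊤ ∧ Disjoint L' L'' ∧ ∀ i, x i ∈ L' ∨ x i ∈ L'' := by
  rintro ⟨L', L'', hL', hL'', hdis, hcov⟩
  classical
  set d := Module.finrank K V
  have hd : ∀ L : Submodule K V, L ≠ ⊤ → Set.ncard {i : Fin (m + 1) | x i ∈ L} * d ≤ Module.finrank K L * (m + 1) := by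
    intro L hL
    rcases eq_or_ne L ⊥ with rfl | h
    · have : {i : Fin (m + 1) | x i ∈ (⊥ : Submodule K V)} = ∅ := by
        ext i; simp [hx i]
      rw [this]; simp
    · exact (hst L h hL).le
  have hlt : ∀ L : Submodule K V, L ≠ ⊤ → L ≠ ⊥ → Set.ncard {i : Fin (m + 1) | x i ∈ L} * d < Module.finrank K L * (m + 1) :=
    fun L h h' => hst L h' h
  have hu : m + 1 ≤ Set.ncard {i : Fin (m + 1) | x i ∈ L'} + Set.ncard {i : Fin (m + 1) | x i ∈ L''} := by
    refine le_trans (le_of_eq ?_) (Set.ncard_union_le _ _)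
    have : {i : Fin (m + 1) | x i ∈ L'} ∪ {i : Fin (m + 1) | x i ∈ L''} = Set.univ := by
      ext i; simpa using hcov i
    simp [this]
  have hr : Module.finrank K L' + Module.finrank K L'' ≤ d := by
    have h := Submodule.finrank_sup_add_finrank_inf_eq L' L''
    rw [hdis.eq_bot, finrank_bot, add_zero] at h
    rw [← h]
    exact Submodule.finrank_le _
  have hne : L' ≠ ⊥ ∨ L'' ≠ ⊥ := by
    rcases hcov 0 with h | h
    · left; intro e; subst e; exact hx 0 (by simpa using h)
    · right; intro e; subst e; exact hx 0 (by simpa using h)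
  rcases hne with h | h
  · nlinarith [hlt L' hL' h, hd L'' hL'', hu, hr]
  · nlinarith [hd L' hL', hlt L'' hL'' h, hu, hr]

end Groth.Agent.S12550
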