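import Groth.Statements.S12551
import Groth.Agent.Lib.GLCrit15.Weights
-- import your own Groth.Agent.* helpers here

set_option autoImplicit false
universe u
open TensorProduct LaurentPolynomial
open GIT

namespace Groth.Agent.S12551

/-- Let k be an algebraically closed field of characteristic zero and let SL_3 act by substitution on
ternary quartic forms, the point a having the form F = Σ_e (4; e) a_e x^e. Then a fails to be stable
(closed orbit and finite stabiliser) if and only if there is a matrix M of determinant 1 such that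
the form F'(x) = F(Mx) = Σ b_ij x_0^(4−i−j) x_1^i x_2^j has b_00 = b_10 = b_01 = b_20 = b_11 = 0 and
in addition b_02 = 0 or b_30 = 0: in suitable coordinates the quartic curve has a triple point at
(1:0:0), or a tacnode there with tangent line x_2 = 0. -/
theorem result (k : Type u) [Field k] [IsAlgClosed k] [CharZero k]
    (a : CoordGrp.FormIdx 3 4 → k) :
    ¬ @GLin.IsStableVec k _ (CoordGrp.SLn 3 k) _ _ (CoordGrp.FormIdx 3 4) (GLin.comodAlong ((CoordGrp.SLn.mkHom 3 k).comp (CoordGrp.Mat.toGLn 3 k)) (CoordGrp.formsCoact k 3 4))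
      (GLin.isCoactAlg_comodAlong ((CoordGrp.SLn.mkHom 3 k).comp (CoordGrp.Mat.toGLn 3 k)) (CoordGrp.formsCoact k 3 4)
        (CoordGrp.formsCoact_isCoactAlg k 3 4))
      a ↔
      ∃ M : Matrix (Fin 3) (Fin 3) k, M.det = 1 ∧
        ∃ F' : MvPolynomial (Fin 3) k,
          F' = MvPolynomial.aeval (fun i : Fin 3 => ∑ j : Fin 3, MvPolynomial.C (M i j) * MvPolynomial.X j)
              (CoordGrp.formPoly a) ∧
          (∀ ij : ℕ × ℕ, ij ∈ ({(0, 0), (1, 0), (0, 1), (2, 0), (1, 1)} : Finset (ℕ × ℕ)) →
            F'.coeff (Finsupp.single 0 (4 - ij.1 - ij.2) + Finsupp.single 1 ij.1 + Finsupp.single 2 ij.2) = 0) ∧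
          (F'.coeff (Finsupp.single 0 2 + Finsupp.single 2 2) = 0 ∨
            F'.coeff (Finsupp.single 0 1 + Finsupp.single 1 3) = 0) := by
  classical
  have hm : ((Nat.factorial 4 : ℕ) : k) ≠ 0 := Nat.cast_ne_zero.2 (Nat.factorial_ne_zero 4)
  have hhom : ∀ M : Matrix (Fin 3) (Fin 3) k, (FormSub28.subM M (CoordGrp.formPoly a)).IsHomogeneous 4 := fun M =>
    GLRed28.isHomogeneous_sub _ (FormSub28.isHomogeneous_formPoly a)
  constructor
  · intro hns
    have hcrit : ¬ GLCrit15.Crit (CoordGrp.formPoly a) := fun h => hns (GLCrit15.isStableVec_of_crit hm h)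
    obtain ⟨M, hM, Γ, _, e, he, hprod, hanti, hne, hle⟩ := GLCrit15.exists_sorted_of_not_crit hcrit
    refine ⟨M, hM, FormSub28.subM M (CoordGrp.formPoly a), rfl, ?_⟩
    rw [Fin.prod_univ_three] at hprod
    have h01 : e 1 ≤ e 0 := hanti (show (0 : Fin 3) ≤ 1 by decide)
    have h12 : e 2 ≤ e 1 := hanti (show (1 : Fin 3) ≤ 2 by decide)
    have h0 : 1 < e 0 := by
      by_contra h
      push Not at h
      obtain ⟨i, hi⟩ := hne
      apply hi
      have h1 : e 1 ≤ 1 := h01.trans h
      have h2 : e 2 ≤ 1 := h12.trans h1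
      have e2 : e 2 = 1 := le_antisymm h2 (by
        calc (1 : Γ) = e 0 * e 1 * e 2 := hprod.symm
          _ ≤ 1 * 1 * e 2 := mul_le_mul' (mul_le_mul' h h1) le_rfl
          _ = e 2 := by rw [one_mul, one_mul])
      have e1 : e 1 = 1 := le_antisymm h1 (e2 ▸ h12)
      have e0 : e 0 = 1 := le_antisymm h (e1 ▸ h01)
      fin_cases i
      · exact e0
      · exact e1
      · exact e2
    have h2 : e 2 < 1 := by
      by_contra h
      push Not at h
      have : 1 < e 0 * e 1 * e 2 := lt_of_lt_of_le h0 (by
        calc e 0 = e 0 * 1 * 1 := by rw [mul_one, mul_one]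
          _ ≤ e 0 * e 1 * e 2 := mul_le_mul' (mul_le_mul' le_rfl (h.trans h12)) h)
      exact this.ne' hprod
    have hab : 1 < e 0 * e 1 := by
      by_contra h
      push Not at h
      have : e 0 * e 1 * e 2 < 1 := lt_of_le_of_lt (mul_le_mul' h le_rfl) (by rwa [one_mul])
      exact this.ne hprod
    have hz : ∀ p q r : ℕ, 1 < e 0 ^ p * e 1 ^ q * e 2 ^ r →
        (FormSub28.subM M (CoordGrp.formPoly a)).coeff (Finsupp.single 0 p + Finsupp.single 1 q + Finsupp.single 2 r) = 0 := by
      intro p q r h
      by_contra hc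
      have := hle _ hc
      rw [Fin.prod_univ_three] at this
      simp at this
      exact h.not_ge this
    refine ⟨?_, ?_⟩
    · intro ij hij
      simp only [Finset.mem_insert, Finset.mem_singleton] at hij
      rcases hij with rfl | rfl | rfl | rfl | rfl <;> refine hz _ _ _ ?_
      · simpa using one_lt_pow₀ h0 (show 4 ≠ 0 by norm_num)
      · calc (1 : Γ) < e 0 * e 1 := hab
          _ ≤ e 0 ^ 2 * (e 0 * e 1) := le_mul_of_one_le_left' (one_le_pow₀ h0.le)
          _ = _ := by simp [pow_succ, mul_assoc]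
      · by_contra h
        push Not at h
        have : e 0 ^ 2 ≤ e 1 := by
          calc e 0 ^ 2 = e 0 ^ 2 * (e 0 * e 1 * e 2) := by rw [hprod, mul_one]
            _ = (e 0 ^ (4 - 0 - 1) * e 1 ^ 0 * e 2 ^ 1) * e 1 := by
              simp only [pow_succ, pow_zero, one_mul, mul_one]; ac_rfl
            _ ≤ 1 * e 1 := mul_le_mul' h le_rfl
            _ = e 1 := one_mul _
        exact absurd (this.trans h01) (not_le.2 (lt_self_pow₀ h0 (by norm_num)))
      · have : 1 < (e 0 * e 1) ^ 2 := one_lt_pow₀ hab two_ne_zero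
        simpa [mul_pow] using this
      · calc (1 : Γ) < e 0 := h0
          _ = e 0 * (e 0 * e 1 * e 2) := by rw [hprod, mul_one]
          _ = _ := by simp only [pow_succ, pow_zero, one_mul, mul_one]; ac_rfl
    · rcases lt_or_ge (e 1) 1 with h1 | h1
      · left
        have hac : 1 < e 0 * e 2 := by
          by_contra h
          push Not at h
          have : e 0 * e 2 * e 1 < 1 := lt_of_le_of_lt (mul_le_mul' h le_rfl) (by rwa [one_mul])
          exact this.ne (by rw [← hprod]; ac_rfl)
        have h := hz 2 0 2 (by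
          have : 1 < (e 0 * e 2) ^ 2 := one_lt_pow₀ hac two_ne_zero
          simpa [mul_pow] using this)
        simpa using h
      · right
        have h := hz 1 3 0 (by
          calc (1 : Γ) < e 0 * e 1 := hab
            _ ≤ e 0 * e 1 * e 1 ^ 2 := le_mul_of_one_le_right' (one_le_pow₀ h1)
            _ = _ := by simp only [pow_succ, pow_zero, one_mul, mul_one]; ac_rfl)
        simpa using h
  · rintro ⟨M, hM, F', rfl, h5, hcase⟩
    change ∀ ij : ℕ × ℕ, _ → (FormSub28.subM M (CoordGrp.formPoly a)).coeff _ = 0 at h5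
    change (FormSub28.subM M (CoordGrp.formPoly a)).coeff _ = 0 ∨ (FormSub28.subM M (CoordGrp.formPoly a)).coeff _ = 0 at hcase
    have key : ∀ β : Fin 3 →₀ ℕ, MvPolynomial.coeff β (FormSub28.subM M (CoordGrp.formPoly a)) ≠ 0 → β 0 + β 1 + β 2 = 4 ∧
        ∀ i j : ℕ, (FormSub28.subM M (CoordGrp.formPoly a)).coeff
          (Finsupp.single 0 (4 - i - j) + Finsupp.single 1 i + Finsupp.single 2 j) = 0 →
          ¬ (β 1 = i ∧ β 2 = j) := by
      intro β hβ
      have hd : β.degree = 4 := by
        by_contra h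
        exact hβ ((hhom M).coeff_eq_zero h)
      have h4 : β 0 + β 1 + β 2 = 4 := by
        rw [Finsupp.degree_eq_sum, Fin.sum_univ_three] at hd
        exact hd
      refine ⟨h4, fun i j hz hij => hβ ?_⟩
      rwa [show β = Finsupp.single 0 (4 - i - j) + Finsupp.single 1 i + Finsupp.single 2 j from by
        ext x
        fin_cases x <;> simp <;> omega]
    rcases hcase with hc | hc
    · refine GLCrit15.not_stable_of_weights hm M hM ![-2, 1, 1] (by decide) (by decide) fun β hβ => ?_
      obtain ⟨h4, hne⟩ := key β hβ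
      have := hne 0 0 (h5 (0, 0) (by simp))
      have := hne 1 0 (h5 (1, 0) (by simp))
      have := hne 0 1 (h5 (0, 1) (by simp))
      have := hne 2 0 (h5 (2, 0) (by simp))
      have := hne 1 1 (h5 (1, 1) (by simp))
      have := hne 0 2 (by simpa using hc)
      simp [Fin.sum_univ_three]
      omega
    · refine GLCrit15.not_stable_of_weights hm M hM ![-1, 0, 1] (by decide) (by decide) fun β hβ => ?_
      obtain ⟨h4, hne⟩ := key β hβ
      have := hne 0 0 (h5 (0, 0) (by simp))
      have := hne 1 0 (h5 (1, 0) (by simp))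
      have := hne 0 1 (h5 (0, 1) (by simp))
      have := hne 2 0 (h5 (2, 0) (by simp))
      have := hne 1 1 (h5 (1, 1) (by simp))
      have := hne 3 0 (by simpa using hc)
      simp [Fin.sum_univ_three]
      omega

end Groth.Agent.S12551
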