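import Groth.Statements.S12552
import Mathlib.Analysis.Convex.Caratheodory
import Mathlib.Analysis.Convex.Topology
import Mathlib.Analysis.LocallyConvex.Separation
import Mathlib.LinearAlgebra.Dimension.Constructions
import Mathlib.Algebra.Order.BigOperators.Group.Finset
import Mathlib.Algebra.BigOperators.Field

set_option autoImplicit false
universe u
open GIT

namespace Groth.Agent.S12552

open Module

section
variable {K : Type u} [Field K] {V : Type u} [AddCommGroup V] [Module K V] [FiniteDimensional K V]
  {ι : Type} [DecidableEq ι]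

theorem card_of_indep (x : ι → V) (B : Finset ι) (hB : LinearIndepOn K x (B : Set ι)) :
    finrank K (Submodule.span K (x '' (B : Set ι))) = B.card := by
  have h : x '' (B : Set ι) = Set.range fun j : B => x j := by
    ext v
    simp [Set.mem_image]
  rw [h]
  exact (finrank_span_eq_card (b := fun j : B => x j) hB).trans (Fintype.card_coe B)

/-- The greedy algorithm. -/
theorem greedy (x : ι → V) (q : ι → ℝ) (w : ι → ℝ)
    (hq : ∀ S : Finset ι, ∑ j ∈ S, q j ≤ (finrank K (Submodule.span K (x '' (S : Set ι))) : ℝ)) (T : Finset ι) :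
    ∃ B : Finset ι, B ⊆ T ∧ LinearIndepOn K x (B : Set ι) ∧
      Submodule.span K (x '' (B : Set ι)) = Submodule.span K (x '' (T : Set ι)) ∧
      ∀ c : ℝ, (∀ j ∈ T, c ≤ w j) → ∑ j ∈ T, q j * (w j - c) ≤ ∑ j ∈ B, (w j - c) := by
  induction T using Finset.strongInduction with
  | _ T ih =>
    rcases T.eq_empty_or_nonempty with rfl | hT
    · exact ⟨∅, subset_rfl, by simp, rfl, fun c _ => by simp⟩
    obtain ⟨j₀, hj₀, hmin⟩ := T.exists_min_image w hT
    obtain ⟨B, hBT, hBi, hBs, hB⟩ := ih (T.erase j₀) (Finset.erase_ssubset hj₀)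
    have hins : (T : Set ι) = insert j₀ ((T.erase j₀ : Finset ι) : Set ι) := by
      rw [← Finset.coe_insert, Finset.insert_erase hj₀]
    have key : ∃ B' : Finset ι, B' ⊆ T ∧ LinearIndepOn K x (B' : Set ι) ∧
        Submodule.span K (x '' (B' : Set ι)) = Submodule.span K (x '' (T : Set ι)) ∧
        ∑ j ∈ B', (w j - w j₀) = ∑ j ∈ B, (w j - w j₀) := by
      by_cases hx : x j₀ ∈ Submodule.span K (x '' (B : Set ι))
      · refine ⟨B, hBT.trans (Finset.erase_subset _ _), hBi, ?_, rfl⟩
        rw [hins, Set.image_insert_eq, Submodule.span_insert, ← hBs, eq_comm, sup_eq_right,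
          Submodule.span_singleton_le_iff_mem]
        exact hx
      · have hnot : j₀ ∉ B := fun h => Finset.notMem_erase j₀ T (hBT h)
        refine ⟨insert j₀ B, Finset.insert_subset hj₀ (hBT.trans (Finset.erase_subset _ _)), ?_, ?_, ?_⟩
        · rw [Finset.coe_insert]
          exact hBi.insert hx
        · rw [hins, Finset.coe_insert, Set.image_insert_eq, Set.image_insert_eq, Submodule.span_insert,
            Submodule.span_insert, hBs]
        · rw [Finset.sum_insert hnot, sub_self, zero_add]
    obtain ⟨B', hB'T, hB'i, hB's, hB'w⟩ := key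
    refine ⟨B', hB'T, hB'i, hB's, fun c hc => ?_⟩
    have h0 : ∑ j ∈ T, q j * (w j - w j₀) ≤ ∑ j ∈ B', (w j - w j₀) := by
      rw [hB'w, ← Finset.add_sum_erase T _ hj₀, sub_self, mul_zero, zero_add]
      exact hB (w j₀) fun j hj => hmin j (Finset.mem_of_mem_erase hj)
    have hcard : (B'.card : ℝ) = (finrank K (Submodule.span K (x '' (T : Set ι))) : ℝ) := by
      rw [← hB's, card_of_indep x B' hB'i]
    have hT' := mul_le_mul_of_nonneg_right (hq T) (sub_nonneg.2 (hc j₀ hj₀))
    rw [← hcard, Finset.sum_mul] at hT'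
    calc ∑ j ∈ T, q j * (w j - c) = ∑ j ∈ T, q j * (w j - w j₀) + ∑ j ∈ T, q j * (w j₀ - c) := by
          rw [← Finset.sum_add_distrib]; exact Finset.sum_congr rfl fun j _ => by ring
      _ ≤ ∑ j ∈ B', (w j - w j₀) + (B'.card : ℝ) * (w j₀ - c) := add_le_add h0 hT'
      _ = ∑ j ∈ B', (w j - c) := by
          rw [← nsmul_eq_mul, ← Finset.sum_const, ← Finset.sum_add_distrib]
          exact Finset.sum_congr rfl fun j _ => by ring

/-- A rational point of the base polytope is a rational combination of bases. -/
theorem exists_nat_combination [Fintype ι] [Nonempty ι] (x : ι → V) (q : ι → ℚ)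
    (hq : ∀ S : Finset ι, ∑ j ∈ S, (q j : ℝ) ≤ (finrank K (Submodule.span K (x '' (S : Set ι))) : ℝ))
    (htot : ∑ j, (q j : ℝ) = (finrank K V : ℝ)) :
    ∃ P : Multiset (Finset ι), P ≠ 0 ∧
      (∀ S ∈ P, S.card = finrank K V ∧ LinearIndepOn K x (S : Set ι)) ∧
      ∀ j : ι, (Multiset.card (P.filter (fun S => j ∈ S)) : ℚ) = Multiset.card P * q j := by
  classical
  let bases : Set (Finset ι) := {B | B.card = finrank K V ∧ LinearIndepOn K x (B : Set ι)}
  let ind : Finset ι → (ι → ℝ) := fun B j => if j ∈ B then 1 else 0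
  have hmem : (fun j => (q j : ℝ)) ∈ convexHull ℝ (ind '' bases) := by
    by_contra hn
    obtain ⟨f, c, hf, hfq⟩ := geometric_hahn_banach_closed_point (convex_convexHull ℝ (ind '' bases))
      (((Set.toFinite bases).image ind).isClosed_convexHull ℝ) hn
    set w : ι → ℝ := fun j => f (Pi.single j 1) with hw
    have hfw : ∀ v : ι → ℝ, f v = ∑ j, v j * w j := fun v => by
      conv_lhs => rw [pi_eq_sum_univ' v]
      simp [map_sum, map_smul, hw]
    obtain ⟨B, -, hBi, hBs, hB⟩ := greedy x (fun j => (q j : ℝ)) w hq Finset.univ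
    obtain ⟨j₀, hj₀⟩ := Finite.exists_min w
    have h1 := hB (w j₀) fun j _ => hj₀ j
    have hBcard : B.card = finrank K V := by
      have h2 := hq Finset.univ
      rw [htot, Nat.cast_le] at h2
      rw [← card_of_indep x B hBi, hBs]
      exact le_antisymm (Submodule.finrank_le _) h2
    have h3 := hf (ind B) (subset_convexHull ℝ _ ⟨B, ⟨hBcard, hBi⟩, rfl⟩)
    rw [hfw] at h3 hfq
    simp only [ind, ite_mul, one_mul, zero_mul, Finset.sum_ite_mem, Finset.univ_inter] at h3
    simp only [mul_sub, Finset.sum_sub_distrib, ← Finset.sum_mul, htot, Finset.sum_const, nsmul_eq_mul,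
      hBcard] at h1
    linarith
  obtain ⟨κ, _, z, wt, hz, haff, hwpos, hwsum, hwz⟩ := eq_pos_convex_span_of_mem_convexHull hmem
  choose B hB hBz using fun k => hz ⟨k, rfl⟩
  obtain ⟨φ, hφ⟩ := (Algebra.linearMap ℚ ℝ).exists_leftInverse_of_injective
    (LinearMap.ker_eq_bot.2 (algebraMap ℚ ℝ).injective)
  have hφr : ∀ a : ℚ, φ (a : ℝ) = a := fun a => by simpa using LinearMap.congr_fun hφ a
  have hqj : ∀ j, ∑ k, (if j ∈ B k then φ (wt k) else 0) = q j := fun j => by
    have h := congr_fun hwz j
    simp only [Finset.sum_apply, Pi.smul_apply, ← hBz, smul_eq_mul, ind, mul_ite, mul_one, mul_zero] at h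
    rw [← hφr (q j), ← h, map_sum]
    exact Finset.sum_congr rfl fun k _ => by split_ifs <;> simp
  have hrat : ∀ k, (φ (wt k) : ℝ) = wt k := by
    intro k
    refine haff.eq_of_sum_eq_sum (s := Finset.univ) (w₁ := fun k => (φ (wt k) : ℝ)) ?_ ?_ k (Finset.mem_univ k)
    · rw [hwsum, ← Rat.cast_sum, ← map_sum, hwsum, show (1 : ℝ) = ((1 : ℚ) : ℝ) from Rat.cast_one.symm, hφr]
    · rw [hwz]
      funext j
      simp only [Finset.sum_apply, Pi.smul_apply, ← hBz, smul_eq_mul, ind, mul_ite, mul_one, mul_zero]
      rw [← hqj j, Rat.cast_sum]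
      exact Finset.sum_congr rfl fun k _ => by split_ifs <;> simp
  let D : ℕ := ∏ k, (φ (wt k)).den
  have hD : ∀ k, ∃ a : ℕ, (a : ℚ) = D * φ (wt k) := fun k => by
    obtain ⟨c, hc⟩ : (φ (wt k)).den ∣ D := Finset.dvd_prod_of_mem _ (Finset.mem_univ k)
    have hpos : 0 ≤ φ (wt k) := by
      rw [← Rat.cast_nonneg (K := ℝ), hrat]
      exact (hwpos k).le
    obtain ⟨n, hn⟩ := Int.eq_ofNat_of_zero_le (Rat.num_nonneg.2 hpos)
    refine ⟨c * n, ?_⟩
    conv_rhs => rw [← Rat.num_div_den (φ (wt k)), hn, hc]
    have := (φ (wt k)).den_pos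
    push_cast
    field_simp
  choose a ha using hD
  let P : Multiset (Finset ι) := ∑ k, Multiset.replicate (a k) (B k)
  have hPcard : (Multiset.card P : ℚ) = D := by
    simp only [P, Multiset.card_sum, Multiset.card_replicate, Nat.cast_sum, ha, ← Finset.mul_sum]
    rw [← map_sum, hwsum, show (1 : ℝ) = ((1 : ℚ) : ℝ) from Rat.cast_one.symm, hφr, mul_one]
  have hfs : ∀ j : ι, P.filter (fun S => j ∈ S) = ∑ k, (Multiset.replicate (a k) (B k)).filter (fun S => j ∈ S) := by
    intro j
    have : ∀ t : Finset κ, (∑ k ∈ t, Multiset.replicate (a k) (B k)).filter (fun S => j ∈ S) =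
        ∑ k ∈ t, (Multiset.replicate (a k) (B k)).filter (fun S => j ∈ S) := by
      intro t
      induction t using Finset.induction_on with
      | empty => simp
      | insert k t hk ih => rw [Finset.sum_insert hk, Finset.sum_insert hk, Multiset.filter_add, ih]
    exact this Finset.univ
  refine ⟨P, ?_, ?_, fun j => ?_⟩
  · intro h
    rw [h] at hPcard
    have : 0 < D := Finset.prod_pos fun k _ => (φ (wt k)).den_pos
    exact absurd (by exact_mod_cast hPcard.symm) this.ne'
  · intro S hS
    obtain ⟨k, -, hk⟩ := Multiset.mem_sum.1 hS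
    rw [Multiset.eq_of_mem_replicate hk]
    exact hB k
  · rw [hPcard, ← hqj j, Finset.mul_sum,
      hfs, Multiset.card_sum, Nat.cast_sum]
    refine Finset.sum_congr rfl fun k _ => ?_
    split_ifs with h
    · rw [Multiset.filter_eq_self.2 fun S hS => Multiset.eq_of_mem_replicate hS ▸ h, Multiset.card_replicate, ha]
    · rw [Multiset.filter_eq_nil.2 fun S hS => Multiset.eq_of_mem_replicate hS ▸ h, Multiset.card_zero,
        Nat.cast_zero, mul_zero]

end


/-- Let V be a finite-dimensional vector space over a field K and x_0, …, x_m non-zero vectors, a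
configuration of m + 1 points of P(V); a set S of dim V indices with (x_j)_(j ∈ S) linearly
independent is a determinant section non-zero at the configuration. Then the configuration is stable
(for every subspace L with 0 ≠ L ≠ V, the number of i with x_i ∈ L times dim V is less than dim L ·
(m + 1)) if and only if there are integers N ≥ N_0 > 0 such that for each index i some non-empty
finite multiset of such sets S contains every index j ≠ i exactly N times and the index i exactly N
− N_0 times (a monomial in the determinant sections, non-zero at the configuration, of multidegree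
(N, …, N − N_0, …, N) with the N − N_0 in place i). -/
theorem result (K : Type u) [Field K]
    (V : Type u) [AddCommGroup V] [Module K V] [FiniteDimensional K V]
    (m : ℕ) (x : Fin (m + 1) → V) (hx : ∀ i, x i ≠ 0) :
    (∀ L : Submodule K V, L ≠ ⊥ → L ≠ ⊤ →
        Set.ncard {i : Fin (m + 1) | x i ∈ L} * Module.finrank K V < Module.finrank K L * (m + 1)) ↔
      ∃ N N₀ : ℕ, 0 < N₀ ∧ N₀ ≤ N ∧
        ∀ i : Fin (m + 1), ∃ P : Multiset (Finset (Fin (m + 1))), P ≠ 0 ∧
          (∀ S ∈ P, S.card = Module.finrank K V ∧ LinearIndependent K (fun j : S => x j)) ∧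
          ∀ j : Fin (m + 1),
            Multiset.card (P.filter (fun S => j ∈ S)) = if j = i then N - N₀ else N := by
  classical
  set n := finrank K V with hn
  have hn1 : 1 ≤ n := by
    have : Nontrivial V := ⟨x 0, 0, hx 0⟩
    exact finrank_pos
  constructor
  · intro hst
    have hrank : ∀ S : Finset (Fin (m + 1)), S.Nonempty →
        Submodule.span K (x '' (S : Set (Fin (m + 1)))) ≠ ⊤ →
        S.card * n + 1 ≤ finrank K (Submodule.span K (x '' (S : Set (Fin (m + 1))))) * (m + 1) := by
      intro S ⟨i, hi⟩ htop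
      refine Nat.succ_le_of_lt (lt_of_le_of_lt (Nat.mul_le_mul_right n ?_) (hst _ ?_ htop))
      · rw [← Set.ncard_coe_finset S]
        exact Set.ncard_le_ncard (fun j hj => Submodule.subset_span ⟨j, hj, rfl⟩) (Set.toFinite _)
      · intro h
        exact hx i ((Submodule.mem_bot K).1 (h ▸ Submodule.subset_span ⟨i, hi, rfl⟩))
    have htopU : Submodule.span K (x '' ((Finset.univ : Finset (Fin (m + 1))) : Set (Fin (m + 1)))) = ⊤ := by
      by_contra h
      have h1 := hrank Finset.univ Finset.univ_nonempty h
      have h2 := Nat.mul_le_mul_right (m + 1)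
        (Submodule.finrank_le (Submodule.span K (x '' ((Finset.univ : Finset (Fin (m + 1))) : Set (Fin (m + 1))))))
      rw [Finset.card_univ, Fintype.card_fin, ← hn] at *
      rw [mul_comm] at h1
      omega
    let T₀ : ℕ := (n + 1) * (m + 1) - 1
    have hT₀ : 0 < T₀ := by
      have : 2 * 1 ≤ (n + 1) * (m + 1) := Nat.mul_le_mul (by omega) (by omega)
      omega
    have hT₀' : T₀ + 1 = (n + 1) * (m + 1) := by omega
    let c : Fin (m + 1) → Fin (m + 1) → ℕ := fun i j => if j = i then n else n + 1
    have hcsum : ∀ i, ∑ j, c i j = T₀ := by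
      intro i
      have : ∑ j, (c i j + if j = i then 1 else 0) = ∑ _j : Fin (m + 1), (n + 1) :=
        Finset.sum_congr rfl fun j _ => by simp only [c]; split_ifs <;> rfl
      rw [Finset.sum_add_distrib, Finset.sum_ite_eq', if_pos (Finset.mem_univ i), Finset.sum_const,
        Finset.card_univ, Fintype.card_fin, smul_eq_mul, mul_comm] at this
      omega
    let q : Fin (m + 1) → Fin (m + 1) → ℚ := fun i j => (c i j * n : ℕ) / (T₀ : ℚ)
    have hqcast : ∀ i j, (q i j : ℝ) = ((c i j * n : ℕ) : ℝ) / (T₀ : ℝ) := fun i j => by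
      simp only [q, Rat.cast_div, Rat.cast_natCast]
    have htot : ∀ i, ∑ j, (q i j : ℝ) = (finrank K V : ℝ) := fun i => by
      simp only [hqcast, ← Finset.sum_div, ← Nat.cast_sum, ← Finset.sum_mul, hcsum]
      rw [Nat.cast_mul, mul_div_cancel_left₀ _ (Nat.cast_ne_zero.2 hT₀.ne')]
    have hmain : ∀ i, ∃ P : Multiset (Finset (Fin (m + 1))), P ≠ 0 ∧
        (∀ S ∈ P, S.card = finrank K V ∧ LinearIndepOn K x (S : Set (Fin (m + 1)))) ∧
        ∀ j, (Multiset.card (P.filter (fun S => j ∈ S)) : ℚ) = Multiset.card P * q i j := by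
      intro i
      refine exists_nat_combination x (q i) (fun S => ?_) (htot i)
      simp only [hqcast, ← Finset.sum_div, ← Nat.cast_sum, ← Finset.sum_mul]
      rw [div_le_iff₀ (by exact_mod_cast hT₀), ← Nat.cast_mul, Nat.cast_le]
      rcases S.eq_empty_or_nonempty with rfl | hS
      · simp
      by_cases htop : Submodule.span K (x '' (S : Set (Fin (m + 1)))) = ⊤
      · rw [htop, finrank_top, ← hn, mul_comm n T₀]
        exact Nat.mul_le_mul_right n
          ((Finset.sum_le_sum_of_subset (Finset.subset_univ S)).trans_eq (hcsum i))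
      · have h1 := hrank S hS htop
        have h2 : ∑ j ∈ S, c i j ≤ S.card * (n + 1) := by
          rw [← smul_eq_mul, ← Finset.sum_const]
          exact Finset.sum_le_sum fun j _ => by simp only [c]; split_ifs <;> omega
        set l := finrank K (Submodule.span K (x '' (S : Set (Fin (m + 1)))))
        have hl : l ≤ n := Submodule.finrank_le _
        have h3 := Nat.mul_le_mul_right n h2
        have h4 := Nat.mul_le_mul_left (n + 1) h1
        have h5 : l * T₀ + l = l * ((n + 1) * (m + 1)) := by rw [← hT₀', mul_add, mul_one]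
        nlinarith
    choose P hP0 hP hPc using hmain
    let Dall : ℕ := ∏ i, Multiset.card (P i)
    have hpos : ∀ i, 0 < Multiset.card (P i) := fun i => Multiset.card_pos.2 (hP0 i)
    have hD : 0 < Dall := Finset.prod_pos fun i _ => hpos i
    refine ⟨Dall * n * (n + 1), Dall * n, by positivity, Nat.le_mul_of_pos_right _ n.succ_pos, fun i => ?_⟩
    obtain ⟨e, he⟩ : Multiset.card (P i) ∣ Dall := Finset.dvd_prod_of_mem _ (Finset.mem_univ i)
    have he0 : 0 < e := Nat.pos_of_ne_zero fun h => by rw [h, mul_zero] at he; omega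
    refine ⟨(T₀ * e) • P i, ?_, fun S hS => ?_, fun j => ?_⟩
    · rw [← Multiset.card_pos, Multiset.card_nsmul]
      exact Nat.mul_pos (Nat.mul_pos hT₀ he0) (hpos i)
    · exact hP i S (Multiset.mem_of_mem_nsmul hS)
    · have key : Multiset.card (P i |>.filter fun S => j ∈ S) * T₀ = Multiset.card (P i) * (c i j * n) := by
        have h := hPc i j
        simp only [q] at h
        rw [← mul_div_assoc, eq_div_iff (by exact_mod_cast hT₀.ne')] at h
        exact_mod_cast h
      have hz : Multiset.card (((T₀ * e) • P i).filter fun S => j ∈ S) = Dall * (c i j * n) := by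
        rw [Multiset.filter_nsmul, Multiset.card_nsmul, he, mul_comm T₀ e, mul_assoc, mul_comm T₀, key]
        ring
      rw [hz]
      simp only [c]
      split_ifs
      · rw [show Dall * n * (n + 1) - Dall * n = Dall * (n * n) by
          rw [mul_add, mul_one, Nat.add_sub_cancel, mul_assoc]]
      · ring
  · rintro ⟨N, N₀, hN₀, hNN, hP⟩ L hL hL'
    set J : Finset (Fin (m + 1)) := Finset.univ.filter fun j => x j ∈ L
    have hJc : {i : Fin (m + 1) | x i ∈ L}.ncard = J.card := by
      rw [← Set.ncard_coe_finset]; congr 1; ext; simp [J]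
    rw [hJc]
    have hdc : ∀ (P : Multiset (Finset (Fin (m + 1)))) (T : Finset (Fin (m + 1))),
        ∑ j ∈ T, Multiset.card (P.filter fun S => j ∈ S) = (P.map fun S => (T.filter (· ∈ S)).card).sum := by
      intro P T
      induction P using Multiset.induction with
      | empty => simp
      | cons a P ih =>
        simp only [Multiset.filter_cons, Multiset.card_add, Finset.sum_add_distrib, ih, Multiset.map_cons,
          Multiset.sum_cons]
        rw [Finset.card_filter]
        congr 1
        exact Finset.sum_congr rfl fun j _ => by split_ifs <;> rfl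
    have hsub : ∀ S : Finset (Fin (m + 1)), LinearIndependent K (fun j : S => x j) →
        (J.filter (· ∈ S)).card ≤ finrank K L := by
      intro S hS
      have h' : LinearIndepOn K x ((J.filter (· ∈ S) : Finset (Fin (m + 1))) : Set (Fin (m + 1))) :=
        LinearIndepOn.mono (t := ((J.filter (· ∈ S) : Finset (Fin (m + 1))) : Set (Fin (m + 1))))
          (show LinearIndepOn K x (S : Set (Fin (m + 1))) from hS) fun j hj => (Finset.mem_filter.1 (Finset.mem_coe.1 hj)).2
      rw [← card_of_indep x _ h']
      refine Submodule.finrank_mono (Submodule.span_le.2 ?_)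
      rintro _ ⟨j, hj, rfl⟩
      exact (Finset.mem_filter.1 (Finset.mem_filter.1 hj).1).2
    have hlt : finrank K L < n := Submodule.finrank_lt hL'
    -- a point outside L
    obtain ⟨i, hi⟩ : ∃ i, x i ∉ L := by
      by_contra! hall
      obtain ⟨P, hP0, hPS, -⟩ := hP 0
      obtain ⟨S, hS⟩ := Multiset.exists_mem_of_ne_zero hP0
      have h := hsub S (hPS S hS).2
      have : J.filter (· ∈ S) = S := by ext j; simp [J, hall j]
      rw [this, (hPS S hS).1] at h
      omega
    obtain ⟨P, hP0, hPS, hPc⟩ := hP i
    have h1 : ∑ j ∈ J, Multiset.card (P.filter fun S => j ∈ S) = J.card * N := by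
      rw [← smul_eq_mul, ← Finset.sum_const]
      exact Finset.sum_congr rfl fun j hj => by
        rw [hPc j, if_neg fun h => hi (by subst h; exact (Finset.mem_filter.1 hj).2)]
    have h2 : ∑ j, Multiset.card (P.filter fun S => j ∈ S) + N₀ = (m + 1) * N := by
      calc _ = ∑ j, ((if j = i then N - N₀ else N) + if j = i then N₀ else 0) := by
            rw [Finset.sum_add_distrib, Finset.sum_ite_eq' Finset.univ i fun _ => N₀,
              if_pos (Finset.mem_univ i)]
            simp only [hPc]
        _ = ∑ _j : Fin (m + 1), N := Finset.sum_congr rfl fun j _ => by split_ifs <;> omega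
        _ = _ := by simp
    rw [hdc] at h1 h2
    have h3 : (P.map fun S => ((Finset.univ : Finset (Fin (m + 1))).filter (· ∈ S)).card).sum =
        Multiset.card P * n := by
      rw [Multiset.map_congr rfl (g := fun _ => n) fun S hS => by simp [(hPS S hS).1, hn],
        Multiset.map_const', Multiset.sum_replicate, smul_eq_mul]
    have h4 : (P.map fun S => (J.filter (· ∈ S)).card).sum ≤ Multiset.card P * finrank K L := by
      have := Multiset.sum_map_le_sum_map (s := P) (fun S => (J.filter (· ∈ S)).card) (fun _ => finrank K L)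
        fun S hS => hsub S (hPS S hS).2
      simpa [Multiset.map_const', Multiset.sum_replicate] using this
    rw [h1] at h4
    rw [h3] at h2
    have hl0 : 0 < finrank K L := Nat.pos_of_ne_zero fun h => hL (Submodule.finrank_eq_zero.1 h)
    refine Nat.lt_of_mul_lt_mul_left (a := N) ?_
    calc N * (J.card * n) ≤ Multiset.card P * finrank K L * n := by
          rw [← mul_assoc, mul_comm N J.card]; exact Nat.mul_le_mul_right n h4
      _ = finrank K L * (Multiset.card P * n) := by ring
      _ < finrank K L * ((m + 1) * N) := Nat.mul_lt_mul_of_pos_left (by omega) hl0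
      _ = N * (finrank K L * (m + 1)) := by ring

end Groth.Agent.S12552
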