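import Groth.Statements.S12553
import Groth.Agent.Lib.Comodule.Mu
import Mathlib.RingTheory.Coalgebra.GroupLike

set_option autoImplicit false
universe u
open TensorProduct LaurentPolynomial
open GIT

namespace Groth.Agent.S12553

open TensorProduct


/-- Let k be a field and T = Spec A a diagonalizable affine group (A a commutative Hopf algebra spanned
by its group-like elements, e.g. a torus) acting linearly on affine ι-space. Then there are finitely
many characters χ_1, …, χ_N of T (group-like elements of A) such that every vector v ≠ 0 has a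
non-empty set I of indices for which, for every one-parameter subgroup λ of T with λ(χ_j) = t^(e_j),
the numerical function μ(v, λ) (the m for which t^m · (v moved by λ(t)) tends to a non-zero vector)
equals the maximum of −e_j over j ∈ I: μ is the maximum of finitely many linear functionals on
one-parameter subgroups. (The published proposition concerns a maximal torus of a reductive group
acting on a proper scheme with an ample linearised invertible sheaf; this row is the case of
projective space with the hyperplane bundle, for any diagonalizable group acting linearly, stated on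
the affine cone.) -/
theorem result (k : Type u) [Field k]
    (A : Type u) [CommRing A] [HopfAlgebra k A] (hdiag : HopfRep.IsDiagonalizable k A)
    (ι : Type u) [Fintype ι] [HopfRep.Comod k A (MvPolynomial ι k)] [GLin.IsCoactAlg k A (MvPolynomial ι k)]
    (hlin : GLin.IsLinear k A ι) :
    ∃ (N : ℕ) (χ : Fin N → A), (∀ j, IsGroupLikeElem k (χ j)) ∧
      ∀ v : ι → k, v ≠ 0 → ∃ I : Finset (Fin N), I.Nonempty ∧
        ∀ (lam : A →ₐc[k] k[T;T⁻¹]) (e : Fin N → ℤ), (∀ j, lam (χ j) = LaurentPolynomial.T (e j)) →
          ∀ m : ℤ, GLin.IsMu k A lam v m ↔ ((∀ j ∈ I, -e j ≤ m) ∧ ∃ j ∈ I, m = -e j) := by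
  classical
  let G := {a : A // IsGroupLikeElem k a}
  have hli : LinearIndependent k (fun g : G => (g : A)) := linearIndepOn_isGroupLikeElem
  let b : Module.Basis G k A := Module.Basis.mk hli (by
    rw [show Set.range (fun g : G => (g : A)) = {a : A | IsGroupLikeElem k a} from Subtype.range_coe]
    exact hdiag.ge)
  have hb : ∀ g : G, b g = (g : A) := fun g => Module.Basis.mk_apply _ _ g
  choose m hm using hlin
  let S : Finset G := Finset.univ.biUnion fun i => Finset.univ.biUnion fun j => (b.repr (m i j)).support
  let χ : Fin S.card → A := fun t => ((S.equivFin.symm t : G) : A)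
  refine ⟨S.card, χ, fun t => (S.equivFin.symm t : G).2, fun v hv => ?_⟩
  let F : ι → A := fun i => GLin.orbitHom k A (GLin.vecPt k ι v) (MvPolynomial.X i)
  have hF : ∀ i, F i = ∑ j, v j • m i j := fun i => by
    simp [F, Comodule.orbitHom_apply, hm i]
  have hsupp : ∀ i, (b.repr (F i)).support ⊆ S := by
    intro i g hg
    by_contra hgS
    refine (Finsupp.mem_support_iff.mp hg) ?_
    rw [hF, map_sum, Finsupp.finsetSum_apply]
    refine Finset.sum_eq_zero fun j _ => ?_
    have : b.repr (m i j) g = 0 := Finsupp.notMem_support_iff.mp fun h =>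
      hgS (Finset.mem_biUnion.mpr ⟨i, Finset.mem_univ _, Finset.mem_biUnion.mpr ⟨j, Finset.mem_univ _, h⟩⟩)
    simp [this]
  let w : Fin S.card → ι → k := fun t i => b.repr (F i) (S.equivFin.symm t : G)
  have hFw : ∀ i, F i = ∑ t, w t i • χ t := fun i => by
    conv_lhs => rw [← b.linearCombination_repr (F i), Finsupp.linearCombination_apply,
      Finsupp.sum_of_support_subset _ (hsupp i) (fun g a => a • b g) (fun a _ => zero_smul k (b a)), ← Finset.sum_coe_sort,
      ← Equiv.sum_comp S.equivFin.symm]
    simp only [hb]
    rfl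
  obtain ⟨i₀, hi₀⟩ := Function.ne_iff.mp hv
  refine ⟨Finset.univ.filter fun t => w t ≠ 0, ?_, fun lam e he M => ?_⟩
  · by_contra h
    rw [Finset.not_nonempty_iff_eq_empty, Finset.filter_eq_empty_iff] at h
    have h0 : ∀ t, w t = 0 := fun t => not_not.mp (h (Finset.mem_univ t))
    have := Comodule.counit_orbitHom (A := A) (GLin.vecPt k ι v) (MvPolynomial.X i₀)
    rw [show GLin.orbitHom k A (GLin.vecPt k ι v) (MvPolynomial.X i₀) = F i₀ from rfl, hFw] at this
    simp [h0] at this
    exact hi₀ this.symm
  have hco : ∀ i n, (Comodule.coordOrbit lam v i).coeff n = ∑ t, if e t = n then w t i else 0 := by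
    intro i n
    show (lam (F i)).coeff n = _
    rw [hFw, map_sum, AddMonoidAlgebra.coeff_sum, Finsupp.finsetSum_apply]
    refine Finset.sum_congr rfl fun t _ => ?_
    rw [map_smul, AddMonoidAlgebra.coeff_smul, Finsupp.smul_apply, he, LaurentPolynomial.T_apply]
    simp
  have hkey : ∀ t, w t ≠ 0 → ∃ i, (Comodule.coordOrbit lam v i).coeff (e t) ≠ 0 := by
    intro t ht
    by_contra hno
    refine ht (funext fun i => ?_)
    let g : G := S.equivFin.symm t
    let φ : A →ₗ[k] k := (Finsupp.lapply (e t)) ∘ₗ (AddMonoidAlgebra.coeffLinearEquiv k).toLinearMap ∘ₗ (lam : A →ₐ[k] k[T;T⁻¹]).toLinearMap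
    have hφ : ∀ a, φ a = (lam a).coeff (e t) := fun a => rfl
    let Φ : A ⊗[k] A →ₗ[k] k := (TensorProduct.lid k k).toLinearMap ∘ₗ TensorProduct.map φ (b.coord g)
    have e1 := congrArg Φ (Comodule.comodHom_apply (Comodule.isComodHom_orbitHom (A := A) (GLin.vecPt k ι v)) (MvPolynomial.X i))
    rw [hm i, map_sum, map_sum] at e1
    have e2 : Φ (Coalgebra.comul (R := k) (F i)) = w t i := by
      rw [hFw, map_sum, map_sum, Finset.sum_eq_single t]
      · rw [map_smul, (show IsGroupLikeElem k (χ t) from g.2).comul_eq_tmul_self]
        simp [Φ, hφ, he, show χ t = b g from (hb g).symm]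
        rw [show b g = χ t from hb g, he]; simp
      · intro u _ hut
        rw [map_smul, (show IsGroupLikeElem k (χ u) from (S.equivFin.symm u : G).2).comul_eq_tmul_self]
        have : b.repr (χ u) g = 0 := by
          rw [show χ u = b (S.equivFin.symm u : G) from (hb _).symm, Module.Basis.repr_self,
            Finsupp.single_apply, if_neg]
          intro h; exact hut (S.equivFin.symm.injective (Subtype.val_injective h))
        simp [Φ, this]
      · simp
    refine e2.symm.trans (e1.trans (Finset.sum_eq_zero fun j _ => ?_))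
    have : φ (F j) = 0 := by rw [hφ]; exact not_not.mp (not_exists.mp hno j)
    simp [Φ, show (GLin.orbitHom k A (GLin.vecPt k ι v)).toLinearMap (MvPolynomial.X j) = F j from rfl, this]
  rw [Comodule.isMu_iff]
  constructor
  · intro h
    refine ⟨fun t ht => ?_, ?_⟩
    · obtain ⟨i, hi⟩ := hkey t (Finset.mem_filter.mp ht).2
      have := h.1 i _ hi; omega
    · obtain ⟨i, hi⟩ := h.2
      rw [hco] at hi
      obtain ⟨t, -, ht⟩ := Finset.exists_ne_zero_of_sum_ne_zero hi
      by_cases hte : e t = -M
      · rw [if_pos hte] at ht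
        exact ⟨t, Finset.mem_filter.mpr ⟨Finset.mem_univ _, fun h0 => ht (congrFun h0 i)⟩, by omega⟩
      · simp [if_neg hte] at ht
  · rintro ⟨hle, t, ht, hte⟩
    refine ⟨fun i n hn => ?_, ?_⟩
    · rw [hco] at hn
      obtain ⟨u, -, hu⟩ := Finset.exists_ne_zero_of_sum_ne_zero hn
      by_cases hue : e u = n
      · rw [if_pos hue] at hu
        have := hle u (Finset.mem_filter.mpr ⟨Finset.mem_univ _, fun h0 => hu (congrFun h0 i)⟩); omega
      · simp [if_neg hue] at hu
    · rw [hte, neg_neg]; exact hkey t (Finset.mem_filter.mp ht).2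

end Groth.Agent.S12553
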