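import Groth.Statements.S12570
import Groth.Agent.Lib.GeomFF26.Expansion
-- import your own Groth.Agent.* helpers here

set_option autoImplicit false
universe u v w
open FunFld

namespace Groth.Agent.S12570

/-- For a place `Q` of a finite separable extension `K'` of a geometric function field of one variable
`K/k`, lying over `P` with ramification index `e`, both places having Laurent expansions over `k` in
local parameters (separable places), and `x` with `dx` of finite order above and below: the
different exponent `d(Q|P)`, computed on `dx`, is `e - 1` if `char K` does not divide `e`, and is `≥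
e` otherwise. (The published statement allows any finite extension along which differentials of `K`
pull back injectively; this row takes `K'` separable over `K`.) -/
theorem result (k : Type u) (K K' : Type v) [Field k] [Field K] [Field K'] [Algebra k K] [Algebra K K'] [Algebra k K']
    [IsScalarTower k K K'] [FiniteDimensional K K'] [Algebra.IsSeparable K K']
    (hK : FunFld.IsFunctionField k K) (hg : FunFld.IsGeometric k K)
    (F F' : Type w) [Field F] [Algebra k F] [Field F'] [Algebra k F']
    (P : FunFld.Place k K) (Q : FunFld.Place k K') (e : ℕ) (he : FunFld.IsOverWith Q P e)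
    (φ : K →ₐ[k] LaurentSeries F) (hφ : LocRes.IsExpansionAt P.1 φ)
    (ψ : K' →ₐ[k] LaurentSeries F') (hψ : LocRes.IsExpansionAt Q.1 ψ)
    (x : K) (hx : LocRes.vDiff φ 1 x ≠ 0) (hx' : LocRes.vDiff ψ 1 (algebraMap K K' x) ≠ 0) :
    (¬ (ringChar K ∣ e) → LocRes.diffExp φ ψ e x = (e : ℤ) - 1) ∧
    (ringChar K ∣ e → (e : ℤ) ≤ LocRes.diffExp φ ψ e x) := by
  have h := GeomFF26.diffExp_bounds hK.1 hg he hφ hψ hx hx'
  haveI := ringChar.charP K
  haveI : CharP k (ringChar K) := (algebraMap k K).charP (algebraMap k K).injective _
  haveI : CharP F' (ringChar K) := charP_of_injective_algebraMap (algebraMap k F').injective _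
  rw [← CharP.cast_eq_zero_iff F' (ringChar K) e]
  exact h

end Groth.Agent.S12570
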