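import Groth.Statements.S12574
import Groth.Agent.Lib.DiffExp28.Res1

set_option linter.style.haveILetI false

set_option autoImplicit false
universe u v w
open FunFld

namespace Groth.Agent.S12574

/-- Let `Q` be a place of a finite separable extension `K'` of a geometric function field of one
variable `K/k`, over `P` with ramification index `e` and residue degree `1`, both with Laurent
expansions over `k` in local parameters, and let `R^*` be the dual, under the trace form of `K'/K`,
of the integral closure of `O_P` in `K'`. Then `min_{y ∈ R^*} v_Q(y) = -d(Q|P)`: in multiplicative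
notation every `y ∈ R^*` has `v_Q(y) ≤ exp d(Q|P)` and equality is attained. -/
theorem result (k : Type u) (K K' : Type v) [Field k] [Field K] [Field K'] [Algebra k K] [Algebra K K'] [Algebra k K']
    [IsScalarTower k K K'] [FiniteDimensional K K'] [Algebra.IsSeparable K K']
    (hK : FunFld.IsFunctionField k K) (hg : FunFld.IsGeometric k K)
    (F F' : Type w) [Field F] [Algebra k F] [Field F'] [Algebra k F']
    (P : FunFld.Place k K) (Q : FunFld.Place k K') (e : ℕ) (he : FunFld.IsOverWith Q P e)
    (φ : K →ₐ[k] LaurentSeries F) (hφ : LocRes.IsExpansionAt P.1 φ)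
    (ψ : K' →ₐ[k] LaurentSeries F') (hψ : LocRes.IsExpansionAt Q.1 ψ)
    (x : K) (hx : LocRes.vDiff φ 1 x ≠ 0) (hx' : LocRes.vDiff ψ 1 (algebraMap K K' x) ≠ 0)
    [P.1.HasExtension Q.1]
    (hf : Function.Surjective (algebraMap (IsLocalRing.ResidueField P.O) (IsLocalRing.ResidueField Q.O)))
    [Algebra P.O K'] [IsScalarTower P.O K K'] :
    (∀ y : K', (∀ z : K', IsIntegral P.O z → P.1 (Algebra.trace K K' (y * z)) ≤ 1) →
      Q.1 y ≤ WithZero.exp (LocRes.diffExp φ ψ e x)) ∧
    ∃ y : K', (∀ z : K', IsIntegral P.O z → P.1 (Algebra.trace K K' (y * z)) ≤ 1) ∧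
      Q.1 y = WithZero.exp (LocRes.diffExp φ ψ e x) := by
  exact Groth.Agent.DiffExp28.min_val_traceDual hK.1 hg he hφ hψ hx hx'
    (Groth.Agent.DiffExp28.resTriv_of_surjective hf)

end Groth.Agent.S12574
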