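import Groth.Statements.S12575
import Groth.Agent.Lib.DiffExp28.Res1

set_option linter.style.haveILetI false

set_option autoImplicit false
universe u v w
open FunFld

namespace Groth.Agent.S12575

/-- Let `Q` be a place of a finite separable extension `K' = K(y)` of a geometric function field of one
variable `K/k`, over `P` with ramification index `e` and residue degree `1`, both with Laurent
expansions over `k` in local parameters, with `y` integral over `O_P` and `g` its minimal polynomial
over `K`. Then `v_Q(g'(y)) ≥ d(Q|P)`, and when equality holds `O_Q` is the localisation of `O_P[y]`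
at `Q`. -/
theorem result (k : Type u) (K K' : Type v) [Field k] [Field K] [Field K'] [Algebra k K] [Algebra K K'] [Algebra k K']
    [IsScalarTower k K K'] [FiniteDimensional K K'] [Algebra.IsSeparable K K']
    (hK : FunFld.IsFunctionField k K) (hg : FunFld.IsGeometric k K)
    (F F' : Type w) [Field F] [Algebra k F] [Field F'] [Algebra k F']
    (P : FunFld.Place k K) (Q : FunFld.Place k K') (e : ℕ) (he : FunFld.IsOverWith Q P e)
    (φ : K →ₐ[k] LaurentSeries F) (hφ : LocRes.IsExpansionAt P.1 φ)
    (ψ : K' →ₐ[k] LaurentSeries F') (hψ : LocRes.IsExpansionAt Q.1 ψ)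
    (x : K) (hx : LocRes.vDiff φ 1 x ≠ 0) (hx' : LocRes.vDiff ψ 1 (algebraMap K K' x) ≠ 0)
    [P.1.HasExtension Q.1]
    (hf : Function.Surjective (algebraMap (IsLocalRing.ResidueField P.O) (IsLocalRing.ResidueField Q.O)))
    [Algebra P.O K'] [IsScalarTower P.O K K']
    (y : K') (hy : IntermediateField.adjoin K ({y} : Set K') = ⊤) (hyi : IsIntegral P.O y) :
    LocRes.diffExp φ ψ e x ≤ Q.ord (Polynomial.aeval y (Polynomial.derivative (minpoly K y))) ∧
    (Q.ord (Polynomial.aeval y (Polynomial.derivative (minpoly K y))) = LocRes.diffExp φ ψ e x →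
      ∀ z : K', Q.1 z ≤ 1 → ∃ a ∈ Algebra.adjoin P.O ({y} : Set K'), ∃ b ∈ Algebra.adjoin P.O ({y} : Set K'),
        Q.1 b = 1 ∧ z * b = a) := by
  exact Groth.Agent.DiffExp28.diffExp_le_ord_derivative hK.1 hg he hφ hψ hx hx'
    (Groth.Agent.DiffExp28.resTriv_of_surjective hf) hy hyi

end Groth.Agent.S12575
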