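import Groth.Statements.S12583
import Groth.Agent.Lib.GeomFF26.Expansion
-- import your own Groth.Agent.* helpers here

set_option autoImplicit false
universe u v w
open FunFld

namespace Groth.Agent.S12583

/-- At a separable place `P` of a geometric function field of one variable `K/k` with local parameter
`t`, if `x ∈ O_P` has expansion `∑ a_m t^m` then the Hasse derivative `D_t^{(n)}(x)` expands as the
series with coefficients `C(m,n) a_m` in degree `m - n`; in particular `D_t^{(n)}(O_P) ⊆ O_P`. Here
`φ` is a Laurent expansion over `k` at `P` with `φ t = X` and `H` is the total Hasse derivative with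
respect to `t`. -/
theorem result (k : Type u) (K : Type v) [Field k] [Field K] [Algebra k K] (hK : FunFld.IsFunctionField k K) (hg : FunFld.IsGeometric k K)
    (P : FunFld.Place k K) (F : Type w) [Field F] [Algebra k F]
    (φ : K →ₐ[k] LaurentSeries F) (hφ : LocRes.IsExpansionAt P.1 φ)
    (t : K) (ht : φ t = HahnSeries.single 1 1)
    (H : K →ₐ[k] PowerSeries K) (hH : LocRes.IsHasseFamily t H)
    (x : K) (hx : P.1 x ≤ 1) (n : ℕ) :
    φ (LocRes.hasseD H n x) = LaurentSeries.hasseDeriv F n (φ x) := by
  have hv : Valued.v (φ x) ≤ 1 := (hφ.1 x).trans_le hx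
  refine GeomFF26.expansion_hasseD φ ht ?_ hH hv n
  refine (GeomFF26.sep_iff_D_ne_zero hK.1 hg t).2 (GeomFF26.D_ne_zero_of_D_map φ ?_)
  refine GeomFF26.D_ne_zero_of_vDiff (φ := φ) ?_
  rw [GeomFF26.vDiff_uniformizer (w := P.1) hφ (by rw [← hφ.1, ht]; exact GeomFF26.val_single_one_one)]
  exact one_ne_zero

end Groth.Agent.S12583
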