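import Groth.Statements.S12584
import Groth.Agent.Lib.FunField.DXRegular26
-- import your own Groth.Agent.* helpers here

set_option autoImplicit false
universe u v w
open FunFld

namespace Groth.Agent.S12584

/-- For `char k ≠ 2` and `K` of degree `2` over `k(x)` with `y² = f(x)`, `f` squarefree of degree `≥ 1`,
the forms `x^i dx/y`, `0 ≤ i < g`, are a `k`-basis of the regular differential forms: each is
regular, and every regular `z dx` has `z = a(x)/y` with `deg a < g`; regularity read through Laurent
expansions over `k` at every place (all places separable). -/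
theorem result (k : Type u) (K : Type v) [Field k] [Field K] [Algebra k K] [Algebra (RatFunc k) K] [IsScalarTower k (RatFunc k) K]
    (hK : FunFld.IsFunctionField k K) (hdeg : Module.finrank (RatFunc k) K = 2) (h2 : ringChar k ≠ 2)
    (y : K) (f : Polynomial k) (hf : Squarefree f) (hd : 1 ≤ f.natDegree)
    (heq : y ^ 2 = algebraMap (RatFunc k) K (algebraMap (Polynomial k) (RatFunc k) f))
    (F : FunFld.Place k K → Type w) [∀ P, Field (F P)] [∀ P, Algebra k (F P)] [∀ P, FiniteDimensional k (F P)]
    (φ : ∀ P, K →ₐ[k] LaurentSeries (F P)) (hφ : ∀ P, LocRes.IsExpansionAt P.1 (φ P)) :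
    (∀ i : ℕ, i < FunFld.genus k K → ∀ P,
      LocRes.vDiff (φ P) (algebraMap (RatFunc k) K RatFunc.X ^ i / y) (algebraMap (RatFunc k) K RatFunc.X) ≤ 1) ∧
    ∀ z : K, (∀ P, LocRes.vDiff (φ P) z (algebraMap (RatFunc k) K RatFunc.X) ≤ 1) →
      ∃ a : Polynomial k, a.degree < (FunFld.genus k K : WithBot ℕ) ∧
        z = algebraMap (RatFunc k) K (algebraMap (Polynomial k) (RatFunc k) a) / y := by
  haveI : FiniteDimensional (RatFunc k) K := Module.finite_of_finrank_eq_succ hdeg
  have H := Groth.Agent.FunField.Hyp.of_ratFunc h2 hdeg hf hd heq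
  refine ⟨fun i hi P => ?_, fun z hz => H.exists_of_regular F φ hdeg hK hφ hz⟩
  have := H.regular_poly F φ hdeg hK hφ (Polynomial.X ^ i)
    (Or.inr (by rw [Polynomial.natDegree_X_pow]; exact hi)) P
  rwa [map_pow, RatFunc.algebraMap_X, map_pow] at this

end Groth.Agent.S12584
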