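import Groth.Statements.S12586
import Groth.Agent.Lib.FunField.ASGenus26
-- import your own Groth.Agent.* helpers here

set_option autoImplicit false
universe u v
open FunFld

namespace Groth.Agent.S12586

/-- For `k` perfect of characteristic `2`, a function field of one variable `K/k` of genus `≥ 2` has at
most one rational subfield `k(x)` over which `K` is separable of degree `2`. (The published
statement says: the unique rational subfield of index `2`; the argument given covers the subfields
over which `K` is separable, which is what is stated here.) -/
theorem result (k : Type u) (K : Type v) [Field k] [Field K] [Algebra k K] [PerfectField k]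
    (h2 : ringChar k = 2) (hK : FunFld.IsFunctionField k K) (hg : 2 ≤ FunFld.genus k K)
    (x x' : K) (hx : Module.finrank (IntermediateField.adjoin k ({x} : Set K)) K = 2)
    [Algebra.IsSeparable (IntermediateField.adjoin k ({x} : Set K)) K]
    (hx' : Module.finrank (IntermediateField.adjoin k ({x'} : Set K)) K = 2)
    [Algebra.IsSeparable (IntermediateField.adjoin k ({x'} : Set K)) K] :
    IntermediateField.adjoin k ({x} : Set K) = IntermediateField.adjoin k ({x'} : Set K) := by
  have h2' := Groth.Agent.FunField.two_eq_zero_of_ringChar h2
  exact le_antisymm
    (IntermediateField.adjoin_simple_le_iff.2 (Groth.Agent.FunField.mem_of_sep_quadratic h2' hK hg hx' hx))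
    (IntermediateField.adjoin_simple_le_iff.2 (Groth.Agent.FunField.mem_of_sep_quadratic h2' hK hg hx hx'))

end Groth.Agent.S12586
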