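import Groth.Statements.S12587
import Groth.Agent.Lib.FunField.DXRegular26
-- import your own Groth.Agent.* helpers here

set_option autoImplicit false
universe u v w
open FunFld

namespace Groth.Agent.S12587

/-- For `k` perfect of characteristic `2` and `K = k(x, y)` with `y² + y = f(x)`, all poles of `f` of
odd order `2d_i - 1` at `p_i`, and `q = ∏ p_i^{d_i}` over the finite poles, the forms `x^i dx/q(x)`,
`0 ≤ i < g`, are a `k`-basis of the regular differential forms; regularity read through Laurent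
expansions over `k` at every place; `q` is pinned up to a constant by its orders at the finite
places. -/
theorem result (k : Type u) (K : Type v) [Field k] [Field K] [Algebra k K] [Algebra (RatFunc k) K] [IsScalarTower k (RatFunc k) K]
    (hK : FunFld.IsFunctionField k K) (hdeg : Module.finrank (RatFunc k) K = 2) [PerfectField k] (h2 : ringChar k = 2)
    [Algebra.IsSeparable (RatFunc k) K]
    (y : K) (hy : y ∉ Set.range (algebraMap (RatFunc k) K)) (f : RatFunc k)
    (heq : y ^ 2 + y = algebraMap (RatFunc k) K f)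
    (hodd : ∀ p : FunFld.Place k (RatFunc k), 1 < p.1 f → Odd (p.ord f))
    (q : Polynomial k) (hq0 : q ≠ 0)
    (hq : ∀ p : FunFld.Place k (RatFunc k), p.1 RatFunc.X ≤ 1 →
      p.ord (algebraMap (Polynomial k) (RatFunc k) q) = if 1 < p.1 f then (1 - p.ord f) / 2 else 0)
    (F : FunFld.Place k K → Type w) [∀ P, Field (F P)] [∀ P, Algebra k (F P)] [∀ P, FiniteDimensional k (F P)]
    (φ : ∀ P, K →ₐ[k] LaurentSeries (F P)) (hφ : ∀ P, LocRes.IsExpansionAt P.1 (φ P)) :
    (∀ i : ℕ, i < FunFld.genus k K → ∀ P,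
      LocRes.vDiff (φ P) (algebraMap (RatFunc k) K (RatFunc.X ^ i / algebraMap (Polynomial k) (RatFunc k) q))
        (algebraMap (RatFunc k) K RatFunc.X) ≤ 1) ∧
    ∀ z : K, (∀ P, LocRes.vDiff (φ P) z (algebraMap (RatFunc k) K RatFunc.X) ≤ 1) →
      ∃ a : Polynomial k, a.degree < (FunFld.genus k K : WithBot ℕ) ∧
        z = algebraMap (RatFunc k) K (algebraMap (Polynomial k) (RatFunc k) a / algebraMap (Polynomial k) (RatFunc k) q) := by
  haveI : FiniteDimensional (RatFunc k) K := Module.finite_of_finrank_eq_succ hdeg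
  have H : Groth.Agent.FunField.AS y f := ⟨Groth.Agent.FunField.two_eq_zero_of_ringChar h2, hdeg, heq, hy⟩
  have hiff : ∀ p : FunFld.Place k (RatFunc k), 1 < p.1 f ↔ p.ord f < 0 := fun p => by
    rw [← not_le, ← Groth.Agent.FunField.ord_nonneg_iff, not_le]
  have hodd' : ∀ p : FunFld.Place k (RatFunc k), p.ord f < 0 → Odd (p.ord f) :=
    fun p hp => hodd p ((hiff p).2 hp)
  have hq' : ∀ p : FunFld.Place k (RatFunc k), p.1 RatFunc.X ≤ 1 →
      p.ord (algebraMap (Polynomial k) (RatFunc k) q) = Groth.Agent.FunField.halfPoles f p := fun p hp => by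
    rw [hq p hp, Groth.Agent.FunField.halfPoles_apply]
    simp only [hiff]
  refine ⟨fun i hi P => ?_, fun z hz => ?_⟩
  · exact (H.regular_iff hodd' F φ hφ _).2
      ⟨_, (H.mem_L_W_iff hK hodd' hq0 hq' _).2 ⟨Polynomial.X ^ i, by
        rw [Polynomial.degree_X_pow]; exact_mod_cast hi,
        by rw [map_pow, RatFunc.algebraMap_X]⟩, rfl⟩ P
  · obtain ⟨a, ha, rfl⟩ := (H.regular_iff hodd' F φ hφ z).1 hz
    obtain ⟨A, hA, rfl⟩ := (H.mem_L_W_iff hK hodd' hq0 hq' a).1 ha
    exact ⟨A, hA, rfl⟩

end Groth.Agent.S12587
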