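import Groth.Statements.S12589
import Groth.Agent.Lib.FunField.ConstExt26
-- import your own Groth.Agent.* helpers here

set_option autoImplicit false
universe u v
open FunFld

attribute [local instance high] Algebra.toModule

namespace Groth.Agent.S12589

/-- If a place `P` of a geometric function field of one variable `K/k` is nonsingular with respect to
the finite extension `k'/k` (the integral closure of `O_P` in `K' = k' ⊗_k K` is `O_P[k']`) and `Q`
is a place of `K'` above `P`, then `F_Q = k' F_P`. -/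
theorem result (k k' : Type u) (K K' : Type v) [Field k] [Field k'] [Field K] [Field K']
    [Algebra k k'] [FiniteDimensional k k'] [Algebra k K] [Algebra K K'] [Algebra k' K'] [Algebra k K']
    [IsScalarTower k k' K'] [IsScalarTower k K K']
    (h : Function.Bijective (Algebra.TensorProduct.productMap
      (IsScalarTower.toAlgHom k k' K') (IsScalarTower.toAlgHom k K K')))
    (hK : FunFld.IsFunctionField k K) (hg : FunFld.IsGeometric k K)
    (P : FunFld.Place k K) [Algebra P.O K'] [IsScalarTower P.O K K']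
    (hns : (integralClosure P.O K').toSubring = (Algebra.adjoin P.O (Set.range (algebraMap k' K'))).toSubring)
    (Q : FunFld.Place k K') [P.1.HasExtension Q.1] (hk' : ∀ c : k', Q.1 (algebraMap k' K' c) ≤ 1) :
    Algebra.adjoin (IsLocalRing.ResidueField P.O)
      (Set.range fun c : k' => IsLocalRing.residue Q.O ⟨algebraMap k' K' c, hk' c⟩) = ⊤ := by
  haveI := Groth.Agent.FunField.finite_of_bijective h
  have hQP : FunFld.IsOver Q P := by
    obtain ⟨e, he⟩ := Groth.Agent.FunField.isOver_under hK.1 Q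
    have : Groth.Agent.FunField.under hK.1 Q = P := Groth.Agent.FunField.place_ext fun x => by
      rw [← Valuation.HasExtension.val_map_le_one_iff P.1 Q.1 x, he x,
        pow_le_one_iff_of_nonneg zero_le (Groth.Agent.FunField.isOverWith_pos he).ne']
    exact this ▸ ⟨e, he⟩
  rw [eq_top_iff]
  rintro r -
  obtain ⟨⟨z, hz⟩, rfl⟩ := IsLocalRing.residue_surjective r
  obtain ⟨w, hw, hwz, -⟩ := Groth.Agent.FunField.exists_integral_near P hK.1 z hz 1
  have hwA : w ∈ Algebra.adjoin P.O (Set.range (algebraMap k' K')) := by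
    rw [← Subalgebra.mem_toSubring, ← hns]; exact hw
  have hwQ : Q.1 w ≤ 1 := (Groth.Agent.FunField.isIntegral_iff hK.1 P w).1 hw Q hQP
  have e : IsLocalRing.residue Q.O ⟨z, hz⟩ = IsLocalRing.residue Q.O ⟨w, hwQ⟩ := by
    rw [eq_comm, ← sub_eq_zero, ← map_sub, Groth.Agent.FunField.residue_eq_zero_iff]
    exact hwz.trans_lt (by rw [← WithZero.exp_zero, WithZero.exp_lt_exp]; norm_num)
  rw [e]
  suffices H : ∀ u ∈ Algebra.adjoin P.O (Set.range (algebraMap k' K')), ∃ hu : Q.1 u ≤ 1,
      IsLocalRing.residue Q.O ⟨u, hu⟩ ∈ Algebra.adjoin (IsLocalRing.ResidueField P.O)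
        (Set.range fun c : k' => IsLocalRing.residue Q.O ⟨algebraMap k' K' c, hk' c⟩) by
    obtain ⟨_, h2⟩ := H w hwA
    exact h2
  intro u hu
  induction hu using Algebra.adjoin_induction with
  | mem x hx =>
    obtain ⟨c, rfl⟩ := hx
    exact ⟨hk' c, Algebra.subset_adjoin ⟨c, rfl⟩⟩
  | algebraMap a =>
    have ha : Q.1 (algebraMap P.O K' a) ≤ 1 := by
      rw [Groth.Agent.FunField.algebraMap_O_apply P]
      exact (Valuation.HasExtension.val_map_le_one_iff P.1 Q.1 _).2 a.2
    refine ⟨ha, ?_⟩
    have e : IsLocalRing.residue Q.O ⟨algebraMap P.O K' a, ha⟩ =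
        algebraMap (IsLocalRing.ResidueField P.O) (IsLocalRing.ResidueField Q.O)
          (IsLocalRing.residue P.O a) := by
      have h1 : (⟨algebraMap P.O K' a, ha⟩ : Q.O) = algebraMap P.1.valuationSubring Q.1.valuationSubring a :=
        Subtype.ext (Groth.Agent.FunField.algebraMap_O_apply P a)
      rw [h1]
      rfl
    rw [e]
    exact Subalgebra.algebraMap_mem _ _
  | add x y _ _ hx hy =>
    obtain ⟨hx1, hx2⟩ := hx
    obtain ⟨hy1, hy2⟩ := hy
    exact ⟨(Q.1.map_add _ _).trans (max_le hx1 hy1), add_mem hx2 hy2⟩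
  | mul x y _ _ hx hy =>
    obtain ⟨hx1, hx2⟩ := hx
    obtain ⟨hy1, hy2⟩ := hy
    exact ⟨by rw [map_mul]; exact mul_le_one' hx1 hy1, mul_mem hx2 hy2⟩

end Groth.Agent.S12589
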