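import Groth.Statements.S1259
import Groth.Agent.Lib.Dev4.AlongFiber

set_option autoImplicit false
universe u
open FlatMor

set_option backward.isDefEq.respectTransparency.types false

namespace Groth.Agent.S1259


attribute [local instance] Algebra.TensorProduct.rightAlgebra
open TensorProduct
theorem free_restrict_cancel {L S SA C : Type u} [CommRing L] [CommRing S] [CommRing SA] [CommRing C] [Algebra S SA]
    [Algebra S C] [Algebra SA C] [IsScalarTower S SA C] [Algebra L C] {N NA : Type u} [AddCommGroup N] [Module S N]
    [AddCommGroup NA] [Module SA NA] [Module S NA] [IsScalarTower S SA NA] (f : N →ₗ[S] NA) (hf : IsBaseChange SA f)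
    (h : Module.Free L (RestrictScalars L C (C ⊗[S] N))) : Module.Free L (RestrictScalars L C (C ⊗[SA] NA)) := by
  haveI := h
  haveI : Module.Free L (C ⊗[S] N) := Dev4.free_of_restrictScalars (C := C)
  let e₀ : C ⊗[S] N ≃ₗ[C] C ⊗[SA] NA :=
    ((LinearEquiv.baseChange SA C NA (SA ⊗[S] N) hf.equiv.symm).trans
      (AlgebraTensorModule.cancelBaseChange S SA C C N)).symm
  haveI : Module.Free L (C ⊗[SA] NA) := Module.Free.of_equiv (e₀.restrictScalars L)
  exact Dev4.free_restrictScalars

open TensorProduct IsLocalRing in
/-- Ring form, X = Spec S and S = Spec R affine: let S be a finite type R-algebra, N a finite S-module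
and p a prime of R such that N_q is flat over R for every prime q of S over p. Then there is an
étale R-algebra R' with a prime p' over p having the same residue field such that, writing A for the
local ring of R' at p' and S_A, N_A for the base changes: there is an étale S_A-algebra C such that
every prime of S over p is the contraction of a prime of C over the maximal ideal of A, and C ⊗ N_A
is a free A-module. -/
theorem result {R S : Type u} [CommRing R] [CommRing S] [Algebra R S] [Algebra.FiniteType R S]
    (N : Type u) [AddCommGroup N] [Module S N] [Module R N] [IsScalarTower R S N] [Module.Finite S N]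
    (p : Ideal R) [p.IsPrime] (hflat : ∀ (q : Ideal S) [q.IsPrime], q.LiesOver p → FlatCA.FlatAt R q N) :
    ∃ (R' : Type u) (_ : CommRing R') (_ : Algebra R R') (p' : Ideal R') (_ : p'.IsPrime), FlatCA.IsEtaleNhd R R' p p' ∧
      ∀ (SA NA : Type u) [CommRing SA] [Algebra R SA] [Algebra S SA] [Algebra (Localization.AtPrime p') SA]
        [IsScalarTower R S SA] [IsScalarTower R (Localization.AtPrime p') SA]
        [Algebra.IsPushout R S (Localization.AtPrime p') SA]
        [AddCommGroup NA] [Module SA NA] [Module S NA] [IsScalarTower S SA NA]
        (f : N →ₗ[S] NA), IsBaseChange SA f →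
        ∃ (C : Type u) (_ : CommRing C) (_ : Algebra SA C) (_ : Algebra (Localization.AtPrime p') C)
          (_ : IsScalarTower (Localization.AtPrime p') SA C) (_ : Algebra S C) (_ : IsScalarTower S SA C),
          Algebra.Etale SA C ∧
          (∀ (q : Ideal S) [q.IsPrime], q.LiesOver p → ∃ x' : Ideal C, x'.IsPrime ∧ x'.comap (algebraMap S C) = q ∧
            x'.LiesOver (maximalIdeal (Localization.AtPrime p'))) ∧
          Module.Free (Localization.AtPrime p') (RestrictScalars (Localization.AtPrime p') C (C ⊗[SA] NA)) := by
  obtain ⟨R', _, _, p', _, hR, h⟩ := Dev4.exists_free_along N p hflat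
  refine ⟨R', inferInstance, inferInstance, p', inferInstance, hR, ?_⟩
  intro SA NA _ _ _ _ _ _ _ _ _ _ _ f hf
  obtain ⟨C, i1, i2, i3, i4, i5, i6, het, hcov, hfree, -⟩ := h SA
  exact ⟨C, i1, i2, i3, i4, i5, i6, het, hcov, free_restrict_cancel f hf hfree⟩

end Groth.Agent.S1259
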