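import Groth.Statements.S12592
import Groth.Agent.Lib.NonsingSplit28.Wrap

set_option autoImplicit false
universe u v
open FunFld

namespace Groth.Agent.S12592

/-- For a nonsingular place `P` of a geometric function field of one variable `K/k` and a finite
extension `k'/k` that is a splitting field for `P`, the scalar extension `k' ⊗_k K` has exactly
`[F_P^{sep} : k]` places above `P`, each with ramification index `[F_P : F_P^{sep}]`. (Part (2), on
the scalar extension to an algebraic closure, is not stated.) -/
theorem result (k k' : Type u) (K K' : Type v) [Field k] [Field k'] [Field K] [Field K']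
    [Algebra k k'] [FiniteDimensional k k'] [Algebra k K] [Algebra K K'] [Algebra k' K'] [Algebra k K']
    [IsScalarTower k k' K'] [IsScalarTower k K K']
    (h : Function.Bijective (Algebra.TensorProduct.productMap
      (IsScalarTower.toAlgHom k k' K') (IsScalarTower.toAlgHom k K K')))
    (hK : FunFld.IsFunctionField k K) (hg : FunFld.IsGeometric k K) (P : FunFld.Place k K)
    (hns : ∀ (k'' : Type u) [Field k''] [Algebra k k''] [FiniteDimensional k k'']
      (K'' : Type v) [Field K''] [Algebra K K''] [Algebra k'' K''] [Algebra k K'']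
      [IsScalarTower k k'' K''] [IsScalarTower k K K''],
      Function.Bijective (Algebra.TensorProduct.productMap
        (IsScalarTower.toAlgHom k k'' K'') (IsScalarTower.toAlgHom k K K'')) →
      integralClosure (P.O.toSubring.map (algebraMap K K'')) K'' =
        Algebra.adjoin (P.O.toSubring.map (algebraMap K K'')) (Set.range (algebraMap k'' K'')))
    (hsplit : ∀ Q : FunFld.Place k' K', (∃ e : ℕ, ∀ z : K, Q.1 (algebraMap K K' z) = P.1 z ^ e) → Q.deg = 1) :
    {Q : FunFld.Place k' K' | ∃ e : ℕ, ∀ z : K, Q.1 (algebraMap K K' z) = P.1 z ^ e}.Finite ∧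
    {Q : FunFld.Place k' K' | ∃ e : ℕ, ∀ z : K, Q.1 (algebraMap K K' z) = P.1 z ^ e}.ncard =
      Field.finSepDegree k (IsLocalRing.ResidueField P.O) ∧
    ∀ Q : FunFld.Place k' K', (∃ e : ℕ, ∀ z : K, Q.1 (algebraMap K K' z) = P.1 z ^ e) →
      ∀ z : K, Q.1 (algebraMap K K' z) = P.1 z ^ Module.finrank (separableClosure k (IsLocalRing.ResidueField P.O)) (IsLocalRing.ResidueField P.O) := by
  exact Groth.Agent.NonsingSplit28.wrap h hK P (hns k' K' h) hsplit

end Groth.Agent.S12592
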