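import Groth.Statements.S12595
import Groth.Agent.Lib.Wronskian26.Global
-- import your own Groth.Agent.* helpers here

set_option autoImplicit false
open FunFld

namespace Groth.Agent.S12595

/-- Over an algebraically closed constant field, let `φ` be a birational projective map of the function
field `K` (the ratios `φ i / φ 0` generate `K`), `τ` a `k`-endomorphism of `K` and `H` a total Hasse
derivative. Then the first `τ`-order of `φ` is positive — the column `φ` of `0`-th Hasse derivatives
lies in the `K`-span of the leading column `τ(φ)` — exactly when `τ` is the identity. -/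
theorem result
    (k K : Type*) [Field k] [IsAlgClosed k] [Field K] [Algebra k K]
    (hK : FunFld.IsFunctionField k K) {n : ℕ} (φ : Fin (n + 1) → K) (h0 : φ 0 ≠ 0)
    (hbir : IntermediateField.adjoin k (Set.range fun i => φ i / φ 0) = ⊤)
    (τ : K →ₐ[k] K) (s : K) (H : K →ₐ[k] PowerSeries K) (hH : LocRes.IsHasseFamily s H) :
    ¬ FunFld.IsJump K (FunFld.hcol τ H φ) 1 ↔ τ = AlgHom.id k K := by
  constructor
  · intro hj
    have h1 : FunFld.hcol τ H φ 1 ∈ Submodule.span K (FunFld.hcol τ H φ '' Set.Iio 1) := not_not.1 hj
    rw [show Set.Iio 1 = ({0} : Set ℕ) by ext m; simp, Set.image_singleton, Submodule.mem_span_singleton,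
      Wronskian26.hcol_one τ hH.2] at h1
    obtain ⟨a, ha⟩ := h1
    have hi : ∀ i, φ i = a * τ (φ i) := fun i => (congrFun ha i).symm
    have ha0 : a ≠ 0 := fun e => h0 (by rw [hi 0, e, zero_mul])
    have hfix : ∀ i, τ (φ i / φ 0) = φ i / φ 0 := fun i => by
      rw [map_div₀]
      conv_rhs => rw [hi i, hi 0, mul_div_mul_left _ _ ha0]
    let F : IntermediateField k K :=
      { carrier := {z | τ z = z}
        add_mem' := fun {a b} (ha : τ a = a) (hb : τ b = b) => show τ (a + b) = a + b by rw [map_add, ha, hb]
        mul_mem' := fun {a b} (ha : τ a = a) (hb : τ b = b) => show τ (a * b) = a * b by rw [map_mul, ha, hb]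
        algebraMap_mem' := fun c => τ.commutes c
        inv_mem' := fun a (ha : τ a = a) => show τ a⁻¹ = a⁻¹ by rw [map_inv₀, ha] }
    have htop : (⊤ : IntermediateField k K) ≤ F := by
      rw [← hbir, IntermediateField.adjoin_le_iff]
      rintro _ ⟨i, rfl⟩
      exact hfix i
    exact AlgHom.ext fun z => htop (IntermediateField.mem_top)
  · rintro rfl hj
    refine hj (Submodule.subset_span ⟨0, Nat.zero_lt_one, ?_⟩)
    rw [Wronskian26.hcol_one _ hH.2]
    rfl

end Groth.Agent.S12595
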