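import Groth.Statements.S12597
import Groth.Agent.Lib.Wronskian26.Global
-- import your own Groth.Agent.* helpers here

set_option autoImplicit false
open FunFld

namespace Groth.Agent.S12597

/-- Over an algebraically closed constant field, multiplying a projective map `φ = (φ₀, …, φₙ)` by a
nonzero function `y` does not change its `τ`-order sequence `J`, and multiplies the Wronskian `det
[τ(φ) | D^(j₁) φ | ⋯ | D^(jₙ) φ]` taken at that sequence by `τ(y) yⁿ`. -/
theorem result
    (k K : Type*) [Field k] [IsAlgClosed k] [Field K] [Algebra k K]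
    (hK : FunFld.IsFunctionField k K) {n : ℕ} (φ : Fin (n + 1) → K) (hφ : LinearIndependent k φ)
    (τ : K →ₐ[k] K) (s : K) (H : K →ₐ[k] PowerSeries K) (hH : LocRes.IsHasseFamily s H) (y : K) (hy : y ≠ 0) :
    (∀ J : Fin n → ℕ, FunFld.IsOrders K (FunFld.hcol τ H (y • φ)) J ↔ FunFld.IsOrders K (FunFld.hcol τ H φ) J) ∧
    ∀ J : Fin n → ℕ, FunFld.IsOrders K (FunFld.hcol τ H φ) J →
      (FunFld.wrMat τ H (y • φ) J).det = τ y * y ^ n * (FunFld.wrMat τ H φ J).det := by
  refine ⟨fun J => Wronskian26.isOrders_smul τ hH.2 φ hy J, fun J hJ => ?_⟩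
  rw [Wronskian26.wrMat_eq_colMat, Wronskian26.wrMat_eq_colMat,
    Wronskian26.det_colMat_triangular _ hJ (fun m => if m = 0 then τ y else y) (Wronskian26.hcol_smul_sub τ hH.2 φ y),
    Fin.prod_univ_succ]
  simp [Wronskian26.full]

end Groth.Agent.S12597
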