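import Groth.Statements.S12599
import Groth.Agent.Lib.Wronskian26.Global
-- import your own Groth.Agent.* helpers here

set_option autoImplicit false
open FunFld

namespace Groth.Agent.S12599

/-- Over an algebraically closed constant field, for a place `P` with local parameter `t`, and a
linearly independent tuple `φ = (φ₀, …, φₙ)` of functions integral at `P`, the matrix of values at
`P` of the Hasse derivatives `D_t^(j)(φᵢ)`, `j = 0, 1, …`, has rank `n + 1`: its rows are linearly
independent over the residue field. -/
theorem result
    (k K : Type*) [Field k] [IsAlgClosed k] [Field K] [Algebra k K]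
    (hK : FunFld.IsFunctionField k K) {n : ℕ} (φ : Fin (n + 1) → K) (hφ : LinearIndependent k φ)
    (P : FunFld.Place k K) (hint : ∀ i, P.1 (φ i) ≤ 1) (t : K) (ht : P.1 t = WithZero.exp (-1))
    (Ht : K →ₐ[k] PowerSeries K) (hHt : LocRes.IsHasseFamily t Ht) :
    LinearIndependent (IsLocalRing.ResidueField P.O)
      (fun i : Fin (n + 1) => fun j : ℕ => FunFld.evalP P (LocRes.hasseD Ht j (φ i))) := by
  have hli := Wronskian26.expTuple_linearIndependent hK.1 P ht φ hint hφ
  rw [Fintype.linearIndependent_iff]
  intro a ha
  choose b hb using fun i => (Wronskian26.residue_bijective hK.1 P).2 (a i)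
  have h0 : ∑ i, b i • Wronskian26.expTuple hK.1 P ht φ hint i = 0 := by
    ext j
    refine (Wronskian26.residue_bijective hK.1 P).1 ?_
    have := congrFun ha j
    simp only [Finset.sum_apply, Pi.smul_apply, Pi.zero_apply, smul_eq_mul, ← hb] at this
    rw [map_zero, map_zero, ← this, map_sum, map_sum]
    refine Finset.sum_congr rfl fun i _ => ?_
    rw [map_smul, smul_eq_mul, map_mul]
    exact congrArg _ (Wronskian26.evalP_hasseD hK.1 P ht hHt ⟨φ i, hint i⟩ j).symm
  intro i
  rw [← hb i, Fintype.linearIndependent_iff.1 hli b h0 i, map_zero]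

end Groth.Agent.S12599
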