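import Groth.Statements.S12601
import Groth.Agent.Lib.Wronskian26.Global
-- import your own Groth.Agent.* helpers here

set_option autoImplicit false
open FunFld

namespace Groth.Agent.S12601

/-- Over an algebraically closed constant field, if `j'₁ < ⋯ < j'ₙ` is a strictly increasing sequence
with `det [τ(φ) | D^(j'₁) φ | ⋯ | D^(j'ₙ) φ] ≠ 0`, then the `τ`-orders `j₁ < ⋯ < jₙ` of `φ` satisfy
`jₗ ≤ j'ₗ` for all `l`. -/
theorem result
    (k K : Type*) [Field k] [IsAlgClosed k] [Field K] [Algebra k K]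
    (hK : FunFld.IsFunctionField k K) {n : ℕ} (φ : Fin (n + 1) → K) (hφ : LinearIndependent k φ)
    (τ : K →ₐ[k] K) (s : K) (H : K →ₐ[k] PowerSeries K) (hH : LocRes.IsHasseFamily s H)
    (J : Fin n → ℕ) (hJ : FunFld.IsOrders K (FunFld.hcol τ H φ) J)
    (J' : Fin n → ℕ) (hJ' : StrictMono J') (hdet : (FunFld.wrMat τ H φ J').det ≠ 0) :
    ∀ l, J l ≤ J' l := by
  rw [Wronskian26.wrMat_eq_colMat] at hdet
  exact Wronskian26.isOrders_le _ hJ hJ' ((Wronskian26.linearIndependent_iff_det _ J').2 hdet)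

end Groth.Agent.S12601
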