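import Groth.Statements.S12602
import Groth.Agent.Lib.Wronskian26.Adapted
-- import your own Groth.Agent.* helpers here

set_option autoImplicit false
open FunFld

namespace Groth.Agent.S12602

/-- Over an algebraically closed constant field, for a birational projective map `φ = (φ₀, …, φₙ)`, `n ≥
1`, with orders `j₁ < ⋯ < jₙ`, and `τ ≠ 1`, the `τ`-orders of `φ` are `(0, j₁, …, j_{m-1}, j_{m+1},
…, jₙ)` for some `m`: the jump indices of `[τ(φ) | D^(0) φ | D^(1) φ | ⋯]` after the leading column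
are `0` and the `jₗ` with `l ≠ m`. -/
theorem result
    (k K : Type*) [Field k] [IsAlgClosed k] [Field K] [Algebra k K]
    (hK : FunFld.IsFunctionField k K) {n : ℕ} (hn : 0 < n) (φ : Fin (n + 1) → K) (hφ : LinearIndependent k φ)
    (h0 : φ 0 ≠ 0) (hbir : IntermediateField.adjoin k (Set.range fun i => φ i / φ 0) = ⊤)
    (τ : K →ₐ[k] K) (hτ : τ ≠ AlgHom.id k K) (s : K) (H : K →ₐ[k] PowerSeries K) (hH : LocRes.IsHasseFamily s H)
    (J : Fin n → ℕ) (hJ : FunFld.IsOrders K (FunFld.hcol (AlgHom.id k K) H φ) J) :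
    ∃ m : Fin n, ∀ j : ℕ,
      FunFld.IsJump K (FunFld.hcol τ H φ) (j + 1) ↔ (j = 0 ∨ ∃ l, l ≠ m ∧ J l = j) := by
  have hc1 : FunFld.IsJump K (FunFld.hcol τ H φ) 1 := fun hj => hτ ?_
  · exact Wronskian26.isJump_twist (c := FunFld.hcol (AlgHom.id k K) H φ) (c' := FunFld.hcol τ H φ) (fun j => rfl)
      (by rw [Wronskian26.hcol_one _ hH.2]; rfl) hc1 (Wronskian26.hcol_zero_ne τ H hφ)
      (Wronskian26.span_hcol hK.1 hφ _ hH) hJ
  · have h1 : FunFld.hcol τ H φ 1 ∈ Submodule.span K (FunFld.hcol τ H φ '' Set.Iio 1) := hj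
    rw [show Set.Iio 1 = ({0} : Set ℕ) by ext m; simp, Set.image_singleton, Submodule.mem_span_singleton,
      Wronskian26.hcol_one τ hH.2] at h1
    obtain ⟨a, ha⟩ := h1
    have hi : ∀ i, φ i = a * τ (φ i) := fun i => (congrFun ha i).symm
    have ha0 : a ≠ 0 := fun e => h0 (by rw [hi 0, e, zero_mul])
    have hfix : ∀ i, τ (φ i / φ 0) = φ i / φ 0 := fun i => by
      rw [map_div₀]
      conv_rhs => rw [hi i, hi 0, mul_div_mul_left _ _ ha0]
    let F : IntermediateField k K :=
      { carrier := {z | τ z = z}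
        add_mem' := fun {a b} (ha : τ a = a) (hb : τ b = b) => show τ (a + b) = a + b by rw [map_add, ha, hb]
        mul_mem' := fun {a b} (ha : τ a = a) (hb : τ b = b) => show τ (a * b) = a * b by rw [map_mul, ha, hb]
        algebraMap_mem' := fun c => τ.commutes c
        inv_mem' := fun a (ha : τ a = a) => show τ a⁻¹ = a⁻¹ by rw [map_inv₀, ha] }
    have htop : (⊤ : IntermediateField k K) ≤ F := by
      rw [← hbir, IntermediateField.adjoin_le_iff]
      rintro _ ⟨i, rfl⟩
      exact hfix i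
    exact AlgHom.ext fun z => htop (IntermediateField.mem_top)

end Groth.Agent.S12602
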