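import Groth.Statements.S12603
import Groth.Agent.Lib.Wronskian26.WDiv
-- import your own Groth.Agent.* helpers here

set_option autoImplicit false
open FunFld

namespace Groth.Agent.S12603

/-- Over an algebraically closed constant field, the Weierstrass divisor `W(φ, τ) = [w_s(φ, τ)] + [τ(φ)]
+ n[φ] + j(φ, τ)[ds]` of a linearly independent tuple `φ = (φ₀, …, φₙ)` with respect to a
`k`-endomorphism `τ` is nonnegative, and its degree is `(deg τ + n) deg φ + (2g - 2) j(φ, τ)`, where
`deg τ = [K : τ(K)]`, `deg φ` is the degree of the divisor of `φ`, `g` is the genus and `j(φ, τ)`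
the sum of the `τ`-orders. The divisor of `ds` is read through a family of Laurent expansions at the
places. -/
theorem result
    (k K : Type*) [Field k] [IsAlgClosed k] [Field K] [Algebra k K]
    (hK : FunFld.IsFunctionField k K) {n : ℕ} (φ : Fin (n + 1) → K) (hφ : LinearIndependent k φ)
    (τ : K →ₐ[k] K) (s : K) (H : K →ₐ[k] PowerSeries K) (hH : LocRes.IsHasseFamily s H)
    (J : Fin n → ℕ) (hJ : FunFld.IsOrders K (FunFld.hcol τ H φ) J)
    (Φ : FunFld.Place k K → (K →ₐ[k] LaurentSeries k))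
    (hΦ : ∀ P : FunFld.Place k K, LocRes.IsExpansionAt P.1 (Φ P)) :
    0 ≤ FunFld.wDiv τ H Φ s φ J ∧
    (FunFld.wDiv τ H Φ s φ J).deg =
      ((Module.finrank τ.fieldRange K : ℤ) + n) * (FunFld.mapDiv k φ).deg +
        (2 * (FunFld.genus k K : ℤ) - 2) * ∑ l, (J l : ℤ) := by
  exact ⟨Wronskian26.wDiv_nonneg hK hΦ hφ τ hH hJ, Wronskian26.deg_wDiv hK hΦ τ hH J⟩

end Groth.Agent.S12603
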