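import Groth.Statements.S12604
import Groth.Agent.Lib.Wronskian26.Points
-- import your own Groth.Agent.* helpers here

set_option autoImplicit false
open FunFld

namespace Groth.Agent.S12604

/-- Over an algebraically closed constant field, let `τ` be a `k`-endomorphism of the function field `K`
of genus `g`, of degree `deg τ = [K : τ(K)]`, and `φ = (φ₀, …, φₙ)` a projective map such that
`τ(φ)` is not a `K`-multiple of `φ`, with `τ`-orders `j₁, …, jₙ`. Then the number `N` of strong
fixed points of `τ` (places whose maximal ideal `τ` maps into its square) is finite and `n N ≤ (n +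
deg τ) deg φ + (2g - 2)(j₁ + ⋯ + jₙ)`, i.e. `N ≤ (1/n) deg W(φ, τ)`. -/
theorem result
    (k K : Type*) [Field k] [IsAlgClosed k] [Field K] [Algebra k K]
    (hK : FunFld.IsFunctionField k K) (τ : K →ₐ[k] K) {n : ℕ} (φ : Fin (n + 1) → K) (hφ : LinearIndependent k φ)
    (hτφ : ¬ ∃ y : K, ∀ i, τ (φ i) = y * φ i) (s : K) (H : K →ₐ[k] PowerSeries K) (hH : LocRes.IsHasseFamily s H)
    (J : Fin n → ℕ) (hJ : FunFld.IsOrders K (FunFld.hcol τ H φ) J) :
    {P : FunFld.Place k K | FunFld.IsStrongFixedPt τ P}.Finite ∧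
    (n : ℤ) * (Set.ncard {P : FunFld.Place k K | FunFld.IsStrongFixedPt τ P} : ℤ) ≤
      ((n : ℤ) + Module.finrank τ.fieldRange K) * (FunFld.mapDiv k φ).deg +
        (2 * (FunFld.genus k K : ℤ) - 2) * ∑ l, (J l : ℤ) := by
  classical
  have hex : ∀ P : FunFld.Place k K, ∃ f : K →ₐ[k] LaurentSeries k, LocRes.IsExpansionAt P.1 f := by
    intro P
    obtain ⟨t, -, ht⟩ := FunField.exists_uniformizer P
    exact ⟨_, Wronskian26.isExpansionAt_expand P hK.1 ht⟩
  choose Φ hΦ using hex
  have hn := Wronskian26.pos_of_not_mul hφ.ne_zero hτφ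
  have h := Wronskian26.ncard_mul_le_deg hK (Wronskian26.wDiv_nonneg hK hΦ hφ τ hH hJ) hn
    (S := {P | FunFld.IsStrongFixedPt τ P}) (fun P hP => Wronskian26.le_wDiv_of_strong hK hΦ hφ hn τ hH hJ P hP)
  rw [Wronskian26.deg_wDiv hK hΦ τ hH J, add_comm (Module.finrank _ _ : ℤ) (n : ℤ)] at h
  exact h

end Groth.Agent.S12604
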