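import Groth.Statements.S12610
import Groth.Agent.Lib.Wronskian26.Points
-- import your own Groth.Agent.* helpers here

set_option autoImplicit false
open FunFld

namespace Groth.Agent.S12610

/-- Over an algebraically closed constant field, for a birational projective map `φ`, a `k`-endomorphism
`τ ≠ 1` and a place `P` fixed by `τ`, the place `P` is a Weierstrass point of `φ` with respect to
`τ`: the Weierstrass divisor `W(φ, τ) = [w_s(φ, τ)] + [τ(φ)] + n[φ] + j(φ, τ)[ds]` has positive
coefficient at `P` (the divisor of `ds` read through a family of Laurent expansions). -/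
theorem result
    (k K : Type*) [Field k] [IsAlgClosed k] [Field K] [Algebra k K]
    (hK : FunFld.IsFunctionField k K) {n : ℕ} (φ : Fin (n + 1) → K) (hφ : LinearIndependent k φ)
    (h0 : φ 0 ≠ 0) (hbir : IntermediateField.adjoin k (Set.range fun i => φ i / φ 0) = ⊤)
    (τ : K →ₐ[k] K) (hτ : τ ≠ AlgHom.id k K) (P : FunFld.Place k K) (hP : FunFld.IsFixedPt τ P)
    (s : K) (H : K →ₐ[k] PowerSeries K) (hH : LocRes.IsHasseFamily s H)
    (J : Fin n → ℕ) (hJ : FunFld.IsOrders K (FunFld.hcol τ H φ) J)
    (Φ : FunFld.Place k K → (K →ₐ[k] LaurentSeries k))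
    (hΦ : ∀ P : FunFld.Place k K, LocRes.IsExpansionAt P.1 (Φ P)) :
    0 < FunFld.wDiv τ H Φ s φ J P := by
  exact Wronskian26.wDiv_pos_of_fixed hK hΦ hφ τ (Wronskian26.not_mul_of_birational hτ h0 hbir) hH hJ P hP

end Groth.Agent.S12610
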