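import Groth.Statements.S12620
import Groth.Agent.Lib.LocResH7.Basic

set_option autoImplicit false
universe u v w
open LocRes

namespace Groth.Agent.S12620

/-- Let `K` be a field with a valuation `w` into `ℤ ∪ {0}` and `φ : K → F((X))` a `k`-algebra expansion
at `w` in a local parameter (valuation-compatible, valuation ring onto the coefficient field `F`,
`w` normalised). Then for every nonzero `f` the residue of the logarithmic differential `f⁻¹ df`
read through `φ` — the `X⁻¹`-coefficient of `φ(f)⁻¹ · (φ f)′` — is the order of `f` at `w` (the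
integer `n` with `w f = exp (-n)`), viewed in `F`. (The published statement is for a complete field
with a perfect coefficient field and its intrinsic residue; read through an expansion neither
completeness nor perfectness plays a role.) -/
theorem result {k : Type u} {K : Type v} {F : Type w} [CommRing k] [Field K] [Field F]
    [Algebra k K] [Algebra k F]
    (w : Valuation K (WithZero (Multiplicative ℤ))) (φ : K →ₐ[k] LaurentSeries F)
    (hφ : LocRes.IsExpansionAt w φ) (f : K) (hf : f ≠ 0) :
    LocRes.resExp φ f⁻¹ f = ((-WithZero.log (w f) : ℤ) : F) := by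
  have hu : φ f ≠ 0 := (map_ne_zero φ).2 hf
  generalize hu' : φ f = u at hu
  have hwv : w f = Valued.v u := hu' ▸ (hφ.1 f).symm
  have hres : LocRes.resExp φ f⁻¹ f = LocRes.res F (u⁻¹ * LocRes.D F u) := by
    rw [LocRes.resExp, map_inv₀, hu']
  have hcc : PowerSeries.constantCoeff (LaurentSeries.powerSeriesPart u) ≠ 0 := by
    rw [← PowerSeries.coeff_zero_eq_constantCoeff_apply, LaurentSeries.powerSeriesPart_coeff,
      Nat.cast_zero, add_zero]
    exact HahnSeries.coeff_order_eq_zero.not.2 hu
  have hPI := PowerSeries.mul_inv_cancel _ hcc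
  have hP1 : Valued.v ((LaurentSeries.powerSeriesPart u : PowerSeries F) : LaurentSeries F) = 1 := by
    refine le_antisymm ((LaurentSeries.val_le_one_iff_eq_coe F _).2 ⟨_, rfl⟩) ?_
    have h2 : Valued.v ((((LaurentSeries.powerSeriesPart u)⁻¹ : PowerSeries F)) : LaurentSeries F) ≤ 1 :=
      (LaurentSeries.val_le_one_iff_eq_coe F _).2 ⟨_, rfl⟩
    have h3 := congrArg (fun P : PowerSeries F => Valued.v (P : LaurentSeries F)) hPI
    simp only [PowerSeries.coe_mul, PowerSeries.coe_one, map_mul, map_one] at h3
    calc (1 : WithZero (Multiplicative ℤ)) = _ := h3.symm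
      _ ≤ _ := mul_le_of_le_one_right' h2
  have hv : Valued.v u = WithZero.exp (-u.order) := by
    conv_lhs => rw [← u.single_order_mul_powerSeriesPart]
    rw [map_mul, LaurentSeries.valuation_single_zpow, hP1, mul_one]
  rw [hres, hwv, hv, WithZero.log_exp, neg_neg]
  conv_lhs => rw [← u.single_order_mul_powerSeriesPart]
  set P := LaurentSeries.powerSeriesPart u
  have hne : ((P : PowerSeries F) : LaurentSeries F) ≠ 0 := fun h => by simp [h] at hP1
  have hne' : HahnSeries.single u.order (1 : F) ≠ 0 := by simp
  have hPI' : ((P⁻¹ : PowerSeries F) : LaurentSeries F) = ((P : PowerSeries F) : LaurentSeries F)⁻¹ := by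
    refine eq_inv_of_mul_eq_one_right ?_
    rw [← PowerSeries.coe_mul, hPI, PowerSeries.coe_one]
  rw [LocRes.D_apply, LocRes.derivative_single_mul, LocRes.derivative_coe,
    show (HahnSeries.single u.order (1 : F) * (P : LaurentSeries F))⁻¹ *
        (HahnSeries.single u.order 1 * ((PowerSeries.derivative F P : PowerSeries F) : LaurentSeries F) +
          HahnSeries.single (u.order - 1) (u.order • (1 : F)) * (P : LaurentSeries F)) =
      ((P⁻¹ : PowerSeries F) : LaurentSeries F) * ((PowerSeries.derivative F P : PowerSeries F) : LaurentSeries F) +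
        (HahnSeries.single u.order (1 : F))⁻¹ * HahnSeries.single (u.order - 1) (u.order • (1 : F)) by
      rw [hPI']
      field_simp,
    map_add, ← PowerSeries.coe_mul, HahnSeries.inv_single, HahnSeries.single_mul_single]
  simp [show -u.order + (u.order - 1) = -1 by ring]
  rw [← PowerSeries.coe_mul, PowerSeries.coeff_coe, if_pos (by decide)]

end Groth.Agent.S12620
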