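import Groth.Statements.S12621
import Groth.Agent.Lib.LocResH7.Basic

set_option autoImplicit false
universe u v w
open LocRes

namespace Groth.Agent.S12621

/-- For a `k`-algebra homomorphism `φ : K → F((X))` from a field into formal Laurent series over a
field, an element `f` of `K` and a nonzero integer `n`, the residue of `f^(n-1) df` read through `φ`
— the `X⁻¹`-coefficient of `φ(f)^(n-1) · (φ f)′` — vanishes, in every characteristic (also when the
characteristic divides `n`). (The published statement is for the intrinsic residue of a complete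
field with a perfect coefficient field; read through an expansion it is this identity of Laurent
series, and no property of `φ` is needed.) -/
theorem result {k : Type u} {K : Type v} {F : Type w} [CommRing k] [Field K] [Field F]
    [Algebra k K] [Algebra k F]
    (φ : K →ₐ[k] LaurentSeries F) (f : K) (n : ℤ) (hn : n ≠ 0) :
    LocRes.resExp φ (f ^ (n - 1)) f = 0 := by
  obtain j | j := n
  · obtain ⟨i, rfl⟩ : ∃ i, j = i + 1 := ⟨j - 1, by simp at hn; omega⟩
    simp only [Int.ofNat_eq_natCast, Nat.cast_add, Nat.cast_one, add_sub_cancel_right,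
      zpow_natCast, LocRes.resExp, map_pow]
    exact LocResH7.res_pow_mul_D _ i
  · simp only [LocRes.resExp, map_zpow₀]
    by_cases hu : φ f = 0
    · rw [hu, map_zero, mul_zero, map_zero]
    have hv : φ f = ((φ f)⁻¹)⁻¹ := (inv_inv _).symm
    rw [hv, Derivation.leibniz_inv, smul_eq_mul]
    generalize hw : (φ f)⁻¹ = v
    have hv0 : v ≠ 0 := hw ▸ inv_ne_zero hu
    rw [show Int.negSucc j - 1 = -((j + 2 : ℕ) : ℤ) by omega, zpow_neg, zpow_natCast, inv_pow, inv_inv,
      show v ^ (j + 2) * (-v⁻¹ ^ 2 * LocRes.D F v) = -(v ^ j * LocRes.D F v) by field_simp; ring,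
      map_neg, LocResH7.res_pow_mul_D, neg_zero]

end Groth.Agent.S12621
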