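import Groth.Statements.S12624
import Groth.Agent.Lib.CI2.SigmaFil
import Groth.Prelude.Def_W4bk4bump814p2PDiff

set_option autoImplicit false
universe u v
open CAlg

namespace Groth.Agent.S12624
open Groth.Agent.CI2

/-- For a perfect field `K` of characteristic `p > 0` and a commutative `K`-algebra `A`, put `δ_i(x) =
x^(p^i - 1) dx` in `Ω_{A/K}` and let the subsets `Σ^i ⊆ Ω_{A/K}` be given by `Σ^0 = {0}` and
`Σ^(i+1) = {δ_i(x) + σ | x ∈ A, σ ∈ Σ^i}`; then each `Σ^i` is the underlying set of a `K`-submodule
of `Ω_{A/K}` (closed under addition and under multiplication by elements of `K`; the latter uses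
that `K` is perfect). -/
theorem result (K : Type u) (A : Type v) [Field K] [PerfectField K] (p : ℕ) [Fact p.Prime] [CharP K p]
    [CommRing A] [Algebra K A] (i : ℕ) :
    ∃ S : Submodule K (Ω[A⁄K]), (S : Set (Ω[A⁄K])) = W4bk4bump814p2.sigma K A p i := by
  haveI : PerfectRing K p := PerfectField.toPerfectRing p
  refine ⟨{ carrier := (SigmaFil.G K A p i : Set (Ω[A⁄K]))
            zero_mem' := zero_mem _
            add_mem' := fun a b => add_mem a b
            smul_mem' := fun c ω h => SigmaFil.smul_pow_mem K A p i c h fun j _ => ?_ },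
    (SigmaFil.sigma_eq K A p i).symm⟩
  obtain ⟨d, hd⟩ := (bijective_iterateFrobenius K p (n := j)).2 c
  exact ⟨d, by rwa [iterateFrobenius_def] at hd⟩

end Groth.Agent.S12624
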