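import Groth.Statements.S12625
import Groth.Agent.Lib.CI2.SigmaFil
import Groth.Prelude.Def_W4bk4bump814p2PDiff

set_option autoImplicit false
universe u v
open CAlg

namespace Groth.Agent.S12625
open Groth.Agent.CI2

/-- For a perfect field `K` of characteristic `p > 0` and a commutative `K`-algebra `A`, put `δ_i(x) =
x^(p^i - 1) dx` in `Ω_{A/K}` and let the subsets `Σ^i ⊆ Ω_{A/K}` be given by `Σ^0 = {0}` and
`Σ^(i+1) = {δ_i(x) + σ | x ∈ A, σ ∈ Σ^i}`; then `Σ^i` equals the additive subgroup of `Ω_{A/K}`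
generated by all `δ_j(x)` with `j < i` and `x ∈ A`. -/
theorem result (K : Type u) (A : Type v) [Field K] [PerfectField K] (p : ℕ) [Fact p.Prime] [CharP K p]
    [CommRing A] [Algebra K A] (i : ℕ) :
    W4bk4bump814p2.sigma K A p i =
      (AddSubgroup.closure (⋃ j ∈ Finset.range i, Set.range (W4bk4bump814p2.delta K A p j)) :
        Set (Ω[A⁄K])) := by
  exact SigmaFil.sigma_eq K A p i

end Groth.Agent.S12625
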