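import Groth.Statements.S17255
import Groth.Agent.Lib.AbRigid.Isogeny
import Groth.Agent.Lib.AbRigid.SmoothGI
import Groth.Agent.Lib.VarDim.Fibre
import Mathlib.AlgebraicGeometry.Morphisms.UniversallyOpen

set_option autoImplicit false
universe u
open CategoryTheory CategoryTheory.Limits MonoidalCategory CartesianMonoidalCategory MonObj GrpObj AlgebraicGeometry
open AbVar

namespace Groth.Agent.S17255

open Groth.Agent.AbRigid

theorem _root_.Groth.Agent.VarDim.sdim_finite_le {k : Type u} [Field k] {X Z : Scheme.{u}}
    (q : X ⟶ Spec (CommRingCat.of k)) (g : Z ⟶ X) [LocallyOfFiniteType q] [IsFinite g] (z : Z) :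
    Groth.Agent.VarDim.sdim (g ≫ q) z ≤ Groth.Agent.VarDim.sdim q (g z) := by
  haveI : LocallyQuasiFinite g := inferInstance
  have h1 : topologicalKrullDim (g ⁻¹' {g z} : Set Z) ≤ ((0 : ℕ) : WithBot ℕ∞) := by
    haveI : Finite ↥(g ⁻¹' {g z}) := (g.finite_preimage_singleton (g z)).to_subtype
    haveI : DiscreteTopology ↥(g ⁻¹' {g z}) :=
      (g.isDiscrete_preimage_singleton (g z)).to_subtype
    simpa using topologicalKrullDim_zero_of_discreteTopology ↥(g ⁻¹' {g z})
  have := (Groth.Agent.VarDim.dim_preimage_singleton_le_iff q g (g z) 0).1 h1 z rfl
  simpa using this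


/-- Let k be a field, A and B abelian varieties over k (smooth proper k-group schemes with geometrically
connected fibres) with dim A = dim B (Krull dimensions of the underlying spaces), and f : A → B a
homomorphism. Then flatness of f is equivalent to finiteness of f. -/
theorem result (k : Type u) [Field k]
    (A B : Over (Spec (CommRingCat.of k)))
    [GrpObj A] [Smooth A.hom] [IsProper A.hom] [GeometricallyConnected A.hom]
    [GrpObj B] [Smooth B.hom] [IsProper B.hom] [GeometricallyConnected B.hom]
    (f : A ⟶ B) [IsMonHom f] (hdim : topologicalKrullDim A.left = topologicalKrullDim B.left) :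
    Flat f.left ↔ IsFinite f.left := by
  haveI := geometricallyIntegral_of_smooth A
  haveI := geometricallyIntegral_of_smooth B
  haveI : IsIntegral A.left := GeometricallyIntegral.isIntegral_of_subsingleton A.hom
  haveI : IsIntegral B.left := GeometricallyIntegral.isIntegral_of_subsingleton B.hom
  haveI : IsProper (f.left ≫ B.hom) := by rw [Over.w]; infer_instance
  haveI : IsProper f.left := .of_comp _ B.hom
  refine ⟨fun hfl => ?_, fun hfin => ?_⟩
  · haveI : LocallyOfFinitePresentation f.left := by
      haveI : IsLocallyNoetherian B.left := LocallyOfFiniteType.isLocallyNoetherian B.hom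
      infer_instance
    haveI : Surjective f.left := by
      have h : Set.range f.left = Set.univ := IsClopen.eq_univ
        ⟨f.left.isClosedMap.isClosed_range, f.left.isOpenMap.isOpen_range⟩ (Set.range_nonempty _)
      exact ⟨Set.range_eq_univ.1 h⟩
    exact isFinite_of_surjective A B f hdim
  · haveI : Surjective f.left := by
      refine ⟨fun y => ?_⟩
      have hcl := f.left.isClosedMap.isClosed_range
      have hg : f.left (genericPoint A.left) = genericPoint B.left := by
        by_contra hne
        have h1 := VarDim.sdim_lt_of_specializes B.hom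
          ((genericPoint_spec B.left).specializes (Set.mem_univ (f.left (genericPoint A.left)))) (Ne.symm hne)
        have h2 := (VarDim.dim_eq_sdim_genericPoint A.hom).symm.trans (hdim.trans (VarDim.dim_eq_sdim_genericPoint B.hom))
        have h3 := VarDim.sdim_finite_le B.hom f.left (genericPoint A.left)
        rw [Over.w] at h3
        have h2' : VarDim.sdim A.hom (genericPoint A.left) = VarDim.sdim B.hom (genericPoint B.left) := by exact_mod_cast h2
        omega
      exact ((genericPoint_spec B.left).specializes (Set.mem_univ y)).mem_closed hcl ⟨_, hg⟩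
    exact flat_of_surjective A B f

end Groth.Agent.S17255
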