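import Groth.Statements.S12627
import Groth.Agent.S17255
import Groth.Agent.Lib.LocSymB.Place
import Groth.Agent.Lib.IsoNat5.UnrTest
import Groth.Agent.Lib.EtBase.Unramified
import Groth.Agent.Lib.AbRigid.SmoothGI
import Groth.Agent.Lib.AbRigid.Connected
import Mathlib.AlgebraicGeometry.Group.Abelian
import Mathlib.AlgebraicGeometry.Morphisms.Etale
import Mathlib.RingTheory.DualNumber

set_option autoImplicit false
universe u
open CategoryTheory CategoryTheory.Limits MonoidalCategory CartesianMonoidalCategory MonObj GrpObj AlgebraicGeometry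
open AbVar

namespace Groth.Agent.S12627

section Aux
open IsLocalRing TrivSqZeroExt Groth.Agent.IsoNat5

variable {k : Type u} [Field k]

/-- the spectrum of the dual numbers over `k` -/
noncomputable abbrev D₀ (k : Type u) [Field k] : Over (Spec (CommRingCat.of k)) :=
  Over.mk (Spec.map (CommRingCat.ofHom (cst (A := k))))

lemma isLocalHom_mapD {K : Type u} [Field K] {A : Type u} [Field A] (f : A →+* K) (c : K) :
    IsLocalHom (mapD f c) := by
  refine ⟨fun x hx => ?_⟩
  rw [TrivSqZeroExt.isUnit_iff_isUnit_fst] at hx ⊢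
  rw [mapD_fst] at hx
  rw [isUnit_iff_ne_zero] at hx ⊢
  exact fun h => hx (by rw [h, map_zero])

lemma rep {X : Scheme.{u}} {R : CommRingCat.{u}} [IsLocalRing R] (v : Spec R ⟶ X) (x : X)
    (h : v (closedPoint R) = x) :
    ∃ φ : X.presheaf.stalk x ⟶ R, IsLocalHom φ.hom ∧ v = Spec.map φ ≫ X.fromSpecStalk x := by
  subst h
  exact ⟨Scheme.stalkClosedPointTo v, inferInstance, (Scheme.Spec_stalkClosedPointTo_fromSpecStalk v).symm⟩

lemma inj_of_spec {A B : CommRingCat.{u}} {X : Scheme.{u}} [IsLocalRing A] [IsLocalRing B]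
    (σ : A ⟶ B) [IsLocalHom σ.hom] (hσ : Function.Injective σ.hom) (a b : Spec A ⟶ X)
    (h : Spec.map σ ≫ a = Spec.map σ ≫ b) : a = b := by
  have hp : a (closedPoint A) = b (closedPoint A) := by
    have := congrArg (fun q : Spec B ⟶ X => q (closedPoint B)) h
    simpa [Spec_closedPoint] using this
  obtain ⟨φ, -, hφ⟩ := rep a (a (closedPoint A)) rfl
  obtain ⟨ψ, -, hψ⟩ := rep b (a (closedPoint A)) hp.symm
  rw [hφ, hψ, ← Category.assoc, ← Category.assoc, cancel_mono, ← Spec.map_comp, ← Spec.map_comp] at h
  have h' := Spec.map_injective h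
  have he : φ = ψ := by
    ext x
    exact hσ (congrArg (fun q => q.hom x) h')
  rw [hφ, hψ, he]

/-- A basic tangent vector at the origin of a one-dimensional smooth group: all others are multiples of it. -/
lemma exists_tangent (E : Over (Spec (CommRingCat.of k))) [GrpObj E] [IsProper E.hom] [Smooth E.hom]
    [IsIntegral E.left] (hE : topologicalKrullDim E.left = 1) :
    ∃ v₀ : D₀ k ⟶ E, v₀ ≠ 1 ∧
      Spec.map (CommRingCat.ofHom (red (A := k))) ≫ v₀.left = η[E].left ∧
      ∀ (K : Type u) [Field K] (j : k →+* K) (w : Spec (CommRingCat.of (DualNumber K)) ⟶ E.left),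
        w ≫ E.hom = Spec.map (CommRingCat.ofHom (cst.comp j)) →
        Spec.map (CommRingCat.ofHom (mapD (RingHom.id K) 0)) ≫ w =
          Spec.map (CommRingCat.ofHom (cst.comp j)) ≫ η[E].left →
        ∃ c : K, w = Spec.map (CommRingCat.ofHom (mapD j c)) ≫ v₀.left := by
  let P : LocSym.Pt E.hom := ⟨η[E].left, Over.w η[E]⟩
  haveI : IsDiscreteValuationRing (E.left.presheaf.stalk P.pt) :=
    LocSymB.isDiscreteValuationRing_stalk hE P
  obtain ⟨t, ht⟩ := IsDiscreteValuationRing.exists_irreducible (E.left.presheaf.stalk P.pt)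
  obtain ⟨ev, hev, hevη⟩ := rep (R := CommRingCat.of k) η[E].left P.pt rfl
  obtain ⟨c₀, hc₀⟩ := Spec.map_surjective (E.left.fromSpecStalk P.pt ≫ E.hom)
  have hevc : ∀ a : k, ev.hom (c₀.hom a) = a := by
    have h : Spec.map (c₀ ≫ ev) = 𝟙 _ := by
      rw [Spec.map_comp, hc₀, ← Category.assoc, ← hevη]
      exact Over.w η[E]
    rw [← Spec.map_id] at h
    exact fun a => congrArg (fun q => q.hom a) (Spec.map_injective h)
  have hmem : ∀ x, ∃ y, x = c₀.hom (ev.hom x) + t * y := by
    intro x
    have h : x - c₀.hom (ev.hom x) ∈ maximalIdeal (E.left.presheaf.stalk P.pt) := by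
      rw [mem_maximalIdeal, mem_nonunits_iff]
      intro hu
      have := hu.map ev.hom
      rw [map_sub, hevc, sub_self] at this
      exact not_isUnit_zero this
    rw [ht.maximalIdeal_eq, Ideal.mem_span_singleton] at h
    obtain ⟨y, hy⟩ := h
    exact ⟨y, by rw [← hy]; ring⟩
  choose Y hY using hmem
  have hd : ∀ x y, x = c₀.hom (ev.hom x) + t * y → ev.hom (Y x) = ev.hom y := fun x y h => by
    have h' : t * Y x = t * y := add_left_cancel ((hY x).symm.trans h)
    rw [mul_left_cancel₀ ht.ne_zero h']
  have hevt : ev.hom t = 0 := by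
    by_contra h
    exact ht.not_isUnit (hev.map_nonunit t (isUnit_iff_ne_zero.2 h))
  let φ₀ : E.left.presheaf.stalk P.pt →+* DualNumber k :=
    { toFun := fun x => inl (ev.hom x) + inr (ev.hom (Y x))
      map_one' := by
        have : ev.hom (Y 1) = 0 := by
          rw [hd 1 0 (by rw [map_one, map_one, mul_zero, add_zero]), map_zero]
        ext <;> simp [this]
      map_zero' := by
        have : ev.hom (Y 0) = 0 := by
          rw [hd 0 0 (by rw [map_zero, map_zero, mul_zero, add_zero]), map_zero]
        ext <;> simp [this]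
      map_add' := fun x y => by
        have : ev.hom (Y (x + y)) = ev.hom (Y x) + ev.hom (Y y) := by
          rw [hd (x + y) (Y x + Y y) (by
            rw [map_add, map_add]; linear_combination hY x + hY y), map_add]
        ext <;> simp [this]
      map_mul' := fun x y => by
        have : ev.hom (Y (x * y)) = ev.hom x * ev.hom (Y y) + ev.hom y * ev.hom (Y x) := by
          rw [hd (x * y) (c₀.hom (ev.hom x) * Y y + c₀.hom (ev.hom y) * Y x + t * Y x * Y y) (by
            rw [map_mul, map_mul]
            linear_combination (y) * hY x + (c₀.hom (ev.hom x) + t * Y x) * hY y)]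
          simp [map_add, map_mul, hevc, hevt]
        ext
        · simp
        · simp [this]
          ring }
  have hφc : φ₀.comp c₀.hom = cst := by
    refine RingHom.ext fun a => ?_
    have : ev.hom (Y (c₀.hom a)) = 0 := by
      rw [hd (c₀.hom a) 0 (by rw [hevc, mul_zero, add_zero]), map_zero]
    ext <;> simp [φ₀, this, hevc]
  let v₀ : D₀ k ⟶ E := Over.homMk (Spec.map (CommRingCat.ofHom φ₀) ≫ E.left.fromSpecStalk P.pt) (by
    show (_ ≫ _) ≫ E.hom = Spec.map (CommRingCat.ofHom cst)
    rw [Category.assoc, ← hc₀, ← Spec.map_comp]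
    congr 1
    exact CommRingCat.hom_ext hφc)
  refine ⟨v₀, ?_, ?_, ?_⟩
  · intro h
    have h' := congrArg (fun q => q.left) h
    change Spec.map _ ≫ _ = _ at h'
    rw [Hom.one_def, Over.comp_left] at h'
    have e1 : (toUnit (D₀ k)).left = Spec.map (CommRingCat.ofHom (cst (A := k))) :=
      (Category.comp_id _).symm.trans (Over.w (toUnit (D₀ k)))
    rw [e1, hevη, ← Category.assoc, cancel_mono, ← Spec.map_comp] at h'
    have h2 := congrArg (fun q => (q.hom t).snd) (Spec.map_injective h')
    have h3 : ev.hom (Y t) = 1 := by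
      rw [hd t 1 (by rw [hevt, map_zero, _root_.mul_one, zero_add]), map_one]
    simp [φ₀, h3] at h2
  · show Spec.map _ ≫ Spec.map _ ≫ _ = _
    rw [hevη, ← Category.assoc, ← Spec.map_comp]
    congr 2
    ext x
    simp [φ₀]
  · intro K _ j w hw hw0
    haveI := isLocalHom_mapD (RingHom.id K) 0
    haveI : IsLocalHom (CommRingCat.ofHom (mapD (RingHom.id K) 0)).hom := isLocalHom_mapD (RingHom.id K) 0
    have hpt : w (closedPoint (DualNumber K)) = P.pt := by
      have := congrArg (fun q => q (closedPoint (DualNumber K))) hw0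
      simp only [Scheme.Hom.comp_apply] at this
      have e1 : Spec.map (CommRingCat.ofHom (mapD (RingHom.id K) 0)) (closedPoint (DualNumber K)) =
          closedPoint (DualNumber K) :=
        Spec_closedPoint (f := CommRingCat.ofHom (mapD (RingHom.id K) 0))
      rw [e1] at this
      rw [this]
      exact congrArg η[E].left (Subsingleton.elim (α := PrimeSpectrum k) _ _)
    obtain ⟨φ, hφ, rfl⟩ := rep w P.pt hpt
    have hφc : ∀ a, φ.hom (c₀.hom a) = cst (j a) := by
      rw [Category.assoc, ← hc₀, ← Spec.map_comp] at hw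
      exact fun a => congrArg (fun q => q.hom a) (Spec.map_injective hw)
    have hred : ∀ x, (φ.hom x).fst = j (ev.hom x) := by
      rw [hevη, ← Category.assoc, ← Category.assoc, cancel_mono, ← Spec.map_comp, ← Spec.map_comp] at hw0
      intro x
      have := congrArg (fun q => (q.hom x).fst) (Spec.map_injective hw0)
      simpa using this
    refine ⟨(φ.hom t).snd, ?_⟩
    show _ = _ ≫ Spec.map _ ≫ _
    rw [← Category.assoc, ← Spec.map_comp]
    congr 2
    apply CommRingCat.hom_ext
    refine RingHom.ext fun x => ?_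
    have hx : φ.hom x = cst (j (ev.hom x)) + φ.hom t * φ.hom (Y x) := by
      rw [← hφc, ← map_mul, ← map_add, ← hY x]
    ext
    · simp [φ₀, hred]
    · have h2 := congrArg TrivSqZeroExt.snd hx
      simp [hred, hevt] at h2
      simp [φ₀, h2, mul_comm]

lemma formallyUnramified_of_tangent {E F : Over (Spec (CommRingCat.of k))} [GrpObj E] [GrpObj F]
    [IsProper E.hom] (f : E ⟶ F) [IsMonHom f] [LocallyOfFiniteType f.left] (v₀ : D₀ k ⟶ E)
    (hv₀ : ∀ (K : Type u) [Field K] (j : k →+* K) (w : Spec (CommRingCat.of (DualNumber K)) ⟶ E.left),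
        w ≫ E.hom = Spec.map (CommRingCat.ofHom (cst.comp j)) →
        Spec.map (CommRingCat.ofHom (mapD (RingHom.id K) 0)) ≫ w =
          Spec.map (CommRingCat.ofHom (cst.comp j)) ≫ η[E].left →
        ∃ c : K, w = Spec.map (CommRingCat.ofHom (mapD j c)) ≫ v₀.left)
    (hne : v₀ ≫ f ≠ 1) : FormallyUnramified f.left := by
  refine formallyUnramified_of_test f fun K _ str v ρ hρ hvf => ?_
  obtain ⟨j, rfl⟩ : ∃ j : k →+* K, str = Spec.map (CommRingCat.ofHom j) :=
    ⟨(Spec.preimage str).hom, (Spec.map_preimage str).symm⟩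
  have hstr : (dualK (Spec.map (CommRingCat.ofHom j)) (RingHom.id K)).hom =
      Spec.map (CommRingCat.ofHom (cst.comp j)) := by
    show Spec.map _ ≫ Spec.map _ = _
    rw [← Spec.map_comp]
    rfl
  have hρρ : ρ ≫ ρ = ρ := by
    apply Over.OverMorphism.ext
    rw [Over.comp_left, hρ, ← Spec.map_comp]
    congr 1
    ext x <;> simp
  let w := v * (ρ ≫ v)⁻¹
  have hw1 : ρ ≫ w = 1 := by
    simp only [w, MonObj.comp_mul, GrpObj.comp_inv, ← Category.assoc, hρρ, mul_inv_cancel]
  have hwf : w ≫ f = 1 := by
    simp only [w, MonObj.mul_comp, GrpObj.inv_comp, Category.assoc, hvf, mul_inv_cancel]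
  suffices w = 1 from (mul_inv_eq_one.1 this).symm
  have e1 : (toUnit (dualK (Spec.map (CommRingCat.ofHom j)) (RingHom.id K))).left =
      Spec.map (CommRingCat.ofHom (cst.comp j)) :=
    ((Category.comp_id _).symm.trans (Over.w (toUnit _))).trans hstr
  obtain ⟨c, hc⟩ := hv₀ K j w.left ((Over.w w).trans hstr) (by
    have h := congrArg (fun q => q.left) hw1
    simp only [Over.comp_left, Hom.one_def] at h
    rw [hρ] at h
    rw [h, e1])
  let σ : dualK (Spec.map (CommRingCat.ofHom j)) (RingHom.id K) ⟶ D₀ k :=
    Over.homMk (Spec.map (CommRingCat.ofHom (mapD j c))) (by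
      show Spec.map _ ≫ Spec.map _ = _
      rw [hstr, ← Spec.map_comp]
      congr 1
      exact CommRingCat.hom_ext (mapD_comp_cst j c))
  have hσ : w = σ ≫ v₀ := Over.OverMorphism.ext hc
  by_cases hc0 : c = 0
  · have : ρ ≫ σ = σ := by
      apply Over.OverMorphism.ext
      rw [Over.comp_left, hρ]
      show _ ≫ Spec.map _ = Spec.map _
      rw [← Spec.map_comp]
      congr 1
      ext x <;> simp [hc0]
    rw [hσ, ← this, Category.assoc, ← hσ, hw1]
  · refine absurd ?_ hne
    apply Over.OverMorphism.ext
    haveI : IsLocalHom (CommRingCat.ofHom (mapD j c)).hom := isLocalHom_mapD j c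
    refine inj_of_spec (CommRingCat.ofHom (mapD j c)) (fun x y h => ?_) _ _ ?_
    · ext
      · exact j.injective (by simpa using congrArg TrivSqZeroExt.fst h)
      · exact j.injective (mul_left_cancel₀ hc0 (by simpa using congrArg TrivSqZeroExt.snd h))
    · have h : σ ≫ v₀ ≫ f = σ ≫ 1 := by rw [← Category.assoc, ← hσ, hwf, MonObj.comp_one]
      exact congrArg (fun q => q.left) h

lemma ne_one_of_unramified {E F : Over (Spec (CommRingCat.of k))} [GrpObj E] [GrpObj F]
    (f : E ⟶ F) [IsMonHom f] [LocallyOfFiniteType f.left] [FormallyUnramified f.left] (v₀ : D₀ k ⟶ E)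
    (hne : v₀ ≠ 1) (hred : Spec.map (CommRingCat.ofHom (red (A := k))) ≫ v₀.left = η[E].left) :
    v₀ ≫ f ≠ 1 := by
  intro h
  have h1 : v₀.left ≫ f.left = (1 : D₀ k ⟶ E).left ≫ f.left := by
    rw [← Over.comp_left, ← Over.comp_left, h, MonObj.one_comp]
  let p := Limits.pullback.lift v₀.left (1 : D₀ k ⟶ E).left h1
  have hone : Spec.map (CommRingCat.ofHom (red (A := k))) ≫ (1 : D₀ k ⟶ E).left = η[E].left := by
    rw [Hom.one_def, Over.comp_left,
      (Category.comp_id _).symm.trans (Over.w (toUnit (D₀ k)))]
    show Spec.map _ ≫ Spec.map _ ≫ _ = _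
    rw [← Category.assoc, ← Spec.map_comp]
    have : CommRingCat.ofHom (cst (A := k)) ≫ CommRingCat.ofHom red = 𝟙 _ :=
      CommRingCat.hom_ext red_comp_cst
    rw [this, Spec.map_id, Category.id_comp]
  have hpd : Spec.map (CommRingCat.ofHom (red (A := k))) ≫ p =
      η[E].left ≫ Limits.pullback.diagonal f.left := by
    apply Limits.pullback.hom_ext
    · rw [Category.assoc, Category.assoc, Limits.pullback.lift_fst, Limits.pullback.diagonal_fst,
        Category.comp_id]
      exact hred
    · rw [Category.assoc, Category.assoc, Limits.pullback.lift_snd, Limits.pullback.diagonal_snd,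
        Category.comp_id]
      exact hone
  haveI : IsLocalHom (CommRingCat.ofHom (red (A := k))).hom := ⟨fun x hx =>
    TrivSqZeroExt.isUnit_iff_isUnit_fst.2 hx⟩
  have hrange : Set.range p ⊆ Set.range (Limits.pullback.diagonal f.left) := by
    rintro _ ⟨z, rfl⟩
    have hz : z = Spec.map (CommRingCat.ofHom (red (A := k))) (closedPoint k) := by
      rw [show Spec.map (CommRingCat.ofHom (red (A := k))) (closedPoint k) = closedPoint (DualNumber k)
        from Spec_closedPoint (f := CommRingCat.ofHom (red (A := k)))]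
      let q : PrimeSpectrum (DualNumber k) := z
      show q = closedPoint (DualNumber k)
      refine PrimeSpectrum.ext (le_antisymm (le_maximalIdeal q.2.ne_top) fun x hx => ?_)
      have h0 : TrivSqZeroExt.fst x = 0 := by
        by_contra h
        exact hx (TrivSqZeroExt.isUnit_iff_isUnit_fst.2 (isUnit_iff_ne_zero.2 h))
      refine q.2.mem_of_pow_mem 2 ?_
      have : x ^ 2 = 0 := by rw [sq]; ext <;> simp [h0]
      rw [this]
      exact zero_mem _
    refine ⟨η[E].left (closedPoint k), ?_⟩
    rw [hz, ← Scheme.Hom.comp_apply, ← hpd]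
    rfl
  have hl := IsOpenImmersion.lift_fac (Limits.pullback.diagonal f.left) p hrange
  apply hne
  apply Over.OverMorphism.ext
  have ha := congrArg (· ≫ Limits.pullback.fst _ _) hl
  have hb := congrArg (· ≫ Limits.pullback.snd _ _) hl
  simp only [p, Category.assoc, Limits.pullback.diagonal_fst, Limits.pullback.diagonal_snd, Category.comp_id,
    Limits.pullback.lift_fst, Limits.pullback.lift_snd] at ha hb
  exact ha.symm.trans hb

lemma finite_etale_of_unramified {E F : Over (Spec (CommRingCat.of k))} [GrpObj E] [GrpObj F]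
    [IsProper E.hom] [IsProper F.hom] [IsIntegral E.left] [IsIntegral F.left]
    (f : E ⟶ F) [IsMonHom f] (hdim : topologicalKrullDim E.left = topologicalKrullDim F.left)
    [FormallyUnramified f.left] : IsFinite f.left ∧ Surjective f.left ∧ Etale f.left := by
  haveI : IsProper (f.left ≫ F.hom) := by rw [Over.w]; infer_instance
  haveI : IsProper f.left := .of_comp _ F.hom
  haveI := EtBase.locallyQuasiFinite_of_formallyUnramified f.left
  haveI : IsFinite f.left := (IsFinite.iff_isProper_and_locallyQuasiFinite f.left).2 ⟨inferInstance, inferInstance⟩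
  haveI : Surjective f.left := by
    refine ⟨fun y => ?_⟩
    have hcl := f.left.isClosedMap.isClosed_range
    have hg : f.left (genericPoint E.left) = genericPoint F.left := by
      by_contra hne
      have h1 := VarDim.sdim_lt_of_specializes F.hom
        ((genericPoint_spec F.left).specializes (Set.mem_univ (f.left (genericPoint E.left)))) (Ne.symm hne)
      have h2 := (VarDim.dim_eq_sdim_genericPoint E.hom).symm.trans
        (hdim.trans (VarDim.dim_eq_sdim_genericPoint F.hom))
      have h3 := VarDim.sdim_finite_le F.hom f.left (genericPoint E.left)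
      rw [Over.w] at h3
      have h2' : VarDim.sdim E.hom (genericPoint E.left) = VarDim.sdim F.hom (genericPoint F.left) := by
        exact_mod_cast h2
      omega
    exact ((genericPoint_spec F.left).specializes (Set.mem_univ y)).mem_closed hcl ⟨_, hg⟩
  haveI : Flat f.left := AbRigid.flat_of_surjective E F f
  haveI : LocallyOfFinitePresentation f.left := by
    haveI : IsLocallyNoetherian F.left := LocallyOfFiniteType.isLocallyNoetherian F.hom
    infer_instance
  exact ⟨‹_›, ‹_›, Etale.iff_flat_and_formallyUnramified.2 ⟨‹_›, ‹_›, ‹_›⟩⟩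

end Aux


/-- Let `k` be an algebraically closed field and `E₁`, `E₂` elliptic curves over `k`, i.e. group schemes
over `Spec k` whose underlying schemes are proper, smooth, integral and one-dimensional. If `φ, φ' :
E₁ → E₂` are homomorphisms with `φ` finite, surjective and étale (a separable isogeny) and `φ'` not
étale (the zero homomorphism or an inseparable isogeny), then their sum under the group law of `E₂`
— the composite of `(φ, φ')` with the multiplication of `E₂` — is finite, surjective and étale, i.e.
again a separable isogeny. (The published statement is for arbitrary morphisms `φ, φ'` and takes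
`φ'` inseparable; this row takes homomorphisms, the case its proof treats — a morphism of elliptic
curves is a homomorphism followed by a translation, which changes neither the hypotheses nor the
conclusion — and allows `φ'` to be the zero map, that case being immediate.) -/
theorem result (k : Type u) [Field k] [IsAlgClosed k]
    (E₁ E₂ : Over (Spec (CommRingCat.of k)))
    [GrpObj E₁] [IsProper E₁.hom] [Smooth E₁.hom] [IsIntegral E₁.left] (hE₁ : topologicalKrullDim E₁.left = 1)
    [GrpObj E₂] [IsProper E₂.hom] [Smooth E₂.hom] [IsIntegral E₂.left] (hE₂ : topologicalKrullDim E₂.left = 1)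
    (φ φ' : E₁ ⟶ E₂) [IsMonHom φ] [IsMonHom φ'] [IsFinite φ.left] [Surjective φ.left] [Etale φ.left]
    (hφ' : ¬ Etale φ'.left) :
    IsFinite (φ * φ').left ∧ Surjective (φ * φ').left ∧ Etale (φ * φ').left := by
  haveI : AlgebraicGeometry.GeometricallyReduced E₂.hom := Groth.Agent.AbRigid.geometricallyReduced_of_smooth E₂.hom
  haveI := Groth.Agent.AbRigid.geometricallyIntegral_of_connected E₂
  haveI : IsCommMonObj E₂ := isCommMonObj_of_isProper_of_geometricallyIntegral E₂
  haveI : IsMonHom (φ * φ') := by rw [Hom.mul_def]; infer_instance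
  haveI : ∀ f : E₁ ⟶ E₂, LocallyOfFiniteType f.left := fun f => by
    haveI : LocallyOfFiniteType (f.left ≫ E₂.hom) := by rw [Over.w]; infer_instance
    exact locallyOfFiniteType_of_comp f.left E₂.hom
  obtain ⟨v₀, hne, hred, hrep⟩ := exists_tangent E₁ hE₁
  have hdim : topologicalKrullDim E₁.left = topologicalKrullDim E₂.left := hE₁.trans hE₂.symm
  have h' : v₀ ≫ φ' = 1 := by
    by_contra h
    haveI := formallyUnramified_of_tangent φ' v₀ hrep h
    exact hφ' (finite_etale_of_unramified φ' hdim).2.2
  have hφ : v₀ ≫ φ ≠ 1 := ne_one_of_unramified φ v₀ hne hred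
  have hψ : v₀ ≫ (φ * φ') ≠ 1 := by rwa [MonObj.comp_mul, h', _root_.mul_one]
  haveI := formallyUnramified_of_tangent (φ * φ') v₀ hrep hψ
  exact finite_etale_of_unramified (φ * φ') hdim

end Groth.Agent.S12627
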