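import Groth.Statements.S1263
import Groth.Agent.Lib.Dev4.Conseq

set_option autoImplicit false
universe u
open FlatMor

set_option backward.isDefEq.respectTransparency.types false

namespace Groth.Agent.S1263


attribute [local instance] Algebra.TensorProduct.rightAlgebra

theorem fp_of_module {L A B : Type u} [CommRing L] [CommRing A] [CommRing B] [Algebra L A] [Algebra.FinitePresentation L A]
    [Algebra A B] [Algebra L B] [IsScalarTower L A B] (g : A) (h : Module.FinitePresentation (Localization.Away g)
      (LocalizedModule (Submonoid.powers g) B)) :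
    Algebra.FinitePresentation L (Localization.Away (algebraMap A B g)) := by
  let Bg := Localization.Away (algebraMap A B g)
  have hu : IsUnit (algebraMap A Bg g) := by
    rw [IsScalarTower.algebraMap_apply A B Bg]; exact IsLocalization.Away.algebraMap_isUnit (algebraMap A B g)
  letI : Algebra (Localization.Away g) Bg := (IsLocalization.Away.lift g hu).toAlgebra
  haveI : IsScalarTower A (Localization.Away g) Bg :=
    IsScalarTower.of_algebraMap_eq fun a => (IsLocalization.Away.lift_eq g hu a).symm
  obtain ⟨e⟩ := Dev4.exists_localized_restrict (B := B) g B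
  haveI := h
  haveI : Module.FinitePresentation (Localization.Away g) Bg :=
    Module.FinitePresentation.of_equiv (LinearEquiv.extendScalarsOfIsLocalization (Submonoid.powers g) (Localization.Away g) e)
  haveI : Algebra.FinitePresentation A (Localization.Away g) := IsLocalization.Away.finitePresentation g
  haveI : Algebra.FinitePresentation (Localization.Away g) Bg := inferInstance
  haveI : Algebra.FinitePresentation A Bg := Algebra.FinitePresentation.trans A (Localization.Away g) Bg
  exact Algebra.FinitePresentation.trans L A Bg

/-- Ring form, X = Spec S and S = Spec R affine: let S be a finite type R-algebra and q a prime of S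
over p with S_q flat over R. Then there is an étale R-algebra R' with a prime p' over p having the
same residue field such that, writing A for the local ring of R' at p' and S_A for the base change
(any model): some g ∈ S_A outside every prime over both q and the maximal ideal of A has (S_A)_g
flat and of finite presentation over A. -/
theorem result {R S : Type u} [CommRing R] [CommRing S] [Algebra R S] [Algebra.FiniteType R S]
    (p : Ideal R) [p.IsPrime] (q : Ideal S) [q.IsPrime] [q.LiesOver p] (hflat : Module.Flat R (Localization.AtPrime q)) :
    ∃ (R' : Type u) (_ : CommRing R') (_ : Algebra R R') (p' : Ideal R') (_ : p'.IsPrime), FlatCA.IsEtaleNhd R R' p p' ∧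
      ∀ (SA : Type u) [CommRing SA] [Algebra R SA] [Algebra S SA] [Algebra (Localization.AtPrime p') SA]
        [IsScalarTower R S SA] [IsScalarTower R (Localization.AtPrime p') SA]
        [Algebra.IsPushout R S (Localization.AtPrime p') SA],
        ∃ g : SA, (∀ (Q : Ideal SA) [Q.IsPrime], Q.LiesOver q → Q.LiesOver (IsLocalRing.maximalIdeal (Localization.AtPrime p')) → g ∉ Q) ∧
          Module.Flat (Localization.AtPrime p') (Localization.Away g) ∧
          Algebra.FinitePresentation (Localization.AtPrime p') (Localization.Away g) := by
  obtain ⟨k, π, hπ⟩ := Algebra.FiniteType.iff_quotient_mvPolynomial''.1 (inferInstance : Algebra.FiniteType R S)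
  let P := MvPolynomial (Fin k) R
  letI : Algebra P S := π.toRingHom.toAlgebra
  haveI : IsScalarTower R P S := IsScalarTower.of_algebraMap_eq fun r => (π.commutes r).symm
  haveI : Module.Finite P S := Module.Finite.of_surjective (Algebra.linearMap P S) hπ
  haveI : Algebra.IsIntegral P S := Algebra.IsIntegral.of_finite P S
  let qP : Ideal P := q.comap (algebraMap P S)
  haveI : q.LiesOver qP := ⟨rfl⟩
  haveI : qP.LiesOver p := ⟨by
    show p = (q.comap (algebraMap P S)).comap (algebraMap R P)
    rw [Ideal.comap_comap, ← IsScalarTower.algebraMap_eq]; exact Ideal.over_def q p⟩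
  have hflP : FlatCA.FlatAt R qP S :=
    (RG4.flatAt_iff_of_unique q qP fun Q _ hQ => Ideal.comap_injective_of_surjective _ hπ hQ.over.symm).1 hflat
  obtain ⟨R', _, _, p', _, hR, h⟩ := Dev4.exists_flat_fp_near S p qP hflP
  refine ⟨R', inferInstance, inferInstance, p', inferInstance, hR, ?_⟩
  intro SA _ _ _ _ _ _ _
  obtain ⟨PA, _, _, _, _, _, _, hpo, _, _, _, _, _, _, mPA, tPA, _, _, _, fP, hfP⟩ :=
    Dev4.exists_poly_bc (R := R) (P := P) (L := Localization.AtPrime p') (Algebra.linearMap S SA) (IsBaseChange.linearMap S SA)
  obtain rfl : mPA = Algebra.toModule := Module.ext' _ _ fun a b => by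
    rw [← @algebraMap_smul PA _ SA _ _ SA _ _ _ tPA a b, Algebra.smul_def]; exact (Algebra.smul_def a b).symm
  obtain ⟨g, hg, hfp, hfl⟩ := h PA SA fP hfP
  refine ⟨algebraMap PA SA g, fun Q _ hQq hQm hgQ => ?_, ?_, ?_⟩
  · let QP := Q.comap (algebraMap PA SA)
    refine hg QP ⟨?_⟩ ⟨?_⟩ hgQ
    · show q.comap (algebraMap P S) = (Q.comap (algebraMap PA SA)).comap (algebraMap P PA)
      rw [Ideal.comap_comap, ← IsScalarTower.algebraMap_eq, IsScalarTower.algebraMap_eq P S SA, ← Ideal.comap_comap,
        show Q.comap (algebraMap S SA) = q from hQq.over.symm]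
    · show _ = (Q.comap (algebraMap PA SA)).comap (algebraMap (Localization.AtPrime p') PA)
      rw [Ideal.comap_comap, ← IsScalarTower.algebraMap_eq]; exact hQm.over
  · obtain ⟨e⟩ := Dev4.exists_equiv_restrict (L := Localization.AtPrime p') (Dev4.exists_localized_restrict (B := SA) g SA)
    haveI := hfl
    exact Module.Flat.of_linearEquiv (M := LocalizedModule (Submonoid.powers g) SA) e.symm
  · haveI : Algebra.IsPushout R (Localization.AtPrime p') P PA := Algebra.IsPushout.symm hpo
    haveI : Algebra.FinitePresentation (Localization.AtPrime p') PA :=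
      Algebra.FinitePresentation.equiv (Algebra.IsPushout.equiv R (Localization.AtPrime p') P PA)
    exact fp_of_module g hfp

end Groth.Agent.S1263
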