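import Groth.Statements.S12631
import Groth.Agent.Lib.TateRes28.Regular

set_option autoImplicit false
set_option linter.style.haveILetI false
universe u v w
open FunFld

namespace Groth.Agent.S12631

/-- Let `K/k` be a geometric function field of one variable of genus one all of whose places carry a
Laurent expansion over `k` in a local parameter (so every place is separable), and `v ∈ K` with `dv
≠ 0`. Then there is a nonzero `u ∈ K` whose differential `u dv` has divisor zero — the order of
`φ_P(u) · (φ_P v)′` is `0` at every place `P` — and such a `u` is unique up to a factor from `k`.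
(The published statement concerns elliptic curves over algebraically closed fields; this row is the
form for any constant field under the stated separability of all places.) -/
theorem result (k : Type u) (K : Type v) [Field k] [Field K] [Algebra k K]
    (hK : FunFld.IsFunctionField k K) (hg : FunFld.IsGeometric k K) (h1 : FunFld.genus k K = 1)
    (F : FunFld.Place k K → Type w) [∀ P, Field (F P)] [∀ P, Algebra k (F P)] [∀ P, FiniteDimensional k (F P)]
    (φ : ∀ P, K →ₐ[k] LaurentSeries (F P)) (hφ : ∀ P, LocRes.IsExpansionAt P.1 (φ P))
    (v : K) (hv : KaehlerDifferential.D k K v ≠ 0) :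
    (∃ u : K, u ≠ 0 ∧ ∀ P, LocRes.vDiff (φ P) u v = 1) ∧
      ∀ u u' : K, u ≠ 0 → (∀ P, LocRes.vDiff (φ P) u v = 1) → (∀ P, LocRes.vDiff (φ P) u' v = 1) →
        ∃ c : k, u' = c • u := by
  exact Groth.Agent.TateRes28.genus_one_differential hK hg h1 F φ hφ hv

end Groth.Agent.S12631
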