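import Groth.Statements.S14508
import Groth.Agent.Lib.Cyc26.ChernDet

set_option autoImplicit false
universe u
open CategoryTheory CategoryTheory.Limits AlgebraicGeometry
open IntTh

namespace Groth.Agent.S14508

/-- Let X be a locally Noetherian scheme whose local rings are universally catenary, δ a dimension
function on X, E a finite locally free O_X-module of rank r + 1, (p : P → X, O_P(1), q) its
projective bundle given by the universal property, p proper, δP the induced dimension function on P,
α a k-cycle on X and γ a tuple representing (c_0(E) ∩ α, …, c_{r+1}(E) ∩ α) through the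
projective-bundle relation. Let L be an (r+1)-st exterior power of E (det E) and s a choice of
nonzero rational sections of L at all points. Then γ_1 ∼_rat c_1(L) ∩ α as (k − 1)-cycles, the right
side being the cycle of the divisors of the sections s along the components of α. (The published
statement is for vector bundles of any rank on separated schemes of finite type over a field; this
row takes E of rank r + 1 ≥ 1 on a locally Noetherian scheme with universally catenary local rings
and a dimension function δ; in rank 0 both sides vanish.) -/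
theorem result (X : Scheme.{u}) (δ : X → ℤ) (hX : Cyc.IsSetup X δ)
    (E : X.Modules) (r : ℕ) (hE : FlatMod.IsFinLocFreeOfRank (r + 1) E)
    (P : Scheme.{u}) (p : P ⟶ X) (O1 : P.Modules) (q : (Scheme.Modules.pullback p).obj E ⟶ O1)
    (hP : KRR.IsProjBundle p E O1 q) [IsProper p] (δP : P → ℤ) (hPs : Cyc.IsSetup P δP)
    (hδ : Cyc.DeltaCompat p δP δ) (k : ℤ) (α : AlgebraicCycle X ℤ) (hα : α ∈ Cyc.Zk X δ k)
    (γ : Fin (r + 2) → AlgebraicCycle X ℤ) (hγ : Cyc.IsChernCap p δ δP O1 (r + 1) k α γ)
    (L : X.Modules) (hL : ExtPow.IsExtPow (r + 1) E L)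
    (s : (ξ : X) → Cyc.secFibre L ξ) (hs : ∀ ξ, s ξ ≠ 0)
    (β : AlgebraicCycle X ℤ) (hβ : ⇑β = Cyc.c1CapFun δ L ⇑α s) :
    Cyc.RatEquiv δ (k - 1) (γ 1) β := by
  haveI := hX.1
  obtain ⟨S, hS⟩ := Cyc26A.exists_sp hX 1 (fun _ => E) (fun _ => r + 1) (fun _ => hE)
  obtain ⟨M, hM, hF⟩ := hS 0
  have hLi : PicF.IsInvertible L := Wedge2.isInvertible_top hE hL
  have hLP := Twist.isInvertible_pullback S.π hLi
  have hdet := Wedge2.isExtPow_pullback' S.π (M2.isQCoh_of_isFinLocFree (M2.isFinLocFree_of_ofRank hE)) hL
  refine S.ratEquiv hX (fun z hz => hγ.2.1 1 z (by simpa using hz)) ?_ ?_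
  · exact Cyc26.c1Cap_mem_Zk (by rwa [sub_add_cancel]) hβ
  · rw [S.pl_chern hX hE hP hPs hδ hM (fun i => MvPolynomial.X i) hM
      (fun i a => (Cyc26A.op_X S.hd hM i a).symm) hF hγ 1, S.pl_c1_cycle hX hLi hs α β hβ,
      hF.c1_det S.hd hM hLP hdet]
    have h1 : ((1 : Fin (r + 2)) : ℕ) = 1 := by simp
    rw [h1, RootPoly26.es_one, Cyc26A.op_sum]
    exact Finset.sum_congr rfl fun i _ => Cyc26A.op_X S.hd hM i _

end Groth.Agent.S14508
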