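import Groth.Statements.S7638
import Groth.Agent.Lib.DetDeg13.Main
import Groth.Agent.Lib.PoleOne18.Ample
import Groth.Agent.Lib.VB17.Setup
import Groth.Agent.Lib.CurveAmple18.Basic
import Groth.Agent.Lib.CurveCoh17.Bases

set_option autoImplicit false
universe u
open CategoryTheory CategoryTheory.Limits AlgebraicGeometry
open Variety

namespace Groth.Agent.S7638

set_option backward.isDefEq.respectTransparency false
set_option backward.isDefEq.respectTransparency.types false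
set_option linter.style.haveILetI false

section
open Groth.Agent TopologicalSpace Opposite

variable {X : Scheme.{u}} {n : ℕ}

theorem isInvertible_of_isExtPow {E L : X.Modules} (hE : FlatMod.IsFinLocFreeOfRank n E)
    (hL : ExtPow.IsExtPow n E L) : PicF.IsInvertible L := by
  obtain ⟨φ, hφ⟩ := hL
  refine (M2.isInvertible_iff_isFinLocFreeOfRank_one L).2 fun x => ?_
  obtain ⟨D, e, hxD, he⟩ := P1Split.exists_isBas_nhd hE x
  obtain ⟨V, hV, hxV, hVD⟩ := exists_isAffineOpen_mem_and_subset (U := D) (x := x) hxD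
  have hVD : V ≤ D := hVD
  let l : Γ(L, V) := (φ ⟨V, hV⟩).symm (exteriorPower.ιMulti _ n fun i => M1.mres E hVD (e i))
  have hb : P1Split.IsBas (r := 1) L V fun _ => l := P1Split.isBas_of_stalk fun y hy => by
    have hg := DetDeg13.gen_top_wedge φ hφ ⟨V, hV⟩ (he.mres hVD) y hy
    have : (fun c : Fin 1 → X.presheaf.stalk y => ∑ i, c i • (L.presheaf.germ V y hy l : L.presheaf.stalk y)) =
        (fun r : X.presheaf.stalk y => r • Amp.gm L y hy l) ∘ fun c => c 0 := by funext c; simp [Amp.gm]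
    rw [this]
    exact hg.comp (Equiv.funUnique (Fin 1) _).bijective
  have himg : V.ι ''ᵁ ⊤ = V := by simp
  obtain ⟨ψ⟩ := CurveCoh17.nonempty_iso_freeMod_of_isBas
    (CurveCoh17.isBas_restrict V.ι L (D := ⊤) (hb.mres himg.le))
  exact ⟨V, hxV, ⟨ψ.symm⟩⟩

theorem exists_iso_zero {E L : X.Modules} (hE : FlatMod.IsFinLocFreeOfRank 0 E)
    (hL : ExtPow.IsExtPow 0 E L) :
    Nonempty (FlatMod.freeMod X 0 ≅ E) ∧ Nonempty (FlatMod.freeMod X 1 ≅ L) := by
  obtain ⟨φ, hφ⟩ := hL
  let e : Fin 0 → Γ(E, (⊤ : X.Opens)) := Fin.elim0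
  have hbe : ∀ (U : X.Opens) (e : Fin 0 → Γ(E, U)), P1Split.IsBas E U e := fun U e => P1Split.isBas_of_stalk fun x hx => by
    obtain ⟨γ⟩ := CurveCoh17.nonempty_stalk_equiv hE x
    exact ⟨fun a b _ => Subsingleton.elim a b, fun v => ⟨Fin.elim0, γ.injective (Subsingleton.elim _ _)⟩⟩
  refine ⟨CurveCoh17.nonempty_iso_freeMod_of_isBas (hbe ⊤ e), ?_⟩
  let ω : ∀ U : X.affineOpens, Γ(L, U.1) := fun U => (φ U).symm (exteriorPower.ιMulti _ 0 Fin.elim0)
  have hω : ∀ (U V : X.affineOpens) (h : V.1 ≤ U.1), M1.mres L h (ω U) = ω V := fun U V h =>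
    (hφ U V h Fin.elim0).trans (congrArg (φ V).symm (congrArg (exteriorPower.ιMulti _ 0) (Subsingleton.elim _ _)))
  have hcov : (⊤ : X.Opens) ≤ ⨆ U : X.affineOpens, U.1 := (iSup_affineOpens_eq_top X).ge
  obtain ⟨w, hw, -⟩ := TopCat.Sheaf.existsUnique_gluing' ⟨_, L.isSheaf⟩ (fun U : X.affineOpens => U.1) ⊤
    (fun U => homOfLE le_top) hcov ω fun U V => M1.section_ext _ _ fun x hx => by
      show L.presheaf.germ _ x hx (M1.mres L (inf_le_left : U.1 ⊓ V.1 ≤ U.1) (ω U)) =
        L.presheaf.germ _ x hx (M1.mres L (inf_le_right : U.1 ⊓ V.1 ≤ V.1) (ω V))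
      obtain ⟨W, hW, hxW, hWle⟩ := exists_isAffineOpen_mem_and_subset (U := U.1 ⊓ V.1) (x := x) hx
      have hWle : W ≤ U.1 ⊓ V.1 := hWle
      rw [← M1.germ_mres L hWle hxW, ← M1.germ_mres L hWle hxW]
      rw [M1.mres_mres, M1.mres_mres, hω U ⟨W, hW⟩, hω V ⟨W, hW⟩]
  refine CurveCoh17.nonempty_iso_freeMod_of_isBas (e := fun _ : Fin 1 => w) (P1Split.isBas_of_stalk fun x hx => ?_)
  obtain ⟨U, hU, hxU, -⟩ := exists_isAffineOpen_mem_and_subset (U := (⊤ : X.Opens)) (x := x) trivial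
  have hw' : M1.mres L (le_top : U ≤ ⊤) w = ω ⟨U, hU⟩ := hw ⟨U, hU⟩
  have hg := DetDeg13.gen_top_wedge φ hφ ⟨U, hU⟩ (hbe U Fin.elim0) x hxU
  have hwg : Amp.Gen (Amp.gm L x hx w) := by
    rw [← Amp.gm_res (le_top : U ≤ ⊤) hxU]
    exact (congrArg (fun z => Amp.Gen (Amp.gm L x hxU z)) hw').mpr hg
  have : (fun c : Fin 1 → X.presheaf.stalk x => ∑ i, c i • (L.presheaf.germ ⊤ x hx w : L.presheaf.stalk x)) =
      (fun r : X.presheaf.stalk x => r • Amp.gm L x hx w) ∘ fun c => c 0 := by funext c; simp [Amp.gm]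
  rw [this]
  exact hwg.comp (Equiv.funUnique (Fin 1) _).bijective

end

/-- Let X be proper of dimension at most one over a field k, let E be finite locally free of rank n and
let L be an n-th exterior power of E (its determinant). Then deg(E) = deg(L), the latter computed as
a module of rank one. -/
theorem result (k : Type u) [Field k] (X : Scheme.{u}) [X.Over (Spec (CommRingCat.of k))] [IsProper (X ↘ (Spec (CommRingCat.of k)))]
    (hdim : topologicalKrullDim X ≤ 1) (n : ℕ) (E : X.Modules) (hE : FlatMod.IsFinLocFreeOfRank n E)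
    (L : X.Modules) (hL : ExtPow.IsExtPow n E L) :
    Curv2.deg k X E n = Curv2.deg k X L 1 := by
  have hX := Groth.Agent.CurveAmple18.curveLike k X hdim
  rcases Nat.eq_zero_or_pos n with rfl | hn
  · obtain ⟨⟨a⟩, ⟨b⟩⟩ := exists_iso_zero hE hL
    rw [← Groth.Agent.CurveCoh17.deg_iso a, ← Groth.Agent.CurveCoh17.deg_iso b, Curv2.deg, Curv2.deg,
      hX.euler_freeMod, hX.euler_freeMod]
    push_cast
    ring
  · haveI := hX.noetherian
    haveI := hX.separated
    obtain ⟨H, hH⟩ := Groth.Agent.PoleOne18.exists_isAmple (X := X) fun y =>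
      (Groth.Agent.VB17.ringKrullDim_stalk_le_topologicalKrullDim y).trans hdim
    exact Groth.Agent.DetDeg13.deg_eq_deg_det_pos hX hH hn hE hL (isInvertible_of_isExtPow hE hL)

end Groth.Agent.S7638
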