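import Groth.Statements.S12672
import Groth.Agent.S14508
import Groth.Agent.S7638
import Groth.Agent.Lib.Cyc26.DegIterApps
import Groth.Agent.Lib.Cyc26.DegC1Comp
import Groth.Agent.Lib.Cyc26.PushRat
import Groth.Agent.Lib.Wedge2.Exists

set_option autoImplicit false
universe u
open CategoryTheory CategoryTheory.Limits AlgebraicGeometry
open Cyc

namespace Groth.Agent.S12672

/-- Let X be proper over a field K with dim X ≤ 1 and E a finite locally free O_X-module of constant
rank r. Then deg(E) = deg(c_1(E) ∩ [X]_1), where deg(E) = χ(X, E) - r·χ(X, O_X) (Curv2.deg) and the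
right side is the degree (ChowOps.deg, pushforward to the point) of a representative of c_1(E) ∩
[X]_1, [X]_1 being the 1-cycle of X (Cyc.subschemeFun); for r = 0 both sides are 0. Dimension
function: transcendence degree over K. (This is the general constant-rank case; the invertible case
is a separate result stated with c_1(L) ∩ - of an invertible module.) Setting: (X, δ) with
Cyc.IsSetup stands for a scheme locally of finite type over the base (S, δ) (X locally Noetherian
with universally catenary local rings, δ a dimension function); (p : P → X, O_P(1), q) is the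
projective bundle of E given by its universal property (KRR.IsProjBundle), p is proper and δP is the
induced dimension function (Cyc.DeltaCompat); a tuple γ with Cyc.IsChernCap represents (c_0(E) ∩ α,
…, c_r(E) ∩ α) through the defining relation Σ_i (-1)^i c_1(O_P(1))^i ∩ p^*(γ_{r-i}) ∼_rat 0 on P,
and classes are compared up to rational equivalence of representing cycles. -/
theorem result (K : Type u) [Field K] (X : Scheme.{u}) [X.Over (Spec (CommRingCat.of K))] [IsProper (X ↘ Spec (CommRingCat.of K))] (hdim : topologicalKrullDim X ≤ 1) (δ : X → ℤ) (hX : Cyc.IsSetup X δ) (hK : Cyc.DeltaCompat (X ↘ Spec (CommRingCat.of K)) δ (fun _ => 0)) (r : ℕ) (E : X.Modules) (hPE : FlatMod.IsFinLocFreeOfRank r E) (P : Scheme.{u}) (p : P ⟶ X) (O1 : P.Modules) (q : (Scheme.Modules.pullback p).obj E ⟶ O1) (hP : KRR.IsProjBundle p E O1 q) [IsProper p] (δP : P → ℤ) (hPs : Cyc.IsSetup P δP) (hδ : Cyc.DeltaCompat p δP δ) (α : AlgebraicCycle X ℤ) (hα : ⇑α = Cyc.subschemeFun δ 1 (𝟙 X)) (γ : Fin (r + 1)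 → AlgebraicCycle X ℤ) (hγ : Cyc.IsChernCap p δ δP O1 r 1 α γ) : Curv2.deg K X E r = (if h : 1 ≤ r then ChowOps.deg (X ↘ Spec (CommRingCat.of K)) δ (γ ⟨1, Nat.lt_succ_of_le h⟩) else 0) := by
  haveI := hX.1
  rcases r with _ | r
  · rw [dif_neg (by omega), Groth.Agent.S7638.result K X hdim 0 E hPE (Coh.structureModule X)
      (Groth.Agent.ExtFil4.isExtPow_zero E), Curv2.deg]
    simp
  rw [dif_pos (by omega)]
  let c := X ↘ Spec (CommRingCat.of K)
  haveI : Coh.IsQCoh E := Groth.Agent.M2.isQCoh_of_isFinLocFree (Groth.Agent.M2.isFinLocFree_of_ofRank hPE)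
  let L := Groth.Agent.Wedge2.extMod (r + 1) E
  have hL : ExtPow.IsExtPow (r + 1) E L := Groth.Agent.Wedge2.isExtPow_extMod _ E
  have hLi := Groth.Agent.Wedge2.isInvertible_top hPE hL
  obtain ⟨s, hs⟩ := Groth.Agent.Cyc26A.exists_sec hLi
  obtain ⟨β, hβ⟩ : ∃ β : AlgebraicCycle X ℤ, ⇑β = Cyc.c1CapFun δ L ⇑α s :=
    ⟨Groth.Agent.Cyc26A.capCycle hX.2.2 hLi hs α, Groth.Agent.Cyc26A.capCycle_coe hX.2.2 hLi hs α⟩
  have hα1 : α ∈ Cyc.Zk X δ 1 := fun x hx => by
    rw [hα]; exact if_neg hx
  have hrat : Cyc.RatEquiv δ 0 (γ 1) β := by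
    simpa using Groth.Agent.S14508.result X δ hX E r hPE P p O1 q hP δP hPs hδ 1 α hα1 γ hγ L hL s hs β hβ
  have hpt : ∀ u : ↥(Spec (CommRingCat.of K)), u = IsLocalRing.closedPoint K := fun u => Subsingleton.elim (α := PrimeSpectrum K) _ _
  have hdK : Cyc.IsDimFun (Spec (CommRingCat.of K)) (fun _ => 0) := fun a b _ hne =>
    absurd ((hpt a).trans (hpt b).symm) hne
  obtain ⟨ι, ξ, f, hξ, -, -, hz⟩ := Groth.Agent.Cyc26.ratEquivZero_map c hX.2.2 hdK hK hrat
  haveI : IsEmpty ι := ⟨fun i => absurd (hξ i) (by norm_num)⟩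
  have hdeg : ChowOps.deg c δ (γ 1) = ChowOps.deg c δ β := by
    have h := hz (IsLocalRing.closedPoint K)
    rw [finsum_of_isEmpty, Groth.Agent.Cyc26.map_sub] at h
    exact sub_eq_zero.1 h
  refine Eq.trans ?_ (hdeg.symm.trans (congrArg (fun j => ChowOps.deg c δ (γ j)) (Fin.ext (by simp))))
  rw [Groth.Agent.S7638.result K X hdim (r + 1) E hPE L hL, Groth.Agent.Cyc26.deg_eq_degree_c1Cap hdim hK hLi s hs,
    ← hα, ← hβ]
  haveI : CompactSpace X := QuasiCompact.compactSpace_of_compactSpace c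
  let T := (Groth.Agent.Cyc26Lim.finite_support β).toFinset
  show _ = AlgebraicCycle.map c δ (fun _ => (0 : ℤ)) β (IsLocalRing.closedPoint K)
  rw [Groth.Agent.Cyc26.map_apply_eq_sum c δ (fun _ => (0 : ℤ)) β _ T (fun x _ => hpt _)
      (fun x _ hx _ => (Groth.Agent.Cyc26Lim.finite_support β).mem_toFinset.2 hx),
    finsum_eq_sum_of_support_subset _ (s := T) fun x hx => (Groth.Agent.Cyc26Lim.finite_support β).mem_toFinset.2
      (right_ne_zero_of_mul hx)]
  refine Finset.sum_congr rfl fun x hx => ?_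
  have hδx : δ x = 0 := by
    by_contra hne
    exact (Groth.Agent.Cyc26Lim.finite_support β).mem_toFinset.1 hx
      (Groth.Agent.Cyc26.c1Cap_mem_Zk (k := 0) (by simpa using hα1) hβ x hne)
  rw [AlgebraicCycle.mapCoeff, if_pos hδx]
  exact mul_comm _ _

end Groth.Agent.S12672
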