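import Groth.Statements.S1265
import Mathlib

set_option autoImplicit false
universe u
open FlatMor

set_option backward.isDefEq.respectTransparency.types false

namespace Groth.Agent.S1265


/-- Idempotent endomorphisms lift modulo a nilpotent ideal, for projective modules. -/
theorem exists_lift_idem {A : Type u} [CommRing A] {M : Type u} [AddCommGroup M] [Module A M] [Module.Projective A M]
    (J : Ideal A) (hJ : IsNilpotent J) (eb : Module.End A (M ⧸ (J • ⊤ : Submodule A M))) (heb : IsIdempotentElem eb) :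
    ∃ e : Module.End A M, (∀ x, e (e x) = e x) ∧
      ∀ x, (J • ⊤ : Submodule A M).mkQ (e x) = eb ((J • ⊤ : Submodule A M).mkQ x) := by
  have hstab : ∀ φ : Module.End A M, (J • ⊤ : Submodule A M) ≤ (J • ⊤ : Submodule A M).comap φ := fun φ => by
    rw [← Submodule.map_le_iff_le_comap]
    show (J • ⊤ : Submodule A M).map φ ≤ J • ⊤
    rw [Submodule.map_smul'']
    exact Submodule.smul_mono le_rfl le_top
  let F : @RingHom (Module.End A M) (Module.End A (M ⧸ (J • ⊤ : Submodule A M))) Ring.toNonAssocRing.toNonAssocSemiring Ring.toNonAssocRing.toNonAssocSemiring :=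
    { toFun := fun φ => (J • ⊤ : Submodule A M).mapQ (J • ⊤ : Submodule A M) φ (hstab φ)
      map_one' := Submodule.linearMap_qext _ rfl
      map_mul' := fun φ ψ => Submodule.linearMap_qext _ rfl
      map_zero' := Submodule.linearMap_qext _ rfl
      map_add' := fun φ ψ => Submodule.linearMap_qext _ rfl }
  obtain ⟨k, hk⟩ := hJ
  have hnil : ∀ φ ∈ RingHom.ker F, IsNilpotent φ := fun φ hφ => by
    have h1 : ∀ x, φ x ∈ (J • ⊤ : Submodule A M) := fun x => (Submodule.Quotient.mk_eq_zero _).1 (LinearMap.congr_fun (RingHom.mem_ker.1 hφ) ((J • ⊤ : Submodule A M).mkQ x))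
    have h2 : ∀ (n : ℕ) x, (φ ^ n) x ∈ J ^ n • (⊤ : Submodule A M) := by
      intro n
      induction n with
      | zero => intro x; simp
      | succ n ih =>
        intro x
        rw [pow_succ, pow_succ, Module.End.mul_apply, Submodule.mul_smul]
        have : (J • ⊤ : Submodule A M).map (φ ^ n) ≤ J ^ n • J • (⊤ : Submodule A M) := by
          rw [← Submodule.mul_smul, mul_comm, Submodule.mul_smul, Submodule.map_smul'']
          exact Submodule.smul_mono le_rfl (Submodule.map_le_iff_le_comap.2 fun y _ => ih y)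
        exact this ⟨φ x, h1 x, rfl⟩
    refine ⟨k, LinearMap.ext fun x => ?_⟩
    have := h2 k x
    rw [hk] at this
    simpa using this
  have hsurjF : eb ∈ F.range := by
    obtain ⟨g, hg⟩ := Module.projective_lifting_property (J • ⊤ : Submodule A M).mkQ (eb ∘ₗ (J • ⊤ : Submodule A M).mkQ) (J • ⊤ : Submodule A M).mkQ_surjective
    exact ⟨g, Submodule.linearMap_qext _ hg⟩
  obtain ⟨e, he, hFe⟩ := exists_isIdempotentElem_eq_of_ker_isNilpotent F hnil eb hsurjF heb
  exact ⟨e, fun x => LinearMap.congr_fun he x, fun x => LinearMap.congr_fun hFe ((J • ⊤ : Submodule A M).mkQ x)⟩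

open TensorProduct in
/-- Over an Artinian ring every module is the image of a projective module with kernel in the radical. -/
theorem exists_projCover {A : Type u} [CommRing A] [IsArtinianRing A] (N : Type u) [AddCommGroup N] [Module A N] :
    ∃ (P : Submodule A (N →₀ A)) (r : (N →₀ A) →ₗ[A] P) (π : P →ₗ[A] N),
      (∀ x : P, r x = x) ∧ Function.Surjective π ∧ LinearMap.ker π ≤ nilradical A • (⊤ : Submodule A P) := by
  let J := nilradical A
  let π₀ : (N →₀ A) →ₗ[A] N := Finsupp.linearCombination A id
  have hπ₀ : Function.Surjective π₀ := fun x => ⟨Finsupp.single x 1, by simp [π₀]⟩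
  let S : Submodule A (N →₀ A) := J • ⊤
  let T : Submodule A N := J • ⊤
  have hST : S ≤ T.comap π₀ := by
    rw [← Submodule.map_le_iff_le_comap]
    show (J • ⊤ : Submodule A (N →₀ A)).map π₀ ≤ T
    rw [Submodule.map_smul'']
    exact Submodule.smul_mono le_rfl le_top
  let πb : ((N →₀ A) ⧸ S) →ₗ[A] (N ⧸ T) := S.mapQ T π₀ hST
  haveI : IsSemisimpleModule A ((N →₀ A) ⧸ S) := by
    letI : ∀ I : MaximalSpectrum A, Field (A ⧸ I.asIdeal) := fun I =>
      haveI := I.isMaximal
      Ideal.Quotient.field I.asIdeal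
    haveI : IsSemisimpleRing (A ⧸ J) :=
      (IsArtinianRing.quotNilradicalEquivPi A).toRingEquiv.symm.isSemisimpleRing
    have hM : Module.IsTorsionBySet A ((N →₀ A) ⧸ S) J := fun x c => by
      induction x using Submodule.Quotient.induction_on with
      | H x =>
        rw [← Submodule.Quotient.mk_smul, Submodule.Quotient.mk_eq_zero]
        exact Submodule.smul_mem_smul c.2 trivial
    letI := hM.module
    exact hM.isSemisimpleModule_iff.1 inferInstance
  have hπb : Function.Surjective πb := fun y => by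
    obtain ⟨y, rfl⟩ := T.mkQ_surjective y
    obtain ⟨x, rfl⟩ := hπ₀ y
    exact ⟨S.mkQ x, rfl⟩
  obtain ⟨C, hC⟩ := exists_isCompl (LinearMap.ker πb)
  let eb : Module.End A ((N →₀ A) ⧸ S) := C.subtype ∘ₗ Submodule.projectionOnto C (LinearMap.ker πb) hC.symm
  have heb : IsIdempotentElem eb := LinearMap.ext fun x => by
    show (Submodule.projectionOnto C _ hC.symm (Submodule.projectionOnto C _ hC.symm x : _) : (N →₀ A) ⧸ S) = _
    rw [Submodule.projectionOnto_apply_left]
    rfl
  have hπeb : ∀ x, πb (eb x) = πb x := fun x => by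
    have h1 : Submodule.projectionOnto C _ hC.symm (x - eb x) = 0 := by
      rw [map_sub]
      show _ - Submodule.projectionOnto C _ hC.symm (Submodule.projectionOnto C _ hC.symm x : _) = 0
      rw [Submodule.projectionOnto_apply_left, sub_self]
    have h2 : x - eb x ∈ LinearMap.ker πb := (Submodule.projectionOnto_apply_eq_zero_iff _).1 h1
    rw [LinearMap.mem_ker, map_sub, sub_eq_zero] at h2
    exact h2.symm
  have hkerb : ∀ x, eb x = x → πb x = 0 → x = 0 := fun x hx h0 => by
    rw [← hx]
    show (Submodule.projectionOnto C _ hC.symm x : (N →₀ A) ⧸ S) = 0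
    rw [(Submodule.projectionOnto_apply_eq_zero_iff hC.symm).2 (LinearMap.mem_ker.2 h0)]
    rfl
  obtain ⟨e, hee, hFe'⟩ := exists_lift_idem J (IsNoetherianRing.isNilpotent_nilradical A) eb heb
  obtain ⟨k, hk⟩ := IsNoetherianRing.isNilpotent_nilradical A
  let r : (N →₀ A) →ₗ[A] LinearMap.range e := e.rangeRestrict
  refine ⟨LinearMap.range e, r, π₀ ∘ₗ Submodule.subtype _, fun x => ?_, ?_, ?_⟩
  · obtain ⟨y, hy⟩ := x.2
    refine Subtype.ext ?_
    show e x.1 = x.1
    rw [← hy, hee]
  · have hr : LinearMap.range (π₀ ∘ₗ Submodule.subtype (LinearMap.range e)) ⊔ T = ⊤ := by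
      refine top_unique fun y _ => ?_
      obtain ⟨x, rfl⟩ := hπ₀ y
      have h1 : T.mkQ (π₀ (e x)) = T.mkQ (π₀ x) :=
        (congrArg πb (hFe' x)).trans (hπeb (S.mkQ x))
      rw [Submodule.mkQ_apply, Submodule.mkQ_apply, Submodule.Quotient.eq] at h1
      rw [show π₀ x = π₀ (e x) - (π₀ (e x) - π₀ x) by abel]
      exact sub_mem (Submodule.mem_sup_left ⟨⟨e x, x, rfl⟩, rfl⟩) (Submodule.mem_sup_right h1)
    rw [← LinearMap.range_eq_top]
    let Q := LinearMap.range (π₀ ∘ₗ Submodule.subtype (LinearMap.range e))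
    have h3 : ∀ n : ℕ, Q ⊔ J ^ n • (⊤ : Submodule A N) = ⊤ := by
      intro n
      induction n with
      | zero => simp
      | succ n ih =>
        refine top_unique (ih.ge.trans (sup_le le_sup_left ?_))
        calc J ^ n • (⊤ : Submodule A N) = J ^ n • (Q ⊔ T) := by rw [show Q ⊔ T = ⊤ from hr]
          _ = J ^ n • Q ⊔ J ^ n • T := Submodule.smul_sup _ _ _
          _ ≤ Q ⊔ J ^ (n + 1) • ⊤ := sup_le_sup Submodule.smul_le_right (by rw [pow_succ, Submodule.mul_smul])
    have := h3 k
    rw [hk] at this
    simpa [Q] using this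
  · intro x hx
    have hxe : e x.1 = x.1 := by
      obtain ⟨y, hy⟩ := x.2
      rw [← hy, hee]
    have h0 : S.mkQ x.1 = 0 := hkerb _ ((hFe' x.1).symm.trans (congrArg S.mkQ hxe)) (by
      show T.mkQ (π₀ x.1) = 0
      rw [show π₀ x.1 = 0 from hx, map_zero])
    rw [Submodule.mkQ_apply, Submodule.Quotient.mk_eq_zero] at h0
    have h1 := Submodule.mem_map_of_mem (f := r) h0
    rw [Submodule.map_smul''] at h1
    have h2 : r x.1 = x := Subtype.ext hxe
    rw [h2] at h1
    exact Submodule.smul_mono le_rfl le_top h1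

open TensorProduct in
/-- A surjection onto a flat module whose kernel lies in a nilpotent ideal times the source is injective. -/
theorem eq_zero_of_ker_le_smul {R : Type u} [CommRing R] {Q M : Type u} [AddCommGroup Q] [Module R Q]
    [AddCommGroup M] [Module R M] [Module.Flat R M] (p : Q →ₗ[R] M) (hp : Function.Surjective p)
    (J : Ideal R) (hJ : IsNilpotent J) (hL : LinearMap.ker p ≤ J • (⊤ : Submodule R Q)) (z : Q)
    (hz : z ∈ LinearMap.ker p) : z = 0 := by
  let L := LinearMap.ker p
  have hpure : Function.Injective (LinearMap.lTensor (R ⧸ J) L.subtype) :=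
    LinearMap.lTensor_injective_of_exact_of_flat p hp L.subtype L.injective_subtype
      (LinearMap.exact_subtype_ker_map p) (R ⧸ J)
  have hLL : (⊤ : Submodule R L) ≤ J • ⊤ := fun y _ => by
    have h1 : ((Ideal.Quotient.mk J 1) ⊗ₜ[R] y : (R ⧸ J) ⊗[R] L) = 0 := by
      refine hpure ?_
      rw [map_zero, LinearMap.lTensor_tmul]
      refine Submodule.smul_induction_on (p := fun w => (Ideal.Quotient.mk J 1) ⊗ₜ[R] w = 0) (hL y.2)
        (fun c hc w _ => ?_) fun w w' h h' => by rw [TensorProduct.tmul_add, h, h', add_zero]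
      rw [← TensorProduct.smul_tmul, Algebra.smul_def, Ideal.Quotient.algebraMap_eq,
        Ideal.Quotient.eq_zero_iff_mem.2 hc, zero_mul, TensorProduct.zero_tmul]
    have h2 := congrArg (TensorProduct.quotTensorEquivQuotSMul L J) h1
    rw [TensorProduct.quotTensorEquivQuotSMul_mk_tmul, map_zero, one_smul, Submodule.Quotient.mk_eq_zero] at h2
    exact h2
  have hL0 : ∀ n : ℕ, (⊤ : Submodule R L) ≤ J ^ n • ⊤ := by
    intro n
    induction n with
    | zero => simp
    | succ n ih =>
      calc (⊤ : Submodule R L) ≤ J ^ n • ⊤ := ih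
        _ ≤ J ^ n • J • ⊤ := Submodule.smul_mono le_rfl hLL
        _ = J ^ (n + 1) • ⊤ := by rw [pow_succ, Submodule.mul_smul]
  obtain ⟨k, hk⟩ := hJ
  have := hL0 k (Submodule.mem_top (x := (⟨z, hz⟩ : L)))
  rw [hk, Submodule.zero_eq_bot, Submodule.bot_smul, Submodule.mem_bot] at this
  exact congrArg Subtype.val this

open TensorProduct in
set_option maxHeartbeats 400000 in
/-- The flatness criterion through the coordinates of the kernel. -/
theorem flat_tensor_iff {A : Type u} [CommRing A] [IsArtinianRing A] {N : Type u} [AddCommGroup N] [Module A N]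
    {P : Type u} [AddCommGroup P] [Module A P] (ι : P →ₗ[A] (N →₀ A)) (r : (N →₀ A) →ₗ[A] P) (π : P →ₗ[A] N)
    (hr : ∀ x : P, r (ι x) = x)
    (hπ : Function.Surjective π) (hker : LinearMap.ker π ≤ nilradical A • (⊤ : Submodule A P))
    (A' : Type u) [CommRing A'] [Algebra A A'] :
    Module.Flat A' (A' ⊗[A] N) ↔
      (Ideal.span {c | ∃ x : P, π x = 0 ∧ ∃ i, ι x i = c}).map (algebraMap A A') = ⊥ := by
  classical
  let πA := π.baseChange A'
  have hπA : Function.Surjective πA := by
    have h := LinearMap.lTensor_surjective A' (g := π) hπ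
    simpa only [πA, LinearMap.baseChange_eq_ltensor] using h
  have hex : Function.Exact ((LinearMap.ker π).subtype.baseChange A') πA := by
    have h : Function.Exact (LinearMap.lTensor A' (LinearMap.ker π).subtype) (LinearMap.lTensor A' π) :=
      lTensor_exact A' (LinearMap.exact_subtype_ker_map π) hπ
    simpa only [πA, LinearMap.baseChange_eq_ltensor] using h
  have hι : Function.Injective (ι.baseChange A') := by
    have : (r.baseChange A').comp (ι.baseChange A') = LinearMap.id := by
      rw [← LinearMap.baseChange_comp, show r.comp ι = LinearMap.id from LinearMap.ext hr, LinearMap.baseChange_id]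
    exact Function.LeftInverse.injective (g := r.baseChange A') fun z => LinearMap.congr_fun this z
  let Φ : A' ⊗[A] (N →₀ A) ≃ₗ[A'] (N →₀ A') := TensorProduct.finsuppScalarRight A A' A' N
  have hΦ : ∀ (x : N →₀ A) (i : N), Φ (1 ⊗ₜ x) i = algebraMap A A' (x i) := fun x i => by
    simp [Φ, Algebra.smul_def]
  constructor
  · intro hflat
    let L := LinearMap.ker πA
    let J' := (nilradical A).map (algebraMap A A')
    have hLJ : L ≤ J' • (⊤ : Submodule A' (A' ⊗[A] P)) := by
      intro z hz
      obtain ⟨w, rfl⟩ := (hex z).1 hz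
      induction w using TensorProduct.induction_on with
      | zero => simp
      | add a b ha hb =>
        rw [map_add]
        exact add_mem (ha (LinearMap.mem_ker.2 ((hex _).2 ⟨_, rfl⟩))) (hb (LinearMap.mem_ker.2 ((hex _).2 ⟨_, rfl⟩)))
      | tmul a x =>
        rw [LinearMap.baseChange_tmul]
        refine Submodule.smul_induction_on (p := fun y => a ⊗ₜ[A] y ∈ J' • (⊤ : Submodule A' (A' ⊗[A] P))) (hker x.2)
          (fun c hc y _ => ?_) fun y y' h h' => by rw [TensorProduct.tmul_add]; exact add_mem h h'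
        rw [TensorProduct.tmul_smul, ← algebraMap_smul A' c]
        exact Submodule.smul_mem_smul (Ideal.mem_map_of_mem _ hc) trivial
    obtain ⟨k, hk⟩ := IsNoetherianRing.isNilpotent_nilradical A
    haveI := hflat
    have hbot : ∀ z ∈ L, z = 0 := fun z hz =>
      eq_zero_of_ker_le_smul πA hπA J' ⟨k, by rw [← Ideal.map_pow, hk]; exact Ideal.map_bot⟩ hLJ z hz
    rw [Ideal.map_span, Ideal.span_eq_bot]
    rintro _ ⟨_, ⟨x, hx, i, rfl⟩, rfl⟩
    have h1 : ι.baseChange A' (1 ⊗ₜ x) = 0 := by
      rw [hbot (1 ⊗ₜ x) (by rw [LinearMap.mem_ker, LinearMap.baseChange_tmul, hx, TensorProduct.tmul_zero]), map_zero]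
    rw [LinearMap.baseChange_tmul] at h1
    rw [← hΦ, h1, map_zero]
    rfl
  · intro hI
    have hinj : Function.Injective πA := by
      refine (injective_iff_map_eq_zero _).2 fun z hz => ?_
      obtain ⟨w, rfl⟩ := (hex z).1 hz
      induction w using TensorProduct.induction_on with
      | zero => simp
      | add a b ha hb => rw [map_add, ha ((hex _).2 ⟨_, rfl⟩), hb ((hex _).2 ⟨_, rfl⟩), add_zero]
      | tmul a x =>
        apply hι
        apply Φ.injective
        rw [map_zero, map_zero, LinearMap.baseChange_tmul, LinearMap.baseChange_tmul]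
        rw [show (a ⊗ₜ[A] ι ((LinearMap.ker π).subtype x)) = a • ((1 : A') ⊗ₜ[A] ι ((LinearMap.ker π).subtype x)) by
          rw [TensorProduct.smul_tmul', smul_eq_mul, mul_one], map_smul]
        ext i
        rw [Finsupp.smul_apply, hΦ, Submodule.subtype_apply, (Submodule.eq_bot_iff _).1 hI _
          (Ideal.mem_map_of_mem _ (Ideal.subset_span ⟨x.1, x.2, i, rfl⟩)), smul_zero]
        rfl
    haveI : Module.Projective A P := Module.Projective.of_split ι r (LinearMap.ext hr)
    exact Module.Flat.of_linearEquiv (LinearEquiv.ofBijective πA ⟨hinj, hπA⟩).symm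

/-- Ring form, stated for X = Spec B affine: let A be an Artinian ring, B an A-algebra and N a B-module.
Then there is an ideal I of A such that for every A-algebra A', with B' = B ⊗_A A' and N' the base
change of N (any models), N' is flat over A' if and only if IA' = 0. -/
theorem result {A B : Type u} [CommRing A] [IsArtinianRing A] [CommRing B] [Algebra A B]
    (N : Type u) [AddCommGroup N] [Module B N] [Module A N] [IsScalarTower A B N] :
    ∃ I : Ideal A, ∀ (A' B' N' : Type u) [CommRing A'] [CommRing B'] [Algebra A A'] [Algebra B B'] [Algebra A' B'] [Algebra A B']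
      [IsScalarTower A B B'] [IsScalarTower A A' B'] [Algebra.IsPushout A B A' B']
      [AddCommGroup N'] [Module B' N'] [Module B N'] [IsScalarTower B B' N'] [Module A' N'] [IsScalarTower A' B' N']
      (f : N →ₗ[B] N'), IsBaseChange B' f →
      (Module.Flat A' N' ↔ I.map (algebraMap A A') = ⊥) := by
  obtain ⟨P, r, π, hr, hπ, hker⟩ := exists_projCover (A := A) N
  refine ⟨Ideal.span {c | ∃ x : P, π x = 0 ∧ ∃ i, P.subtype x i = c}, ?_⟩
  intro A' B' N' _ _ _ _ _ _ _ _ _ _ _ _ _ _ _ f hf
  haveI : Algebra.IsPushout A A' B B' := Algebra.IsPushout.symm inferInstance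
  let e : TensorProduct A A' N ≃ₗ[A'] N' :=
    (Algebra.IsPushout.cancelBaseChange A A' B B' N).symm.trans (hf.equiv.restrictScalars A')
  have h2 := @flat_tensor_iff A _ _ N _ _ P _ _ P.subtype r π hr hπ hker A' _ _
  refine Iff.trans ?_ h2
  exact ⟨fun h => @Module.Flat.of_linearEquiv A' _ _ _ _ _ _ _ h e, fun h => @Module.Flat.of_linearEquiv A' _ _ _ _ _ _ _ h e.symm⟩

end Groth.Agent.S1265
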