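import Groth.Statements.S12660
import Groth.Agent.Lib.Cyc26.ChernFun
import Groth.Agent.Lib.FibDim14.BaseChange


set_option autoImplicit false
universe u
open CategoryTheory CategoryTheory.Limits AlgebraicGeometry
open Cyc

namespace Groth.Agent.S12660

/-- Chern class caps commute with flat pullback: for f : X → Y flat of relative dimension c, E finite
locally free of rank r on Y and α a k-cycle on Y, f^*(c_j(E) ∩ α) = c_j(f^*E) ∩ f^*α in
CH_{k+c-j}(X). Flat pullbacks of cycles are taken coefficientwise (Cyc.pullFun); the caps of f^*E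
are taken through the base-changed bundle P' = X ×_Y P (a cartesian square) with O_{P'}(1) the
pullback of O_P(1) and the induced dimension function on P'. (The published statement writes the
same letter for the rank of E and the relative dimension of f; the two are independent here, as in
its proof.) Setting: (X, δ) with Cyc.IsSetup stands for a scheme locally of finite type over the
base (S, δ) (X locally Noetherian with universally catenary local rings, δ a dimension function); (p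
: P → X, O_P(1), q) is the projective bundle of E given by its universal property
(KRR.IsProjBundle), p is proper and δP is the induced dimension function (Cyc.DeltaCompat); a tuple
γ with Cyc.IsChernCap represents (c_0(E) ∩ α, …, c_r(E) ∩ α) through the defining relation Σ_i
(-1)^i c_1(O_P(1))^i ∩ p^*(γ_{r-i}) ∼_rat 0 on P, and classes are compared up to rational
equivalence of representing cycles. -/
theorem result (X Y : Scheme.{u}) (δX : X → ℤ) (δY : Y → ℤ) (hX : Cyc.IsSetup X δX) (hY : Cyc.IsSetup Y δY) (f : X ⟶ Y) [Flat f] [LocallyOfFiniteType f] (c : ℕ) (hc : Cyc.HasRelDim f c) (hf : Cyc.DeltaCompat f δX δY) (r : ℕ) (E : Y.Modules) (hPE : FlatMod.IsFinLocFreeOfRank r E) (P : Scheme.{u}) (π : P ⟶ Y) (O1 : P.Modules) (q : (Scheme.Modules.pullback π).obj E ⟶ O1) (hP : KRR.IsProjBundle π E O1 q) [IsProper π] (δP : P → ℤ) (hPs : Cyc.IsSetup P δP) (hπ : Cyc.DeltaCompat π δP δY) (P' : Scheme.{u}) (π' : P' ⟶ X) (f' : P' ⟶ P) (hsq : IsPullback f' π' π f) (δP'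 : P' → ℤ) (hPs' : Cyc.IsSetup P' δP') (hπ' : Cyc.DeltaCompat π' δP' δX) (k : ℤ) (α : AlgebraicCycle Y ℤ) (hα : α ∈ Cyc.Zk Y δY k) (αX : AlgebraicCycle X ℤ) (hαX : ⇑αX = Cyc.pullFun f δX δY c ⇑α) (γ : Fin (r + 1) → AlgebraicCycle Y ℤ) (hγ : Cyc.IsChernCap π δY δP O1 r k α γ) (γ' : Fin (r + 1) → AlgebraicCycle X ℤ) (hγ' : Cyc.IsChernCap π' δX δP' ((Scheme.Modules.pullback f').obj O1) r (k + c) αX γ') (β : Fin (r + 1) → AlgebraicCycle X ℤ) (hβ : ∀ j, ⇑(β j) = Cyc.pullFun f δX δY c ⇑(γ j)) (j : Fin (r + 1)) : Cyc.RatEquiv δX (k + c - ((j : ℕ) : ℤ)) (β j) (γ' j) := by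
  rcases r with _ | m
  · rw [show j = 0 from Fin.ext (by omega), hγ'.1]
    have : β 0 = αX := by
      ext x
      rw [hβ 0, hαX, hγ.1]
    simpa [this] using Cyc26.ratEquiv_refl (δ := δX) (k := k + c) _
  haveI := hX.1
  haveI := hY.1
  haveI := hPs.1
  haveI := hPs'.1
  haveI : IsProper π' := MorphismProperty.of_isPullback hsq ‹_›
  haveI : Flat f' := MorphismProperty.of_isPullback hsq.flip ‹_›
  haveI : LocallyOfFiniteType f' := MorphismProperty.of_isPullback hsq.flip ‹_›
  have hf' := Cyc26A.deltaCompat_fst hπ hπ' hsq hf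
  have hs : Cyc26A.Shift f δX δY (c : ℤ) := fun z hz => Cyc26.shift_of_hasRelDim f hc hf z hz
  have hs' : Cyc26A.Shift f' δP' δP (c : ℤ) := fun z hz =>
    Cyc26.shift_of_hasRelDim f' (FibDim14.hasRelDim_baseChange hsq.flip hc) hf' z hz
  have hB := Cyc26PB.uBundle_projBundle hP
  obtain ⟨φ', hB'⟩ := Cyc26PB.exists_uBundle_baseChange hB hsq
  have hE' := M2.isFinLocFreeOfRank_pullback f hPE
  have hrel := Cyc26A.chernRel_pull hB hPE hB' hE' hY.2.2 hX.2.2 hPs.2.2 hPs'.2.2 hπ hπ' hsq hs hs' _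
    (Cyc26A.chernRel_of_isChernCap hB hPE hY.2.2 hPs.2.2 hπ hγ)
  have hb : ∀ i, Cyc26A.pull f hX.2.2 hY.2.2 hs (Cyc26A.mk δY (γ i)) = Cyc26A.mk δX (β i) := fun i =>
    Cyc26A.pull_mk f hX.2.2 hY.2.2 hs (γ i) (β i) (hβ i)
  have hu := congrFun (Cyc26A.chern_unique hB' hE' hX.2.2 hPs'.2.2 hπ'
    (y := fun i => Cyc26A.mk δX (γ' i)) (by
      show Cyc26A.pull f hX.2.2 hY.2.2 hs (Cyc26A.mk δY (γ 0)) = _
      rw [hγ.1, hγ'.1, Cyc26A.pull_mk f hX.2.2 hY.2.2 hs α αX hαX]) hrel
    (Cyc26A.chernRel_of_isChernCap hB' hE' hX.2.2 hPs'.2.2 hπ' hγ')) j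
  refine Cyc26A.ratEquiv_of_mk (fun x hx => ?_) (hγ'.2.1 j) ?_
  · rw [hβ j]
    simp only [Cyc.pullFun]
    split_ifs with h
    · rw [hγ.2.1 j (f x) (by omega), zero_mul]
    · rfl
  · rw [← hb j]
    exact hu


end Groth.Agent.S12660
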