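import Groth.Statements.S12661
import Groth.Agent.Lib.Cyc26.GysA
import Groth.Agent.Lib.Cyc26.ClosedSetup
import Groth.Agent.Lib.Cyc26.PBBase

set_option autoImplicit false
universe u
open CategoryTheory CategoryTheory.Limits AlgebraicGeometry
open Cyc

namespace Groth.Agent.S12661

/-- Chern class caps commute with the Gysin map of an effective Cartier divisor: for E finite locally
free of rank r on X, (L, s, i : D → X) with L invertible, s a global section of L and i the closed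
immersion of its zero scheme Z(s) (Cyc.IsZeroSchemeOf), and α ∈ CH_k(X): c_j(E|_D) ∩ i^*α =
i^*(c_j(E) ∩ α) in CH_{k-1-j}(D). The Gysin map i^* : Z_k(X) → CH_{k-1}(D) is computed on
coefficient functions as c_1(L) ∩ - with the rational sections s where s is nonzero and a nonzero
fallback w elsewhere (Cyc.gysinChoice), restricted to the points of D; the caps of E|_D are taken
through P_D = D ×_X P (a cartesian square) with the pullback of O_P(1), D and P_D carrying the
restricted dimension functions. Setting: (X, δ) with Cyc.IsSetup stands for a scheme locally of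
finite type over the base (S, δ) (X locally Noetherian with universally catenary local rings, δ a
dimension function); (p : P → X, O_P(1), q) is the projective bundle of E given by its universal
property (KRR.IsProjBundle), p is proper and δP is the induced dimension function (Cyc.DeltaCompat);
a tuple γ with Cyc.IsChernCap represents (c_0(E) ∩ α, …, c_r(E) ∩ α) through the defining relation
Σ_i (-1)^i c_1(O_P(1))^i ∩ p^*(γ_{r-i}) ∼_rat 0 on P, and classes are compared up to rational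
equivalence of representing cycles. -/
theorem result (X : Scheme.{u}) (δ : X → ℤ) (hX : Cyc.IsSetup X δ) (r : ℕ) (E : X.Modules) (hPE : FlatMod.IsFinLocFreeOfRank r E) (P : Scheme.{u}) (p : P ⟶ X) (O1 : P.Modules) (q : (Scheme.Modules.pullback p).obj E ⟶ O1) (hP : KRR.IsProjBundle p E O1 q) [IsProper p] (δP : P → ℤ) (hPs : Cyc.IsSetup P δP) (hδ : Cyc.DeltaCompat p δP δ) (L : X.Modules) (hL : PicF.IsInvertible L) (s : L.presheaf.obj (Opposite.op ⊤)) (D : Scheme.{u}) (i : D ⟶ X) [IsClosedImmersion i] (hD : Cyc.IsZeroSchemeOf i L s) (PD : Scheme.{u}) (pD : PD ⟶ D) (i' : PD ⟶ P) (hsq : IsPullback i' pD p i) (w : (ξ : X) → Cyc.secFibre L ξ) (hw : ∀ ξ, w ξ ≠ 0) (k : ℤ) (α : AlgebraicCycle X ℤ) (hα : α ∈ Cyc.Zk X δ k) (γ : Fin (r + 1) → AlgebraicCycle X ℤ) (hγ : Cyc.IsChernCap p δ δP O1 r k α γ) (αD : AlgebraicCycle D ℤ) (hαD : ∀ d, αD d = Cyc.c1CapFun δ L ⇑α (Cyc.gysinChoice L s w) (i d)) (γ' : Fin (r + 1) → AlgebraicCycle D ℤ) (hγ' : Cyc.IsChernCap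 pD (fun d => δ (i d)) (fun y => δP (i' y)) ((Scheme.Modules.pullback i').obj O1) r (k - 1) αD γ') (ζ : Fin (r + 1) → AlgebraicCycle D ℤ) (hζ : ∀ j d, ζ j d = Cyc.c1CapFun δ L ⇑(γ j) (Cyc.gysinChoice L s w) (i d)) (j : Fin (r + 1)) : Cyc.RatEquiv (fun d => δ (i d)) (k - 1 - ((j : ℕ) : ℤ)) (ζ j) (γ' j) := by
  haveI := hX.1
  haveI := hPs.1
  obtain ⟨u, hu⟩ := Cyc26A.exists_sec hL
  have hg := Cyc26.gysinChoice_ne_zero s hw
  refine Cyc26A.ratEquiv_of_mk (fun d hd => ?_) (hγ'.2.1 j) ?_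
  · rw [hζ j d, ← Cyc26A.capCycle_coe hX.2.2 hL hg]
    exact Cyc26.c1Cap_mem_Zk (k := k - 1 - ((j : ℕ) : ℤ))
      (show γ j ∈ Cyc.Zk X δ (k - 1 - ((j : ℕ) : ℤ) + 1) by
        rw [show k - 1 - ((j : ℕ) : ℤ) + 1 = k - ((j : ℕ) : ℤ) by ring]; exact hγ.2.1 j)
      (Cyc26A.capCycle_coe hX.2.2 hL hg _) (i d) hd
  haveI : IsClosedImmersion i' := MorphismProperty.of_isPullback hsq.flip ‹IsClosedImmersion i›
  haveI : IsProper pD := MorphismProperty.of_isPullback hsq ‹IsProper p›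
  haveI : IsLocallyNoetherian D := LocallyOfFiniteType.isLocallyNoetherian i
  haveI : IsLocallyNoetherian PD := LocallyOfFiniteType.isLocallyNoetherian i'
  have hdX := hX.2.2
  have hdP := hPs.2.2
  have hdD : Cyc.IsDimFun D (fun d => δ (i d)) := Cyc26.isDimFun_closed i hdX
  have hdPD : Cyc.IsDimFun PD (fun y => δP (i' y)) := Cyc26.isDimFun_closed i' hdP
  have hmk : ∀ l : Fin (r + 1), Cyc26A.mk _ (ζ l) = Cyc26A.gys hdX hL i hD (Cyc26A.mk δ (γ l)) := fun l =>
    (Cyc26A.gys_mk hdX hL i hD hw (γ l) (ζ l) (hζ l)).symm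
  have h0 : Cyc26A.gys hdX hL i hD (Cyc26A.mk δ (γ 0)) = Cyc26A.mk _ (γ' 0) := by
    rw [hγ'.1, hγ.1]
    exact Cyc26A.gys_mk hdX hL i hD hw α αD hαD
  rw [hmk]
  rcases r with _ | n
  · rw [show j = 0 from Fin.ext (by omega)]
    exact h0
  have hB := Cyc26PB.uBundle_projBundle hP
  obtain ⟨φ', hB'⟩ := Cyc26PB.exists_uBundle_baseChange hB hsq
  have hE' := M2.isFinLocFreeOfRank_pullback i hPE
  haveI := Cyc26PB.flat_bundle hB hPE
  haveI := Cyc26PB.flat_bundle hB' hE'
  have hpD : Cyc.DeltaCompat pD (fun y => δP (i' y)) (fun d => δ (i d)) := by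
    have h := Cyc26A.deltaCompat_comp i' p (Cyc26.deltaCompat_closed i' δP) hδ
    rw [hsq.w] at h
    exact Cyc26A.deltaCompat_of_comp pD i rfl h (Cyc26.deltaCompat_closed i δ)
  let G := Cyc26A.gys hdP (Groth.Agent.Twist.isInvertible_pullback p hL) i' (Bivar12.isZeroSchemeOf_pullback p hsq hL hD)
  have hpow : ∀ (m : ℕ) (a : Cyc26A.A δP), G (Cyc26A.c1p hdP hB.inv m a) = Cyc26A.c1p hdPD hB'.inv m (G a) := by
    intro m a
    induction m with
    | zero => rfl
    | succ m ih =>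
      rw [Cyc26A.c1p_succ, Cyc26A.c1p_succ, ← ih]
      exact Cyc26A.gys_c1 hdP _ i' _ hdPD hB.inv _
  have hrel : Cyc26A.chernRel hB' hE' hdD hdPD hpD (fun l => Cyc26A.gys hdX hL i hD (Cyc26A.mk δ (γ l))) = 0 := by
    have h := congrArg G (Cyc26A.chernRel_of_isChernCap hB hPE hdX hdP hδ hγ)
    rw [map_zero, Cyc26A.chernRel, map_sum] at h
    rw [← h, Cyc26A.chernRel]
    refine Finset.sum_congr rfl fun l _ => ?_
    rw [map_zsmul, hpow]
    refine congrArg (fun b => (-1 : ℤ) ^ (l : ℕ) • Cyc26A.c1p hdPD hB'.inv (l : ℕ) b) ?_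
    exact (Cyc26A.gys_pull hdX hL i hD p pD i' hsq hdD hdP hdPD (Cyc26A.shift_bundle hB hPE hdP hδ)
      (Cyc26A.shift_bundle hB' hE' hdPD hpD) _).symm
  exact congrFun (Cyc26A.chern_unique hB' hE' hdD hdPD hpD (y := fun l => Cyc26A.mk _ (γ' l)) h0 hrel
    (Cyc26A.chernRel_of_isChernCap hB' hE' hdD hdPD hpD hγ')) j

end Groth.Agent.S12661
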