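import Groth.Statements.S12662
import Groth.Agent.Lib.Cyc26.ChernOps


set_option autoImplicit false
universe u
open CategoryTheory CategoryTheory.Limits AlgebraicGeometry
open Cyc

namespace Groth.Agent.S12662

/-- For E, F finite locally free of ranks r, s on X and α ∈ CH_k(X), c_i(E) ∩ c_j(F) ∩ α = c_j(F) ∩
c_i(E) ∩ α in CH_{k-i-j}(X). Both bundles enter through their projective bundles (P, O_P(1)), (Q,
O_Q(1)); the iterated caps are represented by nested tuples (a tuple for F over the i-th component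
of a tuple for E over α, and symmetrically). (The published statement also asserts that c_j(E) is
central in the bivariant ring A^*(X) and commutes with every bivariant class of a morphism X' → X;
only the displayed consequence for two Chern classes is stated here.) Setting: (X, δ) with
Cyc.IsSetup stands for a scheme locally of finite type over the base (S, δ) (X locally Noetherian
with universally catenary local rings, δ a dimension function); (p : P → X, O_P(1), q) is the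
projective bundle of E given by its universal property (KRR.IsProjBundle), p is proper and δP is the
induced dimension function (Cyc.DeltaCompat); a tuple γ with Cyc.IsChernCap represents (c_0(E) ∩ α,
…, c_r(E) ∩ α) through the defining relation Σ_i (-1)^i c_1(O_P(1))^i ∩ p^*(γ_{r-i}) ∼_rat 0 on P,
and classes are compared up to rational equivalence of representing cycles. -/
theorem result (X : Scheme.{u}) (δ : X → ℤ) (hX : Cyc.IsSetup X δ) (r s : ℕ) (E : X.Modules) (hPE : FlatMod.IsFinLocFreeOfRank r E) (P : Scheme.{u}) (p : P ⟶ X) (O1 : P.Modules) (q : (Scheme.Modules.pullback p).obj E ⟶ O1) (hP : KRR.IsProjBundle p E O1 q) [IsProper p] (δP : P → ℤ) (hPs : Cyc.IsSetup P δP) (hδ : Cyc.DeltaCompat p δP δ) (F : X.Modules) (hQE : FlatMod.IsFinLocFreeOfRank s F) (Q : Scheme.{u}) (p' : Q ⟶ X) (O1' : Q.Modules) (q' : (Scheme.Modules.pullback p').obj F ⟶ O1') (hQ : KRR.IsProjBundle p' F O1' q') [IsProper p'] (δQ : Q → ℤ) (hQs : Cyc.IsSetup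 Q δQ) (hδ' : Cyc.DeltaCompat p' δQ δ) (k : ℤ) (α : AlgebraicCycle X ℤ) (hα : α ∈ Cyc.Zk X δ k) (i : Fin (r + 1)) (j : Fin (s + 1)) (γ : Fin (r + 1) → AlgebraicCycle X ℤ) (hγ : Cyc.IsChernCap p δ δP O1 r k α γ) (ε : Fin (s + 1) → AlgebraicCycle X ℤ) (hε : Cyc.IsChernCap p' δ δQ O1' s (k - ((i : ℕ) : ℤ)) (γ i) ε) (φ : Fin (s + 1) → AlgebraicCycle X ℤ) (hφ : Cyc.IsChernCap p' δ δQ O1' s k α φ) (ψ : Fin (r + 1) → AlgebraicCycle X ℤ) (hψ : Cyc.IsChernCap p δ δP O1 r (k - ((j : ℕ) : ℤ)) (φ j) ψ) : Cyc.RatEquiv δ (k - ((i : ℕ) : ℤ) - ((j : ℕ) : ℤ)) (ε j) (ψ i) := by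
  haveI := hX.1
  haveI := hPs.1
  haveI := hQs.1
  refine Cyc26A.ratEquiv_of_mk (hε.2.1 j) ?_ ?_
  · rw [show k - ((i : ℕ) : ℤ) - ((j : ℕ) : ℤ) = k - ((j : ℕ) : ℤ) - ((i : ℕ) : ℤ) by ring]
    exact hψ.2.1 i
  have hB := Cyc26PB.uBundle_projBundle hP
  have hC := Cyc26PB.uBundle_projBundle hQ
  rcases r with _ | n
  · rw [show i = 0 from Fin.ext (by omega), hψ.1]
    rcases s with _ | m
    · rw [show j = 0 from Fin.ext (by omega), hε.1, hφ.1, show i = 0 from Fin.ext (by omega), hγ.1]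
    · exact congrFun (Cyc26A.mk_chern_eq hC hQE hX.2.2 hQs.2.2 hδ' hε hφ
        (by rw [show i = 0 from Fin.ext (by omega), hγ.1])) j
  rcases s with _ | m
  · rw [show j = 0 from Fin.ext (by omega), hε.1]
    exact congrFun (Cyc26A.mk_chern_eq hB hPE hX.2.2 hPs.2.2 hδ hγ hψ
      (by rw [show j = 0 from Fin.ext (by omega), hφ.1])) i
  choose x hx0 _ hx using fun l : Fin (m + 1 + 1) =>
    Cyc26A.exists_chern hB hPE hX.2.2 hPs.2.2 hδ (k - ((l : ℕ) : ℤ)) (φ l) (hφ.2.1 l)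
  have hsw := Cyc26A.chernRel_swap hB hPE hC hQE hX.2.2 hPs.2.2 hQs hδ hδ' _
    (Cyc26A.chernRel_of_isChernCap hC hQE hX.2.2 hQs.2.2 hδ' hφ) (fun l i' => Cyc26A.mk δ (x l i'))
    (fun l => by rw [hx0 l]) hx i
  have h1 := congrFun (Cyc26A.chern_unique hB hPE hX.2.2 hPs.2.2 hδ (x := fun i' => Cyc26A.mk δ (x j i'))
    (y := fun i' => Cyc26A.mk δ (ψ i')) (by rw [hx0 j, hψ.1]) (hx j)
    (Cyc26A.chernRel_of_isChernCap hB hPE hX.2.2 hPs.2.2 hδ hψ)) i
  have h0 := congrFun (Cyc26A.chern_unique hB hPE hX.2.2 hPs.2.2 hδ (x := fun i' => Cyc26A.mk δ (x 0 i'))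
    (y := fun i' => Cyc26A.mk δ (γ i')) (by rw [hx0 0, hφ.1, hγ.1]) (hx 0)
    (Cyc26A.chernRel_of_isChernCap hB hPE hX.2.2 hPs.2.2 hδ hγ)) i
  have h2 := congrFun (Cyc26A.chern_unique hC hQE hX.2.2 hQs.2.2 hδ'
    (x := fun l => Cyc26A.mk δ (x l i)) (y := fun l => Cyc26A.mk δ (ε l)) (by rw [hε.1]; exact h0) hsw
    (Cyc26A.chernRel_of_isChernCap hC hQE hX.2.2 hQs.2.2 hδ' hε)) j
  exact h2.symm.trans h1


end Groth.Agent.S12662
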