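import Groth.Statements.S12663
import Groth.Agent.Lib.Cyc26.ChernRoots


set_option autoImplicit false
universe u
open CategoryTheory CategoryTheory.Limits AlgebraicGeometry
open Cyc

namespace Groth.Agent.S12663

/-- If E, F are finite locally free of ranks m + 1, m on X sitting in a short exact sequence 0 → O_X → E
→ F → 0, then c_{m+1}(E) = 0 and c_j(E) = c_j(F) for j = 0, …, m, as cap operations: for every
k-cycle α, c_{m+1}(E) ∩ α ∼_rat 0 and c_j(E) ∩ α ∼_rat c_j(F) ∩ α. Setting: (X, δ) with Cyc.IsSetup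
stands for a scheme locally of finite type over the base (S, δ) (X locally Noetherian with
universally catenary local rings, δ a dimension function); (p : P → X, O_P(1), q) is the projective
bundle of E given by its universal property (KRR.IsProjBundle), p is proper and δP is the induced
dimension function (Cyc.DeltaCompat); a tuple γ with Cyc.IsChernCap represents (c_0(E) ∩ α, …,
c_r(E) ∩ α) through the defining relation Σ_i (-1)^i c_1(O_P(1))^i ∩ p^*(γ_{r-i}) ∼_rat 0 on P, and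
classes are compared up to rational equivalence of representing cycles. -/
theorem result (X : Scheme.{u}) (δ : X → ℤ) (hX : Cyc.IsSetup X δ) (m : ℕ) (E : X.Modules) (hPE : FlatMod.IsFinLocFreeOfRank (m + 1) E) (P : Scheme.{u}) (p : P ⟶ X) (O1 : P.Modules) (q : (Scheme.Modules.pullback p).obj E ⟶ O1) (hP : KRR.IsProjBundle p E O1 q) [IsProper p] (δP : P → ℤ) (hPs : Cyc.IsSetup P δP) (hδ : Cyc.DeltaCompat p δP δ) (F : X.Modules) (hQE : FlatMod.IsFinLocFreeOfRank m F) (Q : Scheme.{u}) (p' : Q ⟶ X) (O1' : Q.Modules) (q' : (Scheme.Modules.pullback p').obj F ⟶ O1') (hQ : KRR.IsProjBundle p' F O1' q') [IsProper p'] (δQ : Q → ℤ) (hQs : Cyc.IsSetup Q δQ) (hδ' : Cyc.DeltaCompat p' δQ δ) (a : Coh.structureModule X ⟶ E) (b : E ⟶ F) (hab : a ≫ b = 0) (hex : (ShortComplex.mk a b hab).ShortExact) (k : ℤ) (α : AlgebraicCycle X ℤ) (hα : α ∈ Cyc.Zk X δ k) (γ : Fin (m + 2) → AlgebraicCycle X ℤ) (hγ : Cyc.IsChernCap p δ δP O1 (m + 1) k α γ) (γ' : Fin (m + 1) → AlgebraicCycle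 X ℤ) (hγ' : Cyc.IsChernCap p' δ δQ O1' m k α γ') : Cyc.RatEquivZero δ (k - ((m : ℤ) + 1)) (γ (Fin.last (m + 1))) ∧ ∀ j : Fin (m + 1), Cyc.RatEquiv δ (k - ((j : ℕ) : ℤ)) (γ (Fin.castSucc j)) (γ' j) := by
  haveI := hX.1
  obtain ⟨S, hS⟩ := Cyc26A.exists_sp hX 1 ![F] ![m] (by intro i; fin_cases i; exact hQE)
  obtain ⟨L', hL', hF'⟩ : ∃ L' : Fin m → S.P.Modules, (∀ j, PicF.IsInvertible (L' j)) ∧
      Cyc26A.FiltL ((Scheme.Modules.pullback S.π).obj F) L' := hS 0
  obtain ⟨w, hw⟩ := Cyc26Split.shortExact_pullback S.π a b hab hex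
  have hF := (Cyc26A.filtL_concat Cyc26A.filtL_single hF' _ _ w hw)
  let L₀ : Fin 1 → S.P.Modules := ![(Scheme.Modules.pullback S.π).obj (Coh.structureModule X)]
  have hLp := Twist.isInvertible_pullback S.π (Cyc26.isInvertible_structure (X := X))
  let M : Fin 1 ⊕ Fin m → S.P.Modules := Sum.elim L₀ L'
  have hL₀ : ∀ i, PicF.IsInvertible (L₀ i) := fun i => by
    fin_cases i
    exact hLp
  have hM : ∀ i, PicF.IsInvertible (M i) := fun i => match i with
    | Sum.inl x => hL₀ x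
    | Sum.inr x => hL' x
  have hap : ∀ i, PicF.IsInvertible (Fin.append L₀ L' i) := fun i => by
    induction i using Fin.addCases with
    | left x => rw [Fin.append_left]; exact hL₀ x
    | right x => rw [Fin.append_right]; exact hL' x
  let z : Fin 1 ⊕ Fin m → MvPolynomial (Fin 1 ⊕ Fin m) ℤ := MvPolynomial.X
  let g : Fin (m + 1) → MvPolynomial (Fin 1 ⊕ Fin m) ℤ := fun i =>
    z (finSumFinEquiv.symm (Fin.cast (Nat.add_comm m 1) i))
  let Lc : Fin (m + 1) → S.P.Modules := fun i => Fin.append L₀ L' (Fin.cast (Nat.add_comm m 1) i)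
  have hFc : Cyc26A.FiltL ((Scheme.Modules.pullback S.π).obj E) Lc := by
    have key : ∀ (N : ℕ) (h : N = 1 + m), Cyc26A.FiltL ((Scheme.Modules.pullback S.π).obj E)
        (fun i : Fin N => Fin.append L₀ L' (Fin.cast h i)) := by
      intro N h
      subst h
      exact hF
    exact key _ (Nat.add_comm m 1)
  have hg : ∀ i a, Cyc26A.c1 S.hd (hap (Fin.cast (Nat.add_comm m 1) i)) a = Cyc26A.op S.hd hM (g i) a := fun i a => by
    refine Eq.trans (Cyc26A.c1_congr_iso _ _ _ (eqToIso ?_) a) (Cyc26A.op_X S.hd hM _ a).symm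
    generalize Fin.cast (Nat.add_comm m 1) i = i'
    induction i' using Fin.addCases with
    | left x => rw [Fin.append_left, finSumFinEquiv_symm_apply_castAdd]; rfl
    | right x => rw [Fin.append_right, finSumFinEquiv_symm_apply_natAdd]; rfl
  have hE' : ∀ i, S.pl hX (Cyc26A.mk δ (γ i)) =
      Cyc26A.op S.hd hM (RootPoly26.es z (i : ℕ)) (S.pl hX (Cyc26A.mk δ α)) := fun i => by
    rw [S.pl_chern hX hPE hP hPs hδ hM g (fun i => hap _) hg hFc hγ i]
    congr 2
    exact RootPoly26.es_reindex ((finCongr (Nat.add_comm m 1)).trans finSumFinEquiv.symm) z _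
  let y : Fin m → MvPolynomial (Fin 1 ⊕ Fin m) ℤ := fun i => z (Sum.inr i)
  have h' : ∀ i, S.pl hX (Cyc26A.mk δ (γ' i)) =
      Cyc26A.op S.hd hM (RootPoly26.es y (i : ℕ)) (S.pl hX (Cyc26A.mk δ α)) := fun i =>
    S.pl_chern hX hQE hQ hQs hδ' hM y hL' (fun i a => (Cyc26A.op_X S.hd hM (Sum.inr i) a).symm) hF' hγ' i
  have hz : ∀ i, RootPoly26.es z (i + 1) = RootPoly26.es y (i + 1) + z (Sum.inl 0) * RootPoly26.es y i := fun i => by
    rw [← Sum.elim_comp_inl_inr z, RootPoly26.es_sum_single]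
    rfl
  have hO : ∀ a, Cyc26A.op S.hd hM (z (Sum.inl 0)) a = 0 := fun a => by
    refine (Cyc26A.op_X S.hd hM (Sum.inl 0) a).trans ?_
    refine (Cyc26A.c1_congr_iso _ _ Cyc26.isInvertible_structure (PicLoc.pullbackStructureIso S.π) a).trans ?_
    exact Cyc26A.c1_structure S.hd a
  refine ⟨?_, fun j => S.ratEquiv hX (fun x hx => hγ.2.1 (Fin.castSucc j) x (by simpa using hx)) (hγ'.2.1 j) ?_⟩
  · have h0 : Cyc.RatEquiv δ (k - ((m : ℤ) + 1)) (γ (Fin.last (m + 1))) 0 := by
      refine S.ratEquiv hX (fun x hx => hγ.2.1 (Fin.last (m + 1)) x (by simpa using hx)) (fun x _ => rfl) ?_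
      rw [hE', map_zero, map_zero, Fin.val_last, hz, RootPoly26.es_eq_zero y (by simp), zero_add, Cyc26A.op_mul, hO]
    exact Cyc26.ratEquivZero_congr (fun x => by simp) h0
  · rw [hE', h', Fin.val_castSucc]
    rcases Nat.eq_zero_or_eq_succ_pred (j : ℕ) with h | h
    · rw [h, RootPoly26.es_zero, RootPoly26.es_zero]
    · rw [h, hz, Cyc26A.op_add, Cyc26A.op_mul, hO, add_zero]


end Groth.Agent.S12663
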