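import Groth.Statements.S12664
import Groth.Agent.Lib.Cyc26.ChernRoots


set_option autoImplicit false
universe u
open CategoryTheory CategoryTheory.Limits AlgebraicGeometry
open Cyc

namespace Groth.Agent.S12664

/-- If 0 → L → E → F → 0 is a short exact sequence on X with L invertible and E, F finite locally free
of ranks m + 1, m, then c(E) = c(L) c(F), that is c_i(E) = c_i(F) + c_1(L) c_{i-1}(F) for i = 1, …,
m and c_{m+1}(E) = c_1(L) c_m(F), as cap operations on every k-cycle α, with c_1(L) ∩ - computed on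
coefficient functions from any nonzero rational sections (Cyc.c1CapFun) applied to the
representatives of c_{i-1}(F) ∩ α. Setting: (X, δ) with Cyc.IsSetup stands for a scheme locally of
finite type over the base (S, δ) (X locally Noetherian with universally catenary local rings, δ a
dimension function); (p : P → X, O_P(1), q) is the projective bundle of E given by its universal
property (KRR.IsProjBundle), p is proper and δP is the induced dimension function (Cyc.DeltaCompat);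
a tuple γ with Cyc.IsChernCap represents (c_0(E) ∩ α, …, c_r(E) ∩ α) through the defining relation
Σ_i (-1)^i c_1(O_P(1))^i ∩ p^*(γ_{r-i}) ∼_rat 0 on P, and classes are compared up to rational
equivalence of representing cycles. -/
theorem result (X : Scheme.{u}) (δ : X → ℤ) (hX : Cyc.IsSetup X δ) (m : ℕ) (E : X.Modules) (hPE : FlatMod.IsFinLocFreeOfRank (m + 1) E) (P : Scheme.{u}) (p : P ⟶ X) (O1 : P.Modules) (q : (Scheme.Modules.pullback p).obj E ⟶ O1) (hP : KRR.IsProjBundle p E O1 q) [IsProper p] (δP : P → ℤ) (hPs : Cyc.IsSetup P δP) (hδ : Cyc.DeltaCompat p δP δ) (F : X.Modules) (hQE : FlatMod.IsFinLocFreeOfRank m F) (Q : Scheme.{u}) (p' : Q ⟶ X) (O1' : Q.Modules) (q' : (Scheme.Modules.pullback p').obj F ⟶ O1') (hQ : KRR.IsProjBundle p' F O1' q') [IsProper p'] (δQ : Q → ℤ) (hQs : Cyc.IsSetup Q δQ) (hδ' : Cyc.DeltaCompat p' δQ δ) (L : X.Modules) (hL : PicF.IsInvertible L) (a : L ⟶ E) (b : E ⟶ F) (hab : a ≫ b = 0) (hex : (ShortComplex.mk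 a b hab).ShortExact) (k : ℤ) (α : AlgebraicCycle X ℤ) (hα : α ∈ Cyc.Zk X δ k) (γ : Fin (m + 2) → AlgebraicCycle X ℤ) (hγ : Cyc.IsChernCap p δ δP O1 (m + 1) k α γ) (γ' : Fin (m + 1) → AlgebraicCycle X ℤ) (hγ' : Cyc.IsChernCap p' δ δQ O1' m k α γ') (t : (ξ : X) → Cyc.secFibre L ξ) (ht : ∀ ξ, t ξ ≠ 0) (ζ : Fin (m + 1) → AlgebraicCycle X ℤ) (hζ : ∀ j, ⇑(ζ j) = Cyc.c1CapFun δ L ⇑(γ' j) t) : (∀ j : Fin m, Cyc.RatEquiv δ (k - ((j : ℕ) : ℤ) - 1) (γ (Fin.succ (Fin.castSucc j))) (γ' (Fin.succ j) + ζ (Fin.castSucc j))) ∧ Cyc.RatEquiv δ (k - (m : ℤ) - 1) (γ (Fin.last (m + 1))) (ζ (Fin.last m)) := by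
  haveI := hX.1
  obtain ⟨S, hS⟩ := Cyc26A.exists_sp hX 1 ![F] ![m] (by intro i; fin_cases i; exact hQE)
  obtain ⟨L', hL', hF'⟩ : ∃ L' : Fin m → S.P.Modules, (∀ j, PicF.IsInvertible (L' j)) ∧
      Cyc26A.FiltL ((Scheme.Modules.pullback S.π).obj F) L' := hS 0
  obtain ⟨w, hw⟩ := Cyc26Split.shortExact_pullback S.π a b hab hex
  have hF := (Cyc26A.filtL_concat Cyc26A.filtL_single hF' _ _ w hw)
  let L₀ : Fin 1 → S.P.Modules := ![(Scheme.Modules.pullback S.π).obj L]
  have hLp := Twist.isInvertible_pullback S.π hL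
  let M : Fin 1 ⊕ Fin m → S.P.Modules := Sum.elim L₀ L'
  have hL₀ : ∀ i, PicF.IsInvertible (L₀ i) := fun i => by
    fin_cases i
    exact hLp
  have hM : ∀ i, PicF.IsInvertible (M i) := fun i => match i with
    | Sum.inl x => hL₀ x
    | Sum.inr x => hL' x
  have hap : ∀ i, PicF.IsInvertible (Fin.append L₀ L' i) := fun i => by
    induction i using Fin.addCases with
    | left x => rw [Fin.append_left]; exact hL₀ x
    | right x => rw [Fin.append_right]; exact hL' x
  let z : Fin 1 ⊕ Fin m → MvPolynomial (Fin 1 ⊕ Fin m) ℤ := MvPolynomial.X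
  let g : Fin (m + 1) → MvPolynomial (Fin 1 ⊕ Fin m) ℤ := fun i =>
    z (finSumFinEquiv.symm (Fin.cast (Nat.add_comm m 1) i))
  let Lc : Fin (m + 1) → S.P.Modules := fun i => Fin.append L₀ L' (Fin.cast (Nat.add_comm m 1) i)
  have hFc : Cyc26A.FiltL ((Scheme.Modules.pullback S.π).obj E) Lc := by
    have key : ∀ (N : ℕ) (h : N = 1 + m), Cyc26A.FiltL ((Scheme.Modules.pullback S.π).obj E)
        (fun i : Fin N => Fin.append L₀ L' (Fin.cast h i)) := by
      intro N h
      subst h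
      exact hF
    exact key _ (Nat.add_comm m 1)
  have hg : ∀ i a, Cyc26A.c1 S.hd (hap (Fin.cast (Nat.add_comm m 1) i)) a = Cyc26A.op S.hd hM (g i) a := fun i a => by
    refine Eq.trans (Cyc26A.c1_congr_iso _ _ _ (eqToIso ?_) a) (Cyc26A.op_X S.hd hM _ a).symm
    generalize Fin.cast (Nat.add_comm m 1) i = i'
    induction i' using Fin.addCases with
    | left x => rw [Fin.append_left, finSumFinEquiv_symm_apply_castAdd]; rfl
    | right x => rw [Fin.append_right, finSumFinEquiv_symm_apply_natAdd]; rfl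
  have hE' : ∀ i, S.pl hX (Cyc26A.mk δ (γ i)) =
      Cyc26A.op S.hd hM (RootPoly26.es z (i : ℕ)) (S.pl hX (Cyc26A.mk δ α)) := fun i => by
    rw [S.pl_chern hX hPE hP hPs hδ hM g (fun i => hap _) hg hFc hγ i]
    congr 2
    exact RootPoly26.es_reindex ((finCongr (Nat.add_comm m 1)).trans finSumFinEquiv.symm) z _
  let y : Fin m → MvPolynomial (Fin 1 ⊕ Fin m) ℤ := fun i => z (Sum.inr i)
  have h' : ∀ i, S.pl hX (Cyc26A.mk δ (γ' i)) =
      Cyc26A.op S.hd hM (RootPoly26.es y (i : ℕ)) (S.pl hX (Cyc26A.mk δ α)) := fun i =>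
    S.pl_chern hX hQE hQ hQs hδ' hM y hL' (fun i a => (Cyc26A.op_X S.hd hM (Sum.inr i) a).symm) hF' hγ' i
  have hz : ∀ i, RootPoly26.es z (i + 1) = RootPoly26.es y (i + 1) + z (Sum.inl 0) * RootPoly26.es y i := fun i => by
    rw [← Sum.elim_comp_inl_inr z, RootPoly26.es_sum_single]
    rfl
  have hζ' : ∀ j, S.pl hX (Cyc26A.mk δ (ζ j)) =
      Cyc26A.op S.hd hM (z (Sum.inl 0) * RootPoly26.es y (j : ℕ)) (S.pl hX (Cyc26A.mk δ α)) := fun j => by
    rw [S.pl_c1_cycle hX hL ht _ _ (hζ j), h', Cyc26A.op_mul]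
    exact (Cyc26A.op_X S.hd hM (Sum.inl 0) _).symm
  have hzk : ∀ j : Fin (m + 1), ζ j ∈ Cyc.Zk X δ (k - ((j : ℕ) : ℤ) - 1) := fun j =>
    Cyc26.c1Cap_mem_Zk (by rw [sub_add_cancel]; exact hγ'.2.1 j) (hζ j)
  refine ⟨fun j => S.ratEquiv hX (fun x hx => hγ.2.1 _ x ?_) (fun x hx => ?_) ?_,
    S.ratEquiv hX (fun x hx => hγ.2.1 _ x ?_) (fun x hx => hzk (Fin.last m) x ?_) ?_⟩
  · simp only [Fin.val_succ, Fin.val_castSucc]
    push_cast
    omega
  · show γ' (Fin.succ j) x + ζ (Fin.castSucc j) x = 0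
    rw [hγ'.2.1 (Fin.succ j) x (by simp only [Fin.val_succ]; push_cast; omega),
      hzk (Fin.castSucc j) x (by simp only [Fin.val_castSucc]; exact hx), add_zero]
  · rw [map_add, map_add, hE', h', hζ', Fin.val_succ, Fin.val_succ, Fin.val_castSucc, hz, Cyc26A.op_add]
  · simp only [Fin.val_last]
    push_cast
    omega
  · simp only [Fin.val_last]
    exact hx
  · rw [hE', hζ', Fin.val_last, Fin.val_last, hz, RootPoly26.es_eq_zero y (by simp), zero_add]


end Groth.Agent.S12664
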