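import Groth.Statements.S12665
import Groth.Agent.Lib.Cyc26.ChernRoots


set_option autoImplicit false
universe u
open CategoryTheory CategoryTheory.Limits AlgebraicGeometry
open Cyc

namespace Groth.Agent.S12665

/-- For a short exact sequence 0 → E₁ → E → E₂ → 0 of finite locally free modules of ranks r₁, r₁ + r₂,
r₂ on X, c(E) = c(E₁) c(E₂), that is c_j(E) ∩ α ∼_rat Σ_{a+b=j} c_a(E₁) ∩ (c_b(E₂) ∩ α) for every
k-cycle α and every j; the inner caps are represented by a tuple for E₂ over α and, for each of its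
components, a tuple for E₁ over it. Setting: (X, δ) with Cyc.IsSetup stands for a scheme locally of
finite type over the base (S, δ) (X locally Noetherian with universally catenary local rings, δ a
dimension function); (p : P → X, O_P(1), q) is the projective bundle of E given by its universal
property (KRR.IsProjBundle), p is proper and δP is the induced dimension function (Cyc.DeltaCompat);
a tuple γ with Cyc.IsChernCap represents (c_0(E) ∩ α, …, c_r(E) ∩ α) through the defining relation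
Σ_i (-1)^i c_1(O_P(1))^i ∩ p^*(γ_{r-i}) ∼_rat 0 on P, and classes are compared up to rational
equivalence of representing cycles. -/
theorem result (X : Scheme.{u}) (δ : X → ℤ) (hX : Cyc.IsSetup X δ) (r₁ r₂ : ℕ) (E₁ : X.Modules) (hP₁E : FlatMod.IsFinLocFreeOfRank r₁ E₁) (P₁ : Scheme.{u}) (p₁ : P₁ ⟶ X) (O₁ : P₁.Modules) (q₁ : (Scheme.Modules.pullback p₁).obj E₁ ⟶ O₁) (hP₁ : KRR.IsProjBundle p₁ E₁ O₁ q₁) [IsProper p₁] (δ₁ : P₁ → ℤ) (hP₁s : Cyc.IsSetup P₁ δ₁) (hδ₁ : Cyc.DeltaCompat p₁ δ₁ δ) (E : X.Modules) (hPE : FlatMod.IsFinLocFreeOfRank (r₁ + r₂) E) (P : Scheme.{u}) (p : P ⟶ X) (O1 : P.Modules) (q : (Scheme.Modules.pullback p).obj E ⟶ O1) (hP : KRR.IsProjBundle p E O1 q) [IsProper p] (δP : P → ℤ) (hPs : Cyc.IsSetup P δP) (hδ : Cyc.DeltaCompat p δP δ) (E₂ : X.Modules) (hP₂E : FlatMod.IsFinLocFreeOfRank r₂ E₂) (P₂ : Scheme.{u}) (p₂ : P₂ ⟶ X) (O₂ : P₂.Modules) (q₂ : (Scheme.Modules.pullback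 p₂).obj E₂ ⟶ O₂) (hP₂ : KRR.IsProjBundle p₂ E₂ O₂ q₂) [IsProper p₂] (δ₂ : P₂ → ℤ) (hP₂s : Cyc.IsSetup P₂ δ₂) (hδ₂ : Cyc.DeltaCompat p₂ δ₂ δ) (a : E₁ ⟶ E) (b : E ⟶ E₂) (hab : a ≫ b = 0) (hex : (ShortComplex.mk a b hab).ShortExact) (k : ℤ) (α : AlgebraicCycle X ℤ) (hα : α ∈ Cyc.Zk X δ k) (γ₂ : Fin (r₂ + 1) → AlgebraicCycle X ℤ) (hγ₂ : Cyc.IsChernCap p₂ δ δ₂ O₂ r₂ k α γ₂) (ε : Fin (r₂ + 1) → Fin (r₁ + 1) → AlgebraicCycle X ℤ) (hε : ∀ b : Fin (r₂ + 1), Cyc.IsChernCap p₁ δ δ₁ O₁ r₁ (k - ((b : ℕ) : ℤ)) (γ₂ b) (ε b)) (γ : Fin (r₁ + r₂ + 1) → AlgebraicCycle X ℤ) (hγ : Cyc.IsChernCap p δ δP O1 (r₁ + r₂) k α γ) (j : Fin (r₁ + r₂ + 1)) : Cyc.RatEquiv δ (k - ((j : ℕ) : ℤ)) (γ j) (∑ a : Fin (r₁ + 1), ∑ b : Fin (r₂ + 1), if (a : ℕ) + (b : ℕ) = (j : ℕ) then ε b a else 0) := by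
  haveI := hX.1
  obtain ⟨S, hS⟩ := Cyc26A.exists_sp hX 2 ![E₁, E₂] ![r₁, r₂] (by intro i; fin_cases i <;> assumption)
  obtain ⟨L₁, hL₁, hF₁⟩ : ∃ L : Fin r₁ → S.P.Modules, (∀ j, PicF.IsInvertible (L j)) ∧
      Cyc26A.FiltL ((Scheme.Modules.pullback S.π).obj E₁) L := hS 0
  obtain ⟨L₂, hL₂, hF₂⟩ : ∃ L : Fin r₂ → S.P.Modules, (∀ j, PicF.IsInvertible (L j)) ∧
      Cyc26A.FiltL ((Scheme.Modules.pullback S.π).obj E₂) L := hS 1
  obtain ⟨w, hw⟩ := Cyc26Split.shortExact_pullback S.π a b hab hex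
  have hF := Cyc26A.filtL_concat hF₁ hF₂ _ _ w hw
  let M : Fin r₁ ⊕ Fin r₂ → S.P.Modules := Sum.elim L₁ L₂
  have hM : ∀ i, PicF.IsInvertible (M i) := fun i => match i with
    | Sum.inl x => hL₁ x
    | Sum.inr x => hL₂ x
  have hap : ∀ i, PicF.IsInvertible (Fin.append L₁ L₂ i) := fun i => by
    induction i using Fin.addCases with
    | left x => rw [Fin.append_left]; exact hL₁ x
    | right x => rw [Fin.append_right]; exact hL₂ x
  let g : Fin (r₁ + r₂) → MvPolynomial (Fin r₁ ⊕ Fin r₂) ℤ := fun i => MvPolynomial.X (finSumFinEquiv.symm i)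
  have hg : ∀ i a, Cyc26A.c1 S.hd (hap i) a = Cyc26A.op S.hd hM (g i) a := fun i a => by
    refine Eq.trans (Cyc26A.c1_congr_iso _ _ _ (eqToIso ?_) a) (Cyc26A.op_X S.hd hM (finSumFinEquiv.symm i) a).symm
    induction i using Fin.addCases with
    | left x => rw [Fin.append_left, finSumFinEquiv_symm_apply_castAdd]; rfl
    | right x => rw [Fin.append_right, finSumFinEquiv_symm_apply_natAdd]; rfl
  refine S.ratEquiv hX (hγ.2.1 j) (fun x hx => ?_) ?_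
  · rw [Cyc26PB.cycle_sum_apply]
    refine Finset.sum_eq_zero fun a' _ => ?_
    rw [Cyc26PB.cycle_sum_apply]
    refine Finset.sum_eq_zero fun b' _ => ?_
    split_ifs with h
    · exact (hε b').2.1 a' x (by rw [← h] at hx; push_cast at hx; omega)
    · rfl
  have h2 : ∀ b', S.pl hX (Cyc26A.mk δ (γ₂ b')) = _ := fun b' =>
    S.pl_chern hX hP₂E hP₂ hP₂s hδ₂ hM (fun i => MvPolynomial.X (Sum.inr i)) hL₂
      (fun i a => (Cyc26A.op_X S.hd hM (Sum.inr i) a).symm) hF₂ hγ₂ b'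
  have h1 : ∀ b' a', S.pl hX (Cyc26A.mk δ (ε b' a')) = _ := fun b' a' =>
    S.pl_chern hX hP₁E hP₁ hP₁s hδ₁ hM (fun i => MvPolynomial.X (Sum.inl i)) hL₁
      (fun i a => (Cyc26A.op_X S.hd hM (Sum.inl i) a).symm) hF₁ (hε b') a'
  have hz : RootPoly26.es g (j : ℕ) = RootPoly26.es (Sum.elim (fun i : Fin r₁ =>
      (MvPolynomial.X (Sum.inl i) : MvPolynomial (Fin r₁ ⊕ Fin r₂) ℤ)) (fun i : Fin r₂ => MvPolynomial.X (Sum.inr i)))
      (j : ℕ) := by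
    rw [← RootPoly26.es_reindex finSumFinEquiv.symm]
    congr 1
    funext i
    simp only [g, Function.comp_apply]
    rcases finSumFinEquiv.symm i with x | x <;> rfl
  have hsplit := RootPoly26.es_sum (fun i : Fin r₁ =>
      (MvPolynomial.X (Sum.inl i) : MvPolynomial (Fin r₁ ⊕ Fin r₂) ℤ)) (fun i : Fin r₂ => MvPolynomial.X (Sum.inr i))
      (j : ℕ)
  rw [S.pl_chern hX hPE hP hPs hδ hM g hap hg hF hγ j, hz, hsplit, Cyc26A.op_sum, map_sum, map_sum]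
  refine Fintype.sum_equiv (finCongr (by rw [Fintype.card_fin])) _ _ fun a' => ?_
  rw [Cyc26A.op_sum, map_sum, map_sum]
  refine Fintype.sum_equiv (finCongr (by rw [Fintype.card_fin])) _ _ fun b' => ?_
  simp only [finCongr_apply, Fin.val_cast]
  split_ifs with h
  · rw [h1, h2, ← Cyc26A.op_mul]
    rfl
  · rw [Cyc26A.op_zero, map_zero, map_zero]

end Groth.Agent.S12665
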