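import Groth.Statements.S12666
import Groth.Agent.Lib.Cyc26.ChernRoots


set_option autoImplicit false
universe u
open CategoryTheory CategoryTheory.Limits AlgebraicGeometry
open Cyc

namespace Groth.Agent.S12666

/-- For E finite locally free of rank r and L invertible on X, c_i(E ⊗ L) = Σ_{j=0}^{i} C(r-i+j, j)
c_{i-j}(E) c_1(L)^j for i ≤ r, as cap operations on every k-cycle α: c_i(E ⊗ L) ∩ α ∼_rat Σ_j
C(r-i+j, j) c_1(L)^j ∩ (c_{i-j}(E) ∩ α), where c_1(L)^j ∩ - is the j-fold iterated cap on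
coefficient functions with any nonzero rational sections (Cyc.c1PowFun) and E ⊗ L is the tensor
product of O_X-modules (CohB1.tensorMod). Setting: (X, δ) with Cyc.IsSetup stands for a scheme
locally of finite type over the base (S, δ) (X locally Noetherian with universally catenary local
rings, δ a dimension function); (p : P → X, O_P(1), q) is the projective bundle of E given by its
universal property (KRR.IsProjBundle), p is proper and δP is the induced dimension function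
(Cyc.DeltaCompat); a tuple γ with Cyc.IsChernCap represents (c_0(E) ∩ α, …, c_r(E) ∩ α) through the
defining relation Σ_i (-1)^i c_1(O_P(1))^i ∩ p^*(γ_{r-i}) ∼_rat 0 on P, and classes are compared up
to rational equivalence of representing cycles. -/
theorem result (X : Scheme.{u}) (δ : X → ℤ) (hX : Cyc.IsSetup X δ) (r : ℕ) (E : X.Modules) (hPE : FlatMod.IsFinLocFreeOfRank r E) (P : Scheme.{u}) (p : P ⟶ X) (O1 : P.Modules) (q : (Scheme.Modules.pullback p).obj E ⟶ O1) (hP : KRR.IsProjBundle p E O1 q) [IsProper p] (δP : P → ℤ) (hPs : Cyc.IsSetup P δP) (hδ : Cyc.DeltaCompat p δP δ) (L : X.Modules) (hL : PicF.IsInvertible L) (hP'E : FlatMod.IsFinLocFreeOfRank r (CohB1.tensorMod E L)) (P' : Scheme.{u}) (p' : P' ⟶ X) (O1' : P'.Modules) (q' : (Scheme.Modules.pullback p').obj (CohB1.tensorMod E L) ⟶ O1') (hP' : KRR.IsProjBundle p' (CohB1.tensorMod E L) O1' q') [IsProper p'] (δP' : P' → ℤ) (hPs' : Cyc.IsSetup P' δP') (hδ' : Cyc.DeltaCompat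 p' δP' δ) (k : ℤ) (α : AlgebraicCycle X ℤ) (hα : α ∈ Cyc.Zk X δ k) (γ : Fin (r + 1) → AlgebraicCycle X ℤ) (hγ : Cyc.IsChernCap p δ δP O1 r k α γ) (γ' : Fin (r + 1) → AlgebraicCycle X ℤ) (hγ' : Cyc.IsChernCap p' δ δP' O1' r k α γ') (t : ℕ → (ξ : X) → Cyc.secFibre L ξ) (ht : ∀ m ξ, t m ξ ≠ 0) (i : Fin (r + 1)) (ζ : Fin (r + 1) → AlgebraicCycle X ℤ) (hζ : ∀ j : Fin (r + 1), (j : ℕ) ≤ (i : ℕ) → ⇑(ζ j) = Cyc.c1PowFun δ L t j ⇑(γ ⟨(i : ℕ) - (j : ℕ), Nat.lt_of_le_of_lt (Nat.sub_le _ _) i.isLt⟩)) : Cyc.RatEquiv δ (k - ((i : ℕ) : ℤ)) (γ' i) (∑ j : Fin (r + 1), if (j : ℕ) ≤ (i : ℕ) then ((Nat.choose (r - i + j) j : ℕ) : ℤ) • ζ j else 0) := by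
  haveI := hX.1
  obtain ⟨S, hS⟩ := Cyc26A.exists_sp hX 1 ![E] ![r] (by intro i; fin_cases i; exact hPE)
  obtain ⟨L', hL', hF⟩ : ∃ L' : Fin r → S.P.Modules, (∀ j, PicF.IsInvertible (L' j)) ∧
      Cyc26A.FiltL ((Scheme.Modules.pullback S.π).obj E) L' := hS 0
  have hLp := Twist.isInvertible_pullback S.π hL
  have hF' := (hF.tensor (M2.isFinLocFree_of_isInvertible hLp)).of_iso (M2.pullTensorIso S.π E L).symm
  let M : Fin r ⊕ Fin 1 → S.P.Modules := Sum.elim L' fun _ => (Scheme.Modules.pullback S.π).obj L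
  have hM : ∀ l, PicF.IsInvertible (M l) := fun l => match l with
    | Sum.inl x => hL' x
    | Sum.inr _ => hLp
  let T : MvPolynomial (Fin r ⊕ Fin 1) ℤ := MvPolynomial.X (Sum.inr 0)
  let x : Fin r → MvPolynomial (Fin r ⊕ Fin 1) ℤ := fun l => MvPolynomial.X (Sum.inl l)
  have hE : ∀ l, S.pl hX (Cyc26A.mk δ (γ l)) =
      Cyc26A.op S.hd hM (RootPoly26.es x (l : ℕ)) (S.pl hX (Cyc26A.mk δ α)) := fun l =>
    S.pl_chern hX hPE hP hPs hδ hM x hL' (fun l a => (Cyc26A.op_X S.hd hM (Sum.inl l) a).symm) hF hγ l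
  have hE' : ∀ l, S.pl hX (Cyc26A.mk δ (γ' l)) =
      Cyc26A.op S.hd hM (RootPoly26.es (fun m => x m + T) (l : ℕ)) (S.pl hX (Cyc26A.mk δ α)) := fun l =>
    S.pl_chern hX hP'E hP' hPs' hδ' hM (fun m => x m + T) (fun m => M2.isInvertible_tensor (hL' m) hLp)
      (fun m a => by
        rw [Cyc26A.op_add]
        exact (Cyc26A.c1_tensor S.hd (hL' m) hLp a).trans (congrArg₂ (· + ·)
          (Cyc26A.op_X S.hd hM (Sum.inl m) a).symm (Cyc26A.op_X S.hd hM (Sum.inr 0) a).symm)) hF' hγ' l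
  have hpow : ∀ (n : ℕ) (a : Cyc26A.A δ), S.pl hX (Cyc26A.c1p hX.2.2 hL n a) =
      Cyc26A.op S.hd hM (T ^ n) (S.pl hX a) := by
    intro n a
    induction n with
    | zero => rw [pow_zero, Cyc26A.op_one]; rfl
    | succ n ih =>
      rw [Cyc26A.c1p_succ, S.pl_c1, ih, pow_succ', Cyc26A.op_mul]
      exact (Cyc26A.op_X S.hd hM (Sum.inr 0) _).symm
  have hζe : ∀ j : Fin (r + 1), (j : ℕ) ≤ (i : ℕ) → ζ j =
      Cyc26A.capPow hX.2.2 hL ht j (γ ⟨(i : ℕ) - (j : ℕ), Nat.lt_of_le_of_lt (Nat.sub_le _ _) i.isLt⟩) := by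
    intro j hj
    ext z
    rw [hζ j hj, Cyc26A.c1PowFun_eq, Cyc26A.capPow_coe]
  refine S.ratEquiv hX (hγ'.2.1 i) (fun z hz => ?_) ?_
  · rw [Cyc26PB.cycle_sum_apply]
    refine Finset.sum_eq_zero fun j _ => ?_
    split_ifs with hj
    · rw [Function.locallyFinsuppWithin.coe_zsmul, Pi.smul_apply]
      have h0 : Cyc26A.part δ (k - ((i : ℕ) : ℤ)) (ζ j) = ζ j := by
        rw [hζe j hj, Cyc26A.part_capPow]
        congr 1
        ext w
        refine Cyc26A.part_of_mem (fun v hv => hγ.2.1 _ v fun hv' => hv ?_) w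
        rw [hv']
        dsimp only
        push_cast [Nat.cast_sub hj]
        ring
      rw [← h0, Cyc26A.part_apply, if_neg hz, smul_zero]
    · rfl
  · rw [hE' i, RootPoly26.es_add_const x T (by rw [Fintype.card_fin]; omega), Cyc26A.op_sum, map_sum, map_sum]
    refine Fintype.sum_equiv (finCongr (by rw [Fintype.card_fin])) _ _ fun j => ?_
    simp only [finCongr_apply, Fin.val_cast, Fintype.card_fin]
    split_ifs with hj
    · rw [Cyc26A.op_zsmul, Cyc26A.op_mul, map_zsmul, map_zsmul, hζe _ (by simpa using hj), Cyc26A.mk_capPow, hpow, hE]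
      rfl
    · rw [Cyc26A.op_zero, map_zero, map_zero]


end Groth.Agent.S12666
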