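import Groth.Statements.S12668
import Groth.Agent.Lib.Cyc26.ChernTensor


set_option autoImplicit false
universe u
open CategoryTheory CategoryTheory.Limits AlgebraicGeometry
open Cyc

namespace Groth.Agent.S12668

/-- For E, F finite locally free of ranks r, s on X, c_1(E ⊗ F) = r c_1(F) + s c_1(E), as cap operations
on every k-cycle α; E ⊗ F is the tensor product of O_X-modules (CohB1.tensorMod), of rank rs, and
enters through its own projective bundle. Stated for r, s ≥ 1. Setting: (X, δ) with Cyc.IsSetup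
stands for a scheme locally of finite type over the base (S, δ) (X locally Noetherian with
universally catenary local rings, δ a dimension function); (p : P → X, O_P(1), q) is the projective
bundle of E given by its universal property (KRR.IsProjBundle), p is proper and δP is the induced
dimension function (Cyc.DeltaCompat); a tuple γ with Cyc.IsChernCap represents (c_0(E) ∩ α, …,
c_r(E) ∩ α) through the defining relation Σ_i (-1)^i c_1(O_P(1))^i ∩ p^*(γ_{r-i}) ∼_rat 0 on P, and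
classes are compared up to rational equivalence of representing cycles. -/
theorem result (X : Scheme.{u}) (δ : X → ℤ) (hX : Cyc.IsSetup X δ) (r s : ℕ) (hr : 1 ≤ r) (hs : 1 ≤ s) (E : X.Modules) (hPE : FlatMod.IsFinLocFreeOfRank r E) (P : Scheme.{u}) (p : P ⟶ X) (O1 : P.Modules) (q : (Scheme.Modules.pullback p).obj E ⟶ O1) (hP : KRR.IsProjBundle p E O1 q) [IsProper p] (δP : P → ℤ) (hPs : Cyc.IsSetup P δP) (hδ : Cyc.DeltaCompat p δP δ) (F : X.Modules) (hQE : FlatMod.IsFinLocFreeOfRank s F) (Q : Scheme.{u}) (p' : Q ⟶ X) (O1' : Q.Modules) (q' : (Scheme.Modules.pullback p').obj F ⟶ O1') (hQ : KRR.IsProjBundle p' F O1' q') [IsProper p'] (δQ : Q → ℤ) (hQs : Cyc.IsSetup Q δQ) (hδ' : Cyc.DeltaCompat p' δQ δ) (hTE : FlatMod.IsFinLocFreeOfRank (r * s) (CohB1.tensorMod E F)) (T : Scheme.{u}) (p'' : T ⟶ X) (O1'' : T.Modules) (q'' : (Scheme.Modules.pullback p'').obj (CohB1.tensorMod E F) ⟶ O1'') (hT : KRR.IsProjBundle p''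 (CohB1.tensorMod E F) O1'' q'') [IsProper p''] (δT : T → ℤ) (hTs : Cyc.IsSetup T δT) (hδ'' : Cyc.DeltaCompat p'' δT δ) (k : ℤ) (α : AlgebraicCycle X ℤ) (hα : α ∈ Cyc.Zk X δ k) (ε : Fin (r + 1) → AlgebraicCycle X ℤ) (hε : Cyc.IsChernCap p δ δP O1 r k α ε) (φ : Fin (s + 1) → AlgebraicCycle X ℤ) (hφ : Cyc.IsChernCap p' δ δQ O1' s k α φ) (τ : Fin (r * s + 1) → AlgebraicCycle X ℤ) (hτ : Cyc.IsChernCap p'' δ δT O1'' (r * s) k α τ) : Cyc.RatEquiv δ (k - 1) (τ ⟨1, Nat.lt_succ_of_le (Nat.mul_pos hr hs)⟩) (((r : ℕ) : ℤ) • φ ⟨1, Nat.lt_succ_of_le hs⟩ + ((s : ℕ) : ℤ) • ε ⟨1, Nat.lt_succ_of_le hr⟩) := by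
  haveI := hX.1
  obtain ⟨S, hS⟩ := Cyc26A.exists_sp hX 2 ![E, F] ![r, s] (by intro i; fin_cases i <;> assumption)
  obtain ⟨L, hL, hFE⟩ : ∃ L : Fin r → S.P.Modules, (∀ j, PicF.IsInvertible (L j)) ∧
      Cyc26A.FiltL ((Scheme.Modules.pullback S.π).obj E) L := hS 0
  obtain ⟨L', hL', hFF⟩ : ∃ L : Fin s → S.P.Modules, (∀ j, PicF.IsInvertible (L j)) ∧
      Cyc26A.FiltL ((Scheme.Modules.pullback S.π).obj F) L := hS 1
  have hM : ∀ i, PicF.IsInvertible (Sum.elim L L' i) := fun i => match i with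
    | Sum.inl x => hL x
    | Sum.inr x => hL' x
  let x : Fin r → MvPolynomial (Fin r ⊕ Fin s) ℤ := fun l => MvPolynomial.X (Sum.inl l)
  let y : Fin s → MvPolynomial (Fin r ⊕ Fin s) ℤ := fun l => MvPolynomial.X (Sum.inr l)
  have hx : ∀ {k' : ℤ} {α' : AlgebraicCycle X ℤ} {γ : Fin (r + 1) → AlgebraicCycle X ℤ},
      Cyc.IsChernCap p δ δP O1 r k' α' γ → ∀ l, S.pl hX (Cyc26A.mk δ (γ l)) =
      Cyc26A.op S.hd hM (RootPoly26.es x (l : ℕ)) (S.pl hX (Cyc26A.mk δ α')) := fun hγ l =>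
    S.pl_chern hX hPE hP hPs hδ hM x hL (fun l a => (Cyc26A.op_X S.hd hM (Sum.inl l) a).symm) hFE hγ l
  have hy : ∀ {k' : ℤ} {α' : AlgebraicCycle X ℤ} {γ : Fin (s + 1) → AlgebraicCycle X ℤ},
      Cyc.IsChernCap p' δ δQ O1' s k' α' γ → ∀ l, S.pl hX (Cyc26A.mk δ (γ l)) =
      Cyc26A.op S.hd hM (RootPoly26.es y (l : ℕ)) (S.pl hX (Cyc26A.mk δ α')) := fun hγ l =>
    S.pl_chern hX hQE hQ hQs hδ' hM y hL' (fun l a => (Cyc26A.op_X S.hd hM (Sum.inr l) a).symm) hFF hγ l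
  have ht := fun l => S.pl_chern_tensor hX hQE hTE hT hTs hδ'' hL hL' hFE hFF hM hτ l
  refine S.ratEquiv hX (fun z hz => hτ.2.1 _ z (by simpa using hz)) (fun z hz => ?_) ?_
  · show ((r : ℕ) : ℤ) * φ _ z + ((s : ℕ) : ℤ) * ε _ z = 0
    rw [hφ.2.1 _ z (by simpa using hz), hε.2.1 _ z (by simpa using hz), mul_zero, mul_zero, add_zero]
  · rw [ht, map_add, map_add, map_zsmul, map_zsmul, map_zsmul, map_zsmul, hx hε, hy hφ, ← Cyc26A.op_zsmul,
      ← Cyc26A.op_zsmul, ← Cyc26A.op_add]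
    refine congrArg (fun z => Cyc26A.op S.hd hM z (S.pl hX (Cyc26A.mk δ α))) ?_
    dsimp only
    rw [RootPoly26.es_one_prod x y]
    simp only [Fintype.card_fin, natCast_zsmul]
    exact add_comm _ _


end Groth.Agent.S12668
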