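import Groth.Statements.S12669
import Groth.Agent.Lib.Cyc26.ChernTensor


set_option autoImplicit false
universe u
open CategoryTheory CategoryTheory.Limits AlgebraicGeometry
open Cyc

namespace Groth.Agent.S12669

/-- For E, F finite locally free of ranks r, s on X, c_2(E ⊗ F) = r c_2(F) + s c_2(E) + C(r,2) c_1(F)^2
+ (rs - 1) c_1(F) c_1(E) + C(s,2) c_1(E)^2, as cap operations on every k-cycle α; products of
classes are iterated caps represented by nested tuples (a tuple for F, resp. E, over the first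
component of a tuple for F; a tuple for E over the first component of a tuple for E), c_2 of a
module of rank < 2 is 0, and E ⊗ F (CohB1.tensorMod, rank rs) enters through its own projective
bundle. Stated for r, s ≥ 1. Setting: (X, δ) with Cyc.IsSetup stands for a scheme locally of finite
type over the base (S, δ) (X locally Noetherian with universally catenary local rings, δ a dimension
function); (p : P → X, O_P(1), q) is the projective bundle of E given by its universal property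
(KRR.IsProjBundle), p is proper and δP is the induced dimension function (Cyc.DeltaCompat); a tuple
γ with Cyc.IsChernCap represents (c_0(E) ∩ α, …, c_r(E) ∩ α) through the defining relation Σ_i
(-1)^i c_1(O_P(1))^i ∩ p^*(γ_{r-i}) ∼_rat 0 on P, and classes are compared up to rational
equivalence of representing cycles. -/
theorem result (X : Scheme.{u}) (δ : X → ℤ) (hX : Cyc.IsSetup X δ) (r s : ℕ) (hr : 1 ≤ r) (hs : 1 ≤ s) (E : X.Modules) (hPE : FlatMod.IsFinLocFreeOfRank r E) (P : Scheme.{u}) (p : P ⟶ X) (O1 : P.Modules) (q : (Scheme.Modules.pullback p).obj E ⟶ O1) (hP : KRR.IsProjBundle p E O1 q) [IsProper p] (δP : P → ℤ) (hPs : Cyc.IsSetup P δP) (hδ : Cyc.DeltaCompat p δP δ) (F : X.Modules) (hQE : FlatMod.IsFinLocFreeOfRank s F) (Q : Scheme.{u}) (p' : Q ⟶ X) (O1' : Q.Modules) (q' : (Scheme.Modules.pullback p').obj F ⟶ O1') (hQ : KRR.IsProjBundle p' F O1' q') [IsProper p'] (δQ : Q → ℤ)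 (hQs : Cyc.IsSetup Q δQ) (hδ' : Cyc.DeltaCompat p' δQ δ) (hTE : FlatMod.IsFinLocFreeOfRank (r * s) (CohB1.tensorMod E F)) (T : Scheme.{u}) (p'' : T ⟶ X) (O1'' : T.Modules) (q'' : (Scheme.Modules.pullback p'').obj (CohB1.tensorMod E F) ⟶ O1'') (hT : KRR.IsProjBundle p'' (CohB1.tensorMod E F) O1'' q'') [IsProper p''] (δT : T → ℤ) (hTs : Cyc.IsSetup T δT) (hδ'' : Cyc.DeltaCompat p'' δT δ) (k : ℤ) (α : AlgebraicCycle X ℤ) (hα : α ∈ Cyc.Zk X δ k) (ε : Fin (r + 1) → AlgebraicCycle X ℤ) (hε : Cyc.IsChernCap p δ δP O1 r k α ε) (φ : Fin (s + 1) → AlgebraicCycle X ℤ) (hφ : Cyc.IsChernCap p' δ δQ O1' s k α φ) (τ : Fin (r * s + 1) → AlgebraicCycle X ℤ) (hτ : Cyc.IsChernCap p'' δ δT O1'' (r * s) k α τ) (φφ : Fin (s + 1) → AlgebraicCycle X ℤ) (hφφ : Cyc.IsChernCap p' δ δQ O1' s (k - 1) (φ ⟨1, Nat.lt_succ_of_le hs⟩) φφ) (εφ : Fin (r + 1) → AlgebraicCycle X ℤ) (hεφ : Cyc.IsChernCap p δ δP O1 r (k - 1) (φ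 ⟨1, Nat.lt_succ_of_le hs⟩) εφ) (εε : Fin (r + 1) → AlgebraicCycle X ℤ) (hεε : Cyc.IsChernCap p δ δP O1 r (k - 1) (ε ⟨1, Nat.lt_succ_of_le hr⟩) εε) : Cyc.RatEquiv δ (k - 2) (if h2 : 2 ≤ r * s then τ ⟨2, Nat.lt_succ_of_le h2⟩ else 0) (((r : ℕ) : ℤ) • (if h2 : 2 ≤ s then φ ⟨2, Nat.lt_succ_of_le h2⟩ else 0) + ((s : ℕ) : ℤ) • (if h2 : 2 ≤ r then ε ⟨2, Nat.lt_succ_of_le h2⟩ else 0) + ((Nat.choose r 2 : ℕ) : ℤ) • φφ ⟨1, Nat.lt_succ_of_le hs⟩ + (((r * s : ℕ) : ℤ) - 1) • εφ ⟨1, Nat.lt_succ_of_le hr⟩ + ((Nat.choose s 2 : ℕ) : ℤ) • εε ⟨1, Nat.lt_succ_of_le hr⟩) := by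
  haveI := hX.1
  obtain ⟨S, hS⟩ := Cyc26A.exists_sp hX 2 ![E, F] ![r, s] (by intro i; fin_cases i <;> assumption)
  obtain ⟨L, hL, hFE⟩ : ∃ L : Fin r → S.P.Modules, (∀ j, PicF.IsInvertible (L j)) ∧
      Cyc26A.FiltL ((Scheme.Modules.pullback S.π).obj E) L := hS 0
  obtain ⟨L', hL', hFF⟩ : ∃ L : Fin s → S.P.Modules, (∀ j, PicF.IsInvertible (L j)) ∧
      Cyc26A.FiltL ((Scheme.Modules.pullback S.π).obj F) L := hS 1
  have hM : ∀ i, PicF.IsInvertible (Sum.elim L L' i) := fun i => match i with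
    | Sum.inl x => hL x
    | Sum.inr x => hL' x
  let x : Fin r → MvPolynomial (Fin r ⊕ Fin s) ℤ := fun l => MvPolynomial.X (Sum.inl l)
  let y : Fin s → MvPolynomial (Fin r ⊕ Fin s) ℤ := fun l => MvPolynomial.X (Sum.inr l)
  have hx : ∀ {k' : ℤ} {α' : AlgebraicCycle X ℤ} {γ : Fin (r + 1) → AlgebraicCycle X ℤ},
      Cyc.IsChernCap p δ δP O1 r k' α' γ → ∀ l, S.pl hX (Cyc26A.mk δ (γ l)) =
      Cyc26A.op S.hd hM (RootPoly26.es x (l : ℕ)) (S.pl hX (Cyc26A.mk δ α')) := fun hγ l =>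
    S.pl_chern hX hPE hP hPs hδ hM x hL (fun l a => (Cyc26A.op_X S.hd hM (Sum.inl l) a).symm) hFE hγ l
  have hy : ∀ {k' : ℤ} {α' : AlgebraicCycle X ℤ} {γ : Fin (s + 1) → AlgebraicCycle X ℤ},
      Cyc.IsChernCap p' δ δQ O1' s k' α' γ → ∀ l, S.pl hX (Cyc26A.mk δ (γ l)) =
      Cyc26A.op S.hd hM (RootPoly26.es y (l : ℕ)) (S.pl hX (Cyc26A.mk δ α')) := fun hγ l =>
    S.pl_chern hX hQE hQ hQs hδ' hM y hL' (fun l a => (Cyc26A.op_X S.hd hM (Sum.inr l) a).symm) hFF hγ l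
  have ht := fun l => S.pl_chern_tensor hX hQE hTE hT hTs hδ'' hL hL' hFE hFF hM hτ l
  have h1r : ((⟨1, Nat.lt_succ_of_le hr⟩ : Fin (r + 1)) : ℕ) = 1 := rfl
  have hτ2 : S.pl hX (Cyc26A.mk δ (if h2 : 2 ≤ r * s then τ ⟨2, Nat.lt_succ_of_le h2⟩ else 0)) =
      Cyc26A.op S.hd hM (RootPoly26.es (fun ab : Fin r × Fin s => x ab.1 + y ab.2) 2) (S.pl hX (Cyc26A.mk δ α)) := by
    split_ifs with h2
    · exact ht _
    · rw [RootPoly26.es_eq_zero _ (by simp; omega), Cyc26A.op_zero, map_zero, map_zero]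
  have hφ2 : S.pl hX (Cyc26A.mk δ (if h2 : 2 ≤ s then φ ⟨2, Nat.lt_succ_of_le h2⟩ else 0)) =
      Cyc26A.op S.hd hM (RootPoly26.es y 2) (S.pl hX (Cyc26A.mk δ α)) := by
    split_ifs with h2
    · exact hy hφ _
    · rw [RootPoly26.es_eq_zero _ (by simp; omega), Cyc26A.op_zero, map_zero, map_zero]
  have hε2 : S.pl hX (Cyc26A.mk δ (if h2 : 2 ≤ r then ε ⟨2, Nat.lt_succ_of_le h2⟩ else 0)) =
      Cyc26A.op S.hd hM (RootPoly26.es x 2) (S.pl hX (Cyc26A.mk δ α)) := by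
    split_ifs with h2
    · exact hx hε _
    · rw [RootPoly26.es_eq_zero _ (by simp; omega), Cyc26A.op_zero, map_zero, map_zero]
  refine S.ratEquiv hX (fun z hz => ?_) (fun z hz => ?_) ?_
  · split_ifs with h2
    · exact hτ.2.1 _ z (by simpa using hz)
    · rfl
  · have a1 : (if h2 : 2 ≤ s then φ ⟨2, Nat.lt_succ_of_le h2⟩ else 0) z = 0 := by
      split_ifs with h2
      · exact hφ.2.1 _ z (by simpa using hz)
      · rfl
    have a2 : (if h2 : 2 ≤ r then ε ⟨2, Nat.lt_succ_of_le h2⟩ else 0) z = 0 := by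
      split_ifs with h2
      · exact hε.2.1 _ z (by simpa using hz)
      · rfl
    show ((r : ℕ) : ℤ) * _ + ((s : ℕ) : ℤ) * _ + ((Nat.choose r 2 : ℕ) : ℤ) * φφ _ z + (((r * s : ℕ) : ℤ) - 1) * εφ _ z +
      ((Nat.choose s 2 : ℕ) : ℤ) * εε _ z = 0
    rw [a1, a2, hφφ.2.1 _ z (by simp only [Nat.cast_one]; omega), hεφ.2.1 _ z (by simp only [Nat.cast_one]; omega),
      hεε.2.1 _ z (by simp only [Nat.cast_one]; omega)]
    ring
  · simp only [map_add, map_zsmul, hτ2, hφ2, hε2, hy hφφ, hx hεφ, hx hεε, hy hφ, hx hε, ← Cyc26A.op_mul]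
    rw [← Cyc26A.op_zsmul, ← Cyc26A.op_zsmul, ← Cyc26A.op_zsmul, ← Cyc26A.op_zsmul, ← Cyc26A.op_zsmul,
      ← Cyc26A.op_add, ← Cyc26A.op_add, ← Cyc26A.op_add, ← Cyc26A.op_add]
    refine congrArg (fun z => Cyc26A.op S.hd hM z (S.pl hX (Cyc26A.mk δ α))) ?_
    rw [RootPoly26.es_two_prod x y]
    simp only [Fintype.card_fin, zsmul_eq_mul, Int.cast_natCast, Int.cast_sub, Int.cast_one, Nat.cast_mul, pow_two]
    push_cast
    ring


end Groth.Agent.S12669
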