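import Groth.Statements.S1267
import Groth.Agent.Lib.CAlgLow.TorNil
import Mathlib.LinearAlgebra.TensorProduct.Quotient
import Mathlib.LinearAlgebra.TensorProduct.Prod
import Mathlib.RingTheory.Flat.Localization
import Groth.Agent.Lib.WLocal.WEProd

set_option autoImplicit false
universe u
open FlatMor

set_option backward.isDefEq.respectTransparency.types false

namespace Groth.Agent.S1267


open TensorProduct
open TensorProduct in
/-- A base change is flat if all points of the new spectrum map into the flat locus. -/
theorem flat_baseChange_of_forall_prime {A W : Type u} [CommRing A] [CommRing W] [Algebra A W]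
    (M : Type u) [AddCommGroup M] [Module A M]
    (h : ∀ (P : Ideal W) [P.IsMaximal], Module.Flat A (LocalizedModule (P.comap (algebraMap A W)).primeCompl M)) :
    Module.Flat W (W ⊗[A] M) := by
  refine Module.flat_of_localized_maximal _ fun P _ => ?_
  let p := P.comap (algebraMap A W)
  haveI : Module.Flat A (LocalizedModule p.primeCompl M) := h P
  let Ap := Localization.AtPrime p
  let WP := Localization.AtPrime P
  letI : Algebra Ap WP := (Localization.localRingHom p P (algebraMap A W) rfl).toAlgebra
  haveI : IsScalarTower A Ap WP := IsScalarTower.of_algebraMap_eq fun a =>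
    ((Localization.localRingHom_to_map p P (algebraMap A W) rfl a).trans
      (IsScalarTower.algebraMap_apply A W WP a).symm).symm
  haveI : Module.Flat Ap (LocalizedModule p.primeCompl M) :=
    (Module.flat_iff_of_isLocalization Ap p.primeCompl _).2 ‹_›
  haveI : Module.Flat Ap (Ap ⊗[A] M) := Module.Flat.of_linearEquiv
    ((isLocalizedModule_iff_isBaseChange p.primeCompl Ap (LocalizedModule.mkLinearMap p.primeCompl M)).1 inferInstance).equiv
  haveI : Module.Flat WP (WP ⊗[A] M) := Module.Flat.of_linearEquiv
    (AlgebraTensorModule.cancelBaseChange A Ap WP WP M).symm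
  haveI : Module.Flat W (WP ⊗[A] M) := Module.Flat.trans W WP _
  exact Module.Flat.of_linearEquiv ((IsBaseChange.equiv
    ((isLocalizedModule_iff_isBaseChange P.primeCompl WP
      (LocalizedModule.mkLinearMap P.primeCompl (W ⊗[A] M))).1 inferInstance)).symm.trans
    (AlgebraTensorModule.cancelBaseChange A W WP WP M) |>.restrictScalars W)

open TensorProduct in
/-- Base change to a product of two rings is flat if it is flat on the factors. -/
theorem flat_baseChange_prod {A T W : Type u} [CommRing A] [CommRing T] [CommRing W] [Algebra A T] [Algebra A W]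
    (M : Type u) [AddCommGroup M] [Module A M] [Module.Flat T (T ⊗[A] M)] [Module.Flat W (W ⊗[A] M)] :
    Module.Flat (T × W) ((T × W) ⊗[A] M) := by
  letI : Algebra (T × W) T := (RingHom.fst T W).toAlgebra
  letI : Algebra (T × W) W := (RingHom.snd T W).toAlgebra
  haveI : IsScalarTower A (T × W) T := IsScalarTower.of_algebraMap_eq fun _ => rfl
  haveI : IsScalarTower A (T × W) W := IsScalarTower.of_algebraMap_eq fun _ => rfl
  let iT : T →ₗ[T × W] T × W := {
    toFun := fun t => (t, 0)
    map_add' := fun a b => by simp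
    map_smul' := fun r t => Prod.ext rfl (mul_zero r.2).symm }
  let iW : W →ₗ[T × W] T × W := {
    toFun := fun t => (0, t)
    map_add' := fun a b => by simp
    map_smul' := fun r t => Prod.ext (mul_zero r.1).symm rfl }
  haveI : Module.Flat (T × W) T := Module.Flat.of_retract iT (Algebra.linearMap (T × W) T) (LinearMap.ext fun _ => rfl)
  haveI : Module.Flat (T × W) W := Module.Flat.of_retract iW (Algebra.linearMap (T × W) W) (LinearMap.ext fun _ => rfl)
  haveI : Module.Flat (T × W) (T ⊗[A] M) := Module.Flat.trans (T × W) T _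
  haveI : Module.Flat (T × W) (W ⊗[A] M) := Module.Flat.trans (T × W) W _
  let e : (T × W) ⊗[A] M →ₗ[T × W] (T ⊗[A] M) × (W ⊗[A] M) :=
    (AlgebraTensorModule.rTensor A M (Algebra.linearMap (T × W) T)).prod
      (AlgebraTensorModule.rTensor A M (Algebra.linearMap (T × W) W))
  let g : (T ⊗[A] M) × (W ⊗[A] M) →ₗ[T × W] (T × W) ⊗[A] M :=
    (AlgebraTensorModule.rTensor A M iT).coprod (AlgebraTensorModule.rTensor A M iW)
  haveI : Module.Flat (T × W) ((T ⊗[A] M) × (W ⊗[A] M)) := Groth.Agent.WLocal.flat_prod
  refine Module.Flat.of_retract e g (LinearMap.ext fun z => ?_)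
  induction z using TensorProduct.induction_on with
  | zero => simp
  | add a b ha hb => rw [map_add, ha, hb]; simp
  | tmul r m =>
    show (iT r.1) ⊗ₜ[A] m + (iW r.2) ⊗ₜ[A] m = r ⊗ₜ[A] m
    rw [← TensorProduct.add_tmul]
    congr 1
    show ((r.1, 0) : T × W) + (0, r.2) = r
    simp


/-- Let A be a local ring, I an ideal, U a quasi-compact open subset of Spec A and M an A-module such
that M/IM is flat over A/I and M_p is flat over A for all p in U. Let I₂ be the kernel of I → Γ(U,
I/I²), that is the set of x ∈ I such that for every p ∈ U some s outside p has s·x ∈ I². Then M/I₂M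
is flat over A/I₂. -/
theorem result {A : Type u} [CommRing A] [IsLocalRing A] (I : Ideal A)
    (U : Set (PrimeSpectrum A)) (hU : IsOpen U) (hUc : IsCompact U)
    (M : Type u) [AddCommGroup M] [Module A M]
    [Module.Flat (A ⧸ I) (M ⧸ (I • ⊤ : Submodule A M))]
    (hflat : ∀ p ∈ U, Module.Flat A (LocalizedModule p.asIdeal.primeCompl M))
    (I₂ : Ideal A) (hI₂ : ∀ x : A, x ∈ I₂ ↔ x ∈ I ∧ ∀ p ∈ U, ∃ s : A, s ∉ p.asIdeal ∧ s * x ∈ I ^ 2) :
    Module.Flat (A ⧸ I₂) (M ⧸ (I₂ • ⊤ : Submodule A M)) := by
  intros
  classical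
  obtain ⟨t, ht⟩ := PrimeSpectrum.isCompact_isOpen_iff.1 ⟨hUc, hU⟩
  let W := Π f : t, Localization.Away f.1
  let T := A ⧸ I
  haveI : Module.Flat T (T ⊗[A] M) := Module.Flat.of_linearEquiv
    (((TensorProduct.quotTensorEquivQuotSMul M I)).extendScalarsOfSurjective Ideal.Quotient.mk_surjective)
  haveI : Module.Flat W (W ⊗[A] M) := flat_baseChange_of_forall_prime M fun P hP => by
    obtain ⟨f, hf⟩ : ∃ f : t, f.1 ∉ P.comap (algebraMap A W) := by
      by_contra hne
      push Not at hne
      refine hP.ne_top ((Ideal.eq_top_iff_one P).2 ?_)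
      rw [← Finset.univ_sum_single (1 : W)]
      refine P.sum_mem fun f _ => ?_
      have h1 : Pi.single f ((1 : W) f) = algebraMap A W f.1 * Pi.single f (IsLocalization.Away.invSelf f.1) := by
        funext g
        by_cases hg : g = f
        · subst hg
          simp [W, Pi.algebraMap_apply, IsLocalization.Away.mul_invSelf]
        · rw [Pi.single_eq_of_ne hg, Pi.mul_apply, Pi.single_eq_of_ne hg, mul_zero]
      rw [h1]
      exact Ideal.mul_mem_right _ _ (hne f)
    refine hflat ⟨P.comap (algebraMap A W), inferInstance⟩ ?_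
    rw [← ht]
    exact fun hz => hf (hz f.2)
  haveI : Module.Flat (T × W) ((T × W) ⊗[A] M) := flat_baseChange_prod M
  haveI : Module.Flat (A ⧸ I) ((A ⧸ I) ⊗[A] M) := ‹Module.Flat T (T ⊗[A] M)›
  have key : ((I ^ 2).map (algebraMap A (T × W))).comap (algebraMap A (T × W)) = I₂ := by
    ext x
    rw [Ideal.mem_comap, hI₂]
    constructor
    · intro hx
      have hxT := Ideal.mem_map_of_mem (RingHom.fst T W) hx
      rw [Ideal.map_map] at hxT
      have hxI : x ∈ I := by
        rw [← Ideal.Quotient.eq_zero_iff_mem]
        have h0 : (I ^ 2).map ((RingHom.fst T W).comp (algebraMap A (T × W))) = ⊥ := by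
          rw [Ideal.map_eq_bot_iff_le_ker]
          exact fun a ha => Ideal.Quotient.eq_zero_iff_mem.2 (Ideal.pow_le_self two_ne_zero ha)
        rw [h0] at hxT
        exact hxT
      refine ⟨hxI, fun p hp => ?_⟩
      rw [← ht] at hp
      obtain ⟨f, hft, hfp⟩ := Set.not_subset.1 hp
      let π := (Pi.evalRingHom (fun f : t => Localization.Away f.1) ⟨f, hft⟩).comp (RingHom.snd T W)
      have hxW := Ideal.mem_map_of_mem π hx
      rw [Ideal.map_map] at hxW
      have hxW' : algebraMap A (Localization.Away f) x ∈ (I ^ 2).map (algebraMap A (Localization.Away f)) := hxW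
      obtain ⟨⟨⟨a, ha⟩, ⟨_, k, rfl⟩⟩, hk⟩ := (IsLocalization.mem_map_algebraMap_iff (Submonoid.powers f) _).1 hxW'
      rw [← map_mul, IsLocalization.eq_iff_exists (Submonoid.powers f)] at hk
      obtain ⟨⟨_, l, rfl⟩, hl⟩ := hk
      refine ⟨f ^ l * f ^ k, fun h' => ?_, ?_⟩
      · rw [← pow_add] at h'
        exact hfp (p.isPrime.mem_of_pow_mem _ h')
      · simp only at hl
        rw [mul_assoc, mul_comm (f ^ k) x, hl]
        exact Ideal.mul_mem_left _ _ ha
    · rintro ⟨hxI, hx⟩
      have hT : algebraMap A (T × W) x = (0, algebraMap A W x) :=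
        Prod.ext (Ideal.Quotient.eq_zero_iff_mem.2 hxI) rfl
      rw [hT, show ((0 : T), algebraMap A W x) = ∑ f : t, ((0 : T), (Pi.single f (algebraMap A W x f) : W)) from
        Prod.ext (by rw [Prod.fst_sum]; simp) (by rw [Prod.snd_sum]; exact (Finset.univ_sum_single _).symm)]
      refine Ideal.sum_mem _ fun f _ => ?_
      obtain ⟨k, hk⟩ : f.1 ∈ Ideal.radical (Submodule.comap (LinearMap.toSpanSingleton A A x) (I ^ 2)) := by
        rw [Ideal.radical_eq_sInf, Submodule.mem_sInf]
        rintro p ⟨hp, hpp⟩
        by_contra hfp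
        obtain ⟨s, hs, hsx⟩ := hx ⟨p, hpp⟩ (ht ▸ fun hz => hfp (hz f.2))
        exact hs (hp hsx)
      have h1 : ((0 : T), (Pi.single f (algebraMap A W x f) : W)) = ((0 : T), (Pi.single f
          ((IsLocalization.Away.invSelf f.1 : Localization.Away f.1) ^ k) : W)) * algebraMap A (T × W) (f.1 ^ k * x) := by
        refine Prod.ext (zero_mul _).symm ?_
        funext g
        show (Pi.single f (algebraMap A W x f) : W) g =
          (Pi.single f ((IsLocalization.Away.invSelf f.1 : Localization.Away f.1) ^ k) : W) g *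
            algebraMap A (Localization.Away g.1) (f.1 ^ k * x)
        by_cases hg : g = f
        · subst hg
          simp only [Pi.single_eq_same, map_mul, map_pow]
          rw [← mul_assoc, ← mul_pow, mul_comm (IsLocalization.Away.invSelf _), IsLocalization.Away.mul_invSelf,
            one_pow, one_mul]
          rfl
        · simp [Pi.single_eq_of_ne hg]
      rw [h1]
      exact Ideal.mul_mem_left _ _ (Ideal.mem_map_of_mem _ (by simpa using hk))
  have := Groth.Agent.CAlgLow.flat_mod_comap_sq (T × W) I M
  rw [key] at this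
  exact Module.Flat.of_linearEquiv
    ((TensorProduct.quotTensorEquivQuotSMul M I₂).extendScalarsOfSurjective Ideal.Quotient.mk_surjective).symm

end Groth.Agent.S1267
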