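import Groth.Statements.S12670
import Groth.Agent.Lib.Cyc26.ChernDual

set_option autoImplicit false
universe u
open CategoryTheory CategoryTheory.Limits AlgebraicGeometry
attribute [local instance] HasDerivedCategory.standard
open Cyc

namespace Groth.Agent.S12670

/-- For E finite locally free of rank r on X with dual E^∨, c_j(E^∨) = (-1)^j c_j(E), as cap operations
on every k-cycle α. The dual is Hom_{O_X}(E, O_X), the value at O_X of the right adjoint of - ⊗ E
(DCoh.sheafHom, its existence carried as a hypothesis), finite locally free of rank r, and enters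
through its own projective bundle. Setting: (X, δ) with Cyc.IsSetup stands for a scheme locally of
finite type over the base (S, δ) (X locally Noetherian with universally catenary local rings, δ a
dimension function); (p : P → X, O_P(1), q) is the projective bundle of E given by its universal
property (KRR.IsProjBundle), p is proper and δP is the induced dimension function (Cyc.DeltaCompat);
a tuple γ with Cyc.IsChernCap represents (c_0(E) ∩ α, …, c_r(E) ∩ α) through the defining relation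
Σ_i (-1)^i c_1(O_P(1))^i ∩ p^*(γ_{r-i}) ∼_rat 0 on P, and classes are compared up to rational
equivalence of representing cycles. -/
theorem result (X : Scheme.{u}) (δ : X → ℤ) (hX : Cyc.IsSetup X δ) (r : ℕ) (E : X.Modules) (hPE : FlatMod.IsFinLocFreeOfRank r E) (P : Scheme.{u}) (p : P ⟶ X) (O1 : P.Modules) (q : (Scheme.Modules.pullback p).obj E ⟶ O1) (hP : KRR.IsProjBundle p E O1 q) [IsProper p] (δP : P → ℤ) (hPs : Cyc.IsSetup P δP) (hδ : Cyc.DeltaCompat p δP δ) [DCoh.HasSheafHom E] (hP'E : FlatMod.IsFinLocFreeOfRank r ((DCoh.sheafHom E).obj (Coh.structureModule X))) (P' : Scheme.{u}) (p' : P' ⟶ X) (O1' : P'.Modules) (q' : (Scheme.Modules.pullback p').obj ((DCoh.sheafHom E).obj (Coh.structureModule X)) ⟶ O1') (hP' : KRR.IsProjBundle p' ((DCoh.sheafHom E).obj (Coh.structureModule X)) O1' q') [IsProper p'] (δP' : P' → ℤ) (hPs' : Cyc.IsSetup P' δP') (hδ' : Cyc.DeltaCompat p' δP' δ) (k : ℤ) (α : AlgebraicCycle X ℤ) (hα : α ∈ Cyc.Zk X δ k) (γ : Fin (r + 1) → AlgebraicCycle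 X ℤ) (hγ : Cyc.IsChernCap p δ δP O1 r k α γ) (γ' : Fin (r + 1) → AlgebraicCycle X ℤ) (hγ' : Cyc.IsChernCap p' δ δP' O1' r k α γ') (j : Fin (r + 1)) : Cyc.RatEquiv δ (k - ((j : ℕ) : ℤ)) (γ' j) ((-1 : ℤ) ^ (j : ℕ) • γ j) := by
  haveI := hX.1
  obtain ⟨S, hS⟩ := Cyc26A.exists_sp hX 1 ![E] ![r] (by intro i; fin_cases i; assumption)
  obtain ⟨L, hL, hF⟩ : ∃ L : Fin r → S.P.Modules, (∀ j, PicF.IsInvertible (L j)) ∧
      Cyc26A.FiltL ((Scheme.Modules.pullback S.π).obj E) L := hS 0
  obtain ⟨e⟩ := Cyc26A.nonempty_pullback_sheafHom_iso S.π (M2.isFinLocFree_of_ofRank hPE)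
  obtain ⟨K, hK, hKx⟩ := Cyc26A.filtL_dual hF hL
  have hKi : ∀ x, PicF.IsInvertible (K x) := fun x =>
    Twist.isInvertible_of_iso (hKx x).some.symm (Cyc26A.isInvertible_dual (hL _))
  let x : Fin r → MvPolynomial (Fin r) ℤ := fun l => MvPolynomial.X l
  have hE := fun l => S.pl_chern hX hPE hP hPs hδ hL x hL (fun i a => (Cyc26A.op_X S.hd hL i a).symm) hF hγ l
  have hE' := fun l => S.pl_chern hX hP'E hP' hPs' hδ' hL (fun i => - x (Fin.rev i)) hKi (fun i a => by
    rw [Cyc26A.c1_congr_iso S.hd (hKi i) (Cyc26A.isInvertible_dual (hL _)) (hKx i).some, Cyc26A.c1_dual S.hd (hL (Fin.rev i)),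
      ← Cyc26A.op_X S.hd hL, map_neg]
    rfl) (hK.of_iso e.symm) hγ' l
  refine S.ratEquiv hX (hγ'.2.1 j) (fun z hz => ?_) ?_
  · show ((-1 : ℤ) ^ (j : ℕ) • γ j) z = 0
    rw [Function.locallyFinsuppWithin.coe_zsmul, Pi.smul_apply, hγ.2.1 j z hz, smul_zero]
  · rw [hE', map_zsmul, map_zsmul, hE, ← Cyc26A.op_zsmul, RootPoly26.es_neg (fun i => x (Fin.rev i)),
      show (fun i => x (Fin.rev i)) = x ∘ Fin.revPerm from rfl, RootPoly26.es_reindex Fin.revPerm x]

end Groth.Agent.S12670
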