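import Groth.Statements.S12671
import Groth.Agent.Lib.Cyc26.PBFilt
-- import your own Groth.Agent.* helpers here

set_option autoImplicit false
universe u
open CategoryTheory CategoryTheory.Limits AlgebraicGeometry
open Cyc

namespace Groth.Agent.S12671

/-- Let E be a locally free O_X-module of rank r with a filtration 0 = E_0 ⊂ E_1 ⊂ … ⊂ E_r = E such that
E_i/E_{i-1} ≅ L_i is invertible for i = 1, …, r. Then c(E) = Π_i (1 + c_1(L_i)), that is c_p(E) ∩ α
∼_rat Σ_{I ⊆ {1,…,r}, |I| = p} (Π_{i ∈ I} c_1(L_i)) ∩ α for every k-cycle α, where the product over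
I is the iterated cap applied in increasing order of i on coefficient functions with any nonzero
rational sections (Cyc.c1CapFun); the filtration is given by short exact sequences 0 → E_{i-1} → E_i
→ L_i → 0 with E_0 = 0 and E_r ≅ E. Setting: (X, δ) with Cyc.IsSetup stands for a scheme locally of
finite type over the base (S, δ) (X locally Noetherian with universally catenary local rings, δ a
dimension function); (p : P → X, O_P(1), q) is the projective bundle of E given by its universal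
property (KRR.IsProjBundle), p is proper and δP is the induced dimension function (Cyc.DeltaCompat);
a tuple γ with Cyc.IsChernCap represents (c_0(E) ∩ α, …, c_r(E) ∩ α) through the defining relation
Σ_i (-1)^i c_1(O_P(1))^i ∩ p^*(γ_{r-i}) ∼_rat 0 on P, and classes are compared up to rational
equivalence of representing cycles. -/
theorem result (X : Scheme.{u}) (δ : X → ℤ) (hX : Cyc.IsSetup X δ) (r : ℕ) (E : X.Modules) (hPE : FlatMod.IsFinLocFreeOfRank r E) (P : Scheme.{u}) (p : P ⟶ X) (O1 : P.Modules) (q : (Scheme.Modules.pullback p).obj E ⟶ O1) (hP : KRR.IsProjBundle p E O1 q) [IsProper p] (δP : P → ℤ) (hPs : Cyc.IsSetup P δP) (hδ : Cyc.DeltaCompat p δP δ) (M : Fin (r + 1) → X.Modules) (h0 : IsZero (M 0)) (e : M (Fin.last r) ≅ E) (L : Fin r → X.Modules) (hL : ∀ i, PicF.IsInvertible (L i)) (a : ∀ i : Fin r, M (Fin.castSucc i) ⟶ M (Fin.succ i)) (b : ∀ i : Fin r, M (Fin.succ i) ⟶ L i) (hab : ∀ i, a i ≫ b i = 0) (hex : ∀ i, (ShortComplex.mk (a i) (b i) (hab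 i)).ShortExact) (k : ℤ) (α : AlgebraicCycle X ℤ) (hα : α ∈ Cyc.Zk X δ k) (γ : Fin (r + 1) → AlgebraicCycle X ℤ) (hγ : Cyc.IsChernCap p δ δP O1 r k α γ) (t : (i : Fin r) → (ξ : X) → Cyc.secFibre (L i) ξ) (ht : ∀ i ξ, t i ξ ≠ 0) (κ : Finset (Fin r) → AlgebraicCycle X ℤ) (hκ0 : κ ∅ = α) (hκ : ∀ (I : Finset (Fin r)) (i : Fin r), (∀ i' ∈ I, i' < i) → ⇑(κ (insert i I)) = Cyc.c1CapFun δ (L i) ⇑(κ I) (t i)) (n : Fin (r + 1)) : Cyc.RatEquiv δ (k - ((n : ℕ) : ℤ)) (γ n) (∑ I ∈ Finset.powersetCard n Finset.univ, κ I) := by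
  have hk : ∀ I : Finset (Fin r), κ I ∈ Cyc.Zk X δ (k - (I.card : ℤ)) := fun I => by
    induction I using Finset.induction_on_max with
    | empty => simpa [hκ0] using hα
    | insert i I hlt ih =>
      refine Cyc26.c1Cap_mem_Zk (L := L i) ?_ (hκ I i hlt)
      rw [Finset.card_insert_of_notMem fun h => lt_irrefl i (hlt i h)]
      rwa [show k - ((I.card + 1 : ℕ) : ℤ) + 1 = k - (I.card : ℤ) by push_cast; ring]
  rcases r with _ | m
  · rw [show n = 0 from Fin.ext (by omega), hγ.1]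
    simpa [hκ0] using Cyc26.ratEquiv_refl (δ := δ) (k := k) α
  haveI := hX.1
  haveI := hPs.1
  have hd := hPs.2.2
  have hB := Cyc26PB.uBundle_projBundle hP
  have hrel := Cyc26A.chernRel_filt hP hPE hX.2.2 hd hδ h0 e hL a b hab hex t ht κ hκ
  have hu := congrFun (Cyc26A.chern_unique hB hPE hX.2.2 hd hδ (x := fun j => Cyc26A.mk δ (γ j))
    (y := fun j => Cyc26A.esym δ κ (m + 1) (j : ℕ)) (by simp [hγ.1, Cyc26A.esym_zero, hκ0])
    (Cyc26A.chernRel_of_isChernCap hB hPE hX.2.2 hd hδ hγ) hrel) n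
  refine Cyc26A.ratEquiv_of_mk (hγ.2.1 n) (fun x hx => ?_) ?_
  · rw [Cyc26PB.cycle_sum_apply]
    refine Finset.sum_eq_zero fun I hI => hk I x ?_
    rwa [(Finset.mem_powersetCard.1 hI).2]
  · rw [hu, Cyc26A.esym, map_sum, Finset.filter_true_of_mem fun x _ => x.2]

end Groth.Agent.S12671
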