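import Groth.Statements.S12673
import Groth.Agent.Lib.Cyc26.Split


set_option autoImplicit false
universe u
open CategoryTheory CategoryTheory.Limits AlgebraicGeometry
open Cyc

namespace Groth.Agent.S12673

/-- For finitely many finite locally free O_X-modules E_1, …, E_m of constant ranks r_1, …, r_m there
are a scheme P and a morphism π : P → X that is locally projective, proper, flat and of relative
dimension d, such that (1) for every Y → X locally of finite type the flat pullback π_Y^* : CH_k(Y)
→ CH_{k+d}(Y ×_X P) is injective, and (2) every pullback π^*E_i admits a chain of submodules 0 = M_0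
⊂ M_1 ⊂ … ⊂ M_{r_i} ≅ π^*E_i in which each quotient M_j/M_{j-1} is an invertible O_P-module. Here
local projectivity is RelProj.IsLocallyProjective (every point of X has an open neighbourhood U over
which π^{-1}(U) is U-isomorphic to Proj of a quasi-coherent graded O_U-algebra generated in degree
one with degree-one part of finite type), the relative dimension is Cyc.HasRelDim, the base change
is any cartesian square with the induced dimension functions, injectivity is stated on cycles up to
rational equivalence, and the chain in (2) is given by short exact sequences 0 → M_{j-1} → M_j → L_j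
→ 0 with M_0 = 0, M_{r_i} ≅ π^*E_i and every L_j invertible. (The published statement asserts π
projective; this row asserts π locally projective over X, which is what the printed proof gives over
a base that is not quasi-compact: P is built as a finite tower of projective bundles of finite
locally free modules, and a composite of projective morphisms is projective over a quasi-compact
quasi-separated base, in particular over every affine open of X. The published statement also adds
that under (1) the restriction map A^*(X) → A^*(P) of bivariant rings is injective; that clause is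
not stated here.) Setting: (X, δ) with Cyc.IsSetup stands for a scheme locally of finite type over
the base (S, δ) (X locally Noetherian with universally catenary local rings, δ a dimension
function); (p : P → X, O_P(1), q) is the projective bundle of E given by its universal property
(KRR.IsProjBundle), p is proper and δP is the induced dimension function (Cyc.DeltaCompat); a tuple
γ with Cyc.IsChernCap represents (c_0(E) ∩ α, …, c_r(E) ∩ α) through the defining relation Σ_i
(-1)^i c_1(O_P(1))^i ∩ p^*(γ_{r-i}) ∼_rat 0 on P, and classes are compared up to rational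
equivalence of representing cycles. -/
theorem result (X : Scheme.{u}) (δ : X → ℤ) (hX : Cyc.IsSetup X δ) (m : ℕ) (E : Fin m → X.Modules) (rk : Fin m → ℕ) (hE : ∀ i, FlatMod.IsFinLocFreeOfRank (rk i) (E i)) : ∃ (P : Scheme.{u}) (π : P ⟶ X) (d : ℕ), RelProj.IsLocallyProjective π ∧ IsProper π ∧ Flat π ∧ Cyc.HasRelDim π d ∧ (∀ (Y : Scheme.{u}) (f : Y ⟶ X) [LocallyOfFiniteType f] (δY : Y → ℤ), Cyc.IsSetup Y δY → Cyc.DeltaCompat f δY δ → ∀ (PY : Scheme.{u}) (πY : PY ⟶ Y) (g : PY ⟶ P), IsPullback g πY π f → ∀ (δPY : PY → ℤ), Cyc.IsSetup PY δPY → Cyc.DeltaCompat πY δPY δY → ∀ (k : ℤ) (α : AlgebraicCycle Y ℤ), α ∈ Cyc.Zk Y δY k → ∀ β : AlgebraicCycle PY ℤ, ⇑β = Cyc.pullFun πY δPY δY d ⇑α → Cyc.RatEquivZero δPY (k + d) β → Cyc.RatEquivZero δY k α) ∧ (∀ i : Fin m, ∃ (M : Fin (rk i + 1) → P.Modules) (L : Fin (rk i) → P.Modules) (a : ∀ j : Fin (rk i), M (Fin.castSucc j) ⟶ M (Fin.succ j)) (b : ∀ j : Fin (rk i), M (Fin.succ j) ⟶ L j), IsZero (M 0) ∧ Nonempty (M (Fin.last (rk i)) ≅ (Scheme.Modules.pullback π).obj (E i)) ∧ (∀ j, PicF.IsInvertible (L j)) ∧ ∀ j, ∃ h : a j ≫ b j = 0, (ShortComplex.mk (a j) (b j) h).ShortExact)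 := by
  obtain ⟨P, π, d, hT, hF⟩ := Cyc26Split.exists_splitting δ m E rk hE
  exact ⟨P, π, d, hT.proj, hT.proper, hT.flat, hT.dim, hT.inj, fun i => hF i⟩


end Groth.Agent.S12673
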