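import Groth.Statements.S12675
import Groth.Agent.Lib.Cyc26.PBA
-- import your own Groth.Agent.* helpers here

set_option autoImplicit false
universe u
open CategoryTheory CategoryTheory.Limits AlgebraicGeometry
open Cyc

namespace Groth.Agent.S12675

/-- Suppose X is integral of δ-dimension n and L is an O_X-module that is invertible; then L's first
Chern class on X, taken in the sense of the projective-bundle characterisation (rank r = 1), agrees
with the Weil divisor class c_1(L) ∩ [X] of L (the divisor of a nonzero rational section,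
Cyc.c1CapFun on the cycle [X]_n). The projective bundle of L is given abstractly by its universal
property, so the identification P(L) = X, O(1) = L is part of what is asserted. Setting: (X, δ) with
Cyc.IsSetup stands for a scheme locally of finite type over the base (S, δ) (X locally Noetherian
with universally catenary local rings, δ a dimension function); (p : P → X, O_P(1), q) is the
projective bundle of E given by its universal property (KRR.IsProjBundle), p is proper and δP is the
induced dimension function (Cyc.DeltaCompat); a tuple γ with Cyc.IsChernCap represents (c_0(E) ∩ α,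
…, c_r(E) ∩ α) through the defining relation Σ_i (-1)^i c_1(O_P(1))^i ∩ p^*(γ_{r-i}) ∼_rat 0 on P,
and classes are compared up to rational equivalence of representing cycles. -/
theorem result (X : Scheme.{u}) (δ : X → ℤ) (hX : Cyc.IsSetup X δ) [IsIntegral X] (n : ℤ) (hn : δ (genericPoint X) = n) (L : X.Modules) (hL : PicF.IsInvertible L) (hPE : FlatMod.IsFinLocFreeOfRank 1 L) (P : Scheme.{u}) (p : P ⟶ X) (O1 : P.Modules) (q : (Scheme.Modules.pullback p).obj L ⟶ O1) (hP : KRR.IsProjBundle p L O1 q) [IsProper p] (δP : P → ℤ) (hPs : Cyc.IsSetup P δP) (hδ : Cyc.DeltaCompat p δP δ) (α : AlgebraicCycle X ℤ) (hα : ⇑α = Cyc.subschemeFun δ n (𝟙 X)) (γ : Fin 2 → AlgebraicCycle X ℤ) (hγ : Cyc.IsChernCap p δ δP O1 1 n α γ) (s : (ξ : X) → Cyc.secFibre L ξ) (hs : ∀ ξ, s ξ ≠ 0) (β : AlgebraicCycle X ℤ) (hβ : ⇑β = Cyc.c1CapFun δ L ⇑α s) : Cyc.RatEquiv δ (n - 1) (γ 1) β := by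
  haveI := hX.1
  haveI := hPs.1
  have hB := Cyc26PB.uBundle_projBundle hP
  have hd := hPs.2.2
  have hα' : α ∈ Cyc.Zk X δ n := hγ.1 ▸ (by simpa using hγ.2.1 0)
  have hk : β ∈ Cyc.Zk X δ (n - 1) := Cyc26.c1Cap_mem_Zk (k := n - 1) (by rwa [sub_add_cancel]) hβ
  have hpL := Groth.Agent.Twist.isInvertible_pullback p hL
  haveI := hP.epi
  haveI := Cyc26A.isIso_of_epi_invertible hpL hB.inv q
  refine Cyc26A.ratEquiv_of_mk (k := n - 1) (by simpa using hγ.2.1 1) hk ?_
  refine congrFun (Cyc26A.chern_unique hB hPE hX.2.2 hd hδ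
    (x := fun j => Cyc26A.mk δ (γ j)) (y := ![Cyc26A.mk δ α, Cyc26A.mk δ β]) (by simp [hγ.1])
    (Cyc26A.chernRel_of_isChernCap hB hPE hX.2.2 hd hδ hγ) ?_) 1
  rw [Cyc26A.chernRel, Fin.sum_univ_two, ← Cyc26A.c1_mk hX.2.2 hL hs α β hβ, show Fin.rev (0 : Fin 2) = 1 from rfl,
    show Fin.rev (1 : Fin 2) = 0 from rfl, Matrix.cons_val_zero, Matrix.cons_val_one, Matrix.cons_val_fin_one,
    Cyc26A.pullB_c1, Cyc26A.c1_congr_iso hd hpL hB.inv (asIso q), Fin.val_zero, Fin.val_one, pow_zero, pow_one,
    one_zsmul, neg_one_zsmul, Cyc26A.c1p_succ]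
  exact add_neg_cancel _

end Groth.Agent.S12675
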