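import Groth.Statements.S12676
import Groth.Agent.Lib.Diag27.Graph
import Groth.Agent.Lib.Diag27.DiagCycle
import Groth.Agent.Lib.Cyc26.PushRat
import Groth.Agent.Lib.Cyc26.RatAlg
import Groth.Agent.Lib.Cyc26.ChowA
-- import your own Groth.Agent.* helpers here

set_option autoImplicit false
universe u
open CategoryTheory CategoryTheory.Limits AlgebraicGeometry
attribute [local instance] HasDerivedCategory.standard
open IntMult

namespace Groth.Agent.S12676

/-- Let f : X → Y be a morphism of nonsingular projective varieties over an algebraically closed field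
and define f^*α = pr_{X,*}(Γ_f · pr_Y^*α) on Chow groups, with Γ_f ⊂ X × Y the graph and · the
intersection product of the nonsingular projective variety X × Y. If f is flat, f^*α agrees with the
flat pullback of α (relative dimension dim X - dim Y). Here X, Y and X × Y are nonsingular varieties
over the algebraically closed field K (smooth, separated, quasi-compact, integral) embedded as
closed subschemes of projective spaces over K, with dimension functions the transcendence degree
(Cyc.IsSetup, Cyc.DeltaCompat to Spec K with value 0) and dimensions pinned at the generic points;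
the product on CH_*(X × Y) is any mul with ChowOps.IsChowMul (it agrees with the Tor-formula product
IntMult.interProd on properly meeting cycles, which determines it); [Γ_f] is the prime cycle of the
image of the generic point of X under the graph morphism, pr_Y^* and f^* are coefficientwise flat
pullbacks (Cyc.pullFun), pr_{X,*} is the proper pushforward of a representing cycle, and the two
sides are compared up to rational equivalence on X. (Parts (1)–(3) of the published statement — f^*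
is a ring map, functoriality, projection formula — are not stated here.) -/
theorem result (K : Type u) [Field K] [IsAlgClosed K] (X : Scheme.{u}) (fX : X ⟶ Spec (CommRingCat.of K)) [Smooth fX] [IsSeparated fX] [QuasiCompact fX] [IsIntegral X] (δX : X → ℤ) (hX : Cyc.IsSetup X δX) (hδX : Cyc.DeltaCompat fX δX (fun _ => 0)) (dX : ℕ) (hdX : δX (genericPoint X) = dX) (NX : ℕ) (ιX : X ⟶ CohB1.ProjSpace NX K) [IsClosedImmersion ιX] (hιX : ιX ≫ CohB1.ProjSpace.toSpec NX K = fX) (Y : Scheme.{u}) (fY : Y ⟶ Spec (CommRingCat.of K)) [Smooth fY] [IsSeparated fY] [QuasiCompact fY] [IsIntegral Y] (δY : Y → ℤ) (hY : Cyc.IsSetup Y δY) (hδY : Cyc.DeltaCompat fY δY (fun _ => 0)) (dY : ℕ) (hdY : δY (genericPoint Y) = dY) (NY : ℕ) (ιY : Y ⟶ CohB1.ProjSpace NY K) [IsClosedImmersion ιY] (hιY : ιY ≫ CohB1.ProjSpace.toSpec NY K = fY) (f : X ⟶ Y) (hf : f ≫ fY = fX) [Flat f] [IsIntegral (pullback fX fY)] (δW : ↥(pullback fX fY) → ℤ) (hW : Cyc.IsSetup (pullback fX fY) δW) (hδW : Cyc.DeltaCompat (pullback.fst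 fX fY ≫ fX) δW (fun _ => 0)) (hdW : δW (genericPoint ↥(pullback fX fY)) = (dX : ℤ) + (dY : ℤ)) (NW : ℕ) (ιW : (pullback fX fY) ⟶ CohB1.ProjSpace NW K) [IsClosedImmersion ιW] (hιW : ιW ≫ CohB1.ProjSpace.toSpec NW K = pullback.fst fX fY ≫ fX) (mul : (r s : ℤ) → ChowOps.CH (pullback fX fY) δW r → ChowOps.CH (pullback fX fY) δW s → ChowOps.CH (pullback fX fY) δW (r + s - ((dX : ℤ) + (dY : ℤ)))) (hmul : ChowOps.IsChowMul (pullback fX fY) δW ((dX : ℤ) + (dY : ℤ)) mul) (γ : AlgebraicCycle (pullback fX fY) ℤ) (hγ : ⇑γ = Set.indicator {(pullback.lift (𝟙 X) f (Eq.trans (Category.id_comp fX) hf.symm)) (genericPoint X)} 1) (hγk : γ ∈ Cyc.Zk (pullback fX fY) δW (dX : ℤ)) (k : ℤ) (α : AlgebraicCycle Y ℤ) (hα : α ∈ Cyc.Zk Y δY k) (αW : AlgebraicCycle (pullback fX fY) ℤ) (hαW : ⇑αW = Cyc.pullFun (pullback.snd fX fY) δW δY (dX : ℤ) ⇑α) (hαWk : αW ∈ Cyc.Zk (pullback fX fY) δW (k + dX)) (ζ : AlgebraicCycle (pullback fX fY) ℤ) (hζk : ζ ∈ Cyc.Zk (pullback fX fY) δW ((dX : ℤ) + (k + dX) - ((dX : ℤ)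 + (dY : ℤ)))) (hζ : ChowOps.cl ζ hζk = mul (dX : ℤ) (k + dX) (ChowOps.cl γ hγk) (ChowOps.cl αW hαWk)) (αX : AlgebraicCycle X ℤ) (hαX : ⇑αX = Cyc.pullFun f δX δY ((dX : ℤ) - (dY : ℤ)) ⇑α) : Cyc.RatEquiv δX (k + dX - dY) (AlgebraicCycle.map (pullback.fst fX fY) δW δX ζ) αX := by
  classical
  subst hf
  haveI : LocallyOfFiniteType f := locallyOfFiniteType_of_comp f fY
  haveI : IsLocallyNoetherian X := hX.1
  haveI : IsLocallyNoetherian Y := hY.1
  haveI : IsLocallyNoetherian (pullback (f ≫ fY) fY) := hW.1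
  haveI : CompactSpace X := QuasiCompact.compactSpace_of_compactSpace (f ≫ fY)
  haveI : CompactSpace Y := QuasiCompact.compactSpace_of_compactSpace fY
  haveI : IsNoetherian Y := {}
  set p := pullback.fst (f ≫ fY) fY
  set q := pullback.snd (f ≫ fY) fY
  set g := pullback.lift (f := f ≫ fY) (g := fY) (𝟙 X) f (Category.id_comp _) with hgdef
  have hgp : g ≫ p = 𝟙 X := pullback.lift_fst _ _ _
  have hgq : g ≫ q = f := pullback.lift_snd _ _ _
  haveI : IsClosedImmersion g := by
    haveI : IsClosedImmersion (g ≫ p) := hgp.symm ▸ inferInstance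
    exact IsClosedImmersion.of_comp g p
  haveI : IsProper p := by
    haveI : IsProper fY := hιY ▸ inferInstance
    infer_instance
  haveI : Smooth (p ≫ f ≫ fY) := inferInstance
  haveI : IsSeparated (p ≫ f ≫ fY) := inferInstance
  haveI : QuasiCompact (p ≫ f ≫ fY) := inferInstance
  haveI : LocallyOfFiniteType q := inferInstance
  haveI : CompactSpace ↥(pullback (f ≫ fY) fY) := QuasiCompact.compactSpace_of_compactSpace (p ≫ f ≫ fY)
  haveI : IsNoetherian (pullback (f ≫ fY) fY) := {}
  have hdXs := Cyc26.delta_eq_sdim (f ≫ fY) hδX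
  -- the dimension bookkeeping
  have hcW : Cyc.DeltaCompat (q ≫ fY) δW (fun _ => 0) := by
    have e : q ≫ fY = p ≫ f ≫ fY := pullback.condition.symm
    rw [e]; exact hδW
  have hcq : Cyc.DeltaCompat q δW δY := Cyc26A.deltaCompat_of_comp q fY rfl hcW hδY
  have hcp : Cyc.DeltaCompat p δW δX := Cyc26A.deltaCompat_of_comp p (f ≫ fY) rfl hδW hδX
  have hcf : Cyc.DeltaCompat f δX δY := Cyc26A.deltaCompat_of_comp f fY rfl hδX hδY
  have hcg : Cyc.DeltaCompat g δX δW := Cyc26A.deltaCompat_of_comp g (p ≫ f ≫ fY)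
    (show g ≫ p ≫ f ≫ fY = f ≫ fY by rw [← Category.assoc, hgp, Category.id_comp]) hδX hδW
  have hgpx : ∀ x, p (g x) = x := fun x => by
    show (g ≫ p) x = x
    rw [hgp]; rfl
  have hgqx : ∀ x, q (g x) = f x := fun x => by
    show (g ≫ q) x = f x
    rw [hgq]
  have hδg : ∀ x, δW (g x) = δX x := fun x => by
    have h1 := Cyc26.delta_image_le g hcg x
    have h2 := Cyc26.delta_image_le p hcp (g x)
    rw [hgpx] at h2
    omega
  obtain ⟨r, hrelf, hr⟩ := Diag27.rd_le_of_flat_integral f (f ≫ fY) fY rfl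
  have hrXY : (dX : ℤ) = dY + r := by
    rw [← hdX, ← hdY, hdXs, Cyc26.delta_eq_sdim fY hδY, hr]; push_cast; rfl
  have hrelq : Cyc.HasRelDim q dX := by
    have h := Diag27.hasRelDim_toField (f ≫ fY)
    have e : VarDim.sdim (f ≫ fY) (genericPoint X) = dX := by
      have := hdXs (genericPoint X); omega
    rw [e] at h
    exact FibDim14.hasRelDim_baseChange (IsPullback.of_hasPullback (f ≫ fY) fY) h
  have he' : ((dX : ℤ) - dY) = (r : ℤ) := by omega
  rw [he'] at hαX
  -- the coefficients of the product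
  let w0 : ↥(pullback (f ≫ fY) fY) := g (genericPoint X)
  have hw0 : δW w0 = dX := by rw [hδg, hdX]
  have hrange : ∀ w, w0 ⤳ w → ∃ x, g x = w := fun w hw => by
    have hc : IsClosed (Set.range g) := g.isClosedEmbedding.isClosed_range
    exact hw.mem_closed hc ⟨genericPoint X, rfl⟩
  obtain ⟨hγ1, hγ2⟩ := Diag27.sheafFun_ptMod hW.2.2 w0
  have hpair : ∀ v : Y, δY v = k →
      IntMult.IntersectProperly δW ((dX : ℤ) + dY) (Set.indicator {w0} 1) (Cyc.pullFun q δW δY dX (Set.indicator {v} 1)) ∧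
      (∀ w, (¬ ∃ x, g x = w) → IntMult.interProd δW ((dX : ℤ) + dY) (Set.indicator {w0} 1) (Cyc.pullFun q δW δY dX (Set.indicator {v} 1)) w = 0) ∧
      ∀ x, IntMult.interProd δW ((dX : ℤ) + dY) (Set.indicator {w0} 1) (Cyc.pullFun q δW δY dX (Set.indicator {v} 1)) (g x) =
        Cyc.pullFun f δX δY r (Set.indicator {v} 1) x := by
    intro v hv
    obtain ⟨hle, heq⟩ := Diag27.pullFun_indicator q hY.2.2 hcq hrelq v
    obtain ⟨hlef, heqf⟩ := Diag27.pullFun_indicator f hY.2.2 hcf hrelf v
    have hspec : ∀ w, Nontrivial (((Scheme.Modules.pullback q).obj (NumPoly18.ptMod v)).presheaf.stalk w) → v ⤳ q w :=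
      fun w h => (Diag27.sheafFun_ptMod hY.2.2 v).2 _ (Cyc26.nontrivial_of_stalk_pullback q _ w h)
    obtain ⟨hP, hI⟩ := Groth.Agent.S6470.result K (pullback (f ≫ fY) fY) (p ≫ f ≫ fY) δW hW hδW _ hdW (NumPoly18.ptMod w0)
      ((Scheme.Modules.pullback q).obj (NumPoly18.ptMod v)) (NumPoly18.isCoh_ptMod w0)
      (M1.isCoh_pullback q (NumPoly18.isCoh_ptMod v)) dX (δY v + dX)
      (fun w h => (Diag27.delta_le hW.2.2 (hγ2 w h)).trans hw0.le) hle fun w h1 h2 => by
        obtain ⟨x, rfl⟩ := hrange w (hγ2 w h1)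
        have h3 := hspec _ h2
        rw [hgqx] at h3
        have h4 := Diag27.delta_le_add f hcf hrelf x
        have h5 := Diag27.delta_le hY.2.2 h3
        rw [hδg]
        omega
    have hind : Cyc.sheafFun δW (dX : ℤ) (NumPoly18.ptMod w0) = Set.indicator {w0} 1 := by rw [← hw0]; exact hγ1
    rw [hind, ← heq] at hP hI
    refine ⟨hP, fun w hw => ?_, fun x => ?_⟩
    · rw [hI w]
      split_ifs with h
      · haveI : Subsingleton ((NumPoly18.ptMod w0).presheaf.stalk w) :=
          not_nontrivial_iff_subsingleton.1 fun h' => hw (hrange w (hγ2 w h'))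
        haveI := M1.finite_stalk (M1.isCoh_pullback q (NumPoly18.isCoh_ptMod v)).1 (M1.isCoh_pullback q (NumPoly18.isCoh_ptMod v)).2 w
        exact Diag27.chi_eq_zero_of_subsingleton _ _
      · rfl
    · rw [hI (g x), heqf, Cyc.sheafFun]
      by_cases hd : δX x = δY v + r
      swap
      · rw [if_neg hd, if_neg (by rw [hδg]; omega)]
      rw [if_pos hd, if_pos (show δW (g x) = dX + (δY v + dX) - (dX + dY) by rw [hδg]; omega)]
      haveI : IsRegularLocalRing ((pullback (f ≫ fY) fY : Scheme.{u}).presheaf.stalk (g x)) := SmoothReg17.isRegularLocalRing_stalk (p ≫ f ≫ fY) (g x)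
      by_cases hs : v ⤳ f x
      swap
      · haveI : Subsingleton (((Scheme.Modules.pullback q).obj (NumPoly18.ptMod v)).presheaf.stalk (g x)) :=
          not_nontrivial_iff_subsingleton.1 fun h' => hs (hgqx x ▸ hspec _ h')
        haveI : Subsingleton (((Scheme.Modules.pullback f).obj (NumPoly18.ptMod v)).presheaf.stalk x) :=
          not_nontrivial_iff_subsingleton.1 fun h' =>
            hs ((Diag27.sheafFun_ptMod hY.2.2 v).2 _ (Cyc26.nontrivial_of_stalk_pullback f _ x h'))
        haveI := M1.finite_stalk (NumPoly18.isCoh_ptMod w0).1 (NumPoly18.isCoh_ptMod w0).2 (g x)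
        rw [Diag27.chi_comm, Diag27.chi_eq_zero_of_subsingleton, Module.length_eq_zero]
        simp
      have hw0x : w0 ⤳ g x := (genericPoint_specializes x).map g.continuous
      letI algAB : Algebra (Y.presheaf.stalk (f x)) ((pullback (f ≫ fY) fY : Scheme.{u}).presheaf.stalk (g x)) := (Diag27.locMap q (hgqx x)).hom.toAlgebra
      letI : Algebra ((pullback (f ≫ fY) fY : Scheme.{u}).presheaf.stalk (g x)) (X.presheaf.stalk x) := (g.stalkMap x).hom.toAlgebra
      letI : Algebra (Y.presheaf.stalk (f x)) (X.presheaf.stalk x) := (Diag27.locMap f (rfl : f x = f x)).hom.toAlgebra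
      haveI : Flat q := inferInstance
      haveI : Module.Flat (Y.presheaf.stalk (f x)) ((pullback (f ≫ fY) fY : Scheme.{u}).presheaf.stalk (g x)) :=
        RingHom.flat_algebraMap_iff.1 (Diag27.flat_locMap q (hgqx x))
      haveI : Module.Flat (Y.presheaf.stalk (f x)) (X.presheaf.stalk x) :=
        RingHom.flat_algebraMap_iff.1 (Diag27.flat_locMap f rfl)
      have htow : Diag27.locMap q (hgqx x) ≫ g.stalkMap x = Diag27.locMap f (rfl : f x = f x) := by
        refine Diag27.locMap_unique q (hgqx x) _ _ ?_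
        rw [Diag27.spec_locMap, Scheme.SpecMap_stalkMap_fromSpecStalk_assoc, hgq]
      haveI : IsScalarTower (Y.presheaf.stalk (f x)) ((pullback (f ≫ fY) fY : Scheme.{u}).presheaf.stalk (g x)) (X.presheaf.stalk x) :=
        IsScalarTower.of_algebraMap_eq fun a => (congr($(htow) a)).symm
      have hsurj : Function.Surjective (algebraMap ((pullback (f ≫ fY) fY : Scheme.{u}).presheaf.stalk (g x)) (X.presheaf.stalk x)) := g.stalkMap_surjective x
      obtain ⟨e1⟩ := Diag27.nonempty_stalk_ptMod hw0x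
      obtain ⟨e2⟩ := Diag27.nonempty_pull_ptMod q (g x) (hgqx x) hs
      obtain ⟨e3⟩ := Diag27.nonempty_pull_ptMod f x (rfl : f x = f x) hs
      have hk : (Diag27.genPrime hw0x).asIdeal =
          LinearMap.ker (Algebra.linearMap ((pullback (f ≫ fY) fY : Scheme.{u}).presheaf.stalk (g x)) (X.presheaf.stalk x)) :=
        (Diag27.genPrime_map_generic g x).trans rfl
      let eL := (Submodule.quotEquivOfEq _ _ hk).trans (LinearMap.quotKerEquivOfSurjective
        (Algebra.linearMap ((pullback (f ≫ fY) fY : Scheme.{u}).presheaf.stalk (g x)) (X.presheaf.stalk x)) hsurj)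
      rw [← Diag27.chi_congr e1, Diag27.chi_congr eL, Diag27.chi_comm, ← Diag27.chi_congr e2, Diag27.chi_comm,
        Diag27.chi_flat_quot hsurj, e3.length_eq]
  -- linearity
  set T := (Cyc26Lim.finite_support α).toFinset with hT
  have hTk : ∀ v ∈ T, δY v = k := fun v hv => by
    by_contra h
    exact (Cyc26Lim.finite_support α).mem_toFinset.1 hv (hα v h)
  have hαW' : ⇑αW = fun w => ∑ v ∈ T, α v * Cyc.pullFun q δW δY dX (Set.indicator {v} 1) w := by
    rw [hαW]
    conv_lhs => rw [Diag27.cycle_eq_sum α, ← hT]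
    funext w
    simp only [Cyc.pullFun]
    split_ifs
    · rw [Finset.sum_mul]; exact Finset.sum_congr rfl fun _ _ => by ring
    · simp
  have hαX' : ∀ x, αX x = ∑ v ∈ T, α v * Cyc.pullFun f δX δY r (Set.indicator {v} 1) x := fun x => by
    rw [hαX]
    conv_lhs => rw [Diag27.cycle_eq_sum α, ← hT]
    simp only [Cyc.pullFun]
    split_ifs
    · rw [Finset.sum_mul]; exact Finset.sum_congr rfl fun _ _ => by ring
    · simp
  have hprop : IntMult.IntersectProperly δW ((dX : ℤ) + dY) ⇑γ ⇑αW := by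
    intro ξ η w h1 h2 h3 h4
    rw [hγ] at h1
    rw [hαW'] at h2
    obtain ⟨v, hv, h5⟩ := Finset.exists_ne_zero_of_sum_ne_zero h2
    exact (hpair v (hTk v hv)).1 ξ η w h1 (right_ne_zero_of_mul h5) h3 h4
  let J := AlgebraicCycle.map g δX δW αX
  have hJg : ∀ x, J (g x) = αX x := fun x => by
    show AlgebraicCycle.map g δX δW αX (g x) = _
    rw [Cyc26.map_apply_eq_sum g δX δW αX (g x) {x} (by simp)
      (fun z hz _ _ => Finset.mem_singleton.2 (g.isClosedEmbedding.injective hz)), Finset.sum_singleton,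
      AlgebraicCycle.mapCoeff, if_pos (hδg x).symm,
      Cyc26.residueDegree_of_bijective g x (Cyc26.residueFieldMap_bijective g x)]
    simp
  have hJ0 : ∀ w, (¬ ∃ x, g x = w) → J w = 0 := fun w hw => by
    show AlgebraicCycle.map g δX δW αX w = _
    rw [Cyc26.map_apply_eq_sum g δX δW αX w ∅ (by simp) (fun z hz _ _ => absurd ⟨z, hz⟩ hw), Finset.sum_empty]
  have hJk : J ∈ Cyc.Zk (pullback (f ≫ fY) fY) δW ((dX : ℤ) + (k + dX) - ((dX : ℤ) + (dY : ℤ))) := fun w hw => by
    by_cases hx : ∃ x, g x = w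
    · obtain ⟨x, rfl⟩ := hx
      rw [hJg, hαX]
      unfold Cyc.pullFun
      split_ifs with h
      · rw [hα (f x) (fun e => hw (by rw [hδg]; omega)), zero_mul]
      · rfl
    · exact hJ0 w hx
  have hJI : ⇑J = IntMult.interProd δW ((dX : ℤ) + dY) ⇑γ ⇑αW := funext fun w => by
    rw [hγ, hαW', Diag27.interProd_sum_right _ w T _ _ _
      ((Set.finite_singleton _).subset fun y hy => Set.mem_of_indicator_ne_zero hy.2) (fun v hv => by
        obtain ⟨hle, heq⟩ := Diag27.pullFun_indicator q hY.2.2 hcq hrelq v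
        rw [heq]
        exact Diag27.finAt_sheafFun hW.2.2 w _ (M1.isCoh_pullback q (NumPoly18.isCoh_ptMod v)) hle)]
    by_cases hx : ∃ x, g x = w
    · obtain ⟨x, rfl⟩ := hx
      rw [hJg, hαX']
      exact Finset.sum_congr rfl fun v hv => by rw [(hpair v (hTk v hv)).2.2 x]
    · rw [hJ0 w hx]
      exact (Finset.sum_eq_zero fun v hv => by rw [(hpair v (hTk v hv)).2.1 w hx, mul_zero]).symm
  have hcl : ChowOps.cl ζ hζk = ChowOps.cl J hJk :=
    hζ.trans (hmul _ _ γ αW hγk hαWk hprop J hJk hJI)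
  have hrat : Cyc.RatEquiv δW ((dX : ℤ) + (k + dX) - ((dX : ℤ) + (dY : ℤ))) ζ J := by
    have h0 : (⟨ζ, hζk⟩ : ↥(ChowOps.zk _ δW _)) - ⟨J, hJk⟩ ∈ ChowOps.ratTriv _ δW _ :=
      QuotientAddGroup.eq_iff_sub_mem.1 hcl
    suffices hs : ∀ a ∈ ChowOps.ratTriv _ δW _, Cyc.RatEquivZero δW
      ((dX : ℤ) + (k + dX) - ((dX : ℤ) + (dY : ℤ))) (a : AlgebraicCycle _ ℤ) from hs _ h0
    intro a ha
    induction ha using AddSubgroup.closure_induction with
    | mem a ha => exact ha
    | zero => exact Cyc26.ratEquivZero_of_eq_zero fun _ => rfl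
    | add a b _ _ ha hb => exact Cyc26.ratEquivZero_add ha hb fun _ => rfl
    | neg a _ ha => exact Cyc26.ratEquivZero_neg ha fun _ => rfl
  have hmapJ : AlgebraicCycle.map p δW δX J = αX := by
    ext x
    rw [Cyc26.map_apply_eq_sum p δW δX J x {g x} (fun z hz => (Finset.mem_singleton.1 hz) ▸ hgpx x)
      (fun z hz hne _ => by
        by_cases hx : ∃ x', g x' = z
        · obtain ⟨x', rfl⟩ := hx
          rw [hgpx] at hz
          exact Finset.mem_singleton.2 (hz ▸ rfl)
        · exact absurd (hJ0 z hx) hne), Finset.sum_singleton, hJg, AlgebraicCycle.mapCoeff,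
      if_pos (by rw [hδg, hgpx])]
    have h1 := Cyc26.residueDegree_comp g p x
    rw [Cyc26.residueDegree_congr hgp, Scheme.Hom.residueDegree_id,
      Cyc26.residueDegree_of_bijective g x (Cyc26.residueFieldMap_bijective g x), mul_one] at h1
    rw [← h1]
    simp
  have h := Cyc26.ratEquivZero_map p hW.2.2 hX.2.2 hcp hrat
  rw [show AlgebraicCycle.map p δW δX (ζ - J) = AlgebraicCycle.map p δW δX ζ - αX by
    rw [← hmapJ]; exact Cyc26.map_sub p δW δX ζ J] at h
  rw [show (dX : ℤ) + (k + dX) - ((dX : ℤ) + (dY : ℤ)) = k + dX - dY by ring] at h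
  exact h


end Groth.Agent.S12676
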