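import Groth.Statements.S1268
import Groth.Agent.Lib.Dev4.PureOpen
import Groth.Agent.Lib.Dev4.ProjPiece
import Groth.Agent.Lib.Dev4.PureCriterion

set_option autoImplicit false
universe u
open FlatMor
attribute [local instance] Algebra.TensorProduct.rightAlgebra
set_option maxSynthPendingDepth 3

set_option backward.isDefEq.respectTransparency.types false

namespace Groth.Agent.S1268

open AlgebraicGeometry CategoryTheory TensorProduct in
/-- Ring form, X = Spec S and S = Spec R affine: let S be a finitely presented R-algebra, N a finitely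
presented S-module and q a prime of S over p with N_q flat over R. Then there is an étale R-algebra
R' with a prime p' over p having the same residue field such that, for the base changes S', N' of S,
N to R' (any models), there is an S'-algebra C with Spec C → Spec S' an open immersion (an affine
open U' of X ×_S S'), containing a point lying over both q and p' (there is exactly one such point
of X ×_S S'), such that C ⊗_{S'} N' (the sections of the pulled-back module over U') is a projective
R'-module. -/
theorem result {R S : Type u} [CommRing R] [CommRing S] [Algebra R S] [Algebra.FinitePresentation R S]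
    (N : Type u) [AddCommGroup N] [Module S N] [Module R N] [IsScalarTower R S N] [Module.FinitePresentation S N]
    (p : Ideal R) [p.IsPrime] (q : Ideal S) [q.IsPrime] [q.LiesOver p] (hflat : FlatCA.FlatAt R q N) :
    ∃ (R' : Type u) (_ : CommRing R') (_ : Algebra R R') (p' : Ideal R') (_ : p'.IsPrime), FlatCA.IsEtaleNhd R R' p p' ∧
      ∀ (S' N' : Type u) [CommRing S'] [Algebra R S'] [Algebra S S'] [Algebra R' S'] [IsScalarTower R S S'] [IsScalarTower R R' S']
        [Algebra.IsPushout R S R' S']
        [AddCommGroup N'] [Module S' N'] [Module S N'] [IsScalarTower S S' N']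
        (f : N →ₗ[S] N'), IsBaseChange S' f →
        ∃ (C : Type u) (_ : CommRing C) (_ : Algebra S' C) (_ : Algebra R' C) (_ : IsScalarTower R' S' C)
          (x' : Ideal C) (_ : x'.IsPrime),
          IsOpenImmersion (Spec.map (CommRingCat.ofHom (algebraMap S' C))) ∧
          (x'.comap (algebraMap S' C)).LiesOver q ∧ (x'.comap (algebraMap S' C)).LiesOver p' ∧
          Module.Projective R' (RestrictScalars R' C (C ⊗[S'] N')) := by
  classical
  obtain ⟨R', S₂, _, _, _, _, _, _, _, _, p', q', _, _, hR, hS, hqp, hP⟩ := Dev4.exists_projective_piece N p q hflat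
  haveI := hR.1
  haveI := hS.1
  haveI := hqp
  haveI := hP
  let B0 := S ⊗[R] R'
  haveI : Algebra.IsPushout R R' S B0 := Algebra.IsPushout.symm inferInstance
  haveI : Algebra.IsPushout R S R' B0 := inferInstance
  haveI : Algebra.Etale S B0 := inferInstance
  letI : Algebra B0 S₂ := (Algebra.TensorProduct.lift (IsScalarTower.toAlgHom R S S₂) (IsScalarTower.toAlgHom R R' S₂)
    fun _ _ => Commute.all _ _).toRingHom.toAlgebra
  haveI : IsScalarTower S B0 S₂ := IsScalarTower.of_algebraMap_eq fun s => by
    show _ = Algebra.TensorProduct.lift _ _ _ (s ⊗ₜ (1 : R'))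
    simp
  haveI : IsScalarTower R' B0 S₂ := IsScalarTower.of_algebraMap_eq fun r => by
    show _ = Algebra.TensorProduct.lift _ _ _ ((1 : S) ⊗ₜ r)
    simp
  haveI : Algebra.Etale B0 S₂ := Algebra.Etale.of_restrictScalars S B0 S₂
  haveI : Algebra.FinitePresentation R' B0 :=
    Algebra.FinitePresentation.equiv ({ (Algebra.TensorProduct.comm R R' S).toRingEquiv with
      commutes' := fun r => by simp [RingHom.algebraMap_toAlgebra] } : (R' ⊗[R] S) ≃ₐ[R'] B0)
  let N0 := B0 ⊗[S] N
  haveI : Module.Projective R' (S₂ ⊗[B0] N0) :=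
    Module.Projective.of_equiv ((AlgebraTensorModule.cancelBaseChange S B0 S₂ S₂ N).restrictScalars R').symm
  obtain ⟨g, hgx, hcov, hinj⟩ := Dev4.exists_good_element (A := R') (B := B0) (C := S₂) N0 p' q'
  let C1 := Localization.Away g
  let N1 := C1 ⊗[B0] N0
  haveI : Algebra.FinitePresentation R' C1 :=
    haveI : Algebra.FinitePresentation B0 C1 := IsLocalization.Away.finitePresentation g
    Algebra.FinitePresentation.trans R' B0 C1
  haveI : Module.Flat R' N1 := Dev4.flat_away_of_covered (C := S₂) N0 g hcov
  have hpure := Dev4.isPureAlong_away (A := R') (B := B0) (C := S₂) (B₁ := C1) N0 g hcov p' hinj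
  obtain ⟨A, _, _, P, _, hA, hproj⟩ := Dev4.exists_nhd_projective_of_isPureAlong (R := R') (S := C1) N1 p' hpure
  letI : Algebra R A := ((algebraMap R' A).comp (algebraMap R R')).toAlgebra
  haveI : IsScalarTower R R' A := IsScalarTower.of_algebraMap_eq fun _ => rfl
  refine ⟨A, inferInstance, inferInstance, P, inferInstance, Dev4.isEtaleNhd_trans p p' P hR hA, ?_⟩
  intro SA NA _ _ _ _ _ _ _ _ _ _ _ f hf
  letI : Algebra R' SA := ((algebraMap A SA).comp (algebraMap R' A)).toAlgebra
  haveI : IsScalarTower R' A SA := IsScalarTower.of_algebraMap_eq fun _ => rfl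
  haveI : IsScalarTower R R' SA := IsScalarTower.of_algebraMap_eq fun r => by
    rw [IsScalarTower.algebraMap_apply R' A SA, ← IsScalarTower.algebraMap_apply R R' A,
      ← IsScalarTower.algebraMap_apply R A SA]
  let ψ : B0 →ₐ[R] SA := Algebra.TensorProduct.lift (IsScalarTower.toAlgHom R S SA) (IsScalarTower.toAlgHom R R' SA)
    fun _ _ => Commute.all _ _
  letI : Algebra B0 SA := ψ.toRingHom.toAlgebra
  haveI : IsScalarTower S B0 SA := IsScalarTower.of_algebraMap_eq fun s => by
    show _ = Algebra.TensorProduct.lift _ _ _ (s ⊗ₜ (1 : R'))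
    simp
  haveI : IsScalarTower R' B0 SA := IsScalarTower.of_algebraMap_eq fun r => by
    show _ = Algebra.TensorProduct.lift _ _ _ ((1 : S) ⊗ₜ r)
    simp
  haveI : Algebra.IsPushout R A S SA := Algebra.IsPushout.symm inferInstance
  haveI hp1 : Algebra.IsPushout R' A B0 SA :=
    (Algebra.IsPushout.comp_iff (R := R) (S := R') (R' := S) (S' := B0) (T := A) (T' := SA)).1 inferInstance
  let C := Localization.Away (algebraMap B0 SA g)
  haveI : IsScalarTower B0 SA C := inferInstance
  letI : Algebra C1 C := (IsLocalization.Away.lift g (g := algebraMap B0 C)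
    (by rw [IsScalarTower.algebraMap_apply B0 SA C]; exact IsLocalization.Away.algebraMap_isUnit (algebraMap B0 SA g))).toAlgebra
  haveI : IsScalarTower B0 C1 C := IsScalarTower.of_algebraMap_eq fun b => by
    exact (IsLocalization.Away.lift_eq (g := algebraMap B0 C) g _ b).symm
  haveI : IsScalarTower R' B0 C := IsScalarTower.of_algebraMap_eq fun r => by
    rw [IsScalarTower.algebraMap_apply B0 SA C, ← IsScalarTower.algebraMap_apply R' B0 SA, ← IsScalarTower.algebraMap_apply R' SA C]
  haveI : IsScalarTower R' C1 C := IsScalarTower.of_algebraMap_eq fun r => by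
    rw [IsScalarTower.algebraMap_apply R' B0 C1, ← IsScalarTower.algebraMap_apply B0 C1 C, ← IsScalarTower.algebraMap_apply R' B0 C]
  haveI : IsScalarTower S B0 C := IsScalarTower.of_algebraMap_eq fun r => by
    rw [IsScalarTower.algebraMap_apply B0 SA C, ← IsScalarTower.algebraMap_apply S B0 SA, ← IsScalarTower.algebraMap_apply S SA C]
  haveI : IsLocalization (Algebra.algebraMapSubmonoid SA (Submonoid.powers g)) C := by
    rw [Algebra.algebraMapSubmonoid_powers]
    exact inferInstanceAs (IsLocalization.Away (algebraMap B0 SA g) C)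
  haveI hp2 : Algebra.IsPushout B0 SA C1 C :=
    (Algebra.isLocalization_iff_isPushout (Submonoid.powers g) C1).1 inferInstance
  haveI hp2' : Algebra.IsPushout B0 C1 SA C := hp2.symm
  haveI hp1' : Algebra.IsPushout R' B0 A SA := hp1.symm
  haveI hp3' : Algebra.IsPushout R' C1 A C :=
    (Algebra.IsPushout.comp_iff (R := R') (S := B0) (R' := A) (S' := SA) (T := C1) (T' := C)).2 inferInstance
  haveI hp3 : Algebra.IsPushout R' A C1 C := hp3'.symm
  obtain ⟨-, hPp, hκ⟩ := hA
  haveI := hPp
  have hdis : Disjoint ((Submonoid.powers g : Submonoid B0) : Set B0) ((q'.comap (algebraMap B0 S₂) : Ideal B0) : Set B0) :=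
    (Ideal.disjoint_powers_iff_notMem_of_isPrime _).2 hgx
  let y := (q'.comap (algebraMap B0 S₂)).map (algebraMap B0 C1)
  haveI hy : y.IsPrime := IsLocalization.isPrime_of_isPrime_disjoint (Submonoid.powers g) _ _ inferInstance hdis
  have hcy : y.comap (algebraMap B0 C1) = q'.comap (algebraMap B0 S₂) :=
    IsLocalization.under_map_of_isPrime_disjoint (Submonoid.powers g) _ inferInstance hdis
  haveI : y.LiesOver p' := ⟨by
    show p' = y.comap (algebraMap R' C1)
    rw [IsScalarTower.algebraMap_eq R' B0 C1, ← Ideal.comap_comap, hcy, Ideal.comap_comap, ← IsScalarTower.algebraMap_eq]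
    exact hqp.over⟩
  obtain ⟨x', hx', hxP, hxy⟩ := Dev4.exists_prime_over (R := R') (R' := A) (B := C1) (B' := C) (p := p') (p' := P) hκ y
  haveI := hx'
  refine ⟨C, inferInstance, inferInstance, inferInstance, inferInstance, x', hx', inferInstance, ⟨?_⟩, ⟨?_⟩, ?_⟩
  · show q = (x'.comap (algebraMap SA C)).comap (algebraMap S SA)
    rw [Ideal.comap_comap, ← IsScalarTower.algebraMap_eq, IsScalarTower.algebraMap_eq S B0 C, ← Ideal.comap_comap,
      IsScalarTower.algebraMap_eq B0 C1 C, ← Ideal.comap_comap,
      show x'.comap (algebraMap C1 C) = y from hxy.over.symm, hcy, Ideal.comap_comap, ← IsScalarTower.algebraMap_eq]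
    exact hS.2.choose.over
  · show P = (x'.comap (algebraMap SA C)).comap (algebraMap A SA)
    rw [Ideal.comap_comap, ← IsScalarTower.algebraMap_eq]
    exact hxP.over
  · haveI := hproj
    let e : C ⊗[SA] NA ≃ₗ[C] C ⊗[C1] N1 :=
      (AlgebraTensorModule.congr (LinearEquiv.refl C C) hf.equiv.symm).trans
        ((AlgebraTensorModule.cancelBaseChange S SA C C N).trans
          ((AlgebraTensorModule.cancelBaseChange S B0 C C N).symm.trans
            (AlgebraTensorModule.cancelBaseChange B0 C1 C C N0).symm))
    haveI : Module.Projective A (C ⊗[SA] NA) :=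
      Module.Projective.of_equiv ((e.restrictScalars A).trans (Algebra.IsPushout.cancelBaseChange R' A C1 C N1)).symm
    exact Dev4.projective_restrictScalars

end Groth.Agent.S1268
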