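import Groth.Statements.S12688
import Groth.Agent.Lib.VeryAmple11.QMapVA
import Groth.Agent.Lib.VeryAmple11.QHomSym
import Groth.Agent.Lib.VeryAmple11.FT
import Groth.Agent.Lib.VeryAmple11.Locality

set_option autoImplicit false
universe u
open CategoryTheory CategoryTheory.Limits AlgebraicGeometry TopologicalSpace Opposite
open scoped HomogeneousIdeal
noncomputable section
open EGA2

namespace Groth.Agent.S12688

/-- Let Y be a scheme which is either quasi-compact and separated or has Noetherian underlying space, q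
: X → Y a morphism of finite type, L an invertible O_X-module with graded symmetric algebra 𝒮L =
⊕_{n≥0} L^{⊗n} (whose relative Proj PL, given with its charts, is identified with X by its structure
morphism). If L is very ample relative to q, then there are a quasi-coherent O_Y-module E of finite
type with an injective map ι : E → q_*L, its graded symmetric algebra 𝒯 = Sym(E) (structure map jE),
and the graded q-morphism u : 𝒯 → q_*𝒮L extending ι (adjoint to Sym(φ) for φ : q^*E → L the
restriction of the canonical map q^*q_*L → L), such that φ is surjective — every point of X has an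
affine neighbourhood V over which the image of a single section of E generates L — and, for the
projective bundle P(E) = Proj(𝒯) → Y (with its charts) and the induced r = r_{L,φ} : G(φ) → P(E), r
is everywhere defined (G(φ) is all of PL) and an immersion. (The published statement reads 'coherent
of finite type' for E; over an affine base whose ring is not coherent, with q the identity and L
trivial, the only possible E is O_Y itself, which is not coherent, while the published proof,
through the finite-type criterion for immersions, yields E quasi-coherent of finite type, which is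
what this row asserts.) -/
theorem result {X Y PL : Scheme.{u}}
    (hYs : (CompactSpace Y ∧ Y.IsSeparated) ∨ NoetherianSpace Y) (q : X ⟶ Y) [QuasiCompact q] [LocallyOfFiniteType q]
    (L : X.Modules) (hL : PicF.IsInvertible L) (hLq : Coh.IsQCoh L)
    (𝒮L : RelProj.QCGrAlg X) (jL : L ⟶ 𝒮L.toModule) (hjL : RelProj.IsGrSymAlg L 𝒮L jL)
    (pL : PL ⟶ X) (chartL : ∀ (U : X.Opens) (hU : IsAffineOpen U), (((pL ⁻¹ᵁ U : PL.Opens) : Scheme.{u}) ≅ Proj (𝒮L.deg U hU)))
    (hPL : RelProj.IsRelProj 𝒮L pL chartL)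
    (h : RelProj.IsRelVeryAmple q L) :
    ∃ (E : Y.Modules) (_ : Coh.IsQCoh E) (_ : CohB1.IsFT E) (ι : E ⟶ (Scheme.Modules.pushforward q).obj L)
      (_ : ∀ U : Y.Opens, Function.Injective (ι.app U))
      (𝒯 : RelProj.QCGrAlg Y) (jE : E ⟶ 𝒯.toModule) (_ : RelProj.IsGrSymAlg E 𝒯 jE)
      (u : RelProj.QGrHom q 𝒯 𝒮L)
      (_ : ∀ (U : Y.Opens) (x : Γ(E, U)), (u.app U).hom ((jE.app U) x) = (jL.app (q ⁻¹ᵁ U)) ((ι.app U) x)),
      (∀ x : X, ∃ (U : Y.Opens) (hU : IsAffineOpen U) (e : Γ(E, U)) (V : X.Opens) (hV : IsAffineOpen V)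
          (hVU : V ≤ q ⁻¹ᵁ U), x ∈ V ∧
            ((𝒮L.deg V hV 1 : AddSubgroup (𝒮L.presheaf.obj (op V))) : Set (𝒮L.presheaf.obj (op V))) ⊆
              (Ideal.span {(u.appLE U V hVU).hom ((jE.app U) e)} : Set (𝒮L.presheaf.obj (op V)))) ∧
      ∀ (P : Scheme.{u}) (p : P ⟶ Y)
          (chart : ∀ (U : Y.Opens) (hU : IsAffineOpen U), (((p ⁻¹ᵁ U : P.Opens) : Scheme.{u}) ≅ Proj (𝒯.deg U hU)))
          (_ : RelProj.IsRelProj 𝒯 p chart)
          (r : ((RelProj.domQ u pL chartL : PL.Opens) : Scheme.{u}) ⟶ P)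
          (_ : RelProj.IsProjQMapOn u p chart pL chartL (RelProj.domQ u pL chartL) r),
        RelProj.domQ u pL chartL = ⊤ ∧ IsImmersion r := by
  have hY : CompactSpace Y ∧ QuasiSeparatedSpace Y := by
    rcases hYs with ⟨h1, h2⟩ | h1
    · haveI := h2
      exact ⟨h1, inferInstance⟩
    · haveI := h1
      exact ⟨inferInstance, inferInstance⟩
  haveI := hY.1
  haveI := hY.2
  haveI := VA11.isSeparated_of_isRelVeryAmple h
  have hE0 : Coh.IsQCoh ((Scheme.Modules.pushforward q).obj L) := M1.isQCoh_push q hLq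
  obtain ⟨E', φ', -, hva⟩ := VA11.exists_va_of_isRelVeryAmple h
  have hV : VA11.VAmp (𝟙 ((Scheme.Modules.pushforward q).obj L)) :=
    VA11.vamp_of_forall fun U hU => VA11.va_congr (fun k => φ'.app U k) (fun k => rfl) (hva U hU)
  obtain ⟨E, ι, hm, hE, hft, hvι⟩ := VA11.exists_ft_sub_vamp hE0 hV
  rw [Category.comp_id] at hvι
  haveI := hm
  obtain ⟨u, hu⟩ := VA11.exists_qGrHom_symGr hE (ι ≫ (Scheme.Modules.pushforward q).map jL)
    (fun U hU U' hU' hle m => by
      have := hjL.2 U' hU' (M1.mres L hle (ι.app U m))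
      erw [M1.app_mres jL hle] at this
      exact this)
  have hu' : ∀ (U : Y.Opens) (x : Γ(E, U)),
      (u.app U).hom ((SymAlg11.symGen hE).app U x) = (jL.app (q ⁻¹ᵁ U)) (ι.app U x) := fun U x => hu U x
  refine ⟨E, hE, hft, ι, fun U => M1.app_injective ι U, VA11.symGr hE, _, VA11.isGrSymAlg_symGr hE, u,
    hu', fun x => ?_, fun P p chart hP r hr =>
      VA11.qMapOn_isImmersion_of_vamp hE (VA11.isGrSymAlg_symGr hE) hP hLq hjL hL hPL hu' hr hvι⟩
  obtain ⟨U₀, m₀, hm₀⟩ := hvι.gens x
  obtain ⟨U, hU, hxU, -⟩ := exists_isAffineOpen_mem_and_subset (U := (⊤ : Y.Opens)) (x := q x) trivial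
  obtain ⟨m, hm⟩ := VA11.exists_mem_gl_of_nbhd hE ι hU hxU hm₀
  obtain ⟨V, hV, hxV, hVle⟩ := exists_isAffineOpen_mem_and_subset hm
  refine ⟨U, hU, m, V, hV, hVle.trans (VA11.gl_le _), hxV,
    (SymAlg11.gens_iff_isUnit hLq hjL hV (VA11.isGenerator_of_le_gl _ hVle) (a := 1) ?_).2 isUnit_one⟩
  rw [map_one, one_mul, pow_one]
  exact VA11.gradedAt_gen hu' U hU hV _ m

end Groth.Agent.S12688
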