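import Groth.Statements.S12689
import Groth.Agent.Lib.VeryAmple11.DegOne
import Groth.Agent.Lib.VeryAmple11.QHomSym
import Groth.Agent.Lib.VeryAmple11.Locality

set_option autoImplicit false
universe u
open CategoryTheory CategoryTheory.Limits AlgebraicGeometry TopologicalSpace Opposite
open scoped HomogeneousIdeal
noncomputable section
open EGA2

namespace Groth.Agent.S12689

/-- Let Y be a scheme which is either quasi-compact and separated or has Noetherian underlying space, q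
: X → Y a morphism of finite type, L an invertible O_X-module with graded symmetric algebra 𝒮L =
⊕_{n≥0} L^{⊗n} (whose relative Proj PL, given with its charts, is identified with X by its structure
morphism), F a quasi-coherent O_Y-module with graded symmetric algebra 𝒯 = Sym(F) (structure map jF)
and projective bundle P = P(F) = Proj(𝒯) → Y given with its charts, u : 𝒯 → q_*𝒮L a graded
q-morphism — adjoint to Sym(φ) for the homomorphism φ : q^*F → L it determines in degree one — with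
φ surjective (every point of X has an affine neighbourhood V over which the image of a single
section of F generates L), and r = r_{L,φ} : G(φ) → P the induced morphism on its open of definition
G(φ) ⊆ PL (which is all of PL, φ being surjective). Then r is an immersion if and only if there are
a quasi-coherent O_Y-module E of finite type with an injective map ι : E → F, its graded symmetric
algebra 𝒯' = Sym(E) (structure map jE) and the graded q-morphism u' : 𝒯' → q_*𝒮L obtained from u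
through Sym(ι), such that the corresponding φ' : q^*E → L is surjective (in the same stalkwise
sense) and, for the projective bundle P(E) = Proj(𝒯') → Y (with its charts) and the induced r' =
r_{L,φ'} : G(φ') → P(E), r' is everywhere defined and an immersion. -/
theorem result {X Y P PL : Scheme.{u}}
    (hYs : (CompactSpace Y ∧ Y.IsSeparated) ∨ NoetherianSpace Y) (q : X ⟶ Y) [QuasiCompact q] [LocallyOfFiniteType q]
    (L : X.Modules) (hL : PicF.IsInvertible L) (hLq : Coh.IsQCoh L)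
    (𝒮L : RelProj.QCGrAlg X) (jL : L ⟶ 𝒮L.toModule) (hjL : RelProj.IsGrSymAlg L 𝒮L jL)
    (pL : PL ⟶ X) (chartL : ∀ (U : X.Opens) (hU : IsAffineOpen U), (((pL ⁻¹ᵁ U : PL.Opens) : Scheme.{u}) ≅ Proj (𝒮L.deg U hU)))
    (hPL : RelProj.IsRelProj 𝒮L pL chartL)
    (F : Y.Modules) (hFq : Coh.IsQCoh F) (𝒯 : RelProj.QCGrAlg Y) (jF : F ⟶ 𝒯.toModule) (h𝒯 : RelProj.IsGrSymAlg F 𝒯 jF)
    (u : RelProj.QGrHom q 𝒯 𝒮L)
    (hsurj : ∀ x : X, ∃ (U : Y.Opens) (hU : IsAffineOpen U) (e : Γ(F, U)) (V : X.Opens) (hV : IsAffineOpen V)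
        (hVU : V ≤ q ⁻¹ᵁ U), x ∈ V ∧
          ((𝒮L.deg V hV 1 : AddSubgroup (𝒮L.presheaf.obj (op V))) : Set (𝒮L.presheaf.obj (op V))) ⊆
              (Ideal.span {(u.appLE U V hVU).hom ((jF.app U) e)} : Set (𝒮L.presheaf.obj (op V))))
    (p : P ⟶ Y) (chart : ∀ (U : Y.Opens) (hU : IsAffineOpen U), (((p ⁻¹ᵁ U : P.Opens) : Scheme.{u}) ≅ Proj (𝒯.deg U hU)))
    (hP : RelProj.IsRelProj 𝒯 p chart)
    (r : ((RelProj.domQ u pL chartL : PL.Opens) : Scheme.{u}) ⟶ P)
    (hr : RelProj.IsProjQMapOn u p chart pL chartL (RelProj.domQ u pL chartL) r) :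
    IsImmersion r ↔
      ∃ (E : Y.Modules) (_ : Coh.IsQCoh E) (_ : CohB1.IsFT E) (ι : E ⟶ F) (_ : ∀ U : Y.Opens, Function.Injective (ι.app U))
        (𝒯' : RelProj.QCGrAlg Y) (jE : E ⟶ 𝒯'.toModule) (_ : RelProj.IsGrSymAlg E 𝒯' jE)
        (u' : RelProj.QGrHom q 𝒯' 𝒮L)
        (_ : ∀ (U : Y.Opens) (x : Γ(E, U)), (u'.app U).hom ((jE.app U) x) = (u.app U).hom ((jF.app U) ((ι.app U) x))),
        (∀ x : X, ∃ (U : Y.Opens) (hU : IsAffineOpen U) (e : Γ(E, U)) (V : X.Opens) (hV : IsAffineOpen V)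
            (hVU : V ≤ q ⁻¹ᵁ U), x ∈ V ∧
              ((𝒮L.deg V hV 1 : AddSubgroup (𝒮L.presheaf.obj (op V))) : Set (𝒮L.presheaf.obj (op V))) ⊆
              (Ideal.span {(u'.appLE U V hVU).hom ((jE.app U) e)} : Set (𝒮L.presheaf.obj (op V)))) ∧
        ∀ (P' : Scheme.{u}) (p' : P' ⟶ Y)
            (chart' : ∀ (U : Y.Opens) (hU : IsAffineOpen U), (((p' ⁻¹ᵁ U : P'.Opens) : Scheme.{u}) ≅ Proj (𝒯'.deg U hU)))
            (_ : RelProj.IsRelProj 𝒯' p' chart')
            (r' : ((RelProj.domQ u' pL chartL : PL.Opens) : Scheme.{u}) ⟶ P')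
            (_ : RelProj.IsProjQMapOn u' p' chart' pL chartL (RelProj.domQ u' pL chartL) r'),
          RelProj.domQ u' pL chartL = ⊤ ∧ IsImmersion r' := by
  obtain ⟨φ, hφ⟩ := VA11.exists_degOne_hom hLq hjL u h𝒯.2
  have hg : VA11.Gens φ := VA11.gens_of_span hLq hjL hφ hL hsurj
  constructor
  · intro hi
    have hV := VA11.vamp_of_qMapOn_isImmersion hLq hjL hφ hFq h𝒯 hL hP hPL hr hg
    have hY : CompactSpace Y ∧ QuasiSeparatedSpace Y := by
      rcases hYs with ⟨h1, h2⟩ | h1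
      · haveI := h2
        exact ⟨h1, inferInstance⟩
      · haveI := h1
        exact ⟨inferInstance, inferInstance⟩
    haveI := hY.1
    haveI := hY.2
    obtain ⟨E, ι, hm, hE, hft, hvι⟩ := VA11.exists_ft_sub_vamp hFq hV
    haveI := hm
    obtain ⟨u', hu'⟩ := VA11.exists_qGrHom_symGr hE ((ι ≫ φ) ≫ (Scheme.Modules.pushforward q).map jL)
      (fun U hU U' hU' hle m => by
        have := hjL.2 U' hU' (M1.mres L hle ((ι ≫ φ).app U m))
        erw [M1.app_mres jL hle] at this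
        exact this)
    have hu'' : ∀ (U : Y.Opens) (x : Γ(E, U)),
        (u'.app U).hom ((SymAlg11.symGen hE).app U x) = (jL.app (q ⁻¹ᵁ U)) ((ι ≫ φ).app U x) :=
      fun U x => hu' U x
    refine ⟨E, hE, hft, ι, fun U => M1.app_injective ι U, VA11.symGr hE, _, VA11.isGrSymAlg_symGr hE, u',
      fun U x => (hu'' U x).trans (hφ U (ι.app U x)).symm, fun x => ?_, fun P' p' chart' hP' r' hr' =>
        VA11.qMapOn_isImmersion_of_vamp hE (VA11.isGrSymAlg_symGr hE) hP' hLq hjL hL hPL hu'' hr' hvι⟩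
    obtain ⟨U₀, m₀, hm₀⟩ := hvι.gens x
    obtain ⟨U, hU, hxU, -⟩ := exists_isAffineOpen_mem_and_subset (U := (⊤ : Y.Opens)) (x := q x) trivial
    obtain ⟨m, hm⟩ := VA11.exists_mem_gl_of_nbhd hE (ι ≫ φ) hU hxU hm₀
    obtain ⟨V, hV, hxV, hVle⟩ := exists_isAffineOpen_mem_and_subset hm
    refine ⟨U, hU, m, V, hV, hVle.trans (VA11.gl_le _), hxV,
      (SymAlg11.gens_iff_isUnit hLq hjL hV (VA11.isGenerator_of_le_gl _ hVle) (a := 1) ?_).2 isUnit_one⟩
    rw [map_one, one_mul, pow_one]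
    exact VA11.gradedAt_gen hu'' U hU hV _ m
  · rintro ⟨E, hE, -, ι, -, 𝒯', jE, h𝒯', u', hu', hs', hall⟩
    have hu'' : ∀ (U : Y.Opens) (x : Γ(E, U)),
        (u'.app U).hom ((jE.app U) x) = (jL.app (q ⁻¹ᵁ U)) ((ι ≫ φ).app U x) :=
      fun U x => (hu' U x).trans (hφ U (ι.app U x))
    obtain ⟨P', p', chart', hP'⟩ := RelProj11.exists_isRelProj 𝒯'
    obtain ⟨r', hr', -⟩ := RelProj11.existsUnique_qMapOn u' hP' hPL
    haveI := (hall P' p' chart' hP' r' hr').2
    have hV := VA11.vamp_of_qMapOn_isImmersion hLq hjL hu'' hE h𝒯' hL hP' hPL hr'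
      (VA11.gens_of_span hLq hjL hu'' hL hs')
    exact (VA11.qMapOn_isImmersion_of_vamp hFq h𝒯 hP hLq hjL hL hPL hφ hr (VA11.vamp_of_comp ι hV)).2

end Groth.Agent.S12689
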