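import Groth.Statements.S1269
import Groth.Agent.Lib.Dev4.PureOpen
import Groth.Agent.Lib.Dev4.FreePoint
import Groth.Agent.Lib.Kap.Local

set_option autoImplicit false
universe u
open FlatMor
set_option maxSynthPendingDepth 3

set_option backward.isDefEq.respectTransparency.types false

namespace Groth.Agent.S1269

open AlgebraicGeometry CategoryTheory TensorProduct in
/-- Ring form, X = Spec S and S = Spec R affine: let S be a finite type R-algebra, N a finite S-module
and q a prime of S over p with N_q flat over R. Then there is an étale R-algebra R' with a prime p'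
over p having the same residue field such that, writing A for the local ring of R' at p' and S_A,
N_A for the base changes (any models), there is an S_A-algebra C with Spec C → Spec S_A an open
immersion (an affine open U'), containing a point lying over q and over the maximal ideal of A, such
that C ⊗_{S_A} N_A is a free A-module. -/
theorem result {R S : Type u} [CommRing R] [CommRing S] [Algebra R S] [Algebra.FiniteType R S]
    (N : Type u) [AddCommGroup N] [Module S N] [Module R N] [IsScalarTower R S N] [Module.Finite S N]
    (p : Ideal R) [p.IsPrime] (q : Ideal S) [q.IsPrime] [q.LiesOver p] (hflat : FlatCA.FlatAt R q N) :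
    ∃ (R' : Type u) (_ : CommRing R') (_ : Algebra R R') (p' : Ideal R') (_ : p'.IsPrime), FlatCA.IsEtaleNhd R R' p p' ∧
      ∀ (SA NA : Type u) [CommRing SA] [Algebra R SA] [Algebra S SA] [Algebra (Localization.AtPrime p') SA]
        [IsScalarTower R S SA] [IsScalarTower R (Localization.AtPrime p') SA]
        [Algebra.IsPushout R S (Localization.AtPrime p') SA]
        [AddCommGroup NA] [Module SA NA] [Module S NA] [IsScalarTower S SA NA]
        (f : N →ₗ[S] NA), IsBaseChange SA f →
        ∃ (C : Type u) (_ : CommRing C) (_ : Algebra SA C) (_ : Algebra (Localization.AtPrime p') C)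
          (_ : IsScalarTower (Localization.AtPrime p') SA C) (x' : Ideal C) (_ : x'.IsPrime),
          IsOpenImmersion (Spec.map (CommRingCat.ofHom (algebraMap SA C))) ∧
          (x'.comap (algebraMap SA C)).LiesOver q ∧
          (x'.comap (algebraMap SA C)).LiesOver (IsLocalRing.maximalIdeal (Localization.AtPrime p')) ∧
          Module.Free (Localization.AtPrime p') (RestrictScalars (Localization.AtPrime p') C (C ⊗[SA] NA)) := by
  classical
  obtain ⟨R', _, _, p', _, hR, hfree⟩ := Dev4.exists_free_point N p q hflat
  refine ⟨R', inferInstance, inferInstance, p', inferInstance, hR, ?_⟩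
  intro SA NA _ _ _ _ _ _ _ _ _ _ _ f hf
  let L := Localization.AtPrime p'
  obtain ⟨C, _, _, _, _, _, _, x', _, hxq, hxm, het, -, hfr, -⟩ := hfree SA
  haveI := het
  haveI := hfr
  haveI : Algebra.IsPushout R L S SA := Algebra.IsPushout.symm inferInstance
  haveI : Algebra.FiniteType L SA :=
    Algebra.FiniteType.equiv inferInstance (Algebra.IsPushout.equiv R L S SA)
  haveI : Module.Free L (C ⊗[S] N) := Dev4.free_of_restrictScalars (C := C)
  letI : Module L NA := Module.compHom NA (algebraMap L SA)
  haveI : IsScalarTower L SA NA := IsScalarTower.of_algebraMap_smul fun _ _ => rfl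
  haveI : Module.Finite SA NA := Module.Finite.equiv hf.equiv
  let eC : C ⊗[SA] NA ≃ₗ[C] C ⊗[S] N :=
    (AlgebraTensorModule.congr (LinearEquiv.refl C C) hf.equiv.symm).trans
      (AlgebraTensorModule.cancelBaseChange S SA C C N)
  haveI : Module.Projective L (C ⊗[SA] NA) := Module.Projective.of_equiv (eC.restrictScalars L).symm
  obtain ⟨g, hgx, hcov, hinj⟩ := Dev4.exists_good_element (A := L) (B := SA) (C := C) NA
    (IsLocalRing.maximalIdeal L) x'
  let C₁ := Localization.Away g
  let N₁ := C₁ ⊗[SA] NA
  haveI : Algebra.FiniteType SA C₁ :=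
    haveI : Algebra.FinitePresentation SA C₁ := IsLocalization.Away.finitePresentation g
    inferInstance
  haveI : Algebra.FiniteType L C₁ := Algebra.FiniteType.trans (S := SA) inferInstance inferInstance
  haveI : Module.Flat L N₁ := Dev4.flat_away_of_covered (C := C) NA g hcov
  have hpure := Dev4.isPureAlong_away (A := L) (B := SA) (C := C) (B₁ := C₁) NA g hcov (IsLocalRing.maximalIdeal L) hinj
  let Lm := Localization.AtPrime (IsLocalRing.maximalIdeal L)
  haveI : Module.Projective Lm (Lm ⊗[L] N₁) := Dev4.projective_local_of_isPureAlong N₁ (IsLocalRing.maximalIdeal L)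
    (fun Q _ _ => RG4.flat_of_isLocalizedModule (R := L) Q.primeCompl (LocalizedModule.mkLinearMap Q.primeCompl N₁)) hpure
  haveI : IsLocalHom (algebraMap L Lm) := ⟨fun a ha => by
    by_contra h
    exact ((IsLocalization.AtPrime.isUnit_to_map_iff Lm (IsLocalRing.maximalIdeal L) a).1 ha)
      ((IsLocalRing.mem_maximalIdeal a).2 h)⟩
  haveI : Module.Flat L Lm := IsLocalization.flat Lm (IsLocalRing.maximalIdeal L).primeCompl
  haveI : Module.FaithfullyFlat L Lm := Module.FaithfullyFlat.of_flat_of_isLocalHom
  haveI : Module.Projective L N₁ := CAlgLow.projective_of_faithfullyFlat (S := Lm)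
  haveI := Kap.free_of_projective (R := L) (P := N₁)
  have hdis : Disjoint ((Submonoid.powers g : Submonoid SA) : Set SA) ((x'.comap (algebraMap SA C) : Ideal SA) : Set SA) :=
    (Ideal.disjoint_powers_iff_notMem_of_isPrime _).2 hgx
  let x₁ := (x'.comap (algebraMap SA C)).map (algebraMap SA C₁)
  haveI hx₁ : x₁.IsPrime := IsLocalization.isPrime_of_isPrime_disjoint (Submonoid.powers g) _ _ inferInstance hdis
  have hcx : x₁.comap (algebraMap SA C₁) = x'.comap (algebraMap SA C) :=
    IsLocalization.under_map_of_isPrime_disjoint (Submonoid.powers g) _ inferInstance hdis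
  refine ⟨C₁, inferInstance, inferInstance, inferInstance, inferInstance, x₁, hx₁,
    inferInstance, ⟨?_⟩, ⟨?_⟩, ?_⟩
  · rw [hcx]
    show q = (x'.comap (algebraMap SA C)).comap (algebraMap S SA)
    rw [Ideal.comap_comap, ← IsScalarTower.algebraMap_eq]
    exact hxq.over
  · rw [hcx]
    show _ = (x'.comap (algebraMap SA C)).comap (algebraMap (Localization.AtPrime p') SA)
    rw [Ideal.comap_comap, ← IsScalarTower.algebraMap_eq]
    exact hxm.over
  · exact Module.Free.of_equiv
      ({ toFun := fun y => (RestrictScalars.addEquiv L C₁ N₁).symm y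
         invFun := fun y => RestrictScalars.addEquiv L C₁ N₁ y
         left_inv := fun y => by simp
         right_inv := fun y => by simp
         map_add' := fun a b => by simp
         map_smul' := fun l a => by
           apply (RestrictScalars.addEquiv L C₁ N₁).injective
           simp [RestrictScalars.addEquiv_map_smul] } : N₁ ≃ₗ[L] RestrictScalars L C₁ N₁)

end Groth.Agent.S1269
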