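import Groth.Statements.S12691
import Groth.Agent.Lib.VeryAmple11.DegOneImm

set_option autoImplicit false
universe u
open CategoryTheory CategoryTheory.Limits AlgebraicGeometry TopologicalSpace Opposite
open scoped HomogeneousIdeal
noncomputable section
open Mor

namespace Groth.Agent.S12691

/-- Let f : X → Y be a quasi-compact morphism, L an invertible O_X-module with graded symmetric algebra
𝒮L = ⊕_{n≥0} L^{⊗n} (whose relative Proj PL, given with its charts, is identified with X by its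
structure morphism), 𝒜 a quasi-coherent graded O_Y-algebra generated in degree one over O_Y (its
degree-zero part is the image of O_Y and degrees zero and one generate it), u : 𝒜 → f_*𝒮L a graded
f-morphism (adjoint to a homomorphism of graded algebras ψ : f^*𝒜 → ⊕ L^{⊗n}) whose degree-one part
f^*𝒜_1 → L is surjective — every point of X has an affine neighbourhood V over which the image of a
single degree-one section of 𝒜 generates L — P = Proj(𝒜) → Y with its charts, and r = r_{L,ψ} : U(ψ)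
→ P the induced morphism on its open of definition U(ψ) ⊆ PL. If r is an immersion, then L is very
ample relative to f (isomorphic to the inverse image of O(1) along a Y-immersion into the projective
bundle of a quasi-coherent O_Y-module). -/
theorem result {X Y P PL : Scheme.{u}} (f : X ⟶ Y) [QuasiCompact f]
    (L : X.Modules) (hL : PicF.IsInvertible L) (hLq : Coh.IsQCoh L)
    (𝒮L : RelProj.QCGrAlg X) (jL : L ⟶ 𝒮L.toModule) (hjL : RelProj.IsGrSymAlg L 𝒮L jL)
    (pL : PL ⟶ X) (chartL : ∀ (U : X.Opens) (hU : IsAffineOpen U), (((pL ⁻¹ᵁ U : PL.Opens) : Scheme.{u}) ≅ Proj (𝒮L.deg U hU)))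
    (hPL : RelProj.IsRelProj 𝒮L pL chartL)
    (𝒜 : RelProj.QCGrAlg Y) (h1 : 𝒜.IsGenDegOne)
    (h0 : ∀ (U : Y.Opens) (hU : IsAffineOpen U),
      ((𝒜.deg U hU 0 : AddSubgroup (𝒜.presheaf.obj (op U))) : Set (𝒜.presheaf.obj (op U))) = Set.range (𝒜.str.app (op U)).hom)
    (u : RelProj.QGrHom f 𝒜 𝒮L)
    (hsurj : ∀ x : X, ∃ (U : Y.Opens) (hU : IsAffineOpen U) (e : 𝒜.presheaf.obj (op U)) (_ : e ∈ 𝒜.deg U hU 1)
        (V : X.Opens) (hV : IsAffineOpen V) (hVU : V ≤ f ⁻¹ᵁ U), x ∈ V ∧
          ((𝒮L.deg V hV 1 : AddSubgroup (𝒮L.presheaf.obj (op V))) : Set (𝒮L.presheaf.obj (op V))) ⊆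
            (Ideal.span {(u.appLE U V hVU).hom e} : Set (𝒮L.presheaf.obj (op V))))
    (p : P ⟶ Y) (chart : ∀ (U : Y.Opens) (hU : IsAffineOpen U), (((p ⁻¹ᵁ U : P.Opens) : Scheme.{u}) ≅ Proj (𝒜.deg U hU)))
    (hP : RelProj.IsRelProj 𝒜 p chart)
    (r : ((RelProj.domQ u pL chartL : PL.Opens) : Scheme.{u}) ⟶ P)
    (hr : RelProj.IsProjQMapOn u p chart pL chartL (RelProj.domQ u pL chartL) r)
    (himm : IsImmersion r) :
    RelProj.IsRelVeryAmple f L := by
  haveI := himm
  haveI := SymAlg11.isIso_pL hLq hjL hL hPL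
  have htop : RelProj.domQ u pL chartL = ⊤ := by
    refine top_le_iff.1 fun z _ => ?_
    obtain ⟨U, hU, e, he, V, hV, hVU, hxV, hg⟩ := hsurj (pL z)
    have hnv : pL z ∈ SymAlg11.nv 𝒮L V 1 (u.gradedAt U hU V hV hVU e) :=
      Opens.mem_iSup.2 ⟨⟨⟨V, hV⟩, le_rfl, by rw [SymAlg11.gres_self]; exact hg⟩, hxV⟩
    have := RelProj11.range_qC_subset _
      ((SymAlg11.mem_range_qC_iff hLq hjL hL hPL u ⟨U, hU, V, hV, hVU, 1, one_pos, e, he⟩ z).2 hnv)
    rwa [Scheme.Opens.range_ι] at this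
  exact VA11.isRelVeryAmple_of_genDegOne hLq hjL hL u hP hPL hr h1 htop

end Groth.Agent.S12691
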