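import Groth.Statements.S12692
import Groth.Agent.Lib.SymAlg11.LineAmpleAffine

set_option autoImplicit false
universe u
open CategoryTheory CategoryTheory.Limits AlgebraicGeometry TopologicalSpace Opposite
open scoped HomogeneousIdeal
noncomputable section
open Coh

namespace Groth.Agent.S12692

/-- Let X be a quasi-compact scheme, L an invertible O_X-module with graded symmetric algebra 𝒮L =
⊕_{d≥0} L^{⊗d} (whose relative Proj PL, given with its charts, is identified with X by its structure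
morphism), f : X → Y a quasi-compact morphism to an AFFINE scheme Y, 𝒜 a quasi-coherent graded
O_Y-algebra given with a graded f-morphism u : 𝒜 → f_*𝒮L which is bijective on global sections — so
that Γ(Y, 𝒜) is the graded ring S = ⊕_d Γ(X, L^{⊗d}) and P = Proj(𝒜) (given with its charts) is
Proj(S) — and r : G(u) → P the canonical morphism on its open of definition G(u) ⊆ PL. If G(u) is
all of PL (that is, every point of X lies in an open X_s for some homogeneous s ∈ S_+), then r is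
quasi-compact and has dense image. (The published statement forms the homogeneous spectrum of the
graded ring S itself, with no base scheme; any affine Y under X gives the same graded ring, the same
homogeneous spectrum and the same morphism.) -/
theorem result {X Y P PL : Scheme.{u}} [CompactSpace X]
    (f : X ⟶ Y) [QuasiCompact f] (hY : IsAffineOpen (⊤ : Y.Opens))
    (L : X.Modules) (hL : PicF.IsInvertible L) (hLq : Coh.IsQCoh L)
    (𝒮L : RelProj.QCGrAlg X) (jL : L ⟶ 𝒮L.toModule) (hjL : RelProj.IsGrSymAlg L 𝒮L jL)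
    (pL : PL ⟶ X) (chartL : ∀ (U : X.Opens) (hU : IsAffineOpen U), (((pL ⁻¹ᵁ U : PL.Opens) : Scheme.{u}) ≅ Proj (𝒮L.deg U hU)))
    (hPL : RelProj.IsRelProj 𝒮L pL chartL)
    (𝒜 : RelProj.QCGrAlg Y) (u : RelProj.QGrHom f 𝒜 𝒮L)
    (p : P ⟶ Y) (chart : ∀ (U : Y.Opens) (hU : IsAffineOpen U), (((p ⁻¹ᵁ U : P.Opens) : Scheme.{u}) ≅ Proj (𝒜.deg U hU)))
    (hP : RelProj.IsRelProj 𝒜 p chart)
    (r : ((RelProj.domQ u pL chartL : PL.Opens) : Scheme.{u}) ⟶ P)
    (hr : RelProj.IsProjQMapOn u p chart pL chartL (RelProj.domQ u pL chartL) r)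
    (hu : Function.Bijective (u.app ⊤).hom)
    (htop : RelProj.domQ u pL chartL = ⊤) :
    QuasiCompact r ∧ IsDominant r := by
  haveI := SymAlg11.isIso_pL hLq hjL hL hPL
  haveI : IsSeparated p := RelProj11.isSeparated hP
  haveI : IsAffine Y := ⟨IsAffine.affine (self := IsAffine.of_isIso (Scheme.topIso Y).inv (h := hY))⟩
  haveI : IsIso (RelProj.domQ u pL chartL).ι := by
    have : ∀ W : PL.Opens, W = ⊤ → IsIso W.ι := by
      rintro _ rfl
      rw [← Scheme.topIso_hom]
      infer_instance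
    exact this _ htop
  have hqc : QuasiCompact r := by
    haveI : QuasiCompact (r ≫ p) := by
      rw [RelProj11.qMapOn_comp hP hPL hr]
      infer_instance
    exact QuasiCompact.of_comp r p
  refine ⟨hqc, ⟨dense_iff_inter_open.2 fun O hO hne => ?_⟩⟩
  obtain ⟨y, hy⟩ := hne
  obtain ⟨w, rfl⟩ : y ∈ Set.range (RelProj.emb p chart ⊤ hY) := by
    rw [RelProj11.range_emb (𝒮' := 𝒜) p chart ⊤ hY]
    exact trivial
  obtain ⟨m, hm, t, ht, hwt, htO⟩ := SymAlg11.exists_basicOpen_le_proj (𝒜.deg ⊤ hY)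
    (O := RelProj.emb p chart ⊤ hY ⁻¹ᵁ ⟨O, hO⟩) (w := w) hy
  obtain ⟨x, hx'⟩ : ∃ x, x ∈ SymAlg11.locU u m t := by
    by_contra hcon
    push Not at hcon
    have hWc : IsCompact (f ⁻¹ᵁ (⊤ : Y.Opens) : Set X) := by
      rw [Scheme.Hom.preimage_top f]; exact isCompact_univ
    have h0 : SymAlg11.gres 𝒮L (SymAlg11.nv_le (f ⁻¹ᵁ ⊤) m ((u.app ⊤).hom t))
        (1 : 𝒮L.presheaf.obj (op (f ⁻¹ᵁ ⊤))) = 0 :=
      SymAlg11.eq_of_locally fun z hz => absurd hz (hcon z)
    obtain ⟨k, hk⟩ := SymAlg11.exists_pow_kill hLq hjL hL hWc (SymAlg11.isHom_app u hY ht)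
      SymAlg11.isHom_one h0
    rw [mul_one, ← map_pow, ← map_zero (u.app ⊤).hom] at hk
    refine (ProjectiveSpectrum.mem_basicOpen _ _ _).1 hwt (w.isPrime.mem_of_pow_mem k ?_)
    rw [hu.1 hk]
    exact zero_mem _
  obtain ⟨z, rfl⟩ := pL.surjective x
  have hz : z ∈ RelProj.domQ u pL chartL := htop.ge trivial
  obtain ⟨v, hv, hve⟩ := (SymAlg11.mem_preimage_iff' hLq hjL hL u hP hPL hr hY hm ht ⟨z, hz⟩).2 hx'
  exact ⟨r ⟨z, hz⟩, hve ▸ htO hv, ⟨_, rfl⟩⟩

end Groth.Agent.S12692
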