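import Groth.Statements.S12694
import Groth.Agent.Lib.VeryAmple11.TwistAmple
import Groth.Agent.Lib.SymAlg11.LineAmple
import Groth.Agent.Lib.RelProj11.Basic

set_option autoImplicit false
universe u
open CategoryTheory CategoryTheory.Limits AlgebraicGeometry TopologicalSpace Opposite
open scoped HomogeneousIdeal
noncomputable section
open EGA2

namespace Groth.Agent.S12694

/-- Let f : X → Y be a quasi-compact morphism, L an invertible O_X-module with graded symmetric algebra
𝒮L = ⊕_{m≥0} L^{⊗m} (whose relative Proj pL : PL → X, given with its charts, is identified with X by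
pL), 𝒜 a quasi-coherent graded O_Y-algebra given with a graded f-morphism u : 𝒜 → f_*𝒮L bijective on
sections over every affine open of Y — so that 𝒜 is ⊕_{m≥0} f_*(L^{⊗m}) and u is adjoint to the
canonical σ — P = Proj(𝒜) → Y with its charts, O_P(n) its twisting module of degree n ≥ 0 (given
with its chart identifications) and r = r_{L,σ} : G(σ) → P the induced morphism on its open of
definition G(σ) ⊆ PL. If L is ample relative to f, then the inverse image r^*O_P(n) is isomorphic to
the inverse image of L^{⊗n} along G(σ) ⊆ PL → X. (Existence of an isomorphism only: the published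
statement asserts that a named canonical homomorphism r^*O_P(n) → L^{⊗n} is an isomorphism, for
every integer n; negative degrees are not stated here.) -/
theorem result {X Y P PL : Scheme.{u}} (f : X ⟶ Y) [QuasiCompact f]
    (L : X.Modules) (hL : PicF.IsInvertible L) (hLq : Coh.IsQCoh L)
    (𝒮L : RelProj.QCGrAlg X) (jL : L ⟶ 𝒮L.toModule) (hjL : RelProj.IsGrSymAlg L 𝒮L jL)
    (pL : PL ⟶ X) (chartL : ∀ (U : X.Opens) (hU : IsAffineOpen U), (((pL ⁻¹ᵁ U : PL.Opens) : Scheme.{u}) ≅ Proj (𝒮L.deg U hU)))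
    (hPL : RelProj.IsRelProj 𝒮L pL chartL)
    (𝒜 : RelProj.QCGrAlg Y) (u : RelProj.QGrHom f 𝒜 𝒮L)
    (p : P ⟶ Y) (chart : ∀ (U : Y.Opens) (hU : IsAffineOpen U), (((p ⁻¹ᵁ U : P.Opens) : Scheme.{u}) ≅ Proj (𝒜.deg U hU)))
    (hP : RelProj.IsRelProj 𝒜 p chart)
    (r : ((RelProj.domQ u pL chartL : PL.Opens) : Scheme.{u}) ⟶ P)
    (hr : RelProj.IsProjQMapOn u p chart pL chartL (RelProj.domQ u pL chartL) r)
    (hu : ∀ (U : Y.Opens), IsAffineOpen U → Function.Bijective (u.app U).hom)
    (h : RelAmple.IsRelAmple f L) (n : ℕ) (On : P.Modules)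
    (lamn : ∀ (U : Y.Opens) (hU : IsAffineOpen U),
      On ⟶ (Scheme.Modules.pushforward (RelProj.emb p chart U hU)).obj (GrTwist.twist (𝒜.deg U hU) (n : ℤ)))
    (hOn : RelProj.IsRelTwist 𝒜 p chart (n : ℤ) On lamn) :
    Nonempty ((Scheme.Modules.pullback r).obj On ≅
      (Scheme.Modules.pullback ((RelProj.domQ u pL chartL).ι ≫ pL)).obj (CohB1.tensorPow L n)) := by
  obtain ⟨htop, -, -⟩ := SymAlg11.isOpenImmersion_isDominant hLq hjL hL u hP hPL hr hu h
  haveI := SymAlg11.isIso_pL hLq hjL hL hPL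
  haveI : IsIso (RelProj.domQ u pL chartL).ι := by
    have : ∀ W : PL.Opens, W = ⊤ → IsIso W.ι := by
      rintro _ rfl
      rw [← Scheme.topIso_hom]
      infer_instance
    exact this _ htop
  let m := (RelProj.domQ u pL chartL).ι ≫ pL
  let g : X ⟶ P := inv m ≫ r
  have hm : m ≫ g = r := IsIso.hom_inv_id_assoc m r
  have hg : g ≫ p = f := by
    rw [Category.assoc, RelProj11.qMapOn_comp hP hPL hr]
    show inv m ≫ (RelProj.domQ u pL chartL).ι ≫ pL ≫ f = f
    rw [← Category.assoc (RelProj.domQ u pL chartL).ι pL f, IsIso.inv_hom_id_assoc]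
  obtain ⟨φ⟩ : Nonempty ((Scheme.Modules.pullback g).obj On ≅ CohB1.tensorPow L n) := by
    clear_value g
    subst hg
    exact VA11.nonempty_pullback_iso hLq hjL hL hP hPL g u hr hm hu h n hOn
  exact ⟨(Scheme.Modules.pullbackCongr hm.symm).app On ≪≫ ((Scheme.Modules.pullbackComp m g).app On).symm ≪≫
    (Scheme.Modules.pullback m).mapIso φ⟩

end Groth.Agent.S12694
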