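import Groth.Statements.S1954
import Groth.Agent.Lib.Diag27.Trans
import Groth.Agent.Lib.SmoothReg17.Basic
import Groth.Agent.Lib.IntMult26.MultLength
-- import your own Groth.Agent.* helpers here

set_option autoImplicit false
universe u
open CategoryTheory CategoryTheory.Limits AlgebraicGeometry
attribute [local instance] HasDerivedCategory.standard
open IntMult

namespace Groth.Agent.S1954

/-- Let Y, Z → X be closed immersions into a nonsingular variety with δ ≤ r on Y and δ ≤ s on Z, such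
that [Y]_r and [Z]_s intersect properly, and let τ be a point of δ-dimension r + s − n lying under Y
and Z (the generic point of a component of the intersection of components of dimension r and s) at
which the scheme-theoretic intersection Y ×_X Z has multiplicity 1 (its local ring there has length
1). Then the coefficient of the closure of τ in [Y]_r · [Z]_s is 1, and the local rings of Y and Z
at the points over τ are regular. (The published statement has further parts, not restated here.)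
Here X is a nonsingular variety over the algebraically closed field K (smooth, separated,
quasi-compact, integral) with dimension function δ (transcendence degree) and n = dim X; cycles are
Mathlib AlgebraicCycles with Cyc.Zk membership, proper intersection is IntMult.IntersectProperly and
α · β is the Tor-formula intersection product on coefficient functions (IntMult.interProd), bundled
where needed as 'any cycle with these coefficients'. -/
theorem result (K : Type u) [Field K] [IsAlgClosed K] (X : Scheme.{u}) (f : X ⟶ Spec (CommRingCat.of K)) [Smooth f] [IsSeparated f] [QuasiCompact f] [IsIntegral X] (δ : X → ℤ) (hX : Cyc.IsSetup X δ) (hδ : Cyc.DeltaCompat f δ (fun _ => 0)) (n : ℤ) (hn : δ (genericPoint X) = n) (Y Z : Scheme.{u}) (ιY : Y ⟶ X) (ιZ : Z ⟶ X) [IsClosedImmersion ιY] [IsClosedImmersion ιZ] (r s : ℤ) (hY : ∀ y : Y, δ (ιY y) ≤ r) (hZ : ∀ z : Z, δ (ιZ z) ≤ s) (hprop : IntMult.IntersectProperly δ n (Cyc.subschemeFun δ r ιY) (Cyc.subschemeFun δ s ιZ)) (τ : X) (hτ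 : δ τ = r + s - n) (hξ : ∃ ξ η : X, Cyc.subschemeFun δ r ιY ξ ≠ 0 ∧ Cyc.subschemeFun δ s ιZ η ≠ 0 ∧ ξ ⤳ τ ∧ η ⤳ τ) (hmult : Cyc.subschemeFun δ (r + s - n) (pullback.fst ιY ιZ ≫ ιY) τ = 1) : IntMult.interProd δ n (Cyc.subschemeFun δ r ιY) (Cyc.subschemeFun δ s ιZ) τ = 1 ∧ (∀ y : Y, ιY y = τ → IsRegularLocalRing (Y.presheaf.stalk y)) ∧ (∀ z : Z, ιZ z = τ → IsRegularLocalRing (Z.presheaf.stalk z)) := by
  have hd := hX.2.2
  haveI : IsLocallyNoetherian X := hX.1
  haveI : IsRegularLocalRing (X.presheaf.stalk τ) := SmoothReg17.isRegularLocalRing_stalk f τ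
  have hne : ∀ {T : Scheme.{u}} (ι : T ⟶ X) (k : ℤ) {x : X}, Cyc.subschemeFun δ k ι x ≠ 0 →
      δ x = k ∧ ∃ t : T, ι t = x := by
    intro T ι k x h
    unfold Cyc.subschemeFun at h
    split_ifs at h with hk
    · refine ⟨hk, ?_⟩
      by_contra hc
      exact h (finsum_mem_eq_zero_of_forall_eq_zero fun t ht => absurd ⟨t, ht⟩ hc)
    · exact absurd rfl h
  have hfun : ∀ {T : Scheme.{u}} (ι : T ⟶ X) [IsClosedImmersion ι] (k : ℤ) (t : T), δ (ι t) = k →
      Cyc.subschemeFun δ k ι (ι t) = ((Module.length (T.presheaf.stalk t) (T.presheaf.stalk t)).toNat : ℤ) := by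
    intro T ι _ k t h
    unfold Cyc.subschemeFun
    rw [if_pos h, show {w : T | ι w = ι t} = {t} from Set.ext fun w => ι.isClosedEmbedding.injective.eq_iff,
      finsum_mem_singleton]
  obtain ⟨ξ, η, hξ, hη, hξτ, hητ⟩ := hξ
  obtain ⟨hδξ, yξ, hyξ⟩ := hne ιY r hξ
  obtain ⟨hδη, zη, hzη⟩ := hne ιZ s hη
  obtain ⟨y, hy⟩ : τ ∈ Set.range ιY := hξτ.mem_closed ιY.isClosedEmbedding.isClosed_range ⟨yξ, hyξ⟩
  obtain ⟨z, hz⟩ : τ ∈ Set.range ιZ := hητ.mem_closed ιZ.isClosedEmbedding.isClosed_range ⟨zη, hzη⟩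
  obtain ⟨w, hw1, -⟩ := Scheme.Pullback.exists_preimage_pullback (f := ιY) (g := ιZ) y z (hy.trans hz.symm)
  have hw : (pullback.fst ιY ιZ ≫ ιY) w = τ := by rw [Scheme.Hom.comp_apply, hw1, hy]
  have hlen : Module.length (X.presheaf.stalk τ) (X.presheaf.stalk τ ⧸
      (RingHom.ker (Diag27.locMap ιY hy).hom ⊔ RingHom.ker (Diag27.locMap ιZ hz).hom)) = 1 := by
    rw [← Diag27.length_stalk_inter ιY ιZ hy hz w hw]
    have h := hfun (pullback.fst ιY ιZ ≫ ιY) (r + s - n) w (by rw [hw]; exact hτ)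
    rw [hw, hmult] at h
    have h1 : (Module.length ((pullback ιY ιZ).presheaf.stalk w) ((pullback ιY ιZ).presheaf.stalk w)).toNat = 1 := by
      exact_mod_cast h.symm
    exact ((ENat.toNat_eq_iff one_ne_zero).1 h1).trans Nat.cast_one
  set A := X.presheaf.stalk τ
  set I := RingHom.ker (Diag27.locMap ιY hy).hom
  set J := RingHom.ker (Diag27.locMap ιZ hz).hom
  have hmax : I ⊔ J = IsLocalRing.maximalIdeal A := by
    refine IsLocalRing.eq_maximalIdeal ?_
    haveI : IsSimpleModule A (A ⧸ (I ⊔ J)) := Module.length_eq_one_iff.1 hlen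
    exact Ideal.isMaximal_def.2 (isSimpleModule_iff_isCoatom.1 this)
  have dimEq : ∀ {T : Scheme.{u}} (ι : T ⟶ X) [IsClosedImmersion ι] (t t' : T) (h : ι t = τ) (k : ℤ),
      (∀ u, δ (ι u) ≤ k) → t' ⤳ t → δ (ι t') = k →
      ringKrullDim (A ⧸ RingHom.ker (Diag27.locMap ι h).hom) = ((k - δ τ).toNat : ℕ) := by
    intro T ι _ t t' h k hk htt hk'
    have hle' : ι t' ⤳ τ := h ▸ htt.map ι.continuous
    rw [← Module.supportDim_quotient_eq_ringKrullDim]
    refine le_antisymm (Diag27.supportDim_le_of_forall fun p hp => ?_) ?_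
    · rw [Module.support_eq_zeroLocus, Ideal.annihilator_quotient] at hp
      obtain ⟨u, hu⟩ := Diag27.exists_gen_of_ker_le ι h p hp
      have hd1 := Diag27.dim_genPrime hd (Diag27.fromSpecStalk_specializes τ p)
      rw [Diag27.genPrime_fromSpecStalk, ← hu] at hd1
      rw [hd1]
      have := hk u
      exact_mod_cast (show (δ (ι u) - δ τ).toNat ≤ (k - δ τ).toNat by omega)
    · have hmem : Diag27.genPrime hle' ∈ Module.support A (A ⧸ RingHom.ker (Diag27.locMap ι h).hom) := by
        rw [Module.support_eq_zeroLocus, Ideal.annihilator_quotient]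
        exact (Diag27.ker_locMap_le_genPrime ι h htt hle').1
      refine le_of_eq_of_le ?_ (DepthLib.ringKrullDim_quotient_le_supportDim hmem)
      exact (hk' ▸ Diag27.dim_genPrime hd hle').symm
  have lift : ∀ {T : Scheme.{u}} (ι : T ⟶ X) [IsClosedImmersion ι] {t t' : T}, ι t = τ → ι t' ⤳ τ → t' ⤳ t :=
    fun {T} ι _ {t t'} h h' => ι.isClosedEmbedding.isInducing.specializes_iff.1 (h ▸ h')
  have haI := dimEq ιY y yξ hy r hY (lift ιY hy (hyξ ▸ hξτ)) (hyξ ▸ hδξ)
  have hbJ := dimEq ιZ z zη hz s hZ (lift ιZ hz (hzη ▸ hητ)) (hzη ▸ hδη)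
  have ht : ringKrullDim A = ((n - δ τ).toNat : ℕ) := hn ▸ Diag27.dim_stalk hd τ
  have l1 := Diag27.delta_le hd hξτ
  have l2 := Diag27.delta_le hd hητ
  have hab : (n - δ τ).toNat ≤ (r - δ τ).toNat + (s - δ τ).toNat := by omega
  haveI hregI : IsRegularLocalRing (A ⧸ I) := IntMult26.isRegularLocalRing_of_sup_eq hmax ht haI hbJ hab
  haveI hregJ : IsRegularLocalRing (A ⧸ J) :=
    IntMult26.isRegularLocalRing_of_sup_eq (by rw [sup_comm]; exact hmax) ht hbJ haI (by omega)
  have ptOne : ∀ {T : Scheme.{u}} (ι : T ⟶ X) [IsClosedImmersion ι] {t t' : T} (h : ι t = τ) (k : ℤ)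
      (hx : ι t' ⤳ τ), IsRegularLocalRing (A ⧸ RingHom.ker (Diag27.locMap ι h).hom) → δ (ι t') = k →
      ringKrullDim (A ⧸ RingHom.ker (Diag27.locMap ι h).hom) = ((k - δ τ).toNat : ℕ) →
      (Diag27.genPrime hx).asIdeal = RingHom.ker (Diag27.locMap ι h).hom ∧
        Cyc.subschemeFun δ k ι (ι t') = 1 := by
    intro T ι _ t t' h k hx hreg hk hdim
    have htt := lift ι h hx
    obtain ⟨hle', hco⟩ := Diag27.ker_locMap_le_genPrime ι h htt hx
    haveI := hreg
    haveI := RegLoc.isDomain (A ⧸ RingHom.ker (Diag27.locMap ι h).hom)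
    have hp : (RingHom.ker (Diag27.locMap ι h).hom).IsPrime := (Ideal.Quotient.isDomain_iff_prime _).1 this
    have he : (Diag27.genPrime hx).asIdeal = RingHom.ker (Diag27.locMap ι h).hom := by
      by_contra hne'
      have h1 := IntMult26.ringKrullDim_quotient_succ_le
        (lt_of_le_of_ne (show (⟨_, hp⟩ : PrimeSpectrum A) ≤ Diag27.genPrime hx from hle')
          (fun e => hne' (congrArg PrimeSpectrum.asIdeal e).symm))
      rw [Diag27.dim_genPrime hd hx, hk] at h1
      dsimp only at h1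
      rw [hdim] at h1
      exact absurd (show (k - δ τ).toNat + 1 ≤ (k - δ τ).toNat by exact_mod_cast h1) (by omega)
    refine ⟨he, ?_⟩
    rw [hfun ι k t' hk, Diag27.length_stalk_eq_one htt ?_]
    · rfl
    · have hs := Diag27.surjective_locMap ι h
      rw [← hco] at he
      have h2 : ((Diag27.genPrime htt).asIdeal.comap (Diag27.locMap ι h).hom).map (Diag27.locMap ι h).hom =
          (Diag27.genPrime htt).asIdeal := Ideal.map_comap_of_surjective _ hs _
      rw [← h2]
      exact (congrArg _ he).trans ((Ideal.map_eq_bot_iff_le_ker _).2 le_rfl)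
  obtain ⟨eξ, oξ⟩ := ptOne ιY hy r (t' := yξ) (hyξ ▸ hξτ) hregI (hyξ ▸ hδξ) haI
  obtain ⟨eη, oη⟩ := ptOne ιZ hz s (t' := zη) (hzη ▸ hητ) hregJ (hzη ▸ hδη) hbJ
  subst hyξ hzη
  refine ⟨?_, fun y' hy' => ?_, fun z' hz' => ?_⟩
  · unfold IntMult.interProd
    rw [finsum_eq_single _ (⟨(ιY yξ, ιZ zη), hξτ, hητ, by simp only; omega⟩ :
      {p : X × X // p.1 ⤳ τ ∧ p.2 ⤳ τ ∧ δ p.1 + δ p.2 - n = δ τ})]
    · dsimp only
      unfold IntMult.mult
      rw [oξ, oη, Diag27.stalkIdeal_ptIdeal hξτ, Diag27.stalkIdeal_ptIdeal hητ, eξ, eη, one_mul, one_mul,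
        IntMult26.chi_eq_length_of_CM
          (IntMult26.isCohenMacaulayModule_quotient _ DepthLib.isCohenMacaulayLocalRing_of_isRegularLocalRing)
          (IntMult26.isCohenMacaulayModule_quotient _ DepthLib.isCohenMacaulayLocalRing_of_isRegularLocalRing)
          ht hbJ haI (by omega) (fun p hp hp' => ((IsLocalRing.maximalIdeal.isMaximal A).eq_of_le p.2.ne_top
            (hmax ▸ sup_le hp' hp)).symm), sup_comm J I, hlen]
      rfl
    · rintro ⟨⟨a, b⟩, ha, hb, hc⟩ hne'
      by_contra hp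
      obtain ⟨e1, ta, rfl⟩ := hne ιY r (left_ne_zero_of_mul (left_ne_zero_of_mul hp))
      obtain ⟨e2, tb, rfl⟩ := hne ιZ s (right_ne_zero_of_mul (left_ne_zero_of_mul hp))
      refine hne' (Subtype.ext (Prod.ext (Diag27.genPrime_injective ha hξτ (PrimeSpectrum.ext ?_))
        (Diag27.genPrime_injective hb hητ (PrimeSpectrum.ext ?_))))
      · exact (ptOne ιY hy r ha hregI e1 haI).1.trans eξ.symm
      · exact (ptOne ιZ hz s hb hregJ e2 hbJ).1.trans eη.symm
  · obtain rfl : y' = y := ιY.isClosedEmbedding.injective (hy'.trans hy.symm)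
    exact IsRegularLocalRing.of_ringEquiv (RingHom.quotientKerEquivOfSurjective (Diag27.surjective_locMap ιY hy))
  · obtain rfl : z' = z := ιZ.isClosedEmbedding.injective (hz'.trans hz.symm)
    exact IsRegularLocalRing.of_ringEquiv (RingHom.quotientKerEquivOfSurjective (Diag27.surjective_locMap ιZ hz))


end Groth.Agent.S1954
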