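import Groth.Statements.S12708
import Groth.Agent.Lib.ArtFun.Length

set_option autoImplicit false
universe u v
open CategoryTheory
open ArtFun

namespace Groth.Agent.S12708

/-- For Λ Noetherian with a finite map to a field k, A a local Λ-algebra whose residue field is k
(through a surjective Λ-algebra map A → k) and M an A-module, the length of M over Λ equals the
degree of k over the image of Λ times the length of M over A. The degree is written as the length of
k as a Λ-module, which is the same number; lengths are in ℕ∞. -/
theorem result {Λ : Type u} {k : Type u} [CommRing Λ] [Field k] [Algebra Λ k]
    [IsNoetherianRing Λ] [Module.Finite Λ k]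
    (A : Type u) [CommRing A] [Algebra Λ A] [IsLocalRing A] [Algebra A k] [IsScalarTower Λ A k]
    (hres : Function.Surjective (algebraMap A k))
    (M : Type v) [AddCommGroup M] [Module A M] [Module Λ M] [IsScalarTower Λ A M] :
    Module.length Λ k * Module.length A M = Module.length Λ M := by
  exact Groth.Agent.ArtFunLib.length_mul_length hres M

end Groth.Agent.S12708
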