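import Groth.Statements.S12709
import Groth.Agent.Lib.ArtFun.CRing

set_option autoImplicit false
universe u v
open CategoryTheory
open ArtFun ArtFun.Art

namespace Groth.Agent.S12709

/-- Given a morphism f : A → B in the category of Artinian local Λ-algebras with residue field k, three
conditions coincide: (1) surjectivity of f; (2) f induces an onto map from the cotangent space of A
to the cotangent space of B, which in ideal-theoretic form says f(m_A)B + m_B² = m_B; (3) the
induced map on cotangent spaces relative to Λ is surjective, written as m_Λ B + f(m_A)B + m_B² = m_B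
with m_Λ the kernel of Λ → k. -/
theorem result {Λ : Type u} {k : Type u} [CommRing Λ] [Field k] [Algebra Λ k]
    [IsNoetherianRing Λ] [Module.Finite Λ k]
    {A B : ArtFun.Art Λ k} (f : A ⟶ B) :
    List.TFAE [Function.Surjective f,
      Ideal.map f.toAlgHom (IsLocalRing.maximalIdeal A) ⊔ IsLocalRing.maximalIdeal B ^ 2 = IsLocalRing.maximalIdeal B,
      Ideal.map (algebraMap Λ B) (RingHom.ker (algebraMap Λ k)) ⊔ Ideal.map f.toAlgHom (IsLocalRing.maximalIdeal A) ⊔
        IsLocalRing.maximalIdeal B ^ 2 = IsLocalRing.maximalIdeal B] := by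
  have hm : Ideal.map f.toAlgHom (IsLocalRing.maximalIdeal A) ≤ IsLocalRing.maximalIdeal B :=
    Ideal.map_le_iff_le_comap.2 fun a ha => Groth.Agent.ArtFunLib.map_mem f ha
  have hL : Ideal.map (algebraMap Λ B) (RingHom.ker (algebraMap Λ k)) ≤
      Ideal.map f.toAlgHom (IsLocalRing.maximalIdeal A) := by
    refine Ideal.map_le_iff_le_comap.2 fun l hl => ?_
    rw [Ideal.mem_comap, ← f.toAlgHom.commutes]
    refine Ideal.mem_map_of_mem _ ?_
    rw [ArtFun.Art.mem_maximalIdeal_iff, AlgHom.commutes]
    exact hl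
  tfae_have 1 → 2 := fun hs => le_antisymm (sup_le hm (Ideal.pow_le_self two_ne_zero)) fun b hb => by
    obtain ⟨a, rfl⟩ := hs b
    exact Ideal.mem_sup_left (Ideal.mem_map_of_mem _ (Groth.Agent.ArtFunLib.mem_of_map_mem f hb))
  tfae_have 2 → 3 := fun h => by rw [sup_eq_right.2 hL]; exact h
  tfae_have 3 → 1 := fun h => by
    rw [sup_eq_right.2 hL] at h
    refine Groth.Agent.ArtFunLib.surjective_of_cotangent (IsLocalRing.maximalIdeal A)
      (IsLocalRing.maximalIdeal B) f.toAlgHom.toRingHom hm (fun b => ?_) h.ge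
    obtain ⟨a, ha⟩ := A.res_surjective (B.res b)
    refine ⟨a, ?_⟩
    rw [ArtFun.Art.mem_maximalIdeal_iff, map_sub]
    exact sub_eq_zero.2 (ha.symm.trans (ArtFun.Art.res_app f a).symm)
  tfae_finish

end Groth.Agent.S12709
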