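import Groth.Statements.S1291
import Groth.Agent.Lib.Fitting.More
import Mathlib.RingTheory.Unramified.Basic
import Mathlib.RingTheory.Etale.Basic
import Mathlib.LinearAlgebra.Matrix.Determinant.Basic
import Mathlib.RingTheory.TensorProduct.Quotient

set_option autoImplicit false
universe u
open FlatMor
set_option maxSynthPendingDepth 3
open TensorProduct

set_option backward.isDefEq.respectTransparency.types false

namespace Groth.Agent.S1291



open Groth.Agent.FittingLib Matrix

theorem fittingZero_eq {R : Type u} [CommRing R] (M : Type u) [AddCommGroup M] [Module R M] :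
    FlatCA.fittingZero R M = Fitt.ideal R M 0 := by
  unfold FlatCA.fittingZero Fitt.ideal
  congr 1
  ext d
  constructor
  · rintro ⟨n, x, a, h1, h2, h3⟩
    exact ⟨n, x, a, h1, fun i _ => h2 i, h3⟩
  · rintro ⟨n, x, a, h1, h2, h3⟩
    exact ⟨n, x, a, h1, fun i => h2 i (by simp [i.isLt]), h3⟩

/-- The zeroth Fitting ideal of the sum with a cyclic module. -/
theorem ideal_zero_cyclic_prod {R : Type u} [CommRing R] (I : Ideal R) (M : Type u) [AddCommGroup M] [Module R M]
    [Module.Finite R M] : Fitt.ideal R ((R ⧸ I) × M) 0 = I * Fitt.ideal R M 0 := by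
  classical
  obtain ⟨n, x, hx⟩ := exists_generators (R := R) (M := M)
  let y : Fin (n + 1) → (R ⧸ I) × M := Fin.cons ((1 : R ⧸ I), 0) fun i => (0, x i)
  have hy : Submodule.span R (Set.range y) = ⊤ := by
    rw [eq_top_iff]
    rintro ⟨c, m⟩ -
    obtain ⟨c, rfl⟩ := Ideal.Quotient.mk_surjective c
    have h1 : ((Ideal.Quotient.mk I c, m) : (R ⧸ I) × M) = c • ((1 : R ⧸ I), (0 : M)) + (0, m) := by
      simp [Algebra.smul_def]
    rw [h1]
    refine add_mem (Submodule.smul_mem _ _ (Submodule.subset_span ⟨0, by simp [y]⟩)) ?_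
    have hm : m ∈ Submodule.span R (Set.range x) := hx ▸ trivial
    have := Submodule.apply_mem_span_image_of_mem_span (LinearMap.inr R (R ⧸ I) M) hm
    refine Submodule.span_mono ?_ this
    rintro _ ⟨_, ⟨i, rfl⟩, rfl⟩
    exact ⟨i.succ, by simp [y]⟩
  have hrel : ∀ v : Fin (n + 1) → R, v ∈ rel y ↔ v 0 ∈ I ∧ (fun i : Fin n => v i.succ) ∈ rel x := fun v => by
    rw [mem_rel, mem_rel, Fin.sum_univ_succ, Prod.ext_iff]
    simp [y, Prod.fst_sum, Prod.snd_sum, Algebra.smul_def, Ideal.Quotient.eq_zero_iff_mem]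
  rw [ideal_eq_J_fin y hy, ideal_eq_J_fin x hx]
  refine le_antisymm (Ideal.span_le.2 ?_) ?_
  · rintro _ ⟨A, S, hS, hA, rfl⟩
    have hA' : ∀ i, A i ∈ rel y := fun i => hA i (by simp [Finset.card_eq_zero.1 (Nat.le_zero.1 hS)])
    rw [SetLike.mem_coe, Matrix.det_succ_column_zero]
    refine Ideal.sum_mem _ fun i _ => ?_
    refine Ideal.mul_mem_mul (Ideal.mul_mem_left _ _ ((hrel _).1 (hA' i)).1)
      (det_mem_J (S := ∅) (by simp) fun k _ => ?_)
    exact ((hrel _).1 (hA' (i.succAbove k))).2
  · rw [Ideal.mul_le]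
    intro c hc z hz
    induction hz using Submodule.span_induction with
    | zero => simp
    | add u v _ _ hu hv => rw [mul_add]; exact add_mem hu hv
    | smul a u _ hu => rw [smul_eq_mul, mul_left_comm]; exact Ideal.mul_mem_left _ _ hu
    | mem d hd =>
      obtain ⟨A, S, hS, hA, rfl⟩ := hd
      let B : Matrix (Fin (n + 1)) (Fin (n + 1)) R := Matrix.of (Fin.cons (Fin.cons c 0) fun i => Fin.cons 0 (A i))
      have hB : B.det = c * A.det := by
        rw [Matrix.det_succ_row_zero, Fin.sum_univ_succ]
        simp only [Fin.val_zero, pow_zero, one_mul, B, Matrix.of_apply, Fin.cons_zero, Fin.cons_succ, Pi.zero_apply,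
          mul_zero, zero_mul, Finset.sum_const_zero, add_zero]
        congr 2
      rw [← hB]
      refine det_mem_J (S := ∅) (by simp) fun i _ => (hrel _).2 ?_
      have hA' : ∀ i, A i ∈ rel x := fun i => hA i (by simp [Finset.card_eq_zero.1 (Nat.le_zero.1 hS)])
      induction i using Fin.cases with
      | zero =>
        refine ⟨by simp [B, hc], ?_⟩
        have : (fun i : Fin n => B 0 i.succ) = 0 := by funext i; simp [B]
        rw [this]; exact zero_mem _
      | succ j =>
        refine ⟨by simp [B], ?_⟩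
        have : (fun i : Fin n => B j.succ i.succ) = A j := by funext i; simp [B]
        rw [this]; exact hA' j


/-- Let A → C be finite locally free of rank d (C a finite projective A-module of constant rank d), h ∈
C such that C_h is étale over A, and J an ideal of C. Let I be the zeroth Fitting ideal of C/J
regarded as a finite A-module. Then the extension of I to C_h equals J·J' for some ideal J' of C_h
(J extended to C_h); and if J is finitely generated then so are I and J'. -/
theorem result {A C : Type u} [CommRing A] [CommRing C] [Algebra A C] [Module.Finite A C] [Module.Projective A C]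
    (d : ℕ) (hd : ∀ p : PrimeSpectrum A, Module.rankAtStalk (R := A) C p = d)
    (h : C) [Algebra.Etale A (Localization.Away h)] (J : Ideal C) :
    ∃ J' : Ideal (Localization.Away h),
      (FlatCA.fittingZero A (C ⧸ J)).map (algebraMap A (Localization.Away h)) = J.map (algebraMap C (Localization.Away h)) * J' ∧
      (J.FG → (FlatCA.fittingZero A (C ⧸ J)).FG ∧ J'.FG) := by
  classical
  let A' := Localization.Away h
  let C' := A' ⊗[A] C
  let μ : C' →ₐ[A'] A' := Algebra.TensorProduct.lift (AlgHom.id A' A') (IsScalarTower.toAlgHom A C A') fun _ _ => Commute.all _ _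
  have hμs : Function.Surjective μ := fun a => ⟨a ⊗ₜ[A] 1, (Algebra.TensorProduct.lift_tmul _ _ _ _ _).trans (by rw [map_one, mul_one]; rfl)⟩
  have hμC : ∀ c : C, μ ((1 : A') ⊗ₜ[A] c) = algebraMap C A' c := fun c =>
    (Algebra.TensorProduct.lift_tmul _ _ _ _ _).trans (by rw [map_one, one_mul]; rfl)
  have hμt : ∀ (a : A') (c : C), μ (a ⊗ₜ[A] c) = a * algebraMap C A' c := fun a c =>
    Algebra.TensorProduct.lift_tmul _ _ _ _ _
  let K := RingHom.ker μ.toRingHom
  haveI : Algebra.FinitePresentation A' A' := inferInstance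
  haveI : Algebra.FiniteType A' C' := inferInstance
  -- the two maps to the first infinitesimal neighbourhood agree
  let q : C' →ₐ[A] C' ⧸ K * K := Ideal.Quotient.mkₐ A (K * K)
  let f₁ : A' →ₐ[A] C' ⧸ K * K := q.comp (Algebra.TensorProduct.includeLeft : A' →ₐ[A] C')
  let f₀ : C →ₐ[A] C' ⧸ K * K := q.comp (Algebra.TensorProduct.includeRight : C →ₐ[A] C')
  have hnil : ∀ z ∈ K.map (Ideal.Quotient.mk (K * K)), IsNilpotent z := fun z hz => by
    obtain ⟨w, hw, rfl⟩ := (Ideal.mem_map_iff_of_surjective _ Ideal.Quotient.mk_surjective).1 hz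
    exact ⟨2, by rw [← map_pow, Ideal.Quotient.eq_zero_iff_mem, pow_two]; exact Ideal.mul_mem_mul hw hw⟩
  have hsub : ∀ c : C, ((1 : A') ⊗ₜ[A] c - algebraMap C A' c ⊗ₜ[A] (1 : C)) ∈ K := fun c => by
    show μ _ = 0
    rw [map_sub, hμC, hμt, map_one, mul_one, sub_self]
  have hu : IsUnit (f₀ h) := by
    have h1 : IsUnit (f₁ (algebraMap C A' h)) := (IsLocalization.Away.algebraMap_isUnit h).map f₁
    have h2 : IsNilpotent (f₀ h - f₁ (algebraMap C A' h)) := hnil _ (by
      show q _ - q _ ∈ _
      rw [← map_sub]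
      exact Ideal.mem_map_of_mem _ (hsub h))
    have := h2.isUnit_add_left_of_commute h1 (Commute.all _ _)
    rwa [add_sub_cancel] at this
  let f₂ : A' →ₐ[A] C' ⧸ K * K :=
    { (IsLocalization.Away.lift h (g := f₀.toRingHom) hu) with
      commutes' := fun a => by
        show IsLocalization.Away.lift h (g := f₀.toRingHom) hu (algebraMap A A' a) = _
        rw [IsScalarTower.algebraMap_apply A C A', IsLocalization.Away.lift_eq]
        exact f₀.commutes a }
  have hf₂ : ∀ c : C, f₂ (algebraMap C A' c) = f₀ c := fun c => IsLocalization.Away.lift_eq h hu c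
  have hagree : f₁ = f₂ := by
    refine Algebra.FormallyUnramified.ext (K.map (Ideal.Quotient.mk (K * K))) ⟨2, ?_⟩ fun a => ?_
    · rw [pow_two, ← Ideal.map_mul, Ideal.map_quotient_self]; rfl
    · obtain ⟨⟨c, ⟨_, n, rfl⟩⟩, hc⟩ := IsLocalization.surj (Submonoid.powers h) a
      have hu' : IsUnit (Ideal.Quotient.mk (K.map (Ideal.Quotient.mk (K * K))) (f₁ (algebraMap C A' (h ^ n)))) :=
        ((IsLocalization.map_units A' (⟨h ^ n, n, rfl⟩ : Submonoid.powers h)).map f₁).map _
      have h3 : ∀ c : C, Ideal.Quotient.mk (K.map (Ideal.Quotient.mk (K * K))) (f₁ (algebraMap C A' c)) =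
          Ideal.Quotient.mk (K.map (Ideal.Quotient.mk (K * K))) (f₂ (algebraMap C A' c)) := fun c => by
        rw [hf₂, Ideal.Quotient.eq, ← neg_mem_iff, neg_sub]
        show q _ - q _ ∈ _
        rw [← map_sub]
        exact Ideal.mem_map_of_mem _ (hsub c)
      refine hu'.mul_left_injective ?_
      show _ * _ = _ * _
      conv_rhs => rw [h3 (h ^ n)]
      rw [← map_mul, ← map_mul, ← map_mul, ← map_mul, hc]
      exact h3 c
  have hKidem : IsIdempotentElem K := by
    refine le_antisymm Ideal.mul_le_right (fun z hz => ?_)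
    have key : ∀ w : C', w - μ w ⊗ₜ[A] (1 : C) ∈ K * K := fun w => by
      induction w using TensorProduct.induction_on with
      | zero => simp
      | add u v hu hv =>
        rw [map_add, TensorProduct.add_tmul, add_sub_add_comm]; exact add_mem hu hv
      | tmul a c =>
        have h4 : q ((1 : A') ⊗ₜ[A] c) = q (algebraMap C A' c ⊗ₜ[A] (1 : C)) := by
          have := (AlgHom.congr_fun hagree (algebraMap C A' c)).symm
          rw [hf₂] at this
          exact this
        have h5 := Ideal.Quotient.eq.1 h4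
        have h6 : a ⊗ₜ[A] c - μ (a ⊗ₜ[A] c) ⊗ₜ[A] (1 : C) =
            (a ⊗ₜ[A] (1 : C)) * ((1 : A') ⊗ₜ[A] c - algebraMap C A' c ⊗ₜ[A] (1 : C)) := by
          rw [mul_sub, Algebra.TensorProduct.tmul_mul_tmul, Algebra.TensorProduct.tmul_mul_tmul, hμt]
          simp
        rw [h6]
        exact Ideal.mul_mem_left _ _ h5
    have hz' := key z
    rwa [show μ z = 0 from hz, TensorProduct.zero_tmul, sub_zero] at hz'
  have hKfg : K.FG := by
    obtain ⟨n, g, hg⟩ := Module.Finite.exists_fin (R := A) (M := C)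
    let D : C →ₗ[A] C' :=
      (Algebra.TensorProduct.includeRight : C →ₐ[A] C').toLinearMap -
        (Algebra.TensorProduct.includeLeft : A' →ₐ[A] C').toLinearMap ∘ₗ (IsScalarTower.toAlgHom A C A').toLinearMap
    let P : Ideal C' := Ideal.span (Set.range fun i => D (g i))
    have hD : ∀ c, D c ∈ P := fun c => by
      have hc : c ∈ Submodule.span A (Set.range g) := hg ▸ trivial
      induction hc using Submodule.span_induction with
      | mem c hc => obtain ⟨i, rfl⟩ := hc; exact Ideal.subset_span ⟨i, rfl⟩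
      | zero => rw [map_zero]; exact zero_mem _
      | add u v _ _ hu hv => rw [map_add]; exact add_mem hu hv
      | smul a u _ hu => rw [map_smul]; exact Submodule.smul_of_tower_mem _ a hu
    have hP : ∀ w : C', w - μ w ⊗ₜ[A] (1 : C) ∈ P := fun w => by
      induction w using TensorProduct.induction_on with
      | zero => simp
      | add u v hu hv => rw [map_add, TensorProduct.add_tmul, add_sub_add_comm]; exact add_mem hu hv
      | tmul a c =>
        have h6 : a ⊗ₜ[A] c - μ (a ⊗ₜ[A] c) ⊗ₜ[A] (1 : C) = (a ⊗ₜ[A] (1 : C)) * D c := by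
          show _ = (a ⊗ₜ[A] (1 : C)) * ((1 : A') ⊗ₜ[A] c - algebraMap C A' c ⊗ₜ[A] (1 : C))
          rw [mul_sub, Algebra.TensorProduct.tmul_mul_tmul, Algebra.TensorProduct.tmul_mul_tmul, hμt]
          simp
        rw [h6]
        exact Ideal.mul_mem_left _ _ (hD c)
    refine ⟨Finset.univ.image fun i => D (g i), le_antisymm ?_ ?_⟩
    · refine Ideal.span_le.2 fun z hz => ?_
      obtain ⟨i, -, rfl⟩ := Finset.mem_image.1 (Finset.mem_coe.1 hz)
      exact hsub (g i)
    · intro z hz
      have := hP z
      rw [show μ z = 0 from hz, TensorProduct.zero_tmul, sub_zero] at this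
      refine Ideal.span_mono ?_ this
      rintro _ ⟨i, rfl⟩
      exact Finset.mem_coe.2 (Finset.mem_image_of_mem _ (Finset.mem_univ i))
  obtain ⟨e, he, hKe⟩ := (Ideal.isIdempotentElem_iff_of_fg K hKfg).1 hKidem
  have heμ : μ e = 0 := by
    have : e ∈ K := hKe ▸ Ideal.mem_span_singleton_self e
    exact this
  let iC : C →ₐ[A] C' := Algebra.TensorProduct.includeRight
  let JC : Ideal C' := J.map iC.toRingHom
  have hJμ : JC.map μ.toRingHom = J.map (algebraMap C A') := by
    rw [Ideal.map_map]
    congr 1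
    exact RingHom.ext hμC
  let L : Ideal C' := JC ⊔ Ideal.span {1 - e}
  let Ψ : (C' ⧸ JC) →ₗ[A'] (A' ⧸ J.map (algebraMap C A')) × (C' ⧸ L) :=
    ((Ideal.quotientMapₐ (J.map (algebraMap C A')) μ (by
        rw [← hJμ]; exact Ideal.le_comap_map)).toLinearMap).prod
      (Ideal.Quotient.factorₐ A' (le_sup_left : JC ≤ L)).toLinearMap
  have hΨ : Function.Bijective Ψ := by
    refine ⟨?_, ?_⟩
    · rw [injective_iff_map_eq_zero]
      intro v hv
      obtain ⟨w, rfl⟩ := Ideal.Quotient.mk_surjective v
      rw [Prod.ext_iff] at hv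
      have h7 : μ w ∈ J.map (algebraMap C A') := Ideal.Quotient.eq_zero_iff_mem.1 hv.1
      have h8 : w ∈ L := Ideal.Quotient.eq_zero_iff_mem.1 hv.2
      rw [← hJμ] at h7
      obtain ⟨w', hw', hww⟩ := (Ideal.mem_map_iff_of_surjective _ hμs).1 h7
      have h9 : w - w' ∈ K := by show μ (w - w') = 0; rw [map_sub]; exact sub_eq_zero.2 hww.symm
      rw [hKe, Ideal.mem_span_singleton'] at h9
      obtain ⟨d, hd⟩ := h9
      obtain ⟨j, hj, k, hk, hjk⟩ := Submodule.mem_sup.1 h8
      obtain ⟨d', rfl⟩ := Ideal.mem_span_singleton'.1 hk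
      refine Ideal.Quotient.eq_zero_iff_mem.2 ?_
      have : w = e * j + (1 - e) * w' := by
        have hee : e * e = e := he
        have e1 : (1 - e) * w = (1 - e) * w' := by linear_combination (-(1 - e)) * hd + (-d) * hee
        have e2 : e * w = e * j := by linear_combination (-e) * hjk + (-d') * hee
        linear_combination e1 + e2
      rw [this]
      exact add_mem (JC.mul_mem_left _ hj) (JC.mul_mem_left _ hw')
    · rintro ⟨a, b⟩
      obtain ⟨a, rfl⟩ := Ideal.Quotient.mk_surjective a
      obtain ⟨b, rfl⟩ := Ideal.Quotient.mk_surjective b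
      obtain ⟨w, rfl⟩ := hμs a
      refine ⟨Ideal.Quotient.mk _ ((1 - e) * w + e * b), Prod.ext ?_ ?_⟩
      · show Ideal.Quotient.mk _ (μ ((1 - e) * w + e * b)) = Ideal.Quotient.mk _ (μ w)
        simp [heμ]
      · show Ideal.Quotient.mk L ((1 - e) * w + e * b) = Ideal.Quotient.mk L b
        rw [Ideal.Quotient.eq, show (1 - e) * w + e * b - b = (w - b) * (1 - e) by ring]
        exact Ideal.mem_sup_right (Ideal.mul_mem_left _ _ (Ideal.mem_span_singleton_self _))
  letI : Algebra C C' := Algebra.TensorProduct.rightAlgebra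
  haveI : Module.Finite A (C ⧸ J) := Module.Finite.of_surjective (J.mkQ.restrictScalars A) J.mkQ_surjective
  have eJ : A' ⊗[A] (C ⧸ J) ≃ₗ[A'] C' ⧸ JC :=
    (Algebra.IsPushout.cancelBaseChange A A' C C' (C ⧸ J)).symm.trans
      ((Algebra.TensorProduct.quotIdealMapEquivTensorQuot C' J).symm.toLinearEquiv.restrictScalars A')
  haveI : Module.Finite A' (C' ⧸ L) := Module.Finite.of_surjective
    ((L.mkQ.restrictScalars A')) L.mkQ_surjective
  refine ⟨Fitt.ideal A' (C' ⧸ L) 0, ?_, fun hJ => ?_⟩
  · rw [fittingZero_eq, ← ideal_baseChange, ideal_congr (eJ.trans (LinearEquiv.ofBijective Ψ hΨ)) 0,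
      ideal_zero_cyclic_prod]
  · haveI : Module.FinitePresentation A C := Module.finitePresentation_of_projective A C
    haveI : Module.FinitePresentation A (C ⧸ J) := Module.finitePresentation_of_surjective (J.mkQ.restrictScalars A)
      J.mkQ_surjective (by
        rw [LinearMap.ker_restrictScalars, Submodule.ker_mkQ]
        exact Submodule.FG.restrictScalars hJ)
    haveI : Module.FinitePresentation A' C' := inferInstance
    haveI : Module.FinitePresentation A' (C' ⧸ L) := Module.finitePresentation_of_surjective (L.mkQ.restrictScalars A')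
      L.mkQ_surjective (by
        rw [LinearMap.ker_restrictScalars, Submodule.ker_mkQ]
        exact Submodule.FG.restrictScalars (Submodule.FG.sup (Ideal.FG.map hJ iC.toRingHom) ⟨{1 - e}, by simp⟩))
    exact ⟨fittingZero_eq (R := A) (C ⧸ J) ▸ ideal_fg 0, ideal_fg 0⟩

end Groth.Agent.S1291
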