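import Groth.Statements.S1271
import Groth.Agent.S1291
import Mathlib.RingTheory.Unramified.LocalStructure
import Mathlib.RingTheory.AdjoinRoot
import Mathlib.RingTheory.Spectrum.Prime.FreeLocus

set_option autoImplicit false
universe u
open FlatMor
set_option maxSynthPendingDepth 3
open TensorProduct

set_option backward.isDefEq.respectTransparency.types false

namespace Groth.Agent.S1271

/-- Let A → B be an étale ring map, a ∈ A a nonzerodivisor and J a finitely generated ideal of B with
V(J) ⊆ V(aB), i.e. a lies in the radical of J. Then for every prime q of B there exist a finitely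
generated ideal I of A with V(I) ⊆ V(a), an element g of B outside q, and a finitely generated ideal
J' of the localization B_g such that the extension of I to B_g equals the product of the extension
of J with J'. -/
theorem result {A B : Type u} [CommRing A] [CommRing B] [Algebra A B] [Algebra.Etale A B]
    (a : A) (ha : a ∈ nonZeroDivisors A) (J : Ideal B) (hJ : J.FG) (hJa : algebraMap A B a ∈ J.radical)
    (q : Ideal B) [q.IsPrime] :
    ∃ (I : Ideal A) (g : B) (J' : Ideal (Localization.Away g)), I.FG ∧ a ∈ I.radical ∧ g ∉ q ∧ J'.FG ∧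
      I.map (algebraMap A (Localization.Away g)) = J.map (algebraMap B (Localization.Away g)) * J' := by
  classical

  haveI : Algebra.IsEtaleAt A q := inferInstance
  obtain ⟨g, hgq, hstd⟩ := Algebra.IsEtaleAt.exists_isStandardEtale (R := A) q
  obtain ⟨P⟩ := hstd.nonempty_standardEtalePresentation
  let C := AdjoinRoot P.P.f
  let h := AdjoinRoot.mk P.P.f P.P.g
  let Bg := Localization.Away g
  let e : Bg ≃ₐ[A] Localization.Away h := P.equivRing.trans P.P.equivAwayAdjoinRoot
  haveI : Algebra.Etale A (Localization.Away h) := Algebra.Etale.of_equiv e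
  haveI : Module.Free A C := Module.Free.of_basis (AdjoinRoot.powerBasis' P.P.monic_f).basis
  haveI : Module.Finite A C := Module.Finite.of_basis (AdjoinRoot.powerBasis' P.P.monic_f).basis
  haveI : Nontrivial B := ⟨⟨0, 1, fun h01 => (inferInstance : q.IsPrime).ne_top
    ((Ideal.eq_top_iff_one q).2 (h01 ▸ q.zero_mem))⟩⟩
  haveI : Nontrivial A := (algebraMap A B).domain_nontrivial
  let Jh : Ideal (Localization.Away h) := (J.map (algebraMap B Bg)).map e.toRingEquiv.toRingHom
  have hJh : Jh.FG := Ideal.FG.map (Ideal.FG.map hJ _) _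
  obtain ⟨n, hn⟩ := hJa
  have han : algebraMap A (Localization.Away h) (a ^ n) ∈ Jh := by
    rw [← e.commutes]
    refine Ideal.mem_map_of_mem _ ?_
    rw [IsScalarTower.algebraMap_apply A B Bg, map_pow (algebraMap A B)]
    exact Ideal.mem_map_of_mem _ hn
  obtain ⟨S, hS⟩ := hJh
  choose z hz using fun x : S => IsLocalization.surj (Submonoid.powers h) (x : Localization.Away h)
  let J₀ : Ideal C := Ideal.span (insert (algebraMap A C (a ^ n)) (Set.range fun x : S => (z x).1))
  have hJ₀fg : J₀.FG := Submodule.fg_span (Set.finite_range _ |>.insert _)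
  have hJ₀ : J₀.map (algebraMap C (Localization.Away h)) = Jh := by
    rw [Ideal.map_span]
    refine le_antisymm (Ideal.span_le.2 ?_) ?_
    · rintro _ ⟨c, hc, rfl⟩
      rcases Set.mem_insert_iff.1 hc with rfl | ⟨x, rfl⟩
      · rw [SetLike.mem_coe, ← IsScalarTower.algebraMap_apply]; exact han
      · rw [SetLike.mem_coe, ← hz x]
        exact Jh.mul_mem_right _ (hS ▸ Ideal.subset_span x.2)
    · rw [← hS, Ideal.span_le]
      intro x hx
      obtain ⟨u, hu⟩ := IsLocalization.map_units (Localization.Away h) (z ⟨x, hx⟩).2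
      have h1 : x = algebraMap C (Localization.Away h) (z ⟨x, hx⟩).1 * ↑u⁻¹ := by
        rw [← hz ⟨x, hx⟩, ← hu, mul_assoc, Units.mul_inv, mul_one]
      rw [SetLike.mem_coe, h1]
      exact Ideal.mul_mem_right _ _ (Ideal.subset_span ⟨_, Set.mem_insert_of_mem _ ⟨⟨x, hx⟩, rfl⟩, rfl⟩)
  obtain ⟨J', hJ', hfg⟩ := Groth.Agent.S1291.result (A := A) (C := C) (Module.finrank A C)
    (fun p => by rw [Module.rankAtStalk_eq_finrank_of_free]; rfl) h J₀
  obtain ⟨hIfg, hJ'fg⟩ := hfg hJ₀fg
  haveI : Module.Finite A (C ⧸ J₀) := Module.Finite.of_surjective (J₀.mkQ.restrictScalars A) J₀.mkQ_surjective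
  obtain ⟨m, x, hx⟩ := Module.Finite.exists_fin (R := A) (M := C ⧸ J₀)
  refine ⟨FlatCA.fittingZero A (C ⧸ J₀), g, J'.map e.symm.toRingEquiv.toRingHom, hIfg, ⟨n * m, ?_⟩, hgq,
    Ideal.FG.map hJ'fg _, ?_⟩
  · rw [pow_mul, Groth.Agent.S1291.fittingZero_eq]
    refine Groth.Agent.FittingLib.pow_mem_ideal_zero x hx (Module.mem_annihilator.2 fun v => ?_)
    obtain ⟨c, rfl⟩ := Ideal.Quotient.mk_surjective v
    rw [← Ideal.Quotient.mk_eq_mk, ← Submodule.Quotient.mk_smul, Submodule.Quotient.mk_eq_zero, Algebra.smul_def]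
    exact J₀.mul_mem_right _ (Ideal.subset_span (Set.mem_insert _ _))
  · have h2 : (algebraMap A Bg) = e.symm.toRingEquiv.toRingHom.comp (algebraMap A (Localization.Away h)) :=
      RingHom.ext fun c => (e.symm.commutes c).symm
    rw [h2, ← Ideal.map_map, hJ', hJ₀, Ideal.map_mul]
    congr 1
    rw [Ideal.map_map]
    have h3 : e.symm.toRingEquiv.toRingHom.comp e.toRingEquiv.toRingHom = RingHom.id Bg := RingHom.ext fun c => e.symm_apply_apply c
    rw [h3, Ideal.map_id]

end Groth.Agent.S1271
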