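import Groth.Statements.S12713
import Groth.Agent.Lib.ArtFun.Coef

set_option autoImplicit false
universe u v
open CategoryTheory
open ArtFun ArtFun.Art

namespace Groth.Agent.S12713

/-- A small extension f : B → A in the category of Artinian local Λ-algebras with residue field k is not
an essential surjection (some morphism g : C → B is non-surjective although the composite C → A is
surjective) if and only if f has a section A → B in the category. -/
theorem result {Λ : Type u} {k : Type u} [CommRing Λ] [Field k] [Algebra Λ k]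
    [IsNoetherianRing Λ] [Module.Finite Λ k]
    {A B : ArtFun.Art Λ k} (f : B ⟶ A) (hf : ArtFun.Art.IsSmallExt f) :
    (∃ (C : ArtFun.Art Λ k) (g : C ⟶ B), Function.Surjective (g ≫ f) ∧ ¬ Function.Surjective g) ↔
      ∃ s : A ⟶ B, s ≫ f = 𝟙 A := by
  constructor
  · rintro ⟨C, g, hgf, hg⟩
    have h0 : ∀ x, f (g x) = 0 → g x = 0 := by
      intro x hx
      by_contra hne
      refine hg fun b => ?_
      obtain ⟨c, hc⟩ := hgf (f b)
      have hb : b - g c ∈ RingHom.ker f.toAlgHom := RingHom.mem_ker.2 (by
        change f (b - g c) = 0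
        rw [map_sub, sub_eq_zero]
        exact hc.symm)
      rw [Groth.Agent.ArtFunLib.ker_eq_span hf hx hne] at hb
      obtain ⟨a, ha⟩ := Ideal.mem_span_singleton'.1 hb
      obtain ⟨r, hr⟩ := C.res_surjective (B.res a)
      refine ⟨c + r * x, ?_⟩
      rw [map_add, map_mul, Groth.Agent.ArtFunLib.mul_eq_of_res_eq hf.isSemismallExt (b := a)
        ((ArtFun.Art.res_app g r).trans hr) hx, ha]
      ring
    refine ⟨Groth.Agent.ArtFunLib.descHom (g ≫ f) hgf g fun x hx => RingHom.mem_ker.2 (h0 x (RingHom.mem_ker.1 hx)),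
      Groth.Agent.ArtFunLib.epi_of_surjective (g ≫ f) hgf ?_⟩
    rw [← Category.assoc, Groth.Agent.ArtFunLib.descHom_fac, Category.comp_id]
  · rintro ⟨s, hs⟩
    refine ⟨A, s, fun a => ⟨a, (Groth.Agent.ArtFunLib.congr_hom hs a)⟩, fun hsurj => hf.2.1 ?_⟩
    refine le_bot_iff.1 fun b hb => (Ideal.mem_bot).2 ?_
    obtain ⟨a, rfl⟩ := hsurj b
    have ha : f (s a) = a := Groth.Agent.ArtFunLib.congr_hom hs a
    have : a = 0 := ha.symm.trans (RingHom.mem_ker.1 hb)
    rw [this, map_zero]

end Groth.Agent.S12713
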