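import Groth.Statements.S12714
import Groth.Agent.Lib.ArtFun.CRing

set_option autoImplicit false
universe u v
open CategoryTheory
open ArtFun ArtFun.CRing

namespace Groth.Agent.S12714

/-- For a morphism f : R → S of complete local Noetherian Λ-algebras with residue field k (compatible
with the augmentations to k), the following are equivalent: (1) f is surjective; (2) m_R/m_R² →
m_S/m_S² is surjective, written as f(m_R)S + m_S² = m_S; (3) the map of cotangent spaces relative to
Λ is surjective, written as m_Λ S + f(m_R)S + m_S² = m_S with m_Λ the kernel of Λ → k. -/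
theorem result {Λ : Type u} {k : Type u} [CommRing Λ] [Field k] [Algebra Λ k]
    [IsNoetherianRing Λ] [Module.Finite Λ k]
    (R S : ArtFun.CRing Λ k) (f : R.carrier →ₐ[Λ] S.carrier) (hf : S.res.comp f = R.res) :
    List.TFAE [Function.Surjective f,
      Ideal.map f (IsLocalRing.maximalIdeal R.carrier) ⊔ IsLocalRing.maximalIdeal S.carrier ^ 2 =
        IsLocalRing.maximalIdeal S.carrier,
      Ideal.map (algebraMap Λ S.carrier) (RingHom.ker (algebraMap Λ k)) ⊔
        Ideal.map f (IsLocalRing.maximalIdeal R.carrier) ⊔ IsLocalRing.maximalIdeal S.carrier ^ 2 =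
        IsLocalRing.maximalIdeal S.carrier] := by
  have hmem : ∀ a, a ∈ IsLocalRing.maximalIdeal R.carrier → f a ∈ IsLocalRing.maximalIdeal S.carrier := fun a ha => by
    rw [ArtFun.CRing.mem_maximalIdeal_iff] at ha ⊢
    rw [← ha, ← hf]; rfl
  have hm : Ideal.map f (IsLocalRing.maximalIdeal R.carrier) ≤ IsLocalRing.maximalIdeal S.carrier :=
    Ideal.map_le_iff_le_comap.2 hmem
  have hL : Ideal.map (algebraMap Λ S.carrier) (RingHom.ker (algebraMap Λ k)) ≤
      Ideal.map f (IsLocalRing.maximalIdeal R.carrier) := by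
    refine Ideal.map_le_iff_le_comap.2 fun l hl => ?_
    rw [Ideal.mem_comap, ← f.commutes]
    refine Ideal.mem_map_of_mem _ ?_
    rw [ArtFun.CRing.mem_maximalIdeal_iff, AlgHom.commutes]
    exact hl
  tfae_have 1 → 2 := fun hs => le_antisymm (sup_le hm (Ideal.pow_le_self two_ne_zero)) fun b hb => by
    obtain ⟨a, rfl⟩ := hs b
    refine Ideal.mem_sup_left (Ideal.mem_map_of_mem _ ?_)
    rw [ArtFun.CRing.mem_maximalIdeal_iff] at hb ⊢
    rw [← hb, ← hf]; rfl
  tfae_have 2 → 3 := fun h => by rw [sup_eq_right.2 hL]; exact h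
  tfae_have 3 → 1 := fun h => by
    rw [sup_eq_right.2 hL] at h
    refine Groth.Agent.ArtFunLib.surjective_of_cotangent (IsLocalRing.maximalIdeal R.carrier)
      (IsLocalRing.maximalIdeal S.carrier) f.toRingHom hm (fun b => ?_) h.ge
    obtain ⟨a, ha⟩ := R.res_surjective (S.res b)
    refine ⟨a, ?_⟩
    rw [ArtFun.CRing.mem_maximalIdeal_iff, map_sub]
    exact sub_eq_zero.2 (ha.symm.trans (by rw [← hf]; rfl))
  tfae_finish

end Groth.Agent.S12714
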