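import Groth.Statements.S12715
import Groth.Agent.Lib.ArtFun.Coef

set_option autoImplicit false
universe u v
open CategoryTheory
open ArtFun

namespace Groth.Agent.S12715

/-- For Λ Noetherian with a finite map to the field k and S a complete local Noetherian Λ-algebra with
residue field k (through a surjective map S → k over Λ), the space of Λ-derivations S → k is
finite-dimensional over k. -/
theorem result {Λ : Type u} {k : Type u} [CommRing Λ] [Field k] [Algebra Λ k]
    [IsNoetherianRing Λ] [Module.Finite Λ k]
    (S : Type u) [CommRing S] [Algebra Λ S] [IsLocalRing S] [IsNoetherianRing S]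
    [IsAdicComplete (IsLocalRing.maximalIdeal S) S] [Algebra S k] [IsScalarTower Λ S k]
    (hres : Function.Surjective (algebraMap S k)) :
    Module.Finite k (Derivation Λ S k) := by
  let S' : ArtFun.CRing Λ k :=
    { carrier := S, res := IsScalarTower.toAlgHom Λ S k, res_surjective := hres, isAdicComplete := inferInstance }
  obtain ⟨T⟩ := Groth.Agent.ArtFunLib.nonempty_tangentStr (F := ArtFun.hR S'.carrier S'.res)
    (Groth.Agent.ArtFunLib.h0_hR S'.res) (Groth.Agent.ArtFunLib.rs_hR S'.res).heps
  have : Module.Finite k (ArtFun.TangentSpace (ArtFun.hR S'.carrier S'.res)) :=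
    Groth.Agent.ArtFunLib.hfin_hR S'
  have hpt : ∀ D : Derivation Λ S k, ∃ f : S →ₐ[Λ] TrivSqZeroExt k k,
      ∀ s, f s = TrivSqZeroExt.inl (algebraMap S k s) + TrivSqZeroExt.inr (D s) := fun D =>
    ⟨{ toFun := fun s => TrivSqZeroExt.inl (algebraMap S k s) + TrivSqZeroExt.inr (D s)
       map_one' := TrivSqZeroExt.ext (by simp) (by simp)
       map_mul' := fun a b => TrivSqZeroExt.ext (by simp)
         (by
           rw [D.leibniz, Algebra.smul_def (A := k) a, Algebra.smul_def (A := k) b]
           simp [mul_comm])
       map_zero' := TrivSqZeroExt.ext (by simp) (by simp)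
       map_add' := fun a b => TrivSqZeroExt.ext (by simp) (by simp)
       commutes' := fun r => TrivSqZeroExt.ext
         (by simp [TrivSqZeroExt.algebraMap_eq_inl', ← IsScalarTower.algebraMap_apply Λ S k])
         (by simp [TrivSqZeroExt.algebraMap_eq_inl']) },
      fun _ => rfl⟩
  choose f hf using hpt
  let pt : Derivation Λ S k → ArtFun.TangentSpace (ArtFun.hR S'.carrier S'.res) := fun D =>
    ArtFun.TangentSpace.mk (F := ArtFun.hR S'.carrier S'.res)
      (⟨f D, AlgHom.ext fun (s : S) => by
        change TrivSqZeroExt.fst (f D s) = algebraMap S k s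
        simp [hf]⟩ : ArtFun.HomSet S'.carrier S'.res (ArtFun.Art.dual Λ k))
  have hev : ∀ (D : Derivation Λ S k) (s : S),
      Groth.Agent.ArtFunLib.evLin (R := S'.carrier) (resR := S'.res) s (pt D) = D s := fun D s => by
    change TrivSqZeroExt.snd (f D s) = D s
    simp [hf]
  let L : Derivation Λ S k →ₗ[k] ArtFun.TangentSpace (ArtFun.hR S'.carrier S'.res) :=
    { toFun := pt
      map_add' := fun D E => Groth.Agent.ArtFunLib.tangent_ext fun s => by
        rw [map_add, hev, hev, hev, Derivation.add_apply]
      map_smul' := fun c D => Groth.Agent.ArtFunLib.tangent_ext fun s => by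
        rw [RingHom.id_apply, map_smul, hev, hev, Derivation.smul_apply] }
  refine Module.Finite.of_injective L fun D E h => Derivation.ext fun s => ?_
  have e : pt D = pt E := h
  rw [← hev D, ← hev E, e]

end Groth.Agent.S12715
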