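import Groth.Statements.S12716
import Groth.Agent.Lib.ArtFun.Coef

set_option autoImplicit false
universe u v
open CategoryTheory
open ArtFun

namespace Groth.Agent.S12716

/-- Let f : R → S be a morphism of complete local Noetherian Λ-algebras with residue field k (Λ
Noetherian, Λ → k finite). If the restriction map Der_Λ(S, k) → Der_Λ(R, k) is injective — two
Λ-derivations S → k that agree after composing with f are equal — then f is surjective. -/
theorem result {Λ : Type u} {k : Type u} [CommRing Λ] [Field k] [Algebra Λ k]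
    [IsNoetherianRing Λ] [Module.Finite Λ k]
    (R : ArtFun.CRing Λ k)
    (S : Type u) [CommRing S] [Algebra Λ S] [IsLocalRing S] [IsNoetherianRing S]
    [IsAdicComplete (IsLocalRing.maximalIdeal S) S] [Algebra S k] [IsScalarTower Λ S k]
    (hres : Function.Surjective (algebraMap S k))
    (f : R.carrier →ₐ[Λ] S) (hf : (IsScalarTower.toAlgHom Λ S k).comp f = R.res)
    (hinj : ∀ D₁ D₂ : Derivation Λ S k, (∀ r : R.carrier, D₁ (f r) = D₂ (f r)) → D₁ = D₂) :
    Function.Surjective f := by
  let S' : ArtFun.CRing Λ k :=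
    { carrier := S, res := IsScalarTower.toAlgHom Λ S k, res_surjective := hres, isAdicComplete := inferInstance }
  refine Groth.Agent.ArtFunLib.surjective_of_dual_injective (S := S') f hf fun φ ψ h => ?_
  have mkD : ∀ χ : ArtFun.HomSet S S'.res (ArtFun.Art.dual Λ k), ∃ D : Derivation Λ S k,
      ∀ s, D s = TrivSqZeroExt.snd (χ.1 s) := fun χ => by
    let χ₀ : S →ₐ[Λ] DualNumber k := χ.1
    have hfst : ∀ s, TrivSqZeroExt.fst (χ₀ s) = algebraMap S k s :=
      fun s => Groth.Agent.ArtFunLib.homSet_res χ s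
    let l : S →ₗ[Λ] k :=
      { toFun := fun s => TrivSqZeroExt.snd (χ₀ s)
        map_add' := fun c d => by rw [map_add, TrivSqZeroExt.snd_add]
        map_smul' := fun r c => by rw [map_smul, TrivSqZeroExt.snd_smul]; rfl }
    refine ⟨Derivation.mk' l fun a b => ?_, fun _ => rfl⟩
    change TrivSqZeroExt.snd (χ₀ (a * b)) = a • TrivSqZeroExt.snd (χ₀ b) + b • TrivSqZeroExt.snd (χ₀ a)
    rw [map_mul, TrivSqZeroExt.snd_mul, hfst, hfst, op_smul_eq_smul, Algebra.smul_def (A := k) a,
      Algebra.smul_def (A := k) b, smul_eq_mul, smul_eq_mul]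
  obtain ⟨D₁, hD₁⟩ := mkD φ
  obtain ⟨D₂, hD₂⟩ := mkD ψ
  have hD : D₁ = D₂ := hinj D₁ D₂ fun r => by rw [hD₁, hD₂, h r]
  exact Groth.Agent.ArtFunLib.dual_point_ext fun r => by rw [← hD₁, ← hD₂, hD]

end Groth.Agent.S12716
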