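import Groth.Statements.S12720
import Groth.Agent.Lib.ArtFun.Families

set_option autoImplicit false
universe u v
open CategoryTheory
open ArtFun

namespace Groth.Agent.S12720

/-- For functors, let F be a functor on Artinian local Λ-algebras with residue field k with F(k) a
point, and ξ a versal family of F over a complete local Noetherian R with residue field k. Then
every formal element η of F over a complete local Noetherian S with residue field k is induced from
ξ: there is a morphism g : R → S (over Λ, compatible with the augmentations) such that the family
obtained from ξ by composing with g has formal element η. -/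
theorem result {Λ : Type u} {k : Type u} [CommRing Λ] [Field k] [Algebra Λ k]
    [IsNoetherianRing Λ] [Module.Finite Λ k]
    {F : ArtFun.Art Λ k ⥤ Type v} (h0 : ArtFun.H0 F)
    (R : ArtFun.CRing Λ k) (ξ : ArtFun.Family R.carrier R.res F) (hξ : ArtFun.IsVersal ξ)
    (S : ArtFun.CRing Λ k) (η : ArtFun.FormalElt F S) :
    ∃ (g : R.carrier →ₐ[Λ] S.carrier) (hg : S.res.comp g = R.res), (ξ.along g hg).toFormalElt = η := by
  exact Groth.Agent.ArtFunLib.exists_along hξ h0 η

end Groth.Agent.S12720
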