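import Groth.Statements.S12722
import Groth.Agent.Lib.ArtFun.PS

set_option autoImplicit false
universe u v
open CategoryTheory
open ArtFun

namespace Groth.Agent.S12722

/-- (1) ⇔ (5): let Λ be a complete local Noetherian ring with residue field k. For a complete local
Noetherian Λ-algebra R with residue field k, the functor h_R on Artinian local Λ-algebras with
residue field k is smooth if and only if R is isomorphic over Λ to a power series ring Λ[[x₁, …,
xₙ]] for some n. -/
theorem result {Λ : Type u} {k : Type u} [CommRing Λ] [Field k] [Algebra Λ k]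
    [IsNoetherianRing Λ] [Module.Finite Λ k]
    [IsLocalRing Λ] [IsAdicComplete (IsLocalRing.maximalIdeal Λ) Λ]
    (hk : Function.Surjective (algebraMap Λ k)) (R : ArtFun.CRing Λ k) :
    ArtFun.IsSmoothFunctor (ArtFun.hR R.carrier R.res) ↔
      ∃ n : ℕ, Nonempty (R.carrier ≃ₐ[Λ] MvPowerSeries (Fin n) Λ) := by
  let L : ArtFun.CRing Λ k :=
    { carrier := Λ, res := Algebra.ofId Λ k, res_surjective := hk, isAdicComplete := inferInstance }
  have hL : ∀ (A : ArtFun.Art Λ k) (φ ψ : ArtFun.HomSet L.carrier L.res A), φ = ψ := fun A φ ψ =>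
    Groth.Agent.ArtFunLib.homSet_ext fun (r : Λ) => (φ.1.commutes r).trans (ψ.1.commutes r).symm
  have hf : R.res.comp (Algebra.ofId Λ R.carrier) = L.res := AlgHom.ext fun r => R.res.commutes r
  constructor
  · intro h
    obtain ⟨n, e, -⟩ := Groth.Agent.ArtFunLib.exists_ps_equiv_of_versal (R := L) (S := R)
      (Algebra.ofId Λ R.carrier) hf (fun B A μ hμ φ y _ => by
        obtain ⟨ψ, hψ⟩ := h μ hμ φ
        exact ⟨ψ, hψ, hL _ _ _⟩)
    exact ⟨n, ⟨e⟩⟩
  · rintro ⟨n, ⟨e⟩⟩
    intro B A μ hμ φ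
    obtain ⟨ψ, hψ, -⟩ := Groth.Agent.ArtFunLib.versal_of_ps_equiv (R := L) (S := R)
      (Algebra.ofId Λ R.carrier) hf e (fun r => e.commutes r) μ hμ φ
      (⟨Algebra.ofId Λ B, AlgHom.ext fun r => B.res.commutes r⟩ : ArtFun.HomSet L.carrier L.res B) (hL _ _ _)
    exact ⟨ψ, hψ⟩

end Groth.Agent.S12722
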