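import Groth.Statements.S12725
import Groth.Agent.Lib.ArtFun.Tangent

set_option autoImplicit false
universe u v
open CategoryTheory
open ArtFun

namespace Groth.Agent.S12725

/-- For functors, if F satisfies (S2) (bijectivity of F(A ×_k k[ε]) → F(A) ×_{F(k)} F(k[ε])), then for
every object E which is a square-zero extension k ⊕ V of k by a finite-dimensional vector space —
equivalently, m_E² = 0 and the augmentation E → k has a section in the category — and every fibre
product square B = A ×_k E, the map F(B) → F(A) ×_{F(k)} F(E) is bijective. -/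
theorem result {Λ : Type u} {k : Type u} [CommRing Λ] [Field k] [Algebra Λ k]
    [IsNoetherianRing Λ] [Module.Finite Λ k]
    {F : ArtFun.Art Λ k ⥤ Type v} (hF : ArtFun.Heps F)
    {E : ArtFun.Art Λ k} (hσ : Nonempty (ArtFun.Art.base Λ k ⟶ E))
    (hE : IsLocalRing.maximalIdeal E ^ 2 = ⊥)
    ⦃B A : ArtFun.Art Λ k⦄ (p' : B ⟶ A) (p'' : B ⟶ E)
    (h : ArtFun.Art.IsFibreProd p' p'' (ArtFun.Art.toBase A) (ArtFun.Art.toBase E)) :
    Function.Bijective (ArtFun.cmp F h) := by
  obtain ⟨σ⟩ := hσ
  exact Groth.Agent.ArtFunLib.bijective_cmp_sqZero hF σ hE p' p'' h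

end Groth.Agent.S12725
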