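import Groth.Statements.S12730
import Groth.Agent.Lib.ArtFun.Hull

set_option autoImplicit false
universe u v
open CategoryTheory
open ArtFun

namespace Groth.Agent.S12730

/-- For functors, a functor on Artinian local Λ-algebras with residue field k with F(k) a point,
satisfying (S1) and (S2) and with finite-dimensional tangent space has a versal family over some
complete local Noetherian Λ-algebra with residue field k. -/
theorem result {Λ : Type u} {k : Type u} [CommRing Λ] [Field k] [Algebra Λ k]
    [IsNoetherianRing Λ] [Module.Finite Λ k]
    (F : ArtFun.Art Λ k ⥤ Type v) [ArtFun.TangentStr F]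
    (h0 : ArtFun.H0 F) (h1 : ArtFun.S1 F) (h2 : ArtFun.Heps F) (h3 : ArtFun.Hfin F) :
    ArtFun.HasVersal F := by
  exact Groth.Agent.ArtFunLib.hasVersal_of F h0 h1 h2 h3

end Groth.Agent.S12730
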