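import Groth.Statements.S12735
import Groth.Agent.Lib.ArtFun.Coef

set_option autoImplicit false
universe u v
open CategoryTheory
open ArtFun

namespace Groth.Agent.S12735

/-- Let U be a prorepresentable functor on Artinian local Λ-algebras with residue field k and φ : U → U
an endomorphism of functors which is bijective on the tangent space U(k[ε]). Then φ is an
isomorphism: every component is bijective. -/
theorem result {Λ : Type u} {k : Type u} [CommRing Λ] [Field k] [Algebra Λ k]
    [IsNoetherianRing Λ] [Module.Finite Λ k]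
    {U : ArtFun.Art Λ k ⥤ Type v} (hU : ArtFun.IsProrepresentable U)
    (φ : U ⟶ U) (hd : Function.Bijective (ArtFun.TangentSpace.map φ)) (A : ArtFun.Art Λ k) :
    Function.Bijective (φ.app A) := by
  obtain ⟨⟨R, ξ, hξ⟩⟩ := hU
  let ξ' : ArtFun.Family R.carrier R.res U :=
    { app := fun A a => φ.app A (ξ.app A a)
      natural := fun f a => by rw [ξ.natural]; exact NatTrans.naturality_apply φ f _ }
  obtain ⟨g, hg, hgu⟩ := Groth.Agent.ArtFunLib.exists_along (Groth.Agent.ArtFunLib.isVersal_of_universal hξ)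
    (Groth.Agent.ArtFunLib.h0_of_surjective (hξ _).2) ξ'.toFormalElt
  have e := Groth.Agent.ArtFunLib.family_ext hgu
  have hgs : Function.Surjective g := by
    refine Groth.Agent.ArtFunLib.surjective_of_dual_injective g hg fun a b h => ?_
    refine (hξ _).1 (hd.1 ?_)
    have ha := congrArg (fun ζ : ArtFun.Family R.carrier R.res U => ζ.app (ArtFun.Art.dual Λ k) a) e
    have hb := congrArg (fun ζ : ArtFun.Family R.carrier R.res U => ζ.app (ArtFun.Art.dual Λ k) b) e
    exact ha.symm.trans ((congrArg (ξ.app _) (Groth.Agent.ArtFunLib.homSet_ext h)).trans hb)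
  let ge := AlgEquiv.ofBijective g
    ⟨Groth.Agent.ArtFunLib.injective_of_surjective_endo (g : R.carrier →+* R.carrier) hgs, hgs⟩
  have happ : ∀ a : ArtFun.HomSet R.carrier R.res A,
      φ.app A (ξ.app A a) = ξ.app A ⟨a.1.comp g, by rw [← AlgHom.comp_assoc, a.2, hg]⟩ := fun a =>
    (congrArg (fun ζ : ArtFun.Family R.carrier R.res U => ζ.app A a) e).symm
  refine ⟨fun x y h => ?_, fun y => ?_⟩
  · obtain ⟨a, rfl⟩ := (hξ A).2 x
    obtain ⟨b, rfl⟩ := (hξ A).2 y
    rw [happ, happ] at h
    refine congrArg (ξ.app A) (Groth.Agent.ArtFunLib.homSet_ext fun r => ?_)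
    obtain ⟨s, rfl⟩ := hgs r
    exact congrArg (fun χ : ArtFun.HomSet R.carrier R.res A => χ.1 s) ((hξ A).1 h)
  · obtain ⟨b, rfl⟩ := (hξ A).2 y
    have hres : ∀ r, R.res (ge.symm r) = R.res r := fun r =>
      ((ArtFun.CRing.res_comp_apply g hg _).symm).trans (congrArg R.res (ge.apply_symm_apply r))
    refine ⟨ξ.app A ⟨b.1.comp ge.symm.toAlgHom, AlgHom.ext fun r =>
      (Groth.Agent.ArtFunLib.homSet_res b _).trans (hres r)⟩, ?_⟩
    rw [happ]
    exact congrArg (ξ.app A) (Groth.Agent.ArtFunLib.homSet_ext fun r => congrArg b.1 (ge.symm_apply_apply r))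

end Groth.Agent.S12735
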