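import Groth.Statements.S12741
import Groth.Agent.Lib.ArtFun.Pushout

set_option autoImplicit false
universe u v
open CategoryTheory
open ArtFun ArtFun.CRing

namespace Groth.Agent.S12741

/-- The category of complete local Noetherian Λ-algebras with residue field k (Λ Noetherian, Λ → k
finite; morphisms the Λ-algebra maps compatible with the augmentations) admits coproducts of pairs:
for objects R and S there is an object P with morphisms from R and S through which every pair of
morphisms R → T ← S factors by a unique morphism P → T. -/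
theorem result {Λ : Type u} {k : Type u} [CommRing Λ] [Field k] [Algebra Λ k]
    [IsNoetherianRing Λ] [Module.Finite Λ k]
    (R S : ArtFun.CRing Λ k) :
    ∃ (P : ArtFun.CRing Λ k) (i₁ : R.carrier →ₐ[Λ] P.carrier) (i₂ : S.carrier →ₐ[Λ] P.carrier),
      P.res.comp i₁ = R.res ∧ P.res.comp i₂ = S.res ∧
      ∀ (T : ArtFun.CRing Λ k) (g₁ : R.carrier →ₐ[Λ] T.carrier) (g₂ : S.carrier →ₐ[Λ] T.carrier),
        T.res.comp g₁ = R.res → T.res.comp g₂ = S.res →
          ∃! h : P.carrier →ₐ[Λ] T.carrier, T.res.comp h = P.res ∧ h.comp i₁ = g₁ ∧ h.comp i₂ = g₂ := by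
  have hc : ∀ {X : Type u} [CommRing X] [Algebra Λ X] (g g' : Λ →ₐ[Λ] X), g = g' := fun g g' =>
    AlgHom.ext fun r => (g.commutes r).trans (g'.commutes r).symm
  obtain ⟨P, i₁, i₂, h₁, h₂, -, h⟩ := Groth.Agent.ArtFunLib.exists_pushout
    (Algebra.ofId Λ R.carrier) (Algebra.ofId Λ S.carrier) (hc _ _)
  exact ⟨P, i₁, i₂, h₁, h₂, fun T g₁ g₂ e₁ e₂ => h T g₁ g₂ e₁ e₂ (hc _ _)⟩

end Groth.Agent.S12741
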