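import Groth.Statements.S12744
import Groth.Agent.Lib.ArtFun.Families

set_option autoImplicit false
universe u v
open CategoryTheory
open ArtFun

namespace Groth.Agent.S12744

/-- For functors, if η : F → G is a smooth morphism of functors on Artinian local Λ-algebras with
residue field k and F(k) → G(k) is surjective, then for every complete local Noetherian R with
residue field k the induced map on formal elements over R (compatible systems of elements over the
truncations R/m^(n+1)) is surjective. -/
theorem result {Λ : Type u} {k : Type u} [CommRing Λ] [Field k] [Algebra Λ k]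
    [IsNoetherianRing Λ] [Module.Finite Λ k]
    {F G : ArtFun.Art Λ k ⥤ Type v} (η : F ⟶ G) (hη : ArtFun.IsSmooth η)
    (h0 : Function.Surjective (η.app (ArtFun.Art.base Λ k))) (R : ArtFun.CRing Λ k) :
    Function.Surjective (fun u : ArtFun.FormalElt F R => u.map η) := by
  intro v
  have hl := (Groth.Agent.ArtFunLib.isSmooth_iff_lifts η).1 hη
  obtain ⟨x₀, hx₀⟩ := Groth.Agent.ArtFunLib.surjective_of_lifts _ hl h0 (R.trunc 0) (v.elt 0)
  have step : ∀ n (x : {x : F.obj (R.trunc n) // η.app _ x = v.elt n}),
      ∃ y : {x : F.obj (R.trunc (n + 1)) // η.app _ x = v.elt (n + 1)}, F.map (R.truncMap n) y.1 = x.1 := fun n x => by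
    obtain ⟨z, hz1, hz2⟩ := hl (R.truncMap n) (Groth.Agent.ArtFunLib.truncMap_surjective R n) x.1 (v.elt (n + 1))
      (by rw [v.compat]; exact x.2.symm)
    exact ⟨⟨z, hz2⟩, hz1⟩
  choose next hnext using step
  let seq : ∀ n, {x : F.obj (R.trunc n) // η.app _ x = v.elt n} := fun n =>
    Nat.rec ⟨x₀, hx₀⟩ (fun i p => next i p) n
  exact ⟨⟨fun n => (seq n).1, fun n => hnext n (seq n)⟩, ArtFun.FormalElt.ext' fun n => (seq n).2⟩

end Groth.Agent.S12744
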