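import Groth.Statements.S12747
import Groth.Agent.Lib.ArtFun.Pullback

set_option autoImplicit false
universe u v
open CategoryTheory
open ArtFun

namespace Groth.Agent.S12747

/-- For functors, let H₁ → G, H₂ → G and q : G → F be morphisms of functors on Artinian local Λ-algebras
with residue field k where F and G are deformation functors (value at k a point, condition (RS)) and
q is injective on tangent spaces. Then the induced morphism H₁ ×_G H₂ → H₁ ×_F H₂ is smooth. (The
published statement also assumes that infinitesimal automorphisms of G map onto those of F; for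
functors that condition is empty.) -/
theorem result {Λ : Type u} {k : Type u} [CommRing Λ] [Field k] [Algebra Λ k]
    [IsNoetherianRing Λ] [Module.Finite Λ k]
    {F G H₁ H₂ : ArtFun.Art Λ k ⥤ Type v} (p₁ : H₁ ⟶ G) (p₂ : H₂ ⟶ G) (q : G ⟶ F)
    (hF0 : ArtFun.H0 F) (hF : (∀ ⦃B A A' A'' : ArtFun.Art Λ k⦄ (p' : B ⟶ A') (p'' : B ⟶ A'') (f' : A' ⟶ A) (f'' : A'' ⟶ A)
        (h : ArtFun.Art.IsFibreProd p' p'' f' f''), Function.Surjective f'' → Function.Bijective (ArtFun.cmp F h)))
    (hG0 : ArtFun.H0 G) (hG : (∀ ⦃B A A' A'' : ArtFun.Art Λ k⦄ (p' : B ⟶ A') (p'' : B ⟶ A'') (f' : A' ⟶ A) (f'' : A'' ⟶ A)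
        (h : ArtFun.Art.IsFibreProd p' p'' f' f''), Function.Surjective f'' → Function.Bijective (ArtFun.cmp G h)))
    (hq : Function.Injective (ArtFun.TangentSpace.map q)) :
    ArtFun.IsSmooth (CategoryTheory.Limits.pullback.map p₁ p₂ (p₁ ≫ q) (p₂ ≫ q) (𝟙 H₁) (𝟙 H₂) q
      (CategoryTheory.Category.id_comp _).symm (CategoryTheory.Category.id_comp _).symm) := by
  exact Groth.Agent.ArtFunLib.lifts_pullback_map p₁ p₂ q hG0 (Groth.Agent.ArtFunLib.RS.hbar hG)
    (Groth.Agent.ArtFunLib.RS.heps hG) (Groth.Agent.ArtFunLib.RS.hsq hF) hq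

end Groth.Agent.S12747
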