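import Groth.Statements.S12748
import Groth.Agent.Lib.ArtFun.PS

set_option autoImplicit false
universe u v
open CategoryTheory
open ArtFun ArtFun.CRing

namespace Groth.Agent.S12748

/-- Let R' → R be a morphism of complete local Noetherian Λ-algebras with residue field k with an
R'-algebra retraction ρ : R → R', so that R = R' ⊕ I for the ideal I = ker ρ; let x₁, …, x_r ∈ I map
to a basis of I/m_R I and let φ : R'[[X₁, …, X_r]] → R be an R'-algebra map sending X_i to x_i. If
for all large n the induced map R'[[X]]/m^n → R/m_R^n has a left inverse — a Λ-algebra map g_n : R →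
R'[[X]]/m^n with g_n ∘ φ equal to the quotient map — then φ is an isomorphism. -/
theorem result {Λ : Type u} {k : Type u} [CommRing Λ] [Field k] [Algebra Λ k]
    [IsNoetherianRing Λ] [Module.Finite Λ k]
    (R' R : ArtFun.CRing Λ k) [Algebra R'.carrier R.carrier] [IsScalarTower Λ R'.carrier R.carrier]
    (hc : R.res.comp (IsScalarTower.toAlgHom Λ R'.carrier R.carrier) = R'.res)
    (ρ : R.carrier →ₐ[R'.carrier] R'.carrier)
    (r : ℕ) (x : Fin r → R.carrier) (hxI : ∀ i, ρ (x i) = 0)
    (hspan : Ideal.span (Set.range x) ⊔ IsLocalRing.maximalIdeal R.carrier * RingHom.ker ρ = RingHom.ker ρ)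
    (hli : ∀ c : Fin r → R.carrier, (∑ i, c i * x i) ∈ IsLocalRing.maximalIdeal R.carrier * RingHom.ker ρ →
      ∀ i, c i ∈ IsLocalRing.maximalIdeal R.carrier)
    (φ : MvPowerSeries (Fin r) R'.carrier →ₐ[R'.carrier] R.carrier) (hφ : ∀ i, φ (MvPowerSeries.X i) = x i)
    (hinv : ∃ N : ℕ, ∀ n, N ≤ n →
      ∃ g : R.carrier →ₐ[Λ] (MvPowerSeries (Fin r) R'.carrier ⧸
          IsLocalRing.maximalIdeal (MvPowerSeries (Fin r) R'.carrier) ^ n),
        ∀ s, g (φ s) = Ideal.Quotient.mk _ s) :
    Function.Bijective φ := by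
  let P := Groth.Agent.ArtFunLib.psRing R' r
  have hP : IsAdicComplete (IsLocalRing.maximalIdeal P.carrier) P.carrier := P.isAdicComplete
  let ι : R'.carrier →+* R.carrier := algebraMap R'.carrier R.carrier
  have hι : ∀ a, R.res (ι a) = R'.res a := fun a => AlgHom.congr_fun hc a
  have hker : RingHom.ker ρ ≤ IsLocalRing.maximalIdeal R.carrier := fun z hz => by
    by_contra hu
    obtain ⟨w, hw⟩ := (IsLocalRing.notMem_maximalIdeal).1 hu
    have h1 : ρ (z * ↑w⁻¹) = 0 := by rw [map_mul, RingHom.mem_ker.1 hz, zero_mul]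
    rw [← hw, Units.mul_inv, map_one] at h1
    exact one_ne_zero h1
  have hxs : RingHom.ker ρ ≤ Ideal.span (Set.range x) :=
    Submodule.le_of_le_smul_of_le_jacobson_bot (IsNoetherian.noetherian _)
      (IsLocalRing.maximalIdeal_le_jacobson ⊥) hspan.ge
  let φ₀ : MvPowerSeries (Fin r) R'.carrier →+* R.carrier := φ.toRingHom
  have hφm : (IsLocalRing.maximalIdeal (MvPowerSeries (Fin r) R'.carrier)).map φ₀ ≤
      IsLocalRing.maximalIdeal R.carrier := by
    refine Ideal.map_le_iff_le_comap.2 fun s hs => ?_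
    have hs0 : R'.res (MvPowerSeries.constantCoeff s) = 0 := (P.mem_maximalIdeal_iff s).1 hs
    obtain ⟨c, hcs⟩ := (Submodule.mem_span_range_iff_exists_fun _).1
      (show s - MvPowerSeries.C (MvPowerSeries.constantCoeff s) ∈
          Ideal.span (Set.range fun i : Fin r => (MvPowerSeries.X i : MvPowerSeries (Fin r) R'.carrier)) by
        rw [Groth.Agent.ArtFunLib.span_X_eq_ker, RingHom.mem_ker, map_sub, MvPowerSeries.constantCoeff_C,
          sub_self])
    rw [Ideal.mem_comap, ← sub_add_cancel s (MvPowerSeries.C (MvPowerSeries.constantCoeff s)), ← hcs,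
      map_add, map_sum]
    refine add_mem (sum_mem fun i _ => ?_) ?_
    · rw [smul_eq_mul, map_mul]
      exact Ideal.mul_mem_left _ _ (hker (RingHom.mem_ker.2 (by
        change ρ (φ (MvPowerSeries.X i)) = 0
        rw [hφ, hxI])))
    · rw [show φ₀ (MvPowerSeries.C (MvPowerSeries.constantCoeff s)) = ι (MvPowerSeries.constantCoeff s) from
        φ.commutes _, R.mem_maximalIdeal_iff, hι]
      exact hs0
  have : IsAdicComplete (IsLocalRing.maximalIdeal (MvPowerSeries (Fin r) R'.carrier))
      (MvPowerSeries (Fin r) R'.carrier) := hP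
  refine ⟨(injective_iff_map_eq_zero φ).2 fun s hs => ?_, ?_⟩
  · obtain ⟨N, hN⟩ := hinv
    refine IsHausdorff.haus' (I := IsLocalRing.maximalIdeal (MvPowerSeries (Fin r) R'.carrier)) _ fun n => ?_
    rw [SModEq.zero, smul_eq_mul, Ideal.mul_top]
    obtain ⟨g, hg⟩ := hN (max N n) (le_max_left _ _)
    have h := hg s
    rw [hs, map_zero] at h
    exact Ideal.pow_le_pow_right (le_max_right N n) (Ideal.Quotient.eq_zero_iff_mem.1 h.symm)
  · refine Groth.Agent.ArtFunLib.surjective_of_cotangent
      (IsLocalRing.maximalIdeal (MvPowerSeries (Fin r) R'.carrier)) (IsLocalRing.maximalIdeal R.carrier)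
      φ₀ hφm (fun s => ?_) (le_sup_of_le_left fun s hs => ?_)
    · obtain ⟨a, ha⟩ := R'.res_surjective (R.res s)
      refine ⟨MvPowerSeries.C a, (R.mem_maximalIdeal_iff _).2 ?_⟩
      rw [map_sub, show φ₀ (MvPowerSeries.C a) = ι a from φ.commutes a, hι, ha, sub_self]
    · have hxmem : Ideal.span (Set.range x) ≤ (IsLocalRing.maximalIdeal (MvPowerSeries (Fin r) R'.carrier)).map φ₀ :=
        Ideal.span_le.2 (Set.range_subset_iff.2 fun i => by
          rw [← hφ i]
          exact Ideal.mem_map_of_mem φ₀ ((P.mem_maximalIdeal_iff _).2 (Groth.Agent.ArtFunLib.res_psX R' i)))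
      rw [← sub_add_cancel s (ι (ρ s))]
      have hsub : s - ι (ρ s) ∈ RingHom.ker ρ := RingHom.mem_ker.2 (by
        rw [map_sub, show ρ (ι (ρ s)) = ρ s from ρ.commutes (ρ s), sub_self])
      refine add_mem (hxmem (hxs hsub)) ?_
      have h2 : R.res (ι (ρ s)) = 0 := by
        have h := (R.mem_maximalIdeal_iff _).1 (hker hsub)
        rw [map_sub, (R.mem_maximalIdeal_iff s).1 hs, zero_sub, neg_eq_zero] at h
        exact h
      rw [hι] at h2
      have h3 : (MvPowerSeries.C (ρ s) : MvPowerSeries (Fin r) R'.carrier) ∈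
          IsLocalRing.maximalIdeal (MvPowerSeries (Fin r) R'.carrier) :=
        (P.mem_maximalIdeal_iff _).2 (by
          change R'.res (MvPowerSeries.constantCoeff (MvPowerSeries.C (ρ s) : MvPowerSeries (Fin r) R'.carrier)) = 0
          rw [MvPowerSeries.constantCoeff_C]
          exact h2)
      exact (show φ₀ (MvPowerSeries.C (ρ s)) = ι (ρ s) from φ.commutes (ρ s)) ▸ Ideal.mem_map_of_mem φ₀ h3

end Groth.Agent.S12748
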