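import Groth.Statements.S12749
import Groth.Agent.Lib.ArtFun.Coef

set_option autoImplicit false
universe u v
open CategoryTheory
open ArtFun

namespace Groth.Agent.S12749

/-- For functors, suppose k admits no nonzero Λ-derivation into itself (that is, k is separable over the
image of Λ in k). Let F be a functor on Artinian local Λ-algebras with residue field k with F(k) a
point which satisfies (S2), and let ξ be a minimal versal family of F over a complete local
Noetherian R with residue field k: ξ is versal, and every morphism of such coefficient rings R' → R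
along which some formal element of F over R' pushes forward to the formal element of ξ is
surjective. Then ξ is a hull of F: it is moreover bijective on tangent spaces. (The published
statement, for arbitrary k, concludes that the tangent map of the minimal versal family is bijective
on orbits under the Λ-derivations of k; when k has no nonzero Λ-derivation into itself the orbits
are points and this is plain bijectivity, which is the case stated here.) -/
theorem result {Λ : Type u} {k : Type u} [CommRing Λ] [Field k] [Algebra Λ k]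
    [IsNoetherianRing Λ] [Module.Finite Λ k]
    (hk : Subsingleton (Derivation Λ k k))
    {F : ArtFun.Art Λ k ⥤ Type v} (h0 : ArtFun.H0 F) (h2 : ArtFun.Heps F)
    {R : ArtFun.CRing Λ k} (ξ : ArtFun.Family R.carrier R.res F) (hξ : ξ.IsMinimalVersal) :
    ArtFun.IsMiniversal ξ := by
  obtain ⟨T⟩ := Groth.Agent.ArtFunLib.nonempty_tangentStr (F := F) h0 h2
  have hc : ∀ (x₀ : F.obj (ArtFun.Art.base Λ k)) (σ : ArtFun.Art.base Λ k ⟶ ArtFun.Art.dual Λ k),
      F.map σ x₀ = F.map ArtFun.Art.baseToDual x₀ → σ = ArtFun.Art.baseToDual := fun x₀ σ _ =>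
    Groth.Agent.ArtFunLib.hom_ext' fun (a : k) => TrivSqZeroExt.ext (R := k) (M := k)
      (ArtFun.Art.res_app σ a) (by
        let σ₀ : k →ₐ[Λ] DualNumber k := σ.toAlgHom
        let l : k →ₗ[Λ] k :=
          { toFun := fun c => TrivSqZeroExt.snd (σ₀ c)
            map_add' := fun c d => by rw [map_add, TrivSqZeroExt.snd_add]
            map_smul' := fun r c => by rw [map_smul, TrivSqZeroExt.snd_smul]; rfl }
        let D : Derivation Λ k k := Derivation.mk' l fun c d => by
          have hc : TrivSqZeroExt.fst (σ₀ c) = c := ArtFun.Art.res_app σ c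
          have hd : TrivSqZeroExt.fst (σ₀ d) = d := ArtFun.Art.res_app σ d
          change TrivSqZeroExt.snd (σ₀ (c * d)) =
            c * TrivSqZeroExt.snd (σ₀ d) + d * TrivSqZeroExt.snd (σ₀ c)
          rw [map_mul, TrivSqZeroExt.snd_mul, hc, hd, op_smul_eq_smul, smul_eq_mul, smul_eq_mul]
        exact (congrArg (fun E : Derivation Λ k k => E a) (Subsingleton.elim D 0)).trans rfl)
  obtain ⟨⟨R₀, ξ₀, h₀⟩⟩ := Groth.Agent.ArtFunLib.hasHull_of_versal h0 h2 hc ⟨R, ξ, hξ.1⟩
  obtain ⟨g, hg, hgu⟩ := Groth.Agent.ArtFunLib.exists_along h₀.1 h0 ξ.toFormalElt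
  have hgs : Function.Surjective g := hξ.2 R₀ ξ₀.toFormalElt g hg
    ((Groth.Agent.ArtFunLib.push_along ξ₀ (AlgHom.id Λ _) (AlgHom.comp_id _) g hg).trans hgu)
  have e := Groth.Agent.ArtFunLib.family_ext hgu
  refine ⟨hξ.1, fun a b h => ?_, Groth.Agent.ArtFunLib.versal_surjective hξ.1 h0 _⟩
  rw [← e] at h
  have h' := h₀.2.1 h
  refine Groth.Agent.ArtFunLib.homSet_ext fun r => ?_
  obtain ⟨s, rfl⟩ := hgs r
  exact congrArg (fun χ : ArtFun.HomSet R₀.carrier R₀.res (ArtFun.Art.dual Λ k) => χ.1 s) h'

end Groth.Agent.S12749
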