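import Groth.Statements.S1275
import Groth.Agent.Lib.AdmOpen4.Open

set_option autoImplicit false
universe u
open FlatMor

namespace Groth.Agent.S1275

open AlgebraicGeometry CategoryTheory Limits in
/-- Let S be a quasi-compact quasi-separated scheme, U ⊆ W ⊆ S quasi-compact opens, f : X → W a proper
morphism and s : U → X a morphism with f ∘ s the inclusion of U in W. Then there are a U-admissible
blow-up b : S' → S and a morphism s' : b⁻¹(W) → X with f ∘ s' equal to the restriction of b,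
extending s in the sense that on b⁻¹(U) it agrees with s composed with the restriction of b. -/
theorem result {X S : Scheme.{u}} [CompactSpace S] [QuasiSeparatedSpace S]
    (U W : S.Opens) (hUW : U ≤ W) (hU : IsCompact (U : Set S)) (hW : IsCompact (W : Set S))
    (f : X ⟶ (W : Scheme.{u})) [IsProper f] (s : (U : Scheme.{u}) ⟶ X) (hs : s ≫ f = S.homOfLE hUW) :
    ∃ (𝓘 : S.IdealSheafData) (S' : Scheme.{u}) (b : S' ⟶ S), BlowUp.IsBlowUp b 𝓘 ∧ BlowUp.IsAdmissibleFor U 𝓘 ∧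
      ∃ s' : ((b ⁻¹ᵁ W : S'.Opens) : Scheme.{u}) ⟶ X, s' ≫ f = b ∣_ W ∧
        S'.homOfLE (show b ⁻¹ᵁ U ≤ b ⁻¹ᵁ W from fun _ hx => hUW hx) ≫ s' = (b ∣_ U) ≫ s := by
  haveI : CompactSpace W.toScheme := isCompact_iff_compactSpace.1 hW
  haveI : QuasiSeparatedSpace W.toScheme :=
    W.ι.isOpenEmbedding.quasiSeparatedSpace
  let U' := W.ι ⁻¹ᵁ U
  have hU' : IsCompact (U' : Set W.toScheme) := by
    rw [W.ι.isOpenEmbedding.isEmbedding.isCompact_iff]
    show IsCompact (W.ι '' (W.ι ⁻¹' (U : Set S)))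
    rw [Set.image_preimage_eq_inter_range, Scheme.Opens.range_ι,
      Set.inter_eq_left.2 (show (U : Set S) ⊆ W from hUW)]
    exact hU
  haveI : QuasiCompact U'.ι := by
    refine ⟨fun Z hZ hc => ?_⟩
    rw [U'.ι.isOpenEmbedding.isEmbedding.isCompact_iff, Set.image_preimage_eq_inter_range, Scheme.Opens.range_ι]
    exact QuasiSeparatedSpace.inter_isCompact Z (U' : Set W.toScheme) hZ hc U'.2 hU'
  let e : (U' : Scheme.{u}) ⟶ (U : Scheme.{u}) := W.ι ∣_ U
  have he : e ≫ S.homOfLE hUW = U'.ι := by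
    rw [← cancel_mono W.ι, Category.assoc, Scheme.homOfLE_ι]; exact morphismRestrict_ι _ _
  haveI : IsIso e := by
    have : Epi e.base := by
      rw [TopCat.epi_iff_surjective]
      rintro ⟨x, hx⟩
      refine ⟨⟨⟨x, hUW hx⟩, hx⟩, U.ι.isOpenEmbedding.injective ?_⟩
      rw [← Scheme.Hom.comp_apply, morphismRestrict_ι]
      rfl
    exact IsOpenImmersion.isIso e
  let σ : (U' : Scheme.{u}) ⟶ X := e ≫ s
  have hσ : σ ≫ f = U'.ι := by rw [Category.assoc, hs, he]
  haveI : QuasiCompact σ := by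
    haveI : QuasiCompact (σ ≫ f) := by rw [hσ]; infer_instance
    exact QuasiCompact.of_comp σ f
  let f₀ := σ.imageι ≫ f
  haveI := EffCartier.dominant_toImage σ
  have hσ₀ : σ.toImage ≫ f₀ = U'.ι := by rw [Scheme.Hom.toImage_imageι_assoc, hσ]
  haveI := AdmOpen4.isIso_restrict_of_section U' f₀ σ.toImage hσ₀
  obtain ⟨K, hK, hsupp, H⟩ := AdmOpen4.exists_center f₀ U' hU'
  obtain ⟨I, hI, hIK⟩ := AdmOpen4.exists_isAdmissible_comap U W hUW hW K hK
  let b := BlowUpExist.ChartIdx.blowUpHom I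
  have hb : BlowUp.IsBlowUp b I := BlowUpExist.ChartIdx.isBlowUp_blowUpHom
  refine ⟨I, _, b, hb, hI, ?_⟩
  have hKb : BlowUp.IsEffCartierIdeal (K.comap (b ∣_ W)) := by
    rw [← hIK]; exact (BlowUpExist.isBlowUp_restrict hb W).1
  obtain ⟨T, a, sT, hS⟩ := AdmOpen4.exists_isStrict_of_eff f₀ (b ∣_ W) hsupp hKb
  haveI := H _ a sT hS hKb
  haveI := AdmOpen4.isIso_of_proper hS (AdmOpen4.dense_preimage hsupp hKb)
  refine ⟨inv sT ≫ a ≫ σ.imageι, ?_, ?_⟩
  · simp only [Category.assoc]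
    show inv sT ≫ a ≫ f₀ = b ∣_ W
    rw [hS.w, IsIso.inv_hom_id_assoc]
  · obtain ⟨h, ha, hh⟩ := hS.univ _ ((b ∣_ U) ≫ inv e ≫ σ.toImage) (Scheme.homOfLE _ (fun _ hx => hUW hx)) (by
      rw [Category.assoc, Category.assoc, hσ₀, ← cancel_mono W.ι]
      simp only [Category.assoc, morphismRestrict_ι, Scheme.homOfLE_ι_assoc]
      rw [← he]
      simp only [Category.assoc, IsIso.inv_hom_id_assoc, Scheme.homOfLE_ι, morphismRestrict_ι])
      (fun z => by
        show W.ι ((b ∣_ W) _) ∈ U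
        rw [← Scheme.Hom.comp_apply, morphismRestrict_ι, ← Scheme.Hom.comp_apply, Scheme.homOfLE_ι_assoc]
        exact z.2)
    rw [← hh, Category.assoc, IsIso.hom_inv_id_assoc, ← Category.assoc h, ha]
    simp only [Category.assoc, Scheme.Hom.toImage_imageι, σ, IsIso.inv_hom_id_assoc]

end Groth.Agent.S1275
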