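import Groth.Statements.S12750
import Groth.Agent.Lib.ArtFun.Essential

set_option autoImplicit false
universe u v
open CategoryTheory
open ArtFun ArtFun.Art

namespace Groth.Agent.S12750

/-- (1) ⇔ (3): let f : B → A be a morphism in the category of Artinian local Λ-algebras with residue
field k, and let q_B : B → B', q_A : A → A' be the quotients by m_Λ B + m_B² and m_Λ A + m_A² (m_Λ
the kernel of Λ → k), realised as surjective morphisms with these kernels, with f' : B' → A' the
induced morphism. Then f is an essential surjection — surjective, and every morphism g into B whose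
composite with f is surjective is itself surjective — if and only if f' is. (The intermediate
equivalence with the map B/m_B² → A/m_A² is the special case Λ-structure trivialised and follows by
applying this one twice.) -/
theorem result {Λ : Type u} {k : Type u} [CommRing Λ] [Field k] [Algebra Λ k]
    [IsNoetherianRing Λ] [Module.Finite Λ k]
    {A B A' B' : ArtFun.Art Λ k} (f : B ⟶ A)
    (qB : B ⟶ B') (hqB : Function.Surjective qB)
    (hkB : RingHom.ker qB.toAlgHom = Ideal.map (algebraMap Λ B) (RingHom.ker (algebraMap Λ k)) ⊔ IsLocalRing.maximalIdeal B ^ 2)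
    (qA : A ⟶ A') (hqA : Function.Surjective qA)
    (hkA : RingHom.ker qA.toAlgHom = Ideal.map (algebraMap Λ A) (RingHom.ker (algebraMap Λ k)) ⊔ IsLocalRing.maximalIdeal A ^ 2)
    (f' : B' ⟶ A') (hf' : qB ≫ f' = f ≫ qA) :
    (Function.Surjective f ∧ ∀ (C : ArtFun.Art Λ k) (g : C ⟶ B), Function.Surjective (g ≫ f) → Function.Surjective g) ↔ (Function.Surjective f' ∧ ∀ (C : ArtFun.Art Λ k) (g : C ⟶ B'), Function.Surjective (g ≫ f') → Function.Surjective g) := by
  have hqf : ∀ x, f' (qB x) = qA (f x) := fun x => Groth.Agent.ArtFunLib.congr_hom hf' x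
  have crit : ∀ {X Y Y' : ArtFun.Art Λ k} (q : Y ⟶ Y') (h : X ⟶ Y),
      RingHom.ker q.toAlgHom = Groth.Agent.ArtFunLib.relIdeal Y →
      Function.Surjective (h ≫ q) → Function.Surjective h := by
    intro X Y Y' q h hk hhq
    refine Groth.Agent.ArtFunLib.surjective_of_relIdeal h fun y hy => ?_
    obtain ⟨x, hx⟩ := hhq (q y)
    have hd : y - h x ∈ Groth.Agent.ArtFunLib.relIdeal Y := hk ▸ RingHom.mem_ker.2 (by
      change q (y - h x) = 0
      rw [map_sub, sub_eq_zero]
      exact hx.symm)
    have hxm : x ∈ IsLocalRing.maximalIdeal X := Groth.Agent.ArtFunLib.mem_of_map_mem (h ≫ q)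
      (show (h ≫ q) x ∈ _ by rw [hx]; exact Groth.Agent.ArtFunLib.map_mem q hy)
    rw [← sub_add_cancel y (h x)]
    exact add_mem (Ideal.mem_sup_left hd) (Ideal.mem_sup_right (Ideal.mem_map_of_mem _ hxm))
  constructor
  · rintro ⟨hs, he⟩
    have hs' : Function.Surjective f' := fun y => by
      obtain ⟨a, rfl⟩ := hqA y
      obtain ⟨b, rfl⟩ := hs a
      exact ⟨qB b, hqf b⟩
    refine ⟨hs', fun C g hg => ?_⟩
    obtain ⟨C', p₁, p₂, hC⟩ := Groth.Agent.ArtFunLib.exists_isFibreProd g qB hqB
    have hp1 : Function.Surjective p₁ := Groth.Agent.ArtFunLib.surjective_fst hC hqB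
    have h1 : Function.Surjective (p₂ ≫ f) := by
      refine crit qA _ hkA fun y => ?_
      obtain ⟨c, hc⟩ := hg y
      obtain ⟨c', rfl⟩ := hp1 c
      refine ⟨c', ?_⟩
      change qA (f (p₂ c')) = _
      rw [← hqf, ← hC.w_apply]
      exact hc
    have h2 := he C' p₂ h1
    intro y
    obtain ⟨b, rfl⟩ := hqB y
    obtain ⟨c', rfl⟩ := h2 b
    exact ⟨p₁ c', hC.w_apply c'⟩
  · rintro ⟨hs', he'⟩
    have hs : Function.Surjective f := crit qA f hkA (fun y => by
      obtain ⟨b', rfl⟩ := hs' y
      obtain ⟨b, rfl⟩ := hqB b'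
      exact ⟨b, (hqf b).symm⟩)
    refine ⟨hs, fun C g hg => crit qB g hkB (he' C (g ≫ qB) fun y => ?_)⟩
    obtain ⟨a, rfl⟩ := hqA y
    obtain ⟨c, rfl⟩ := hg a
    exact ⟨c, hqf (g c)⟩

end Groth.Agent.S12750
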