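import Groth.Statements.S12751
import Groth.Agent.Lib.ArtFun.Essential

set_option autoImplicit false
universe u v
open CategoryTheory
open scoped TensorProduct
open ArtFun ArtFun.Art

namespace Groth.Agent.S12751

/-- A morphism f : B → A in the category of Artinian local Λ-algebras with residue field k is surjective
if and only if Ω_{B/Λ} ⊗_B k → Ω_{A/Λ} ⊗_A k is surjective; by right exactness of the sequence
Ω_{B/Λ} ⊗_B A → Ω_{A/Λ} → Ω_{A/B} → 0 this surjectivity is the vanishing of Ω_{A/B} ⊗_A k, which is
how it is written here (A a B-algebra through f, k an A-module through the augmentation). -/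
theorem result {Λ : Type u} {k : Type u} [CommRing Λ] [Field k] [Algebra Λ k]
    [IsNoetherianRing Λ] [Module.Finite Λ k]
    {A B : ArtFun.Art Λ k} (f : B ⟶ A) :
    letI : Algebra B A := f.toAlgHom.toRingHom.toAlgebra
    letI : Algebra A k := A.res.toRingHom.toAlgebra
    Function.Surjective f ↔ Subsingleton (k ⊗[A] Ω[A⁄B]) := by
  letI : Algebra B A := f.toAlgHom.toRingHom.toAlgebra
  letI : Algebra A k := A.res.toRingHom.toAlgebra
  letI : Algebra B k := B.res.toRingHom.toAlgebra
  have hBA : IsScalarTower B A k := IsScalarTower.of_algebraMap_eq fun b => (ArtFun.Art.res_app f b).symm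
  constructor
  · intro h
    have : Subsingleton (Ω[A⁄B]) := KaehlerDifferential.subsingleton_of_surjective B A h
    exact ⟨fun x y => by
      have : ∀ z : k ⊗[A] Ω[A⁄B], z = 0 := fun z => by
        induction z with
        | zero => rfl
        | tmul c ω => rw [Subsingleton.elim ω 0, TensorProduct.tmul_zero]
        | add x y hx hy => rw [hx, hy, add_zero]
      rw [this x, this y]⟩
  · intro hsub
    refine Groth.Agent.ArtFunLib.surjective_of_hom_dual_injective f fun a b hab => ?_
    let a₀ : A →ₐ[Λ] DualNumber k := a.toAlgHom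
    let b₀ : A →ₐ[Λ] DualNumber k := b.toAlgHom
    have ha : ∀ r, TrivSqZeroExt.fst (a₀ r) = A.res r := fun r => ArtFun.Art.res_app a r
    have hb : ∀ r, TrivSqZeroExt.fst (b₀ r) = A.res r := fun r => ArtFun.Art.res_app b r
    let δ : A → k := fun r => TrivSqZeroExt.snd (a₀ r) - TrivSqZeroExt.snd (b₀ r)
    have hδB : ∀ r : B, δ (f r) = 0 := fun r => by
      change TrivSqZeroExt.snd (a₀ (f r)) - TrivSqZeroExt.snd (b₀ (f r)) = 0
      rw [show a₀ (f r) = b₀ (f r) from Groth.Agent.ArtFunLib.congr_hom hab r, sub_self]
    have hδm : ∀ r s, δ (r * s) = A.res r * δ s + A.res s * δ r := fun r s => by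
      simp only [δ, map_mul, TrivSqZeroExt.snd_mul, ha, hb, op_smul_eq_smul, smul_eq_mul]
      ring
    have hδa : ∀ r s, δ (r + s) = δ r + δ s := fun r s => by
      simp only [δ, map_add, TrivSqZeroExt.snd_add]
      ring
    let l : A →ₗ[B] k :=
      { toFun := δ
        map_add' := hδa
        map_smul' := fun c r => by
          rw [RingHom.id_apply, Algebra.smul_def (R := B) c r, Algebra.smul_def (R := B) c (δ r),
            show algebraMap B A c = f c from rfl, show algebraMap B k c = B.res c from rfl, hδm, hδB,
            ArtFun.Art.res_app, mul_zero, add_zero] }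
    let D : Derivation B A k := Derivation.mk' l fun r s => by
      change δ (r * s) = r • δ s + s • δ r
      rw [hδm, Algebra.smul_def (R := A) r (δ s), Algebra.smul_def (R := A) s (δ r)]
      rfl
    have hD : D = 0 := Derivation.ext fun r => by
      have h1 : D.liftKaehlerDifferential.liftBaseChange k ((1 : k) ⊗ₜ[A] KaehlerDifferential.D B A r) = D r := by
        rw [LinearMap.liftBaseChange_tmul, one_smul, Derivation.liftKaehlerDifferential_comp_D]
      rw [← h1, Subsingleton.elim ((1 : k) ⊗ₜ[A] KaehlerDifferential.D B A r) 0, map_zero]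
      rfl
    refine Groth.Agent.ArtFunLib.hom_ext' fun r =>
      TrivSqZeroExt.ext (R := k) (M := k) ((ha r).trans (hb r).symm) (sub_eq_zero.1 ?_)
    exact congrArg (fun E : Derivation B A k => E r) hD

end Groth.Agent.S12751
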