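import Groth.Statements.S12752
import Groth.Agent.Lib.ArtFun.Essential
import Groth.Agent.S12751

set_option autoImplicit false
universe u v
open CategoryTheory
open scoped TensorProduct
open ArtFun ArtFun.Art

namespace Groth.Agent.S12752

/-- (a) ⇔ (c): a morphism f : B → A in the category of Artinian local Λ-algebras with residue field k is
an essential surjection (surjective, and any morphism g into B with g followed by f surjective is
surjective) if and only if the map Ω_{B/Λ} ⊗_B k → Ω_{A/Λ} ⊗_A k is an isomorphism of k-vector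
spaces. These spaces are finite-dimensional, so the isomorphism condition is written as: the map is
surjective (that is, Ω_{A/B} ⊗_A k = 0) and the two spaces have equal dimension. -/
theorem result {Λ : Type u} {k : Type u} [CommRing Λ] [Field k] [Algebra Λ k]
    [IsNoetherianRing Λ] [Module.Finite Λ k]
    {A B : ArtFun.Art Λ k} (f : B ⟶ A) :
    letI : Algebra B A := f.toAlgHom.toRingHom.toAlgebra
    letI : Algebra A k := A.res.toRingHom.toAlgebra
    letI : Algebra B k := B.res.toRingHom.toAlgebra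
    (Function.Surjective f ∧ ∀ (C : ArtFun.Art Λ k) (g : C ⟶ B), Function.Surjective (g ≫ f) → Function.Surjective g) ↔
      (Subsingleton (k ⊗[A] Ω[A⁄B]) ∧
        Module.finrank k (k ⊗[B] Ω[B⁄Λ]) = Module.finrank k (k ⊗[A] Ω[A⁄Λ])) := by
  letI : Algebra B A := f.toAlgHom.toRingHom.toAlgebra
  letI : Algebra A k := A.res.toRingHom.toAlgebra
  letI : Algebra B k := B.res.toRingHom.toAlgebra
  have hA : ∀ a : A, algebraMap A k a = A.res a := fun _ => rfl
  have hB : ∀ b : B, algebraMap B k b = B.res b := fun _ => rfl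
  have hfinA : Module.Finite k (k ⊗[A] Ω[A⁄Λ]) := by
    have : IsNoetherian Λ A := (Groth.Agent.ArtFunLib.isArtinian_art A).2
    infer_instance
  have hfinB : Module.Finite k (k ⊗[B] Ω[B⁄Λ]) := by
    have : IsNoetherian Λ B := (Groth.Agent.ArtFunLib.isArtinian_art B).2
    infer_instance
  refine (Groth.Agent.ArtFunLib.isEss_iff f).trans ((and_congr_left' (Groth.Agent.S12751.result f)).trans
    (and_congr_right fun hsub => ?_))
  have hs : Function.Surjective f := (Groth.Agent.S12751.result f).2 hsub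
  choose ψ hψ using fun χ : (k ⊗[A] Ω[A⁄Λ]) →ₗ[k] k =>
    Groth.Agent.ArtFunLib.exists_functional B hB (f ≫ (Groth.Agent.ArtFunLib.exists_tangent A hA χ).choose)
  have hψ' : ∀ χ b, ψ χ ((1 : k) ⊗ₜ KaehlerDifferential.D Λ B b) =
      χ ((1 : k) ⊗ₜ KaehlerDifferential.D Λ A (f b)) := fun χ b =>
    (hψ χ b).trans ((Groth.Agent.ArtFunLib.exists_tangent A hA χ).choose_spec (f b))
  let L : Module.Dual k (k ⊗[A] Ω[A⁄Λ]) →ₗ[k] Module.Dual k (k ⊗[B] Ω[B⁄Λ]) :=
    { toFun := ψ
      map_add' := fun χ χ' => Groth.Agent.ArtFunLib.kaehler_functional_ext B hB fun b => by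
        simp only [hψ', LinearMap.add_apply]
      map_smul' := fun c χ => Groth.Agent.ArtFunLib.kaehler_functional_ext B hB fun b => by
        simp only [hψ', RingHom.id_apply, LinearMap.smul_apply] }
  have hL : Function.Injective L := fun χ χ' h => Groth.Agent.ArtFunLib.kaehler_functional_ext A hA fun a => by
    obtain ⟨b, rfl⟩ := hs a
    rw [← hψ', ← hψ']
    exact congrArg (fun t : Module.Dual k (k ⊗[B] Ω[B⁄Λ]) => t ((1 : k) ⊗ₜ KaehlerDifferential.D Λ B b)) h
  rw [← Subspace.dual_finrank_eq (V := k ⊗[B] Ω[B⁄Λ]), ← Subspace.dual_finrank_eq (V := k ⊗[A] Ω[A⁄Λ])]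
  constructor
  · intro ht
    refine (LinearMap.finrank_le_finrank_of_injective hL).antisymm' ?_
    refine (LinearMap.finrank_range_of_inj hL).symm ▸ ?_
    rw [← finrank_top k (Module.Dual k (k ⊗[B] Ω[B⁄Λ]))]
    refine Submodule.finrank_mono fun χ _ => ?_
    obtain ⟨d, hd⟩ := Groth.Agent.ArtFunLib.exists_tangent B hB χ
    obtain ⟨χ', hχ'⟩ := Groth.Agent.ArtFunLib.exists_functional A hA
      (Groth.Agent.ArtFunLib.descHom f hs d (ht d))
    refine ⟨χ', Groth.Agent.ArtFunLib.kaehler_functional_ext B hB fun b => ?_⟩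
    change ψ χ' _ = _
    rw [hψ', hχ', Groth.Agent.ArtFunLib.descHom_apply, hd]
  · intro hdim d x hx
    have hLs : Function.Surjective L :=
      (LinearMap.injective_iff_surjective_of_finrank_eq_finrank hdim.symm).1 hL
    obtain ⟨χ, hχ⟩ := Groth.Agent.ArtFunLib.exists_functional B hB d
    obtain ⟨χ', hχ'⟩ := hLs χ
    refine RingHom.mem_ker.2 (TrivSqZeroExt.ext (R := k) (M := k) ?_ ?_)
    · exact (ArtFun.Art.res_app d x).trans ((B.mem_maximalIdeal_iff x).1 (Groth.Agent.ArtFunLib.ker_le f hx))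
    · have h1 := hψ' χ' x
      rw [show f x = 0 from hx, map_zero, TensorProduct.tmul_zero, map_zero] at h1
      exact (hχ x).symm.trans ((congrArg (fun t : Module.Dual k (k ⊗[B] Ω[B⁄Λ]) =>
        t ((1 : k) ⊗ₜ KaehlerDifferential.D Λ B x)) hχ').symm.trans h1)

end Groth.Agent.S12752
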