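import Groth.Statements.S12753
import Groth.Agent.Lib.ArtFun.Essential

set_option autoImplicit false
universe u v
open CategoryTheory
open ArtFun ArtFun.Art

namespace Groth.Agent.S12753

/-- Suppose k is separable over the image of Λ → k. A morphism f : B → A in the category of Artinian
local Λ-algebras with residue field k is an essential surjection (surjective, and any morphism g
into B with g followed by f surjective is surjective) if and only if the map of cotangent spaces
relative to Λ, m_B/(m_Λ B + m_B²) → m_A/(m_Λ A + m_A²), is an isomorphism; surjectivity and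
injectivity are written out in terms of ideals, m_Λ being the kernel of Λ → k. -/
theorem result {Λ : Type u} {k : Type u} [CommRing Λ] [Field k] [Algebra Λ k]
    [IsNoetherianRing Λ] [Module.Finite Λ k]
    [Algebra.IsSeparable (↥(algebraMap Λ k).range) k]
    {A B : ArtFun.Art Λ k} (f : B ⟶ A) :
    (Function.Surjective f ∧ ∀ (C : ArtFun.Art Λ k) (g : C ⟶ B), Function.Surjective (g ≫ f) → Function.Surjective g) ↔
      (Ideal.map (algebraMap Λ A) (RingHom.ker (algebraMap Λ k)) ⊔ Ideal.map f.toAlgHom (IsLocalRing.maximalIdeal B) ⊔ IsLocalRing.maximalIdeal A ^ 2 =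
          IsLocalRing.maximalIdeal A ∧
        ∀ b ∈ IsLocalRing.maximalIdeal B, f b ∈ Ideal.map (algebraMap Λ A) (RingHom.ker (algebraMap Λ k)) ⊔ IsLocalRing.maximalIdeal A ^ 2 →
          b ∈ Ideal.map (algebraMap Λ B) (RingHom.ker (algebraMap Λ k)) ⊔ IsLocalRing.maximalIdeal B ^ 2) := by
  refine (Groth.Agent.ArtFunLib.isEss_iff f).trans ?_
  constructor
  · rintro ⟨hs, ht⟩
    have hle := Groth.Agent.ArtFunLib.ker_le_relIdeal_of_separable ht
    have hmap : Ideal.map f.toAlgHom (IsLocalRing.maximalIdeal B) = IsLocalRing.maximalIdeal A :=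
      IsLocalRing.map_maximalIdeal_of_surjective (f.toAlgHom : (B : Type u) →+* A) hs
    refine ⟨le_antisymm (sup_le (sup_le ?_ hmap.le) (Ideal.pow_le_self two_ne_zero))
      (hmap.ge.trans (le_sup_right.trans le_sup_left)), fun b _ hfb => ?_⟩
    · exact le_sup_left.trans (Groth.Agent.ArtFunLib.relIdeal_le_max A)
    · have hfb' : f b ∈ (Groth.Agent.ArtFunLib.relIdeal B).map f.toAlgHom := by
        rw [Groth.Agent.ArtFunLib.map_relIdeal f hs]
        exact hfb
      obtain ⟨c, hc, hcb⟩ := (Ideal.mem_map_iff_of_surjective _ hs).1 hfb'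
      rw [← sub_add_cancel b c]
      refine add_mem (hle (RingHom.mem_ker.2 ?_)) hc
      rw [map_sub, hcb, sub_self]
  · rintro ⟨h1, h2⟩
    have hs : Function.Surjective f := Groth.Agent.ArtFunLib.surjective_of_relIdeal f
      (h1.ge.trans (sup_le (sup_le (le_sup_of_le_left le_sup_left) le_sup_right)
        (le_sup_of_le_left le_sup_right)))
    refine ⟨hs, fun d b hb => Groth.Agent.ArtFunLib.dual_kills_relIdeal d (h2 b ?_ ?_)⟩
    · exact Groth.Agent.ArtFunLib.ker_le f hb
    · rw [show f b = 0 from hb]
      exact zero_mem _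

end Groth.Agent.S12753
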