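import Groth.Statements.S12754
import Mathlib.RingTheory.Finiteness.Basic

set_option autoImplicit false
universe u
open CategoryTheory
open ArtFun

namespace Groth.Agent.S12754

open CategoryTheory TensorProduct in
/-- The comparison `L(K) ⊗ W → L(W)`. -/
noncomputable def cmpLin (K : Type u) [Field K]
    (L : FGModuleCat.{u} K ⥤ ModuleCat.{u} K) [L.Additive] [Functor.Linear K L] (W : FGModuleCat.{u} K) :
    ((L.obj (FGModuleCat.of K K) : ModuleCat.{u} K) : Type u) ⊗[K] W →ₗ[K] L.obj W :=
  TensorProduct.lift (LinearMap.mk₂ K
    (fun x w => (L.map (FGModuleCat.ofHom (LinearMap.toSpanSingleton K W w))).hom x)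
    (fun x y w => map_add _ x y) (fun c x w => map_smul _ c x)
    (fun x w w' => by
      rw [show FGModuleCat.ofHom (LinearMap.toSpanSingleton K W (w + w')) =
        FGModuleCat.ofHom (LinearMap.toSpanSingleton K W w) + FGModuleCat.ofHom (LinearMap.toSpanSingleton K W w') from
        ConcreteCategory.ext_apply fun a => smul_add a w w', L.map_add]
      rfl)
    (fun c x w => by
      rw [show FGModuleCat.ofHom (LinearMap.toSpanSingleton K W (c • w)) =
        c • FGModuleCat.ofHom (LinearMap.toSpanSingleton K W w) from
        ConcreteCategory.ext_apply fun a => smul_comm a c w, Functor.map_smul]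
      rfl))



/-- A K-linear functor L from finite-dimensional K-vector spaces to K-vector spaces (K a field) is
isomorphic to the functor V ↦ L(K) ⊗_K V. (Existence of an isomorphism of functors, which is how the
published statement reads; the natural choice sends x ⊗ v to L(f_v)(x) with f_v : K → V, 1 ↦ v.) -/
theorem result (K : Type u) [Field K]
    (L : FGModuleCat.{u} K ⥤ ModuleCat.{u} K) [L.Additive] [Functor.Linear K L] :
    Nonempty (L ≅ (ModuleCat.isFG.{u} K).ι ⋙ MonoidalCategory.tensorLeft (L.obj (FGModuleCat.of K K))) := by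
  refine ⟨(NatIso.ofComponents (fun W => (LinearEquiv.ofBijective (cmpLin K L W) ?_).toModuleIso) fun {V W} f => ?_).symm⟩
  · classical
    let b := Module.finBasis K W
    refine Function.bijective_iff_has_inverse.2 ⟨fun y => ∑ i, (L.map (FGModuleCat.ofHom (b.coord i))).hom y ⊗ₜ[K] b i,
      fun z => ?_, fun y => ?_⟩
    · dsimp only
      induction z with
      | zero => simp
      | add z z' hz hz' => simp only [map_add, TensorProduct.add_tmul, Finset.sum_add_distrib, hz, hz']
      | tmul x w =>
        have key : ∀ i, (L.map (FGModuleCat.ofHom (b.coord i))).hom (cmpLin K L W (x ⊗ₜ[K] w)) = b.coord i w • x := by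
          intro i
          change ((L.map (FGModuleCat.ofHom (LinearMap.toSpanSingleton K W w)) ≫ L.map (FGModuleCat.ofHom (b.coord i))).hom x) = _
          rw [← L.map_comp, show FGModuleCat.ofHom (LinearMap.toSpanSingleton K W w) ≫ FGModuleCat.ofHom (b.coord i) =
            b.coord i w • 𝟙 (FGModuleCat.of K K) from
            ConcreteCategory.ext_apply fun a => show b.coord i (a • w) = b.coord i w • a by
              rw [map_smul, smul_eq_mul, smul_eq_mul, mul_comm], Functor.map_smul, L.map_id]
          rfl
        simp_rw [key, TensorProduct.smul_tmul, ← TensorProduct.tmul_sum]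
        congr 1
        exact b.sum_repr w
    · dsimp only
      rw [map_sum]
      have key : ∀ i, cmpLin K L W ((L.map (FGModuleCat.ofHom (b.coord i))).hom y ⊗ₜ[K] b i) =
          (L.map (FGModuleCat.ofHom (b.coord i) ≫ FGModuleCat.ofHom (LinearMap.toSpanSingleton K W (b i)))).hom y := by
        intro i
        rw [L.map_comp]
        rfl
      simp_rw [key]
      rw [← LinearMap.sum_apply, ← ModuleCat.hom_sum, ← L.map_sum]
      rw [show ∑ i, (FGModuleCat.ofHom (b.coord i) ≫ FGModuleCat.ofHom (LinearMap.toSpanSingleton K W (b i))) = 𝟙 W from ?_, L.map_id]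
      · rfl
      · let Φ : (W ⟶ W) →+ (W →ₗ[K] W) := { toFun := fun f => f.hom.hom, map_zero' := rfl, map_add' := fun _ _ => rfl }
        refine ConcreteCategory.ext_apply fun a => ?_
        refine (LinearMap.congr_fun (map_sum Φ _ _) a).trans ((LinearMap.sum_apply _ _ _).trans ?_)
        exact b.sum_repr a
  · refine ModuleCat.hom_ext (TensorProduct.ext' fun x w => ?_)
    change cmpLin K L W (x ⊗ₜ[K] f.hom.hom w) = (L.map f).hom (cmpLin K L V (x ⊗ₜ[K] w))
    change (L.map (FGModuleCat.ofHom (LinearMap.toSpanSingleton K W (f.hom.hom w)))).hom x =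
      ((L.map (FGModuleCat.ofHom (LinearMap.toSpanSingleton K V w)) ≫ L.map f).hom x)
    rw [← L.map_comp, show FGModuleCat.ofHom (LinearMap.toSpanSingleton K V w) ≫ f =
      FGModuleCat.ofHom (LinearMap.toSpanSingleton K W (f.hom.hom w)) from
      ConcreteCategory.ext_apply fun (a : K) => map_smul f.hom.hom a w]

end Groth.Agent.S12754
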