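import Groth.Statements.S12755
import Groth.Agent.Lib.ArtFun.Cmp

set_option autoImplicit false
universe u v
open CategoryTheory
open ArtFun

namespace Groth.Agent.S12755

/-- For functors on Artinian local Λ-algebras with residue field k, the composite of two smooth
morphisms φ : F → G and ψ : G → H is smooth. -/
theorem result {Λ : Type u} {k : Type u} [CommRing Λ] [Field k] [Algebra Λ k]
    [IsNoetherianRing Λ] [Module.Finite Λ k]
    {F G H : ArtFun.Art Λ k ⥤ Type v} (φ : F ⟶ G) (ψ : G ⟶ H)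
    (hφ : ArtFun.IsSmooth φ) (hψ : ArtFun.IsSmooth ψ) : ArtFun.IsSmooth (φ ≫ ψ) := by
  exact (Groth.Agent.ArtFunLib.isSmooth_iff_lifts _).2 fun B A μ hμ =>
    Groth.Agent.ArtFunLib.lifts_comp (fun A z => φ.app A z) (fun A z => ψ.app A z) μ
      ((Groth.Agent.ArtFunLib.isSmooth_iff_lifts φ).1 hφ μ hμ)
      ((Groth.Agent.ArtFunLib.isSmooth_iff_lifts ψ).1 hψ μ hμ)

end Groth.Agent.S12755
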