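import Groth.Statements.S12756
import Groth.Agent.Lib.ArtFun.Cmp

set_option autoImplicit false
universe u v
open CategoryTheory
open ArtFun

namespace Groth.Agent.S12756

/-- For functors on Artinian local Λ-algebras with residue field k, if φ : F → G is surjective on every
object and ψ ∘ φ : F → H is smooth, then ψ : G → H is smooth. -/
theorem result {Λ : Type u} {k : Type u} [CommRing Λ] [Field k] [Algebra Λ k]
    [IsNoetherianRing Λ] [Module.Finite Λ k]
    {F G H : ArtFun.Art Λ k ⥤ Type v} (φ : F ⟶ G) (ψ : G ⟶ H)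
    (hφ : ∀ A : ArtFun.Art Λ k, Function.Surjective (φ.app A)) (h : ArtFun.IsSmooth (φ ≫ ψ)) :
    ArtFun.IsSmooth ψ := by
  exact (Groth.Agent.ArtFunLib.isSmooth_iff_lifts _).2 fun B A μ hμ =>
    Groth.Agent.ArtFunLib.lifts_of_comp_surjective (fun A z => φ.app A z) (fun A z => ψ.app A z)
      (Groth.Agent.ArtFunLib.natural_app φ) μ (hφ A)
      ((Groth.Agent.ArtFunLib.isSmooth_iff_lifts (φ ≫ ψ)).1 h μ hμ)

end Groth.Agent.S12756
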