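import Groth.Statements.S1276
import Mathlib.RingTheory.Support
import Mathlib.RingTheory.LocalRing.Module
import Mathlib.RingTheory.Flat.FaithfullyFlat.Basic
import Mathlib.RingTheory.FiniteType
import Mathlib.LinearAlgebra.TensorProduct.Tower

set_option autoImplicit false
universe u
open FlatMor

namespace Groth.Agent.S1276


open TensorProduct in
lemma nontrivial_field_tensor_iff {B : Type u} [CommRing B] (N : Type u) [AddCommGroup N] [Module B N]
    [Module.Finite B N] (K : Type u) [Field K] [Algebra B K] :
    Nontrivial (K ⊗[B] N) ↔ Module.annihilator B N ≤ RingHom.ker (algebraMap B K) := by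
  constructor
  · intro h a ha
    by_contra hne
    refine not_subsingleton (K ⊗[B] N) ⟨fun z w => ?_⟩
    suffices ∀ z : K ⊗[B] N, z = 0 by rw [this z, this w]
    intro z
    induction z using TensorProduct.induction_on with
    | zero => rfl
    | tmul c n =>
      have : c = a • (c * (algebraMap B K a)⁻¹) := by
        rw [Algebra.smul_def, mul_comm c, ← mul_assoc, mul_inv_cancel₀ hne, one_mul]
      rw [this, TensorProduct.smul_tmul, Module.mem_annihilator.1 ha n, TensorProduct.tmul_zero]
    | add x y hx hy => rw [hx, hy, add_zero]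
  · intro h
    obtain ⟨q, hq0⟩ : ∃ q : PrimeSpectrum B, q.asIdeal = RingHom.ker (algebraMap B K) :=
      ⟨⟨RingHom.ker (algebraMap B K), RingHom.ker_isPrime _⟩, rfl⟩
    have hq : q ∈ Module.support B N := by
      rw [Module.support_eq_zeroLocus]; exact fun a ha => hq0.ge (h ha)
    have : Nontrivial (q.asIdeal.ResidueField ⊗[B] N) :=
      Module.mem_support_iff_nontrivial_residueField_tensorProduct q |>.1 hq
    let φ := Ideal.ResidueField.lift q.asIdeal (algebraMap B K) hq0.le (fun x hx => isUnit_iff_ne_zero.2 (fun h => hx (hq0.ge h)))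
    letI := φ.toAlgebra
    have : IsScalarTower B q.asIdeal.ResidueField K := IsScalarTower.of_algebraMap_eq fun x =>
      (Ideal.ResidueField.lift_algebraMap ..).symm
    exact (TensorProduct.AlgebraTensorModule.cancelBaseChange B q.asIdeal.ResidueField K K N).nontrivial_congr.1
      inferInstance

attribute [local instance] Algebra.TensorProduct.rightAlgebra in
open TensorProduct in
lemma mem_support_fiber_iff {A B : Type u} [CommRing A] [CommRing B] [Algebra A B]
    (N : Type u) [AddCommGroup N] [Module B N] [Module.Finite B N] (p : Ideal A) [p.IsPrime]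
    (x : PrimeSpectrum (p.Fiber B)) :
    x ∈ Module.support (p.Fiber B) (p.Fiber B ⊗[B] N) ↔
      (Module.annihilator B N).map (algebraMap B (p.Fiber B)) ≤ x.asIdeal := by
  rw [Module.mem_support_iff_nontrivial_residueField_tensorProduct,
    (TensorProduct.AlgebraTensorModule.cancelBaseChange B (p.Fiber B) x.asIdeal.ResidueField x.asIdeal.ResidueField N).nontrivial_congr,
    nontrivial_field_tensor_iff, Ideal.map_le_iff_le_comap, IsScalarTower.algebraMap_eq B (p.Fiber B) x.asIdeal.ResidueField,
    ← RingHom.comap_ker, Ideal.ker_algebraMap_residueField]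

/-- Let B be a finite type A-algebra, N a finite B-module and p a prime of A. Then there is a finitely
generated ideal J of B annihilating N (so N is a module on the finitely presented closed subscheme
V(J) of Spec B) such that a point of the fibre Spec(κ(p) ⊗ B) lies in V(J) if and only if it lies in
the support of the fibre module of N. -/
theorem result {A B : Type u} [CommRing A] [CommRing B] [Algebra A B] [Algebra.FiniteType A B]
    (N : Type u) [AddCommGroup N] [Module B N] [Module A N] [IsScalarTower A B N] [Module.Finite B N] (p : Ideal A) [p.IsPrime] :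
    ∃ J : Ideal B, J.FG ∧ J ≤ Module.annihilator B N ∧
      ∀ x : PrimeSpectrum (p.Fiber B), FlatCA.fiberIdeal p J ≤ x.asIdeal ↔ x ∈ Module.support (p.Fiber B) (FlatCA.fiberMod p B N) := by
  letI : Algebra B (p.Fiber B) := Algebra.TensorProduct.rightAlgebra
  haveI : IsNoetherianRing (p.Fiber B) :=
    Algebra.FiniteType.isNoetherianRing p.ResidueField (p.Fiber B)
  obtain ⟨J, hJ, hle, he⟩ : ∃ J : Ideal B, J.FG ∧ J ≤ Module.annihilator B N ∧
      FlatCA.fiberIdeal p J = FlatCA.fiberIdeal p (Module.annihilator B N) := by
    classical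
    obtain ⟨s, hs, he⟩ := Submodule.fg_span_iff_fg_span_finset_subset (R := p.Fiber B)
      (Algebra.TensorProduct.includeRight (R := A) (A := p.ResidueField) (B := B) '' (Module.annihilator B N : Set B)) |>.1
      (IsNoetherian.noetherian _)
    obtain ⟨t, ht, rfl⟩ := Finset.subset_set_image_iff.1 hs
    refine ⟨Ideal.span ↑t, ⟨t, rfl⟩, Ideal.span_le.2 ht, ?_⟩
    rw [FlatCA.fiberIdeal, FlatCA.fiberIdeal, Ideal.map_span]
    exact (Eq.trans (by rw [Finset.coe_image]; rfl) he.symm)
  exact ⟨J, hJ, hle, fun x => by rw [he]; exact (mem_support_fiber_iff N p x).symm⟩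

end Groth.Agent.S1276
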