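import Groth.Statements.S12761
import Groth.Agent.Lib.StAlg16.Setoid

set_option autoImplicit false
open CategoryTheory AlgebraicGeometry
universe u
open AlgSt

namespace Groth.Agent.S12761
set_option linter.style.haveILetI false
set_option backward.isDefEq.respectTransparency false
set_option backward.isDefEq.respectTransparency.types false


/-- (1) ⇔ (3): an algebraic stack `𝒳` over `S` is a stack in setoids (its fibre categories are setoids)
if and only if it is representable by an algebraic space. -/
theorem result {S : Scheme.{u}} {𝒳 : AlgSt.Cat S}
    (h𝒳 : AlgSt.IsAlgStack Scheme.fppfPrecoverage 𝒳) :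
    FibCat.IsFibSetoid 𝒳.p ↔ AlgSt.RepByAlgSp 𝒳 := by
  exact StAlg16.isFibSetoid_iff_rep h𝒳

end Groth.Agent.S12761
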