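import Groth.Statements.S1277
import Mathlib.RingTheory.TensorProduct.Nontrivial

set_option autoImplicit false
universe u
open FlatMor

set_option backward.isDefEq.respectTransparency.types false

open TensorProduct

namespace Groth.Agent.S1277


open TensorProduct in
/-- Flatness over a base is unchanged by a faithfully flat base change. -/
theorem flat_iff_of_faithfullyFlat {R S T : Type u} [CommRing R] [CommRing S] [CommRing T] [Algebra R S] [Algebra S T]
    [Algebra R T] [IsScalarTower R S T] [Module.FaithfullyFlat S T]
    {M : Type u} [AddCommGroup M] [Module R M] [Module S M] [IsScalarTower R S M]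
    {N : Type u} [AddCommGroup N] [Module R N] [Module S N] [Module T N] [IsScalarTower S T N] [IsScalarTower R T N]
    (ψ : M →ₗ[S] N) (hψ : IsBaseChange T ψ) : Module.Flat R N ↔ Module.Flat R M := by
  let e : T ⊗[S] M ≃ₗ[R] N := hψ.equiv.restrictScalars R
  have h0 : Module.Flat R N ↔ Module.Flat R (T ⊗[S] M) :=
    ⟨fun _ => Module.Flat.of_linearEquiv e, fun _ => Module.Flat.of_linearEquiv e.symm⟩
  rw [h0, Module.Flat.iff_lTensor_preserves_injective_linearMap' (M := T ⊗[S] M),
    Module.Flat.iff_lTensor_preserves_injective_linearMap' (M := M)]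
  have key : ∀ (P P' : Type u) [AddCommGroup P] [AddCommGroup P'] [Module R P] [Module R P'] (f : P →ₗ[R] P'),
      Function.Injective (f.lTensor (T ⊗[S] M)) ↔ Function.Injective (f.lTensor M) := by
    intro P P' _ _ _ _ f
    let g : M ⊗[R] P →ₗ[S] M ⊗[R] P' := AlgebraTensorModule.lTensor S M f
    let a := AlgebraTensorModule.assoc R S T T M P
    let a' := AlgebraTensorModule.assoc R S T T M P'
    have hc : ∀ z, a' (f.lTensor (T ⊗[S] M) z) = g.lTensor T (a z) := by
      intro z
      induction z using TensorProduct.induction_on with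
      | zero => simp
      | tmul x p =>
        induction x using TensorProduct.induction_on with
        | zero => simp
        | tmul t m => simp [a, a', g]
        | add x y hx hy => simp only [TensorProduct.add_tmul, map_add, hx, hy]
      | add x y hx hy => simp only [map_add, hx, hy]
    rw [← Function.Injective.of_comp_iff a'.injective, show ⇑a' ∘ ⇑(f.lTensor (T ⊗[S] M)) = ⇑(g.lTensor T) ∘ ⇑a from funext hc,
      Function.Injective.of_comp_iff' _ a.bijective, Module.FaithfullyFlat.lTensor_injective_iff_injective S T g]
    rfl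
  exact ⟨fun h P P' _ _ _ _ f hf => (key P P' f).1 (h f hf), fun h P P' _ _ _ _ f hf => (key P P' f).2 (h f hf)⟩

/-- Flatness at a prime is unchanged by a flat base change. -/
theorem flatAt_iff_of_flat {A B C : Type u} [CommRing A] [CommRing B] [CommRing C] [Algebra A B] [Algebra B C]
    [Algebra A C] [IsScalarTower A B C] [Module.Flat B C]
    {M : Type u} [AddCommGroup M] [Module B M] [Module A M] [IsScalarTower A B M]
    {N : Type u} [AddCommGroup N] [Module C N] [Module B N] [IsScalarTower B C N] [Module A N] [IsScalarTower A C N]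
    (φ : M →ₗ[B] N) (hφ : IsBaseChange C φ) (q : Ideal B) [q.IsPrime] (Q : Ideal C) [Q.IsPrime]
    (hQ : Q.comap (algebraMap B C) = q) : FlatCA.FlatAt A Q N ↔ FlatCA.FlatAt A q M := by
  let Bq := Localization.AtPrime q
  let CQ := Localization.AtPrime Q
  letI : Algebra Bq CQ := (Localization.localRingHom q Q (algebraMap B C) hQ.symm).toAlgebra
  haveI : IsScalarTower B Bq CQ := IsScalarTower.of_algebraMap_eq fun b => by
    rw [RingHom.algebraMap_toAlgebra, Localization.localRingHom_to_map, ← IsScalarTower.algebraMap_apply]
  haveI : IsScalarTower A Bq CQ := IsScalarTower.of_algebraMap_eq fun a => by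
    rw [IsScalarTower.algebraMap_apply A B CQ, IsScalarTower.algebraMap_apply B Bq CQ, ← IsScalarTower.algebraMap_apply A B Bq]
  haveI : IsLocalHom (algebraMap Bq CQ) := by
    rw [RingHom.algebraMap_toAlgebra]
    infer_instance
  haveI : Module.Flat C CQ := IsLocalization.flat CQ Q.primeCompl
  haveI : Module.Flat B CQ := Module.Flat.trans B C CQ
  haveI : Module.Flat Bq CQ := (Module.flat_iff_of_isLocalization Bq q.primeCompl CQ).2 inferInstance
  haveI : Module.FaithfullyFlat Bq CQ := Module.FaithfullyFlat.of_flat_of_isLocalHom
  let Mq := LocalizedModule q.primeCompl M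
  let NQ := LocalizedModule Q.primeCompl N
  letI : Module Bq NQ := Module.compHom NQ (algebraMap Bq CQ)
  haveI : IsScalarTower Bq CQ NQ := IsScalarTower.of_algebraMap_smul fun _ _ => rfl
  haveI : IsScalarTower B Bq NQ := IsScalarTower.of_algebraMap_smul fun b x => by
    show algebraMap Bq CQ (algebraMap B Bq b) • x = b • x
    rw [← IsScalarTower.algebraMap_apply, algebraMap_smul]
  haveI : IsScalarTower A Bq NQ := IsScalarTower.of_algebraMap_smul fun a x => by
    show algebraMap Bq CQ (algebraMap A Bq a) • x = a • x
    rw [← IsScalarTower.algebraMap_apply, algebraMap_smul]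
  let lM := LocalizedModule.mkLinearMap q.primeCompl M
  let lN := LocalizedModule.mkLinearMap Q.primeCompl N
  have hlM : IsBaseChange Bq lM := IsLocalizedModule.isBaseChange q.primeCompl Bq lM
  have hlN : IsBaseChange CQ lN := IsLocalizedModule.isBaseChange Q.primeCompl CQ lN
  have hMN : IsBaseChange CQ ((lN.restrictScalars B).comp φ) := IsBaseChange.comp hφ hlN
  let h : Mq →ₗ[Bq] NQ := hlM.lift ((lN.restrictScalars B).comp φ)
  have hh : (h.restrictScalars B).comp lM = (lN.restrictScalars B).comp φ := hlM.lift_comp _
  have hψ : IsBaseChange CQ h := IsBaseChange.of_comp hlM (by rw [hh]; exact hMN)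
  exact flat_iff_of_faithfullyFlat h hψ
/-- Two field extensions of a field map to a common nonzero ring. -/
theorem exists_amalgam {k K L : Type u} [Field k] [Field K] [Field L] (f : k →+* K) (g : k →+* L) :
    ∃ (T : Type u) (_ : CommRing T) (a : K →+* T) (b : L →+* T), Nontrivial T ∧ a.comp f = b.comp g := by
  letI := f.toAlgebra
  letI := g.toAlgebra
  refine ⟨TensorProduct k K L, inferInstance, Algebra.TensorProduct.includeLeftRingHom,
    (Algebra.TensorProduct.includeRight (R := k) (A := K) (B := L)).toRingHom,
    Algebra.TensorProduct.nontrivial_of_algebraMap_injective_of_isDomain k K L f.injective g.injective, ?_⟩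
  refine RingHom.ext fun c => ?_
  show (f c) ⊗ₜ[k] (1 : L) = (1 : K) ⊗ₜ[k] g c
  rw [← mul_one (f c), ← mul_one (g c)]
  exact TensorProduct.smul_tmul (R := k) c (1 : K) (1 : L)


open IsLocalRing in
/-- Let A be a local ring, A → B a local homomorphism of local rings, B → C a flat local homomorphism of
local rings, M a B-module and N = M ⊗_B C. For every local homomorphism of local rings A → A', with
base changes B' = B ⊗_A A', M', C' = C ⊗_A A', N' (any models): M' is flat over A' at every prime of
B' containing 𝔪_{A'}B' + 𝔪_B B' if and only if N' is flat over A' at every prime of C' containing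
𝔪_{A'}C' + 𝔪_C C'. -/
theorem result {A B C : Type u} [CommRing A] [IsLocalRing A] [CommRing B] [IsLocalRing B] [CommRing C] [IsLocalRing C]
    [Algebra A B] [IsLocalHom (algebraMap A B)] [Algebra B C] [IsLocalHom (algebraMap B C)] [Algebra A C] [IsScalarTower A B C] [Module.Flat B C]
    (M : Type u) [AddCommGroup M] [Module B M] (N : Type u) [AddCommGroup N] [Module C N] [Module B N] [IsScalarTower B C N]
    (g : M →ₗ[B] N) (hg : IsBaseChange C g)
    (A' : Type u) [CommRing A'] [IsLocalRing A'] [Algebra A A'] [IsLocalHom (algebraMap A A')]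
    (B' M' : Type u) [CommRing B'] [Algebra B B'] [Algebra A' B'] [Algebra A B'] [IsScalarTower A B B'] [IsScalarTower A A' B']
        [Algebra.IsPushout A B A' B']
        [AddCommGroup M'] [Module B' M'] [Module B M'] [IsScalarTower B B' M'] [Module A' M'] [IsScalarTower A' B' M']
        (fB : M →ₗ[B] M') (hfB : IsBaseChange B' fB)
    (C' N' : Type u) [CommRing C'] [Algebra C C'] [Algebra A' C'] [Algebra A C'] [IsScalarTower A C C'] [IsScalarTower A A' C']
        [Algebra.IsPushout A C A' C']
        [AddCommGroup N'] [Module C' N'] [Module C N'] [IsScalarTower C C' N'] [Module A' N'] [IsScalarTower A' C' N']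
        (fC : N →ₗ[C] N') (hfC : IsBaseChange C' fC) :
    FlatCA.FlatAboveClosedPoints B A' B' M' ↔ FlatCA.FlatAboveClosedPoints C A' C' N' := by
  intros
  let uB : B →ₐ[A] C' := (IsScalarTower.toAlgHom A C C').comp (IsScalarTower.toAlgHom A B C)
  let uA : A' →ₐ[A] C' := IsScalarTower.toAlgHom A A' C'
  letI : Algebra B' C' := (Algebra.pushoutDesc (R := A) (S := B) (R' := A') B' uB uA
    (fun _ _ => mul_comm _ _)).toRingHom.toAlgebra
  letI : Algebra B C' := ((algebraMap C C').comp (algebraMap B C)).toAlgebra
  haveI : IsScalarTower B C C' := IsScalarTower.of_algebraMap_eq fun _ => rfl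
  haveI : IsScalarTower A B C' := IsScalarTower.of_algebraMap_eq fun a => by
    show algebraMap A C' a = algebraMap C C' (algebraMap B C (algebraMap A B a))
    rw [← IsScalarTower.algebraMap_apply A B C, ← IsScalarTower.algebraMap_apply A C C']
  haveI : IsScalarTower B B' C' := IsScalarTower.of_algebraMap_eq fun b => by
    rw [RingHom.algebraMap_toAlgebra, RingHom.algebraMap_toAlgebra]
    exact (Algebra.pushoutDesc_left (R := A) (S := B) (R' := A') (S' := B') uB uA (fun _ _ => mul_comm _ _) b).symm
  haveI : IsScalarTower A' B' C' := IsScalarTower.of_algebraMap_eq fun a => by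
    show algebraMap A' C' a = Algebra.pushoutDesc (R := A) (S := B) (R' := A') B' uB uA (fun _ _ => mul_comm _ _) (algebraMap A' B' a)
    exact (Algebra.pushoutDesc_right (R := A) (S := B) (R' := A') (S' := B') uB uA (fun _ _ => mul_comm _ _) a).symm
  haveI : IsScalarTower A B' C' := IsScalarTower.of_algebraMap_eq fun a => by
    rw [IsScalarTower.algebraMap_apply A A' B', ← IsScalarTower.algebraMap_apply A' B' C', ← IsScalarTower.algebraMap_apply A A' C']
  haveI hpo : Algebra.IsPushout B C B' C' :=
    (Algebra.IsPushout.comp_iff (R := A) (S := B) (T := C) (R' := A') (S' := B') (T' := C')).1 inferInstance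
  haveI : Module.Flat B' C' := Module.Flat.isBaseChange B B' C C' (Algebra.IsPushout.symm hpo).out
  letI : Module B N' := Module.compHom N' (algebraMap B C)
  haveI : IsScalarTower B C N' := IsScalarTower.of_algebraMap_smul fun _ _ => rfl
  letI : Module B' N' := Module.compHom N' (algebraMap B' C')
  haveI : IsScalarTower B' C' N' := IsScalarTower.of_algebraMap_smul fun _ _ => rfl
  haveI : IsScalarTower B C' N' := IsScalarTower.of_algebraMap_smul fun b x => by
    rw [IsScalarTower.algebraMap_apply B C C', algebraMap_smul, algebraMap_smul]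
  haveI : IsScalarTower B B' N' := IsScalarTower.of_algebraMap_smul fun b x => by
    show algebraMap B' C' (algebraMap B B' b) • x = b • x
    rw [← IsScalarTower.algebraMap_apply, algebraMap_smul]
  have hbig : IsBaseChange C' ((fC.restrictScalars B).comp g) := IsBaseChange.comp hg hfC
  let φ : M' →ₗ[B'] N' := hfB.lift ((fC.restrictScalars B).comp g)
  have hφ : IsBaseChange C' φ := IsBaseChange.of_comp hfB (by rw [hfB.lift_comp]; exact hbig)
  have hmB : (maximalIdeal B).map (algebraMap B C) ≤ maximalIdeal C :=
    ((IsLocalRing.local_hom_TFAE (algebraMap B C)).out 0 2).1 ‹IsLocalHom (algebraMap B C)›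
  constructor
  · intro hM Q _ hQ
    refine (flatAt_iff_of_flat φ hφ (Q.comap (algebraMap B' C')) Q rfl).2 (hM _ (sup_le ?_ ?_))
    · rw [← Ideal.map_le_iff_le_comap, Ideal.map_map, ← IsScalarTower.algebraMap_eq]
      exact le_sup_left.trans hQ
    · rw [← Ideal.map_le_iff_le_comap, Ideal.map_map, ← IsScalarTower.algebraMap_eq, IsScalarTower.algebraMap_eq B C C',
        ← Ideal.map_map]
      exact (Ideal.map_mono hmB).trans (le_sup_right.trans hQ)
  · intro hN q _ hq
    have hqB : q.comap (algebraMap B B') = maximalIdeal B :=
      ((maximalIdeal.isMaximal B).eq_of_le (Ideal.IsPrime.ne_top inferInstance)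
        (Ideal.map_le_iff_le_comap.1 (le_sup_right.trans hq))).symm
    let k := ResidueField B
    let kC := ResidueField C
    let kq := q.ResidueField
    let jC : k →+* kC := ResidueField.map (algebraMap B C)
    let jq : k →+* kq := Ideal.Quotient.lift (maximalIdeal B) ((algebraMap B' kq).comp (algebraMap B B'))
      fun b hb => by
        rw [RingHom.comp_apply, Ideal.algebraMap_residueField_eq_zero]
        rw [← hqB] at hb
        exact hb
    obtain ⟨T, iT, αC, αq, hT, hαβ⟩ := exists_amalgam jC jq
    obtain ⟨W, hW⟩ := Ideal.exists_maximal T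
    let iC : C →+* T := αC.comp (residue C)
    let iq : B' →+* T := αq.comp (algebraMap B' kq)
    have hcompat : ∀ b, iC (algebraMap B C b) = iq (algebraMap B B' b) := fun b =>
      RingHom.congr_fun hαβ (residue B b)
    letI : Algebra B T := (iC.comp (algebraMap B C)).toAlgebra
    let fC' : C →ₐ[B] T := { iC with commutes' := fun _ => rfl }
    let fq' : B' →ₐ[B] T := { iq with commutes' := fun b => (hcompat b).symm }
    let χ := Algebra.pushoutDesc (R := B) (S := C) (R' := B') C' fC' fq' (fun _ _ => mul_comm _ _)
    haveI := hW.isPrime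
    let Q := W.comap χ.toRingHom
    haveI : Q.IsPrime := Ideal.comap_isPrime _ _
    have hQq : Q.comap (algebraMap B' C') = q := by
      rw [Ideal.comap_comap, show χ.toRingHom.comp (algebraMap B' C') = iq from
        RingHom.ext fun x => Algebra.pushoutDesc_right (R := B) (S := C) (R' := B') (S' := C') fC' fq' (fun _ _ => mul_comm _ _) x]
      refine le_antisymm (fun x hx => ?_) fun x hx => ?_
      · by_contra hxq
        have hu : IsUnit (algebraMap B' kq x) := IsUnit.mk0 _ (mt Ideal.algebraMap_residueField_eq_zero.1 hxq)
        exact hW.ne_top (Ideal.eq_top_of_isUnit_mem _ hx (hu.map αq))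
      · show iq x ∈ W
        rw [show iq x = 0 by
          show αq (algebraMap B' kq x) = 0
          rw [Ideal.algebraMap_residueField_eq_zero.2 hx, map_zero]]
        exact W.zero_mem
    refine (flatAt_iff_of_flat φ hφ q Q hQq).1 (hN Q (sup_le ?_ ?_))
    · rw [IsScalarTower.algebraMap_eq A' B' C', ← Ideal.map_map, Ideal.map_le_iff_le_comap, hQq]
      exact le_sup_left.trans hq
    · rw [Ideal.map_le_iff_le_comap]
      intro c hc
      show χ (algebraMap C C' c) ∈ W
      erw [Algebra.pushoutDesc_left (R := B) (S := C) (R' := B') (S' := C') fC' fq' (fun _ _ => mul_comm _ _)]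
      show αC (residue C c) ∈ W
      rw [(residue_eq_zero_iff c).2 hc, map_zero]
      exact W.zero_mem

end Groth.Agent.S1277
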