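import Groth.Statements.S12775
import Groth.Agent.Lib.StAlg.Comp

set_option autoImplicit false
open CategoryTheory AlgebraicGeometry
universe u
open AlgSt

namespace Groth.Agent.S12775
set_option linter.style.haveILetI false
set_option backward.isDefEq.respectTransparency false
set_option backward.isDefEq.respectTransparency.types false


/-- If `𝒳` and `𝒴` are categories fibred in groupoids over `(Sch/S)` that are both representable by
algebraic spaces, then every 1-morphism `f : 𝒳 ⟶ 𝒴` is representable by algebraic spaces. -/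
theorem result {S : Scheme.{u}} {𝒳 𝒴 : AlgSt.Cat S}
    (h𝒳 : FibCat.IsFibGrpd 𝒳.p) (h𝒴 : FibCat.IsFibGrpd 𝒴.p)
    (hX : AlgSt.RepByAlgSp 𝒳) (hY : AlgSt.RepByAlgSp 𝒴) (f : 𝒳 ⥤ᵇ 𝒴) :
    AlgSt.RepByAlgSp1 f := by
  exact Groth.Agent.StAlg.rep1_of_rep hX hY f

end Groth.Agent.S12775
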