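import Groth.Statements.S1278
import Mathlib.RingTheory.Ideal.GoingUp

set_option autoImplicit false
universe u
open FlatMor

set_option backward.isDefEq.respectTransparency.types false

namespace Groth.Agent.S1278


open TensorProduct in
/-- Flatness at a prime in terms of elements of tensor products. -/
theorem flatAt_iff_elem {A B : Type u} [CommRing A] [CommRing B] [Algebra A B]
    (M : Type u) [AddCommGroup M] [Module B M] [Module A M] [IsScalarTower A B M] (q : Ideal B) [q.IsPrime] :
    FlatCA.FlatAt A q M ↔ ∀ ⦃P P' : Type u⦄ [AddCommGroup P] [AddCommGroup P'] [Module A P] [Module A P']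
      (f : P →ₗ[A] P'), Function.Injective f → ∀ z : M ⊗[A] P, f.lTensor M z = 0 → ∃ s : B, s ∉ q ∧ s • z = 0 := by
  let L := LocalizedModule q.primeCompl M
  let g := LocalizedModule.mkLinearMap q.primeCompl M
  have hcomm : ∀ {P P' : Type u} [AddCommGroup P] [AddCommGroup P'] [Module A P] [Module A P'] (f : P →ₗ[A] P') (z : M ⊗[A] P),
      f.lTensor L (AlgebraTensorModule.rTensor A P g z) = AlgebraTensorModule.rTensor A P' g (f.lTensor M z) := by
    intro P P' _ _ _ _ f z
    induction z using TensorProduct.induction_on with
    | zero => simp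
    | tmul m p => simp
    | add a b ha hb => simp only [map_add, ha, hb]
  show Module.Flat A L ↔ _
  constructor
  · intro hL P P' _ _ _ _ f hf z hz
    have h0 : AlgebraTensorModule.rTensor A P g z = 0 :=
      Module.Flat.lTensor_preserves_injective_linearMap (M := L) f hf (by rw [hcomm, hz, map_zero, map_zero])
    obtain ⟨s, hs⟩ := (IsLocalizedModule.eq_zero_iff q.primeCompl (AlgebraTensorModule.rTensor A P g)).1 h0
    exact ⟨s, s.2, hs⟩
  · intro h
    rw [Module.Flat.iff_lTensor_preserves_injective_linearMap']
    intro P P' _ _ _ _ f hf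
    refine (injective_iff_map_eq_zero _).2 fun z hz => ?_
    obtain ⟨⟨x, s⟩, hx⟩ := IsLocalizedModule.surj q.primeCompl (AlgebraTensorModule.rTensor A P g) z
    have h1 : AlgebraTensorModule.rTensor A P' g (f.lTensor M x) = 0 := by
      rw [← hcomm, ← hx]
      show (AlgebraTensorModule.lTensor B L f) ((s : B) • z) = 0
      rw [map_smul, show AlgebraTensorModule.lTensor B L f z = 0 from hz, smul_zero]
    obtain ⟨t, ht⟩ := (IsLocalizedModule.eq_zero_iff q.primeCompl (AlgebraTensorModule.rTensor A P' g)).1 h1
    obtain ⟨u, hu, hux⟩ := h f hf ((t : B) • x) (by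
      show (AlgebraTensorModule.lTensor B M f) ((t : B) • x) = 0
      rw [map_smul]
      exact ht)
    have h2 : ((u * t * s : B) • z) = 0 := by
      rw [mul_smul, show (s : B) • z = AlgebraTensorModule.rTensor A P g x from hx, mul_smul, ← map_smul, ← map_smul, hux, map_zero]
    exact IsLocalizedModule.smul_injective (S := q.primeCompl) (AlgebraTensorModule.rTensor A P g)
      ⟨u * t * s, mul_mem (mul_mem hu t.2) s.2⟩
      (show ((u * t * s : B) • z) = (u * t * s : B) • (0 : L ⊗[A] P) by rw [smul_zero, h2])

open TensorProduct in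
/-- Along an integral extension flatness at a prime is flatness at the primes over it. -/
theorem flatAt_iff_of_integral {A B C : Type u} [CommRing A] [CommRing B] [CommRing C] [Algebra A B] [Algebra B C]
    [Algebra A C] [IsScalarTower A B C] [Algebra.IsIntegral B C]
    (M : Type u) [AddCommGroup M] [Module C M] [Module B M] [IsScalarTower B C M] [Module A M]
    [IsScalarTower A B M] [IsScalarTower A C M] (q : Ideal B) [q.IsPrime] :
    FlatCA.FlatAt A q M ↔ ∀ (Q : Ideal C) [Q.IsPrime], Q.comap (algebraMap B C) = q → FlatCA.FlatAt A Q M := by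
  simp only [flatAt_iff_elem]
  constructor
  · intro h Q _ hQ P P' _ _ _ _ f hf z hz
    obtain ⟨s, hs, h0⟩ := h f hf z hz
    exact ⟨algebraMap B C s, fun h' => hs (hQ ▸ h'), by rw [algebraMap_smul, h0]⟩
  · intro h P P' _ _ _ _ f hf z hz
    by_contra hne
    push Not at hne
    let I : Ideal C := LinearMap.ker (LinearMap.toSpanSingleton C (M ⊗[A] P) z)
    have hI : I.comap (algebraMap B C) ≤ q := fun s hs => by
      by_contra hsq
      refine hne s hsq ?_
      rw [← algebraMap_smul C s z]
      exact hs
    obtain ⟨Q, hIQ, hQp, hQq⟩ := Ideal.exists_ideal_over_prime_of_isIntegral q I hI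
    obtain ⟨s, hs, h0⟩ := h Q hQq f hf z hz
    exact hs (hIQ h0)

/-- Flatness at a prime only depends on the module up to isomorphism. -/
theorem flatAt_congr {A B : Type u} [CommRing A] [CommRing B] [Algebra A B]
    {M N : Type u} [AddCommGroup M] [Module B M] [Module A M] [IsScalarTower A B M]
    [AddCommGroup N] [Module B N] [Module A N] [IsScalarTower A B N] (e : M ≃ₗ[B] N) (q : Ideal B) [q.IsPrime] :
    FlatCA.FlatAt A q M → FlatCA.FlatAt A q N := by
  intro h
  haveI : Module.Flat A (LocalizedModule q.primeCompl M) := h
  let g := LocalizedModule.mkLinearMap q.primeCompl N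
  haveI : IsLocalizedModule q.primeCompl (g ∘ₗ e.toLinearMap) := IsLocalizedModule.of_linearEquiv_right q.primeCompl g e
  exact Module.Flat.of_linearEquiv ((IsLocalizedModule.iso q.primeCompl (g ∘ₗ e.toLinearMap)).symm.restrictScalars A)


open IsLocalRing in
/-- Let A be a local ring and B → C a finite local homomorphism of local A-algebras (A → B local), and N
a C-module, viewed also as a B-module. For every local homomorphism of local rings A → A', with base
changes B', C' of B, C and base changes M' (of N over B') and N' (of N over C'): M' is flat over A'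
at every prime of B' containing 𝔪_{A'}B' + 𝔪_B B' if and only if N' is flat over A' at every prime
of C' containing 𝔪_{A'}C' + 𝔪_C C'. -/
theorem result {A B C : Type u} [CommRing A] [IsLocalRing A] [CommRing B] [IsLocalRing B] [CommRing C] [IsLocalRing C]
    [Algebra A B] [IsLocalHom (algebraMap A B)] [Algebra B C] [IsLocalHom (algebraMap B C)] [Algebra A C] [IsScalarTower A B C] [Module.Finite B C]
    (N : Type u) [AddCommGroup N] [Module C N] [Module B N] [IsScalarTower B C N]
    (A' : Type u) [CommRing A'] [IsLocalRing A'] [Algebra A A'] [IsLocalHom (algebraMap A A')]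
    (B' M' : Type u) [CommRing B'] [Algebra B B'] [Algebra A' B'] [Algebra A B'] [IsScalarTower A B B'] [IsScalarTower A A' B']
        [Algebra.IsPushout A B A' B']
        [AddCommGroup M'] [Module B' M'] [Module B M'] [IsScalarTower B B' M'] [Module A' M'] [IsScalarTower A' B' M']
        (fB : N →ₗ[B] M') (hfB : IsBaseChange B' fB)
    (C' N' : Type u) [CommRing C'] [Algebra C C'] [Algebra A' C'] [Algebra A C'] [IsScalarTower A C C'] [IsScalarTower A A' C']
        [Algebra.IsPushout A C A' C']
        [AddCommGroup N'] [Module C' N'] [Module C N'] [IsScalarTower C C' N'] [Module A' N'] [IsScalarTower A' C' N']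
        (fC : N →ₗ[C] N') (hfC : IsBaseChange C' fC) :
    FlatCA.FlatAboveClosedPoints B A' B' M' ↔ FlatCA.FlatAboveClosedPoints C A' C' N' := by
  intros
  let uB : B →ₐ[A] C' := (IsScalarTower.toAlgHom A C C').comp (IsScalarTower.toAlgHom A B C)
  let uA : A' →ₐ[A] C' := IsScalarTower.toAlgHom A A' C'
  letI : Algebra B' C' := (Algebra.pushoutDesc (R := A) (S := B) (R' := A') B' uB uA
    (fun _ _ => mul_comm _ _)).toRingHom.toAlgebra
  letI : Algebra B C' := ((algebraMap C C').comp (algebraMap B C)).toAlgebra
  haveI : IsScalarTower B C C' := IsScalarTower.of_algebraMap_eq fun _ => rfl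
  haveI : IsScalarTower A B C' := IsScalarTower.of_algebraMap_eq fun a => by
    show algebraMap A C' a = algebraMap C C' (algebraMap B C (algebraMap A B a))
    rw [← IsScalarTower.algebraMap_apply A B C, ← IsScalarTower.algebraMap_apply A C C']
  haveI : IsScalarTower B B' C' := IsScalarTower.of_algebraMap_eq fun b => by
    rw [RingHom.algebraMap_toAlgebra, RingHom.algebraMap_toAlgebra]
    exact (Algebra.pushoutDesc_left (R := A) (S := B) (R' := A') (S' := B') uB uA (fun _ _ => mul_comm _ _) b).symm
  haveI : IsScalarTower A' B' C' := IsScalarTower.of_algebraMap_eq fun a => by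
    show algebraMap A' C' a = Algebra.pushoutDesc (R := A) (S := B) (R' := A') B' uB uA (fun _ _ => mul_comm _ _) (algebraMap A' B' a)
    exact (Algebra.pushoutDesc_right (R := A) (S := B) (R' := A') (S' := B') uB uA (fun _ _ => mul_comm _ _) a).symm
  haveI : IsScalarTower A B' C' := IsScalarTower.of_algebraMap_eq fun a => by
    rw [IsScalarTower.algebraMap_apply A A' B', ← IsScalarTower.algebraMap_apply A' B' C', ← IsScalarTower.algebraMap_apply A A' C']
  haveI hpo : Algebra.IsPushout B C B' C' :=
    (Algebra.IsPushout.comp_iff (R := A) (S := B) (T := C) (R' := A') (S' := B') (T' := C')).1 inferInstance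
  haveI : Module.Finite B' C' := Module.Finite.equiv (Algebra.IsPushout.symm hpo).out.equiv
  haveI : Algebra.IsIntegral B' C' := Algebra.IsIntegral.of_finite B' C'
  letI : Module B N' := Module.compHom N' (algebraMap B C)
  haveI : IsScalarTower B C N' := IsScalarTower.of_algebraMap_smul fun _ _ => rfl
  letI : Module B' N' := Module.compHom N' (algebraMap B' C')
  haveI : IsScalarTower B' C' N' := IsScalarTower.of_algebraMap_smul fun _ _ => rfl
  haveI : IsScalarTower B C' N' := IsScalarTower.of_algebraMap_smul fun b x => by
    rw [IsScalarTower.algebraMap_apply B C C', algebraMap_smul, algebraMap_smul]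
  haveI : IsScalarTower B B' N' := IsScalarTower.of_algebraMap_smul fun b x => by
    show algebraMap B' C' (algebraMap B B' b) • x = b • x
    rw [← IsScalarTower.algebraMap_apply, algebraMap_smul]
  haveI : IsScalarTower A' B' N' := IsScalarTower.of_algebraMap_smul fun a x => by
    show algebraMap B' C' (algebraMap A' B' a) • x = a • x
    rw [← IsScalarTower.algebraMap_apply, algebraMap_smul]
  haveI : Algebra.IsPushout B B' C C' := Algebra.IsPushout.symm hpo
  let e : M' ≃ₗ[B'] N' := hfB.equiv.symm.trans
    ((Algebra.IsPushout.cancelBaseChange B B' C C' N).symm.trans (hfC.equiv.restrictScalars B'))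
  constructor
  · intro hM Q _ hQ
    have h1 := flatAt_congr e (Q.comap (algebraMap B' C')) (hM _ (sup_le ?_ ?_))
    · exact (flatAt_iff_of_integral N' _).1 h1 Q rfl
    · rw [← Ideal.map_le_iff_le_comap, Ideal.map_map, ← IsScalarTower.algebraMap_eq]
      exact le_sup_left.trans hQ
    · rw [← Ideal.map_le_iff_le_comap, Ideal.map_map, ← IsScalarTower.algebraMap_eq, IsScalarTower.algebraMap_eq B C C',
        ← Ideal.map_map]
      exact (Ideal.map_mono (((IsLocalRing.local_hom_TFAE (algebraMap B C)).out 0 2).1 ‹IsLocalHom (algebraMap B C)›)).trans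
        (le_sup_right.trans hQ)
  · intro hN q _ hq
    refine flatAt_congr e.symm q ((flatAt_iff_of_integral N' q).2 fun Q _ hQq => hN Q (sup_le ?_ ?_))
    · rw [IsScalarTower.algebraMap_eq A' B' C', ← Ideal.map_map, Ideal.map_le_iff_le_comap, hQq]
      exact le_sup_left.trans hq
    · rw [Ideal.map_le_iff_le_comap]
      have hqB : q.comap (algebraMap B B') = maximalIdeal B :=
        ((maximalIdeal.isMaximal B).eq_of_le (Ideal.IsPrime.ne_top inferInstance)
          (Ideal.map_le_iff_le_comap.1 (le_sup_right.trans hq))).symm
      have hP : (Q.comap (algebraMap C C')).comap (algebraMap B C) = maximalIdeal B := by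
        rw [Ideal.comap_comap, ← IsScalarTower.algebraMap_eq, IsScalarTower.algebraMap_eq B B' C', ← Ideal.comap_comap, hQq, hqB]
      haveI : Algebra.IsIntegral B C := Algebra.IsIntegral.of_finite B C
      haveI : ((Q.comap (algebraMap C C')).comap (algebraMap B C)).IsMaximal := hP ▸ maximalIdeal.isMaximal B
      exact (IsLocalRing.eq_maximalIdeal (Ideal.isMaximal_of_isIntegral_of_isMaximal_comap (R := B) (Q.comap (algebraMap C C')) inferInstance)).ge

end Groth.Agent.S1278
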