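import Groth.Statements.S12783
import Groth.Agent.Lib.FC16.Slices

set_option autoImplicit false
open CategoryTheory CategoryTheory.Limits
universe v u
open FibCat

namespace Groth.Agent.S12783
open CategoryTheory.Functor Groth.Agent.FC16
set_option linter.style.haveILetI false
set_option backward.isDefEq.respectTransparency false
set_option backward.isDefEq.respectTransparency.types false


/-- For a morphism `f : X ⟶ Y` in a category `C` with fibre products, the induced functor `C/X ⟶ C/Y`
over `C` is a representable 1-morphism. (The published statement is for schemes over a base; this
row holds in any category with fibre products.) -/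
theorem result {C : Type u} [Category.{v} C] [HasPullbacks C] {X Y : C} (f : X ⟶ Y) :
    FibCat.IsRepresentable1 (⟨Over.map f, Over.mapForget_eq f⟩ : FibCat.overCat X ⥤ᵇ FibCat.overCat Y) := by
  intro U G
  exact isRepresentable_fp_of_isRepresentable (isRepresentable_overCat U) (isRepresentable_overCat X)
    (isRepresentable_overCat Y) G _

end Groth.Agent.S12783
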