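import Groth.Statements.S12784
import Groth.Agent.Lib.FC16.Self

set_option autoImplicit false
open CategoryTheory CategoryTheory.Limits
universe v u
open FibCat

namespace Groth.Agent.S12784
open CategoryTheory.Functor Groth.Agent.FC16
set_option linter.style.haveILetI false
set_option backward.isDefEq.respectTransparency false
set_option backward.isDefEq.respectTransparency.types false


/-- Consider a 2-commutative square of functors over `C` with vertical arrows `f' : 𝒳' ⟶ 𝒴'`, `f : 𝒳 ⟶
𝒴` and horizontal arrows equivalences over `C`. Then `f` is a representable 1-morphism if and only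
if `f'` is. (The published statement is for categories fibred in groupoids over schemes over a base;
this row is stated for categories over any base category.) -/
theorem result {C : Type u} [Category.{v} C] {𝒳 𝒴 𝒳' 𝒴' : BasedCategory.{v, max u v} C}
    (f : 𝒳 ⥤ᵇ 𝒴) (f' : 𝒳' ⥤ᵇ 𝒴') (a : 𝒳' ⥤ᵇ 𝒳) (b : 𝒴' ⥤ᵇ 𝒴)
    (ha : FibCat.IsEquivOver a) (hb : FibCat.IsEquivOver b) (e : BasedFunctor.comp f' b ≅ BasedFunctor.comp a f) :
    FibCat.IsRepresentable1 f ↔ FibCat.IsRepresentable1 f' := by
  have := isEquivalence_of_isEquivOver hb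
  have h1 : ∀ (U : C) (G : FibCat.overCat U ⥤ᵇ 𝒴'), FibCat.IsRepresentable (FibCat.fp G f') ↔
      FibCat.IsRepresentable (FibCat.fp (BasedFunctor.comp G b) f) := fun U G => by
    rw [isRepresentable_fp_comp_target (F := G) (G := f') (s := b),
      isRepresentable_fp_iso (Iso.refl _) e, isRepresentable_fp_comp_right ha]
  refine ⟨fun h U G => (h1 U G).2 (h U _), fun h U G => ?_⟩
  obtain ⟨b', hb', -, ⟨j⟩⟩ := exists_inverse hb
  have := (h1 U (BasedFunctor.comp G b')).1 (h U _)
  exact (isRepresentable_fp_iso (F' := G) (isoWhiskerL G j) (Iso.refl f)).1 this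

end Groth.Agent.S12784
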