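import Groth.Statements.S12787
import Groth.Agent.Lib.StAlg.Rep

set_option autoImplicit false
open CategoryTheory AlgebraicGeometry
universe u
open AlgSt

namespace Groth.Agent.S12787
set_option linter.style.haveILetI false
set_option backward.isDefEq.respectTransparency false
set_option backward.isDefEq.respectTransparency.types false


/-- A category fibred in groupoids over `(Sch/S)` which is representable by an algebraic space is fibred
in setoids. -/
theorem result {S : Scheme.{u}} {𝒳 : AlgSt.Cat S}
    (h𝒳 : FibCat.IsFibGrpd 𝒳.p) (hr : AlgSt.RepByAlgSp 𝒳) :
    FibCat.IsFibSetoid 𝒳.p := by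
  exact Groth.Agent.StAlg.isFibSetoid_of_rep hr

end Groth.Agent.S12787
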