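import Groth.Statements.S12792
import Groth.Agent.Lib.FC16.Stack

set_option autoImplicit false
open CategoryTheory
universe w v u
open Stk

namespace Groth.Agent.S12792
open CategoryTheory.Functor Groth.Agent.FC16
set_option linter.style.haveILetI false
set_option backward.isDefEq.respectTransparency false
set_option backward.isDefEq.respectTransparency.types false


/-- For categories `𝒳`, `𝒴` over `C` that are stacks in groupoids for the topology `J`, a category `𝒮`
over `C` that is a prestack in groupoids for `J`, and functors `F : 𝒳 ⟶ 𝒮`, `G : 𝒴 ⟶ 𝒮` over `C`,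
the 2-fibre product `𝒳 ×_𝒮 𝒴` over `C` is a stack in groupoids for `J`. (The published statement
takes `𝒮` a stack in groupoids as well; its proof uses only that morphisms of `𝒮` glue uniquely,
which is the hypothesis made here.) -/
theorem result {C : Type u} [Category.{v} C] (J : GrothendieckTopology C) {𝒳 𝒴 𝒮 : BasedCategory.{v, max u v} C}
    (F : 𝒳 ⥤ᵇ 𝒮) (G : 𝒴 ⥤ᵇ 𝒮) (h𝒳 : Stk.IsStack J 𝒳) (h𝒴 : Stk.IsStack J 𝒴) (h𝒮 : Stk.IsPrestack J 𝒮) :
    Stk.IsStack J (FibCat.fp F G) := by
  exact Groth.Agent.FC16.isStack_fp J F G h𝒳 h𝒴 h𝒮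

end Groth.Agent.S12792
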