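import Groth.Statements.S12795
import Groth.Agent.Lib.FC16.LocalSurj

set_option autoImplicit false
open CategoryTheory
universe w v u
open Stk

namespace Groth.Agent.S12795
open CategoryTheory.Functor Groth.Agent.FC16
set_option linter.style.haveILetI false
set_option backward.isDefEq.respectTransparency false
set_option backward.isDefEq.respectTransparency.types false


/-- Let `𝒳` be a stack in groupoids over `C` for the topology `J` and `Q` a property of objects of `𝒳`
such that (1) for every morphism `y ⟶ x` of `𝒳` whose target satisfies `Q`, `y` is isomorphic, by an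
isomorphism lying over an identity, to an object satisfying `Q`, and (3) for every covering sieve
`R` on `U` and every object `x` over `U`: if every source of a morphism to `x` lying over an arrow
of `R` is isomorphic over an identity to an object satisfying `Q`, then so is `x`. Then the full
subcategory of `𝒳` on `Q`, with the restricted structure functor, is a stack in groupoids for `J`.
(The published statement has a further condition (2), fullness of the subcategory, which is built
into the full subcategory here; and its word isomorphic is read as isomorphic by an isomorphism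
lying over an identity; the published statement is for stacks that are not necessarily in groupoids,
this row treats stacks in groupoids.) -/
theorem result {C : Type u} [Category.{v} C] (J : GrothendieckTopology C) {𝒳 : BasedCategory.{v, max u v} C}
    (h𝒳 : Stk.IsStack J 𝒳) (Q : ObjectProperty 𝒳.obj)
    (h1 : ∀ ⦃y x : 𝒳.obj⦄ (φ : y ⟶ x), Q x → ∃ (y' : 𝒳.obj) (e : y ≅ y'), Q y' ∧ 𝒳.p.IsHomLift (𝟙 (𝒳.p.obj y)) e.hom)
    (h3 : ∀ ⦃U : C⦄ (R : Sieve U), R ∈ J U → ∀ (x : 𝒳.obj), 𝒳.p.obj x = U →
      (∀ ⦃V : C⦄ (f : V ⟶ U), R f → ∀ (y : 𝒳.obj) (φ : y ⟶ x), 𝒳.p.IsHomLift f φ →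
        ∃ (y' : 𝒳.obj) (e : y ≅ y'), Q y' ∧ 𝒳.p.IsHomLift (𝟙 V) e.hom) →
      ∃ (x' : 𝒳.obj) (e : x ≅ x'), Q x' ∧ 𝒳.p.IsHomLift (𝟙 U) e.hom) :
    Stk.IsStack J (BasedCategory.ofFunctor (Q.ι ⋙ 𝒳.p)) := by
  exact Groth.Agent.FC16.subCat_isStack J Q h𝒳 h1 h3

end Groth.Agent.S12795
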