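import Groth.Statements.S12798
import Groth.Agent.Lib.FC16.LocalSurj

set_option autoImplicit false
open CategoryTheory
universe w v u
open Stk

namespace Groth.Agent.S12798
open CategoryTheory.Functor Groth.Agent.FC16
set_option linter.style.haveILetI false
set_option backward.isDefEq.respectTransparency false
set_option backward.isDefEq.respectTransparency.types false


/-- Let `𝒮₁`, `𝒮₂`, `𝒯₁` be stacks in groupoids over `C` for the topology `J`, and `F : 𝒮₂ ⟶ 𝒮₁`, `G :
𝒯₁ ⟶ 𝒮₁` functors over `C` such that every object of `𝒮₁` is locally in the essential image of `F`.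
If the first projection `𝒮₂ ×_{𝒮₁} 𝒯₁ ⟶ 𝒮₂` of the 2-fibre product over `C` is faithful, then `G` is
faithful. (The published statement is for any 2-cartesian square of stacks in groupoids; this row is
the case of the explicit 2-fibre product, to which the general case reduces because faithfulness is
invariant under equivalence.) -/
theorem result {C : Type u} [Category.{v} C] (J : GrothendieckTopology C) {𝒮₁ 𝒮₂ 𝒯₁ : BasedCategory.{v, max u v} C}
    (h₁ : Stk.IsStack J 𝒮₁) (h₂ : Stk.IsStack J 𝒮₂) (h₃ : Stk.IsStack J 𝒯₁) (F : 𝒮₂ ⥤ᵇ 𝒮₁) (G : 𝒯₁ ⥤ᵇ 𝒮₁)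
    (hF : ∀ y : 𝒮₁.obj, ∃ R ∈ J (𝒮₁.p.obj y), ∀ ⦃V : C⦄ (f : V ⟶ 𝒮₁.p.obj y), R f →
      ∃ (x : 𝒮₂.obj) (φ : F.obj x ⟶ y), 𝒮₁.p.IsHomLift f φ)
    (hG' : (FibCat.fpFst F G).toFunctor.Faithful) : G.toFunctor.Faithful := by
  exact Groth.Agent.FC16.faithful_of_faithful_fpFst J F G h₁.1 (isPrestack_of_isStack J h₃) hF hG'

end Groth.Agent.S12798
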