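import Groth.Statements.S12800
import Groth.Agent.Lib.FC16.Fp
import Groth.Agent.Lib.FC16.Setoid

set_option autoImplicit false
open CategoryTheory
universe v u
open FibCat

namespace Groth.Agent.S12800
open CategoryTheory.Functor Groth.Agent.FC16
set_option linter.style.haveILetI false
set_option linter.unusedVariables false
set_option backward.isDefEq.respectTransparency false
set_option backward.isDefEq.respectTransparency.types false


/-- For categories `𝒮`, `𝒯` fibred in groupoids over `C`, a category `ℛ` fibred in setoids over `C`, a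
functor `f : 𝒯 ⟶ 𝒮` over `C` with faithful underlying functor and a functor `g : ℛ ⟶ 𝒮` over `C`,
the 2-fibre product `𝒯 ×_𝒮 ℛ` over `C` is fibred in setoids. (The published statement takes stacks
in groupoids over a site and concludes a stack in setoids; the stack property of the 2-fibre product
is the separate result on 2-fibre products of stacks in groupoids, and the setoid property stated
here needs no topology.) -/
theorem result {C : Type u} [Category.{v} C] {𝒮 𝒯 ℛ : BasedCategory.{v, max u v} C}
    (h𝒮 : FibCat.IsFibGrpd 𝒮.p) (h𝒯 : FibCat.IsFibGrpd 𝒯.p) (hℛ : FibCat.IsFibSetoid ℛ.p) (f : 𝒯 ⥤ᵇ 𝒮) [f.toFunctor.Faithful] (g : ℛ ⥤ᵇ 𝒮) :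
    FibCat.IsFibSetoid (FibCat.fp f g).p := by
  refine ⟨fp_isFibGrpd h𝒯 hℛ.1 h𝒮 f g, fun U a b => ⟨fun φ ψ => Subtype.ext ?_⟩⟩
  haveI := φ.2; haveI := ψ.2
  haveI := isHomLift_snd (𝟙 U) φ.1
  haveI := isHomLift_snd (𝟙 U) ψ.1
  have e : φ.1.hom.snd = ψ.1.hom.snd := hom_ext_of_thin hℛ.2 (U := U) _ _
  refine fp_hom_ext (f.toFunctor.map_injective ?_) e
  rw [← cancel_mono b.1.obj.iso.hom, fp_w, fp_w, e]

end Groth.Agent.S12800
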