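import Groth.Statements.S12806
import Groth.Agent.Lib.FC16.Fp
import Groth.Agent.Lib.FC16.Comp

set_option autoImplicit false
open CategoryTheory
universe v u
open FibCat

namespace Groth.Agent.S12806
open CategoryTheory.Functor Groth.Agent.FC16
set_option linter.style.haveILetI false
set_option linter.unusedVariables false
set_option backward.isDefEq.respectTransparency false
set_option backward.isDefEq.respectTransparency.types false


/-- Let `𝒮` be fibred in groupoids over `C`, `U` an object of `C` and `x, y : C/U ⟶ 𝒮` two functors over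
`C` (objects over `U` in 2-Yoneda form), with `e` the 2-isomorphism identifying their composites
with the structure functor. Then the 2-fibre product over `C` of `(x, y) : C/U ⟶ 𝒮 ×_C 𝒮` with the
diagonal `𝒮 ⟶ 𝒮 ×_C 𝒮` is fibred in setoids over `C/U` through its first projection. (The published
statement is for a fibred category with `x`, `y` the functors given by chosen pullbacks; this row is
the case of a category fibred in groupoids, where every functor over `C` out of `C/U` is of that
kind.) -/
theorem result {C : Type u} [Category.{v} C] {𝒮 : BasedCategory.{v, max u v} C} (h𝒮 : FibCat.IsFibGrpd 𝒮.p)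
    (U : C) (x y : FibCat.overCat U ⥤ᵇ 𝒮)
    (e : BasedFunctor.comp x (FibCat.toSelf 𝒮) ≅ BasedFunctor.comp y (FibCat.toSelf 𝒮)) :
    FibCat.IsFibSetoid (FibCat.fpFst (FibCat.fpLift x y e) (FibCat.diag (FibCat.toSelf 𝒮))).toFunctor := by
  refine ⟨isFibGrpd_of_comp (forget_isFibSet U)
    (fp_isFibGrpd (overCat_isFibGrpd U) h𝒮 (fp_isFibGrpd h𝒮 h𝒮 selfOver_isFibGrpd _ _) _ _),
    fun t a b => ⟨fun φ ψ => Subtype.ext ?_⟩⟩
  have e : φ.1.hom.fst = ψ.1.hom.fst := by
    have h1 := @IsHomLift.fac' _ _ _ _ (FibCat.fpFst (FibCat.fpLift x y e)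
      (FibCat.diag (FibCat.toSelf 𝒮))).toFunctor _ _ _ _ (𝟙 t) φ.1 φ.2
    have h2 := @IsHomLift.fac' _ _ _ _ (FibCat.fpFst (FibCat.fpLift x y e)
      (FibCat.diag (FibCat.toSelf 𝒮))).toFunctor _ _ _ _ (𝟙 t) ψ.1 ψ.2
    exact h1.trans h2.symm
  refine fp_hom_ext e ?_
  let i := (FibCat.fpFst (FibCat.toSelf 𝒮) (FibCat.toSelf 𝒮)).toFunctor.mapIso a.1.obj.iso
  have w1 := congrArg (fun q => q.hom.fst) (fp_w φ.1)
  have w2 := congrArg (fun q => q.hom.fst) (fp_w ψ.1)
  simp only [e] at w1
  exact (cancel_epi i.hom).1 (w1.symm.trans w2)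

end Groth.Agent.S12806
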