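import Groth.Statements.S12807
import Groth.Agent.Lib.FC16.Basic

set_option autoImplicit false
open CategoryTheory CategoryTheory.Limits
universe v₃ u₃ v₂ u₂ v u
open FibCat

namespace Groth.Agent.S12807
open CategoryTheory.Functor Groth.Agent.FC16
set_option linter.style.haveILetI false
set_option linter.unusedVariables false
set_option backward.isDefEq.respectTransparency false
set_option backward.isDefEq.respectTransparency.types false


/-- Let `u : C ⥤ D` be a functor and `𝒮` a category over `D` whose structure functor is a fibred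
category. Then the 2-fibre product `C ×_D 𝒮` of `u` and the structure functor (triples `(U, y, u U ≅
p y)`), with its first projection, is a fibred category over `C`. (The published statement uses the
strict fibre product, pairs with `u U = p y`; for `𝒮` fibred over `D` it is equivalent over `C` to
the 2-fibre product used here.) -/
theorem result {C : Type u} [Category.{v} C] {D : Type u₂} [Category.{v₂} D] (u : C ⥤ D)
    (𝒮 : BasedCategory.{v₃, u₃} D) [𝒮.p.IsFibered] :
    (CategoricalPullback.π₁ u 𝒮.p).IsFibered := by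
  refine IsFibered.of_exists_isStronglyCartesian fun P V f => ?_
  let h : u.obj V ⟶ 𝒮.p.obj P.snd := u.map f ≫ P.iso.hom
  obtain ⟨y', a, ha⟩ := exists_isStronglyCartesian (p := 𝒮.p) (rfl : 𝒮.p.obj P.snd = _) h
  haveI := ha
  have hy : 𝒮.p.obj y' = u.obj V := IsHomLift.domain_eq 𝒮.p h a
  let Q : CategoricalPullback u 𝒮.p := { fst := V, snd := y', iso := eqToIso hy.symm }
  let m : Q ⟶ P :=
    { fst := f
      snd := a
      w := by
        show u.map f ≫ P.iso.hom = eqToHom hy.symm ≫ 𝒮.p.map a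
        rw [IsHomLift.fac' 𝒮.p h a]
        simp [h] }
  haveI : (CategoricalPullback.π₁ u 𝒮.p).IsHomLift f m :=
    CategoryTheory.IsHomLift.map (CategoricalPullback.π₁ u 𝒮.p) m
  refine ⟨Q, m, { universal_property' := fun {Z} g ψ hψ => ?_ }⟩
  have e : g ≫ f = ψ.fst :=
    @IsHomLift.eq_of_isHomLift _ _ _ _ (CategoricalPullback.π₁ u 𝒮.p) Z P _ ψ hψ
  let k : 𝒮.p.obj Z.snd ⟶ u.obj V := Z.iso.inv ≫ u.map g
  have hw : u.map ψ.fst ≫ P.iso.hom = Z.iso.hom ≫ 𝒮.p.map ψ.snd := ψ.w
  have hk : k ≫ h = 𝒮.p.map ψ.snd := by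
    rw [← cancel_epi Z.iso.hom, ← hw, ← e]
    simp [k, h]
  haveI : 𝒮.p.IsHomLift (k ≫ h) ψ.snd := by rw [hk]; infer_instance
  let c := IsStronglyCartesian.map 𝒮.p h a (g := k) (f' := k ≫ h) rfl ψ.snd
  have fc : c ≫ a = ψ.snd := IsStronglyCartesian.fac 𝒮.p h a (rfl : k ≫ h = k ≫ h) ψ.snd
  haveI hc : 𝒮.p.IsHomLift k c := inferInstance
  let n : Z ⟶ Q :=
    { fst := g
      snd := c
      w := by
        show u.map g ≫ eqToHom hy.symm = Z.iso.hom ≫ 𝒮.p.map c
        rw [IsHomLift.fac' 𝒮.p k c]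
        simp [k] }
  refine ⟨n, ⟨CategoryTheory.IsHomLift.map (CategoricalPullback.π₁ u 𝒮.p) n,
    CategoricalPullback.hom_ext e fc⟩, fun τ hτ => ?_⟩
  have t : g = τ.fst :=
    @IsHomLift.eq_of_isHomLift _ _ _ _ (CategoricalPullback.π₁ u 𝒮.p) Z Q _ τ hτ.1
  have wt : u.map τ.fst ≫ eqToHom hy.symm = Z.iso.hom ≫ 𝒮.p.map τ.snd := τ.w
  haveI : 𝒮.p.IsHomLift k τ.snd := IsHomLift.of_fac' 𝒮.p k τ.snd rfl hy (by
    rw [← cancel_epi Z.iso.hom, ← wt, ← t]
    simp [k])
  exact CategoricalPullback.hom_ext t.symm (IsStronglyCartesian.map_uniq 𝒮.p h a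
    (rfl : k ≫ h = k ≫ h) ψ.snd τ.snd (congrArg (fun q => q.snd) hτ.2))

end Groth.Agent.S12807
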