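import Groth.Statements.S12808
import Groth.Agent.Lib.FC16.PullBase

set_option autoImplicit false
open CategoryTheory CategoryTheory.Limits
universe v₃ u₃ v₂ u₂ v u
open Stk

namespace Groth.Agent.S12808
set_option backward.isDefEq.respectTransparency.types false

/-- Let `C` have pullbacks, let `J`, `K` be topologies on `C`, `D`, let `u : C ⥤ D` preserve pullbacks
and send covering sieves to families generating covering sieves, and let `𝒮` be a stack in groupoids
over `D` for `K`. Then the 2-fibre product `C ×_D 𝒮` with its first projection is a stack in
groupoids over `C` for `J`. (The published statement assumes `u` a continuous functor of sites —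
coverings go to coverings compatibly with the fibre products of covering families — and uses the
strict fibre product, pairs with `u U = p y`; here `C` has all pullbacks, `u` preserves them, and
the 2-fibre product, equivalent over `C` for fibred `𝒮`, is used.) -/
theorem result {C : Type u} [Category.{v} C] {D : Type u₂} [Category.{v₂} D] [HasPullbacks C]
    (J : GrothendieckTopology C) (K : GrothendieckTopology D) (u : C ⥤ D) [PreservesLimitsOfShape WalkingCospan u]
    (hu : CoverPreserving J K u) (𝒮 : BasedCategory.{v₃, u₃} D) (h𝒮 : Stk.IsStack K 𝒮) :
    Stk.IsStack J (BasedCategory.ofFunctor (CategoricalPullback.π₁ u 𝒮.p)) := by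
  exact Groth.Agent.FC16.isStack_pullBase J K hu h𝒮

end Groth.Agent.S12808
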