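import Groth.Statements.S1281
import Groth.Agent.Lib.AdmOpen4.TwoSided
import Groth.Agent.Lib.AdmOpen4.Glue

set_option autoImplicit false
universe u
open FlatMor

namespace Groth.Agent.S1281

open AlgebraicGeometry CategoryTheory Limits in
/-- Let S be quasi-compact and quasi-separated and let j₁ : U → X₁, j₂ : U → X₂ be open immersions over
S, with U, X₁, X₂ separated and of finite type over S. Then there are a scheme X separated and of
finite type over S, blow-ups b_i : X_i' → X_i in finite type quasi-coherent ideals with support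
disjoint from the image of U, open immersions X_i' → X over S, and lifts U → X_i' of j_i, such that
the two composites U → X_i' → X agree. -/
theorem result {U X₁ X₂ S : Scheme.{u}} [CompactSpace S] [QuasiSeparatedSpace S]
    (gU : U ⟶ S) (g₁ : X₁ ⟶ S) (g₂ : X₂ ⟶ S)
    [IsSeparated gU] [LocallyOfFiniteType gU] [QuasiCompact gU]
    [IsSeparated g₁] [LocallyOfFiniteType g₁] [QuasiCompact g₁]
    [IsSeparated g₂] [LocallyOfFiniteType g₂] [QuasiCompact g₂]
    (j₁ : U ⟶ X₁) (j₂ : U ⟶ X₂) [IsOpenImmersion j₁] [IsOpenImmersion j₂] (hj₁ : j₁ ≫ g₁ = gU) (hj₂ : j₂ ≫ g₂ = gU) :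
    ∃ (X : Scheme.{u}) (q : X ⟶ S) (_ : IsSeparated q) (_ : LocallyOfFiniteType q) (_ : QuasiCompact q)
      (𝓘₁ : X₁.IdealSheafData) (𝓘₂ : X₂.IdealSheafData) (X₁' X₂' : Scheme.{u}) (b₁ : X₁' ⟶ X₁) (b₂ : X₂' ⟶ X₂)
      (o₁ : X₁' ⟶ X) (o₂ : X₂' ⟶ X) (u₁ : U ⟶ X₁') (u₂ : U ⟶ X₂'),
      BlowUp.IsBlowUp b₁ 𝓘₁ ∧ BlowUp.IsAdmissibleFor j₁.opensRange 𝓘₁ ∧
      BlowUp.IsBlowUp b₂ 𝓘₂ ∧ BlowUp.IsAdmissibleFor j₂.opensRange 𝓘₂ ∧
      IsOpenImmersion o₁ ∧ IsOpenImmersion o₂ ∧ o₁ ≫ q = b₁ ≫ g₁ ∧ o₂ ≫ q = b₂ ≫ g₂ ∧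
      u₁ ≫ b₁ = j₁ ∧ u₂ ≫ b₂ = j₂ ∧ u₁ ≫ o₁ = u₂ ≫ o₂ := by
  haveI : CompactSpace X₁ := QuasiCompact.compactSpace_of_compactSpace g₁
  haveI : CompactSpace X₂ := QuasiCompact.compactSpace_of_compactSpace g₂
  haveI : QuasiSeparatedSpace X₁ := quasiSeparatedSpace_of_quasiSeparated g₁
  haveI : QuasiSeparatedSpace X₂ := quasiSeparatedSpace_of_quasiSeparated g₂
  haveI : CompactSpace U := QuasiCompact.compactSpace_of_compactSpace gU
  haveI : QuasiSeparatedSpace (pullback g₁ g₂ :) :=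
    quasiSeparatedSpace_of_quasiSeparated (pullback.fst g₁ g₂ ≫ g₁)
  let g₀ := pullback.lift j₁ j₂ (hj₁.trans hj₂.symm)
  haveI : QuasiCompact g₀ := inferInstance
  haveI := EffCartier.dominant_toImage g₀
  let π₁ := g₀.imageι ≫ pullback.fst g₁ g₂
  let π₂ := g₀.imageι ≫ pullback.snd g₁ g₂
  haveI : CompactSpace g₀.image := QuasiCompact.compactSpace_of_compactSpace g₀.imageι
  have e₁ : g₀.toImage ≫ π₁ = j₁ := by rw [Scheme.Hom.toImage_imageι_assoc, pullback.lift_fst]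
  have e₂ : g₀.toImage ≫ π₂ = j₂ := by rw [Scheme.Hom.toImage_imageι_assoc, pullback.lift_snd]
  haveI hiso : ∀ {Y : Scheme.{u}} [QuasiSeparatedSpace Y] (j : U ⟶ Y) [IsOpenImmersion j] (π : g₀.image ⟶ Y)
      [IsSeparated π], g₀.toImage ≫ π = j → IsIso (π ∣_ j.opensRange) := by
    intro Y _ j _ π _ hj
    haveI : CompactSpace j.opensRange.toScheme := by
      have : IsCompact (j.opensRange : Set Y) := by
        show IsCompact (Set.range j)
        exact isCompact_range j.continuous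
      exact isCompact_iff_compactSpace.1 this
    haveI : IsSchemeTheoreticallyDominant (j.isoOpensRange.inv ≫ g₀.toImage) := inferInstance
    refine AdmOpen4.isIso_restrict_of_section j.opensRange π (j.isoOpensRange.inv ≫ g₀.toImage) ?_
    rw [Category.assoc, hj, Iso.inv_comp_eq, Scheme.Hom.isoOpensRange_hom_ι]
  haveI := hiso j₁ π₁ e₁
  haveI := hiso j₂ π₂ e₂
  obtain ⟨I, J₁, J₂, Z, Yt₁, Yt₂, b, c₁, c₂, o₁, o₂, w₁, w₂, hb, hI, hc₁, hJ₁, hd₁, hc₂, hJ₂, hd₂, ho₁, ho₂, hcl₁, hcl₂⟩ :=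
    AdmOpen4.exists_twoSided π₁ π₂ j₁.opensRange j₂.opensRange
      (isCompact_range j₁.continuous) (isCompact_range j₂.continuous)
  haveI : IsProper c₁ := BlowUpExist.isProper hJ₁ hc₁
  haveI : IsProper c₂ := BlowUpExist.isProper hJ₂ hc₂
  haveI := QuasiCompact.compactSpace_of_compactSpace c₁
  haveI := QuasiCompact.compactSpace_of_compactSpace c₂
  have hU : ∀ x, g₀.toImage x ∈ π₁ ⁻¹ᵁ j₁.opensRange ⊓ π₂ ⁻¹ᵁ j₂.opensRange := fun x =>
    ⟨⟨x, by rw [← Scheme.Hom.comp_apply, e₁]⟩, ⟨x, by rw [← Scheme.Hom.comp_apply, e₂]⟩⟩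
  have heff : BlowUp.IsEffCartierIdeal (I.comap g₀.toImage) := by
    rw [EffCartier.comap_eq_top _ _ fun x hx => Set.disjoint_left.1 hI.2 hx (hU x)]
    exact EffCartier.isEffCartierIdeal_top
  obtain ⟨u, hu, -⟩ := hb.2 U g₀.toImage heff
  have hw₁ : (u ≫ o₁) ≫ c₁ = j₁ := by rw [Category.assoc, ← w₁, ← Category.assoc, hu, e₁]
  have hw₂ : (u ≫ o₂) ≫ c₂ = j₂ := by rw [Category.assoc, ← w₂, ← Category.assoc, hu, e₂]
  have h : o₁ ≫ c₁ ≫ g₁ = o₂ ≫ c₂ ≫ g₂ := by
    rw [← reassoc_of% w₁, ← reassoc_of% w₂]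
    simp only [π₁, π₂, Category.assoc, pullback.condition]
  haveI : IsClosedImmersion (pullback.lift o₁ o₂ h) := by
    let k : pullback (c₁ ≫ g₁) (c₂ ≫ g₂) ⟶ pullback g₁ g₂ :=
      pullback.map _ _ _ _ c₁ c₂ (𝟙 S) (by simp) (by simp)
    haveI : IsSeparated k := by
      haveI : IsSeparated (k ≫ pullback.fst g₁ g₂) := by rw [pullback.lift_fst]; infer_instance
      exact IsSeparated.of_comp k (pullback.fst g₁ g₂)
    let M : Z ⟶ pullback g₀.imageι k := pullback.lift b (pullback.lift o₁ o₂ h) (by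
      apply pullback.hom_ext
      · simp only [k, Category.assoc, pullback.lift_fst, pullback.lift_fst_assoc]
        exact w₁
      · simp only [k, Category.assoc, pullback.lift_snd, pullback.lift_snd_assoc]
        exact w₂)
    let N : pullback g₀.imageι k ⟶ pullback π₁ c₁ :=
      pullback.lift (pullback.fst g₀.imageι k) (pullback.snd g₀.imageι k ≫ pullback.fst _ _) (by
        simp only [π₁, pullback.condition_assoc]
        simp only [k, Category.assoc, pullback.lift_fst])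
    haveI : IsClosedImmersion (M ≫ N) := by
      have : M ≫ N = pullback.lift b o₁ w₁ := by
        apply pullback.hom_ext
        · exact (Category.assoc _ _ _).trans ((congrArg (M ≫ ·) (pullback.lift_fst _ _ _)).trans
            ((pullback.lift_fst _ _ _).trans (pullback.lift_fst b o₁ w₁).symm))
        · exact (Category.assoc _ _ _).trans ((congrArg (M ≫ ·) (pullback.lift_snd _ _ _)).trans
            ((pullback.lift_snd_assoc _ _ _ _).trans ((pullback.lift_fst o₁ o₂ h).trans (pullback.lift_snd b o₁ w₁).symm)))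
      rw [this]; exact hcl₁
    haveI : IsSeparated N := by
      haveI : IsSeparated (N ≫ pullback.fst π₁ c₁) := by rw [pullback.lift_fst]; infer_instance
      exact IsSeparated.of_comp N (pullback.fst π₁ c₁)
    haveI : IsClosedImmersion M := IsClosedImmersion.of_comp M N
    have : M ≫ pullback.snd g₀.imageι k = pullback.lift o₁ o₂ h := pullback.lift_snd _ _ _
    rw [← this]
    infer_instance
  haveI : CompactSpace Z := by
    haveI : IsProper b := BlowUpExist.isProper hI.1 hb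
    exact QuasiCompact.compactSpace_of_compactSpace b
  refine ⟨_, pushout.desc (c₁ ≫ g₁) (c₂ ≫ g₂) h, AdmOpen4.isSeparated_pushout o₁ o₂ _ _ h,
    AdmOpen4.locallyOfFiniteType_pushout o₁ o₂ _ _ h, AdmOpen4.quasiCompact_pushout o₁ o₂ _ _ h,
    J₁, J₂, Yt₁, Yt₂, c₁, c₂, pushout.inl o₁ o₂, pushout.inr o₁ o₂, u ≫ o₁, u ≫ o₂,
    hc₁, ⟨hJ₁, hd₁.mono_right ?_⟩, hc₂, ⟨hJ₂, hd₂.mono_right ?_⟩, inferInstance, inferInstance,
    pushout.inl_desc _ _ _, pushout.inr_desc _ _ _, hw₁, hw₂, by rw [Category.assoc, Category.assoc, pushout.condition]⟩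
  · rintro _ ⟨x, rfl⟩
    exact ⟨g₀.toImage x, hU x, by show π₁ (g₀.toImage x) = j₁ x; rw [← Scheme.Hom.comp_apply, e₁]⟩
  · rintro _ ⟨x, rfl⟩
    exact ⟨g₀.toImage x, hU x, by show π₂ (g₀.toImage x) = j₂ x; rw [← Scheme.Hom.comp_apply, e₂]⟩

end Groth.Agent.S1281
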