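import Groth.Statements.S12810
import Groth.Agent.Lib.FC16.Stack

set_option autoImplicit false
open CategoryTheory
universe v u
open Stk

namespace Groth.Agent.S12810
open CategoryTheory.Functor Groth.Agent.FC16
set_option linter.style.haveILetI false
set_option backward.isDefEq.respectTransparency false
set_option backward.isDefEq.respectTransparency.types false


/-- If two categories over `C` are equivalent in the 2-category of categories over `C`, then one is a
stack in setoids for the topology `J` (a stack in groupoids fibred in setoids) if and only if the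
other is. -/
theorem result {C : Type u} [Category.{v} C] (J : GrothendieckTopology C) {𝒳 𝒴 : BasedCategory.{v, max u v} C}
    (F : 𝒳 ⥤ᵇ 𝒴) (hF : FibCat.IsEquivOver F) :
    (Stk.IsStack J 𝒳 ∧ FibCat.IsFibSetoid 𝒳.p) ↔ (Stk.IsStack J 𝒴 ∧ FibCat.IsFibSetoid 𝒴.p) := by
  exact and_congr (Groth.Agent.FC16.isStack_iff_of_isEquivOver J hF) (isFibSetoid_iff_of_isEquivOver hF)

end Groth.Agent.S12810
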