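import Groth.Statements.S12816
import Groth.Agent.Lib.FC16.Topology

set_option autoImplicit false
open CategoryTheory
universe v u
open Stk

namespace Groth.Agent.S12816
open CategoryTheory.Functor Groth.Agent.FC16
set_option linter.style.haveILetI false
set_option backward.isDefEq.respectTransparency false
set_option backward.isDefEq.respectTransparency.types false


/-- Let `𝒳`, `𝒴` be fibred in groupoids over `C` and `F : 𝒳 ⟶ 𝒴` a functor over `C`. Then the underlying
functor of `F` is fully faithful if and only if, for every object `U` of `C`, postcomposition with
`F` is a fully faithful functor from the category of functors `C/U ⟶ 𝒳` over `C` to that of functors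
`C/U ⟶ 𝒴` over `C`; under the 2-Yoneda lemma the latter says that `F` induces bijections between
morphisms of pullbacks `x|_V ⟶ y|_V` and `F(x)|_V ⟶ F(y)|_V` for all objects `x, y` over `U` and all
`V ⟶ U`, that is, isomorphisms of the presheaves of morphisms. (The published statement is for
stacks over a site, not necessarily in groupoids; the stack property plays no role and is not
assumed here, and this row treats categories fibred in groupoids.) -/
theorem result {C : Type u} [Category.{v} C] {𝒳 𝒴 : BasedCategory.{v, max u v} C}
    (h𝒳 : FibCat.IsFibGrpd 𝒳.p) (h𝒴 : FibCat.IsFibGrpd 𝒴.p) (F : 𝒳 ⟶ 𝒴) :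
    (F.toFunctor.Full ∧ F.toFunctor.Faithful) ↔
      ∀ U : C, (Bicategory.postcomp (FibCat.overCat U) F).Full ∧ (Bicategory.postcomp (FibCat.overCat U) F).Faithful := by
  exact fullyFaithful_iff_postFun h𝒳 h𝒴 F

end Groth.Agent.S12816
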