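import Groth.Statements.S12818
import Groth.Agent.Lib.StAlg16.Points

set_option autoImplicit false
universe u
open CategoryTheory AlgebraicGeometry
open AlgSt

namespace Groth.Agent.S12818
set_option linter.style.haveILetI false
set_option backward.isDefEq.respectTransparency false
set_option backward.isDefEq.respectTransparency.types false


/-- For morphisms `f : 𝒳 ⟶ 𝒴` and `g : 𝒵 ⟶ 𝒴` of algebraic stacks over `S`, the map `|𝒵 ×_𝒴 𝒳| → |𝒵|
×_{|𝒴|} |𝒳|` is surjective: a point of `𝒵` and a point of `𝒳` with the same image in `|𝒴|` are the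
two projections of some point of the 2-fibre product. -/
theorem result {S : Scheme.{u}} {𝒳 𝒴 𝒵 : AlgSt.Cat S}
    (h𝒳 : AlgSt.IsAlgStack Scheme.fppfPrecoverage 𝒳) (h𝒴 : AlgSt.IsAlgStack Scheme.fppfPrecoverage 𝒴)
    (h𝒵 : AlgSt.IsAlgStack Scheme.fppfPrecoverage 𝒵) (f : 𝒳 ⥤ᵇ 𝒴) (g : 𝒵 ⥤ᵇ 𝒴)
    (z : AlgSt.Points 𝒵) (x : AlgSt.Points 𝒳) (h : AlgSt.Points.map g z = AlgSt.Points.map f x) :
    ∃ w : AlgSt.Points (FibCat.fp g f),
      AlgSt.Points.map (FibCat.fpFst g f) w = z ∧ AlgSt.Points.map (FibCat.fpSnd g f) w = x := by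
  exact StAlg16.exists_fp_point h𝒳.isStack.1 h𝒴.isStack.1 h𝒵.isStack.1 f g z x h

end Groth.Agent.S12818
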