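import Groth.Statements.S1282
import Groth.Agent.Lib.AdmOpen4.NearMain
-- import your own Groth.Agent.* helpers here

set_option autoImplicit false
universe u
open FlatMor

namespace Groth.Agent.S1282

open AlgebraicGeometry CategoryTheory Limits in
/-- Let f : X → Y be a proper morphism with X and Y quasi-compact and quasi-separated, V ⊆ Y a
quasi-compact open, and T ⊆ V a subset closed in V such that f is an isomorphism over some open
neighbourhood of T inside V. Then there is a V-admissible blow-up b : Y' → Y such that, over some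
open W' of Y' containing the closure of b⁻¹(T), the strict transform X'' → Y' of f (X'' the closed
subscheme of X ×_Y Y' cut out by the functions locally killed by a power of the pulled-back
exceptional ideal) restricts to an isomorphism. -/
theorem result {X Y : Scheme.{u}} [CompactSpace X] [QuasiSeparatedSpace X] [CompactSpace Y] [QuasiSeparatedSpace Y]
    (f : X ⟶ Y) [IsProper f] (V : Y.Opens) (hV : IsCompact (V : Set Y)) (T : Set Y) (hTV : T ⊆ V)
    (hT : IsClosed (Subtype.val ⁻¹' T : Set V))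
    (hiso : ∃ W : Y.Opens, T ⊆ W ∧ W ≤ V ∧ IsIso (f ∣_ W)) :
    ∃ (𝓘 : Y.IdealSheafData) (Y' : Scheme.{u}) (b : Y' ⟶ Y), BlowUp.IsBlowUp b 𝓘 ∧ BlowUp.IsAdmissibleFor V 𝓘 ∧
      ∀ (X' : Scheme.{u}) (p₁ : X' ⟶ X) (p₂ : X' ⟶ Y'), IsPullback p₁ p₂ f b →
      ∀ (𝒥 : X'.IdealSheafData),
        (∀ (W : X'.affineOpens) (a : Γ(X', W.1)), a ∈ 𝒥.ideal W ↔
          BlowUp.KilledByPowerNear ((𝓘.comap f).comap p₁) (Coh.structureModule X') W a) →
        ∃ W' : Y'.Opens, closure (b.base ⁻¹' T) ⊆ W' ∧ IsIso ((𝒥.subschemeι ≫ p₂) ∣_ W') := by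
  obtain ⟨W, hTW, hWV, hW⟩ := hiso
  haveI := hW
  obtain ⟨I, Y', b, hb, hI, hIs, W', hTW', H⟩ := AdmOpen4.exists_center_iso_near f V hV T hTV hT W hTW hWV
  refine ⟨I, Y', b, hb, ⟨hI, by rw [hIs]; exact disjoint_compl_left⟩, fun X' p₁ p₂ hpb 𝒥 h𝒥 => ⟨W', hTW', ?_⟩⟩
  let O := p₂ ⁻¹ᵁ (b ⁻¹ᵁ V)
  have hc : b ⁻¹ᵁ V = EffCartier.cmpl (I.comap b) := AdmOpen4.cmpl_eq hIs b
  have hO : O = EffCartier.cmpl ((I.comap f).comap p₁) := by
    rw [← Scheme.IdealSheafData.comap_comp, hpb.w, Scheme.IdealSheafData.comap_comp,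
      ← BlowUp26.preimage_cmpl_eq, ← hc]
  haveI : QuasiCompact O.ι := by
    show QuasiCompact (p₂ ⁻¹ᵁ (b ⁻¹ᵁ V)).ι
    rw [hc]; exact EffCartier.quasiCompact_preimage_interior hb.1 _
  have h𝒥' : 𝒥 = O.ι.ker := by
    refine Scheme.IdealSheafData.ext (funext fun W => Ideal.ext fun a => ?_)
    rw [h𝒥]
    haveI : QuasiCompact (EffCartier.cmpl ((I.comap f).comap p₁)).ι := by rw [← hO]; infer_instance
    rw [hO]
    exact (AdmOpen4.mem_ker_iff_killedByPower _
      (EffCartier.isFiniteTypeIdeal_comap (EffCartier.isFiniteTypeIdeal_comap hI f) p₁) W a).symm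
  subst h𝒥'
  exact H _ _ _ (AdmOpen4.isStrict_of_isPullback hpb V)

end Groth.Agent.S1282
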