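import Groth.Statements.S12820
import Groth.Agent.Lib.StAlg16.Topology

set_option autoImplicit false
universe u
open CategoryTheory AlgebraicGeometry
open AlgSt

namespace Groth.Agent.S12820
set_option linter.style.haveILetI false
set_option backward.isDefEq.respectTransparency false


/-- For a morphism `f : 𝒳 ⟶ 𝒴` of algebraic stacks over `S` the map `|f| : |𝒳| → |𝒴|` is continuous (a
subset of `|𝒳|` being open when its preimage under every smooth chart from a scheme is open). -/
theorem result {S : Scheme.{u}} {𝒳 𝒴 : AlgSt.Cat S}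
    (h𝒳 : AlgSt.IsAlgStack Scheme.fppfPrecoverage 𝒳) (h𝒴 : AlgSt.IsAlgStack Scheme.fppfPrecoverage 𝒴) (f : 𝒳 ⥤ᵇ 𝒴) :
    Continuous (AlgSt.Points.map f) := by
  exact Groth.Agent.StAlg16.continuous_map h𝒴 f

end Groth.Agent.S12820
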