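import Groth.Statements.S12824
import Groth.Agent.Lib.StAlg16.Topology

set_option autoImplicit false
universe u
open CategoryTheory AlgebraicGeometry
open AlgSt

namespace Groth.Agent.S12824
set_option linter.style.haveILetI false
set_option backward.isDefEq.respectTransparency false


/-- For an algebraic stack `𝒳` over `S`, every open neighbourhood of a point of `|𝒳|` contains a
quasi-compact open neighbourhood of that point; hence `|𝒳|` is locally quasi-compact. -/
theorem result {S : Scheme.{u}} {𝒳 : AlgSt.Cat S}
    (h𝒳 : AlgSt.IsAlgStack Scheme.fppfPrecoverage 𝒳) (x : AlgSt.Points 𝒳) (W : Set (AlgSt.Points 𝒳)) (hW : IsOpen W) (hx : x ∈ W) :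
    ∃ V : Set (AlgSt.Points 𝒳), IsOpen V ∧ IsCompact V ∧ x ∈ V ∧ V ⊆ W := by
  exact Groth.Agent.StAlg16.exists_compact_nhd h𝒳 x hW hx

end Groth.Agent.S12824
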