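import Groth.Statements.S1283
import Groth.Agent.Lib.AdmOpen4.Kill

set_option autoImplicit false
universe u
open FlatMor

namespace Groth.Agent.S1283

open AlgebraicGeometry CategoryTheory Limits in
/-- Let φ : X → S be separated and of finite type with S quasi-compact and quasi-separated, and U ⊆ S a
quasi-compact open over which φ is an isomorphism. Then there is a U-admissible blow-up b : S' → S
such that the strict transform X'' of X (the closed subscheme of X ×_S S' cut out by the functions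
locally killed by a power of the pulled-back exceptional ideal) maps to S' by an open immersion. -/
theorem result {X S : Scheme.{u}} [CompactSpace S] [QuasiSeparatedSpace S]
    (φ : X ⟶ S) [IsSeparated φ] [LocallyOfFiniteType φ] [QuasiCompact φ] (U : S.Opens) (hU : IsCompact (U : Set S)) [IsIso (φ ∣_ U)] :
    ∃ (𝓘 : S.IdealSheafData) (S' : Scheme.{u}) (b : S' ⟶ S), BlowUp.IsBlowUp b 𝓘 ∧ BlowUp.IsAdmissibleFor U 𝓘 ∧
      ∀ (X' : Scheme.{u}) (p₁ : X' ⟶ X) (p₂ : X' ⟶ S'), IsPullback p₁ p₂ φ b →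
      ∀ (𝒥 : X'.IdealSheafData),
        (∀ (W : X'.affineOpens) (a : Γ(X', W.1)), a ∈ 𝒥.ideal W ↔
          BlowUp.KilledByPowerNear ((𝓘.comap φ).comap p₁) (Coh.structureModule X') W a) →
        IsOpenImmersion (𝒥.subschemeι ≫ p₂) := by
  obtain ⟨𝓘, hI, hsupp, H⟩ := AdmOpen4.exists_center φ U hU
  refine ⟨𝓘, _, _, BlowUpExist.ChartIdx.isBlowUp_blowUpHom (C := 𝓘), hI, ?_⟩
  intro X' p₁ p₂ hpb 𝒥 h𝒥
  let b := BlowUpExist.ChartIdx.blowUpHom 𝓘
  have hb := (BlowUpExist.ChartIdx.isBlowUp_blowUpHom (C := 𝓘)).1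
  let O := p₂ ⁻¹ᵁ (b ⁻¹ᵁ U)
  have hc : b ⁻¹ᵁ U = EffCartier.cmpl (𝓘.comap b) := AdmOpen4.cmpl_eq hsupp b
  have hO : O = EffCartier.cmpl ((𝓘.comap φ).comap p₁) := by
    rw [← Scheme.IdealSheafData.comap_comp, hpb.w, Scheme.IdealSheafData.comap_comp,
      ← BlowUp26.preimage_cmpl_eq, ← hc]
  haveI : QuasiCompact O.ι := by
    show QuasiCompact (p₂ ⁻¹ᵁ (b ⁻¹ᵁ U)).ι
    rw [hc]; exact EffCartier.quasiCompact_preimage_interior hb _
  have h𝒥' : 𝒥 = O.ι.ker := by
    refine Scheme.IdealSheafData.ext (funext fun W => Ideal.ext fun a => ?_)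
    rw [h𝒥]
    haveI : QuasiCompact (EffCartier.cmpl ((𝓘.comap φ).comap p₁)).ι := by rw [← hO]; infer_instance
    rw [hO]
    exact (AdmOpen4.mem_ker_iff_killedByPower _
      (EffCartier.isFiniteTypeIdeal_comap (EffCartier.isFiniteTypeIdeal_comap hI.1 φ) p₁) W a).symm
  subst h𝒥'
  exact H b _ _ (AdmOpen4.isStrict_of_isPullback hpb U) hb

end Groth.Agent.S1283
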