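import Groth.Statements.S12832
import Groth.Agent.Lib.StAlg16.AlgClosedLift
import Groth.Agent.Lib.StAlg.Descent
import Mathlib.FieldTheory.IsAlgClosed.AlgebraicClosure

set_option autoImplicit false
universe u
open CategoryTheory AlgebraicGeometry
open AlgSt

namespace Groth.Agent.S12832
set_option linter.style.haveILetI false
set_option backward.isDefEq.respectTransparency false
set_option backward.isDefEq.respectTransparency.types false
open Groth.Agent.FC16 Groth.Agent.StAlg Groth.Agent.StAlg16 CategoryTheory.Functor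


/-- (2) ⇔ (3): for a morphism `f : 𝒳 ⟶ 𝒴` of algebraic stacks over `S`, the diagonal `𝒳 ⟶ 𝒳 ×_𝒴 𝒳` is
surjective on points if and only if for every algebraically closed field `k`, all `x₁, x₂ : Spec k ⟶
𝒳` and every 2-arrow `β : f ∘ x₁ ⟶ f ∘ x₂` there is a 2-arrow `α : x₁ ⟶ x₂` with `β = f ⋆ α`; the
2-arrows are written through objects `a₁, a₂` of `𝒳` over `Spec k` and morphisms lying over the
identity of `Spec k`. -/
theorem result {S : Scheme.{u}} {𝒳 𝒴 : AlgSt.Cat S}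
    (h𝒳 : AlgSt.IsAlgStack Scheme.fppfPrecoverage 𝒳) (h𝒴 : AlgSt.IsAlgStack Scheme.fppfPrecoverage 𝒴) (f : 𝒳 ⥤ᵇ 𝒴) :
    AlgSt.IsSurjective (FibCat.diag f) ↔
      ∀ (k : Type u) [Field k] [IsAlgClosed k] (s : Spec (CommRingCat.of k) ⟶ S) (a₁ a₂ : 𝒳.obj)
        (_ : 𝒳.p.obj a₁ = Over.mk s) (_ : 𝒳.p.obj a₂ = Over.mk s) (β : f.obj a₁ ⟶ f.obj a₂),
        𝒴.p.IsHomLift (𝟙 (Over.mk s)) β →
          ∃ α : a₁ ⟶ a₂, 𝒳.p.IsHomLift (𝟙 (Over.mk s)) α ∧ f.map α = β := by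
  have hg := h𝒳.isStack.1
  have hy := h𝒴.isStack.1
  have hd := lft_diag h𝒳 h𝒴 f
  constructor
  · intro hΔ k _ _ s a₁ a₂ h₁ h₂ β hβ
    haveI := hβ
    haveI := isIso_of_isHomLift hy (𝟙 (Over.mk s)) β
    let P : (FibCat.fp f f).obj := fpObj a₁ a₂ (asIso β) h₁ hβ
    obtain ⟨z, i, hz, hi⟩ := exists_lift_of_mem_range hg (fp_isFibGrpd hg hg hy f f) hd s P h₁
      (hΔ (AlgSt.Points.mk _))
    haveI := hi
    haveI h1 : 𝒳.p.IsHomLift (𝟙 (Over.mk s)) i.hom.hom.fst :=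
      inferInstanceAs (𝒳.p.IsHomLift (𝟙 (Over.mk s)) ((FibCat.fpFst f f).map i.hom))
    haveI h2 : 𝒳.p.IsHomLift (𝟙 (Over.mk s)) i.hom.hom.snd :=
      inferInstanceAs (𝒳.p.IsHomLift (𝟙 (Over.mk s)) ((FibCat.fpSnd f f).map i.hom))
    let c₁ : z ⟶ a₁ := i.hom.hom.fst
    let c₂ : z ⟶ a₂ := i.hom.hom.snd
    haveI : 𝒳.p.IsHomLift (𝟙 (Over.mk s)) c₁ := h1
    haveI : 𝒳.p.IsHomLift (𝟙 (Over.mk s)) c₂ := h2
    haveI := isIso_of_isHomLift hg (𝟙 (Over.mk s)) c₁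
    refine ⟨inv c₁ ≫ c₂, (haveI : 𝒳.p.IsHomLift (𝟙 (Over.mk s)) (asIso c₁).hom := h1; inferInstanceAs (𝒳.p.IsHomLift (𝟙 (Over.mk s)) ((asIso c₁).inv ≫ c₂))), ?_⟩
    have w : f.map c₁ ≫ β = 𝟙 (f.obj z) ≫ f.map c₂ := fp_w i.hom
    rw [Category.id_comp] at w
    change f.toFunctor.map (inv c₁ ≫ c₂) = β
    rw [Functor.map_comp, ← w, ← Category.assoc, ← Functor.map_comp, IsIso.inv_hom_id, CategoryTheory.Functor.map_id,
      Category.id_comp]
  · intro h x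
    obtain ⟨p, rfl⟩ := AlgSt.Points.mk_surjective x
    let K' := AlgebraicClosure p.K
    let d : Over.mk (Spec.map (CommRingCat.ofHom (algebraMap p.K K')) ≫ p.str) ⟶ Over.mk p.str :=
      Over.homMk (Spec.map (CommRingCat.ofHom (algebraMap p.K K'))) rfl
    obtain ⟨O, φ, hφ⟩ := FC16.exists_lift (fp_isFibGrpd hg hg hy f f) p.lies d
    have hO : 𝒳.p.obj O.obj.fst = _ := IsHomLift.domain_eq (FibCat.fp f f).p d φ
    let T := Over.mk (Spec.map (CommRingCat.ofHom (algebraMap p.K K')) ≫ p.str)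
    haveI : 𝒴.p.IsHomLift (𝟙 T) O.obj.iso.hom := iso_lift O hO
    have hO₂ : 𝒳.p.obj O.obj.snd = _ :=
      (f.w_obj _).symm.trans (IsHomLift.codomain_eq 𝒴.p (𝟙 T) O.obj.iso.hom)
    obtain ⟨α, hα, hα'⟩ := h K' _ O.obj.fst O.obj.snd hO hO₂ O.obj.iso.hom (iso_lift O hO)
    let q : AlgSt.FPt 𝒳 := { K := K', str := _, obj := O.obj.fst, lies := hO }
    let θ : (FibCat.diag f).obj O.obj.fst ⟶ O :=
      ObjectProperty.homMk
        { fst := 𝟙 _
          snd := α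
          w := by
            change f.map (𝟙 _) ≫ O.obj.iso.hom = 𝟙 _ ≫ f.map α
            rw [hα', show f.map (𝟙 O.obj.fst) = 𝟙 (f.obj O.obj.fst) from f.toFunctor.map_id _] }
    exact ⟨AlgSt.Points.mk q, AlgSt.Points.sound ⟨q.map (FibCat.diag f), 𝟙 _, θ ≫ φ, trivial⟩⟩

end Groth.Agent.S12832
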