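import Groth.Statements.S12833
import Groth.Agent.Lib.StAlg16.AlgClosedRational

set_option autoImplicit false
universe u
open CategoryTheory AlgebraicGeometry
open AlgSt

namespace Groth.Agent.S12833
set_option linter.style.haveILetI false
set_option backward.isDefEq.respectTransparency false
set_option backward.isDefEq.respectTransparency.types false
open Groth.Agent.FC16 Groth.Agent.StAlg16 CategoryTheory.Limits in


/-- Let `f : 𝒳 ⟶ 𝒴` be a morphism of algebraic stacks over `S` whose diagonal is surjective on points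
(for morphisms of algebraic stacks this is the same as universally injective; the published
statement assumes the latter), `k` an algebraically closed field and `y : Spec k ⟶ 𝒴` whose point
lies in the image of `|𝒳| → |𝒴|`. Then `y` itself lifts: there is `x : Spec k ⟶ 𝒳` with `f ∘ x ≅ y`,
no field extension being needed. -/
theorem result {S : Scheme.{u}} {𝒳 𝒴 : AlgSt.Cat S}
    (h𝒳 : AlgSt.IsAlgStack Scheme.fppfPrecoverage 𝒳) (h𝒴 : AlgSt.IsAlgStack Scheme.fppfPrecoverage 𝒴) (f : 𝒳 ⥤ᵇ 𝒴) (hΔ : AlgSt.IsSurjective (FibCat.diag f))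
    (k : Type u) [Field k] [IsAlgClosed k] (s : Spec (CommRingCat.of k) ⟶ S) (y : 𝒴.obj)
    (hy : 𝒴.p.obj y = Over.mk s)
    (h : AlgSt.Points.mk ⟨k, s, y, hy⟩ ∈ Set.range (AlgSt.Points.map f)) :
    ∃ (x : 𝒳.obj) (φ : f.obj x ⟶ y), 𝒳.p.obj x = Over.mk s ∧ 𝒴.p.IsHomLift (𝟙 (Over.mk s)) φ := by
  haveI := FC16.isFibered h𝒴.isStack.1
  haveI := ofObjIso_lift hy
  let g := ofObj hy
  obtain ⟨U, h', c, ⟨i⟩, hsm, hsu⟩ := exists_good h𝒳 h𝒴 f g
  have hQ : AlgSt.IsAlgStack Scheme.fppfPrecoverage (FibCat.fp g f) :=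
    isAlgStack_fp' (isAlgStack_overCat _) h𝒳 h𝒴 g f
  have hΔ' := isSurjective_diag_fpFst h𝒳.isStack.1 h𝒴.isStack.1 (overCat_isFibGrpd _) g hΔ
  let p₀ : FPt (FibCat.overCat (Over.mk s)) :=
    { K := k, str := s, obj := Over.mk (𝟙 (Over.mk s)), lies := rfl }
  obtain ⟨x₀, hx₀⟩ := h
  have hz : AlgSt.Points.map g (AlgSt.Points.mk p₀) = AlgSt.Points.map f x₀ :=
    (AlgSt.Points.sound (p := p₀.map g) (q := ⟨k, s, y, hy⟩) ⟨p₀.map g, 𝟙 _, (ofObjIso hy).hom, trivial⟩).trans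
      hx₀.symm
  obtain ⟨w, -, -⟩ := exists_fp_point h𝒳.isStack.1 h𝒴.isStack.1 (overCat_isFibGrpd _) f g _ x₀ hz
  obtain ⟨u, -⟩ := isSurjective_of_with hQ.isStack.1 hsu w
  haveI : Nonempty U.left := ⟨ptOf u⟩
  obtain ⟨q, hq⟩ := exists_rational s hQ (FibCat.fpFst g f) hΔ' h' c i hsm
  let O := c.obj (Over.mk q)
  haveI := isHomLift_appIso_hom i (Over.mk q) (U := Over.mk s) rfl
  haveI : 𝒴.p.IsHomLift (𝟙 (Over.mk s)) O.obj.iso.hom := iso_lift O (U := Over.mk s) (c.w_obj _)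
  haveI : 𝒴.p.IsHomLift (𝟙 (Over.mk s)) O.obj.iso.inv := inferInstance
  let m : (AlgSt.overMap h').obj (Over.mk q) ⟶ Over.mk (𝟙 (Over.mk s)) :=
    Over.homMk (𝟙 (Over.mk s)) (by
      change 𝟙 _ ≫ 𝟙 _ = q ≫ h'
      rw [hq, Category.id_comp])
  haveI : (FibCat.overCat (Over.mk s)).p.IsHomLift (𝟙 (Over.mk s)) m :=
    IsHomLift.of_fac' _ _ _ rfl rfl (by simp [m]; rfl)
  haveI : 𝒴.p.IsHomLift (𝟙 (Over.mk s)) (g.map ((appIso i (Over.mk q)).hom ≫ m)) := by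
    haveI : (FibCat.overCat (Over.mk s)).p.IsHomLift (𝟙 (Over.mk s)) ((appIso i (Over.mk q)).hom ≫ m) := by
      simpa using (inferInstance : (FibCat.overCat (Over.mk s)).p.IsHomLift
        (𝟙 (Over.mk s) ≫ 𝟙 (Over.mk s)) ((appIso i (Over.mk q)).hom ≫ m))
    exact BasedFunctor.preserves_isHomLift g _ _
  refine ⟨O.obj.snd, O.obj.iso.inv ≫ g.map ((appIso i (Over.mk q)).hom ≫ m) ≫ (ofObjIso hy).hom,
    (f.w_obj _).symm.trans (IsHomLift.codomain_eq 𝒴.p (𝟙 (Over.mk s)) O.obj.iso.hom), ?_⟩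
  simpa using (inferInstance : 𝒴.p.IsHomLift (𝟙 (Over.mk s) ≫ 𝟙 (Over.mk s) ≫ 𝟙 (Over.mk s))
    (O.obj.iso.inv ≫ g.map ((appIso i (Over.mk q)).hom ≫ m) ≫ (ofObjIso hy).hom))

end Groth.Agent.S12833
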