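import Groth.Statements.S12834
import Groth.Agent.Lib.StAlg16.SpectralPoints

set_option autoImplicit false
universe u
open CategoryTheory AlgebraicGeometry
open AlgSt

namespace Groth.Agent.S12834
set_option linter.style.haveILetI false
set_option backward.isDefEq.respectTransparency false
set_option backward.isDefEq.respectTransparency.types false
open Groth.Agent.StAlg16 Groth.Agent.FC16 Groth.Agent.StAlg in


/-- Let `𝒳` be a quasi-compact algebraic stack over `S` whose diagonal is quasi-compact. Then `|𝒳|` is a
spectral space. Here the diagonal is `𝒳 ⟶ 𝒳 ×_S 𝒳` over the base and `S` is taken quasi-separated,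
under which this is the same condition as quasi-compactness of the absolute diagonal used in the
published statement; for a base that is not quasi-separated the relative condition is too weak (take
`𝒳 = S` quasi-compact and not quasi-separated). -/
theorem result {S : Scheme.{u}} [QuasiSeparatedSpace S]
    {𝒳 : AlgSt.Cat S} (h𝒳 : AlgSt.IsAlgStack Scheme.fppfPrecoverage 𝒳) (hqc : AlgSt.IsQuasiCompact 𝒳)
    (hΔ : AlgSt.RepByAlgSpWith AlgSp.IsQuasiCompactMor (FibCat.diag (FibCat.toSelf 𝒳))) :
    SpectralSpace (AlgSt.Points 𝒳) := by
  obtain ⟨U, x, hU, hsm, hs⟩ := hqc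
  haveI := hU
  have ho := isOpenMap_ofChart h𝒳.isStack.1 (with_locP_mono smooth_le_flat hsm) (with_locP_mono smooth_le_lfp hsm)
  haveI := spectralSpace_range_ofChart h𝒳 hΔ x ho
  have he : Set.range (AlgSt.Points.ofChart x) = Set.univ := (surjective_ofChart h𝒳.isStack.1 hs).range_eq
  haveI : CompactSpace (AlgSt.Points 𝒳) := compactSpace_of_chart h𝒳 x (surjective_ofChart h𝒳.isStack.1 hs)
  exact ((Homeomorph.Set.univ _).symm.trans (Homeomorph.setCongr he.symm)).isOpenEmbedding.spectralSpace

end Groth.Agent.S12834
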