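import Groth.Statements.S12837
import Groth.Agent.Lib.TorsorSch25.Transfer

set_option autoImplicit false
universe u
open CategoryTheory AlgebraicGeometry
open NonAbH1

namespace Groth.Agent.S12837

open MonObj

/-- Let `G` be a group scheme over `S` which is flat and locally of finite presentation over `S`, acting
on an `S`-scheme `X`. If `X` is a principal homogeneous space under `G` — a pseudo-torsor which
acquires sections on the members of some fpqc covering family of `S` — then `X` is a `G`-torsor for
the fppf topology: it acquires sections on the members of some fppf covering family of `S`. (The
published statement is the equivalence of the stack of fppf torsors with the stack of principal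
homogeneous spaces for a group algebraic space `G` flat and locally of finite presentation over an
algebraic space `B`, torsors being algebraic spaces; this row is its content for `B = S`, `G` a
scheme and a torsor that is a scheme, the other inclusion being the comparison of the two
topologies.) -/
theorem result {S : Scheme.{u}}
    (G X : Over S) [GrpObj G] [Flat G.hom] [LocallyOfFinitePresentation G.hom] (a : AlgGrp.Action G X)
    (h : NonAbH1.IsTorsorFor Scheme.fpqcPrecoverage a) :
    NonAbH1.IsTorsorFor Scheme.fppfPrecoverage a := by
  haveI : Surjective G.hom := ⟨fun s => ⟨η[G].left s, by
    rw [← Scheme.Hom.comp_apply, Over.w η[G]]; rfl⟩⟩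
  haveI := TorsorSch25.flat_descendsAlong.{u}
  haveI : Flat X.hom := TorsorSch25.prop_of_isTorsorFor @Flat h inferInstance
  haveI : LocallyOfFinitePresentation X.hom := TorsorSch25.prop_of_isTorsorFor @LocallyOfFinitePresentation h inferInstance
  haveI : Surjective X.hom := TorsorSch25.prop_of_isTorsorFor @Surjective h inferInstance
  refine ⟨h.1, _, X.hom.singleton_mem_fppfPrecoverage, ?_⟩
  rintro S' f ⟨⟩
  exact ⟨𝟙 _, Category.id_comp _⟩

end Groth.Agent.S12837
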