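import Groth.Statements.S12838
import Groth.Agent.Lib.Quot16.Basic

set_option autoImplicit false
universe u
open CategoryTheory AlgebraicGeometry
open AlgSt

namespace Groth.Agent.S12838
set_option linter.style.haveILetI false
set_option backward.isDefEq.respectTransparency false
set_option backward.isDefEq.respectTransparency.types false


open MonoidalCategory CartesianMonoidalCategory MonObj GrpObj in
/-- Let `G` be a group scheme over `S` acting on an `S`-scheme `X`, `f : T ⟶ T'` a morphism of
`S`-schemes, `x` a `T`-point and `x'` a `T'`-point of `X`. In the quotient category `[X/G]` (scheme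
torsors for the fppf topology with an equivariant morphism to `X`) the canonical functor `X ⟶ [X/G]`
sends `x` to the trivial torsor `G ×_S T ⟶ T`, with `G` acting by left multiplication on the first
factor and the equivariant morphism `(h, t) ↦ h · x(t)`, and likewise for `x'`. The morphisms from
the image of `x` to the image of `x'` lying over `f` are exactly the maps `(h, t) ↦ (h · g(t),
f(t))` for those `T`-points `g` of `G` with `g · (x' ∘ f) = x`: every morphism over `f` is of this
form, and every such `g` defines one. -/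
theorem result (S : Scheme.{u}) (G : Over S) [GrpObj G] (X : Over S)
    (aX : AlgGrp.Action G X) (T T' : Over S) (f : T ⟶ T') (x : T ⟶ X) (x' : T' ⟶ X) :
    (∀ h : (AlgSt.quotMap Scheme.fppfPrecoverage G aX).obj ((AlgSt.ofOverCat X).obj (Over.mk x)) ⟶ (AlgSt.quotMap Scheme.fppfPrecoverage G aX).obj ((AlgSt.ofOverCat X).obj (Over.mk x')),
        h.base = f → ∃ g : T ⟶ G, lift g (f ≫ x') ≫ aX.act = x ∧
          h.top = lift (fst G T * (snd G T ≫ g)) (snd G T ≫ f)) ∧
    (∀ g : T ⟶ G, lift g (f ≫ x') ≫ aX.act = x →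
        ∃ h : (AlgSt.quotMap Scheme.fppfPrecoverage G aX).obj ((AlgSt.ofOverCat X).obj (Over.mk x)) ⟶ (AlgSt.quotMap Scheme.fppfPrecoverage G aX).obj ((AlgSt.ofOverCat X).obj (Over.mk x')),
          h.base = f ∧ h.top = lift (fst G T * (snd G T ≫ g)) (snd G T ≫ f)) := by
  haveI : Scheme.fppfPrecoverage.{u}.HasIsos := inferInstance
  let A := Groth.Agent.Quot16.triv Scheme.fppfPrecoverage aX x'
  have key : ∀ (g : T ⟶ G), (G ◁ lift g f) ≫ (AlgSt.leftMul G T').act =
      lift (fst G T * (snd G T ≫ g)) (snd G T ≫ f) := fun g => by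
    apply CartesianMonoidalCategory.hom_ext <;>
      simp [AlgSt.leftMul, comp_mul]
  have hφ : ∀ (g : T ⟶ G), lift g f ≫ A.φ = lift g (f ≫ x') ≫ aX.act := fun g => by
    show lift g f ≫ (G ◁ x') ≫ aX.act = _
    rw [← Category.assoc, lift_whiskerLeft]
  refine ⟨fun h hb => ?_, fun g hg => ⟨Groth.Agent.Quot16.homOfPt A (lift g f) ((hφ g).trans hg),
    lift_snd _ _, key g⟩⟩
  obtain ⟨σ, hσ⟩ : ∃ σ : T ⟶ G ⊗ T', σ = Groth.Agent.Quot16.sec h := ⟨_, rfl⟩
  have hπ : σ ≫ snd G T' = f := by rw [hσ]; exact (Groth.Agent.Quot16.sec_π h).trans hb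
  have hs : σ = lift (σ ≫ fst G T') f := by
    apply CartesianMonoidalCategory.hom_ext
    · rw [lift_fst]
    · rw [lift_snd, hπ]
  have h1 : σ ≫ A.φ = x := hσ ▸ Groth.Agent.Quot16.sec_φ h
  have h2 : h.top = (G ◁ σ) ≫ (AlgSt.leftMul G T').act := hσ ▸ Groth.Agent.Quot16.top_eq h
  refine ⟨σ ≫ fst G T', ?_, ?_⟩
  · rw [← hφ, ← hs, h1]
  · rw [← key, ← hs, h2]

end Groth.Agent.S12838
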