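import Groth.Statements.S12840
import Groth.Agent.Lib.StAlg16.Mono

set_option autoImplicit false
open CategoryTheory AlgebraicGeometry
universe u
open AlgSt

namespace Groth.Agent.S12840
set_option linter.style.haveILetI false
set_option backward.isDefEq.respectTransparency false
set_option backward.isDefEq.respectTransparency.types false


/-- (2) ⇒ (1): a 1-morphism `f : 𝒳 ⟶ 𝒴` of algebraic stacks over `S` which is fully faithful (its
underlying functor is full and faithful) is a monomorphism, i.e. representable by algebraic spaces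
with every base change to a scheme a monomorphism of algebraic spaces. -/
theorem result {S : Scheme.{u}} {𝒳 𝒴 : AlgSt.Cat S}
    (h𝒳 : AlgSt.IsAlgStack Scheme.fppfPrecoverage 𝒳) (h𝒴 : AlgSt.IsAlgStack Scheme.fppfPrecoverage 𝒴)
    (f : 𝒳 ⥤ᵇ 𝒴) [f.toFunctor.Full] [f.toFunctor.Faithful] : AlgSt.IsMono f := by
  exact StAlg16.isMono_of_fullyFaithful h𝒳 h𝒴 f

end Groth.Agent.S12840
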