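import Groth.Statements.S12841
import Groth.Agent.Lib.StAlg16.Cover
import Groth.Agent.Lib.StAlg16.Setoid
import Groth.Agent.Lib.AlgSpDescent.RepBase2

set_option autoImplicit false
open CategoryTheory AlgebraicGeometry
universe u
open AlgSt

namespace Groth.Agent.S12841
set_option linter.style.haveILetI false
set_option backward.isDefEq.respectTransparency false
set_option backward.isDefEq.respectTransparency.types false


/-- (1) ⇔ (4): let `f : 𝒳 ⟶ 𝒴` be a 1-morphism of algebraic stacks over `S`, `W` an algebraic space over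
`S` and `w : W ⟶ 𝒴` surjective, flat and locally of finite presentation. Then `f` is a monomorphism
if and only if `W ×_𝒴 𝒳` is an algebraic space `V` and the projection `V ⟶ W` is a monomorphism of
algebraic spaces. The projection is named through an equivalence `e` over `(Sch/S)` from the
category of `V` to the 2-fibre product whose composite with the first projection is 2-isomorphic to
the functor of a morphism `a : V ⟶ W`; being a monomorphism does not depend on these choices. -/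
theorem result {S : Scheme.{u}} {𝒳 𝒴 : AlgSt.Cat S}
    (h𝒳 : AlgSt.IsAlgStack Scheme.fppfPrecoverage 𝒳) (h𝒴 : AlgSt.IsAlgStack Scheme.fppfPrecoverage 𝒴)
    (f : 𝒳 ⥤ᵇ 𝒴) (W : AlgSp.Space S) (w : AlgSt.ofSp W.obj ⥤ᵇ 𝒴)
    (hw₁ : AlgSt.RepByAlgSpWith (AlgSp.LocP @Flat) w)
    (hw₂ : AlgSt.RepByAlgSpWith (AlgSp.LocP @LocallyOfFinitePresentation) w)
    (hw₃ : AlgSt.RepByAlgSpWith AlgSp.IsSurjectiveMor w) :
    AlgSt.IsMono f ↔
      ∃ (V : AlgSp.Space S) (a : V ⟶ W) (e : AlgSt.ofSp V.obj ⥤ᵇ FibCat.fp w f),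
        FibCat.IsEquivOver e ∧
          Nonempty (BasedFunctor.comp e (FibCat.fpFst w f) ≅ AlgSt.ofSpMap a.hom) ∧ Mono a.hom := by
  have hP := Groth.Agent.StAlg.isLocalOnBase_fppf_of_fpqc (Groth.Agent.AlgSpDescent.isLocalOnBase_fpqc_monomorphisms (S := S))
  have hPb : Groth.Agent.StAlg.PbP (S := S) _ := Groth.Agent.StAlg.pbP_mono
  constructor
  · exact fun h => Groth.Agent.StAlg.exists_baseChange_space hPb hP h𝒳.isStack.1 h𝒴.isStack.1 h W w
  · rintro ⟨V, a, e, he, i, ha⟩
    haveI := Groth.Agent.StAlg16.faithful_of_isFibSetoid_fp h𝒳.isStack h𝒴.isStack.1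
      (Groth.Agent.StAlg.isStack_ofSp W.obj).1 f hw₁ hw₂ hw₃
      (Groth.Agent.StAlg.isFibSetoid_of_rep ⟨V, e, he⟩)
    exact (Groth.Agent.StAlg.with_iff_baseChange_cover hPb hP h𝒳.isStack.1 h𝒴.isStack.1
      (Groth.Agent.StAlg16.rep1_of_faithful h𝒳 h𝒴 f) W w hw₁ hw₂ hw₃).2 ⟨V, a, e, he, i, ha⟩

end Groth.Agent.S12841
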