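import Groth.Statements.S6399
import Groth.Agent.Lib.FC16.Fp

set_option autoImplicit false
open CategoryTheory
universe v u
open FibCat

namespace Groth.Agent.S6399
open CategoryTheory.Functor Groth.Agent.FC16
set_option linter.style.haveILetI false
set_option linter.unusedVariables false
set_option backward.isDefEq.respectTransparency false
set_option backward.isDefEq.respectTransparency.types false


/-- A functor `G : 𝒳 ⟶ 𝒴` over `C` between categories fibred in groupoids is fully faithful if and only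
if the diagonal `𝒳 ⟶ 𝒳 ×_𝒴 𝒳` is an equivalence over `C`. -/
theorem result {C : Type u} [Category.{v} C] {𝒳 𝒴 : BasedCategory.{v, max u v} C} (G : 𝒳 ⥤ᵇ 𝒴) (h𝒳 : FibCat.IsFibGrpd 𝒳.p) (h𝒴 : FibCat.IsFibGrpd 𝒴.p) :
    (G.toFunctor.Full ∧ G.toFunctor.Faithful) ↔ FibCat.IsEquivOver (FibCat.diag G) := by
  haveI := Groth.Agent.FC16.isFibered h𝒳
  constructor
  · rintro ⟨_, _⟩
    haveI : (FibCat.diag G).toFunctor.Faithful := ⟨fun h => congrArg (fun t => t.hom.fst) h⟩
    haveI : (FibCat.diag G).toFunctor.Full := ⟨fun {x y} φ => by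
      refine ⟨φ.hom.fst, fp_hom_ext rfl (G.toFunctor.map_injective ?_)⟩
      have w : G.map φ.hom.fst ≫ 𝟙 _ = 𝟙 _ ≫ G.map φ.hom.snd := fp_w φ
      exact (Category.comp_id _).symm.trans (w.trans (Category.id_comp _))⟩
    refine isEquivOver_of _ fun η => ?_
    haveI := iso_lift η (fst_p η)
    haveI hd : 𝒳.p.IsHomLift (𝟙 ((FibCat.fp G G).p.obj η)) (G.toFunctor.preimageIso η.obj.iso).hom := by
      haveI : 𝒴.p.IsHomLift (𝟙 ((FibCat.fp G G).p.obj η))
          (G.map (G.toFunctor.preimageIso η.obj.iso).hom) := by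
        rw [Functor.preimageIso_hom, Functor.map_preimage]; infer_instance
      exact BasedFunctor.isHomLift_map G _ _
    refine ⟨η.obj.fst, fpIsoMk (Iso.refl _) (G.toFunctor.preimageIso η.obj.iso) ?_,
      @isHomLift_of_fst _ _ _ _ _ _ _ _ _ _ _ _ _ (IsHomLift.id (fst_p η))⟩
    show G.map (𝟙 _) ≫ η.obj.iso.hom = 𝟙 _ ≫ G.map (G.toFunctor.preimage η.obj.iso.hom)
    rw [Functor.map_preimage, Functor.map_id]
  · intro h
    have := isEquivalence_of_isEquivOver h
    have hf : G.toFunctor.Faithful := ⟨fun {x y a b} e => by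
      let φ : (FibCat.diag G).obj x ⟶ (FibCat.diag G).obj y := fpHom a b (by
        show G.map a ≫ 𝟙 _ = 𝟙 _ ≫ G.map b
        exact (Category.comp_id _).trans (e.trans (Category.id_comp _).symm))
      obtain ⟨m, hm⟩ := (FibCat.diag G).toFunctor.map_surjective φ
      exact (congrArg (fun t => t.hom.fst) hm).symm.trans (congrArg (fun t => t.hom.snd) hm)⟩
    refine ⟨full_of_fib (presCart_of_isFibGrpd h𝒴 G) fun U a b g hg => ?_, hf⟩
    haveI := hg
    haveI := isIso_of_isHomLift h𝒴 (𝟙 U) g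
    have ha : 𝒳.p.obj a = U := (G.w_obj a).symm.trans (IsHomLift.domain_eq 𝒴.p (𝟙 U) g)
    obtain ⟨z, d, hd⟩ := essSurjOver_of_isEquivOver h
      (fpObj (F := G) (G := G) a b (asIso g) ha hg)
    let d1 := (FibCat.fpFst G G).toFunctor.mapIso d
    let d2 := (FibCat.fpSnd G G).toFunctor.mapIso d
    have w : G.map d.hom.hom.fst ≫ g = 𝟙 _ ≫ G.map d.hom.hom.snd := fp_w d.hom
    have e : G.map (d1.inv ≫ d2.hom) = g := by
      rw [Functor.map_comp]
      show (G.toFunctor.mapIso d1).inv ≫ G.map d2.hom = g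
      rw [Iso.inv_comp_eq]
      exact ((Category.id_comp _).symm.trans w.symm)
    refine ⟨d1.inv ≫ d2.hom, ?_, e⟩
    haveI : 𝒴.p.IsHomLift (𝟙 U) (G.map (d1.inv ≫ d2.hom)) := by rw [e]; infer_instance
    exact BasedFunctor.isHomLift_map G _ _

end Groth.Agent.S6399
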