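import Groth.Statements.S12848
import Groth.Agent.Lib.StAlg16.UnivInj
import Groth.Agent.Lib.StAlg16.Mono
import Groth.Agent.S6399

set_option autoImplicit false
open CategoryTheory AlgebraicGeometry
universe u
open AlgSt

namespace Groth.Agent.S12848
set_option linter.style.haveILetI false
set_option backward.isDefEq.respectTransparency false
set_option backward.isDefEq.respectTransparency.types false


/-- A monomorphism `f : 𝒳 ⟶ 𝒴` of algebraic stacks over `S` induces an injective map `|𝒳| → |𝒴|` on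
points. -/
theorem result {S : Scheme.{u}} {𝒳 𝒴 : AlgSt.Cat S}
    (h𝒳 : AlgSt.IsAlgStack Scheme.fppfPrecoverage 𝒳) (h𝒴 : AlgSt.IsAlgStack Scheme.fppfPrecoverage 𝒴) (f : 𝒳 ⥤ᵇ 𝒴) (hf : AlgSt.IsMono f) :
    Function.Injective (AlgSt.Points.map f) := by
  have h := (S6399.result f h𝒳.isStack.1 h𝒴.isStack.1).1
    (StAlg16.fullyFaithful_of_isMono h𝒳.isStack.1 h𝒴.isStack.1 f hf)
  have hui := StAlg16.isUnivInjective_of_isSurjective_diag h𝒳.isStack.1 h𝒴.isStack.1 (f := f)
    (StAlg16.map_bijective h).2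
  intro a b e
  obtain ⟨u, hu, hu'⟩ := StAlg16.exists_fp_point h𝒳.isStack.1 h𝒴.isStack.1 h𝒴.isStack.1 f (BasedFunctor.id 𝒴)
    (AlgSt.Points.map f a) a (StAlg16.map_id_apply _)
  obtain ⟨v, hv, hv'⟩ := StAlg16.exists_fp_point h𝒳.isStack.1 h𝒴.isStack.1 h𝒴.isStack.1 f (BasedFunctor.id 𝒴)
    (AlgSt.Points.map f b) b (StAlg16.map_id_apply _)
  have := hui 𝒴 h𝒴 (BasedFunctor.id 𝒴) (hu.trans (e.trans hv.symm))
  rw [← hu', ← hv', this]

end Groth.Agent.S12848
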