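import Groth.Statements.S12851
import Groth.Agent.Lib.StAlg16.SourceLocal

set_option autoImplicit false
open CategoryTheory AlgebraicGeometry
universe u
open AlgSt

namespace Groth.Agent.S12851
set_option linter.style.haveILetI false
set_option backward.isDefEq.respectTransparency false
set_option backward.isDefEq.respectTransparency.types false


/-- Let `P` be a property of morphisms of algebraic spaces over `S` which is stable under base change,
fppf local on the base and local on the source in the fppf topology; let `x : 𝒳 ⟶ 𝒴` and `y : 𝒴 ⟶ 𝒵`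
be 1-morphisms of algebraic stacks over `S` representable by algebraic spaces with `x` surjective
and flat and locally of finite presentation. If `y ∘ x` has `P` then `y` has `P`. (Stability under
base change is asked for every pullback square of fppf sheaves whose four corners are algebraic
spaces.) -/
theorem result {S : Scheme.{u}} {𝒳 𝒴 𝒵 : AlgSt.Cat S}
    (h𝒳 : AlgSt.IsAlgStack Scheme.fppfPrecoverage 𝒳) (h𝒴 : AlgSt.IsAlgStack Scheme.fppfPrecoverage 𝒴) (h𝒵 : AlgSt.IsAlgStack Scheme.fppfPrecoverage 𝒵)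
    (P : MorphismProperty (AlgSp.Sp S))
    (hPb : ∀ ⦃X₁ Y₁ X₂ Y₂ : AlgSp.Sp S⦄, AlgSp.IsAlgSpace X₁ → AlgSp.IsAlgSpace Y₁ → AlgSp.IsAlgSpace X₂ →
      AlgSp.IsAlgSpace Y₂ → ∀ (a : X₁ ⟶ Y₁) (b : Y₂ ⟶ Y₁) (a' : X₂ ⟶ Y₂) (b' : X₂ ⟶ X₁),
      IsPullback b' a' a b → P a → P a')
    (hP : AlgSp.IsLocalOnBase AlgSp.IsFppfCover P) (hP' : AlgSp.IsLocalOnSource AlgSp.IsFppfCover P)
    (x : 𝒳 ⥤ᵇ 𝒴) (y : 𝒴 ⥤ᵇ 𝒵) (hy : AlgSt.RepByAlgSp1 y)
    (hx₁ : AlgSt.RepByAlgSpWith (AlgSp.LocP @Flat) x)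
    (hx₂ : AlgSt.RepByAlgSpWith (AlgSp.LocP @LocallyOfFinitePresentation) x)
    (hx₃ : AlgSt.RepByAlgSpWith AlgSp.IsSurjectiveMor x)
    (h : AlgSt.RepByAlgSpWith P (BasedFunctor.comp x y)) : AlgSt.RepByAlgSpWith P y := by
  refine Groth.Agent.StAlg16.with_of_comp_of_source (C := ![AlgSp.LocP @Flat, AlgSp.LocP @LocallyOfFinitePresentation, AlgSp.IsSurjectiveMor]) hPb
    (fun k => by fin_cases k <;> first | exact Groth.Agent.StAlg.goodP_locP | exact Groth.Agent.StAlg.goodP_surjective) (fun X Y Z hX hY hZ b a hb hba => ?_)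
    h𝒳.isStack.1 h𝒴.isStack.1 h𝒵.isStack.1 hy (Groth.Agent.StAlg.repByAlgSp1_of_with hx₁)
    (fun k => by fin_cases k <;> first | exact hx₁ | exact hx₂ | exact hx₃) h
  exact (hP' (ι := PUnit.{u + 1}) (fun _ => X) (fun _ => b) hY (fun _ => hX)
    ⟨fun _ => ⟨hb 0, hb 1⟩, fun p => ⟨PUnit.unit, hb 2 p⟩⟩ a hZ).2 (fun _ => hba)

end Groth.Agent.S12851
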