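import Groth.Statements.S12868
import Groth.Agent.Lib.StAlg.Apps

set_option autoImplicit false
open CategoryTheory AlgebraicGeometry
universe u
open AlgSt

namespace Groth.Agent.S12868
set_option linter.style.haveILetI false
set_option backward.isDefEq.respectTransparency false
set_option backward.isDefEq.respectTransparency.types false


/-- An immersion `f : 𝒳 ⟶ 𝒴` (representable by algebraic spaces, with every base change to a scheme a
representable immersion) is a monomorphism. (The published statement is about algebraic stacks; this
row holds for arbitrary categories over `(Sch/S)`.) -/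
theorem result {S : Scheme.{u}} {𝒳 𝒴 : AlgSt.Cat S} (f : 𝒳 ⥤ᵇ 𝒴)
    (hf : AlgSt.IsImm f) : AlgSt.IsMono f := by
  exact Groth.Agent.StAlg.isMono_of_isImm hf

end Groth.Agent.S12868
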