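import Groth.Statements.S1287
import Groth.Agent.Lib.Dev4.StrictTransformGeneric

set_option autoImplicit false
universe u
open FlatMor
set_option maxSynthPendingDepth 3

set_option backward.isDefEq.respectTransparency.types false

namespace Groth.Agent.S1287



open TensorProduct

/-- Replace `M` by a finitely presented module with the same localisation away from `s`. -/
theorem exists_fp_cover {S : Type u} [CommRing S] (M : Type u) [AddCommGroup M] [Module S M] [Module.Finite S M] (s : S)
    (hfp : Module.FinitePresentation (Localization.Away s) (LocalizedModule (Submonoid.powers s) M)) :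
    ∃ (M₀ : Type u) (_ : AddCommGroup M₀) (_ : Module S M₀) (_ : Module.FinitePresentation S M₀) (π : M₀ →ₗ[S] M),
      Function.Surjective π ∧ ∀ y, π y = 0 → ∃ N : ℕ, s ^ N • y = 0 := by
  classical
  obtain ⟨n, π, hπ⟩ := Module.Finite.exists_fin' S M
  let T := Submonoid.powers s
  let L := Localization.Away s
  let πL : LocalizedModule T (Fin n → S) →ₗ[L] LocalizedModule T M := LocalizedModule.map T π
  haveI : Module.Finite L (LocalizedModule T (Fin n → S)) :=
    Module.Finite.of_isLocalizedModule T (LocalizedModule.mkLinearMap T (Fin n → S))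
  haveI := hfp
  obtain ⟨gens, hgens⟩ := Module.FinitePresentation.fg_ker πL (LocalizedModule.map_surjective T π hπ)
  have hlift : ∀ y : gens, ∃ (k : Fin n → S) (t : T), π k = 0 ∧ t • (y : LocalizedModule T (Fin n → S)) =
      LocalizedModule.mkLinearMap T (Fin n → S) k := by
    intro y
    have hy : πL y = 0 := LinearMap.mem_ker.1 (hgens.le (Submodule.subset_span y.2))
    obtain ⟨⟨k, t⟩, hk⟩ := IsLocalizedModule.surj T (LocalizedModule.mkLinearMap T (Fin n → S)) (y : LocalizedModule T _)
    have h1 : LocalizedModule.mkLinearMap T M (π k) = 0 := by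
      have := congrArg πL hk
      rw [Submonoid.smul_def, LinearMap.map_smul_of_tower, hy, smul_zero] at this
      rw [this]
      exact (LocalizedModule.map_mk T π k 1).symm
    obtain ⟨u, hu⟩ := (IsLocalizedModule.eq_zero_iff T (LocalizedModule.mkLinearMap T M)).1 h1
    refine ⟨u • k, u * t, by rw [LinearMap.map_smul_of_tower, hu], ?_⟩
    rw [mul_smul, hk, LinearMap.map_smul_of_tower]
  choose k t hk0 hk using hlift
  let K₀ : Submodule S (Fin n → S) := Submodule.span S (Set.range k)
  have hK : K₀ ≤ LinearMap.ker π := Submodule.span_le.2 (by rintro _ ⟨y, rfl⟩; exact hk0 y)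
  refine ⟨(Fin n → S) ⧸ K₀, inferInstance, inferInstance,
    Module.finitePresentation_of_surjective K₀.mkQ K₀.mkQ_surjective ?_, K₀.liftQ π hK,
    fun m => (hπ m).elim fun v hv => ⟨Submodule.Quotient.mk v, hv⟩, fun y hy => ?_⟩
  · rw [Submodule.ker_mkQ]; exact ⟨Finset.univ.image k, by simp [K₀]⟩
  · obtain ⟨v, rfl⟩ := K₀.mkQ_surjective y
    have hv : πL (LocalizedModule.mkLinearMap T (Fin n → S) v) = 0 := by
      have hv0 : π v = 0 := hy
      rw [LocalizedModule.mkLinearMap_apply]
      show LocalizedModule.map T π _ = 0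
      rw [LocalizedModule.map_mk, hv0]
      exact LocalizedModule.zero_mk 1
    rw [← LinearMap.mem_ker, ← hgens] at hv
    have key : ∀ z ∈ Submodule.span L (gens : Set (LocalizedModule T (Fin n → S))),
        ∃ (u : T) (w : Fin n → S), w ∈ K₀ ∧ u • z = LocalizedModule.mkLinearMap T (Fin n → S) w := by
      intro z hz
      induction hz using Submodule.span_induction with
      | mem z hz => exact ⟨t ⟨z, hz⟩, k ⟨z, hz⟩, Submodule.subset_span ⟨_, rfl⟩, hk ⟨z, hz⟩⟩
      | zero => exact ⟨1, 0, zero_mem _, by simp⟩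
      | add a b _ _ ha hb =>
        obtain ⟨ua, wa, hwa, ha⟩ := ha
        obtain ⟨ub, wb, hwb, hb⟩ := hb
        refine ⟨ub * ua, ub • wa + ua • wb, add_mem (K₀.smul_mem _ hwa) (K₀.smul_mem _ hwb), ?_⟩
        rw [smul_add, map_add, LinearMap.map_smul_of_tower, LinearMap.map_smul_of_tower, ← ha, ← hb, mul_smul,
          smul_smul ua ub, mul_comm ua ub, mul_smul]
      | smul c a _ ha =>
        obtain ⟨ua, wa, hwa, ha⟩ := ha
        obtain ⟨⟨x, uc⟩, hc⟩ := IsLocalization.surj T c
        refine ⟨uc * ua, x • wa, K₀.smul_mem _ hwa, ?_⟩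
        rw [map_smul, ← ha, Submonoid.smul_def, Submonoid.smul_def, ← algebraMap_smul L ((uc * ua : T) : S) (c • a),
          ← algebraMap_smul L x ((ua : S) • a), ← algebraMap_smul L (ua : S) a, smul_smul, smul_smul, Submonoid.coe_mul,
          map_mul, ← hc]
        congr 1
        ring
    obtain ⟨u, w, hw, hvw⟩ := key _ hv
    rw [Submonoid.smul_def, ← map_smul] at hvw
    obtain ⟨u', hu'⟩ := (IsLocalizedModule.eq_iff_exists T (LocalizedModule.mkLinearMap T (Fin n → S))).1 hvw
    obtain ⟨N, hN⟩ : (u' : S) * (u : S) ∈ T := T.mul_mem u'.2 u.2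
    refine ⟨N, ?_⟩
    rw [show s ^ N = (u' : S) * (u : S) from hN, ← map_smul, Submodule.mkQ_apply, Submodule.Quotient.mk_eq_zero,
      mul_smul]
    rw [Submonoid.smul_def, Submonoid.smul_def] at hu'
    rw [hu']
    exact K₀.smul_mem _ hw

/-- Localising a surjection with torsion kernel. -/
theorem localized_bijective {S : Type u} [CommRing S] {M N : Type u} [AddCommGroup M] [Module S M] [AddCommGroup N]
    [Module S N] (T : Submonoid S) (π : M →ₗ[S] N) (hπ : Function.Surjective π) {s : S} (hs : s ∈ T)
    (hker : ∀ y, π y = 0 → ∃ n : ℕ, s ^ n • y = 0) : Function.Bijective (LocalizedModule.map T π) := by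
  refine ⟨?_, LocalizedModule.map_surjective T π hπ⟩
  rw [injective_iff_map_eq_zero]
  intro z hz
  induction z using LocalizedModule.induction_on with | _ y u => ?_
  rw [LocalizedModule.map_mk, IsLocalizedModule.mk_eq_mk', IsLocalizedModule.mk'_eq_zero'] at hz
  rw [IsLocalizedModule.mk_eq_mk', IsLocalizedModule.mk'_eq_zero']
  obtain ⟨⟨v, hv⟩, hv0⟩ := hz
  rw [Submonoid.smul_def] at hv0
  obtain ⟨n, hn⟩ := hker (v • y) (by rw [map_smul]; exact hv0)
  exact ⟨⟨s ^ n * v, T.mul_mem (pow_mem hs n) hv⟩, by rw [Submonoid.smul_def, mul_smul, hn]⟩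

/-- Quotients by power torsion do not see a torsion kernel. -/
theorem exists_quotient_powTorsion_equiv {S : Type u} [CommRing S] (x : S) {M N : Type u} [AddCommGroup M] [Module S M]
    [AddCommGroup N] [Module S N] (Φ : M →ₗ[S] N) (hΦ : Function.Surjective Φ)
    (hker : LinearMap.ker Φ ≤ FlatCA.powTorsion S x M) :
    Nonempty ((M ⧸ FlatCA.powTorsion S x M) ≃ₗ[S] (N ⧸ FlatCA.powTorsion S x N)) := by
  let ψ := (FlatCA.powTorsion S x N).mkQ.comp Φ
  have hψ : LinearMap.ker ψ = FlatCA.powTorsion S x M := by
    ext y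
    simp only [ψ, LinearMap.ker_comp, Submodule.ker_mkQ, Submodule.mem_comap, Dev4.mem_powTorsion_iff]
    constructor
    · rintro ⟨n, hn⟩
      obtain ⟨m, hm⟩ := (Dev4.mem_powTorsion_iff x _).1 (hker (show x ^ n • y ∈ LinearMap.ker Φ by simpa using hn))
      exact ⟨m + n, by rw [pow_add, mul_smul, hm]⟩
    · rintro ⟨n, hn⟩
      exact ⟨n, by rw [← map_smul, hn, map_zero]⟩
  exact ⟨(Submodule.quotEquivOfEq _ _ hψ.symm).trans
    (LinearMap.quotKerEquivOfSurjective ψ ((Submodule.mkQ_surjective _).comp hΦ))⟩

/-- Base change of a torsion kernel. -/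
theorem ker_baseChange_le {S S' : Type u} [CommRing S] [CommRing S'] [Algebra S S'] {M N : Type u} [AddCommGroup M]
    [Module S M] [AddCommGroup N] [Module S N] (π : M →ₗ[S] N) (hπ : Function.Surjective π) (s : S) (x w : S')
    (hx : x = algebraMap S S' s * w) (hker : ∀ y, π y = 0 → ∃ n : ℕ, s ^ n • y = 0) :
    LinearMap.ker (π.baseChange S') ≤ FlatCA.powTorsion S' x (S' ⊗[S] M) := by
  intro v hv
  have hex := lTensor_exact (f := (LinearMap.ker π).subtype) (g := π) S'
    (LinearMap.exact_subtype_ker_map π) hπ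
  obtain ⟨v, rfl⟩ := (hex v).1 hv
  induction v using TensorProduct.induction_on with
  | zero => rw [map_zero]; exact zero_mem _
  | add a b ha hb => rw [map_add]; exact add_mem (ha (by exact (hex _).2 ⟨_, rfl⟩)) (hb (by exact (hex _).2 ⟨_, rfl⟩))
  | tmul c k =>
    obtain ⟨n, hn⟩ := hker k.1 k.2
    refine (Dev4.mem_powTorsion_iff x _).2 ⟨n, ?_⟩
    rw [LinearMap.lTensor_tmul, Submodule.subtype_apply, TensorProduct.smul_tmul', hx, mul_pow, ← map_pow, smul_eq_mul,
      mul_assoc, ← Algebra.smul_def, TensorProduct.smul_tmul, hn, TensorProduct.tmul_zero]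

open TensorProduct in
/-- Let R be a ring, f ∈ R, r ≥ 0, S a finitely presented flat R-algebra all of whose fibre rings are
geometrically integral, and M a finite S-module such that M_f is finitely presented over S_f and
such that for every prime p of R not containing f, with q = pS, the localization M_q is free of rank
r over S_q. Then there is a finitely generated ideal I of R with V(I) = V(f) such that for every a ∈
I, writing R' = R[I/a] for the affine blow-up algebra, S' = S ⊗_R R' and M' for the base change of M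
to S' modulo its a-power torsion (any models of the base change): for every prime p' of R' there is
g ∈ S' outside p'S' with M'_g free of rank r over S'_g. -/
theorem result {R S : Type u} [CommRing R] [CommRing S] [Algebra R S] [Algebra.FinitePresentation R S] [Module.Flat R S]
    (hgi : FlatCA.GeomIntegralFibres R S) (f : R) (r : ℕ)
    (M : Type u) [AddCommGroup M] [Module S M] [Module R M] [IsScalarTower R S M] [Module.Finite S M]
    (hfp : Module.FinitePresentation (Localization.Away (algebraMap R S f)) (LocalizedModule (Submonoid.powers (algebraMap R S f)) M))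
    (hfree : ∀ (p : Ideal R) [p.IsPrime] [(p.map (algebraMap R S)).IsPrime], f ∉ p →
      Module.Free (Localization.AtPrime (p.map (algebraMap R S))) (LocalizedModule (p.map (algebraMap R S)).primeCompl M) ∧
      Module.rank (Localization.AtPrime (p.map (algebraMap R S))) (LocalizedModule (p.map (algebraMap R S)).primeCompl M) = r) :
    ∃ I : Ideal R, I.FG ∧ I.radical = (Ideal.span {f}).radical ∧ ∀ a ∈ I,
      ∀ (S' M' : Type u) [CommRing S'] [Algebra S S'] [Algebra (BlowUp.affineAlgebra R I a) S'] [Algebra R S']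
        [IsScalarTower R S S'] [IsScalarTower R (BlowUp.affineAlgebra R I a) S']
        [Algebra.IsPushout R S (BlowUp.affineAlgebra R I a) S']
        [AddCommGroup M'] [Module S' M'] [Module S M'] [IsScalarTower S S' M']
        (φ : M →ₗ[S] M'), IsBaseChange S' φ →
        ∀ (p' : Ideal (BlowUp.affineAlgebra R I a)) [p'.IsPrime],
          ∃ g : S', g ∉ p'.map (algebraMap (BlowUp.affineAlgebra R I a) S') ∧
            Module.Free (Localization.Away g)
              (LocalizedModule (Submonoid.powers g) (M' ⧸ FlatCA.powTorsion S' (algebraMap R S' a) M')) ∧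
            Module.rank (Localization.Away g)
              (LocalizedModule (Submonoid.powers g) (M' ⧸ FlatCA.powTorsion S' (algebraMap R S' a) M')) = r := by
  classical
  obtain ⟨M₀, _, _, _, π, hπ, hker⟩ := exists_fp_cover M (algebraMap R S f) hfp
  obtain ⟨I, hIfg, hIrad, hIf, hI⟩ := Dev4.exists_ideal_free_of_fitting_fg hgi f r M₀
    (FittingLib.ideal_fg r) (fun p _ _ hfp' => by
      set q := p.map (algebraMap R S)
      have hs : algebraMap R S f ∈ q.primeCompl := fun h => hfp' (by
        rw [← (Dev4.isPrime_map_of_geomIntegral hgi p).2]; exact h)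
      let e := LinearEquiv.ofBijective (LocalizedModule.map q.primeCompl π) (localized_bijective q.primeCompl π hπ hs hker)
      obtain ⟨h1, h2⟩ := hfree p hfp'
      exact ⟨Module.Free.of_equiv e.symm, e.rank_eq.trans h2⟩)
  refine ⟨I, hIfg, hIrad, fun a ha S' M' _ _ _ _ _ _ _ _ _ _ _ φ hφ p' _ => ?_⟩
  obtain ⟨g, hg, hfr, hrk⟩ := hI a ha S' p'
  obtain ⟨x, hx⟩ := Ideal.mem_span_singleton.1 (hIf ha)
  let e := hφ.equiv
  let Φ : S' ⊗[S] M₀ →ₗ[S'] M' := e.toLinearMap.comp (π.baseChange S')
  have hΦ : Function.Surjective Φ := e.surjective.comp (LinearMap.lTensor_surjective S' hπ)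
  have hle : LinearMap.ker Φ ≤ FlatCA.powTorsion S' (algebraMap R S' a) (S' ⊗[S] M₀) := by
    intro v hv
    refine ker_baseChange_le π hπ (algebraMap R S f) _ (algebraMap R S' x) ?_ hker ?_
    · rw [hx, map_mul, IsScalarTower.algebraMap_apply R S S' f]
    · exact LinearMap.mem_ker.2 (e.injective ((LinearMap.mem_ker.1 hv).trans (map_zero e).symm))
  obtain ⟨e₂⟩ := exists_quotient_powTorsion_equiv (algebraMap R S' a) Φ hΦ hle
  let e₃ := LinearEquiv.ofBijective (LocalizedModule.map (Submonoid.powers g) e₂.toLinearMap)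
    ⟨LocalizedModule.map_injective _ _ e₂.injective, LocalizedModule.map_surjective _ _ e₂.surjective⟩
  exact ⟨g, hg, Module.Free.of_equiv e₃, e₃.rank_eq.symm.trans hrk⟩

end Groth.Agent.S1287
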