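import Groth.Statements.S12871
import Groth.Agent.Lib.StAlg.Apps

set_option autoImplicit false
open CategoryTheory AlgebraicGeometry
universe u
open AlgSt

namespace Groth.Agent.S12871
set_option linter.style.haveILetI false
set_option backward.isDefEq.respectTransparency false
set_option backward.isDefEq.respectTransparency.types false


/-- The composite of two open immersions `f : 𝒳 ⟶ 𝒴`, `g : 𝒴 ⟶ 𝒵` of algebraic stacks over `S` is again
one. -/
theorem result {S : Scheme.{u}} {𝒳 𝒴 𝒵 : AlgSt.Cat S}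
    (h𝒳 : AlgSt.IsAlgStack Scheme.fppfPrecoverage 𝒳) (h𝒴 : AlgSt.IsAlgStack Scheme.fppfPrecoverage 𝒴) (h𝒵 : AlgSt.IsAlgStack Scheme.fppfPrecoverage 𝒵)
    (f : 𝒳 ⥤ᵇ 𝒴) (g : 𝒴 ⥤ᵇ 𝒵) (hf : AlgSt.IsOpenImm f) (hg : AlgSt.IsOpenImm g) :
    AlgSt.IsOpenImm (BasedFunctor.comp f g) := by
  exact Groth.Agent.StAlg.with_comp Groth.Agent.StAlg.goodP_openImm h𝒳.isStack.1 h𝒴.isStack.1 hf hg

end Groth.Agent.S12871
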