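import Groth.Statements.S12873
import Groth.Agent.Lib.StAlg16.Cover
import Groth.Agent.Lib.StAlg16.Setoid
import Groth.Agent.Lib.AlgSpDescent.RepBase2

set_option autoImplicit false
open CategoryTheory AlgebraicGeometry
universe u
open AlgSt

namespace Groth.Agent.S12873
set_option linter.style.haveILetI false
set_option backward.isDefEq.respectTransparency false
set_option backward.isDefEq.respectTransparency.types false


/-- Let `f : 𝒳 ⟶ 𝒴` be a 1-morphism of algebraic stacks over `S`, `W` an algebraic space and `w : W ⟶ 𝒴`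
surjective, flat and locally of finite presentation. Then `f` is an immersion if and only if `V = W
×_𝒴 𝒳` is an algebraic space and the projection `V ⟶ W` is an immersion of algebraic spaces; the
projection is named by `V`, a morphism `a : V ⟶ W` and an equivalence over `(Sch/S)` from the
category of `V` to the 2-fibre product whose composite with the first projection is 2-isomorphic to
the functor of `a`. -/
theorem result {S : Scheme.{u}} {𝒳 𝒴 : AlgSt.Cat S}
    (h𝒳 : AlgSt.IsAlgStack Scheme.fppfPrecoverage 𝒳) (h𝒴 : AlgSt.IsAlgStack Scheme.fppfPrecoverage 𝒴)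
    (f : 𝒳 ⥤ᵇ 𝒴) (W : AlgSp.Space S) (w : AlgSt.ofSp W.obj ⥤ᵇ 𝒴)
    (hw₁ : AlgSt.RepByAlgSpWith (AlgSp.LocP @Flat) w)
    (hw₂ : AlgSt.RepByAlgSpWith (AlgSp.LocP @LocallyOfFinitePresentation) w)
    (hw₃ : AlgSt.RepByAlgSpWith AlgSp.IsSurjectiveMor w) :
    AlgSt.IsImm f ↔
      ∃ (V : AlgSp.Space S) (a : V ⟶ W) (e : AlgSt.ofSp V.obj ⥤ᵇ FibCat.fp w f),
        FibCat.IsEquivOver e ∧
          Nonempty (BasedFunctor.comp e (FibCat.fpFst w f) ≅ AlgSt.ofSpMap a.hom) ∧
            AlgSp.RepWith @IsImmersion a.hom := by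
  have hP := Groth.Agent.AlgSpDescent.isLocalOnBase_fppf_repWith_isImmersion (S := S)
  have hPb : Groth.Agent.StAlg.PbP (AlgSp.RepWith (S := S) @IsImmersion) := fun _ _ _ _ _ _ _ _ _ _ _ _ sq h => Groth.Agent.AlgSpace.repWith_of_isPullback sq h
  constructor
  · exact fun h => Groth.Agent.StAlg.exists_baseChange_space hPb hP h𝒳.isStack.1 h𝒴.isStack.1 h W w
  · rintro ⟨V, a, e, he, i, ha⟩
    haveI := Groth.Agent.StAlg16.faithful_of_isFibSetoid_fp h𝒳.isStack h𝒴.isStack.1
      (Groth.Agent.StAlg.isStack_ofSp W.obj).1 f hw₁ hw₂ hw₃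
      (Groth.Agent.StAlg.isFibSetoid_of_rep ⟨V, e, he⟩)
    exact (Groth.Agent.StAlg.with_iff_baseChange_cover hPb hP h𝒳.isStack.1 h𝒴.isStack.1
      (Groth.Agent.StAlg16.rep1_of_faithful h𝒳 h𝒴 f) W w hw₁ hw₂ hw₃).2 ⟨V, a, e, he, i, ha⟩

end Groth.Agent.S12873
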