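import Groth.Statements.S12874
import Groth.Agent.Lib.StAlg16.Cover
import Groth.Agent.Lib.StAlg16.Setoid
import Groth.Agent.Lib.AlgSpDescent.RepBase2

set_option autoImplicit false
open CategoryTheory AlgebraicGeometry
universe u
open AlgSt

namespace Groth.Agent.S12874
set_option linter.style.haveILetI false
set_option backward.isDefEq.respectTransparency false
set_option backward.isDefEq.respectTransparency.types false


/-- Consider algebraic stacks `𝒳`, `𝒴` over `S` with a 1-morphism `f : 𝒳 ⟶ 𝒴`, and suppose `W` is an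
algebraic space equipped with a map `w : W ⟶ 𝒴` that is flat, surjective and locally of finite
presentation. In this situation `f` is an open immersion exactly when the 2-fibre product `V = W ×_𝒴
𝒳` is an algebraic space whose projection `V ⟶ W` is an open immersion of algebraic spaces; here the
projection is encoded by `V`, a morphism `a : V ⟶ W`, and an equivalence over `(Sch/S)` from the
category of `V` to the 2-fibre product such that composing it with the first projection gives a
functor 2-isomorphic to the functor of `a`. -/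
theorem result {S : Scheme.{u}} {𝒳 𝒴 : AlgSt.Cat S}
    (h𝒳 : AlgSt.IsAlgStack Scheme.fppfPrecoverage 𝒳) (h𝒴 : AlgSt.IsAlgStack Scheme.fppfPrecoverage 𝒴)
    (f : 𝒳 ⥤ᵇ 𝒴) (W : AlgSp.Space S) (w : AlgSt.ofSp W.obj ⥤ᵇ 𝒴)
    (hw₁ : AlgSt.RepByAlgSpWith (AlgSp.LocP @Flat) w)
    (hw₂ : AlgSt.RepByAlgSpWith (AlgSp.LocP @LocallyOfFinitePresentation) w)
    (hw₃ : AlgSt.RepByAlgSpWith AlgSp.IsSurjectiveMor w) :
    AlgSt.IsOpenImm f ↔
      ∃ (V : AlgSp.Space S) (a : V ⟶ W) (e : AlgSt.ofSp V.obj ⥤ᵇ FibCat.fp w f),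
        FibCat.IsEquivOver e ∧
          Nonempty (BasedFunctor.comp e (FibCat.fpFst w f) ≅ AlgSt.ofSpMap a.hom) ∧
            AlgSp.RepWith @IsOpenImmersion a.hom := by
  have hP := Groth.Agent.StAlg.isLocalOnBase_fppf_of_fpqc (Groth.Agent.AlgSpDescent.isLocalOnBase_fpqc_repWith_isOpenImmersion (S := S))
  have hPb : Groth.Agent.StAlg.PbP (AlgSp.RepWith (S := S) @IsOpenImmersion) := fun _ _ _ _ _ _ _ _ _ _ _ _ sq h => Groth.Agent.AlgSpace.repWith_of_isPullback sq h
  constructor
  · exact fun h => Groth.Agent.StAlg.exists_baseChange_space hPb hP h𝒳.isStack.1 h𝒴.isStack.1 h W w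
  · rintro ⟨V, a, e, he, i, ha⟩
    haveI := Groth.Agent.StAlg16.faithful_of_isFibSetoid_fp h𝒳.isStack h𝒴.isStack.1
      (Groth.Agent.StAlg.isStack_ofSp W.obj).1 f hw₁ hw₂ hw₃
      (Groth.Agent.StAlg.isFibSetoid_of_rep ⟨V, e, he⟩)
    exact (Groth.Agent.StAlg.with_iff_baseChange_cover hPb hP h𝒳.isStack.1 h𝒴.isStack.1
      (Groth.Agent.StAlg16.rep1_of_faithful h𝒳 h𝒴 f) W w hw₁ hw₂ hw₃).2 ⟨V, a, e, he, i, ha⟩

end Groth.Agent.S12874
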