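import Groth.Statements.S12876
import Groth.Agent.Lib.StAlg16.Mono

set_option autoImplicit false
open CategoryTheory AlgebraicGeometry
universe u
open AlgSt

namespace Groth.Agent.S12876
set_option linter.style.haveILetI false
set_option backward.isDefEq.respectTransparency false
set_option backward.isDefEq.respectTransparency.types false


/-- Let `i : 𝒳 ⟶ 𝒳'` and `g : 𝒳' ⟶ 𝒴` be 1-morphisms of algebraic stacks over `S` with `i` a
monomorphism. Then the square whose top is the diagonal `𝒳 ⟶ 𝒳 ×_𝒴 𝒳` of `g ∘ i`, whose left side is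
`i`, whose right side is the 1-morphism `𝒳 ×_𝒴 𝒳 ⟶ 𝒳' ×_𝒴 𝒳'` induced by `i` on both factors and
whose bottom is the diagonal of `g` (it commutes strictly, the 2-cell being the identity) is
2-cartesian: the induced 1-morphism from `𝒳` to the 2-fibre product is an equivalence over
`(Sch/S)`. -/
theorem result {S : Scheme.{u}} {𝒳 𝒳' 𝒴 : AlgSt.Cat S}
    (h𝒳 : AlgSt.IsAlgStack Scheme.fppfPrecoverage 𝒳) (h𝒳' : AlgSt.IsAlgStack Scheme.fppfPrecoverage 𝒳') (h𝒴 : AlgSt.IsAlgStack Scheme.fppfPrecoverage 𝒴)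
    (i : 𝒳 ⥤ᵇ 𝒳') (g : 𝒳' ⥤ᵇ 𝒴) (hi : AlgSt.IsMono i) :
    FibCat.IsTwoCartOver
      (F := (FibCat.fpLift (BasedFunctor.comp (FibCat.fpFst (BasedFunctor.comp i g) (BasedFunctor.comp i g)) i)
        (BasedFunctor.comp (FibCat.fpSnd (BasedFunctor.comp i g) (BasedFunctor.comp i g)) i) (FibCat.fpIso (BasedFunctor.comp i g) (BasedFunctor.comp i g))))
      (G := FibCat.diag g) (FibCat.diag (BasedFunctor.comp i g)) i (Iso.refl _) := by
  obtain ⟨_, _⟩ := StAlg16.fullyFaithful_of_isMono h𝒳.isStack.1 h𝒳'.isStack.1 i hi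
  let L := BasedFunctor.comp i g
  let P := FibCat.fpLift (BasedFunctor.comp (FibCat.fpFst L L) i) (BasedFunctor.comp (FibCat.fpSnd L L) i) (FibCat.fpIso L L)
  change FibCat.IsEquivOver (FibCat.fpLift (F := P) (G := FibCat.diag g) (FibCat.diag L) i (Iso.refl _))
  let T := FibCat.fpLift (F := P) (G := FibCat.diag g) (FibCat.diag L) i (Iso.refl _)
  haveI : T.toFunctor.Faithful := ⟨fun {a b χ χ'} h => congrArg (fun t => t.hom.fst.hom.fst) h⟩
  haveI : T.toFunctor.Full := ⟨fun {a b} φ => by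
    have w := Groth.Agent.FC16.fp_w φ
    have w1 : i.map φ.hom.fst.hom.fst ≫ 𝟙 _ = 𝟙 _ ≫ φ.hom.snd := congrArg (fun t => t.hom.fst) w
    have w2 : i.map φ.hom.fst.hom.snd ≫ 𝟙 _ = 𝟙 _ ≫ φ.hom.snd := congrArg (fun t => t.hom.snd) w
    rw [Category.comp_id, Category.id_comp] at w1 w2
    refine ⟨φ.hom.fst.hom.fst, Groth.Agent.FC16.fp_hom_ext (Groth.Agent.FC16.fp_hom_ext rfl ?_) w1⟩
    exact i.toFunctor.map_injective (w1.trans w2.symm)⟩
  refine Groth.Agent.FC16.isEquivOver_of T fun η => ?_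
  let ξ := η.obj.fst
  let p1 : i.obj ξ.obj.fst ≅ η.obj.snd := (FibCat.fpFst g g).toFunctor.mapIso η.obj.iso
  let p2 : i.obj ξ.obj.snd ≅ η.obj.snd := (FibCat.fpSnd g g).toFunctor.mapIso η.obj.iso
  have hw : g.map p1.hom ≫ 𝟙 _ = ξ.obj.iso.hom ≫ g.map p2.hom := Groth.Agent.FC16.fp_w η.obj.iso.hom
  let ψ : ξ.obj.fst ≅ ξ.obj.snd := i.toFunctor.preimageIso (p1 ≪≫ p2.symm)
  have hψ : i.map ψ.hom = p1.hom ≫ p2.inv := i.toFunctor.map_preimage _
  let a := ξ.obj.fst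
  let q : (FibCat.diag L).obj a ≅ ξ := Groth.Agent.FC16.fpIsoMk (Iso.refl _) ψ (by
    show g.map (i.map (𝟙 _)) ≫ ξ.obj.iso.hom = 𝟙 _ ≫ g.map (i.map ψ.hom)
    rw [hψ, g.toFunctor.map_comp, Category.id_comp, i.toFunctor.map_id, g.toFunctor.map_id, Category.id_comp,
      ← g.toFunctor.mapIso_inv, Iso.eq_comp_inv]
    exact hw.symm.trans (Category.comp_id _))
  refine ⟨a, Groth.Agent.FC16.fpIsoMk q p1 (Groth.Agent.FC16.fp_hom_ext ?_ ?_),
    @Groth.Agent.FC16.isHomLift_of_fst _ _ _ _ _ _ _ _ _ _ _ _ _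
      (@Groth.Agent.FC16.isHomLift_of_fst _ _ _ _ _ _ _ _ _ _ _ _ _ (IsHomLift.id rfl))⟩
  · show i.map (𝟙 _) ≫ p1.hom = 𝟙 _ ≫ p1.hom
    rw [i.toFunctor.map_id]
  · show i.map ψ.hom ≫ p2.hom = 𝟙 _ ≫ p1.hom
    rw [hψ, Category.assoc, Iso.inv_hom_id]
    exact (Category.comp_id _).trans (Category.id_comp _).symm

end Groth.Agent.S12876
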