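import Groth.Statements.S1288
import Groth.Agent.Lib.AdmOpen4.Open

set_option autoImplicit false
universe u
open FlatMor

namespace Groth.Agent.S1288

open AlgebraicGeometry CategoryTheory Limits in
/-- Let S be quasi-compact and quasi-separated, g : U → S separated and of finite type, V ⊆ U a
quasi-compact open, and j : V → Y a quasi-compact open immersion over S into a scheme Y proper over
S. Then there are a blow-up b : Y' → Y in a finite type ideal with support disjoint from j(V), an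
open V' of Y' containing b⁻¹(j(V)), and a proper morphism h : V' → U which extends V → U: on
b⁻¹(j(V)) it is the identification with V followed by the inclusion of V in U. -/
theorem result {U S Y : Scheme.{u}} [CompactSpace S] [QuasiSeparatedSpace S]
    (g : U ⟶ S) [IsSeparated g] [LocallyOfFiniteType g] [QuasiCompact g]
    (V : U.Opens) (hV : IsCompact (V : Set U)) (j : (V : Scheme.{u}) ⟶ Y) [IsOpenImmersion j] [QuasiCompact j]
    (πY : Y ⟶ S) [IsProper πY] (hj : j ≫ πY = V.ι ≫ g) :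
    ∃ (𝓘 : Y.IdealSheafData) (Y' : Scheme.{u}) (b : Y' ⟶ Y), BlowUp.IsBlowUp b 𝓘 ∧ BlowUp.IsAdmissibleFor j.opensRange 𝓘 ∧
      ∃ (V' : Y'.Opens) (hle : b ⁻¹ᵁ j.opensRange ≤ V') (h : (V' : Scheme.{u}) ⟶ U),
        IsProper h ∧
        ∃ k : ((b ⁻¹ᵁ j.opensRange : Y'.Opens) : Scheme.{u}) ⟶ V,
          k ≫ j = (b ∣_ j.opensRange) ≫ j.opensRange.ι ∧ Y'.homOfLE hle ≫ h = k ≫ V.ι := by
  haveI : CompactSpace Y := QuasiCompact.compactSpace_of_compactSpace πY
  haveI : QuasiSeparatedSpace Y := quasiSeparatedSpace_of_quasiSeparated πY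
  let O := j.opensRange
  let e := j.isoOpensRange
  have he : e.hom ≫ O.ι = j := IsOpenImmersion.isoOfRangeEq_hom_fac _ _ _
  have he' : e.inv ≫ j = O.ι := by rw [Iso.inv_comp_eq, he]
  haveI : QuasiCompact O.ι := by rw [← he']; infer_instance
  have hO : IsCompact (O : Set Y) := by
    show IsCompact (Set.range j)
    rw [← Set.image_univ]
    haveI : CompactSpace (V : Scheme.{u}) := isCompact_iff_compactSpace.1 hV
    exact isCompact_univ.image j.continuous
  let g₀ := e.inv ≫ pullback.lift j V.ι hj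
  haveI : QuasiCompact g₀ := by
    haveI : QuasiCompact (g₀ ≫ pullback.fst πY g) := by
      rw [Category.assoc, pullback.lift_fst, he']; infer_instance
    exact QuasiCompact.of_comp g₀ (pullback.fst πY g)
  let p := g₀.imageι ≫ pullback.fst πY g
  haveI := EffCartier.dominant_toImage g₀
  have hσ : g₀.toImage ≫ p = O.ι := by
    rw [Scheme.Hom.toImage_imageι_assoc, Category.assoc, pullback.lift_fst, he']
  haveI := AdmOpen4.isIso_restrict_of_section O p g₀.toImage hσ
  obtain ⟨𝓘, hI, hsupp, H⟩ := AdmOpen4.exists_center p O hO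
  let b := BlowUpExist.ChartIdx.blowUpHom 𝓘
  have hb : BlowUp.IsBlowUp b 𝓘 := BlowUpExist.ChartIdx.isBlowUp_blowUpHom
  refine ⟨𝓘, _, b, hb, hI, ?_⟩
  obtain ⟨T, a, s, hS⟩ := AdmOpen4.exists_isStrict_of_eff p b hsupp hb.1
  haveI := H b a s hS hb.1
  obtain ⟨h, ha, hh⟩ := hS.univ _ ((b ∣_ O) ≫ g₀.toImage) (b ⁻¹ᵁ O).ι
    (by rw [Category.assoc, hσ, morphismRestrict_ι]) (fun z => z.2)
  have hr : s.isoOpensRange.inv ≫ s = s.opensRange.ι := by
    rw [Iso.inv_comp_eq]; exact (IsOpenImmersion.isoOfRangeEq_hom_fac _ _ _).symm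
  have hle : b ⁻¹ᵁ O ≤ s.opensRange := fun x hx => ⟨h ⟨x, hx⟩, by rw [← Scheme.Hom.comp_apply, hh]; rfl⟩
  haveI : IsProper a := by
    haveI := hS.closed
    haveI : IsProper b := BlowUpExist.isProper hI.1 hb
    rw [← pullback.lift_fst a s hS.w]; infer_instance
  refine ⟨s.opensRange, hle, s.isoOpensRange.inv ≫ a ≫ g₀.imageι ≫ pullback.snd πY g, inferInstance,
    (b ∣_ O) ≫ e.inv, by rw [Category.assoc, he'], ?_⟩
  have h1 : Scheme.homOfLE _ hle ≫ s.isoOpensRange.inv = h := by
    rw [← cancel_mono s, Category.assoc, hr, Scheme.homOfLE_ι, hh]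
  rw [← Category.assoc, h1, ← Category.assoc, ha]
  simp only [Category.assoc, Scheme.Hom.toImage_imageι_assoc, g₀, pullback.lift_snd]

end Groth.Agent.S1288
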