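import Groth.Statements.S12880
import Groth.Agent.Lib.CohMop.ExtSupport

set_option autoImplicit false
set_option backward.isDefEq.respectTransparency false
set_option backward.isDefEq.respectTransparency.types false
universe u
open CategoryTheory CategoryTheory.Limits TopologicalSpace AlgebraicGeometry
open Coherent

namespace Groth.Agent.S12880

/-- Let X be a locally Noetherian scheme, Y a closed subset with open complement U, and F, G coherent
O_X-modules such that the support of F is contained in Y (no point of U has a non-zero stalk of F).
Then for every i the local Ext sheaf with supports ℰxt^i_Y(F, G) is coherent. (Internal Hom of F and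
injective resolutions of O_X-modules are the stated instance hypotheses, both true.) -/
theorem result (X : Scheme.{u}) [IsLocallyNoetherian X] (U : X.Opens)
    (F G : X.Modules) (hF : Coh.IsCoh F) (hG : Coh.IsCoh G)
    (hsupp : ∀ x ∈ CohB1.support F, x ∉ (U : Set X))
    [ModSite.HasSheafHom (O := X.sheaf) F] [HasInjectiveResolutions (ModSite.Mod X.sheaf)] (i : ℕ) :
    Coh.IsCoh ((ModSite.extZSh (O := X.sheaf) U F i).obj G) := by
  let e := Groth.Agent.CohMop.sectIhomIso U (F := F) fun x hx hs => hsupp x hs hx
  haveI : (Groth.Agent.CohMop.ihom F ⋙ ModSite.sectOn X.sheaf U).Additive :=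
    inferInstanceAs ((ModSite.sheafHom (O := X.sheaf) F ⋙ ModSite.sectOn X.sheaf U).Additive)
  haveI : (Groth.Agent.CohMop.ihom F).Additive := Groth.Agent.CohMop.additive_ihom F
  let e' : (Groth.Agent.CohMop.ihom F ⋙ ModSite.sectOn X.sheaf U).rightDerived i ≅
      (Groth.Agent.CohMop.ihom F).rightDerived i :=
    { hom := NatTrans.rightDerived e.hom i
      inv := NatTrans.rightDerived e.inv i
      hom_inv_id := by rw [← NatTrans.rightDerived_comp, Iso.hom_inv_id, NatTrans.rightDerived_id]
      inv_hom_id := by rw [← NatTrans.rightDerived_comp, Iso.inv_hom_id, NatTrans.rightDerived_id] }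
  exact Groth.Agent.CohMop.isCoh_of_iso (e'.app G).symm (Groth.Agent.CohMop.isCoh_extSheaf i F G hF hG)

end Groth.Agent.S12880
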