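import Groth.Statements.S12883
import Groth.Agent.Lib.CohMop.ExtZVanish
-- import your own Groth.Agent.* helpers here

set_option autoImplicit false
set_option linter.style.haveILetI false
set_option linter.unusedSectionVars false
set_option backward.isDefEq.respectTransparency false
set_option backward.isDefEq.respectTransparency.types false
universe u
open CategoryTheory CategoryTheory.Limits TopologicalSpace AlgebraicGeometry
open Coherent

namespace Groth.Agent.S12883

/-- Let X be a locally Noetherian scheme whose local rings are all regular, Y a closed subset with open
complement U, F and G coherent O_X-modules, S the support of F, and i a natural number such that dim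
O_{X,x} < i for every point x of Y in the closure of S ∩ U. Then ℰxt^i_Y(F, G) is coherent.
(Internal Hom of F and injective resolutions of O_X-modules are the stated instance hypotheses, both
true.) -/
theorem result (X : Scheme.{u}) [IsLocallyNoetherian X]
    (hreg : ∀ x : X, IsRegularLocalRing (X.presheaf.stalk x)) (U : X.Opens)
    (F G : X.Modules) (hF : Coh.IsCoh F) (hG : Coh.IsCoh G) (i : ℕ)
    (hi : ∀ x ∈ closure (CohB1.support F ∩ (U : Set X)), x ∉ (U : Set X) →
      ringKrullDim (X.presheaf.stalk x) < (i : WithBot ℕ∞))
    [ModSite.HasSheafHom (O := X.sheaf) F] [HasInjectiveResolutions (ModSite.Mod X.sheaf)] :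
    Coh.IsCoh ((ModSite.extZSh (O := X.sheaf) U F i).obj G) := by
  haveI := fun Q : X.Modules => CohMop.additive_extZFun U Q
  exact CohMop.isCoh_extZ_of_isZero U hF hG i fun F' hF' hs =>
    CohMop.isZero_extZ_above U hreg ⟨closure (CohB1.support F ∩ (U : Set X)), isClosed_closure⟩ hF' hs hG.1
      (fun x hx hxU => hi x hx hxU)

end Groth.Agent.S12883
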