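import Groth.Statements.S12889
import Groth.Agent.Lib.ExtSupp8.Spectral

set_option autoImplicit false
universe u
open CategoryTheory CategoryTheory.Limits
open ModSite

namespace Groth.Agent.S12889


/-- On a small ringed site (C, J, O) with O commutative, let U be an object with Z the closed complement
of the open it generates, and M an O-module. There is an E₂ spectral sequence of abelian groups with
E₂^{p,q} ≅ H^p(C, ℋ^q_Z(M)) for p, q ≥ 0 (and 0 otherwise), bounded, abutting with finite
filtrations to H^n_Z(M) (n ≥ 0; 0 for n < 0); here ℋ^q_Z are the right derived functors of sections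
with support on O-modules, H^p(C, -) is the cohomology of the site with values in the underlying
abelian sheaf, and H^n_Z(M) are the Ext groups out of ℤ/ℤ_U into the underlying abelian sheaf.
(Existence only: the E₂ identifications and the abutment are some isomorphisms. The direct image
along the localisation at U and injective resolutions of O-modules are the stated instance
hypotheses, both true.) -/
theorem result {C : Type u} [SmallCategory C] {J : GrothendieckTopology C}
    (O : Sheaf J CommRingCat.{u}) (U : C) (M : ModSite.Mod O)
    [ModSite.HasPushOver O U] [HasInjectiveResolutions (ModSite.Mod O)] :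
    ∃ (E : E₂CohomologicalSpectralSequence AddCommGrpCat.{u})
      (a : SpSeq.Abutment E (fun n : ℤ =>
        if 0 ≤ n then AddCommGrpCat.of (ModSite.HZ U M n.toNat) else AddCommGrpCat.of PUnit.{u + 1})),
      (∀ n : ℤ, a.IsFinite n) ∧ SpSeq.IsBounded E ∧
      ∀ p q : ℤ, Nonempty ((E.page 2 le_rfl).X (p, q) ≅
        (if 0 ≤ p ∧ 0 ≤ q then AddCommGrpCat.of (ModSite.HC O ((ModSite.HZsh O U q.toNat).obj M) p.toNat)
          else AddCommGrpCat.of PUnit.{u + 1})) := by
  exact Groth.Agent.ExtSupp8.ext_spectralSequence (ModSite.sectOn O U) (ModSite.unit O)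
    ((ModSite.quotOn O U).obj (ModSite.unit O))
    (Groth.Agent.ExtSupp8.coyonedaSectIso O U (ModSite.unit O))
    (fun I hI k => by
      haveI := hI
      haveI := Groth.Agent.ExtSupp8.injective_sectOn O U I
      exact Groth.Agent.SiteCoh.subsingleton_ext_injective _ _ k) M
    (fun n => AddCommGrpCat.of (ModSite.HZ U M n)) (fun n => Groth.Agent.ExtSupp8.exists_quotExtEquiv O U M n)
    (fun p q => AddCommGrpCat.of (ModSite.HC O ((ModSite.HZsh O U q).obj M) p))
    (fun p q => Groth.Agent.SiteCoh.exists_moduleExtEquiv (ModSite.ringSh O) _ p)


end Groth.Agent.S12889
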