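import Groth.Statements.S12890
import Groth.Agent.Lib.ExtSupp8.OpenSeq

set_option autoImplicit false
universe u
open CategoryTheory CategoryTheory.Limits
open ModSite

namespace Groth.Agent.S12890


/-- On a small ringed site (C, J, O) with O commutative, let U be a subterminal object (every object has
at most one morphism to U), Z its closed complement and j_{U*} the direct image of modules along the
localisation C/U → C. Then ℋ^1_Z is isomorphic to the cokernel of the unit M → j_{U*}(M|_U) (so that
0 → ℋ^0_Z(M) → M → j_{U*}(M|_U) → ℋ^1_Z(M) → 0 is exact), and for every q ≥ 1 the functor ℋ^{q+1}_Z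
is isomorphic to M ↦ R^q j_{U*}(M|_U). (Existence of isomorphisms of functors only. The direct image
j_{U*} with its additivity and injective resolutions of modules on C and on C/U are the stated
instance hypotheses, all true.) -/
theorem result {C : Type u} [SmallCategory C] {J : GrothendieckTopology C}
    (O : Sheaf J CommRingCat.{u}) (U : C)
    (hU : ∀ V : C, Subsingleton (V ⟶ U)) [ModSite.HasPushOver O U] [(ModSite.pushOver O U).Additive]
    [HasInjectiveResolutions (ModSite.Mod O)] [HasInjectiveResolutions (ModSite.Mod (O.over U))] :
    Nonempty (ModSite.HZsh O U 1 ≅ cokernel (ModSite.restrPushOverAdj O U).unit) ∧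
      ∀ q : ℕ, 1 ≤ q →
        Nonempty (ModSite.HZsh O U (q + 1) ≅ ModSite.restr O U ⋙ (ModSite.pushOver O U).rightDerived q) := by
  exact ⟨Groth.Agent.ExtSupp8.nonempty_HZsh_one_iso O U hU,
    fun q hq => Groth.Agent.ExtSupp8.nonempty_HZsh_succ_iso O U hU q hq⟩


end Groth.Agent.S12890
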