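import Groth.Statements.S12899
import Groth.Agent.Lib.FlatCheck9.Main

set_option autoImplicit false
set_option linter.style.haveILetI false
set_option backward.isDefEq.respectTransparency false
universe u
open CategoryTheory CategoryTheory.Limits
attribute [local instance] HasDerivedCategory.standard
open DRing

namespace Groth.Agent.S12899

/-- Let R be a commutative ring, f ∈ R and M an object of D(R) such that (1) H^i(M) = 0 for i &gt; 0,
(2) in D(R_f), M ⊗^L_R R_f is isomorphic to a flat R_f-module concentrated in degree 0, and (3) in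
D(R/fR), M ⊗^L_R R/fR is isomorphic to a flat R/fR-module concentrated in degree 0. Then, in D(R), M
itself is isomorphic to a flat R-module concentrated in degree 0. (The derived base change functors
along R → R_f and R → R/fR are the stated instance hypotheses, both true.) -/
theorem result {R : Type u} [CommRing R] (f : R) (M : Dual.D R)
    [DRing.HasLBaseChange (algebraMap R (Localization.Away f))]
    [DRing.HasLBaseChange (Ideal.Quotient.mk (Ideal.span ({f} : Set R)))]
    (h1 : ∀ i : ℤ, 0 < i → Subsingleton (Dual.HD R M i))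
    (h2 : ∃ (N : Type u) (_ : AddCommGroup N) (_ : Module (Localization.Away f) N),
      Module.Flat (Localization.Away f) N ∧
        Nonempty ((DRing.LBaseChange (algebraMap R (Localization.Away f))).obj M ≅ Dual.inD (Localization.Away f) N))
    (h3 : ∃ (N : Type u) (_ : AddCommGroup N) (_ : Module (R ⧸ Ideal.span ({f} : Set R)) N),
      Module.Flat (R ⧸ Ideal.span ({f} : Set R)) N ∧
        Nonempty ((DRing.LBaseChange (Ideal.Quotient.mk (Ideal.span ({f} : Set R)))).obj M ≅
          Dual.inD (R ⧸ Ideal.span ({f} : Set R)) N)) :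
    ∃ (N : Type u) (_ : AddCommGroup N) (_ : Module R N), Module.Flat R N ∧ Nonempty (M ≅ Dual.inD R N) := by
  have hflat : ∀ {B : Type u} [CommRing B] {K : Dual.D B} (N : Type u) [AddCommGroup N] [Module B N],
      Module.Flat B N → (K ≅ Dual.inD B N) → DRing.HasTorAmplitudeIn B 0 0 K := fun {B} _ {K} N _ _ hN e => by
    refine ⟨(HomologicalComplex.single (ModuleCat.{u} B) (ComplexShape.up ℤ) 0).obj (ModuleCat.of B N),
      fun i hi => HomologicalComplex.isZero_single_obj_X _ _ _ _ (by omega), fun i => ?_,
      ⟨((DerivedCategory.singleFunctorIsoCompQ _ 0).app _).symm ≪≫ e.symm⟩⟩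
    by_cases hi : i = 0
    · subst hi
      exact Module.Flat.of_linearEquiv
        (HomologicalComplex.singleObjXSelf (ComplexShape.up ℤ) 0 (ModuleCat.of B N)).toLinearEquiv
    · haveI := ModuleCat.subsingleton_of_isZero
        (HomologicalComplex.isZero_single_obj_X (ComplexShape.up ℤ) 0 (ModuleCat.of B N) i hi)
      infer_instance
  obtain ⟨N₂, _, _, hN₂, ⟨e₂⟩⟩ := h2
  obtain ⟨N₃, _, _, hN₃, ⟨e₃⟩⟩ := h3
  obtain ⟨E, hv, hE, ⟨e⟩⟩ := FlatCheck9.exists_flat R f M h1 (hflat N₂ hN₂ e₂) (hflat N₃ hN₃ e₃)
  obtain ⟨e'⟩ := DMod.exists_iso_single_X hv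
  exact ⟨E.X 0, inferInstance, inferInstance, hE 0, ⟨e.symm ≪≫ e'⟩⟩

end Groth.Agent.S12899
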