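import Groth.Statements.S12900
import Groth.Agent.Lib.FC16.Split2

set_option autoImplicit false
universe v₁ v₂ u₁ u₂
open CategoryTheory
open FibCat

namespace Groth.Agent.S12900
open CategoryTheory.Functor
set_option linter.style.haveILetI false
set_option backward.isDefEq.respectTransparency false
set_option backward.isDefEq.respectTransparency.types false


/-- Let p : 𝒳 → 𝒮 be a fibred category and K a cleavage of p which is a splitting (the chosen transport
morphism over each identity is the identity, and the composite of two chosen transport morphisms is
the chosen transport morphism of the composite). Then 𝒳 is split: there are a strict functor F : 𝒮ᵒᵖ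
→ Cat and an isomorphism of categories over 𝒮 between 𝒳 and the category of pairs (U, x) with x an
object of F(U) built from F, i.e. functors Φ and Ψ inverse to each other on the nose with Φ followed
by the projection equal to p. (The published statement is an equivalence whose if-half assumes only
that, for some choice of pullbacks, the pullback functors (f ∘ g)^* and g^* ∘ f^* are equal; that
half fails: for the functor between one-object categories induced by reduction modulo 2 from the
integers to ℤ/2, a fibred category whose only fibre is the one-object category of the even integers,
every choice of pullbacks has all pullback functors equal to the identity functor, yet the category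
is not split, since an isomorphism with the category of a strict functor would give a homomorphic
section of ℤ → ℤ/2. This row assumes instead that the chosen transport morphisms are normalised and
closed under composition, and states only that implication.) -/
theorem result {𝒮 : Type u₁} [Category.{v₁} 𝒮] {𝒳 : Type u₂} [Category.{v₂} 𝒳]
    (p : 𝒳 ⥤ 𝒮) [p.IsFibered] (K : FibCat.Cleavage p) (hK : K.IsSplitting) :
    ∃ (F : 𝒮ᵒᵖ ⥤ Cat.{v₂, u₂})
      (Φ : 𝒳 ⥤ Pseudofunctor.CoGrothendieck F.toPseudofunctor')
      (Ψ : Pseudofunctor.CoGrothendieck F.toPseudofunctor' ⥤ 𝒳),
      Φ ⋙ Ψ = 𝟭 𝒳 ∧ Ψ ⋙ Φ = 𝟭 _ ∧ Φ ⋙ Pseudofunctor.CoGrothendieck.forget F.toPseudofunctor' = p := by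
  exact ⟨Groth.Agent.FC16.strictFunctor K hK, Groth.Agent.FC16.toFunctorG K hK,
    Groth.Agent.FC16.backFunctor K hK, Groth.Agent.FC16.exists_iso_coGrothendieck K hK⟩

end Groth.Agent.S12900
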