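import Groth.Statements.S12901
import Groth.Agent.Lib.Algz3.Formal
import Groth.Agent.Lib.PicLift3.Adic

set_option autoImplicit false
universe u
open CategoryTheory AlgebraicGeometry
open FSch

namespace Groth.Agent.S12901

/-- Let A be a complete Noetherian local ring with maximal ideal m, and 𝔛 a formal scheme proper and
flat over A, presented as an adic system X_0 → X_1 → ⋯ over the thickenings Spec(A/m^{n+1}) (the
structure morphism is adic with proper level 0, and every level X_n → Spec(A/m^{n+1}) is flat). If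
X_0 is projective (it carries an ample invertible sheaf) and H^2(X_0, O_{X_0}) = 0, then 𝔛 is the
m-adic completion of a projective A-scheme: there are a proper A-scheme X carrying an ample
invertible sheaf and an isomorphism of systems, over the base, between 𝔛 and the completion of X
along the pulled-back ideal. -/
theorem result (A : Type u) [CommRing A] [IsLocalRing A]
    [IsNoetherianRing A] [IsAdicComplete (IsLocalRing.maximalIdeal A) A]
    (𝔛 : FSch.Sys.{u}) (f : 𝔛 ⟶ FSch.completionAlong (Spec (CommRingCat.of A)) (FSch.idealSpec A (IsLocalRing.maximalIdeal A)))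
    (hf : FSch.IsProperHom f) (hflat : ∀ n : ℕ, Flat ((f : FSch.Hom _ _).app n))
    (hproj : ∃ L₀ : (𝔛.X 0).Modules, CohB1.IsAmple L₀)
    (hH2 : Subsingleton (Coh.HH (𝔛.X 0) (Coh.structureModule (𝔛.X 0)) 2)) :
    ∃ (X : Scheme.{u}) (g : X ⟶ (Spec (CommRingCat.of A))) (L : X.Modules), IsProper g ∧ CohB1.IsAmple L ∧
      ∃ (h : FSch.PowCompat g ((FSch.idealSpec A (IsLocalRing.maximalIdeal A)).comap g) (FSch.idealSpec A (IsLocalRing.maximalIdeal A)))
        (e : 𝔛 ≅ FSch.completionAlong X ((FSch.idealSpec A (IsLocalRing.maximalIdeal A)).comap g)),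
        e.hom ≫ FSch.completionMap g ((FSch.idealSpec A (IsLocalRing.maximalIdeal A)).comap g) (FSch.idealSpec A (IsLocalRing.maximalIdeal A)) h = f := by
  let m := IsLocalRing.maximalIdeal A
  let 𝓚 := FSch.idealSpec A m
  let S := Spec (CommRingCat.of A)
  haveI : ∀ n, IsClosedImmersion (CohB1.specQuot m n) := fun n =>
    IsClosedImmersion.spec_of_surjective _ Ideal.Quotient.mk_surjective
  have hk : ∀ n, (CohB1.specQuot m n).ker = (𝓚 ^ (n + 1)).subschemeι.ker := fun n => by
    rw [Scheme.IdealSheafData.ker_subschemeι, ← Groth.Agent.FormalH7.idealSpec_pow]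
    rfl
  haveI : ∀ n, IsClosedImmersion (FSch.completionToX S 𝓚 n) := fun n =>
    inferInstanceAs (IsClosedImmersion (𝓚 ^ (n + 1)).subschemeι)
  let c : ∀ n, (FSch.completionAlong S 𝓚).X n ≅ Spec (CommRingCat.of (A ⧸ m ^ (n + 1))) := fun n =>
    ⟨IsClosedImmersion.lift (CohB1.specQuot m n) (FSch.completionToX S 𝓚 n) (hk n).le,
      IsClosedImmersion.lift (FSch.completionToX S 𝓚 n) (CohB1.specQuot m n) (hk n).ge,
      by rw [← cancel_mono (FSch.completionToX S 𝓚 n), Category.assoc, IsClosedImmersion.lift_fac,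
        IsClosedImmersion.lift_fac, Category.id_comp],
      by rw [← cancel_mono (CohB1.specQuot m n), Category.assoc, IsClosedImmersion.lift_fac,
        IsClosedImmersion.lift_fac, Category.id_comp]⟩
  have hc : ∀ n, (c n).hom ≫ CohB1.specQuot m n = FSch.completionToX S 𝓚 n := fun n =>
    IsClosedImmersion.lift_fac _ _ _
  have hct : ∀ n, (FSch.completionAlong S 𝓚).ι n ≫ (c (n + 1)).hom = (c n).hom ≫ CohB1.specQuotTrans m n := fun n => by
    rw [← cancel_mono (CohB1.specQuot m (n + 1)), Category.assoc, hc, Category.assoc,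
      CohB1.specQuotTrans_specQuot, hc]
    exact Scheme.IdealSheafData.inclusion_subschemeι _
  let p : ∀ n, 𝔛.X n ⟶ Spec (CommRingCat.of (A ⧸ m ^ (n + 1))) := fun n => (f : FSch.Hom _ _).app n ≫ (c n).hom
  haveI : ∀ n, IsIso (c n).hom := fun n => (c n).isIso_hom
  have hcart : ∀ n, IsPullback (𝔛.ι n) (p n) (p (n + 1)) (CohB1.specQuotTrans m n) := fun n =>
    (hf.1 n).paste_vert (IsPullback.of_vert_isIso ⟨hct n⟩)
  have hp : IsProper (p 0) := by
    haveI := hf.2
    exact inferInstanceAs (IsProper ((f : FSch.Hom _ _).app 0 ≫ (c 0).hom))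
  have hfl : ∀ n, Flat (p n) := fun n => by
    haveI := hflat n
    exact inferInstanceAs (Flat ((f : FSch.Hom _ _).app n ≫ (c n).hom))
  obtain ⟨L₀, hL₀⟩ := hproj
  obtain ⟨L, hL, ⟨e₀⟩, he⟩ := Groth.Agent.PicLift3.exists_system (Xs := 𝔛.X) (fs := p) (ts := 𝔛.ι) hcart hfl hH2
    L₀ hL₀.1
  obtain ⟨Y, g, M, e, hg, -, hM, hsq, het, -⟩ := Groth.Agent.Algz3.exists_algebraization_ample m 𝔛.X p 𝔛.ι hcart hp L
    hL he (Groth.Agent.Amp.isAmple_of_iso e₀.symm hL₀)
  let 𝓘 := 𝓚.comap g
  haveI : ∀ n, IsClosedImmersion (e n) := fun n => MorphismProperty.of_isPullback (hsq n).flip inferInstance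
  have hpow : ∀ n, 𝓘 ^ (n + 1) = (𝓚 ^ (n + 1)).comap g := fun n => (Groth.Agent.BlowUp3.comap_pow _ _ _).symm
  haveI : ∀ n, IsClosedImmersion (FSch.completionToX Y 𝓘 n) := fun n =>
    inferInstanceAs (IsClosedImmersion (𝓘 ^ (n + 1)).subschemeι)
  have hI : ∀ n, (e n).ker = (FSch.completionToX Y 𝓘 n).ker := fun n => by
    show (e n).ker = (𝓘 ^ (n + 1)).subschemeι.ker
    rw [Scheme.IdealSheafData.ker_subschemeι, hpow, Groth.Agent.FormalH7.ker_of_isPullback (hsq n), hk,
      Scheme.IdealSheafData.ker_subschemeι]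
  let a : ∀ n, 𝔛.X n ≅ (FSch.completionAlong Y 𝓘).X n := fun n =>
    ⟨IsClosedImmersion.lift (FSch.completionToX Y 𝓘 n) (e n) (hI n).ge,
      IsClosedImmersion.lift (e n) (FSch.completionToX Y 𝓘 n) (hI n).le,
      by rw [← cancel_mono (e n), Category.assoc, IsClosedImmersion.lift_fac,
        IsClosedImmersion.lift_fac, Category.id_comp],
      by rw [← cancel_mono (FSch.completionToX Y 𝓘 n), Category.assoc, IsClosedImmersion.lift_fac,
        IsClosedImmersion.lift_fac, Category.id_comp]⟩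
  have ha : ∀ n, (a n).hom ≫ FSch.completionToX Y 𝓘 n = e n := fun n => IsClosedImmersion.lift_fac _ _ _
  have hat : ∀ n, (a n).hom ≫ (FSch.completionAlong Y 𝓘).ι n = 𝔛.ι n ≫ (a (n + 1)).hom := fun n => by
    rw [← cancel_mono (FSch.completionToX Y 𝓘 (n + 1)), Category.assoc, Category.assoc, ha, ← het]
    exact (congrArg ((a n).hom ≫ ·) (Scheme.IdealSheafData.inclusion_subschemeι _)).trans (ha n)
  let ah : 𝔛 ⟶ FSch.completionAlong Y 𝓘 := ⟨fun n => (a n).hom, hat⟩
  let ai : FSch.completionAlong Y 𝓘 ⟶ 𝔛 := ⟨fun n => (a n).inv, fun n => by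
    rw [Iso.inv_comp_eq, ← Category.assoc, hat, Category.assoc, Iso.hom_inv_id, Category.comp_id]⟩
  let iso : 𝔛 ≅ FSch.completionAlong Y 𝓘 :=
    ⟨ah, ai, FSch.Hom.ext (funext fun n => (a n).hom_inv_id), FSch.Hom.ext (funext fun n => (a n).inv_hom_id)⟩
  have hcompat : FSch.PowCompat g 𝓘 𝓚 := fun n => (hpow n).ge
  refine ⟨Y, g, M, hg, hM, hcompat, iso, FSch.Hom.ext (funext fun n => ?_)⟩
  show (a n).hom ≫ _ = (f : FSch.Hom _ _).app n
  rw [FSch.completionMap_app, ← cancel_mono (FSch.completionToX S 𝓚 n), Category.assoc]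
  refine (congrArg ((a n).hom ≫ ·) (Scheme.IdealSheafData.subschemeMap_subschemeι _ _ g _)).trans ?_
  refine ((Category.assoc _ _ _).symm.trans (congrArg (· ≫ g) (ha n))).trans ?_
  refine (hsq n).w.trans ?_
  exact (Category.assoc _ _ _).trans (congrArg ((f : FSch.Hom _ _).app n ≫ ·) (hc n))

end Groth.Agent.S12901
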