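import Groth.Statements.S12903
import Groth.Agent.Lib.ModM1.Stalk
import Groth.Agent.Lib.LocCohZ.ModCompare
-- import your own Groth.Agent.* helpers here

set_option autoImplicit false
set_option linter.style.haveILetI false
set_option linter.unusedVariables false
set_option backward.isDefEq.respectTransparency false
set_option backward.isDefEq.respectTransparency.types false
universe u
open CategoryTheory CategoryTheory.Limits AlgebraicGeometry Opposite
open Coherent

namespace Groth.Agent.S12903

/-- Let X be a scheme, j : U → X a quasi-compact open immersion with closed complement Z, F a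
quasi-coherent O_X-module, V an affine open of X and I a finitely generated ideal of Γ(V, O_X)
cutting out Z ∩ V (a point of V lies outside U if and only if it lies in no basic open X_f with f ∈
I). Then a section s of F over V belongs to the subsheaf Γ_Z(F) of sections supported in Z (the
kernel of F → j_*(F|_U)) if and only if I^n s = 0 for some n. -/
theorem result {U X : Scheme.{u}} (j : U ⟶ X) [IsOpenImmersion j] [QuasiCompact j]
    (F : X.Modules) (hF : Coh.IsQCoh F) (V : X.Opens) (hV : IsAffineOpen V)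
    (I : Ideal (X.ringCatSheaf.obj.obj (op V))) (hI : I.FG)
    (hZ : ∀ x : X, x ∈ V → (x ∉ Set.range j.base ↔ ∀ f ∈ I, x ∉ X.basicOpen (f : Γ(X, V))))
    (s : F.val.obj (op V)) :
    s ∈ Set.range ((((CxOX.gammaZι j).app F).val.app (op V)).hom) ↔ ∃ n : ℕ, ∀ a ∈ I ^ n, a • s = 0 := by
  haveI := hF
  let η := (Scheme.Modules.restrictAdjunction j).unit.app F
  let s' : Γ(F, V) := s
  have hunit : η.app V s' = 0 ↔ ∀ f ∈ I, Groth.Agent.M1.mres F (X.basicOpen_le (f : Γ(X, V))) s' = 0 := by
    change Groth.Agent.M1.mres F (j.image_preimage_le V) s' = 0 ↔ _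
    have heq : j ''ᵁ (j ⁻¹ᵁ V) = j.opensRange ⊓ V := Scheme.Hom.image_preimage_eq_opensRange_inf j V
    constructor
    · intro h f hf
      have hle : X.basicOpen (f : Γ(X, V)) ≤ j ''ᵁ (j ⁻¹ᵁ V) := heq ▸ le_inf (fun x hx => by
        by_contra hn
        exact (hZ x (X.basicOpen_le _ hx)).1 hn f hf hx) (X.basicOpen_le _)
      rw [← Groth.Agent.M1.mres_mres F (j.image_preimage_le V) hle, h, map_zero]
    · intro h
      refine TopCat.Sheaf.eq_of_locally_eq' (F := ⟨F.presheaf, F.isSheaf⟩)
        (fun f : {f // f ∈ I} => X.basicOpen (f.1 : Γ(X, V)) ⊓ (j ''ᵁ (j ⁻¹ᵁ V))) (j ''ᵁ (j ⁻¹ᵁ V))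
        (fun f => homOfLE inf_le_right) (fun x hx => ?_) _ _ fun f => ?_
      · have hxV : x ∈ V := (heq.le hx).2
        by_contra hn
        refine (hZ x hxV).2 (fun f hf hxf => hn ?_) (heq.le hx).1
        exact TopologicalSpace.Opens.mem_iSup.2 ⟨⟨f, hf⟩, hxf, hx⟩
      · show Groth.Agent.M1.mres F inf_le_right (Groth.Agent.M1.mres F (j.image_preimage_le V) s') =
          Groth.Agent.M1.mres F inf_le_right 0
        rw [Groth.Agent.M1.mres_mres, map_zero,
          ← Groth.Agent.M1.mres_mres F (X.basicOpen_le (f.1 : Γ(X, V))) inf_le_left, h f.1 f.2, map_zero]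
  have hrange : s ∈ Set.range ((((CxOX.gammaZι j).app F).val.app (op V)).hom) ↔ η.app V s' = 0 := by
    constructor
    · rintro ⟨y, rfl⟩
      exact congrArg (fun f : (DCoh.gammaZ j).obj F ⟶ _ => f.app V y) (kernel.condition η)
    · intro h
      let S : ShortComplex X.Modules := ShortComplex.mk (kernel.ι η) η (kernel.condition η)
      haveI : Mono S.f := inferInstanceAs (Mono (kernel.ι η))
      exact Groth.Agent.M1.sections_exact (S := S) (ShortComplex.exact_kernel _) V s' h
  rw [hrange, hunit]
  constructor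
  · intro h
    let J : Ideal Γ(X, V) := I
    have hJ : J ≤ Ideal.radical ((⊥ : Submodule Γ(X, V) Γ(F, V)).colon {s'}) := fun f hf => by
      obtain ⟨n, hn⟩ := Groth.Agent.M1.exists_pow_smul_eq_zero_affine F hV f s' (h f hf)
      exact ⟨n, Submodule.mem_colon_singleton.2 ((Submodule.mem_bot _).2 hn)⟩
    obtain ⟨n, hn⟩ := Ideal.exists_pow_le_of_le_radical_of_fg hJ hI
    exact ⟨n, fun a ha => (Submodule.mem_bot _).1 (Submodule.mem_colon_singleton.1 (hn ha))⟩
  · rintro ⟨n, hn⟩ f hf
    have hu : IsUnit (Groth.Agent.M1.ores (X.basicOpen_le (f : Γ(X, V))) f) :=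
      RingedSpace.isUnit_res_basicOpen _ _
    apply (hu.pow n).smul_left_cancel.1
    rw [smul_zero, ← map_pow, ← Groth.Agent.M1.mres_smul]
    exact (congrArg _ (hn _ (Ideal.pow_mem_pow hf n))).trans (map_zero _)

end Groth.Agent.S12903
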