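import Groth.Statements.S12909
import Groth.Agent.Lib.McCoy3.FreeRes

set_option autoImplicit false
universe u
open CAlgX

namespace Groth.Agent.S12909

open scoped Matrix

/-- Let R be a Noetherian ring and I a nonzero ideal with a finite free resolution 0 → R^{n_e} → … →
R^{n_1} → R^{n_0} → I → 0 with e ≥ 1: the map R^{n_{i+1}} → R^{n_i} is the matrix A_i, the map π :
R^{n_0} → R is linear with image I, the kernel of π is the image of A_0, the kernel of A_i is the
image of A_{i+1} for 0 ≤ i ≤ e - 2, and A_{e-1} is injective. Then I contains a non-zero-divisor of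
R. (The hypothesis that I is nonzero is implicit in the published statement: the zero ideal of a
domain has a finite free resolution and contains no non-zero-divisor.) -/
theorem result {R : Type u} [CommRing R] [IsNoetherianRing R]
    (e : ℕ) (he : 1 ≤ e) (n : ℕ → ℕ) (A : (i : ℕ) → Matrix (Fin (n i)) (Fin (n (i + 1))) R)
    (π : (Fin (n 0) → R) →ₗ[R] R) (hI : LinearMap.range π ≠ ⊥)
    (h0 : LinearMap.ker π = LinearMap.range (A 0).mulVecLin)
    (hA : ∀ i, i + 2 ≤ e → LinearMap.ker (A i).mulVecLin = LinearMap.range (A (i + 1)).mulVecLin)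
    (hlast : LinearMap.ker (A (e - 1)).mulVecLin = ⊥) :
    ∃ x : R, x ∈ LinearMap.range π ∧ x ∈ nonZeroDivisors R := by
  classical
  obtain ⟨e, rfl⟩ : ∃ e', e = e' + 1 := ⟨e - 1, by omega⟩
  let Q := FractionRing R
  let ι := algebraMap R Q
  let A' : (i : ℕ) → Matrix (Fin (n i)) (Fin (n (i + 1))) Q := fun i => (A i).map ι
  let Pm : Matrix (Fin 1) (Fin (n 0)) R := Matrix.of fun _ j => π (Pi.single j 1)
  have hPm : ∀ w, (Pm *ᵥ w) 0 = π w := fun w => by
    show ∑ j, π (Pi.single j 1) * w j = π w
    conv_rhs => rw [pi_eq_sum_univ' w, map_sum]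
    refine Finset.sum_congr rfl fun j _ => ?_
    rw [map_smul, smul_eq_mul, mul_comm]
  let π' : (Fin (n 0) → Q) →ₗ[Q] Q := (LinearMap.proj (0 : Fin 1)).comp (Pm.map ι).mulVecLin
  have hker' : LinearMap.ker π' = LinearMap.range (A' 0).mulVecLin := by
    have h1 : LinearMap.ker Pm.mulVecLin = LinearMap.range (A 0).mulVecLin := by
      rw [← h0]
      ext w
      simp only [LinearMap.mem_ker, Matrix.mulVecLin_apply]
      constructor
      · intro h
        rw [← hPm, h]
        rfl
      · intro h
        funext i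
        rw [Fin.fin_one_eq_zero i, hPm, h]
        rfl
    rw [← McCoy3.ker_map_eq_range Pm (A 0) h1]
    ext z
    simp only [LinearMap.mem_ker, π', LinearMap.comp_apply, LinearMap.proj_apply, Matrix.mulVecLin_apply]
    constructor
    · intro h
      funext i
      rw [Fin.fin_one_eq_zero i]
      exact h
    · intro h
      rw [h]
      rfl
  obtain ⟨hP, d, hd⟩ := McCoy3.projective_of_freeResolution McCoy3.eq_top_of_annihilator_eq_bot e n A'
    (LinearMap.range π') π'.rangeRestrict (LinearMap.surjective_rangeRestrict _)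
    (by rw [LinearMap.ker_rangeRestrict]; exact hker')
    (fun i hi => McCoy3.ker_map_eq_range _ _ (hA i hi)) (McCoy3.ker_map_eq_bot _ hlast)
  haveI := hP
  haveI : Module.Finite Q (LinearMap.range π') := Module.Finite.of_surjective _ (LinearMap.surjective_rangeRestrict π')
  have hval : ∀ w, π' (ι ∘ w) = ι (π w) := fun w => by
    show (Pm.map ι *ᵥ (ι ∘ w)) 0 = _
    rw [McCoy3.map_mulVec', Function.comp_apply, hPm]
  have hd0 : d ≠ 0 := by
    intro e0
    haveI hsub : Subsingleton (LinearMap.range π') := Module.rankAtStalk_eq_zero_iff_subsingleton.mp (funext fun p => by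
      rw [hd p, e0]; rfl)
    refine hI (eq_bot_iff.mpr ?_)
    rintro _ ⟨w, rfl⟩
    refine IsFractionRing.injective R Q ?_
    rw [map_zero]
    have := Subsingleton.elim (⟨π' (ι ∘ w), LinearMap.mem_range_self _ _⟩ : LinearMap.range π') 0
    rw [← hval]
    exact congrArg Subtype.val this
  have htop : LinearMap.range π' = ⊤ :=
    McCoy3.eq_top_of_annihilator_eq_bot _ (McCoy3.annihilator_eq_bot_of_rank_pos _ hd0 hd)
  obtain ⟨z, hz⟩ : (1 : Q) ∈ LinearMap.range π' := htop ▸ Submodule.mem_top
  obtain ⟨s, w, hw⟩ := McCoy3.exists_num z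
  refine ⟨π w, LinearMap.mem_range_self _ _, ?_⟩
  have h : ι (π w) = ι (s : R) := by rw [← hval, hw, map_smul, hz, smul_eq_mul, mul_one]
  rw [IsFractionRing.injective R Q h]
  exact s.2

end Groth.Agent.S12909
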