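import Groth.Statements.S12910
import Groth.Agent.Lib.CMReg18.Hyperplane
import Groth.Agent.Lib.NumPoly18.HodgeIndex

set_option autoImplicit false
universe u
open CategoryTheory CategoryTheory.Limits AlgebraicGeometry
open Variety

open Groth.Agent Groth.Agent.CMReg18
namespace Groth.Agent.S12910

/-- Let k be a field, d an integer, and E a bounded chain complex ⋯ → E_2 → E_1 → E_0 of coherent
modules on P^n_k (E_s = 0 for s large) such that E_s is (d + s)-regular for every s and, for every i
> 0, the homology sheaf H_i(E) has support of Krull dimension at most 1. Then the cokernel of E_1 →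
E_0 is d-regular and the image of E_1 → E_0 is (d + 1)-regular. -/
theorem result (k : Type u) [Field k] (n : ℕ)
    (E : ChainComplex ((CohB1.ProjSpace n k).Modules) ℕ) (t : ℕ) (hbdd : ∀ s : ℕ, t < s → IsZero (E.X s))
    (hcoh : ∀ s : ℕ, Coh.IsCoh (E.X s)) (d : ℤ)
    (hreg : ∀ s : ℕ, Curv2.IsMRegular k n (E.X s) (d + s))
    (hsupp : ∀ i : ℕ, 0 < i → topologicalKrullDim (CohB1.support (E.homology i)) ≤ 1) :
    Curv2.IsMRegular k n (cokernel (E.d 1 0)) d ∧
      Curv2.IsMRegular k n (Abelian.image (E.d 1 0)) (d + 1) := by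
  haveI := isProper_projSpace k (n := n)
  haveI : IsNoetherian (CohB1.ProjSpace n k) :=
    CohFound.isNoetherian_of_isProper (CohB1.ProjSpace n k ↘ Spec (CommRingCat.of k))
  let D := projData k n
  have hR : ∀ s, D.IsReg (E.X s) (d + s) := fun s => (isMRegular_iff k (hcoh s).1).1 (hreg s)
  -- homology of positive degree twisted
  have hH : ∀ (j : ℕ) (a : ℤ) (q : ℕ), 2 ≤ q →
      Subsingleton (Coh.HH _ (D.tw (cokernel (bdInCycles E j)) a) q) := by
    intro j a q hq
    have hker : Coh.IsCoh (Zc E j) := M1.isCoh_kernel (hcoh (j + 1)) (hcoh j).1 _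
    have hbd : Coh.IsCoh (Bd E (j + 1)) := M1.isCoh_kernel (hcoh (j + 1))
      (M1.isCoh_cokernel (hcoh (j + 2)).1 (hcoh (j + 1)) _).1 _
    have e : E.homology (j + 1) ≅ cokernel (bdInCycles E j) :=
      E.homologyIsoSc' (j + 2) (j + 1) j (by simp) (by simp) ≪≫
        (ShortComplex.LeftHomologyData.ofHasKernelOfHasCokernel (E.sc' (j + 2) (j + 1) j)).homologyIso ≪≫
        cokernelIsoOfEq (show kernel.lift (E.d (j + 1) j) (E.d (j + 2) (j + 1)) (E.d_comp_d _ _ _) =
          Abelian.factorThruImage (E.d (j + 2) (j + 1)) ≫ bdInCycles E j by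
            simp [← cancel_mono (kernel.ι (E.d (j + 1) j))]) ≪≫
        cokernelEpiComp (Abelian.factorThruImage (E.d (j + 2) (j + 1))) (bdInCycles E j)
    have hc : Coh.IsCoh (cokernel (bdInCycles E j)) := M1.isCoh_cokernel hbd.1 hker _
    refine NumPoly18.subsingleton_HH_of_support (k := k)
      (CurveCoh17.isCoh_tensor hc (Snapper.isCoh_of_isInvertible (D.inv a))) (d := 1) ?_ (by omega)
    refine Snapper.dim_le_of_subset ((Snapper.support_tensor_subset _ _).trans
      (CohFound.support_subset_of_mono e.inv)) ?_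
    simpa using hsupp (j + 1) (Nat.succ_pos j)
  have van : ∀ (r j q : ℕ) (a : ℤ), t + 1 - j ≤ r → 1 ≤ q →
      (∀ l, Subsingleton (Coh.HH _ (D.tw (E.X (j + 1 + l)) a) (q + l))) →
      Subsingleton (Coh.HH _ (D.tw (Bd E j) a) q) := by
    intro r
    induction r with
    | zero =>
      intro j q a hj _ _
      exact van_isZero k ((M2.tensorR (D.O a)).map_isZero
        (IsZero.of_epi (Abelian.factorThruImage (E.d (j + 1) j)) (hbdd _ (by omega)))) q
    | succ r ih =>
      intro j q a hj hq hl
      refine van₃ k (D.shortExact_tw (shortExact_cycles E j) a) (hl 0) ?_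
      refine van₂ k (D.shortExact_tw (shortExact_hom E j) a) ?_ (hH j a (q + 1) (by omega))
      refine ih (j + 1) (q + 1) a (by omega) (by omega) fun l => ?_
      have := hl (l + 1)
      rwa [show j + 1 + (l + 1) = j + 1 + 1 + l by omega, show q + (l + 1) = q + 1 + l by omega] at this
  have himg : ∀ i : ℕ, 1 ≤ i → Subsingleton (Coh.HH _ (D.tw (Bd E 0) (d + 1 - i)) i) := fun i hi =>
    van _ 0 i _ le_rfl hi fun l => (hR (0 + 1 + l)).van k (by omega) (by push_cast; omega)
  refine ⟨fun i hi _ => ?_, fun i hi _ => himg i hi⟩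
  have hS : (ShortComplex.mk (Abelian.image.ι (E.d 1 0)) (cokernel.π (E.d 1 0))
      (kernel.condition _)).ShortExact :=
    { exact := ShortComplex.exact_kernel _ }
  exact van₃ k (D.shortExact_tw hS (d - i)) ((hR 0).van k hi (by push_cast; omega))
    (van_iso k (D.twIso _ (by push_cast; ring)) (himg (i + 1) (by omega)))

end Groth.Agent.S12910
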