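import Groth.Statements.S12912
-- import your own Groth.Agent.* helpers here
import Groth.Agent.Lib.CurveOm17.PullP1
import Groth.Agent.Lib.Twist.GlobalProjSpace
import Groth.Agent.Lib.CurveCoh17.HZero
import Groth.Agent.Lib.VB17.Proper

set_option autoImplicit false
universe u
open CategoryTheory CategoryTheory.Limits AlgebraicGeometry
open Curves

namespace Groth.Agent.S12912

/-- Let k be an algebraically closed field and X a curve over k (integral, proper over k, of dimension
one) with a closed immersion i : X → P^r_k over k whose image lies in no hyperplane: every nonzero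
global section of O(1) on P^r_k pulls back to a nonzero global section of i^* O(1). Then deg i^*
O(1) ≥ r. -/
theorem result (k : Type u) [Field k] [IsAlgClosed k] (r : ℕ)
    (X : Scheme.{u}) [X.Over (Spec (CommRingCat.of k))] [IsIntegral X] [IsProper (X ↘ (Spec (CommRingCat.of k)))]
    (hdim : topologicalKrullDim X = 1)
    (i : X ⟶ CohB1.ProjSpace r k) [IsClosedImmersion i]
    (hi : i ≫ CohB1.ProjSpace.toSpec r k = (X ↘ (Spec (CommRingCat.of k))))
    (hplane : ∀ s : LinSer.Sect (CohB1.ProjSpace r k) (Twist.twistProjSpace r k 1), s ≠ 0 →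
      OmegaSh.pullSect i (Twist.twistProjSpace r k 1) ⊤ s ≠ 0) :
    (r : ℤ) ≤ Curv2.deg k X ((Scheme.Modules.pullback i).obj (Twist.twistProjSpace r k 1)) 1 := by
  classical
  have hX := Groth.Agent.VB17.curveLike (k := k) (X := X) hdim
  haveI := hX.noetherian
  let M := (Scheme.Modules.pullback i).obj (_root_.Twist.twist (CohB1.polyGrading r k) 1)
  have hM : PicF.IsInvertible M := Groth.Agent.Twist.isInvertible_pullback i (Twist.isInvertible_twistProjSpace r k 1)
  have hR := Groth.Agent.CurveCoh17.rkOne_of_invertible hX.dim hM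
  haveI := hX.fin M hR.coh 0
  let v : Fin (r + 1) → Coh.HH X M 0 := fun j => (Groth.Agent.CurveCoh17.hh0 M).symm
    (Groth.Agent.ProjUP.sec (CohB1.polyGrading r k) i (Groth.Agent.Curve17.X_mem j))
  have hv : LinearIndependent k v := Fintype.linearIndependent_iff.2 fun c hc => by
    refine congrFun ?_
    by_contra hne
    have h0 : Groth.Agent.Curve17.vSec (X ↘ Spec (CommRingCat.of k)) i c = 0 := by
      refine Eq.trans (Finset.sum_congr rfl fun j _ => ?_) (((map_sum (Groth.Agent.CurveCoh17.hh0 M) _ _).symm.trans (congrArg (Groth.Agent.CurveCoh17.hh0 M) hc)).trans (map_zero _))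
      refine Eq.trans ?_ (Groth.Agent.CurveCoh17.hh0_smul (M := M) _ _).symm
      rw [AddEquiv.apply_symm_apply]
      rfl
    have hlne : Groth.Agent.Curve17.linForm c ≠ 0 := fun h0 => hne (funext fun j => by
      have := congrArg (MvPolynomial.eval (Pi.single j (1 : k))) h0
      simpa [Groth.Agent.Curve17.linForm, Pi.single_apply, eq_comm] using this)
    let a : (CohB1.polyGrading r k) 1 := ⟨Groth.Agent.Curve17.linForm c, Groth.Agent.Curve17.linForm_mem c⟩
    refine hplane (Twist.globalOf (CohB1.polyGrading r k) a) (fun h => hlne ?_) ?_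
    · have hb := (Groth.Agent.Twist.globalOf_bijective_polyGrading (R := k) (n := r) 1).1
      refine congrArg Subtype.val (hb (a₁ := a) (a₂ := 0) (h.trans (Groth.Agent.Twist.sec_ext fun x hx => ?_)))
      exact (Localization.mk_zero _).symm.trans (Groth.Agent.Twist.val_globalOf (CohB1.polyGrading r k) 0 x hx fun h => x.isPrime.ne_top ((Ideal.eq_top_iff_one _).mpr h)).symm
    · obtain ⟨j, hj⟩ := Groth.Agent.Curve17.exists_X_notMem (i (genericPoint X))
      have hP : genericPoint X ∈ i ⁻¹ᵁ Proj.basicOpen (CohB1.polyGrading r k) (MvPolynomial.X j) := hj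
      have hm : Groth.Agent.Curve17.evAt i j (genericPoint X) hP (Groth.Agent.Curve17.linForm c) = 0 := by
        have h1 : ((M.presheaf.germ ⊤ (genericPoint X) trivial) (Groth.Agent.Curve17.vSec (X ↘ Spec (CommRingCat.of k)) i c) : M.presheaf.stalk (genericPoint X)) = 0 := by
          rw [h0]; exact map_zero _
        erw [Groth.Agent.Curve17.germ_vSec (X ↘ Spec (CommRingCat.of k)) i j (genericPoint X) hP hi c] at h1
        exact (Groth.Agent.Curve17.bijective_smul_genAt i j (genericPoint X) hP).1 (h1.trans (zero_smul _ _).symm)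
      refine Groth.Agent.CurveCoh17.eq_zero_of_germ_eq_zero ((Groth.Agent.M2.isInvertible_iff_isFinLocFreeOfRank_one _).1 hM)
        (Groth.Agent.ProjUP.sec (CohB1.polyGrading r k) i a.2) (x := genericPoint X) ?_
      erw [← Groth.Agent.M1.germ_mres M (le_top : i ⁻¹ᵁ Proj.basicOpen (CohB1.polyGrading r k) (MvPolynomial.X j) ≤ ⊤) hP,
        Groth.Agent.ProjUP.sec_eq_ev_smul (CohB1.polyGrading r k) i (Groth.Agent.Curve17.X_mem j) a.2 _ le_rfl,
        Groth.Agent.M1.germ_smul]
      exact (congrArg (fun z : X.presheaf.stalk (genericPoint X) => z • (Groth.Agent.Curve17.genAt i j (genericPoint X) hP)) hm).trans (zero_smul _ _)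
  have h1 := hv.fintype_card_le_finrank
  rw [Fintype.card_fin] at h1
  haveI : Nontrivial (Coh.HH X M 0) := Module.nontrivial_of_finrank_pos (R := k) (by omega)
  have h2 := hX.h0_le_deg_add hR inferInstance
  rw [hX.h0_eq_one] at h2
  change (r : ℤ) ≤ Curv2.deg k X M 1
  omega

end Groth.Agent.S12912
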