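import Groth.Statements.S12914
import Mathlib.RingTheory.MvPolynomial.Homogeneous
import Mathlib.RingTheory.Polynomial.Basic
import Mathlib.LinearAlgebra.FreeModule.PID
import Mathlib.LinearAlgebra.Dimension.Constructions
import Mathlib.RingTheory.Finiteness.Basic
import Mathlib.Algebra.Polynomial.Div
import Mathlib.FieldTheory.RatFunc.Basic
import Mathlib.Algebra.MvPolynomial.Funext
import Mathlib.RingTheory.MvPolynomial.Ideal
-- import your own Groth.Agent.* helpers here

set_option autoImplicit false
universe u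
open CAlgX

namespace Groth.Agent.S12914

open MvPolynomial

section
variable {F : Type*} [Field F]

lemma comp_mul_hom {σ : Type*} (a h : MvPolynomial σ F) {e : ℕ} (hh : IsHomogeneous h e) (j : ℕ) :
    homogeneousComponent j (a * h) =
      if e ≤ j then homogeneousComponent (j - e) a * h else 0 := by
  conv_lhs => rw [← sum_homogeneousComponent a, Finset.sum_mul, map_sum]
  have key : ∀ i, homogeneousComponent j (homogeneousComponent i a * h) =
      if i + e = j then homogeneousComponent i a * h else 0 := fun i => by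
    rw [homogeneousComponent_of_mem (m := j) (n := i + e)
      ((homogeneousComponent_isHomogeneous i a).mul hh)]
    split_ifs <;> first | rfl | omega
  simp only [key]
  by_cases hej : e ≤ j
  · rw [if_pos hej]
    have : ∀ i, (i + e = j) = (i = j - e) := fun i => by rw [eq_iff_iff]; omega
    simp only [this, Finset.sum_ite_eq', Finset.mem_range]
    by_cases hlt : j - e < a.totalDegree + 1
    · rw [if_pos hlt]
    · rw [if_neg hlt, homogeneousComponent_eq_zero _ _ (by omega), zero_mul]
  · rw [if_neg hej]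
    refine Finset.sum_eq_zero fun i _ => if_neg (by omega)

lemma eval_smul_hom {σ : Type*} (f : MvPolynomial σ F) {n : ℕ} (hf : IsHomogeneous f n)
    (c : F) (w : σ → F) : eval (fun i => c * w i) f = c ^ n * eval w f := by
  rw [eval_eq, eval_eq, Finset.mul_sum]
  refine Finset.sum_congr rfl fun m hm => ?_
  have hdeg : ∑ i ∈ m.support, m i = n := (hf.degree_eq_sum_deg_support hm).symm
  simp only [mul_pow, Finset.prod_mul_distrib, Finset.prod_pow_eq_pow_sum, hdeg]
  ring

/-- The homogeneous vanishing ideal. -/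
noncomputable def VI (Z : Finset (Fin 3 → F)) : Ideal (MvPolynomial (Fin 3) F) where
  carrier := {f | ∀ p ∈ Z, ∀ j : ℕ, eval p (homogeneousComponent j f) = 0}
  add_mem' := by
    intro a b ha hb p hp j
    rw [map_add, map_add, ha p hp j, hb p hp j, add_zero]
  zero_mem' := by intro p hp j; simp
  smul_mem' := by
    intro a f hf p hp j
    rw [smul_eq_mul, ← sum_homogeneousComponent a, Finset.sum_mul, map_sum, map_sum]
    refine Finset.sum_eq_zero fun i _ => ?_
    rw [mul_comm, comp_mul_hom _ _ (homogeneousComponent_isHomogeneous i a)]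
    split_ifs <;> simp [hf p hp]

lemma comp_mem_VI {Z : Finset (Fin 3 → F)} {f : MvPolynomial (Fin 3) F} (hf : f ∈ VI Z) (j : ℕ) :
    homogeneousComponent j f ∈ VI Z := by
  intro p hp i
  rw [homogeneousComponent_of_mem (m := i) (n := j) (homogeneousComponent_isHomogeneous j f)]
  split_ifs
  · exact hf p hp j
  · simp

/-- A linear form. -/
noncomputable def ell (t : F) : MvPolynomial (Fin 3) F := X 0 + C t * X 1 + C (t ^ 2) * X 2

lemma ell_hom (t : F) : IsHomogeneous (ell t) 1 :=
  ((isHomogeneous_X F 0).add (isHomogeneous_C_mul_X t 1)).add (isHomogeneous_C_mul_X _ 2)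

variable (t : F) (al : F)

/-- restriction to the line `ell t = 0`. -/
noncomputable def psi : MvPolynomial (Fin 3) F →ₐ[F] Polynomial (Polynomial F) :=
  aeval ![- Polynomial.C (Polynomial.C t * Polynomial.X) +
        Polynomial.C (Polynomial.C (- t * al - t ^ 2)) * Polynomial.X,
      Polynomial.C Polynomial.X + Polynomial.C (Polynomial.C al) * Polynomial.X,
      Polynomial.X]

/-- a section. -/
noncomputable def sigma : Polynomial (Polynomial F) →+* MvPolynomial (Fin 3) F :=
  Polynomial.eval₂RingHom (Polynomial.eval₂RingHom (C : F →+* MvPolynomial (Fin 3) F) (X 1 - C al * X 2)) (X 2)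

lemma sigma_psi (f : MvPolynomial (Fin 3) F) :
    sigma al (psi t al f) - f ∈ Ideal.span {ell t} := by
  rw [← Ideal.Quotient.eq]
  have h : ((Ideal.Quotient.mk (Ideal.span {ell t})).comp ((sigma al).comp (psi t al).toRingHom)) =
      Ideal.Quotient.mk (Ideal.span {ell t}) := by
    apply MvPolynomial.ringHom_ext
    · intro r; simp [psi, sigma, Polynomial.algebraMap_apply]
    · intro i
      simp only [RingHom.coe_comp, Function.comp_apply]
      rw [Ideal.Quotient.eq]
      fin_cases i
      · refine Ideal.mem_span_singleton'.mpr ⟨-1, ?_⟩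
        simp [psi, sigma, ell, pow_two]; ring
      · simp [psi, sigma]
      · simp [psi, sigma]
  exact DFunLike.congr_fun h f

lemma psi_ell : psi t al (ell t) = 0 := by
  simp [psi, ell, Polynomial.algebraMap_apply]; ring

lemma psi_surj : Function.Surjective (psi t al) := by
  intro q
  refine ⟨sigma al q, ?_⟩
  have h : (psi t al).toRingHom.comp (sigma al) = RingHom.id _ := by
    refine Polynomial.ringHom_ext (fun a => ?_) ?_
    · have h2 : ((psi t al).toRingHom.comp (sigma al)).comp Polynomial.C = Polynomial.C := by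
        refine Polynomial.ringHom_ext (fun r => ?_) ?_
        · simp [psi, sigma, Polynomial.algebraMap_apply]
        · simp [psi, sigma, Polynomial.algebraMap_apply]
      exact DFunLike.congr_fun h2 a
    · simp [psi, sigma]
  exact DFunLike.congr_fun h q

lemma psi_coeff_zero (f : MvPolynomial (Fin 3) F) {n : ℕ} (hf : IsHomogeneous f n) :
    (psi t al f).natDegree ≤ n ∧
      (psi t al f).coeff n = Polynomial.C (eval ![- t * al - t ^ 2, al, 1] f) := by
  set y : Fin 3 → Polynomial (Polynomial F) := ![- Polynomial.C (Polynomial.C t * Polynomial.X) +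
        Polynomial.C (Polynomial.C (- t * al - t ^ 2)) * Polynomial.X,
      Polynomial.C Polynomial.X + Polynomial.C (Polynomial.C al) * Polynomial.X,
      Polynomial.X] with hy
  set q : Fin 3 → F := ![- t * al - t ^ 2, al, 1] with hq
  have hy1 : ∀ i, (y i).natDegree ≤ 1 := by
    intro i; fin_cases i
    · refine (Polynomial.natDegree_add_le _ _).trans (max_le ?_ ?_)
      · rw [Polynomial.natDegree_neg, Polynomial.natDegree_C]; omega
      · exact (Polynomial.natDegree_C_mul_le _ _).trans Polynomial.natDegree_X_le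
    · refine (Polynomial.natDegree_add_le _ _).trans (max_le ?_ ?_)
      · rw [Polynomial.natDegree_C]; omega
      · exact (Polynomial.natDegree_C_mul_le _ _).trans Polynomial.natDegree_X_le
    · exact Polynomial.natDegree_X_le
  have hy2 : ∀ i, (y i).coeff 1 = Polynomial.C (q i) := by
    intro i; fin_cases i <;> simp [hy, hq, Polynomial.coeff_C, pow_two]
  have hpsi : psi t al f = ∑ m ∈ f.support,
      Polynomial.C (Polynomial.C (coeff m f)) * ∏ i, y i ^ m i := by
    rw [psi, aeval_def, eval₂_eq']
    rfl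
  have hterm : ∀ m ∈ f.support, (∏ i, y i ^ m i).natDegree ≤ n ∧
      (∏ i, y i ^ m i).coeff n = Polynomial.C (∏ i, q i ^ m i) := by
    intro m hm
    have hdeg : m 0 + m 1 + m 2 = n := by
      have h1 := hf.degree_eq_sum_deg_support hm
      rw [Finset.sum_subset (Finset.subset_univ m.support) (by simp)] at h1
      rw [h1, Fin.sum_univ_three]
    have key : ∀ i, (y i ^ m i).natDegree ≤ m i ∧ (y i ^ m i).coeff (m i) = Polynomial.C (q i ^ m i) := by
      intro i
      refine ⟨Polynomial.natDegree_pow_le.trans (by have := hy1 i; nlinarith), ?_⟩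
      have h1 := Polynomial.coeff_pow_of_natDegree_le (hy1 i) (m := m i)
      rw [mul_one] at h1
      rw [h1, hy2 i, map_pow]
    rw [Fin.prod_univ_three, Fin.prod_univ_three, ← hdeg]
    refine ⟨Polynomial.natDegree_mul_le.trans (add_le_add (Polynomial.natDegree_mul_le.trans
      (add_le_add (key 0).1 (key 1).1)) (key 2).1), ?_⟩
    rw [Polynomial.coeff_mul_add_eq_of_natDegree_le
      (Polynomial.natDegree_mul_le.trans (add_le_add (key 0).1 (key 1).1)) (key 2).1,
      Polynomial.coeff_mul_add_eq_of_natDegree_le (key 0).1 (key 1).1, (key 0).2, (key 1).2, (key 2).2]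
    simp only [map_mul]
  refine ⟨?_, ?_⟩
  · rw [hpsi]
    refine Polynomial.natDegree_sum_le_of_forall_le _ _ fun m hm => ?_
    exact (Polynomial.natDegree_C_mul_le _ _).trans (hterm m hm).1
  · rw [hpsi, Polynomial.finsetSum_coeff, eval_eq', map_sum]
    refine Finset.sum_congr rfl fun m hm => ?_
    rw [Polynomial.coeff_C_mul, (hterm m hm).2, map_mul]

lemma mul_ell_mem_iff {Z : Finset (Fin 3 → F)} (hZ : ∀ p ∈ Z, eval p (ell t) ≠ 0)
    {c : MvPolynomial (Fin 3) F} (h : c * ell t ∈ VI Z) : c ∈ VI Z := by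
  intro p hp j
  have := h p hp (j + 1)
  rw [comp_mul_hom _ _ (ell_hom t), if_pos (by omega), map_mul, Nat.add_sub_cancel] at this
  exact (mul_eq_zero.mp this).resolve_right (hZ p hp)

lemma key [Infinite F] (Z : Finset (Fin 3 → F)) (hZ : ∀ p ∈ Z, eval p (ell t) ≠ 0) (d : ℕ)
    (hf : ∃ f ∈ VI Z, IsHomogeneous f d ∧ f ≠ 0) :
    ∃ n ≤ d + 1, ∃ g : Fin n → MvPolynomial (Fin 3) F, (∀ i, g i ∈ VI Z) ∧
      VI Z ≤ Ideal.span (Set.range g) ⊔ Ideal.span {ell t} * VI Z := by
  classical
  have hex : ∃ e, ∃ f ∈ VI Z, IsHomogeneous f e ∧ f ≠ 0 := ⟨d, hf⟩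
  set e := Nat.find hex with he
  obtain ⟨f0, hf0, hf0h, hf0n⟩ := Nat.find_spec hex
  have hed : e ≤ d := Nat.find_min' hex hf
  have hnd : f0 ∉ Ideal.span {ell t} := by
    intro hmem
    obtain ⟨c, hc⟩ := Ideal.mem_span_singleton'.mp hmem
    have hcI : c ∈ VI Z := mul_ell_mem_iff t hZ (hc ▸ hf0)
    have h1 : f0 = homogeneousComponent e (c * ell t) := by
      rw [hc, homogeneousComponent_eq_self hf0h]
    rw [comp_mul_hom _ _ (ell_hom t)] at h1
    split_ifs at h1 with h1e
    · have hne : homogeneousComponent (e - 1) c ≠ 0 := fun h0 => hf0n (by rw [h1, h0, zero_mul])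
      have := Nat.find_min' hex ⟨_, comp_mem_VI hcI (e - 1),
        homogeneousComponent_isHomogeneous _ _, hne⟩
      omega
    · exact hf0n h1
  obtain ⟨al, hal⟩ : ∃ al : F, eval ![- t * al - t ^ 2, al, 1] f0 ≠ 0 := by
    let sub : MvPolynomial (Fin 3) F →ₐ[F] MvPolynomial (Fin 3) F :=
      aeval ![- C t * X 1 - C (t ^ 2) * X 2, X 1, X 2]
    have hs : sub f0 - f0 ∈ Ideal.span {ell t} := by
      rw [← Ideal.Quotient.eq]
      have h : (Ideal.Quotient.mk (Ideal.span {ell t})).comp sub.toRingHom =
          Ideal.Quotient.mk (Ideal.span {ell t}) := by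
        apply MvPolynomial.ringHom_ext
        · intro r; simp [sub]
        · intro i
          simp only [RingHom.coe_comp, Function.comp_apply]
          rw [Ideal.Quotient.eq]
          fin_cases i
          · refine Ideal.mem_span_singleton'.mpr ⟨-1, ?_⟩
            simp [sub, ell]; ring
          · simp [sub]
          · simp [sub]
      exact DFunLike.congr_fun h f0
    have hne : sub f0 * X 2 ≠ 0 := by
      refine mul_ne_zero (fun h0 => hnd ?_) (X_ne_zero _)
      rw [h0, zero_sub, neg_mem_iff] at hs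
      exact hs
    obtain ⟨w, hw⟩ : ∃ w : Fin 3 → F, eval w (sub f0 * X 2) ≠ 0 := by
      by_contra hcon
      simp only [not_exists, not_not] at hcon
      exact hne (MvPolynomial.funext fun w => by rw [hcon w]; simp)
    rw [map_mul, eval_X] at hw
    have hw2 : w 2 ≠ 0 := right_ne_zero_of_mul hw
    have hval : eval w (sub f0) = eval ![- t * w 1 - t ^ 2 * w 2, w 1, w 2] f0 := by
      have h : (eval w).comp sub.toRingHom = eval ![- t * w 1 - t ^ 2 * w 2, w 1, w 2] := by
        apply MvPolynomial.ringHom_ext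
        · intro r; simp [sub]
        · intro i; fin_cases i <;> simp [sub]
      exact DFunLike.congr_fun h f0
    refine ⟨w 1 / w 2, fun h0 => left_ne_zero_of_mul hw ?_⟩
    rw [hval]
    have hsc : (![- t * w 1 - t ^ 2 * w 2, w 1, w 2] : Fin 3 → F) =
        fun i => w 2 * (![- t * (w 1 / w 2) - t ^ 2, w 1 / w 2, 1] : Fin 3 → F) i := by
      funext i; fin_cases i <;> simp <;> field_simp
    rw [hsc, eval_smul_hom f0 hf0h, h0, mul_zero]
  let J : Ideal (Polynomial (Polynomial F)) := (VI Z).map (psi t al).toRingHom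
  obtain ⟨hdle, hco⟩ := psi_coeff_zero t al f0 hf0h
  set c0 := eval ![- t * al - t ^ 2, al, 1] f0 with hc0
  set F1 : Polynomial (Polynomial F) := Polynomial.C (Polynomial.C c0⁻¹) * psi t al f0 with hF1
  have hF1c : F1.coeff e = 1 := by
    rw [hF1, Polynomial.coeff_C_mul, hco, ← map_mul, inv_mul_cancel₀ hal, map_one]
  have hF1d : F1.natDegree ≤ e := (Polynomial.natDegree_C_mul_le _ _).trans hdle
  have hF1m : F1.Monic := Polynomial.monic_of_natDegree_le_of_coeff_eq_one e hF1d hF1c
  have hF1deg : F1.natDegree = e :=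
    le_antisymm hF1d (Polynomial.le_natDegree_of_ne_zero (by rw [hF1c]; exact one_ne_zero))
  have hF1J : F1 ∈ J := Ideal.mul_mem_left _ _ (Ideal.mem_map_of_mem _ hf0)
  let N : Submodule (Polynomial F) (Fin e → Polynomial F) :=
    ((J.restrictScalars (Polynomial F)).comap (Polynomial.degreeLT (Polynomial F) e).subtype).map
      (Polynomial.degreeLTEquiv (Polynomial F) e).toLinearMap
  obtain ⟨m, b⟩ := Submodule.basisOfPid (Pi.basisFun (Polynomial F) (Fin e)) N
  have hm : m ≤ e := by
    have h := b.linearIndependent.map' N.subtype (Submodule.ker_subtype N)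
    simpa using h.fintype_card_le_finrank
  have hlift : ∀ i : Fin m, ∃ g ∈ VI Z,
      psi t al g = ((Polynomial.degreeLTEquiv (Polynomial F) e).symm (b i : Fin e → Polynomial F)).1 := by
    intro i
    obtain ⟨x, hx, hxe⟩ := Submodule.mem_map.mp (b i).2
    rw [← hxe, LinearEquiv.coe_coe, LinearEquiv.symm_apply_apply]
    have hx' : (x : Polynomial (Polynomial F)) ∈ J := hx
    exact (Ideal.mem_map_iff_of_surjective _ (psi_surj t al)).mp hx'
  choose g hgI hg using hlift
  refine ⟨m + 1, by omega, Fin.cons (C c0⁻¹ * f0) g, ?_, ?_⟩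
  · intro i
    refine Fin.cases ?_ ?_ i
    · simpa using Ideal.mul_mem_left _ _ hf0
    · intro j; simpa using hgI j
  · intro f hfm
    set G := Ideal.span (Set.range (Fin.cons (C c0⁻¹ * f0) g : Fin (m + 1) → MvPolynomial (Fin 3) F)) with hG
    have hGI : G ≤ VI Z := Ideal.span_le.mpr (by
      rintro _ ⟨i, rfl⟩
      refine Fin.cases ?_ ?_ i
      · simpa using Ideal.mul_mem_left _ _ hf0
      · intro j; simpa using hgI j)
    have hG0 : psi t al f ∈ G.map (psi t al).toRingHom := by
      have hF : F1 ∈ G.map (psi t al).toRingHom := by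
        have : F1 = psi t al (C c0⁻¹ * f0) := by
          rw [map_mul, hF1]; simp [psi, Polynomial.algebraMap_apply]
        rw [this]
        exact Ideal.mem_map_of_mem _ (Ideal.subset_span ⟨0, by simp⟩)
      have hr : psi t al f %ₘ F1 ∈ J := by
        rw [Polynomial.modByMonic_eq_sub_mul_div]
        exact sub_mem (Ideal.mem_map_of_mem _ hfm) (Ideal.mul_mem_right _ _ hF1J)
      have hlt : psi t al f %ₘ F1 ∈ Polynomial.degreeLT (Polynomial F) e := by
        rw [Polynomial.mem_degreeLT]
        refine (Polynomial.degree_modByMonic_lt _ hF1m).trans_le ?_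
        rw [Polynomial.degree_eq_natDegree hF1m.ne_zero, hF1deg]
      have hNmem : Polynomial.degreeLTEquiv (Polynomial F) e ⟨_, hlt⟩ ∈ N :=
        Submodule.mem_map.mpr ⟨⟨_, hlt⟩, hr, rfl⟩
      have hexp := b.sum_repr ⟨_, hNmem⟩
      apply_fun (fun x : N => ((Polynomial.degreeLTEquiv (Polynomial F) e).symm (x : Fin e → Polynomial F)).1) at hexp
      simp only [Submodule.coe_sum, Submodule.coe_smul, map_sum, map_smul,
        LinearEquiv.symm_apply_apply, ← hg] at hexp
      have hrem : psi t al f %ₘ F1 ∈ G.map (psi t al).toRingHom := by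
        rw [← hexp]
        refine sum_mem fun i _ => ?_
        rw [Polynomial.smul_eq_C_mul]
        exact Ideal.mul_mem_left _ _ (Ideal.mem_map_of_mem _ (Ideal.subset_span ⟨i.succ, by simp⟩))
      rw [← Polynomial.modByMonic_add_div (psi t al f) F1]
      exact add_mem hrem (Ideal.mul_mem_right _ _ hF)
    obtain ⟨g', hg', hpg⟩ := (Ideal.mem_map_iff_of_surjective _ (psi_surj t al)).mp hG0
    have hdiff : f - g' ∈ Ideal.span {ell t} := by
      have h1 := sigma_psi t al (f - g')
      have h0 : psi t al (f - g') = 0 := by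
        rw [map_sub, sub_eq_zero]; exact hpg.symm
      rw [h0, map_zero, zero_sub, neg_mem_iff] at h1
      exact h1
    obtain ⟨c, hc⟩ := Ideal.mem_span_singleton'.mp hdiff
    have hcI : c ∈ VI Z := mul_ell_mem_iff t hZ (hc ▸ sub_mem hfm (hGI hg'))
    have : f = g' + ell t * c := by rw [mul_comm, hc]; ring
    rw [this]
    exact add_mem (Ideal.mem_sup_left hg') (Ideal.mem_sup_right
      (Ideal.mul_mem_mul (Ideal.mem_span_singleton_self _) hcI))

/-- The irrelevant ideal. -/
noncomputable abbrev irr : Ideal (MvPolynomial (Fin 3) F) := Ideal.span (Set.range X)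

lemma le_span_of_le_sup (Z : Finset (Fin 3 → F)) {N : ℕ} (h : Fin N → MvPolynomial (Fin 3) F)
    (e : Fin N → ℕ) (hh : ∀ i, IsHomogeneous (h i) (e i)) (hI : ∀ i, h i ∈ VI Z)
    (hle : ∀ f ∈ VI Z, f ∈ Ideal.span (Set.range h) ⊔ irr * VI Z) :
    VI Z ≤ Ideal.span (Set.range h) := by
  have key : ∀ j, ∀ f ∈ VI Z, homogeneousComponent j f ∈ Ideal.span (Set.range h) := by
    intro j
    induction j using Nat.strong_induction_on with
    | _ j ih =>
      intro f hf
      obtain ⟨a, ha, b, hb, hab⟩ := Submodule.mem_sup.mp (hle _ hf)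
      rw [← hab, map_add]
      refine add_mem ?_ ?_
      · obtain ⟨c, hc⟩ := Ideal.mem_span_range_iff_exists_fun.mp ha
        rw [← hc, map_sum]
        refine sum_mem fun i _ => ?_
        rw [comp_mul_hom _ _ (hh i)]
        split_ifs
        · exact Ideal.mul_mem_left _ _ (Ideal.subset_span ⟨i, rfl⟩)
        · exact zero_mem _
      · refine Submodule.mul_induction_on hb ?_ (fun x y hx hy => by rw [map_add]; exact add_mem hx hy)
        intro r hr s hs
        obtain ⟨c, hc⟩ := Ideal.mem_span_range_iff_exists_fun.mp hr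
        rw [← hc, Finset.sum_mul, map_sum]
        refine sum_mem fun i _ => ?_
        rw [show c i * X i * s = (c i * s) * X i by ring, comp_mul_hom _ _ (isHomogeneous_X F i)]
        split_ifs
        · exact Ideal.mul_mem_right _ _ (ih (j - 1) (by omega) _ (Ideal.mul_mem_left _ _ hs))
        · exact zero_mem _
  intro f hf
  rw [← sum_homogeneousComponent f]
  exact sum_mem fun j _ => key j f hf

end

section
variable {k K : Type*} [Field k] [Field K] [Algebra k K]

/-- Apply a `k`-linear functional to coefficients. -/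
noncomputable def Phi (φ : K →ₗ[k] k) : MvPolynomial (Fin 3) K →+ MvPolynomial (Fin 3) k where
  toFun f := ∑ m ∈ f.support, monomial m (φ (coeff m f))
  map_zero' := by simp
  map_add' f g := by
    classical
    have h : ∀ f : MvPolynomial (Fin 3) K, ∀ m,
        coeff m (∑ m' ∈ f.support, monomial m' (φ (coeff m' f))) = φ (coeff m f) := by
      intro f m
      rw [coeff_sum]
      simp only [coeff_monomial]
      rw [Finset.sum_ite_eq']
      split_ifs with hm
      · rfl
      · rw [notMem_support_iff.mp hm, map_zero]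
    ext m
    rw [coeff_add, h, h, h, coeff_add, map_add]

lemma coeff_Phi (φ : K →ₗ[k] k) (f : MvPolynomial (Fin 3) K) (m : Fin 3 →₀ ℕ) :
    coeff m (Phi φ f) = φ (coeff m f) := by
  classical
  show coeff m (∑ m' ∈ f.support, monomial m' (φ (coeff m' f))) = _
  rw [coeff_sum]
  simp only [coeff_monomial]
  rw [Finset.sum_ite_eq']
  split_ifs with hm
  · rfl
  · rw [notMem_support_iff.mp hm, map_zero]

lemma Phi_map_mul (φ : K →ₗ[k] k) (a : MvPolynomial (Fin 3) k) (f : MvPolynomial (Fin 3) K) :
    Phi φ (MvPolynomial.map (algebraMap k K) a * f) = a * Phi φ f := by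
  classical
  induction a using MvPolynomial.induction_on' with
  | monomial u c =>
    ext m
    rw [map_monomial, coeff_Phi, coeff_monomial_mul', coeff_monomial_mul', coeff_Phi]
    split_ifs
    · rw [← Algebra.smul_def, map_smul, smul_eq_mul]
    · rw [map_zero]
  | add p q hp hq => rw [map_add, add_mul, map_add, hp, hq, add_mul]

lemma eval_Phi (φ : K →ₗ[k] k) (p : Fin 3 → k) (f : MvPolynomial (Fin 3) K) :
    eval p (Phi φ f) = φ (eval (fun i => algebraMap k K (p i)) f) := by
  induction f using MvPolynomial.induction_on' with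
  | monomial u c =>
    have h : Phi φ (monomial u c) = monomial u (φ c) := by
      classical
      ext m
      rw [coeff_Phi, coeff_monomial, coeff_monomial]
      split_ifs <;> simp
    rw [h, eval_monomial, eval_monomial]
    have h2 : (u.prod fun n e => algebraMap k K (p n) ^ e) = algebraMap k K (u.prod fun n e => p n ^ e) := by
      rw [map_finsuppProd]; simp only [map_pow]
    rw [h2, mul_comm c, ← Algebra.smul_def, map_smul, smul_eq_mul, mul_comm]
  | add p q hp hq => rw [map_add, map_add, map_add, hp, hq, map_add]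

lemma comp_Phi (φ : K →ₗ[k] k) (f : MvPolynomial (Fin 3) K) (j : ℕ) :
    homogeneousComponent j (Phi φ f) = Phi φ (homogeneousComponent j f) := by
  ext m
  rw [coeff_Phi, coeff_homogeneousComponent, coeff_homogeneousComponent, coeff_Phi]
  split_ifs <;> simp

end


/-- Let k be a field, Z a finite set of nonzero vectors in k^3, regarded as points of the projective
plane, and I the homogeneous vanishing ideal of Z in k[x_0, x_1, x_2]: a polynomial belongs to I
exactly when every one of its homogeneous components vanishes at every vector of Z. If Z lies on a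
curve of degree d, that is I contains a nonzero homogeneous form of degree d, then I is generated by
at most d + 1 elements. -/
theorem result (k : Type u) [Field k]
    (Z : Finset (Fin 3 → k)) (hZ : ∀ p ∈ Z, p ≠ 0) (I : Ideal (MvPolynomial (Fin 3) k))
    (hI : ∀ f : MvPolynomial (Fin 3) k, f ∈ I ↔
      ∀ p ∈ Z, ∀ j : ℕ, MvPolynomial.eval p (MvPolynomial.homogeneousComponent j f) = 0)
    (d : ℕ) (hf : ∃ f ∈ I, MvPolynomial.IsHomogeneous f d ∧ f ≠ 0) :
    Submodule.spanFinrank I ≤ d + 1 := by
  classical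
  have hI' : I = VI Z := by
    ext f; exact hI f
  subst hI'
  let K := FractionRing (Polynomial k)
  let ι : k →+* K := algebraMap k K
  let T : K := algebraMap (Polynomial k) K Polynomial.X
  let ZK : Finset (Fin 3 → K) := Z.image fun p i => ι (p i)
  haveI : Infinite K := Infinite.of_injective _ (IsFractionRing.injective (Polynomial k) K)
  have hι : ∀ a : k, ι a = algebraMap (Polynomial k) K (Polynomial.C a) := fun a =>
    IsScalarTower.algebraMap_apply k (Polynomial k) K a
  have hZK : ∀ p ∈ ZK, eval p (ell T) ≠ 0 := by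
    intro q hq
    obtain ⟨p, hp, rfl⟩ := Finset.mem_image.mp hq
    have : eval (fun i => ι (p i)) (ell T) = algebraMap (Polynomial k) K
        (Polynomial.C (p 0) + Polynomial.X * Polynomial.C (p 1) + Polynomial.X ^ 2 * Polynomial.C (p 2)) := by
      simp [ell, hι, T]; ring
    rw [this, Ne, ← map_zero (algebraMap (Polynomial k) K),
      (IsFractionRing.injective (Polynomial k) K).eq_iff]
    intro h0
    apply hZ p hp
    funext i
    have := congrArg (fun q : Polynomial k => q.coeff (i : ℕ)) h0
    fin_cases i <;> simp [Polynomial.coeff_C, Polynomial.coeff_X_pow_mul', Polynomial.coeff_X_mul_zero] at this ⊢ <;> exact this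
  have hfK : ∃ f ∈ VI ZK, IsHomogeneous f d ∧ f ≠ 0 := by
    obtain ⟨f, hf, hfh, hfn⟩ := hf
    refine ⟨MvPolynomial.map ι f, ?_, hfh.map ι, ?_⟩
    · intro q hq j
      obtain ⟨p, hp, rfl⟩ := Finset.mem_image.mp hq
      rw [homogeneousComponent_of_mem (m := j) (n := d) (hfh.map ι)]
      split_ifs with hj
      · have h0 := hf p hp d
        rw [homogeneousComponent_eq_self hfh] at h0
        rw [eval_map]
        have h2 := MvPolynomial.eval₂_comp ι p f
        rw [h0, map_zero] at h2
        exact h2.symm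
      · simp
    · rw [Ne, ← map_zero (MvPolynomial.map ι), (map_injective ι ι.injective).eq_iff]
      exact hfn
  obtain ⟨n, hn, g, hg, hgen⟩ := key T ZK hZK d hfK
  -- homogeneous generators
  have hexh : ∃ N, ∃ h : Fin N → MvPolynomial (Fin 3) k, (∀ i, h i ∈ VI Z) ∧
      (∀ i, ∃ e, IsHomogeneous (h i) e) ∧ VI Z ≤ Ideal.span (Set.range h) := by
    obtain ⟨s, hs⟩ : (VI Z).FG := IsNoetherian.noetherian _
    let G : Finset (MvPolynomial (Fin 3) k) := s.biUnion fun f =>
      (Finset.range (f.totalDegree + 1)).image fun j => homogeneousComponent j f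
    refine ⟨G.card, fun i => (G.equivFin.symm i : G).1, ?_, ?_, ?_⟩
    · intro i
      obtain ⟨f, hf, hfi⟩ := Finset.mem_biUnion.mp (G.equivFin.symm i : G).2
      obtain ⟨j, _, hj⟩ := Finset.mem_image.mp hfi
      simp only [← hj]
      exact comp_mem_VI (hs ▸ Ideal.subset_span hf) j
    · intro i
      obtain ⟨f, hf, hfi⟩ := Finset.mem_biUnion.mp (G.equivFin.symm i : G).2
      obtain ⟨j, _, hj⟩ := Finset.mem_image.mp hfi
      exact ⟨j, by simp only [← hj]; exact homogeneousComponent_isHomogeneous j f⟩
    · rw [← hs, Ideal.span_le]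
      intro f hf
      rw [SetLike.mem_coe, ← sum_homogeneousComponent f]
      refine sum_mem fun j hj => Ideal.subset_span ?_
      exact ⟨G.equivFin ⟨_, Finset.mem_biUnion.mpr ⟨f, hf, Finset.mem_image.mpr ⟨j, hj, rfl⟩⟩⟩, by simp⟩
  have hspec := Nat.find_spec hexh
  obtain ⟨N, hN⟩ : ∃ N, Nat.find hexh = N := ⟨_, rfl⟩
  rw [hN] at hspec
  obtain ⟨h, hhI, hhh, hhs⟩ := hspec
  have hspan : Ideal.span (Set.range h) = VI Z :=
    le_antisymm (Ideal.span_le.mpr (by rintro _ ⟨i, rfl⟩; exact hhI i)) hhs
  choose e he using hhh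
  suffices hNn : N ≤ n by
    rw [← hspan]
    refine le_trans (Submodule.spanFinrank_span_le_ncard_of_finite (Set.finite_range h)) ?_
    refine le_trans ?_ (hNn.trans hn)
    simpa using Finset.card_image_le (s := (Finset.univ : Finset (Fin N))) (f := h) |>.trans_eq' (by
      rw [← Set.ncard_coe_finset, Finset.coe_image, Finset.coe_univ, Set.image_univ])
  by_contra hlt
  have hind : ∀ c : Fin N → k, ∑ i, C (c i) * h i ∈ irr * VI Z → ∀ i, c i = 0 := by
    intro c hc i0
    by_contra hci
    obtain ⟨M, hM⟩ : ∃ M, N = M + 1 := ⟨N - 1, by have := i0.2; omega⟩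
    have hmem : h i0 ∈ Ideal.span (h '' {i | i ≠ i0}) ⊔ irr * VI Z := by
      have : h i0 = C (c i0)⁻¹ * (∑ i, C (c i) * h i)
          - C (c i0)⁻¹ * (∑ i ∈ Finset.univ.erase i0, C (c i) * h i) := by
        rw [← Finset.add_sum_erase _ _ (Finset.mem_univ i0), mul_add, add_sub_cancel_right,
          ← mul_assoc, ← map_mul, inv_mul_cancel₀ hci, map_one, one_mul]
      rw [this]
      refine sub_mem (Ideal.mem_sup_right (Ideal.mul_mem_left _ _ hc)) (Ideal.mem_sup_left ?_)
      refine Ideal.mul_mem_left _ _ (sum_mem fun i hi => ?_)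
      exact Ideal.mul_mem_left _ _ (Ideal.subset_span ⟨i, (Finset.mem_erase.mp hi).1, rfl⟩)
    let i0' : Fin (M + 1) := Fin.cast hM i0
    let h' : Fin M → MvPolynomial (Fin 3) k := fun i => h (Fin.cast hM.symm (i0'.succAbove i))
    have hr : h '' {i | i ≠ i0} ⊆ Set.range h' := by
      rintro _ ⟨i, hi, rfl⟩
      obtain ⟨j, hj⟩ := Fin.exists_succAbove_eq (x := Fin.cast hM i) (y := i0')
        (fun hh => hi (Fin.cast_injective hM hh))
      exact ⟨j, by show h (Fin.cast hM.symm (i0'.succAbove j)) = h i; rw [hj]; rfl⟩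
    have hle : VI Z ≤ Ideal.span (Set.range h') := by
      refine le_span_of_le_sup Z h' (fun i => e (Fin.cast hM.symm (i0'.succAbove i)))
        (fun i => he _) (fun i => hhI _) fun f hf => ?_
      have hf' : f ∈ Ideal.span (Set.range h) := hhs hf
      refine (Ideal.span_le (I := Ideal.span (Set.range h') ⊔ irr * VI Z)).mpr ?_ hf'
      rintro _ ⟨i, rfl⟩
      by_cases hi : i = i0
      · subst hi
        exact (sup_le_sup_right (Ideal.span_mono hr) _ : _ ≤ _) hmem
      · exact Ideal.mem_sup_left (Ideal.subset_span (hr ⟨i, hi, rfl⟩))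
    exact Nat.find_min hexh (by omega) ⟨h', fun i => hhI _, fun i => ⟨_, he _⟩, hle⟩
  -- over K
  have hmapI : ∀ f ∈ VI Z, MvPolynomial.map ι f ∈ VI ZK := by
    intro f hf q hq j
    obtain ⟨p, hp, rfl⟩ := Finset.mem_image.mp hq
    have hc : homogeneousComponent j (MvPolynomial.map ι f) = MvPolynomial.map ι (homogeneousComponent j f) := by
      ext m
      rw [coeff_map, coeff_homogeneousComponent, coeff_homogeneousComponent, coeff_map]
      split_ifs <;> simp
    rw [hc, eval_map]
    have h2 := MvPolynomial.eval₂_comp ι p (homogeneousComponent j f)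
    rw [hf p hp j, map_zero] at h2
    exact h2.symm
  have hell : ell T ∈ (irr : Ideal (MvPolynomial (Fin 3) K)) :=
    add_mem (add_mem (Ideal.subset_span ⟨0, rfl⟩) (Ideal.mul_mem_left _ _ (Ideal.subset_span ⟨1, rfl⟩)))
      (Ideal.mul_mem_left _ _ (Ideal.subset_span ⟨2, rfl⟩))
  have hA : ∀ i, ∃ a : Fin n → K,
      MvPolynomial.map ι (h i) - ∑ j, C (a j) * g j ∈ irr * VI ZK := by
    intro i
    obtain ⟨u, hu, v, hv, huv⟩ := Submodule.mem_sup.mp (hgen (hmapI _ (hhI i)))
    obtain ⟨c, hc⟩ := Ideal.mem_span_range_iff_exists_fun.mp hu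
    refine ⟨fun j => coeff 0 (c j), ?_⟩
    rw [← huv, ← hc, add_sub_right_comm, ← Finset.sum_sub_distrib]
    refine add_mem (sum_mem fun j _ => ?_) ?_
    · rw [← sub_mul]
      refine Ideal.mul_mem_mul ?_ (hg j)
      show c j - C (coeff 0 (c j)) ∈ Ideal.span (Set.range X)
      rw [← Set.image_univ, MvPolynomial.mem_ideal_span_X_image]
      intro m hm
      have hm0 : m ≠ 0 := by
        rintro rfl
        simp at hm
      obtain ⟨i, hi⟩ := Finsupp.ne_iff.mp hm0
      exact ⟨i, Set.mem_univ _, by simpa using hi⟩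
    · exact Ideal.mul_mono_left (Ideal.span_le.mpr (by simpa using hell)) hv
  choose a ha using hA
  obtain ⟨c, hc, i0, -, hci0⟩ : ∃ c : Fin N → K, (∀ j, ∑ i, c i * a i j = 0) ∧ ∃ i0, True ∧ c i0 ≠ 0 := by
    have hdep : ¬ LinearIndependent K a := fun hli => hlt (by
      have := hli.fintype_card_le_finrank
      simpa using this)
    obtain ⟨c, hc, i0, hi0⟩ := Fintype.not_linearIndependent_iff.mp hdep
    refine ⟨c, fun j => ?_, i0, trivial, hi0⟩
    simpa using congrFun hc j
  have hsum : ∑ i, C (c i) * MvPolynomial.map ι (h i) ∈ irr * VI ZK := by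
    have h0 : ∑ i, C (c i) * (∑ j, C (a i j) * g j) = 0 := by
      simp only [Finset.mul_sum, ← mul_assoc, ← map_mul]
      rw [Finset.sum_comm]
      refine Finset.sum_eq_zero fun j _ => ?_
      rw [← Finset.sum_mul, ← map_sum, hc j, map_zero, zero_mul]
    have : ∑ i, C (c i) * MvPolynomial.map ι (h i) =
        ∑ i, C (c i) * (MvPolynomial.map ι (h i) - ∑ j, C (a i j) * g j) := by
      simp only [mul_sub]
      rw [Finset.sum_sub_distrib, h0, sub_zero]
    rw [this]
    exact sum_mem fun i _ => Ideal.mul_mem_left _ _ (ha i)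
  obtain ⟨φ, hφ⟩ := LinearMap.exists_leftInverse_of_injective
    (LinearMap.toSpanSingleton k K (c i0)) (LinearMap.ker_eq_bot.mpr (smul_left_injective k hci0))
  have hφ1 : φ (c i0) = 1 := by simpa using LinearMap.congr_fun hφ 1
  have hPI : ∀ f ∈ VI ZK, Phi φ f ∈ VI Z := by
    intro f hf p hp j
    rw [comp_Phi, eval_Phi, hf _ (Finset.mem_image.mpr ⟨p, hp, rfl⟩) j, map_zero]
  have hPm : ∀ f ∈ irr * VI ZK, Phi φ f ∈ irr * VI Z := by
    intro f hf
    refine Submodule.mul_induction_on hf ?_ (fun x y hx hy => by rw [map_add]; exact add_mem hx hy)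
    intro r hr s hs
    obtain ⟨b, hb⟩ := Ideal.mem_span_range_iff_exists_fun.mp hr
    rw [← hb, Finset.sum_mul, map_sum]
    refine sum_mem fun i _ => ?_
    rw [show b i * X i * s = MvPolynomial.map ι (X i) * (b i * s) by rw [map_X]; ring, Phi_map_mul]
    exact Ideal.mul_mem_mul (Ideal.subset_span ⟨i, rfl⟩) (hPI _ (Ideal.mul_mem_left _ _ hs))
  have hfin : ∑ i, C (φ (c i)) * h i ∈ irr * VI Z := by
    have h1 := hPm _ hsum
    rw [map_sum] at h1
    have hC : ∀ x : K, Phi φ (C x) = C (φ x) := fun x => by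
      ext m
      classical
      rw [coeff_Phi, coeff_C, coeff_C]
      split_ifs <;> simp
    have h2 : ∀ i, Phi φ (C (c i) * MvPolynomial.map ι (h i)) = C (φ (c i)) * h i := fun i => by
      show Phi φ (C (c i) * MvPolynomial.map (algebraMap k K) (h i)) = _
      rw [mul_comm, Phi_map_mul, hC, mul_comm]
    simpa only [h2] using h1
  have := hind _ hfin i0
  rw [hφ1] at this
  exact one_ne_zero this

end Groth.Agent.S12914
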