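import Groth.Statements.S12915
import Mathlib

set_option autoImplicit false
universe u
open CAlgX

namespace Groth.Agent.S12915

/-- Let k be a field, S = k[x_0, …, x_r], and f a nonzero homogeneous polynomial of degree m. For every
t ≥ m the image in S/(f) of the homogeneous polynomials of degree t is a k-vector space of dimension
C(t + r, r) - C(t + r - m, r). (The published clause states that the hypersurface f = 0 in P^r has
degree m; its proof computes exactly this Hilbert function, whose polynomial has leading term m
t^(r-1)/(r-1)!, and that computation is what is stated here.) -/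
theorem result (k : Type u) [Field k] (r m : ℕ)
    (f : MvPolynomial (Fin (r + 1)) k) (hf : f.IsHomogeneous m) (hf0 : f ≠ 0) (t : ℕ) (ht : m ≤ t) :
    Module.finrank k
        (Submodule.map ((Ideal.Quotient.mkₐ k (Ideal.span {f})).toLinearMap)
          (MvPolynomial.homogeneousSubmodule (Fin (r + 1)) k t)) =
      Nat.choose (t + r) r - Nat.choose (t + r - m) r := by
  classical
  have hdim : ∀ d, Module.finrank k (MvPolynomial.homogeneousSubmodule (Fin (r + 1)) k d) = (d + r).choose r := fun d => by
    let s : Set (Fin (r + 1) →₀ ℕ) := ↑((Finset.univ : Finset (Fin (r + 1))).finsuppAntidiag d)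
    have e : MvPolynomial.homogeneousSubmodule (Fin (r + 1)) k d = MvPolynomial.restrictSupport k s := by
      rw [MvPolynomial.homogeneousSubmodule_eq_finsupp_supported]
      refine congrArg (AddMonoidAlgebra.supported k k) (Set.ext fun x => ?_)
      simp [s, Finset.mem_finsuppAntidiag, Finsupp.degree_eq_sum]
    rw [e, Module.finrank_eq_nat_card_basis (MvPolynomial.basisRestrictSupport k s), Nat.card_coe_set_eq,
      Set.ncard_coe_finset, Finset.card_finsuppAntidiag_nat_eq_choose, Finset.card_univ, Fintype.card_fin]
    rw [show r + 1 + d - 1 = d + r by omega, Nat.choose_symm_add]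
  set S := MvPolynomial.homogeneousSubmodule (Fin (r + 1)) k t
  haveI hfinS : ∀ d, Module.Finite k (MvPolynomial.homogeneousSubmodule (Fin (r + 1)) k d) := fun d =>
    Module.finite_of_finrank_pos (by rw [hdim]; exact Nat.choose_pos (by omega))
  let g := ((Ideal.Quotient.mkₐ k (Ideal.span {f})).toLinearMap).domRestrict S
  have hker : LinearMap.ker g = LinearMap.range (((LinearMap.mulLeft k f).domRestrict
      (MvPolynomial.homogeneousSubmodule (Fin (r + 1)) k (t - m))).codRestrict S fun x => by
        have := hf.mul x.2
        rwa [Nat.add_sub_cancel' ht] at this) := by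
    ext x
    rw [LinearMap.mem_ker, LinearMap.mem_range]
    change Ideal.Quotient.mk (Ideal.span {f}) (x : MvPolynomial (Fin (r + 1)) k) = 0 ↔ _
    rw [Ideal.Quotient.eq_zero_iff_mem, Ideal.mem_span_singleton]
    constructor
    · rintro ⟨h, hx⟩
      refine ⟨⟨MvPolynomial.homogeneousComponent (t - m) h, MvPolynomial.homogeneousComponent_mem _ _⟩, Subtype.ext ?_⟩
      change f * MvPolynomial.homogeneousComponent (t - m) h = x
      have key : MvPolynomial.homogeneousComponent t (f * h) = f * MvPolynomial.homogeneousComponent (t - m) h := by
        conv_lhs => rw [← MvPolynomial.sum_homogeneousComponent h, Finset.mul_sum, map_sum]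
        conv_rhs => rw [← MvPolynomial.sum_homogeneousComponent h, map_sum, Finset.mul_sum]
        refine Finset.sum_congr rfl fun i _ => ?_
        rw [MvPolynomial.homogeneousComponent_of_mem (MvPolynomial.homogeneousComponent_mem i h),
          MvPolynomial.homogeneousComponent_of_mem (hf.mul (MvPolynomial.homogeneousComponent_isHomogeneous i h))]
        by_cases hi : t = m + i
        · rw [if_pos hi, if_pos (by omega)]
        · rw [if_neg hi, if_neg (by omega), mul_zero]
      rw [← key, ← hx, MvPolynomial.homogeneousComponent_of_mem x.2, if_pos rfl]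
    · rintro ⟨h, rfl⟩
      exact ⟨_, rfl⟩
  have h2 := g.finrank_range_add_finrank_ker
  rw [show LinearMap.range g = Submodule.map ((Ideal.Quotient.mkₐ k (Ideal.span {f})).toLinearMap) S from LinearMap.range_domRestrict _ _, hker, LinearMap.finrank_range_of_inj, hdim] at h2
  · rw [show S = MvPolynomial.homogeneousSubmodule (Fin (r + 1)) k t from rfl, hdim, show t - m + r = t + r - m by omega] at h2
    have e : ∀ a b c : ℕ, a + b = c → a = c - b := by omega
    exact e _ _ _ h2
  · intro a b hab
    exact Subtype.ext (mul_left_cancel₀ hf0 (congrArg Subtype.val hab :))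

end Groth.Agent.S12915
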