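import Groth.Statements.S12916
import Mathlib

set_option autoImplicit false
universe u
open CAlgX

namespace Groth.Agent.S12916

/-- Let k be an infinite field, S = k[x_0, …, x_r], M a finitely generated S-module and d a natural
number. Then some nonzero homogeneous polynomial f of degree d is quasi-regular on M: the submodule
(0 :_M f) of elements of M annihilated by f has finite length. (The published statement assumes M
graded; this row assumes only that M is finitely generated.) -/
theorem result (k : Type u) [Field k] [Infinite k] (r d : ℕ)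
    (M : Type u) [AddCommGroup M] [Module (MvPolynomial (Fin (r + 1)) k) M] [Module.Finite (MvPolynomial (Fin (r + 1)) k) M] :
    ∃ f : MvPolynomial (Fin (r + 1)) k, f.IsHomogeneous d ∧ f ≠ 0 ∧
      IsFiniteLength (MvPolynomial (Fin (r + 1)) k) ↥(Submodule.torsionBy (MvPolynomial (Fin (r + 1)) k) M f) := by
  classical
  set S := MvPolynomial (Fin (r + 1)) k
  haveI : Finite (associatedPrimes S M) := associatedPrimes.finite S M
  let V := MvPolynomial.homogeneousSubmodule (Fin (r + 1)) k d
  let p : Option (associatedPrimes S M) → Submodule k V := fun o => o.elim ⊥ fun P =>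
    if P.1.IsMaximal then ⊥ else (P.1.restrictScalars k).comap V.subtype
  have hVne : (⊥ : Submodule k V) ≠ ⊤ := by
    intro h
    have hx : (MvPolynomial.X (0 : Fin (r + 1)) ^ d : S) ∈ V  :=
      (MvPolynomial.mem_homogeneousSubmodule d _).2 (by simpa using (MvPolynomial.isHomogeneous_X k (0 : Fin (r + 1))).pow d)
    have : (⟨_, hx⟩ : V) ∈ (⊥ : Submodule k V) := h ▸ trivial
    rw [Submodule.mem_bot] at this
    exact pow_ne_zero d (MvPolynomial.X_ne_zero _) (congrArg Subtype.val this)
  have hp : ∀ o, p o ≠ ⊤ := by
    rintro (_ | ⟨P, hP⟩)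
    · exact hVne
    simp only [p, Option.elim_some]
    split_ifs with hmax
    · exact hVne
    intro htop
    haveI := hP.isPrime
    have hall : ∀ i, MvPolynomial.X i ∈ P := fun i => by
      have hx : (MvPolynomial.X i ^ d : S) ∈ V := (MvPolynomial.mem_homogeneousSubmodule d _).2 (by simpa using (MvPolynomial.isHomogeneous_X k i).pow d)
      have hm : (⟨_, hx⟩ : V) ∈ (P.restrictScalars k).comap V.subtype := htop ▸ trivial
      rcases Nat.eq_zero_or_pos d with rfl | hd
      · exact absurd ((Ideal.eq_top_iff_one P).2 (by simpa using hm)) hP.isPrime.ne_top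
      · exact hP.isPrime.mem_of_pow_mem d hm
    refine hmax ?_
    have hker : RingHom.ker (MvPolynomial.constantCoeff : S →+* k) ≤ P := by
      intro g hg
      rw [← g.support_sum_monomial_coeff]
      refine sum_mem fun e he => ?_
      obtain ⟨i, hi⟩ : e.support.Nonempty := by
        rw [Finsupp.support_nonempty_iff]
        rintro rfl
        exact (MvPolynomial.mem_support_iff.1 he) hg
      have hdvd : (MvPolynomial.X i : S) ∣ MvPolynomial.monomial e (g.coeff e) := by
        rw [MvPolynomial.X_dvd_monomial]
        exact Or.inr (Finsupp.mem_support_iff.1 hi)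
      exact Ideal.mem_of_dvd _ hdvd (hall i)
    haveI : (RingHom.ker (MvPolynomial.constantCoeff : S →+* k)).IsMaximal :=
      RingHom.ker_isMaximal_of_surjective _ fun c => ⟨MvPolynomial.C c, MvPolynomial.constantCoeff_C _ c⟩
    exact (‹(RingHom.ker (MvPolynomial.constantCoeff : S →+* k)).IsMaximal›.eq_of_le hP.isPrime.ne_top hker) ▸ ‹_›
  obtain ⟨f, hf⟩ := Submodule.exists_forall_notMem_of_forall_ne_top p hp
  refine ⟨f, f.2, fun h0 => hf none ?_, ?_⟩
  · change f ∈ (⊥ : Submodule k V)
    rw [Submodule.mem_bot]; exact Subtype.ext h0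
  set K := Submodule.torsionBy S M (f : S)
  haveI : IsNoetherianRing S := inferInstance
  haveI : IsNoetherian S M := isNoetherian_of_isNoetherianRing_of_finite S M
  have hmax : ∀ P ∈ (Module.annihilator S K).minimalPrimes, P.IsMaximal := by
    intro P hP
    have hass := Module.associatedPrimes.minimalPrimes_annihilator_subset_associatedPrimes S K hP
    by_contra hnm
    have hPM : P ∈ associatedPrimes S M := associatedPrimes.subset_of_injective K.injective_subtype hass
    refine hf (some ⟨P, hPM⟩) ?_
    simp only [p, Option.elim_some, if_neg hnm]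
    refine hP.1.2 ?_
    rw [Module.mem_annihilator]
    exact fun x => Subtype.ext ((Submodule.mem_torsionBy_iff _ _).1 x.2)
  haveI : Ring.KrullDimLE 0 (S ⧸ Module.annihilator S K) := by
    refine Ring.krullDimLE_zero_iff.2 fun Q hQ => ?_
    haveI := hQ
    have hQ' : (Q.comap (Ideal.Quotient.mk (Module.annihilator S K))).IsPrime := Ideal.comap_isPrime _ _
    have hle : Module.annihilator S K ≤ Q.comap (Ideal.Quotient.mk (Module.annihilator S K)) := fun x hx => by
      rw [Ideal.mem_comap, Ideal.Quotient.eq_zero_iff_mem.2 hx]; exact zero_mem _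
    obtain ⟨P, hP, hPQ⟩ := Ideal.exists_minimalPrimes_le (J := Q.comap (Ideal.Quotient.mk _)) hle
    have hm := hmax P hP
    have e : Q.comap (Ideal.Quotient.mk (Module.annihilator S K)) = P := (hm.eq_of_le hQ'.ne_top hPQ).symm
    have hc : (Q.comap (Ideal.Quotient.mk (Module.annihilator S K))).IsMaximal := e ▸ hm
    exact Ideal.Quotient.mk_surjective |> fun hs => (Ideal.map_comap_of_surjective _ hs Q) ▸
      (Ideal.map_eq_top_or_isMaximal_of_surjective _ hs hc).resolve_left (by
        rw [Ideal.map_comap_of_surjective _ hs]; exact hQ.ne_top)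
  haveI : IsArtinianRing (S ⧸ Module.annihilator S K) := isArtinianRing_iff_isNoetherianRing_krullDimLE_zero.2 ⟨inferInstance, inferInstance⟩
  letI : Module (S ⧸ Module.annihilator S K) K := (Module.isTorsionBySet_annihilator S K).module
  haveI : IsScalarTower S (S ⧸ Module.annihilator S K) K := Module.IsTorsionBySet.isScalarTower _
  haveI : Module.Finite (S ⧸ Module.annihilator S K) K := Module.Finite.of_restrictScalars_finite S _ _
  haveI : IsArtinian (S ⧸ Module.annihilator S K) K := inferInstance
  have hA : IsArtinian S K := isArtinian_of_tower_quot (J := Module.annihilator S K) ‹_›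
  exact isFiniteLength_iff_isNoetherian_isArtinian.2 ⟨inferInstance, hA⟩
where
  isArtinian_of_tower_quot {R : Type u} [CommRing R] {J : Ideal R} {N : Type u} [AddCommGroup N] [Module R N]
      [Module (R ⧸ J) N] [IsScalarTower R (R ⧸ J) N] (h : IsArtinian (R ⧸ J) N) : IsArtinian R N :=
    haveI := h
    isArtinian_of_surjective_algebraMap (R := R ⧸ J) (S := R) Ideal.Quotient.mk_surjective

end Groth.Agent.S12916
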