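import Groth.Statements.S12917
import Groth.Agent.Lib.GrSyz.PD
import Groth.Agent.Lib.McCoy3.HilbertBurchConverse

set_option autoImplicit false
universe u
open CAlgX

namespace Groth.Agent.S12917

open MvPolynomial GrSyz GrSyzLib RegLoc DirectSum

section
variable (k : Type u) [Field k]

local notation "S" => MvPolynomial (Fin 3) k

/-- restriction to a line -/
noncomputable def lineMap (p : Fin 3 → k) : S →ₐ[k] Polynomial k :=
  MvPolynomial.aeval fun i => Polynomial.C (p i) * Polynomial.X

theorem coeff_lineMap (p : Fin 3 → k) (f : S) (j : ℕ) :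
    (lineMap k p f).coeff j = eval p (homogeneousComponent j f) := by
  classical
  induction f using MvPolynomial.induction_on' with
  | monomial d c =>
    rw [lineMap, MvPolynomial.aeval_monomial, homogeneousComponent_of_mem (n := ∑ i ∈ d.support, d i)
      (isHomogeneous_monomial c rfl)]
    simp only [Finsupp.prod, mul_pow, Finset.prod_mul_distrib, ← map_pow, ← map_prod, Finset.prod_pow_eq_pow_sum,
      Polynomial.algebraMap_eq, ← mul_assoc, ← map_mul]
    rw [Polynomial.coeff_C_mul_X_pow]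
    split_ifs with h
    · simp [MvPolynomial.eval_monomial, Finsupp.prod]
    · simp
  | add a b ha hb => rw [map_add, Polynomial.coeff_add, ha, hb, map_add, map_add]

theorem eq_C_mul (p : Fin 3 → k) (a : Fin 3) (J : Ideal S)
    (hJ : ∀ i, X i - C (p i / p a) * X a ∈ J) (ha : p a ≠ 0) {f : S} (hf : lineMap k p f = 0) : f ∈ J := by
  let θ : Polynomial k →ₐ[k] S ⧸ J := Polynomial.aeval (Ideal.Quotient.mk J (C (p a)⁻¹ * X a))
  have h : θ.comp (lineMap k p) = Ideal.Quotient.mkₐ k J := by
    refine MvPolynomial.algHom_ext fun i => ?_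
    simp only [θ, lineMap, AlgHom.comp_apply, MvPolynomial.aeval_X, map_mul, Polynomial.aeval_C,
      Polynomial.aeval_X, Ideal.Quotient.mkₐ_eq_mk]
    refine Eq.trans ?_ (Ideal.Quotient.eq.2 (hJ i)).symm
    rw [div_eq_mul_inv]
    simp only [map_mul, mul_assoc]
    rfl
  rw [← Ideal.Quotient.eq_zero_iff_mem, ← Ideal.Quotient.mkₐ_eq_mk k, ← h, AlgHom.comp_apply, hf, map_zero]

theorem pd_prod {R : Type u} [CommRing R] {M N : Type u} [AddCommGroup M] [Module R M] [AddCommGroup N]
    [Module R N] {n : ℕ} (hM : PD R M n) (hN : PD R N n) : PD R (M × N) n := by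
  let T : CategoryTheory.ShortComplex (ModuleCat.{u} R) := ModuleCat.shortComplexOfCompEqZero
    (LinearMap.inl R M N) (LinearMap.snd R M N) (Function.Exact.inl_snd (R := R) (M := M) (N := N)).linearMap_comp_eq_zero
  have hT : T.ShortExact := ModuleCat.shortComplex_shortExact T
    (Function.Exact.inl_snd (R := R) (M := M) (N := N)) LinearMap.inl_injective LinearMap.snd_surjective
  exact hT.hasProjectiveDimensionLT_X₂ (n + 1) hM hN

theorem pd_ideal_le_two (A : Ideal S) : PD S A 2 :=
  ((pd_succ_iff A.mkQ A.mkQ_surjective).1 (pd_polynomial (k := k) 3 (S ⧸ A))).congr (LinearEquiv.ofEq _ _ A.ker_mkQ)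

theorem pd_inf {A B : Ideal S} (hA : PD S A 1) (hB : PD S B 1) : PD S ↥(A ⊓ B) 1 := by
  let i : ↥(A ⊓ B) →ₗ[S] ↥A × ↥B :=
    (Submodule.inclusion inf_le_left).prod (Submodule.inclusion inf_le_right)
  let f : ↥A × ↥B →ₗ[S] ↥(A ⊔ B) :=
    (Submodule.inclusion le_sup_left) ∘ₗ LinearMap.fst S A B - (Submodule.inclusion le_sup_right) ∘ₗ LinearMap.snd S A B
  refine PD.submodule i f ?_ ?_ ?_ (pd_prod hA hB) (pd_ideal_le_two k _)
  · intro x y h
    exact Subtype.ext (congrArg (fun z => (z.1 : S)) h)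
  · rintro ⟨x, hx⟩
    obtain ⟨a, ha, b, hb, rfl⟩ := Submodule.mem_sup.1 hx
    exact ⟨(⟨a, ha⟩, ⟨-b, neg_mem hb⟩), Subtype.ext (sub_neg_eq_add a b)⟩
  · rintro ⟨⟨a, ha⟩, ⟨b, hb⟩⟩
    constructor
    · intro h
      have e : a = b := sub_eq_zero.1 (congrArg Subtype.val h)
      subst e
      exact ⟨⟨a, ha, hb⟩, rfl⟩
    · rintro ⟨⟨x, hx⟩, h⟩
      rw [← h]
      exact Subtype.ext (sub_self x)

theorem pd_span_pair {R : Type u} [CommRing R] [IsDomain R] (g : Fin 2 → R) (hg : ∀ i, g i ≠ 0)
    (h : ∀ r, r * g 0 ∈ Ideal.span {g 1} → r ∈ Ideal.span {g 1}) : PD R ↥(Ideal.span (Set.range g)) 1 := by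
  let F : (Fin 2 → R) →ₗ[R] ↥(Ideal.span (Set.range g)) :=
    LinearMap.codRestrict _ (Fintype.linearCombination R g) fun v => by
      rw [Ideal.span, ← Fintype.range_linearCombination]; exact ⟨v, rfl⟩
  have hF : Function.Surjective F := fun ⟨x, hx⟩ => by
    rw [Ideal.span, ← Fintype.range_linearCombination] at hx
    obtain ⟨v, hv⟩ := hx
    exact ⟨v, Subtype.ext hv⟩
  refine (pd_succ_iff F hF).2 (pd_zero_iff.2 ?_)
  let κ : R →ₗ[R] (Fin 2 → R) := LinearMap.toSpanSingleton R _ ![g 1, -g 0]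
  have hker : LinearMap.ker F = LinearMap.range κ := by
    refine le_antisymm (fun v hv => ?_) ?_
    · have h0 : v 0 * g 0 + v 1 * g 1 = 0 := by
        have := congrArg Subtype.val (LinearMap.mem_ker.1 hv)
        simpa [F, Fintype.linearCombination_apply, Fin.sum_univ_two] using this
      obtain ⟨t, ht⟩ := Ideal.mem_span_singleton'.1
        (h (v 0) (Ideal.mem_span_singleton'.2 ⟨-v 1, by linear_combination -h0⟩))
      have h1 : v 1 = -(t * g 0) := by
        refine mul_right_cancel₀ (hg 1) ?_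
        linear_combination h0 + g 0 * ht
      refine ⟨t, funext fun i => ?_⟩
      fin_cases i
      · simpa [κ] using ht
      · simpa [κ] using h1.symm
    · rintro _ ⟨t, rfl⟩
      refine LinearMap.mem_ker.2 (Subtype.ext ?_)
      simp [F, κ, Fintype.linearCombination_apply, Fin.sum_univ_two]
      ring
  have hκ : Function.Injective κ := fun s t h => mul_right_cancel₀ (hg 1) (by simpa [κ] using congrFun h 0)
  exact Module.Projective.of_equiv ((LinearEquiv.ofInjective κ hκ).trans (LinearEquiv.ofEq _ _ hker.symm))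

theorem mem_of_map_eq_zero {σ : S →ₐ[k] S} {J : Ideal S} (h : ∀ i, σ (X i) - X i ∈ J) {r : S} (hr : σ r = 0) :
    r ∈ J := by
  have e : (Ideal.Quotient.mkₐ k J).comp σ = Ideal.Quotient.mkₐ k J :=
    MvPolynomial.algHom_ext fun i => Ideal.Quotient.eq.2 (h i)
  rw [← Ideal.Quotient.eq_zero_iff_mem, ← Ideal.Quotient.mkₐ_eq_mk k, ← e, AlgHom.comp_apply, hr, map_zero]

theorem pd_ker_lineMap (p : Fin 3 → k) (hp : p ≠ 0) : PD S ↥(RingHom.ker (lineMap k p)) 1 := by
  classical
  obtain ⟨a, ha⟩ := Function.ne_iff.1 hp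
  let g : Fin 2 → S := fun i => X (a.succAbove i) - C (p (a.succAbove i) / p a) * X a
  have hJ : RingHom.ker (lineMap k p) = Ideal.span (Set.range g) := by
    refine le_antisymm (fun f hf => eq_C_mul k p a _ (fun i => ?_) ha hf) (Ideal.span_le.2 ?_)
    · by_cases h : i = a
      · subst h
        rw [div_self ha, map_one, one_mul, sub_self]
        exact zero_mem _
      · obtain ⟨j, rfl⟩ := Fin.exists_succAbove_eq h
        exact Ideal.subset_span ⟨j, rfl⟩
    · rintro _ ⟨i, rfl⟩
      rw [SetLike.mem_coe, RingHom.mem_ker, map_sub, map_mul, lineMap, MvPolynomial.aeval_X, MvPolynomial.aeval_X,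
        MvPolynomial.aeval_C, Polynomial.algebraMap_eq, ← mul_assoc, ← map_mul, div_mul_cancel₀ _ ha, sub_self]
  let σ : S →ₐ[k] S := MvPolynomial.aeval fun i =>
    if i = a.succAbove 1 then C (p (a.succAbove 1) / p a) * X a else X i
  have h01 : a.succAbove 0 ≠ a.succAbove 1 := fun h => absurd (Fin.succAbove_right_injective h) (by decide)
  have hσ0 : σ (g 0) = g 0 := by simp [σ, g, h01, (a.succAbove_ne 1).symm]
  have hσ1 : σ (g 1) = 0 := by simp [σ, g, (a.succAbove_ne 1).symm]
  have hg : ∀ i, g i ≠ 0 := fun i h => by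
    have := congrArg (eval (Pi.single (a.succAbove i) (1 : k))) h
    simp [g, (a.succAbove_ne i).symm] at this
  have hσker : ∀ r : S, σ r = 0 → r ∈ Ideal.span {g 1} := fun r hr => by
    refine mem_of_map_eq_zero k (fun i => ?_) hr
    by_cases h : i = a.succAbove 1
    · subst h
      simp only [σ, MvPolynomial.aeval_X, if_pos]
      have := neg_mem (Ideal.subset_span (Set.mem_singleton (g 1)) : g 1 ∈ Ideal.span {g 1})
      rwa [neg_sub] at this
    · simp only [σ, MvPolynomial.aeval_X, if_neg h, sub_self]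
      exact zero_mem _
  rw [hJ]
  refine pd_span_pair g hg fun r hr => ?_
  refine hσker r ?_
  obtain ⟨t, ht⟩ := Ideal.mem_span_singleton'.1 hr
  have h2 := congrArg σ ht
  rw [map_mul, map_mul, hσ1, mul_zero, hσ0] at h2
  exact (mul_eq_zero.1 h2.symm).resolve_right (hg 0)

theorem pd_iInf (Z : Finset (Fin 3 → k)) : (∀ p ∈ Z, p ≠ 0) →
    PD S ↥(Z.inf fun p => RingHom.ker (lineMap k p)) 1 := by
  classical
  refine Finset.induction_on Z ?_ ?_
  · intro _
    rw [Finset.inf_empty]
    exact (PD.of_projective (R := S) (M := S) 1).congr Submodule.topEquiv.symm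
  · intro p Z hp ih h
    rw [Finset.inf_insert]
    exact pd_inf k (pd_ker_lineMap k p (h p (Finset.mem_insert_self _ _))) (ih fun q hq => h q (Finset.mem_insert_of_mem hq))

variable {k}

/-- the graded pieces of an ideal -/
noncomputable def idealGr (I : Ideal S) (d : ℤ) : Submodule k ↥I :=
  (stdGr k (Fin 3) d).comap (I.subtype.restrictScalars k)

theorem idealGr_isInternal (I : Ideal S) (hI : ∀ f ∈ I, ∀ j : ℕ, homogeneousComponent j f ∈ I) :
    DirectSum.IsInternal (idealGr I) := by
  classical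
  rw [DirectSum.isInternal_submodule_iff_iSupIndep_and_iSup_eq_top]
  constructor
  · rw [iSupIndep_def]
    intro d
    rw [Submodule.disjoint_def]
    intro x hx hx'
    have h2 : (x : S) ∈ ⨆ (e) (_ : e ≠ d), stdGr k (Fin 3) e := by
      refine (Submodule.map_le_iff_le_comap (f := I.subtype.restrictScalars k)).2 ?_
        (Submodule.mem_map_of_mem hx')
      exact iSup₂_le fun e he => Submodule.comap_mono (le_iSup₂_of_le e he le_rfl)
    have := Submodule.disjoint_def.1
      ((DirectSum.Decomposition.isInternal (stdGr k (Fin 3))).submodule_iSupIndep d) (x : S) hx h2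
    exact Subtype.ext this
  · refine eq_top_iff.2 fun x _ => ?_
    have e : x = ∑ j ∈ Finset.range ((x : S).totalDegree + 1),
        (⟨homogeneousComponent j (x : S), hI x x.2 j⟩ : ↥I) := by
      refine Subtype.ext ?_
      rw [Submodule.coe_sum]
      exact (sum_homogeneousComponent (x : S)).symm
    rw [e]
    refine Submodule.sum_mem _ fun j _ => Submodule.mem_iSup_of_mem (j : ℤ) ?_
    show homogeneousComponent j (x : S) ∈ weightedHomogeneousSubmodule k (fun _ => (1 : ℤ)) (j : ℤ)
    intro d hd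
    rw [weight_one, homogeneousComponent_isHomogeneous j (x : S) |>.degree_eq_sum_deg_support
      (MvPolynomial.mem_support_iff.2 hd)]
    rfl

theorem res_of_eq {R : Type u} [CommRing R] {n m : ℕ} (hr : n = m + 1) (Φ : Matrix (Fin n) (Fin m) R)
    (π : (Fin n → R) →ₗ[R] R) {I : Ideal R} (h1 : LinearMap.ker Φ.mulVecLin = ⊥)
    (h2 : LinearMap.ker π = LinearMap.range Φ.mulVecLin) (h3 : LinearMap.range π = I) :
    ∃ (t : ℕ) (Ψ : Matrix (Fin (t + 1)) (Fin t) R) (π : (Fin (t + 1) → R) →ₗ[R] R),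
      LinearMap.ker Ψ.mulVecLin = ⊥ ∧ LinearMap.ker π = LinearMap.range Ψ.mulVecLin ∧ LinearMap.range π = I := by
  subst hr
  exact ⟨_, Φ, π, h1, h2, h3⟩

theorem main (I : Ideal S) (hI : ∀ f ∈ I, ∀ j : ℕ, homogeneousComponent j f ∈ I) (hpd : PD S I 1) (hI0 : I ≠ ⊥) :
    ∃ (t : ℕ) (Ψ : Matrix (Fin (t + 1)) (Fin t) S) (π : (Fin (t + 1) → S) →ₗ[S] S),
      LinearMap.ker Ψ.mulVecLin = ⊥ ∧ LinearMap.ker π = LinearMap.range Ψ.mulVecLin ∧ LinearMap.range π = I := by
  letI : DirectSum.Decomposition (idealGr I) := (idealGr_isInternal I hI).chooseDecomposition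
  haveI : SetLike.GradedSMul (stdGr k (Fin 3)) (idealGr I) :=
    ⟨fun {i j} r x hr hx => SetLike.mul_mem_graded (A := stdGr k (Fin 3)) hr hx⟩
  haveI : Module.Finite (MvPolynomial (Fin 3) k) ↥I := Module.Finite.iff_fg.2 (IsNoetherian.noetherian I)
  obtain ⟨F, hF⟩ := exists_freeRes_isMinimal (k := k) (σ := Fin 3) (M := ↥I) (ℳ := idealGr I)
  have hlen := (hasLengthLE_iff_pd hF 1).2 hpd
  have hinj : LinearMap.ker (F.dLin 0) = ⊥ := by
    rw [ker_dLin F 0]
    exact range_eq_bot_of_rk (hlen 2 (by norm_num))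
  let π : (Fin (F.rk 0) → S) →ₗ[S] S := I.subtype ∘ₗ F.augLin
  have hπ : LinearMap.ker π = LinearMap.range (F.dLin 0) := by
    rw [LinearMap.ker_comp_of_ker_eq_bot _ I.ker_subtype, ker_augLin]
  have hπr : LinearMap.range π = I := by
    rw [LinearMap.range_comp, LinearMap.range_eq_top.2 F.aug_surjective, Submodule.map_top, Submodule.range_subtype]
  have hr : F.rk 0 = F.rk 1 + 1 :=
    McCoy3.rank_eq_succ (Ψ := F.d 0) (π := π) (LinearMap.ker_eq_bot.1 hinj) hπ (fun h => hI0 (hπr.symm.trans h))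
  exact res_of_eq hr (F.d 0) π hinj hπ hπr

end

/-- Let k be a field, Z a finite set of nonzero vectors in k^3, regarded as points of the projective
plane, and I the homogeneous vanishing ideal of Z in S = k[x_0, x_1, x_2]: a polynomial belongs to I
exactly when each of its homogeneous components vanishes at every vector of Z. Then I has a free
resolution of length one: for some t there are a (t+1) × t matrix Ψ over S, injective as a map S^t →
S^{t+1}, and an S-linear map π : S^{t+1} → S with ker π = im Ψ and im π = I. (The published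
statement speaks of the minimal free resolution of I having length 1; stated here as the existence
of such a resolution.) -/
theorem result (k : Type u) [Field k]
    (Z : Finset (Fin 3 → k)) (hZ : ∀ p ∈ Z, p ≠ 0) (I : Ideal (MvPolynomial (Fin 3) k))
    (hI : ∀ f : MvPolynomial (Fin 3) k, f ∈ I ↔
      ∀ p ∈ Z, ∀ j : ℕ, MvPolynomial.eval p (MvPolynomial.homogeneousComponent j f) = 0) :
    ∃ (t : ℕ) (Ψ : Matrix (Fin (t + 1)) (Fin t) (MvPolynomial (Fin 3) k)) (π : (Fin (t + 1) → MvPolynomial (Fin 3) k) →ₗ[MvPolynomial (Fin 3) k] MvPolynomial (Fin 3) k),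
      LinearMap.ker Ψ.mulVecLin = ⊥ ∧ LinearMap.ker π = LinearMap.range Ψ.mulVecLin ∧ LinearMap.range π = I := by
  classical
  have e : I = Z.inf fun p => RingHom.ker (lineMap k p) := by
    ext f
    rw [hI, Submodule.mem_finsetInf]
    refine forall₂_congr fun p _ => ?_
    rw [RingHom.mem_ker, Polynomial.ext_iff]
    exact forall_congr' fun j => by rw [coeff_lineMap, Polynomial.coeff_zero]
  refine main I (fun f hf j => (hI _).2 fun p hp i => ?_) (e ▸ pd_iInf k Z hZ) ?_
  · rw [homogeneousComponent_of_mem (m := i) (n := j) (homogeneousComponent_isHomogeneous j f)]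
    split_ifs
    · exact (hI f).1 hf p hp j
    · exact map_zero _
  · have hl : ∀ p : Fin 3 → k, p ≠ 0 → ∃ l : MvPolynomial (Fin 3) k, l ≠ 0 ∧ lineMap k p l = 0 := fun p hp => by
      obtain ⟨a, ha⟩ := Function.ne_iff.1 hp
      refine ⟨X (a.succAbove 0) - C (p (a.succAbove 0) / p a) * X a, fun h => ?_, ?_⟩
      · have := congrArg (eval (Pi.single (a.succAbove 0) (1 : k))) h
        simp [(a.succAbove_ne 0).symm] at this
      · rw [map_sub, map_mul, lineMap, MvPolynomial.aeval_X, MvPolynomial.aeval_X, MvPolynomial.aeval_C,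
          Polynomial.algebraMap_eq, ← mul_assoc, ← map_mul, div_mul_cancel₀ _ ha, sub_self]
    choose l hl0 hl using hl
    intro hbot
    have hm : (∏ p ∈ Z.attach, l p.1 (hZ _ p.2)) ∈ I := by
      rw [e, Submodule.mem_finsetInf]
      intro q hq
      rw [RingHom.mem_ker, map_prod]
      exact Finset.prod_eq_zero (Finset.mem_attach _ ⟨q, hq⟩) (hl q _)
    rw [hbot, Ideal.mem_bot] at hm
    exact Finset.prod_ne_zero_iff.2 (fun p _ => hl0 _ _) hm

end Groth.Agent.S12917
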