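import Groth.Statements.S12918
import Groth.Agent.Lib.HopfMod.Tame

set_option autoImplicit false
universe u v w
open HopfRep

namespace Groth.Agent.S12918
open scoped TensorProduct

/-- Let `k` be a commutative ring, `A` a commutative Hopf algebra over `k`, flat as a `k`-module and `B`
a commutative `k`-algebra with a coaction `ρ : B → B ⊗ A` that is an algebra map (an action of the
affine group scheme `Spec A` on `Spec B`). Then the action admits a total integral — a comodule map
`α : A → B`, for the regular coaction on `A`, with `α 1 = 1` — if and only if `ρ` has a left inverse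
`B ⊗ A → B` which is a comodule map for the coaction `id ⊗ Δ` on `B ⊗ A`. -/
theorem result
    (k : Type u) [CommRing k] (A : Type v) [CommRing A] [HopfAlgebra k A] [Module.Flat k A]
    (B : Type w) [CommRing B] [Algebra k B] [HopfRep.Comod k A B] [GLin.IsCoactAlg k A B] :
    (∃ α : A →ₗ[k] B, Hoch.IsComodHom A α ∧ α 1 = 1) ↔
      ∃ lam : Hoch.Ind k A B →ₗ[k] B, Hoch.IsComodHom A lam ∧ lam ∘ₗ Hoch.toInd k A B = LinearMap.id := by
  constructor
  · rintro ⟨α, hα, hα1⟩
    exact Groth.Agent.HopfMod.exists_leftInverse hα hα1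
  · rintro ⟨lam, hlam, hid⟩
    let ι : A →ₗ[k] Hoch.Ind k A B := (Hoch.Ind.equiv k A B).toLinearMap ∘ₗ TensorProduct.mk k B A 1
    have hι : Hoch.IsComodHom A ι := by
      refine LinearMap.ext fun a => ?_
      show HopfRep.Comod.coact (k := k) (A := A) (Hoch.Ind.equiv k A B (1 ⊗ₜ[k] a)) =
        ι.rTensor A (CoalgebraStruct.comul (R := k) a)
      refine Eq.trans (Hoch.Ind.coact_equiv_tmul k A B (1 : B) a) ?_
      generalize CoalgebraStruct.comul (R := k) a = z
      induction z with
      | zero => simp only [TensorProduct.tmul_zero, map_zero]; rfl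
      | add p q hp hq => rw [TensorProduct.tmul_add, map_add, hp, hq, map_add]; rfl
      | tmul p q => simp [ι]; rfl
    refine ⟨lam ∘ₗ ι, ?_, ?_⟩
    · show HopfRep.Comod.coact (k := k) (A := A) ∘ₗ (lam ∘ₗ ι) = _
      rw [← LinearMap.comp_assoc, hlam, LinearMap.comp_assoc, hι, ← LinearMap.comp_assoc, ← LinearMap.rTensor_comp]
    · have h := LinearMap.congr_fun hid 1
      simp only [LinearMap.comp_apply, LinearMap.id_apply, Hoch.toInd, LinearEquiv.coe_coe] at h
      rw [GLin.IsCoactAlg.coact_one (k := k) (A := A) (R := B), Algebra.TensorProduct.one_def] at h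
      exact h

end Groth.Agent.S12918
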