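import Groth.Statements.S12921
import Groth.Agent.Lib.HopfMod.Tame

set_option autoImplicit false
universe u v w
open HopfRep

namespace Groth.Agent.S12921
open scoped TensorProduct

/-- Let `k` be a commutative ring, `A` a commutative Hopf algebra over `k`, flat as a `k`-module, `B` a
commutative `k`-algebra with a coaction of `A` that is an algebra map and admits a total integral (a
comodule map `α : A → B` with `α 1 = 1`), and `C = B^A` the subring of invariants. Then for every
ideal `c` of `C` one has `cB ∩ C = c`. (The published statement assumes only that taking invariants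
is exact on `(B, A)`-modules; a total integral, assumed here, gives that exactness.) -/
theorem result
    (k : Type u) [CommRing k] (A : Type v) [CommRing A] [HopfAlgebra k A] [Module.Flat k A]
    (B : Type w) [CommRing B] [Algebra k B] [HopfRep.Comod k A B] [GLin.IsCoactAlg k A B]
    (htame : ∃ α : A →ₗ[k] B, Hoch.IsComodHom A α ∧ α 1 = 1)
    (c : Ideal (GLin.invariants k A B)) :
    (c.map (algebraMap (GLin.invariants k A B) B)).comap (algebraMap (GLin.invariants k A B) B) = c := by
  obtain ⟨α, hα, hα1⟩ := htame
  obtain ⟨E, hE, hE1, hElin, -⟩ := Groth.Agent.HopfMod.exists_projection hα hα1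
  refine le_antisymm (fun x hx => ?_) Ideal.le_comap_map
  have key : ∀ y ∈ c.map (algebraMap (GLin.invariants k A B) B),
      ∀ b : B, (⟨E (b * y), hE _⟩ : GLin.invariants k A B) ∈ c := by
    intro y hy
    induction hy using Submodule.span_induction with
    | mem y hy =>
      obtain ⟨z, hz, rfl⟩ := hy
      intro b
      have : (⟨E (b * algebraMap _ B z), hE _⟩ : GLin.invariants k A B) = z * ⟨E b, hE b⟩ :=
        Subtype.ext (by
          show E (b * (z : B)) = (z : B) * E b
          rw [mul_comm, hElin _ z.2])
      rw [this]
      exact Ideal.mul_mem_right _ _ hz
    | zero =>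
      intro b
      convert c.zero_mem
      simp
    | add p q _ _ hp hq =>
      intro b
      convert add_mem (hp b) (hq b)
      simp [mul_add]
    | smul r p _ hp =>
      intro b
      convert hp (b * r) using 2
      simp [mul_assoc]
  have h := key _ hx 1
  convert h using 1
  exact Subtype.ext (by
    show (x : B) = E (1 * (x : B))
    rw [one_mul, hE1 _ x.2])

end Groth.Agent.S12921
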