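import Groth.Statements.S12923
import Groth.Agent.Lib.HopfMod.Tame
import Mathlib.RingTheory.Spectrum.Prime.RingHom
import Mathlib.RingTheory.Ideal.Maximal

set_option autoImplicit false
universe u v w
open HopfRep

namespace Groth.Agent.S12923

/-- Let `k` be a commutative ring, `A` a commutative Hopf algebra over `k`, flat as a `k`-module, `B` a
commutative `k`-algebra with a coaction of `A` that is an algebra map and admits a total integral (a
comodule map `α : A → B` with `α 1 = 1`), `C = B^A`, and `b` an ideal of `B` which is a subcomodule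
(a closed subscheme of `Spec B` stable under the action). Then the image of `V(b)` under `Spec B →
Spec C` is the closed set `V(b ∩ C)`. (The published statement assumes only that taking invariants
is exact on `(B, A)`-modules; a total integral, assumed here, gives that exactness.) -/
theorem result
    (k : Type u) [CommRing k] (A : Type v) [CommRing A] [HopfAlgebra k A] [Module.Flat k A]
    (B : Type w) [CommRing B] [Algebra k B] [HopfRep.Comod k A B] [GLin.IsCoactAlg k A B]
    (htame : ∃ α : A →ₗ[k] B, Hoch.IsComodHom A α ∧ α 1 = 1)
    (b : Ideal B) (hb : HopfRep.IsSubcomod (k := k) (A := A) (b.restrictScalars k)) :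
    PrimeSpectrum.comap (algebraMap (GLin.invariants k A B) B) '' PrimeSpectrum.zeroLocus (b : Set B) =
      PrimeSpectrum.zeroLocus ((b.comap (algebraMap (GLin.invariants k A B) B) : Ideal (GLin.invariants k A B)) : Set (GLin.invariants k A B)) := by
  obtain ⟨α, hα, hα1⟩ := htame
  obtain ⟨E, hE, hE1, hElin, hEsub⟩ := Groth.Agent.HopfMod.exists_projection hα hα1
  ext p
  simp only [Set.mem_image, PrimeSpectrum.mem_zeroLocus]
  constructor
  · rintro ⟨q, hq, rfl⟩ x hx
    exact hq hx
  · intro hp
    let f := algebraMap (GLin.invariants k A B) B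
    have key : ∀ y ∈ p.asIdeal.map f, ∀ b' : B, (⟨E (b' * y), hE _⟩ : GLin.invariants k A B) ∈ p.asIdeal := by
      intro y hy
      induction hy using Submodule.span_induction with
      | mem y hy =>
        obtain ⟨z, hz, rfl⟩ := hy
        intro b'
        have : (⟨E (b' * f z), hE _⟩ : GLin.invariants k A B) = z * ⟨E b', hE b'⟩ :=
          Subtype.ext (by
            show E (b' * (z : B)) = (z : B) * E b'
            rw [mul_comm, hElin _ z.2])
        rw [this]
        exact Ideal.mul_mem_right _ _ hz
      | zero =>
        intro b'
        convert p.asIdeal.zero_mem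
        simp
      | add r s _ _ hr hs =>
        intro b'
        convert add_mem (hr b') (hs b')
        simp [mul_add]
      | smul r s _ hs =>
        intro b'
        convert hs (b' * r) using 2
        simp [mul_assoc]
    have hdisj : Disjoint ((p.asIdeal.map f ⊔ b : Ideal B) : Set B)
        (Submonoid.map f.toMonoidHom p.asIdeal.primeCompl : Set B) := by
      rw [Set.disjoint_left]
      rintro _ hx ⟨x, hxp, rfl⟩
      obtain ⟨y, hy, z, hz, e⟩ := Submodule.mem_sup.1 hx
      apply hxp
      have hz' : (⟨E z, hE z⟩ : GLin.invariants k A B) ∈ p.asIdeal :=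
        hp (show E z ∈ b from hEsub b hb z hz)
      have hy' := key y hy 1
      have e2 : x = (⟨E (1 * y), hE _⟩ : GLin.invariants k A B) + ⟨E z, hE z⟩ := Subtype.ext (by
        show (x : B) = E (1 * y) + E z
        rw [one_mul, ← map_add, e]
        exact (hE1 _ x.2).symm)
      rw [e2]
      exact add_mem hy' hz'
    obtain ⟨q, hq, hle, hqdisj⟩ := Ideal.exists_le_prime_disjoint _ _ hdisj
    refine ⟨⟨q, hq⟩, fun x hx => hle (Ideal.mem_sup_right hx), PrimeSpectrum.ext (le_antisymm (fun x hx => ?_) fun x hx => ?_)⟩
    · by_contra hxp
      exact Set.disjoint_left.1 hqdisj hx ⟨x, hxp, rfl⟩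
    · exact hle (Ideal.mem_sup_left (Ideal.mem_map_of_mem f hx))

end Groth.Agent.S12923
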