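import Groth.Statements.S12924
import Groth.Agent.S12922
import Groth.Agent.Lib.HopfMod.Tame
import Groth.Agent.Lib.CatQuot23.Affine
import Mathlib.RingTheory.Flat.Basic
-- import your own Groth.Agent.* helpers here

set_option autoImplicit false
universe u
open CategoryTheory AlgebraicGeometry
open HopfRep

namespace Groth.Agent.S12924

noncomputable section

section Helper

open TensorProduct

variable {k : Type u} [CommRing k] {A : Type u} [CommRing A] [HopfAlgebra k A]
  {B : Type u} [CommRing B] [Algebra k B] [HopfRep.Comod k A B] [GLin.IsCoactAlg k A B]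

/-- The orbit map of a closed subscheme. -/
def orb (I : Ideal B) : B →ₐ[k] (B ⧸ I) ⊗[k] A :=
  (Algebra.TensorProduct.map (Ideal.Quotient.mkₐ k I) (AlgHom.id k A)).comp (GLin.coactAlgHom k A B)

theorem isSubcomod_ker_orb [Module.Flat k A] (I : Ideal B) :
    HopfRep.IsSubcomod (k := k) (A := A) ((RingHom.ker (orb (k := k) (A := A) I)).restrictScalars k) := by
  intro x hx
  let f : B →ₗ[k] (B ⧸ I) ⊗[k] A := (orb (k := k) (A := A) I).toLinearMap
  have hex : Function.Exact ((RingHom.ker (orb (k := k) (A := A) I)).restrictScalars k).subtype f := by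
    refine LinearMap.exact_iff.2 ?_
    rw [Submodule.range_subtype]
    ext y
    rfl
  refine (Module.Flat.rTensor_exact A hex _).mp ?_
  have h1 : ∀ z : B ⊗[k] A, f.rTensor A z =
      ((Ideal.Quotient.mkₐ k I).toLinearMap.rTensor A).rTensor A
        ((HopfRep.Comod.coact (k := k) (A := A) (V := B)).rTensor A z) := by
    intro z
    induction z using TensorProduct.induction_on with
    | zero => simp
    | add p q hp hq => simp only [map_add, hp, hq]
    | tmul p q =>
      simp only [LinearMap.rTensor_tmul, f, orb, AlgHom.toLinearMap_apply, AlgHom.comp_apply,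
        GLin.coactAlgHom_apply]
      rfl
  have h2 : ∀ z : B ⊗[k] (A ⊗[k] A), ((Ideal.Quotient.mkₐ k I).toLinearMap.rTensor A).rTensor A
      ((TensorProduct.assoc k B A A).symm z) =
      (TensorProduct.assoc k (B ⧸ I) A A).symm ((Ideal.Quotient.mkₐ k I).toLinearMap.rTensor (A ⊗[k] A) z) := by
    intro z
    induction z using TensorProduct.induction_on with
    | zero => simp
    | add p q hp hq => simp only [map_add, hp, hq]
    | tmul p q =>
      induction q using TensorProduct.induction_on with
      | zero => simp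
      | add s t hs ht => simp only [tmul_add, map_add, hs, ht]
      | tmul s t => simp
  have h3 : (HopfRep.Comod.coact (k := k) (A := A) (V := B)).rTensor A (HopfRep.Comod.coact (k := k) (A := A) x) =
      (TensorProduct.assoc k B A A).symm ((CoalgebraStruct.comul (R := k) (A := A)).lTensor B
        (HopfRep.Comod.coact (k := k) (A := A) x)) :=
    (LinearEquiv.eq_symm_apply _).mpr (LinearMap.congr_fun (HopfRep.Comod.coassoc (k := k) (A := A) (V := B)) x)
  rw [h1, h3, h2, ← LinearMap.comp_apply, LinearMap.rTensor_comp_lTensor, ← LinearMap.lTensor_comp_rTensor,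
    LinearMap.comp_apply]
  have hx' : (Ideal.Quotient.mkₐ k I).toLinearMap.rTensor A (HopfRep.Comod.coact (k := k) (A := A) x) = 0 := by
    have : orb (k := k) (A := A) I x = 0 := hx
    rw [← this]
    rfl
  rw [hx', map_zero, map_zero]

theorem ker_orb_le (I : Ideal B) : RingHom.ker (orb (k := k) (A := A) I) ≤ I := by
  intro x hx
  have h : ∀ z : B ⊗[k] A, TensorProduct.rid k (B ⧸ I) ((Coalgebra.counit (R := k) (A := A)).lTensor (B ⧸ I)
      (Algebra.TensorProduct.map (Ideal.Quotient.mkₐ k I) (AlgHom.id k A) z)) =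
      Ideal.Quotient.mk I (TensorProduct.rid k B ((Coalgebra.counit (R := k) (A := A)).lTensor B z)) := by
    intro z
    induction z using TensorProduct.induction_on with
    | zero => simp
    | add p q hp hq => simp only [map_add, hp, hq]
    | tmul p q => simp [Algebra.smul_def, map_mul]
  have h1 := h (GLin.coactAlgHom k A B x)
  rw [show Algebra.TensorProduct.map (Ideal.Quotient.mkₐ k I) (AlgHom.id k A) (GLin.coactAlgHom k A B x) = 0 from hx,
    map_zero, map_zero, GLin.coactAlgHom_apply] at h1
  have h2 := LinearMap.congr_fun (HopfRep.Comod.counit_comp (k := k) (A := A) (V := B)) x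
  rw [LinearMap.comp_apply] at h2
  rw [h2] at h1
  simpa [Ideal.Quotient.eq_zero_iff_mem] using h1.symm

/-- An invariant closed subset is cut out by an invariant ideal. -/
theorem exists_subcomod_zeroLocus [Module.Flat k A] {T : Set (PrimeSpectrum B)} (hT : IsClosed T)
    (hinv : ∀ Q : PrimeSpectrum (B ⊗[k] A),
      PrimeSpectrum.comap (Algebra.TensorProduct.includeLeftRingHom : B →+* B ⊗[k] A) Q ∈ T →
        PrimeSpectrum.comap (GLin.coactAlgHom k A B).toRingHom Q ∈ T) :
    ∃ b : Ideal B, HopfRep.IsSubcomod (k := k) (A := A) (b.restrictScalars k) ∧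
      PrimeSpectrum.zeroLocus (b : Set B) = T := by
  obtain ⟨I, hI⟩ := (PrimeSpectrum.isClosed_iff_zeroLocus_ideal T).mp hT
  refine ⟨RingHom.ker (orb (k := k) (A := A) I), isSubcomod_ker_orb I, le_antisymm ?_ ?_⟩
  · show PrimeSpectrum.zeroLocus ↑(RingHom.ker (orb (k := k) (A := A) I).toRingHom) ⊆ T
    rw [← PrimeSpectrum.closure_range_comap, hT.closure_subset_iff]
    rintro _ ⟨Q, rfl⟩
    let Q' := PrimeSpectrum.comap (Algebra.TensorProduct.map (Ideal.Quotient.mkₐ k I) (AlgHom.id k A)).toRingHom Q
    refine hinv Q' ?_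
    rw [hI, PrimeSpectrum.mem_zeroLocus]
    intro a ha
    show Algebra.TensorProduct.map (Ideal.Quotient.mkₐ k I) (AlgHom.id k A) (a ⊗ₜ[k] 1) ∈ Q.asIdeal
    rw [Algebra.TensorProduct.map_tmul, Ideal.Quotient.mkₐ_eq_mk, Ideal.Quotient.eq_zero_iff_mem.mpr ha,
      TensorProduct.zero_tmul]
    exact zero_mem _
  · rw [hI]
    exact PrimeSpectrum.zeroLocus_anti_mono (ker_orb_le I)

theorem exists_basicOpen (htame : ∃ α : A →ₗ[k] B, Hoch.IsComodHom A α ∧ α 1 = 1) [Module.Flat k A]
    {J : Type u} (T : J → Set (PrimeSpectrum B)) (hT : ∀ j, IsClosed (T j))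
    (hinv : ∀ j, ∀ Q : PrimeSpectrum (B ⊗[k] A),
      PrimeSpectrum.comap (Algebra.TensorProduct.includeLeftRingHom : B →+* B ⊗[k] A) Q ∈ T j →
        PrimeSpectrum.comap (GLin.coactAlgHom k A B).toRingHom Q ∈ T j)
    (hempty : ∀ x, ∃ j, x ∉ T j) (p : PrimeSpectrum (GLin.invariants k A B)) :
    ∃ (c : GLin.invariants k A B) (j : J), c ∉ p.asIdeal ∧
      ∀ x ∈ T j, (c : B) ∈ x.asIdeal := by
  classical
  obtain ⟨α, hα, hα1⟩ := htame
  obtain ⟨E, hE, hE1, -, hEsub⟩ := Groth.Agent.HopfMod.exists_projection hα hα1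
  choose b hb hbT using fun j => exists_subcomod_zeroLocus (hT j) (hinv j)
  by_contra hne
  push Not at hne
  have hle : ∀ j, ∀ x ∈ b j, (⟨E x, hE x⟩ : GLin.invariants k A B) ∈ p.asIdeal := by
    intro j x hx
    by_contra hnp
    obtain ⟨y, hy, hy'⟩ := hne ⟨E x, hE x⟩ j hnp
    rw [← hbT j, PrimeSpectrum.mem_zeroLocus] at hy
    exact hy' (hy (hEsub _ (hb j) x hx))
  have htop : (⨆ j, b j) = ⊤ := by
    rw [← PrimeSpectrum.zeroLocus_empty_iff_eq_top, PrimeSpectrum.zeroLocus_iSup]
    refine Set.eq_empty_of_forall_notMem fun x hx => ?_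
    obtain ⟨j, hj⟩ := hempty x
    exact hj (hbT j ▸ Set.mem_iInter.mp hx j)
  have key : ∀ x ∈ (⨆ j, b j), (⟨E x, hE x⟩ : GLin.invariants k A B) ∈ p.asIdeal := by
    intro x hx
    induction hx using Submodule.iSup_induction' with
    | mem j x hx => exact hle j x hx
    | zero =>
      convert p.asIdeal.zero_mem
      simp
    | add x y _ _ hx hy =>
      convert add_mem hx hy
      simp
  have h1 := key 1 (htop ▸ Submodule.mem_top)
  exact p.isPrime.ne_top ((Ideal.eq_top_iff_one _).mpr (by
    have h2 : (⟨E 1, hE 1⟩ : GLin.invariants k A B) = 1 := Subtype.ext (hE1 1 (one_mem _))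
    exact h2 ▸ h1))

end Helper


/-- Let `k` be a commutative ring, `A` a commutative Hopf algebra over `k`, flat as a `k`-module, `B` a
commutative `k`-algebra with a coaction `ρ : B → B ⊗ A` that is an algebra map and admits a total
integral (a comodule map `α : A → B` with `α 1 = 1`), and `C = B^A`. Then `Spec B → Spec C` is a
categorical quotient of the action in the category of schemes: for every scheme `Z` and every
morphism `ψ : Spec B → Z` which is invariant, i.e. has the same composite with `Spec (B ⊗ A) → Spec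
B` induced by `ρ` and by `b ↦ b ⊗ 1`, there is exactly one morphism `Spec C → Z` through which `ψ`
factors. (The published statement assumes only that taking invariants is exact on `(B, A)`-modules;
a total integral, assumed here, gives that exactness.) -/
theorem result
    (k : Type u) [CommRing k] (A : Type u) [CommRing A] [HopfAlgebra k A] [Module.Flat k A]
    (B : Type u) [CommRing B] [Algebra k B] [HopfRep.Comod k A B] [GLin.IsCoactAlg k A B]
    (htame : ∃ α : A →ₗ[k] B, Hoch.IsComodHom A α ∧ α 1 = 1)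
    (Z : Scheme.{u}) (ψ : Spec (CommRingCat.of B) ⟶ Z)
    (hψ : Spec.map (CommRingCat.ofHom (GLin.coactAlgHom k A B).toRingHom) ≫ ψ =
      Spec.map (CommRingCat.ofHom
        (Algebra.TensorProduct.includeLeftRingHom : B →+* TensorProduct k B A)) ≫ ψ) :
    ∃! χ : Spec (CommRingCat.of (GLin.invariants k A B)) ⟶ Z,
      Spec.map (CommRingCat.ofHom (algebraMap (GLin.invariants k A B) B)) ≫ χ = ψ := by
  let iB := Algebra.TensorProduct.includeLeftRingHom (R := k) (A := B) (B := A)
  let C := GLin.invariants k A B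
  let f : C →+* B := algebraMap C B
  let q := Spec.map (CommRingCat.ofHom f)
  let p₁ := Spec.map (CommRingCat.ofHom (GLin.coactAlgHom k A B).toRingHom)
  let p₂ := Spec.map (CommRingCat.ofHom iB)
  have happ : ∀ {R S : Type u} [CommRing R] [CommRing S] (g : R →+* S) (r : R),
      (Spec.map (CommRingCat.ofHom g)).appTop ((Scheme.ΓSpecIso (CommRingCat.of R)).inv r) =
        (Scheme.ΓSpecIso (CommRingCat.of S)).inv (g r) := by
    intro R S _ _ g r
    exact (congr($(Scheme.ΓSpecIso_inv_naturality (CommRingCat.ofHom g)) r)).symm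
  have hsurjΓ : ∀ (R : CommRingCat.{u}), Function.Bijective (Scheme.ΓSpecIso R).inv := fun R =>
    ConcreteCategory.bijective_of_isIso _
  have hfq : Function.Injective f := Subtype.val_injective
  refine Groth.Agent.CatQuot23.existsUnique_desc q p₁ p₂ (Groth.Agent.S12922.result k A B htame) ?_ ?_ ?_ ψ hψ ?_
  · intro a b hab
    obtain ⟨a, rfl⟩ := (hsurjΓ _).2 a
    obtain ⟨b, rfl⟩ := (hsurjΓ _).2 b
    rw [happ, happ] at hab
    rw [hfq ((hsurjΓ _).1 hab)]
  · show Spec.map _ ≫ Spec.map _ = Spec.map _ ≫ Spec.map _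
    rw [← Spec.map_comp, ← Spec.map_comp]
    congr 1
    ext c
    exact (GLin.mem_invariants_iff k A B _).mp c.2
  · intro b hb
    obtain ⟨b, rfl⟩ := (hsurjΓ _).2 b
    rw [happ, happ] at hb
    have hb' : b ∈ C := (GLin.mem_invariants_iff k A B b).mpr ((hsurjΓ _).1 hb)
    exact ⟨(Scheme.ΓSpecIso _).inv ⟨b, hb'⟩, happ f _⟩
  · intro p
    choose V hV hzV _ using fun z : Z =>
      exists_isAffineOpen_mem_and_subset (show z ∈ (⊤ : Z.Opens) from trivial)
    obtain ⟨c, z, hcp, hcT⟩ := exists_basicOpen (k := k) (A := A) (B := B) htame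
      (fun z => ψ.base ⁻¹' (V z : Set Z)ᶜ) (fun z => (V z).2.isClosed_compl.preimage ψ.continuous)
      (fun z Q hQ => by
        show ψ (p₁ Q) ∈ (V z : Set Z)ᶜ
        rw [← Scheme.Hom.comp_apply, hψ, Scheme.Hom.comp_apply]
        exact hQ)
      (fun x => ⟨ψ x, fun hx => hx (hzV _)⟩) p
    have hbo : (Spec (CommRingCat.of C)).basicOpen ((Scheme.ΓSpecIso (CommRingCat.of C)).inv c) =
        PrimeSpectrum.basicOpen c := basicOpen_eq_of_affine (R := CommRingCat.of C) c
    refine ⟨(Scheme.ΓSpecIso (CommRingCat.of C)).inv c, V z, hV z, ?_, fun x hx => ?_⟩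
    · rw [hbo]
      exact hcp
    · by_contra hxV
      rw [hbo] at hx
      exact hx (hcT x hxV)
end

end Groth.Agent.S12924
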