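import Groth.Statements.S12925
import Groth.Agent.S12927

set_option autoImplicit false
universe u w
open HopfRep

namespace Groth.Agent.S12925
open scoped TensorProduct

/-- Let `k` be a commutative ring, `M` a commutative group and `B` a commutative `k`-algebra with a
coaction of the group algebra `k[M]` that is an algebra map (an action of the diagonalizable group
scheme `D(M) = Spec k[M]` on `Spec B`). Then the action is tame: there is a comodule map `α : k[M] →
B`, for the regular coaction on `k[M]`, with `α 1 = 1`. -/
theorem result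
    (k : Type u) [CommRing k] (M : Type u) [CommGroup M]
    (B : Type w) [CommRing B] [Algebra k B] [HopfRep.Comod k (MonoidAlgebra k M) B]
    [GLin.IsCoactAlg k (MonoidAlgebra k M) B] :
    ∃ α : MonoidAlgebra k M →ₗ[k] B, Hoch.IsComodHom (MonoidAlgebra k M) α ∧ α 1 = 1 := by
  classical
  refine Groth.Agent.S12927.result k (MonoidAlgebra k M) B
    ⟨(Finsupp.lapply (1 : M) : (M →₀ k) →ₗ[k] k) ∘ₗ (MonoidAlgebra.coeffLinearEquiv k).toLinearMap, ?_, ?_⟩
  · refine MonoidAlgebra.lhom_ext' fun g => LinearMap.ext_ring ?_
    change _ ⊗ₜ[k] (1 : MonoidAlgebra k M) = LinearMap.rTensor _ _ (CoalgebraStruct.comul (R := k) (MonoidAlgebra.single g (1 : k)))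
    rw [MonoidAlgebra.comul_single]
    by_cases hg : g = 1 <;> simp [hg, MonoidAlgebra.one_def, TensorProduct.tmul_zero]
  · simp [MonoidAlgebra.one_def]

end Groth.Agent.S12925
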