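import Groth.Statements.S12926
import Groth.Agent.Lib.CoalgH23.Hochschild

set_option autoImplicit false
universe u v
open HopfRep

namespace Groth.Agent.S12926

open Groth.Agent.CoalgH23

/-- Let `k` be a commutative ring and `A` a commutative bialgebra over `k`, flat as a `k`-module. If the
submodule `k · 1` of the regular comodule `A` has a complement `H` which is a subcomodule — the case
used when `A` is cosemisimple, i.e. every subcomodule of every comodule is a direct summand as a
comodule — then the trivial action of `Spec A` on `Spec k` is tame: there is a comodule map `α : A →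
k`, for the regular coaction on `A` and the trivial coaction `r ↦ r ⊗ 1` on `k`, with `α 1 = 1`. -/
theorem result
    (k : Type u) [CommRing k] (A : Type v) [CommRing A] [Bialgebra k A] [Module.Flat k A]
    (H : Submodule k A) (hH : HopfRep.IsSubcomod (k := k) (A := A) H)
    (hc : IsCompl (Submodule.span k {(1 : A)}) H) :
    ∃ α : A →ₗ[k] k, @Hoch.IsComodHom k _ A _ _ _ A _ _ _ k _ _ (HopfRep.Comod.trivial k A k) α ∧ α 1 = 1 := by
  let e := (Submodule.span k {(1 : A)}).projection H hc
  letI : HopfRep.Comod k A k := HopfRep.Comod.trivial k A k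
  refine ⟨CoalgebraStruct.counit ∘ₗ e, ?_, ?_⟩
  · refine LinearMap.ext fun a => ?_
    simp only [LinearMap.comp_apply]
    obtain ⟨u, hu, w, hw, rfl⟩ := Submodule.mem_sup.1 (hc.sup_eq_top ▸ Submodule.mem_top : a ∈ Submodule.span k {(1 : A)} ⊔ H)
    obtain ⟨c, rfl⟩ := Submodule.mem_span_singleton.1 hu
    obtain ⟨y, hy⟩ := hH w hw
    have he1 : e (1 : A) = 1 := Submodule.projection_apply_of_mem_left hc (Submodule.mem_span_singleton_self 1)
    have he0 : e ∘ₗ H.subtype = 0 := LinearMap.ext fun z => Submodule.projection_apply_of_mem_right hc z.2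
    have hw0 : e w = 0 := Submodule.projection_apply_of_mem_right hc hw
    simp only [map_add, map_smul, he1, hw0, add_zero]
    rw [show HopfRep.Comod.coact (k := k) (A := A) (V := A) (1 : A) = (1 : A) ⊗ₜ[k] (1 : A) from
      Bialgebra.comul_one.trans Algebra.TensorProduct.one_def, ← hy, LinearMap.rTensor_comp_apply,
      LinearMap.rTensor_comp_apply, ← LinearMap.rTensor_comp_apply A e, he0, LinearMap.rTensor_zero]
    simp [he1]
    exact congrArg (c • ·) rfl
  · simp [LinearMap.comp_apply, show e (1 : A) = 1 from
      Submodule.projection_apply_of_mem_left hc (Submodule.mem_span_singleton_self 1)]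

end Groth.Agent.S12926
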