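import Groth.Statements.S12928
import Groth.Agent.Lib.CoalgH23.HomFixed

set_option autoImplicit false
universe u
open HopfRep

namespace Groth.Agent.S12928
open Groth.Agent.CoalgH23

/-- Let `k` be a commutative ring, `A` a commutative Hopf algebra over `k` which is finite locally free
(finite projective, in particular flat) as a `k`-module, `B` a commutative `k`-algebra with a
coaction of `A` that is an algebra map, and `C = B^A` the ring of invariants; assume `C` Noetherian
and `B` finite and flat over `C`. If taking invariants is exact on `(B, A)`-modules — for
`B`-modules `M`, `N` with compatible `A`-coactions (in the universe of `k`, `A`, `B`) every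
surjective `B`-linear comodule map `M → N` maps `M^A` onto `N^A` — then the action is tame: there is
a comodule map `α : A → B` with `α 1 = 1`. Together with the converse (a total integral makes
invariants exact) this says that tameness of the action is the exactness of invariants. (The
published statement does not assume `B` finite over `C`; its proof uses that finiteness, which is
assumed here.) -/
theorem result
    (k : Type u) [CommRing k] (A : Type u) [CommRing A] [HopfAlgebra k A] [Module.Flat k A]
    [Module.Finite k A] [Module.Projective k A]
    (B : Type u) [CommRing B] [Algebra k B] [HopfRep.Comod k A B] [GLin.IsCoactAlg k A B]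
    [IsNoetherianRing (GLin.invariants k A B)] [Module.Finite (GLin.invariants k A B) B] [Module.Flat (GLin.invariants k A B) B]
    (hexact : ∀ (M N : Type u) [AddCommGroup M] [Module k M] [Module B M] [IsScalarTower k B M]
      [HopfRep.Comod k A M] [TameAct.IsHopfMod k A B M]
      [AddCommGroup N] [Module k N] [Module B N] [IsScalarTower k B N]
      [HopfRep.Comod k A N] [TameAct.IsHopfMod k A B N] (f : M →ₗ[B] N),
      Hoch.IsComodHom A (f.restrictScalars k) → Function.Surjective f →
      ∀ n ∈ HopfRep.fixedPts k A N, ∃ m ∈ HopfRep.fixedPts k A M, f m = n) :
    ∃ α : A →ₗ[k] B, Hoch.IsComodHom A α ∧ α 1 = 1 := by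


  obtain ⟨d, hd⟩ := exists_dual_of_projective (inferInstance : HopfRep.Comod k A A)
  let cB : HopfRep.Comod k A B := inferInstance
  let cA : HopfRep.Comod k A A := inferInstance
  letI : HopfRep.Comod k A (TensorProduct k B (Module.Dual k A)) := ComodTens.Comod.tensor cB d
  haveI : TameAct.IsHopfMod k A B (TensorProduct k B (Module.Dual k A)) := by
    refine ⟨fun b m => ?_⟩
    induction m with
    | zero => simp
    | add p q hp hq => simp only [smul_add, map_add, hp, hq]
    | tmul b' f =>
      rw [TensorProduct.smul_tmul', smul_eq_mul]
      show (ComodTens.Comod.tensor cB d).coact (TensorProduct.tmul k (b * b') f) =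
        TameAct.hmSMul k A B _ (cB.coact b) ((ComodTens.Comod.tensor cB d).coact (TensorProduct.tmul k b' f))
      rw [ComodTens.tensor_coact_tmul, ComodTens.tensor_coact_tmul,
        show cB.coact (b * b') = cB.coact b * cB.coact b' from GLin.IsCoactAlg.coact_mul (k := k) b b']
      generalize cB.coact b = z
      generalize cB.coact b' = y
      generalize d.coact f = w
      induction z with
      | zero => simp
      | add p q hp hq => simp only [add_mul, TensorProduct.add_tmul, map_add, LinearMap.add_apply, hp, hq]
      | tmul p q =>
        induction y with
        | zero => simp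
        | add r s hr hs => simp only [mul_add, TensorProduct.add_tmul, map_add, hr, hs]
        | tmul r s =>
          induction w with
          | zero => simp
          | add t v ht hv => simp only [TensorProduct.tmul_add, map_add, ht, hv]
          | tmul t v =>
            rw [Algebra.TensorProduct.tmul_mul_tmul]
            simp [TensorProduct.smul_tmul', mul_assoc]
  haveI : TameAct.IsHopfMod k A B B := by
    refine ⟨fun b m => ?_⟩
    rw [smul_eq_mul, GLin.IsCoactAlg.coact_mul (k := k) b m]
    generalize HopfRep.Comod.coact (k := k) (A := A) b = z
    generalize HopfRep.Comod.coact (k := k) (A := A) m = y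
    induction z with
    | zero => simp
    | add p q hp hq => simp only [add_mul, map_add, LinearMap.add_apply, hp, hq]
    | tmul p q =>
      induction y with
      | zero => simp
      | add r s hr hs => simp only [mul_add, map_add, hr, hs]
      | tmul r s => simp [Algebra.TensorProduct.tmul_mul_tmul]
  let π : TensorProduct k B (Module.Dual k A) →ₗ[B] B :=
    { toFun := fun x => homOf x 1
      map_add' := fun x y => by simp
      map_smul' := fun b x => by
        induction x with
        | zero => simp
        | add p q hp hq => simp only [smul_add, map_add, LinearMap.add_apply, hp, hq]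
        | tmul p q => simp [TensorProduct.smul_tmul', homOf_tmul, mul_comm, mul_left_comm] }
  have hπ : Hoch.IsComodHom A (π.restrictScalars k) := LinearMap.ext fun x => by
    have h1 : ∀ y : TensorProduct k (TensorProduct k B (Module.Dual k A)) A,
        homOf' y 1 = (π.restrictScalars k).rTensor A y := by
      intro y
      induction y with
      | zero => simp
      | add p q hp hq => simp only [map_add, LinearMap.add_apply, hp, hq]
      | tmul p q =>
        induction p with
        | zero => simp
        | add r s hr hs => simp only [TensorProduct.add_tmul, map_add, LinearMap.add_apply, hr, hs]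
        | tmul r s => simp [π, homOf_tmul, homOf'_tmul, TensorProduct.smul_tmul']
    show cB.coact (π x) = (π.restrictScalars k).rTensor A ((ComodTens.Comod.tensor cB d).coact x)
    rw [← h1, homOf'_coact cB cA hd]
    show cB.coact (homOf x 1) = mulLast (TensorProduct.map (cB.coact ∘ₗ homOf x)
      (HopfAlgebraStruct.antipode (R := k)) (CoalgebraStruct.comul (R := k) (1 : A)))
    rw [Bialgebra.comul_one, Algebra.TensorProduct.one_def, TensorProduct.map_tmul, HopfAlgebra.antipode_one,
      LinearMap.comp_apply]
    generalize cB.coact (homOf x 1) = z
    induction z with
    | zero => simp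
    | add r s hr hs =>
      rw [TensorProduct.add_tmul, map_add, ← hr, ← hs]
    | tmul r s => simp [mulLast_tmul]
  have hπ_apply : ∀ x, π x = homOf x 1 := fun x => rfl
  have hsurj : Function.Surjective π := fun b =>
    ⟨TensorProduct.tmul k b (CoalgebraStruct.counit (R := k) (A := A)), by
      rw [hπ_apply, homOf_tmul, Bialgebra.counit_one, one_smul]⟩
  obtain ⟨m, hm, hm1⟩ := hexact (TensorProduct k B (Module.Dual k A)) B π hπ hsurj 1
    (by
      show HopfRep.Comod.coact (k := k) (A := A) (1 : B) = TensorProduct.tmul k (1 : B) (1 : A)
      rw [GLin.IsCoactAlg.coact_one (k := k), Algebra.TensorProduct.one_def])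
  rw [hπ_apply] at hm1
  exact ⟨homOf m, isComodHom_homOf_of_fixed cB cA hd hm, hm1⟩

end Groth.Agent.S12928
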