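import Groth.Statements.S12929
import Groth.Agent.Lib.CoalgH23.Hochschild

set_option autoImplicit false
universe u v w w'
open HopfRep

namespace Groth.Agent.S12929

open Groth.Agent.CoalgH23

/-- Let `k` be a commutative ring, `A` a commutative Hopf algebra over `k`, `M` a right `A`-comodule and
`N` a `k`-module; give `N ⊗ A` the coaction `id ⊗ Δ`. Then for every `k`-linear map `h : M → N` the
composite `(h ⊗ id_A) ∘ ρ_M : M → N ⊗ A` is a comodule map, and every comodule map `f : M → N ⊗ A`
is of this form for exactly one `h` (which is `(id_N ⊗ ε) ∘ f`): comodule maps `M → N ⊗ A`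
correspond bijectively to linear maps `M → N`. -/
theorem result
    (k : Type u) [CommRing k] (A : Type v) [CommRing A] [HopfAlgebra k A]
    (M : Type w) [AddCommGroup M] [Module k M] [HopfRep.Comod k A M]
    (N : Type w') [AddCommGroup N] [Module k N] :
    (∀ h : M →ₗ[k] N, Hoch.IsComodHom A
        ((Hoch.Ind.equiv k A N).toLinearMap ∘ₗ h.rTensor A ∘ₗ HopfRep.Comod.coact (k := k) (A := A))) ∧
      ∀ f : M →ₗ[k] Hoch.Ind k A N, Hoch.IsComodHom A f →
        ∃! h : M →ₗ[k] N,
          f = (Hoch.Ind.equiv k A N).toLinearMap ∘ₗ h.rTensor A ∘ₗ HopfRep.Comod.coact (k := k) (A := A) := by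
  refine ⟨fun h => ?_, fun f hf => ?_⟩
  · exact (isComodHom_comp (isComodHom_indMap (A := A) h) (isComodHom_toInd (k := k) (A := A) M) :
      Hoch.IsComodHom A (indMap (A := A) h ∘ₗ Hoch.toInd k A M))
  · refine ⟨Hoch.Ind.counit k A N ∘ₗ f, LinearMap.ext fun m => ?_, fun h hh => ?_⟩
    · have e := rTensor_counit_coact (f m)
      rw [show HopfRep.Comod.coact (k := k) (A := A) (f m) = f.rTensor A (HopfRep.Comod.coact (k := k) (A := A) m)
        from LinearMap.congr_fun hf m, ← LinearMap.rTensor_comp_apply] at e
      exact ((congrArg (Hoch.Ind.equiv k A N) e).trans ((Hoch.Ind.equiv k A N).apply_symm_apply (f m))).symm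
    · refine LinearMap.ext fun m => ?_
      have hn : ∀ w : TensorProduct k M A, Hoch.Ind.counit k A N (Hoch.Ind.equiv k A N (h.rTensor A w)) =
          h (Hoch.Ind.counit k A M (Hoch.Ind.equiv k A M w)) := by
        intro w
        induction w with
        | zero => simp
        | add a b ha hb => simp only [map_add, ha, hb]
        | tmul a b => simp
      rw [LinearMap.comp_apply, hh]
      exact ((hn _).trans (congrArg h (counit_toInd (k := k) (A := A) m))).symm

end Groth.Agent.S12929
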