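import Groth.Statements.S1293
import Groth.Agent.Lib.WLocal.WEProd
import Mathlib.LinearAlgebra.TensorProduct.Vanishing
import Mathlib.RingTheory.Flat.EquationalCriterion
import Mathlib.LinearAlgebra.TensorProduct.Quotient
import Mathlib.RingTheory.Flat.EquationalCriterion
import Mathlib.LinearAlgebra.Matrix.ToLin
import Mathlib.LinearAlgebra.Matrix.NonsingularInverse
import Mathlib.LinearAlgebra.DirectSum.Finsupp
import Mathlib.LinearAlgebra.TensorProduct.Pi
import Mathlib.LinearAlgebra.Basis.VectorSpace

set_option autoImplicit false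
universe u
open FlatMor

set_option backward.isDefEq.respectTransparency.types false

namespace Groth.Agent.S1293


open TensorProduct

/-- A map of finite free modules injective modulo every maximal ideal is split injective. -/
theorem exists_leftInverse_of_mod_maximal {A : Type u} [CommRing A] {n k : ℕ} (h : (Fin n → A) →ₗ[A] (Fin k → A))
    (hinj : ∀ (m : Ideal A) [m.IsMaximal], Function.Injective (h.lTensor (A ⧸ m))) :
    ∃ l : (Fin k → A) →ₗ[A] (Fin n → A), l ∘ₗ h = LinearMap.id := by
  classical
  let J : Ideal A := {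
    carrier := {c | ∃ l : (Fin k → A) →ₗ[A] (Fin n → A), l ∘ₗ h = c • LinearMap.id}
    add_mem' := fun ⟨l, hl⟩ ⟨l', hl'⟩ => ⟨l + l', by rw [LinearMap.add_comp, hl, hl', add_smul]⟩
    zero_mem' := ⟨0, by simp⟩
    smul_mem' := fun a c ⟨l, hl⟩ => ⟨a • l, by rw [LinearMap.smul_comp, hl, smul_smul, smul_eq_mul]⟩ }
  suffices hJ : (1 : A) ∈ J by obtain ⟨l, hl⟩ := hJ; exact ⟨l, by simpa using hl⟩
  rw [← Ideal.eq_top_iff_one]
  by_contra hne
  obtain ⟨m, hm, hJm⟩ := Ideal.exists_le_maximal J hne
  letI := Ideal.Quotient.field m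
  let H := LinearMap.toMatrix' h
  let Hb : Matrix (Fin k) (Fin n) (A ⧸ m) := H.map (Ideal.Quotient.mk m)
  have hHb : Function.Injective (Matrix.toLin' Hb) := by
    rw [injective_iff_map_eq_zero]
    intro v hv
    choose w hw using fun i => Ideal.Quotient.mk_surjective (v i)
    have hhw : ∀ i, h w i ∈ m := fun i => by
      rw [← Ideal.Quotient.eq_zero_iff_mem]
      have := congrFun hv i
      rw [Matrix.toLin'_apply] at this
      have e : (Ideal.Quotient.mk m) ∘ w = v := funext hw
      rw [← LinearMap.toMatrix'_mulVec h w, RingHom.map_mulVec, e]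
      exact this
    have h0 : ((1 : A ⧸ m) ⊗ₜ[A] w) = 0 := hinj m (by
      rw [map_zero, LinearMap.lTensor_tmul, ← Finset.univ_sum_single (h w), TensorProduct.tmul_sum]
      refine Finset.sum_eq_zero fun i _ => ?_
      rw [show (Pi.single i (h w i) : Fin k → A) = h w i • Pi.single i 1 by rw [← Pi.single_smul, smul_eq_mul, mul_one],
        ← TensorProduct.smul_tmul, ← Algebra.algebraMap_eq_smul_one, Ideal.Quotient.algebraMap_eq,
        Ideal.Quotient.eq_zero_iff_mem.2 (hhw i), TensorProduct.zero_tmul])
    funext i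
    have := congrFun (congrArg (TensorProduct.piScalarRight A A (A ⧸ m) (Fin n)) h0) i
    rw [TensorProduct.piScalarRight_apply, TensorProduct.piScalarRightHom_tmul, map_zero] at this
    rw [← hw i]
    simpa [Algebra.smul_def] using this
  obtain ⟨lb, hlb⟩ := (Matrix.toLin' Hb).exists_leftInverse_of_injective (LinearMap.ker_eq_bot.2 hHb)
  let Lb := LinearMap.toMatrix' lb
  let L : Matrix (Fin n) (Fin k) A := Matrix.of fun i j => Function.surjInv Ideal.Quotient.mk_surjective (Lb i j)
  have hL : L.map (Ideal.Quotient.mk m) = Lb := by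
    ext i j
    exact Function.surjInv_eq Ideal.Quotient.mk_surjective (Lb i j)
  have hLH : (L * H).map (Ideal.Quotient.mk m) = 1 := by
    rw [Matrix.map_mul, hL]
    show LinearMap.toMatrix' lb * Hb = 1
    rw [← LinearMap.toMatrix'_toLin' Hb, ← LinearMap.toMatrix'_comp, hlb, LinearMap.toMatrix'_id]
  have hdet : (L * H).det ∉ m := by
    rw [← Ideal.Quotient.eq_zero_iff_mem, RingHom.map_det, RingHom.mapMatrix_apply, hLH, Matrix.det_one]
    exact one_ne_zero
  refine hdet (hJm ⟨Matrix.toLin' ((L * H).adjugate * L), ?_⟩)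
  rw [← Matrix.toLin'_toMatrix' h, ← Matrix.toLin'_mul, Matrix.mul_assoc, Matrix.adjugate_mul, map_smul, Matrix.toLin'_one]

/-- From a finite free module into a flat module: injective mod maximal ideals implies universally injective. -/
theorem univInj_of_free {A : Type u} [CommRing A] {n : ℕ} {M : Type u} [AddCommGroup M] [Module A M] [Module.Flat A M]
    (v : (Fin n → A) →ₗ[A] M) (hinj : ∀ (m : Ideal A) [m.IsMaximal], Function.Injective (v.lTensor (A ⧸ m)))
    (Q : Type u) [AddCommGroup Q] [Module A Q] (z : Q ⊗[A] (Fin n → A)) (hz : v.lTensor Q z = 0) : z = 0 := by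
  classical
  let q : Fin n → Q := fun i => (TensorProduct.piScalarRight A A Q (Fin n) z) i
  have hzq : z = ∑ i, q i ⊗ₜ[A] (Pi.single i 1 : Fin n → A) := by
    apply (TensorProduct.piScalarRight A A Q (Fin n)).injective
    rw [map_sum]
    funext j
    rw [Finset.sum_apply, Finset.sum_eq_single j]
    · simp [q]
    · intro i _ hij
      simp [Pi.single_eq_of_ne (Ne.symm hij)]
    · simp
  rw [hzq, map_sum] at hz
  simp only [LinearMap.lTensor_tmul] at hz
  obtain ⟨k, a, y, hy, ha⟩ := TensorProduct.vanishesTrivially_of_sum_tmul_eq_zero_of_rTensor_injective A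
    (Module.Flat.rTensor_preserves_injective_linearMap _ (Submodule.injective_subtype _)) hz
  let h : (Fin n → A) →ₗ[A] (Fin k → A) := Fintype.linearCombination A a
  let y' : (Fin k → A) →ₗ[A] M := Fintype.linearCombination A y
  have hv : v = y' ∘ₗ h := LinearMap.pi_ext' fun i => LinearMap.ext_ring (by
    show v (Pi.single i 1) = y' (h (Pi.single i 1))
    rw [show v (Pi.single i 1) = _ from hy i]
    simp [h, y', Fintype.linearCombination_apply_single, Fintype.linearCombination_apply])
  have hh : ∀ (m : Ideal A) [m.IsMaximal], Function.Injective (h.lTensor (A ⧸ m)) := fun m _ => by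
    have h2 := hinj m
    rw [hv, LinearMap.lTensor_comp, LinearMap.coe_comp] at h2
    exact Function.Injective.of_comp h2
  have h0 : h.lTensor Q z = 0 := by
    rw [hzq, map_sum]
    apply (TensorProduct.piScalarRight A A Q (Fin k)).injective
    rw [map_sum, map_zero]
    funext j
    rw [Finset.sum_apply, Pi.zero_apply, ← ha j]
    refine Finset.sum_congr rfl fun i _ => ?_
    simp [h, Fintype.linearCombination_apply_single]
  obtain ⟨l, hl⟩ := exists_leftInverse_of_mod_maximal h hh
  have := congrArg (l.lTensor Q) h0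
  rwa [← LinearMap.lTensor_comp_apply, hl, LinearMap.lTensor_id, LinearMap.id_apply, map_zero] at this

/-- From a projective module into a flat module: injective mod maximal ideals implies universally injective. -/
theorem univInj_of_projective {A : Type u} [CommRing A] {P M : Type u} [AddCommGroup P] [Module A P]
    [Module.Projective A P] [AddCommGroup M] [Module A M] [Module.Flat A M]
    (v : P →ₗ[A] M) (hinj : ∀ (m : Ideal A) [m.IsMaximal], Function.Injective (v.lTensor (A ⧸ m))) :
    FlatCA.UnivInj A v := by
  classical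
  intro Q _ _
  rw [injective_iff_map_eq_zero]
  intro z hz
  obtain ⟨s, hs⟩ := Module.projective_def'.1 (inferInstance : Module.Projective A P)
  let r : (P →₀ A) →ₗ[A] P := Finsupp.linearCombination A id
  let w : (P →₀ A) →ₗ[A] M × (P →₀ A) := (v ∘ₗ r).prod (LinearMap.id - s ∘ₗ r)
  haveI : Module.Flat A (M × (P →₀ A)) := Groth.Agent.WLocal.flat_prod
  have hw : ∀ (m : Ideal A) [m.IsMaximal], Function.Injective (w.lTensor (A ⧸ m)) := fun m _ => by
    rw [injective_iff_map_eq_zero]
    intro x hx
    have h1 : (v ∘ₗ r).lTensor (A ⧸ m) x = 0 := by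
      have := congrArg ((LinearMap.fst A M (P →₀ A)).lTensor (A ⧸ m)) hx
      rwa [map_zero, ← LinearMap.lTensor_comp_apply, LinearMap.fst_prod] at this
    have h2 : (LinearMap.id - s ∘ₗ r).lTensor (A ⧸ m) x = 0 := by
      have := congrArg ((LinearMap.snd A M (P →₀ A)).lTensor (A ⧸ m)) hx
      rwa [map_zero, ← LinearMap.lTensor_comp_apply, LinearMap.snd_prod] at this
    rw [LinearMap.lTensor_comp_apply] at h1
    rw [LinearMap.lTensor_sub, LinearMap.sub_apply, LinearMap.lTensor_comp_apply, hinj m (h1.trans (map_zero _).symm),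
      map_zero, sub_zero, LinearMap.lTensor_id, LinearMap.id_apply] at h2
    exact h2
  set F := P →₀ A with hF
  have hs0 : w.lTensor Q (s.lTensor Q z) = 0 := by
    rw [← LinearMap.lTensor_comp_apply, show w ∘ₗ s = (LinearMap.inl A M F) ∘ₗ v by
      ext p <;> simp [w, r, show ∀ p, Finsupp.linearCombination A id (s p) = p from fun p => LinearMap.congr_fun hs p],
      LinearMap.lTensor_comp_apply, hz, map_zero]
  suffices h0 : s.lTensor Q z = 0 by
    have := congrArg (r.lTensor Q) h0
    rwa [← LinearMap.lTensor_comp_apply, show r ∘ₗ s = LinearMap.id from hs, LinearMap.lTensor_id,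
      LinearMap.id_apply, map_zero] at this
  generalize s.lTensor Q z = x at hs0 ⊢
  obtain ⟨t, x', rfl⟩ : ∃ (t : Finset P) (x' : Q ⊗[A] (t → A)),
      ((Finsupp.lmapDomain A A (Subtype.val : t → P)) ∘ₗ (Finsupp.linearEquivFunOnFinite A A t).symm.toLinearMap).lTensor Q x' = x := by
    let c := (TensorProduct.finsuppScalarRight A A Q P x)
    refine ⟨c.support, ∑ i : c.support, c i ⊗ₜ[A] (Pi.single i 1 : c.support → A), ?_⟩
    apply (TensorProduct.finsuppScalarRight A A Q P).injective
    rw [map_sum, map_sum]
    calc _ = ∑ i : c.support, Finsupp.single (i : P) (c i) := Finset.sum_congr rfl fun i _ => by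
          simp only [LinearMap.lTensor_tmul, LinearMap.comp_apply, LinearEquiv.coe_coe]
          rw [Finsupp.linearEquivFunOnFinite_symm_single, Finsupp.lmapDomain_apply, Finsupp.mapDomain_single]
          ext y
          by_cases hy : y = (i : P)
          · subst hy; simp
          · simp [Finsupp.single_eq_of_ne hy]
      _ = _ := by rw [Finset.sum_coe_sort c.support (fun i => Finsupp.single i (c i))]; exact Finsupp.sum_single c
  let j := (Finsupp.lmapDomain A A (Subtype.val : t → P)) ∘ₗ (Finsupp.linearEquivFunOnFinite A A t).symm.toLinearMap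
  let π := (Finsupp.linearEquivFunOnFinite A A t).toLinearMap ∘ₗ Finsupp.lcomapDomain (Subtype.val : t → P) Subtype.val_injective
  have hj : π ∘ₗ j = LinearMap.id := LinearMap.ext fun x => funext fun i => by
    simp [π, j, Finsupp.mapDomain_apply Subtype.val_injective]
  let e := LinearEquiv.funCongrLeft A A (Fintype.equivFin t).symm
  have h0 := univInj_of_free (w ∘ₗ j ∘ₗ e.symm.toLinearMap) (fun m _ => by
    rw [LinearMap.lTensor_comp, LinearMap.lTensor_comp, LinearMap.coe_comp, LinearMap.coe_comp]
    refine (hw m).comp (Function.Injective.comp ?_ (e.symm.lTensor (A ⧸ m)).injective)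
    refine Function.LeftInverse.injective (g := π.lTensor (A ⧸ m)) fun x => ?_
    rw [← LinearMap.lTensor_comp_apply, hj, LinearMap.lTensor_id, LinearMap.id_apply]) Q (e.toLinearMap.lTensor Q x') (by
    rw [← LinearMap.lTensor_comp_apply,
      show (w ∘ₗ j ∘ₗ e.symm.toLinearMap) ∘ₗ e.toLinearMap = w ∘ₗ j from LinearMap.ext fun x => congrArg (fun y => w (j y)) (e.symm_apply_apply x), LinearMap.lTensor_comp_apply]
    exact hs0)
  rw [(e.lTensor Q).injective (h0.trans (map_zero _).symm)]
  exact map_zero _

/-- `1 ⊗ y` vanishes modulo `J` iff `y ∈ J • ⊤`. -/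
theorem one_tmul_eq_zero_iff' {A : Type u} [CommRing A] {P : Type u} [AddCommGroup P] [Module A P] (J : Ideal A) (y : P) :
    ((1 : A ⧸ J) ⊗ₜ[A] y) = 0 ↔ y ∈ J • (⊤ : Submodule A P) := by
  rw [← (TensorProduct.quotTensorEquivQuotSMul P J).map_eq_zero_iff, ← map_one (Ideal.Quotient.mk J),
    TensorProduct.quotTensorEquivQuotSMul_mk_tmul, one_smul, Submodule.Quotient.mk_eq_zero]


open TensorProduct in
/-- Let B be a finitely presented A-algebra, T ⊆ B a multiplicative subset and N a finitely presented
T⁻¹B-module which admits a pure spreadout (FlatCA.HasPureSpreadout). Then (1) every x ∈ N has a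
content ideal, i.e. a smallest ideal I of A with x ∈ IN; and (2) every A-linear map u from N to a
flat A-module M such that u ⊗ A/𝔪 is injective for every maximal ideal 𝔪 of A is universally
injective over A. -/
theorem result {A B : Type u} [CommRing A] [CommRing B] [Algebra A B] [Algebra.FinitePresentation A B]
    (T : Submonoid B) (N : Type u) [AddCommGroup N] [Module (Localization T) N] [Module A N] [IsScalarTower A (Localization T) N]
    [Module.FinitePresentation (Localization T) N] (h : FlatCA.HasPureSpreadout A B T N) :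
    (∀ x : N, ∃ I : Ideal A, x ∈ I • (⊤ : Submodule A N) ∧ ∀ J : Ideal A, x ∈ J • (⊤ : Submodule A N) → I ≤ J) ∧
    ∀ (M : Type u) [AddCommGroup M] [Module A M] [Module.Flat A M] (u : N →ₗ[A] M),
      (∀ (m : Ideal A) [m.IsMaximal], Function.Injective (u.lTensor (A ⧸ m))) → FlatCA.UnivInj A u := by
  intros
  obtain ⟨C, _, _, _, _, _, _, _, _, _, _, N', _, _, _, _, g, hoi, hfp, hbc, hproj, hui⟩ := h
  have hrep : ∀ x : N, ∃ t : T, ∃ n : N', algebraMap B (Localization T) t • x = g n := by
    intro x
    obtain ⟨z, rfl⟩ := hbc.equiv.surjective x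
    induction z using TensorProduct.induction_on with
    | zero => exact ⟨1, 0, by simp⟩
    | tmul c n =>
      obtain ⟨⟨b, t⟩, hb⟩ := IsLocalization.surj T c
      refine ⟨t, algebraMap B C b • n, ?_⟩
      rw [IsBaseChange.equiv_tmul, smul_smul, mul_comm, hb, IsScalarTower.algebraMap_apply B C (Localization T),
        algebraMap_smul, map_smul]
    | add a b ha hb =>
      obtain ⟨t, n, hn⟩ := ha
      obtain ⟨t', n', hn'⟩ := hb
      refine ⟨t * t', algebraMap B C t' • n + algebraMap B C t • n', ?_⟩
      rw [map_add, map_add, map_smul, map_smul, ← hn, ← hn', smul_add, Submonoid.coe_mul, map_mul,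
        ← algebraMap_smul (Localization T) (algebraMap B C t'), ← algebraMap_smul (Localization T) (algebraMap B C t),
        ← IsScalarTower.algebraMap_apply, ← IsScalarTower.algebraMap_apply, smul_smul, smul_smul, mul_comm (algebraMap B (Localization T) t')]
  have hunit : ∀ t : T, IsUnit (algebraMap B (Localization T) t) := IsLocalization.map_units _
  refine ⟨fun x => ?_, fun M _ _ _ u hu => ?_⟩
  · obtain ⟨t, n, hn⟩ := hrep x
    obtain ⟨c, hc⟩ := hunit t
    haveI := hproj
    obtain ⟨s, hs⟩ := Module.projective_def'.1 hproj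
    have hJ : ∀ J : Ideal A, x ∈ J • (⊤ : Submodule A N) ↔ n ∈ J • (⊤ : Submodule A N') := fun J => by
      have e1 : x ∈ J • (⊤ : Submodule A N) ↔ g n ∈ J • (⊤ : Submodule A N) := by
        have hmap : ∀ (a : Localization T) (y : N), y ∈ J • (⊤ : Submodule A N) → a • y ∈ J • (⊤ : Submodule A N) := by
          intro a y hy
          refine Submodule.smul_induction_on hy (fun r hr y _ => ?_) fun y z hy hz => by rw [smul_add]; exact add_mem hy hz
          rw [smul_comm]
          exact Submodule.smul_mem_smul hr trivial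
        refine ⟨fun hx => hn ▸ hmap _ _ hx, fun hg => ?_⟩
        have := hmap (↑c⁻¹) _ hg
        rwa [← hn, ← hc, smul_smul, Units.inv_mul, one_smul] at this
      have e2 : ((1 : A ⧸ J) ⊗ₜ[A] n) = 0 ↔ ((1 : A ⧸ J) ⊗ₜ[A] g n) = 0 := by
        refine ⟨fun h => ?_, fun h => hui (A ⧸ J) (?_ : (g.restrictScalars A).lTensor (A ⧸ J) _ = _)⟩
        · simpa using congrArg ((g.restrictScalars A).lTensor (A ⧸ J)) h
        · rw [map_zero]; simpa using h
      rw [e1, ← one_tmul_eq_zero_iff', ← one_tmul_eq_zero_iff', e2]
    refine ⟨Ideal.span (Set.range (s n)), ?_, fun J hJx => ?_⟩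
    · rw [hJ]
      have h1 : Finsupp.linearCombination A id (s n) ∈ Ideal.span (Set.range (s n)) • (⊤ : Submodule A N') := by
        rw [Finsupp.linearCombination_apply]
        unfold Finsupp.sum
        exact Submodule.sum_mem _ fun i _ => Submodule.smul_mem_smul (Ideal.subset_span ⟨i, rfl⟩) trivial
      rwa [show Finsupp.linearCombination A id (s n) = n from LinearMap.congr_fun hs n] at h1
    · rw [Ideal.span_le]
      rintro _ ⟨i, rfl⟩
      refine Submodule.smul_induction_on ((hJ J).1 hJx) (fun r hr y _ => ?_) fun y z hy hz => ?_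
      · rw [map_smul, Finsupp.smul_apply, smul_eq_mul]
        exact J.mul_mem_right _ hr
      · rw [map_add, Finsupp.add_apply]
        exact J.add_mem hy hz
  · haveI := hproj
    intro Q _ _
    rw [injective_iff_map_eq_zero]
    let L : Localization T → N →ₗ[A] N := fun a => DistribSMul.toLinearMap A N a
    have hz : ∀ z : Q ⊗[A] N, ∃ (c : (Localization T)ˣ) (w : Q ⊗[A] N'),
        z = ((L c) ∘ₗ g.restrictScalars A).lTensor Q w := by
      intro z
      induction z using TensorProduct.induction_on with
      | zero => exact ⟨1, 0, by simp⟩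
      | tmul q x =>
        obtain ⟨t, n, hn⟩ := hrep x
        obtain ⟨c, hc⟩ := hunit t
        refine ⟨c⁻¹, q ⊗ₜ n, ?_⟩
        rw [LinearMap.lTensor_tmul]
        congr 1
        show x = (↑c⁻¹ : Localization T) • g n
        rw [← hn, ← hc, smul_smul, Units.inv_mul, one_smul]
      | add z z' hz hz' =>
        obtain ⟨c, w, rfl⟩ := hz
        obtain ⟨c', w', rfl⟩ := hz'
        have key : ∀ (d : (Localization T)ˣ), ∃ (t : T) (b : B),
            (d : Localization T) * algebraMap B (Localization T) t = algebraMap B (Localization T) b := fun d => by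
          obtain ⟨⟨b, t⟩, h⟩ := IsLocalization.surj T (d : Localization T)
          exact ⟨t, b, h⟩
        obtain ⟨t, b, hb⟩ := key c
        obtain ⟨t', b', hb'⟩ := key c'
        obtain ⟨e, he⟩ := hunit (t * t')
        let M1 : N' →ₗ[A] N' := DistribSMul.toLinearMap A N' (algebraMap B C (b * t'))
        let M2 : N' →ₗ[A] N' := DistribSMul.toLinearMap A N' (algebraMap B C (b' * t))
        refine ⟨e⁻¹, M1.lTensor Q w + M2.lTensor Q w', ?_⟩
        have hcomp : ∀ (d : (Localization T)ˣ) (b₀ : B), (d : Localization T) * e = algebraMap B (Localization T) b₀ →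
            (L d) ∘ₗ g.restrictScalars A = ((L ↑e⁻¹) ∘ₗ g.restrictScalars A) ∘ₗ
              (DistribSMul.toLinearMap A N' (algebraMap B C b₀)) := fun d b₀ hd => LinearMap.ext fun n => by
          show (d : Localization T) • g n = (↑e⁻¹ : Localization T) • g (algebraMap B C b₀ • n)
          rw [map_smul, ← algebraMap_smul (Localization T) (algebraMap B C b₀), ← IsScalarTower.algebraMap_apply, ← hd,
            smul_smul, mul_comm (d : Localization T), ← mul_assoc, Units.inv_mul, one_mul]
        rw [map_add, ← LinearMap.lTensor_comp_apply, ← LinearMap.lTensor_comp_apply, ← hcomp c (b * t') ?_, ← hcomp c' (b' * t) ?_]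
        · rw [he, Submonoid.coe_mul, map_mul, map_mul, ← hb', mul_assoc, mul_comm (algebraMap B (Localization T) (t : B))]
        · rw [he, Submonoid.coe_mul, map_mul, map_mul, ← hb, mul_assoc]
    intro z hz0
    obtain ⟨c, w, rfl⟩ := hz z
    have hinj2 : ∀ (R : Type u) [AddCommGroup R] [Module A R],
        Function.Injective ((L c).lTensor R) := fun R _ _ =>
      Function.LeftInverse.injective (g := (L ↑c⁻¹).lTensor R) fun y => by
        rw [← LinearMap.lTensor_comp_apply, show L ↑c⁻¹ ∘ₗ L c = LinearMap.id from LinearMap.ext fun n => by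
          show (↑c⁻¹ : Localization T) • (c : Localization T) • n = n
          rw [smul_smul, Units.inv_mul, one_smul], LinearMap.lTensor_id, LinearMap.id_apply]
    have := univInj_of_projective (u ∘ₗ L c ∘ₗ g.restrictScalars A) (fun m _ => by
      rw [LinearMap.lTensor_comp, LinearMap.lTensor_comp]
      exact (hu m).comp ((hinj2 _).comp (hui _))) Q
    rw [(injective_iff_map_eq_zero _).1 this w (by rw [LinearMap.lTensor_comp_apply]; exact hz0), map_zero]

end Groth.Agent.S1293
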