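import Groth.Statements.S12931
import Mathlib.Algebra.BigOperators.Pi

set_option autoImplicit false
universe u v w
open HopfRep

namespace Groth.Agent.S12931

/-- Let `R` be a commutative ring, `Γ` a finite set and `T` a commutative `R`-algebra which is
connected: nonzero, with no idempotents other than `0` and `1`. Then `γ ↦ (evaluation at γ : (Γ → R)
→ R → T)` is a bijection from `Γ` onto the `R`-algebra maps `(Γ → R) → T`: every such map sends
exactly one of the indicator functions to `1` and the others to `0`. (Only the bijection of sets is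
stated; when `Γ` is a group, the compatibility with the group structures on both sides is not.) -/
theorem result
    (R : Type u) [CommRing R] (Γ : Type v) [Finite Γ]
    (T : Type w) [CommRing T] [Algebra R T] [Nontrivial T]
    (hT : ∀ e : T, IsIdempotentElem e → e = 0 ∨ e = 1) :
    Function.Bijective (fun γ : Γ => (Algebra.ofId R T).comp (Pi.evalAlgHom R (fun _ : Γ => R) γ)) := by
  classical
  cases nonempty_fintype Γ
  refine ⟨fun a b h => ?_, fun f => ?_⟩
  · by_contra hne
    have := AlgHom.congr_fun h (Pi.single a (1 : R))
    simp [Pi.single_eq_of_ne (Ne.symm hne)] at this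
  · let δ : Γ → (Γ → R) := fun γ => Pi.single γ 1
    have hidem : ∀ γ, f (δ γ) = 0 ∨ f (δ γ) = 1 := fun γ => hT _ (by
      rw [IsIdempotentElem, ← map_mul]; congr 1; funext i; by_cases hi : i = γ <;> simp [δ, hi])
    obtain ⟨γ, hγ⟩ : ∃ γ, f (δ γ) = 1 := by
      by_contra h
      have : f 1 = 0 := by
        rw [show (1 : Γ → R) = ∑ γ, δ γ from (Finset.univ_sum_single (1 : Γ → R)).symm, map_sum]
        exact Finset.sum_eq_zero fun γ _ => (hidem γ).resolve_right fun e => h ⟨γ, e⟩
      simp at this
    refine ⟨γ, AlgHom.ext fun x => ?_⟩
    show algebraMap R T (x γ) = f x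
    have e : x * δ γ = x γ • δ γ := by funext i; by_cases hi : i = γ <;> simp [δ, hi]
    rw [← mul_one (f x), ← hγ, ← map_mul, e, map_smul, hγ, Algebra.smul_def, mul_one]

end Groth.Agent.S12931
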