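import Groth.Statements.S12932
import Mathlib.RingTheory.Invariant.Basic
import Mathlib.RingTheory.Flat.Basic
import Mathlib.LinearAlgebra.LinearIndependent.Basic
import Mathlib.LinearAlgebra.TensorProduct.Pi
import Mathlib.GroupTheory.Coset.Basic
import Mathlib.RingTheory.Ideal.GoingUp

set_option autoImplicit false
universe u v
open scoped BigOperators
open InvTh

namespace Groth.Agent.S12932

/-- Let `B` be a commutative ring with an action of a finite group `Γ` by ring automorphisms, and call a
prime ideal `P` of `B` tame when the order of its inertia group `{γ | γ • x - x ∈ P for all x}` is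
not divisible by the characteristic of `B/P` (its ramification group is trivial). Then every prime
of `B` is tame if and only if the trace `b ↦ Σ_γ γ • b`, which takes values in the invariant ring
`B^Γ` and is `B^Γ`-linear, is onto `B^Γ` — equivalently, some element of `B` has trace `1`. -/
theorem result
    (B : Type u) [CommRing B] (Γ : Type v) [Group Γ] [Fintype Γ] [MulSemiringAction Γ B] :
    (∃ b : B, ∑ γ : Γ, γ • b = 1) ↔
      ∀ P : Ideal B, P.IsPrime → ((Nat.card (P.inertia Γ) : ℕ) : B ⧸ P) ≠ 0 := by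
  classical
  have hfix : ∀ (P : Ideal B) (a : B) (t : Γ), t ∈ P.inertia Γ → (Ideal.Quotient.mk P) (t • a) = (Ideal.Quotient.mk P) a := by
    intro P a t ht
    exact Ideal.Quotient.eq.2 (ht a)
  have hsum : ∀ (P : Ideal B) (b : B), (Ideal.Quotient.mk P) (∑ γ : Γ, γ • b) =
      ((Nat.card (P.inertia Γ) : ℕ) : B ⧸ P) * ∑ q : Γ ⧸ P.inertia Γ, (Ideal.Quotient.mk P) (q.out⁻¹ • b) := by
    intro P b
    haveI := Fintype.ofFinite (P.inertia Γ)
    rw [map_sum, ← Equiv.sum_comp (Equiv.inv Γ) (fun γ => (Ideal.Quotient.mk P) (γ • b)),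
      ← Fintype.sum_fiberwise (fun γ : Γ => (γ : Γ ⧸ P.inertia Γ)), Finset.mul_sum]
    refine Finset.sum_congr rfl fun q _ => ?_
    have hconst : ∀ x : {γ : Γ // (γ : Γ ⧸ P.inertia Γ) = q},
        (Ideal.Quotient.mk P) ((Equiv.inv Γ x.1) • b) = (Ideal.Quotient.mk P) (q.out⁻¹ • b) := by
      intro x
      have hx : q.out⁻¹ * x.1 ∈ P.inertia Γ := QuotientGroup.eq.1 (by rw [QuotientGroup.out_eq', x.2])
      have h := hfix P (x.1⁻¹ • b) _ hx
      rw [← mul_smul, mul_assoc, mul_inv_cancel, mul_one] at h
      exact h.symm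
    rw [Finset.sum_congr rfl fun x _ => hconst x, Finset.sum_const, Finset.card_univ, nsmul_eq_mul]
    congr 2
    have e : {γ : Γ // (γ : Γ ⧸ P.inertia Γ) = q} ≃ P.inertia Γ :=
      { toFun := fun x => ⟨q.out⁻¹ * x.1, QuotientGroup.eq.1 (by rw [QuotientGroup.out_eq', x.2])⟩
        invFun := fun t => ⟨q.out * t.1, by
          refine (QuotientGroup.eq.2 ?_).trans (QuotientGroup.out_eq' q)
          simp⟩
        left_inv := fun x => Subtype.ext (by simp)
        right_inv := fun t => Subtype.ext (by simp) }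
    rw [Fintype.card_congr e, Nat.card_eq_fintype_card]
  constructor
  · rintro ⟨b, hb⟩ P hP h0
    have := hsum P b
    rw [hb, map_one, h0, zero_mul] at this
    exact one_ne_zero this
  · intro h
    let A := FixedPoints.subring B Γ
    haveI : SMulCommClass Γ A B := inferInstanceAs (SMulCommClass Γ (FixedPoints.subring B Γ) B)
    haveI : Algebra.IsInvariant A B Γ := ⟨fun c hc => ⟨⟨c, hc⟩, rfl⟩⟩
    haveI : Algebra.IsIntegral A B := Algebra.IsInvariant.isIntegral A B Γ
    have htr : ∀ c : B, ∑ γ : Γ, γ • c ∈ A := fun c g => by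
      rw [Finset.smul_sum]
      exact Fintype.sum_equiv (Equiv.mulLeft g) _ _ (fun x => (mul_smul g x c).symm)
    let I : Ideal A :=
      { carrier := {a | ∃ c : B, ∑ γ : Γ, γ • c = (a : B)}
        add_mem' := by
          rintro a a' ⟨c, hc⟩ ⟨c', hc'⟩
          exact ⟨c + c', by simp [Finset.sum_add_distrib, hc, hc']⟩
        zero_mem' := ⟨0, by simp⟩
        smul_mem' := by
          rintro a a' ⟨c, hc⟩
          refine ⟨(a : B) * c, ?_⟩
          simp only [smul_eq_mul, Subring.coe_mul, ← hc, Finset.mul_sum, smul_mul']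
          exact Finset.sum_congr rfl fun γ _ => by rw [show γ • (a : B) = a from a.2 γ] }
    by_contra hno
    have hI : I ≠ ⊤ := fun he => by
      obtain ⟨c, hc⟩ := (he.symm ▸ Submodule.mem_top : (1 : A) ∈ I)
      exact hno ⟨c, hc⟩
    obtain ⟨m, hm, hIm⟩ := I.exists_le_maximal hI
    obtain ⟨P, hP, hPm⟩ := Ideal.exists_ideal_over_maximal_of_isIntegral (S := B) m
      (fun x hx => by
        rw [RingHom.mem_ker] at hx
        rw [show x = 0 from Subtype.ext hx]
        exact zero_mem _)
    haveI := hP.isPrime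
    refine h P hP.isPrime ?_
    let χ : (Γ ⧸ P.inertia Γ) → (B →* B ⧸ P) := fun q =>
      ((Ideal.Quotient.mk P).comp (MulSemiringAction.toRingHom Γ B q.out⁻¹)).toMonoidHom
    have hinj : Function.Injective χ := by
      intro q q' hq
      rw [← QuotientGroup.out_eq' q, ← QuotientGroup.out_eq' q']
      refine QuotientGroup.eq.2 fun x => ?_
      have := Ideal.Quotient.eq.1 (DFunLike.congr_fun hq (q'.out • x))
      simp only [MulSemiringAction.toRingHom_apply, smul_smul, inv_mul_cancel, one_smul] at this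
      exact this
    have hli := (linearIndependent_monoidHom B (B ⧸ P)).comp χ hinj
    rw [Fintype.linearIndependent_iff] at hli
    refine hli (fun _ => ((Nat.card (P.inertia Γ) : ℕ) : B ⧸ P)) ?_ (QuotientGroup.mk 1)
    funext c
    rw [Finset.sum_apply]
    have hc : (Ideal.Quotient.mk P) (∑ γ : Γ, γ • c) = 0 := by
      rw [Ideal.Quotient.eq_zero_iff_mem]
      have : (⟨_, htr c⟩ : A) ∈ P.comap (algebraMap A B) := by rw [hPm]; exact hIm ⟨c, rfl⟩
      exact this
    rw [hsum, Finset.mul_sum] at hc
    exact hc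

end Groth.Agent.S12932
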