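import Groth.Statements.S12933
import Mathlib.RingTheory.Invariant.Basic
import Mathlib.RingTheory.Flat.Basic
import Mathlib.LinearAlgebra.LinearIndependent.Basic
import Mathlib.LinearAlgebra.TensorProduct.Pi
import Mathlib.GroupTheory.Coset.Basic
import Mathlib.RingTheory.Ideal.GoingUp

set_option autoImplicit false
universe u v w w'
open TensorProduct
open InvTh

namespace Groth.Agent.S12933

/-- Let `R` be a commutative ring, `B` a commutative `R`-algebra with an action of a finite group `Γ` by
`R`-algebra automorphisms, and `R'` a flat commutative `R`-algebra; let `Γ` act on `R' ⊗_R B`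
through the factor `B`. Then an element of `R' ⊗_R B` is fixed by every element of `Γ` if and only
if it lies in the `R'`-submodule spanned by the tensors `1 ⊗ b` with `b ∈ B^Γ`: taking invariants
commutes with flat base change (the map `R' ⊗_R B^Γ → R' ⊗_R B` being moreover injective by
flatness). -/
theorem result
    (R : Type u) [CommRing R] (B : Type v) [CommRing B] [Algebra R B]
    (Γ : Type w) [Group Γ] [Finite Γ] [MulSemiringAction Γ B] [SMulCommClass Γ R B]
    (R' : Type w') [CommRing R'] [Algebra R R'] [Module.Flat R R']
    (x : R' ⊗[R] B) :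
    (∀ γ : Γ, Algebra.TensorProduct.map (AlgHom.id R R') (MulSemiringAction.toAlgHom R B γ) x = x) ↔
      x ∈ Submodule.span R' ((fun b : B => (1 : R') ⊗ₜ[R] b) '' {b : B | ∀ γ : Γ, γ • b = b}) := by
  classical
  haveI := Fintype.ofFinite Γ
  let d : B →ₗ[R] (Γ → B) := LinearMap.pi fun γ => (MulSemiringAction.toAlgHom R B γ).toLinearMap - LinearMap.id
  have hd : ∀ (y : R' ⊗[R] B) (γ : Γ), TensorProduct.piRight R R R' (fun _ : Γ => B) (d.lTensor R' y) γ =
      Algebra.TensorProduct.map (AlgHom.id R R') (MulSemiringAction.toAlgHom R B γ) y - y := by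
    intro y γ
    induction y with
    | zero => simp
    | add p q hp hq => simp only [map_add, Pi.add_apply, hp, hq]; abel
    | tmul a b => simp [d, TensorProduct.tmul_sub]
  constructor
  · intro hx
    have h0 : d.lTensor R' x = 0 := (TensorProduct.piRight R R R' (fun _ : Γ => B)).injective (by
      rw [map_zero]; funext γ; rw [hd, hx, sub_self]; rfl)
    obtain ⟨y, hy⟩ := (Module.Flat.lTensor_exact R' (LinearMap.exact_subtype_ker_map d) x).1 h0
    rw [← hy]
    clear hy h0 hx
    induction y with
    | zero => simp
    | add p q hp hq => rw [map_add]; exact add_mem hp hq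
    | tmul a b =>
      have : a ⊗ₜ[R] (b : B) = a • ((1 : R') ⊗ₜ[R] (b : B)) := by
        rw [TensorProduct.smul_tmul', smul_eq_mul, mul_one]
      rw [LinearMap.lTensor_tmul, Submodule.subtype_apply, this]
      refine Submodule.smul_mem _ _ (Submodule.subset_span ⟨_, fun γ => ?_, rfl⟩)
      have hb := congrFun (LinearMap.mem_ker.1 b.2) γ
      simp only [d, LinearMap.pi_apply, LinearMap.sub_apply, LinearMap.id_apply, Pi.zero_apply, sub_eq_zero] at hb
      exact hb
  · intro hx γ
    induction hx using Submodule.span_induction with
    | mem y hy =>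
      obtain ⟨b, hb, rfl⟩ := hy
      simp [show γ • b = b from hb γ]
    | zero => simp
    | add p q _ _ hp hq => rw [map_add, hp, hq]
    | smul c p _ hp =>
      rw [Algebra.smul_def, map_mul, hp]
      congr 1
      simp [Algebra.TensorProduct.algebraMap_apply]

end Groth.Agent.S12933
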