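import Groth.Statements.S12934
import Mathlib

set_option autoImplicit false
universe u v
open InvTh

namespace Groth.Agent.S12934

/-- Let `B` be a local commutative ring with maximal ideal `m` and residue field `k`, and `Γ` a finite
group acting faithfully on `B` by ring automorphisms, such that every element of `Γ` acts trivially
modulo `m` (the whole group is inertia) and maps each principal ideal of `B` into itself (every
ideal is stable). Let `S ⊆ Γ` be the set of `γ` with `γ b ∈ b + b m` for all `b`. Then: if `k` has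
characteristic `0`, `S = {1}`; if `k` has characteristic `p > 0`, `S` is (the underlying set of) a
Sylow `p`-subgroup; every commutator of `Γ` lies in `S`, so `Γ/S` is abelian; and whenever the class
of `γ` in `Γ/S` has order `n` (`γ^n ∈ S`, no smaller positive power in `S`), `k` contains a
primitive `n`-th root of unity. (The published statement also bounds the number of generators of
`Γ/S` by the number of generators of the monoid of principal ideals; that clause is not included.) -/
theorem result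
    (B : Type u) [CommRing B] [IsLocalRing B]
    (Γ : Type v) [Group Γ] [Finite Γ] [MulSemiringAction Γ B] [FaithfulSMul Γ B]
    (hin : ∀ (γ : Γ) (b : B), γ • b - b ∈ IsLocalRing.maximalIdeal B)
    (hst : ∀ (γ : Γ) (b : B), ∃ u : B, γ • b = b * u)
    (S : Set Γ)
    (hS : ∀ γ : Γ, γ ∈ S ↔ ∀ b : B, ∃ x ∈ IsLocalRing.maximalIdeal B, γ • b = b + b * x) :
    (ringChar (IsLocalRing.ResidueField B) = 0 → S = {1}) ∧
      (∀ (p : ℕ) [Fact p.Prime], ringChar (IsLocalRing.ResidueField B) = p →
        ∃ Q : Sylow p Γ, (Q : Set Γ) = S) ∧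
      (∀ γ δ : Γ, γ * δ * γ⁻¹ * δ⁻¹ ∈ S) ∧
      (∀ (γ : Γ) (n : ℕ), 0 < n → γ ^ n ∈ S → (∀ i : ℕ, 0 < i → i < n → γ ^ i ∉ S) →
        ∃ ζ : IsLocalRing.ResidueField B, IsPrimitiveRoot ζ n) := by
  classical
  let π := IsLocalRing.residue B
  choose u hu using hst
  have huniq : ∀ (b : B), b ≠ 0 → ∀ v w : B, b * v = b * w → π v = π w := by
    intro b hb v w hvw
    by_contra hne
    have h1 : IsUnit (v - w) := by
      rw [← IsLocalRing.residue_ne_zero_iff_isUnit, map_sub]
      exact sub_ne_zero.2 hne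
    exact hb (h1.mul_left_eq_zero.1 (by rw [mul_sub, hvw, sub_self]))
  have hres : ∀ (γ : Γ) (b : B), π (γ • b) = π b := fun γ b => by
    rw [← sub_eq_zero, ← map_sub]
    exact (IsLocalRing.residue_eq_zero_iff _).2 (hin γ b)
  have hne : ∀ (γ : Γ) (b : B), b ≠ 0 → π (u γ b) ≠ 0 := by
    intro γ b hb h0
    have h1 : b * (u γ b * γ • u γ⁻¹ b) = b * 1 := by
      rw [mul_one, ← mul_assoc, ← hu γ b, ← smul_mul', ← hu, smul_smul, mul_inv_cancel, one_smul]
    have := huniq b hb _ _ h1
    rw [map_mul, h0, zero_mul, map_one] at this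
    exact zero_ne_one this
  -- the characters
  have hmul : ∀ (γ δ : Γ) (b : B), b ≠ 0 → π (u (γ * δ) b) = π (u γ b) * π (u δ b) := by
    intro γ δ b hb
    rw [← hres γ (u δ b), ← map_mul]
    refine huniq b hb _ _ ?_
    rw [← hu, mul_smul, hu δ b, smul_mul', hu γ b, mul_assoc]
  let χ : {b : B // b ≠ 0} → Γ →* (IsLocalRing.ResidueField B)ˣ := fun b =>
    MonoidHom.mk' (fun γ => Units.mk0 (π (u γ b.1)) (hne γ b.1 b.2)) fun γ δ => Units.ext (hmul γ δ b.1 b.2)
  have hSχ : ∀ γ, γ ∈ S ↔ ∀ b, χ b γ = 1 := by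
    intro γ
    rw [hS]
    constructor
    · intro h b
      obtain ⟨x, hx, hγ⟩ := h b.1
      refine Units.ext ?_
      show π (u γ b.1) = 1
      rw [huniq b.1 b.2 (u γ b.1) (1 + x) (by rw [← hu, hγ]; ring), map_add, map_one,
        (IsLocalRing.residue_eq_zero_iff _).2 hx, add_zero]
    · intro h b
      rcases eq_or_ne b 0 with rfl | hb
      · exact ⟨0, zero_mem _, by simp⟩
      · refine ⟨u γ b - 1, (IsLocalRing.residue_eq_zero_iff _).1 ?_, by rw [hu γ b]; ring⟩
        have : π (u γ b) = 1 := congrArg Units.val (h ⟨b, hb⟩)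
        rw [map_sub, this, map_one, sub_self]
  let N : Subgroup Γ :=
    { carrier := S
      mul_mem' := fun {a b} ha hb => (hSχ _).2 fun c => by rw [map_mul, (hSχ a).1 ha c, (hSχ b).1 hb c, one_mul]
      one_mem' := (hSχ _).2 fun c => map_one _
      inv_mem' := fun {a} ha => (hSχ _).2 fun c => by rw [map_inv, (hSχ a).1 ha c, inv_one] }
  -- prime orders in `S`
  have hprime : ∀ γ ∈ S, (orderOf γ).Prime → ((orderOf γ : ℕ) : IsLocalRing.ResidueField B) = 0 := by
    intro γ hγ hl
    by_contra hl0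
    have hne1 : γ ≠ 1 := fun h => hl.ne_one (by simp [h])
    refine hne1 (eq_of_smul_eq_smul fun b : B => ?_)
    rw [one_smul]
    by_contra hb
    set c := γ • b - b
    have hc : c ≠ 0 := sub_ne_zero.2 hb
    have hsum : ∑ i ∈ Finset.range (orderOf γ), γ ^ i • c = 0 := by
      simp only [c, smul_sub, smul_smul, ← pow_succ]
      rw [Finset.sum_range_sub (fun i => γ ^ i • b), pow_orderOf_eq_one, pow_zero, sub_self]
    have hfac : ∑ i ∈ Finset.range (orderOf γ), γ ^ i • c = c * ∑ i ∈ Finset.range (orderOf γ), u (γ ^ i) c := by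
      rw [Finset.mul_sum]
      exact Finset.sum_congr rfl fun i _ => hu _ _
    have hunit : IsUnit (∑ i ∈ Finset.range (orderOf γ), u (γ ^ i) c) := by
      rw [← IsLocalRing.residue_ne_zero_iff_isUnit, map_sum]
      have h1 : ∀ i, π (u (γ ^ i) c) = 1 := fun i => congrArg Units.val ((hSχ _).1 (pow_mem (show γ ∈ N from hγ) i) ⟨c, hc⟩)
      show ∑ i ∈ Finset.range (orderOf γ), π (u (γ ^ i) c) ≠ 0
      simpa [h1] using hl0
    exact hc (hunit.mul_left_eq_zero.1 (hfac.symm.trans hsum))
  refine ⟨fun h0 => ?_, fun p hp hchar => ?_, fun γ δ => (hSχ _).2 fun c => ?_, fun γ n hn hγn hmin => ?_⟩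
  · haveI : CharP (IsLocalRing.ResidueField B) 0 := h0 ▸ ringChar.charP _
    haveI : CharZero (IsLocalRing.ResidueField B) := CharP.charP_to_charZero _
    refine Set.eq_singleton_iff_unique_mem.2 ⟨N.one_mem, fun γ hγ => ?_⟩
    by_contra hne1
    obtain ⟨l, hl, hdvd⟩ := Nat.exists_prime_and_dvd (mt orderOf_eq_one_iff.1 hne1)
    have hord : orderOf (γ ^ (orderOf γ / l)) = l := orderOf_pow_orderOf_div (orderOf_pos γ).ne' hdvd
    have := hprime _ (pow_mem (show γ ∈ N from hγ) _) (by rwa [hord])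
    rw [hord, Nat.cast_eq_zero] at this
    exact hl.ne_zero this
  · haveI : CharP (IsLocalRing.ResidueField B) p := hchar ▸ ringChar.charP _
    have hpg : IsPGroup p N := by
      refine IsPGroup.iff_orderOf.2 fun g => ?_
      obtain ⟨g, hg⟩ := g
      rw [Subgroup.orderOf_mk]
      refine ⟨(orderOf g).primeFactorsList.length, Nat.eq_prime_pow_of_unique_prime_dvd (orderOf_pos g).ne' fun {l} hl hdvd => ?_⟩
      have hord : orderOf (g ^ (orderOf g / l)) = l := orderOf_pow_orderOf_div (orderOf_pos g).ne' hdvd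
      have := hprime _ (pow_mem (show g ∈ N from hg) _) (by rwa [hord])
      rw [hord, CharP.cast_eq_zero_iff _ p] at this
      exact ((Nat.prime_dvd_prime_iff_eq hp.out hl).1 this).symm
    obtain ⟨Q, hQ⟩ := hpg.exists_le_sylow
    refine ⟨Q, Set.Subset.antisymm (fun g hg => (hSχ g).2 fun c => ?_) (fun g hg => hQ hg)⟩
    obtain ⟨m, hm⟩ := Q.2 ⟨g, hg⟩
    have hm' : g ^ p ^ m = 1 := congrArg Subtype.val hm
    refine Units.ext ?_
    have h1 : ((χ c g : IsLocalRing.ResidueField B)) ^ p ^ m = 1 := by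
      rw [← Units.val_pow_eq_pow_val, ← map_pow, hm', map_one, Units.val_one]
    have hinj := iterateFrobenius_inj (IsLocalRing.ResidueField B) p m
    refine hinj ?_
    simpa [iterateFrobenius_def] using h1
  · simp only [map_mul, map_inv]
    rw [mul_comm (χ c γ) (χ c δ), mul_inv_cancel_right, mul_inv_cancel]
  · let K := Subgroup.closure (Set.range fun c => χ c γ)
    have hK : ∀ x ∈ K, x ∈ rootsOfUnity n (IsLocalRing.ResidueField B) := fun x hx =>
      (Subgroup.closure_le _).2 (by
        rintro _ ⟨c, rfl⟩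
        exact (mem_rootsOfUnity _ _).2 (by rw [← map_pow]; exact (hSχ _).1 hγn c)) hx
    haveI : NeZero n := ⟨hn.ne'⟩
    obtain ⟨g, hg⟩ := IsCyclic.exists_generator (α := rootsOfUnity n (IsLocalRing.ResidueField B))
    have hgn : orderOf g = n := by
      have hle : orderOf g ∣ n := orderOf_dvd_of_pow_eq_one (Subtype.ext ((mem_rootsOfUnity _ _).1 g.2))
      by_contra hne'
      refine hmin (orderOf g) (orderOf_pos g) (lt_of_le_of_ne (Nat.le_of_dvd hn hle) hne') ((hSχ _).2 fun c => ?_)
      obtain ⟨j, hj⟩ := hg ⟨χ c γ, hK _ (Subgroup.subset_closure ⟨c, rfl⟩)⟩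
      rw [map_pow, show χ c γ = ((g ^ j : rootsOfUnity n (IsLocalRing.ResidueField B)) : (IsLocalRing.ResidueField B)ˣ)
        from congrArg Subtype.val hj.symm]
      rw [← SubgroupClass.coe_pow, ← zpow_natCast, ← zpow_mul, mul_comm, zpow_mul, zpow_natCast,
        pow_orderOf_eq_one, one_zpow, OneMemClass.coe_one]
    refine ⟨((g : (IsLocalRing.ResidueField B)ˣ) : IsLocalRing.ResidueField B), ?_⟩
    rw [IsPrimitiveRoot.coe_units_iff, IsPrimitiveRoot.coe_submonoidClass_iff]
    exact IsPrimitiveRoot.iff_orderOf.2 hgn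

end Groth.Agent.S12934
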