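import Groth.Statements.S12935
import Mathlib.RingTheory.Invariant.Basic
import Mathlib.RingTheory.Flat.Basic
import Mathlib.LinearAlgebra.LinearIndependent.Basic
import Mathlib.LinearAlgebra.TensorProduct.Pi
import Mathlib.GroupTheory.Coset.Basic
import Mathlib.RingTheory.Ideal.GoingUp

set_option autoImplicit false
universe u v
open InvTh

open scoped Pointwise

namespace Groth.Agent.S12935

/-- Let `B` be a commutative ring with an action of a finite group `Γ` by ring automorphisms, `Ω` a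
normal subgroup of `Γ`, `B^Ω` the subring of `Ω`-invariants (stable under `Γ`, with the induced
action of `Γ/Ω`), and `P` a prime ideal of `B`. Then (decomposition groups) an element `γ` maps `P ∩
B^Ω` onto itself if and only if `γω` maps `P` onto itself for some `ω ∈ Ω`; and (inertia groups) `γ`
fixes `B^Ω` modulo `P ∩ B^Ω` if and only if `γω` fixes `B` modulo `P` for some `ω ∈ Ω`. In other
words the decomposition and inertia groups of `P ∩ B^Ω` under `Γ/Ω` are the images of those of `P`.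
(The published statement also asserts the same for the ramification groups, the Sylow subgroups of
the inertia groups at the residue characteristic; that clause is not included here.) -/
theorem result
    (B : Type u) [CommRing B] (Γ : Type v) [Group Γ] [Finite Γ] [MulSemiringAction Γ B]
    (Ω : Subgroup Γ) [Ω.Normal] (P : Ideal B) [P.IsPrime] (γ : Γ) :
    ((∀ x : B, (∀ ω ∈ Ω, ω • x = x) → (x ∈ P ↔ γ • x ∈ P)) ↔
        ∃ ω ∈ Ω, ∀ x : B, x ∈ P ↔ (γ * ω) • x ∈ P) ∧
      ((∀ x : B, (∀ ω ∈ Ω, ω • x = x) → γ • x - x ∈ P) ↔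
        ∃ ω ∈ Ω, ∀ x : B, (γ * ω) • x - x ∈ P) := by
  classical
  let A := FixedPoints.subring B Ω
  haveI : SMulCommClass Ω A B := inferInstanceAs (SMulCommClass Ω (FixedPoints.subring B Ω) B)
  haveI : Algebra.IsInvariant A B Ω := ⟨fun c hc => ⟨⟨c, hc⟩, rfl⟩⟩
  have hmem : ∀ x : B, (∀ ω ∈ Ω, ω • x = x) → x ∈ A := fun x hx w => hx w.1 w.2
  have hdec : (∀ x : B, (∀ ω ∈ Ω, ω • x = x) → (x ∈ P ↔ γ • x ∈ P)) →
      ∃ ω ∈ Ω, ∀ x : B, x ∈ P ↔ (γ * ω) • x ∈ P := by
    intro h
    obtain ⟨w, hw⟩ := Algebra.IsInvariant.exists_smul_of_under_eq A B Ω P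
      (P.comap (MulSemiringAction.toRingHom Γ B γ)) (Ideal.ext fun a => h a.1 fun ω hω => a.2 ⟨ω, hω⟩)
    refine ⟨w.1, w.2, fun x => ?_⟩
    have h2 : w • x ∈ w • P ↔ x ∈ P := Ideal.smul_mem_pointwise_smul_iff
    rw [mul_smul]
    exact (h2.symm.trans (SetLike.ext_iff.mp hw (w • x)).symm).trans Iff.rfl
  refine ⟨⟨hdec, ?_⟩, ⟨fun h => ?_, ?_⟩⟩
  · rintro ⟨ω, hω, h⟩ x hx
    have := h x
    rwa [mul_smul, hx ω hω] at this
  · obtain ⟨ω, hω, hst⟩ := hdec fun x hx => by
      constructor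
      · intro hxP; simpa using add_mem (h x hx) hxP
      · intro hxP; simpa using sub_mem hxP (h x hx)
    let e : (B ⧸ P) ≃ₐ[A ⧸ P.under A] (B ⧸ P) :=
      AlgEquiv.ofRingEquiv (f := Ideal.quotientEquiv P P (MulSemiringAction.toRingEquiv Γ B (γ * ω)) (by
        ext x
        constructor
        · intro hx
          exact (Ideal.mem_map_of_equiv _ x).2 ⟨(γ * ω)⁻¹ • x, by rw [hst ((γ * ω)⁻¹ • x), smul_inv_smul]; exact hx,
            smul_inv_smul _ x⟩
        · intro hx
          obtain ⟨y, hy, rfl⟩ := (Ideal.mem_map_of_equiv _ x).1 hx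
          exact (hst y).1 hy)) (fun a => by
          obtain ⟨a, rfl⟩ := Ideal.Quotient.mk_surjective a
          show Ideal.Quotient.mk P ((γ * ω) • (a : B)) = Ideal.Quotient.mk P (a : B)
          rw [mul_smul, show ω • (a : B) = a from a.2 ⟨ω, hω⟩]
          exact Ideal.Quotient.eq.2 (h a.1 fun w hw => a.2 ⟨w, hw⟩))
    obtain ⟨⟨w, hwP⟩, hw⟩ := Ideal.Quotient.stabilizerHom_surjective Ω (P.under A) P e
    refine ⟨ω * (w : Γ)⁻¹, Ω.mul_mem hω (Ω.inv_mem w.2), fun x => ?_⟩
    have hx := AlgEquiv.congr_fun hw (Ideal.Quotient.mk P ((w : Γ)⁻¹ • x))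
    have h1 : Ideal.Quotient.mk P ((w : Γ) • ((w : Γ)⁻¹ • x)) =
        Ideal.Quotient.mk P ((γ * ω) • ((w : Γ)⁻¹ • x)) := hx
    rw [smul_inv_smul, ← mul_smul, mul_assoc] at h1
    exact Ideal.Quotient.eq.1 h1.symm
  · rintro ⟨ω, hω, h⟩ x hx
    have := h x
    rwa [mul_smul, hx ω hω] at this

end Groth.Agent.S12935
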