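import Groth.Statements.S12936
import Mathlib.RingTheory.Invariant.Basic
import Mathlib.RingTheory.Flat.Basic
import Mathlib.LinearAlgebra.LinearIndependent.Basic
import Mathlib.LinearAlgebra.TensorProduct.Pi
import Mathlib.GroupTheory.Coset.Basic
import Mathlib.RingTheory.Ideal.GoingUp

set_option autoImplicit false
universe u v
open InvTh

namespace Groth.Agent.S12936

/-- Let `B` be a commutative ring with an action of a finite group `Γ` by ring automorphisms and `P` a
maximal ideal of `B`, with decomposition group `D_P = {γ | γP = P}` and decomposition ring `D =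
B^{D_P}`. Then `D = B^Γ + (P ∩ D)`: every element of `B` fixed by `D_P` is congruent modulo `P` to a
`Γ`-invariant element. Hence the residue field of `D` at `P ∩ D` is that of `B^Γ` at `P ∩ B^Γ`; for
an arbitrary prime `P` the same equality of residue fields follows by localising at `P ∩ B^Γ`. (The
published statement prints this residue field as `k(P)`; the proof establishes the equality with the
residue field of `B^Γ` stated here.) -/
theorem result
    (B : Type u) [CommRing B] (Γ : Type v) [Group Γ] [Finite Γ] [MulSemiringAction Γ B]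
    (P : Ideal B) [P.IsMaximal] (x : B)
    (hx : ∀ γ : Γ, (∀ y : B, y ∈ P ↔ γ • y ∈ P) → γ • x = x) :
    ∃ c : B, (∀ γ : Γ, γ • c = c) ∧ x - c ∈ P := by
  classical
  haveI := Fintype.ofFinite Γ
  let D : Finset Γ := Finset.univ.filter fun γ => ∀ y : B, y ∈ P ↔ γ • y ∈ P
  let Q : Γ → Ideal B := fun γ => P.comap (MulSemiringAction.toRingHom Γ B γ)
  have hQ : ∀ γ y, y ∈ Q γ ↔ γ • y ∈ P := fun γ y => Iff.rfl
  have hDQ : ∀ γ, γ ∈ D ↔ Q γ = P := fun γ => by
    simp only [D, Finset.mem_filter, Finset.mem_univ, true_and]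
    exact ⟨fun h => Ideal.ext fun y => (h y).symm, fun h y => by rw [← hQ, h]⟩
  have hmax : ∀ γ, (Q γ).IsMaximal := fun γ =>
    Ideal.comap_isMaximal_of_surjective _ (fun b => ⟨γ⁻¹ • b, by simp⟩)
  have hex : ∀ γ, γ ∉ D → ∃ a, a ∈ Q γ ∧ a - 1 ∈ P := by
    intro γ hγ
    obtain ⟨a, ha, b, hb, hab⟩ := Submodule.mem_sup.1
      (((hmax γ).coprime_of_ne ‹P.IsMaximal› (fun h => hγ ((hDQ γ).2 h))).symm ▸ Submodule.mem_top : (1 : B) ∈ Q γ ⊔ P)
    exact ⟨a, ha, by rw [← hab]; simpa using neg_mem hb⟩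
  choose! a haQ haP using hex
  let e0 := ∏ γ ∈ Dᶜ, a γ
  have he0P : Ideal.Quotient.mk P e0 = 1 := by
    rw [map_prod]
    refine Finset.prod_eq_one fun γ hγ => ?_
    rw [← map_one (Ideal.Quotient.mk P)]
    exact Ideal.Quotient.eq.2 (haP γ (Finset.mem_compl.1 hγ))
  have he0Q : ∀ γ ∉ D, γ • e0 ∈ P := fun γ hγ =>
    (hQ γ e0).1 (by
      have hmem : γ ∈ Dᶜ := Finset.mem_compl.2 hγ
      simp only [e0, ← Finset.prod_erase_mul _ _ hmem]
      exact Ideal.mul_mem_left _ _ (haQ γ hγ))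
  let y := x * e0
  have hDsmul : ∀ δ ∈ D, ∀ z : B, (z ∈ P ↔ δ • z ∈ P) := fun δ hδ => (Finset.mem_filter.1 hδ).2
  have hD1 : ∀ δ ∈ D, Ideal.Quotient.mk P (δ • e0) = 1 := fun δ hδ => by
    rw [← map_one (Ideal.Quotient.mk P)]
    refine Ideal.Quotient.eq.2 ?_
    have : e0 - 1 ∈ P := Ideal.Quotient.eq.1 (he0P.trans (map_one _).symm)
    simpa [smul_sub] using (hDsmul δ hδ _).1 this
  -- make it invariant: a product over D, then a sum over cosets
  let e := ∏ δ ∈ D, δ • e0
  have heP : Ideal.Quotient.mk P e = 1 := by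
    rw [map_prod]; exact Finset.prod_eq_one hD1
  let K : Subgroup Γ :=
    { carrier := {γ | ∀ y : B, y ∈ P ↔ γ • y ∈ P}
      mul_mem' := fun {p q} hp hq z => by rw [hq z, hp (q • z), mul_smul]
      one_mem' := fun z => by rw [one_smul]
      inv_mem' := fun {p} hp z => by rw [hp (p⁻¹ • z), smul_inv_smul] }
  have hKD : ∀ γ, γ ∈ K ↔ γ ∈ D := fun γ =>
    ⟨fun h => Finset.mem_filter.2 ⟨Finset.mem_univ _, h⟩, fun h => (Finset.mem_filter.1 h).2⟩
  have hefix : ∀ δ ∈ K, δ • e = e := fun δ hδ => by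
    simp only [e, Finset.smul_prod', smul_smul]
    exact Finset.prod_equiv (Equiv.mulLeft δ) (fun i => ⟨fun hi => (hKD _).1 (K.mul_mem hδ ((hKD i).2 hi)),
      fun hi => (hKD _).1 (by simpa using K.mul_mem (K.inv_mem hδ) ((hKD _).2 hi))⟩) fun i _ => rfl
  have hxefix : ∀ δ ∈ K, δ • (x * e) = x * e := fun δ hδ => by rw [smul_mul', hx δ hδ, hefix δ hδ]
  haveI := Fintype.ofFinite (Γ ⧸ K)
  let g : Γ ⧸ K → B := fun q => q.out • (x * e)
  have hg : ∀ γ : Γ, g (γ : Γ ⧸ K) = γ • (x * e) := fun γ => by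
    obtain ⟨⟨δ, hδ⟩, h⟩ := QuotientGroup.mk_out_eq_mul K γ
    show (γ : Γ ⧸ K).out • (x * e) = _
    rw [h, mul_smul, hxefix δ hδ]
  refine ⟨∑ q, g q, fun γ => ?_, ?_⟩
  · rw [Finset.smul_sum]
    refine Fintype.sum_equiv (MulAction.toPerm γ) _ _ fun q => ?_
    obtain ⟨r, rfl⟩ := QuotientGroup.mk_surjective q
    rw [hg]
    show _ = g ((γ * r : Γ) : Γ ⧸ K)
    rw [hg, mul_smul]
  · refine Ideal.Quotient.eq.1 ?_
    rw [map_sum, Finset.sum_eq_single ((1 : Γ) : Γ ⧸ K)]
    · rw [hg, one_smul, map_mul, heP, mul_one]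
    · intro q _ hq
      obtain ⟨r, rfl⟩ := QuotientGroup.mk_surjective q
      rw [hg, smul_mul', map_mul]
      have hr : r ∉ D := fun h => hq (QuotientGroup.eq.2 (by simpa using K.inv_mem ((hKD r).2 h)))
      have h1D : (1 : Γ) ∈ D := (hKD 1).1 K.one_mem
      have : r • e ∈ P := by
        simp only [e, ← Finset.mul_prod_erase _ _ h1D, smul_mul', one_smul]
        exact Ideal.mul_mem_right _ _ (he0Q r hr)
      rw [Ideal.Quotient.eq_zero_iff_mem.2 this, mul_zero]
    · intro h; exact absurd (Finset.mem_univ _) h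

end Groth.Agent.S12936
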