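import Groth.Statements.S12937
import Groth.Agent.Lib.ResSepH28.Basic

set_option autoImplicit false
universe u v
open InvTh

namespace Groth.Agent.S12937

/-- Let `B` be a commutative ring with an action of a finite group `Γ` by ring automorphisms, `P` a
maximal ideal of `B`, `T = {γ | γ x - x ∈ P for all x}` its inertia group, `B^T` the inertia ring
and `B^Γ` the ring of invariants, so that `k(P ∩ B^Γ) ⊆ k(P ∩ B^T) ⊆ k(P) = B/P`. Then `k(P ∩ B^T)`
is the largest separable extension of `k(P ∩ B^Γ)` inside `k(P)`: an element `x` of `B` is congruent
modulo `P` to a `T`-invariant element if and only if `x mod P` is a root of some polynomial with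
`Γ`-invariant coefficients whose reduction modulo `P` is separable. (The published statement is for
every prime ideal `P`, as an equality of residue fields; this row takes `P` maximal, the case to
which the published proof reduces by localising at `P ∩ B^Γ`.) -/
theorem result
    (B : Type u) [CommRing B] (Γ : Type v) [Group Γ] [Finite Γ] [MulSemiringAction Γ B]
    (P : Ideal B) [P.IsMaximal] (x : B) :
    (∃ y : B, (∀ γ : Γ, γ ∈ P.inertia Γ → γ • y = y) ∧ x - y ∈ P) ↔
      ∃ g : Polynomial B, (∀ (i : ℕ) (γ : Γ), γ • g.coeff i = g.coeff i) ∧
        (g.map (Ideal.Quotient.mk P)).Separable ∧ Polynomial.aeval x g ∈ P := by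
  exact Groth.Agent.ResSepH28.main P x

end Groth.Agent.S12937
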