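import Groth.Statements.S1294
import Groth.Agent.Lib.Dev4.GroundModel
import Groth.Agent.Lib.Dev4.FreeInjMod
import Groth.Agent.Lib.Dev4.PurePoint
import Groth.Agent.Lib.Dev4.WeakAssTensorIff

set_option autoImplicit false
universe u
open FlatMor
set_option maxSynthPendingDepth 3
open TensorProduct
attribute [local instance] Algebra.TensorProduct.rightAlgebra

set_option backward.isDefEq.respectTransparency.types false

namespace Groth.Agent.S1294



/-- A finitely presented model over the algebra of a finitely presented module over a localization. -/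
theorem exists_model_localization {B N : Type u} [CommRing B] (T : Submonoid B) [AddCommGroup N]
    [Module (Localization T) N] [Module B N] [IsScalarTower B (Localization T) N] [Module.FinitePresentation (Localization T) N] :
    ∃ (N₀ : Type u) (_ : AddCommGroup N₀) (_ : Module B N₀) (f : N₀ →ₗ[B] N),
      Module.FinitePresentation B N₀ ∧ IsBaseChange (Localization T) f := by
  classical
  obtain ⟨m, K, eM, hK⟩ := Module.FinitePresentation.exists_fin (Localization T) N
  obtain ⟨b, w, hw⟩ := Submodule.fg_iff_exists_fin_generating_family.1 hK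
  choose t ht using fun c : Fin b => IsLocalization.exist_integer_multiples_of_finite T (w c)
  choose v hv using ht
  let w₁ : Fin b → Fin m → B := fun c a => v c a
  have hspan : Submodule.span (Localization T) (Set.range fun c a => algebraMap B (Localization T) (w₁ c a)) = K := by
    rw [← hw]
    have h1 : ∀ c, (fun a => algebraMap B (Localization T) (w₁ c a)) = algebraMap B (Localization T) (t c : B) • w c :=
      fun c => funext fun a => by
        show algebraMap B (Localization T) (v c a) = _
        rw [hv c a, Pi.smul_apply, algebraMap_smul]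
    rw [funext h1]
    refine le_antisymm (Submodule.span_le.2 ?_) (Submodule.span_le.2 ?_)
    · rintro _ ⟨c, rfl⟩
      exact Submodule.smul_mem _ _ (Submodule.subset_span ⟨c, rfl⟩)
    · rintro _ ⟨c, rfl⟩
      obtain ⟨u, hu⟩ := IsLocalization.map_units (Localization T) (t c)
      have : w c = (↑u⁻¹ : Localization T) • algebraMap B (Localization T) (t c : B) • w c := by
        rw [← hu, smul_smul, Units.inv_mul, one_smul]
      rw [this]
      exact Submodule.smul_mem _ _ (Submodule.subset_span ⟨c, rfl⟩)
  let π : (Fin m → Localization T) →ₗ[Localization T] N := eM.symm.toLinearMap.comp K.mkQ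
  have hπk : LinearMap.ker π =
      Submodule.span (Localization T) (Set.range fun c a => algebraMap B (Localization T) (w₁ c a)) := by
    rw [hspan]
    ext x
    simp [π, Submodule.Quotient.mk_eq_zero]
  obtain ⟨f, hf⟩ := Groth.Agent.S1295.isBaseChange_quotient (B₁ := B) w₁ π (eM.symm.surjective.comp K.mkQ_surjective) hπk
  exact ⟨(Fin m → B) ⧸ Submodule.span B (Set.range w₁), inferInstance, inferInstance, f,
    Module.finitePresentation_of_surjective _ (Submodule.mkQ_surjective _)
      (by rw [Submodule.ker_mkQ]; exact Submodule.fg_span (Set.finite_range w₁)), hf⟩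

/-- Injectivity after tensoring with a field passes to its algebras. -/
theorem injective_lTensor_of_field {A k K M M' : Type u} [CommRing A] [Field k] [CommRing K] [Algebra A k] [Algebra k K]
    [Algebra A K] [IsScalarTower A k K] [AddCommGroup M] [Module A M] [AddCommGroup M'] [Module A M'] (τ : M →ₗ[A] M')
    (h : Function.Injective (τ.lTensor k)) : Function.Injective (τ.lTensor K) := by
  let e := TensorProduct.AlgebraTensorModule.cancelBaseChange A k K K M
  let e' := TensorProduct.AlgebraTensorModule.cancelBaseChange A k K K M'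
  have key : ∀ w, e' ((τ.baseChange k).lTensor K w) = τ.lTensor K (e w) := fun w => by
    induction w using TensorProduct.induction_on with
    | zero => simp
    | add p q hp hq => simp only [map_add, hp, hq]
    | tmul c y =>
      induction y using TensorProduct.induction_on with
      | zero => simp
      | add p q hp hq => simp only [TensorProduct.tmul_add, map_add, hp, hq]
      | tmul d m => simp [e, e']
  intro a b hab
  apply e.symm.injective
  apply Module.Flat.lTensor_preserves_injective_linearMap (M := K) (τ.baseChange k) h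
  apply e'.injective
  rw [key, key, e.apply_symm_apply, e.apply_symm_apply, hab]

open IsLocalRing in
/-- An element of `T` which makes `T` regular on a fibre after inverting it. -/
theorem exists_regularising {A B : Type u} [CommRing A] [CommRing B] [Algebra A B] [Algebra.FiniteType A B]
    (T : Submonoid B) (N : Type u) [AddCommGroup N] [Module B N] [Module A N] [IsScalarTower A B N] [Module.Finite B N]
    (p : Ideal A) [p.IsPrime] :
    ∃ f ∈ T, ∀ t ∈ T, ∀ v : (Localization.Away f ⊗[B] N) ⊗[A] p.ResidueField,
      algebraMap B (Localization.Away f) t • v = 0 → v = 0 := by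
  classical
  haveI : IsNoetherianRing (p.Fiber B) := Algebra.FiniteType.isNoetherianRing p.ResidueField (p.Fiber B)
  haveI : Module.Finite (p.Fiber B) (FlatCA.fiberMod p B N) :=
    inferInstanceAs (Module.Finite (p.Fiber B) ((p.Fiber B) ⊗[B] N))
  have hfin := associatedPrimes.finite (p.Fiber B) (FlatCA.fiberMod p B N)
  let i := Groth.Agent.CI2.FibAss.inc (S := B) p
  let φ : Ideal (p.Fiber B) → B := fun a => if h : ∃ t ∈ T, i t ∈ a then h.choose else 1
  have hφ : ∀ a, φ a ∈ T := fun a => by
    simp only [φ]
    split_ifs with h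
    · exact h.choose_spec.1
    · exact T.one_mem
  let f := ∏ a ∈ hfin.toFinset, φ a
  refine ⟨f, T.prod_mem fun a _ => hφ a, fun t ht v hv => ?_⟩
  let C := Localization.Away f
  haveI : Algebra.FiniteType B C :=
    haveI : Algebra.FinitePresentation B C := IsLocalization.Away.finitePresentation f
    inferInstance
  haveI : Algebra.FiniteType A C := Algebra.FiniteType.trans (S := B) inferInstance inferInstance
  by_contra hv0
  obtain ⟨r, hr, hrp, hrass, hann⟩ := Groth.Agent.Dev4.exists_assoc_of_ne_zero (R := A) (S := C) (C ⊗[B] N) p hv0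
  haveI := hr
  haveI := hrp
  have htr : algebraMap B C t ∈ r := hann _ hv
  obtain ⟨w, hw⟩ := (Groth.Agent.Dev4.fiberIdeal_mem_associatedPrimes_iff p (C ⊗[B] N) r).1 hrass
  let r₀ := r.comap (algebraMap B C)
  haveI : r.LiesOver r₀ := ⟨rfl⟩
  haveI : r₀.LiesOver p := ⟨by
    show p = (r.comap (algebraMap B C)).comap (algebraMap A B)
    rw [Ideal.comap_comap, ← IsScalarTower.algebraMap_eq]; exact Ideal.over_def r p⟩
  haveI : IsLocalizedModule (Submonoid.powers f) (TensorProduct.mk B C N 1) :=
    (isLocalizedModule_iff_isBaseChange (Submonoid.powers f) C _).2 (TensorProduct.isBaseChange B N C)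
  obtain ⟨w₀, hw₀⟩ := Groth.Agent.Dev4.exists_isWk_of_map (Submonoid.powers f)
    (TensorProduct.AlgebraTensorModule.rTensor A p.ResidueField (TensorProduct.mk B C N 1)) r₀ r hw
  have ha := (Groth.Agent.Dev4.fiberIdeal_mem_associatedPrimes_iff p N r₀).2 ⟨w₀, hw₀⟩
  have hex : ∃ s ∈ T, i s ∈ FlatCA.fiberIdeal p r₀ := ⟨t, ht, by
    show t ∈ (FlatCA.fiberIdeal p r₀).comap i
    rw [Groth.Agent.Dev4.comap_fiberIdeal p r₀]
    exact htr⟩
  have hmem : φ (FlatCA.fiberIdeal p r₀) ∈ r₀ := by
    have h1 : φ (FlatCA.fiberIdeal p r₀) ∈ (FlatCA.fiberIdeal p r₀).comap i := by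
      show i (φ (FlatCA.fiberIdeal p r₀)) ∈ FlatCA.fiberIdeal p r₀
      simp only [φ, dif_pos hex]
      exact hex.choose_spec.2
    rwa [Groth.Agent.Dev4.comap_fiberIdeal p r₀] at h1
  have hf : f ∈ r₀ := Ideal.mem_of_dvd r₀ (Finset.dvd_prod_of_mem φ (hfin.mem_toFinset.2 ha)) hmem
  exact hr.ne_top (Ideal.eq_top_of_isUnit_mem r hf (IsLocalization.Away.algebraMap_isUnit f))


open IsLocalRing in
/-- Let B be a finitely presented A-algebra, T ⊆ B a multiplicative subset and N a finitely presented
T⁻¹B-module. Then for every prime p of A there is a finitely generated ideal I of A_p contained in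
its maximal ideal such that, writing A₁ = A_p/I, B₁ = B ⊗_A A₁, T₁ for the image of T in B₁ and N₁
for the base change of N (a T₁⁻¹B₁-module; any models), the base-changed data admits a pure
spreadout over A₁. -/
theorem result {A B : Type u} [CommRing A] [CommRing B] [Algebra A B] [Algebra.FinitePresentation A B]
    (T : Submonoid B) (N : Type u) [AddCommGroup N] [Module (Localization T) N] [Module B N] [Module A N]
    [IsScalarTower B (Localization T) N] [IsScalarTower A (Localization T) N] [IsScalarTower A B N]
    [Module.FinitePresentation (Localization T) N] (p : Ideal A) [p.IsPrime] :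
    ∃ I : Ideal (Localization.AtPrime p), I.FG ∧ I ≤ maximalIdeal (Localization.AtPrime p) ∧
      ∀ (B₁ N₁ : Type u) [CommRing B₁] [Algebra B B₁] [Algebra (Localization.AtPrime p ⧸ I) B₁] [Algebra A B₁]
        [IsScalarTower A B B₁] [IsScalarTower A (Localization.AtPrime p ⧸ I) B₁]
        [Algebra.IsPushout A B (Localization.AtPrime p ⧸ I) B₁]
        [AddCommGroup N₁] [Module (Localization (T.map (algebraMap B B₁))) N₁] [Module (Localization.AtPrime p ⧸ I) N₁]
        [IsScalarTower (Localization.AtPrime p ⧸ I) (Localization (T.map (algebraMap B B₁))) N₁]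
        [Module B N₁] [IsScalarTower B (Localization (T.map (algebraMap B B₁))) N₁]
        [Module A N₁] [IsScalarTower A (Localization.AtPrime p ⧸ I) N₁] [IsScalarTower A B N₁]
        (h : N →ₗ[B] N₁), IsBaseChange (Localization.AtPrime p ⧸ I) (h.restrictScalars A) →
        FlatCA.HasPureSpreadout (Localization.AtPrime p ⧸ I) B₁ (T.map (algebraMap B B₁)) N₁ := by
  classical
  obtain ⟨N₀, _, _, f₀, _, hf₀⟩ := exists_model_localization (N := N) T
  haveI : IsLocalizedModule T f₀ := (isLocalizedModule_iff_isBaseChange T (Localization T) f₀).2 hf₀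
  letI : Module A N₀ := Module.compHom N₀ (algebraMap A B)
  haveI : IsScalarTower A B N₀ := IsScalarTower.of_algebraMap_smul fun _ _ => rfl
  obtain ⟨f, hfT, hreg⟩ := exists_regularising T N₀ p
  let C := Localization.Away f
  let M := C ⊗[B] N₀
  haveI : Algebra.FinitePresentation A C :=
    haveI : Algebra.FinitePresentation B C := IsLocalization.Away.finitePresentation f
    Algebra.FinitePresentation.trans A B C
  obtain ⟨A₀, M₀, _, _, _, _, hA₀, ⟨eA⟩⟩ := Groth.Agent.Dev4.exists_noetherian_ground (A := A) (C := C) (M := M)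
  haveI := hA₀
  let R := Localization.AtPrime p
  haveI : IsScalarTower A₀ A R := inferInstance
  let m₀ := (maximalIdeal R).comap (algebraMap A₀ R)
  haveI : m₀.IsPrime := Ideal.IsPrime.comap _
  let I := m₀.map (algebraMap A₀ R)
  refine ⟨I, Ideal.FG.map (IsNoetherian.noetherian m₀) _, Ideal.map_comap_le, ?_⟩
  intro B₁ N₁ _ _ _ _ _ _ hpo _ _ _ _ _ _ _ _ _ h hh
  have hI : I ≤ maximalIdeal R := Ideal.map_comap_le
  let Rb := R ⧸ I
  haveI : Nontrivial Rb := Ideal.Quotient.nontrivial_iff.2 (ne_top_of_le_ne_top (maximalIdeal.isMaximal R).ne_top hI)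
  haveI : IsLocalRing Rb := IsLocalRing.of_surjective' (Ideal.Quotient.mk I) Ideal.Quotient.mk_surjective
  haveI : IsLocalHom (algebraMap R Rb) := (Ideal.Quotient.mk_surjective (I := I)).isLocalHom _
  haveI : IsScalarTower A₀ A Rb := IsScalarTower.of_algebraMap_eq fun a => rfl
  -- the base field
  let k₀ := m₀.ResidueField
  let χ : k₀ →+* Rb := Ideal.ResidueField.lift m₀ (algebraMap A₀ Rb)
    (fun a ha => (Ideal.Quotient.eq_zero_iff_mem).2 (Ideal.mem_map_of_mem _ ha))
    (fun a ha => by
      show IsUnit (algebraMap A₀ Rb a)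
      rw [show algebraMap A₀ Rb a = algebraMap R Rb (algebraMap A₀ R a) from rfl]
      refine IsUnit.map _ (by_contra fun hu => ha ?_)
      exact (IsLocalRing.mem_maximalIdeal _).2 hu)
  letI : Algebra k₀ Rb := χ.toAlgebra
  haveI : IsScalarTower A₀ k₀ Rb := IsScalarTower.of_algebraMap_eq fun a => by
    rw [RingHom.algebraMap_toAlgebra]
    exact (Ideal.ResidueField.lift_algebraMap ..).symm
  haveI : Module.Free k₀ (k₀ ⊗[A₀] M₀) := Module.Free.of_divisionRing k₀ _
  haveI hfreeA : Module.Free Rb (Rb ⊗[A] M) :=
    Module.Free.of_equiv (((AlgebraTensorModule.cancelBaseChange A₀ k₀ Rb Rb M₀).trans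
      (AlgebraTensorModule.cancelBaseChange A₀ A Rb Rb M₀).symm).trans
        (AlgebraTensorModule.congr (LinearEquiv.refl Rb Rb) eA))
  -- the spreadout
  let T₁ := T.map (algebraMap B B₁)
  let L₁ := Localization T₁
  let f₁ := algebraMap B B₁ f
  let C₁ := Localization.Away f₁
  haveI : IsScalarTower B B₁ C₁ := inferInstance
  have hu₁ : IsUnit (algebraMap B₁ L₁ f₁) := IsLocalization.map_units L₁ (⟨f₁, f, hfT, rfl⟩ : T₁)
  letI : Algebra C₁ L₁ := (IsLocalization.Away.lift f₁ hu₁).toAlgebra
  haveI : IsScalarTower B₁ C₁ L₁ := IsScalarTower.of_algebraMap_eq fun b =>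
    (IsLocalization.Away.lift_eq f₁ hu₁ b).symm
  haveI : IsScalarTower Rb C₁ L₁ := IsScalarTower.of_algebraMap_eq fun r => by
    rw [IsScalarTower.algebraMap_apply Rb B₁ C₁, ← IsScalarTower.algebraMap_apply B₁ C₁ L₁,
      ← IsScalarTower.algebraMap_apply Rb B₁ L₁]
  haveI : IsScalarTower B C₁ L₁ := IsScalarTower.of_algebraMap_eq fun b => by
    rw [IsScalarTower.algebraMap_apply B B₁ C₁, ← IsScalarTower.algebraMap_apply B₁ C₁ L₁,
      ← IsScalarTower.algebraMap_apply B B₁ L₁]
  letI : Module C₁ N₁ := Module.compHom N₁ (algebraMap C₁ L₁)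
  haveI : IsScalarTower C₁ L₁ N₁ := IsScalarTower.of_algebraMap_smul fun _ _ => rfl
  haveI : IsScalarTower Rb C₁ N₁ := IsScalarTower.of_algebraMap_smul fun r x => by
    show algebraMap C₁ L₁ (algebraMap Rb C₁ r) • x = r • x
    rw [← IsScalarTower.algebraMap_apply, algebraMap_smul]
  haveI : IsScalarTower B C₁ N₁ := IsScalarTower.of_algebraMap_smul fun b x => by
    show algebraMap C₁ L₁ (algebraMap B C₁ b) • x = b • x
    rw [← IsScalarTower.algebraMap_apply, algebraMap_smul]
  let M₁ := C₁ ⊗[B] N₀
  let g₀ : N₀ →ₗ[B] N₁ := h ∘ₗ f₀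
  let g : M₁ →ₗ[C₁] N₁ := g₀.liftBaseChange C₁
  letI : Algebra C C₁ := (IsLocalization.Away.lift f (g := algebraMap B C₁) (by
    rw [IsScalarTower.algebraMap_apply B B₁ C₁]; exact IsLocalization.Away.algebraMap_isUnit f₁)).toAlgebra
  haveI : IsScalarTower B C C₁ := IsScalarTower.of_algebraMap_eq fun b =>
    (IsLocalization.Away.lift_eq (g := algebraMap B C₁) f _ b).symm
  haveI : IsScalarTower A C C₁ := IsScalarTower.of_algebraMap_eq fun a => by
    rw [IsScalarTower.algebraMap_apply A B C, ← IsScalarTower.algebraMap_apply B C C₁, ← IsScalarTower.algebraMap_apply A B C₁]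
  haveI : IsLocalization (Algebra.algebraMapSubmonoid B₁ (Submonoid.powers f)) C₁ := by
    rw [Algebra.algebraMapSubmonoid_powers]
    exact inferInstanceAs (IsLocalization.Away f₁ C₁)
  haveI : Algebra.IsPushout B C B₁ C₁ :=
    ((Algebra.isLocalization_iff_isPushout (Submonoid.powers f) C).1 inferInstance).symm
  haveI hpoC : Algebra.IsPushout A C Rb C₁ :=
    (Algebra.IsPushout.comp_iff (R := A) (S := B) (R' := Rb) (S' := B₁) (T := C) (T' := C₁)).2 inferInstance
  haveI : Algebra.IsPushout A Rb C C₁ := hpoC.symm
  let e₁ : M₁ ≃ₗ[Rb] Rb ⊗[A] M :=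
    ((AlgebraTensorModule.cancelBaseChange B C C₁ C₁ N₀).restrictScalars Rb).symm.trans
      (Algebra.IsPushout.cancelBaseChange A Rb C C₁ M)
  haveI : Module.Free Rb M₁ := Module.Free.of_equiv e₁.symm
  -- localisation
  let ψ : N ⊗[A] Rb ≃ₗ[B] N₁ :=
    { ((TensorProduct.comm A N Rb).trans (hh.equiv.restrictScalars A)) with
      map_smul' := fun b z => by
        show hh.equiv (TensorProduct.comm A N Rb (b • z)) = b • hh.equiv (TensorProduct.comm A N Rb z)
        induction z using TensorProduct.induction_on with
        | zero => simp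
        | add x y hx hy => simp only [smul_add, map_add, hx, hy]
        | tmul n r =>
          simp only [TensorProduct.smul_tmul', TensorProduct.comm_tmul, IsBaseChange.equiv_tmul, LinearMap.restrictScalars_apply,
            map_smul]
          rw [← algebraMap_smul L₁ r, ← algebraMap_smul L₁ r (h n), ← algebraMap_smul L₁ b, ← algebraMap_smul L₁ b (_ • h n)]
          exact smul_comm (algebraMap Rb L₁ r) (algebraMap B L₁ b) (h n) }
  let j₀ : N₀ ⊗[A] Rb →ₗ[B] N₁ := ψ.toLinearMap ∘ₗ AlgebraTensorModule.rTensor A Rb f₀
  haveI : IsLocalizedModule T j₀ := IsLocalizedModule.of_linearEquiv T (AlgebraTensorModule.rTensor A Rb f₀) ψ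
  haveI : Algebra.IsPushout A Rb B B₁ := Algebra.IsPushout.symm inferInstance
  let ε : N₀ ⊗[A] Rb ≃ₗ[B] B₁ ⊗[B] N₀ :=
    { ((TensorProduct.comm A N₀ Rb).trans ((Algebra.IsPushout.cancelBaseChange A Rb B B₁ N₀).symm.restrictScalars A)) with
      map_smul' := fun b z => by
        show (Algebra.IsPushout.cancelBaseChange A Rb B B₁ N₀).symm (TensorProduct.comm A N₀ Rb (b • z)) =
          b • (Algebra.IsPushout.cancelBaseChange A Rb B B₁ N₀).symm (TensorProduct.comm A N₀ Rb z)
        induction z using TensorProduct.induction_on with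
        | zero => simp
        | add x y hx hy => simp only [smul_add, map_add, hx, hy]
        | tmul n r =>
          simp only [TensorProduct.smul_tmul', TensorProduct.comm_tmul, Algebra.IsPushout.cancelBaseChange_symm_tmul]
          rw [TensorProduct.smul_tmul] }
  letI : Module B₁ N₁ := Module.compHom N₁ (algebraMap B₁ L₁)
  haveI : IsScalarTower B₁ L₁ N₁ := IsScalarTower.of_algebraMap_smul fun _ _ => rfl
  haveI : IsScalarTower B B₁ N₁ := IsScalarTower.of_algebraMap_smul fun b x => by
    show algebraMap B₁ L₁ (algebraMap B B₁ b) • x = b • x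
    rw [← IsScalarTower.algebraMap_apply, algebraMap_smul]
  let g₁ : B₁ ⊗[B] N₀ →ₗ[B₁] N₁ := g₀.liftBaseChange B₁
  have hg₁ : g₁.restrictScalars B = j₀ ∘ₗ ε.symm.toLinearMap := by
    refine LinearMap.ext fun y => ?_
    obtain ⟨z, rfl⟩ := ε.surjective y
    simp only [LinearMap.comp_apply, LinearEquiv.coe_coe, LinearEquiv.symm_apply_apply, LinearMap.restrictScalars_apply]
    induction z using TensorProduct.induction_on with
    | zero => simp
    | add x y hx hy => simp only [map_add, hx, hy]
    | tmul n r =>
      show g₁ ((Algebra.IsPushout.cancelBaseChange A Rb B B₁ N₀).symm (r ⊗ₜ[A] n)) = hh.equiv (r ⊗ₜ[A] f₀ n)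
      rw [Algebra.IsPushout.cancelBaseChange_symm_tmul, IsBaseChange.equiv_tmul]
      show algebraMap Rb B₁ r • g₀ n = r • h (f₀ n)
      show algebraMap B₁ L₁ (algebraMap Rb B₁ r) • g₀ n = r • h (f₀ n)
      rw [← IsScalarTower.algebraMap_apply, algebraMap_smul]
      rfl
  haveI : IsLocalizedModule T (g₁.restrictScalars B) := by
    rw [hg₁]; exact IsLocalizedModule.of_linearEquiv_right T j₀ ε.symm
  haveI : IsLocalizedModule T₁ g₁ := IsLocalizedModule.of_restrictScalars T g₁
  have hbg₀ : IsBaseChange L₁ g₀ := by
    have h2 := (TensorProduct.isBaseChange B N₀ B₁).comp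
      ((isLocalizedModule_iff_isBaseChange T₁ L₁ g₁).1 inferInstance)
    have h3 : (g₁.restrictScalars B).comp (TensorProduct.mk B B₁ N₀ 1) = g₀ := LinearMap.ext fun n => by simp [g₁]
    rwa [h3] at h2
  have hbg : IsBaseChange L₁ g := IsBaseChange.of_comp (TensorProduct.isBaseChange B N₀ C₁) (h := g) (by
    have h3 : (g.restrictScalars B).comp (TensorProduct.mk B C₁ N₀ 1) = g₀ := LinearMap.ext fun n => by
      show g ((1 : C₁) ⊗ₜ[B] n) = g₀ n
      rw [show g = g₀.liftBaseChange C₁ from rfl, LinearMap.liftBaseChange_tmul, one_smul]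
    rw [h3]; exact hbg₀)
  let T' : Submonoid C₁ := T₁.map (algebraMap B₁ C₁)
  haveI : IsLocalization T' L₁ := IsLocalization.isLocalization_of_submonoid_le C₁ L₁ (Submonoid.powers f₁) T₁
    (Submonoid.powers_le.2 ⟨f, hfT, rfl⟩)
  haveI : IsLocalizedModule T' g := (isLocalizedModule_iff_isBaseChange T' L₁ g).2 hbg
  haveI : Module.Flat Rb N₁ := Groth.Agent.RG4.flat_of_isLocalizedModule T' g
  -- regularity on the closed fibre
  let κ := IsLocalRing.ResidueField Rb
  haveI : IsScalarTower A Rb κ := inferInstance
  have hker : ∀ a : A, algebraMap A κ a = 0 ↔ a ∈ p := fun a => by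
    show IsLocalRing.residue Rb (algebraMap R Rb (algebraMap A R a)) = 0 ↔ _
    rw [IsLocalRing.residue_eq_zero_iff, IsLocalRing.mem_maximalIdeal, mem_nonunits_iff, isUnit_map_iff,
      IsLocalization.AtPrime.isUnit_to_map_iff R p, Ideal.mem_primeCompl_iff, not_not]
  let κp := p.ResidueField
  let χ' : κp →+* κ := Ideal.ResidueField.lift p (algebraMap A κ) (fun a ha => (hker a).2 ha)
    (fun a ha => isUnit_iff_ne_zero.2 fun h => ha ((hker a).1 h))
  letI : Algebra κp κ := χ'.toAlgebra
  haveI : IsScalarTower A κp κ := IsScalarTower.of_algebraMap_eq fun a => by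
    rw [RingHom.algebraMap_toAlgebra]
    exact (Ideal.ResidueField.lift_algebraMap ..).symm
  have hinjmod : Function.Injective ((g.restrictScalars Rb).lTensor κ) := by
    let G := AlgebraTensorModule.rTensor Rb κ g
    haveI : IsLocalizedModule T' G := inferInstance
    suffices hG : Function.Injective G by
      intro a b hab
      apply (TensorProduct.comm Rb κ M₁).injective
      apply hG
      have key : ∀ z, G (TensorProduct.comm Rb κ M₁ z) =
          TensorProduct.comm Rb κ N₁ ((g.restrictScalars Rb).lTensor κ z) := fun z => by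
        induction z using TensorProduct.induction_on with
        | zero => simp
        | add p q hp hq => simp only [map_add, hp, hq]
        | tmul p q => rfl
      rw [key, key, hab]
    rw [injective_iff_map_eq_zero]
    intro z hz
    obtain ⟨⟨_, _, ⟨t, ht, rfl⟩, rfl⟩, hzt⟩ := (IsLocalizedModule.eq_zero_iff T' G).1 hz
    -- multiplication by `t`
    let τ : M →ₗ[A] M := (LinearMap.lsmul C M (algebraMap B C t)).restrictScalars A
    let τ₁ : M₁ →ₗ[Rb] M₁ := (LinearMap.lsmul C₁ M₁ (algebraMap B₁ C₁ (algebraMap B B₁ t))).restrictScalars Rb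
    have hτ : Function.Injective (τ.lTensor κp) := by
      rw [injective_iff_map_eq_zero]
      intro v hv
      apply (TensorProduct.comm A κp M).injective
      rw [map_zero]
      refine hreg t ht _ ?_
      have key : ∀ v, algebraMap B C t • TensorProduct.comm A κp M v = TensorProduct.comm A κp M (τ.lTensor κp v) := fun v => by
        induction v using TensorProduct.induction_on with
        | zero => simp
        | add p q hp hq => simp only [map_add, smul_add, hp, hq]
        | tmul p q => rfl
      rw [key, hv, map_zero]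
    have hτκ : Function.Injective (τ.lTensor κ) := by
      exact injective_lTensor_of_field (k := κp) (K := κ) τ hτ
    have he₁ : ∀ y, e₁ (τ₁ y) = τ.baseChange Rb (e₁ y) := fun y => by
      obtain ⟨w, rfl⟩ := e₁.symm.surjective y
      apply e₁.symm.injective
      rw [e₁.symm_apply_apply, e₁.apply_symm_apply]
      induction w using TensorProduct.induction_on with
      | zero => simp
      | add p q hp hq => simp only [map_add, hp, hq]
      | tmul r m =>
        induction m using TensorProduct.induction_on with
        | zero => simp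
        | add p q hp hq => simp only [TensorProduct.tmul_add, map_add, hp, hq]
        | tmul c n =>
          simp [e₁, τ, τ₁, TensorProduct.smul_tmul', ← IsScalarTower.algebraMap_apply]
          rw [← LinearEquiv.coe_toLinearMap, ← LinearMap.map_smul_of_tower, TensorProduct.smul_tmul']
    let E : κ ⊗[Rb] M₁ ≃ₗ[κ] κ ⊗[A] M :=
      (AlgebraTensorModule.congr (LinearEquiv.refl κ κ) e₁).trans (AlgebraTensorModule.cancelBaseChange A Rb κ κ M)
    have hE : ∀ w, E (τ₁.lTensor κ w) = τ.lTensor κ (E w) := fun w => by
      induction w using TensorProduct.induction_on with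
      | zero => simp
      | add p q hp hq => simp only [map_add, hp, hq]
      | tmul c y =>
        simp only [E, LinearMap.lTensor_tmul, LinearEquiv.trans_apply, AlgebraTensorModule.congr_tmul, LinearEquiv.refl_apply, he₁]
        generalize e₁ y = y'
        induction y' using TensorProduct.induction_on with
        | zero => simp
        | add p q hp hq => simp only [TensorProduct.tmul_add, map_add, hp, hq]
        | tmul d m => simp
    have key : ∀ w, algebraMap B₁ C₁ (algebraMap B B₁ t) • TensorProduct.comm Rb κ M₁ w =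
        TensorProduct.comm Rb κ M₁ (τ₁.lTensor κ w) := fun w => by
      induction w using TensorProduct.induction_on with
      | zero => simp
      | add p q hp hq => simp only [map_add, smul_add, hp, hq]
      | tmul p q => rfl
    obtain ⟨w, rfl⟩ := (TensorProduct.comm Rb κ M₁).surjective z
    rw [Submonoid.smul_def] at hzt
    have h0 : τ₁.lTensor κ w = 0 := (TensorProduct.comm Rb κ M₁).injective (by rw [← key, map_zero]; exact hzt)
    have : E w = 0 := hτκ (by rw [← hE, h0, map_zero, map_zero])
    rw [E.map_eq_zero_iff.1 this, map_zero]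
  haveI : Module.FinitePresentation C₁ M₁ := inferInstance
  exact ⟨C₁, inferInstance, inferInstance, inferInstance, inferInstance, inferInstance, inferInstance, inferInstance,
    inferInstance, inferInstance, inferInstance, M₁, inferInstance, inferInstance, inferInstance, inferInstance, g,
    inferInstance, inferInstance, hbg, Module.Projective.of_free,
    Groth.Agent.Dev4.univInj_of_free_of_injective_mod (g.restrictScalars Rb) hinjmod⟩

end Groth.Agent.S1294
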