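import Groth.Statements.S12943
import Groth.Agent.Lib.StAlg16.DiagIff

set_option autoImplicit false
universe u
open CategoryTheory AlgebraicGeometry
open AlgSt

namespace Groth.Agent.S12943
set_option linter.style.haveILetI false
set_option backward.isDefEq.respectTransparency false
set_option backward.isDefEq.respectTransparency.types false


/-- For a morphism f of algebraic stacks that is representable by algebraic spaces, the following are
equivalent: f is separated (every base change to a scheme is a separated morphism of algebraic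
spaces); the diagonal of f is a closed immersion; the diagonal of f is proper; the diagonal of f is
universally closed. -/
theorem result
    (S : Scheme.{u}) (𝒳 : AlgSt.Cat S) (𝒴 : AlgSt.Cat S)
    (h𝒳 : AlgSt.IsAlgStack Scheme.fppfPrecoverage 𝒳)
    (h𝒴 : AlgSt.IsAlgStack Scheme.fppfPrecoverage 𝒴)
    (f : 𝒳 ⥤ᵇ 𝒴)
    (hf : AlgSt.RepByAlgSp1 f) :
    [AlgSt.RepByAlgSpWith AlgSp.IsSeparatedMor f, AlgSt.IsClosedImm (FibCat.diag f),
      AlgSt.IsSeparatedMor f, AlgSt.RepByAlgSpWith AlgSp.IsUnivClosedMor (FibCat.diag f)].TFAE := by
  tfae_have 1 ↔ 2 := Groth.Agent.StAlg16.with_separated_iff_closedImm_diag hf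
  tfae_have 1 ↔ 3 := Groth.Agent.StAlg16.with_separated_iff_proper_diag hf
  tfae_have 1 ↔ 4 := Groth.Agent.StAlg16.with_separated_iff_univClosed_diag hf
  tfae_finish

end Groth.Agent.S12943
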