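import Groth.Statements.S1296
import Groth.Agent.Lib.Dev4.ImpurityDescent

set_option autoImplicit false
universe u
open FlatMor
set_option maxSynthPendingDepth 3
set_option backward.isDefEq.respectTransparency.types false
attribute [local instance] Algebra.TensorProduct.rightAlgebra

set_option backward.isDefEq.respectTransparency.types false

namespace Groth.Agent.S1296

/-- Ring form, X = Spec B affine, T = Spec A' with A' the colimit of a directed system of A-algebras
A'_i: let B be a finite type A-algebra, N a finite B-module, p a prime of A, and suppose given an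
impurity of N above p with base change ring A' and points t' ⊆ t. Then for some index i there is an
impurity of N above p whose base change ring is A'_i (up to an A-isomorphism) and whose point t
corresponds to the contraction of t to A'_i. -/
theorem result {A B : Type u} [CommRing A] [CommRing B] [Algebra A B] [Algebra.FiniteType A B]
    (N : Type u) [AddCommGroup N] [Module B N] [Module.Finite B N] (p : Ideal A) [p.IsPrime]
    {ι : Type u} [Preorder ι] (G : ι → Type u) [∀ i, CommRing (G i)] [∀ i, Algebra A (G i)]
    (g : ∀ i j, i ≤ j → G i →ₐ[A] G j)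
    (A' : Type u) [CommRing A'] [Algebra A A'] [∀ i, Algebra (G i) A'] [∀ i, IsScalarTower A (G i) A']
    (hcolim : FlatCA.IsDirectedColimitRing G (fun i j h => (g i j h).toRingHom) A')
    (B' N' : Type u) [CommRing B'] [Algebra B B'] [Algebra A' B'] [Algebra A B'] [IsScalarTower A B B'] [IsScalarTower A A' B']
    [AddCommGroup N'] [Module B' N'] [Module B N'] [IsScalarTower B B' N'] [Module A' N'] [IsScalarTower A' B' N']
    (f : N →ₗ[B] N') (t' t : Ideal A') [t'.IsPrime] [t.IsPrime] (P : Ideal B') [P.IsPrime]
    (himp : FlatCA.IsImpurity A B N p A' B' N' f t' t P) :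
    ∃ i : ι, FlatCA.HasImpurity A B N p (fun A'' _ _ t'' => ∃ e : A'' ≃ₐ[A] G i, t''.map e = t.comap (algebraMap (G i) A')) := by
  classical
  letI : Module A N := Module.compHom N (algebraMap A B)
  haveI : IsScalarTower A B N := IsScalarTower.of_algebraMap_smul fun _ _ => rfl
  have hd := Groth.Agent.Dev4.hasDatum_of_isImpurity himp
  obtain ⟨-, -, hle, htp, -⟩ := himp
  obtain ⟨S, hS⟩ := Groth.Agent.Dev4.exists_finset_hasDatum t' t hd
  obtain ⟨hdir, hne, -, -, hcompat, hsurj, -⟩ := hcolim
  haveI := hdir
  haveI := hne
  choose st x hx using hsurj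
  obtain ⟨i, hi⟩ := Finset.exists_le (S.image st)
  have hrange : (S : Set A') ⊆ Set.range (IsScalarTower.toAlgHom A (G i) A') := fun a ha =>
    ⟨g (st a) i (hi _ (Finset.mem_image_of_mem st ha)) (x a), by
      have := RingHom.congr_fun (hcompat (st a) i (hi _ (Finset.mem_image_of_mem st ha))) (x a)
      exact this.trans (hx a)⟩
  let u' := t'.comap (algebraMap (G i) A')
  let u := t.comap (algebraMap (G i) A')
  have hd₀ := hS (G i) (IsScalarTower.toAlgHom A (G i) A') hrange u' u rfl rfl
  have hup : u.LiesOver p := ⟨by
    show p = (t.comap (algebraMap (G i) A')).comap (algebraMap A (G i))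
    rw [Ideal.comap_comap, ← IsScalarTower.algebraMap_eq]
    exact htp.over⟩
  obtain ⟨P₀, hP₀, himp₀⟩ := Groth.Agent.Dev4.hasImpurity_of_hasDatum u' u (Ideal.comap_mono hle) hup hd₀
  refine ⟨i, G i, TensorProduct A (G i) B, TensorProduct B (TensorProduct A (G i) B) N, inferInstance, inferInstance, inferInstance,
    inferInstance, inferInstance, inferInstance, inferInstance, inferInstance, inferInstance, inferInstance, inferInstance,
    inferInstance, inferInstance, inferInstance, TensorProduct.mk B (TensorProduct A (G i) B) N 1, u', u, inferInstance,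
    inferInstance, P₀, hP₀, himp₀, AlgEquiv.refl, ?_⟩
  exact Ideal.map_id u

end Groth.Agent.S1296
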