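import Groth.Statements.S1297
import Groth.Agent.Lib.HensProper6.Fibres

set_option autoImplicit false
universe u
open FlatMor

set_option backward.isDefEq.respectTransparency.types false

namespace Groth.Agent.S1297


set_option backward.isDefEq.respectTransparency.types false

open AlgebraicGeometry CategoryTheory Limits in
theorem finite_app_of_isProper {X S : Scheme.{u}} (f : X ⟶ S) [IsProper f] [IsLocallyNoetherian S]
    (U : S.Opens) (hU : IsAffineOpen U) : (f.app U).hom.Finite := by
  haveI : IsNoetherianRing Γ(S, U) :=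
    IsLocallyNoetherian.component_noetherian ⟨U, hU⟩
  let g : (f ⁻¹ᵁ U).toScheme ⟶ Spec (CommRingCat.of Γ(S, U)) := (f ∣_ U) ≫ hU.isoSpec.hom
  haveI : IsProper (f ∣_ U) := IsZariskiLocalAtTarget.restrict ‹_› U
  haveI : IsProper g := inferInstanceAs (IsProper ((f ∣_ U) ≫ hU.isoSpec.hom))
  have h := Groth.Agent.HensProper6.finite_toGlobal g
  have h2 : (Scheme.ΓSpecIso (CommRingCat.of Γ(S, U))).inv ≫ g.appTop ≫ (f ⁻¹ᵁ U).topIso.hom
      = f.app U := by
    have e : g.appTop = (Scheme.ΓSpecIso Γ(S, U)).hom ≫ U.topIso.inv ≫ (f ∣_ U).appTop := by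
      show ((f ∣_ U) ≫ hU.isoSpec.hom).appTop = _
      rw [Scheme.Hom.comp_appTop]
      erw [hU.isoSpec_hom_appTop]
      rw [Category.assoc]
    rw [e, morphismRestrict_appTop]
    simp only [Category.assoc]
    erw [Iso.inv_hom_id_assoc]
    simp only [Scheme.Opens.topIso, Functor.mapIso_inv, Functor.mapIso_hom, Iso.op_inv, Iso.op_hom,
      Scheme.Hom.app_eq_appLE, Scheme.Hom.appLE_map, Scheme.Hom.appLE_map_assoc,
      Scheme.Hom.map_appLE, Scheme.Hom.map_appLE_assoc]
    erw [Scheme.Hom.appLE_map, Scheme.Hom.map_appLE]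
  rw [← h2]
  simp only [CommRingCat.hom_comp]
  rw [RingHom.comp_assoc]
  exact RingHom.Finite.comp
    (RingHom.Finite.of_surjective _ ((f ⁻¹ᵁ U).topIso.commRingCatIsoToRingEquiv.surjective)) h

open AlgebraicGeometry CategoryTheory Limits in
/-- Stein factorization, Noetherian case: let f : X → S be a proper morphism with S locally Noetherian.
Then the normalization of S in X is finite over S (so that the Stein factorization of f is a proper
morphism with geometrically connected fibres followed by a finite morphism). -/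
theorem result {X S : Scheme.{u}} (f : X ⟶ S) [IsProper f] [IsLocallyNoetherian S] :
    IsFinite f.fromNormalization := by
  refine IsFinite.mk fun U hU => ?_
  letI := (f.app U).hom.toAlgebra
  haveI : IsNoetherianRing Γ(S, U) :=
    IsLocallyNoetherian.component_noetherian ⟨U, hU⟩
  haveI : Module.Finite Γ(S, U) Γ(X, f ⁻¹ᵁ U) := finite_app_of_isProper f U hU
  rw [f.fromNormalization_app hU]
  simp only [CommRingCat.hom_comp]
  refine RingHom.Finite.comp
    (RingHom.Finite.of_surjective _ (f.normalizationObjIso hU).commRingCatIsoToRingEquiv.symm.surjective) ?_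
  haveI : Module.Finite Γ(S, U) (integralClosure Γ(S, U) Γ(X, f ⁻¹ᵁ U)) :=
    Module.Finite.of_injective (integralClosure Γ(S, U) Γ(X, f ⁻¹ᵁ U)).val.toLinearMap
      Subtype.val_injective
  exact RingHom.finite_algebraMap.mpr this

end Groth.Agent.S1297
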