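import Groth.Statements.S12972
import Groth.Agent.Lib.StAlg16.Inertia

set_option autoImplicit false
universe u
open CategoryTheory AlgebraicGeometry
open AlgSt

namespace Groth.Agent.S12972
set_option linter.style.haveILetI false
set_option backward.isDefEq.respectTransparency false
set_option backward.isDefEq.respectTransparency.types false


/-- For a morphism f : 𝒳 → 𝒴 of algebraic stacks the following are equivalent: the relative inertia
𝓘_{𝒳/𝒴} → 𝒳 is separated; the diagonal of f is separated; the neutral section 𝒳 → 𝓘_{𝒳/𝒴} (the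
second diagonal) is a closed immersion. All three morphisms are representable by algebraic spaces
and the properties are the ones of such morphisms. -/
theorem result
    (S : Scheme.{u}) (𝒳 : AlgSt.Cat S) (𝒴 : AlgSt.Cat S)
    (h𝒳 : AlgSt.IsAlgStack Scheme.fppfPrecoverage 𝒳)
    (h𝒴 : AlgSt.IsAlgStack Scheme.fppfPrecoverage 𝒴)
    (f : 𝒳 ⥤ᵇ 𝒴) :
    [AlgSt.RepByAlgSpWith AlgSp.IsSeparatedMor (FibCat.inertiaToBase f),
      AlgSt.RepByAlgSpWith AlgSp.IsSeparatedMor (FibCat.diag f),
      AlgSt.IsClosedImm (FibCat.inertiaNeutral f)].TFAE := by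
  have gX := h𝒳.isStack.1
  have gY := h𝒴.isStack.1
  have h1 := Groth.Agent.StAlg.rep1_diag h𝒳 h𝒴 f
  tfae_have 1 → 3 := fun h => Groth.Agent.StAlg16.with_neutral Groth.Agent.StAlg16.pbP_repWith h fun _ _ _ _ ha => ha
  tfae_have 3 → 2 := fun h => (Groth.Agent.StAlg16.with_separated_iff_closedImm_diag h1).2 ((Groth.Agent.StAlg16.with_neutral_iff gX gY).1 h)
  tfae_have 2 → 1 := fun h => Groth.Agent.StAlg16.with_inertiaToBase gX gY h
  tfae_finish

end Groth.Agent.S12972
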