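import Groth.Statements.S12974
import Groth.Agent.Lib.StAlg16.Inertia

set_option autoImplicit false
universe u
open CategoryTheory AlgebraicGeometry
open AlgSt

namespace Groth.Agent.S12974
set_option linter.style.haveILetI false
set_option backward.isDefEq.respectTransparency false
set_option backward.isDefEq.respectTransparency.types false


/-- For a morphism f : 𝒳 → 𝒴 of algebraic stacks, the relative inertia 𝓘_{𝒳/𝒴} → 𝒳 is unramified if and
only if f is DM. -/
theorem result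
    (S : Scheme.{u}) (𝒳 : AlgSt.Cat S) (𝒴 : AlgSt.Cat S)
    (h𝒳 : AlgSt.IsAlgStack Scheme.fppfPrecoverage 𝒳)
    (h𝒴 : AlgSt.IsAlgStack Scheme.fppfPrecoverage 𝒴)
    (f : 𝒳 ⥤ᵇ 𝒴) :
    AlgSt.RepByAlgSpWith (AlgSp.LocP (@LocallyOfFiniteType ⊓ @FormallyUnramified)) (FibCat.inertiaToBase f) ↔
      AlgSt.IsDMMor f := by
  have gX := h𝒳.isStack.1
  have gY := h𝒴.isStack.1
  have h1 := Groth.Agent.StAlg.rep1_diag h𝒳 h𝒴 f
  exact ⟨Groth.Agent.StAlg16.isDMMor_of_unramified_inertia h𝒳 h𝒴,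
    fun h => Groth.Agent.StAlg16.with_inertiaToBase gX gY h⟩

end Groth.Agent.S12974
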