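import Groth.Statements.S12978
import Groth.Agent.Lib.StAlg16.Mono

set_option autoImplicit false
universe u
open CategoryTheory AlgebraicGeometry
open AlgSt

namespace Groth.Agent.S12978
set_option linter.style.haveILetI false
set_option backward.isDefEq.respectTransparency false
set_option backward.isDefEq.respectTransparency.types false


/-- A morphism f of algebraic stacks whose diagonal is a monomorphism (representable by algebraic spaces
and a monomorphism) is representable by algebraic spaces. Together with the forward direction (a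
morphism representable by algebraic spaces has monomorphic diagonal) this characterises
representability by the first diagonal. -/
theorem result
    (S : Scheme.{u}) (𝒳 : AlgSt.Cat S) (𝒴 : AlgSt.Cat S)
    (h𝒳 : AlgSt.IsAlgStack Scheme.fppfPrecoverage 𝒳)
    (h𝒴 : AlgSt.IsAlgStack Scheme.fppfPrecoverage 𝒴)
    (f : 𝒳 ⥤ᵇ 𝒴) :
    AlgSt.IsMono (FibCat.diag f) → AlgSt.RepByAlgSp1 f := by
  intro hm
  haveI := (StAlg16.fullyFaithful_of_isMono h𝒳.isStack.1
    (Groth.Agent.FC16.fp_isFibGrpd h𝒳.isStack.1 h𝒳.isStack.1 h𝒴.isStack.1 f f) _ hm).1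
  haveI : f.toFunctor.Faithful := ⟨fun {a b χ χ'} h => by
    let g : (FibCat.diag f).obj a ⟶ (FibCat.diag f).obj b := Groth.Agent.FC16.fpHom χ χ' (by
      change f.toFunctor.map χ ≫ 𝟙 _ = 𝟙 _ ≫ f.toFunctor.map χ'
      rw [Category.comp_id, Category.id_comp, h])
    have e := (FibCat.diag f).toFunctor.map_preimage g
    exact (congrArg (fun t => t.hom.fst) e).symm.trans (congrArg (fun t => t.hom.snd) e)⟩
  exact StAlg16.rep1_of_faithful h𝒳 h𝒴 f

end Groth.Agent.S12978
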