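import Groth.Statements.S12979
import Groth.Agent.Lib.StAlg16.DiagIff
import Groth.Agent.Lib.AlgSpace.UnivClosedQC

set_option autoImplicit false
universe u
open CategoryTheory AlgebraicGeometry
open AlgSt

namespace Groth.Agent.S12979
set_option linter.style.haveILetI false
set_option backward.isDefEq.respectTransparency false
set_option backward.isDefEq.respectTransparency.types false


/-- If the first and second diagonals of a morphism f of algebraic stacks are both universally closed
(as morphisms representable by algebraic spaces), then f is separated. (The published statement is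
an equivalence; this row states the implication from the two diagonals to separatedness.) -/
theorem result
    (S : Scheme.{u}) (𝒳 : AlgSt.Cat S) (𝒴 : AlgSt.Cat S)
    (h𝒳 : AlgSt.IsAlgStack Scheme.fppfPrecoverage 𝒳)
    (h𝒴 : AlgSt.IsAlgStack Scheme.fppfPrecoverage 𝒴)
    (f : 𝒳 ⥤ᵇ 𝒴) :
    AlgSt.RepByAlgSpWith AlgSp.IsUnivClosedMor (FibCat.diag f) →
      AlgSt.RepByAlgSpWith AlgSp.IsUnivClosedMor (FibCat.diag (FibCat.diag f)) → AlgSt.IsSeparatedMor f := by
  intro h h'
  have h1 := Groth.Agent.StAlg.rep1_diag h𝒳 h𝒴 f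
  have gX := h𝒳.isStack.1
  have gP := Groth.Agent.FC16.fp_isFibGrpd gX gX h𝒴.isStack.1 f f
  have h2 := Groth.Agent.StAlg16.with_inf (Groth.Agent.StAlg.preIso_of_pullback Groth.Agent.StAlg.pbP_isSeparatedMor) (Groth.Agent.StAlg.preIso_of_pullback Groth.Agent.StAlg16.pbP_isUnivClosedMor)
    gX gP ((Groth.Agent.StAlg16.with_separated_iff_univClosed_diag h1).2 h') h
  have h3 := Groth.Agent.StAlg16.with_inf (Groth.Agent.StAlg.preIso_of_pullback (Groth.Agent.StAlg.pbP_isSeparatedMor.inf Groth.Agent.StAlg16.pbP_isUnivClosedMor))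
    (Groth.Agent.StAlg.preIso_of_pullback Groth.Agent.StAlg.pbP_locP) gX gP h2 (Groth.Agent.StAlg.lft_diag h𝒳 h𝒴 f)
  exact Groth.Agent.StAlg.repByAlgSpWith_mono (fun _ hF U _ ha => ⟨ha.1.1, ⟨ha.2,
    Groth.Agent.AlgSpace.isQuasiCompactMor_of_isUnivClosedMor hF (AlgSp.IsAlgSpace.yon_obj U) ha.1.2⟩, ha.1.2⟩) h3

end Groth.Agent.S12979
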