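import Groth.Statements.S1298
import Groth.Agent.Lib.FibDim4.GenericFP
import Groth.Agent.Lib.FibreTop.Apps

set_option autoImplicit false
universe u
open FlatMor

set_option backward.isDefEq.respectTransparency.types false

namespace Groth.Agent.S1298

open AlgebraicGeometry CategoryTheory Limits Topology Groth.Agent

theorem nowhereDense_fibre_iff {X Y : Scheme.{u}} (f : X ⟶ Y) (Z : Set ↑X) (hZ : IsClosed Z) (y : Y) :
    IsNowhereDense ((f.fiberι y) ⁻¹' Z) ↔ f ⁻¹' {y} ⊆ closure (Zᶜ ∩ f ⁻¹' {y}) := by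
  rw [(hZ.preimage (f.fiberι y).continuous).isNowhereDense_iff, interior_eq_empty_iff_dense_compl,
    ← Set.preimage_compl, dense_iff_closure_eq, (f.fiberι y).isEmbedding.closure_eq_preimage_closure_image,
    Set.image_preimage_eq_inter_range, Set.preimage_eq_univ_iff, f.range_fiberι]

theorem exists_open_dense_fibres {W S : Scheme.{u}} [IsAffine W] [IsAffine S] (g : W ⟶ S) [LocallyOfFinitePresentation g]
    (O : Set ↑W) (hO : IsOpen O) (η : S) (hη : ∀ U : Set ↑S, IsOpen U → U.Nonempty → η ∈ U)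
    (h : g ⁻¹' {η} ⊆ closure (O ∩ g ⁻¹' {η})) :
    ∃ V : Set ↑S, IsOpen V ∧ η ∈ V ∧ ∀ s ∈ V, g ⁻¹' {s} ⊆ closure (O ∩ g ⁻¹' {s}) := by
  classical
  have : QuasiCompact g := inferInstance
  have : IsLocallyNoetherian (g.fiber η) :=
    have : LocallyOfFiniteType (g.fiberToSpecResidueField η) :=
      MorphismProperty.pullback_snd (P := @LocallyOfFiniteType) _ _ inferInstance
    LocallyOfFiniteType.isLocallyNoetherian (g.fiberToSpecResidueField η)
  have : CompactSpace (g.fiber η) :=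
    have : QuasiCompact (g.fiberToSpecResidueField η) :=
      MorphismProperty.pullback_snd (P := @QuasiCompact) _ _ inferInstance
    QuasiCompact.compactSpace_of_compactSpace (g.fiberToSpecResidueField η)
  have : IsNoetherian (g.fiber η) := {}
  have hcpt : IsCompact (O ∩ g ⁻¹' {η}) := by
    rw [← g.range_fiberι η, ← Set.image_preimage_eq_inter_range]
    exact (TopologicalSpace.NoetherianSpace.isCompact _).image (g.fiberι η).continuous
  have hbasis : ∀ x ∈ O ∩ g ⁻¹' {η}, ∃ U : Set ↑W, IsOpen U ∧ IsCompact U ∧ x ∈ U ∧ U ⊆ O := fun x hx => by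
    obtain ⟨U, ⟨hU1, hU2⟩, hxU, hUO⟩ := PrespectralSpace.isTopologicalBasis.exists_subset_of_mem_open hx.1 hO
    exact ⟨U, hU1, hU2, hxU, hUO⟩
  choose! U hU hUc hxU hUO using hbasis
  obtain ⟨t, ht, hcov⟩ := hcpt.elim_nhds_subcover U fun x hx => (hU x hx).mem_nhds (hxU x hx)
  let O' : Set ↑W := ⋃ x ∈ t, U x
  have hO'sub : O' ⊆ O := Set.iUnion₂_subset fun x hx => hUO x (ht x hx)
  have hO'c : IsCompact O' := t.isCompact_biUnion fun x hx => hUc x (ht x hx)
  have hO' : IsOpen O' := isOpen_biUnion fun x hx => hU x (ht x hx)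
  have hcons : IsConstructible {s : S | Set.univ ∩ g ⁻¹' {s} ⊆ closure (O' ∩ g ⁻¹' {s})} :=
    (FibreTop.isLocallyConstructible_setOf_dense (hO'c.isConstructible hO').isLocallyConstructible
      IsLocallyConstructible.univ).isConstructible
  have hmem : η ∈ {s : S | Set.univ ∩ g ⁻¹' {s} ⊆ closure (O' ∩ g ⁻¹' {s})} := by
    refine fun x hx => closure_mono ?_ (h hx.2)
    exact fun y hy => ⟨hcov hy, hy.2⟩
  obtain ⟨V, hV, hηV, hVs⟩ := FibDim4.exists_open_subset_of_isConstructible hcons hη hmem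
  exact ⟨V, hV, hηV, fun s hs x hx => closure_mono (Set.inter_subset_inter_left _ hO'sub) (hVs hs ⟨trivial, hx⟩)⟩

open AlgebraicGeometry CategoryTheory Limits in
/-- Let f be of finite type with irreducible target and let Z be a closed subset of the source whose
trace on the generic fibre is nowhere dense there. Then over some nonempty open of the target every
fibre of Z is nowhere dense in the corresponding fibre of f. -/
theorem result {X Y : Scheme.{u}} (f : X ⟶ Y) [IrreducibleSpace ↑Y] [LocallyOfFiniteType f] [QuasiCompact f]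
    (Z : Set ↑X) (hZ : IsClosed Z) (h : IsNowhereDense ((f.fiberι (genericPoint ↑Y)) ⁻¹' Z)) :
    ∃ V : Y.Opens, (V : Set ↑Y).Nonempty ∧ ∀ y ∈ V, IsNowhereDense ((f.fiberι y) ⁻¹' Z) := by
  classical
  rw [nowhereDense_fibre_iff f Z hZ] at h
  obtain ⟨D, _, i, _, hopen, ⟨η', hη'⟩, hlfp⟩ := FibDim4.exists_generic_fp f
  let f' := pullback.snd f i
  let pr := pullback.fst f i
  have hemb : IsEmbedding pr := (inferInstance : IsPreimmersion pr).isEmbedding
  have hopenpr : IsOpen (Set.range pr) := by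
    rw [Scheme.Pullback.range_fst f i]; exact hopen.preimage f.continuous
  have hoe : IsOpenEmbedding pr := ⟨hemb, hopenpr⟩
  have hiopen : IsOpenEmbedding i := ⟨i.isEmbedding, hopen⟩
  have hgen : ∀ U : Set ↑(Spec D), IsOpen U → U.Nonempty → η' ∈ U := fun U hU hne => by
    have := (genericPoint_spec ↑Y).mem_open_set_iff (hiopen.isOpenMap U hU) |>.2 (by
      obtain ⟨q, hq⟩ := hne
      exact ⟨i q, trivial, q, hq, rfl⟩)
    rw [← hη'] at this
    exact (i.isEmbedding.injective.mem_set_image).1 this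
  have hfib : ∀ q, pr '' (f' ⁻¹' {q}) = f ⁻¹' {i q} := fun q => by
    ext x
    constructor
    · rintro ⟨z, hz, rfl⟩
      change f (pr z) = i q
      rw [← Scheme.Hom.comp_apply, pullback.condition, Scheme.Hom.comp_apply]
      exact congrArg i hz
    · intro hx
      obtain ⟨z, rfl⟩ : x ∈ Set.range pr := by rw [Scheme.Pullback.range_fst f i]; exact ⟨q, hx.symm⟩
      refine ⟨z, i.isEmbedding.injective ?_, rfl⟩
      change i (f' z) = i q
      rw [← hx, ← Scheme.Hom.comp_apply, ← pullback.condition, Scheme.Hom.comp_apply]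
  have key : ∀ q, (f ⁻¹' {i q} ⊆ closure (Zᶜ ∩ f ⁻¹' {i q})) ↔
      f' ⁻¹' {q} ⊆ closure (pr ⁻¹' Zᶜ ∩ f' ⁻¹' {q}) := fun q => by
    rw [hemb.closure_eq_preimage_closure_image, Set.image_preimage_inter, ← Set.image_subset_iff, hfib]
  have : QuasiCompact f' := inferInstance
  have : CompactSpace ↑(pullback f i) := QuasiCompact.compactSpace_of_compactSpace f'
  let 𝒰 := (pullback f i).affineCover.finiteSubcover
  have : Finite 𝒰.I₀ := inferInstance
  have h0 : f' ⁻¹' {η'} ⊆ closure (pr ⁻¹' Zᶜ ∩ f' ⁻¹' {η'}) := (key η').1 (by rw [hη']; exact h)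
  have hk : ∀ k, ∃ V : Set ↑(Spec D), IsOpen V ∧ η' ∈ V ∧ ∀ q ∈ V,
      (𝒰.f k ≫ f') ⁻¹' {q} ⊆ closure ((𝒰.f k) ⁻¹' (pr ⁻¹' Zᶜ) ∩ (𝒰.f k ≫ f') ⁻¹' {q}) := fun k => by
    refine exists_open_dense_fibres (𝒰.f k ≫ f') _
      ((hZ.isOpen_compl.preimage pr.continuous).preimage (𝒰.f k).continuous) η' hgen ?_
    refine fun x hx => ?_
    rw [show (𝒰.f k ≫ f') ⁻¹' {η'} = (𝒰.f k) ⁻¹' (f' ⁻¹' {η'}) from rfl, ← Set.preimage_inter,
      ← (𝒰.f k).isOpenEmbedding.isOpenMap.preimage_closure_eq_closure_preimage (𝒰.f k).continuous]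
    exact h0 hx
  choose V hV hηV hVq using hk
  have hV' : IsOpen (⋂ k, V k) := isOpen_iInter_of_finite hV
  refine ⟨⟨i '' (⋂ k, V k), hiopen.isOpenMap _ hV'⟩, ⟨i η', η', Set.mem_iInter.2 hηV, rfl⟩, ?_⟩
  rintro y ⟨q, hq, rfl⟩
  rw [nowhereDense_fibre_iff f Z hZ, key]
  intro x hx
  obtain ⟨k, z, rfl⟩ := 𝒰.exists_eq x
  have := hVq k q (Set.mem_iInter.1 hq k) (show z ∈ (𝒰.f k ≫ f') ⁻¹' {q} from hx)
  rw [show (𝒰.f k ≫ f') ⁻¹' {q} = (𝒰.f k) ⁻¹' (f' ⁻¹' {q}) from rfl, ← Set.preimage_inter,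
    ← (𝒰.f k).isOpenEmbedding.isOpenMap.preimage_closure_eq_closure_preimage (𝒰.f k).continuous] at this
  exact this

end Groth.Agent.S1298
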