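import Groth.Statements.S12980
import Groth.Agent.Lib.StAlg16.DiagIff

set_option autoImplicit false
universe u
open CategoryTheory AlgebraicGeometry
open AlgSt

namespace Groth.Agent.S12980
set_option linter.style.haveILetI false
set_option backward.isDefEq.respectTransparency false
set_option backward.isDefEq.respectTransparency.types false


/-- A morphism f of algebraic stacks is quasi-separated if and only if its first and second diagonals
are both quasi-compact (as morphisms representable by algebraic spaces). -/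
theorem result
    (S : Scheme.{u}) (𝒳 : AlgSt.Cat S) (𝒴 : AlgSt.Cat S)
    (h𝒳 : AlgSt.IsAlgStack Scheme.fppfPrecoverage 𝒳)
    (h𝒴 : AlgSt.IsAlgStack Scheme.fppfPrecoverage 𝒴)
    (f : 𝒳 ⥤ᵇ 𝒴) :
    AlgSt.IsQuasiSeparatedMor f ↔
      AlgSt.RepByAlgSpWith AlgSp.IsQuasiCompactMor (FibCat.diag f) ∧
        AlgSt.RepByAlgSpWith AlgSp.IsQuasiCompactMor (FibCat.diag (FibCat.diag f)) := by
  have h1 := Groth.Agent.StAlg.rep1_diag h𝒳 h𝒴 f
  constructor
  · intro h
    exact ⟨Groth.Agent.StAlg.repByAlgSpWith_mono (fun _ _ _ _ ha => ha.1) h, (Groth.Agent.StAlg16.with_qs_iff_qc_diag h1).1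
      (Groth.Agent.StAlg.repByAlgSpWith_mono (fun _ _ _ _ ha => ha.2) h)⟩
  · rintro ⟨h, h'⟩
    exact Groth.Agent.StAlg16.with_inf (Groth.Agent.StAlg.preIso_of_pullback Groth.Agent.StAlg.pbP_isQuasiCompactMor) (Groth.Agent.StAlg.preIso_of_pullback Groth.Agent.StAlg.pbP_isQuasiSeparatedMor)
      h𝒳.isStack.1 (Groth.Agent.FC16.fp_isFibGrpd h𝒳.isStack.1 h𝒳.isStack.1 h𝒴.isStack.1 f f) h
      ((Groth.Agent.StAlg16.with_qs_iff_qc_diag h1).2 h')

end Groth.Agent.S12980
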