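import Groth.Statements.S12984
import Groth.Agent.Lib.StAlg16.QCMor

set_option autoImplicit false
universe u
open CategoryTheory AlgebraicGeometry
open AlgSt

namespace Groth.Agent.S12984
set_option linter.style.haveILetI false
set_option backward.isDefEq.respectTransparency false
set_option backward.isDefEq.respectTransparency.types false


/-- A closed immersion of algebraic stacks is quasi-compact. -/
theorem result
    (S : Scheme.{u}) (𝒳 : AlgSt.Cat S) (𝒴 : AlgSt.Cat S)
    (h𝒳 : AlgSt.IsAlgStack Scheme.fppfPrecoverage 𝒳)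
    (h𝒴 : AlgSt.IsAlgStack Scheme.fppfPrecoverage 𝒴)
    (f : 𝒳 ⥤ᵇ 𝒴) :
    AlgSt.IsClosedImm f → AlgSt.IsQuasiCompactMor Scheme.fppfPrecoverage f := by
  exact fun h => (Groth.Agent.StAlg16.with_qc_iff h𝒳 h𝒴 (Groth.Agent.StAlg.repByAlgSp1_of_with h)).1
    (Groth.Agent.StAlg.repByAlgSpWith_mono (fun _ hF U a ha =>
      (Groth.Agent.AlgSpace.repWith_quasiCompact_iff hF (AlgSp.IsAlgSpace.yon_obj U) ha.1).1
        (show AlgSp.RepWith @AlgebraicGeometry.QuasiCompact a from
          Groth.Agent.AlgSpace.repWith_mono (fun _ _ g hg => haveI : AlgebraicGeometry.IsClosedImmersion g := hg; (show AlgebraicGeometry.QuasiCompact g from inferInstance)) ha)) h)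

end Groth.Agent.S12984
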