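import Groth.Statements.S12985
import Groth.Agent.Lib.StAlg16.QCMor

set_option autoImplicit false
universe u
open CategoryTheory AlgebraicGeometry
open AlgSt

namespace Groth.Agent.S12985
set_option linter.style.haveILetI false
set_option backward.isDefEq.respectTransparency false
set_option backward.isDefEq.respectTransparency.types false


/-- In a 2-commutative triangle of algebraic stacks f : 𝒳 → 𝒴, p : 𝒳 → 𝒵, q : 𝒴 → 𝒵 with q ∘ f
2-isomorphic to p, if f is surjective (on points) and p is quasi-compact then q is quasi-compact. -/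
theorem result
    (S : Scheme.{u}) (𝒳 : AlgSt.Cat S) (𝒴 : AlgSt.Cat S) (𝒵 : AlgSt.Cat S)
    (h𝒳 : AlgSt.IsAlgStack Scheme.fppfPrecoverage 𝒳)
    (h𝒴 : AlgSt.IsAlgStack Scheme.fppfPrecoverage 𝒴)
    (h𝒵 : AlgSt.IsAlgStack Scheme.fppfPrecoverage 𝒵)
    (f : 𝒳 ⥤ᵇ 𝒴) (p : 𝒳 ⥤ᵇ 𝒵) (q : 𝒴 ⥤ᵇ 𝒵) (e : BasedFunctor.comp f q ≅ p) :
    AlgSt.IsSurjective f → AlgSt.IsQuasiCompactMor Scheme.fppfPrecoverage p → AlgSt.IsQuasiCompactMor Scheme.fppfPrecoverage q := by
  exact fun hfs hp => Groth.Agent.StAlg16.isQuasiCompactMor_of_triangle h𝒳 h𝒴 h𝒵 e hfs hp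

end Groth.Agent.S12985
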