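import Groth.Statements.S12987
import Groth.Agent.Lib.StAlg16.QSBase

set_option autoImplicit false
universe u
open CategoryTheory AlgebraicGeometry
open AlgSt

namespace Groth.Agent.S12987
set_option linter.style.haveILetI false
set_option backward.isDefEq.respectTransparency false
set_option backward.isDefEq.respectTransparency.types false


/-- Over a quasi-separated base scheme, a morphism from a quasi-compact algebraic stack to an algebraic
stack that is quasi-separated over the base scheme is quasi-compact. (The published statement
assumes the target quasi-separated over the integers and puts no condition on the base scheme; this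
row assumes the base scheme quasi-separated and the target quasi-separated over it, which together
imply the published hypothesis. Without quasi-separatedness of the base the relative form fails: for
the base glued from two copies of infinite-dimensional affine space along the complement of the
origin, the open immersion of one copy is a morphism from a quasi-compact stack to the base, which
is quasi-separated over itself, and it is not quasi-compact.) -/
theorem result
    (S : Scheme.{u}) [QuasiSeparatedSpace S] (𝒳 : AlgSt.Cat S) (𝒴 : AlgSt.Cat S)
    (h𝒳 : AlgSt.IsAlgStack Scheme.fppfPrecoverage 𝒳)
    (h𝒴 : AlgSt.IsAlgStack Scheme.fppfPrecoverage 𝒴)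
    (f : 𝒳 ⥤ᵇ 𝒴) :
    AlgSt.IsQuasiCompact 𝒳 → AlgSt.IsQuasiSeparatedOver 𝒴 → AlgSt.IsQuasiCompactMor Scheme.fppfPrecoverage f := by
  intro h hY
  exact Groth.Agent.StAlg16.isQuasiCompactMor_of_qc_of_qs h𝒳 h𝒴 f h (Groth.Agent.StAlg.repByAlgSpWith_mono (fun _ _ _ _ ha => ha.1) hY)

end Groth.Agent.S12987
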