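import Groth.Statements.S12988
import Groth.Agent.Lib.StAlg16.QSBase

set_option autoImplicit false
universe u
open CategoryTheory AlgebraicGeometry
open AlgSt

namespace Groth.Agent.S12988
set_option linter.style.haveILetI false
set_option backward.isDefEq.respectTransparency false
set_option backward.isDefEq.respectTransparency.types false


/-- Over a quasi-separated base scheme, a 2-fibre product of algebraic stacks that are quasi-compact and
quasi-separated over the base scheme is quasi-compact and quasi-separated over the base scheme. (The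
published statement is about stacks quasi-compact and quasi-separated over the integers and puts no
condition on the base scheme; this row assumes the base scheme quasi-separated and uses
quasi-separatedness over it. Without quasi-separatedness of the base the quasi-compactness
conclusion fails: for the base glued from two copies of infinite-dimensional affine space along the
complement of the origin, the two copies are quasi-compact and quasi-separated over the base while
their fibre product over the base is that complement, which is not quasi-compact.) -/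
theorem result
    (S : Scheme.{u}) [QuasiSeparatedSpace S] (𝒳 : AlgSt.Cat S) (𝒴 : AlgSt.Cat S) (𝒵 : AlgSt.Cat S)
    (h𝒳 : AlgSt.IsAlgStack Scheme.fppfPrecoverage 𝒳)
    (h𝒴 : AlgSt.IsAlgStack Scheme.fppfPrecoverage 𝒴)
    (h𝒵 : AlgSt.IsAlgStack Scheme.fppfPrecoverage 𝒵)
    (a : 𝒳 ⥤ᵇ 𝒴) (b : 𝒵 ⥤ᵇ 𝒴) :
    AlgSt.IsQuasiCompact 𝒳 → AlgSt.IsQuasiSeparatedOver 𝒳 →
      AlgSt.IsQuasiCompact 𝒴 → AlgSt.IsQuasiSeparatedOver 𝒴 →
      AlgSt.IsQuasiCompact 𝒵 → AlgSt.IsQuasiSeparatedOver 𝒵 →
      AlgSt.IsQuasiCompact (FibCat.fp a b) ∧ AlgSt.IsQuasiSeparatedOver (FibCat.fp a b) := by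
  intro hX qX _ qY hZ qZ
  have gX := h𝒳.isStack.1
  have gY := h𝒴.isStack.1
  have gZ := h𝒵.isStack.1
  refine ⟨Groth.Agent.StAlg16.isQuasiCompactMor_of_qc_of_qs h𝒵 h𝒴 b hZ (Groth.Agent.StAlg.repByAlgSpWith_mono (fun _ _ _ _ ha => ha.1) qY)
    𝒳 h𝒳 hX a, ?_⟩
  have hb : AlgSt.IsQuasiSeparatedMor b :=
    Groth.Agent.StAlg.isQuasiSeparatedMor_of_comp (g := FibCat.toSelf 𝒴) gZ gY Groth.Agent.FC16.selfOver_isFibGrpd
      (Groth.Agent.StAlg.with_diag_of_iso (eqToIso (Groth.Agent.FC16.selfOver_functor_eq _ _)) qZ)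
      (Groth.Agent.StAlg.repByAlgSpWith_mono (fun _ _ _ _ ha => ha.2) qY)
  exact Groth.Agent.StAlg.with_diag_of_iso (eqToIso (Groth.Agent.FC16.selfOver_functor_eq _ _))
    (Groth.Agent.StAlg.with_diag_comp (Groth.Agent.StAlg.goodP_isQuasiCompactMor.inf Groth.Agent.StAlg.goodP_isQuasiSeparatedMor)
      (Groth.Agent.FC16.fp_isFibGrpd gX gZ gY a b) gX (Groth.Agent.StAlg.with_diag_fpFst b a hb) qX)

end Groth.Agent.S12988
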