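import Groth.Statements.S12996
import Groth.Agent.Lib.StAlg16.LocQApps

set_option autoImplicit false
universe u
open CategoryTheory AlgebraicGeometry
open AlgSt

namespace Groth.Agent.S12996
set_option linter.style.haveILetI false
set_option backward.isDefEq.respectTransparency false
set_option backward.isDefEq.respectTransparency.types false


/-- An immersion of algebraic stacks is locally of finite type. -/
theorem result
    (S : Scheme.{u}) (𝒳 : AlgSt.Cat S) (𝒴 : AlgSt.Cat S)
    (h𝒳 : AlgSt.IsAlgStack Scheme.fppfPrecoverage 𝒳)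
    (h𝒴 : AlgSt.IsAlgStack Scheme.fppfPrecoverage 𝒴)
    (f : 𝒳 ⥤ᵇ 𝒴) :
    AlgSt.IsImm f → AlgSt.LocQ (AlgSp.LocP @LocallyOfFiniteType) f := by
  exact fun hf => Groth.Agent.StAlg16.locQ_of_imm (R := @AlgebraicGeometry.LocallyOfFiniteType) Groth.Agent.StAlg16.isSmoothLocalST_lft
    Groth.Agent.StAlg.isLocalOnBase_fppf_locP_lft (fun _ _ g (_ : AlgebraicGeometry.IsImmersion g) => inferInstance) h𝒳 h𝒴 hf

end Groth.Agent.S12996
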