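import Groth.Statements.S13000
import Groth.Agent.Lib.StAlg16.LocQApps

set_option autoImplicit false
universe u
open CategoryTheory AlgebraicGeometry
open AlgSt

namespace Groth.Agent.S13000
set_option linter.style.haveILetI false
set_option backward.isDefEq.respectTransparency false
set_option backward.isDefEq.respectTransparency.types false


/-- Let f : 𝒳 → 𝒴 be a morphism of algebraic stacks and W → 𝒴 a surjective, flat, locally finitely
presented morphism whose source is an algebraic space. Whenever the projection to W from W ×_𝒴 𝒳 is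
locally of finite type, so is f. -/
theorem result
    (S : Scheme.{u}) (𝒳 : AlgSt.Cat S) (𝒴 : AlgSt.Cat S)
    (h𝒳 : AlgSt.IsAlgStack Scheme.fppfPrecoverage 𝒳)
    (h𝒴 : AlgSt.IsAlgStack Scheme.fppfPrecoverage 𝒴)
    (f : 𝒳 ⥤ᵇ 𝒴)
    (W : AlgSp.Space S) (w : AlgSt.ofSp W.obj ⥤ᵇ 𝒴)
    (hw₁ : AlgSt.RepByAlgSpWith (AlgSp.LocP @Flat) w)
    (hw₂ : AlgSt.RepByAlgSpWith (AlgSp.LocP @LocallyOfFinitePresentation) w)
    (hw₃ : AlgSt.RepByAlgSpWith AlgSp.IsSurjectiveMor w) :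
    AlgSt.LocQ (AlgSp.LocP @LocallyOfFiniteType) (FibCat.fpFst w f) → AlgSt.LocQ (AlgSp.LocP @LocallyOfFiniteType) f := by
  have hW : AlgSt.IsAlgStack Scheme.fppfPrecoverage (AlgSt.ofSp W.obj) :=
    (Groth.Agent.StAlg.isDM_of_rep (𝒳 := AlgSt.ofSp W.obj) ⟨W, CategoryTheory.BasedFunctor.id _, Groth.Agent.FC16.isEquivOver_id⟩).1
  have hw := Groth.Agent.StAlg.repByAlgSp1_of_with hw₁
  exact fun h => Groth.Agent.StAlg16.locQ_of_fpFst Groth.Agent.StAlg16.isSmoothLocalST_lft Groth.Agent.StAlg.isLocalOnBase_fppf_locP_lft h𝒳 h𝒴 hW w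
    ((Groth.Agent.StAlg16.locQ_iff_with Groth.Agent.StAlg16.isSmoothLocalST_flat Groth.Agent.StAlg.pbP_locP Groth.Agent.StAlg16.isLocalOnBase_fppf_locP_flat hW h𝒴 hw).2 hw₁)
    ((Groth.Agent.StAlg16.locQ_iff_with Groth.Agent.StAlg16.isSmoothLocalST_lfp Groth.Agent.StAlg.pbP_locP Groth.Agent.StAlg16.isLocalOnBase_fppf_locP_lfp hW h𝒴 hw).2 hw₂)
    (Groth.Agent.StAlg16.isSurjective_of_with h𝒴.isStack.1 hw₃) h

end Groth.Agent.S13000
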