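import Groth.Statements.S13001
import Groth.Agent.Lib.StAlg16.LocQApps
import Groth.Agent.Lib.StAlg16.Topology
import Groth.Agent.Lib.AlgSpDescent.FppfComp

set_option autoImplicit false
universe u
open CategoryTheory AlgebraicGeometry
open AlgSt

namespace Groth.Agent.S13001
set_option linter.style.haveILetI false
set_option backward.isDefEq.respectTransparency false
set_option backward.isDefEq.respectTransparency.types false
open Groth.Agent.StAlg Groth.Agent.StAlg16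


/-- Let 𝒳 → 𝒴 → 𝒵 be morphisms of algebraic stacks with 𝒳 → 𝒵 locally of finite type and with 𝒳 → 𝒴
flat, surjective, locally of finite presentation and representable by algebraic spaces. In this
situation 𝒴 → 𝒵 is also locally of finite type. -/
theorem result
    (S : Scheme.{u}) (𝒳 : AlgSt.Cat S) (𝒴 : AlgSt.Cat S) (𝒵 : AlgSt.Cat S)
    (h𝒳 : AlgSt.IsAlgStack Scheme.fppfPrecoverage 𝒳)
    (h𝒴 : AlgSt.IsAlgStack Scheme.fppfPrecoverage 𝒴)
    (h𝒵 : AlgSt.IsAlgStack Scheme.fppfPrecoverage 𝒵)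
    (f : 𝒳 ⥤ᵇ 𝒴) (g : 𝒴 ⥤ᵇ 𝒵)
    (hf₁ : AlgSt.RepByAlgSpWith (AlgSp.LocP @Flat) f)
    (hf₂ : AlgSt.RepByAlgSpWith (AlgSp.LocP @LocallyOfFinitePresentation) f)
    (hf₃ : AlgSt.RepByAlgSpWith AlgSp.IsSurjectiveMor f) :
    AlgSt.LocQ (AlgSp.LocP @LocallyOfFiniteType) (BasedFunctor.comp f g) → AlgSt.LocQ (AlgSp.LocP @LocallyOfFiniteType) g := by
  have hq₁ : AlgSt.LocQ (AlgSp.LocP @Flat) f :=
    (locQ_iff_with isSmoothLocalST_flat pbP_locP isLocalOnBase_fppf_locP_flat h𝒳 h𝒴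
      (repByAlgSp1_of_with hf₁)).2 hf₁
  have hq₂ : AlgSt.LocQ (AlgSp.LocP @LocallyOfFinitePresentation) f :=
    (locQ_iff_with isSmoothLocalST_lfp pbP_locP isLocalOnBase_fppf_locP_lfp h𝒳 h𝒴
      (repByAlgSp1_of_with hf₂)).2 hf₂
  have hq₃ : AlgSt.IsSurjective f := isSurjective_of_with h𝒴.isStack.1 hf₃
  intro hfg
  have gX := h𝒳.isStack.1; have gY := h𝒴.isStack.1; have gZ := h𝒵.isStack.1
  obtain ⟨U, V, W, z, y, cg, l, jg, c, h, j, c', j', hz, hzs, hy, hys, hcg, hcgs, hc, hcs, hc'⟩ :=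
    exists_comp_square h𝒳 h𝒴 h𝒵 f g
  haveI : LocallyOfFiniteType (h.left ≫ l.left) :=
    (locP_yon_iff (h ≫ l)).1 (of_locQ isSmoothLocalST_lft gX gZ hfg hz j' hc')
  haveI : Flat h.left := (locP_yon_iff h).1 (of_locQ isSmoothLocalST_flat gX gY hq₁ hy j hc)
  haveI : LocallyOfFinitePresentation h.left :=
    (locP_yon_iff h).1 (of_locQ isSmoothLocalST_lfp gX gY hq₂ hy j hc)
  haveI : Surjective h.left := ⟨surjective_left_of_good gX gY hq₃ j hcs⟩
  exact locQ_of_good gY gZ hz hzs jg hcg hcgs ((locP_yon_iff l).2 (AlgSpDescent.locallyOfFiniteType_of_fppf_comp h.left l.left inferInstance inferInstance inferInstance inferInstance))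

end Groth.Agent.S13001
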