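import Groth.Statements.S13006
import Groth.Agent.Lib.StAlg16.DiagCover
import Groth.Agent.Lib.StAlg16.QCMor
import Groth.Agent.Lib.StAlg16.LocQApps
import Groth.Agent.Lib.AlgSpace.DiagChart

set_option autoImplicit false
universe u
open CategoryTheory AlgebraicGeometry
open AlgSt

namespace Groth.Agent.S13006
set_option linter.style.haveILetI false
set_option backward.isDefEq.respectTransparency false
set_option backward.isDefEq.respectTransparency.types false


/-- If a morphism f of algebraic stacks is locally of finite type then its diagonal is locally of finite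
presentation. (The second assertion adds the quasi-compactness clauses on both sides.) -/
theorem result
    (S : Scheme.{u}) (𝒳 : AlgSt.Cat S) (𝒴 : AlgSt.Cat S)
    (h𝒳 : AlgSt.IsAlgStack Scheme.fppfPrecoverage 𝒳)
    (h𝒴 : AlgSt.IsAlgStack Scheme.fppfPrecoverage 𝒴)
    (f : 𝒳 ⥤ᵇ 𝒴) :
    AlgSt.LocQ (AlgSp.LocP @LocallyOfFiniteType) f → AlgSt.LocQ (AlgSp.LocP @LocallyOfFinitePresentation) (FibCat.diag f) := by
  intro hf
  obtain ⟨U, x, hsm, hsu⟩ := h𝒳.atlas
  have gU := Groth.Agent.StAlg16.isAlgStack_overCat U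
  have hxf := (Groth.Agent.StAlg.rep1_diag_iff h𝒴.isStack.1).1 h𝒴.diag U (BasedFunctor.comp x f)
  have L := Groth.Agent.StAlg16.isSmoothLocalST_lft (S := S)
  have hk : AlgSt.RepByAlgSpWith (AlgSp.LocP @LocallyOfFiniteType) (BasedFunctor.comp x f) :=
    (Groth.Agent.StAlg16.locQ_iff_with L Groth.Agent.StAlg.pbP_locP Groth.Agent.StAlg.isLocalOnBase_fppf_locP_lft
      gU h𝒴 hxf).1 (Groth.Agent.StAlg16.locQ_comp L
        (fun X Y Z hX hY hZ a b ha hb => Groth.Agent.AlgSpace.locP_comp hX hY hZ ha hb) gU h𝒳 h𝒴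
        ((Groth.Agent.StAlg16.locQ_iff_with L Groth.Agent.StAlg.pbP_locP
          Groth.Agent.StAlg.isLocalOnBase_fppf_locP_lft gU h𝒳
          ((Groth.Agent.StAlg.rep1_diag_iff h𝒳.isStack.1).1 h𝒳.diag U x)).2
          (Groth.Agent.StAlg.with_locP_mono Groth.Agent.StAlg.smooth_le_lft hsm)) hf)
  have h := Groth.Agent.StAlg16.with_diag_of_cover (R := @LocallyOfFinitePresentation)
    Groth.Agent.StAlg16.isLocalOnBase_fppf_locP_lfp (fun X hX V a ha => Groth.Agent.StAlg16.locP_lfp_diagonal hX a ha)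
    h𝒳 h𝒴 gU.isStack.1 (Groth.Agent.StAlg.with_locP_mono Groth.Agent.StAlg.smooth_le_flat hsm)
    (Groth.Agent.StAlg.with_locP_mono Groth.Agent.StAlg.smooth_le_lfp hsm) hsu
    (Groth.Agent.StAlg.with_locP_mono Groth.Agent.StAlg.smooth_le_lfp hsm) hk
  exact (Groth.Agent.StAlg16.locQ_iff_with Groth.Agent.StAlg16.isSmoothLocalST_lfp Groth.Agent.StAlg.pbP_locP
    Groth.Agent.StAlg16.isLocalOnBase_fppf_locP_lfp h𝒳 (Groth.Agent.StAlg16.isAlgStack_fp' h𝒳 h𝒳 h𝒴 f f)
    (Groth.Agent.StAlg.repByAlgSp1_of_with h)).2 h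

end Groth.Agent.S13006
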