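import Groth.Statements.S13007
import Groth.Agent.Lib.StAlg16.LocQApps
import Groth.Agent.Lib.FppfSource.Scheme

set_option autoImplicit false
universe u
open CategoryTheory AlgebraicGeometry
open AlgSt

namespace Groth.Agent.S13007
set_option linter.style.haveILetI false
set_option backward.isDefEq.respectTransparency false
set_option backward.isDefEq.respectTransparency.types false
open Groth.Agent.StAlg Groth.Agent.StAlg16


/-- Let 𝒳 → 𝒴 → 𝒵 be morphisms of algebraic stacks with 𝒳 → 𝒵 locally of finite presentation and 𝒳 → 𝒴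
flat, surjective and locally of finite presentation. In that case 𝒴 → 𝒵 is locally of finite
presentation as well. -/
theorem result
    (S : Scheme.{u}) (𝒳 : AlgSt.Cat S) (𝒴 : AlgSt.Cat S) (𝒵 : AlgSt.Cat S)
    (h𝒳 : AlgSt.IsAlgStack Scheme.fppfPrecoverage 𝒳)
    (h𝒴 : AlgSt.IsAlgStack Scheme.fppfPrecoverage 𝒴)
    (h𝒵 : AlgSt.IsAlgStack Scheme.fppfPrecoverage 𝒵)
    (f : 𝒳 ⥤ᵇ 𝒴) (g : 𝒴 ⥤ᵇ 𝒵)
    (hf₁ : AlgSt.LocQ (AlgSp.LocP @Flat) f) (hf₂ : AlgSt.LocQ (AlgSp.LocP @LocallyOfFinitePresentation) f) (hf₃ : AlgSt.IsSurjective f) :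
    AlgSt.LocQ (AlgSp.LocP @LocallyOfFinitePresentation) (BasedFunctor.comp f g) → AlgSt.LocQ (AlgSp.LocP @LocallyOfFinitePresentation) g := by
  have hq₁ := hf₁; have hq₂ := hf₂; have hq₃ := hf₃
  intro hfg
  have gX := h𝒳.isStack.1; have gY := h𝒴.isStack.1; have gZ := h𝒵.isStack.1
  obtain ⟨U, V, W, z, y, cg, l, jg, c, h, j, c', j', hz, hzs, hy, hys, hcg, hcgs, hc, hcs, hc'⟩ :=
    exists_comp_square h𝒳 h𝒴 h𝒵 f g
  haveI : LocallyOfFinitePresentation (h.left ≫ l.left) :=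
    (locP_yon_iff (h ≫ l)).1 (of_locQ isSmoothLocalST_lfp gX gZ hfg hz j' hc')
  haveI : Flat h.left := (locP_yon_iff h).1 (of_locQ isSmoothLocalST_flat gX gY hq₁ hy j hc)
  haveI : LocallyOfFinitePresentation h.left :=
    (locP_yon_iff h).1 (of_locQ isSmoothLocalST_lfp gX gY hq₂ hy j hc)
  haveI : Surjective h.left := ⟨surjective_left_of_good gX gY hq₃ j hcs⟩
  exact locQ_of_good gY gZ hz hzs jg hcg hcgs ((locP_yon_iff l).2 (FppfSource.locallyOfFinitePresentation_of_fppf_comp h.left l.left))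

end Groth.Agent.S13007
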