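import Groth.Statements.S13019
import Groth.Agent.Lib.StAlg16.QC

set_option autoImplicit false
universe u
open CategoryTheory AlgebraicGeometry
open AlgSt

namespace Groth.Agent.S13019
set_option linter.style.haveILetI false
set_option backward.isDefEq.respectTransparency false
set_option backward.isDefEq.respectTransparency.types false


/-- If 𝒳 is a locally Noetherian algebraic stack then its space of points is a locally Noetherian
topological space: every point has an open neighbourhood which is a Noetherian topological space. -/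
theorem result
    (S : Scheme.{u}) (𝒳 : AlgSt.Cat S)
    (h𝒳 : AlgSt.IsAlgStack Scheme.fppfPrecoverage 𝒳) :
    AlgSt.SmoothLocally (fun T ↦ IsLocallyNoetherian T) 𝒳 → ∀ x : AlgSt.Points 𝒳, ∃ U : Set (AlgSt.Points 𝒳), IsOpen U ∧ x ∈ U ∧ TopologicalSpace.NoetherianSpace U := by
  intro hN p
  obtain ⟨U, x, hsm, hsu⟩ := h𝒳.atlas
  haveI := hN U x hsm
  have hs := Groth.Agent.StAlg16.surjective_ofChart h𝒳.isStack.1 hsu
  obtain ⟨t, rfl⟩ := hs p
  obtain ⟨W, hW, htW, -⟩ := AlgebraicGeometry.exists_isAffineOpen_mem_and_subset (X := U.left) (x := t) (U := ⊤) trivial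
  haveI := IsLocallyNoetherian.component_noetherian (X := U.left) ⟨W, hW⟩
  haveI : TopologicalSpace.NoetherianSpace (W : Set U.left) := noetherianSpace_of_isAffineOpen W hW
  refine ⟨AlgSt.Points.ofChart x '' (W : Set U.left),
    Groth.Agent.StAlg16.isOpenMap_ofChart h𝒳.isStack.1
      (Groth.Agent.StAlg.with_locP_mono Groth.Agent.StAlg.smooth_le_flat hsm)
      (Groth.Agent.StAlg.with_locP_mono Groth.Agent.StAlg.smooth_le_lfp hsm) _ W.isOpen, ⟨t, htW, rfl⟩, ?_⟩
  rw [Set.image_eq_range]
  exact TopologicalSpace.NoetherianSpace.range _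
    ((Groth.Agent.StAlg16.continuous_ofChart h𝒳 x).comp continuous_subtype_val)

end Groth.Agent.S13019
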