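import Groth.Statements.S13021
import Groth.Agent.Lib.StAlg16.Topology

set_option autoImplicit false
universe u
open CategoryTheory AlgebraicGeometry
open AlgSt

namespace Groth.Agent.S13021
set_option linter.style.haveILetI false
set_option backward.isDefEq.respectTransparency false
set_option backward.isDefEq.respectTransparency.types false


/-- The space of points of a locally Noetherian algebraic stack is quasi-sober: every irreducible closed
subset has a generic point. -/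
theorem result
    (S : Scheme.{u}) (𝒳 : AlgSt.Cat S)
    (h𝒳 : AlgSt.IsAlgStack Scheme.fppfPrecoverage 𝒳) :
    AlgSt.SmoothLocally (fun T ↦ IsLocallyNoetherian T) 𝒳 → QuasiSober (AlgSt.Points 𝒳) := by
  intro hN
  refine ⟨fun {Z} hZ hZc => ?_⟩
  obtain ⟨U, x, hsm, hsu⟩ := h𝒳.atlas
  haveI : IsLocallyNoetherian U.left := hN U x hsm
  have hc := StAlg16.continuous_ofChart h𝒳 x
  have ho := StAlg16.isOpenMap_ofChart h𝒳.isStack.1
    (StAlg.with_locP_mono StAlg.smooth_le_flat hsm)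
    (StAlg.with_locP_mono StAlg.smooth_le_lfp hsm)
  obtain ⟨z, hz⟩ := hZ.nonempty
  obtain ⟨t, rfl⟩ := StAlg16.surjective_ofChart h𝒳.isStack.1 hsu z
  obtain ⟨_, ⟨A, hA, rfl⟩, ht, -⟩ :=
    U.left.isBasis_affineOpens.exists_subset_of_mem_open (Set.mem_univ t) isOpen_univ
  haveI := IsLocallyNoetherian.component_noetherian (X := U.left) ⟨A, hA⟩
  haveI : TopologicalSpace.NoetherianSpace ↥A := noetherianSpace_of_isAffineOpen A hA
  haveI : QuasiSober ↥A := (IsOpen.isOpenEmbedding_subtypeVal A.isOpen).quasiSober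
  let g : A → AlgSt.Points 𝒳 := fun a => AlgSt.Points.ofChart x a.1
  have hg : Continuous g := hc.comp continuous_subtype_val
  obtain ⟨T, hTf, hTc, hTi, hTu⟩ :=
    TopologicalSpace.NoetherianSpace.exists_finite_set_isClosed_irreducible (hZc.preimage hg)
  obtain ⟨T, rfl⟩ : ∃ T' : Finset _, (T' : Set _) = T := ⟨hTf.toFinset, hTf.coe_toFinset⟩
  classical
  let W : Finset (Set (AlgSt.Points 𝒳)) :=
    T.attach.image fun s => closure {g (hTi s.1 s.2).genericPoint}
  have hsub : Z ∩ AlgSt.Points.ofChart x '' A ⊆ ⋃₀ (W : Set (Set (AlgSt.Points 𝒳))) := by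
    rintro _ ⟨hz', a, ha, rfl⟩
    obtain ⟨s, hs, has⟩ : (⟨a, ha⟩ : ↥A) ∈ ⋃₀ (T : Set (Set ↥A)) := hTu ▸ hz'
    refine ⟨_, Finset.mem_coe.2 (Finset.mem_image_of_mem _ (Finset.mem_attach _ ⟨s, hs⟩)), ?_⟩
    have h1 := (hTi s hs).isGenericPoint_genericPoint (hTc s hs)
    rw [← h1.def] at has
    exact image_closure_subset_closure_image hg ⟨_, has, rfl⟩ |> (by rwa [Set.image_singleton] at ·)
  have hZsub : Z ⊆ ⋃₀ (W : Set (Set (AlgSt.Points 𝒳))) := by
    refine (subset_closure_inter_of_isPreirreducible_of_isOpen hZ.isPreirreducible (ho _ A.isOpen)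
      ⟨_, hz, t, ht, rfl⟩).trans ?_
    refine closure_minimal hsub ?_
    rw [Set.sUnion_eq_biUnion]
    refine W.finite_toSet.isClosed_biUnion fun w hw => ?_
    obtain ⟨s, -, rfl⟩ := Finset.mem_image.1 hw
    exact isClosed_closure
  obtain ⟨w, hw, hZw⟩ := isIrreducible_iff_sUnion_isClosed.1 hZ W (fun w hw => by
    obtain ⟨s, -, rfl⟩ := Finset.mem_image.1 hw
    exact isClosed_closure) hZsub
  obtain ⟨s, -, rfl⟩ := Finset.mem_image.1 hw
  refine ⟨g (hTi s.1 s.2).genericPoint, Set.Subset.antisymm ?_ hZw⟩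
  refine closure_minimal (Set.singleton_subset_iff.2 ?_) hZc
  have h1 := (hTi s.1 s.2).isGenericPoint_genericPoint (hTc s.1 s.2)
  have h2 : (hTi s.1 s.2).genericPoint ∈ s.1 := h1.mem
  exact (hTu ▸ Set.mem_sUnion_of_mem h2 s.2 : (hTi s.1 s.2).genericPoint ∈ g ⁻¹' Z)

end Groth.Agent.S13021
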