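import Groth.Statements.S1303
import Groth.Agent.Lib.Thick4

set_option autoImplicit false
universe u
open FlatMor

set_option backward.isDefEq.respectTransparency.types false

namespace Groth.Agent.S1303

open AlgebraicGeometry CategoryTheory Limits in
/-- For a morphism of thickenings, that is a commutative square whose horizontal maps are thickenings
(closed immersions that are surjective on points), the morphism between the thin schemes is
quasi-compact if and only if the morphism between the thick ones is. -/
theorem result {X X' S S' : Scheme.{u}} (iX : X ⟶ X') (iS : S ⟶ S') (f : X ⟶ S) (f' : X' ⟶ S')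
    (hX : MoreMor.IsThickening iX) (hS : MoreMor.IsThickening iS) (w : iX ≫ f' = f ≫ iS) :
    QuasiCompact f ↔ QuasiCompact f' := by
  haveI := hX.1; haveI := hX.2; haveI := hS.1; haveI := hS.2
  constructor
  · intro h
    haveI : QuasiCompact (iX ≫ f') := w ▸ inferInstance
    exact Groth.Agent.Thick4.quasiCompact_of_comp_surjective iX f'
  · intro h
    haveI : QuasiCompact (f ≫ iS) := w ▸ inferInstance
    exact QuasiCompact.of_comp f iS

end Groth.Agent.S1303
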