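import Groth.Statements.S13036
import Groth.Agent.Lib.StAlg16.ValWitness

set_option autoImplicit false
universe u
open CategoryTheory AlgebraicGeometry
open AlgSt

namespace Groth.Agent.S13036

/-- Let f : 𝒳 → 𝒴 be a quasi-compact morphism of algebraic stacks and y a point of |𝒴| in the closure of
the image of |f|. Then there are a valuation ring A with fraction field K and a 2-commutative square
Spec K → 𝒳, Spec A → 𝒴 (over Spec K → Spec A and f) such that the closed point of Spec A maps to y. -/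
theorem result
    (S : Scheme.{u}) (𝒳 : AlgSt.Cat S) (𝒴 : AlgSt.Cat S)
    (h𝒳 : AlgSt.IsAlgStack Scheme.fppfPrecoverage 𝒳)
    (h𝒴 : AlgSt.IsAlgStack Scheme.fppfPrecoverage 𝒴)
    (f : 𝒳 ⥤ᵇ 𝒴)
    (hf : AlgSt.IsQuasiCompactMor Scheme.fppfPrecoverage f)
    (y : AlgSt.Points 𝒴) (hy : y ∈ closure (Set.range (AlgSt.Points.map f))) :
    ∃ (A : Type u) (_ : CommRing A) (_ : IsDomain A) (_ : ValuationRing A) (sA : Spec (CommRingCat.of A) ⟶ S)
      (a : FibCat.overCat (Over.mk sA) ⥤ᵇ 𝒴)
      (x : FibCat.overCat (Over.mk (Spec.map (CommRingCat.ofHom (algebraMap A (FractionRing A))) ≫ sA)) ⥤ᵇ 𝒳),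
      Nonempty (BasedFunctor.comp x f ≅
        BasedFunctor.comp (AlgSt.overMap (Over.homMk (Spec.map (CommRingCat.ofHom (algebraMap A (FractionRing A)))) rfl :
          Over.mk (Spec.map (CommRingCat.ofHom (algebraMap A (FractionRing A))) ≫ sA) ⟶ Over.mk sA)) a) ∧
      AlgSt.Points.ofChart a (IsLocalRing.closedPoint A) = y := by
  exact Groth.Agent.StAlg16.exists_valuationRing_witness h𝒳 h𝒴 f hf y hy

end Groth.Agent.S13036
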