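import Groth.Statements.S13041
import Mathlib.Tactic
import Mathlib.Data.Set.Card
import Mathlib.Algebra.BigOperators.Fin
import Mathlib.Algebra.Order.Chebyshev
import Mathlib.Analysis.Calculus.ContDiff.Deriv
import Mathlib.Analysis.Calculus.ParametricIntervalIntegral
import Mathlib.MeasureTheory.Integral.IntervalIntegral.FundThmCalculus
import Mathlib.RingTheory.Polynomial.Pochhammer
import Mathlib.Algebra.Algebra.Rat
import Mathlib.RingTheory.TensorProduct.Basic
import Mathlib.RingTheory.Localization.BaseChange
import Mathlib.RingTheory.Flat.TorsionFree
import Mathlib.RingTheory.MvPolynomial.Basic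
import Mathlib.RingTheory.Ideal.Quotient.Operations
import Mathlib.RingTheory.LocalRing.Basic
import Mathlib.Algebra.CharP.Lemmas

set_option autoImplicit false
universe u
open MaxMod

open TensorProduct

namespace Groth.Agent.S13041

/-- Let R be a domain with fraction field K, let A → B be a homomorphism of commutative R-algebras that
are flat over R, with B module-finite over A, such that the induced map K ⊗_R A → K ⊗_R B is
bijective. If the A-linear map Hom_A(B, A) → A evaluating at 1 is surjective, then A → B is
bijective. (The published statement concerns a finite morphism of flat schemes over a discrete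
valuation ring, with locally free relative dualizing sheaves, that is an isomorphism over a
schematically dense open and whose trace map on dualizing sheaves is surjective; this row is the
statement about rings to which the printed proof reduces it and which that proof establishes, and
the argument uses only that R is a domain.) -/
theorem result
    (R K A B : Type u) [CommRing R] [IsDomain R] [Field K] [Algebra R K] [IsFractionRing R K]
    [CommRing A] [CommRing B] [Algebra R A] [Algebra R B] [Algebra A B] [IsScalarTower R A B]
    [Module.Flat R A] [Module.Flat R B] [Module.Finite A B]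
    (hK : Function.Bijective
      (Algebra.TensorProduct.map (AlgHom.id R K) (IsScalarTower.toAlgHom R A B)))
    (htr : Function.Surjective (fun u : B →ₗ[A] A => u 1)) :
    Function.Bijective (algebraMap A B) := by
  obtain ⟨u, hu⟩ := htr 1
  simp only at hu
  have hua : ∀ a, u (algebraMap A B a) = a := fun a => by
    rw [Algebra.algebraMap_eq_smul_one, map_smul, hu, smul_eq_mul, mul_one]
  refine ⟨fun a a' h => by rw [← hua a, h, hua], fun b => ⟨u b, ?_⟩⟩
  obtain ⟨t, ht⟩ := hK.2 ((1 : K) ⊗ₜ[R] b)
  obtain ⟨⟨a, s⟩, has⟩ := IsLocalizedModule.surj (nonZeroDivisors R) (TensorProduct.mk R K A 1) t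
  have hs : (s : R) • b = algebraMap A B a := by
    have h1 := congrArg (fun z => Algebra.TensorProduct.map (AlgHom.id R K) (IsScalarTower.toAlgHom R A B) z) has
    simp only [Submonoid.smul_def, map_smul, ht, TensorProduct.mk_apply, Algebra.TensorProduct.map_tmul,
      AlgHom.coe_id, id_eq, IsScalarTower.coe_toAlgHom'] at h1
    obtain ⟨c, hc⟩ := IsLocalizedModule.exists_of_eq (S := nonZeroDivisors R)
      (f := TensorProduct.mk R K B 1) (x₁ := (s : R) • b) (x₂ := algebraMap A B a)
      (by rw [map_smul, TensorProduct.mk_apply, TensorProduct.mk_apply, h1])
    rw [Submonoid.smul_def, Submonoid.smul_def] at hc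
    exact Module.IsTorsionFree.isSMulRegular (isRegular_of_ne_zero (nonZeroDivisors.ne_zero c.2)) hc
  have h2 : (s : R) • algebraMap A B (u b) = (s : R) • b := by
    have := congrArg (fun z => algebraMap A B (u z)) hs
    simp only [hua, LinearMap.map_smul_of_tower] at this
    rw [hs, ← this, ← IsScalarTower.toAlgHom_apply R, ← IsScalarTower.toAlgHom_apply R, map_smul]
  exact Module.IsTorsionFree.isSMulRegular (isRegular_of_ne_zero (nonZeroDivisors.ne_zero s.2)) h2

end Groth.Agent.S13041
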