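import Groth.Statements.S13042
import Mathlib.Tactic
import Mathlib.Data.Set.Card
import Mathlib.Algebra.BigOperators.Fin
import Mathlib.Algebra.Order.Chebyshev
import Mathlib.Analysis.Calculus.ContDiff.Deriv
import Mathlib.Analysis.Calculus.ParametricIntervalIntegral
import Mathlib.MeasureTheory.Integral.IntervalIntegral.FundThmCalculus
import Mathlib.RingTheory.Polynomial.Pochhammer
import Mathlib.Algebra.Algebra.Rat
import Mathlib.RingTheory.TensorProduct.Basic
import Mathlib.RingTheory.Localization.BaseChange
import Mathlib.RingTheory.Flat.TorsionFree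
import Mathlib.RingTheory.MvPolynomial.Basic
import Mathlib.RingTheory.Ideal.Quotient.Operations
import Mathlib.RingTheory.LocalRing.Basic
import Mathlib.Algebra.CharP.Lemmas

set_option autoImplicit false
universe u
open MaxMod

namespace Groth.Agent.S13042

open MvPolynomial in
/-- Let p be a prime, R a local ring of characteristic p, λ an element of the maximal ideal of R and f ∈
R. Then there is an isomorphism of R-algebras R[W₁, W₂]/(W₁^p − f, W₂^p − f) ≅ R[x, W]/(x^p, W^p −
f) with W₁ ↦ x + W + λ·x·W and W₂ ↦ W; that is, Spec R[W]/(W^p − f) with the action w ↦ x + w + λxw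
is a torsor under the group scheme Spec R[x]/(x^p) with law x₁ ∘ x₂ = x₁ + x₂ + λx₁x₂. (The
published statement is over a complete discrete valuation ring of characteristic p with λ a nonzero
nonunit, and also asserts that for f in the fraction field with negative valuation v(f) > −p·v(λ)
the torsor W^p = f extends to a torsor over R, using the coordinate 1/W; that second case fails: for
p = 2, λ = π a uniformizer and f = 1/π, every model is Spec R[π^a t] with t² = π, and none of these
is a torsor since the coaction sends t to t − π(1 + t)x. Only the case f ∈ R is stated, and the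
argument there uses only that R is local of characteristic p.) -/
theorem result
    (p : ℕ) [Fact p.Prime] (R : Type u) [CommRing R] [IsLocalRing R] [CharP R p]
    (lam f : R) (hlam : lam ∈ IsLocalRing.maximalIdeal R) :
    ∃ e : (MvPolynomial (Fin 2) R ⧸ Ideal.span {(X 0 ^ p - C f : MvPolynomial (Fin 2) R), X 1 ^ p - C f}) ≃ₐ[R]
        (MvPolynomial (Fin 2) R ⧸ Ideal.span {(X 0 ^ p : MvPolynomial (Fin 2) R), X 1 ^ p - C f}),
      e (Ideal.Quotient.mk _ (X 0)) = Ideal.Quotient.mk _ (X 0 + X 1 + C lam * X 0 * X 1) ∧
      e (Ideal.Quotient.mk _ (X 1)) = Ideal.Quotient.mk _ (X 1) := by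
  set I := Ideal.span {(X 0 ^ p - C f : MvPolynomial (Fin 2) R), X 1 ^ p - C f}
  set J := Ideal.span {(X 0 ^ p : MvPolynomial (Fin 2) R), X 1 ^ p - C f}
  have key : ∀ (S : Type u) [CommRing S] [Algebra R S] (y : S), y ^ p = algebraMap R S f →
      IsUnit (1 + algebraMap R S lam * y) := by
    intro S _ _ y hy
    rcases subsingleton_or_nontrivial S with h | h
    · exact isUnit_of_subsingleton _
    have hsp : (p : S) = 0 := by rw [← map_natCast (algebraMap R S), CharP.cast_eq_zero, map_zero]
    haveI : CharP S p := (CharP.charP_iff_prime_eq_zero Fact.out).2 hsp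
    rw [← isUnit_pow_iff (n := p) (Fact.out : p.Prime).ne_zero, add_pow_char, one_pow, mul_pow, hy, ← map_pow,
      ← map_mul, ← map_one (algebraMap R S), ← map_add]
    refine IsUnit.map _ ?_
    by_contra h
    have h1 : 1 + lam ^ p * f ∈ IsLocalRing.maximalIdeal R := h
    have h2 : lam ^ p * f ∈ IsLocalRing.maximalIdeal R :=
      Ideal.mul_mem_right _ _ (Ideal.pow_mem_of_mem _ hlam p (Fact.out : p.Prime).pos)
    exact (IsLocalRing.maximalIdeal.isMaximal R).ne_top ((Ideal.eq_top_iff_one _).2 ((Ideal.add_mem_iff_left _ h2).1 h1))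
  let A := MvPolynomial (Fin 2) R ⧸ I
  let B := MvPolynomial (Fin 2) R ⧸ J
  let x : A := Ideal.Quotient.mk I (X 0)
  let y : A := Ideal.Quotient.mk I (X 1)
  let x' : B := Ideal.Quotient.mk J (X 0)
  let y' : B := Ideal.Quotient.mk J (X 1)
  have hx : x ^ p = algebraMap R A f := by
    rw [← map_pow]; exact Ideal.Quotient.eq.2 (Ideal.subset_span (Set.mem_insert _ _))
  have hy : y ^ p = algebraMap R A f := by
    rw [← map_pow]; exact Ideal.Quotient.eq.2 (Ideal.subset_span (Set.mem_insert_of_mem _ rfl))
  have hx' : x' ^ p = 0 := by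
    rw [← map_pow]; exact Ideal.Quotient.eq_zero_iff_mem.2 (Ideal.subset_span (Set.mem_insert _ _))
  have hy' : y' ^ p = algebraMap R B f := by
    rw [← map_pow]; exact Ideal.Quotient.eq.2 (Ideal.subset_span (Set.mem_insert_of_mem _ rfl))
  obtain ⟨w, hw⟩ := (key A y hy).exists_right_inv
  have hchar : ∀ (S : Type u) [CommRing S] [Algebra R S], Nontrivial S → CharP S p := fun S _ _ _ =>
    (CharP.charP_iff_prime_eq_zero Fact.out).2 (by rw [← map_natCast (algebraMap R S), CharP.cast_eq_zero, map_zero])
  have hI : ∀ q, q ∈ I → aeval ![x' + y' + algebraMap R B lam * x' * y', y'] q = 0 := by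
    have : I ≤ RingHom.ker (aeval ![x' + y' + algebraMap R B lam * x' * y', y'] : MvPolynomial (Fin 2) R →ₐ[R] B) := by
      rw [Ideal.span_le]
      rcases subsingleton_or_nontrivial B with h | h
      · intro q _; exact Subsingleton.elim _ _
      haveI := hchar B h
      rintro q (rfl | rfl)
      · simp [add_pow_char, mul_pow, hx', hy', zero_pow (Fact.out : p.Prime).ne_zero]
      · simp [hy']
    exact this
  have hJ : ∀ q, q ∈ J → aeval ![(x - y) * w, y] q = 0 := by
    have : J ≤ RingHom.ker (aeval ![(x - y) * w, y] : MvPolynomial (Fin 2) R →ₐ[R] A) := by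
      rw [Ideal.span_le]
      rcases subsingleton_or_nontrivial A with h | h
      · intro q _; exact Subsingleton.elim _ _
      haveI := hchar A h
      rintro q (rfl | rfl)
      · simp [sub_pow_char, mul_pow, hx, hy]
      · simp [hy]
    exact this
  let φ : A →ₐ[R] B := Ideal.Quotient.liftₐ I _ hI
  let ψ : B →ₐ[R] A := Ideal.Quotient.liftₐ J _ hJ
  have hφx : φ x = x' + y' + algebraMap R B lam * x' * y' :=
    (aeval_X ![x' + y' + algebraMap R B lam * x' * y', y'] 0).trans rfl
  have hφy : φ y = y' := (aeval_X ![x' + y' + algebraMap R B lam * x' * y', y'] 1).trans rfl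
  have hψx : ψ x' = (x - y) * w := (aeval_X ![(x - y) * w, y] 0).trans rfl
  have hψy : ψ y' = y := (aeval_X ![(x - y) * w, y] 1).trans rfl
  refine ⟨AlgEquiv.ofAlgHom φ ψ ?_ ?_, ?_, ?_⟩
  · apply Ideal.Quotient.algHom_ext
    ext i
    fin_cases i
    · show φ (ψ x') = x'
      have h1 : φ (1 + algebraMap R A lam * y) * φ w = 1 := by rw [← map_mul, hw, map_one]
      rw [map_add, map_one, map_mul, AlgHom.commutes, hφy] at h1
      rw [hψx, map_mul, map_sub, hφx, hφy]
      linear_combination x' * h1
    · show φ (ψ y') = y'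
      rw [hψy, hφy]
  · apply Ideal.Quotient.algHom_ext
    ext i
    fin_cases i
    · show ψ (φ x) = x
      rw [hφx, map_add, map_add, map_mul, map_mul, AlgHom.commutes, hψx, hψy]
      linear_combination (x - y) * hw
    · show ψ (φ y) = y
      rw [hφy, hψy]
  · show φ x = _
    rw [hφx]
    simp [x', y', B]
    rfl
  · exact hφy

end Groth.Agent.S13042
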