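import Groth.Statements.S13044
import Mathlib.AlgebraicGeometry.Morphisms.SchemeTheoreticallyDominant
import Mathlib.AlgebraicGeometry.Morphisms.Flat
import Mathlib.RingTheory.DiscreteValuationRing.Basic

set_option autoImplicit false
universe u
open MaxMod

namespace Groth.Agent.S13044

open CategoryTheory Limits AlgebraicGeometry in
/-- Let R be a discrete valuation ring with fraction field K, let Y be a flat separated R-scheme and let
Γ → Y ×_R Y be a closed subscheme, with projections p₁, p₂ : Γ → Y, such that Γ is flat over R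
(equivalently, Γ is the schematic closure of its generic fibre) and p₁, p₂ are flat. If for every
scheme T over Spec K the relation on the T-valued points of Y defined by the T-valued points of Γ is
an equivalence relation, then for every scheme T over Spec R that relation is an equivalence
relation: Γ is a flat equivalence relation on Y. -/
theorem result
    (R K : Type u) [CommRing R] [IsDomain R] [IsDiscreteValuationRing R]
    [Field K] [Algebra R K] [IsFractionRing R K]
    (Y Γ : Scheme.{u}) (f : Y ⟶ Spec (CommRingCat.of R)) [IsSeparated f] [Flat f]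
    (p₁ p₂ : Γ ⟶ Y) (h : p₁ ≫ f = p₂ ≫ f)
    (hΓ : IsClosedImmersion (pullback.lift p₁ p₂ h))
    [Flat (p₁ ≫ f)] [Flat p₁] [Flat p₂]
    (hK : ∀ (T : Scheme.{u}) (t : T ⟶ Spec (CommRingCat.of R)),
      (∃ s : T ⟶ Spec (CommRingCat.of K), t = s ≫ Spec.map (CommRingCat.ofHom (algebraMap R K))) →
      _root_.Equivalence fun a b : {a : T ⟶ Y // a ≫ f = t} =>
        ∃ c : T ⟶ Γ, c ≫ p₁ = a.1 ∧ c ≫ p₂ = b.1) :
    ∀ (T : Scheme.{u}) (t : T ⟶ Spec (CommRingCat.of R)),
      _root_.Equivalence fun a b : {a : T ⟶ Y // a ≫ f = t} =>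
        ∃ c : T ⟶ Γ, c ≫ p₁ = a.1 ∧ c ≫ p₂ = b.1 := by
  let e : Spec (CommRingCat.of K) ⟶ Spec (CommRingCat.of R) := Spec.map (CommRingCat.ofHom (algebraMap R K))
  haveI : IsDominant e := ⟨(PrimeSpectrum.denseRange_comap_iff_ker_le_nilRadical (algebraMap R K)).2 (by
    rw [(RingHom.injective_iff_ker_eq_bot _).1 (IsFractionRing.injective R K)]; exact bot_le)⟩
  haveI : IsDomain (CommRingCat.of R) := inferInstanceAs (IsDomain R)
  haveI : IsSchemeTheoreticallyDominant e := IsSchemeTheoreticallyDominant.of_isDominant e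
  haveI := hΓ
  let i := pullback.lift p₁ p₂ h
  -- morphisms to `Y ×_R Y` from flat schemes factor through `Γ` as soon as they do generically
  have key : ∀ (W : Scheme.{u}) (w : W ⟶ Spec (CommRingCat.of R)), Flat w → ∀ (a b : W ⟶ Y)
      (ha : a ≫ f = w) (hb : b ≫ f = w),
      (∀ (A : {a : pullback e w ⟶ Y // a ≫ f = pullback.snd e w ≫ w})
        (B : {a : pullback e w ⟶ Y // a ≫ f = pullback.snd e w ≫ w}),
        A.1 = pullback.snd e w ≫ a → B.1 = pullback.snd e w ≫ b →
        ∃ c : pullback e w ⟶ Γ, c ≫ p₁ = A.1 ∧ c ≫ p₂ = B.1) →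
      ∃ c : W ⟶ Γ, c ≫ p₁ = a ∧ c ≫ p₂ = b := by
    intro W w hw a b ha hb hgen
    obtain ⟨c, hc₁, hc₂⟩ := hgen ⟨_, by rw [Category.assoc, ha]⟩ ⟨pullback.snd e w ≫ b, by rw [Category.assoc, hb]⟩ rfl rfl
    let γ := pullback.lift (f := f) (g := f) a b (ha.trans hb.symm)
    let j := pullback.snd i γ
    haveI : IsSchemeTheoreticallyDominant (pullback.snd e w) := inferInstance
    have hfac : pullback.lift c (pullback.snd e w) (by
        refine pullback.hom_ext ?_ ?_
        · rw [Category.assoc, Category.assoc]; erw [pullback.lift_fst, pullback.lift_fst]; exact hc₁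
        · rw [Category.assoc, Category.assoc]; erw [pullback.lift_snd, pullback.lift_snd]; exact hc₂) ≫ j = pullback.snd e w := pullback.lift_snd _ _ _
    haveI : IsClosedImmersion j := inferInstanceAs (IsClosedImmersion (pullback.snd i γ))
    haveI : IsIso j := by
      refine IsClosedImmersion.isIso_iff_ker_eq_bot.2 ?_
      rw [eq_bot_iff, ← (pullback.snd e w).ker_eq_bot, ← hfac]
      exact Scheme.Hom.le_ker_comp _ _
    have h1 := congrArg (· ≫ pullback.fst f f) (pullback.condition (f := i) (g := γ))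
    have h2 := congrArg (· ≫ pullback.snd f f) (pullback.condition (f := i) (g := γ))
    simp only [Category.assoc, i, γ, pullback.lift_fst, pullback.lift_snd] at h1 h2
    refine ⟨inv j ≫ pullback.fst i γ, ?_, ?_⟩
    · rw [Category.assoc]; exact (IsIso.inv_comp_eq j).2 h1
    · rw [Category.assoc]; exact (IsIso.inv_comp_eq j).2 h2
  have hE : ∀ (W : Scheme.{u}) (w : W ⟶ Spec (CommRingCat.of R)),
      _root_.Equivalence fun a b : {a : pullback e w ⟶ Y // a ≫ f = pullback.snd e w ≫ w} =>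
        ∃ c : pullback e w ⟶ Γ, c ≫ p₁ = a.1 ∧ c ≫ p₂ = b.1 :=
    fun W w => hK _ _ ⟨pullback.fst e w, (pullback.condition).symm⟩
  obtain ⟨r, hr₁, hr₂⟩ := key Y f inferInstance (𝟙 Y) (𝟙 Y) (Category.id_comp f) (Category.id_comp f)
    fun A B hA hB => by
      obtain rfl : B = A := Subtype.ext (hB.trans hA.symm)
      exact (hE Y f).refl B
  obtain ⟨s, hs₁, hs₂⟩ := key Γ (p₁ ≫ f) inferInstance p₂ p₁ h.symm rfl fun A B hA hB =>
    (hE Γ (p₁ ≫ f)).symm ⟨pullback.snd e (p₁ ≫ f), hB.symm, hA.symm⟩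
  haveI : Flat (pullback.fst p₂ p₁) := inferInstance
  obtain ⟨m, hm₁, hm₂⟩ := key (pullback p₂ p₁) (pullback.fst p₂ p₁ ≫ p₁ ≫ f) inferInstance
    (pullback.fst p₂ p₁ ≫ p₁) (pullback.snd p₂ p₁ ≫ p₂) (Category.assoc _ _ _)
    (by rw [Category.assoc, ← h, ← pullback.condition_assoc, ← h]) fun A B hA hB => by
      let M : {a : pullback e (pullback.fst p₂ p₁ ≫ p₁ ≫ f) ⟶ Y //
          a ≫ f = pullback.snd e (pullback.fst p₂ p₁ ≫ p₁ ≫ f) ≫ pullback.fst p₂ p₁ ≫ p₁ ≫ f} :=
        ⟨pullback.snd e _ ≫ pullback.fst p₂ p₁ ≫ p₂, by simp only [Category.assoc, h]⟩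
      refine (hE _ _).trans (y := M) ⟨pullback.snd e _ ≫ pullback.fst p₂ p₁, ?_, ?_⟩
        ⟨pullback.snd e _ ≫ pullback.snd p₂ p₁, ?_, ?_⟩
      · rw [hA, Category.assoc]
      · simp only [M, Category.assoc]
      · simp only [M, Category.assoc, pullback.condition]
      · rw [hB, Category.assoc]
  intro T t
  refine ⟨fun a => ⟨a.1 ≫ r, by rw [Category.assoc, hr₁, Category.comp_id], by rw [Category.assoc, hr₂, Category.comp_id]⟩,
    fun {a b} ⟨c, hc₁, hc₂⟩ => ⟨c ≫ s, by rw [Category.assoc, hs₁, hc₂], by rw [Category.assoc, hs₂, hc₁]⟩,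
    fun {a b d} ⟨c, hc₁, hc₂⟩ ⟨c', hc₁', hc₂'⟩ => ⟨pullback.lift c c' (hc₂.trans hc₁'.symm) ≫ m, ?_, ?_⟩⟩
  · rw [Category.assoc, hm₁, pullback.lift_fst_assoc, hc₁]
  · rw [Category.assoc, hm₂, pullback.lift_snd_assoc, hc₂']

end Groth.Agent.S13044
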