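import Groth.Statements.S13046
import Groth.Agent.Lib.PrePerf23.Basic
import Mathlib.RingTheory.Finiteness.Cardinality

set_option autoImplicit false
universe u
open FrobAlg

namespace Groth.Agent.S13046

open TensorProduct in
/-- Let p be a prime, R a commutative ring of characteristic p and A a commutative R-algebra of
characteristic p, with Frobenius twists A^{p^i/R} = R ⊗_{F^i,R} A, relative Frobenius maps F_i :
A^{p^{i+1}/R} → A^{p^i/R} and preperfection A^{p^∞/R} = lim_i A^{p^i/R} ⊆ Π_i A^{p^i/R}. For every
finitely generated projective R-module M, a sequence y ∈ Π_i (M ⊗_R A^{p^i/R}) lies in the image of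
the natural map M ⊗_R A^{p^∞/R} → Π_i (M ⊗_R A^{p^i/R}), m ⊗ x ↦ (m ⊗ x_i)_i, if and only if (M ⊗
F_i)(y_{i+1}) = y_i for all i: the image is exactly the module of compatible sequences. Together
with the injectivity of that map, which holds for every projective M, this says that the base change
map M ⊗_R lim_i A^{p^i/R} → lim_i (M ⊗_R A^{p^i/R}) is an isomorphism. (The published statement is
phrased for a finite locally free R-algebra R′ in place of M and identifies the target with the
preperfection of A ⊗_R R′ over R′; the printed argument is the module statement given here, and that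
identification is not part of this row; the injectivity half is stated separately for all projective
M.) -/
theorem result
    (p : ℕ) [Fact p.Prime] (R : Type u) [CommRing R] [CharP R p]
    (A : Type u) [CommRing A] [Algebra R A] [CharP A p]
    (M : Type u) [AddCommGroup M] [Module R M] [Module.Finite R M] [Module.Projective R M]
    (y : Π i : ℕ, M ⊗[R] W4c1imperftorsors.Twist p R A i) :
    y ∈ LinearMap.range
        (LinearMap.pi fun i : ℕ =>
        LinearMap.lTensor M
          (((Pi.evalAlgHom R (fun k => W4c1imperftorsors.Twist p R A k) i).comp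
            (W4c1imperftorsors.prePerf p R A).val).toLinearMap) :
        M ⊗[R] ↥(W4c1imperftorsors.prePerf p R A) →ₗ[R] (Π i : ℕ, M ⊗[R] W4c1imperftorsors.Twist p R A i)) ↔
      ∀ i : ℕ, LinearMap.lTensor M (W4c1imperftorsors.relFrob p R A i).toLinearMap (y (i + 1)) = y i := by

  constructor
  · rintro ⟨z, rfl⟩ i
    simp only [LinearMap.pi_apply]
    rw [← LinearMap.comp_apply, ← LinearMap.lTensor_comp]
    congr 2
    ext x
    exact (Groth.Agent.PrePerf23.mem_prePerf p R A x.1).mp x.2 i
  · intro hy
    obtain ⟨n, f, hf⟩ := Module.Finite.exists_fin' R M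
    obtain ⟨s, hs⟩ := Module.projective_lifting_property f LinearMap.id hf
    let φ : Fin n → (M →ₗ[R] R) := fun j => (LinearMap.proj j).comp s
    let m : Fin n → M := fun j => f (Pi.single j 1)
    have hdual : ∀ x : M, ∑ j, φ j x • m j = x := by
      intro x
      conv_rhs => rw [← LinearMap.id_apply (R := R) x, ← hs, LinearMap.comp_apply,
        pi_eq_sum_univ' (s x), map_sum]
      simp [φ, m]
    have hmem : ∀ j, (fun i => Groth.Agent.PrePerf23.pairing _ (φ j) (y i)) ∈
        W4c1imperftorsors.prePerf p R A := by
      intro j
      rw [Groth.Agent.PrePerf23.mem_prePerf]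
      intro i
      rw [← AlgHom.toLinearMap_apply, Groth.Agent.PrePerf23.pairing_natural, hy i]
      rfl
    refine ⟨∑ j, m j ⊗ₜ[R] ⟨_, hmem j⟩, funext fun i => ?_⟩
    simp only [map_sum, Finset.sum_apply, LinearMap.pi_apply, LinearMap.lTensor_tmul]
    show ∑ j, m j ⊗ₜ[R] (Groth.Agent.PrePerf23.pairing _ (φ j) (y i)) = y i
    generalize y i = t
    induction t using TensorProduct.induction_on with
    | zero => simp
    | add a b ha hb => simp only [map_add, TensorProduct.tmul_add, Finset.sum_add_distrib, ha, hb]
    | tmul x l =>
      conv_rhs => rw [← hdual x, TensorProduct.sum_tmul]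
      exact Finset.sum_congr rfl fun j _ => by
        simp [Groth.Agent.PrePerf23.pairing, TensorProduct.smul_tmul']


end Groth.Agent.S13046
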