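import Groth.Statements.S13047
import Mathlib.RingTheory.Polynomial.Quotient
import Mathlib.Tactic.LinearCombination

set_option autoImplicit false
universe u
open FrobAlg

namespace Groth.Agent.S13047

section Aux

open Polynomial TensorProduct W4c1imperftorsors

variable (p : ℕ) [Fact p.Prime] {R : Type u} [CommRing R] [CharP R p] (u v : R)

/-- The defining ideal. -/
noncomputable abbrev rel : Ideal R[X] := Ideal.span {(C u * X : R[X]), X ^ 2 - C (v ^ 2)}

/-- The ring. -/
noncomputable abbrev B : Type u := R[X] ⧸ rel u v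

/-- The class of the variable in a twist. -/
noncomputable def xT (i : ℕ) : W4c1imperftorsors.Twist p R (B u v) i :=
  (1 : R) ⊗ₜ[Src p R i] (aEquiv p R (B u v) i).symm (Ideal.Quotient.mk (rel u v) X)

theorem one_tmul_algebraMap (i : ℕ) (a : R) :
    ((1 : R) ⊗ₜ[Src p R i] (aEquiv p R (B u v) i).symm (algebraMap R (B u v) a) : W4c1imperftorsors.Twist p R (B u v) i) =
      algebraMap R (W4c1imperftorsors.Twist p R (B u v) i) (a ^ p ^ i) := by
  have h : (aEquiv p R (B u v) i).symm (algebraMap R (B u v) a) =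
      algebraMap (Src p R i) (ASrc p R (B u v) i) ((srcEquiv p R i).symm a) := rfl
  rw [h, Algebra.algebraMap_eq_smul_one, ← TensorProduct.smul_tmul, Algebra.smul_def, mul_one,
    algebraMap_src, RingEquiv.apply_symm_apply, Algebra.TensorProduct.algebraMap_apply, Algebra.algebraMap_self,
    RingHom.id_apply]

theorem xT_sq (i : ℕ) : xT p u v i ^ 2 = algebraMap R _ ((v ^ 2) ^ p ^ i) := by
  rw [← one_tmul_algebraMap, xT, Algebra.TensorProduct.tmul_pow, one_pow, ← map_pow, ← map_pow]
  congr 2
  rw [show algebraMap R (B u v) (v ^ 2) = Ideal.Quotient.mk (rel u v) (C (v ^ 2)) from rfl, Ideal.Quotient.eq]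
  exact Ideal.subset_span (Or.inr rfl)

theorem exists_coords (i : ℕ) (z : W4c1imperftorsors.Twist p R (B u v) i) :
    ∃ a b : R, z = algebraMap R _ a + algebraMap R _ b * xT p u v i := by
  have hB : ∀ y : B u v, ∃ a b : R, ((1 : R) ⊗ₜ[Src p R i] (aEquiv p R (B u v) i).symm y :
      W4c1imperftorsors.Twist p R (B u v) i) = algebraMap R _ a + algebraMap R _ b * xT p u v i := by
    intro y
    obtain ⟨f, rfl⟩ := Ideal.Quotient.mk_surjective y
    induction f using Polynomial.induction_on with
    | C a =>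
      refine ⟨a ^ p ^ i, 0, ?_⟩
      rw [map_zero, zero_mul, add_zero]
      exact one_tmul_algebraMap p u v i a
    | add f g hf hg =>
      obtain ⟨a, b, h⟩ := hf
      obtain ⟨a', b', h'⟩ := hg
      refine ⟨a + a', b + b', ?_⟩
      rw [map_add, map_add, TensorProduct.tmul_add, h, h', map_add, map_add]
      ring
    | monomial n a h =>
      obtain ⟨c, b, h⟩ := h
      refine ⟨b * (v ^ 2) ^ p ^ i, c, ?_⟩
      rw [pow_succ, ← mul_assoc, map_mul, map_mul, ← mul_one (1 : R), ← Algebra.TensorProduct.tmul_mul_tmul, h,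
        map_mul, ← xT_sq]
      show _ * xT p u v i = _
      ring
  induction z using TensorProduct.induction_on with
  | zero => exact ⟨0, 0, by simp⟩
  | tmul r y =>
    obtain ⟨a, b, h⟩ := hB (aEquiv p R (B u v) i y)
    rw [RingEquiv.symm_apply_apply] at h
    refine ⟨r * a, r * b, ?_⟩
    rw [← mul_one r, ← smul_eq_mul, ← TensorProduct.smul_tmul', h, smul_add, Algebra.smul_def, Algebra.smul_def,
      smul_eq_mul, mul_one, map_mul, map_mul]
    ring
  | add y z hy hz =>
    obtain ⟨a, b, rfl⟩ := hy
    obtain ⟨a', b', rfl⟩ := hz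
    exact ⟨a + a', b + b', by rw [map_add, map_add]; ring⟩

theorem coords_eq_zero (huv : u * v = 0) (i : ℕ) (a b : R)
    (h : algebraMap R (W4c1imperftorsors.Twist p R (B u v) i) a + algebraMap R _ b * xT p u v i = 0) :
    a = 0 ∧ b ∈ Ideal.span {u ^ p ^ i} := by
  let K : Ideal R[X] := rel (u ^ p ^ i) (v ^ p ^ i)
  let f : R[X] →+* R[X] ⧸ K := (Polynomial.eval₂RingHom
    ((algebraMap R (R[X] ⧸ K)).comp (iterateFrobenius R p i)) (Ideal.Quotient.mk K X))
  have hf : ∀ y ∈ rel u v, f y = 0 := by
    intro y hy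
    refine (Ideal.span_le.2 ?_ : rel u v ≤ RingHom.ker f) hy
    have e : ∀ c : R, algebraMap R (R[X] ⧸ K) c = Ideal.Quotient.mk K (C c) := fun c => rfl
    rintro z (rfl | rfl) <;> simp only [SetLike.mem_coe, RingHom.mem_ker, f, coe_eval₂RingHom, eval₂_mul, eval₂_sub,
      eval₂_pow, eval₂_C, eval₂_X, RingHom.comp_apply, iterateFrobenius_def, e, ← map_mul, ← map_pow, ← map_sub,
      Ideal.Quotient.eq_zero_iff_mem]
    · exact Ideal.subset_span (Or.inl rfl)
    · rw [pow_right_comm]
      exact Ideal.subset_span (Or.inr rfl)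
  let g : ASrc p R (B u v) i →ₐ[Src p R i] R[X] ⧸ K :=
    { toRingHom := (Ideal.Quotient.lift (rel u v) f hf).comp (aEquiv p R (B u v) i : ASrc p R (B u v) i →+* B u v)
      commutes' := fun s => by
        show f (C (srcEquiv p R i s)) = _
        simp only [f, coe_eval₂RingHom, eval₂_C]
        rfl }
  let l : R →ₐ[Src p R i] R[X] ⧸ K := { toRingHom := algebraMap R _, commutes' := fun s => rfl }
  let ψ := Algebra.TensorProduct.lift l g (fun _ _ => Commute.all _ _)
  have hψa : ∀ c : R, ψ (algebraMap R _ c) = Ideal.Quotient.mk K (C c) := fun c => by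
    rw [Algebra.TensorProduct.algebraMap_apply, Algebra.TensorProduct.lift_tmul, map_one, mul_one]
    rfl
  have hψx : ψ (xT p u v i) = Ideal.Quotient.mk K X := by
    rw [xT, Algebra.TensorProduct.lift_tmul, map_one, one_mul]
    show f X = _
    simp [f]
  have h' := congrArg ψ h
  rw [map_zero, map_add, map_mul, hψa, hψa, hψx, ← map_mul, ← map_add, Ideal.Quotient.eq_zero_iff_mem,
    Ideal.mem_span_pair] at h'
  obtain ⟨s, t, hst⟩ := h'
  have hq : p ^ i ≠ 0 := pow_ne_zero _ (Fact.out : p.Prime).ne_zero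
  have hb : b ∈ Ideal.span {u ^ p ^ i} := by
    let π := Ideal.Quotient.mk (Ideal.span {u ^ p ^ i})
    have hu : π (u ^ p ^ i) = 0 := Ideal.Quotient.eq_zero_iff_mem.2 (Ideal.mem_span_singleton_self _)
    rcases subsingleton_or_nontrivial (R ⧸ Ideal.span {u ^ p ^ i}) with hs | hs
    · exact Ideal.Quotient.eq_zero_iff_mem.1 (Subsingleton.elim _ _)
    have hm := congrArg (Polynomial.map π) hst
    simp only [Polynomial.map_add, Polynomial.map_mul, Polynomial.map_sub, Polynomial.map_pow, map_C, map_X,
      hu, map_zero, zero_mul, mul_zero, zero_add] at hm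
    have hdvd : (X ^ 2 - C (π ((v ^ p ^ i) ^ 2)) : (R ⧸ Ideal.span {u ^ p ^ i})[X]) ∣ C (π a) + C (π b) * X :=
      ⟨t.map π, by rw [← hm]; ring⟩
    have hmonic := Polynomial.monic_X_pow_sub_C (π ((v ^ p ^ i) ^ 2)) (two_ne_zero' ℕ)
    have h0 : C (π a) + C (π b) * X = 0 := by
      rw [← (Polynomial.modByMonic_eq_self_iff (p := C (π a) + C (π b) * X) hmonic).2 ?_]
      · exact (Polynomial.modByMonic_eq_zero_iff_dvd hmonic).2 hdvd
      · rw [Polynomial.degree_X_pow_sub_C (by norm_num), add_comm]
        exact lt_of_le_of_lt Polynomial.degree_linear_le (by norm_num)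
    exact Ideal.Quotient.eq_zero_iff_mem.1 (by simpa using congrArg (fun P => Polynomial.coeff P 1) h0)
  refine ⟨?_, hb⟩
  obtain ⟨c, rfl⟩ := Ideal.mem_span_singleton'.1 hb
  have he := congrArg (Polynomial.eval (v ^ p ^ i)) hst
  have hz : u ^ p ^ i * v ^ p ^ i = 0 := by rw [← mul_pow, huv, zero_pow hq]
  simp only [eval_add, eval_mul, eval_sub, eval_pow, eval_C, eval_X, sub_self, mul_zero, add_zero, hz] at he
  linear_combination -he - c * hz

theorem relFrob_xT [CharP (B u v) p] (hp : p ≠ 2) (i : ℕ) : W4c1imperftorsors.relFrob p R (B u v) i (xT p u v (i + 1)) =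
    algebraMap R _ (((v ^ 2) ^ p ^ i) ^ (p / 2)) * xT p u v i := by
  have h1 : W4c1imperftorsors.relFrob p R (B u v) i (xT p u v (i + 1)) = xT p u v i ^ p := by
    rw [xT, xT, Algebra.TensorProduct.tmul_pow, one_pow, ← map_pow]
    show Algebra.TensorProduct.lift (inclLeft p R (B u v) i) (frobRight p R (B u v) i) (fun _ _ => Commute.all _ _) _ = _
    rw [Algebra.TensorProduct.lift_tmul, map_one, one_mul]
    rfl
  have ho : p = 2 * (p / 2) + 1 := (Nat.two_mul_div_two_add_one_of_odd ((Fact.out : p.Prime).odd_of_ne_two hp)).symm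
  rw [h1]
  rw [show xT p u v i ^ p = xT p u v i ^ (2 * (p / 2) + 1) from congrArg (xT p u v i ^ ·) ho]
  rw [pow_succ, pow_mul, xT_sq, ← map_pow]

end Aux

open W4c1imperftorsors

open Polynomial in
/-- Let p be an odd prime, R a commutative ring of characteristic p and u, v ∈ R with uv = 0, such that
for every N ≥ 1 an element of R lying in (v^n) + (u^N) for all n lies in (u^N) (v-adic separatedness
of R/(u^N)). Let B = R[α]/(uα, α² − v²), an R-algebra of characteristic p, with Frobenius twists
B^{p^i/R} = R ⊗_{F^i,R} B and preperfection B^{p^∞/R} = lim_i B^{p^i/R} along the relative Frobenius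
maps. Then the structure map R → B^{p^∞/R} is bijective: the preperfection of B is R. (The published
statement is for R = F_p[[u, v]]/(uv), where B arises as the preperfection of R[x, y, 1/(x − y)]/(xy
− u), so that the second preperfection of that algebra is R although the first is not perfect; the
printed computation uses only the hypotheses listed here, which that R satisfies.) -/
theorem result
    (p : ℕ) [Fact p.Prime] (hp : p ≠ 2) (R : Type u) [CommRing R] [CharP R p]
    (u v : R) (huv : u * v = 0)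
    (hsep : ∀ N : ℕ, 1 ≤ N → ∀ g : R,
      (∀ n : ℕ, g ∈ Ideal.span {v ^ n} ⊔ Ideal.span {u ^ N}) → g ∈ Ideal.span {u ^ N})
    [CharP (R[X] ⧸ Ideal.span {(C u * X : R[X]), X ^ 2 - C (v ^ 2)}) p] :
    Function.Bijective
      (algebraMap R ↥(W4c1imperftorsors.prePerf p R
        (R[X] ⧸ Ideal.span {(C u * X : R[X]), X ^ 2 - C (v ^ 2)}))) := by
  classical
  let A := B u v
  have huniq : ∀ i (a b a' b' : R), algebraMap R (W4c1imperftorsors.Twist p R A i) a + algebraMap R _ b * xT p u v i =
      algebraMap R _ a' + algebraMap R _ b' * xT p u v i → a = a' ∧ b - b' ∈ Ideal.span {u ^ p ^ i} := by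
    intro i a b a' b' h
    have := coords_eq_zero p u v huv i (a - a') (b - b') (by rw [map_sub, map_sub]; linear_combination h)
    exact ⟨sub_eq_zero.1 this.1, this.2⟩
  constructor
  · intro a a' h
    have h0 := congrFun (congrArg Subtype.val h) 0
    exact (huniq 0 a 0 a' 0 (by simpa using h0)).1
  · intro z
    choose a b hab using fun i => exists_coords p u v i (z.1 i)
    have hz : ∀ i, W4c1imperftorsors.relFrob p R A i (z.1 (i + 1)) = z.1 i := fun i => by
      have := z.2
      simp only [prePerf, Algebra.mem_iInf, AlgHom.mem_equalizer] at this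
      exact this i
    let k : ℕ → ℕ := fun i => 2 * (p ^ i * (p / 2))
    have hstep : ∀ i, a (i + 1) = a i ∧ v ^ k i * b (i + 1) - b i ∈ Ideal.span {u ^ p ^ i} := fun i => by
      refine huniq i _ _ _ _ ?_
      rw [← hab i, ← hz i, hab (i + 1), map_add (W4c1imperftorsors.relFrob p R A i), map_mul (W4c1imperftorsors.relFrob p R A i), AlgHom.commutes, AlgHom.commutes, relFrob_xT p u v hp,
        map_mul, ← pow_mul, ← pow_mul]
      ring
    have hk : ∀ i, 1 ≤ k i := fun i => by
      have h2 : 1 ≤ p / 2 := (Nat.one_le_div_iff (by norm_num)).2 (Fact.out : p.Prime).two_le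
      have : 1 ≤ p ^ i * (p / 2) := Nat.one_le_iff_ne_zero.2
        (Nat.mul_ne_zero (pow_ne_zero _ (Fact.out : p.Prime).ne_zero) (by omega))
      simp only [k]
      omega
    have hmem : ∀ n i, b i ∈ Ideal.span {v ^ n} ⊔ Ideal.span {u ^ p ^ i} := by
      intro n
      induction n with
      | zero => intro i; exact Submodule.mem_sup_left (by simp)
      | succ n ih =>
        intro i
        have e : b i = v ^ k i * b (i + 1) - (v ^ k i * b (i + 1) - b i) := by ring
        rw [e]
        refine Submodule.sub_mem _ ?_ (Submodule.mem_sup_right (hstep i).2)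
        obtain ⟨x, hx, y, hy, hxy⟩ := Submodule.mem_sup.1 (ih (i + 1))
        rw [← hxy, mul_add]
        refine Submodule.add_mem _ (Submodule.mem_sup_left ?_) (Submodule.mem_sup_right (Ideal.mul_mem_left _ _ ?_))
        · obtain ⟨c, rfl⟩ := Ideal.mem_span_singleton'.1 hx
          refine Ideal.mem_span_singleton'.2 ⟨c * v ^ (k i - 1), ?_⟩
          have hs := Nat.sub_add_cancel (hk i)
          conv_rhs => rw [← hs]
          ring
        · exact Ideal.span_singleton_le_span_singleton.2 (pow_dvd_pow u
            (Nat.pow_le_pow_right (Fact.out : p.Prime).pos (Nat.le_succ i))) hy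
    have hconst : ∀ i, a i = a 0 := fun i => by
      induction i with
      | zero => rfl
      | succ i ih => rw [(hstep i).1, ih]
    refine ⟨a 0, Subtype.ext (funext fun i => ?_)⟩
    obtain ⟨c, hc⟩ := Ideal.mem_span_singleton'.1 (hsep (p ^ i)
      (Nat.one_le_iff_ne_zero.2 (pow_ne_zero _ (Fact.out : p.Prime).ne_zero)) (b i) (fun n => hmem n i))
    have hx0 : algebraMap R (W4c1imperftorsors.Twist p R A i) (u ^ p ^ i) * xT p u v i = 0 := by
      rw [← one_tmul_algebraMap, xT, Algebra.TensorProduct.tmul_mul_tmul, ← map_mul,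
        show algebraMap R (B u v) u = Ideal.Quotient.mk (rel u v) (C u) from rfl, ← map_mul,
        Ideal.Quotient.eq_zero_iff_mem.2 (show Polynomial.C u * Polynomial.X ∈ rel u v from Ideal.subset_span (Or.inl rfl)), map_zero, TensorProduct.tmul_zero]
    show algebraMap R _ (a 0) = z.1 i
    rw [hab i, hconst i, ← hc, map_mul, mul_assoc, hx0, mul_zero, add_zero]

end Groth.Agent.S13047
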