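import Groth.Statements.S13048
import Mathlib.RingTheory.Jacobson.Ring
import Mathlib.RingTheory.Filtration
import Mathlib.FieldTheory.IsAlgClosed.Basic
import Mathlib.RingTheory.Ideal.MinimalPrime.Noetherian
import Mathlib.Algebra.CharP.Algebra
import Mathlib.RingTheory.Coprime.Lemmas

set_option autoImplicit false
universe u
open FrobAlg

namespace Groth.Agent.S13048

/-- Let k be an algebraically closed field of characteristic p > 0 and let A be a reduced finitely
generated commutative k-algebra with connected spectrum (A ≠ 0 and 0, 1 are its only idempotents).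
If x ∈ A is a p^n-th power in A for every n ≥ 0, then x lies in the image of k; that is, ⋂_n A^{p^n}
= k. (The published statement is: for an artinian local ring R of characteristic p and a flat
R-algebra A of finite type, the maps A^ét → O(π₀(A)) → A^{p^∞/R} from the largest étale subalgebra
to the preperfection are isomorphisms. This row is the case R = k algebraically closed and A reduced
with connected spectrum, where A^ét = k and the preperfection is ⋂_n A^{p^n}; the printed proof
reduces to this case and its last step proves it.) -/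
theorem result
    (p : ℕ) [Fact p.Prime] (k : Type u) [Field k] [IsAlgClosed k] [CharP k p]
    (A : Type u) [CommRing A] [Algebra k A] [Algebra.FiniteType k A] [IsReduced A] [Nontrivial A]
    (hconn : ∀ e : A, IsIdempotentElem e → e = 0 ∨ e = 1)
    (x : A) (hx : ∀ n : ℕ, ∃ a : A, a ^ p ^ n = x) :
    x ∈ (algebraMap k A).range := by

  classical
  haveI : IsNoetherianRing A := Algebra.FiniteType.isNoetherianRing k A
  have hp := (Fact.out : p.Prime)
  -- on every minimal prime `x` is constant
  have hP : ∀ P ∈ minimalPrimes A, ∃ c : k, x - algebraMap k A c ∈ P := by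
    intro P hP
    haveI hPp : P.IsPrime := hP.1.1
    obtain ⟨m, hm, hPm⟩ := Ideal.exists_le_maximal P hPp.ne_top
    haveI := hm
    letI := Ideal.Quotient.field m
    haveI : Module.Finite k (A ⧸ m) := finite_of_finite_type_of_isJacobsonRing k (A ⧸ m)
    obtain ⟨c, hc⟩ := (IsAlgClosed.algebraMap_bijective_of_isIntegral (k := k) (K := A ⧸ m)).2
      (Ideal.Quotient.mk m x)
    have hxc : x - algebraMap k A c ∈ m := by
      rw [← Ideal.Quotient.eq, ← hc]; rfl
    have hpow : ∀ N, x - algebraMap k A c ∈ m ^ N := by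
      intro N
      obtain ⟨a, ha⟩ := hx N
      obtain ⟨d, hd⟩ := IsAlgClosed.exists_pow_nat_eq c (pow_pos hp.pos N)
      haveI : CharP A p := charP_of_injective_algebraMap (algebraMap k A).injective p
      have he : x - algebraMap k A c = (a - algebraMap k A d) ^ p ^ N := by
        rw [sub_pow_char_pow, ha, ← map_pow, hd]
      rw [he] at hxc ⊢
      exact Ideal.pow_le_pow_right (Nat.lt_pow_self hp.one_lt).le
        (Ideal.pow_mem_pow (hm.isPrime.mem_of_pow_mem _ hxc) _)
    refine ⟨c, ?_⟩
    have hne : m.map (Ideal.Quotient.mk P) ≠ ⊤ := by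
      rw [Ne, Ideal.eq_top_iff_one, ← map_one (Ideal.Quotient.mk P),
        ← Ideal.mem_comap, Ideal.comap_map_mk hPm]
      exact fun h => hm.ne_top ((Ideal.eq_top_iff_one m).mpr h)
    have hz : Ideal.Quotient.mk P (x - algebraMap k A c) ∈ ⨅ i : ℕ, (m.map (Ideal.Quotient.mk P)) ^ i := by
      rw [Submodule.mem_iInf]
      intro i
      rw [← Ideal.map_pow]
      exact Ideal.mem_map_of_mem _ (hpow i)
    rw [Ideal.iInf_pow_eq_bot_of_isDomain _ hne, Submodule.mem_bot, Ideal.Quotient.eq_zero_iff_mem] at hz
    exact hz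
  choose c hc using hP
  have hfin : (minimalPrimes A).Finite := minimalPrimes.finite_of_isNoetherianRing A
  let C : Finset k := hfin.toFinset.attach.image fun P => c P.1 (hfin.mem_toFinset.mp P.2)
  have hne : (minimalPrimes A).Nonempty := by
    obtain ⟨m, hm⟩ := Ideal.exists_maximal A
    haveI : m.IsPrime := hm.isPrime
    obtain ⟨P, hP, -⟩ := Ideal.exists_minimalPrimes_le (I := (⊥ : Ideal A)) (J := m) bot_le
    exact ⟨P, hP⟩
  obtain ⟨P₀, hP₀⟩ := hne
  have hc₀ : c P₀ hP₀ ∈ C := Finset.mem_image.mpr
    ⟨⟨P₀, hfin.mem_toFinset.mpr hP₀⟩, Finset.mem_attach _ _, rfl⟩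
  set c₀ := c P₀ hP₀
  let u := x - algebraMap k A c₀
  let v := ∏ d ∈ C.erase c₀, (x - algebraMap k A d)
  have huv : u * v = 0 := by
    have hprod : u * v = ∏ d ∈ C, (x - algebraMap k A d) := Finset.mul_prod_erase C (fun d => x - algebraMap k A d) hc₀
    rw [hprod]
    refine IsReduced.eq_zero _ (mem_nilradical.mp ?_)
    rw [nilradical_eq_sInf]
    refine Submodule.mem_sInf.mpr fun Q hQ => ?_
    haveI : Ideal.IsPrime Q := hQ
    obtain ⟨P, hP, hPQ⟩ := Ideal.exists_minimalPrimes_le (I := (⊥ : Ideal A)) (J := Q) bot_le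
    have hmem : c P hP ∈ C := Finset.mem_image.mpr
      ⟨⟨P, hfin.mem_toFinset.mpr hP⟩, Finset.mem_attach _ _, rfl⟩
    rw [← Finset.mul_prod_erase C (fun d => x - algebraMap k A d) hmem]
    exact Ideal.mul_mem_right _ (Q : Ideal A) (hPQ (hc P hP))
  have hco : IsCoprime u v := by
    refine IsCoprime.prod_right fun d hd => ?_
    have hne : c₀ ≠ d := (Finset.ne_of_mem_erase hd).symm
    refine ⟨-algebraMap k A (c₀ - d)⁻¹, algebraMap k A (c₀ - d)⁻¹, ?_⟩
    have : algebraMap k A (c₀ - d)⁻¹ * algebraMap k A (c₀ - d) = 1 := by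
      rw [← map_mul, inv_mul_cancel₀ (sub_ne_zero.mpr hne), map_one]
    rw [map_sub] at this
    simp only [u]
    linear_combination this
  obtain ⟨a, b, hab⟩ := hco
  have hidem : IsIdempotentElem (a * u) := by
    show a * u * (a * u) = a * u
    linear_combination (a * u) * hab - a * b * huv
  rcases hconn _ hidem with h | h
  · refine ⟨c₀, ?_⟩
    have : u = 0 := by linear_combination (-u) * hab + b * huv + u * h
    exact (sub_eq_zero.mp this).symm
  · exfalso
    haveI : P₀.IsPrime := hP₀.1.1
    exact (‹P₀.IsPrime›).ne_top ((Ideal.eq_top_iff_one P₀).mpr (h ▸ P₀.mul_mem_left a (hc P₀ hP₀)))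


end Groth.Agent.S13048
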