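import Groth.Statements.S13049
import Mathlib.RingTheory.Perfection
import Mathlib.RingTheory.Nilpotent.Lemmas

set_option autoImplicit false
universe u
open FrobAlg

namespace Groth.Agent.S13049

/-- Let p be a prime and A a commutative ring of characteristic p whose nilradical N satisfies x^(p^e) =
0 for all x ∈ N and some fixed e (for instance A Noetherian). Then the map between the inverse-limit
perfections along the absolute Frobenius, lim (⋯ → A → A) → lim (⋯ → A/N → A/N), induced by the
projection A → A/N, is bijective. (The published argument takes A of finite type over a field, where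
the nilradical is finitely generated; this row assumes only that the nilradical is killed by one
fixed iterate of Frobenius, which is all that argument uses.) -/
theorem result
    (p : ℕ) [Fact p.Prime] (A : Type u) [CommRing A] [CharP A p]
    [CharP (A ⧸ nilradical A) p] (e : ℕ) (he : ∀ x ∈ nilradical A, x ^ p ^ e = 0) :
    Function.Bijective (Perfection.map p (Ideal.Quotient.mk (nilradical A))) := by

  have hkey : ∀ a b : A, Ideal.Quotient.mk (nilradical A) a = Ideal.Quotient.mk (nilradical A) b →
      a ^ p ^ e = b ^ p ^ e := by
    intro a b h
    rw [← sub_eq_zero, ← sub_pow_char_pow]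
    exact he _ (Ideal.Quotient.eq.mp h)
  constructor
  · intro f g hfg
    refine Perfection.ext fun n => ?_
    have h := congrArg (Perfection.coeff _ p (n + e)) hfg
    rw [Perfection.coeff_map, Perfection.coeff_map] at h
    have := hkey _ _ h
    rwa [← iterate_frobenius, ← iterate_frobenius, ← RingHom.map_iterate_frobenius,
      ← RingHom.map_iterate_frobenius, Perfection.coeff_iterate_frobenius,
      Perfection.coeff_iterate_frobenius] at this
  · intro z
    choose s hs using fun n => Ideal.Quotient.mk_surjective (Perfection.coeff _ p n z)
    let y : ℕ → A := fun n => s (n + e) ^ p ^ e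
    have hy : ∀ n, y (n + 1) ^ p = y n := by
      intro n
      show (s (n + 1 + e) ^ p ^ e) ^ p = s (n + e) ^ p ^ e
      rw [← pow_mul, mul_comm, pow_mul]
      apply hkey
      rw [map_pow, hs, hs, show n + 1 + e = (n + e) + 1 by omega]
      exact Perfection.coeff_pow_p' z (n + e)
    refine ⟨⟨y, hy⟩, Perfection.ext fun n => ?_⟩
    rw [Perfection.coeff_map, Perfection.coeff_mk]
    show Ideal.Quotient.mk _ (s (n + e) ^ p ^ e) = _
    rw [map_pow, hs, ← iterate_frobenius, ← RingHom.map_iterate_frobenius,
      Perfection.coeff_iterate_frobenius]


end Groth.Agent.S13049
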