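import Groth.Statements.S13053
import Groth.Agent.Lib.ProjSpace.Basic
import Groth.Agent.Lib.Zeta25.ZetaParts

set_option autoImplicit false
universe u
open CategoryTheory AlgebraicGeometry
open Zeta

namespace Groth.Agent.S13053

section
open Groth.Agent MvPolynomial HomogeneousLocalization

variable (n : ℕ) (k : Type u) [Field k]

theorem chart_preimage (i : Fin (n + 1)) (j : {j : Fin (n + 1) // j ≠ i}) :
    ProjSpace.chart n k i ⁻¹ᵁ Proj.basicOpen (CohB1.polyGrading n k) (X j.1) =
      PrimeSpectrum.basicOpen (X j : MvPolynomial {j : Fin (n + 1) // j ≠ i} k) := by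
  show ProjSpace.chartP n k i ⁻¹ᵁ _ = _
  unfold ProjSpace.chartP
  rw [Scheme.Hom.comp_preimage,
    Proj.awayι_preimage_basicOpen (CohB1.polyGrading n k) (ProjSpace.X_mem' n k i) Nat.one_pos
      (ProjSpace.X_mem' n k j.1) Nat.one_pos]
  ext x
  show _ ∉ _ ↔ _ ∉ _
  refine not_congr (Iff.of_eq (congrArg (· ∈ x.asIdeal) ?_))
  show ProjSpace.ofAway k i (Away.mk (CohB1.polyGrading n k) (ProjSpace.X_mem' n k i) 1 (X j.1 ^ 1) _) = X j
  rw [ProjSpace.ofAway_mk, pow_one, ProjSpace.dehom_X]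

variable (L : Type u) [Field L] [Algebra k L]

/-- the point with coordinates `v` in chart `i` -/
noncomputable def pt (i : Fin (n + 1)) (v : {j : Fin (n + 1) // j ≠ i} → L) :
    {g : Spec (CommRingCat.of L) ⟶ CohB1.ProjSpace n k //
      g ≫ CohB1.ProjSpace.toSpec n k = Spec.map (CommRingCat.ofHom (algebraMap k L))} :=
  ⟨Spec.map (CommRingCat.ofHom (eval₂Hom (algebraMap k L) v)) ≫ ProjSpace.chart n k i, by
    rw [Category.assoc, ProjSpace.chart_toSpec, ← Spec.map_comp, ← CommRingCat.ofHom_comp]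
    congr 2
    exact RingHom.ext fun r => eval₂Hom_C _ _ r⟩

/-- the coordinates at which a point is non-zero -/
def Nz (g : {g : Spec (CommRingCat.of L) ⟶ CohB1.ProjSpace n k //
      g ≫ CohB1.ProjSpace.toSpec n k = Spec.map (CommRingCat.ofHom (algebraMap k L))}) (j : Fin (n + 1)) : Prop :=
  ∀ z, g.1 z ∈ Proj.basicOpen (CohB1.polyGrading n k) (X j)

theorem nz_self (i : Fin (n + 1)) (v : {j : Fin (n + 1) // j ≠ i} → L) : Nz n k L (pt n k L i v) i := fun z => by
  rw [← ProjSpace.opensRange_chart]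
  exact ⟨_, rfl⟩

theorem nz_iff (i : Fin (n + 1)) (v : {j : Fin (n + 1) // j ≠ i} → L) (j : {j : Fin (n + 1) // j ≠ i}) :
    Nz n k L (pt n k L i v) j.1 ↔ v j ≠ 0 := by
  have key : ∀ z, (pt n k L i v).1 z ∈ Proj.basicOpen (CohB1.polyGrading n k) (X j.1) ↔ v j ≠ 0 := by
    intro z
    show Spec.map (CommRingCat.ofHom (eval₂Hom (algebraMap k L) v)) z ∈
      ProjSpace.chart n k i ⁻¹ᵁ Proj.basicOpen (CohB1.polyGrading n k) (X j.1) ↔ _
    rw [chart_preimage]
    show eval₂Hom (algebraMap k L) v (X j) ∉ (z : PrimeSpectrum L).asIdeal ↔ _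
    have hz : (z : PrimeSpectrum L).asIdeal = ⊥ :=
      (Ideal.eq_bot_or_top _).resolve_right (z : PrimeSpectrum L).isPrime.ne_top
    rw [hz, eval₂Hom_X', Ideal.mem_bot]
  exact ⟨fun h => (key default).1 (h default), fun h z => (key z).2 h⟩

open Classical in
/-- points whose first non-zero coordinate is `i` -/
abbrev Stratum (i : Fin (n + 1)) :=
  {g : {g : Spec (CommRingCat.of L) ⟶ CohB1.ProjSpace n k //
      g ≫ CohB1.ProjSpace.toSpec n k = Spec.map (CommRingCat.ofHom (algebraMap k L))} //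
    Nz n k L g i ∧ ∀ j, j < i → ¬ Nz n k L g j}

theorem card_stratum (i : Fin (n + 1)) :
    Nat.card (Stratum n k L i) = Nat.card ({j : Fin (n + 1) // i < j} → L) := by
  classical
  let ext' : ({j : Fin (n + 1) // i < j} → L) → ({j : Fin (n + 1) // j ≠ i} → L) :=
    fun w j => if h : i < j.1 then w ⟨j.1, h⟩ else 0
  let F : ({j : Fin (n + 1) // i < j} → L) → Stratum n k L i := fun w =>
    ⟨pt n k L i (ext' w), nz_self n k L i _, fun j hj => by
      rw [nz_iff n k L i _ ⟨j, hj.ne⟩]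
      simp [ext', not_lt.2 hj.le]⟩
  refine (Nat.card_congr (Equiv.ofBijective F ⟨fun w w' h => ?_, fun g => ?_⟩)).symm
  · have h2 : (pt n k L i (ext' w)).1 = (pt n k L i (ext' w')).1 :=
      congrArg (fun x : Stratum n k L i => x.1.1) h
    have h3 := congrArg CommRingCat.Hom.hom (Spec.map_injective ((cancel_mono _).1 h2))
    funext j
    have := DFunLike.congr_fun h3 (X (⟨j.1, j.2.ne'⟩ : {j : Fin (n + 1) // j ≠ i}))
    simpa [ext', j.2] using this
  · obtain ⟨⟨g, hg⟩, hi, hlt⟩ := g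
    have hr : Set.range g ⊆ Set.range (ProjSpace.chart n k i) := by
      rintro _ ⟨z, rfl⟩
      show g z ∈ (ProjSpace.chart n k i).opensRange
      rw [ProjSpace.opensRange_chart]
      exact hi z
    let g' := IsOpenImmersion.lift (ProjSpace.chart n k i) g hr
    let φ := (Spec.preimage g').hom
    have hφ : φ.comp C = algebraMap k L := by
      have h : g' ≫ Spec.map (CommRingCat.ofHom C) = Spec.map (CommRingCat.ofHom (algebraMap k L)) := by
        rw [← ProjSpace.chart_toSpec n k i, IsOpenImmersion.lift_fac_assoc, hg]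
      rw [← Spec.map_preimage g', ← Spec.map_comp] at h
      exact congrArg CommRingCat.Hom.hom (Spec.map_injective h)
    let v : {j : Fin (n + 1) // j ≠ i} → L := fun j => φ (X j)
    have hv : eval₂Hom (algebraMap k L) v = φ :=
      MvPolynomial.ringHom_ext (fun r => by rw [eval₂Hom_C, ← hφ]; rfl) (fun j => eval₂Hom_X' _ _ j)
    have hgv : pt n k L i v = ⟨g, hg⟩ := Subtype.ext (by
      show Spec.map (CommRingCat.ofHom (eval₂Hom (algebraMap k L) v)) ≫ _ = g
      rw [hv]
      show Spec.map (Spec.preimage g') ≫ _ = g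
      rw [Spec.map_preimage, IsOpenImmersion.lift_fac])
    refine ⟨fun j => v ⟨j.1, j.2.ne'⟩, Subtype.ext ?_⟩
    refine Eq.trans ?_ hgv
    show pt n k L i _ = pt n k L i v
    congr 1
    funext j
    simp only [ext']
    split_ifs with h
    · rfl
    · have hj : j.1 < i := lt_of_le_of_ne (not_lt.1 h) j.2
      have := hlt j.1 hj
      rw [← hgv, nz_iff n k L i v j, not_not] at this
      exact this.symm

theorem pointCount_projSpace [Finite L] :
    SgaExt.pointCount (CohB1.ProjSpace.toSpec n k) L = ∑ i ∈ Finset.range (n + 1), Nat.card L ^ i := by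
  classical
  let P := {g : Spec (CommRingCat.of L) ⟶ CohB1.ProjSpace n k //
      g ≫ CohB1.ProjSpace.toSpec n k = Spec.map (CommRingCat.ofHom (algebraMap k L))}
  have hex : ∀ g : P, ∃! i, Nz n k L g i ∧ ∀ j, j < i → ¬ Nz n k L g j := by
    intro g
    obtain ⟨i, hi⟩ := ProjSpace.exists_mem_chart n k (g.1 default)
    rw [ProjSpace.opensRange_chart] at hi
    have hi' : Nz n k L g i := fun z => by rwa [Subsingleton.elim z default]
    have hne : (Finset.univ.filter (Nz n k L g)).Nonempty := ⟨i, Finset.mem_filter.2 ⟨Finset.mem_univ _, hi'⟩⟩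
    refine ⟨_, ⟨(Finset.mem_filter.1 (Finset.min'_mem _ hne)).2, fun j hj h => ?_⟩, fun j hj => ?_⟩
    · exact (Finset.min'_le _ j (Finset.mem_filter.2 ⟨Finset.mem_univ _, h⟩)).not_gt hj
    · rcases lt_trichotomy j ((Finset.univ.filter (Nz n k L g)).min' hne) with h | h | h
      · exact absurd (Finset.min'_le _ j (Finset.mem_filter.2 ⟨Finset.mem_univ _, hj.1⟩)) (not_le.2 h)
      · exact h
      · exact absurd (Finset.mem_filter.1 (Finset.min'_mem _ hne)).2 (hj.2 _ h)
  have e : P ≃ Σ i : Fin (n + 1), Stratum n k L i :=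
    { toFun := fun g => ⟨(hex g).choose, g, (hex g).choose_spec.1⟩
      invFun := fun x => x.2.1
      left_inv := fun g => rfl
      right_inv := fun ⟨i, g, hg⟩ => Sigma.subtype_ext ((hex g).choose_spec.2 i hg).symm rfl }
  haveI : ∀ i, Finite (Stratum n k L i) := fun i => by
    refine Nat.finite_of_card_ne_zero ?_
    rw [card_stratum]
    exact Nat.card_pos.ne'
  rw [SgaExt.pointCount, Nat.card_congr e, Nat.card_sigma,
    Finset.sum_congr rfl fun i _ => card_stratum n k L i, ← Fin.sum_univ_eq_sum_range]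
  rw [← Equiv.sum_comp Fin.revPerm (fun i : Fin (n + 1) => Nat.card L ^ (i : ℕ))]
  refine Finset.sum_congr rfl fun i _ => ?_
  rw [Nat.card_fun, Nat.card_eq_fintype_card (α := {j : Fin (n + 1) // i < j})]
  congr 1
  rw [Fintype.card_subtype, Finset.filter_lt_eq_Ioi, Fin.card_Ioi, Fin.revPerm_apply, Fin.val_rev]
  omega

end

/-- For a finite field k with q elements, Z(P^n_k, t) = 1 / ((1 − t)(1 − qt) ⋯ (1 − q^n t)); stated as
Z(P^n_k, t) · ∏_{i = 0}^{n} (1 − q^i t) = 1 in ℚ⟦t⟧. -/
theorem result (k : Type u) [Field k] [Finite k] (n : ℕ) :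
    Zeta.zetaFun (CohB1.ProjSpace.toSpec n k) *
        ∏ i ∈ Finset.range (n + 1), (1 - PowerSeries.C ((Nat.card k : ℚ) ^ i) * PowerSeries.X) = 1 := by
  haveI : IsProper (CohB1.ProjSpace.toSpec n k) := inferInstance
  rw [Groth.Agent.Zeta25.zetaFun_eq]
  have hfac : ∀ i ∈ Finset.range (n + 1),
      PowerSeries.constantCoeff (PowerSeries.rescale ((Nat.card k : ℚ) ^ i) (Groth.Agent.Zeta25.logOneSub ℚ 1)) = 0 := by
    intro i _
    rw [← PowerSeries.coeff_zero_eq_constantCoeff, PowerSeries.coeff_rescale,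
      PowerSeries.coeff_zero_eq_constantCoeff, Groth.Agent.Zeta25.constantCoeff_logOneSub, mul_zero]
  rw [Finset.prod_congr rfl fun i _ => Groth.Agent.Zeta25.one_sub_C_mul_X_eq ((Nat.card k : ℚ) ^ i),
    ← Groth.Agent.Zeta25.expL_sum _ _ hfac,
    ← Groth.Agent.Zeta25.expL_add (Groth.Agent.Zeta25.constantCoeff_logZeta _)
      (by rw [map_sum]; exact Finset.sum_eq_zero hfac)]
  convert Groth.Agent.Zeta25.expL_zero (K := ℚ) using 2
  ext m
  rw [map_add, map_sum, Groth.Agent.Zeta25.coeff_logZeta, map_zero]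
  rcases eq_or_ne m 0 with rfl | hm
  · simp [Groth.Agent.Zeta25.logOneSub]
  obtain ⟨L, _, _, _, hd⟩ := Groth.Agent.Zeta25.exists_extension k m hm
  haveI : Module.Finite k L := Module.Finite.of_finite
  have hN : Zeta.nPts (CohB1.ProjSpace.toSpec n k) m = ∑ i ∈ Finset.range (n + 1), (Nat.card k ^ m) ^ i := by
    rw [← hd, ← Groth.Agent.Zeta25.pointCount_eq_nPts, pointCount_projSpace, Module.natCard_eq_pow_finrank (K := k) (V := L)]
  rw [hN]
  simp only [PowerSeries.coeff_rescale, Groth.Agent.Zeta25.logOneSub, PowerSeries.coeff_mk, one_dvd, if_true]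
  push_cast
  rw [Finset.sum_div, ← Finset.sum_add_distrib]
  refine Finset.sum_eq_zero fun i _ => ?_
  ring

end Groth.Agent.S13053
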