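import Groth.Statements.S13054
import Groth.Agent.Lib.Zeta25.ZetaParts

set_option autoImplicit false
universe u
open CategoryTheory AlgebraicGeometry Limits
open Zeta

namespace Groth.Agent.S13054

/-- Let X be a scheme of finite type over a finite field k, k'/k a finite extension of degree r and X' =
X ×_{Spec k} Spec k', a k'-scheme. Then Z(X', t^r) = ∏_{i = 1}^{r} Z(X, ξ^i t) for ξ a primitive
r-th root of unity; stated in ℂ⟦t⟧ with the product over the exponents 0, …, r − 1. (Reducedness of
X plays no role.) -/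
theorem result {k : Type u} [Field k] [Finite k]
    {X : Scheme.{u}} (f : X ⟶ Spec (CommRingCat.of k)) [LocallyOfFiniteType f] [QuasiCompact f]
    (k' : Type u) [Field k'] [Algebra k k'] [Finite k'] (ξ : ℂ)
    (hξ : IsPrimitiveRoot ξ (Module.finrank k k')) :
    PowerSeries.subst ((PowerSeries.X : PowerSeries ℂ) ^ Module.finrank k k')
        (PowerSeries.map (algebraMap ℚ ℂ) (Zeta.zetaFun
          (pullback.snd f (Spec.map (CommRingCat.ofHom (algebraMap k k')))))) =
      ∏ i ∈ Finset.range (Module.finrank k k'),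
        PowerSeries.rescale (ξ ^ i) (PowerSeries.map (algebraMap ℚ ℂ) (Zeta.zetaFun f)) := by
  set r := Module.finrank k k' with hr
  haveI : Module.Finite k k' := Module.Finite.of_finite
  have hr0 : r ≠ 0 := Module.finrank_pos.ne'
  set f' := pullback.snd f (Spec.map (CommRingCat.ofHom (algebraMap k k')))
  have hm : ∀ (g : PowerSeries ℚ), PowerSeries.constantCoeff g = 0 →
      PowerSeries.constantCoeff (PowerSeries.map (algebraMap ℚ ℂ) g) = 0 := fun g hg => by
    rw [← PowerSeries.coeff_zero_eq_constantCoeff_apply, PowerSeries.coeff_map,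
      PowerSeries.coeff_zero_eq_constantCoeff, hg, map_zero]
  have hb : PowerSeries.constantCoeff ((PowerSeries.X : PowerSeries ℂ) ^ r) = 0 := by simp [zero_pow hr0]
  have h1 := Groth.Agent.Zeta25.constantCoeff_logZeta f'
  have h2 := Groth.Agent.Zeta25.constantCoeff_logZeta f
  have hc : ∀ i ∈ Finset.range r, PowerSeries.constantCoeff
      (PowerSeries.rescale (ξ ^ i) (PowerSeries.map (algebraMap ℚ ℂ) (Zeta.logZeta f))) = 0 := fun i _ => by
    rw [← PowerSeries.coeff_zero_eq_constantCoeff_apply, PowerSeries.coeff_rescale,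
      PowerSeries.coeff_zero_eq_constantCoeff, hm _ h2, mul_zero]
  simp only [Groth.Agent.Zeta25.zetaFun_eq]
  rw [Groth.Agent.Zeta25.expL_map _ h1, Groth.Agent.Zeta25.expL_map _ h2,
    Groth.Agent.Zeta25.expL_subst (hm _ h1) hb]
  simp only [Groth.Agent.Zeta25.expL_rescale _ (hm _ h2)]
  rw [← Groth.Agent.Zeta25.expL_sum _ _ hc]
  congr 1
  ext n
  rw [PowerSeries.coeff_subst_X_pow hr0, map_sum]
  simp only [PowerSeries.coeff_rescale, PowerSeries.coeff_map, Groth.Agent.Zeta25.coeff_logZeta,
    ← Finset.sum_mul, map_div₀, map_natCast]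
  have hsum : ∑ i ∈ Finset.range r, (ξ ^ i) ^ n = if r ∣ n then (r : ℂ) else 0 := by
    simp only [← pow_mul, mul_comm _ n]
    simp only [pow_mul]
    split_ifs with h
    · rw [(hξ.pow_eq_one_iff_dvd n).mpr h]
      simp
    · have hne : ξ ^ n ≠ 1 := fun e => h ((hξ.pow_eq_one_iff_dvd n).mp e)
      rw [geom_sum_eq hne, ← pow_mul, mul_comm, pow_mul, hξ.pow_eq_one, one_pow, sub_self, zero_div]
  rw [hsum]
  split_ifs with h
  · obtain ⟨m, rfl⟩ := h
    rw [Nat.mul_div_cancel_left _ (Nat.pos_of_ne_zero hr0), Groth.Agent.Zeta25.nPts_baseChange,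
      ← hr, mul_comm m r, Nat.cast_mul, ← mul_div_assoc, mul_div_mul_left]
    exact_mod_cast hr0
  · simp
end Groth.Agent.S13054
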