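import Groth.Statements.S13055
import Groth.Agent.Lib.Zeta25.ZetaParts

set_option autoImplicit false
universe u
open CategoryTheory AlgebraicGeometry
open Zeta

namespace Groth.Agent.S13055

/-- Let X be a scheme of finite type over a finite field k with q elements and P = a_d y^d + ⋯ + a_0 ∈
ℤ[y] with N_m = P(q^m) for every m ≥ 1 (X is of polynomial count). Then Z(X, t) = ∏_{i = 0}^{d} (1 −
q^i t)^{−a_i}; stated cleared of denominators, with the factors of positive exponent moved to the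
left. -/
theorem result {k : Type u} [Field k] [Finite k] {X : Scheme.{u}}
    (f : X ⟶ Spec (CommRingCat.of k)) [LocallyOfFiniteType f] [QuasiCompact f] (P : Polynomial ℤ)
    (hP : ∀ m : ℕ, 1 ≤ m → (Zeta.nPts f m : ℤ) = P.eval ((Nat.card k : ℤ) ^ m)) :
    Zeta.zetaFun f * ∏ i ∈ Finset.range (P.natDegree + 1),
        (1 - PowerSeries.C ((Nat.card k : ℚ) ^ i) * PowerSeries.X) ^ (P.coeff i).toNat =
      ∏ i ∈ Finset.range (P.natDegree + 1),
        (1 - PowerSeries.C ((Nat.card k : ℚ) ^ i) * PowerSeries.X) ^ (-P.coeff i).toNat := by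
  set q : ℚ := (Nat.card k : ℚ)
  let G : ℕ → PowerSeries ℚ := fun i => PowerSeries.rescale (q ^ i) (Groth.Agent.Zeta25.logOneSub ℚ 1)
  have hG : ∀ i, PowerSeries.constantCoeff (G i) = 0 := fun i => by
    rw [← PowerSeries.coeff_zero_eq_constantCoeff_apply, PowerSeries.coeff_rescale,
      PowerSeries.coeff_zero_eq_constantCoeff, Groth.Agent.Zeta25.constantCoeff_logOneSub, mul_zero]
  have hGn : ∀ (n i : ℕ), PowerSeries.constantCoeff (n • G i) = 0 := fun n i => by
    rw [map_nsmul, hG, smul_zero]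
  simp only [Groth.Agent.Zeta25.one_sub_C_mul_X_eq, ← Groth.Agent.Zeta25.expL_nsmul _ (hG _), G]
  rw [← Groth.Agent.Zeta25.expL_sum _ _ (fun i _ => hGn _ i), ← Groth.Agent.Zeta25.expL_sum _ _ (fun i _ => hGn _ i),
    Groth.Agent.Zeta25.zetaFun_eq,
    ← Groth.Agent.Zeta25.expL_add (Groth.Agent.Zeta25.constantCoeff_logZeta f)
      (by rw [map_sum]; exact Finset.sum_eq_zero fun i _ => hGn _ i)]
  congr 1
  ext m
  simp only [G, map_add, map_sum, map_nsmul]
  simp only [Groth.Agent.Zeta25.coeff_logZeta, PowerSeries.coeff_rescale,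
    Groth.Agent.Zeta25.logOneSub, PowerSeries.coeff_mk, one_dvd, if_true, Nat.cast_one, nsmul_eq_mul]
  rw [← eq_sub_iff_add_eq, ← Finset.sum_sub_distrib]
  rcases Nat.eq_zero_or_pos m with rfl | hm
  · simp
  have hPm : (Zeta.nPts f m : ℚ) = ∑ i ∈ Finset.range (P.natDegree + 1), (P.coeff i : ℚ) * (q ^ m) ^ i := by
    rw [← Int.cast_natCast, hP m hm, Polynomial.eval_eq_sum_range]
    push_cast
    rfl
  rw [hPm, Finset.sum_div]
  refine Finset.sum_congr rfl fun i _ => ?_
  have : (P.coeff i : ℚ) = ((P.coeff i).toNat : ℚ) - ((-P.coeff i).toNat : ℚ) := by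
    exact_mod_cast (Int.toNat_sub_toNat_neg (P.coeff i)).symm
  rw [this]
  ring
end Groth.Agent.S13055
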