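import Groth.Statements.S13057
import Mathlib.LinearAlgebra.Dual.Lemmas
import Mathlib.RingTheory.PowerSeries.Trunc
import Mathlib.Algebra.BigOperators.Fin

set_option autoImplicit false
universe u
open Zeta

namespace Groth.Agent.S13057

/-- A power series f = ∑_{m ≥ 0} a_m t^m over a field L lies in L(t), i.e. f · Q = P for some
polynomials P, Q with Q ≠ 0, if and only if there are natural numbers M, N such that the vectors
(a_i, a_{i+1}, …, a_{i+N}) ∈ L^{N+1}, i ≥ M, span a proper subspace. -/
theorem result {L : Type u} [Field L]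
    (f : PowerSeries L) :
    (∃ P Q : Polynomial L, Q ≠ 0 ∧ f * (Q : PowerSeries L) = (P : PowerSeries L)) ↔
      ∃ M N : ℕ, Submodule.span L
          {v : Fin (N + 1) → L | ∃ i : ℕ, M ≤ i ∧ v = fun j : Fin (N + 1) => PowerSeries.coeff (i + (j : ℕ)) f} ≠ ⊤ := by
  classical
  constructor
  · rintro ⟨P, Q, hQ, hPQ⟩
    refine ⟨P.natDegree + 1, Q.natDegree, fun htop => ?_⟩
    let φ : (Fin (Q.natDegree + 1) → L) →ₗ[L] L :=
      { toFun := fun v => ∑ j : Fin (Q.natDegree + 1), Q.coeff (Q.natDegree - j) * v j
        map_add' := fun v w => by simp [mul_add, Finset.sum_add_distrib]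
        map_smul' := fun c v => by simp [Finset.mul_sum, mul_left_comm] }
    have hle : (⊤ : Submodule L (Fin (Q.natDegree + 1) → L)) ≤ LinearMap.ker φ := by
      rw [← htop, Submodule.span_le]
      rintro v ⟨i, hi, rfl⟩
      have h := congrArg (PowerSeries.coeff (i + Q.natDegree)) hPQ
      rw [Polynomial.coeff_coe, Polynomial.coeff_eq_zero_of_natDegree_lt (by omega), PowerSeries.coeff_mul,
        Finset.Nat.sum_antidiagonal_eq_sum_range_succ
          (fun a b => PowerSeries.coeff a f * PowerSeries.coeff b (Q : PowerSeries L))] at h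
      show ∑ j : Fin (Q.natDegree + 1), Q.coeff (Q.natDegree - j) * PowerSeries.coeff (i + j) f = 0
      rw [← h, Fin.sum_univ_eq_sum_range
        (fun j => Q.coeff (Q.natDegree - j) * PowerSeries.coeff (i + j) f),
        show (i + Q.natDegree).succ = i + (Q.natDegree + 1) from rfl, Finset.sum_range_add _ i]
      rw [Finset.sum_eq_zero (s := Finset.range i) fun a ha => by
        have := Finset.mem_range.mp ha
        rw [Polynomial.coeff_coe, Polynomial.coeff_eq_zero_of_natDegree_lt (by omega), mul_zero], zero_add]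
      refine Finset.sum_congr rfl fun j hj => ?_
      rw [Polynomial.coeff_coe, mul_comm]
      congr 2
      omega
    have h0 := hle (Submodule.mem_top (x := Pi.single (0 : Fin (Q.natDegree + 1)) 1))
    have : φ (Pi.single (0 : Fin (Q.natDegree + 1)) 1) = Q.leadingCoeff := by
      show ∑ j : Fin (Q.natDegree + 1), Q.coeff (Q.natDegree - j) *
          (Pi.single (0 : Fin (Q.natDegree + 1)) 1 : Fin (Q.natDegree + 1) → L) j = _
      rw [Finset.sum_eq_single 0 (fun j _ hj => by simp [hj]) (by simp)]
      rw [Pi.single_eq_same, mul_one, Fin.val_zero, Nat.sub_zero]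
      rfl
    rw [LinearMap.mem_ker, this] at h0
    exact hQ (Polynomial.leadingCoeff_eq_zero.mp h0)
  · rintro ⟨M, N, hne⟩
    obtain ⟨φ, hφ, hker⟩ := Submodule.exists_dual_map_eq_bot_of_lt_top (lt_top_iff_ne_top.mpr hne) inferInstance
    let q : Fin (N + 1) → L := fun j => φ (Pi.single j 1)
    have hφq : ∀ v, φ v = ∑ j, v j * q j := fun v => by
      conv_lhs => rw [← Finset.univ_sum_single v]
      rw [map_sum]
      refine Finset.sum_congr rfl fun j _ => ?_
      rw [show Pi.single j (v j) = v j • (Pi.single j 1 : Fin (N + 1) → L) by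
        rw [← Pi.single_smul, smul_eq_mul, mul_one], map_smul, smul_eq_mul]
    let Q : Polynomial L := ∑ j : Fin (N + 1), Polynomial.monomial (N - j.1) (q j)
    have hQc : ∀ a, ∀ ha : a ≤ N, Q.coeff (N - a) = q ⟨a, by omega⟩ ∨ False := fun a ha => by
      left
      simp only [Q, Polynomial.finsetSum_coeff, Polynomial.coeff_monomial]
      rw [Finset.sum_eq_single ⟨a, by omega⟩ (fun j _ hj => if_neg fun h => hj (Fin.ext (by
        have := j.2
        simp only
        omega))) (by simp), if_pos rfl]
    have hQdeg : ∀ a, N < a → Q.coeff a = 0 := fun a ha => by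
      simp only [Q, Polynomial.finsetSum_coeff, Polynomial.coeff_monomial]
      exact Finset.sum_eq_zero fun j _ => if_neg (by omega)
    have hQ0 : Q ≠ 0 := fun h => hφ (LinearMap.ext fun v => by
      rw [hφq, Finset.sum_eq_zero fun j _ => by
        have := (hQc j.1 (Nat.lt_succ_iff.mp j.2)).resolve_right id
        rw [h, Polynomial.coeff_zero] at this
        rw [← this, mul_zero]]
      simp)
    refine ⟨PowerSeries.trunc (M + N) (f * (Q : PowerSeries L)), Q, hQ0, ?_⟩
    ext m
    rw [Polynomial.coeff_coe, PowerSeries.coeff_trunc]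
    split_ifs with hm
    · rfl
    · push Not at hm
      obtain ⟨i, hi, rfl⟩ : ∃ i, M ≤ i ∧ m = i + N := ⟨m - N, by omega, by omega⟩
      have hv : φ (fun j : Fin (N + 1) => PowerSeries.coeff (i + (j : ℕ)) f) = 0 := by
        have := Submodule.mem_map_of_mem (f := φ) (Submodule.subset_span (R := L)
          (show (fun j : Fin (N + 1) => PowerSeries.coeff (i + (j : ℕ)) f) ∈
            {v : Fin (N + 1) → L | ∃ i : ℕ, M ≤ i ∧ v = fun j : Fin (N + 1) => PowerSeries.coeff (i + (j : ℕ)) f}
            from ⟨i, hi, rfl⟩))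
        rwa [hker, Submodule.mem_bot] at this
      rw [← hv, hφq, PowerSeries.coeff_mul, Finset.Nat.sum_antidiagonal_eq_sum_range_succ
          (fun a b => PowerSeries.coeff a f * PowerSeries.coeff b (Q : PowerSeries L)),
        show (i + N).succ = i + (N + 1) from rfl, Finset.sum_range_add _ i,
        Finset.sum_eq_zero (s := Finset.range i) fun a ha => by
          have := Finset.mem_range.mp ha
          rw [Polynomial.coeff_coe, hQdeg _ (by omega), mul_zero],
        zero_add, Finset.sum_range]
      refine Finset.sum_congr rfl fun j _ => ?_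
      rw [Polynomial.coeff_coe, show i + N - (i + j.1) = N - j.1 by omega,
        (hQc j.1 (Nat.lt_succ_iff.mp j.2)).resolve_right id]
end Groth.Agent.S13057
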