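import Groth.Statements.S13058
import Groth.Agent.Lib.WeilH13.ZetaFormula

set_option autoImplicit false
universe u v
open Zeta

namespace Groth.Agent.S13058

/-- If L'/L is a field extension, a power series f ∈ L⟦t⟧ belongs to L(t) exactly when it belongs to
L'(t); here membership in L(t) means f · Q = P for polynomials P, Q over the field in question with
Q ≠ 0. -/
theorem result {L : Type u} {L' : Type v} [Field L] [Field L']
    [Algebra L L'] (f : PowerSeries L) :
    (∃ P Q : Polynomial L', Q ≠ 0 ∧
        PowerSeries.map (algebraMap L L') f * (Q : PowerSeries L') = (P : PowerSeries L')) ↔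
      ∃ P Q : Polynomial L, Q ≠ 0 ∧ f * (Q : PowerSeries L) = (P : PowerSeries L) := by
  constructor
  · rintro ⟨P, Q, hQ, h⟩
    exact Groth.Agent.WeilH13.exists_polynomial_mul_eq_descent hQ h
  · rintro ⟨P, Q, hQ, h⟩
    refine ⟨P.map (algebraMap L L'), Q.map (algebraMap L L'), Polynomial.map_ne_zero hQ, ?_⟩
    rw [Polynomial.polynomial_map_coe, Polynomial.polynomial_map_coe, ← map_mul, h]

end Groth.Agent.S13058
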