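import Groth.Statements.S13059
import Groth.Agent.Lib.WeilH13.LinAlg

set_option autoImplicit false
universe u
open Zeta

namespace Groth.Agent.S13059

/-- Let B : V × W → K be a perfect pairing of finite-dimensional vector spaces over a field K, c ∈ K
nonzero, and f, g endomorphisms of V, W with B(f v, g w) = c · B(v, w) for all v, w. Then det(Id − t
g) = (−1)^r c^r t^r det(f)^{−1} det(Id − c^{−1} t^{−1} f) with r the common dimension; stated
cleared of denominators as det(f) · det(Id − t g) = (−1)^r c^r · det(t Id − c^{−1} f) in K[t],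
det(Id − t g) being the reverse of the characteristic polynomial of g. -/
theorem result (K : Type u) [Field K] (V W : Type u)
    [AddCommGroup V] [Module K V] [FiniteDimensional K V] [AddCommGroup W] [Module K W]
    [FiniteDimensional K W] (B : V →ₗ[K] W →ₗ[K] K) [B.IsPerfPair] (f : V →ₗ[K] V) (g : W →ₗ[K] W)
    (c : K) (hc : c ≠ 0) (hfg : ∀ (v : V) (w : W), B (f v) (g w) = c * B v w) :
    LinearMap.det f • (LinearMap.charpoly g).reverse =
      ((-1) ^ Module.finrank K W * c ^ Module.finrank K W) • (c⁻¹ • f).charpoly := by
  have hV : Module.finrank K V = Module.finrank K W := Module.finrank_of_isPerfPair B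
  rw [Groth.Agent.WeilH13.det_smul_reverse_charpoly B f g c hfg]
  let b := Module.finBasis K V
  rw [← LinearMap.charpoly_toMatrix f b, ← LinearMap.charpoly_toMatrix (c⁻¹ • f) b, map_smul]
  set M := LinearMap.toMatrix b b f
  rw [← hV, Polynomial.smul_eq_C_mul, map_mul, map_pow, map_pow, map_neg, map_one, mul_assoc]
  congr 1
  rw [Matrix.charpoly, Matrix.charpoly, ← Polynomial.coe_compRingHom_apply, RingHom.map_det,
    show (Polynomial.C c) ^ Module.finrank K V = (Polynomial.C c) ^ Fintype.card (Fin (Module.finrank K V)) by
      rw [Fintype.card_fin], ← Matrix.det_smul]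
  congr 1
  ext i j : 1
  simp only [RingHom.mapMatrix_apply, Matrix.map_apply, Matrix.charmatrix_apply, Matrix.smul_apply,
    Polynomial.coe_compRingHom_apply, Matrix.diagonal_apply, smul_eq_mul, Polynomial.sub_comp,
    Polynomial.C_comp, mul_sub, ← Polynomial.C_mul, ← mul_assoc, mul_inv_cancel₀ hc, one_mul]
  by_cases hij : i = j
  · subst hij; simp
  · simp [hij]

end Groth.Agent.S13059
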