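import Groth.Statements.S13060
import Mathlib.LinearAlgebra.TensorProduct.Basis

set_option autoImplicit false
universe u v w x
open TensorProduct
open Zeta

namespace Groth.Agent.S13060

/-- Let k be a field, V and W vector spaces over k and G a group acting on V by k-linear automorphisms;
for the induced action on V ⊗_k W (trivial on W) one has (V ⊗_k W)^G = V^G ⊗_k W, i.e. the
invariants of V ⊗ W are the image of V^G ⊗ W → V ⊗ W. -/
theorem result {k : Type u} [Field k] {G : Type v} [Group G]
    {V : Type w} {W : Type x} [AddCommGroup V] [Module k V] [AddCommGroup W] [Module k W]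
    (ρ : Representation k G V) :
    (ρ.tprod (Representation.trivial k G W)).invariants =
      LinearMap.range (TensorProduct.map ρ.invariants.subtype (LinearMap.id : W →ₗ[k] W)) := by
  classical
  let b := Module.Free.chooseBasis k W
  let e := TensorProduct.equivFinsuppOfBasisRight (M := V) b
  have hcomm : ∀ g, ∀ x, e ((ρ.tprod (Representation.trivial k G W)) g x) =
      (e x).mapRange (ρ g) (map_zero _) := by
    intro g x
    induction x using TensorProduct.induction_on with
    | zero => simp
    | tmul v w => ext i; simp [e]
    | add x y hx hy => rw [map_add, map_add, map_add, hx, hy, Finsupp.mapRange_add]; exact map_add _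
  apply le_antisymm
  · intro x hx
    rw [← e.symm_apply_apply x, TensorProduct.equivFinsuppOfBasisRight_symm_apply]
    refine Submodule.sum_mem _ fun i _ => ?_
    have hi : (e x) i ∈ ρ.invariants := fun g => by
      have := hcomm g x
      rw [hx g] at this
      conv_rhs => rw [this]
      simp
    exact ⟨⟨(e x) i, hi⟩ ⊗ₜ[k] b i, by simp⟩
  · rintro x ⟨y, rfl⟩ g
    induction y using TensorProduct.induction_on with
    | zero => simp
    | tmul v w => simp [v.2 g]
    | add x y hx hy => rw [map_add, map_add, hx, hy]

end Groth.Agent.S13060
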