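import Groth.Statements.S13061
import Mathlib.GroupTheory.Sylow
import Mathlib.GroupTheory.Index
import Mathlib.RingTheory.Ideal.Quotient.Operations
import Mathlib.Algebra.CharP.Basic

set_option autoImplicit false
universe u v w
open Zeta

namespace Groth.Agent.S13061

/-- Let A be a commutative algebra over a field k, G a finite group acting on A by k-algebra
automorphisms and I ⊆ A an ideal preserved by G. If p^n is the largest power of p = char(k) dividing
|G| (with p^n = 1 when char(k) = 0), then for every G-invariant b ∈ A/I the power b^{p^n} lies in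
the image of A^G → (A/I)^G. (The published statement takes A finitely generated over k, which the
proof does not use.) -/
theorem result {k : Type u} [Field k]
    {A : Type v} [CommRing A] [Algebra k A] {G : Type w} [Group G] [Finite G]
    [MulSemiringAction G A] [SMulCommClass G k A] (I : Ideal A)
    (hI : ∀ (g : G) (a : A), a ∈ I → g • a ∈ I) (u : A) (hu : ∀ g : G, g • u - u ∈ I) :
    ∃ a : A, (∀ g : G, g • a = a) ∧
      Ideal.Quotient.mk I a =
        Ideal.Quotient.mk I u ^ (ringChar k ^ (Nat.card G).factorization (ringChar k)) := by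
  classical
  obtain ⟨p, hp⟩ := CharP.exists k
  rw [ringChar.eq k p]
  obtain ⟨H, hH, hidx⟩ : ∃ H : Subgroup G, Nat.card H = p ^ (Nat.card G).factorization p ∧ (H.index : k) ≠ 0 := by
    rcases CharP.char_is_prime_or_zero k p with hp' | rfl
    · haveI : Fact p.Prime := ⟨hp'⟩
      obtain ⟨P⟩ : Nonempty (Sylow p G) := inferInstance
      refine ⟨P, P.card_eq_multiplicity, fun h => ?_⟩
      exact P.not_dvd_index ((CharP.cast_eq_zero_iff k p _).mp h)
    · haveI : CharZero k := CharP.charP_to_charZero k
      exact ⟨⊥, by simp [Nat.factorization_eq_zero_of_not_prime _ Nat.not_prime_zero],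
        Nat.cast_ne_zero.mpr Subgroup.FiniteIndex.index_ne_zero⟩
  letI := Fintype.ofFinite G
  let b : A := ∏ h : H, (h : G) • u
  have hb : ∀ h : H, (h : G) • b = b := fun h => by
    simp only [b, Finset.smul_prod', smul_smul]
    exact Fintype.prod_equiv (Equiv.mulLeft h) _ _ fun x => rfl
  letI := Fintype.ofFinite (G ⧸ H)
  let t : G ⧸ H → A := fun c => Quotient.liftOn' c (fun g => g • b) fun g g' hg => by
    have := hb ⟨g⁻¹ * g', QuotientGroup.leftRel_apply.mp hg⟩
    show g • b = g' • b
    conv_lhs => rw [← this, smul_smul, mul_inv_cancel_left]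
  let e := fun x : A => Ideal.Quotient.mk I x
  have he : ∀ g : G, Ideal.Quotient.mk I (g • u) = Ideal.Quotient.mk I u := fun g =>
    Ideal.Quotient.eq.mpr (hu g)
  refine ⟨(H.index : k)⁻¹ • ∑ c : G ⧸ H, t c, fun g => ?_, ?_⟩
  · rw [smul_comm, Finset.smul_sum]
    congr 1
    refine Fintype.sum_equiv (MulAction.toPerm g) _ _ fun c => ?_
    induction c using QuotientGroup.induction_on with
    | H x => exact smul_smul g x b
  · have hmk : ∀ c : G ⧸ H, Ideal.Quotient.mk I (t c) = Ideal.Quotient.mk I u ^ Nat.card H := fun c => by
      induction c using QuotientGroup.induction_on with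
      | H x =>
        show Ideal.Quotient.mk I (x • b) = _
        simp only [b, Finset.smul_prod', smul_smul, map_prod, he, Finset.prod_const, Finset.card_univ,
          Nat.card_eq_fintype_card]
    rw [Algebra.smul_def, map_mul, map_sum, Finset.sum_congr rfl fun c _ => hmk c, Finset.sum_const,
      Finset.card_univ, nsmul_eq_mul, ← Nat.card_eq_fintype_card, ← Subgroup.index_eq_card, hH,
      ← mul_assoc, ← map_natCast (algebraMap k (A ⧸ I)), Ideal.Quotient.mk_algebraMap, ← map_mul,
      inv_mul_cancel₀ hidx, map_one, one_mul]
end Groth.Agent.S13061
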