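import Groth.Statements.S13062
import Groth.Agent.Lib.Zeta25.PointBound

set_option autoImplicit false
universe u
open CategoryTheory AlgebraicGeometry
open Zeta

namespace Groth.Agent.S13062

/-- If X is a variety of dimension r over a finite field k with q elements, there is a constant c_X > 0
with #X(F_{q^e}) ≤ c_X q^{re} for every e ≥ 1. Stated for any scheme of finite type over k of
dimension at most r, with a natural-number constant. -/
theorem result {k : Type u} [Field k] [Finite k] {X : Scheme.{u}}
    (f : X ⟶ Spec (CommRingCat.of k)) [LocallyOfFiniteType f] [QuasiCompact f] (r : ℕ)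
    (hr : topologicalKrullDim X ≤ r) :
    ∃ c : ℕ, ∀ (k' : Type u) [Field k'] [Algebra k k'] [Finite k'],
      SgaExt.pointCount f k' ≤ c * Nat.card k ^ (r * Module.finrank k k') := by
  let j : X ⟶ Spec (CommRingCat.of (ULift.{u} ℤ)) :=
    f ≫ Spec.map (CommRingCat.ofHom ((Int.castRingHom k).comp ULift.ringEquiv.toRingHom))
  haveI : LocallyOfFiniteType (Spec.map (CommRingCat.ofHom
      ((Int.castRingHom k).comp (ULift.ringEquiv.{0, u}.toRingHom : ULift.{u} ℤ →+* ℤ)))) := by
    rw [HasRingHomProperty.Spec_iff (P := @LocallyOfFiniteType)]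
    haveI : Module.Finite ℤ k := Module.Finite.of_finite
    exact RingHom.FiniteType.comp (RingHom.finiteType_algebraMap.mpr inferInstance)
      (RingHom.FiniteType.of_surjective _ ULift.ringEquiv.surjective)
  haveI : CompactSpace X := (HasAffineProperty.iff_of_isAffine (P := @QuasiCompact) (f := f)).mp inferInstance
  haveI : QuasiCompact j := (HasAffineProperty.iff_of_isAffine (P := @QuasiCompact) (f := j)).mpr inferInstance
  obtain ⟨c, p₀, h⟩ := Groth.Agent.Zeta25.exists_card_hom_le j r hr
  refine ⟨c, fun k' _ _ _ => ?_⟩
  obtain ⟨hfin, h⟩ := h k'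
  haveI := hfin
  haveI : Module.Finite k k' := Module.Finite.of_finite
  rw [mul_comm r, pow_mul, ← Module.natCard_eq_pow_finrank]
  refine le_trans ?_ h
  refine le_trans ?_ (Nat.le_mul_of_pos_right _ (by split <;> [exact Nat.card_pos; exact one_pos]))
  exact Nat.card_le_card_of_injective _ Subtype.val_injective
end Groth.Agent.S13062
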