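import Groth.Statements.S13063
import Groth.Agent.Lib.LangWeil25.SchemePts
-- import your own Groth.Agent.* helpers here

set_option autoImplicit false
universe u
open CategoryTheory AlgebraicGeometry Limits
open Zeta

namespace Groth.Agent.S13063

open TopologicalSpace Groth.Agent.LangWeil25

/-- Points of a closed subscheme of dimension less than `r`. -/
theorem exists_small {k : Type u} [Field k] [Finite k] {T : Scheme.{u}} (g : T ⟶ Spec (CommRingCat.of k))
    [LocallyOfFiniteType g] [QuasiCompact g] (r : ℕ) (hdim : ∀ t : T, VarDim.sdim g t < r) :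
    ∃ C : ℕ, ∀ e : ℕ, 1 ≤ e → (Zeta.nPts g e : ℝ) * (Nat.card k : ℝ) ^ e ≤ C * ((Nat.card k : ℝ) ^ e) ^ r := by
  rcases isEmpty_or_nonempty T with hT | ⟨⟨t₀⟩⟩
  · refine ⟨0, fun e _ => ?_⟩
    simp [Zeta.nPts, Zeta.degCount]
  obtain ⟨s, rfl⟩ : ∃ s, r = s + 1 := ⟨r - 1, by have := hdim t₀; omega⟩
  haveI : CompactSpace T := (HasAffineProperty.iff_of_isAffine (P := @QuasiCompact) (f := g)).mp inferInstance
  let j : T ⟶ Spec (CommRingCat.of (ULift.{u} ℤ)) :=
    g ≫ Spec.map (CommRingCat.ofHom ((Int.castRingHom k).comp ULift.ringEquiv.toRingHom))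
  haveI : LocallyOfFiniteType (Spec.map (CommRingCat.ofHom
      ((Int.castRingHom k).comp (ULift.ringEquiv.{0, u}.toRingHom : ULift.{u} ℤ →+* ℤ)))) := by
    rw [HasRingHomProperty.Spec_iff (P := @LocallyOfFiniteType)]
    haveI : Module.Finite ℤ k := Module.Finite.of_finite
    exact RingHom.FiniteType.comp (RingHom.finiteType_algebraMap.mpr inferInstance)
      (RingHom.FiniteType.of_surjective _ ULift.ringEquiv.surjective)
  haveI : QuasiCompact j := (HasAffineProperty.iff_of_isAffine (P := @QuasiCompact) (f := j)).mpr inferInstance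
  obtain ⟨c, p₀, hc⟩ := Zeta25.exists_card_hom_le j s (by
    rw [VarDim.dim_eq_iSup_sdim g]
    exact iSup_le fun t => by exact_mod_cast (by have := hdim t; omega : VarDim.sdim g t ≤ s))
  refine ⟨c, fun e he => ?_⟩
  obtain ⟨F, _, _, _, hF⟩ := Zeta25.exists_extension k e (by omega)
  haveI : Module.Finite k F := Module.Finite.of_finite
  obtain ⟨hfin, hle⟩ := hc F
  haveI := hfin
  have h1 : Zeta.nPts g e ≤ c * Nat.card F ^ s := by
    rw [← hF, ← Zeta25.pointCount_eq_nPts, SgaExt.pointCount]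
    refine ((Nat.card_le_card_of_injective Subtype.val Subtype.val_injective).trans ?_).trans hle
    exact Nat.le_mul_of_pos_right _ (by split_ifs <;> [exact Nat.card_pos; exact one_pos])
  rw [← hF, ← Nat.cast_pow, ← Module.natCard_eq_pow_finrank, pow_succ, ← mul_assoc, hF]
  exact mul_le_mul_of_nonneg_right (by exact_mod_cast h1) (Nat.cast_nonneg _)

/-- Let X be a scheme of finite type over a finite field k with q elements, of dimension r. For each
irreducible component Z of X of dimension r let m_Z be the number of irreducible components of its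
preimage in X ×_k k̄, k̄ an algebraic closure of k, and put a_e = ∑_{Z : m_Z ∣ e} m_Z. Then there
are constants α, α' > 0 such that for every e ≥ 1: if a_e > 0 then |N_e − a_e q^{er}| ≤ α q^{e(r −
1/2)}, and if a_e = 0 then N_e ≤ α' q^{e(r − 1)}, where N_e = ∑_{d ∣ e} d · #{closed points of
residue degree d} is the number of points of X in the degree-e extension of k. (Stated for schemes
of finite type; reducedness plays no role.) -/
theorem result {k : Type u} [Field k] [Finite k] {X : Scheme.{u}}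
    (f : X ⟶ Spec (CommRingCat.of k)) [LocallyOfFiniteType f] [QuasiCompact f] (r : ℕ)
    (hr : topologicalKrullDim X = r) :
    ∃ α α' : ℝ, 0 < α ∧ 0 < α' ∧ ∀ e : ℕ, 1 ≤ e →
      (0 < (∑ᶠ (Z : Set X) (_ : Z ∈ irreducibleComponents X ∧ topologicalKrullDim Z = r ∧
            Nat.card (irreducibleComponents ((pullback.fst f (Spec.map (CommRingCat.ofHom
              (algebraMap k (AlgebraicClosure k))))).base ⁻¹' Z)) ∣ e),
          Nat.card (irreducibleComponents ((pullback.fst f (Spec.map (CommRingCat.ofHom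
              (algebraMap k (AlgebraicClosure k))))).base ⁻¹' Z))) →
        |(Zeta.nPts f e : ℝ) -
            (∑ᶠ (Z : Set X) (_ : Z ∈ irreducibleComponents X ∧ topologicalKrullDim Z = r ∧
              Nat.card (irreducibleComponents ((pullback.fst f (Spec.map (CommRingCat.ofHom
                (algebraMap k (AlgebraicClosure k))))).base ⁻¹' Z)) ∣ e),
            Nat.card (irreducibleComponents ((pullback.fst f (Spec.map (CommRingCat.ofHom
                (algebraMap k (AlgebraicClosure k))))).base ⁻¹' Z)) : ℕ) *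
              (Nat.card k : ℝ) ^ (e * r)| ≤
          α * (Nat.card k : ℝ) ^ ((e : ℝ) * ((r : ℝ) - 1 / 2))) ∧
      ((∑ᶠ (Z : Set X) (_ : Z ∈ irreducibleComponents X ∧ topologicalKrullDim Z = r ∧
            Nat.card (irreducibleComponents ((pullback.fst f (Spec.map (CommRingCat.ofHom
              (algebraMap k (AlgebraicClosure k))))).base ⁻¹' Z)) ∣ e),
          Nat.card (irreducibleComponents ((pullback.fst f (Spec.map (CommRingCat.ofHom
              (algebraMap k (AlgebraicClosure k))))).base ⁻¹' Z))) = 0 →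
        (Zeta.nPts f e : ℝ) ≤ α' * (Nat.card k : ℝ) ^ ((e : ℝ) * ((r : ℝ) - 1))) := by
  classical
  set π := pullback.fst f (Spec.map (CommRingCat.ofHom (algebraMap k (AlgebraicClosure k))))
  haveI := VarDim.noetherianSpace_of_finiteType f
  have hfinC : (irreducibleComponents X).Finite := NoetherianSpace.finite_irreducibleComponents
  let S : Set (Set X) := {Z | Z ∈ irreducibleComponents X ∧ topologicalKrullDim Z = r}
  have hS : S.Finite := hfinC.subset fun Z hZ => hZ.1
  haveI := hS.fintype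
  let m : Set X → ℕ := fun Z => Nat.card (irreducibleComponents (π.base ⁻¹' Z))
  have hcl : ∀ Z ∈ irreducibleComponents X, IsClosed Z := fun Z hZ => isClosed_of_mem_irreducibleComponents Z hZ
  have hle : ∀ x : X, VarDim.sdim f x ≤ r := fun x => by
    have h := le_iSup (fun y : X => ((VarDim.sdim f y : ℕ) : WithBot ℕ∞)) x
    rw [← VarDim.dim_eq_iSup_sdim f, hr] at h
    exact_mod_cast h
  -- affine opens in the components
  let η : S → X := fun Z => Z.2.1.1.genericPoint
  have hηZ : ∀ Z : S, closure {η Z} = (Z : Set X) := fun Z => Z.2.1.1.closure_genericPoint (hcl _ Z.2.1)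
  have hηr : ∀ Z : S, VarDim.sdim f (η Z) = r := fun Z => by
    have h := Z.2.2
    rw [VarDim.dim_irreducible_isClosed f (hcl _ Z.2.1) Z.2.1.1] at h
    exact_mod_cast h
  have hnot : ∀ (Z : S), ∀ Z' ∈ irreducibleComponents X, Z' ≠ (Z : Set X) → η Z ∉ Z' := fun Z Z' hZ' hne hmem => by
    have hsub : (Z : Set X) ⊆ Z' := hηZ Z ▸ (hcl _ hZ').closure_subset_iff.2 (Set.singleton_subset_iff.2 hmem)
    exact hne (subset_antisymm (Z.2.1.2 hZ'.1 hsub) hsub)
  have hopen : ∀ Z : S, ∃ U : X.Opens, IsAffineOpen U ∧ η Z ∈ U ∧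
      ∀ x ∈ U, ∀ Z' ∈ irreducibleComponents X, x ∈ Z' → Z' = (Z : Set X) := fun Z => by
    let W : X.Opens := ⟨(⋃ Z' ∈ irreducibleComponents X \ {(Z : Set X)}, Z')ᶜ,
      ((hfinC.subset Set.sdiff_subset).isClosed_biUnion fun Z' hZ' => hcl _ hZ'.1).isOpen_compl⟩
    obtain ⟨U, hU, hηU, hUW⟩ := exists_isAffineOpen_mem_and_subset (U := W) (x := η Z) (by
      show η Z ∈ (⋃ Z' ∈ irreducibleComponents X \ {(Z : Set X)}, Z')ᶜ
      simp only [Set.mem_compl_iff, Set.mem_iUnion, not_exists]
      exact fun Z' hZ' => hnot Z Z' hZ'.1 hZ'.2)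
    refine ⟨U, hU, hηU, fun x hx Z' hZ' hxZ' => by_contra fun hne => hUW hx ?_⟩
    exact Set.mem_biUnion (show Z' ∈ irreducibleComponents X \ {(Z : Set X)} from ⟨hZ', hne⟩) hxZ'
  choose U hU hηU hUc using hopen
  have hgen : ∀ (Z : S), ∀ x ∈ U Z, η Z ⤳ x := fun Z x hx => by
    rw [specializes_iff_mem_closure, hηZ]
    have h := hUc Z x hx _ (irreducibleComponent_mem_irreducibleComponents x) mem_irreducibleComponent
    exact h ▸ mem_irreducibleComponent
  -- the complement
  let T : Closeds X := ⟨(⋃ Z, (U Z : Set X))ᶜ, (isOpen_iUnion fun Z => (U Z).2).isClosed_compl⟩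
  let I := Scheme.IdealSheafData.vanishingIdeal T
  have hTr : Set.range I.subschemeι.base = (T : Set X) := by
    rw [show Set.range I.subschemeι.base = (I.support : Set X) from I.range_subschemeι]
    exact Scheme.IdealSheafData.coe_support_vanishingIdeal _
  have hTdim : ∀ t : I.subscheme, VarDim.sdim (I.subschemeι ≫ f) t < r := fun t => by
    rw [VarDim.sdim_comp_of_surjective]
    have hx : I.subschemeι t ∈ (T : Set X) := hTr ▸ Set.mem_range_self t
    generalize I.subschemeι t = x at hx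
    have hC := irreducibleComponent_mem_irreducibleComponents x
    have hxC : x ∈ irreducibleComponent x := mem_irreducibleComponent
    generalize irreducibleComponent x = C at hC hxC
    have hsp : hC.1.genericPoint ⤳ x := by
      rw [specializes_iff_mem_closure, hC.1.closure_genericPoint (hcl _ hC)]; exact hxC
    by_cases hd : topologicalKrullDim C = r
    · have hne : hC.1.genericPoint ≠ x := fun h => by
        refine hx (Set.mem_iUnion.2 ⟨⟨C, hC, hd⟩, ?_⟩)
        rw [← h]
        exact hηU ⟨C, hC, hd⟩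
      exact (VarDim.sdim_lt_of_specializes f hsp hne).trans_le (hle _)
    · rw [VarDim.dim_irreducible_isClosed f (hcl _ hC) hC.1] at hd
      have hlt : VarDim.sdim f hC.1.genericPoint < r :=
        lt_of_le_of_ne (hle _) fun h => hd (by rw [h])
      rcases eq_or_ne hC.1.genericPoint x with h | h
      · exact h ▸ hlt
      · exact (VarDim.sdim_lt_of_specializes f hsp h).trans hlt
  -- the constants
  have hpts : ∀ Z : S, 0 < m Z ∧ ∃ C : ℕ, ∀ e : ℕ, 1 ≤ e →
      (m Z ∣ e → |(Zeta.nPts ((hU Z).fromSpec ≫ f) e : ℝ) - m Z * ((Nat.card k : ℝ) ^ e) ^ r| *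
            Real.sqrt ((Nat.card k : ℝ) ^ e) ≤ C * ((Nat.card k : ℝ) ^ e) ^ r) ∧
      (¬ m Z ∣ e → (Zeta.nPts ((hU Z).fromSpec ≫ f) e : ℝ) * (Nat.card k : ℝ) ^ e ≤
        C * ((Nat.card k : ℝ) ^ e) ^ r) := fun Z => by
    have hm := card_preimage_components f (hcl _ Z.2.1) Z.2.1.1
    simp only [m, π, hm]
    exact exists_open_points f (hU Z) (hηU Z) (hgen Z) (hηr Z)
  choose hmpos C hC using hpts
  haveI : CompactSpace X := (HasAffineProperty.iff_of_isAffine (P := @QuasiCompact) (f := f)).mp inferInstance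
  haveI : CompactSpace I.subscheme := I.subschemeι.isClosedEmbedding.compactSpace
  haveI : QuasiCompact (I.subschemeι ≫ f) :=
    (HasAffineProperty.iff_of_isAffine (P := @QuasiCompact) (f := I.subschemeι ≫ f)).mpr inferInstance
  obtain ⟨C₀, hC₀⟩ := exists_small (I.subschemeι ≫ f) r hTdim
  let Ct : ℕ := C₀ + ∑ Z, C Z + 1
  refine ⟨Ct, Ct, by positivity, by positivity, fun e he => ?_⟩
  set Q : ℝ := (Nat.card k : ℝ) ^ e with hQ
  have hk1 : (1 : ℝ) ≤ Nat.card k := by exact_mod_cast Nat.card_pos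
  have hQ1 : 1 ≤ Q := one_le_pow₀ hk1
  have hQr : 0 ≤ Q ^ r := by positivity
  have hs : Real.sqrt Q ≤ Q := Real.sqrt_le_iff.2 ⟨by linarith, by nlinarith⟩
  have hs0 : 0 < Real.sqrt Q := Real.sqrt_pos.2 (by linarith)
  -- the decomposition
  let Y : Option S → Scheme.{u} := fun o => o.elim I.subscheme fun Z => Spec Γ(X, U Z)
  let g : ∀ o, Y o ⟶ X := fun o =>
    match o with
    | none => I.subschemeι
    | some Z => (hU Z).fromSpec
  haveI : ∀ o, IsImmersion (g o) := fun o =>
    match o with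
    | none => inferInstanceAs (IsImmersion I.subschemeι)
    | some Z => inferInstanceAs (IsImmersion (hU Z).fromSpec)
  have hrg : ∀ Z : S, Set.range (g (some Z)).base = (U Z : Set X) := fun Z => (hU Z).range_fromSpec
  have hpart : ∀ x : X, IsClosed ({x} : Set X) → ∃! o, x ∈ Set.range (g o).base := fun x _ => by
    by_cases hx : x ∈ ⋃ Z, (U Z : Set X)
    · obtain ⟨Z, hZ⟩ := Set.mem_iUnion.1 hx
      refine ⟨some Z, show x ∈ Set.range (g (some Z)).base by rw [hrg]; exact hZ, fun o ho => ?_⟩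
      match o with
      | none => exact absurd hx (show x ∈ (T : Set X) from hTr ▸ ho)
      | some Z' =>
        replace ho : x ∈ (U Z' : Set X) := (hrg Z').le ho
        have h1 := hUc Z x hZ _ (irreducibleComponent_mem_irreducibleComponents x) mem_irreducibleComponent
        have h2 := hUc Z' x ho _ (irreducibleComponent_mem_irreducibleComponents x) mem_irreducibleComponent
        exact congrArg some (Subtype.ext (h2.symm.trans h1))
    · refine ⟨none, show x ∈ Set.range I.subschemeι.base by rw [hTr]; exact hx, fun o ho => ?_⟩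
      match o with
      | none => rfl
      | some Z' => exact absurd (Set.mem_iUnion.2 ⟨Z', (hrg Z').le ho⟩) hx
  have hN : (Zeta.nPts f e : ℝ) = Zeta.nPts (I.subschemeι ≫ f) e + ∑ Z, (Zeta.nPts ((hU Z).fromSpec ≫ f) e : ℝ) := by
    have h : Zeta.nPts f e = ∑ o, Zeta.nPts (g o ≫ f) e := by
      simp only [Zeta.nPts]
      rw [Finset.sum_comm]
      refine Finset.sum_congr rfl fun d hd => ?_
      rw [Zeta25.degCount_partition f Y g hpart (Nat.pos_of_mem_divisors hd).ne', Finset.mul_sum]
    rw [h, Fintype.sum_option]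
    push_cast
    rfl
  have ha : (∑ᶠ (Z : Set X) (_ : Z ∈ irreducibleComponents X ∧ topologicalKrullDim Z = r ∧ m Z ∣ e), m Z) =
      ∑ Z : S, if m Z ∣ e then m Z else 0 := by
    have hfin : {Z : Set X | Z ∈ irreducibleComponents X ∧ topologicalKrullDim Z = r ∧ m Z ∣ e}.Finite :=
      hS.subset fun Z hZ => ⟨hZ.1, hZ.2.1⟩
    refine (finsum_mem_eq_finite_toFinset_sum _ hfin).trans ?_
    rw [← Finset.sum_filter]
    refine Finset.sum_bij' (fun Z hZ => ⟨Z, (hfin.mem_toFinset.1 hZ).1, (hfin.mem_toFinset.1 hZ).2.1⟩)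
      (fun Z _ => (Z : Set X)) ?_ ?_ ?_ ?_ ?_
    · intro Z hZ; exact Finset.mem_filter.2 ⟨Finset.mem_univ _, (hfin.mem_toFinset.1 hZ).2.2⟩
    · intro Z hZ; exact hfin.mem_toFinset.2 ⟨Z.2.1, Z.2.2, (Finset.mem_filter.1 hZ).2⟩
    all_goals intros; rfl
  change (0 < (∑ᶠ (Z : Set X) (_ : Z ∈ irreducibleComponents X ∧ topologicalKrullDim Z = r ∧ m Z ∣ e), m Z) → _) ∧ _
  refine ⟨fun _ => ?_, fun h0 => ?_⟩
  · change abs (_ - ((∑ᶠ (Z : Set X) (_ : Z ∈ irreducibleComponents X ∧ topologicalKrullDim Z = r ∧ m Z ∣ e), m Z : ℕ) : ℝ) * _) ≤ _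
    have hrp : ((Nat.card k : ℝ) ^ ((e : ℝ) * ((r : ℝ) - 1 / 2))) * Real.sqrt Q = Q ^ r := by
      rw [Real.sqrt_eq_rpow, hQ, ← pow_mul, ← Real.rpow_natCast, ← Real.rpow_natCast _ (e * r),
        ← Real.rpow_mul (by linarith), ← Real.rpow_add (by linarith)]
      congr 1; push_cast; ring
    rw [ha, pow_mul, ← hQ]
    refine le_of_mul_le_mul_right ?_ hs0
    rw [mul_assoc (Ct : ℝ), hrp]
    have hZb : ∀ Z : S, |(Zeta.nPts ((hU Z).fromSpec ≫ f) e : ℝ) - ((if m Z ∣ e then m Z else 0 : ℕ) : ℝ) * Q ^ r| *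
        Real.sqrt Q ≤ C Z * Q ^ r := fun Z => by
      split_ifs with h
      · exact (hC Z e he).1 h
      · rw [Nat.cast_zero, zero_mul, sub_zero, Nat.abs_cast]
        exact (mul_le_mul_of_nonneg_left hs (Nat.cast_nonneg _)).trans ((hC Z e he).2 h)
    rw [hN, Nat.cast_sum, Finset.sum_mul, add_sub_assoc, ← Finset.sum_sub_distrib]
    refine (mul_le_mul_of_nonneg_right ((abs_add_le _ _).trans (add_le_add (le_of_eq (Nat.abs_cast _))
      (Finset.abs_sum_le_sum_abs _ _))) hs0.le).trans ?_
    rw [add_mul, Finset.sum_mul]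
    refine (add_le_add ((mul_le_mul_of_nonneg_left hs (Nat.cast_nonneg _)).trans (hC₀ e he))
      (Finset.sum_le_sum fun Z _ => hZb Z)).trans ?_
    rw [← Finset.sum_mul, ← add_mul]
    refine mul_le_mul_of_nonneg_right ?_ hQr
    simp only [Ct]; push_cast; linarith
  · change (∑ᶠ (Z : Set X) (_ : Z ∈ irreducibleComponents X ∧ topologicalKrullDim Z = r ∧ m Z ∣ e), m Z) = 0 at h0
    rw [ha, Finset.sum_eq_zero_iff] at h0
    have hnd : ∀ Z : S, ¬ m Z ∣ e := fun Z h => by
      have := h0 Z (Finset.mem_univ _)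
      rw [if_pos h] at this
      exact (hmpos Z).ne' this
    have hrp : ((Nat.card k : ℝ) ^ ((e : ℝ) * ((r : ℝ) - 1))) * Q = Q ^ r := by
      rw [hQ, ← pow_mul, ← Real.rpow_natCast, ← Real.rpow_natCast _ (e * r), ← Real.rpow_add (by linarith)]
      congr 1; push_cast; ring
    refine le_of_mul_le_mul_right ?_ (show (0 : ℝ) < Q by linarith)
    rw [mul_assoc (Ct : ℝ), hrp, hN, add_mul, Finset.sum_mul]
    refine (add_le_add (hC₀ e he) (Finset.sum_le_sum fun Z _ => (hC Z e he).2 (hnd Z))).trans ?_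
    rw [← Finset.sum_mul, ← add_mul]
    refine mul_le_mul_of_nonneg_right ?_ hQr
    simp only [Ct]; push_cast; linarith

end Groth.Agent.S13063
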