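import Groth.Statements.S13070
import Groth.Agent.Lib.Zeta25.PointBound

set_option autoImplicit false
universe u
open CategoryTheory AlgebraicGeometry
open Zeta

namespace Groth.Agent.S13070

/-- For an arithmetic scheme X (of finite type over ℤ) of dimension r there are c_X > 0 and p₀ such that
#X(F_{p^m}) ≤ c_X p^{m(r−1)} for all primes p ≥ p₀ and m ≥ 1, and #X(F_{p^m}) ≤ c_X p^{mr} for p <
p₀ and m ≥ 1. Here #X(F) is the number of morphisms Spec F → X, and the dimension is only assumed ≤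
r. -/
theorem result {X : Scheme.{u}}
    (f : X ⟶ Spec (CommRingCat.of (ULift.{u} ℤ))) [LocallyOfFiniteType f] [QuasiCompact f] (r : ℕ)
    (hr : topologicalKrullDim X ≤ r) :
    ∃ (c : ℝ) (p₀ : ℕ), 0 < c ∧ ∀ (p m : ℕ), p.Prime → 1 ≤ m →
      ∀ (F : Type u) [Field F], Nat.card F = p ^ m →
        (p₀ ≤ p → (Nat.card (Spec (CommRingCat.of F) ⟶ X) : ℝ) ≤
            c * (p : ℝ) ^ ((m : ℝ) * ((r : ℝ) - 1))) ∧
        (p < p₀ → (Nat.card (Spec (CommRingCat.of F) ⟶ X) : ℝ) ≤ c * (p : ℝ) ^ ((m : ℝ) * r)) := by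
  obtain ⟨c, p₀, h⟩ := Groth.Agent.Zeta25.exists_card_hom_le f r hr
  refine ⟨(c : ℝ) + 1, p₀, by positivity, fun p m hp hm F _ hF => ?_⟩
  haveI : Finite F := Nat.finite_of_card_ne_zero (hF ▸ pow_ne_zero _ hp.ne_zero)
  have hchar : ringChar F = p := by
    haveI : Fintype F := Fintype.ofFinite F
    haveI := ringChar.charP F
    obtain ⟨k, hk, hcard⟩ := FiniteField.card F (ringChar F)
    rw [← Nat.card_eq_fintype_card, hF] at hcard
    exact ((Nat.prime_dvd_prime_iff_eq hp hk).mp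
      (hp.dvd_of_dvd_pow (hcard ▸ dvd_pow_self p (by omega)))).symm
  obtain ⟨-, h⟩ := h F
  rw [hchar, hF] at h
  have hp0 : (0 : ℝ) < p := by exact_mod_cast hp.pos
  have e1 : ∀ N : ℕ, (p : ℝ) ^ ((m : ℝ) * (N : ℝ)) = (((p ^ m) ^ N : ℕ) : ℝ) := fun N => by
    rw [← Nat.cast_mul, Real.rpow_natCast, ← pow_mul]
    push_cast
    rfl
  constructor
  · intro hpp
    rw [if_pos hpp] at h
    have h' : (Nat.card (Spec (CommRingCat.of F) ⟶ X) : ℝ) * (p : ℝ) ^ m ≤
        ((c : ℝ) + 1) * (((p ^ m) ^ r : ℕ) : ℝ) := by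
      refine le_trans ?_ (mul_le_mul_of_nonneg_right (le_add_of_nonneg_right zero_le_one) (Nat.cast_nonneg _))
      exact_mod_cast h
    rw [mul_sub, mul_one, Real.rpow_sub hp0, e1, Real.rpow_natCast, ← mul_div_assoc]
    exact (le_div_iff₀ (by positivity)).mpr h'
  · intro hpp
    rw [if_neg (by omega), mul_one] at h
    rw [e1]
    refine le_trans ?_ (mul_le_mul_of_nonneg_right (le_add_of_nonneg_right zero_le_one) (Nat.cast_nonneg _))
    exact_mod_cast h
end Groth.Agent.S13070
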