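import Groth.Statements.S13075
import Groth.Agent.Lib.Zeta25.ZetaSeries

set_option autoImplicit false
open Zeta

namespace Groth.Agent.S13075

/-- For the formal power series exp(t) = ∑_{m ≥ 0} t^m / m! and log(1 + t) = ∑_{m ≥ 1} (−1)^{m+1} t^m /
m over ℚ, log(exp(u)) = u and exp(log(1 + u)) = 1 + u for every u ∈ tℚ⟦t⟧; stated for u = t (the
general case is obtained by substitution): substituting exp(t) − 1 into log(1 + ·) gives t, and
substituting log(1 + t) into exp gives 1 + t. -/
theorem result :
    PowerSeries.subst (PowerSeries.exp ℚ - 1)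
        (PowerSeries.mk fun m : ℕ => if m = 0 then (0 : ℚ) else (-1) ^ (m + 1) / (m : ℚ)) =
      PowerSeries.X ∧
    PowerSeries.subst (PowerSeries.mk fun m : ℕ => if m = 0 then (0 : ℚ) else (-1) ^ (m + 1) / (m : ℚ))
        (PowerSeries.exp ℚ) = 1 + PowerSeries.X := by
  set L : PowerSeries ℚ := PowerSeries.mk fun m : ℕ => if m = 0 then (0 : ℚ) else (-1) ^ (m + 1) / (m : ℚ)
  have hL0 : PowerSeries.constantCoeff L = 0 := by simp [L]
  have hd : (1 + PowerSeries.X) * PowerSeries.derivative ℚ L = 1 := by
    have he : PowerSeries.derivative ℚ L = PowerSeries.mk fun m => (-1 : ℚ) ^ m := by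
      ext m
      rw [PowerSeries.coeff_derivative, PowerSeries.coeff_mk, PowerSeries.coeff_mk, if_neg m.succ_ne_zero,
        Nat.cast_succ, div_mul_cancel₀ _ (Nat.cast_add_one_ne_zero m)]
      ring
    rw [he]
    ext m
    cases m with
    | zero => simp
    | succ m => simp [add_mul, PowerSeries.coeff_succ_X_mul, pow_succ, PowerSeries.coeff_one]
  constructor
  · set U : PowerSeries ℚ := PowerSeries.exp ℚ - 1
    have hU0 : PowerSeries.constantCoeff U = 0 := by simp [U]
    have hU := PowerSeries.HasSubst.of_constantCoeff_zero' hU0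
    apply PowerSeries.derivative.ext
    · rw [PowerSeries.derivative_subst hU, PowerSeries.derivative_X,
        show PowerSeries.derivative ℚ U = PowerSeries.exp ℚ by simp [U, PowerSeries.derivative_exp]]
      have h := congrArg (PowerSeries.subst U) hd
      rw [PowerSeries.subst_mul hU, PowerSeries.subst_add hU, PowerSeries.subst_X hU,
        ← PowerSeries.coe_substAlgHom hU, map_one] at h
      rw [← PowerSeries.coe_substAlgHom hU]
      simp only [U, add_sub_cancel] at h ⊢
      rw [mul_comm]
      exact h
    · rw [PowerSeries.constantCoeff_X, ← PowerSeries.coeff_zero_eq_constantCoeff_apply, PowerSeries.coeff_subst' hU,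
        finsum_eq_single _ 0 fun d hd ↦ by
          simp [PowerSeries.coeff_zero_eq_constantCoeff, map_pow, hU0, zero_pow hd]]
      simp [hL0]
  · refine (Groth.Agent.Zeta25.eq_expL hL0 ?_ (by simp)).symm
    rw [map_add, PowerSeries.derivative_X, Derivation.map_one_eq_zero, zero_add, hd]
end Groth.Agent.S13075
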