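import Groth.Statements.S1308
import Groth.Agent.Lib.Thick4

set_option autoImplicit false
universe u
open FlatMor

set_option backward.isDefEq.respectTransparency.types false

namespace Groth.Agent.S1308

open AlgebraicGeometry CategoryTheory Limits in
/-- For a morphism of thickenings, that is a commutative square whose horizontal maps are thickenings
(closed immersions that are surjective on points), the morphism between the thin schemes is
universally open if and only if the morphism between the thick ones is. -/
theorem result {X X' S S' : Scheme.{u}} (iX : X ⟶ X') (iS : S ⟶ S') (f : X ⟶ S) (f' : X' ⟶ S')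
    (hX : MoreMor.IsThickening iX) (hS : MoreMor.IsThickening iS) (w : iX ≫ f' = f ≫ iS) :
    UniversallyOpen f ↔ UniversallyOpen f' := by
  haveI := hX.1; haveI := hX.2; haveI := hS.1; haveI := hS.2
  haveI := Groth.Agent.Thick4.universallyOpen_of_surjective_closedImmersion iX
  haveI := Groth.Agent.Thick4.universallyOpen_of_surjective_closedImmersion iS
  constructor
  · intro h
    haveI : UniversallyOpen (iX ≫ f') := w ▸ inferInstance
    exact Groth.Agent.Thick4.universallyOpen_of_comp_surjective iX f'
  · intro h
    haveI : UniversallyOpen (f ≫ iS) := w ▸ inferInstance
    exact Groth.Agent.Thick4.of_comp_mono (P := @UniversallyOpen) f iS ‹_›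

end Groth.Agent.S1308
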