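import Groth.Statements.S13080
import Groth.Agent.Lib.IsQuot25.Coset

set_option autoImplicit false
universe u
open CategoryTheory AlgebraicGeometry Limits
open Zeta

namespace Groth.Agent.S13080

/-- Let G be a finite group acting by algebraic automorphisms over k on a scheme X of finite type over k
admitting a quotient p : X → X/G, H ⊆ G a subgroup and Y ⊆ X an open subset preserved by H such that
X is the disjoint union of the translates Y g over the cosets of G mod H. Then the natural morphism
Y/H → X/G is an isomorphism: Y → X/G is a quotient of Y by H. The action of H on Y is pinned by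
compatibility with the inclusion Y → X; the coset condition is stated as: the translates of Y cover
X, and g(Y) is disjoint from Y for g ∉ H. -/
theorem result {k : Type u} [Field k] {G : Type u} [Group G]
    [Finite G] {X XG : Scheme.{u}} (fX : X ⟶ Spec (CommRingCat.of k)) [LocallyOfFiniteType fX]
    [QuasiCompact fX] (ρ : G →* Aut X) (hρ : ∀ g, (ρ g).hom ≫ fX = fX) (p : X ⟶ XG)
    (hP : SGA1.IsQuot ρ p) (H : Subgroup G) (Y : X.Opens)
    (hcov : ∀ x : X, ∃ g : G, x ∈ (ρ g).hom.base '' (Y : Set X))
    (hdisj : ∀ g : G, g ∉ H → Disjoint ((ρ g).hom.base '' (Y : Set X)) (Y : Set X))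
    (ρY : H →* Aut (Y : Scheme.{u})) (hρY : ∀ h : H, (ρY h).hom ≫ Y.ι = Y.ι ≫ (ρ (h : G)).hom) :
    SGA1.IsQuot ρY (Y.ι ≫ p) := by
  exact IsQuot25.isQuot_coset hP H Y hcov hdisj ρY hρY
end Groth.Agent.S13080
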