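import Groth.Statements.S13081
import Groth.Agent.Lib.IsQuot25.Comp

set_option autoImplicit false
universe u
open CategoryTheory AlgebraicGeometry Limits
open Zeta

namespace Groth.Agent.S13081

/-- Let G be a finite group acting by algebraic automorphisms over k on a scheme X of finite type over k
admitting a quotient X → X/G, and H a normal subgroup of G. Then X/H carries an induced action of
G/H and its quotient by this action is X/G: the induced morphism r : X/H → X/G is a quotient of X/H
by G/H. The induced action ρ̄ is pinned by p_H ≫ ρ̄(ḡ) = ρ(g) ≫ p_H and r by p_H ≫ r = p. -/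
theorem result {k : Type u} [Field k] {G : Type u} [Group G]
    [Finite G] {X XG XH : Scheme.{u}} (fX : X ⟶ Spec (CommRingCat.of k)) [LocallyOfFiniteType fX]
    [QuasiCompact fX] (ρ : G →* Aut X) (hρ : ∀ g, (ρ g).hom ≫ fX = fX) (p : X ⟶ XG)
    (hP : SGA1.IsQuot ρ p) (H : Subgroup G) [H.Normal] (pH : X ⟶ XH)
    (hPH : SGA1.IsQuot (ρ.comp H.subtype) pH) (ρbar : G ⧸ H →* Aut XH)
    (hρbar : ∀ g : G, pH ≫ (ρbar (QuotientGroup.mk g)).hom = (ρ g).hom ≫ pH)
    (r : XH ⟶ XG) (hr : pH ≫ r = p) :
    SGA1.IsQuot ρbar r := by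
  haveI : Finite (G ⧸ H) := inferInstance
  subst hr
  exact IsQuot25.isQuot_of_comp hPH hP (fun g => ⟨QuotientGroup.mk g, (hρbar g).symm⟩) fun c => by
    obtain ⟨g, rfl⟩ := QuotientGroup.mk_surjective c
    exact ⟨g, (hρbar g).symm⟩
end Groth.Agent.S13081
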