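import Groth.Statements.S13082
import Groth.Agent.Lib.IsQuot25.Points
import Groth.Agent.Lib.IsQuot25.Props
import Groth.Agent.Lib.FEtEq25.Points

set_option autoImplicit false
universe u
open CategoryTheory AlgebraicGeometry Limits
open Zeta

namespace Groth.Agent.S13082

/-- Let X be a scheme of finite type over k with an action of a finite group G by algebraic
automorphisms over k admitting a quotient π : X → X/G, and W a locally closed subscheme of X on
which G induces an action. Then the canonical morphism W/G → π(W) is radicial and surjective: the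
induced morphism φ : W/G → X/G is universally injective with set-theoretic image π(W). The action on
W is pinned along the immersion j : W → X, φ by p_W ≫ φ = j ≫ π for a quotient p_W : W → W/G. -/
theorem result {k : Type u} [Field k] {G : Type u}
    [Group G] [Finite G] {X XG W WG : Scheme.{u}} (fX : X ⟶ Spec (CommRingCat.of k))
    [LocallyOfFiniteType fX] [QuasiCompact fX] (ρ : G →* Aut X) (hρ : ∀ g, (ρ g).hom ≫ fX = fX)
    (p : X ⟶ XG) (hP : SGA1.IsQuot ρ p) (j : W ⟶ X) [IsImmersion j] (ρW : G →* Aut W)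
    (hρW : ∀ g, (ρW g).hom ≫ j = j ≫ (ρ g).hom) (pW : W ⟶ WG) (hPW : SGA1.IsQuot ρW pW)
    (φ : WG ⟶ XG) (hφ : pW ≫ φ = j ≫ p) :
    UniversallyInjective φ ∧ Set.range φ.base = p.base '' Set.range j.base := by
  obtain ⟨q, hq, -⟩ := IsQuot25.desc_unique hP fX hρ
  haveI : LocallyOfFiniteType (p ≫ q) := by rw [hq]; infer_instance
  haveI : LocallyOfFiniteType p := locallyOfFiniteType_of_comp p q
  haveI : LocallyOfFiniteType (pW ≫ φ) := by rw [hφ]; infer_instance
  haveI : LocallyOfFiniteType pW := locallyOfFiniteType_of_comp pW φ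
  haveI : IsFinite pW := IsQuot25.isFinite hPW
  refine ⟨?_, ?_⟩
  · rw [UniversallyInjective.iff_diagonal, surjective_iff]
    intro z
    let K := AlgebraicClosure ((pullback φ φ).residueField z)
    let ζ : Spec (CommRingCat.of K) ⟶ pullback φ φ :=
      Spec.map (CommRingCat.ofHom (algebraMap ((pullback φ φ).residueField z) K)) ≫
        (pullback φ φ).fromSpecResidueField z
    have hζ : ζ (IsLocalRing.closedPoint K) = z := by
      rw [Scheme.Hom.comp_apply]; exact Scheme.fromSpecResidueField_apply z _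
    have hlift : ∀ a : Spec (CommRingCat.of K) ⟶ WG,
        ∃ a' : Spec (CommRingCat.of K) ⟶ W, a' ≫ pW = a := fun a => by
      obtain ⟨w, hw⟩ := IsQuot25.surjective hPW (a (IsLocalRing.closedPoint K))
      obtain ⟨s, hs, -⟩ := FEtEq25.exists_fiber_point a pW w hw
      exact ⟨s, hs⟩
    obtain ⟨a, ha⟩ := hlift (ζ ≫ pullback.fst φ φ)
    obtain ⟨b, hb⟩ := hlift (ζ ≫ pullback.snd φ φ)
    have heq : (a ≫ j) ≫ p = (b ≫ j) ≫ p := by
      rw [Category.assoc, Category.assoc, ← hφ, reassoc_of% ha, reassoc_of% hb, pullback.condition]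
    obtain ⟨g, hg⟩ := IsQuot25.exists_act_of_comp_eq hP _ _ heq
    have hab : a ≫ (ρW g).hom = b := by
      rw [← cancel_mono j, Category.assoc, hρW, ← Category.assoc, hg]
    have he : ζ ≫ pullback.fst φ φ = ζ ≫ pullback.snd φ φ := by
      rw [← ha, ← hb, ← hab, Category.assoc, hPW.inv g]
    refine ⟨(ζ ≫ pullback.fst φ φ) (IsLocalRing.closedPoint K), ?_⟩
    rw [← Scheme.Hom.comp_apply,
      show (ζ ≫ pullback.fst φ φ) ≫ pullback.diagonal φ = ζ by
        apply pullback.hom_ext <;> simp [he]]
    exact hζ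
  · ext x
    constructor
    · rintro ⟨v, rfl⟩
      obtain ⟨w, rfl⟩ := IsQuot25.surjective hPW v
      exact ⟨j w, ⟨w, rfl⟩, by rw [← Scheme.Hom.comp_apply, ← hφ, Scheme.Hom.comp_apply]⟩
    · rintro ⟨_, ⟨w, rfl⟩, rfl⟩
      exact ⟨pW w, by rw [← Scheme.Hom.comp_apply, hφ, Scheme.Hom.comp_apply]⟩

end Groth.Agent.S13082
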