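import Groth.Statements.S13083
import Groth.Agent.Lib.Zeta25.GeomPoints

set_option autoImplicit false
universe u
open CategoryTheory AlgebraicGeometry Limits
open Zeta

namespace Groth.Agent.S13083

/-- Let X be a variety over a perfect field k, k̄ an algebraic closure and π : X_{k̄} → X the
projection. Sending a closed point x to the sum of the points of π⁻¹(x) induces a bijection between
effective 0-cycles of degree n on X and effective 0-cycles of degree n on X_{k̄} fixed by G(k̄/k).
Stated for schemes of finite type over k, with 0-cycles as finitely supported ℕ-valued functions on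
closed points, the degree on X weighted by the residue degrees [κ(x) : k], the map being c ↦ c ∘ π,
and the Galois automorphisms τ_σ = id × Spec σ pinned by their projections. -/
theorem result {k : Type u} [Field k]
    [PerfectField k] {X : Scheme.{u}} (f : X ⟶ Spec (CommRingCat.of k)) [LocallyOfFiniteType f]
    [QuasiCompact f]
    (τ : (AlgebraicClosure k ≃ₐ[k] AlgebraicClosure k) →
      (pullback f (Spec.map (CommRingCat.ofHom (algebraMap k (AlgebraicClosure k)))) ⟶
        pullback f (Spec.map (CommRingCat.ofHom (algebraMap k (AlgebraicClosure k))))))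
    (hτ1 : ∀ σ, τ σ ≫ pullback.fst f _ = pullback.fst f _)
    (hτ2 : ∀ σ, τ σ ≫ pullback.snd f (Spec.map (CommRingCat.ofHom (algebraMap k (AlgebraicClosure k)))) =
        pullback.snd f _ ≫ Spec.map (CommRingCat.ofHom (σ : AlgebraicClosure k →+* AlgebraicClosure k)))
    (n : ℕ) :
    Set.BijOn
      (fun c : X → ℕ => c ∘ (pullback.fst f (Spec.map (CommRingCat.ofHom
        (algebraMap k (AlgebraicClosure k))))).base)
      {c : X → ℕ | (Function.support c).Finite ∧ (∀ x, c x ≠ 0 → IsClosed ({x} : Set X)) ∧
        ∑ᶠ x, c x * EGA4loc.residueDegree f x = n}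
      {d : ↑(pullback f (Spec.map (CommRingCat.ofHom (algebraMap k (AlgebraicClosure k))))) → ℕ |
        (Function.support d).Finite ∧ (∀ y, d y ≠ 0 → IsClosed ({y} : Set _)) ∧
        ∑ᶠ y, d y = n ∧ ∀ σ y, d ((τ σ).base y) = d y} := by
  classical
  set π := pullback.fst f (Spec.map (CommRingCat.ofHom (algebraMap k (AlgebraicClosure k)))) with hπ
  have hsurj : Function.Surjective π.base := Groth.Agent.Zeta25.Geom.π_surjective f
  have hclosed : ∀ y, IsClosed ({π.base y} : Set X) ↔ IsClosed ({y} : Set _) := fun y =>
    ⟨Groth.Agent.Zeta25.Geom.isClosed_of_isClosed_image f, Groth.Agent.Zeta25.Geom.isClosed_image f⟩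
  -- the key count
  have key : ∀ c : X → ℕ, (Function.support c).Finite → (∀ x, c x ≠ 0 → IsClosed ({x} : Set X)) →
      (Function.support (c ∘ π.base)).Finite ∧ ∑ᶠ y, (c ∘ π.base) y = ∑ᶠ x, c x * EGA4loc.residueDegree f x := by
    intro c hc hcl
    have hfib : ∀ x ∈ hc.toFinset, (π.base ⁻¹' {x}).Finite := fun x hx =>
      Set.finite_coe_iff.mp (Groth.Agent.Zeta25.Geom.finite_fibre_and_card f x (hcl x (hc.mem_toFinset.mp hx))).1
    have hS : Function.support (c ∘ π.base) = π.base ⁻¹' (Function.support c) := rfl
    have hfin : (Function.support (c ∘ π.base)).Finite := by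
      rw [hS]
      refine Set.Finite.preimage' hc fun x hx => hfib x (hc.mem_toFinset.mpr hx)
    refine ⟨hfin, ?_⟩
    rw [finsum_eq_sum _ hfin, finsum_eq_sum_of_support_subset _
      (s := hc.toFinset) (fun x hx => by simp only [Set.Finite.coe_toFinset]; exact left_ne_zero_of_mul hx)]
    rw [← Finset.sum_fiberwise_of_maps_to (g := π.base) (t := hc.toFinset) (fun y hy => by
      rw [Set.Finite.mem_toFinset] at hy ⊢; exact hy)]
    refine Finset.sum_congr rfl fun x hx => ?_
    have hset : hfin.toFinset.filter (fun y => π.base y = x) = (hfib x hx).toFinset := by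
      ext y
      simp only [Finset.mem_filter, Set.Finite.mem_toFinset, Set.mem_preimage, Set.mem_singleton_iff, hS]
      exact ⟨And.right, fun h => ⟨h ▸ hc.mem_toFinset.mp hx, h⟩⟩
    rw [hset, Finset.sum_congr (g := fun _ => c x) rfl (fun y hy => by
        show c (π.base y) = c x
        exact congrArg c ((hfib x hx).mem_toFinset.mp hy : π.base y = x)),
      Finset.sum_const, smul_eq_mul, mul_comm, ← Nat.card_eq_card_finite_toFinset]
    exact congrArg (c x * ·) (Groth.Agent.Zeta25.Geom.finite_fibre_and_card f x (hcl x (hc.mem_toFinset.mp hx))).2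
  refine ⟨fun c ⟨hc, hcl, hn⟩ => ⟨(key c hc hcl).1, fun y hy => (hclosed y).mp (hcl _ hy),
      (key c hc hcl).2.trans hn, fun σ y => ?_⟩, fun c _ c' _ h => hsurj.injective_comp_right h, ?_⟩
  · show c ((τ σ ≫ π).base y) = c (π.base y)
    rw [hτ1 σ]
  · rintro d ⟨hd, hdcl, hn, hfix⟩
    have hdc : (d ∘ Function.surjInv hsurj) ∘ π.base = d := funext fun y => by
      obtain ⟨σ, hσ⟩ := (Groth.Agent.S13071.result f τ hτ1 hτ2 y (Function.surjInv hsurj (π.base y))).mp
        (Function.surjInv_eq hsurj (π.base y)).symm
      show d (Function.surjInv hsurj (π.base y)) = d y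
      rw [← hσ, hfix]
    refine ⟨d ∘ Function.surjInv hsurj, ⟨?_, ?_, ?_⟩, hdc⟩
    · refine (hd.image π.base).subset fun x hx => ⟨_, hx, Function.surjInv_eq hsurj x⟩
    · intro x hx
      have h := (hclosed _).mpr (hdcl _ hx)
      rwa [Function.surjInv_eq hsurj x] at h
    · have hsupp : (Function.support (d ∘ Function.surjInv hsurj)).Finite :=
        (hd.image π.base).subset fun x hx => ⟨_, hx, Function.surjInv_eq hsurj x⟩
      rw [← (key _ hsupp fun x hx => by
        have h := (hclosed _).mpr (hdcl _ hx)
        rwa [Function.surjInv_eq hsurj x] at h).2, hdc, hn]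

end Groth.Agent.S13083
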