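import Groth.Statements.S13085
import Groth.Agent.Lib.LangWeil25.Abscissa

set_option autoImplicit false
universe u
open CategoryTheory AlgebraicGeometry
open Zeta

namespace Groth.Agent.S13085

/-- If Y is a scheme of finite type over F_p (here: over any finite field) of dimension r, the abscissa
of convergence of the Dirichlet series L_Y(s) = Σ a_n n^{−s} (a_n = number of effective 0-cycles of
norm n; nonnegative coefficients, so convergence and absolute convergence agree) is r. -/
theorem result {k : Type u} [Field k] [Finite k]
    {Y : Scheme.{u}} (f : Y ⟶ Spec (CommRingCat.of k)) [LocallyOfFiniteType f] [QuasiCompact f] (r : ℕ)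
    (hr : topologicalKrullDim Y = r) :
    LSeries.abscissaOfAbsConv (Zeta.arithCoeff Y) = (r : ℝ) := by
  let j : Y ⟶ Spec (CommRingCat.of (ULift.{u} ℤ)) :=
    f ≫ Spec.map (CommRingCat.ofHom ((Int.castRingHom k).comp ULift.ringEquiv.toRingHom))
  haveI : LocallyOfFiniteType (Spec.map (CommRingCat.ofHom
      ((Int.castRingHom k).comp (ULift.ringEquiv.{0, u}.toRingHom : ULift.{u} ℤ →+* ℤ)))) := by
    rw [HasRingHomProperty.Spec_iff (P := @LocallyOfFiniteType)]
    haveI : Module.Finite ℤ k := Module.Finite.of_finite
    exact RingHom.FiniteType.comp (RingHom.finiteType_algebraMap.mpr inferInstance)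
      (RingHom.FiniteType.of_surjective _ ULift.ringEquiv.surjective)
  haveI : CompactSpace Y := (HasAffineProperty.iff_of_isAffine (P := @QuasiCompact) (f := f)).mp inferInstance
  haveI : QuasiCompact j := (HasAffineProperty.iff_of_isAffine (P := @QuasiCompact) (f := j)).mpr inferInstance
  exact Groth.Agent.LangWeil25.abscissa_eq j hr

end Groth.Agent.S13085
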