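import Groth.Statements.S13087
import Groth.Agent.Lib.LinSeq28.Basic
import Mathlib

set_option autoImplicit false
universe u
open Lie3Mod

namespace Groth.Agent.S13087

open Polynomial LinSeq28

set_option maxSynthPendingDepth 6

section
variable (A : Type u) [CommRing A]

abbrev R0 := MvPolynomial (Fin 6) A
abbrev R3 := Polynomial (Polynomial (Polynomial (R0 A)))

noncomputable abbrev x0 (i : Fin 6) : R0 A := MvPolynomial.X i

/-- the coordinate change -/
noncomputable def toT : Lie3Mod.D A →ₐ[A] R3 A :=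
  MvPolynomial.aeval ![C (C (C (x0 A 5))), C (C (C (x0 A 3))), X, C (C (C (x0 A 4))), C X,
    C (C (C (x0 A 0 - x0 A 3))), C (C X), C (C (C (x0 A 2 - x0 A 4))), C (C (C (x0 A 5 - x0 A 1)))]

noncomputable def ofT : R3 A →+* Lie3Mod.D A :=
  eval₂RingHom (eval₂RingHom (eval₂RingHom
    (MvPolynomial.aeval (R := A) ![Lie3Mod.L2 A, Lie3Mod.L1 A, Lie3Mod.L3 A, MvPolynomial.X 1, MvPolynomial.X 3, MvPolynomial.X 0]).toRingHom
    (MvPolynomial.X 6)) (MvPolynomial.X 4)) (MvPolynomial.X 2)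

theorem ofT_toT (x : Lie3Mod.D A) : ofT A (toT A x) = x := by
  refine RingHom.congr_fun (f := (ofT A).comp (toT A).toRingHom) (g := RingHom.id _) ?_ x
  refine MvPolynomial.ringHom_ext (fun r => ?_) fun i => ?_
  · simp [toT, ofT, Polynomial.algebraMap_apply]
  · fin_cases i <;> simp [toT, ofT, Lie3Mod.L1, Lie3Mod.L2, Lie3Mod.L3] <;> ring

theorem toT_surj : Function.Surjective (toT A) := by
  intro y
  refine ⟨ofT A y, RingHom.congr_fun (f := (toT A).toRingHom.comp (ofT A)) (g := RingHom.id _) ?_ y⟩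
  refine Polynomial.ringHom_ext' (Polynomial.ringHom_ext' (Polynomial.ringHom_ext'
    (MvPolynomial.ringHom_ext (fun r => ?_) fun i => ?_) ?_) ?_) ?_
  · simp [toT, ofT, Polynomial.algebraMap_apply]
  · fin_cases i <;> simp [toT, ofT, Lie3Mod.L1, Lie3Mod.L2, Lie3Mod.L3]
  · simp [toT, ofT]
  · simp [toT, ofT]
  · simp [toT, ofT]

noncomputable def eqT : Lie3Mod.D A ≃+* R3 A :=
  RingEquiv.ofBijective (toT A).toRingHom ⟨Function.LeftInverse.injective (ofT_toT A), toT_surj A⟩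

theorem base (s : Set (Fin 6)) (j : Fin 6) (hj : j ∉ s) : Cancel (Ideal.span (MvPolynomial.X '' s)) (x0 A j) :=
  cancel_var A s j hj

theorem base0 (j : Fin 6) : Cancel (⊥ : Ideal (R0 A)) (x0 A j) := by simpa using base A ∅ j (by simp)

theorem base1 (i j : Fin 6) (h : j ≠ i) : Cancel (Ideal.span {x0 A i}) (x0 A j) := by
  simpa using base A {i} j h

theorem base2 (i l j : Fin 6) (h : j ≠ i) (h' : j ≠ l) : Cancel (Ideal.span {x0 A i} ⊔ Ideal.span {x0 A l}) (x0 A j) := by
  rw [← Ideal.span_union]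
  simpa [Set.image_insert_eq, Set.singleton_union] using base A {l, i} j (by simp [h, h'])

noncomputable def q1 : Polynomial (R0 A) := C (-(x0 A 0)) * X + C (x0 A 5 * x0 A 2 - x0 A 4 * x0 A 1)
noncomputable def q2 : Polynomial (Polynomial (R0 A)) :=
  C (C (-(x0 A 1))) * X + C (C (x0 A 3 * x0 A 4 - (x0 A 0 - x0 A 3) * (x0 A 2 - x0 A 4)))
noncomputable def q3 : R3 A :=
  C (C (C (x0 A 2))) * X + C (C (C (-(x0 A 5) * (x0 A 0 - x0 A 3) - x0 A 3 * (x0 A 5 - x0 A 1))))

theorem img_Q : eqT A (Lie3Mod.Q1 A) = C (C (q1 A)) ∧ eqT A (Lie3Mod.Q2 A) = C (q2 A) ∧ eqT A (Lie3Mod.Q3 A) = q3 A := by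
  refine ⟨?_, ?_, ?_⟩ <;>
    (show toT A _ = _) <;>
    simp only [Lie3Mod.Q1, Lie3Mod.Q2, Lie3Mod.Q3, q1, q2, q3, toT, map_add, map_sub, map_mul, map_neg,
      MvPolynomial.aeval_X, Matrix.cons_val_zero, Matrix.cons_val_one, Matrix.cons_val] <;> ring

theorem img_L : eqT A (Lie3Mod.L1 A) = C (C (C (x0 A 1))) ∧ eqT A (Lie3Mod.L2 A) = C (C (C (x0 A 0))) ∧
    eqT A (Lie3Mod.L3 A) = C (C (C (x0 A 2))) := by
  refine ⟨?_, ?_, ?_⟩ <;>
    (show toT A _ = _) <;>
    simp only [Lie3Mod.L1, Lie3Mod.L2, Lie3Mod.L3, toT, map_add, map_sub, MvPolynomial.aeval_X,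
      Matrix.cons_val_zero, Matrix.cons_val_one, Matrix.cons_val] <;> ring

theorem regL [Nontrivial A] : RingTheory.Sequence.IsRegular (Lie3Mod.D A) [Lie3Mod.L1 A, Lie3Mod.L2 A, Lie3Mod.L3 A] := by
  obtain ⟨e1, e2, e3⟩ := img_L A
  refine isRegular_triple (eqT A) _ _ _ ?_ ?_ ?_
    ((C.comp (C.comp C)).comp (MvPolynomial.C.comp MvPolynomial.constantCoeff) : Lie3Mod.D A →+* R3 A) ?_
  · rw [e1]; simpa [Ideal.map_bot] using cancel_C (cancel_C (cancel_C (base0 A 1)))
  · rw [e1, e2]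
    simpa [Ideal.map_span] using cancel_C (cancel_C (cancel_C (base1 A 1 0 (by decide))))
  · rw [e1, e2, e3, Ideal.span_insert]
    simpa [Ideal.map_span, Ideal.map_sup] using cancel_C (cancel_C (cancel_C (base2 A 1 0 2 (by decide) (by decide))))
  · simp [Lie3Mod.L1, Lie3Mod.L2, Lie3Mod.L3]

theorem regQ [Nontrivial A] : RingTheory.Sequence.IsRegular (Lie3Mod.D A) [Lie3Mod.Q1 A, Lie3Mod.Q2 A, Lie3Mod.Q3 A] := by
  obtain ⟨e1, e2, e3⟩ := img_Q A
  have hv : Cancel (⊥ : Ideal (R0 A)) (-(x0 A 1)) := cancel_neg (base0 A 1)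
  have hvQ : Cancel (Ideal.span {q1 A}) (C (-(x0 A 1))) := by
    have h := cancel_swap (b := x0 A 5 * x0 A 2 - x0 A 4 * x0 A 1) hv
      (show Cancel ((⊥ : Ideal (R0 A)) ⊔ Ideal.span {-(x0 A 1)}) (-(x0 A 0)) by
        rw [bot_sup_eq, Ideal.span_singleton_neg]; exact cancel_neg (base1 A 1 0 (by decide)))
    rwa [Ideal.map_bot, bot_sup_eq] at h
  refine isRegular_triple (eqT A) _ _ _ ?_ ?_ ?_
    ((C.comp (C.comp C)).comp (MvPolynomial.C.comp MvPolynomial.constantCoeff) : Lie3Mod.D A →+* R3 A) ?_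
  · rw [e1]
    have h := cancel_C (cancel_C (cancel_linear (b := x0 A 5 * x0 A 2 - x0 A 4 * x0 A 1) (cancel_neg (base0 A 0))))
    simpa [Ideal.map_bot, q1] using h
  · rw [e1, e2]
    have h := cancel_C (cancel_linear (b := C (x0 A 3 * x0 A 4 - (x0 A 0 - x0 A 3) * (x0 A 2 - x0 A 4))) hvQ)
    rw [Ideal.map_span, Ideal.map_span, Set.image_singleton, Set.image_singleton] at h
    exact h
  · rw [e1, e2, e3, Ideal.span_insert]
    have hwQ : Cancel (Ideal.span {q1 A}) (C (x0 A 2)) := by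
      have h := cancel_swap (b := x0 A 5 * x0 A 2 - x0 A 4 * x0 A 1) (base0 A 2)
        (show Cancel ((⊥ : Ideal (R0 A)) ⊔ Ideal.span {x0 A 2}) (-(x0 A 0)) by
          rw [bot_sup_eq]; exact cancel_neg (base1 A 2 0 (by decide)))
      rwa [Ideal.map_bot, bot_sup_eq] at h
    have hvQw : Cancel (Ideal.span {q1 A} ⊔ Ideal.span {C (x0 A 2)}) (C (-(x0 A 1))) := by
      have h := cancel_swap (b := x0 A 5 * x0 A 2 - x0 A 4 * x0 A 1) (cancel_neg (base1 A 2 1 (by decide)))
        (show Cancel (Ideal.span {x0 A 2} ⊔ Ideal.span {-(x0 A 1)}) (-(x0 A 0)) by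
          rw [Ideal.span_singleton_neg]; exact cancel_neg (base2 A 2 1 0 (by decide) (by decide)))
      rw [Ideal.map_span, Set.image_singleton, sup_comm] at h
      exact h
    have h := cancel_linear (b := C (C (-(x0 A 5) * (x0 A 0 - x0 A 3) - x0 A 3 * (x0 A 5 - x0 A 1))))
      (cancel_swap (b := C (x0 A 3 * x0 A 4 - (x0 A 0 - x0 A 3) * (x0 A 2 - x0 A 4))) hwQ hvQw)
    rw [Ideal.map_sup, Ideal.map_span, Ideal.map_span, Ideal.map_span, Set.image_singleton, Set.image_singleton,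
      Set.image_singleton] at h
    exact h
  · simp [Lie3Mod.Q1, Lie3Mod.Q2, Lie3Mod.Q3]

end

/-- Let A be a nontrivial commutative ring and D = A[a,b,c,d,e,f,g,h,i] the polynomial ring in nine
variables. Then the linear forms a − i, b + f, d + h form a regular sequence on D, and so do the
three Jacobi polynomials Q1 = ah + di − fg − bg, Q2 = ie + bd − fh − ae, Q3 = hc + dc − af − bi
(each term is a non-zero-divisor on the quotient of D by the preceding terms, and the quotient by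
all three is non-zero). (The published statement is made with a regular base ring in force; the
printed argument does not use that hypothesis, and the statement is given here over every nontrivial
commutative base ring.) -/
theorem result (A : Type u) [CommRing A] [Nontrivial A] :
    RingTheory.Sequence.IsRegular (Lie3Mod.D A) [Lie3Mod.L1 A, Lie3Mod.L2 A, Lie3Mod.L3 A] ∧
      RingTheory.Sequence.IsRegular (Lie3Mod.D A) [Lie3Mod.Q1 A, Lie3Mod.Q2 A, Lie3Mod.Q3 A] := by
  exact ⟨regL A, regQ A⟩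

end Groth.Agent.S13087
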