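import Groth.Statements.S13096
import Mathlib.RingTheory.Ideal.AssociatedPrime.Finiteness
import Mathlib.RingTheory.Jacobson.Ring
import Mathlib.RingTheory.Artinian.Module
import Mathlib.RingTheory.Artinian.Ring
import Mathlib.RingTheory.Regular.IsSMulRegular
import Mathlib.RingTheory.AdicCompletion.Basic
import Mathlib.RingTheory.IntegralDomain
import Mathlib.RingTheory.FinitePresentation
import Mathlib.RingTheory.Flat.FaithfullyFlat.Basic
import Mathlib.RingTheory.Flat.FaithfullyFlat.Algebra
import Mathlib.RingTheory.IntegralClosure.IntegrallyClosed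
import Mathlib.LinearAlgebra.Matrix.MvPolynomial
import Mathlib.RingTheory.Polynomial.Basic
import Mathlib.RingTheory.Localization.FractionRing
import Mathlib.RingTheory.IntegralClosure.IsIntegral.Basic
import Mathlib.LinearAlgebra.TensorProduct.Tower
import Mathlib.RingTheory.Ideal.Quotient.Operations
import Mathlib.RingTheory.Ideal.Colon
import Mathlib.RingTheory.Support
import Mathlib.RingTheory.Noetherian.OfPrime
import Mathlib.RingTheory.HopkinsLevitzki
import Mathlib.RingTheory.Ideal.AssociatedPrime.Localization
import Mathlib.RingTheory.Flat.FaithfullyFlat.Descent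
import Mathlib.LinearAlgebra.TensorProduct.Quotient
import Mathlib.LinearAlgebra.TensorProduct.RightExactness
import Mathlib.RingTheory.PrincipalIdealDomain
import Mathlib.LinearAlgebra.Matrix.Charpoly.Basic
import Mathlib.RingTheory.Flat.Stability
import Mathlib.RingTheory.Nilpotent.Lemmas
import Mathlib.Algebra.Module.Projective
import Mathlib.RingTheory.LocalRing.ResidueField.Basic
import Mathlib.GroupTheory.OrderOfElement
import Mathlib.Algebra.EuclideanDomain.Int
import Mathlib.RingTheory.Spectrum.Maximal.Basic

set_option autoImplicit false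
universe u v
open CAlg

namespace Groth.Agent.S13096
open TensorProduct

/-- Let R be a commutative ring and R' a commutative R-algebra of finite presentation. Then every
surjective R-algebra endomorphism α : R' → R' is bijective (an automorphism). -/
theorem result (R : Type u) [CommRing R]
    (R' : Type v) [CommRing R'] [Algebra R R'] [Algebra.FinitePresentation R R']
    (α : R' →ₐ[R] R') (hα : Function.Surjective α) : Function.Bijective α := by
  classical
  refine ⟨(injective_iff_map_eq_zero α).2 fun a ha => ?_, hα⟩
  obtain ⟨s, hs⟩ : (⊤ : Subalgebra R R').FG := Algebra.FiniteType.out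
  choose q hq using hα
  have hfin : ∀ y : R', ∃ T : Finset R, y ∈ Subring.closure (↑(T.image (algebraMap R R')) ∪ (s : Set R')) := by
    intro y
    have hy : y ∈ Algebra.adjoin R (s : Set R') := hs ▸ Algebra.mem_top
    induction hy using Algebra.adjoin_induction with
    | mem x hx => exact ⟨∅, Subring.subset_closure (Or.inr hx)⟩
    | algebraMap r => exact ⟨{r}, Subring.subset_closure (Or.inl (by simp))⟩
    | add x y _ _ hx hy =>
      obtain ⟨T, hT⟩ := hx; obtain ⟨U, hU⟩ := hy
      exact ⟨T ∪ U, add_mem (Subring.closure_mono (by gcongr; simp) hT) (Subring.closure_mono (by gcongr; simp) hU)⟩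
    | mul x y _ _ hx hy =>
      obtain ⟨T, hT⟩ := hx; obtain ⟨U, hU⟩ := hy
      exact ⟨T ∪ U, mul_mem (Subring.closure_mono (by gcongr; simp) hT) (Subring.closure_mono (by gcongr; simp) hU)⟩
  choose T hT using hfin
  set U : Finset R := s.biUnion (fun x => T (α x) ∪ T (q x)) ∪ T a
  set G : Finset R' := U.image (algebraMap R R') ∪ s
  have hmono : ∀ y, T y ⊆ U → y ∈ Subring.closure (G : Set R') := fun y hy =>
    Subring.closure_mono (by simp only [G, Finset.coe_union]; gcongr) (hT y)
  set A := Subring.closure (G : Set R')
  have : IsNoetherianRing A := is_noetherian_subring_closure _ G.finite_toSet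
  have hmap : A ≤ A.comap α.toRingHom := by
    rw [Subring.closure_le]
    intro x hx
    simp only [G, Finset.coe_union, Finset.coe_image, Set.mem_union] at hx
    rcases hx with ⟨r, hr, rfl⟩ | hx
    · exact (α.commutes r).symm ▸ Subring.subset_closure (by simp [G]; left; exact ⟨r, hr, rfl⟩)
    · exact hmono _ (fun r hr => Finset.mem_union_left _ (Finset.mem_biUnion.2 ⟨x, hx, Finset.mem_union_left _ hr⟩))
  let β : A →+* A := α.toRingHom.restrict A A hmap
  have hsurj : Function.Surjective β := by
    have : A ≤ A.map α.toRingHom := by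
      rw [Subring.closure_le]
      intro x hx
      simp only [G, Finset.coe_union, Finset.coe_image, Set.mem_union] at hx
      rcases hx with ⟨r, hr, rfl⟩ | hx
      · exact ⟨_, Subring.subset_closure (by simp [G]; left; exact ⟨r, hr, rfl⟩), α.commutes r⟩
      · exact ⟨q x, hmono _ (fun r hr => Finset.mem_union_left _ (Finset.mem_biUnion.2 ⟨x, hx, Finset.mem_union_right _ hr⟩)), hq x⟩
    rintro ⟨x, hx⟩
    obtain ⟨y, hy, rfl⟩ := this hx
    exact ⟨⟨y, hy⟩, rfl⟩
  obtain ⟨n, hn⟩ := monotone_stabilizes_iff_noetherian.2 this ⟨fun n => RingHom.ker (β ^ n), monotone_nat_of_le_succ (fun n x hx => by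
    simp only [RingHom.mem_ker] at hx ⊢
    rw [pow_succ', RingHom.mul_def, RingHom.comp_apply, hx, map_zero])⟩
  have hsn : ∀ n : ℕ, Function.Surjective ⇑(β ^ n) := fun n => by
    rw [RingHom.coe_pow]; exact hsurj.iterate n
  obtain ⟨y, hy⟩ := hsn n ⟨a, hmono a Finset.subset_union_right⟩
  have : y ∈ RingHom.ker (β ^ (n + 1)) := by
    rw [RingHom.mem_ker, pow_succ', RingHom.mul_def, RingHom.comp_apply, hy]
    exact Subtype.ext ha
  have h2 : y ∈ RingHom.ker (β ^ n) := by
    have e := hn (n + 1) n.le_succ
    simp only [OrderHom.coe_mk] at e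
    rw [e]; exact this
  rw [RingHom.mem_ker, hy] at h2
  exact congrArg Subtype.val h2

end Groth.Agent.S13096
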