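import Groth.Statements.S13097
import Groth.Agent.S0415
import Groth.Agent.Lib.UnivHomeo.Morph
import Mathlib.AlgebraicGeometry.Morphisms.Finite


set_option autoImplicit false
universe u
set_option linter.style.haveILetI false
open FlatMor

namespace Groth.Agent.S13097

open CategoryTheory AlgebraicGeometry in
/-- Let f : X → S be a quasi-compact, separated morphism of schemes with a section e : S → X (e followed
by f is the identity of S), and U ⊆ S an open subscheme such that f⁻¹(U) is schematically dense in X
(for every open V of X, restriction of functions from V to V ∩ f⁻¹(U) is injective) and such that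
the restriction f⁻¹(U) → U of f is a homeomorphism of underlying spaces. Then f is universally a
homeomorphism (every base change of f is a homeomorphism), and f is finite as soon as it is locally
of finite type. (The published statement also lists surjectivity of f, which a section forces, and
offers as an alternative to the section the hypothesis that f be flat, still with f⁻¹(U) → U only a
homeomorphism; that flat alternative fails: the spectrum of a separable quadratic field extension
over the spectrum of the ground field, with U the whole base, is flat, surjective, quasi-compact,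
separated and a homeomorphism over U, yet not universally injective. Only the case of a section,
whose published proof is complete, is stated here.) -/
theorem result {X S : Scheme.{u}} (f : X ⟶ S)
    [QuasiCompact f] [IsSeparated f] (U : S.Opens)
    (hdense : CInt.IsSchematicallyDense (f ⁻¹ᵁ U)) (hU : IsHomeomorph (f ∣_ U).base)
    (e : S ⟶ X) (he : e ≫ f = 𝟙 S) :
    FlatMor.IsUnivHomeo f ∧ (LocallyOfFiniteType f → IsFinite f) := by
  haveI : IsClosedImmersion (e ≫ f) := by rw [he]; infer_instance
  haveI : IsClosedImmersion e := IsClosedImmersion.of_comp e f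
  have hsurj : Surjective e := by
    refine ⟨Set.range_eq_univ.1 ?_⟩
    by_contra hne
    let V : X.Opens := ⟨(Set.range e.base)ᶜ, e.isClosedEmbedding.isClosed_range.isOpen_compl⟩
    obtain ⟨x, hx⟩ := (Set.ne_univ_iff_exists_notMem _).1 hne
    have hdisj : V ⊓ f ⁻¹ᵁ U = ⊥ := by
      refine le_bot_iff.1 fun y hy => ?_
      obtain ⟨hyV, hyU⟩ := hy
      refine (hyV ?_).elim
      refine ⟨f y, ?_⟩
      have h1 : f (e (f y)) = f y := by rw [← Scheme.Hom.comp_apply, he]; rfl
      have h2 : e (f y) ∈ f ⁻¹ᵁ U := show f (e (f y)) ∈ U by rw [h1]; exact hyU
      have h3 := hU.injective (a₁ := ⟨e (f y), h2⟩) (a₂ := ⟨y, hyU⟩)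
        (Subtype.ext ((morphismRestrict_base_coe f U _).trans
          (h1.trans (morphismRestrict_base_coe f U ⟨y, hyU⟩).symm)))
      exact congrArg Subtype.val h3
    have hinj := hdense V
    haveI : Subsingleton Γ(X, V ⊓ f ⁻¹ᵁ U) :=
      CommRingCat.subsingleton_of_isTerminal (X.sheaf.isTerminalOfEqEmpty hdisj)
    haveI : Subsingleton Γ(X, V) := hinj.subsingleton
    haveI : Subsingleton (X.presheaf.stalk x) := by
      refine subsingleton_of_zero_eq_one ?_
      rw [← map_zero (X.presheaf.germ V x hx).hom, ← map_one (X.presheaf.germ V x hx).hom]
      exact congrArg _ (Subsingleton.elim _ _)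
    exact false_of_nontrivial_of_subsingleton (X.presheaf.stalk x)
  have hf : FlatMor.IsUnivHomeo f := by
    refine UH.of_comp_left (f := e) ?_ (UH.isUnivHomeo_of_isImmersion e)
    rw [he]
    exact UH.isUnivHomeo_of_isImmersion (𝟙 S)
  refine ⟨hf, fun hlft => ?_⟩
  haveI := ((Groth.Agent.S0415.result f).1 hf).1
  exact (IsFinite.iff_isIntegralHom_and_locallyOfFiniteType f).2 ⟨inferInstance, hlft⟩


end Groth.Agent.S13097
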