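import Groth.Statements.S13098
import Mathlib.Tactic.Module
import Mathlib.Tactic.LinearCombination
import Mathlib.Tactic.Ring
import Mathlib.Algebra.BigOperators.Fin

set_option autoImplicit false
universe u v
open Lie3Mod

namespace Groth.Agent.S13098

/-- Let R be a commutative ring, M an R-module with a basis x = bs 0, y = bs 1, z = bs 2 indexed by Fin
3, and B an R-bilinear alternating map on M (B m m = 0) with B x y = a x + b y + c z, B x z = d x +
e y + f z and B y z = g x + h y + i z. Then B satisfies the Jacobi identity for all triples if and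
only if the three Jacobi polynomials vanish: ah + di − fg − bg = 0, ie + bd − fh − ae = 0 and hc +
dc − af − bi = 0. (This is the statement that Lie brackets on a based free module of rank 3 are the
points of the closed subscheme of affine 9-space defined by these three equations.) -/
theorem result (R : Type u) [CommRing R] (M : Type v) [AddCommGroup M] [Module R M]
    (bs : Module.Basis (Fin 3) R M) (B : M →ₗ[R] M →ₗ[R] M) (halt : ∀ m : M, B m m = 0)
    (a b c d e f g h i : R)
    (hxy : B (bs 0) (bs 1) = a • bs 0 + b • bs 1 + c • bs 2)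
    (hxz : B (bs 0) (bs 2) = d • bs 0 + e • bs 1 + f • bs 2)
    (hyz : B (bs 1) (bs 2) = g • bs 0 + h • bs 1 + i • bs 2) :
    (∀ u v w : M, B u (B v w) + B v (B w u) + B w (B u v) = 0) ↔
      (a * h + d * i - f * g - b * g = 0 ∧ i * e + b * d - f * h - a * e = 0 ∧
        h * c + d * c - a * f - b * i = 0) := by
  have hsw : ∀ u v : M, B u v = -(B v u) := fun u v => by
    have h := halt (u + v)
    simp only [map_add, LinearMap.add_apply, halt, zero_add, add_zero] at h
    exact eq_neg_of_add_eq_zero_right h
  have key : B (bs 0) (B (bs 1) (bs 2)) + B (bs 1) (B (bs 2) (bs 0)) + B (bs 2) (B (bs 0) (bs 1))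
      = (a * h + d * i - f * g - b * g) • bs 0 + (i * e + b * d - f * h - a * e) • bs 1
        + (h * c + d * c - a * f - b * i) • bs 2 := by
    rw [hsw (bs 2) (bs 0), hxy, hxz, hyz]
    simp only [map_add, map_smul, map_neg, halt, hxy, hxz, hyz, hsw (bs 1) (bs 0), hsw (bs 2) (bs 0),
      hsw (bs 2) (bs 1), smul_zero]
    module
  constructor
  · intro hJ
    rw [hJ] at key
    have k0 := congrArg (fun m => bs.repr m 0) key
    have k1 := congrArg (fun m => bs.repr m 1) key
    have k2 := congrArg (fun m => bs.repr m 2) key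
    simp [Finsupp.single_apply] at k0 k1 k2
    exact ⟨k0.symm, k1.symm, k2.symm⟩
  · rintro ⟨h0, h1, h2⟩ u v w
    rw [h0, h1, h2] at key
    simp only [zero_smul, add_zero] at key
    have hu := bs.sum_repr u
    have hv := bs.sum_repr v
    have hw := bs.sum_repr w
    rw [Fin.sum_univ_three] at hu hv hw
    rw [← hu, ← hv, ← hw]
    generalize bs.repr u 0 = u0, bs.repr u 1 = u1, bs.repr u 2 = u2, bs.repr v 0 = v0, bs.repr v 1 = v1,
      bs.repr v 2 = v2, bs.repr w 0 = w0, bs.repr w 1 = w1, bs.repr w 2 = w2
    rw [hsw (bs 2) (bs 0)] at key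
    simp only [map_neg] at key
    simp only [map_add, map_smul, LinearMap.add_apply, LinearMap.smul_apply, halt, smul_zero, add_zero, zero_add,
      hsw (bs 1) (bs 0), hsw (bs 2) (bs 0), hsw (bs 2) (bs 1), map_neg, smul_neg, smul_add, smul_smul]
    linear_combination (norm := module) (u0 * (v1 * w2 - v2 * w1) - u1 * (v0 * w2 - v2 * w0) + u2 * (v0 * w1 - v1 * w0)) • key

end Groth.Agent.S13098
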