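import Groth.Statements.S13099
import Mathlib.Data.Nat.Choose.Lucas
import Mathlib.Algebra.CharP.Invertible
import Mathlib.RingTheory.MvPolynomial.Ideal
import Mathlib.RingTheory.AdjoinRoot
import Mathlib.RingTheory.FiniteType
import Mathlib.Algebra.CharP.Quotient
import Mathlib.Tactic.Ring
import Mathlib.Tactic.Linarith
import Mathlib.Tactic.IntervalCases

set_option autoImplicit false
universe u
open GrpSch

namespace Groth.Agent.S13099

open Polynomial in
/-- Let p be a prime and A a commutative ring of characteristic p, and consider the infinitesimal group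
scheme Spec A[X]/(X^{p²}) with the additive group law. In coordinates: (1) a polynomial q ∈ A[X] of
degree less than p² satisfies q(Y + Z) − q(Y) − q(Z) ∈ (Y^{p²}, Z^{p²}) in A[Y, Z] (that is, X ↦ q
respects the comultiplication) if and only if q = a₁ X + a_p X^p for some a₁, a_p ∈ A; (2) an
A-algebra endomorphism of A[X]/(X^{p²}) that sends the class of X to the class of a₁ X + a_p X^p is
bijective if and only if a₁ is a unit of A. (The printed statement is that the automorphism group
scheme of this group scheme is the semidirect product of the additive group by the multiplicative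
group, v acting on u by v^{p−1}u; this row records the two computations it consists of, in
coordinates.) -/
theorem result (p : ℕ) [Fact p.Prime] (A : Type u) [CommRing A] [CharP A p] :
    (∀ q : A[X], q.natDegree < p ^ 2 →
      (Polynomial.aeval (MvPolynomial.X 0 + MvPolynomial.X 1 : MvPolynomial (Fin 2) A) q -
            Polynomial.aeval (MvPolynomial.X 0 : MvPolynomial (Fin 2) A) q -
            Polynomial.aeval (MvPolynomial.X 1 : MvPolynomial (Fin 2) A) q ∈
          Ideal.span ({MvPolynomial.X 0 ^ p ^ 2, MvPolynomial.X 1 ^ p ^ 2} : Set (MvPolynomial (Fin 2) A)) ↔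
        ∃ a₁ ap : A, q = Polynomial.C a₁ * X + Polynomial.C ap * X ^ p)) ∧
    (∀ (a₁ ap : A) (φ : (A[X] ⧸ Ideal.span ({X ^ p ^ 2} : Set A[X])) →ₐ[A] (A[X] ⧸ Ideal.span ({X ^ p ^ 2} : Set A[X]))),
      φ (Ideal.Quotient.mk (Ideal.span ({X ^ p ^ 2} : Set A[X])) X) =
          Ideal.Quotient.mk (Ideal.span ({X ^ p ^ 2} : Set A[X])) (Polynomial.C a₁ * X + Polynomial.C ap * X ^ p) →
        (Function.Bijective φ ↔ IsUnit a₁)) := by
  classical
  have hp : p.Prime := Fact.out
  haveI : Nontrivial A := CharP.nontrivial_of_char_ne_one hp.ne_one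
  refine ⟨fun q hq => ⟨fun h => ?_, ?_⟩, fun a₁ ap φ hφ => ⟨fun hb => ?_, fun hu => ?_⟩⟩
  · rw [show ({MvPolynomial.X 0 ^ p ^ 2, MvPolynomial.X 1 ^ p ^ 2} : Set (MvPolynomial (Fin 2) A)) =
        (fun s => MvPolynomial.monomial s (1 : A)) '' ({Finsupp.single 0 (p ^ 2), Finsupp.single 1 (p ^ 2)} : Set (Fin 2 →₀ ℕ)) by
      simp [MvPolynomial.X_pow_eq_monomial, Set.image_pair], MvPolynomial.mem_ideal_span_monomial_image] at h
    let mon : ℕ → ℕ → (Fin 2 →₀ ℕ) := fun a b => Finsupp.single 0 a + Finsupp.single 1 b
    have hmon : ∀ a b a' b', mon a b = mon a' b' ↔ a = a' ∧ b = b' := fun a b a' b' => by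
      refine ⟨fun e => ⟨?_, ?_⟩, fun e => by rw [e.1, e.2]⟩
      · simpa [mon] using DFunLike.congr_fun e 0
      · simpa [mon] using DFunLike.congr_fun e 1
    have hpow : ∀ (n a b : ℕ), MvPolynomial.coeff (mon a b) ((MvPolynomial.X 0 + MvPolynomial.X 1 : MvPolynomial (Fin 2) A) ^ n) =
        if a + b = n then (n.choose a : A) else 0 := fun n a b => by
      rw [add_pow, MvPolynomial.coeff_sum]
      have he : ∀ i j : ℕ, (MvPolynomial.X 0 : MvPolynomial (Fin 2) A) ^ i * MvPolynomial.X 1 ^ j * (n.choose i : MvPolynomial (Fin 2) A) =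
          MvPolynomial.monomial (mon i j) (n.choose i : A) := fun i j => by
        rw [MvPolynomial.X_pow_eq_monomial, MvPolynomial.X_pow_eq_monomial, MvPolynomial.monomial_mul,
          ← map_natCast (MvPolynomial.C (σ := Fin 2) (R := A)), mul_comm _ (MvPolynomial.C _), MvPolynomial.C_mul_monomial]
        simp [mon]
      simp only [he, MvPolynomial.coeff_monomial, hmon]
      split_ifs with hab
      · rw [Finset.sum_eq_single a]
        · rw [if_pos ⟨rfl, by omega⟩]
        · intro i _ hi; rw [if_neg (fun e => hi e.1)]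
        · intro ha; simp at ha; omega
      · refine Finset.sum_eq_zero fun i hi => ?_
        rw [if_neg fun e => hab (by have := Finset.mem_range.1 hi; omega)]
    have hcoef : ∀ a b, 1 ≤ a → 1 ≤ b → a + b < p ^ 2 → ((a + b).choose a : A) * q.coeff (a + b) = 0 := fun a b ha hb hab => by
      by_contra hne
      obtain ⟨s, hs, hsle⟩ := h (mon a b) (by
        rw [MvPolynomial.mem_support_iff, MvPolynomial.coeff_sub, MvPolynomial.coeff_sub]
        simp only [Polynomial.aeval_eq_sum_range, MvPolynomial.coeff_sum, MvPolynomial.coeff_smul, hpow, smul_eq_mul,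
          MvPolynomial.X_pow_eq_monomial, MvPolynomial.coeff_monomial, mul_ite, mul_zero]
        rw [Finset.sum_eq_zero (f := fun i => if Finsupp.single 0 i = mon a b then _ else _) fun i _ => if_neg fun e => ?_,
          Finset.sum_eq_zero (f := fun i => if Finsupp.single 1 i = mon a b then _ else _) fun i _ => if_neg fun e => ?_,
          sub_zero, sub_zero, Finset.sum_eq_single (a + b) (fun i _ hi => if_neg (Ne.symm hi)) fun hn => ?_, if_pos rfl,
          mul_comm]
        · exact hne
        · simp only [Finset.mem_range, not_lt] at hn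
          exact absurd (by rw [Polynomial.coeff_eq_zero_of_natDegree_lt (by omega), mul_zero]) hne
        · have := DFunLike.congr_fun e 0
          simp [mon] at this; omega
        · have := DFunLike.congr_fun e 1
          simp [mon] at this; omega)
      rcases hs with rfl | rfl
      · have := hsle 0; simp [mon] at this; omega
      · have := hsle 1; simp [mon] at this; omega
    have hzero : ∀ n, n ≠ 1 → n ≠ p → q.coeff n = 0 := fun n h1 hnp => by
      rcases Nat.eq_zero_or_pos n with rfl | hn
      · by_contra hne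
        obtain ⟨s, hs, hsle⟩ := h 0 (by
          rw [MvPolynomial.mem_support_iff]
          simp only [← MvPolynomial.constantCoeff_eq, map_sub, Polynomial.aeval_def,
            Polynomial.hom_eval₂, map_add, MvPolynomial.constantCoeff_X, add_zero]
          rw [sub_self, zero_sub, neg_ne_zero]
          simpa [Polynomial.eval₂_at_zero] using hne)
        rcases hs with rfl | rfl
        · have := hsle 0; simp at this; exact hp.ne_zero this
        · have := hsle 1; simp at this; exact hp.ne_zero this
      rcases lt_or_ge n (p ^ 2) with hlt | hge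
      swap
      · exact Polynomial.coeff_eq_zero_of_natDegree_lt (by omega)
      obtain ⟨a, ha, han, hu⟩ : ∃ a, 1 ≤ a ∧ a < n ∧ ¬ p ∣ n.choose a := by
        have hdiv := Nat.mod_add_div n p
        rcases Nat.eq_zero_or_pos (n % p) with h0 | h0
        · have hn1 : 2 ≤ n / p := by
            rcases Nat.lt_or_ge (n / p) 2 with h2 | h2
            · interval_cases hh : n / p <;> simp [h0] at hdiv <;> omega
            · exact h2
          refine ⟨p, hp.one_lt.le, by nlinarith, fun hd => ?_⟩
          have hmod := Choose.choose_modEq_choose_mod_mul_choose_div_nat (p := p) (n := n) (k := p)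
          rw [Nat.mod_self, Nat.choose_zero_right, one_mul, Nat.div_self hp.pos, Nat.choose_one_right] at hmod
          have hd' := Nat.modEq_zero_iff_dvd.1 (hmod.symm.trans (Nat.modEq_zero_iff_dvd.2 hd))
          have hlt' : n / p < p := Nat.div_lt_of_lt_mul (by rw [← sq]; exact hlt)
          exact absurd (Nat.le_of_dvd (by omega) hd') (by omega)
        · rcases Nat.eq_zero_or_pos (n / p) with h2 | h2
          · rw [h2, mul_zero, add_zero] at hdiv
            refine ⟨1, le_rfl, by omega, fun hd => ?_⟩
            rw [Nat.choose_one_right] at hd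
            exact absurd (Nat.le_of_dvd hn hd) (by have := Nat.mod_lt n hp.pos; omega)
          · refine ⟨n % p, h0, by nlinarith [hp.pos], fun hd => ?_⟩
            have hmod := Choose.choose_modEq_choose_mod_mul_choose_div_nat (p := p) (n := n) (k := n % p)
            rw [Nat.mod_mod, Nat.choose_self, one_mul, Nat.div_eq_of_lt (Nat.mod_lt n hp.pos), Nat.choose_zero_right] at hmod
            exact hp.not_dvd_one (Nat.modEq_zero_iff_dvd.1 (hmod.symm.trans (Nat.modEq_zero_iff_dvd.2 hd)))
      have h2 := hcoef a (n - a) ha (by omega) (by omega)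
      rw [Nat.add_sub_cancel' han.le] at h2
      exact ((CharP.isUnit_natCast_iff (R := A) hp).2 hu).mul_right_eq_zero.1 h2
    refine ⟨q.coeff 1, q.coeff p, Polynomial.ext fun n => ?_⟩
    rw [Polynomial.coeff_add, Polynomial.coeff_C_mul, Polynomial.coeff_C_mul, Polynomial.coeff_X, Polynomial.coeff_X_pow]
    by_cases h1 : n = 1
    · subst h1; simp [hp.ne_one.symm]
    by_cases h2 : n = p
    · subst h2; simp [Ne.symm h1]
    simp [Ne.symm h1, h2, hzero n h1 h2]
  · rintro ⟨a₁, ap, rfl⟩
    convert Ideal.zero_mem _ using 1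
    simp only [map_add, map_mul, map_pow, Polynomial.aeval_X, Polynomial.aeval_C, add_pow_char]
    ring
  · have hf : ∀ f : A[X], φ (Ideal.Quotient.mk _ f) = Ideal.Quotient.mk _ (f.comp (Polynomial.C a₁ * X + Polynomial.C ap * X ^ p)) := fun f => by
      induction f using Polynomial.induction_on' with
      | add u v hu hv => rw [map_add, map_add, hu, hv, Polynomial.add_comp, map_add]
      | monomial k c =>
        rw [← Polynomial.C_mul_X_pow_eq_monomial, map_mul, map_pow, map_mul, map_pow, hφ, Polynomial.mul_comp,
          Polynomial.C_comp, Polynomial.X_pow_comp, map_mul, map_pow]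
        congr 1
        exact φ.commutes c
    obtain ⟨y, hy⟩ := hb.2 (Ideal.Quotient.mk _ X)
    obtain ⟨f, rfl⟩ := Ideal.Quotient.mk_surjective y
    rw [hf, Ideal.Quotient.mk_eq_mk_iff_sub_mem, Ideal.mem_span_singleton] at hy
    have h2 : (2 : ℕ) ≤ p ^ 2 := by nlinarith [hp.two_le]
    have hc : ((f.comp (Polynomial.C a₁ * X + Polynomial.C ap * X ^ p)) - X).coeff 1 = 0 :=
      Polynomial.X_pow_dvd_iff.1 hy 1 (by omega)
    rw [Polynomial.coeff_sub, Polynomial.coeff_X_one, Polynomial.comp_eq_sum_left, Polynomial.sum, Polynomial.finsetSum_coeff] at hc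
    have hk : ∀ k, ((Polynomial.C a₁ * X + Polynomial.C ap * X ^ p) ^ k).coeff 1 = if k = 1 then a₁ else 0 := fun k => by
      rcases k with _ | _ | k
      · simp [Polynomial.coeff_one]
      · simp [Polynomial.coeff_X_pow, hp.ne_one.symm]
      · rw [if_neg (by omega)]
        refine Polynomial.X_pow_dvd_iff.1 (pow_dvd_pow_of_dvd (a := X) ?_ (k + 2)) 1 (by omega)
        exact dvd_add (dvd_mul_left _ _) ((dvd_pow_self _ hp.ne_zero).mul_left _)
    simp only [Polynomial.coeff_C_mul, hk, mul_ite, mul_zero, Finset.sum_ite_eq'] at hc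
    split_ifs at hc with h1
    · exact IsUnit.of_mul_eq_one_right _ (sub_eq_zero.1 hc)
    · simp at hc
  · let I := Ideal.span ({X ^ p ^ 2} : Set A[X])
    haveI : Module.Finite A (A[X] ⧸ I) := Polynomial.Monic.finite_quotient (Polynomial.monic_X_pow _)
    refine OrzechProperty.bijective_of_surjective_endomorphism φ.toLinearMap ?_
    intro y
    let x := Ideal.Quotient.mk I X
    have hx0 : x ^ p ^ 2 = 0 := by
      rw [← map_pow, Ideal.Quotient.eq_zero_iff_mem]; exact Ideal.mem_span_singleton_self _
    have hφx : φ x = algebraMap A _ a₁ * x + algebraMap A _ ap * x ^ p := by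
      rw [hφ, map_add, map_mul, map_mul, map_pow]; rfl
    haveI : Nontrivial (A[X] ⧸ I) := Ideal.Quotient.nontrivial_iff.2 fun e => by
      have hd := Ideal.mem_span_singleton.1 ((Ideal.eq_top_iff_one _).1 e)
      have := Polynomial.X_pow_dvd_iff.1 hd 0 (pow_pos hp.pos 2)
      rw [Polynomial.coeff_one_zero] at this
      exact one_ne_zero this
    haveI : CharP (A[X] ⧸ I) p := CharP.quotient' _ I fun n hn => by
      obtain ⟨d, hd⟩ := Ideal.mem_span_singleton.1 hn
      have := congrArg (fun r => Polynomial.coeff r 0) hd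
      simp only [← Polynomial.C_eq_natCast, Polynomial.coeff_C_zero, Polynomial.mul_coeff_zero, Polynomial.coeff_X_pow,
        if_neg (pow_pos hp.pos 2).ne, zero_mul] at this
      rw [← Polynomial.C_eq_natCast, this, map_zero]
    have hxp : x ^ p ∈ φ.range := by
      obtain ⟨u, rfl⟩ := hu
      refine ⟨algebraMap A _ ((↑u⁻¹ : A) ^ p) * x ^ p, ?_⟩
      show φ _ = _
      rw [map_mul, map_pow φ, AlgHom.commutes, hφx, add_pow_char, mul_pow, mul_pow, ← pow_mul, ← sq, hx0, mul_zero,
        add_zero, ← map_pow, ← mul_assoc, ← map_mul, ← mul_pow, Units.inv_mul, one_pow, map_one, one_mul]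
    have hx : x ∈ φ.range := by
      obtain ⟨u, rfl⟩ := hu
      have e : x = algebraMap A _ (↑u⁻¹ : A) * (φ x - algebraMap A _ ap * x ^ p) := by
        rw [hφx, add_sub_cancel_right, ← mul_assoc, ← map_mul, Units.inv_mul, map_one, one_mul]
      rw [e]
      exact mul_mem (Subalgebra.algebraMap_mem _ _) (sub_mem ⟨x, rfl⟩ (mul_mem (Subalgebra.algebraMap_mem _ _) hxp))
    obtain ⟨f, rfl⟩ := Ideal.Quotient.mk_surjective y
    show Ideal.Quotient.mk I f ∈ φ.range
    induction f using Polynomial.induction_on' with
    | add u v hu hv => rw [map_add]; exact add_mem hu hv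
    | monomial k c =>
      rw [← Polynomial.C_mul_X_pow_eq_monomial, map_mul, map_pow]
      exact mul_mem (Subalgebra.algebraMap_mem _ c) (pow_mem hx k)

end Groth.Agent.S13099
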