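import Groth.Statements.S13100
import Mathlib.RingTheory.AdicCompletion.Completeness
import Mathlib.RingTheory.Henselian

set_option autoImplicit false
universe u
open GrpSch

namespace Groth.Agent.S13100

open Polynomial in
theorem exists_sq_eq (k : Type u) [Field k] [IsAlgClosed k] (h2 : (2 : k) ≠ 0)
    (f : PowerSeries k) (hf : PowerSeries.constantCoeff f ≠ 0) :
    ∃ g, f = g * g := by
  obtain ⟨c, hc⟩ := IsAlgClosed.exists_pow_nat_eq (PowerSeries.constantCoeff f) (n := 2) two_pos
  have hc0 : c ≠ 0 := fun h => hf (by rw [← hc, h]; simp)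
  obtain ⟨g, hg, -⟩ := HenselianRing.is_henselian (R := PowerSeries k)
    (I := Ideal.span {PowerSeries.X})
    (X ^ 2 - C f) (monic_X_pow_sub_C f two_ne_zero) (PowerSeries.C c)
    (by
      rw [Ideal.mem_span_singleton, PowerSeries.X_dvd_iff]
      simp [hc])
    (by
      refine IsUnit.map _ ?_
      rw [PowerSeries.isUnit_iff_constantCoeff]
      simp [hc0]
      rw [one_add_one_eq_two]
      exact h2)
  refine ⟨g, ?_⟩
  have h : g ^ 2 - f = 0 := by simpa [IsRoot] using hg
  rw [← pow_two]
  exact (sub_eq_zero.1 h).symm


/-- Let k be an algebraically closed field of characteristic different from 2 and K = k((t)) the field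
of Laurent series over k. Then a non-zero Laurent series f is a square in K if and only if its order
in t is even; consequently the group Kˣ/Kˣ² of non-zero elements modulo squares has exactly two
elements, represented by 1 and t. -/
theorem result (k : Type u) [Field k] [IsAlgClosed k] (h2 : (2 : k) ≠ 0)
    (f : LaurentSeries k) (hf : f ≠ 0) : IsSquare f ↔ Even f.order := by
  classical
  constructor
  · rintro ⟨g, rfl⟩
    have hg : g ≠ 0 := fun h => hf (by simp [h])
    rw [HahnSeries.order_mul hg hg]
    exact ⟨g.order, rfl⟩
  · rintro ⟨m, hm⟩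
    have hc : PowerSeries.constantCoeff f.powerSeriesPart ≠ 0 := by
      rw [← PowerSeries.coeff_zero_eq_constantCoeff_apply, LaurentSeries.powerSeriesPart_coeff]
      simpa using mt HahnSeries.coeff_order_eq_zero.1 hf
    obtain ⟨g, hg⟩ := exists_sq_eq k h2 f.powerSeriesPart hc
    refine ⟨HahnSeries.single m (1 : k) * HahnSeries.ofPowerSeries ℤ k g, ?_⟩
    rw [mul_mul_mul_comm, HahnSeries.single_mul_single, ← map_mul, ← hg, ← hm, one_mul]
    exact f.single_order_mul_powerSeriesPart.symm

end Groth.Agent.S13100
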