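import Groth.Statements.S13101
import Mathlib.Algebra.BigOperators.Fin
import Mathlib.Tactic.Module
import Mathlib.Tactic.LinearCombination
import Mathlib.Tactic.FinCases

set_option autoImplicit false
universe u v
open GrpSch

namespace Groth.Agent.S13101

/-- Let A be a commutative ring in which 2 is a unit, and L a Lie algebra over A, free as a module with
basis x = bs 0, y = bs 1, z = bs 2 and brackets [x,y] = y, [x,z] = y + z, [y,z] = 0. Then for every
Lie algebra automorphism φ of L over A there are b, c, h ∈ A and a unit i of A with φ(x) = x + b y +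
c z, φ(y) = i y and φ(z) = h y + i z. Only the form of an automorphism is stated, not that every map
of this form is one. (The published statement identifies the automorphism group scheme with a
semidirect product of two additive groups by the product of the multiplicative and additive group,
for algebras over a field of Laurent series of characteristic not 2, and deduces the vanishing of
its first cohomology; this row records the determination of the automorphisms, over any base ring
with 2 invertible; the cohomological consequence is not restated.) -/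
theorem result (A : Type u) [CommRing A] (h2 : IsUnit (2 : A))
    (L : Type v) [LieRing L] [LieAlgebra A L] (bs : Module.Basis (Fin 3) A L)
    (hxy : ⁅bs 0, bs 1⁆ = bs 1) (hxz : ⁅bs 0, bs 2⁆ = bs 1 + bs 2) (hyz : ⁅bs 1, bs 2⁆ = 0)
    (φ : L ≃ₗ⁅A⁆ L) :
    ∃ b c h i : A, IsUnit i ∧ φ (bs 0) = bs 0 + b • bs 1 + c • bs 2 ∧ φ (bs 1) = i • bs 1 ∧
      φ (bs 2) = h • bs 1 + i • bs 2 := by
  set ψ := φ.symm with hψ
  have co : ∀ v : L, v = bs.equivFun v 0 • bs 0 + bs.equivFun v 1 • bs 1 + bs.equivFun v 2 • bs 2 := by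
    intro v
    have h' := bs.sum_equivFun v
    rw [Fin.sum_univ_three] at h'
    exact h'.symm
  have hyx : ⁅bs 1, bs 0⁆ = -bs 1 := by rw [← lie_skew, hxy]
  have hzx : ⁅bs 2, bs 0⁆ = -(bs 1 + bs 2) := by rw [← lie_skew, hxz]
  have hzy : ⁅bs 2, bs 1⁆ = 0 := by rw [← lie_skew, hyz, neg_zero]
  -- brackets in coordinates
  have br : ∀ v w : L, ⁅v, w⁆ =
      ((bs.equivFun v 0 * bs.equivFun w 1 - bs.equivFun v 1 * bs.equivFun w 0) +
        (bs.equivFun v 0 * bs.equivFun w 2 - bs.equivFun v 2 * bs.equivFun w 0)) • bs 1 +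
      (bs.equivFun v 0 * bs.equivFun w 2 - bs.equivFun v 2 * bs.equivFun w 0) • bs 2 := by
    intro v w
    conv_lhs => rw [co v, co w]
    simp only [lie_add, add_lie, lie_smul, smul_lie, lie_self, hxy, hyx, hxz, hzx, hyz, hzy]
    module
  have cc : ∀ (v : L) (p q : A), v = p • bs 1 + q • bs 2 →
      bs.equivFun v 0 = 0 ∧ bs.equivFun v 1 = p ∧ bs.equivFun v 2 = q := by
    intro v p q hv
    subst hv
    simp [Finsupp.single_apply]
  have key : ∀ χ : L ≃ₗ⁅A⁆ L,
      bs.equivFun (χ (bs 1)) 0 = 0 ∧ bs.equivFun (χ (bs 2)) 0 = 0 := by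
    intro χ
    have e1 : χ (bs 1) = ⁅χ (bs 0), χ (bs 1)⁆ := by rw [← LieEquiv.map_lie, hxy]
    have e2 : χ (bs 1) + χ (bs 2) = ⁅χ (bs 0), χ (bs 2)⁆ := by rw [← LieEquiv.map_lie, hxz, map_add]
    have f1 := (cc _ _ _ (e1.trans (br _ _))).1
    have f2 := (cc _ _ _ (e2.trans (br _ _))).1
    refine ⟨f1, ?_⟩
    simp only [map_add, Pi.add_apply, f1, zero_add] at f2
    exact f2
  obtain ⟨e0, g0⟩ := key φ
  set a := bs.equivFun (φ (bs 0)) 0 with ha
  set e := bs.equivFun (φ (bs 1)) 1 with he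
  set f := bs.equivFun (φ (bs 1)) 2 with hf
  set h := bs.equivFun (φ (bs 2)) 1 with hh
  set i := bs.equivFun (φ (bs 2)) 2 with hi
  have e1 : φ (bs 1) = ⁅φ (bs 0), φ (bs 1)⁆ := by rw [← LieEquiv.map_lie, hxy]
  have e2 : φ (bs 1) + φ (bs 2) = ⁅φ (bs 0), φ (bs 2)⁆ := by rw [← LieEquiv.map_lie, hxz, map_add]
  obtain ⟨-, q1, q2⟩ := cc _ _ _ (e1.trans (br _ _))
  obtain ⟨-, q3, q4⟩ := cc _ _ _ (e2.trans (br _ _))
  simp only [map_add, Pi.add_apply, e0, g0, mul_zero, sub_zero, ← ha, ← he, ← hf, ← hh, ← hi] at q1 q2 q3 q4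
  have hye : φ (bs 1) = e • bs 1 + f • bs 2 := by
    conv_lhs => rw [co (φ (bs 1)), e0, zero_smul, zero_add]
  have hze : φ (bs 2) = h • bs 1 + i • bs 2 := by
    conv_lhs => rw [co (φ (bs 2)), g0, zero_smul, zero_add]
  -- inverse matrix
  obtain ⟨e0', g0'⟩ := key ψ
  set e' := bs.equivFun (ψ (bs 1)) 1
  set f' := bs.equivFun (ψ (bs 1)) 2
  set h' := bs.equivFun (ψ (bs 2)) 1
  set i' := bs.equivFun (ψ (bs 2)) 2
  have u1 : bs 1 = (e' * e + f' * h) • bs 1 + (e' * f + f' * i) • bs 2 := by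
    conv_lhs => rw [← φ.apply_symm_apply (bs 1), ← hψ, co (ψ (bs 1)), e0', zero_smul, zero_add,
      map_add, map_smul, map_smul, hye, hze]
    module
  have u2 : bs 2 = (h' * e + i' * h) • bs 1 + (h' * f + i' * i) • bs 2 := by
    conv_lhs => rw [← φ.apply_symm_apply (bs 2), ← hψ, co (ψ (bs 2)), g0', zero_smul, zero_add,
      map_add, map_smul, map_smul, hye, hze]
    module
  obtain ⟨-, v1, v2⟩ := cc _ _ _ u1
  obtain ⟨-, v3, v4⟩ := cc _ _ _ u2
  simp [Finsupp.single_apply] at v1 v2 v3 v4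
  have hdet : IsUnit (e * i - f * h) := by
    refine IsUnit.of_mul_eq_one (e' * i' - f' * h') ?_
    linear_combination (h' * f + i' * i) * (-v1) - v4 + (h' * e + i' * h) * v2
  -- solve
  have t1 : (a - 1) * f = 0 := by linear_combination -q2
  have t2 : f = (a - 1) * i := by linear_combination q4
  have t3 : e = (a - 1) * h + a * i := by linear_combination q3
  have t4 : (a - 1) * e + a * f = 0 := by linear_combination -q1
  have dd : e * i - f * h = a * i ^ 2 := by rw [t3, t2]; ring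
  rw [dd] at hdet
  have hiu : IsUnit i := (isUnit_pow_iff two_ne_zero).1 (isUnit_of_mul_isUnit_right hdet)
  have t5 : (a - 1) ^ 2 = 0 := hiu.mul_left_eq_zero.1 (by rw [t2] at t1; linear_combination t1)
  have t6 : (a - 1) * i * 2 = 0 := by
    rw [t3, t2] at t4
    linear_combination t4 - (h + 2 * i) * t5
  have ha1 : a = 1 := sub_eq_zero.1 (hiu.mul_left_eq_zero.1 (h2.mul_left_eq_zero.1 t6))
  refine ⟨bs.equivFun (φ (bs 0)) 1, bs.equivFun (φ (bs 0)) 2, h, i, hiu, ?_, ?_, hze⟩
  · conv_lhs => rw [co (φ (bs 0)), ← ha, ha1, one_smul]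
  · rw [hye, t2, t3, ha1]
    simp

end Groth.Agent.S13101
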