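import Groth.Statements.S13102
import Mathlib.Algebra.BigOperators.Fin
import Mathlib.Tactic.Module
import Mathlib.Tactic.LinearCombination

set_option autoImplicit false
universe u v w
open GrpSch

namespace Groth.Agent.S13102

/-- Let K be a field, α ∈ K, A a commutative K-algebra and L a Lie algebra over A which is free as an
A-module with basis x = bs 0, y = bs 1, z = bs 2 and brackets [x,y] = y, [x,z] = α z, [y,z] = 0. If
α² ≠ 1 then every Lie algebra automorphism φ of L over A satisfies φ(x) = x + b y + c z, φ(y) = e y,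
φ(z) = i z for some b, c ∈ A and units e, i of A. If α = 1 then every such φ satisfies φ(x) = x + b
y + c z, φ(y) = e y + f z, φ(z) = h y + i z with e i − f h a unit of A. (The printed statement
identifies the automorphism group schemes with the corresponding semidirect products, treats also α
= −1 in characteristic not 2, and computes first cohomology over a field of Laurent series; those
clauses are not restated here.) -/
theorem result (K : Type u) [Field K] (α : K) (A : Type v) [CommRing A] [Algebra K A]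
    (L : Type w) [LieRing L] [LieAlgebra A L] (bs : Module.Basis (Fin 3) A L)
    (hxy : ⁅bs 0, bs 1⁆ = bs 1) (hxz : ⁅bs 0, bs 2⁆ = algebraMap K A α • bs 2) (hyz : ⁅bs 1, bs 2⁆ = 0)
    (φ : L ≃ₗ⁅A⁆ L) :
    (α ^ 2 ≠ 1 → ∃ b c e i : A, IsUnit e ∧ IsUnit i ∧ φ (bs 0) = bs 0 + b • bs 1 + c • bs 2 ∧
        φ (bs 1) = e • bs 1 ∧ φ (bs 2) = i • bs 2) ∧
    (α = 1 → ∃ b c e f h i : A, IsUnit (e * i - f * h) ∧ φ (bs 0) = bs 0 + b • bs 1 + c • bs 2 ∧
        φ (bs 1) = e • bs 1 + f • bs 2 ∧ φ (bs 2) = h • bs 1 + i • bs 2) := by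
  set t := algebraMap K A α with ht
  have co : ∀ v : L, v = bs.equivFun v 0 • bs 0 + bs.equivFun v 1 • bs 1 + bs.equivFun v 2 • bs 2 := by
    intro v
    have h' := bs.sum_equivFun v
    rw [Fin.sum_univ_three] at h'
    exact h'.symm
  have hyx : ⁅bs 1, bs 0⁆ = -bs 1 := by rw [← lie_skew, hxy]
  have hzx : ⁅bs 2, bs 0⁆ = -(t • bs 2) := by rw [← lie_skew, hxz]
  have hzy : ⁅bs 2, bs 1⁆ = 0 := by rw [← lie_skew, hyz, neg_zero]
  have br : ∀ v w : L, ⁅v, w⁆ =
      (bs.equivFun v 0 * bs.equivFun w 1 - bs.equivFun v 1 * bs.equivFun w 0) • bs 1 +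
      (t * (bs.equivFun v 0 * bs.equivFun w 2 - bs.equivFun v 2 * bs.equivFun w 0)) • bs 2 := by
    intro v w
    conv_lhs => rw [co v, co w]
    simp only [lie_add, add_lie, lie_smul, smul_lie, lie_self, hxy, hyx, hxz, hzx, hyz, hzy]
    module
  have cc : ∀ (v : L) (p q : A), v = p • bs 1 + q • bs 2 →
      bs.equivFun v 0 = 0 ∧ bs.equivFun v 1 = p ∧ bs.equivFun v 2 = q := by
    intro v p q hv
    subst hv
    simp
  have E1 : ∀ χ : L ≃ₗ⁅A⁆ L, χ (bs 1) = ⁅χ (bs 0), χ (bs 1)⁆ := fun χ => by rw [← LieEquiv.map_lie, hxy]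
  have E2 : ∀ χ : L ≃ₗ⁅A⁆ L, t • χ (bs 2) = ⁅χ (bs 0), χ (bs 2)⁆ := fun χ => by
    rw [← LieEquiv.map_lie, hxz, map_smul]
  have E3 : ∀ χ : L ≃ₗ⁅A⁆ L, ⁅χ (bs 1), χ (bs 2)⁆ = 0 := fun χ => by
    rw [← LieEquiv.map_lie, hyz, map_zero]
  have key : ∀ χ : L ≃ₗ⁅A⁆ L, bs.equivFun (χ (bs 1)) 0 = 0 ∧
      (IsUnit t → bs.equivFun (χ (bs 2)) 0 = 0) := by
    intro χ
    refine ⟨(cc _ _ _ ((E1 χ).trans (br _ _))).1, fun ut => ut.mul_right_eq_zero.1 ?_⟩
    simpa [map_smul] using (cc _ _ _ ((E2 χ).trans (br _ _))).1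
  obtain ⟨e0, -⟩ := key φ
  set a := bs.equivFun (φ (bs 0)) 0 with ha
  set e := bs.equivFun (φ (bs 1)) 1 with he
  set f := bs.equivFun (φ (bs 1)) 2 with hf
  set g := bs.equivFun (φ (bs 2)) 0 with hg
  set h := bs.equivFun (φ (bs 2)) 1 with hh
  set i := bs.equivFun (φ (bs 2)) 2 with hi
  set b := bs.equivFun (φ (bs 0)) 1 with hb
  set c := bs.equivFun (φ (bs 0)) 2 with hc
  obtain ⟨-, q1, q2⟩ := cc _ _ _ ((E1 φ).trans (br _ _))
  obtain ⟨-, q3, q4⟩ := cc _ _ _ ((E2 φ).trans (br _ _))
  obtain ⟨-, q5, q6⟩ := cc _ _ _ ((E3 φ).symm.trans (br _ _))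
  simp only [map_smul, map_zero, Pi.smul_apply, Pi.zero_apply, smul_eq_mul, e0, mul_zero, sub_zero, zero_mul,
    zero_sub, ← ha, ← hb, ← hc, ← he, ← hf, ← hg, ← hh, ← hi] at q1 q2 q3 q4 q5 q6
  have hye : φ (bs 1) = e • bs 1 + f • bs 2 := by
    conv_lhs => rw [co (φ (bs 1)), e0, zero_smul, zero_add]
  have hze : φ (bs 2) = g • bs 0 + h • bs 1 + i • bs 2 := co _
  have hxe : φ (bs 0) = a • bs 0 + b • bs 1 + c • bs 2 := co _
  by_cases hα : α = 0
  · -- here the last basis vector is central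
    refine ⟨fun _ => ?_, fun h1 => absurd (hα.symm.trans h1) zero_ne_one⟩
    have t0 : t = 0 := by rw [ht, hα, map_zero]
    rw [t0] at q2 q3
    simp only [zero_mul] at q2 q3
    -- the inverse
    obtain ⟨e0', -⟩ := key φ.symm
    set e' := bs.equivFun (φ.symm (bs 1)) 1
    set f' := bs.equivFun (φ.symm (bs 1)) 2
    have f'0 : f' = 0 := by
      have := (cc _ _ _ ((E1 φ.symm).trans (br _ _))).2.2
      simp [t0] at this
      exact this
    have u1 : bs 1 = (e' * e) • bs 1 + (0 : A) • bs 2 := by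
      conv_lhs => rw [← φ.apply_symm_apply (bs 1), co (φ.symm (bs 1)), e0', zero_smul, zero_add,
        show bs.equivFun (φ.symm (bs 1)) 2 = 0 from f'0, zero_smul, add_zero, map_smul, hye, q2, zero_smul,
        add_zero, smul_smul]
      simp
      rfl
    have ee : e' * e = 1 := by
      simpa using (cc _ _ _ u1).2.1.symm
    have eu : IsUnit e := IsUnit.of_mul_eq_one e' (by rw [mul_comm]; exact ee)
    have a1 : a = 1 := sub_eq_zero.1 (eu.mul_left_eq_zero.1 (by linear_combination -q1))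
    have g0 : g = 0 := eu.mul_left_eq_zero.1 (by linear_combination q5)
    have h0 : h = 0 := by rw [g0, a1] at q3; linear_combination -q3
    rw [g0, h0, zero_smul, zero_smul, zero_add, zero_add] at hze
    rw [q2, zero_smul, add_zero] at hye
    have iu : IsUnit i := by
      set v := φ.symm (bs 2) with hv
      have hv2 : bs 2 = φ v := (φ.apply_symm_apply (bs 2)).symm
      rw [co v, map_add, map_add, map_smul, map_smul, map_smul, hye, hze, hxe, a1] at hv2
      have h2' := congrArg (fun w => (bs.equivFun w 0, bs.equivFun w 2)) hv2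
      simp at h2'
      obtain ⟨v0, v2⟩ := h2'
      rw [← v0] at v2
      exact IsUnit.of_mul_eq_one (bs.equivFun v 2) (by rw [v2]; simp [mul_comm])
    exact ⟨b, c, e, i, eu, iu, by rw [hxe, a1, one_smul], hye, hze⟩
  · have ut : IsUnit t := (Ne.isUnit hα).map _
    have g0 : g = 0 := (key φ).2 ut
    simp only [g0, mul_zero, sub_zero] at q3 q4
    rw [g0, zero_smul, zero_add] at hze
    obtain ⟨e0', g0'⟩ := key φ.symm
    have g0' := g0' ut
    set e' := bs.equivFun (φ.symm (bs 1)) 1 with he'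
    set f' := bs.equivFun (φ.symm (bs 1)) 2 with hf'
    set h' := bs.equivFun (φ.symm (bs 2)) 1 with hh'
    set i' := bs.equivFun (φ.symm (bs 2)) 2 with hi'
    have u1 : bs 1 = (e' * e + f' * h) • bs 1 + (e' * f + f' * i) • bs 2 := by
      conv_lhs => rw [← φ.apply_symm_apply (bs 1), co (φ.symm (bs 1)), ← he', ← hf', e0', zero_smul, zero_add,
        map_add, map_smul, map_smul, hye, hze]
      module
    have u2 : bs 2 = (h' * e + i' * h) • bs 1 + (h' * f + i' * i) • bs 2 := by
      conv_lhs => rw [← φ.apply_symm_apply (bs 2), co (φ.symm (bs 2)), ← hh', ← hi', g0', zero_smul, zero_add,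
        map_add, map_smul, map_smul, hye, hze]
      module
    obtain ⟨-, v1, v2⟩ := cc _ _ _ u1
    obtain ⟨-, v3, v4⟩ := cc _ _ _ u2
    simp at v1 v2 v3 v4
    have hdet : IsUnit (e * i - f * h) := by
      refine IsUnit.of_mul_eq_one (e' * i' - f' * h') ?_
      linear_combination (h' * f + i' * i) * (-v1) - v4 + (h' * e + i' * h) * v2
    have re : (a - 1) * e = 0 := by linear_combination -q1
    have rf : (t * a - 1) * f = 0 := by linear_combination -q2
    have rh : (a - t) * h = 0 := by linear_combination -q3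
    have ri : (a - 1) * i = 0 := ut.mul_right_eq_zero.1 (by linear_combination -q4)
    refine ⟨fun hsq => ?_, fun h1 => ?_⟩
    · have u : IsUnit (t ^ 2 - 1) := by
        rw [ht, ← map_pow, ← map_one (algebraMap K A), ← map_sub]
        exact (Ne.isUnit (sub_ne_zero.2 hsq)).map _
      have fh : f * h = 0 := u.mul_right_eq_zero.1 (by linear_combination h * rf - t * f * rh)
      rw [fh, sub_zero] at hdet
      have eu := isUnit_of_mul_isUnit_left hdet
      have iu := isUnit_of_mul_isUnit_right hdet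
      have a1 : a = 1 := sub_eq_zero.1 (eu.mul_left_eq_zero.1 re)
      have t1 : IsUnit (t - 1) := by
        rw [ht, ← map_one (algebraMap K A), ← map_sub]
        exact (Ne.isUnit (sub_ne_zero.2 (fun h1 : α = 1 => hsq (by simp [h1])))).map _
      rw [a1] at rf rh
      have f0 : f = 0 := t1.mul_right_eq_zero.1 (by linear_combination rf)
      have h0 : h = 0 := t1.mul_right_eq_zero.1 (by linear_combination -rh)
      rw [f0, zero_smul, add_zero] at hye
      rw [h0, zero_smul, zero_add] at hze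
      exact ⟨b, c, e, i, eu, iu, by rw [hxe, a1, one_smul], hye, hze⟩
    · have t1 : t = 1 := by rw [ht, h1, map_one]
      rw [t1] at rf rh
      have a1 : a = 1 := sub_eq_zero.1 (hdet.mul_left_eq_zero.1 (by linear_combination i * re - h * rf))
      exact ⟨b, c, e, f, h, i, hdet, by rw [hxe, a1, one_smul], hye, hze⟩

end Groth.Agent.S13102
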