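import Groth.Statements.S13104
import Mathlib.AlgebraicGeometry.Morphisms.SchemeTheoreticallyDominant
import Mathlib.AlgebraicGeometry.AffineScheme
import Mathlib.Algebra.TrivSqZeroExt.Basic

set_option autoImplicit false
universe u
open GrpSch

namespace Groth.Agent.S13104

open CategoryTheory AlgebraicGeometry in
/-- Let B be a commutative ring, B[ε] the ring of dual numbers (ε² = 0) and B[α, β]/(α², β²) the double
dual numbers, realised as dual numbers over the dual numbers with α the inner and β the outer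
generator, and let ψ : B[ε] → B[α, β]/(α², β²) be the B-algebra homomorphism with ψ(ε) = αβ. Then
for every scheme G the map u ↦ Spec(ψ) ≫ u from morphisms Spec B[ε] → G to morphisms Spec
B[α,β]/(α²,β²) → G is injective. (The printed statement is its consequence for a group scheme G: the
map Lie(G)(B) → G(B[α,β]/(α²,β²)), x ↦ exp(αβ x), is injective; the injectivity on all B[ε]-points
stated here is what the printed argument establishes.) -/
theorem result (B : Type u) [CommRing B]
    (ψ : DualNumber B →+* DualNumber (DualNumber B))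
    (hψB : ∀ b : B, ψ (algebraMap B (DualNumber B) b) = algebraMap B (DualNumber (DualNumber B)) b)
    (hψ : ψ DualNumber.eps = algebraMap (DualNumber B) (DualNumber (DualNumber B)) DualNumber.eps * DualNumber.eps)
    (G : Scheme.{u}) :
    Function.Injective (fun u : Spec (CommRingCat.of (DualNumber B)) ⟶ G =>
      Spec.map (CommRingCat.ofHom (R := DualNumber B) (S := DualNumber (DualNumber B)) ψ) ≫ u) := by
  intro u v huv
  set φ := Spec.map (CommRingCat.ofHom (R := DualNumber B) (S := DualNumber (DualNumber B)) ψ) with hφ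
  have hinj : Function.Injective ψ := by
    intro x y hxy
    have e : ∀ z : DualNumber B, ψ z = algebraMap (DualNumber B) (DualNumber (DualNumber B)) (algebraMap B _ z.fst)
        + algebraMap (DualNumber B) (DualNumber (DualNumber B)) (algebraMap B _ z.snd * DualNumber.eps) * DualNumber.eps := by
      intro z
      have hz : z = algebraMap B (DualNumber B) z.fst + algebraMap B (DualNumber B) z.snd * DualNumber.eps := by
        ext <;> simp [TrivSqZeroExt.algebraMap_eq_inl]
      conv_lhs => rw [hz]
      rw [map_add, map_mul, hψB, hψB, hψ, map_mul, mul_assoc]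
      rfl
    rw [e, e] at hxy
    ext
    · simpa [TrivSqZeroExt.algebraMap_eq_inl] using congrArg (fun w => w.fst.fst) hxy
    · simpa [TrivSqZeroExt.algebraMap_eq_inl] using congrArg (fun w => w.snd.snd) hxy
  have hff : ∀ z : DualNumber B, (ψ z).fst.fst = z.fst := by
    intro z
    have hz : z = algebraMap B (DualNumber B) z.fst + algebraMap B (DualNumber B) z.snd * DualNumber.eps := by
      ext <;> simp [TrivSqZeroExt.algebraMap_eq_inl]
    conv_lhs => rw [hz]
    rw [map_add, map_mul, hψB, hψB, hψ]
    rw [IsScalarTower.algebraMap_apply B (DualNumber B) (DualNumber (DualNumber B))]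
    simp [TrivSqZeroExt.algebraMap_eq_inl, TrivSqZeroExt.fst_mul]
  haveI : Surjective φ := by
    constructor
    intro P
    obtain ⟨P, hP⟩ := P
    have heps : DualNumber.eps ∈ P := hP.mem_of_pow_mem 2 (by rw [pow_two, DualNumber.eps_mul_eps]; exact P.zero_mem)
    refine ⟨⟨(P.comap (algebraMap B (DualNumber B))).comap
      ((TrivSqZeroExt.fstHom B B B).toRingHom.comp (TrivSqZeroExt.fstHom (DualNumber B) (DualNumber B) (DualNumber B)).toRingHom),
      Ideal.comap_isPrime _ _⟩, ?_⟩
    refine PrimeSpectrum.ext (Ideal.ext fun z => ?_)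
    show algebraMap B (DualNumber B) ((ψ z).fst.fst) ∈ P ↔ z ∈ P
    rw [hff]
    have hz : z = algebraMap B (DualNumber B) z.fst + algebraMap B (DualNumber B) z.snd * DualNumber.eps := by
      ext <;> simp [TrivSqZeroExt.algebraMap_eq_inl]
    conv_rhs => rw [hz]
    exact (P.add_mem_iff_left (P.mul_mem_left _ heps)).symm
  haveI : IsSchemeTheoreticallyDominant φ := ⟨by
    refine Scheme.IdealSheafData.ext_of_isAffine ?_
    rw [Scheme.Hom.ker_apply, Scheme.IdealSheafData.ideal_bot, Pi.bot_apply, ← RingHom.injective_iff_ker_eq_bot]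
    intro a b hab
    have hn := Scheme.ΓSpecIso_naturality (CommRingCat.ofHom (R := DualNumber B) (S := DualNumber (DualNumber B)) ψ)
    have ha := ConcreteCategory.congr_hom hn a
    have hb := ConcreteCategory.congr_hom hn b
    apply (Scheme.ΓSpecIso (CommRingCat.of (DualNumber B))).commRingCatIsoToRingEquiv.injective
    apply hinj
    exact ha.symm.trans ((congrArg _ hab).trans hb)⟩
  -- the two morphisms agree as maps of topological spaces
  have htop : ∀ x, u x = v x := by
    intro x
    obtain ⟨y, rfl⟩ := φ.surjective x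
    exact congrArg (fun w => w y) huv
  refine Scheme.Cover.hom_ext ((Spec (CommRingCat.of (DualNumber B))).openCoverOfIsOpenCover
    (fun V : G.affineOpens => u ⁻¹ᵁ V.1) ?_) _ _ fun V => ?_
  · rw [TopologicalSpace.IsOpenCover, eq_top_iff]
    rintro x -
    obtain ⟨W, hW, hxW, -⟩ := exists_isAffineOpen_mem_and_subset (X := G) (x := u x) (U := ⊤) trivial
    exact TopologicalSpace.Opens.mem_iSup.2 ⟨⟨W, hW⟩, hxW⟩
  · show (u ⁻¹ᵁ V.1).ι ≫ u = (u ⁻¹ᵁ V.1).ι ≫ v
    have hr : ∀ w : Spec (CommRingCat.of (DualNumber B)) ⟶ G, (∀ x, u x = w x) →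
        Set.range ((u ⁻¹ᵁ V.1).ι ≫ w) ⊆ Set.range V.1.ι := by
      rintro w hw _ ⟨x, rfl⟩
      rw [Scheme.Opens.range_ι, Scheme.Hom.comp_apply, ← hw]
      exact x.2
    rw [← IsOpenImmersion.lift_fac V.1.ι _ (hr u fun _ => rfl), ← IsOpenImmersion.lift_fac V.1.ι _ (hr v htop)]
    congr 1
    haveI : IsAffine V.1.toScheme := V.2
    haveI : IsSchemeTheoreticallyDominant (φ ∣_ (u ⁻¹ᵁ V.1)) :=
      IsSchemeTheoreticallyDominant.of_isPullback (isPullback_morphismRestrict φ (u ⁻¹ᵁ V.1)).flip
    refine ext_of_isAffine (Y := V.1.toScheme) ?_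
    have e : (φ ∣_ (u ⁻¹ᵁ V.1)) ≫ IsOpenImmersion.lift V.1.ι _ (hr u fun _ => rfl) =
        (φ ∣_ (u ⁻¹ᵁ V.1)) ≫ IsOpenImmersion.lift V.1.ι _ (hr v htop) := by
      rw [← cancel_mono V.1.ι, Category.assoc, Category.assoc, IsOpenImmersion.lift_fac, IsOpenImmersion.lift_fac,
        morphismRestrict_ι_assoc, morphismRestrict_ι_assoc]
      exact congrArg (fun w => (φ ⁻¹ᵁ (u ⁻¹ᵁ V.1)).ι ≫ w) huv
    have e' := congrArg Scheme.Hom.appTop e
    rw [Scheme.Hom.comp_appTop, Scheme.Hom.comp_appTop] at e'
    ext a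
    exact (φ ∣_ (u ⁻¹ᵁ V.1)).app_injective ⊤ (ConcreteCategory.congr_hom e' a)

end Groth.Agent.S13104
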