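import Groth.Statements.S13108
import Mathlib.Algebra.BigOperators.Fin
import Mathlib.LinearAlgebra.Basis.SMul
import Mathlib.Tactic.Module
import Mathlib.Tactic.LinearCombination

set_option autoImplicit false
universe u v w
open GrpSch

namespace Groth.Agent.S13108

theorem mkEquiv (k : Type u) [Field k] {t : k}
    (L : Type v) [LieRing L] [LieAlgebra k L] (b : Module.Basis (Fin 3) k L)
    (L' : Type w) [LieRing L'] [LieAlgebra k L'] (b' : Module.Basis (Fin 3) k L')
    (h01 : ⁅b 0, b 1⁆ = b 1) (h02 : ⁅b 0, b 2⁆ = t • b 2) (h12 : ⁅b 1, b 2⁆ = 0)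
    (e : L ≃ₗ[k] L') (g01 : ⁅e (b 0), e (b 1)⁆ = e (b 1)) (g02 : ⁅e (b 0), e (b 2)⁆ = t • e (b 2))
    (g12 : ⁅e (b 1), e (b 2)⁆ = 0) : Nonempty (L ≃ₗ⁅k⁆ L') := by
  refine ⟨{ e with map_lie' := fun {x y} => ?_ }⟩
  show e ⁅x, y⁆ = ⁅e x, e y⁆
  have h10 : ⁅b 1, b 0⁆ = -b 1 := by rw [← lie_skew, h01]
  have h20 : ⁅b 2, b 0⁆ = -(t • b 2) := by rw [← lie_skew, h02]
  have h21 : ⁅b 2, b 1⁆ = 0 := by rw [← lie_skew, h12, neg_zero]
  have g10 : ⁅e (b 1), e (b 0)⁆ = -e (b 1) := by rw [← lie_skew, g01]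
  have g20 : ⁅e (b 2), e (b 0)⁆ = -(t • e (b 2)) := by rw [← lie_skew, g02]
  have g21 : ⁅e (b 2), e (b 1)⁆ = 0 := by rw [← lie_skew, g12, neg_zero]
  rw [← b.sum_equivFun x, ← b.sum_equivFun y]
  simp only [Fin.sum_univ_three, lie_add, add_lie, lie_smul, smul_lie, lie_self, map_add, map_smul,
    h01, h02, h12, h10, h20, h21, g01, g02, g12, g10, g20, g21, map_neg, map_zero, smul_zero]


/-- Let k be a field and t, t' ∈ k both non-zero; let L be a Lie algebra over k with a basis x = b 0, y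
= b 1, z = b 2 and brackets [x,y] = y, [x,z] = t z, [y,z] = 0, and L' a Lie algebra over k with a
basis x' = b' 0, y' = b' 1, z' = b' 2 and brackets [x',y'] = y', [x',z'] = t' z', [y',z'] = 0. Then
L and L' are isomorphic Lie algebras over k if and only if t' = t or t' = t⁻¹. -/
theorem result (k : Type u) [Field k] (t t' : k) (ht : t ≠ 0) (ht' : t' ≠ 0)
    (L : Type v) [LieRing L] [LieAlgebra k L] (b : Module.Basis (Fin 3) k L)
    (h01 : ⁅b 0, b 1⁆ = b 1) (h02 : ⁅b 0, b 2⁆ = t • b 2) (h12 : ⁅b 1, b 2⁆ = 0)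
    (L' : Type w) [LieRing L'] [LieAlgebra k L'] (b' : Module.Basis (Fin 3) k L')
    (h01' : ⁅b' 0, b' 1⁆ = b' 1) (h02' : ⁅b' 0, b' 2⁆ = t' • b' 2) (h12' : ⁅b' 1, b' 2⁆ = 0) :
    Nonempty (L ≃ₗ⁅k⁆ L') ↔ (t' = t ∨ t' = t⁻¹) := by
  have co : ∀ v : L', v = b'.equivFun v 0 • b' 0 + b'.equivFun v 1 • b' 1 + b'.equivFun v 2 • b' 2 := by
    intro v
    have h' := b'.sum_equivFun v
    rw [Fin.sum_univ_three] at h'
    exact h'.symm
  have h10' : ⁅b' 1, b' 0⁆ = -b' 1 := by rw [← lie_skew, h01']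
  have h20' : ⁅b' 2, b' 0⁆ = -(t' • b' 2) := by rw [← lie_skew, h02']
  have h21' : ⁅b' 2, b' 1⁆ = 0 := by rw [← lie_skew, h12', neg_zero]
  constructor
  · rintro ⟨φ⟩
    have br : ∀ v w : L', ⁅v, w⁆ =
        (b'.equivFun v 0 * b'.equivFun w 1 - b'.equivFun v 1 * b'.equivFun w 0) • b' 1 +
        (t' * (b'.equivFun v 0 * b'.equivFun w 2 - b'.equivFun v 2 * b'.equivFun w 0)) • b' 2 := by
      intro v w
      conv_lhs => rw [co v, co w]
      simp only [lie_add, add_lie, lie_smul, smul_lie, lie_self, h01', h10', h02', h20', h12', h21']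
      module
    have cc : ∀ (v : L') (p q : k), v = p • b' 1 + q • b' 2 →
        b'.equivFun v 0 = 0 ∧ b'.equivFun v 1 = p ∧ b'.equivFun v 2 = q := by
      intro v p q hv
      subst hv
      simp
    have e1 : φ (b 1) = ⁅φ (b 0), φ (b 1)⁆ := by rw [← LieEquiv.map_lie, h01]
    have e2 : t • φ (b 2) = ⁅φ (b 0), φ (b 2)⁆ := by rw [← LieEquiv.map_lie, h02, map_smul]
    obtain ⟨p0, p1, p2⟩ := cc _ _ _ (e1.trans (br _ _))
    obtain ⟨r0, r1, r2⟩ := cc _ _ _ (e2.trans (br _ _))
    simp only [map_smul, Pi.smul_apply, smul_eq_mul, mul_eq_zero, ht, false_or] at r0 r1 r2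
    set a := b'.equivFun (φ (b 0)) 0
    set e := b'.equivFun (φ (b 1)) 1 with he
    set f := b'.equivFun (φ (b 1)) 2 with hf
    set h := b'.equivFun (φ (b 2)) 1 with hh
    set i := b'.equivFun (φ (b 2)) 2 with hi
    simp only [p0, r0, mul_zero, sub_zero] at p1 p2 r1 r2
    have hne : e * i - f * h ≠ 0 := by
      intro hz
      have key : ∀ (p q : k), p * e + q * h = 0 → p * f + q * i = 0 → p = 0 ∧ q = 0 := by
        intro p q hp hq
        have h0 : φ (p • b 1 + q • b 2) = 0 := by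
          rw [map_add, map_smul, map_smul, co (φ (b 1)), co (φ (b 2)), p0, r0, ← he, ← hf, ← hh, ← hi]
          have : (p * e + q * h) • b' 1 + (p * f + q * i) • b' 2 = 0 := by rw [hp, hq]; simp
          rw [← this]; module
        have h1 : p • b 1 + q • b 2 = 0 := (show Function.Injective φ from φ.injective) (by rw [h0, map_zero])
        have h2 := congrArg (fun w => (b.equivFun w 1, b.equivFun w 2)) h1
        simpa using h2
      obtain ⟨-, k1⟩ := key i (-f) (by linear_combination hz) (by ring)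
      obtain ⟨-, k2⟩ := key h (-e) (by ring) (by linear_combination -hz)
      obtain ⟨k3, -⟩ := key i (-f) (by linear_combination hz) (by ring)
      obtain ⟨k4, -⟩ := key h (-e) (by ring) (by linear_combination -hz)
      obtain ⟨k5, -⟩ := key 1 0 (by simpa using neg_eq_zero.1 k2) (by simpa using neg_eq_zero.1 k1)
      exact one_ne_zero k5
    by_cases hei : e * i = 0
    · right
      have hfh : f * h ≠ 0 := by intro h'; exact hne (by rw [hei, h', sub_zero])
      have h0 := mul_ne_zero_iff.1 hfh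
      have ha : t = a := mul_right_cancel₀ h0.2 (by linear_combination r1)
      have : t' * t = 1 := mul_right_cancel₀ h0.1 (by rw [ha]; linear_combination -p2)
      exact eq_inv_of_mul_eq_one_left this
    · left
      have h0 := mul_ne_zero_iff.1 hei
      have ha : a = 1 := mul_right_cancel₀ h0.1 (by linear_combination -p1)
      rw [ha] at r2
      exact mul_right_cancel₀ h0.2 (by linear_combination -r2)
  · rintro (rfl | rfl)
    · exact mkEquiv k L b L' b' h01 h02 h12 (b.equiv b' (Equiv.refl _)) (by simp [h01']) (by simp [h02']) (by simp [h12'])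
    · exact mkEquiv k L b L' b' h01 h02 h12
        ((b.equiv b' (Equiv.swap 1 2)).trans
          (b'.equiv (b'.unitsSMul ![Units.mk0 t ht, 1, 1]) (Equiv.refl _)))
        (by simp [Equiv.swap_apply_def, Module.Basis.unitsSMul_apply, h02', smul_smul, ht])
        (by simp [Equiv.swap_apply_def, Module.Basis.unitsSMul_apply, h01', smul_smul, ht])
        (by simp [Equiv.swap_apply_def, Module.Basis.unitsSMul_apply, h21'])

end Groth.Agent.S13108
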