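import Groth.Statements.S13110
import Groth.Agent.Lib.Seminormal26.VaryDVR
import Groth.Agent.Lib.Seminormal26.Ring
-- import your own Groth.Agent.* helpers here

set_option autoImplicit false
universe u
open HTop

namespace Groth.Agent.S13110

open AlgebraicGeometry W4c1hilbchowinc in
/-- Let A be a reduced Noetherian ring, integrally closed inside its total ring of fractions
(equivalently, a finite product of integrally closed Noetherian domains). Then a pointwise function
on Spec A — one element of the residue field κ(y) for every point y — which varies algebraically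
along discrete valuation rings (for every discrete valuation ring R and every morphism Spec R → Spec
A there is an element of R whose values at the two points of Spec R are the images of the chosen
values) is the family of values of exactly one global section. Reducedness is part of the meaning of
integrally closed here; test rings range over the universe of A. -/
theorem result
    (A : Type u) [CommRing A] [IsReduced A] [IsNoetherianRing A] [IsIntegrallyClosed A]
    (f : PtFun (Spec (CommRingCat.of A))) (hf : f.VariesAlongDVR) :
    ∃! a : Γ(Spec (CommRingCat.of A), ⊤), PtFun.ofSection (Spec (CommRingCat.of A)) a = f := by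
  classical
  have hA : HTop.IsSeminormalRing A := by
    intro x y hxy
    suffices h : ∃ a, x = a ^ 2 ∧ y = a ^ 3 by
      obtain ⟨a, ha⟩ := h
      exact ⟨a, ha, fun b hb => Groth.Agent.SN26.ext_sq_cube (hb.1.symm.trans ha.1) (hb.2.symm.trans ha.2)⟩
    have hfin : (minimalPrimes A).Finite := minimalPrimes.finite_of_isNoetherianRing A
    let M := hfin.toFinset
    have hMp : ∀ P ∈ M, P.IsPrime := fun P hP => Ideal.minimalPrimes_isPrime ((hfin.mem_toFinset).mp hP)
    have hzero : ∀ c : A, (∀ P ∈ M, c ∈ P) → c = 0 := fun c hc => by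
      have : c ∈ sInf (minimalPrimes A) := Ideal.mem_sInf.mpr fun {P} hP => hc P ((hfin.mem_toFinset).mpr hP)
      rw [show minimalPrimes A = (⊥ : Ideal A).minimalPrimes from rfl, Ideal.sInf_minimalPrimes] at this
      exact (show IsNilpotent c from mem_nilradical.mp this).eq_zero
    obtain ⟨e, he, hne⟩ : ∃ e, (∀ P ∈ M, x ∉ P → e ∈ P) ∧ ∀ P ∈ M, x ∈ P → e ∉ P := by
      let I : Ideal A := (M.filter fun P => x ∉ P).inf id
      by_contra hcon
      simp only [not_exists, not_and, not_forall, not_not] at hcon
      have hsub : (I : Set A) ⊆ ⋃ P ∈ (M.filter fun P => x ∈ P : Finset (Ideal A)), ((id P : Ideal A) : Set A) := by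
        intro e he
        obtain ⟨P, hP, hxP, heP⟩ := hcon e fun P hP hxP => (Submodule.mem_finsetInf.mp he) P (Finset.mem_filter.mpr ⟨hP, hxP⟩)
        exact Set.mem_biUnion (Finset.mem_filter.mpr ⟨hP, hxP⟩) heP
      obtain ⟨P, hP, hle⟩ := (Ideal.subset_union_prime ⊥ ⊥ fun P hP _ _ => hMp P (Finset.mem_filter.mp hP).1).mp hsub
      obtain ⟨hPM, hxP⟩ := Finset.mem_filter.mp hP
      have := hMp P hPM
      obtain ⟨Q, hQ, hQP⟩ := (Ideal.IsPrime.inf_le' this).mp hle
      obtain ⟨hQM, hxQ⟩ := Finset.mem_filter.mp hQ
      exact hxQ (((hfin.mem_toFinset).mp hPM).2 ⟨hMp Q hQM, bot_le⟩ hQP hxP)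
    have hy : ∀ P ∈ M, x ∈ P → y ∈ P := fun P hP hx => (hMp P hP).mem_of_pow_mem 2 (by
      rw [← hxy]; exact P.pow_mem_of_mem hx 3 (by norm_num))
    have hxe : x * e = 0 := hzero _ fun P hP => by
      by_cases hx : x ∈ P
      · exact P.mul_mem_right _ hx
      · exact P.mul_mem_left _ (he P hP hx)
    have hye : y * e = 0 := hzero _ fun P hP => by
      by_cases hx : x ∈ P
      · exact P.mul_mem_right _ (hy P hP hx)
      · exact P.mul_mem_left _ (he P hP hx)
    have hd : x + e ∈ nonZeroDivisors A := by
      rw [mem_nonZeroDivisors_iff_right]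
      intro c hc
      refine hzero c fun P hP => ((hMp P hP).mem_or_mem (show c * (x + e) ∈ P from hc ▸ P.zero_mem)).resolve_right fun h => ?_
      by_cases hx : x ∈ P
      · exact hne P hP hx (by simpa using P.sub_mem h hx)
      · exact hx (by simpa using P.sub_mem h (he P hP hx))
    let K := FractionRing A
    let z : K := IsLocalization.mk' K y ⟨x + e, hd⟩
    have hz2 : z ^ 2 = algebraMap A K x := by
      rw [← IsLocalization.mk'_pow, IsLocalization.mk'_eq_iff_eq_mul, ← map_mul]
      congr 1
      simp only [SubmonoidClass.coe_pow]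
      linear_combination (-1 : A) * hxy - (2 * x + e) * hxe
    obtain ⟨a, ha⟩ := IsIntegrallyClosed.algebraMap_eq_of_integral (R := A) (x := z)
      (IsIntegral.of_pow two_pos (hz2 ▸ isIntegral_algebraMap))
    refine ⟨a, IsFractionRing.injective A K (by rw [map_pow, ha, hz2]), IsFractionRing.injective A K ?_⟩
    rw [map_pow, ha, ← IsLocalization.mk'_pow, eq_comm, IsLocalization.mk'_eq_iff_eq_mul, ← map_mul]
    congr 1
    simp only [SubmonoidClass.coe_pow]
    linear_combination (-y) * hxy - (3 * x ^ 2 + 3 * x * e + e ^ 2) * hye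
  have hf' : f.VariesAlongCompleteDVR := fun R _ _ _ _ g => hf R g
  exact Groth.Agent.SN26.existsUnique_of_variesAlongCompleteDVR A hA f hf'

end Groth.Agent.S13110
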