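import Groth.Statements.S13111
import Groth.Agent.Lib.Seminormal26.Values
-- import your own Groth.Agent.* helpers here

set_option autoImplicit false
universe u
open HTop

namespace Groth.Agent.S13111

open AlgebraicGeometry W4c1hilbchowinc in
/-- Let A be a reduced Noetherian ring whose integral closure in its total ring of fractions is a finite
A-module. Suppose that any pointwise function on Spec A that is algebraic along every discrete
valuation ring (for every discrete valuation ring R and every morphism Spec R → Spec A there is an
element of R whose values at the two points of Spec R are the images of the chosen values) is the
family of values of exactly one global section. Then A is seminormal: whenever x^3 = y^2 there is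
exactly one a with x = a^2 and y = a^3. Test rings range over the universe of A. -/
theorem result
    (A : Type u) [CommRing A] [IsReduced A] [IsNoetherianRing A]
    (hfin : Module.Finite A (integralClosure A (FractionRing A)))
    (h : ∀ f : PtFun (Spec (CommRingCat.of A)), f.VariesAlongDVR →
      ∃! a : Γ(Spec (CommRingCat.of A), ⊤), PtFun.ofSection (Spec (CommRingCat.of A)) a = f) :
    HTop.IsSeminormalRing A := by
  exact SN26.sn_of_ptFun A fun f hf => (h f hf).exists

end Groth.Agent.S13111
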