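import Groth.Statements.S13114
import Mathlib.Tactic
import Mathlib.RingTheory.MvPolynomial.Basic
import Mathlib.RingTheory.Ideal.Quotient.Operations
import Mathlib.LinearAlgebra.Basis.Basic
import Mathlib.Data.Matrix.Mul
import Mathlib.NumberTheory.Bernoulli
import Mathlib.RingTheory.PowerSeries.Inverse
import Mathlib.RingTheory.AdicCompletion.Basic
import Mathlib.LinearAlgebra.Matrix.Charpoly.Coeff
import Mathlib.Algebra.Polynomial.Expand
import Mathlib.NumberTheory.Padics.PadicVal.Basic
import Mathlib.RingTheory.IntegralClosure.IsIntegralClosure.Basic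
import Mathlib.GroupTheory.Torsion
import Mathlib.Algebra.MonoidAlgebra.Basic
import Mathlib.RingTheory.Norm.Basic
import Mathlib.LinearAlgebra.Eigenspace.Zero
import Mathlib.RingTheory.LocalRing.ResidueField.Basic
import Mathlib.RingTheory.Artinian.Module
import Mathlib.FieldTheory.IsAlgClosed.Basic
import Mathlib.RingTheory.Ideal.AssociatedPrime.Basic
import Mathlib.RingTheory.Ideal.MinimalPrime.Noetherian
import Mathlib.RingTheory.RegularLocalRing.Defs
import Mathlib.RingTheory.Ideal.KrullsHeightTheorem
import Mathlib.RingTheory.Nakayama

set_option autoImplicit false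
universe u
open HilbChow

namespace Groth.Agent.S13114

/-- Let k be an algebraically closed field, A a commutative local k-algebra of finite dimension n over k
and u a unit of A. Then the determinant of multiplication by u on the k-vector space A, mapped to
the residue field of A, equals the n-th power of the residue class of u. -/
theorem result
    (k A : Type u) [Field k] [IsAlgClosed k] [CommRing A] [Algebra k A] [IsLocalRing A]
    [Module.Finite k A] (u : Aˣ) :
    algebraMap k (IsLocalRing.ResidueField A) (Algebra.norm k (u : A)) =
      IsLocalRing.residue A (u : A) ^ Module.finrank k A := by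
  classical
  have : IsArtinianRing A := IsArtinianRing.of_finite k A
  have : Algebra.IsIntegral k (IsLocalRing.ResidueField A) := Algebra.IsIntegral.of_surjective (IsScalarTower.toAlgHom k A (IsLocalRing.ResidueField A)) IsLocalRing.residue_surjective
  obtain ⟨c, hc⟩ := (IsAlgClosed.algebraMap_bijective_of_isIntegral (k := k) (K := IsLocalRing.ResidueField A)).2 (IsLocalRing.residue A (u : A))
  have hnil : IsNilpotent ((algebraMap k A c) - (u : A)) := by
    have hmem : (algebraMap k A c) - (u : A) ∈ IsLocalRing.maximalIdeal A := by
      rw [← IsLocalRing.residue_eq_zero_iff, map_sub, ← hc, sub_eq_zero]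
      rfl
    obtain ⟨N, hN⟩ := IsArtinianRing.isNilpotent_jacobson_bot (R := A)
    refine ⟨N, ?_⟩
    rw [← IsLocalRing.jacobson_eq_maximalIdeal ⊥ (by simp)] at hmem
    have := Ideal.pow_mem_pow hmem N
    rwa [hN] at this
  have hN : Algebra.norm k (u : A) = c ^ Module.finrank k A := by
    rw [Algebra.norm_apply]
    have h1 := IsNilpotent.charpoly_eq_X_pow_finrank (hnil.map (Algebra.lmul k A))
    have h2 := congrArg (Polynomial.eval c) h1
    rw [LinearMap.eval_charpoly, Polynomial.eval_pow, Polynomial.eval_X] at h2
    rw [← h2]
    congr 1
    ext x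
    simp [sub_mul, Algebra.smul_def]
  rw [hN, map_pow, hc]

end Groth.Agent.S13114
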