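import Groth.Statements.S13115
import Mathlib

set_option autoImplicit false
universe u
open scoped TensorProduct
open HilbChow

namespace Groth.Agent.S13115
open Finset TensorProduct

/-- Let k be an infinite field, V a k-vector space and m a natural number. Then every symmetric tensor
in the m-fold tensor power of V — one fixed by every permutation of the factors — is a k-linear
combination of pure powers v ⊗ ⋯ ⊗ v with v in V. (The published statement concerns the ring of
functions of an affine scheme over an infinite field, where it gives the uniqueness of the algebra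
map defining the Hilbert-to-Chow morphism for zero-cycles; this row states it for any vector space.) -/
theorem result
    (k V : Type u) [Field k] [Infinite k] [AddCommGroup V] [Module k V] (m : ℕ)
    (x : ⨂[k] _ : Fin m, V)
    (hx : ∀ σ : Equiv.Perm (Fin m), PiTensorProduct.reindex k (fun _ : Fin m => V) σ x = x) :
    x ∈ Submodule.span k (Set.range fun v : V => PiTensorProduct.tprod k (fun _ : Fin m => v)) := by
  classical
  by_contra hnot
  obtain ⟨lam, hlx, hlW⟩ := Submodule.exists_dual_map_eq_bot_of_notMem hnot inferInstance
  refine hlx ?_
  have hl0 : ∀ v : V, lam (PiTensorProduct.tprod k (fun _ : Fin m => v)) = 0 := fun v => by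
    have := Submodule.mem_map_of_mem (f := lam) (Submodule.subset_span (R := k) (Set.mem_range_self (f := fun v : V => PiTensorProduct.tprod k (fun _ : Fin m => v)) v))
    rwa [hlW, Submodule.mem_bot] at this
  let e := Module.Free.chooseBasis k V
  let T := Basis.piTensorProduct (fun _ : Fin m => e)
  set c := T.repr x
  have hsym : ∀ (σ : Equiv.Perm (Fin m)) f, c (f ∘ σ) = c f := by
    intro σ f
    have hcomp : (PiTensorProduct.reindex k (fun _ : Fin m => V) σ) x = x := hx σ
    have key : ∀ y, T.repr (PiTensorProduct.reindex k (fun _ : Fin m => V) σ y) f = T.repr y (f ∘ σ) := by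
      have : (Finsupp.lapply f) ∘ₗ T.repr.toLinearMap ∘ₗ (PiTensorProduct.reindex k (fun _ : Fin m => V) σ).toLinearMap =
          (Finsupp.lapply (f ∘ σ)) ∘ₗ T.repr.toLinearMap := T.ext fun g => by
        simp only [LinearMap.comp_apply, LinearEquiv.coe_coe, Finsupp.lapply_apply, T.repr_self]
        rw [Basis.piTensorProduct_apply, PiTensorProduct.reindex_tprod,
          show (PiTensorProduct.tprod k) (fun i => e (g (σ.symm i))) = T (g ∘ σ.symm) from (Basis.piTensorProduct_apply _ _).symm,
          T.repr_self, Finsupp.single_apply, Finsupp.single_apply]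
        congr 1
        rw [eq_iff_iff]
        constructor
        · intro h; rw [← h]; funext i; simp
        · intro h; rw [h]; funext i; simp
      exact fun y => LinearMap.congr_fun this y
    have := key x
    rw [hcomp] at this
    exact this.symm
  let key : (Fin m → Module.Free.ChooseBasisIndex k V) → (Module.Free.ChooseBasisIndex k V →₀ ℕ) := fun f => ∑ l, Finsupp.single (f l) 1
  let J := c.support.biUnion fun f => univ.image f
  let F := Fintype.piFinset fun _ : Fin m => J
  have hsub : c.support ⊆ F := fun f hf => Fintype.mem_piFinset.2 fun l => mem_biUnion.2 ⟨f, hf, mem_image_of_mem _ (mem_univ _)⟩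
  let p : MvPolynomial (Module.Free.ChooseBasisIndex k V) k := ∑ f ∈ F, MvPolynomial.monomial (key f) (lam (T f))
  have hp : p = 0 := MvPolynomial.funext fun t => by
    rw [map_zero, ← hl0 (∑ i ∈ J, t i • e i), MultilinearMap.map_sum_finset (PiTensorProduct.tprod k) (fun _ i => t i • e i) (fun _ => J), map_sum, map_sum]
    refine sum_congr rfl fun f _ => ?_
    rw [MultilinearMap.map_smul_univ, map_smul, MvPolynomial.eval_monomial, smul_eq_mul, mul_comm (∏ i, t (f i))]
    congr 1
    · simp [T]
    · rw [← Finsupp.prod_finsetSum_index (h := fun n e => t n ^ e) (fun _ => pow_zero _) (fun _ _ _ => pow_add _ _ _)]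
      exact prod_congr rfl fun l _ => by simp
  have horb : ∀ α, ∑ f ∈ F.filter (fun f => key f = α), lam (T f) = 0 := fun α => by
    have h := congrArg (MvPolynomial.coeff α) hp
    simp only [p, MvPolynomial.coeff_sum, MvPolynomial.coeff_monomial, MvPolynomial.coeff_zero] at h
    rw [sum_filter]; exact h
  have hkey : ∀ f g, key f = key g → c f = c g := by
    intro f g hfg
    have hcard : ∀ i, Fintype.card {l // f l = i} = Fintype.card {l // g l = i} := fun i => by
      have := DFunLike.congr_fun hfg i
      simpa [key, Finsupp.finsetSum_apply, Finsupp.single_apply, Fintype.card_subtype, Finset.sum_boole] using this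
    let σ : Equiv.Perm (Fin m) := Equiv.ofFiberEquiv fun i => Fintype.equivOfCardEq (hcard i)
    have : f = g ∘ σ := funext fun l => (Equiv.ofFiberEquiv_map _ l).symm
    rw [this, hsym]
  calc lam x = lam (∑ f ∈ F, c f • T f) := by
        congr 1
        conv_lhs => rw [← T.linearCombination_repr x, Finsupp.linearCombination_apply, Finsupp.sum]
        refine sum_subset hsub fun f _ hf => ?_
        rw [Finsupp.notMem_support_iff.1 hf, zero_smul]
    _ = ∑ α ∈ F.image key, ∑ f ∈ F.filter (fun f => key f = α), c f * lam (T f) := by
        rw [sum_fiberwise_of_maps_to fun f hf => mem_image_of_mem key hf]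
        simp [map_sum]
    _ = 0 := sum_eq_zero fun α hα => by
        obtain ⟨f₀, -, rfl⟩ := mem_image.1 hα
        rw [sum_congr rfl (fun f hf => by rw [hkey f f₀ (mem_filter.1 hf).2]), ← mul_sum, horb, mul_zero]

end Groth.Agent.S13115
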