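import Groth.Statements.S13116
import Groth.Agent.Lib.PicAff14.Basic
import Groth.Agent.Lib.Hens.Semilocal

set_option autoImplicit false
universe u
open HilbChow

namespace Groth.Agent.S13116

open CategoryTheory CategoryTheory.Limits AlgebraicGeometry in
/-- Let k be a field, X an integral scheme smooth over k that is a closed subscheme of a projective
space over k, R a discrete valuation ring containing k, Z a subscheme of X ×_k Spec R which is
finite over Spec R, and L an invertible module on X. Then the pullback of L to Z along Z → X ×_k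
Spec R → X is isomorphic to the structure sheaf of Z (an isomorphism exists; none is singled out). -/
theorem result
    {k : Type u} [Field k] {X : Scheme.{u}} (sX : X ⟶ Spec (CommRingCat.of k))
    [IsIntegral X] [Smooth sX] (hproj : RelProj.IsHProjective sX)
    (R : Type u) [CommRing R] [IsDomain R] [IsDiscreteValuationRing R] [Algebra k R]
    {Z : Scheme.{u}}
    (i : Z ⟶ pullback sX (Spec.map (CommRingCat.ofHom (algebraMap k R)))) [IsImmersion i]
    [IsFinite (i ≫ pullback.snd sX (Spec.map (CommRingCat.ofHom (algebraMap k R))))]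
    (L : X.Modules) (hL : PicF.IsInvertible L) :
    Nonempty ((Scheme.Modules.pullback
        (i ≫ pullback.fst sX (Spec.map (CommRingCat.ofHom (algebraMap k R))))).obj L ≅
      Coh.structureModule Z) := by
  let g : Spec (CommRingCat.of R) ⟶ Spec (CommRingCat.of k) := Spec.map (CommRingCat.ofHom (algebraMap k R))
  let f : Z ⟶ Spec (CommRingCat.of R) := i ≫ pullback.snd sX g
  haveI : IsFinite f := ‹IsFinite (i ≫ pullback.snd sX g)›
  haveI : IsAffine Z := isAffine_of_isAffineHom f
  haveI : IsLocalRing Γ(Spec (CommRingCat.of R), ⊤) :=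
    ((Scheme.ΓSpecIso (CommRingCat.of R)).commRingCatIsoToRingEquiv).symm.isLocalRing
  letI : Algebra Γ(Spec (CommRingCat.of R), ⊤) Γ(Z, ⊤) := f.appTop.hom.toAlgebra
  haveI : Module.Finite Γ(Spec (CommRingCat.of R), ⊤) Γ(Z, ⊤) := f.finite_appTop
  haveI : Finite (MaximalSpectrum Γ(Z, ⊤)) :=
    Groth.Agent.Hens.finite_maximalSpectrum (A := Γ(Spec (CommRingCat.of R), ⊤))
  let p := i ≫ pullback.fst sX g
  let L' := (Scheme.Modules.pullback Z.isoSpec.inv).obj ((Scheme.Modules.pullback p).obj L)
  obtain ⟨P, hP, ⟨e⟩⟩ := Groth.Agent.PicAff14.exists_invertible_tilde (L := L')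
    (Groth.Agent.Twist.isInvertible_pullback _ (Groth.Agent.Twist.isInvertible_pullback p hL))
  haveI := hP
  obtain ⟨d⟩ := (Module.Invertible.free_iff_linearEquiv (R := Γ(Z, ⊤)) (M := P)).1 inferInstance
  let e' : L' ≅ Coh.structureModule _ :=
    e ≪≫ Groth.Agent.PicAff14.tildeIsoOfEquiv (M := P) (N := ModuleCat.of _ Γ(Z, ⊤)) d ≪≫ tildeSelf
  exact ⟨((Scheme.Modules.pullbackId Z).app _).symm ≪≫
    (Scheme.Modules.pullbackCongr Z.isoSpec.hom_inv_id.symm).app _ ≪≫
    ((Scheme.Modules.pullbackComp Z.isoSpec.hom Z.isoSpec.inv).app _).symm ≪≫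
    (Scheme.Modules.pullback Z.isoSpec.hom).mapIso e' ≪≫ Groth.Agent.Twist.pullbackUnitIso Z.isoSpec.hom⟩

end Groth.Agent.S13116
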