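import Groth.Statements.S13117
import Mathlib

set_option autoImplicit false
universe u
open HilbChow

namespace Groth.Agent.S13117
open Finset TensorProduct

/-- Let k be an algebraically closed field, A a finite-dimensional commutative k-algebra (the coordinate
ring of a zero-dimensional subscheme Z of length dim_k A) and f ∈ A. Then the determinant of
multiplication by f on A is the product over the points x of Z — the k-algebra homomorphisms A → k —
of the value f(x) raised to the length of the local ring of Z at x, that length being the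
k-dimension of the localisation of A at the corresponding maximal ideal. This is the formula by
which the Hilbert-to-Chow morphism for zero-cycles sends Z to its fundamental cycle Σ ℓ(O_{Z,x})[x]. -/
theorem result
    (k A : Type u) [Field k] [IsAlgClosed k] [CommRing A] [Algebra k A] [Module.Finite k A] (f : A) :
    Algebra.norm k f =
      ∏ᶠ φ : A →ₐ[k] k, φ f ^ Module.finrank k (Localization.AtPrime (Ideal.comap φ ⊥)) := by
  classical
  haveI : IsArtinianRing A := IsArtinianRing.of_finite k A
  haveI : Fintype (MaximalSpectrum A) := Fintype.ofFinite _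
  haveI : ∀ I : MaximalSpectrum A, I.asIdeal.IsPrime := fun I => I.isMaximal.isPrime
  letI : LinearOrder (MaximalSpectrum A) := LinearOrder.lift' (Fintype.equivFin _) (Equiv.injective _)
  let Q := MaximalSpectrum.toPiLocalizationEquiv A
  haveI hfin : ∀ I : MaximalSpectrum A, Module.Finite k (Localization.AtPrime I.asIdeal) := fun I =>
    Module.Finite.of_surjective ((LinearMap.proj I : MaximalSpectrum.PiLocalization A →ₗ[A] _).comp Q.toLinearMap |>.restrictScalars k)
      ((Function.surjective_eval I).comp Q.surjective)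
  let φs : MaximalSpectrum A → (A →ₐ[k] k) := fun I =>
    ((AlgEquiv.ofBijective (Algebra.ofId k (A ⧸ I.asIdeal)) IsAlgClosed.algebraMap_bijective_of_isIntegral).symm.toAlgHom).comp (Ideal.Quotient.mkₐ k I.asIdeal)
  have hker : ∀ I, Ideal.comap (φs I) (⊥ : Ideal k) = I.asIdeal := fun I => by
    ext a
    rw [Ideal.mem_comap, Ideal.mem_bot]
    simp [φs, Ideal.Quotient.eq_zero_iff_mem]
  have hsurj : ∀ φ : A →ₐ[k] k, ∃ I, φs I = φ := fun φ => by
    have hmax : (Ideal.comap φ (⊥ : Ideal k)).IsMaximal := RingHom.ker_isMaximal_of_surjective φ.toRingHom (fun c => ⟨algebraMap k A c, φ.commutes c⟩)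
    refine ⟨⟨Ideal.comap φ (⊥ : Ideal k), hmax⟩, AlgHom.ext fun a => ?_⟩
    have h1 : a - algebraMap k A (φ a) ∈ Ideal.comap (φs ⟨Ideal.comap φ (⊥ : Ideal k), hmax⟩) (⊥ : Ideal k) := by
      rw [hker, Ideal.mem_comap, Ideal.mem_bot, map_sub, AlgHom.commutes]; exact sub_self _
    rw [Ideal.mem_comap, Ideal.mem_bot, map_sub, AlgHom.commutes, sub_eq_zero] at h1
    exact h1
  have hinj : Function.Injective φs := fun I J h => MaximalSpectrum.ext (by rw [← hker, ← hker, h])
  let Φ : MaximalSpectrum A ≃ (A →ₐ[k] k) := Equiv.ofBijective φs ⟨hinj, hsurj⟩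
  haveI : Fintype (A →ₐ[k] k) := Fintype.ofEquiv _ Φ
  rw [finprod_eq_prod_of_fintype, ← Φ.prod_comp]
  let B := Pi.basis fun I : MaximalSpectrum A => Module.Free.chooseBasis k (Localization.AtPrime I.asIdeal)
  rw [Algebra.norm_apply, show Algebra.lmul k A f = LinearMap.mul k A f from rfl, ← LinearMap.det_conj (LinearMap.mul k A f) (Q.toLinearEquiv.restrictScalars k)]
  have hmul : ((Q.toLinearEquiv.restrictScalars k) : A →ₗ[k] _) ∘ₗ LinearMap.mul k A f ∘ₗ ((Q.toLinearEquiv.restrictScalars k).symm : _ →ₗ[k] A) =
      LinearMap.pi fun I : MaximalSpectrum A => (LinearMap.mulLeft k (algebraMap A (Localization.AtPrime I.asIdeal) f)) ∘ₗ LinearMap.proj I := by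
    refine LinearMap.ext fun z => funext fun I => ?_
    show Q (f * Q.symm z) I = algebraMap A _ f * z I
    rw [map_mul, Q.apply_symm_apply]; rfl
  rw [hmul, ← LinearMap.det_toMatrix B]
  have hblock : LinearMap.toMatrix B B (LinearMap.pi fun I : MaximalSpectrum A => (LinearMap.mulLeft k (algebraMap A (Localization.AtPrime I.asIdeal) f)) ∘ₗ LinearMap.proj I) =
      Matrix.blockDiagonal' fun I : MaximalSpectrum A => LinearMap.toMatrix (Module.Free.chooseBasis k _) (Module.Free.chooseBasis k _) (LinearMap.mulLeft k (algebraMap A (Localization.AtPrime I.asIdeal) f)) := by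
    ext ⟨I, a⟩ ⟨J, b⟩
    rcases eq_or_ne I J with rfl | hIJ
    · simp [B, LinearMap.toMatrix_apply, Matrix.blockDiagonal'_apply_eq, Pi.basis_repr, Pi.basis_apply, Algebra.leftMulMatrix_eq_repr_mul]
    · simp [B, LinearMap.toMatrix_apply, Matrix.blockDiagonal'_apply_ne _ _ _ hIJ, Pi.basis_repr, Pi.basis_apply, Pi.single_eq_of_ne hIJ]
  rw [hblock]
  rw [(Matrix.blockTriangular_blockDiagonal' _).det_fintype]
  refine Fintype.prod_congr _ _ fun I => ?_
  rw [← Matrix.det_submatrix_equiv_self (Equiv.sigmaSubtype I).symm]
  refine Eq.trans (congrArg Matrix.det (?_ : _ = LinearMap.toMatrix (Module.Free.chooseBasis k _) (Module.Free.chooseBasis k _) (LinearMap.mulLeft k (algebraMap A (Localization.AtPrime I.asIdeal) f)))) ?_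
  · ext a b
    exact Matrix.blockDiagonal'_apply_eq (fun J : MaximalSpectrum A => LinearMap.toMatrix (Module.Free.chooseBasis k _) (Module.Free.chooseBasis k _) (LinearMap.mulLeft k (algebraMap A (Localization.AtPrime J.asIdeal) f))) I a b
  rw [LinearMap.det_toMatrix]
  show LinearMap.det (LinearMap.mul k (Localization.AtPrime I.asIdeal) (algebraMap A _ f)) = (φs I) f ^ Module.finrank k (Localization.AtPrime (Ideal.comap (φs I) ⊥))
  set c := φs I f
  set L := Localization.AtPrime I.asIdeal
  have hfr' : ∀ (J : Ideal A) [J.IsPrime], J = I.asIdeal → Module.finrank k (Localization.AtPrime J) = Module.finrank k L := by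
    intro J _ hJ; subst hJ; rfl
  have hfr := hfr' _ (hker I)
  rw [hfr]
  haveI : IsArtinianRing L := IsArtinianRing.of_finite k L
  let n := algebraMap A L (f - algebraMap k A c)
  have hn : IsNilpotent n := by
    rw [← mem_nilradical, Ring.KrullDimLE.nilradical_eq_maximalIdeal, IsLocalization.AtPrime.to_map_mem_maximal_iff L I.asIdeal, ← hker I, Ideal.mem_comap, Ideal.mem_bot, map_sub, AlgHom.commutes]
    exact sub_self _
  have hcp : LinearMap.charpoly (Algebra.lmul k L (-n)) = Polynomial.X ^ Module.finrank k L :=
    IsNilpotent.charpoly_eq_X_pow_finrank (hn.neg.map (Algebra.lmul k L))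
  have hdet : LinearMap.det (LinearMap.mul k L (algebraMap A L f)) = c ^ Module.finrank k L := by
    have h1 := LinearMap.eval_charpoly (Algebra.lmul k L (-n)) c
    rw [hcp, Polynomial.eval_pow, Polynomial.eval_X] at h1
    rw [h1]
    congr 1
    refine LinearMap.ext fun z => ?_
    show algebraMap A L f * z = algebraMap k (Module.End k L) c z - (-n) * z
    rw [Module.algebraMap_end_apply, Algebra.smul_def, IsScalarTower.algebraMap_apply k A L]
    simp only [n, map_sub]
    ring
  exact hdet

end Groth.Agent.S13117
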