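import Groth.Statements.S13119
import Groth.Agent.Lib.DetNorm28.Main

set_option autoImplicit false
universe u
open scoped TensorProduct
open HilbChow

namespace Groth.Agent.S13119

/-- Let A → B be a ring homomorphism making B a finite locally free A-module of constant rank n, and
take a B-module M that is locally free of rank k, with k at least 1. Then, as A-modules, ∧^{nk}_A M
≅ (∧ⁿ_A B)^{⊗(k−1)} ⊗_A ∧ⁿ_A(∧^k_B M). (The published statement gives a specific, canonical
isomorphism, allows k = 0 with the exponent k − 1 read in the Picard group, and has a companion
formula for duals; this row asserts only that an isomorphism exists, for k ≥ 1, since with a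
natural-number exponent k = 0 would change the meaning, and omits the dual formula.) Locally free of
rank r is expressed as finitely generated projective with all localisations at primes of rank r. -/
theorem result
    (A B : Type u) [CommRing A] [CommRing B] [Algebra A B] [Module.Finite A B] [Module.Projective A B]
    (n : ℕ) (hn : ∀ q : PrimeSpectrum A, Module.finrank (Localization.AtPrime q.asIdeal) (LocalizedModule q.asIdeal.primeCompl B) = n)
    (M : Type u) [AddCommGroup M] [Module B M] [Module A M] [IsScalarTower A B M]
    [Module.Finite B M] [Module.Projective B M] (k : ℕ) (hk : 1 ≤ k)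
    (hM : ∀ q : PrimeSpectrum B, Module.finrank (Localization.AtPrime q.asIdeal) (LocalizedModule q.asIdeal.primeCompl M) = k) :
    Nonempty ((⋀[A]^(n * k) M) ≃ₗ[A]
      (TensorPower A (k - 1) (⋀[A]^n B)) ⊗[A] (⋀[A]^n (⋀[B]^k M))) := by
  obtain ⟨m, rfl⟩ := Nat.exists_eq_add_of_le' hk
  exact DetNorm28.exteriorPower_det_equiv hn M m hM

end Groth.Agent.S13119
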