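import Groth.Statements.S13120
import Groth.Agent.Lib.KumFamH28.Basic

set_option autoImplicit false
universe u
open KumFam

namespace Groth.Agent.S13120
open Groth.Agent.KumFamH28

open MvPolynomial in
/-- Let R be a commutative ring of characteristic 2 and l0, l2, l4, s0, s2, s4, τ ∈ R with τ a unit.
Inside R[u, v] (u = X 0, v = X 1) let A = R[u², u³, v², v³] be the coordinate ring of the product of
two cuspidal curves, and let D be the R-derivation of R[u, v] with D(u) = v²(l0 u⁴ + τ u³ + l2 u² +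
l4) and D(v) = u²(s0 v⁴ + τ v³ + s2 v² + s4); D is u²v² times the rational vector field (l0 u² + τ u
+ l2 + l4 u⁻²) ∂_u + (s0 v² + τ v + s2 + s4 v⁻²) ∂_v, which maps A into itself, and u²v² is a
non-zero-divisor, so the kernel of that vector field on A is the set of a ∈ A with D(a) = 0. Then
for a ∈ A: D(a) = 0 if and only if a ∈ R[u², v², g], where g = (s0 v⁴ + s2 v² + s4) u³ + (l0 u⁴ + l2
u² + l4) v³ + τ u³ v³. (The published statement identifies this kernel with the ring of invariants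
of the corresponding action of the group scheme of square roots of unity; this row states the kernel
computation that is actually carried out.) -/
theorem result (R : Type u) [CommRing R] [CharP R 2]
    (l0 l2 l4 s0 s2 s4 τ : R) (hτ : IsUnit τ) (a : MvPolynomial (Fin 2) R)
    (ha : a ∈ Algebra.adjoin R
      ({X 0 ^ 2, X 0 ^ 3, X 1 ^ 2, X 1 ^ 3} : Set (MvPolynomial (Fin 2) R))) :
    MvPolynomial.mkDerivation R
        (![X 1 ^ 2 * (C l0 * X 0 ^ 4 + C τ * X 0 ^ 3 + C l2 * X 0 ^ 2 + C l4),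
          X 0 ^ 2 * (C s0 * X 1 ^ 4 + C τ * X 1 ^ 3 + C s2 * X 1 ^ 2 + C s4)] :
          Fin 2 → MvPolynomial (Fin 2) R) a = 0 ↔
      a ∈ Algebra.adjoin R
        ({X 0 ^ 2, X 1 ^ 2,
          (C s0 * X 1 ^ 4 + C s2 * X 1 ^ 2 + C s4) * X 0 ^ 3 +
            (C l0 * X 0 ^ 4 + C l2 * X 0 ^ 2 + C l4) * X 1 ^ 3 +
            C τ * X 0 ^ 3 * X 1 ^ 3} : Set (MvPolynomial (Fin 2) R)) := by
  classical
  have C2 : ∀ x : MvPolynomial (Fin 2) R, 2 * x = 0 := fun x => by
    have h : (2 : R) = 0 := CharTwo.two_eq_zero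
    have h' : (2 : MvPolynomial (Fin 2) R) = 0 := by simpa [map_ofNat] using congrArg (C : R →+* MvPolynomial (Fin 2) R) h
    rw [h', zero_mul]
  have hh2 : (2 : MvPolynomial (Fin 2) R) = 0 := by simpa using C2 1
  obtain ⟨t, rfl⟩ := hτ
  set D := MvPolynomial.mkDerivation R
    (![X 1 ^ 2 * (C l0 * X 0 ^ 4 + C (t : R) * X 0 ^ 3 + C l2 * X 0 ^ 2 + C l4),
      X 0 ^ 2 * (C s0 * X 1 ^ 4 + C (t : R) * X 1 ^ 3 + C s2 * X 1 ^ 2 + C s4)] :
      Fin 2 → MvPolynomial (Fin 2) R)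
  set T := Algebra.adjoin R ({X 0 ^ 2, X 1 ^ 2,
      (C s0 * X 1 ^ 4 + C s2 * X 1 ^ 2 + C s4) * X 0 ^ 3 +
        (C l0 * X 0 ^ 4 + C l2 * X 0 ^ 2 + C l4) * X 1 ^ 3 +
        C (t : R) * X 0 ^ 3 * X 1 ^ 3} : Set (MvPolynomial (Fin 2) R))
  have hD0 : D (X 0) = X 1 ^ 2 * (C l0 * X 0 ^ 4 + C (t : R) * X 0 ^ 3 + C l2 * X 0 ^ 2 + C l4) :=
    mkDerivation_X _ _ _
  have hD1 : D (X 1) = X 0 ^ 2 * (C s0 * X 1 ^ 4 + C (t : R) * X 1 ^ 3 + C s2 * X 1 ^ 2 + C s4) :=
    mkDerivation_X _ _ _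
  set L : MvPolynomial (Fin 2) R := C l0 * X 0 ^ 2 + C l2 * X 0 + C l4 with hL
  set S : MvPolynomial (Fin 2) R := C s0 * X 1 ^ 2 + C s2 * X 1 + C s4 with hS
  have hg : (C s0 * X 1 ^ 4 + C s2 * X 1 ^ 2 + C s4) * X 0 ^ 3 +
        (C l0 * X 0 ^ 4 + C l2 * X 0 ^ 2 + C l4) * X 1 ^ 3 + C (t : R) * X 0 ^ 3 * X 1 ^ 3
      = comb 0 (X 0 * S) (X 1 * L) (C (t : R) * (X 0 * X 1)) := by
    simp only [comb, hL, hS, map_zero, map_add, map_mul, map_pow, expand_C, expand_X]; ring
  refine ⟨fun h0 => ?_, fun hm => ?_⟩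
  · obtain ⟨p, q, r, s, rfl⟩ := exists_comb_of_mem ha
    have hc : comb (X 0 * X 1 * (q * L + r * S)) (X 0 ^ 2 * X 1 * (C (t : R) * q + s * S))
        (X 0 * X 1 ^ 2 * (C (t : R) * r + s * L)) 0 = 0 := by
      refine Eq.trans ?_ h0
      rw [derivation_comb, hD0, hD1]
      simp only [comb, hL, hS, map_zero, map_add, map_mul, map_pow, expand_C, expand_X]
      linear_combination (-(1 : MvPolynomial (Fin 2) R)) * C2 (ι2 s * C (t : R) * X 0 ^ 2 * X 1 ^ 2 * X 0 ^ 2 * X 1 ^ 2 * (X 0 * X 1))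
    obtain ⟨-, e1, e2, -⟩ := comb_eq_zero hc
    have k1 : C (t : R) * q + s * S = 0 := by
      exact X_mul_eq_zero 1 _ (X_mul_eq_zero 0 _ (X_mul_eq_zero 0 _ (by linear_combination e1)))
    have k2 : C (t : R) * r + s * L = 0 := by
      exact X_mul_eq_zero 1 _ (X_mul_eq_zero 1 _ (X_mul_eq_zero 0 _ (by linear_combination e2)))
    have hι : ∀ x, ι2 x ∈ T := by
      intro x
      induction x using MvPolynomial.induction_on with
      | C c => rw [expand_C]; exact T.algebraMap_mem c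
      | add f g hf hg => rw [map_add]; exact add_mem hf hg
      | mul_X f i hf =>
        rw [map_mul, expand_X]
        refine mul_mem hf (Algebra.subset_adjoin ?_)
        match i with
        | 0 => simp
        | 1 => simp
    have et : (C (↑t⁻¹ : R) : MvPolynomial (Fin 2) R) * C (t : R) = 1 := by rw [← map_mul, Units.inv_mul, map_one]
    have eq' : q = C (↑t⁻¹ : R) * s * S := by
      linear_combination (C (↑t⁻¹ : R) : MvPolynomial (Fin 2) R) * k1 - q * et - C2 (C (↑t⁻¹ : R) * s * S)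
    have er' : r = C (↑t⁻¹ : R) * s * L := by
      linear_combination (C (↑t⁻¹ : R) : MvPolynomial (Fin 2) R) * k2 - r * et - C2 (C (↑t⁻¹ : R) * s * L)
    have e : comb p (X 0 * q) (X 1 * r) (X 0 * X 1 * s) = ι2 p + ι2 (C (↑t⁻¹ : R) * s) *
        ((C s0 * X 1 ^ 4 + C s2 * X 1 ^ 2 + C s4) * X 0 ^ 3 +
        (C l0 * X 0 ^ 4 + C l2 * X 0 ^ 2 + C l4) * X 1 ^ 3 + C (t : R) * X 0 ^ 3 * X 1 ^ 3) := by
      rw [hg, eq', er']
      simp only [comb, map_zero, map_add, map_mul, expand_C, expand_X]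
      linear_combination (-(X 0 ^ 2 * X 1 ^ 2 * ι2 s * (X 0 * X 1))) * et
    rw [e]
    exact add_mem (hι p) (mul_mem (hι _) (Algebra.subset_adjoin (by simp)))
  · clear ha
    induction hm using Algebra.adjoin_induction with
    | mem x hx =>
      rcases hx with rfl | rfl | rfl
      · rw [← expand_X (p := 2)]; exact derivation_expand D _
      · rw [← expand_X (p := 2)]; exact derivation_expand D _
      · rw [hg, derivation_comb, hD0, hD1]
        simp only [hL, hS, map_add, map_mul, map_pow, expand_C, expand_X]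
        ring_nf
        simp only [hh2, mul_zero, add_zero, zero_mul]
    | algebraMap c => exact D.map_algebraMap c
    | add x y _ _ hx hy => rw [map_add, hx, hy, add_zero]
    | mul x y _ _ hx hy => rw [Derivation.leibniz, hx, hy, smul_zero, smul_zero, add_zero]

end Groth.Agent.S13120
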