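import Groth.Statements.S13121
import Groth.Agent.Lib.KumFamH28.Basic

set_option autoImplicit false
universe u
open KumFam

namespace Groth.Agent.S13121
open Groth.Agent.KumFamH28

open MvPolynomial in
/-- Let R be a commutative ring of characteristic 2 and l0, l2, l4, s0, s2, s4, τ ∈ R with τ a unit. In
R[u, v] (u = X 0, v = X 1) put g = (s0 v⁴ + s2 v² + s4) u³ + (l0 u⁴ + l2 u² + l4) v³ + τ u³ v³. Then
the kernel of the R-algebra homomorphism R[a, b, c] → R[u, v] (a = X 0, b = X 1, c = X 2) with a ↦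
u², b ↦ v², c ↦ g is the ideal generated by c² + s0² a³ b⁴ + s2² a³ b² + s4² a³ + l0² a⁴ b³ + l2² a²
b³ + l4² b³ + τ² a³ b³; its image is the subalgebra R[u², v², g], which is therefore presented by
this one equation. -/
theorem result (R : Type u) [CommRing R] [CharP R 2]
    (l0 l2 l4 s0 s2 s4 τ : R) (hτ : IsUnit τ) :
    RingHom.ker (MvPolynomial.aeval (R := R) (S₁ := MvPolynomial (Fin 2) R)
        ![X 0 ^ 2, X 1 ^ 2,
          (C s0 * X 1 ^ 4 + C s2 * X 1 ^ 2 + C s4) * X 0 ^ 3 +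
            (C l0 * X 0 ^ 4 + C l2 * X 0 ^ 2 + C l4) * X 1 ^ 3 +
            C τ * X 0 ^ 3 * X 1 ^ 3]) =
      Ideal.span {(X 2 ^ 2 + C (s0 ^ 2) * X 0 ^ 3 * X 1 ^ 4 + C (s2 ^ 2) * X 0 ^ 3 * X 1 ^ 2 +
        C (s4 ^ 2) * X 0 ^ 3 + C (l0 ^ 2) * X 0 ^ 4 * X 1 ^ 3 + C (l2 ^ 2) * X 0 ^ 2 * X 1 ^ 3 +
        C (l4 ^ 2) * X 1 ^ 3 + C (τ ^ 2) * X 0 ^ 3 * X 1 ^ 3 : MvPolynomial (Fin 3) R)} := by
  classical
  have C2 : ∀ x : MvPolynomial (Fin 2) R, 2 * x = 0 := fun x => by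
    have h : (2 : R) = 0 := CharTwo.two_eq_zero
    have h' : (2 : MvPolynomial (Fin 2) R) = 0 := by simpa [map_ofNat] using congrArg (C : R →+* MvPolynomial (Fin 2) R) h
    rw [h', zero_mul]
  obtain ⟨t, rfl⟩ := hτ
  set L : MvPolynomial (Fin 2) R := C l0 * X 0 ^ 2 + C l2 * X 0 + C l4 with hL
  set S : MvPolynomial (Fin 2) R := C s0 * X 1 ^ 2 + C s2 * X 1 + C s4 with hS
  rw [ker_aeval _ 0 (X 0 * S) (X 1 * L) (C (t : R) * (X 0 * X 1)) (by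
      simp only [comb, hL, hS, map_zero, map_add, map_mul, map_pow, expand_C, expand_X]; ring)
    (fun x hx => by
      rw [mul_assoc, mul_assoc] at hx
      exact X_mul_eq_zero 1 _ (X_mul_eq_zero 0 _ (unit_mul_eq_zero t.isUnit _ hx)))
    (C (s0 ^ 2) * X 0 ^ 3 * X 1 ^ 4 + C (s2 ^ 2) * X 0 ^ 3 * X 1 ^ 2 + C (s4 ^ 2) * X 0 ^ 3
      + C (l0 ^ 2) * X 0 ^ 4 * X 1 ^ 3 + C (l2 ^ 2) * X 0 ^ 2 * X 1 ^ 3 + C (l4 ^ 2) * X 1 ^ 3
      + C ((t : R) ^ 2) * X 0 ^ 3 * X 1 ^ 3) (by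
      simp only [map_add, map_mul, map_pow, expand_C, expand_X]
      linear_combination C2 ((C s0 * X 1 ^ 4 * C s2 * X 1 ^ 2 + C s0 * X 1 ^ 4 * C s4 + C s2 * X 1 ^ 2 * C s4) * X 0 ^ 6
        + (C l0 * X 0 ^ 4 * C l2 * X 0 ^ 2 + C l0 * X 0 ^ 4 * C l4 + C l2 * X 0 ^ 2 * C l4) * X 1 ^ 6
        + (C s0 * X 1 ^ 4 + C s2 * X 1 ^ 2 + C s4) * (C l0 * X 0 ^ 4 + C l2 * X 0 ^ 2 + C l4) * X 0 ^ 3 * X 1 ^ 3
        + (C s0 * X 1 ^ 4 + C s2 * X 1 ^ 2 + C s4) * C (t : R) * X 0 ^ 6 * X 1 ^ 3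
        + (C l0 * X 0 ^ 4 + C l2 * X 0 ^ 2 + C l4) * C (t : R) * X 0 ^ 3 * X 1 ^ 6))]
  congr 2
  have h' : ∀ x : MvPolynomial (Fin 3) R, -x = x := fun x => by
    have h : (2 : R) = 0 := CharTwo.two_eq_zero
    have h2 : (2 : MvPolynomial (Fin 3) R) = 0 := by simpa [map_ofNat] using congrArg (C : R →+* MvPolynomial (Fin 3) R) h
    linear_combination (-x) * h2
  rw [sub_eq_add_neg, h']
  simp only [map_add, map_mul, map_pow, rename_C, rename_X, Fin.castSucc_zero, Fin.castSucc_one]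
  ring

end Groth.Agent.S13121
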