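import Groth.Statements.S13122
import Groth.Agent.Lib.KumFamH28.Basic

set_option autoImplicit false
universe u
open KumFam

namespace Groth.Agent.S13122
open Groth.Agent.KumFamH28

open MvPolynomial in
/-- Let R be a commutative ring of characteristic 2 and l0, l2, l4, s0, s2, s4, τ ∈ R with τ a unit. On
R[x, y] (x = X 0, y = X 1; the coordinates u⁻¹, v⁻¹ of the smooth chart of the product of two
cuspidal curves) let D be the R-derivation with D(x) = l4 x⁴ + l2 x² + τ x + l0 and D(y) = s4 y⁴ +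
s2 y² + τ y + s0, and put h = (s4 y⁴ + s2 y² + s0) x + (l4 x⁴ + l2 x² + l0) y + τ x y. Then: (1) for
p ∈ R[x, y], D(p) = 0 if and only if p lies in the image of the R-algebra homomorphism R[a, b, c] →
R[x, y] (a = X 0, b = X 1, c = X 2) with a ↦ x², b ↦ y², c ↦ h; (2) the kernel of that homomorphism
is the ideal generated by c² + τ² a b + (s4² b⁴ + s2² b² + s0²) a + (l4² a⁴ + l2² a² + l0²) b. (The
published statement asserts that the ring of invariants of the action of the group scheme of square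
roots of unity given by this vector field is R[a, b, c] modulo this equation, by the same
computation as on the other chart; this row pins the generator h and states the kernel computation.) -/
theorem result (R : Type u) [CommRing R]
    [CharP R 2] (l0 l2 l4 s0 s2 s4 τ : R) (hτ : IsUnit τ) :
    (∀ p : MvPolynomial (Fin 2) R,
      MvPolynomial.mkDerivation R
          (![C l4 * X 0 ^ 4 + C l2 * X 0 ^ 2 + C τ * X 0 + C l0,
            C s4 * X 1 ^ 4 + C s2 * X 1 ^ 2 + C τ * X 1 + C s0] :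
            Fin 2 → MvPolynomial (Fin 2) R) p = 0 ↔
        p ∈ (MvPolynomial.aeval (R := R) (S₁ := MvPolynomial (Fin 2) R)
          ![X 0 ^ 2, X 1 ^ 2,
            (C s4 * X 1 ^ 4 + C s2 * X 1 ^ 2 + C s0) * X 0 +
              (C l4 * X 0 ^ 4 + C l2 * X 0 ^ 2 + C l0) * X 1 + C τ * X 0 * X 1]).range) ∧
    RingHom.ker (MvPolynomial.aeval (R := R) (S₁ := MvPolynomial (Fin 2) R)
        ![X 0 ^ 2, X 1 ^ 2,
          (C s4 * X 1 ^ 4 + C s2 * X 1 ^ 2 + C s0) * X 0 +
            (C l4 * X 0 ^ 4 + C l2 * X 0 ^ 2 + C l0) * X 1 + C τ * X 0 * X 1]) =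
      Ideal.span {(X 2 ^ 2 + C (τ ^ 2) * X 0 * X 1 +
        (C (s4 ^ 2) * X 1 ^ 4 + C (s2 ^ 2) * X 1 ^ 2 + C (s0 ^ 2)) * X 0 +
        (C (l4 ^ 2) * X 0 ^ 4 + C (l2 ^ 2) * X 0 ^ 2 + C (l0 ^ 2)) * X 1 : MvPolynomial (Fin 3) R)} := by
  classical
  have C2 : ∀ x : MvPolynomial (Fin 2) R, 2 * x = 0 := fun x => by
    have h : (2 : R) = 0 := CharTwo.two_eq_zero
    have h' : (2 : MvPolynomial (Fin 2) R) = 0 := by simpa [map_ofNat] using congrArg (C : R →+* MvPolynomial (Fin 2) R) h
    rw [h', zero_mul]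
  have hh2 : (2 : MvPolynomial (Fin 2) R) = 0 := by simpa using C2 1
  obtain ⟨t, rfl⟩ := hτ
  set L : MvPolynomial (Fin 2) R := C l4 * X 0 ^ 2 + C l2 * X 0 + C l0 with hL
  set S : MvPolynomial (Fin 2) R := C s4 * X 1 ^ 2 + C s2 * X 1 + C s0 with hS
  have hg : (C s4 * X 1 ^ 4 + C s2 * X 1 ^ 2 + C s0) * X 0 +
      (C l4 * X 0 ^ 4 + C l2 * X 0 ^ 2 + C l0) * X 1 + C (t : R) * X 0 * X 1
      = comb 0 S L (C (t : R)) := by
    simp only [comb, hL, hS, map_zero, map_add, map_mul, map_pow, expand_C, expand_X]; ring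
  have et : (C (↑t⁻¹ : R) : MvPolynomial (Fin 2) R) * C (t : R) = 1 := by rw [← map_mul, Units.inv_mul, map_one]
  refine ⟨fun p => ?_, ?_⟩
  · set D := MvPolynomial.mkDerivation R
      (![C l4 * X 0 ^ 4 + C l2 * X 0 ^ 2 + C (t : R) * X 0 + C l0,
        C s4 * X 1 ^ 4 + C s2 * X 1 ^ 2 + C (t : R) * X 1 + C s0] : Fin 2 → MvPolynomial (Fin 2) R)
    set φ := MvPolynomial.aeval (R := R) (S₁ := MvPolynomial (Fin 2) R) ![X 0 ^ 2, X 1 ^ 2,
      (C s4 * X 1 ^ 4 + C s2 * X 1 ^ 2 + C s0) * X 0 +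
        (C l4 * X 0 ^ 4 + C l2 * X 0 ^ 2 + C l0) * X 1 + C (t : R) * X 0 * X 1]
    have hD0 : D (X 0) = C l4 * X 0 ^ 4 + C l2 * X 0 ^ 2 + C (t : R) * X 0 + C l0 := mkDerivation_X _ _ _
    have hD1 : D (X 1) = C s4 * X 1 ^ 4 + C s2 * X 1 ^ 2 + C (t : R) * X 1 + C s0 := mkDerivation_X _ _ _
    refine ⟨fun h0 => ?_, ?_⟩
    · obtain ⟨p, q, r, s, rfl⟩ := exists_comb p
      have hc : comb (q * L + r * S) (C (t : R) * q + s * S) (C (t : R) * r + s * L) 0 = 0 := by
        refine Eq.trans ?_ h0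
        rw [derivation_comb, hD0, hD1]
        simp only [comb, hL, hS, map_zero, map_add, map_mul, map_pow, expand_C, expand_X]
        linear_combination (-(1 : MvPolynomial (Fin 2) R)) * C2 (ι2 s * C (t : R) * (X 0 * X 1))
      obtain ⟨-, k1, k2, -⟩ := comb_eq_zero hc
      have eq' : q = C (↑t⁻¹ : R) * s * S := by
        linear_combination (C (↑t⁻¹ : R) : MvPolynomial (Fin 2) R) * k1 - q * et - C2 (C (↑t⁻¹ : R) * s * S)
      have er' : r = C (↑t⁻¹ : R) * s * L := by
        linear_combination (C (↑t⁻¹ : R) : MvPolynomial (Fin 2) R) * k2 - r * et - C2 (C (↑t⁻¹ : R) * s * L)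
      have hι : ∀ x, ι2 x = φ (rename Fin.castSucc x) := by
        intro x
        induction x using MvPolynomial.induction_on with
        | C c => simp [φ]
        | add f g hf hg => simp [hf, hg]
        | mul_X f i hf =>
          rw [map_mul, map_mul, map_mul, hf, rename_X, expand_X]
          congr 1
          match i with
          | 0 => simp [φ]
          | 1 => simp [φ]
      refine ⟨rename Fin.castSucc p + rename Fin.castSucc (C (↑t⁻¹ : R) * s) * X 2, ?_⟩
      show φ _ = _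
      rw [map_add, map_mul, ← hι, ← hι]
      simp only [φ, aeval_X, Matrix.cons_val]
      rw [hg, eq', er']
      simp only [comb, map_zero, map_add, map_mul, expand_C]
      linear_combination ι2 s * (X 0 * X 1) * et
    · rintro ⟨f, rfl⟩
      show D (φ f) = 0
      induction f using MvPolynomial.induction_on with
      | C c => simp [φ]
      | add f g hf hg => rw [map_add, map_add, hf, hg, add_zero]
      | mul_X f i hf =>
        rw [map_mul, Derivation.leibniz, hf, smul_zero, add_zero]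
        have : D (φ (X i)) = 0 := by
          match i with
          | 0 =>
            rw [show φ (X 0) = ι2 (X 0) by simp [φ]]; exact derivation_expand D _
          | 1 =>
            rw [show φ (X 1) = ι2 (X 1) by simp [φ]]; exact derivation_expand D _
          | 2 =>
            rw [show φ (X 2) = comb 0 S L (C (t : R)) by simp only [φ, aeval_X, Matrix.cons_val]; exact hg,
              derivation_comb, hD0, hD1]
            simp only [hL, hS, map_add, map_mul, map_pow, expand_C, expand_X]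
            ring_nf
            simp only [hh2, mul_zero, add_zero, zero_mul]
        rw [this, smul_zero]
  · rw [ker_aeval _ 0 S L (C (t : R)) hg (fun x hx => unit_mul_eq_zero t.isUnit x hx)
      (C ((t : R) ^ 2) * X 0 * X 1 + (C (s4 ^ 2) * X 1 ^ 4 + C (s2 ^ 2) * X 1 ^ 2 + C (s0 ^ 2)) * X 0 +
        (C (l4 ^ 2) * X 0 ^ 4 + C (l2 ^ 2) * X 0 ^ 2 + C (l0 ^ 2)) * X 1) (by
      simp only [map_add, map_mul, map_pow, expand_C, expand_X]
      linear_combination C2 ((C s4 * X 1 ^ 4 * C s2 * X 1 ^ 2 + C s4 * X 1 ^ 4 * C s0 + C s2 * X 1 ^ 2 * C s0) * X 0 ^ 2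
        + (C l4 * X 0 ^ 4 * C l2 * X 0 ^ 2 + C l4 * X 0 ^ 4 * C l0 + C l2 * X 0 ^ 2 * C l0) * X 1 ^ 2
        + (C s4 * X 1 ^ 4 + C s2 * X 1 ^ 2 + C s0) * (C l4 * X 0 ^ 4 + C l2 * X 0 ^ 2 + C l0) * X 0 * X 1
        + (C s4 * X 1 ^ 4 + C s2 * X 1 ^ 2 + C s0) * C (t : R) * X 0 ^ 2 * X 1
        + (C l4 * X 0 ^ 4 + C l2 * X 0 ^ 2 + C l0) * C (t : R) * X 0 * X 1 ^ 2))]
    congr 2
    have h' : ∀ x : MvPolynomial (Fin 3) R, -x = x := fun x => by
      have h : (2 : R) = 0 := CharTwo.two_eq_zero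
      have h2 : (2 : MvPolynomial (Fin 3) R) = 0 := by simpa [map_ofNat] using congrArg (C : R →+* MvPolynomial (Fin 3) R) h
      linear_combination (-x) * h2
    rw [sub_eq_add_neg, h']
    simp only [map_add, map_mul, map_pow, rename_C, rename_X, Fin.castSucc_zero, Fin.castSucc_one]
    ring

end Groth.Agent.S13122
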