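import Groth.Statements.S13124
import Mathlib.RingTheory.IntegralClosure.IntegrallyClosed
import Mathlib.RingTheory.Flat.Basic
open scoped TensorProduct

set_option autoImplicit false
universe u v w
open KumFam

namespace Groth.Agent.S13124

/-- Let k be a commutative ring, A a commutative k-bialgebra that is flat over k, and R a commutative
k-algebra which is an integrally closed domain, with a coaction R → R ⊗ A that is an algebra
homomorphism. Then the ring of invariants (the elements f with coaction f ⊗ 1) is an integrally
closed domain. (The published statement is for a finite group scheme acting on a normal scheme whose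
quotient is, locally, the spectrum of the ring of invariants; this row is the affine integral case
and allows any commutative bialgebra flat over k, flatness being automatic over a field.) -/
theorem result (k : Type u) [CommRing k]
    (A : Type v) [CommRing A] [Bialgebra k A] [Module.Flat k A]
    (R : Type w) [CommRing R] [Algebra k R] [IsDomain R] [IsIntegrallyClosed R]
    [HopfRep.Comod k A R] [GLin.IsCoactAlg k A R] :
    IsIntegrallyClosed (GLin.invariants k A R) := by
  let S := GLin.invariants k A R
  rw [isIntegrallyClosed_iff (FractionRing S)]
  intro x hx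
  obtain ⟨f, g, hg, rfl⟩ := IsFractionRing.div_surjective (A := S) x
  have hg0 : (g : R) ≠ 0 := fun h => nonZeroDivisors.ne_zero hg (Subtype.ext h)
  let ψ : FractionRing S →ₐ[S] FractionRing R :=
    IsFractionRing.liftAlgHom (K := FractionRing S)
      (g := IsScalarTower.toAlgHom S S (FractionRing R)) (by
        intro a b h
        exact Subtype.ext (IsFractionRing.injective R (FractionRing R) h))
  have h1 : IsIntegral S (ψ (algebraMap S _ f / algebraMap S _ g)) := hx.map ψ
  have h2 : IsIntegral R (ψ (algebraMap S _ f / algebraMap S _ g)) := h1.tower_top
  obtain ⟨r, hr⟩ := IsIntegrallyClosed.isIntegral_iff.1 h2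
  rw [map_div₀, ψ.commutes, ψ.commutes, IsScalarTower.algebraMap_apply S R (FractionRing R) f,
    IsScalarTower.algebraMap_apply S R (FractionRing R) g, eq_div_iff (by
      intro h; exact hg0 ((map_eq_zero_iff _ (IsFractionRing.injective R (FractionRing R))).1 h)), ← map_mul] at hr
  have hrg : r * (g : R) = (f : R) := IsFractionRing.injective R (FractionRing R) hr
  have hrS : r ∈ S := by
    rw [GLin.mem_invariants_iff, ← sub_eq_zero]
    have hinj : Function.Injective ((LinearMap.mulLeft k (g : R)).rTensor A) :=
      Module.Flat.rTensor_preserves_injective_linearMap _ fun a b h => mul_left_cancel₀ hg0 h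
    refine hinj ?_
    rw [map_zero]
    have key : ∀ z : R ⊗[k] A, (LinearMap.mulLeft k (g : R)).rTensor A z = ((g : R) ⊗ₜ[k] (1 : A)) * z := by
      intro z
      induction z with
      | zero => simp
      | add a b ha hb => rw [map_add, mul_add, ha, hb]
      | tmul a b => simp
    rw [key, mul_sub, Algebra.TensorProduct.tmul_mul_tmul, one_mul, ← (GLin.mem_invariants_iff k A R _).1 g.2,
      ← GLin.IsCoactAlg.coact_mul, mul_comm, hrg, (GLin.mem_invariants_iff k A R _).1 f.2, sub_self]
  refine ⟨⟨r, hrS⟩, ?_⟩
  rw [eq_div_iff (IsLocalization.map_units (FractionRing S) (⟨g, hg⟩ : nonZeroDivisors S)).ne_zero, ← map_mul]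
  exact congrArg _ (Subtype.ext hrg)

end Groth.Agent.S13124
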