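import Groth.Statements.S13125
import Mathlib.RingTheory.GradedAlgebra.Homogeneous.Ideal
import Mathlib.RingTheory.Ideal.Quotient.Operations

set_option autoImplicit false
universe u v
open KumFam

namespace Groth.Agent.S13125

/-- Let A be a commutative ring graded by an additive monoid ι (an abelian group in the published
statement) through additive subgroups 𝒜 i, and I an ideal of A. Then I is a homogeneous ideal if and
only if A/I carries a structure of ι-graded ring ℬ for which the quotient map sends 𝒜 i into ℬ i for
all i. -/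
theorem result (ι : Type u) [DecidableEq ι] [AddMonoid ι]
    (A : Type v) [CommRing A] (𝒜 : ι → AddSubgroup A) [GradedRing 𝒜] (I : Ideal A) :
    I.IsHomogeneous 𝒜 ↔
      ∃ ℬ : ι → AddSubgroup (A ⧸ I), Nonempty (GradedRing ℬ) ∧
        ∀ i : ι, (𝒜 i).map (Ideal.Quotient.mk I : A →+ A ⧸ I) ≤ ℬ i := by
  classical
  let q : A →+ A ⧸ I := (Ideal.Quotient.mk I : A →+ A ⧸ I)
  constructor
  · intro hI
    let ℬ : ι → AddSubgroup (A ⧸ I) := fun i => (𝒜 i).map q
    let F : (DirectSum ι fun i => 𝒜 i) →+ DirectSum ι fun i => ℬ i :=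
      DirectSum.map fun i => q.addSubgroupMap (𝒜 i)
    have hF : Function.Surjective F := (DirectSum.map_surjective _).mpr fun i => q.addSubgroupMap_surjective (𝒜 i)
    have hco : ∀ x, DirectSum.coeAddMonoidHom ℬ (F x) = q (DirectSum.coeAddMonoidHom 𝒜 x) := by
      intro x
      induction x using DirectSum.induction_on with
      | zero => simp
      | of i a => simp only [F, DirectSum.map_of, DirectSum.coeAddMonoidHom_of]; rfl
      | add x y hx hy => simp only [map_add, hx, hy]
    have hint : DirectSum.IsInternal ℬ := by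
      constructor
      · rw [injective_iff_map_eq_zero]
        intro y hy
        obtain ⟨x, rfl⟩ := hF y
        rw [hco] at hy
        have hmem : DirectSum.coeAddMonoidHom 𝒜 x ∈ I := Ideal.Quotient.eq_zero_iff_mem.mp hy
        ext i
        have hx : DirectSum.decompose 𝒜 (DirectSum.coeAddMonoidHom 𝒜 x) = x :=
          (DirectSum.decompose 𝒜).apply_symm_apply x
        have hi := hI i hmem
        rw [hx] at hi
        simp only [F, DirectSum.map_apply, DirectSum.zero_apply]
        exact Ideal.Quotient.eq_zero_iff_mem.mpr hi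
      · intro y
        obtain ⟨a, rfl⟩ := Ideal.Quotient.mk_surjective y
        refine ⟨F (DirectSum.decompose 𝒜 a), ?_⟩
        rw [hco]
        exact congrArg q ((DirectSum.decompose 𝒜).symm_apply_apply a)
    letI := hint.chooseDecomposition
    haveI : SetLike.GradedMonoid ℬ :=
      { one_mem := ⟨1, SetLike.GradedOne.one_mem, map_one (Ideal.Quotient.mk I)⟩
        mul_mem := by
          rintro i j _ _ ⟨a, ha, rfl⟩ ⟨b, hb, rfl⟩
          exact ⟨a * b, SetLike.mul_mem_graded ha hb, map_mul (Ideal.Quotient.mk I) a b⟩ }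
    exact ⟨ℬ, ⟨{}⟩, fun i => le_rfl⟩
  · rintro ⟨ℬ, ⟨hℬ⟩, hle⟩ i a ha
    let F : (DirectSum ι fun i => 𝒜 i) →+ DirectSum ι fun i => ℬ i :=
      DirectSum.map fun i => (AddSubgroup.inclusion (hle i)).comp (q.addSubgroupMap (𝒜 i))
    have hco : ∀ x, DirectSum.coeAddMonoidHom ℬ (F x) = q (DirectSum.coeAddMonoidHom 𝒜 x) := by
      intro x
      induction x using DirectSum.induction_on with
      | zero => simp
      | of i a => simp only [F, DirectSum.map_of, DirectSum.coeAddMonoidHom_of]; rfl
      | add x y hx hy => simp only [map_add, hx, hy]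
    have h0 : F (DirectSum.decompose 𝒜 a) = 0 := by
      apply (DirectSum.Decomposition.isInternal ℬ).1
      rw [hco, map_zero]
      exact (congrArg q ((DirectSum.decompose 𝒜).symm_apply_apply a)).trans
        (Ideal.Quotient.eq_zero_iff_mem.mpr ha)
    have := congrArg (fun z => (z i : A ⧸ I)) h0
    simp only [F, DirectSum.map_apply, DirectSum.zero_apply] at this
    exact Ideal.Quotient.eq_zero_iff_mem.mp this

end Groth.Agent.S13125
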