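import Groth.Statements.S13126
import Mathlib.Tactic
import Mathlib.Data.Set.Card
import Mathlib.Algebra.BigOperators.Fin
import Mathlib.Algebra.Order.Chebyshev
import Mathlib.Analysis.Calculus.ContDiff.Deriv
import Mathlib.Analysis.Calculus.ParametricIntervalIntegral
import Mathlib.MeasureTheory.Integral.IntervalIntegral.FundThmCalculus
import Mathlib.RingTheory.Polynomial.Pochhammer
import Mathlib.Algebra.Algebra.Rat
import Mathlib.RingTheory.TensorProduct.Basic
import Mathlib.RingTheory.Localization.BaseChange
import Mathlib.RingTheory.Flat.TorsionFree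
import Mathlib.RingTheory.MvPolynomial.Basic
import Mathlib.RingTheory.Ideal.Quotient.Operations
import Mathlib.RingTheory.LocalRing.Basic
import Mathlib.Algebra.CharP.Lemmas

set_option autoImplicit false
universe u
open KumFam

namespace Groth.Agent.S13126

open Polynomial in
/-- Let R be a commutative ring, n a natural number which is a unit in R, and ζ ∈ R with ζ^n = 1 and 1 −
ζ^i a unit for 0 < i < n (a primitive n-th root of unity in the fibrewise sense: the powers ζ^0, …,
ζ^(n−1) are roots of X^n − 1 with pairwise unit differences; over an integral domain in which n is a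
unit this is the same as ζ having multiplicative order n). Then the R-algebra homomorphism R[X] →
(Fin n → R) sending a polynomial to its values at ζ^0, …, ζ^(n−1) is surjective and its kernel is
the ideal generated by X^n − 1; hence R[X]/(X^n − 1) ≅ R^n as R-algebras, i.e. the scheme of n-th
roots of unity over Spec R is the disjoint union of n copies of Spec R. (The published statement
asks that R contain a primitive n-th root of unity without defining the term; its Chinese-remainder
argument uses that the ideals (X − ζ^i), i < n, are pairwise comaximal, which is the unit-difference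
condition taken as the hypothesis here, whereas under the reading 'ζ has multiplicative order n'
alone the surjectivity fails over a product of two fields. The published statement also asserts that
the isomorphism respects the group-scheme structures of the n-th roots of unity and of the constant
group ℤ/n; this row does not state that.) -/
theorem result (R : Type u) [CommRing R]
    (n : ℕ) (hn : IsUnit (n : R)) (ζ : R) (hζ : ζ ^ n = 1)
    (hprim : ∀ i : ℕ, 0 < i → i < n → IsUnit (1 - ζ ^ i)) :
    Function.Surjective (AlgHom.pi (fun i : Fin n => Polynomial.aeval (R := R) (ζ ^ (i : ℕ)))) ∧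
      RingHom.ker (AlgHom.pi (fun i : Fin n => Polynomial.aeval (R := R) (ζ ^ (i : ℕ)))) =
        Ideal.span {(X ^ n - 1 : R[X])} := by
  classical
  rcases subsingleton_or_nontrivial R with h | h
  · exact ⟨fun x => ⟨0, Subsingleton.elim _ _⟩, Ideal.ext fun x => by simp [Subsingleton.elim x 0]⟩
  have hn0 : n ≠ 0 := by rintro rfl; exact not_isUnit_zero (M₀ := R) (by simpa using hn)
  have hu : IsUnit ζ := (isUnit_pow_iff hn0).1 (hζ ▸ isUnit_one)
  have hdiff : ∀ i j : Fin n, i ≠ j → IsUnit (ζ ^ (i : ℕ) - ζ ^ (j : ℕ)) := by
    intro i j hij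
    rcases lt_or_gt_of_ne hij with h | h
    · have := (hu.pow i.val).mul (hprim (j.val - i.val) (by omega) (by omega))
      rwa [mul_sub, mul_one, ← pow_add, Nat.add_sub_cancel' h.le] at this
    · have := ((hu.pow j.val).mul (hprim (i.val - j.val) (by omega) (by omega))).neg
      rwa [mul_sub, mul_one, ← pow_add, Nat.add_sub_cancel' h.le, neg_sub] at this
  let P : R[X] := ∏ i : Fin n, (X - C (ζ ^ (i : ℕ)))
  have hdvd : ∀ q : R[X], P ∣ q ↔ ∀ i : Fin n, q.eval (ζ ^ (i : ℕ)) = 0 := by
    intro q
    refine ⟨fun hq i => ?_, fun hq => ?_⟩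
    · exact dvd_iff_isRoot.1 ((Finset.dvd_prod_of_mem (fun i : Fin n => X - C (ζ ^ (i : ℕ))) (Finset.mem_univ i)).trans hq)
    · refine Fintype.prod_dvd_of_coprime ?_ (fun i => dvd_iff_isRoot.2 (hq i))
      intro i j hij
      obtain ⟨w, hw⟩ := (hdiff j i (Ne.symm hij)).exists_right_inv
      refine ⟨C w, -C w, ?_⟩
      have : C (ζ ^ (j : ℕ) - ζ ^ (i : ℕ)) * C w = (1 : R[X]) := by rw [← map_mul, hw, map_one]
      rw [map_sub] at this
      linear_combination this
  have hP : P.Monic := monic_prod_of_monic _ _ fun i _ => monic_X_sub_C _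
  have hPd : P.natDegree = n := by
    rw [natDegree_prod_of_monic _ _ fun i _ => monic_X_sub_C _]; simp only [natDegree_X_sub_C, Finset.sum_const, Finset.card_univ, Fintype.card_fin, smul_eq_mul, mul_one]
  have hXd : P ∣ X ^ n - 1 := (hdvd _).2 fun i => by rw [eval_sub, eval_pow, eval_X, eval_one, ← pow_mul, mul_comm, pow_mul, hζ, one_pow, sub_self]
  have hPX : P = X ^ n - 1 := by
    have h1 : (X ^ n - 1 : R[X]).Monic := monic_X_pow_sub_C 1 hn0
    refine (eq_of_monic_of_dvd_of_natDegree_le hP h1 hXd ?_).symm
    rw [hPd, show (1 : R[X]) = C 1 from map_one C |>.symm, natDegree_X_pow_sub_C]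
  constructor
  · intro y
    have : ∀ i : Fin n, ∃ q : R[X], ∀ j : Fin n, q.eval (ζ ^ (j : ℕ)) = if i = j then 1 else 0 := by
      intro i
      have hu' : IsUnit (∏ j ∈ Finset.univ.erase i, (ζ ^ (i : ℕ) - ζ ^ (j : ℕ))) :=
        IsUnit.prod_iff.2 fun j hj => hdiff i j (Finset.ne_of_mem_erase hj).symm
      obtain ⟨w, hw⟩ := hu'.exists_right_inv
      refine ⟨(∏ j ∈ Finset.univ.erase i, (X - C (ζ ^ (j : ℕ)))) * C w, fun j => ?_⟩
      rw [eval_mul, eval_C, eval_prod]
      split_ifs with hij
      · subst hij; simpa using hw
      · rw [Finset.prod_eq_zero (Finset.mem_erase.2 ⟨Ne.symm hij, Finset.mem_univ j⟩) (by simp), zero_mul]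
    choose q hq using this
    refine ⟨∑ i, C (y i) * q i, ?_⟩
    funext j
    simp [eval_finsetSum, hq]
  · rw [← hPX]
    ext q
    rw [RingHom.mem_ker, Ideal.mem_span_singleton, hdvd]
    simp [funext_iff]

end Groth.Agent.S13126
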