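import Groth.Statements.S13127
import Groth.Agent.Lib.PSAutoH28.Basic

set_option autoImplicit false
universe u
open KumFam

namespace Groth.Agent.S13127

open MvPowerSeries in
/-- Let R be a commutative ring of characteristic 2 and l0, l2, l4, s0, s2, s4, τ, lam, sig ∈ R with l4,
s4, lam, sig units, and let κ₁, κ₂ ∈ R satisfy s4² κ₁³ = sig² and l4² κ₂³ = lam² (cube roots of
sig²/s4² and lam²/l4²). In the power series ring R[[a, b, c]] (a = X 0, b = X 1, c = X 2) put F = c²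
+ s0² a³ b⁴ + s2² a³ b² + s4² a³ + l0² a⁴ b³ + l2² a² b³ + l4² b³ + τ² a³ b³ and F₀ = c² + sig² a³ +
lam² b³. Then some R-algebra automorphism of R[[a, b, c]] maps F to F₀; consequently R[[a, b,
c]]/(F) ≅ R[[a, b, c]]/(F₀). (In the published statement lam, sig are the representatives in the
ground field of the residues of l4, s4 at a rational point, so that F₀ is the equation of the
special fibre made constant; this row takes them to be arbitrary units.) -/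
theorem result (R : Type u) [CommRing R] [CharP R 2]
    (l0 l2 l4 s0 s2 s4 τ lam sig κ₁ κ₂ : R) (hl4 : IsUnit l4) (hs4 : IsUnit s4) (hlam : IsUnit lam)
    (hsig : IsUnit sig) (h₁ : s4 ^ 2 * κ₁ ^ 3 = sig ^ 2) (h₂ : l4 ^ 2 * κ₂ ^ 3 = lam ^ 2) :
    ∃ φ : MvPowerSeries (Fin 3) R ≃ₐ[R] MvPowerSeries (Fin 3) R,
      φ ((X 2 ^ 2 + C (s0 ^ 2) * X 0 ^ 3 * X 1 ^ 4 + C (s2 ^ 2) * X 0 ^ 3 * X 1 ^ 2 +
          C (s4 ^ 2) * X 0 ^ 3 + C (l0 ^ 2) * X 0 ^ 4 * X 1 ^ 3 + C (l2 ^ 2) * X 0 ^ 2 * X 1 ^ 3 +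
          C (l4 ^ 2) * X 1 ^ 3 + C (τ ^ 2) * X 0 ^ 3 * X 1 ^ 3 : MvPowerSeries (Fin 3) R)) =
        (X 2 ^ 2 + C (sig ^ 2) * X 0 ^ 3 + C (lam ^ 2) * X 1 ^ 3 : MvPowerSeries (Fin 3) R) := by
  classical
  have hk : ∀ {x y κ : R}, IsUnit x → IsUnit y → x ^ 2 * κ ^ 3 = y ^ 2 → IsUnit κ := by
    intro x y κ hx hy h
    have h' : IsUnit (x ^ 2 * κ ^ 3) := h ▸ hy.pow 2
    exact (isUnit_pow_iff (by norm_num)).1 (isUnit_of_mul_isUnit_right h')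
  have h2 : (2 : R) = 0 := CharTwo.two_eq_zero
  have h3 : IsUnit (3 : R) := by
    rw [show (3 : R) = 1 by linear_combination h2]; exact isUnit_one
  obtain ⟨k1, rfl⟩ := hk hs4 hsig h₁
  obtain ⟨k2, rfl⟩ := hk hl4 hlam h₂
  obtain ⟨s, rfl⟩ := hs4
  obtain ⟨l, rfl⟩ := hl4
  have C2 : (2 : MvPowerSeries (Fin 3) R) = 0 := by
    rw [← map_ofNat (C : R →+* MvPowerSeries (Fin 3) R) 2, h2, map_zero]
  obtain ⟨v1, hv1, hv1'⟩ := Groth.Agent.PSAutoH28.exists_cube_root h3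
    (((1 + C (↑s⁻¹ * s2) * X 1 + C (↑s⁻¹ * s0) * X 1 ^ 2) ^ 2 : MvPowerSeries (Fin 3) R)) (by simp)
  obtain ⟨v2, hv2, hv2'⟩ := Groth.Agent.PSAutoH28.exists_cube_root h3
    ((1 + C ((↑l⁻¹ : R) ^ 2) * (C (l2 ^ 2) * X 0 ^ 2 + C (τ ^ 2) * X 0 ^ 3 + C (l0 ^ 2) * X 0 ^ 4) :
      MvPowerSeries (Fin 3) R)) (by simp)
  obtain ⟨ψ, hψ, -⟩ := Groth.Agent.PSAutoH28.exists_equiv_mul_units
    (![C (↑k1⁻¹ : R) * v1, C (↑k2⁻¹ : R) * v2, 1] : Fin 3 → MvPowerSeries (Fin 3) R)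
    (fun i => by fin_cases i <;> simp [hv1', hv2'])
  refine ⟨ψ.symm, ?_⟩
  rw [AlgEquiv.symm_apply_eq]
  have hC : ∀ r : R, ψ (C r) = C r := fun r => ψ.commutes r
  simp only [map_add, map_mul, map_pow, hC, hψ, mul_pow, hv1, hv2, Matrix.cons_val, mul_one]
  have e1 : C sig ^ 2 * (C (↑k1⁻¹ : R) : MvPowerSeries (Fin 3) R) ^ 3 = C (s : R) ^ 2 := by
    rw [← map_pow, ← map_pow, ← map_pow, ← map_mul, ← h₁, mul_assoc, ← mul_pow, Units.mul_inv, one_pow, mul_one]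
  have e2 : C lam ^ 2 * (C (↑k2⁻¹ : R) : MvPowerSeries (Fin 3) R) ^ 3 = C (l : R) ^ 2 := by
    rw [← map_pow, ← map_pow, ← map_pow, ← map_mul, ← h₂, mul_assoc, ← mul_pow, Units.mul_inv, one_pow, mul_one]
  have es : (C (s : R) : MvPowerSeries (Fin 3) R) * C (↑s⁻¹ : R) = 1 := by
    rw [← map_mul, Units.mul_inv, map_one]
  have el : (C (l : R) : MvPowerSeries (Fin 3) R) * C (↑l⁻¹ : R) = 1 := by
    rw [← map_mul, Units.mul_inv, map_one]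
  set S := (C (s : R) : MvPowerSeries (Fin 3) R)
  set S' := (C (↑s⁻¹ : R) : MvPowerSeries (Fin 3) R)
  set L := (C (l : R) : MvPowerSeries (Fin 3) R)
  set L' := (C (↑l⁻¹ : R) : MvPowerSeries (Fin 3) R)
  linear_combination
    (-(X 0 : MvPowerSeries (Fin 3) R) ^ 3 * (1 + S' * C s2 * X 1 + S' * C s0 * X 1 ^ 2) ^ 2) * e1
    + (-(X 1 : MvPowerSeries (Fin 3) R) ^ 3 *
      (1 + L' ^ 2 * (C l2 ^ 2 * X 0 ^ 2 + C τ ^ 2 * X 0 ^ 3 + C l0 ^ 2 * X 0 ^ 4))) * e2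
    + (-(X 0 : MvPowerSeries (Fin 3) R) ^ 3 * (2 * S * C s2 * X 1 + 2 * S * C s0 * X 1 ^ 2
      + (S * S' + 1) * (C s2 * X 1 + C s0 * X 1 ^ 2) ^ 2)) * es
    + (-(X 1 : MvPowerSeries (Fin 3) R) ^ 3 * (L * L' + 1) *
      (C l2 ^ 2 * X 0 ^ 2 + C τ ^ 2 * X 0 ^ 3 + C l0 ^ 2 * X 0 ^ 4)) * el
    + (-(X 0 : MvPowerSeries (Fin 3) R) ^ 3 * (S * C s2 * X 1 + S * C s0 * X 1 ^ 2
      + C s2 * C s0 * X 1 ^ 3)) * C2

end Groth.Agent.S13127
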