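import Groth.Statements.S13128
import Groth.Agent.Lib.PSAutoH28.Basic

set_option autoImplicit false
universe u
open KumFam

namespace Groth.Agent.S13128

open MvPowerSeries in
/-- Let R be a commutative ring of characteristic 2, l0, l2, l4, s0, s2, s4, τ ∈ R with τ a unit, and α,
β ∈ R with l4² α⁴ + l2² α² + τ² α + l0² = 0 and s4² β⁴ + s2² β² + τ² β + s0² = 0. In characteristic
2 these relations give τ² α = (l4 α² + l2 α + l0)² and τ² β = (s4 β² + s2 β + s0)², so α = α′² and β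
= β′² with α′ = (l4 α² + l2 α + l0)/τ and β′ = (s4 β² + s2 β + s0)/τ. In R[[a, b, c]] (a = X 0, b =
X 1, c = X 2) put h = c² + τ² a b + (s4² b⁴ + s2² b²) a + (l4² a⁴ + l2² a²) b + l4² β a⁴ + l2² β a²
+ s4² α b⁴ + s2² α b²; this is the chart equation c² + τ² a b + (s4² b⁴ + s2² b² + s0²) a + (l4² a⁴
+ l2² a² + l0²) b after the substitution a ↦ a + α, b ↦ b + β, c ↦ c + τ α′ β′, which moves the
point (α, β, τ α′ β′) of that surface, where all partial derivatives vanish, to the origin. Then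
some R-algebra automorphism of R[[a, b, c]] maps h to c² + a b; consequently R[[a, b, c]]/(h) ≅
R[[a, b, c]]/(c² + a b), the completed local ring of an ordinary double point, constant over R. (The
published statement translates only a and b, so that its h carries the additional constant term τ² α
β; with that term h is a unit of R[[a, b, c]] whenever τ α β is a unit, for instance c² + a b + 1
over the field with two elements with l0 = s0 = τ = α = β = 1 and l2 = l4 = s2 = s4 = 0, and no ring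
automorphism carries a unit to c² + a b. The published proof begins by shifting c by a polynomial in
a, b whose constant term is τ α′ β′, a substitution of the polynomial ring which removes the term τ²
α β, and the rest of its argument takes place in R[[a, b, c]]; this row states the result for the
fully translated equation, which is what that argument proves.) -/
theorem result (R : Type u) [CommRing R] [CharP R 2]
    (l0 l2 l4 s0 s2 s4 τ α β : R) (hτ : IsUnit τ)
    (hα : l4 ^ 2 * α ^ 4 + l2 ^ 2 * α ^ 2 + τ ^ 2 * α + l0 ^ 2 = 0)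
    (hβ : s4 ^ 2 * β ^ 4 + s2 ^ 2 * β ^ 2 + τ ^ 2 * β + s0 ^ 2 = 0) :
    ∃ φ : MvPowerSeries (Fin 3) R ≃ₐ[R] MvPowerSeries (Fin 3) R,
      φ ((X 2 ^ 2 + C (τ ^ 2) * X 0 * X 1 + (C (s4 ^ 2) * X 1 ^ 4 + C (s2 ^ 2) * X 1 ^ 2) * X 0 +
          (C (l4 ^ 2) * X 0 ^ 4 + C (l2 ^ 2) * X 0 ^ 2) * X 1 + C (l4 ^ 2 * β) * X 0 ^ 4 +
          C (l2 ^ 2 * β) * X 0 ^ 2 + C (s4 ^ 2 * α) * X 1 ^ 4 + C (s2 ^ 2 * α) * X 1 ^ 2 :
          MvPowerSeries (Fin 3) R)) =
        (X 2 ^ 2 + X 0 * X 1 : MvPowerSeries (Fin 3) R) := by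
  classical
  obtain ⟨t, rfl⟩ := hτ
  have h2 : (2 : R) = 0 := CharTwo.two_eq_zero
  set a' : R := ↑t⁻¹ * (l4 * α ^ 2 + l2 * α + l0) with ha'
  set b' : R := ↑t⁻¹ * (s4 * β ^ 2 + s2 * β + s0) with hb'
  have et : (t : R) * ↑t⁻¹ = 1 := t.mul_inv
  have ea : a' ^ 2 = α := by
    rw [ha']
    linear_combination ((↑t⁻¹ : R) ^ 2) * hα - (α * ((t : R) * ↑t⁻¹ + 1)) * et
      + ((↑t⁻¹ : R) ^ 2 * (l4 * α ^ 2 * l2 * α + l4 * α ^ 2 * l0 + l2 * α * l0) - α * 1) * h2
  have eb : b' ^ 2 = β := by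
    rw [hb']
    linear_combination ((↑t⁻¹ : R) ^ 2) * hβ - (β * ((t : R) * ↑t⁻¹ + 1)) * et
      + ((↑t⁻¹ : R) ^ 2 * (s4 * β ^ 2 * s2 * β + s4 * β ^ 2 * s0 + s2 * β * s0) - β * 1) * h2
  have C2 : (2 : MvPowerSeries (Fin 3) R) = 0 := by
    rw [← map_ofNat (C : R →+* MvPowerSeries (Fin 3) R) 2, h2, map_zero]
  let W : MvPowerSeries (Fin 3) R := C ((t : R) ^ 2) + X 1 * (C (s2 ^ 2) + C (s4 ^ 2) * X 1 ^ 2)
    + X 0 * (C (l2 ^ 2) + C (l4 ^ 2) * X 0 ^ 2)
  obtain ⟨ψ₂, hψ₂, -⟩ := Groth.Agent.PSAutoH28.exists_equiv_mul_units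
    (![W, 1, 1] : Fin 3 → MvPowerSeries (Fin 3) R)
    (fun i => by fin_cases i <;> simp [W])
  let Q : MvPowerSeries (Fin 3) R := C (l4 * b') * X 0 ^ 2 + C (l2 * b') * X 0
    + C (s4 * a') * X 1 ^ 2 + C (s2 * a') * X 1
  let q : Fin 3 → MvPowerSeries (Fin 3) R := ![X 0, X 1, X 2 + Q]
  have hq : HasSubst q := hasSubst_of_constantCoeff_zero fun i => by fin_cases i <;> simp [q, Q]
  let T := substAlgHom (R := R) hq
  have hTC : ∀ r : R, T (C r) = C r := fun r => T.commutes r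
  have hT0 : T (X 0) = X 0 := substAlgHom_X hq 0
  have hT1 : T (X 1) = X 1 := substAlgHom_X hq 1
  have hT2 : T (X 2) = X 2 + Q := substAlgHom_X hq 2
  have hTT : ∀ f, T (T f) = f := by
    intro f
    simp only [T, substAlgHom_apply]
    rw [subst_comp_subst_apply hq hq]
    have : (fun s => subst q (q s)) = (X : Fin 3 → MvPowerSeries (Fin 3) R) := by
      funext i
      rw [← substAlgHom_apply hq]
      match i with
      | 0 => exact hT0
      | 1 => exact hT1
      | 2 =>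
        show T (q 2) = _
        simp only [q, Q, Matrix.cons_val, map_add, map_mul, map_pow, hT0, hT1, hT2, hTC]
        linear_combination ((C l4 : MvPowerSeries (Fin 3) R) * C b' * X 0 ^ 2 + C l2 * C b' * X 0
          + C s4 * C a' * X 1 ^ 2 + C s2 * C a' * X 1) * C2
    rw [this, subst_self]; rfl
  let ψ₁ : MvPowerSeries (Fin 3) R ≃ₐ[R] MvPowerSeries (Fin 3) R :=
    AlgEquiv.ofBijective T (Function.bijective_iff_has_inverse.2 ⟨T, hTT, hTT⟩)
  refine ⟨(ψ₂.trans ψ₁).symm, ?_⟩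
  rw [AlgEquiv.symm_apply_eq]
  have hC : ∀ r : R, ψ₂ (C r) = C r := fun r => ψ₂.commutes r
  simp only [AlgEquiv.trans_apply, map_add, map_mul, map_pow, hC, hψ₂, Matrix.cons_val, mul_one, W, ψ₁,
    AlgEquiv.coe_ofBijective, hT0, hT1, hT2, hTC]
  simp only [Q, ← ea, ← eb, map_pow, map_mul]
  linear_combination (-(X 2 : MvPowerSeries (Fin 3) R) * (C l4 * C b' * X 0 ^ 2 + C l2 * C b' * X 0
      + C s4 * C a' * X 1 ^ 2 + C s2 * C a' * X 1)
    - ((C l4 * C b' * X 0 ^ 2) * (C l2 * C b' * X 0 + C s4 * C a' * X 1 ^ 2 + C s2 * C a' * X 1)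
      + (C l2 * C b' * X 0) * (C s4 * C a' * X 1 ^ 2 + C s2 * C a' * X 1)
      + (C s4 * C a' * X 1 ^ 2) * (C s2 * C a' * X 1))) * C2

end Groth.Agent.S13128
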