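import Groth.Statements.S13129
import Groth.Agent.Lib.RatSingEuler13.Basic
import Groth.Agent.Lib.Fibration13.Basic
import Groth.Agent.Lib.EdgeOne28.Inj
import Groth.Agent.Lib.BiratPt18.Main
import Groth.Agent.Lib.NormStalk17.Scheme
import Groth.Agent.Lib.RegSmooth17.Scheme

set_option autoImplicit false
set_option linter.style.haveILetI false
set_option backward.isDefEq.respectTransparency false
set_option backward.isDefEq.respectTransparency.types false
set_option maxHeartbeats 800000
universe u
open CategoryTheory CategoryTheory.Limits AlgebraicGeometry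
open KumFam

namespace Groth.Agent.S13129

/-- Let k be an algebraically closed field, Y a proper normal surface over k (irreducible of dimension 2
with integrally closed local domains), X a proper smooth surface over k, and π : X → Y a k-morphism
which restricts to an isomorphism over Y minus a closed point y and whose fibre over y is
one-dimensional (a resolution of the singularity (Y, y)). Then R¹π_* O_X = 0 (first higher direct
image of the underlying abelian sheaf) if and only if χ(X, O_X) = χ(Y, O_Y). -/
theorem result (k : Type u) [Field k] [IsAlgClosed k]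
    (X Y : Scheme.{u}) [X.Over (Spec (CommRingCat.of k))] [Y.Over (Spec (CommRingCat.of k))]
    [IsProper (X ↘ Spec (CommRingCat.of k))] [IsProper (Y ↘ Spec (CommRingCat.of k))]
    [IrreducibleSpace X] [IrreducibleSpace Y] (hdX : topologicalKrullDim X = 2)
    (hdY : topologicalKrullDim Y = 2) [Smooth (X ↘ Spec (CommRingCat.of k))]
    (hYn : Pi1.IsNormalScheme Y) (π : X ⟶ Y) [π.IsOver (Spec (CommRingCat.of k))]
    (y : Y) (hy : IsClosed ({y} : Set Y))
    (hiso : IsIso (π ∣_ (⟨({y} : Set Y)ᶜ, hy.isOpen_compl⟩ : Y.Opens)))
    (hfib : topologicalKrullDim ((fun x : X => π.base x) ⁻¹' ({y} : Set Y)) = 1) :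
    IsZero ((Coh.RpushAb π 1).obj (Coh.toAb (Coh.structureModule X))) ↔
      Curv2.euler k X (Coh.structureModule X) = Curv2.euler k Y (Coh.structureModule Y) := by
  haveI : AlgebraicGeometry.IsReduced Y := NormStalk17.isReduced_of_normal hYn
  haveI : IsIntegral Y := isIntegral_of_irreducibleSpace_of_isReduced Y
  haveI : AlgebraicGeometry.IsReduced X := by
    haveI : ∀ z, _root_.IsReduced (X.presheaf.stalk z) := fun z =>
      haveI := SmoothReg17.isDomain_stalk (X ↘ Spec (CommRingCat.of k)) z
      inferInstance
    exact isReduced_of_isReduced_stalk X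
  haveI : IsIntegral X := isIntegral_of_irreducibleSpace_of_isReduced X
  haveI : IsProper (π ≫ (Y ↘ Spec (CommRingCat.of k))) := by
    rw [comp_over π (Spec (CommRingCat.of k))]; infer_instance
  haveI : IsProper π := MorphismProperty.of_postcomp (W := @IsProper) (W' := @IsSeparated) π
    (Y ↘ Spec (CommRingCat.of k)) inferInstance inferInstance
  let U : Y.Opens := ⟨({y} : Set Y)ᶜ, hy.isOpen_compl⟩
  have hU : (U : Set Y).Nonempty := by
    by_contra h
    rw [Set.not_nonempty_iff_eq_empty] at h
    haveI : Subsingleton Y := ⟨fun a b => by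
      have ha : a ∈ ({y} : Set Y) := by rw [Set.compl_empty_iff.1 h]; exact Set.mem_univ a
      have hb : b ∈ ({y} : Set Y) := by rw [Set.compl_empty_iff.1 h]; exact Set.mem_univ b
      exact (Set.mem_singleton_iff.1 ha).trans (Set.mem_singleton_iff.1 hb).symm⟩
    have h0 := hdY.symm.trans_le (topologicalKrullDim_zero_of_discreteTopology Y)
    exact absurd h0 (by decide)
  obtain ⟨hgen, hb⟩ := BiratPt18.birational_of_isIso_restrict π U hU hiso
  haveI := hb
  have h : π.base (genericPoint X) ⤳ genericPoint Y := specializes_of_eq hgen
  have h' : genericPoint Y ⤳ π.base (genericPoint X) := specializes_of_eq hgen.symm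
  haveI : IsIso (Y.presheaf.stalkSpecializes h) := ⟨Y.presheaf.stalkSpecializes h', by
      rw [TopCat.Presheaf.stalkSpecializes_comp, TopCat.Presheaf.stalkSpecializes_refl], by
      rw [TopCat.Presheaf.stalkSpecializes_comp, TopCat.Presheaf.stalkSpecializes_refl]⟩
  have hbij : Function.Bijective (CohIII.stalkToFunctionField π (genericPoint Y) h) :=
    (ConcreteCategory.bijective_of_isIso (π.stalkMap (genericPoint X))).comp
      (ConcreteCategory.bijective_of_isIso (Y.presheaf.stalkSpecializes h))
  have hO : IsIso (ClSub.unitToPush π) := EdgeOne28.isIso_unitToPush_of_isIso_app π fun V =>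
    (ConcreteCategory.isIso_iff_bijective _).2 (Fibration13.bijective_app_of_birational π hYn h hbij V)
  refine RatSingEuler13.main k π (comp_over π (Spec (CommRingCat.of k))) hO {y} hy
    (fun z hz => by rw [Set.mem_singleton_iff.1 hz]; exact hy) (fun z => ?_) (fun z hz => ?_)
  · by_cases hz : z = y
    · subst hz; exact hfib.le
    · exact (RatSingEuler13.dim_le_zero (W := U) hiso hz).trans zero_le_one
  · exact RatSingEuler13.dim_le_zero (W := U) hiso hz

end Groth.Agent.S13129
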