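import Groth.Statements.S13130
import Mathlib.Tactic
import Mathlib.RingTheory.MvPolynomial.Basic
import Mathlib.RingTheory.Ideal.Quotient.Operations
import Mathlib.LinearAlgebra.Basis.Basic
import Mathlib.Data.Matrix.Mul
import Mathlib.NumberTheory.Bernoulli
import Mathlib.RingTheory.PowerSeries.Inverse
import Mathlib.RingTheory.AdicCompletion.Basic
import Mathlib.LinearAlgebra.Matrix.Charpoly.Coeff
import Mathlib.Algebra.Polynomial.Expand
import Mathlib.NumberTheory.Padics.PadicVal.Basic
import Mathlib.RingTheory.IntegralClosure.IsIntegralClosure.Basic
import Mathlib.GroupTheory.Torsion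
import Mathlib.Algebra.MonoidAlgebra.Basic
import Mathlib.RingTheory.Norm.Basic
import Mathlib.LinearAlgebra.Eigenspace.Zero
import Mathlib.RingTheory.LocalRing.ResidueField.Basic
import Mathlib.RingTheory.Artinian.Module
import Mathlib.FieldTheory.IsAlgClosed.Basic
import Mathlib.RingTheory.Ideal.AssociatedPrime.Basic
import Mathlib.RingTheory.Ideal.MinimalPrime.Noetherian
import Mathlib.RingTheory.RegularLocalRing.Defs
import Mathlib.RingTheory.Ideal.KrullsHeightTheorem
import Mathlib.RingTheory.Nakayama

set_option autoImplicit false
universe u v
open KumFam

namespace Groth.Agent.S13130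

/-- Let R be a nontrivial commutative ring and M a commutative group, with group algebra R[M], the
coordinate ring of the diagonalizable group scheme D(M) over Spec R. Then D(M) is integral over Spec
R, i.e. R[M] is an integral R-algebra, if and only if M is a torsion group. (The published statement
is over an arbitrary base scheme; the question is local and this row is the affine form, with R
nontrivial so that the elements of M are R-linearly independent.) -/
theorem result (R : Type u) [CommRing R] [Nontrivial R]
    (M : Type v) [CommGroup M] :
    Algebra.IsIntegral R (MonoidAlgebra R M) ↔ IsMulTorsion M := by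
  constructor
  · intro h g
    by_contra hg
    obtain ⟨P, hP, hP0⟩ := h.isIntegral (MonoidAlgebra.of R M g)
    have h2 := congrArg (fun z => MonoidAlgebra.coeff z (g ^ P.natDegree)) hP0
    rw [← Polynomial.aeval_def, Polynomial.aeval_eq_sum_range] at h2
    simp only [MonoidAlgebra.coeff_sum, Finsupp.finsetSum_apply, MonoidAlgebra.coeff_zero, Finsupp.coe_zero, Pi.zero_apply, MonoidAlgebra.of_apply, MonoidAlgebra.single_pow, one_pow, MonoidAlgebra.smul_single, smul_eq_mul, mul_one, MonoidAlgebra.coeff_single, Finsupp.single_apply] at h2
    have hinj := injective_pow_iff_not_isOfFinOrder.2 hg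
    rw [Finset.sum_eq_single P.natDegree (fun b _ hb => Finsupp.single_eq_of_ne (fun e => hb (hinj e).symm)) (by simp), Finsupp.single_eq_same, hP.coeff_natDegree] at h2
    exact one_ne_zero h2
  · intro h
    refine ⟨fun x => ?_⟩
    induction x using MonoidAlgebra.induction_linear with
    | zero => exact isIntegral_zero
    | add f g hf hg => exact hf.add hg
    | single g r =>
      have : MonoidAlgebra.single g r = r • MonoidAlgebra.of R M g := by simp
      rw [this]
      refine IsIntegral.smul r (IsIntegral.of_pow (h g).orderOf_pos ?_)
      rw [← map_pow, pow_orderOf_eq_one, map_one]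
      exact isIntegral_one

end Groth.Agent.S13130
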