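import Groth.Statements.S13131
import Mathlib.AlgebraicGeometry.Limits

set_option autoImplicit false
universe u
open CategoryTheory CategoryTheory.Limits AlgebraicGeometry
open KumFam

namespace Groth.Agent.S13131

/-- Let S be a scheme, M a set and p : T → S a scheme over S. The S-morphisms T → ∐_{m ∈ M} S (the
constant S-scheme on M, with its structure map the codiagonal) are in bijection with the locally
constant maps T → M, a morphism f corresponding to the function sending t to the index of the copy
of S containing f(t). (In the published statement M is a group and ∐_M S the constant group scheme;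
the group structures play no role in this description of T-points.) -/
theorem result (S : Scheme.{u}) (M : Type u)
    (T : Scheme.{u}) (p : T ⟶ S) :
    ∃ e : {f : T ⟶ ∐ (fun _ : M => S) // f ≫ Sigma.desc (fun _ : M => 𝟙 S) = p} ≃
        LocallyConstant T M,
      ∀ (f : {f : T ⟶ ∐ (fun _ : M => S) // f ≫ Sigma.desc (fun _ : M => 𝟙 S) = p}) (t : T),
        e f t = ((sigmaMk (fun _ : M => S)).symm (f.1.base t)).1 := by
  let idx : (T ⟶ ∐ (fun _ : M => S)) → LocallyConstant T M := fun f =>
    ⟨fun t => ((sigmaMk (fun _ : M => S)).symm (f.base t)).1, fun s => by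
      refine IsOpen.preimage (f := fun t => (sigmaMk (fun _ : M => S)).symm (f.base t))
        ((sigmaMk (fun _ : M => S)).symm.continuous.comp f.continuous) (t := Sigma.fst ⁻¹' s) ?_
      rw [isOpen_sigma_iff]
      intro i
      by_cases h : i ∈ s
      · have : Sigma.mk i ⁻¹' (Sigma.fst ⁻¹' s : Set (Σ _ : M, S)) = Set.univ := by ext; simp [h]
        rw [this]; exact isOpen_univ
      · have : Sigma.mk i ⁻¹' (Sigma.fst ⁻¹' s : Set (Σ _ : M, S)) = ∅ := by ext; simp [h]
        rw [this]; exact isOpen_empty⟩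
  let U : LocallyConstant T M → M → T.Opens := fun φ m => ⟨φ ⁻¹' {m}, φ.isLocallyConstant _⟩
  have hcolim : ∀ φ : LocallyConstant T M,
      Nonempty (IsColimit (Cofan.mk T fun m => (U φ m).ι)) := fun φ => by
    refine nonempty_isColimit_cofanMk_of _ ?_ ?_
    · rw [eq_top_iff]
      intro t _
      rw [TopologicalSpace.Opens.mem_iSup]
      exact ⟨φ t, by simp [U]⟩
    · intro i j hij
      simp only [Scheme.Opens.opensRange_ι]
      show Disjoint (U φ i) (U φ j)
      rw [disjoint_iff]
      ext t
      simp only [U, TopologicalSpace.Opens.coe_inf, TopologicalSpace.Opens.coe_mk, Set.mem_inter_iff,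
        Set.mem_preimage, Set.mem_singleton_iff, TopologicalSpace.Opens.coe_bot,
        Set.mem_empty_iff_false, iff_false, not_and]
      exact fun h1 h2 => hij (h1.symm.trans h2)
  have hfac : ∀ (f : T ⟶ ∐ (fun _ : M => S)), f ≫ Sigma.desc (fun _ : M => 𝟙 S) = p → ∀ m,
      (U (idx f) m).ι ≫ f = (U (idx f) m).ι ≫ p ≫ Sigma.ι (fun _ : M => S) m := by
    intro f hf m
    have hrange : Set.range ((U (idx f) m).ι ≫ f) ⊆ Set.range (Sigma.ι (fun _ : M => S) m) := by
      rintro _ ⟨⟨t, ht⟩, rfl⟩
      have ht' : ((sigmaMk (fun _ : M => S)).symm (f.base t)).1 = m := ht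
      generalize hz : (sigmaMk (fun _ : M => S)).symm (f.base t) = z at ht'
      obtain ⟨i, x⟩ := z
      obtain rfl : i = m := ht'
      refine ⟨x, ?_⟩
      rw [← sigmaMk_mk, ← hz, Homeomorph.apply_symm_apply]
      rfl
    have h1 := IsOpenImmersion.lift_fac (Sigma.ι (fun _ : M => S) m) ((U (idx f) m).ι ≫ f) hrange
    have h2 := congrArg (fun z => z ≫ Sigma.desc (fun _ : M => 𝟙 S)) h1
    simp only [Category.assoc, colimit.ι_desc, Cofan.mk_ι_app, hf] at h2
    erw [Category.comp_id] at h2
    rw [← h1, h2, Category.assoc]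
  have hbij : Function.Bijective
      (fun f : {f : T ⟶ ∐ (fun _ : M => S) // f ≫ Sigma.desc (fun _ : M => 𝟙 S) = p} => idx f.1) := by
    constructor
    · rintro ⟨f, hf⟩ ⟨f', hf'⟩ h
      have h' : idx f = idx f' := h
      refine Subtype.ext (Cofan.IsColimit.hom_ext (hcolim (idx f)).some _ _ fun m => ?_)
      show (U (idx f) m).ι ≫ f = (U (idx f) m).ι ≫ f'
      rw [hfac f hf m, h', hfac f' hf' m]
    · intro φ
      let f := Cofan.IsColimit.desc (hcolim φ).some
        (fun m => (U φ m).ι ≫ p ≫ Sigma.ι (fun _ : M => S) m)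
      have hι : ∀ m, (U φ m).ι ≫ f = (U φ m).ι ≫ p ≫ Sigma.ι (fun _ : M => S) m := fun m =>
        Cofan.IsColimit.fac (hcolim φ).some _ m
      refine ⟨⟨f, Cofan.IsColimit.hom_ext (hcolim φ).some _ _ fun m => ?_⟩, LocallyConstant.ext fun t => ?_⟩
      · show (U φ m).ι ≫ f ≫ _ = (U φ m).ι ≫ p
        rw [← Category.assoc, hι m]
        simp
      · have h1 := congrArg (fun g : (U φ (φ t)).toScheme ⟶ _ => g.base ⟨t, rfl⟩) (hι (φ t))
        simp only [Scheme.Hom.comp_apply] at h1
        show ((sigmaMk (fun _ : M => S)).symm (f.base t)).1 = φ t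
        erw [h1, ← sigmaMk_mk, Homeomorph.symm_apply_apply]
  exact ⟨Equiv.ofBijective _ hbij, fun f t => rfl⟩

end Groth.Agent.S13131
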