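import Groth.Statements.S13132
import Groth.Statements.S13133
import Groth.Statements.S14434
import Groth.Statements.S12078
import Groth.Statements.S11180
import Groth.Agent.Lib.CI2.ArtinNzd
import Groth.Agent.Lib.CI2.TorKoszul
import Groth.Agent.Lib.EmbDef.Regular
import Groth.Agent.Lib.CplLocH7.Basic

set_option autoImplicit false
universe u v
open CAlg

namespace Groth.Agent.S13132

/-- Let A' be an Artinian local ring, I a proper ideal of A' and S' a flat A'-algebra. An element f' of
S' is a non-zero-divisor exactly when its image in S'/IS' is one; and when f' is a non-zero-divisor,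
the quotient S'/(f') is flat over A'. (The published statement is for local Artinian algebras with a
fixed residue field over a ring of Witt vectors and a surjection between two of them; the argument
uses only that A' is Artinian local and I is a proper ideal, which is the form taken here.) -/
theorem result
    {A' : Type u} [CommRing A'] [IsArtinianRing A'] [IsLocalRing A'] (I : Ideal A') (hI : I ≠ ⊤)
    {S' : Type v} [CommRing S'] [Algebra A' S'] [Module.Flat A' S'] (f' : S') :
    (f' ∈ nonZeroDivisors S' ↔
      Ideal.Quotient.mk (I.map (algebraMap A' S')) f' ∈ nonZeroDivisors (S' ⧸ I.map (algebraMap A' S'))) ∧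
    (f' ∈ nonZeroDivisors S' → Module.Flat A' (S' ⧸ Ideal.span {f'})) := by
  have h0 : f' ∈ nonZeroDivisors S' ↔
      ∀ t, f' * t ∈ (⊥ : Ideal A').map (algebraMap A' S') → t ∈ (⊥ : Ideal A').map (algebraMap A' S') := by
    rw [mem_nonZeroDivisors_iff_left]
    simp only [Ideal.map_bot, Ideal.mem_bot]
  have h1 : Ideal.Quotient.mk (I.map (algebraMap A' S')) f' ∈ nonZeroDivisors (S' ⧸ I.map (algebraMap A' S')) ↔
      ∀ t, f' * t ∈ I.map (algebraMap A' S') → t ∈ I.map (algebraMap A' S') := by
    rw [mem_nonZeroDivisors_iff_left]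
    refine ⟨fun h t ht => ?_, fun h x hx => ?_⟩
    · rw [← Ideal.Quotient.eq_zero_iff_mem] at ht ⊢
      exact h _ (by rw [← map_mul]; exact ht)
    · obtain ⟨x, rfl⟩ := Ideal.Quotient.mk_surjective x
      rw [← map_mul, Ideal.Quotient.eq_zero_iff_mem] at hx
      exact Ideal.Quotient.eq_zero_iff_mem.2 (h x hx)
  refine ⟨by rw [h0, h1]; exact Groth.Agent.CI2.nzd_mod_iff f' ⊥ I bot_ne_top hI, fun h => ?_⟩
  exact Groth.Agent.CI2.flat_quotient_of_nzd f' fun t ht => (mem_nonZeroDivisors_iff_left.1 h) t ht

end Groth.Agent.S13132
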