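import Groth.Statements.S13133
import Groth.Statements.S13132
import Groth.Statements.S14434
import Groth.Statements.S12078
import Groth.Statements.S11180
import Groth.Agent.Lib.CI2.ArtinNzd
import Groth.Agent.Lib.CI2.TorKoszul
import Groth.Agent.Lib.EmbDef.Regular
import Groth.Agent.Lib.CplLocH7.Basic

set_option autoImplicit false
universe u v
open CAlg

namespace Groth.Agent.S13133

theorem map_mk_iff {A : Type u} [CommRing A] {S : Type v} [CommRing S] [Algebra A S] (P : Ideal S) (J : Ideal A) (x : S) :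
    Ideal.Quotient.mk P x ∈ J.map (algebraMap A (S ⧸ P)) ↔ x ∈ P ⊔ J.map (algebraMap A S) := by
  rw [Ideal.Quotient.mk_comp_algebraMap A P |>.symm, ← Ideal.map_map, Ideal.mem_quotient_iff_mem_sup, sup_comm]

theorem prefix_key {A : Type u} [CommRing A] [IsArtinianRing A] [IsLocalRing A] (I : Ideal A) (hI : I ≠ ⊤)
    {S : Type v} [CommRing S] [Algebra A S] [Module.Flat A S] (l : List S) :
    ∀ i, i ≤ l.length →
      ((∀ j (hj : j < l.length), j < i → ∀ a, a * l[j] ∈ Ideal.ofList (l.take j) → a ∈ Ideal.ofList (l.take j)) ↔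
        (∀ j (hj : j < l.length), j < i → ∀ a, a * l[j] ∈ Ideal.ofList (l.take j) ⊔ I.map (algebraMap A S) →
          a ∈ Ideal.ofList (l.take j) ⊔ I.map (algebraMap A S))) ∧
      ((∀ j (hj : j < l.length), j < i → ∀ a, a * l[j] ∈ Ideal.ofList (l.take j) → a ∈ Ideal.ofList (l.take j)) →
        Module.Flat A (S ⧸ Ideal.ofList (l.take i))) := by
  intro i
  induction i with
  | zero =>
    refine fun _ => ⟨⟨fun _ j _ h => absurd h (Nat.not_lt_zero j), fun _ j _ h => absurd h (Nat.not_lt_zero j)⟩, fun _ => ?_⟩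
    have hbot : Ideal.ofList (l.take 0) = (⊥ : Ideal S) := by rw [List.take_zero, Ideal.ofList_nil]
    exact Module.Flat.of_linearEquiv (((Submodule.quotEquivOfEqBot _ hbot).restrictScalars A))
  | succ i ih =>
    intro hi
    obtain ⟨hiff, hfl⟩ := ih (Nat.le_of_succ_le hi)
    let P := Ideal.ofList (l.take i)
    have hsplit : ∀ (p : ∀ j, j < l.length → Prop), (∀ j (hj : j < l.length), j < i + 1 → p j hj) ↔
        (∀ j (hj : j < l.length), j < i → p j hj) ∧ p i hi := fun p =>
      ⟨fun h => ⟨fun j hj hji => h j hj (by omega), h i hi (by omega)⟩, fun h j hj hji => by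
        rcases Nat.lt_or_ge j i with hlt | hge
        · exact h.1 j hj hlt
        · obtain rfl : j = i := by omega
          exact h.2⟩
    have hmod : ∀ J : Ideal A, (∀ a, a * l[i] ∈ P ⊔ J.map (algebraMap A S) → a ∈ P ⊔ J.map (algebraMap A S)) ↔
        ∀ t : S ⧸ P, Ideal.Quotient.mk P l[i] * t ∈ J.map (algebraMap A (S ⧸ P)) → t ∈ J.map (algebraMap A (S ⧸ P)) := by
      intro J
      refine ⟨fun h t ht => ?_, fun h a ha => (map_mk_iff P J a).1 (h _ ?_)⟩
      · obtain ⟨t, rfl⟩ := Ideal.Quotient.mk_surjective t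
        rw [← map_mul, map_mk_iff, mul_comm] at ht
        exact (map_mk_iff P J t).2 (h t ht)
      · rw [← map_mul, map_mk_iff, mul_comm]
        exact ha
    have hP0 : P ⊔ (⊥ : Ideal A).map (algebraMap A S) = P := by rw [Ideal.map_bot, sup_bot_eq]
    have hstep : Module.Flat A (S ⧸ P) →
        ((∀ a, a * l[i] ∈ P → a ∈ P) ↔ ∀ a, a * l[i] ∈ P ⊔ I.map (algebraMap A S) → a ∈ P ⊔ I.map (algebraMap A S)) := by
      intro hf
      haveI := hf
      have := (hmod ⊥).trans ((Groth.Agent.CI2.nzd_mod_iff (Ideal.Quotient.mk P l[i]) ⊥ I bot_ne_top hI).trans (hmod I).symm)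
      rwa [hP0] at this
    refine ⟨?_, fun h => ?_⟩
    · rw [hsplit, hsplit]
      refine ⟨fun h => ⟨hiff.1 h.1, (hstep (hfl h.1)).1 h.2⟩, fun h => ⟨hiff.2 h.1, (hstep (hfl (hiff.2 h.1))).2 h.2⟩⟩
    · rw [hsplit] at h
      haveI := hfl h.1
      have h2 := Groth.Agent.CI2.flat_quotient_of_nzd (A := A) (Ideal.Quotient.mk P l[i]) fun t ht => by
        obtain ⟨t, rfl⟩ := Ideal.Quotient.mk_surjective t
        rw [← map_mul, Ideal.Quotient.eq_zero_iff_mem, mul_comm] at ht
        exact Ideal.Quotient.eq_zero_iff_mem.2 (h.2 t ht)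
      have hmap : (Ideal.span {l[i]}).map (Ideal.Quotient.mk P) = Ideal.span {Ideal.Quotient.mk P l[i]} := by
        rw [Ideal.map_span, Set.image_singleton]
      have e : ((S ⧸ P) ⧸ Ideal.span {Ideal.Quotient.mk P l[i]}) ≃ₐ[A] S ⧸ Ideal.ofList (l.take (i + 1)) :=
        (Ideal.quotientEquivAlgOfEq A hmap.symm).trans ((DoubleQuot.quotQuotEquivQuotSupₐ A P _).trans
          (Ideal.quotientEquivAlgOfEq A (by rw [List.take_succ_eq_append_getElem hi, Ideal.ofList_append, Ideal.ofList_singleton])))
      exact Module.Flat.of_linearEquiv e.symm.toLinearEquiv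

/-- Let A' be an Artinian local ring, I a proper ideal of A', S' a flat A'-algebra and f'_1, …, f'_n
elements of S' with n ≥ 1. A family f'_1, …, f'_n in S' is a regular sequence exactly when its
reduction modulo I·S' is a regular sequence of S'/IS'. (Regular sequences are defined in the
published text over Noetherian rings; this row does not assume S' Noetherian, which the argument
does not use. The published statement is for a surjection of local Artinian algebras with a fixed
residue field over a ring of Witt vectors; only the Artinian local base and the proper ideal are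
used, which is the form taken here.) -/
theorem result
    {A' : Type u} [CommRing A'] [IsArtinianRing A'] [IsLocalRing A'] (I : Ideal A') (hI : I ≠ ⊤)
    {S' : Type v} [CommRing S'] [Algebra A' S'] [Module.Flat A' S'] {n : ℕ} (hn : 1 ≤ n)
    (f' : Fin n → S') :
    RingTheory.Sequence.IsRegular S' (List.ofFn f') ↔
      RingTheory.Sequence.IsRegular (S' ⧸ I.map (algebraMap A' S'))
        (List.ofFn fun i => Ideal.Quotient.mk (I.map (algebraMap A' S')) (f' i)) := by
  let l := List.ofFn f'
  let μ := Ideal.Quotient.mk (I.map (algebraMap A' S'))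
  have hl : (List.ofFn fun i => μ (f' i)) = l.map μ := (List.map_ofFn).symm
  have hw : RingTheory.Sequence.IsWeaklyRegular (S' ⧸ I.map (algebraMap A' S')) (l.map μ) ↔
      ∀ j (hj : j < l.length), j < l.length → ∀ a, a * l[j] ∈ Ideal.ofList (l.take j) ⊔ I.map (algebraMap A' S') →
        a ∈ Ideal.ofList (l.take j) ⊔ I.map (algebraMap A' S') := by
    rw [Groth.Agent.EmbDef.isWeaklyRegular_self_iff]
    refine ⟨fun h j hj _ a ha => ?_, fun h j hj b hb => ?_⟩
    · have := h j (by rw [List.length_map]; exact hj) (μ a)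
      rw [List.getElem_map, ← List.map_take, ← Ideal.map_ofList, ← map_mul,
        Ideal.mem_quotient_iff_mem_sup, Ideal.mem_quotient_iff_mem_sup] at this
      exact this ha
    · rw [List.length_map] at hj
      obtain ⟨a, rfl⟩ := Ideal.Quotient.mk_surjective b
      rw [List.getElem_map, ← List.map_take, ← Ideal.map_ofList, ← map_mul, Ideal.mem_quotient_iff_mem_sup] at hb
      rw [← List.map_take, ← Ideal.map_ofList, Ideal.mem_quotient_iff_mem_sup]
      exact h j hj hj a hb
  have hnil : ∀ M : Ideal S', M.IsMaximal → I.map (algebraMap A' S') ≤ M := fun M hM x hx => by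
    obtain ⟨m, hm⟩ := Groth.Agent.CI2.maximal_nilpotent (A := A')
    have h1 := Ideal.pow_mem_pow (Ideal.map_mono (IsLocalRing.le_maximalIdeal hI) hx) m
    rw [← Ideal.map_pow, hm, Ideal.zero_eq_bot, Ideal.map_bot, Ideal.mem_bot] at h1
    exact hM.isPrime.mem_of_pow_mem m (h1 ▸ M.zero_mem)
  have htop : Ideal.ofList (l.map μ) • (⊤ : Submodule (S' ⧸ I.map (algebraMap A' S')) (S' ⧸ I.map (algebraMap A' S'))) = ⊤ ↔
      Ideal.ofList l • (⊤ : Submodule S' S') = ⊤ := by
    rw [smul_eq_mul, Ideal.mul_top, smul_eq_mul, Ideal.mul_top, ← Ideal.map_ofList]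
    refine ⟨fun h => ?_, fun h => by rw [h, Ideal.map_top]⟩
    have h1 : Ideal.ofList l ⊔ I.map (algebraMap A' S') = ⊤ := by
      rw [← Ideal.comap_top (f := μ), ← h, Ideal.comap_map_of_surjective' _ Ideal.Quotient.mk_surjective, Ideal.mk_ker]
    by_contra hne
    obtain ⟨M, hM, hle⟩ := Ideal.exists_le_maximal _ hne
    exact hM.ne_top (top_unique (h1 ▸ sup_le hle (hnil M hM)))
  rw [hl]
  refine ⟨fun h => ⟨hw.2 ?_, fun e => h.top_ne_smul (htop.1 e.symm).symm⟩,
    fun h => ⟨?_, fun e => h.top_ne_smul (htop.2 e.symm).symm⟩⟩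
  · exact ((prefix_key I hI l l.length le_rfl).1).1 fun j hj _ => (Groth.Agent.EmbDef.isWeaklyRegular_self_iff l).1 h.toIsWeaklyRegular j hj
  · rw [Groth.Agent.EmbDef.isWeaklyRegular_self_iff]
    exact fun j hj => ((prefix_key I hI l l.length le_rfl).1).2 (hw.1 h.toIsWeaklyRegular) j hj hj

end Groth.Agent.S13133
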