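import Groth.Statements.S13134
import Mathlib

set_option autoImplicit false
universe u v
open CAlg

namespace Groth.Agent.S13134

lemma eq_top_of_sup_smul_top {R M : Type*} [CommRing R] [AddCommGroup M] [Module R M] (I : Ideal R) (k : ℕ)
    (hk : I ^ k = ⊥) (N : Submodule R M) (h : ⊤ ≤ N ⊔ I • (⊤ : Submodule R M)) : N = ⊤ := by
  have : ∀ j : ℕ, ⊤ ≤ N ⊔ I ^ j • (⊤ : Submodule R M) := by
    intro j
    induction j with
    | zero => simp
    | succ j ih =>
      refine ih.trans (sup_le le_sup_left ?_)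
      calc I ^ j • (⊤ : Submodule R M) ≤ I ^ j • (N ⊔ I • ⊤) := Submodule.smul_mono le_rfl h
        _ = I ^ j • N ⊔ I ^ (j + 1) • ⊤ := by rw [Submodule.smul_sup, ← Submodule.mul_smul, pow_succ]
        _ ≤ _ := sup_le_sup (Submodule.smul_le_right) le_rfl
  have h2 := this k
  rw [hk, Submodule.bot_smul, sup_bot_eq] at h2
  exact top_le_iff.1 h2

lemma ker_le_of_sup {R M : Type*} [CommRing R] [AddCommGroup M] [Module R M] (I : Ideal R) (k : ℕ)
    (hk : I ^ k = ⊥) (N K : Submodule R M) (hNK : N ≤ K) (h : K ≤ N ⊔ I • K) : K ≤ N := by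
  have : ∀ j : ℕ, K ≤ N ⊔ I ^ j • K := by
    intro j
    induction j with
    | zero => simp
    | succ j ih =>
      refine ih.trans (sup_le le_sup_left ?_)
      calc I ^ j • K ≤ I ^ j • (N ⊔ I • K) := Submodule.smul_mono le_rfl h
        _ = I ^ j • N ⊔ I ^ (j + 1) • K := by rw [Submodule.smul_sup, ← Submodule.mul_smul, pow_succ]
        _ ≤ _ := sup_le_sup (Submodule.smul_le_right) le_rfl
  have h2 := this k
  rwa [hk, Submodule.bot_smul, sup_bot_eq] at h2


/-- Let A' be an Artinian local ring, I a proper ideal, A = A'/I and f_1, …, f_m ∈ A[x_1, …, x_n]. Every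
flat A'-algebra B' equipped with a surjection π onto A[x]/(f_1, …, f_m) with kernel I·B', compatible
with A' → A, is a quotient of A'[x_1, …, x_n] by the ideal generated by some lifts f'_1, …, f'_m of
the f_i, compatibly with π and with reduction of polynomials modulo I. (The published statement is
for a surjection of local Artinian algebras with a fixed residue field over a ring of Witt vectors;
only the Artinian local base and the proper ideal are used, which is the form taken here.) -/
theorem result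
    {A' : Type u} [CommRing A'] [IsArtinianRing A'] [IsLocalRing A'] (I : Ideal A') (hI : I ≠ ⊤)
    {n m : ℕ} (f : Fin m → MvPolynomial (Fin n) (A' ⧸ I))
    {B' : Type v} [CommRing B'] [Algebra A' B'] [Module.Flat A' B']
    (π : B' →+* MvPolynomial (Fin n) (A' ⧸ I) ⧸ Ideal.span (Set.range f))
    (hπ : Function.Surjective π) (hker : RingHom.ker π = I.map (algebraMap A' B'))
    (hcomp : π.comp (algebraMap A' B') =
      ((Ideal.Quotient.mk (Ideal.span (Set.range f))).comp MvPolynomial.C).comp (Ideal.Quotient.mk I)) :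
    ∃ (f' : Fin m → MvPolynomial (Fin n) A') (ψ : MvPolynomial (Fin n) A' →ₐ[A'] B'),
      (∀ i, MvPolynomial.map (Ideal.Quotient.mk I) (f' i) = f i) ∧
      Function.Surjective ψ ∧ RingHom.ker ψ.toRingHom = Ideal.span (Set.range f') ∧
      ∀ q, π (ψ q) = Ideal.Quotient.mk (Ideal.span (Set.range f)) (MvPolynomial.map (Ideal.Quotient.mk I) q) := by
  classical
  obtain ⟨k, hk⟩ : ∃ k, I ^ k = ⊥ := by
    obtain ⟨k, hk⟩ := IsArtinianRing.isNilpotent_jacobson_bot (R := A')
    exact ⟨k, le_bot_iff.1 ((Ideal.pow_right_mono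
      ((IsLocalRing.le_maximalIdeal hI).trans (IsLocalRing.maximalIdeal_le_jacobson _)) k).trans (le_of_eq hk))⟩
  let P := MvPolynomial (Fin n) A'
  let μ : P →+* MvPolynomial (Fin n) (A' ⧸ I) := MvPolynomial.map (Ideal.Quotient.mk I)
  have hμ : Function.Surjective μ := MvPolynomial.map_surjective _ Ideal.Quotient.mk_surjective
  choose b hb using fun i => hπ (Ideal.Quotient.mk (Ideal.span (Set.range f)) (MvPolynomial.X i))
  let ψ : P →ₐ[A'] B' := MvPolynomial.aeval b
  have hcomm : ∀ q, π (ψ q) = Ideal.Quotient.mk (Ideal.span (Set.range f)) (μ q) := by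
    intro q
    suffices π.comp ψ.toRingHom = (Ideal.Quotient.mk (Ideal.span (Set.range f))).comp μ from RingHom.congr_fun this q
    refine MvPolynomial.ringHom_ext (fun r => ?_) (fun i => ?_)
    · simpa [ψ, μ, P] using RingHom.congr_fun hcomp r
    · simpa [ψ, μ, P] using hb i
  have hIB : (I.map (algebraMap A' B')).restrictScalars A' = I • (⊤ : Submodule A' B') :=
    (Ideal.smul_top_eq_map I).symm
  have hψ : Function.Surjective ψ := by
    refine LinearMap.range_eq_top.1 (eq_top_of_sup_smul_top I k hk (LinearMap.range ψ.toLinearMap) fun y _ => ?_)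
    obtain ⟨q, hq⟩ := (Ideal.Quotient.mk_surjective.comp hμ) (π y)
    refine Submodule.mem_sup.2 ⟨ψ q, ⟨q, rfl⟩, y - ψ q, ?_, add_sub_cancel _ _⟩
    rw [← hIB]
    show y - ψ q ∈ I.map (algebraMap A' B')
    rw [← hker, RingHom.mem_ker, map_sub, hcomm]
    exact sub_eq_zero.2 hq.symm
  have hIP : ∀ q : P, q ∈ I • (⊤ : Submodule A' P) ↔ μ q = 0 := fun q => by
    rw [Ideal.smul_top_eq_map, Submodule.restrictScalars_mem, ← RingHom.mem_ker, MvPolynomial.ker_map,
      Ideal.mk_ker, MvPolynomial.algebraMap_eq]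
  have hmapI : (I • (⊤ : Submodule A' P)).map ψ.toLinearMap = I • (⊤ : Submodule A' B') := by
    rw [Submodule.map_smul'', Submodule.map_top, LinearMap.range_eq_top.2 hψ]
  have hf'ex : ∀ i, ∃ q : P, μ q = f i ∧ ψ q = 0 := by
    intro i
    obtain ⟨g, hg⟩ := hμ (f i)
    have h1 : ψ g ∈ I • (⊤ : Submodule A' B') := by
      rw [← hIB]
      show ψ g ∈ I.map (algebraMap A' B')
      rw [← hker, RingHom.mem_ker, hcomm, hg, Ideal.Quotient.eq_zero_iff_mem]
      exact Ideal.subset_span ⟨i, rfl⟩
    rw [← hmapI] at h1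
    obtain ⟨h, hh, hh'⟩ := h1
    refine ⟨g - h, by rw [map_sub, (hIP h).1 hh, hg, sub_zero], ?_⟩
    rw [map_sub, sub_eq_zero]
    exact hh'.symm
  choose f' hf1 hf2 using hf'ex
  refine ⟨f', ψ, hf1, hψ, le_antisymm ?_ (Ideal.span_le.2 ?_), hcomm⟩
  · let J : Ideal P := Ideal.span (Set.range f')
    let K : Submodule A' P := LinearMap.ker ψ.toLinearMap
    have hJK : J.restrictScalars A' ≤ K := fun x hx =>
      (Ideal.span_le (I := RingHom.ker ψ.toRingHom)).2 (by rintro _ ⟨i, rfl⟩; exact hf2 i) hx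
    have hle : K ≤ J.restrictScalars A' := by
      refine ker_le_of_sup I k hk _ K hJK fun q hq => ?_
      have h0 : Ideal.Quotient.mk (Ideal.span (Set.range f)) (μ q) = 0 := by
        rw [← hcomm, show ψ q = 0 from hq, map_zero]
      have h1 : μ q ∈ J.map μ := by
        rw [Ideal.map_span, ← Set.range_comp, show (μ ∘ f') = f from funext hf1]
        exact Ideal.Quotient.eq_zero_iff_mem.1 h0
      obtain ⟨j, hj, hjq⟩ := (Ideal.mem_map_iff_of_surjective μ hμ).1 h1
      refine Submodule.mem_sup.2 ⟨j, hj, q - j, ?_, add_sub_cancel _ _⟩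
      have h2 : q - j ∈ LinearMap.ker ψ.toLinearMap ⊓ I • (⊤ : Submodule A' P) :=
        ⟨sub_mem hq (hJK hj), (hIP _).2 (by rw [map_sub, hjq, sub_self])⟩
      rwa [LinearMap.ker_inf_smul_top_eq_smul_of_flat I ψ.toLinearMap hψ] at h2
    exact fun q hq => hle hq
  · rintro _ ⟨i, rfl⟩
    exact hf2 i

end Groth.Agent.S13134
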