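import Groth.Statements.S13135
import Mathlib
import Groth.Agent.Lib.RegFlat3.Basic
import Groth.Agent.Lib.FSFlat3.Converse
import Groth.Agent.Lib.Depth.CM
import Groth.Agent.Lib.Goren.CMHeight27

set_option autoImplicit false
universe u
open CAlg

namespace Groth.Agent.S13135


open RingTheory.Sequence in
lemma length_le_height_of_regular {R : Type u} [CommRing R] [IsNoetherianRing R] {rs : List R}
    (h : IsWeaklyRegular R rs) (Q : Ideal R) [Q.IsPrime] (hQ : ∀ r ∈ rs, r ∈ Q) :
    (rs.length : ℕ∞) ≤ Q.height := by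
  have hreg : IsRegular (Localization.AtPrime Q) (rs.map (algebraMap R (Localization.AtPrime Q))) :=
    h.isRegular_of_isLocalization_of_mem (Localization.AtPrime Q) Q hQ
  have e := ringKrullDim_add_length_eq_ringKrullDim_of_isRegular _ hreg
  rw [List.length_map, IsLocalization.AtPrime.ringKrullDim_eq_height Q (Localization.AtPrime Q)] at e
  haveI : Nontrivial (Localization.AtPrime Q ⧸ Ideal.ofList (rs.map (algebraMap R (Localization.AtPrime Q)))) := by
    refine Ideal.Quotient.nontrivial_iff.2 (fun ht => ?_)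
    apply hreg.top_ne_smul
    rw [ht, Submodule.top_smul]
  have h0 : (rs.length : WithBot ℕ∞) ≤ (Q.height : WithBot ℕ∞) :=
    calc (rs.length : WithBot ℕ∞) = 0 + rs.length := (zero_add _).symm
      _ ≤ ringKrullDim (Localization.AtPrime Q ⧸ Ideal.ofList (rs.map (algebraMap R (Localization.AtPrime Q)))) + rs.length :=
        add_le_add_left ringKrullDim_nonneg_of_nontrivial _ |> fun h => by simpa [add_comm] using h
      _ = _ := e
  exact WithBot.coe_le_coe.1 h0

lemma height_comap_of_nil {R S : Type u} [CommRing R] [CommRing S] (π : R →+* S) (hπ : Function.Surjective π)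
    (hker : RingHom.ker π ≤ nilradical R) (Q : Ideal S) [Q.IsPrime] : (Q.comap π).height = Q.height := by
  rw [show (Q.comap π).height = Order.height (PrimeSpectrum.comap π ⟨Q, inferInstance⟩) from
      PrimeSpectrum.height_eq_orderHeight (PrimeSpectrum.comap π ⟨Q, inferInstance⟩),
    show Q.height = Order.height (⟨Q, inferInstance⟩ : PrimeSpectrum S) from
      PrimeSpectrum.height_eq_orderHeight ⟨Q, inferInstance⟩]
  have hinj : Function.Injective (PrimeSpectrum.comap π) := PrimeSpectrum.comap_injective_of_surjective π hπ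
  have hsur : Function.Surjective (PrimeSpectrum.comap π) := fun p => by
    have hp : RingHom.ker π ≤ p.asIdeal := hker.trans (nilradical_le_prime p.asIdeal)
    haveI := Ideal.map_isPrime_of_surjective hπ hp
    refine ⟨⟨p.asIdeal.map π, inferInstance⟩, PrimeSpectrum.ext ?_⟩
    show (p.asIdeal.map π).comap π = p.asIdeal
    rw [Ideal.comap_map_of_surjective π hπ]
    exact sup_eq_left.2 hp
  let e : PrimeSpectrum S ≃o PrimeSpectrum R :=
    { toEquiv := Equiv.ofBijective _ ⟨hinj, hsur⟩
      map_rel_iff' := fun {a b} => by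
        show a.asIdeal.comap π ≤ b.asIdeal.comap π ↔ a.asIdeal ≤ b.asIdeal
        exact Ideal.comap_le_comap_iff_of_surjective π hπ _ _ }
  exact Order.height_orderIso e ⟨Q, inferInstance⟩

lemma mk_le_nilradical {A B : Type u} [CommRing A] [CommRing B] [IsArtinianRing A] [Algebra A B]
    (I : Ideal A) [IsLocalRing A] (hI : I ≠ ⊤) : I.map (algebraMap A B) ≤ nilradical B := by
  refine Ideal.map_le_iff_le_comap.2 fun x hx => ?_
  have hx' : x ∈ nilradical A := by
    rw [nilradical_eq_sInf, Ideal.mem_sInf]
    intro p hp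
    haveI : p.IsPrime := hp
    rw [IsLocalRing.eq_maximalIdeal (IsArtinianRing.isMaximal_of_isPrime p)]
    exact IsLocalRing.le_maximalIdeal hI hx
  exact (mem_nilradical.1 hx').map _

open RingTheory.Sequence IsLocalRing in
lemma flat_at_prime {A B : Type u} [CommRing A] [IsArtinianRing A] [IsLocalRing A] [CommRing B] [Algebra A B]
    [IsNoetherianRing B] [Module.Flat A B] [IsRegularRing (B ⧸ (maximalIdeal A).map (algebraMap A B))]
    (rs : List B) (P : Ideal B) [P.IsPrime] (hP : ∀ r ∈ rs, r ∈ P)
    (hht : ∀ Q : Ideal B, Q.IsPrime → (∀ r ∈ rs, r ∈ Q) → (rs.length : ℕ∞) ≤ Q.height) :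
    Module.Flat A (Localization.AtPrime P ⧸ (Ideal.ofList (rs.map (algebraMap B (Localization.AtPrime P))))) := by
  set L := Localization.AtPrime P
  haveI : IsNoetherianRing L := IsLocalization.isNoetherianRing P.primeCompl _ inferInstance
  haveI : Module.Flat A L := Module.Flat.trans A B L
  have hmm : (maximalIdeal A).map (algebraMap A B) ≤ P :=
    (mk_le_nilradical _ (maximalIdeal.isMaximal A).ne_top).trans (nilradical_le_prime P)
  haveI : IsLocalHom (algebraMap A L) := ⟨fun a ha => by
    by_contra h
    have h1 : algebraMap A L a ∈ maximalIdeal L := by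
      rw [IsScalarTower.algebraMap_apply A B L, IsLocalization.AtPrime.to_map_mem_maximal_iff L P]
      exact hmm (Ideal.mem_map_of_mem _ ((mem_maximalIdeal a).2 h))
    exact (mem_maximalIdeal _).1 h1 ha⟩
  set N := (maximalIdeal A).map (algebraMap A L) with hN
  haveI : IsRegularLocalRing (L ⧸ N) := FSFlat3.isRegularLocalRing_fibre_atPrime P hmm
  haveI : LocCoh.IsCohenMacaulayLocalRing (L ⧸ N) := DepthLib.isCohenMacaulayLocalRing_of_isRegularLocalRing
  set fs := rs.map (algebraMap B L)
  have hfs : ∀ f ∈ fs, f ∈ maximalIdeal L := by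
    intro f hf
    obtain ⟨r, hr, rfl⟩ := List.mem_map.1 hf
    exact (IsLocalization.AtPrime.to_map_mem_maximal_iff L P r).2 (hP r hr)
  set gs := fs.map (Ideal.Quotient.mk N)
  have hgs : ∀ g ∈ gs, g ∈ maximalIdeal (L ⧸ N) := by
    intro g hg
    obtain ⟨f, hf, rfl⟩ := List.mem_map.1 hg
    rw [← IsLocalRing.map_maximalIdeal_of_surjective _ Ideal.Quotient.mk_surjective]
    exact Ideal.mem_map_of_mem _ (hfs f hf)
  have hne : Ideal.ofList gs ≠ ⊤ :=
    ne_top_of_le_ne_top (maximalIdeal.isMaximal _).ne_top (Ideal.span_le.2 hgs)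
  have hhgt : (gs.length : ℕ∞) ≤ (Ideal.ofList gs).height := by
    rw [Ideal.height_eq_inf_minimalPrimes]
    refine le_iInf₂ fun Q hQ => ?_
    haveI : Q.IsPrime := hQ.1.1
    have hNnil : N ≤ nilradical L := mk_le_nilradical _ (maximalIdeal.isMaximal A).ne_top
    have e1 := height_comap_of_nil (Ideal.Quotient.mk N) Ideal.Quotient.mk_surjective (by rwa [Ideal.mk_ker]) Q
    have e2 := IsLocalization.height_comap P.primeCompl (Q.comap (Ideal.Quotient.mk N))
    rw [← e1, ← e2, List.length_map, List.length_map]
    refine hht _ inferInstance fun r hr => ?_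
    exact hQ.1.2 (Ideal.subset_span (List.mem_map.2 ⟨_, List.mem_map.2 ⟨r, hr, rfl⟩, rfl⟩))
  have hw : IsWeaklyRegular (L ⧸ N) gs := by
    refine DepthLib.isWeaklyRegular_of_length_le_idealDepth gs hgs ?_
    rwa [GorenLib.idealDepth_eq_height _ hne]
  have hw' : IsWeaklyRegular (L ⧸ (N • (⊤ : Submodule L L))) fs := by
    have h2 : IsWeaklyRegular (L ⧸ N) fs := (isWeaklyRegular_map_algebraMap_iff (L ⧸ N) (L ⧸ N) fs).1 hw
    exact ((Submodule.quotEquivOfEq _ _ (show N • (⊤ : Submodule L L) = N by simp)).isWeaklyRegular_congr fs).2 h2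
  obtain ⟨-, h⟩ := RegFlat3.regular_flat_of_fibre (A := A) fs L hw'
  haveI := h fs.length le_rfl
  rw [List.take_length] at this
  exact Module.Flat.of_linearEquiv
    ((Submodule.quotEquivOfEq _ _ (show Ideal.ofList fs • (⊤ : Submodule L L) = Ideal.ofList fs by simp)).restrictScalars A).symm

lemma flat_quotient {A B : Type u} [CommRing A] [IsArtinianRing A] [IsLocalRing A] [CommRing B] [Algebra A B]
    [IsNoetherianRing B] [Module.Flat A B] [IsRegularRing (B ⧸ (IsLocalRing.maximalIdeal A).map (algebraMap A B))]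
    (rs : List B) (hht : ∀ Q : Ideal B, Q.IsPrime → (∀ r ∈ rs, r ∈ Q) → (rs.length : ℕ∞) ≤ Q.height) :
    Module.Flat A (B ⧸ Ideal.ofList rs) := by
  refine Module.flat_of_isLocalized_maximal (R := A) (S := B) (B ⧸ Ideal.ofList rs)
    (fun P _ => Localization.AtPrime P ⧸ Submodule.localized' (Localization.AtPrime P) P.primeCompl
      (Algebra.linearMap B (Localization.AtPrime P)) (Ideal.ofList rs))
    (fun P _ => Submodule.toLocalizedQuotient' (Localization.AtPrime P) P.primeCompl
      (Algebra.linearMap B (Localization.AtPrime P)) (Ideal.ofList rs)) ?_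
  intro P _
  have e : Submodule.localized' (Localization.AtPrime P) P.primeCompl (Algebra.linearMap B (Localization.AtPrime P))
      (Ideal.ofList rs) = (Ideal.ofList rs).map (algebraMap B (Localization.AtPrime P)) :=
    Ideal.localized'_eq_map _ _ _
  suffices Module.Flat A (Localization.AtPrime P ⧸ (Ideal.ofList rs).map (algebraMap B (Localization.AtPrime P))) from
    Module.Flat.of_linearEquiv ((Submodule.quotEquivOfEq _ _ e).restrictScalars A)
  by_cases hP : ∀ r ∈ rs, r ∈ P
  · rw [Ideal.map_ofList]
    exact flat_at_prime rs P hP hht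
  · push_neg at hP
    obtain ⟨r, hr, hrP⟩ := hP
    have : (Ideal.ofList rs).map (algebraMap B (Localization.AtPrime P)) = ⊤ :=
      Ideal.eq_top_of_isUnit_mem _ (Ideal.mem_map_of_mem _ (Ideal.subset_span hr))
        (IsLocalization.map_units (Localization.AtPrime P) (⟨r, hrP⟩ : P.primeCompl))
    haveI : Subsingleton (Localization.AtPrime P ⧸ (Ideal.ofList rs).map (algebraMap B (Localization.AtPrime P))) :=
      Ideal.Quotient.subsingleton_iff.2 this
    infer_instance


/-- Let A' be an Artinian local ring, I a proper ideal, A = A'/I and f_1, …, f_m a regular sequence in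
A[x_1, …, x_n]. For every choice of lifts f'_1, …, f'_m in A'[x_1, …, x_n] the quotient A'[x]/(f'_1,
…, f'_m) is flat over A' (so it is a flat lifting of A[x]/(f_1, …, f_m)). (The published statement
is for a surjection of local Artinian algebras with a fixed residue field over a ring of Witt
vectors; only the Artinian local base and the proper ideal are used, which is the form taken here.) -/
theorem result
    {A' : Type u} [CommRing A'] [IsArtinianRing A'] [IsLocalRing A'] (I : Ideal A') (hI : I ≠ ⊤)
    {n m : ℕ} (f : Fin m → MvPolynomial (Fin n) (A' ⧸ I))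
    (hreg : RingTheory.Sequence.IsRegular (MvPolynomial (Fin n) (A' ⧸ I)) (List.ofFn f))
    (f' : Fin m → MvPolynomial (Fin n) A') (hf' : ∀ i, MvPolynomial.map (Ideal.Quotient.mk I) (f' i) = f i) :
    Module.Flat A' (MvPolynomial (Fin n) A' ⧸ Ideal.span (Set.range f')) := by
  classical
  letI := Ideal.Quotient.field (IsLocalRing.maximalIdeal A')
  haveI : IsRegularRing (MvPolynomial (Fin n) A' ⧸ (IsLocalRing.maximalIdeal A').map (algebraMap A' (MvPolynomial (Fin n) A'))) := by
    haveI : IsRegularRing (A' ⧸ IsLocalRing.maximalIdeal A') := inferInstance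
    exact IsRegularRing.of_ringEquiv
      (MvPolynomial.quotientEquivQuotientMvPolynomial (σ := Fin n) (IsLocalRing.maximalIdeal A')).toRingEquiv
  have hspan : Ideal.span (Set.range f') = Ideal.ofList (List.ofFn f') := by
    show Ideal.span _ = Ideal.span _
    congr 1
    ext a
    simp [List.mem_ofFn]
  rw [hspan]
  refine flat_quotient _ fun Q hQ hmem => ?_
  let π : MvPolynomial (Fin n) A' →+* MvPolynomial (Fin n) (A' ⧸ I) := MvPolynomial.map (Ideal.Quotient.mk I)
  have hπ : Function.Surjective π := MvPolynomial.map_surjective _ Ideal.Quotient.mk_surjective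
  have hker : RingHom.ker π ≤ nilradical _ := by
    rw [show RingHom.ker π = I.map MvPolynomial.C by
      simp [π, MvPolynomial.ker_map, Ideal.mk_ker]]
    exact mk_le_nilradical (B := MvPolynomial (Fin n) A') I hI
  haveI := hQ
  haveI hQ' := Ideal.map_isPrime_of_surjective hπ (hker.trans (nilradical_le_prime Q))
  have e := height_comap_of_nil π hπ hker (Q.map π)
  rw [Ideal.comap_map_of_surjective π hπ, ← RingHom.ker_eq_comap_bot, sup_eq_left.2 (hker.trans (nilradical_le_prime Q))] at e
  rw [e, List.length_ofFn, ← List.length_ofFn (f := f)]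
  refine length_le_height_of_regular hreg.toIsWeaklyRegular _ fun r hr => ?_
  obtain ⟨i, rfl⟩ := List.mem_ofFn.1 hr
  rw [← hf' i]
  exact Ideal.mem_map_of_mem π (hmem _ (List.mem_ofFn.2 ⟨i, rfl⟩))

end Groth.Agent.S13135
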