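import Groth.Statements.S13137
import Groth.Agent.Lib.W2Lift.Flat

set_option autoImplicit false
universe u v
open FrobAlg

namespace Groth.Agent.S13137

/-- For a perfect field k of characteristic p, a flat W₂(k)-algebra B and an ideal J of B, the quotient
B/J is flat over W₂(k) if and only if (p) ∩ J = pJ in B. (With B a flat lifting of A = B/pB this
says: B/J is a flat lifting of A modulo the image of J exactly when (p) ∩ J = pJ.) -/
theorem result
    (p : ℕ) [Fact p.Prime] (k : Type u) [Field k] [CharP k p] [PerfectRing k p]
    (B : Type v) [CommRing B] [Algebra (FrobAlg.W2 p k) B] [Module.Flat (FrobAlg.W2 p k) B]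
    (J : Ideal B) :
    Module.Flat (FrobAlg.W2 p k) (B ⧸ J) ↔
      Ideal.span {(p : B)} ⊓ J = Ideal.span {(p : B)} * J := by
  exact Groth.Agent.W2Lift.flat_quotient_iff J
end Groth.Agent.S13137
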