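import Groth.Statements.S13138
import Groth.Agent.Lib.W2Lift.Flat
import Mathlib.Algebra.MvPolynomial.PDeriv
import Mathlib.Tactic.LinearCombination

set_option autoImplicit false
universe u
open scoped BigOperators
open FrobAlg

namespace Groth.Agent.S13138

open MvPolynomial W2Lift

variable {p : ℕ} [hp : Fact p.Prime] {k : Type u} [Field k] [CharP k p] [PerfectRing k p] {n : ℕ}

local notation "P" => MvPolynomial (Fin n) (W2 p k)

theorem ker_map_res : RingHom.ker (map (res p k) : P →+* MvPolynomial (Fin n) k) = Ideal.span {(p : P)} := by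
  rw [MvPolynomial.ker_map, ker_res, Ideal.map_span, Set.image_singleton, map_natCast]

theorem pP_sq : (p : P) * (p : P) = 0 := by
  rw [← map_natCast (C : W2 p k →+* P), ← map_mul, p_mul_p, map_zero]

theorem p_mul_congr {a b : P} (h : map (res p k) a = map (res p k) b) : (p : P) * a = (p : P) * b := by
  have h' : a - b ∈ RingHom.ker (map (res p k) : P →+* MvPolynomial (Fin n) k) := by
    rw [RingHom.mem_ker, map_sub, h, sub_self]
  rw [ker_map_res, Ideal.mem_span_singleton'] at h'
  obtain ⟨c, hc⟩ := h'
  rw [← sub_eq_zero, ← mul_sub, ← hc, mul_comm c, ← mul_assoc, pP_sq, zero_mul]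

theorem map_polyFrob (a : P) : map (res p k) (polyFrob p k (Fin n) a) = map (res p k) a ^ p := by
  have : (MvPolynomial.map (res p k)).comp (polyFrob p k (Fin n)) =
      (frobenius (MvPolynomial (Fin n) k) p).comp (MvPolynomial.map (res p k)) := by
    refine MvPolynomial.ringHom_ext (fun w => ?_) fun i => ?_
    · simp [polyFrob, WittGrp.coeff_frob, frobenius_def]
    · simp [polyFrob, frobenius_def]
  exact RingHom.congr_fun this a

/-- The lift of Frobenius moving the variables by `p • h`. -/
noncomputable def psi (h : Fin n → P) : P →+* P :=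
  eval₂Hom (C.comp (sigma p k)) fun i => X i ^ p + (p : P) * h i

theorem psi_eq (h : Fin n → P) (f : P) :
    psi h f = polyFrob p k (Fin n) f + (p : P) * ∑ j, pderiv j f ^ p * h j := by
  induction f using MvPolynomial.induction_on with
  | C w =>
    simp [psi, polyFrob, pderiv_C, zero_pow hp.out.ne_zero]
  | add a b ha hb =>
    rw [map_add, ha, hb, map_add]
    have e : (p : P) * ∑ j, pderiv j (a + b) ^ p * h j = (p : P) * ∑ j, (pderiv j a ^ p + pderiv j b ^ p) * h j := by
      refine p_mul_congr ?_
      simp only [map_sum, map_mul, map_add, map_pow, add_pow_char]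
    rw [e]
    simp only [add_mul, Finset.sum_add_distrib, mul_add]
    abel
  | mul_X f i hf =>
    have e : (p : P) * ∑ j, pderiv j (f * X i) ^ p * h j =
        (p : P) * ((∑ j, pderiv j f ^ p * h j) * X i ^ p + polyFrob p k (Fin n) f * h i) := by
      refine p_mul_congr ?_
      simp only [map_sum, map_mul, map_add, map_pow, map_polyFrob, pderiv_mul, add_pow_char, add_mul,
        Finset.sum_add_distrib, Finset.sum_mul]
      congr 1
      · exact Finset.sum_congr rfl fun j _ => by ring
      · rw [Finset.sum_eq_single i (fun j _ hj => by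
          rw [pderiv_X, Pi.single_eq_of_ne (Ne.symm hj), map_zero, mul_zero, zero_pow hp.out.ne_zero, zero_mul]) (by simp)]
        rw [pderiv_X, Pi.single_eq_same, map_one, mul_one]
    rw [map_mul, map_mul, hf, e]
    have hX : psi h (X i) = X i ^ p + (p : P) * h i := by simp [psi]
    have hX' : polyFrob p k (Fin n) (X i) = X i ^ p := by simp [polyFrob]
    rw [hX, hX']
    linear_combination ((∑ j, pderiv j f ^ p * h j) * h i) * (pP_sq (p := p) (k := k) (n := n))

theorem psi_neg_sub (h : Fin n → P) (f : P) :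
    psi (fun j => - h j) f - f ^ p =
      polyFrob p k (Fin n) f - f ^ p - (p : P) * ∑ j, pderiv j f ^ p * h j := by
  rw [psi_eq]
  simp only [mul_neg, Finset.sum_neg_distrib]
  ring


/-- Let k be a perfect field of characteristic p, R' = W₂(k)[x_1, …, x_n], f'_1, …, f'_m ∈ R' with
reductions f_1, …, f_m ∈ R = k[x_1, …, x_n], J' = (f'_1, …, f'_m), J = (f_1, …, f_m), and assume B'
= R'/J' is flat over W₂(k), so that it is a flat lifting of B = R/J. The Frobenius of B lifts to B'
— there is a ring endomorphism of B' semilinear for the Witt-vector Frobenius σ₂ of W₂(k) and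
reducing to the p-th power map of B — if and only if there are h_1, …, h_n ∈ R' with F'(f'_i) −
f'_i^p − p·Σ_j (∂f'_i/∂x_j)^p h_j ∈ pJ' for every i, where F' is the standard Frobenius lift of R'
(σ₂ on coefficients, x_j ↦ x_j^p). Since multiplication by p identifies R with pR', this is the
congruence P(f'_i) ≡ Σ_j (∂f_i/∂x_j)^p h_j modulo J for the Frobenius residues P(f'_i) = (F'(f'_i) −
f'_i^p)/p. -/
theorem result
    (p : ℕ) [Fact p.Prime] (k : Type u) [Field k] [CharP k p] [PerfectRing k p]
    {n m : ℕ} (f' : Fin m → MvPolynomial (Fin n) (FrobAlg.W2 p k))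
    (hflat : ((Ideal.Quotient.mk (Ideal.span (Set.range f'))).comp
      (MvPolynomial.C : FrobAlg.W2 p k →+* MvPolynomial (Fin n) (FrobAlg.W2 p k))).Flat) :
    (∃ Φ : (MvPolynomial (Fin n) (FrobAlg.W2 p k) ⧸ Ideal.span (Set.range f')) →+*
        (MvPolynomial (Fin n) (FrobAlg.W2 p k) ⧸ Ideal.span (Set.range f')),
      Φ.comp ((Ideal.Quotient.mk (Ideal.span (Set.range f'))).comp MvPolynomial.C) =
        ((Ideal.Quotient.mk (Ideal.span (Set.range f'))).comp MvPolynomial.C).comp (FrobAlg.sigma p k) ∧
      ∀ b, Ideal.quotientMap ((Ideal.span (Set.range f')).map (MvPolynomial.map (FrobAlg.res p k)))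
          (MvPolynomial.map (FrobAlg.res p k)) Ideal.le_comap_map (Φ b) =
        (Ideal.quotientMap ((Ideal.span (Set.range f')).map (MvPolynomial.map (FrobAlg.res p k)))
          (MvPolynomial.map (FrobAlg.res p k)) Ideal.le_comap_map b) ^ p) ↔
    ∃ h : Fin n → MvPolynomial (Fin n) (FrobAlg.W2 p k), ∀ i,
      FrobAlg.polyFrob p k (Fin n) (f' i) - f' i ^ p
        - (p : MvPolynomial (Fin n) (FrobAlg.W2 p k)) * ∑ j, MvPolynomial.pderiv j (f' i) ^ p * h j
        ∈ Ideal.span {(p : MvPolynomial (Fin n) (FrobAlg.W2 p k))} * Ideal.span (Set.range f') := by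
  classical
  set I := Ideal.span (Set.range f') with hI
  let J := I.map (MvPolynomial.map (FrobAlg.res p k))
  let q := Ideal.quotientMap J (MvPolynomial.map (FrobAlg.res p k)) (I := I) Ideal.le_comap_map
  have hq : ∀ a, q (Ideal.Quotient.mk I a) = Ideal.Quotient.mk J (MvPolynomial.map (FrobAlg.res p k) a) := fun a => rfl
  constructor
  · rintro ⟨Φ, hΦ, hred⟩
    have hx : ∀ j, ∃ g, Φ (Ideal.Quotient.mk I (MvPolynomial.X j)) =
        Ideal.Quotient.mk I (MvPolynomial.X j ^ p - (p : MvPolynomial (Fin n) (W2 p k)) * g) := by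
      intro j
      obtain ⟨a, ha⟩ := Ideal.Quotient.mk_surjective (Φ (Ideal.Quotient.mk I (MvPolynomial.X j)))
      have h0 := hred (Ideal.Quotient.mk I (MvPolynomial.X j))
      rw [← ha, hq, hq, ← map_pow, ← map_pow, Ideal.Quotient.eq] at h0
      obtain ⟨z, hz, hz'⟩ := (Ideal.mem_map_iff_of_surjective _ (MvPolynomial.map_surjective _ fun c =>
        ⟨WittVector.truncate 2 (WittVector.mk p fun _ => c), res_truncate p k _⟩)).1 h0
      have hk : a - MvPolynomial.X j ^ p - z ∈ RingHom.ker (MvPolynomial.map (res p k) : MvPolynomial (Fin n) (W2 p k) →+* _) := by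
        rw [RingHom.mem_ker, map_sub, hz', map_sub]; ring
      rw [ker_map_res, Ideal.mem_span_singleton'] at hk
      obtain ⟨g, hg⟩ := hk
      refine ⟨-g, ha.symm.trans (Ideal.Quotient.eq.2 ?_)⟩
      convert hz using 1
      linear_combination -hg
    choose h hh using hx
    refine ⟨h, fun i => ?_⟩
    have hcomp : Φ.comp (Ideal.Quotient.mk I) = (Ideal.Quotient.mk I).comp (psi fun j => - h j) := by
      refine MvPolynomial.ringHom_ext (fun w => ?_) fun j => ?_
      · refine (RingHom.congr_fun hΦ w).trans ?_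
        simp [psi]
      · refine (hh j).trans ?_
        simp [psi, sub_eq_add_neg]
    have hmem : psi (fun j => - h j) (f' i) ∈ I := by
      rw [← Ideal.Quotient.eq_zero_iff_mem, ← RingHom.comp_apply, ← hcomp, RingHom.comp_apply,
        Ideal.Quotient.eq_zero_iff_mem.2 (show f' i ∈ I from Ideal.subset_span ⟨i, rfl⟩), map_zero]
    rw [← psi_neg_sub]
    haveI : Module.Flat (W2 p k) (MvPolynomial (Fin n) (W2 p k) ⧸ I) := by
      have := hflat
      rwa [show (Ideal.Quotient.mk I).comp MvPolynomial.C = algebraMap (W2 p k) _ from rfl,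
        RingHom.flat_algebraMap_iff] at this
    rw [← (W2Lift.flat_quotient_iff (p := p) (k := k) I).1 ‹_›, Ideal.mem_inf]
    refine ⟨?_, I.sub_mem hmem (I.pow_mem_of_mem (show f' i ∈ I from Ideal.subset_span ⟨i, rfl⟩) p (Fact.out : p.Prime).pos)⟩
    rw [← ker_map_res, RingHom.mem_ker, map_sub, psi_eq, map_add, map_polyFrob, map_mul, map_natCast, map_pow,
      CharP.cast_eq_zero, zero_mul, add_zero, sub_self]
  · rintro ⟨h, hh⟩
    have hmem : I ≤ RingHom.ker ((Ideal.Quotient.mk I).comp (psi fun j => - h j)) := by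
      refine Ideal.span_le.2 ?_
      rintro _ ⟨i, rfl⟩
      refine Ideal.Quotient.eq_zero_iff_mem.2 ?_
      have h1 := Ideal.mul_le_right (hh i)
      rw [← psi_neg_sub] at h1
      simpa using I.add_mem h1 (I.pow_mem_of_mem (show f' i ∈ I from Ideal.subset_span ⟨i, rfl⟩) p (Fact.out : p.Prime).pos)
    refine ⟨Ideal.Quotient.lift I ((Ideal.Quotient.mk I).comp (psi fun j => - h j)) fun a ha => hmem ha, ?_, ?_⟩
    · refine RingHom.ext fun w => ?_
      simp [psi]
    · intro b
      obtain ⟨a, rfl⟩ := Ideal.Quotient.mk_surjective b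
      rw [Ideal.Quotient.lift_mk, RingHom.comp_apply, hq, hq, ← map_pow, psi_eq, map_add, map_polyFrob, map_mul,
        map_natCast, CharP.cast_eq_zero, zero_mul, add_zero]
end Groth.Agent.S13138
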