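import Groth.Statements.S13139
import Groth.Agent.S13138
import Mathlib.RingTheory.Regular.RegularSequence

set_option autoImplicit false
universe u
open scoped BigOperators
open FrobAlg

namespace Groth.Agent.S13139

open MvPolynomial W2Lift

variable {p : ℕ} [hp : Fact p.Prime] {k : Type u} [Field k] [CharP k p] [PerfectRing k p] {n : ℕ}

local notation "P" => MvPolynomial (Fin n) (W2 p k)
local notation "R" => MvPolynomial (Fin n) k

theorem map_res_surjective : Function.Surjective (map (res p k) : P →+* R) :=
  MvPolynomial.map_surjective _ fun c => ⟨WittVector.truncate 2 (WittVector.mk p fun _ => c), res_truncate p k _⟩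

theorem torsion_free (a : P) (ha : (p : P) * a = 0) : map (res p k) a = 0 := by
  rw [← RingHom.mem_ker, MvPolynomial.ker_map, MvPolynomial.mem_map_C_iff]
  intro m
  have h := congrArg (MvPolynomial.coeff m) ha
  rw [← map_natCast (C : W2 p k →+* P) p, MvPolynomial.coeff_C_mul, MvPolynomial.coeff_zero, mul_comm] at h
  exact res_eq_zero_of_mul_p h

/-- Lifts of a regular sequence generate an ideal with flat quotient. -/
theorem torsion_mod {m : ℕ} (f : Fin m → R) (f' : Fin m → P) (hf : ∀ i, map (res p k) (f' i) = f i)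
    (hreg : RingTheory.Sequence.IsWeaklyRegular R (List.ofFn f)) :
    ∀ a : P, (p : P) * a ∈ Ideal.span (Set.range f') → map (res p k) a ∈ Ideal.span (Set.range f) := by
  let J : ℕ → Ideal P := fun i => Ideal.span (f' '' {l | (l : ℕ) < i})
  have key : ∀ i, i ≤ m → ∀ a : P, (p : P) * a ∈ J i → map (res p k) a ∈ (J i).map (map (res p k)) := by
    intro i
    induction i with
    | zero =>
      intro _ a ha
      have h0 : J 0 = ⊥ := Ideal.span_eq_bot.2 (by rintro _ ⟨l, hl, rfl⟩; exact absurd hl (Nat.not_lt_zero _))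
      rw [h0, Ideal.mem_bot] at ha
      rw [torsion_free a ha]
      exact zero_mem _
    | succ i ih =>
      intro hi a ha
      have hi' : i < m := hi
      set t : Fin m := ⟨i, hi'⟩
      have hJ : J (i + 1) = J i ⊔ Ideal.span {f' t} := by
        simp only [J]
        rw [← Ideal.span_union, ← Set.image_singleton (f := f') (a := t), ← Set.image_union]
        congr 2
        ext l
        simp only [Set.mem_union, Set.mem_singleton_iff, Fin.ext_iff, t]
        exact Nat.lt_succ_iff_lt_or_eq
      rw [hJ, Submodule.mem_sup] at ha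
      obtain ⟨g, hg, y, hy, hgy⟩ := ha
      obtain ⟨b, rfl⟩ := Ideal.mem_span_singleton'.1 hy
      have hb : map (res p k) b ∈ (J i).map (map (res p k)) := by
        have hlist : (J i).map (map (res p k)) = Ideal.ofList ((List.ofFn f).take i) := by
          simp only [J]
          rw [Ideal.map_span, ← Set.image_comp, Ideal.ofList]
          congr 1
          ext r
          simp only [Set.mem_image, List.mem_take_iff_getElem, List.getElem_ofFn, List.length_ofFn,
            Function.comp_apply, Set.mem_ofPred_eq]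
          constructor
          · rintro ⟨l, hl, rfl⟩
            exact ⟨l, lt_min hl l.2, (hf l).symm⟩
          · rintro ⟨l, hl, rfl⟩
            exact ⟨⟨l, hl.trans_le (min_le_right _ _)⟩, hl.trans_le (min_le_left _ _), hf _⟩
        have h1 : f t * map (res p k) b ∈ (J i).map (map (res p k)) := by
          have := congrArg (map (res p k)) hgy
          rw [map_add, map_mul, map_mul, map_natCast, CharP.cast_eq_zero, zero_mul, hf, mul_comm, ← eq_neg_iff_add_eq_zero] at this
          have hg' := Ideal.mem_map_of_mem (map (res p k)) hg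
          rw [this] at hg'
          simpa using hg'
        rw [hlist] at h1 ⊢
        have hr := hreg.regular_mod_prev i (by simpa using hi')
        rw [smul_eq_mul, Ideal.mul_top, List.getElem_ofFn] at hr
        rw [← Submodule.Quotient.mk_eq_zero]
        refine hr ?_
        show f t • Submodule.Quotient.mk _ = f t • (0 : R ⧸ _)
        rw [smul_zero, ← Submodule.Quotient.mk_smul, Submodule.Quotient.mk_eq_zero, smul_eq_mul]
        exact h1
      rw [Ideal.mem_map_iff_of_surjective _ map_res_surjective] at hb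
      obtain ⟨j, hj, hjb⟩ := hb
      have hk : b - j ∈ RingHom.ker (map (res p k) : P →+* R) := by rw [RingHom.mem_ker, map_sub, hjb, sub_self]
      rw [MvPolynomial.ker_map, ker_res, Ideal.map_span, Set.image_singleton, map_natCast, Ideal.mem_span_singleton'] at hk
      obtain ⟨c, hc⟩ := hk
      have h2 : (p : P) * (a - c * f' t) ∈ J i := by
        rw [show (p : P) * (a - c * f' t) = g + j * f' t by linear_combination -hgy - (f' t) * hc]
        exact add_mem hg ((J i).mul_mem_right _ hj)
      have h3 := ih (le_of_lt hi') _ h2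
      rw [hJ, Ideal.map_sup]
      rw [map_sub, map_mul] at h3
      have h4 : map (res p k) (c * f' t) ∈ (Ideal.span {f' t}).map (map (res p k)) :=
        Ideal.mem_map_of_mem _ (Ideal.mul_mem_left _ _ (Ideal.mem_span_singleton_self _))
      rw [map_mul] at h4
      have h5 := add_mem (Submodule.mem_sup_left (T := (Ideal.span {f' t}).map (map (res p k))) h3)
        (Submodule.mem_sup_right h4)
      rwa [sub_add_cancel] at h5
  intro a ha
  have hall : J m = Ideal.span (Set.range f') := by
    simp only [J]
    congr 1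
    rw [← Set.image_univ]
    congr 1
    exact Set.eq_univ_of_forall fun l => l.2
  have := key m le_rfl a (hall ▸ ha)
  rw [hall, Ideal.map_span, ← Set.range_comp] at this
  rwa [show (map (res p k) ∘ f') = f from funext hf] at this


/-- Let k be a perfect field of characteristic p and f_1, …, f_m a regular sequence in R = k[x_1, …,
x_n]. The complete intersection A = R/(f_1, …, f_m) lifts to W₂(k) compatibly with Frobenius if and
only if for some lifts f'_1, …, f'_m ∈ R' = W₂(k)[x_1, …, x_n] of the f_i and some h_1, …, h_n ∈ R'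
one has F'(f'_i) − f'_i^p − p·Σ_j (∂f'_i/∂x_j)^p h_j ∈ p·(f'_1, …, f'_m) for every i, F' being the
standard Frobenius lift of R'. In terms of Frobenius residues P(f') = (F'(f') − f'^p)/p ∈ R, which
change by g^p when f' changes by pg, this is the congruence P_{f_i} + g_i^p ≡ Σ_j (∂f_i/∂x_j)^p h_j
modulo (f_1, …, f_m) for some g_i, h_j. -/
theorem result
    (p : ℕ) [Fact p.Prime] (k : Type u) [Field k] [CharP k p] [PerfectRing k p]
    {n m : ℕ} (f : Fin m → MvPolynomial (Fin n) k)
    (hreg : RingTheory.Sequence.IsRegular (MvPolynomial (Fin n) k) (List.ofFn f)) :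
    FrobAlg.IsFLiftable p k (MvPolynomial (Fin n) k ⧸ Ideal.span (Set.range f)) ↔
    ∃ (f' : Fin m → MvPolynomial (Fin n) (FrobAlg.W2 p k)) (h : Fin n → MvPolynomial (Fin n) (FrobAlg.W2 p k)),
      (∀ i, MvPolynomial.map (FrobAlg.res p k) (f' i) = f i) ∧
      ∀ i, FrobAlg.polyFrob p k (Fin n) (f' i) - f' i ^ p
        - (p : MvPolynomial (Fin n) (FrobAlg.W2 p k)) * ∑ j, MvPolynomial.pderiv j (f' i) ^ p * h j
        ∈ Ideal.span {(p : MvPolynomial (Fin n) (FrobAlg.W2 p k))} * Ideal.span (Set.range f') := by
  classical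
  set I0 := Ideal.span (Set.range f) with hI0
  let mr : MvPolynomial (Fin n) (W2 p k) →+* MvPolynomial (Fin n) k := MvPolynomial.map (res p k)
  have hmr : RingHom.ker mr = Ideal.span {(p : MvPolynomial (Fin n) (W2 p k))} := S13138.ker_map_res
  constructor
  · rintro ⟨B, _, ι, π, Φ, hB⟩
    obtain ⟨hsurj, hker, htors, hcomm⟩ := isLift_iff.1 hB.toIsLift
    choose b hb using fun j => hsurj (Ideal.Quotient.mk I0 (MvPolynomial.X j))
    let θ : MvPolynomial (Fin n) (W2 p k) →+* B := MvPolynomial.eval₂Hom ι b
    have hθ : ∀ a, π (θ a) = Ideal.Quotient.mk I0 (mr a) := by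
      refine RingHom.congr_fun (MvPolynomial.ringHom_ext (f := π.comp θ) (g := (Ideal.Quotient.mk I0).comp mr)
        (fun w => ?_) fun j => ?_)
      · simp only [RingHom.comp_apply, θ, MvPolynomial.eval₂Hom_C, mr, MvPolynomial.map_C]
        exact RingHom.congr_fun hcomm w
      · simp [θ, mr, hb]
    have hmod : ∀ x : B, ∃ a c, x = θ a + (p : B) * c := fun x => by
      obtain ⟨q, hq⟩ := Ideal.Quotient.mk_surjective (π x)
      obtain ⟨a, ha⟩ := map_res_surjective (p := p) q
      have h : x - θ a ∈ RingHom.ker π := by rw [RingHom.mem_ker, map_sub, hθ, show mr a = q from ha, hq, sub_self]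
      rw [hker, Ideal.mem_span_singleton] at h
      obtain ⟨c, hc⟩ := h
      exact ⟨a, c, by rw [← hc]; ring⟩
    have hpB : (p : B) * p = 0 := mul_p_eq_zero ι
    have hθp : θ (p : MvPolynomial (Fin n) (W2 p k)) = (p : B) := map_natCast θ p
    have hsθ : Function.Surjective θ := fun x => by
      obtain ⟨a, c, rfl⟩ := hmod x
      obtain ⟨a', c', rfl⟩ := hmod c
      refine ⟨a + p * a', ?_⟩
      rw [map_add, map_mul, hθp]
      linear_combination -c' * hpB
    choose g hg using fun i => map_res_surjective (p := p) (f i)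
    have hgp : ∀ i, ∃ a, θ (g i - p * a) = 0 := fun i => by
      have h : θ (g i) ∈ RingHom.ker π := by
        rw [RingHom.mem_ker, hθ, show mr (g i) = f i from hg i]
        exact Ideal.Quotient.eq_zero_iff_mem.2 (Ideal.subset_span ⟨i, rfl⟩)
      rw [hker, Ideal.mem_span_singleton] at h
      obtain ⟨c, hc⟩ := h
      obtain ⟨a, rfl⟩ := hsθ c
      exact ⟨a, by rw [map_sub, map_mul, hθp, ← hc, sub_self]⟩
    choose a ha using hgp
    let f' : Fin m → MvPolynomial (Fin n) (W2 p k) := fun i => g i - p * a i
    set I := Ideal.span (Set.range f') with hI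
    have hf' : ∀ i, mr (f' i) = f i := fun i => by
      show mr (g i - p * a i) = f i
      rw [map_sub, map_mul, map_natCast, CharP.cast_eq_zero, zero_mul, sub_zero, show mr (g i) = f i from hg i]
    have hmodI : ∀ x, mr x ∈ I0 → ∃ y ∈ I, ∃ z, x = y + p * z := by
      intro x hx
      have e : I0 = I.map mr := by
        rw [hI, Ideal.map_span, ← Set.range_comp, show (mr ∘ f') = f from funext hf']
      rw [e, Ideal.mem_map_iff_of_surjective _ map_res_surjective] at hx
      obtain ⟨y, hy, hyx⟩ := hx
      have h : x - y ∈ RingHom.ker mr := by rw [RingHom.mem_ker, map_sub, hyx, sub_self]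
      rw [hmr, Ideal.mem_span_singleton] at h
      obtain ⟨z, hz⟩ := h
      exact ⟨y, hy, z, by rw [← hz]; ring⟩
    have hle : I ≤ RingHom.ker θ := Ideal.span_le.2 (by rintro _ ⟨i, rfl⟩; exact ha i)
    have hkθ : RingHom.ker θ = I := by
      refine le_antisymm (fun x hx => ?_) hle
      have hx' : θ x = 0 := hx
      obtain ⟨y, hy, z, rfl⟩ := hmodI x (Ideal.Quotient.eq_zero_iff_mem.1 (by rw [← hθ, hx', map_zero]))
      rw [map_add, show θ y = 0 from hle hy, zero_add, map_mul, hθp] at hx'
      obtain ⟨y', hy', z', rfl⟩ := hmodI z (Ideal.Quotient.eq_zero_iff_mem.1 (by rw [← hθ]; exact htors _ hx'))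
      refine add_mem hy ?_
      rw [mul_add, ← mul_assoc, show (p : MvPolynomial (Fin n) (W2 p k)) * p = 0 from S13138.pP_sq, zero_mul, add_zero]
      exact I.mul_mem_left _ hy'
    have hflat : ((Ideal.Quotient.mk I).comp (MvPolynomial.C : W2 p k →+* MvPolynomial (Fin n) (W2 p k))).Flat := by
      refine flat_of_mul_p _ fun x hx => ?_
      obtain ⟨x, rfl⟩ := Ideal.Quotient.mk_surjective x
      rw [← map_natCast (Ideal.Quotient.mk I), ← map_mul, Ideal.Quotient.eq_zero_iff_mem] at hx
      have hx' : θ ((p : MvPolynomial (Fin n) (W2 p k)) * x) = 0 := hle hx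
      rw [map_mul, hθp] at hx'
      obtain ⟨y, hy, z, rfl⟩ := hmodI x (Ideal.Quotient.eq_zero_iff_mem.1 (by rw [← hθ]; exact htors _ hx'))
      exact ⟨Ideal.Quotient.mk I z, by
        rw [map_add, Ideal.Quotient.eq_zero_iff_mem.2 hy, zero_add, map_mul, map_natCast]⟩
    let e : (MvPolynomial (Fin n) (W2 p k) ⧸ I) ≃+* B :=
      (Ideal.quotEquivOfEq hkθ.symm).trans (RingHom.quotientKerEquivOfSurjective hsθ)
    have he : ∀ x, e (Ideal.Quotient.mk I x) = θ x := fun x => rfl
    suffices hΦ' : ∃ Φ' : (MvPolynomial (Fin n) (W2 p k) ⧸ I) →+* (MvPolynomial (Fin n) (W2 p k) ⧸ I),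
        Φ'.comp ((Ideal.Quotient.mk I).comp MvPolynomial.C) =
          ((Ideal.Quotient.mk I).comp MvPolynomial.C).comp (sigma p k) ∧
        ∀ x, Ideal.quotientMap (I.map (MvPolynomial.map (res p k))) (MvPolynomial.map (res p k)) Ideal.le_comap_map (Φ' x) =
          (Ideal.quotientMap (I.map (MvPolynomial.map (res p k))) (MvPolynomial.map (res p k)) Ideal.le_comap_map x) ^ p by
      obtain ⟨h, hh⟩ := (S13138.result p k f' hflat).1 hΦ'
      exact ⟨f', h, hf', hh⟩
    refine ⟨e.symm.toRingHom.comp (Φ.comp e.toRingHom), ?_, ?_⟩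
    · refine RingHom.ext fun w => e.injective ?_
      show e (e.symm (Φ (θ (MvPolynomial.C w)))) = θ (MvPolynomial.C (sigma p k w))
      rw [RingEquiv.apply_symm_apply]
      simp only [θ, MvPolynomial.eval₂Hom_C]
      exact RingHom.congr_fun hB.semi w
    · intro x
      obtain ⟨x, rfl⟩ := Ideal.Quotient.mk_surjective x
      obtain ⟨y, hy⟩ := Ideal.Quotient.mk_surjective (e.symm (Φ (θ x)))
      show Ideal.quotientMap _ _ _ (e.symm (Φ (θ x))) = _
      rw [← hy, Ideal.quotientMap_mk, Ideal.quotientMap_mk, ← map_pow, Ideal.Quotient.eq]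
      have hI0' : I.map mr = I0 := by
        rw [hI, Ideal.map_span, ← Set.range_comp, show (mr ∘ f') = f from funext hf']
      rw [show Ideal.map (MvPolynomial.map (res p k)) I = I0 from hI0', ← Ideal.Quotient.eq, map_pow]
      show Ideal.Quotient.mk I0 (mr y) = Ideal.Quotient.mk I0 (mr x) ^ p
      rw [← hθ, ← hθ, ← hB.red]
      congr 1
      rw [← he, hy, RingEquiv.apply_symm_apply]
  · rintro ⟨f', h, hf', hh⟩
    set I := Ideal.span (Set.range f') with hI
    have hI0' : I.map mr = I0 := by
      rw [hI, Ideal.map_span, ← Set.range_comp, show (mr ∘ f') = f from funext hf']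
    let B := MvPolynomial (Fin n) (W2 p k) ⧸ I
    let π : B →+* MvPolynomial (Fin n) k ⧸ I0 := Ideal.quotientMap I0 mr (Ideal.map_le_iff_le_comap.1 hI0'.le)
    let ι : W2 p k →+* B := (Ideal.Quotient.mk I).comp MvPolynomial.C
    have htf : ∀ x, (p : MvPolynomial (Fin n) (W2 p k)) * x ∈ I → mr x ∈ I0 :=
      torsion_mod f f' hf' hreg.toIsWeaklyRegular
    have hkp : ∀ x, mr x ∈ I0 → Ideal.Quotient.mk I x ∈ Ideal.span {(p : B)} := by
      intro x hx
      rw [← hI0', Ideal.mem_map_iff_of_surjective _ map_res_surjective] at hx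
      obtain ⟨y, hy, hyx⟩ := hx
      have h : x - y ∈ RingHom.ker mr := by rw [RingHom.mem_ker, map_sub, hyx, sub_self]
      rw [hmr, Ideal.mem_span_singleton] at h
      obtain ⟨z, hz⟩ := h
      rw [show x = y + p * z by rw [← hz]; ring, map_add, Ideal.Quotient.eq_zero_iff_mem.2 hy, zero_add, map_mul, map_natCast]
      exact Ideal.mul_mem_right _ _ (Ideal.mem_span_singleton_self _)
    have hlift : IsLift p k (MvPolynomial (Fin n) k ⧸ I0) B ι π := by
      refine isLift_iff.2 ⟨fun q => ?_, ?_, fun x hx => ?_, RingHom.ext fun w => ?_⟩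
      · obtain ⟨q, rfl⟩ := Ideal.Quotient.mk_surjective q
        obtain ⟨x, hx⟩ := map_res_surjective (p := p) q
        exact ⟨Ideal.Quotient.mk I x, by rw [Ideal.quotientMap_mk]; exact congrArg _ hx⟩
      · refine le_antisymm (fun x hx => ?_) ?_
        · obtain ⟨x, rfl⟩ := Ideal.Quotient.mk_surjective x
          rw [RingHom.mem_ker, Ideal.quotientMap_mk, Ideal.Quotient.eq_zero_iff_mem] at hx
          exact hkp x hx
        · rw [Ideal.span_le, Set.singleton_subset_iff, SetLike.mem_coe, RingHom.mem_ker, map_natCast,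
            ← map_natCast (Ideal.Quotient.mk I0), CharP.cast_eq_zero, map_zero]
      · obtain ⟨x, rfl⟩ := Ideal.Quotient.mk_surjective x
        rw [← map_natCast (Ideal.Quotient.mk I), ← map_mul, Ideal.Quotient.eq_zero_iff_mem] at hx
        rw [Ideal.quotientMap_mk, Ideal.Quotient.eq_zero_iff_mem]
        exact htf x hx
      · show Ideal.Quotient.mk I0 (mr (MvPolynomial.C w)) = _
        simp only [mr, MvPolynomial.map_C]
        rfl
    obtain ⟨Φ, hΦ, hred⟩ := (S13138.result p k f' hlift.flat).2 ⟨h, hh⟩
    refine ⟨B, inferInstance, ι, π, Φ, { toIsLift := hlift, semi := hΦ, red := fun x => ?_ }⟩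
    have hle : Ideal.map mr I ≤ I0 := hI0'.le
    have := congrArg (Ideal.Quotient.factor hle) (hred x)
    rw [map_pow] at this
    have e : ∀ z : B, Ideal.Quotient.factor hle (Ideal.quotientMap (Ideal.map mr I) mr Ideal.le_comap_map z) = π z := fun z => by
      obtain ⟨z, rfl⟩ := Ideal.Quotient.mk_surjective z
      rfl
    rw [e, e] at this
    exact this
end Groth.Agent.S13139
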