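import Groth.Statements.S13140
import Mathlib.RepresentationTheory.Maschke

set_option autoImplicit false
universe u v w
open GrpAlg

namespace Groth.Agent.S13140

/-- Let G be a finite group, R a commutative ring in which |G| is a unit, and M a module over the group
algebra R[G] whose underlying R-module is projective. Then M is a projective R[G]-module. -/
theorem result
    (R : Type u) [CommRing R] (G : Type v) [Group G] [Finite G] (hG : IsUnit ((Nat.card G : ℕ) : R))
    (M : Type w) [AddCommGroup M] [Module R M] [Module (MonoidAlgebra R G) M]
    [IsScalarTower R (MonoidAlgebra R G) M] [Module.Projective R M] :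
    Module.Projective (MonoidAlgebra R G) M := by
  classical
  haveI := Fintype.ofFinite G
  rw [Module.projective_def]
  obtain ⟨s, hs⟩ := Module.projective_lifting_property
    ((Finsupp.linearCombination (MonoidAlgebra R G) (id : M → M)).restrictScalars R) LinearMap.id
    (fun m => ⟨Finsupp.single m 1, by simp⟩)
  refine ⟨s.equivariantProjection G, fun m => ?_⟩
  rw [LinearMap.equivariantProjection_apply, LinearMap.map_smul_of_tower, map_sum]
  have h : ∀ g : G, Finsupp.linearCombination (MonoidAlgebra R G) (id : M → M) (s.conjugate g m) = m := by
    intro g
    have hs' : ∀ x, Finsupp.linearCombination (MonoidAlgebra R G) (id : M → M) (s x) = x :=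
      fun x => LinearMap.congr_fun hs x
    rw [LinearMap.conjugate_apply, map_smul, hs', ← mul_smul, MonoidAlgebra.single_mul_single, mul_one,
      inv_mul_cancel, ← MonoidAlgebra.one_def, one_smul]
  rw [Finset.sum_congr rfl fun g _ => h g, Finset.sum_const, Finset.card_univ, ← Nat.cast_smul_eq_nsmul R,
    smul_smul, Fintype.card_eq_nat_card, Ring.inverse_mul_cancel _ hG, one_smul]

end Groth.Agent.S13140
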