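import Groth.Statements.S13141
import Mathlib.LinearAlgebra.TensorProduct.Basic

set_option autoImplicit false
universe u v w w'
open scoped TensorProduct
open GrpAlg

namespace Groth.Agent.S13141

/-- Let G be a finite group, R a commutative ring with |G| invertible in R, M a projective R-module with
an R-linear G-action and S an R-algebra. The natural map M^G ⊗_R S → M ⊗_R S is injective and its
image is the submodule of G-invariants of M ⊗_R S (G acting on the first factor); that is, M^G ⊗_R S
→ (M ⊗_R S)^G is bijective. -/
theorem result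
    (R : Type u) [CommRing R] (G : Type v) [Group G] [Finite G] (hG : IsUnit ((Nat.card G : ℕ) : R))
    (M : Type w) [AddCommGroup M] [Module R M] [Module.Projective R M] (ρ : Representation R G M)
    (S : Type w') [CommRing S] [Algebra R S] :
    Function.Injective (TensorProduct.map ρ.invariants.subtype (LinearMap.id : S →ₗ[R] S)) ∧
    LinearMap.range (TensorProduct.map ρ.invariants.subtype (LinearMap.id : S →ₗ[R] S)) =
      ⨅ g : G, LinearMap.eqLocus (LinearMap.rTensor S (ρ g)) LinearMap.id := by
  classical
  haveI := Fintype.ofFinite G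
  obtain ⟨u, hu⟩ := hG
  let A : M →ₗ[R] M := (↑u⁻¹ : R) • ∑ g : G, ρ g
  have hAinv : ∀ m, A m ∈ ρ.invariants := fun m h => by
    simp only [A, LinearMap.smul_apply, LinearMap.sum_apply, map_smul, map_sum]
    congr 1
    exact Fintype.sum_equiv (Equiv.mulLeft h) _ _ fun g => by simp [← Module.End.mul_apply, ← map_mul]
  have hAid : ∀ m ∈ ρ.invariants, A m = m := fun m hm => by
    simp only [A, LinearMap.smul_apply, LinearMap.sum_apply]
    rw [Finset.sum_congr rfl fun g _ => hm g, Finset.sum_const, Finset.card_univ, ← Nat.cast_smul_eq_nsmul R,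
      smul_smul, Fintype.card_eq_nat_card, ← hu, Units.inv_mul, one_smul]
  let π : M →ₗ[R] ρ.invariants := A.codRestrict _ hAinv
  have hπi : π ∘ₗ ρ.invariants.subtype = LinearMap.id := LinearMap.ext fun x => Subtype.ext (hAid x.1 x.2)
  refine ⟨?_, le_antisymm ?_ ?_⟩
  · refine Function.LeftInverse.injective (g := LinearMap.rTensor S π) fun x => ?_
    show LinearMap.rTensor S π (LinearMap.rTensor S ρ.invariants.subtype x) = x
    rw [← LinearMap.rTensor_comp_apply, hπi, LinearMap.rTensor_id, LinearMap.id_apply]
  · rintro _ ⟨x, rfl⟩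
    simp only [Submodule.mem_iInf, LinearMap.mem_eqLocus, LinearMap.id_apply]
    intro g
    show LinearMap.rTensor S (ρ g) (LinearMap.rTensor S ρ.invariants.subtype x) = LinearMap.rTensor S ρ.invariants.subtype x
    rw [← LinearMap.rTensor_comp_apply, show ρ g ∘ₗ ρ.invariants.subtype = ρ.invariants.subtype from
      LinearMap.ext fun y => y.2 g]
  · intro x hx
    simp only [Submodule.mem_iInf, LinearMap.mem_eqLocus, LinearMap.id_apply] at hx
    refine ⟨LinearMap.rTensor S π x, ?_⟩
    show LinearMap.rTensor S ρ.invariants.subtype (LinearMap.rTensor S π x) = x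
    rw [← LinearMap.rTensor_comp_apply, show ρ.invariants.subtype ∘ₗ π = A from rfl]
    simp only [A, LinearMap.rTensor_smul, LinearMap.smul_apply, ← LinearMap.coe_rTensorHom, map_sum, LinearMap.sum_apply]
    simp only [LinearMap.coe_rTensorHom, hx]
    rw [Finset.sum_const, Finset.card_univ, ← Nat.cast_smul_eq_nsmul R, smul_smul, Fintype.card_eq_nat_card,
      ← hu, Units.inv_mul, one_smul]

end Groth.Agent.S13141
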