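import Groth.Statements.S13144
import Groth.Agent.Lib.W2Lift.Frob

set_option autoImplicit false
universe u
open FrobAlg

namespace Groth.Agent.S13144

/-- Let k be a perfect field of characteristic p, A → B a homomorphism of Noetherian k-algebras with an
A-linear retraction B → A, and A' → B' a homomorphism over W₂(k) between flat liftings of A and B
which reduces to A → B. If the Frobenius of B lifts to B' (a σ₂-semilinear ring endomorphism
reducing to the p-th power map), then the Frobenius of A lifts to A'. (The published statement is
for an affine morphism whose map on structure sheaves splits linearly; the affine case with an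
A-linear splitting is taken here.) -/
theorem result
    (p : ℕ) [Fact p.Prime] (k : Type u) [Field k] [CharP k p] [PerfectRing k p]
    (A B : Type u) [CommRing A] [CommRing B] [Algebra k A] [Algebra k B]
    [IsNoetherianRing A] [IsNoetherianRing B] [Algebra A B] [IsScalarTower k A B]
    (r : B →ₗ[A] A) (hr : ∀ a : A, r (algebraMap A B a) = a)
    (A' B' : Type u) [CommRing A'] [CommRing B']
    (ιA : FrobAlg.W2 p k →+* A') (πA : A' →+* A) (hA : FrobAlg.IsLift p k A A' ιA πA)
    (ιB : FrobAlg.W2 p k →+* B') (πB : B' →+* B) (hB : FrobAlg.IsLift p k B B' ιB πB)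
    (φ' : A' →+* B') (hφι : φ'.comp ιA = ιB) (hφπ : πB.comp φ' = (algebraMap A B).comp πA)
    (ΦB : B' →+* B') (hΦB : FrobAlg.IsFrobLift p k B B' ιB πB ΦB) :
    ∃ ΦA : A' →+* A', FrobAlg.IsFrobLift p k A A' ιA πA ΦA := by
  exact Groth.Agent.W2Lift.exists_frobLift r hr hA hB φ' hφι hφπ hΦB
end Groth.Agent.S13144
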