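import Groth.Statements.S13149
import Mathlib

set_option autoImplicit false
universe u
open CAlg

namespace Groth.Agent.S13149
open Matrix

/-- Let A be a local ring and ρ a map from the points of the projective plane over F_p to the points of
the projective plane over A (vectors with a unit coordinate, up to units) taking collinear triples
to collinear triples (three points are collinear when a vector with a unit coordinate is orthogonal
to all three). If ρ sends the standard frame (1:0:0), (0:1:0), (0:0:1), (1:1:1) to four points in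
general position, then p = 0 in A. (The published statement asks only that ρ preserve collinearity;
a constant map does so over any ring, and the published argument begins by moving the images of the
standard frame to the standard frame, which needs them in general position — that condition is made
a hypothesis here.) -/
theorem result
    (p : ℕ) [Fact p.Prime] (A : Type u) [CommRing A] [IsLocalRing A]
    (ρ : (Fin 3 → ZMod p) → (Fin 3 → A))
    (hpt : ∀ v : Fin 3 → ZMod p, v ≠ 0 → ∃ i, IsUnit (ρ v i))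
    (hcol : ∀ u v w : Fin 3 → ZMod p, u ≠ 0 → v ≠ 0 → w ≠ 0 →
      Matrix.det (Matrix.of ![u, v, w]) = 0 →
      ∃ n : Fin 3 → A, (∃ i, IsUnit (n i)) ∧
        dotProduct (ρ u) n = 0 ∧ dotProduct (ρ v) n = 0 ∧ dotProduct (ρ w) n = 0)
    (hgen : IsUnit (Matrix.det (Matrix.of ![ρ (Pi.single 0 1), ρ (Pi.single 1 1), ρ (Pi.single 2 1)])) ∧
      IsUnit (Matrix.det (Matrix.of ![ρ (Pi.single 0 1), ρ (Pi.single 1 1), ρ (fun _ => 1)])) ∧
      IsUnit (Matrix.det (Matrix.of ![ρ (Pi.single 0 1), ρ (Pi.single 2 1), ρ (fun _ => 1)])) ∧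
      IsUnit (Matrix.det (Matrix.of ![ρ (Pi.single 1 1), ρ (Pi.single 2 1), ρ (fun _ => 1)]))) :
    (p : A) = 0 := by
  classical
  have he0 : (Pi.single 0 1 : Fin 3 → ZMod p) = ![1, 0, 0] := by funext i; fin_cases i <;> simp
  have he1 : (Pi.single 1 1 : Fin 3 → ZMod p) = ![0, 1, 0] := by funext i; fin_cases i <;> simp
  have he2 : (Pi.single 2 1 : Fin 3 → ZMod p) = ![0, 0, 1] := by funext i; fin_cases i <;> simp
  have he3 : (fun _ => 1 : Fin 3 → ZMod p) = ![1, 1, 1] := by funext i; fin_cases i <;> simp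
  rw [he0, he1, he2, he3] at hgen
  set a := ρ ![1, 0, 0]
  set b := ρ ![0, 1, 0]
  set c := ρ ![0, 0, 1]
  set d := ρ ![1, 1, 1]
  obtain ⟨h0, h3, h2, h1⟩ := hgen
  let D : A → A → A → A → A → A → A → A → A → A := fun a0 a1 a2 b0 b1 b2 c0 c1 c2 =>
    a0*(b1*c2-b2*c1) - a1*(b0*c2-b2*c0) + a2*(b0*c1-b1*c0)
  let P : Matrix (Fin 3) (Fin 3) A := Matrix.of ![a, b, c]
  have hP : IsUnit P := (Matrix.isUnit_iff_isUnit_det P).mpr h0
  obtain ⟨Pu, hPu⟩ := hP
  let l : Fin 3 → A := d ᵥ* (↑Pu⁻¹ : Matrix (Fin 3) (Fin 3) A)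
  have hl : l ᵥ* P = d := by
    rw [← hPu, Matrix.vecMul_vecMul, Units.inv_mul, Matrix.vecMul_one]
  have hd : ∀ i, d i = l 0 * a i + l 1 * b i + l 2 * c i := by
    intro i; rw [← hl]
    simp [Matrix.vecMul, dotProduct, Fin.sum_univ_three, P]
  have hu2 : IsUnit (l 2) := by
    have : (Matrix.of ![a, b, d]).det = l 2 * (Matrix.of ![a, b, c]).det := by
      simp [Matrix.det_fin_three, hd]; ring
    rw [this] at h3; exact isUnit_of_mul_isUnit_left h3
  have hu1 : IsUnit (l 1) := by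
    have : (Matrix.of ![a, c, d]).det = (- l 1) * (Matrix.of ![a, b, c]).det := by
      simp [Matrix.det_fin_three, hd]; ring
    rw [this] at h2; simpa using isUnit_of_mul_isUnit_left h2
  have hu0 : IsUnit (l 0) := by
    have : (Matrix.of ![b, c, d]).det = l 0 * (Matrix.of ![a, b, c]).det := by
      simp [Matrix.det_fin_three, hd]; ring
    rw [this] at h1; exact isUnit_of_mul_isUnit_left h1
  let N : Matrix (Fin 3) (Fin 3) A := Matrix.diagonal l * P
  have hN : IsUnit N := by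
    rw [Matrix.isUnit_iff_isUnit_det]
    simp only [N, Matrix.det_mul, Matrix.det_diagonal, Fin.prod_univ_three]
    exact ((hu0.mul hu1).mul hu2).mul h0
  obtain ⟨Nu, hNu⟩ := hN
  -- coordinates
  let σ : (Fin 3 → ZMod p) → (Fin 3 → A) := fun v => ρ v ᵥ* (↑Nu⁻¹ : Matrix (Fin 3) (Fin 3) A)
  have hσρ : ∀ v, σ v ᵥ* N = ρ v := fun v => by
    rw [← hNu, Matrix.vecMul_vecMul, Units.inv_mul, Matrix.vecMul_one]
  have hσsolve : ∀ v w, ρ v = w ᵥ* N → σ v = w := fun v w h => by
    show ρ v ᵥ* _ = w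
    rw [h, ← hNu, Matrix.vecMul_vecMul, Units.mul_inv, Matrix.vecMul_one]
  have hσu : ∀ v, v ≠ 0 → ∃ i, IsUnit (σ v i) := by
    intro v hv
    by_contra hc
    push Not at hc
    obtain ⟨i, hi⟩ := hpt v hv
    rw [← hσρ v] at hi
    simp only [Matrix.vecMul, dotProduct] at hi
    have : ∑ j, σ v j * N j i ∈ IsLocalRing.maximalIdeal A :=
      Ideal.sum_mem _ fun j _ => Ideal.mul_mem_right _ _ (hc j)
    exact this hi
  have hdet : ∀ u v w : Fin 3 → ZMod p, u ≠ 0 → v ≠ 0 → w ≠ 0 →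
      Matrix.det (Matrix.of ![u, v, w]) = 0 → Matrix.det (Matrix.of ![σ u, σ v, σ w]) = 0 := by
    intro u v w hu hv hw hd0
    obtain ⟨n, ⟨i, hi⟩, e1, e2, e3⟩ := hcol u v w hu hv hw hd0
    let Z : Matrix (Fin 3) (Fin 3) A := Matrix.of ![ρ u, ρ v, ρ w]
    have hZn : Z *ᵥ n = 0 := by funext k; fin_cases k <;> simp [Z, Matrix.mulVec, dotProduct] <;> first | exact e1 | exact e2 | exact e3
    have h4 := congrArg (fun x => (Matrix.adjugate Z *ᵥ x) i) hZn
    simp only [Matrix.mulVec_mulVec, Matrix.adjugate_mul, Matrix.mulVec_zero, Matrix.smul_mulVec,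
      Matrix.one_mulVec, Pi.smul_apply, Pi.zero_apply, smul_eq_mul] at h4
    have hZ : Z.det = 0 := hi.mul_left_eq_zero.mp h4
    have : Z = Matrix.of ![σ u, σ v, σ w] * N := by
      funext k
      fin_cases k
      · exact (hσρ u).symm
      · exact (hσρ v).symm
      · exact (hσρ w).symm
    rw [this, Matrix.det_mul] at hZ
    exact ((Matrix.isUnit_iff_isUnit_det N).mp ⟨Nu, hNu⟩).mul_left_eq_zero.mp hZ
  obtain ⟨A0, hA0⟩ := hu0
  obtain ⟨A1, hA1⟩ := hu1
  obtain ⟨A2, hA2⟩ := hu2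
  have sa : σ ![1,0,0] = ![(↑A0⁻¹ : A), 0, 0] := hσsolve _ _ (by
    funext i; simp [N, P, Matrix.vecMul, dotProduct, Fin.sum_univ_three, Matrix.diagonal, Matrix.mul_apply, ← hA0, ← mul_assoc, a])
  have sb : σ ![0,1,0] = ![0, (↑A1⁻¹ : A), 0] := hσsolve _ _ (by
    funext i; simp [N, P, Matrix.vecMul, dotProduct, Fin.sum_univ_three, Matrix.diagonal, Matrix.mul_apply, ← hA1, ← mul_assoc, b])
  have sc : σ ![0,0,1] = ![0, 0, (↑A2⁻¹ : A)] := hσsolve _ _ (by
    funext i; simp [N, P, Matrix.vecMul, dotProduct, Fin.sum_univ_three, Matrix.diagonal, Matrix.mul_apply, ← hA2, ← mul_assoc, c])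
  have sd : σ ![1,1,1] = ![1, 1, 1] := hσsolve _ _ (by
    funext i
    show d i = _
    rw [hd]
    simp [N, P, Matrix.vecMul, dotProduct, Fin.sum_univ_three, Matrix.diagonal, Matrix.mul_apply])
  -- linear conditions
  have nz0 : ∀ x y : ZMod p, (![x, y, 1] : Fin 3 → ZMod p) ≠ 0 := fun x y h => by
    simpa using congrFun h 2
  have nza : (![1,0,0] : Fin 3 → ZMod p) ≠ 0 := fun h => by simpa using congrFun h 0
  have nzb : (![0,1,0] : Fin 3 → ZMod p) ≠ 0 := fun h => by simpa using congrFun h 1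
  have nz110 : (![1,1,0] : Fin 3 → ZMod p) ≠ 0 := fun h => by simpa using congrFun h 0
  have key : ∀ w, w ≠ 0 → ∀ (i : Fin 3), (∀ j, ¬ IsUnit (σ w j) ∨ IsUnit (σ w i)) → IsUnit (σ w i) := fun w hw i h => by
    obtain ⟨j, hj⟩ := hσu w hw
    exact (h j).resolve_left (not_not_intro hj)
  -- points on the line y = 0
  have lineY : ∀ x : ZMod p, σ ![x,0,1] 1 = 0 := fun x => by
    have := hdet _ _ _ nza (nz0 0 0) (nz0 x 0) (by simp [Matrix.det_fin_three])
    rw [sa, sc] at this
    simp [Matrix.det_fin_three] at this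
    exact (A0⁻¹.isUnit.mul A2⁻¹.isUnit).mul_right_eq_zero.mp this
  have lineY1 : ∀ x : ZMod p, σ ![x,1,1] 1 = σ ![x,1,1] 2 := fun x => by
    have := hdet _ _ _ nza (nz0 1 1) (nz0 x 1) (by simp [Matrix.det_fin_three])
    rw [sa, sd] at this
    have h5 : (↑A0⁻¹ : A) * (σ ![x,1,1] 2 - σ ![x,1,1] 1) = 0 := by
      simp [Matrix.det_fin_three] at this
      linear_combination this
    exact (sub_eq_zero.mp (A0⁻¹.isUnit.mul_right_eq_zero.mp h5)).symm
  have s110 : σ ![1,1,0] 2 = 0 ∧ σ ![1,1,0] 0 = σ ![1,1,0] 1 := by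
    constructor
    · have := hdet _ _ _ nza nzb nz110 (by simp [Matrix.det_fin_three])
      rw [sa, sb] at this
      simp [Matrix.det_fin_three] at this
      exact (A0⁻¹.isUnit.mul A1⁻¹.isUnit).mul_right_eq_zero.mp this
    · have := hdet _ _ _ (nz0 0 0) (nz0 1 1) nz110 (by simp [Matrix.det_fin_three])
      rw [sc, sd] at this
      have h5 : (↑A2⁻¹ : A) * (σ ![1,1,0] 1 - σ ![1,1,0] 0) = 0 := by
        simp [Matrix.det_fin_three] at this
        linear_combination this
      exact (sub_eq_zero.mp (A2⁻¹.isUnit.mul_right_eq_zero.mp h5)).symm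
  have u110 : IsUnit (σ ![1,1,0] 1) := by
    obtain ⟨j, hj⟩ := hσu _ nz110
    fin_cases j
    · simpa [← s110.2] using hj
    · simpa using hj
    · simp [s110.1] at hj
  have main : ∀ j : ℕ, σ ![(j:ZMod p),0,1] 0 = (j:A) * σ ![(j:ZMod p),0,1] 2 ∧ IsUnit (σ ![(j:ZMod p),0,1] 2) := by
    intro j
    induction j with
    | zero => simp [sc]
    | succ j ih =>
      obtain ⟨ih1, ih2⟩ := ih
      set x : ZMod p := (j : ZMod p)
      set y : ZMod p := ((j + 1 : ℕ) : ZMod p)
      have hxy : y = x + 1 := by simp [x, y]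
      have h6 := hdet _ _ _ (nz0 x 0) nz110 (nz0 y 1) (by rw [hxy]; simp [Matrix.det_fin_three])
      simp [Matrix.det_fin_three, lineY, s110.1, s110.2, ih1, lineY1] at h6
      have hY : σ ![y,1,1] 0 = ((j + 1 : ℕ) : A) * σ ![y,1,1] 2 := by
        have h7 : (σ ![x,0,1] 2 * σ ![1,1,0] 1) * (σ ![y,1,1] 0 - ((j + 1 : ℕ) : A) * σ ![y,1,1] 2) = 0 := by
          push_cast
          linear_combination (-1 : A) * h6
        exact sub_eq_zero.mp ((ih2.mul u110).mul_right_eq_zero.mp h7)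
      have hY2 : IsUnit (σ ![y,1,1] 2) := by
        obtain ⟨i, hi⟩ := hσu _ (nz0 y 1)
        fin_cases i
        · exact isUnit_of_mul_isUnit_right (by simpa [hY] using hi)
        · simpa [lineY1] using hi
        · simpa using hi
      have h8 := hdet _ _ _ nzb (nz0 y 1) (nz0 y 0) (by simp [Matrix.det_fin_three])
      rw [sb] at h8
      simp [Matrix.det_fin_three, lineY, hY, lineY1] at h8
      have hZ : σ ![y,0,1] 0 = ((j + 1 : ℕ) : A) * σ ![y,0,1] 2 := by
        have h9 : (↑A1⁻¹ : A) * σ ![y,1,1] 2 * (σ ![y,0,1] 0 - ((j + 1 : ℕ) : A) * σ ![y,0,1] 2) = 0 := by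
          push_cast
          linear_combination h8
        exact sub_eq_zero.mp ((A1⁻¹.isUnit.mul hY2).mul_right_eq_zero.mp h9)
      refine ⟨hZ, ?_⟩
      obtain ⟨i, hi⟩ := hσu _ (nz0 y 0)
      fin_cases i
      · exact isUnit_of_mul_isUnit_right (by simpa [hZ] using hi)
      · simp [lineY] at hi
      · simpa using hi
  have hp := main p
  rw [ZMod.natCast_self, sc] at hp
  simp at hp
  exact A2⁻¹.isUnit.mul_left_eq_zero.mp hp.symm

end Groth.Agent.S13149
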