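import Groth.Statements.S13151
import Mathlib.RingTheory.Ideal.AssociatedPrime.Finiteness
import Mathlib.RingTheory.Jacobson.Ring
import Mathlib.RingTheory.Artinian.Module
import Mathlib.RingTheory.Artinian.Ring
import Mathlib.RingTheory.Regular.IsSMulRegular
import Mathlib.RingTheory.AdicCompletion.Basic
import Mathlib.RingTheory.IntegralDomain
import Mathlib.RingTheory.FinitePresentation
import Mathlib.RingTheory.Flat.FaithfullyFlat.Basic
import Mathlib.RingTheory.Flat.FaithfullyFlat.Algebra
import Mathlib.RingTheory.IntegralClosure.IntegrallyClosed
import Mathlib.LinearAlgebra.Matrix.MvPolynomial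
import Mathlib.RingTheory.Polynomial.Basic
import Mathlib.RingTheory.Localization.FractionRing
import Mathlib.RingTheory.IntegralClosure.IsIntegral.Basic
import Mathlib.LinearAlgebra.TensorProduct.Tower
import Mathlib.RingTheory.Ideal.Quotient.Operations
import Mathlib.RingTheory.Ideal.Colon
import Mathlib.RingTheory.Support
import Mathlib.RingTheory.Noetherian.OfPrime
import Mathlib.RingTheory.HopkinsLevitzki
import Mathlib.RingTheory.Ideal.AssociatedPrime.Localization
import Mathlib.RingTheory.Flat.FaithfullyFlat.Descent
import Mathlib.LinearAlgebra.TensorProduct.Quotient
import Mathlib.LinearAlgebra.TensorProduct.RightExactness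
import Mathlib.RingTheory.PrincipalIdealDomain
import Mathlib.LinearAlgebra.Matrix.Charpoly.Basic
import Mathlib.RingTheory.Flat.Stability
import Mathlib.RingTheory.Nilpotent.Lemmas
import Mathlib.Algebra.Module.Projective
import Mathlib.RingTheory.LocalRing.ResidueField.Basic
import Mathlib.GroupTheory.OrderOfElement
import Mathlib.Algebra.EuclideanDomain.Int
import Mathlib.RingTheory.Spectrum.Maximal.Basic

set_option autoImplicit false
universe u
open CAlg

namespace Groth.Agent.S13151
open TensorProduct

/-- Let A → B be an injective ring homomorphism of integral domains which is integral, with A integrally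
closed, and let π be an element of A. Then the contraction to A of the ideal πB is πA, i.e. an
element of A which is a multiple of π in B is already a multiple of π in A; in particular if B/πB is
an integral domain then A/πA is an integral domain. (The published statement is for an integral
dominant morphism of integral schemes flat over a discrete valuation ring, with normal target and π
a uniformizer; flatness and the valuation ring play no role, so π is an arbitrary element here.) -/
theorem result {A B : Type u} [CommRing A] [CommRing B]
    [IsDomain A] [IsDomain B] [IsIntegrallyClosed A] [Algebra A B] [Algebra.IsIntegral A B]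
    (hinj : Function.Injective (algebraMap A B)) (π : A) :
    (Ideal.span {algebraMap A B π}).comap (algebraMap A B) = Ideal.span {π} ∧
      (IsDomain (B ⧸ Ideal.span {algebraMap A B π}) → IsDomain (A ⧸ Ideal.span {π})) := by
  have key : (Ideal.span {algebraMap A B π}).comap (algebraMap A B) = Ideal.span {π} := by
    refine le_antisymm ?_ ?_
    · intro a ha
      rw [Ideal.mem_comap, Ideal.mem_span_singleton] at ha
      rw [Ideal.mem_span_singleton]
      obtain ⟨b, hb⟩ := ha
      by_cases h : π = 0
      · subst h; simp only [map_zero, zero_mul] at hb
        simp [hinj (hb.trans (map_zero _).symm)]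
      obtain ⟨P, hP, hP0⟩ := Algebra.IsIntegral.isIntegral (R := A) b
      have h0 : (Polynomial.scaleRoots P π).eval a = 0 := by
        apply hinj
        rw [map_zero, ← Polynomial.eval₂_at_apply, hb, Polynomial.scaleRoots_eval₂_mul, hP0, mul_zero]
      have hi : IsIntegral A (algebraMap A (FractionRing A) a / algebraMap A _ π) := by
        refine ⟨P, hP, ?_⟩
        have hne : algebraMap A (FractionRing A) π ≠ 0 := by simpa using h
        have := congrArg (algebraMap A (FractionRing A)) h0
        rw [map_zero, ← Polynomial.eval₂_at_apply, show algebraMap A (FractionRing A) a = algebraMap A _ π * (algebraMap A _ a / algebraMap A _ π) by field_simp, Polynomial.scaleRoots_eval₂_mul] at this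
        simpa [hne] using this
      obtain ⟨c, hc⟩ := IsIntegrallyClosed.isIntegral_iff.1 hi
      refine ⟨c, IsFractionRing.injective A (FractionRing A) ?_⟩
      rw [map_mul, hc, mul_div_cancel₀]
      simpa using h
    · rw [Ideal.span_le]; rintro _ rfl; exact Ideal.mem_comap.2 (Ideal.mem_span_singleton_self _)
  refine ⟨key, fun h => ?_⟩
  rw [Ideal.Quotient.isDomain_iff_prime] at h ⊢
  exact key ▸ Ideal.comap_isPrime _ _

end Groth.Agent.S13151
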