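import Groth.Statements.S13153
import Mathlib
import Groth.Agent.Lib.AdicSmooth.FieldFS

set_option autoImplicit false
universe u
open CAlg

namespace Groth.Agent.S13153

open Polynomial in
theorem isAlgebraic_of_D_eq_zero (K L : Type u) [Field K] [Field L] [Algebra K L] [CharZero K]
    (x : L) (hx : KaehlerDifferential.D K L x = 0) : IsAlgebraic K x := by
  by_contra htr
  let P := K[X]
  let φ : P →ₐ[K] L := Polynomial.aeval x
  have hinj : Function.Injective φ := transcendental_iff_injective.1 htr
  letI : Algebra P L := φ.toRingHom.toAlgebra
  haveI : IsScalarTower K P L := IsScalarTower.of_algebraMap_eq fun r => (φ.commutes r).symm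
  let F := FractionRing P
  let ψ : F →+* L := IsFractionRing.lift (g := φ.toRingHom) hinj
  letI : Algebra F L := ψ.toAlgebra
  haveI : IsScalarTower P F L := IsScalarTower.of_algebraMap_eq fun p =>
    (IsFractionRing.lift_algebraMap (g := φ.toRingHom) hinj p).symm
  haveI : CharZero F := charZero_of_injective_algebraMap (R := K) (A := F) (algebraMap K F).injective
  haveI : Algebra.FormallySmooth F L := Groth.Agent.FieldFS.formallySmooth_of_perfectField F L
  haveI : Algebra.FormallyEtale P F := Algebra.FormallyEtale.of_isLocalization (nonZeroDivisors P)
  haveI : Algebra.FormallySmooth P L := Algebra.FormallySmooth.comp P F L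
  have hi : Function.Injective (KaehlerDifferential.mapBaseChange K P L) := by
    rw [injective_iff_map_eq_zero]
    intro z hz
    obtain ⟨w, rfl⟩ := (Algebra.H1Cotangent.exact_δ_mapBaseChange K P L z).1 hz
    rw [Subsingleton.elim w 0, map_zero]
  have h0 : (1 : L) ⊗ₜ[P] KaehlerDifferential.D K P X = 0 := hi (by
    rw [map_zero, KaehlerDifferential.mapBaseChange_tmul, KaehlerDifferential.map_D, one_smul]
    show KaehlerDifferential.D K L (φ X) = 0
    rw [show φ X = x from Polynomial.aeval_X x]; exact hx)
  have h1 := congrArg ((TensorProduct.rid P L).toLinearMap.comp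
    ((KaehlerDifferential.polynomialEquiv K).toLinearMap.lTensor L)) h0
  rw [map_zero, LinearMap.comp_apply, LinearMap.lTensor_tmul, LinearEquiv.coe_coe, LinearEquiv.coe_coe,
    KaehlerDifferential.polynomialEquiv_D, Polynomial.derivative_X, TensorProduct.rid_tmul, one_smul] at h1
  exact one_ne_zero h1

/-- Let R be a discrete valuation ring whose fraction field K has characteristic zero, A an integral
domain which is a faithfully flat R-algebra, with fraction field L, such that K is algebraically
closed in L (every element of L algebraic over K is in the image of K). If f ∈ A has vanishing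
differential, df = 0 in Ω_{A/R}, then f is the image of an element of R. (The published statement is
the sheaf form: for a faithfully flat morphism X → Spec R with geometrically integral generic fibre,
the kernel of d : O_X → Ω¹_{X/R} is the inverse image of O_{Spec R}; for integral X, geometric
integrality of the generic fibre in characteristic zero amounts to K being algebraically closed in
the function field, which is the form used here, and this row is the case of global sections over an
affine X = Spec A.) -/
theorem result (R : Type u) [CommRing R] [IsDomain R]
    [IsDiscreteValuationRing R] [CharZero R] (K : Type u) [Field K] [Algebra R K] [IsFractionRing R K]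
    (A : Type u) [CommRing A] [IsDomain A] [Algebra R A] [Module.FaithfullyFlat R A]
    (L : Type u) [Field L] [Algebra A L] [IsFractionRing A L] [Algebra R L] [Algebra K L]
    [IsScalarTower R A L] [IsScalarTower R K L]
    (hac : ∀ x : L, IsAlgebraic K x → x ∈ (algebraMap K L).range)
    (f : A) (hf : KaehlerDifferential.D R A f = 0) : f ∈ (algebraMap R A).range := by
  haveI : CharZero K := charZero_of_injective_algebraMap (R := R) (IsFractionRing.injective R K)
  let x := algebraMap A L f
  have hx : KaehlerDifferential.D K L x = 0 := by
    have h := congrArg (KaehlerDifferential.map R K A L) hf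
    rwa [map_zero, KaehlerDifferential.map_D] at h
  obtain ⟨c, hc⟩ := hac x (isAlgebraic_of_D_eq_zero K L x hx)
  obtain ⟨r, t, ht, rfl⟩ := IsFractionRing.div_surjective (A := R) c
  have ht0 : algebraMap R A t ≠ 0 := fun h => nonZeroDivisors.ne_zero ht
    (FaithfulSMul.algebraMap_injective R A (h.trans (map_zero _).symm))
  have e : algebraMap R A t * f = algebraMap R A r := by
    apply IsFractionRing.injective A L
    rw [map_mul, show algebraMap A L f = x from rfl, ← hc, map_div₀, ← IsScalarTower.algebraMap_apply R K L,
      ← IsScalarTower.algebraMap_apply R K L, ← IsScalarTower.algebraMap_apply R A L,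
      ← IsScalarTower.algebraMap_apply R A L]
    refine mul_div_cancel₀ _ ?_
    rw [IsScalarTower.algebraMap_apply R A L]
    exact fun h => ht0 (IsFractionRing.injective A L (h.trans (map_zero _).symm))
  have hr : algebraMap R A r ∈ (Ideal.span {t}).map (algebraMap R A) := by
    rw [← e]
    exact Ideal.mul_mem_right _ _ (Ideal.mem_map_of_mem _ (Ideal.mem_span_singleton_self t))
  rw [← Ideal.mem_comap, Ideal.comap_map_eq_self_of_faithfullyFlat] at hr
  obtain ⟨r', hr'⟩ := Ideal.mem_span_singleton'.1 hr
  refine ⟨r', mul_left_cancel₀ ht0 ?_⟩
  rw [e, ← map_mul, ← hr', mul_comm]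

end Groth.Agent.S13153
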