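import Groth.Statements.S13154
import Mathlib
import Groth.Statements.S19269
import Groth.Statements.S14437

set_option autoImplicit false
universe u
open scoped TensorProduct
open CAlg

namespace Groth.Agent.S13154
open TensorProduct

/-- Let R be a discrete valuation ring with fraction field K, A a faithfully flat R-algebra (an affine
faithfully flat base change S' → S = Spec R) and B₁, B₂ flat R-algebras (two affine S-schemes X₁ =
Spec B₁, X₂ = Spec B₂, flat over S). Suppose given a K-algebra homomorphism φ_K : K ⊗ B₂ → K ⊗ B₁ (a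
morphism of the generic fibres X₁,K → X₂,K) and an A-algebra homomorphism φ_A : A ⊗ B₂ → A ⊗ B₁ (a
morphism X₁ ×_S S' → X₂ ×_S S' over S') which coincide after base change to K ⊗ A, in the sense that
for every b ∈ B₂ the images of φ_K(1 ⊗ b) and φ_A(1 ⊗ b) in (K ⊗ A) ⊗ B₁ agree. Then there is
exactly one R-algebra homomorphism φ : B₂ → B₁ (a morphism X₁ → X₂) whose base changes to K and to A
are φ_K and φ_A. (The published statement assumes only X₂ flat over S; flatness of X₁ is also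
needed: with B₂ = R[t], B₁ = R[e]/(e², πe) for a uniformizer π and A = R[x], the maps t ↦ 0 over K
and t ↦ e x over A agree over K ⊗ A = K[x] but come from no map over R.) -/
theorem result (R : Type u) [CommRing R] [IsDomain R]
    [IsDiscreteValuationRing R] (K : Type u) [Field K] [Algebra R K] [IsFractionRing R K]
    (A : Type u) [CommRing A] [Algebra R A] [Module.FaithfullyFlat R A]
    (B₁ B₂ : Type u) [CommRing B₁] [CommRing B₂] [Algebra R B₁] [Algebra R B₂]
    [Module.Flat R B₁] [Module.Flat R B₂]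
    (φK : K ⊗[R] B₂ →ₐ[K] K ⊗[R] B₁) (φA : A ⊗[R] B₂ →ₐ[A] A ⊗[R] B₁)
    (hcomp : ∀ b : B₂,
      Algebra.TensorProduct.map (Algebra.TensorProduct.includeLeft : K →ₐ[R] K ⊗[R] A) (AlgHom.id R B₁)
          (φK (1 ⊗ₜ b)) =
        Algebra.TensorProduct.map (Algebra.TensorProduct.includeRight : A →ₐ[R] K ⊗[R] A) (AlgHom.id R B₁)
          (φA (1 ⊗ₜ b))) :
    ∃! φ : B₂ →ₐ[R] B₁, (∀ b : B₂, φK (1 ⊗ₜ b) = 1 ⊗ₜ φ b) ∧ (∀ b : B₂, φA (1 ⊗ₜ b) = 1 ⊗ₜ φ b) := by
  let ιK : B₁ →ₐ[R] K ⊗[R] B₁ := Algebra.TensorProduct.includeRight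
  have hιK : Function.Injective ιK :=
    Algebra.TensorProduct.includeRight_injective (IsFractionRing.injective R K)
  have hA : Function.Injective fun b : B₁ => (1 : A) ⊗ₜ[R] b :=
    Module.FaithfullyFlat.tensorProduct_mk_injective (A := R) (B := A) B₁
  let u : A ⊗[R] B₁ →ₐ[R] (K ⊗[R] A) ⊗[R] B₁ :=
    Algebra.TensorProduct.map (Algebra.TensorProduct.includeRight : A →ₐ[R] K ⊗[R] A) (AlgHom.id R B₁)
  have hu : Function.Injective u :=
    Module.Flat.rTensor_preserves_injective_linearMap _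
      (Algebra.TensorProduct.includeRight_injective (A := K) (B := A) (IsFractionRing.injective R K))
  have key : ∀ b : B₂, ∃ b₁ : B₁, φK (1 ⊗ₜ b) = 1 ⊗ₜ b₁ := by
    intro b
    obtain ⟨s, hs, b₁, hb₁⟩ : ∃ s : R, s ∈ nonZeroDivisors R ∧ ∃ b₁ : B₁, s • φK (1 ⊗ₜ b) = 1 ⊗ₜ b₁ := by
      haveI : IsLocalizedModule (nonZeroDivisors R) (TensorProduct.mk R K B₁ 1) :=
        (isLocalizedModule_iff_isBaseChange (nonZeroDivisors R) K _).2 (TensorProduct.isBaseChange R B₁ K)
      obtain ⟨⟨b₁, s⟩, hs⟩ := IsLocalizedModule.surj (nonZeroDivisors R) (TensorProduct.mk R K B₁ 1) (φK (1 ⊗ₜ b))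
      exact ⟨s, s.2, b₁, hs⟩
    have h1 : u ((1 : A) ⊗ₜ b₁) = u (s • φA (1 ⊗ₜ b)) := by
      have e := congrArg (Algebra.TensorProduct.map (Algebra.TensorProduct.includeLeft : K →ₐ[R] K ⊗[R] A) (AlgHom.id R B₁)) hb₁
      rw [map_smul, hcomp] at e
      rw [map_smul]
      show u ((1 : A) ⊗ₜ b₁) = s • u (φA (1 ⊗ₜ b))
      rw [e]
      simp [u, Algebra.TensorProduct.one_def]
    have h2 : (1 : A) ⊗ₜ b₁ = s • φA (1 ⊗ₜ b) := hu h1
    let J : Submodule R B₁ := LinearMap.range (LinearMap.lsmul R B₁ s)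
    have h3 : J.mkQ.lTensor A ((1 : A) ⊗ₜ b₁) = 0 := by
      rw [h2]
      have hz : ∀ z : A ⊗[R] B₁, J.mkQ.lTensor A (s • z) = 0 := by
        intro z
        induction z with
        | zero => simp
        | tmul a c =>
          rw [← TensorProduct.tmul_smul, LinearMap.lTensor_tmul,
            show J.mkQ (s • c) = 0 from (Submodule.Quotient.mk_eq_zero J).2 ⟨c, rfl⟩, TensorProduct.tmul_zero]
        | add x y hx hy => rw [smul_add, map_add, hx, hy, add_zero]
      exact hz _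
    rw [LinearMap.lTensor_tmul] at h3
    have h4 : J.mkQ b₁ = 0 :=
      Module.FaithfullyFlat.tensorProduct_mk_injective (A := R) (B := A) (B₁ ⧸ J) (h3.trans (TensorProduct.tmul_zero _ _).symm)
    obtain ⟨c, hc⟩ := (Submodule.Quotient.mk_eq_zero J).1 h4
    refine ⟨c, ?_⟩
    have hu' : IsUnit (algebraMap R (K ⊗[R] B₁) s) := by
      rw [IsScalarTower.algebraMap_apply R K (K ⊗[R] B₁)]
      exact (IsUnit.mk0 _ (IsFractionRing.to_map_ne_zero_of_mem_nonZeroDivisors hs)).map _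
    have e2 : s • φK (1 ⊗ₜ b) = s • ((1 : K) ⊗ₜ[R] c) := by
      rw [hb₁, ← TensorProduct.tmul_smul, ← hc]
      rfl
    rw [Algebra.smul_def, Algebra.smul_def] at e2
    exact hu'.mul_left_cancel e2
  choose f hf using key
  have hfA : ∀ b, φA (1 ⊗ₜ b) = 1 ⊗ₜ f b := fun b => hu (by
    have e := hcomp b
    rw [hf b] at e
    show u (φA (1 ⊗ₜ b)) = u (1 ⊗ₜ f b)
    rw [← e]
    simp [u, Algebra.TensorProduct.one_def])
  let φ : B₂ →ₐ[R] B₁ :=
    { toFun := f
      map_one' := hιK (by rw [map_one]; show 1 ⊗ₜ f 1 = _; rw [← hf, ← Algebra.TensorProduct.one_def, map_one])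
      map_mul' := fun x y => hιK (by
        rw [map_mul]
        show 1 ⊗ₜ f (x * y) = (1 ⊗ₜ f x) * (1 ⊗ₜ f y)
        rw [← hf, ← hf, ← hf, ← map_mul, Algebra.TensorProduct.tmul_mul_tmul, one_mul])
      map_zero' := hιK (by rw [map_zero]; show 1 ⊗ₜ f 0 = _; rw [← hf, TensorProduct.tmul_zero, map_zero])
      map_add' := fun x y => hιK (by
        rw [map_add]
        show 1 ⊗ₜ f (x + y) = (1 ⊗ₜ f x) + (1 ⊗ₜ f y)
        rw [← hf, ← hf, ← hf, ← map_add, TensorProduct.tmul_add])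
      commutes' := fun r => hιK (by
        rw [ιK.commutes]
        show 1 ⊗ₜ f (algebraMap R B₂ r) = _
        rw [← hf, show (1 : K) ⊗ₜ[R] algebraMap R B₂ r = algebraMap R (K ⊗[R] B₂) r from
          (Algebra.TensorProduct.includeRight : B₂ →ₐ[R] K ⊗[R] B₂).commutes r]
        exact (φK.restrictScalars R).commutes r) }
  refine ⟨φ, ⟨hf, hfA⟩, fun ψ hψ => AlgHom.ext fun b => hιK ((hψ.1 b).symm.trans (hf b))⟩

end Groth.Agent.S13154
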