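import Groth.Statements.S13155
import Groth.Statements.S18136
import Groth.Statements.S13156
import Groth.Statements.S16419
import Groth.Statements.S10933
import Groth.Statements.S12051
import Groth.Agent.Lib.ExtSelfPd1.Basic
import Groth.Agent.Lib.Goren.GorenDual27
import Groth.Agent.Lib.Goren.GorenFinLen27
import Mathlib

set_option autoImplicit false
universe u
open CAlg

namespace Groth.Agent.S13155

open Polynomial

/-- Let R be a discrete valuation ring of characteristic zero with uniformizer π, and A a Noetherian
integrally closed domain which is an R-algebra with injective structure map and in which πA is a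
prime ideal (X = Spec A is normal, flat over R, with integral special fibre). Let m ≥ 1 and let f ∈
A be invertible in A[1/π] (so Z^m = f defines a μ_m-torsor over the generic fibre), such that S =
A[1/π][Z]/(Z^m − f) is an integral domain and, writing B for the integral closure of A in S (the
normalization of X in that cover), πB is a prime ideal of B (the normalization has integral special
fibre). Then f is, up to a unit of A, an m-th power of a power of π: f = π^{mq}·u with q ≥ 0 and u ∈
A^×, so that the cover extends to the μ_m-torsor Z^m = u over all of X. (The published statement is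
the existence and uniqueness of the extending μ_m-torsor over a normal faithfully flat R-scheme with
integral fibres, R containing a primitive m-th root of unity; this row is the affine computation
that carries the proof.) -/
theorem result (R : Type u) [CommRing R]
    [IsDomain R] [IsDiscreteValuationRing R] [CharZero R] (ϖ : R) (hϖ : Irreducible ϖ)
    (A : Type u) [CommRing A] [IsDomain A] [IsNoetherianRing A] [IsIntegrallyClosed A] [Algebra R A]
    (hinj : Function.Injective (algebraMap R A)) (hprime : (Ideal.span {algebraMap R A ϖ}).IsPrime)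
    (m : ℕ) (hm : 0 < m) (f : A) (hf : IsUnit (algebraMap A (Localization.Away (algebraMap R A ϖ)) f))
    [IsDomain (AdjoinRoot (Polynomial.X ^ m - Polynomial.C (algebraMap A (Localization.Away (algebraMap R A ϖ)) f)))]
    (hsp : (Ideal.span {algebraMap A (integralClosure A
        (AdjoinRoot (Polynomial.X ^ m - Polynomial.C (algebraMap A (Localization.Away (algebraMap R A ϖ)) f))))
          (algebraMap R A ϖ)}).IsPrime) :
    ∃ (q : ℕ) (u : Aˣ), f = algebraMap R A ϖ ^ (m * q) * (u : A) := by
  set w := algebraMap R A ϖ
  have hw0 : w ≠ 0 := (map_ne_zero_iff _ hinj).2 hϖ.ne_zero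
  have hwp : Prime w := (Ideal.span_singleton_prime hw0).1 hprime
  set L := Localization.Away w
  set P : L[X] := X ^ m - C (algebraMap A L f)
  set K := AdjoinRoot P
  have hAL : Function.Injective (algebraMap A L) :=
    IsLocalization.injective L (powers_le_nonZeroDivisors_of_noZeroDivisors hw0)
  haveI : IsDomain L := IsLocalization.isDomain_localization (powers_le_nonZeroDivisors_of_noZeroDivisors hw0)
  have hAK : Function.Injective (algebraMap A K) := by
    rw [IsScalarTower.algebraMap_eq A L K, RingHom.coe_comp]
    refine Function.Injective.comp ?_ hAL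
    refine AdjoinRoot.of.injective_of_degree_ne_zero ?_
    rw [degree_X_pow_sub_C hm]
    exact_mod_cast hm.ne'
  set C' := integralClosure A K
  have hAC : Function.Injective (algebraMap A C') :=
    Function.Injective.of_comp (f := (Subtype.val : C' → K)) hAK
  set wC := algebraMap A C' w
  have hwC0 : wC ≠ 0 := (map_ne_zero_iff _ hAC).2 hw0
  have hwCp : Prime wC := (Ideal.span_singleton_prime hwC0).1 hsp
  -- `f` divides a power of `w`
  obtain ⟨g, hg⟩ := hf.exists_right_inv
  obtain ⟨⟨g0, ⟨_, N, rfl⟩⟩, hgN⟩ := IsLocalization.surj (Submonoid.powers w) g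
  have hfg : f * g0 = w ^ N := hAL (by
    dsimp only at hgN
    rw [map_mul, ← hgN, ← mul_assoc, hg, one_mul])
  obtain ⟨a, -, ha⟩ := (dvd_prime_pow hwp N).1 ⟨g0, hfg.symm⟩
  obtain ⟨v, hv⟩ := ha.symm
  -- the root
  let z : C' := ⟨AdjoinRoot.root P, X ^ m - C f, monic_X_pow_sub_C f hm.ne', by
    have h : (AdjoinRoot.root P) ^ m = algebraMap L K (algebraMap A L f) := by
      have := AdjoinRoot.eval₂_root P
      simp only [P, eval₂_sub, eval₂_pow, eval₂_X, eval₂_C, sub_eq_zero] at this
      exact this
    rw [eval₂_sub, eval₂_pow, eval₂_X, eval₂_C, h, ← IsScalarTower.algebraMap_apply, sub_self]⟩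
  have hz : z ^ m = algebraMap A C' f := Subtype.ext (by
    have := AdjoinRoot.eval₂_root P
    simp only [P, eval₂_sub, eval₂_pow, eval₂_X, eval₂_C, sub_eq_zero] at this
    show (AdjoinRoot.root P) ^ m = algebraMap A K f
    rw [IsScalarTower.algebraMap_apply A L K]
    exact this)
  have hass : Associated (z ^ m) (wC ^ a) := by
    rw [hz, ← map_pow]
    exact ha.map (algebraMap A C')
  obtain ⟨i, -, hi⟩ := (dvd_prime_pow hwCp a).1 ((dvd_pow_self z hm.ne').trans hass.dvd)
  have h2 : Associated (wC ^ (i * m)) (wC ^ a) := (pow_mul wC i m ▸ (hi.symm.pow_pow (n := m))).trans hass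
  have h3 : i * m = a := le_antisymm ((pow_dvd_pow_iff hwC0 hwCp.not_unit).1 h2.dvd)
    ((pow_dvd_pow_iff hwC0 hwCp.not_unit).1 h2.symm.dvd)
  exact ⟨i, v, by rw [mul_comm m i, h3]; exact hv.symm⟩

end Groth.Agent.S13155
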