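import Groth.Statements.S13156
import Groth.Statements.S18136
import Groth.Statements.S13155
import Groth.Statements.S16419
import Groth.Statements.S10933
import Groth.Statements.S12051
import Groth.Agent.Lib.ExtSelfPd1.Basic
import Groth.Agent.Lib.Goren.GorenDual27
import Groth.Agent.Lib.Goren.GorenFinLen27
import Mathlib

set_option autoImplicit false
universe u
open scoped Polynomial
open CAlg

namespace Groth.Agent.S13156

open Polynomial

theorem rec_zero {R : Type u} [CommRing R] (p : ℕ) (D : R[X]) (hD : ∀ k, p ≤ k → D.coeff k = 0)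
    (hu : ∀ k : ℕ, k + 1 < p → IsUnit ((k + 1 : ℕ) : R)) (w s : R) (h0 : D.coeff 0 = 0)
    (heq : derivative D * (1 + C w * X) = C s * D) : D = 0 := by
  ext k
  rw [coeff_zero]
  induction k with
  | zero => exact h0
  | succ k ih =>
    by_cases hk : k + 1 < p
    · have h := congrArg (coeff · k) heq
      rw [mul_add, mul_one, coeff_add, coeff_derivative, coeff_C_mul, ih, mul_zero, ← mul_assoc] at h
      rcases k with _ | k
      · simp at h
        exact h
      · rw [coeff_mul_X, coeff_mul_C, coeff_derivative, ih, zero_mul, zero_mul, add_zero] at h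
        refine (hu (k + 1) hk).mul_left_eq_zero.1 ?_
        rw [← h]; push_cast; ring
    · exact hD _ (not_lt.1 hk)

theorem main (A : Type u) [CommRing A] (p : ℕ) [Fact p.Prime]
    (hu : IsUnit ((Nat.factorial (p - 1) : ℕ) : A)) (μ : A) (F : A[X]) (hF : F.natDegree < p) :
    (C F * (F.map C) - C (C (F.coeff 0 ^ 2)) =
        (F.map C).comp (C X + C (1 + C μ * X) * X) - C (C (F.coeff 0))) ↔
      F * C (F.coeff 1) = derivative F * (1 + C μ * X) := by
  constructor
  · intro h
    have h1 := congrArg (fun z : A[X][X] => (derivative z).eval 0) h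
    simp [derivative_comp, eval_comp, derivative_map, ← map_pow] at h1
    rw [eval_map, eval₂_C_X, ← coeff_zero_eq_eval_zero, coeff_derivative] at h1
    simp at h1
    linear_combination h1
  · intro h
    have huk : ∀ k : ℕ, k + 1 < p → IsUnit ((k + 1 : ℕ) : A) := fun k hk =>
      isUnit_of_dvd_unit ((Nat.cast_dvd_cast (α := A) (Nat.dvd_factorial k.succ_pos (by omega)))) hu
    have hc : F.coeff 0 * F.coeff 1 = F.coeff 1 := by
      have h1 := congrArg (coeff · 0) h
      simpa [mul_add, coeff_derivative, ← mul_assoc] using h1
    have ha : ∀ k, 1 ≤ k → (F.coeff 0 - 1) * F.coeff k = 0 := by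
      intro k
      induction k with
      | zero => intro h; omega
      | succ k ih =>
        intro _
        by_cases hk : k + 1 < p
        · have h1 := congrArg (coeff · k) h
          simp only [coeff_mul_C, mul_add, mul_one, coeff_add, coeff_derivative, ← mul_assoc] at h1
          refine (huk k hk).mul_left_eq_zero.1 ?_
          rcases k with _ | k
          · simp
            linear_combination hc
          · rw [coeff_mul_X, coeff_mul_C, coeff_derivative] at h1
            push_cast
            have h2 := ih (by omega)
            push_cast at h1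
            linear_combination (-(F.coeff 0 - 1)) * h1 + (F.coeff 1 - μ * ((k : A) + 1)) * h2
        · rw [coeff_eq_zero_of_natDegree_lt (show F.natDegree < k + 1 by omega), mul_zero]
    set D : A[X][X] := C F * (F.map C) - C (C (F.coeff 0 ^ 2)) -
      ((F.map C).comp (C X + C (1 + C μ * X) * X) - C (C (F.coeff 0))) with hDdef
    refine sub_eq_zero.1 ?_
    refine rec_zero p D (fun k hk => coeff_eq_zero_of_natDegree_lt (lt_of_lt_of_le ?_ hk))
      (fun k hk => by simpa using (huk k hk).map (C : A →+* A[X])) (C μ) (C (F.coeff 1)) ?_ ?_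
    · have e1 : (C F * F.map (C : A →+* A[X]) - C (C (F.coeff 0 ^ 2))).natDegree ≤ F.natDegree :=
        (natDegree_sub_le _ _).trans (max_le ((natDegree_C_mul_le _ _).trans natDegree_map_le) (by rw [natDegree_C]; exact Nat.zero_le _))
      have e2 : ((F.map (C : A →+* A[X])).comp (C X + C (1 + C μ * X) * X) - C (C (F.coeff 0))).natDegree ≤ F.natDegree := by
        refine (natDegree_sub_le _ _).trans (max_le ?_ (by simp))
        refine natDegree_comp_le.trans ((Nat.mul_le_mul natDegree_map_le ?_).trans (mul_one _).le)
        exact natDegree_add_le_of_degree_le (by simp) ((natDegree_C_mul_le _ _).trans natDegree_X_le)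
      exact lt_of_le_of_lt ((natDegree_sub_le _ _).trans (max_le e1 e2)) hF
    · rw [coeff_zero_eq_eval_zero]
      simp [hDdef, eval_comp]
      rw [eval_map, eval₂_C_X]
      ext k
      simp [coeff_mul_C, ← map_pow, coeff_C]
      rcases k with _ | k
      · simp [← coeff_zero_eq_eval_zero]; ring
      · simp [← coeff_zero_eq_eval_zero]
        linear_combination ha (k + 1) (by omega)
    · have hX : derivative (F.map (C : A →+* A[X])) * (1 + C (C μ) * X) = C (C (F.coeff 1)) * F.map C := by
        have h1 := congrArg (Polynomial.map (C : A →+* A[X])) h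
        simp only [Polynomial.map_mul, Polynomial.map_add, Polynomial.map_one, map_C, map_X, derivative_map] at h1 ⊢
        linear_combination -h1
      have hZ := congrArg (fun z : A[X][X] => z.comp (C X + C (1 + C μ * X) * X)) hX
      simp only [mul_comp, add_comp, one_comp, C_comp, X_comp] at hZ
      have hdZ : derivative ((F.map (C : A →+* A[X])).comp (C X + C (1 + C μ * X) * X)) =
          C (1 + C μ * X) * (derivative (F.map C)).comp (C X + C (1 + C μ * X) * X) := by
        rw [derivative_comp]
        simp [derivative_mul]
      have hcc : (C (C (F.coeff 0)) : A[X][X]) * C (C (F.coeff 1)) = C (C (F.coeff 1)) := by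
        rw [← map_mul, ← map_mul, hc]
      simp only [hDdef, derivative_sub, derivative_C, derivative_mul, hdZ, zero_mul, zero_add, sub_zero]
      simp only [map_add, map_mul, map_one, map_pow] at hZ ⊢
      linear_combination C F * hX - hZ + C (C (F.coeff 0)) * hcc

/-- Let p be a prime number, A a commutative ring in which (p−1)! is invertible, μ an element of A, and
F ∈ A[X] a polynomial of degree at most p − 1 with coefficients a_0, a_1, …. Then the identity
F(S)·F(T) − a_0² = F(S + T + μST) − a_0 holds in the polynomial ring A[S, T] if and only if a_1·F(S)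
= F′(S)·(1 + μS) holds in A[S], F′ the formal derivative. (The published statement is over the
quotient of a discrete valuation ring of residue characteristic p by a nonzero element of its
maximal ideal; only the invertibility of 1, …, p − 1 is used, so an arbitrary such ring A is allowed
here.) -/
theorem result (A : Type u) [CommRing A] (p : ℕ) [Fact p.Prime]
    (hu : IsUnit ((Nat.factorial (p - 1) : ℕ) : A)) (μ : A) (F : A[X]) (hF : F.natDegree < p) :
    (Polynomial.aeval (MvPolynomial.X 0 : MvPolynomial (Fin 2) A) F *
          Polynomial.aeval (MvPolynomial.X 1 : MvPolynomial (Fin 2) A) F - MvPolynomial.C (F.coeff 0 ^ 2) =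
        Polynomial.aeval (MvPolynomial.X 0 + MvPolynomial.X 1 +
            MvPolynomial.C μ * MvPolynomial.X 0 * MvPolynomial.X 1 : MvPolynomial (Fin 2) A) F -
          MvPolynomial.C (F.coeff 0)) ↔
      F * Polynomial.C (F.coeff 1) = Polynomial.derivative F * (1 + Polynomial.C μ * Polynomial.X) := by
  rw [← main A p hu μ F hF]
  let ψ : MvPolynomial (Fin 2) A →ₐ[A] A[X][X] := MvPolynomial.aeval ![C X, X]
  let χ : A[X][X] →+* MvPolynomial (Fin 2) A :=
    eval₂RingHom (aeval (MvPolynomial.X 0 : MvPolynomial (Fin 2) A) : A[X] →ₐ[A] _).toRingHom (MvPolynomial.X 1)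
  have hid : ∀ z, χ (ψ z) = z := fun z => by
    induction z using MvPolynomial.induction_on with
    | C a => simp [ψ, χ, IsScalarTower.algebraMap_apply A A[X] A[X][X]]
    | add a b ha hb => rw [map_add, map_add, ha, hb]
    | mul_X a i ha =>
      rw [map_mul, map_mul, ha]
      fin_cases i <;> simp [ψ, χ]
  have hC : ∀ a : A, ψ (MvPolynomial.C a) = C (C a) := fun a => MvPolynomial.aeval_C _ a
  have hXa : ψ (aeval (MvPolynomial.X 0 : MvPolynomial (Fin 2) A) F) = C F := by
    rw [← aeval_algHom_apply, show ψ (MvPolynomial.X 0) = C X by simp [ψ]]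
    conv_rhs => rw [← eval₂_C_X (p := F)]
    rw [aeval_def, hom_eval₂]
    rfl
  have hY : ψ (aeval (MvPolynomial.X 1 : MvPolynomial (Fin 2) A) F) = F.map C := by
    rw [← aeval_algHom_apply, show ψ (MvPolynomial.X 1) = X by simp [ψ]]
    conv_rhs => rw [← eval₂_C_X (p := F.map C), eval₂_map]
    rfl
  have hZ : ψ (aeval (MvPolynomial.X 0 + MvPolynomial.X 1 + MvPolynomial.C μ * MvPolynomial.X 0 * MvPolynomial.X 1 :
      MvPolynomial (Fin 2) A) F) = (F.map C).comp (C X + C (1 + C μ * X) * X) := by
    rw [← aeval_algHom_apply, map_add, map_add, map_mul, map_mul, hC, show ψ (MvPolynomial.X 0) = C X by simp [ψ],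
      show ψ (MvPolynomial.X 1) = X by simp [ψ], comp, eval₂_map, aeval_def]
    simp only [map_add, map_one, map_mul]
    rw [show (C X + (1 + C (C μ) * C X) * X : A[X][X]) = C X + X + C (C μ) * C X * X by ring]
    rfl
  constructor
  · intro h
    have h1 := congrArg ψ h
    rw [map_sub, map_sub, map_mul, hXa, hY, hZ, hC, hC] at h1
    exact h1
  · intro h
    refine Function.LeftInverse.injective (g := χ) hid ?_
    rw [map_sub, map_sub, map_mul, hXa, hY, hZ, hC, hC]
    exact h

end Groth.Agent.S13156
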