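import Groth.Statements.S13157
import Groth.Statements.S12046
import Groth.Statements.S18888
import Groth.Statements.S14609
import Groth.Statements.S14336
import Groth.Statements.S15367
import Groth.Agent.S12045
import Groth.Agent.S15368
import Groth.Agent.Lib.Fitting.More
import Mathlib.RingTheory.Flat.FaithfullyFlat.Algebra
import Mathlib.RingTheory.Spectrum.Prime.FreeLocus
import Mathlib.LinearAlgebra.Dimension.RankNullity
import Mathlib.Topology.Semicontinuity.Basic
import Mathlib.FieldTheory.Minpoly.IsIntegrallyClosed
import Mathlib.Algebra.Module.PID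
import Mathlib.RingTheory.Flat.EquationalCriterion

set_option autoImplicit false
universe u
open scoped Polynomial
open CAlg

namespace Groth.Agent.S13157
open CAlg

open Polynomial

/-- (i) ⇔ (ii): let p be a prime number, A a commutative ring in which (p−1)! is invertible, μ ∈ A, and
F ∈ A[X] a polynomial of degree at most p − 1 with constant term a_0 = 1 and coefficients a_1, a_2,
…. Then the relations a_{r−1}·a_1 = (r − 1)μ·a_{r−1} + r·a_r for 1 ≤ r ≤ p (with a_p = 0), written
here as the single identity a_1·F = F′·(1 + μX), hold if and only if r!·a_r = ∏_{k=0}^{r−1} (a_1 −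
kμ) for every 1 ≤ r ≤ p − 1 and ∏_{k=0}^{p−1} (a_1 − kμ) = 0. (The published statement lists the
relations only for 1 ≤ r ≤ p − 1, while its proof uses and derives the relation for r = p as well,
which is needed for the vanishing of the last product; it is included here. The published setting is
the quotient of a discrete valuation ring of residue characteristic p by a nonzero non-unit; only
the invertibility of 1, …, p − 1 is used.) -/
theorem result (A : Type u) [CommRing A] (p : ℕ) [Fact p.Prime]
    (hu : IsUnit ((Nat.factorial (p - 1) : ℕ) : A)) (μ : A) (F : A[X]) (hF : F.natDegree < p)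
    (h0 : F.coeff 0 = 1) :
    F * Polynomial.C (F.coeff 1) = Polynomial.derivative F * (1 + Polynomial.C μ * Polynomial.X) ↔
      ((∀ r : ℕ, 1 ≤ r → r < p →
          (r.factorial : A) * F.coeff r = ∏ k ∈ Finset.range r, (F.coeff 1 - (k : A) * μ)) ∧
        ∏ k ∈ Finset.range p, (F.coeff 1 - (k : A) * μ) = 0) := by
  have hp : 2 ≤ p := (Fact.out : p.Prime).two_le
  have hcoef : ∀ r, (derivative F * (1 + C μ * X)).coeff r =
      F.coeff (r + 1) * ((r : A) + 1) + (r : A) * μ * F.coeff r := by
    intro r
    rw [mul_add, mul_one, coeff_add, coeff_derivative, ← mul_assoc]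
    rcases r with _ | r
    · rw [coeff_mul_X_zero]; simp
    · rw [coeff_mul_X, coeff_mul_C, coeff_derivative]; push_cast; ring
  have hbig : ∀ r, p ≤ r → F.coeff r = 0 := fun r hr => coeff_eq_zero_of_natDegree_lt (lt_of_lt_of_le hF hr)
  rw [Polynomial.ext_iff]
  simp only [coeff_mul_C, hcoef]
  constructor
  · intro h
    have key : ∀ r : ℕ, r ≤ p → (r.factorial : A) * F.coeff r = ∏ k ∈ Finset.range r, (F.coeff 1 - (k : A) * μ) := by
      intro r
      induction r with
      | zero => intro _; simp [h0]
      | succ r ih =>
        intro hr
        rw [Finset.prod_range_succ, ← ih (by omega), Nat.factorial_succ]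
        push_cast
        linear_combination (-(r.factorial : A)) * h r
    exact ⟨fun r _ hr => key r hr.le, by rw [← key p le_rfl, hbig p le_rfl, mul_zero]⟩
  · rintro ⟨h, hlast⟩ r
    have key : ∀ r : ℕ, r < p → (r.factorial : A) * F.coeff r = ∏ k ∈ Finset.range r, (F.coeff 1 - (k : A) * μ) := by
      intro r hr
      rcases r with _ | r
      · simp [h0]
      · exact h _ (Nat.succ_pos r) hr
    rcases lt_or_ge r p with hr | hr
    · have hfu : IsUnit (r.factorial : A) :=
        isUnit_of_dvd_unit (Nat.cast_dvd_cast (Nat.factorial_dvd_factorial (by omega))) hu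
      have hnext : ((r + 1).factorial : A) * F.coeff (r + 1) = ∏ k ∈ Finset.range (r + 1), (F.coeff 1 - (k : A) * μ) := by
        rcases lt_or_ge (r + 1) p with h1 | h1
        · exact key _ h1
        · have he : r + 1 = p := by omega
          rw [he, hlast, hbig p le_rfl, mul_zero]
      rw [Finset.prod_range_succ, ← key r hr, Nat.factorial_succ] at hnext
      push_cast at hnext
      refine hfu.mul_left_cancel ?_
      linear_combination -hnext
    · rw [hbig r hr, hbig (r + 1) (by omega)]; ring

end Groth.Agent.S13157
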