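import Groth.Statements.S13158
import Groth.Statements.S18399
import Mathlib

set_option autoImplicit false
universe u
open CAlg

namespace Groth.Agent.S13158

open Polynomial in
theorem step {A : Type u} [CommRing A] [IsDomain A] [IsIntegrallyClosed A] {p : ℕ} (hp : p.Prime)
    {μ : A} (hμ : μ ≠ 0) (hpd : μ ^ (p - 1) ∣ (p : A)) (z : A) :
    μ ^ p ∣ z ^ p - 1 ↔ μ ∣ z - 1 := by
  classical
  obtain ⟨c, hc⟩ := hpd
  let r : A[X] := ∑ k ∈ Finset.Ioo 0 p, C (μ ^ (k - 1) * ((p.choose k / p : ℕ) : A)) * X ^ (k - 1)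
  let Q : A[X] := X ^ p + C c * X * r
  have hp1 : μ ^ (p - 1) * μ = μ ^ p := by rw [← pow_succ, Nat.sub_add_cancel hp.one_le]
  have hid : (C μ * X + 1) ^ p - 1 = C (μ ^ p) * Q := by
    have hr : ∑ k ∈ Finset.Ioo 0 p, (C μ * X) ^ (k - 1) * 1 ^ (p - k - 1) * ((p.choose k / p : ℕ) : A[X]) = r := by
      refine Finset.sum_congr rfl fun k hk => ?_
      rw [map_mul, map_pow, map_natCast, one_pow, mul_one, mul_pow]
      ring
    rw [(Commute.all (C μ * X) 1).add_pow_prime_eq hp, hr,
      show (p : A[X]) = C (μ ^ (p - 1)) * C c by rw [← map_mul, ← hc, map_natCast], one_pow, mul_pow]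
    simp only [Q, ← hp1, map_mul, ← map_pow C μ p]
    ring
  constructor
  · rintro ⟨q, hq⟩
    let K := FractionRing A
    let t : K := algebraMap A K (z - 1) / algebraMap A K μ
    have hμ' : algebraMap A K μ ≠ 0 := (map_ne_zero_iff _ (IsFractionRing.injective A K)).2 hμ
    have ht : algebraMap A K μ * t = algebraMap A K (z - 1) := mul_div_cancel₀ _ hμ'
    have hlt : (C c * X * r).degree < (p : WithBot ℕ) := by
      refine (degree_mul_le _ _).trans_lt ?_
      refine lt_of_le_of_lt (b := ((1 : ℕ) : WithBot ℕ) + ((p - 2 : ℕ) : WithBot ℕ)) (add_le_add ?_ ?_) ?_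
      · exact degree_C_mul_X_le c
      · refine (degree_sum_le _ _).trans (Finset.sup_le fun k hk => (degree_C_mul_X_pow_le _ _).trans ?_)
        have := Finset.mem_Ioo.1 hk
        exact_mod_cast (show k - 1 ≤ p - 2 by omega)
      · rw [← Nat.cast_add]
        have := hp.two_le
        exact_mod_cast (show 1 + (p - 2) < p by omega)
    have hQ : Q.Monic := monic_X_pow_add hlt
    have hdeg : Q.degree = (p : WithBot ℕ) := by
      rw [← degree_X_pow (R := A) p] at hlt ⊢
      exact degree_add_eq_left_of_degree_lt hlt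
    have hQ' : (Q - C q).Monic := hQ.sub_of_left (lt_of_le_of_lt degree_C_le (by
      rw [hdeg]; exact_mod_cast hp.pos))
    have hroot : aeval t (Q - C q) = 0 := by
      have h := congrArg (aeval t) hid
      simp only [map_sub, map_pow, map_add, map_mul, map_one, aeval_C, aeval_X, ht] at h
      rw [sub_add_cancel, ← map_pow, ← map_one (algebraMap A K), ← map_sub, hq, map_mul, map_pow] at h
      rw [map_sub, aeval_C, sub_eq_zero]
      exact (mul_left_cancel₀ (pow_ne_zero _ hμ') h).symm
    obtain ⟨a, ha⟩ := IsIntegrallyClosed.isIntegral_iff.1 (⟨_, hQ', hroot⟩ : IsIntegral A t)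
    refine ⟨a, IsFractionRing.injective A K ?_⟩
    rw [map_mul, ha, ht]
  · rintro ⟨y, hy⟩
    refine ⟨Q.eval y, ?_⟩
    have h := congrArg (Polynomial.eval y) hid
    simp only [eval_sub, eval_pow, eval_add, eval_mul, eval_one, eval_C, eval_X, ← hy, sub_add_cancel] at h
    exact h

/-- Let R be a discrete valuation ring of characteristic zero whose maximal ideal contains the prime
number p, let n ≥ 1, and let λ be a nonzero element of R such that λ^(p^(n−1)(p−1)) divides p (the
condition v(p) ≥ p^(n−1)(p−1)·v(λ) under which the polynomial ((1 + λT)^(p^n) − 1)/λ^(p^n) has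
coefficients in R). Let A be an integrally closed integral domain which is a faithfully flat
R-algebra. Then for every unit x of A, λ^(p^n) divides x^(p^n) − 1 in A if and only if λ divides x −
1 in A. -/
theorem result (R : Type u) [CommRing R]
    [IsDomain R] [IsDiscreteValuationRing R] [CharZero R] (p n : ℕ) [Fact p.Prime] (hn : 1 ≤ n)
    (hp : (p : R) ∈ IsLocalRing.maximalIdeal R) (lam : R) (hlam : lam ≠ 0)
    (hstar : lam ^ (p ^ (n - 1) * (p - 1)) ∣ (p : R))
    (A : Type u) [CommRing A] [IsDomain A] [IsIntegrallyClosed A] [Algebra R A] [Module.FaithfullyFlat R A]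
    (x : Aˣ) :
    (algebraMap R A lam ^ p ^ n ∣ (x : A) ^ p ^ n - 1) ↔ (algebraMap R A lam ∣ (x : A) - 1) := by
  set l := algebraMap R A lam
  have hpp : p.Prime := Fact.out
  have hl : l ≠ 0 := (map_ne_zero_iff _ (FaithfulSMul.algebraMap_injective R A)).2 hlam
  suffices h : ∀ i ≤ n, (l ^ p ^ i ∣ (x : A) ^ p ^ i - 1) ↔ l ∣ (x : A) - 1 from h n le_rfl
  intro i
  induction i with
  | zero => simp
  | succ i ih =>
    intro hi
    have hd : (l ^ p ^ i) ^ (p - 1) ∣ (p : A) := by
      rw [← pow_mul]
      refine (pow_dvd_pow l (Nat.mul_le_mul_right _ (Nat.pow_le_pow_right hpp.pos (by omega : i ≤ n - 1)))).trans ?_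
      simpa only [map_pow, map_natCast] using map_dvd (algebraMap R A) hstar
    rw [pow_succ, pow_mul, pow_mul, step hpp (pow_ne_zero _ hl) hd, ih (by omega)]

end Groth.Agent.S13158
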