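import Groth.Statements.S13160
import Mathlib

set_option autoImplicit false
universe u
open CAlg

namespace Groth.Agent.S13160

open WittVector

variable {p : ℕ} [hp : Fact p.Prime] {S : Type u} [CommRing S]

theorem disjoint_head (a0 : S) (z : WittVector p S) (n : ℕ) :
    (teichmuller p a0 + verschiebung z).coeff n = (teichmuller p a0).coeff n + (verschiebung z).coeff n := by
  refine coeff_add_of_disjoint n _ _ fun k => ?_
  cases k with
  | zero => exact Or.inr (verschiebung_coeff_zero z)
  | succ k => exact Or.inl (teichmuller_coeff_pos p a0 _ k.succ_pos)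

theorem head_coeff_zero (a0 : S) (z : WittVector p S) : (teichmuller p a0 + verschiebung z).coeff 0 = a0 := by
  rw [disjoint_head, teichmuller_coeff_zero, verschiebung_coeff_zero, add_zero]

theorem head_coeff_succ (a0 : S) (z : WittVector p S) (n : ℕ) :
    (teichmuller p a0 + verschiebung z).coeff (n + 1) = z.coeff n := by
  rw [disjoint_head, teichmuller_coeff_pos p a0 _ n.succ_pos, verschiebung_coeff_succ, zero_add]

theorem decomp (a : WittVector p S) : a = teichmuller p (a.coeff 0) + verschiebung (a.shift 1) := by
  ext n
  cases n with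
  | zero => rw [head_coeff_zero]
  | succ n => rw [head_coeff_succ, shift_coeff, add_comm]

/-- Multiplication by a Teichmüller element. -/
theorem coeff_teichmuller_mul [CharP S p] : ∀ (n : ℕ) (t : S) (z : WittVector p S),
    (teichmuller p t * z).coeff n = t ^ p ^ n * z.coeff n := by
  intro n
  induction n with
  | zero => intro t z; rw [mul_coeff_zero, teichmuller_coeff_zero, pow_zero, pow_one]
  | succ n ih =>
    intro t z
    conv_lhs => rw [decomp z, mul_add, ← map_mul, mul_comm (teichmuller p t) (verschiebung _), ← verschiebung_mul_frobenius]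
    rw [head_coeff_succ, mul_comm,
      show frobenius (teichmuller p t) = teichmuller p (t ^ p) by
        ext k
        rw [coeff_frobenius_charP]
        cases k with
        | zero => rw [teichmuller_coeff_zero, teichmuller_coeff_zero]
        | succ k => rw [teichmuller_coeff_pos p t _ k.succ_pos, teichmuller_coeff_pos p _ _ k.succ_pos, zero_pow hp.out.ne_zero],
      ih, ← pow_mul, ← pow_succ', shift_coeff, add_comm]

theorem main [CharP S p] (hS : ∀ x y : S, x ∣ y ∨ y ∣ x) : ∀ (n : ℕ) (a b : WittVector p S),
    (∀ k, a.coeff k ^ p = 0) → (∀ k, b.coeff k ^ p = 0) → (a + b).coeff n = a.coeff n + b.coeff n := by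
  -- the Teichmüller parts add up
  have hT : ∀ x y : S, x ^ p = 0 → y ^ p = 0 → teichmuller p x + teichmuller p y = teichmuller p (x + y) := by
    intro x y hx hy
    obtain ⟨t, u, v, ht, rfl, rfl⟩ : ∃ t u v : S, t ^ p = 0 ∧ x = t * u ∧ y = t * v := by
      rcases hS x y with ⟨v, hv⟩ | ⟨v, hv⟩
      · exact ⟨x, 1, v, hx, (mul_one x).symm, hv⟩
      · exact ⟨y, v, 1, hy, hv, (mul_one y).symm⟩
    rw [map_mul, map_mul, ← mul_add, ← mul_add]
    ext k
    cases k with
    | zero => rw [coeff_teichmuller_mul, pow_zero, pow_one, add_coeff_zero, teichmuller_coeff_zero, teichmuller_coeff_zero, teichmuller_coeff_zero]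
    | succ k =>
      rw [coeff_teichmuller_mul, teichmuller_coeff_pos p _ _ k.succ_pos, pow_succ', pow_mul, ht,
        zero_pow (pow_ne_zero _ hp.out.ne_zero), zero_mul]
  intro n
  induction n with
  | zero => intro a b _ _; exact add_coeff_zero a b
  | succ n ih =>
    intro a b ha hb
    conv_lhs => rw [decomp a, decomp b, add_add_add_comm, hT _ _ (ha 0) (hb 0), ← map_add]
    rw [head_coeff_succ, ih _ _ (fun k => by rw [shift_coeff]; exact ha _) (fun k => by rw [shift_coeff]; exact hb _),
      shift_coeff, shift_coeff, add_comm 1 n]

/-- Let R be a discrete valuation ring, p a prime number and λ an element of R dividing p (so that R/λR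
is an 𝔽_p-algebra), and let a and b be p-typical Witt vectors with coefficients in R/λR which are
killed by the Frobenius endomorphism. Then the Witt sum a + b has components a_n + b_n for every n.
(The published statement allows an arbitrary λ ∈ R and is stated for Witt vectors with finitely many
nonzero components; this row assumes that λ divides p, so that p = 0 in R/λR, and allows all Witt
vectors.) -/
theorem result (R : Type u) [CommRing R] [IsDomain R]
    [IsDiscreteValuationRing R] (p : ℕ) [Fact p.Prime] (lam : R) (hlam : lam ∣ (p : R))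
    (a b : WittVector p (R ⧸ Ideal.span {lam})) (ha : WittVector.frobenius a = 0)
    (hb : WittVector.frobenius b = 0) (n : ℕ) : (a + b).coeff n = a.coeff n + b.coeff n := by
  rcases subsingleton_or_nontrivial (R ⧸ Ideal.span {lam}) with h | h
  · exact Subsingleton.elim _ _
  haveI : CharP (R ⧸ Ideal.span {lam}) p := by
    refine (CharP.charP_iff_prime_eq_zero (Fact.out : p.Prime)).2 ?_
    rw [← map_natCast (Ideal.Quotient.mk (Ideal.span {lam})), Ideal.Quotient.eq_zero_iff_mem, Ideal.mem_span_singleton]
    exact hlam
  refine main (fun x y => ?_) n a b (fun k => ?_) (fun k => ?_)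
  · obtain ⟨x, rfl⟩ := Ideal.Quotient.mk_surjective x
    obtain ⟨y, rfl⟩ := Ideal.Quotient.mk_surjective y
    exact (ValuationRing.dvd_total x y).imp (map_dvd _) (map_dvd _)
  · rw [← coeff_frobenius_charP, ha, zero_coeff]
  · rw [← coeff_frobenius_charP, hb, zero_coeff]

end Groth.Agent.S13160
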