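import Groth.Statements.S13161
import Mathlib

set_option autoImplicit false
universe u
open scoped TensorProduct
open CAlg

namespace Groth.Agent.S13161

open TensorProduct


/-- Let R be a discrete valuation ring with fraction field K, A an R-algebra which is semireflexive as
an R-module (the map to its double dual is injective: every nonzero a ∈ A has an R-linear form f : A
→ R with f(a) ≠ 0), and B an A-algebra which is finitely generated as an A-module and flat over R.
Suppose B ⊗ K is semireflexive as a module over A ⊗ K, which for such B amounts to: every nonzero b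
∈ B has an A-linear map g : B → A ⊗_R K with g(b) ≠ 0. Then B is semireflexive as an R-module: every
nonzero b ∈ B has an R-linear form h : B → R with h(b) ≠ 0. (The published statement phrases the
hypothesis on B_K as an A_K-module; for B flat over R and finite over A this is the elementwise
condition used here.) -/
theorem result (R : Type u) [CommRing R] [IsDomain R]
    [IsDiscreteValuationRing R] (K : Type u) [Field K] [Algebra R K] [IsFractionRing R K]
    (A B : Type u) [CommRing A] [CommRing B] [Algebra R A] [Algebra R B] [Algebra A B] [IsScalarTower R A B]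
    [Module.Finite A B] [Module.Flat R B]
    (hA : ∀ a : A, a ≠ 0 → ∃ f : A →ₗ[R] R, f a ≠ 0)
    (hBK : ∀ b : B, b ≠ 0 → ∃ g : B →ₗ[A] A ⊗[R] K, g b ≠ 0) :
    ∀ b : B, b ≠ 0 → ∃ h : B →ₗ[R] R, h b ≠ 0 := by
  intro b hb
  obtain ⟨g, hg⟩ := hBK b hb
  haveI : Module.IsTorsionFree R A := by
    refine Module.IsTorsionFree.of_smul_eq_zero fun r a h => ?_
    by_cases hr : r = 0
    · exact Or.inl hr
    refine Or.inr (by_contra fun ha => ?_)
    obtain ⟨f, hf⟩ := hA a ha
    have : r * f a = 0 := by rw [← smul_eq_mul, ← map_smul, h, map_zero]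
    exact hf ((mul_eq_zero.1 this).resolve_left hr)
  haveI : Module.Flat R A := inferInstance
  obtain ⟨s, hs⟩ := Module.Finite.fg_top (R := A) (M := B)
  have hloc : IsLocalizedModule (nonZeroDivisors R) ((TensorProduct.mk R A K).flip 1) := by
    have h1 : IsLocalizedModule (nonZeroDivisors R) (TensorProduct.mk R K A 1) :=
      (isLocalizedModule_iff_isBaseChange (nonZeroDivisors R) K _).2 (TensorProduct.isBaseChange R A K)
    have h2 := IsLocalizedModule.of_linearEquiv (nonZeroDivisors R) (TensorProduct.mk R K A 1) (TensorProduct.comm R K A)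
    convert h2 using 1
    ext a; simp
  obtain ⟨r, hr⟩ : ∃ r : nonZeroDivisors R, ∀ y ∈ s, ∃ a : A, (r : R) • g y = a ⊗ₜ[R] (1 : K) := by
    classical
    clear hs
    induction s using Finset.induction with
    | empty => exact ⟨1, by simp⟩
    | insert y t _ ih =>
      obtain ⟨r, hr⟩ := ih
      obtain ⟨⟨a, c⟩, hc⟩ := IsLocalizedModule.surj (nonZeroDivisors R) ((TensorProduct.mk R A K).flip 1) (g y)
      refine ⟨c * r, fun x hx => ?_⟩
      rcases Finset.mem_insert.1 hx with rfl | hx
      · refine ⟨(r : R) • a, ?_⟩
        rw [Submonoid.coe_mul, mul_comm, mul_smul, ← Submonoid.smul_def c, hc]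
        simp [TensorProduct.smul_tmul']
      · obtain ⟨a', ha'⟩ := hr x hx
        exact ⟨(c : R) • a', by rw [Submonoid.coe_mul, mul_smul, ha', TensorProduct.smul_tmul']⟩
  have hall : ∀ y : B, ∃ a : A, (r : R) • g y = a ⊗ₜ[R] (1 : K) := fun y => by
    have hy : y ∈ Submodule.span A (s : Set B) := hs ▸ Submodule.mem_top
    induction hy using Submodule.span_induction with
    | mem y hy => exact hr y hy
    | zero => exact ⟨0, by simp⟩
    | add y z _ _ hy hz =>
      obtain ⟨a, ha⟩ := hy; obtain ⟨a', ha'⟩ := hz
      exact ⟨a + a', by rw [map_add, smul_add, ha, ha', TensorProduct.add_tmul]⟩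
    | smul c y _ hy =>
      obtain ⟨a, ha⟩ := hy
      exact ⟨c • a, by rw [map_smul, smul_comm, ha, TensorProduct.smul_tmul']⟩
  choose φ hφ using hall
  have hinj : Function.Injective ((TensorProduct.mk R A K).flip 1) := by
    have h := Module.Flat.lTensor_preserves_injective_linearMap (M := A) (Algebra.linearMap R K)
      (IsFractionRing.injective R K)
    intro a a' e
    have := h (show (Algebra.linearMap R K).lTensor A (a ⊗ₜ 1) = (Algebra.linearMap R K).lTensor A (a' ⊗ₜ 1) by
      simpa using e)
    simpa using congrArg (TensorProduct.rid R A) this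
  let φl : B →ₗ[R] A :=
    { toFun := φ
      map_add' := fun y z => hinj (by
        show φ (y + z) ⊗ₜ[R] (1 : K) = (φ y + φ z) ⊗ₜ[R] (1 : K)
        rw [← hφ, TensorProduct.add_tmul, ← hφ, ← hφ, map_add, smul_add])
      map_smul' := fun c y => hinj (by
        show φ (c • y) ⊗ₜ[R] (1 : K) = (c • φ y) ⊗ₜ[R] (1 : K)
        rw [← hφ, ← TensorProduct.smul_tmul', ← hφ, LinearMap.map_smul_of_tower, smul_comm]) }
  have hne : φ b ≠ 0 := by
    intro h0
    have h1 := hφ b
    rw [h0, TensorProduct.zero_tmul] at h1
    refine hg ((IsUnit.smul_eq_zero ?_).1 (show (algebraMap R K (r : R)) • (TensorProduct.comm R A K (g b)) = 0 by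
      rw [algebraMap_smul, ← map_smul, h1, map_zero]) |> fun h => by simpa using h)
    exact IsLocalization.map_units K r
  obtain ⟨f, hf⟩ := hA (φ b) hne
  exact ⟨f.comp φl, hf⟩

end Groth.Agent.S13161
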