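import Groth.Statements.S13162
import Mathlib
-- import your own Groth.Agent.* helpers here

set_option autoImplicit false
universe u v
open ZeroCyc

namespace Groth.Agent.S13162

/-- Let a finite group G act on a commutative ring A by ring automorphisms and let p be a prime such
that every integer prime to p is a unit in A. If I is an ideal of A and f ∈ A has G-invariant class
modulo I, then f^(p^k) is congruent modulo I to a G-invariant element of A, where p^k is the exact
power of p dividing the order of G. (The published statement assumes I stable under G, so that G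
acts on A/I and the claim reads: the p^k-th power of an invariant of A/I lies in the image of the
invariants of A; the form here asks only that the class of f be invariant.) -/
theorem result {A : Type u} [CommRing A] {G : Type v} [Group G] [Fintype G]
    [MulSemiringAction G A] (p : ℕ) [Fact p.Prime]
    (hA : ∀ m : ℕ, ¬ p ∣ m → IsUnit (m : A))
    (I : Ideal A) (f : A) (hf : ∀ g : G, g • f - f ∈ I) :
    ∃ a : A, (∀ g : G, g • a = a) ∧ a - f ^ (p ^ (Fintype.card G).factorization p) ∈ I := by
  classical
  have hp : p.Prime := Fact.out
  set k := (Fintype.card G).factorization p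
  have hcard : Fintype.card G ≠ 0 := Fintype.card_ne_zero
  have hm : ¬ p ∣ Fintype.card G / p ^ k := Nat.not_dvd_ordCompl hp hcard
  have hmul : p ^ k * (Fintype.card G / p ^ k) = Fintype.card G := Nat.ordProj_mul_ordCompl_eq_self _ p
  set N := (Fintype.card G).choose (p ^ k)
  have hN : ¬ p ∣ N := by
    intro hd
    have h1 := Choose.choose_pow_mul_pow_mul_modEq_choose_nat (p := p) (k := k) (a := Fintype.card G / p ^ k) (b := 1)
    rw [hmul, mul_one, Nat.choose_one_right] at h1
    exact hm ((Nat.ModEq.dvd_iff h1 dvd_rfl).1 hd)
  obtain ⟨v, hv⟩ := (hA N hN).exists_left_inv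
  let e : A := ∑ t ∈ (Finset.univ : Finset G).powersetCard (p ^ k), ∏ g ∈ t, g • f
  have he : ∀ h : G, h • e = e := by
    intro h
    show h • (∑ t ∈ (Finset.univ : Finset G).powersetCard (p ^ k), ∏ g ∈ t, g • f) = _
    rw [Finset.smul_sum]
    refine Finset.sum_bij' (fun t _ => t.image (h * ·)) (fun t _ => t.image (h⁻¹ * ·)) ?_ ?_ ?_ ?_ ?_
    · intro t ht
      rw [Finset.mem_powersetCard] at ht ⊢
      exact ⟨Finset.subset_univ _, by rw [Finset.card_image_of_injective _ (mul_right_injective h)]; exact ht.2⟩
    · intro t ht
      rw [Finset.mem_powersetCard] at ht ⊢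
      exact ⟨Finset.subset_univ _, by rw [Finset.card_image_of_injective _ (mul_right_injective _)]; exact ht.2⟩
    · intro t ht
      rw [Finset.image_image]
      simp [Function.comp_def]
    · intro t ht
      rw [Finset.image_image]
      simp [Function.comp_def]
    · intro t ht
      rw [Finset.prod_image (fun a _ b _ hab => mul_left_cancel hab), Finset.smul_prod']
      exact Finset.prod_congr rfl fun g _ => (mul_smul h g f).symm
  refine ⟨v * e, fun g => ?_, ?_⟩
  · have hg : g • v = v := by
      have h1 : (g • v) * (N : A) = 1 := by
        have := congrArg (fun a => g • a) hv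
        simp only [smul_mul', smul_one] at this
        rwa [show g • (N : A) = (N : A) from map_natCast (MulSemiringAction.toRingHom G A g) N] at this
      calc g • v = (g • v) * ((N : A) * v) := by rw [mul_comm (N : A), hv, mul_one]
        _ = v := by rw [← mul_assoc, h1, one_mul]
    rw [smul_mul', hg, he]
  · rw [← Ideal.Quotient.eq]
    have hfi : ∀ g : G, Ideal.Quotient.mk I (g • f) = Ideal.Quotient.mk I f := fun g => Ideal.Quotient.eq.2 (hf g)
    have he' : Ideal.Quotient.mk I e = (N : A ⧸ I) * Ideal.Quotient.mk I f ^ (p ^ k) := by
      simp only [e, map_sum, map_prod, hfi]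
      rw [Finset.sum_congr rfl fun t ht => show (∏ _g ∈ t, Ideal.Quotient.mk I f) = Ideal.Quotient.mk I f ^ (p ^ k) by
        rw [Finset.prod_const, (Finset.mem_powersetCard.1 ht).2]]
      rw [Finset.sum_const, Finset.card_powersetCard, Finset.card_univ, nsmul_eq_mul]
    rw [map_mul, he', ← mul_assoc, ← map_natCast (Ideal.Quotient.mk I) N, ← map_mul, hv, map_one, one_mul, map_pow]

end Groth.Agent.S13162
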