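import Groth.Statements.S13163
import Mathlib.RingTheory.Ideal.Quotient.Operations
-- import your own Groth.Agent.* helpers here

set_option autoImplicit false
universe u
open ZeroCyc

namespace Groth.Agent.S13163

open Polynomial in
/-- Let P_d(T) = ∏_{0 ≤ i < j ≤ d} (T^i − T^j) − 1 ∈ ℤ[T]. Every residue field of ℤ[T]/(P_d), i.e. every
field receiving a ring homomorphism from it, has at least d + 1 elements. -/
theorem result (d : ℕ) (k : Type u) [Field k]
    (φ : (ℤ[X] ⧸ Ideal.span {(∏ j ∈ Finset.range (d + 1), ∏ i ∈ Finset.range j,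
        ((X : ℤ[X]) ^ i - X ^ j)) - 1}) →+* k) :
    ((d + 1 : ℕ) : Cardinal) ≤ Cardinal.mk k := by
  let x : k := φ (Ideal.Quotient.mk _ X)
  have h : ∏ j ∈ Finset.range (d + 1), ∏ i ∈ Finset.range j, (x ^ i - x ^ j) = 1 := by
    have := congrArg φ (Ideal.Quotient.eq.2 (Ideal.mem_span_singleton_self
      ((∏ j ∈ Finset.range (d + 1), ∏ i ∈ Finset.range j, ((X : ℤ[X]) ^ i - X ^ j)) - 1)) :
      Ideal.Quotient.mk _ (∏ j ∈ Finset.range (d + 1), ∏ i ∈ Finset.range j, ((X : ℤ[X]) ^ i - X ^ j)) =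
        Ideal.Quotient.mk _ (1 : ℤ[X]))
    simpa only [map_prod, map_sub, map_pow, map_one] using this
  have hne : ∀ i j : ℕ, i < j → j < d + 1 → x ^ i ≠ x ^ j := fun i j hij hj e => by
    rw [Finset.prod_eq_zero (Finset.mem_range.2 hj) (Finset.prod_eq_zero (Finset.mem_range.2 hij) (sub_eq_zero.2 e))] at h
    exact zero_ne_one h
  have inj : Function.Injective (fun i : Fin (d + 1) => x ^ (i : ℕ)) := fun i j e => by
    rcases lt_trichotomy (i : ℕ) (j : ℕ) with hl | hl | hl
    · exact absurd e (hne _ _ hl j.2)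
    · exact Fin.ext hl
    · exact absurd e.symm (hne _ _ hl i.2)
  have := Cardinal.lift_mk_le_lift_mk_of_injective inj
  simpa using this

end Groth.Agent.S13163
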