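import Groth.Statements.S13166
import Groth.Agent.Lib.Cyc26.Avoid
import Mathlib
-- import your own Groth.Agent.* helpers here

set_option autoImplicit false
universe u
open ZeroCyc

namespace Groth.Agent.S13166

/-- Let k be a field, B a k-algebra generated as an algebra by a k-subspace V, k'/k a field extension
and x_1, …, x_d pairwise distinct k'-points of B ⊗_k k' (equivalently, distinct k-algebra
homomorphisms B → k'). If k has at least d(d − 1)/2 elements, then there is b ∈ V whose values at
x_1, …, x_d are pairwise distinct. -/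
theorem result {k : Type u} [Field k] {B : Type u} [CommRing B] [Algebra k B] (V : Submodule k B)
    (hV : Algebra.adjoin k (V : Set B) = ⊤) {k' : Type u} [Field k'] [Algebra k k']
    {d : ℕ} (x : Fin d → (B →ₐ[k] k')) (hx : Function.Injective x)
    (hk : ((d.choose 2 : ℕ) : Cardinal) ≤ Cardinal.mk k) :
    ∃ b ∈ V, Function.Injective fun i => x i b := by
  classical
  let p : {t : Finset (Fin d) // t.card = 2} → Submodule k V := fun t =>
    ⨅ (i ∈ t.1) (j ∈ t.1), LinearMap.ker (((x i).toLinearMap.comp V.subtype) - ((x j).toLinearMap.comp V.subtype))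
  have hmem : ∀ t (v : V), v ∈ p t ↔ ∀ i ∈ t.1, ∀ j ∈ t.1, x i v = x j v := by
    intro t v
    simp [p, Submodule.mem_iInf, sub_eq_zero]
  have h1 : ∀ t, p t ≠ ⊤ := by
    intro t htop
    obtain ⟨i, j, hij, ht⟩ := Finset.card_eq_two.1 t.2
    refine hij (hx ?_)
    refine AlgHom.ext_of_adjoin_eq_top hV fun v hv => ?_
    exact (hmem t ⟨v, hv⟩).1 (htop ▸ Submodule.mem_top) i (by simp [ht]) j (by simp [ht])
  have h2 : (((Finset.univ : Finset {t : Finset (Fin d) // t.card = 2}).card : ℕ∞)) ≤ ENat.card k := by
    rw [Finset.card_univ, Fintype.card_finset_len, Fintype.card_fin, ENat.card, ← map_natCast Cardinal.toENat (d.choose 2)]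
    exact OrderHomClass.mono _ hk
  obtain ⟨b, hb⟩ := Cyc26.exists_forall_notMem_of_card_le Finset.univ p h1 h2
  refine ⟨b.1, b.2, fun i j hij => ?_⟩
  by_contra hne
  refine hb ⟨{i, j}, Finset.card_pair hne⟩ (Finset.mem_univ _) ((hmem _ b).2 ?_)
  intro a ha c hc
  simp only [Finset.mem_insert, Finset.mem_singleton] at ha hc
  rcases ha with rfl | rfl <;> rcases hc with rfl | rfl
  exacts [rfl, hij, hij.symm, rfl]

end Groth.Agent.S13166
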