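import Groth.Statements.S13167
import Groth.Agent.Lib.GammaD.Misc26
-- import your own Groth.Agent.* helpers here

set_option autoImplicit false
universe u
open AlgebraicGeometry
open ZeroCyc

namespace Groth.Agent.S13167

/-- Let B be a graded R-algebra generated by its degree-one part B_1, with B_1 a finitely generated
R-module, and let x_1, …, x_d be points of X = Proj B lying over one and the same prime p of R. If
the residue field of p has at least d elements, then some f ∈ B_1 ⊆ Γ(X, O_X(1)) has all the x_i in
D_+(f). (Without the hypothesis on the residue field such an f exists in some B_n with n ≥ 1; that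
first assertion is a known property of ample sheaves and is not restated here.) -/
theorem result {R A : Type u} [CommRing R] [CommRing A] [Algebra R A] (𝒜 : ℕ → Submodule R A) [GradedAlgebra 𝒜]
    (hgen : Algebra.adjoin R (𝒜 1 : Set A) = ⊤) (hfg : (𝒜 1).FG)
    (p : Ideal R) [p.IsPrime] {d : ℕ} (x : Fin d → Proj 𝒜)
    (hx : ∀ i, ((x i).asHomogeneousIdeal.toIdeal).comap (algebraMap R A) = p)
    (hcard : (d : Cardinal) ≤ Cardinal.mk p.ResidueField) :
    ∃ g ∈ 𝒜 1, ∀ i, x i ∈ Proj.basicOpen 𝒜 g := by
  exact Groth.Agent.GammaD.Misc26.exists_degOne 𝒜 hgen p x hx hcard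

end Groth.Agent.S13167
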