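import Groth.Statements.S13169
import Groth.Agent.Lib.Twist.Ample
import Groth.Agent.Lib.TensorMod.Basic
import Groth.Agent.Lib.ModM1.Stalk

set_option autoImplicit false
universe u
open AlgebraicGeometry
open ZeroCyc
open CategoryTheory TopologicalSpace

namespace Groth.Agent.S13169

theorem mem_basicOpen_of_surjective {R A : Type u} [CommRing R] [CommRing A] [Algebra R A]
    (𝒜 : ℕ → Submodule R A) [GradedAlgebra 𝒜] {d e k : ℕ} (f : 𝒜 d) (p : ProjectiveSpectrum 𝒜)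
    {h : A} (hh : h ∈ 𝒜 e) (hk : d = e * k) (hp : p ∈ ProjectiveSpectrum.basicOpen 𝒜 h)
    (U : (Proj 𝒜).Opens) (hpU : p ∈ U)
    (hs : Function.Surjective fun r : Γ(Proj 𝒜, U) =>
      r • Groth.Agent.M1.mres (Twist.twist 𝒜 (d : ℤ)) (le_top : U ≤ ⊤) (Groth.Agent.Twist.gsec 𝒜 f)) :
    p ∈ Proj.basicOpen 𝒜 (f : A) := by
  have hgd : h ^ k ∈ 𝒜 d := by
    have := SetLike.pow_mem_graded k hh
    rwa [smul_eq_mul, mul_comm, ← hk] at this
  obtain ⟨r, hr⟩ := hs (Groth.Agent.M1.mres (Twist.twist 𝒜 (d : ℤ)) (le_top : U ≤ ⊤)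
    (Groth.Agent.Twist.gsec 𝒜 ⟨_, hgd⟩))
  have hgp : h ^ k ∉ p.asHomogeneousIdeal := fun hm => hp (p.isPrime.mem_of_pow_mem k hm)
  have h1 : (1 : A) ∉ p.asHomogeneousIdeal := fun hm => p.isPrime.ne_top ((Ideal.eq_top_iff_one _).mpr hm)
  refine (Groth.Agent.Twist.mem_basicOpen_iff_span 𝒜 f p hgd (SetLike.one_mem_graded 𝒜) (by simp) hgp h1).2
    (top_le_iff.1 ?_)
  rw [← (Groth.Agent.Twist.mem_basicOpen_iff_span 𝒜 ⟨_, hgd⟩ p hgd (SetLike.one_mem_graded 𝒜) (by simp) hgp h1).1 hgp,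
    Submodule.span_singleton_le_iff_mem, Submodule.mem_span_singleton]
  refine ⟨r.1 ⟨p, hpU⟩, Subtype.ext ?_⟩
  have hv := congrArg (fun s : Γ(Twist.twist 𝒜 (d : ℤ), U) =>
    Groth.Agent.Twist.val (n := (d : ℤ)) (U := U) s p hpU) hr
  simp only [Groth.Agent.Twist.val_smul] at hv
  exact hv


/-- Let B be a graded R-algebra generated by homogeneous elements f_1, …, f_s of positive degrees d_1,
…, d_s, let l be the least common multiple of the d_i and X = Proj B. For n = a l with a ≥ 1, the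
twisting sheaf O_X(n) is ample and is generated by its global sections b/1, b ∈ B_n. -/
theorem result {R A : Type u} [CommRing R] [CommRing A] [Algebra R A] (𝒜 : ℕ → Submodule R A) [GradedAlgebra 𝒜]
    {s : ℕ} (f : Fin s → A) (deg : Fin s → ℕ) (hdeg : ∀ i, 0 < deg i) (hf : ∀ i, f i ∈ 𝒜 (deg i))
    (hgen : Algebra.adjoin R (Set.range f) = ⊤) (a : ℕ) (ha : 0 < a) :
    CohB1.IsAmple (Twist.twist 𝒜 ((a * Finset.univ.lcm deg : ℕ) : ℤ)) ∧
      ProjUP.GeneratedBy (Twist.twist 𝒜 ((a * Finset.univ.lcm deg : ℕ) : ℤ))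
        (fun b : 𝒜 (a * Finset.univ.lcm deg) =>
          (Twist.globalOf 𝒜 b : ProjUP.Γm (Twist.twist 𝒜 ((a * Finset.univ.lcm deg : ℕ) : ℤ)))) := by
  classical
  set N := a * Finset.univ.lcm deg with hN
  have hNpos : 0 < N := Nat.mul_pos ha (Nat.pos_of_ne_zero fun h => by
    obtain ⟨i, -, hi⟩ := Finset.lcm_eq_zero_iff.1 h
    exact (hdeg i).ne' hi)
  have hk : ∀ i, ∃ k, N = deg i * k := fun i => dvd_mul_of_dvd_right (Finset.dvd_lcm (Finset.mem_univ i)) a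
  choose k hk using hk
  have hk0 : ∀ i, 0 < k i := fun i => Nat.pos_of_ne_zero fun h => by
    have := hk i; rw [h, mul_zero] at this; omega
  have hh : ∀ i, f i ^ k i ∈ 𝒜 N := fun i => by
    have := SetLike.pow_mem_graded (k i) (hf i)
    rwa [smul_eq_mul, mul_comm, ← hk] at this
  have hgen0 : Algebra.adjoin (𝒜 0) (Set.range f) = ⊤ := top_le_iff.1 fun x h0 => by
    clear h0
    have hx : x ∈ Algebra.adjoin R (Set.range f) := by rw [hgen]; trivial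
    induction hx using Algebra.adjoin_induction with
    | mem y hy => exact Algebra.subset_adjoin hy
    | algebraMap r =>
      have h0 : algebraMap R A r ∈ 𝒜 0 := SetLike.algebraMap_mem_graded 𝒜 r
      exact Subalgebra.algebraMap_mem (Algebra.adjoin (𝒜 0) (Set.range f)) (⟨_, h0⟩ : 𝒜 0)
    | add y z _ _ hy hz => exact add_mem hy hz
    | mul y z _ _ hy hz => exact mul_mem hy hz
  have hcov : ∀ x : Proj 𝒜, ∃ i, x ∈ Proj.basicOpen 𝒜 (f i) := fun x => by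
    have hx : x ∈ (⨆ i, Proj.basicOpen 𝒜 (f i)) := by
      rw [Proj.iSup_basicOpen_eq_top' 𝒜 f (fun i => ⟨_, hf i⟩) hgen0]; trivial
    exact Opens.mem_iSup.1 hx
  let L := Twist.twist 𝒜 (N : ℤ)
  let t : ∀ i, Γ(L, ⊤) := fun i => Groth.Agent.Twist.gsec 𝒜 ⟨_, hh i⟩
  have hb : ∀ i, ∀ V : (Proj 𝒜).Opens, V ≤ Proj.basicOpen 𝒜 (f i ^ k i) → Function.Bijective
      fun r : Γ(Proj 𝒜, V) => r • Groth.Agent.M1.mres L (le_top : V ≤ ⊤) (t i) :=
    fun i V hV => Groth.Agent.Twist.bijective_smul_gsec 𝒜 ⟨_, hh i⟩ V hV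
  have hpow : ∀ i (x : Proj 𝒜), x ∈ Proj.basicOpen 𝒜 (f i) → x ∈ Proj.basicOpen 𝒜 (f i ^ k i) :=
    fun i x hx h => hx (x.isPrime.mem_of_pow_mem _ h)
  refine ⟨⟨fun x => ?_, ?_, fun x => ?_⟩, fun x => ?_⟩
  · obtain ⟨i, hi⟩ := hcov x
    have h := Groth.Agent.Twist.nonempty_iso_basicOpen_mul 𝒜 (d := N) (hh i) (SetLike.one_mem_graded 𝒜)
      (zero_add N).symm 1
    rw [one_mul, mul_one] at h
    exact ⟨_, hpow i x hi, h⟩
  · refine ⟨?_⟩
    have hu : (Set.univ : Set (Proj 𝒜)) = ⋃ i, (Proj.basicOpen 𝒜 (f i) : Set (Proj 𝒜)) := by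
      ext x; simpa using hcov x
    rw [hu]
    exact isCompact_iUnion fun i => (Proj.isAffineOpen_basicOpen 𝒜 (f i) (hf i) (hdeg i)).isCompact
  · obtain ⟨i, hi⟩ := hcov x
    let e : CohB1.tensorPow L 1 ≅ L := Groth.Agent.M2.tensorLUnit _
    refine ⟨0, Groth.Agent.M1.secHom (t i) ≫ e.inv, ?_⟩
    have hg : CohB1.genLocus _ (Groth.Agent.M1.secHom (t i) ≫ e.inv) = Proj.basicOpen 𝒜 (f i ^ k i) := by
      refine (Groth.Agent.Twist.genLocus_comp_iso _ e.symm).trans ?_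
      refine Groth.Agent.Twist.genLocus_secHom_eq _ _ (hb i) fun U hU y hy => ?_
      obtain ⟨j, hj⟩ := hcov y
      exact mem_basicOpen_of_surjective 𝒜 ⟨_, hh i⟩ y (hf j) (hk j) hj U hy (hU U le_rfl).2
    rw [hg]
    exact ⟨hpow i x hi, Proj.isAffineOpen_basicOpen 𝒜 _ (hh i) hNpos⟩
  · obtain ⟨i, hi⟩ := hcov x
    refine top_le_iff.1 fun z _ => ?_
    obtain ⟨V, hxV, s, rfl⟩ := L.presheaf.exists_germ_eq z
    let W := V ⊓ Proj.basicOpen 𝒜 (f i ^ k i)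
    have hxW : x ∈ W := ⟨hxV, hpow i x hi⟩
    obtain ⟨r, hr⟩ := (hb i W inf_le_right).2 (Groth.Agent.M1.mres L (inf_le_left : W ≤ V) s)
    have hs := congrArg (L.presheaf.germ W x hxW) hr
    rw [Groth.Agent.M1.germ_mres, Groth.Agent.M1.germ_smul, Groth.Agent.M1.germ_mres] at hs
    refine hs ▸ Submodule.smul_mem _ _ (Submodule.subset_span ⟨⟨_, hh i⟩, ?_⟩)
    rfl

end Groth.Agent.S13169
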