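import Groth.Statements.S13170
import Groth.Agent.Lib.Twist.TensorInv
import Groth.Agent.Lib.Twist.Frac

set_option autoImplicit false
universe u
open AlgebraicGeometry CategoryTheory
open ZeroCyc
open CategoryTheory TopologicalSpace

namespace Groth.Agent.S13170

/-- Let B be a graded R-algebra generated by homogeneous elements f_1, …, f_s of positive degrees d_1,
…, d_s, let l be the least common multiple of the d_i and X = Proj B. For all integers a and n,
O_X(al) ⊗ O_X(n) ≅ O_X(al + n). (The published statement asserts that the canonical multiplication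
map is an isomorphism; this row asserts only that an isomorphism exists.) -/
theorem result {R A : Type u} [CommRing R] [CommRing A] [Algebra R A] (𝒜 : ℕ → Submodule R A) [GradedAlgebra 𝒜]
    {s : ℕ} (f : Fin s → A) (deg : Fin s → ℕ) (hdeg : ∀ i, 0 < deg i) (hf : ∀ i, f i ∈ 𝒜 (deg i))
    (hgen : Algebra.adjoin R (Set.range f) = ⊤) (a n : ℤ) :
    Nonempty (CohB1.tensorMod (Twist.twist 𝒜 (a * (Finset.univ.lcm deg : ℕ))) (Twist.twist 𝒜 n) ≅
      Twist.twist 𝒜 (a * (Finset.univ.lcm deg : ℕ) + n)) := by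
  classical
  have hgen0 : Algebra.adjoin (𝒜 0) (Set.range f) = ⊤ := top_le_iff.1 fun x h0 => by
    clear h0
    have hx : x ∈ Algebra.adjoin R (Set.range f) := by rw [hgen]; trivial
    induction hx using Algebra.adjoin_induction with
    | mem y hy => exact Algebra.subset_adjoin hy
    | algebraMap r =>
      exact Subalgebra.algebraMap_mem (Algebra.adjoin (𝒜 0) (Set.range f))
        (⟨_, SetLike.algebraMap_mem_graded 𝒜 r⟩ : 𝒜 0)
    | add y z _ _ hy hz => exact add_mem hy hz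
    | mul y z _ _ hy hz => exact mul_mem hy hz
  refine Groth.Agent.Twist.nonempty_tensor_iso_left 𝒜 _ n fun x => ?_
  have hx : x ∈ (⨆ i, Proj.basicOpen 𝒜 (f i)) := by
    rw [Proj.iSup_basicOpen_eq_top' 𝒜 f (fun i => ⟨_, hf i⟩) hgen0]; trivial
  obtain ⟨i, hi⟩ := TopologicalSpace.Opens.mem_iSup.1 hx
  obtain ⟨k, hk⟩ := Finset.dvd_lcm (f := deg) (Finset.mem_univ i)
  have hp : ∀ p : ℕ, f i ^ p ∈ 𝒜 (p * deg i) := fun p => Groth.Agent.Twist.pow_mem_smul 𝒜 (hf i) p
  have hle : ∀ p : ℕ, Proj.basicOpen 𝒜 (f i) ≤ Proj.basicOpen 𝒜 (f i ^ p) :=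
    fun p y hy => Groth.Agent.Twist.pow_notMem 𝒜 hy p
  obtain ⟨p, q, hpq⟩ : ∃ p q : ℕ, a = (p : ℤ) - q := ⟨a.toNat, (-a).toNat, by omega⟩
  refine ⟨_, hi, Groth.Agent.Twist.frac 𝒜 _ (hp (k * p)) (hp (k * q)) ?_ (hle _),
    Groth.Agent.Twist.frac 𝒜 _ (hp (k * q)) (hp (k * p)) ?_ (hle _),
    fun y hy => Groth.Agent.Twist.mk_mul_mk_eq_one 𝒜 (hle _ hy) (hle _ hy)⟩
  all_goals
    rw [hk, hpq]; push_cast; ring

end Groth.Agent.S13170
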