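import Groth.Statements.S13171
import Groth.Agent.Lib.Twist.Frac
import Groth.Agent.Lib.ModM1.Stalk

set_option autoImplicit false
universe u
open AlgebraicGeometry
open ZeroCyc

namespace Groth.Agent.S13171

theorem mem_span_products {R A : Type u} [CommRing R] [CommRing A] [Algebra R A] (𝒜 : ℕ → Submodule R A) [GradedAlgebra 𝒜]
    {s : ℕ} (f : Fin s → A) (deg : Fin s → ℕ) (hdeg : ∀ i, 0 < deg i) (hf : ∀ i, f i ∈ 𝒜 (deg i))
    (hgen : Algebra.adjoin R (Set.range f) = ⊤) (n : ℕ) (hn : (s - 1) * (Finset.univ.lcm deg - 1) ≤ n) (k : ℕ)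
    {a : A} (ha : a ∈ 𝒜 (n + k * Finset.univ.lcm deg)) :
    a ∈ Submodule.span R {y : A | ∃ b ∈ 𝒜 n, ∃ c ∈ 𝒜 (k * Finset.univ.lcm deg), y = b * c} := by
  classical
  set l := Finset.univ.lcm deg with hl
  have hmono : ∀ e : Fin s → ℕ, (∏ j, f j ^ e j) ∈ 𝒜 (∑ j, e j * deg j) := fun e =>
    SetLike.prod_mem_graded 𝒜 _ _ fun j _ => Groth.Agent.Twist.pow_mem_smul 𝒜 (hf j) (e j)
  have hsplit : ∀ (k : ℕ) (e : Fin s → ℕ), ∑ j, e j * deg j = n + k * l →
      ∃ e₁ e₂ : Fin s → ℕ, (∀ j, e j = e₁ j + e₂ j) ∧ ∑ j, e₁ j * deg j = n ∧ ∑ j, e₂ j * deg j = k * l := by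
    intro k
    induction k with
    | zero => exact fun e he => ⟨e, 0, fun j => rfl, by simpa using he, by simp⟩
    | succ k ih =>
      intro e he
      by_cases hl0 : l = 0
      · exact ⟨e, 0, fun j => rfl, by simpa [hl0] using he, by simp [hl0]⟩
      obtain ⟨j, hj⟩ : ∃ j, l ≤ e j * deg j := by
        by_contra hno
        have hb : ∀ j, e j * deg j ≤ l - 1 := fun j => by
          have : ¬ l ≤ e j * deg j := fun h => hno ⟨j, h⟩
          omega
        have hsum : ∑ j, e j * deg j ≤ s * (l - 1) := by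
          simpa using Finset.sum_le_card_nsmul (Finset.univ : Finset (Fin s)) _ _ (fun j _ => hb j)
        have h1 : n + (k + 1) * l ≤ s * (l - 1) := he ▸ hsum
        rcases Nat.eq_zero_or_pos s with hs | hs
        · subst hs
          simp at h1
          omega
        · obtain ⟨s', rfl⟩ : ∃ s', s = s' + 1 := ⟨s - 1, by omega⟩
          rw [Nat.add_sub_cancel] at hn
          rw [add_mul, one_mul, add_mul, one_mul] at h1
          omega
      obtain ⟨q, hq⟩ := Finset.dvd_lcm (f := deg) (Finset.mem_univ j)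
      rw [← hl] at hq
      have hqe : q ≤ e j := Nat.le_of_mul_le_mul_right (by rw [mul_comm q]; exact hq ▸ hj) (hdeg j)
      let e' : Fin s → ℕ := Function.update e j (e j - q)
      have hee : ∀ i, e i = e' i + Pi.single (M := fun _ => ℕ) j q i := fun i => by
        rcases eq_or_ne i j with rfl | hne
        · simp [e', Nat.sub_add_cancel hqe]
        · simp [e', hne]
      have hq' : ∑ i, Pi.single (M := fun _ => ℕ) j q i * deg i = l := by
        rw [Finset.sum_eq_single j (fun i _ hne => by simp [hne]) (by simp), Pi.single_eq_same, hq, mul_comm]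
      have he' : ∑ i, e' i * deg i = n + k * l := by
        have : ∑ i, e i * deg i = ∑ i, e' i * deg i + l := by
          rw [← hq', ← Finset.sum_add_distrib]
          exact Finset.sum_congr rfl fun i _ => by rw [← add_mul, ← hee]
        rw [he] at this
        rw [add_mul, one_mul] at this
        omega
      obtain ⟨e₁, e₂, h12, h1, h2⟩ := ih e' he'
      refine ⟨e₁, fun i => e₂ i + Pi.single (M := fun _ => ℕ) j q i, fun i => by rw [hee i, h12 i, add_assoc], h1, ?_⟩
      simp only [add_mul, Finset.sum_add_distrib, h2, hq', one_mul]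
  rw [Algebra.adjoin_range_eq_range_aeval] at hgen
  obtain ⟨p, rfl⟩ : ∃ p, MvPolynomial.aeval f p = a := by
    have h : a ∈ (MvPolynomial.aeval (R := R) f).range := by rw [hgen]; trivial
    exact h
  rw [← DirectSum.decompose_of_mem_same 𝒜 ha, ← GradedRing.proj_apply]
  clear ha
  induction p using MvPolynomial.induction_on' with
  | add p q hp hq => rw [map_add, map_add]; exact add_mem hp hq
  | monomial e c =>
    have he : MvPolynomial.aeval f (MvPolynomial.monomial e c) = c • ∏ j, f j ^ e j := by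
      rw [MvPolynomial.aeval_monomial, Algebra.smul_def, Finsupp.prod_fintype _ _ (fun i => pow_zero _)]
    rw [he, GradedRing.proj_apply]
    by_cases hw : ∑ j, e j * deg j = n + k * l
    · rw [DirectSum.decompose_of_mem_same 𝒜 (Submodule.smul_mem _ c (hw ▸ hmono e))]
      refine Submodule.smul_mem _ c (Submodule.subset_span ?_)
      obtain ⟨e₁, e₂, h12, h1, h2⟩ := hsplit k e hw
      refine ⟨_, h1 ▸ hmono e₁, _, h2 ▸ hmono e₂, ?_⟩
      rw [← Finset.prod_mul_distrib]
      exact Finset.prod_congr rfl fun j _ => by rw [h12, pow_add]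
    · rw [DirectSum.decompose_of_mem_ne 𝒜 (Submodule.smul_mem _ c (hmono e)) hw]
      exact zero_mem _


/-- Let B be a graded R-algebra generated by homogeneous elements f_1, …, f_s of positive degrees d_1,
…, d_s, let l be the least common multiple of the d_i and X = Proj B. For n ≥ (s − 1)(l − 1), O_X(n)
is generated by its global sections b/1, b ∈ B_n. -/
theorem result {R A : Type u} [CommRing R] [CommRing A] [Algebra R A] (𝒜 : ℕ → Submodule R A) [GradedAlgebra 𝒜]
    {s : ℕ} (f : Fin s → A) (deg : Fin s → ℕ) (hdeg : ∀ i, 0 < deg i) (hf : ∀ i, f i ∈ 𝒜 (deg i))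
    (hgen : Algebra.adjoin R (Set.range f) = ⊤) (n : ℕ) (hn : (s - 1) * (Finset.univ.lcm deg - 1) ≤ n) :
    ProjUP.GeneratedBy (Twist.twist 𝒜 (n : ℤ))
      (fun b : 𝒜 n => (Twist.globalOf 𝒜 b : ProjUP.Γm (Twist.twist 𝒜 (n : ℤ)))) := by
  classical
  have hdeg_pos := hdeg
  clear hdeg
  intro x
  refine top_le_iff.1 fun z _ => ?_
  let L := Twist.twist 𝒜 (n : ℤ)
  obtain ⟨V, hxV, σ, hσ⟩ := L.presheaf.exists_germ_eq z
  obtain ⟨d, i, g, a, hd, hg, ha, hdeg, hxg, hgV, hval⟩ :=
    Groth.Agent.Twist.exists_local_frac 𝒜 (n := (n : ℤ)) (U := V) σ x hxV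
  set l := Finset.univ.lcm deg with hl
  have hl0 : 0 < l := Nat.pos_of_ne_zero fun h => by
    obtain ⟨j, -, hj⟩ := Finset.lcm_eq_zero_iff.1 h
    exact (hdeg_pos j).ne' hj
  obtain rfl : i = n + d := by omega
  have ha' : a * g ^ (l - 1) ∈ 𝒜 (n + d * l) := by
    convert SetLike.mul_mem_graded ha (Groth.Agent.Twist.pow_mem_smul 𝒜 hg (l - 1)) using 2
    obtain ⟨l', hl'⟩ : ∃ l', l = l' + 1 := ⟨l - 1, by omega⟩
    rw [hl', Nat.add_sub_cancel]; ring
  -- products suffice
  have hmon : a * g ^ (l - 1) ∈ Submodule.span R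
      {y : A | ∃ b ∈ 𝒜 n, ∃ c ∈ 𝒜 (d * l), y = b * c} :=
    mem_span_products 𝒜 f deg hdeg_pos hf hgen n (by simpa [l] using hn) d ha'
  let D := Proj.basicOpen 𝒜 g
  let S := Submodule.span ((Proj 𝒜).presheaf.stalk x)
    (Set.range fun b : 𝒜 n => (L.presheaf.germ ⊤ x trivial).hom (Twist.globalOf 𝒜 b))
  have hgl : D ≤ Proj.basicOpen 𝒜 (g ^ l) := fun y hy => Groth.Agent.Twist.pow_notMem 𝒜 hy l
  have hgl' : g ^ l ∈ 𝒜 (d * l) := by rw [mul_comm]; exact Groth.Agent.Twist.pow_mem_smul 𝒜 hg l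
  have key : ∀ y ∈ Submodule.span R {y : A | ∃ b ∈ 𝒜 n, ∃ c ∈ 𝒜 (d * l), y = b * c},
      ∃ τ : Γ(L, D), L.presheaf.germ D x hxg τ ∈ S ∧ ∀ (p : ProjectiveSpectrum 𝒜) (hp : p ∈ D),
        Groth.Agent.Twist.val (n := (n : ℤ)) (U := D) τ p hp = Localization.mk y ⟨g ^ l, hgl hp⟩ := by
    intro y hy
    induction hy using Submodule.span_induction with
    | mem y hy =>
      obtain ⟨b, hb, c, hc, rfl⟩ := hy
      obtain ⟨r, hr⟩ := Groth.Agent.Twist.exists_valO_eq
        (Groth.Agent.Twist.frac 𝒜 (n := 0) D hc hgl' (by simp) hgl)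
      refine ⟨r • Groth.Agent.M1.mres L (le_top : D ≤ ⊤) (Twist.globalOf 𝒜 ⟨b, hb⟩), ?_, fun p hp => ?_⟩
      · rw [Groth.Agent.M1.germ_smul]
        exact Submodule.smul_mem _ _ (Submodule.subset_span
          ⟨⟨b, hb⟩, (Groth.Agent.M1.germ_mres L le_top hxg _).symm⟩)
      · refine (Groth.Agent.Twist.val_smul r _ p hp).trans ?_
        rw [hr, Groth.Agent.Twist.val_frac]
        show Localization.mk c _ * Localization.mk b (⟨1, Groth.Agent.Twist.one_notMem_prime 𝒜 p⟩ : p.asHomogeneousIdeal.toIdeal.primeCompl) = _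
        rw [Localization.mk_mul, mul_comm c b]
        exact congrArg (Localization.mk _) (mul_one _)
    | zero =>
      exact ⟨0, by rw [map_zero]; exact zero_mem _, fun p hp => by rw [Localization.mk_zero]; rfl⟩
    | add y y' _ _ hy hy' =>
      obtain ⟨τ, hτ, hτv⟩ := hy
      obtain ⟨τ', hτ', hτv'⟩ := hy'
      refine ⟨τ + τ', by rw [map_add]; exact add_mem hτ hτ', fun p hp => ?_⟩
      show Groth.Agent.Twist.val (n := (n : ℤ)) (U := D) τ p hp + Groth.Agent.Twist.val (n := (n : ℤ)) (U := D) τ' p hp = _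
      rw [hτv, hτv', Localization.add_mk_self]
    | smul c y _ hy =>
      obtain ⟨τ, hτ, hτv⟩ := hy
      obtain ⟨r, hr⟩ := Groth.Agent.Twist.exists_valO_eq
        (Groth.Agent.Twist.frac 𝒜 (n := 0) D (SetLike.algebraMap_mem_graded 𝒜 c) (SetLike.one_mem_graded 𝒜)
          (by simp) (fun p _ => Groth.Agent.Twist.one_notMem_prime 𝒜 p))
      refine ⟨r • τ, by rw [Groth.Agent.M1.germ_smul]; exact Submodule.smul_mem _ _ hτ, fun p hp => ?_⟩
      refine (Groth.Agent.Twist.val_smul r _ p hp).trans ?_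
      rw [hr, hτv]
      show Localization.mk (algebraMap R A c) (⟨1, Groth.Agent.Twist.one_notMem_prime 𝒜 p⟩ : p.asHomogeneousIdeal.toIdeal.primeCompl) * _ = _
      rw [Localization.mk_mul, Algebra.smul_def]
      exact congrArg (Localization.mk _) (one_mul _)
  obtain ⟨τ, hτ, hτv⟩ := key _ hmon
  have hres : Groth.Agent.M1.mres L hgV σ = τ := Groth.Agent.Twist.sec_ext fun p hp => by
    refine (hval p (hgV hp) hp).trans ((Groth.Agent.Twist.mk_eq_iff 𝒜 _ _).2 ⟨1, Groth.Agent.Twist.one_notMem_prime 𝒜 p, ?_⟩ |>.trans (hτv p hp).symm)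
    obtain ⟨l', hl'⟩ : ∃ l', l = l' + 1 := ⟨l - 1, by omega⟩
    rw [hl', Nat.add_sub_cancel]; ring
  rw [← Groth.Agent.M1.germ_mres L hgV hxg σ, hres] at hσ
  show z ∈ S
  rw [← hσ]
  exact hτ

end Groth.Agent.S13171
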