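import Groth.Statements.S13172
import Groth.Agent.Lib.Twist.Ample
import Groth.Agent.Lib.ModM1.Stalk

set_option autoImplicit false
universe u
open AlgebraicGeometry
open ZeroCyc
open CategoryTheory TopologicalSpace

namespace Groth.Agent.S13172

/-- Let B be a graded R-algebra generated by elements of degree at most d (no finiteness assumed) such
that X = Proj B is covered by the opens D_+(g), g ∈ B_1. Then for every n ≥ 1, O_X(n) is generated
by its global sections b/1, b ∈ B_n. -/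
theorem result {R A : Type u} [CommRing R] [CommRing A] [Algebra R A] (𝒜 : ℕ → Submodule R A) [GradedAlgebra 𝒜]
    (d : ℕ) (hgen : Algebra.adjoin R (⋃ i ∈ Finset.range (d + 1), (𝒜 i : Set A)) = ⊤)
    (hcov : (⨆ g : 𝒜 1, Proj.basicOpen 𝒜 (g : A)) = ⊤) (n : ℕ) (hn : 0 < n) :
    ProjUP.GeneratedBy (Twist.twist 𝒜 (n : ℤ))
      (fun b : 𝒜 n => (Twist.globalOf 𝒜 b : ProjUP.Γm (Twist.twist 𝒜 (n : ℤ)))) := by
  intro x
  have hx : x ∈ (⨆ g : 𝒜 1, Proj.basicOpen 𝒜 (g : A)) := by rw [hcov]; trivial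
  obtain ⟨⟨g, hg⟩, hgx⟩ := TopologicalSpace.Opens.mem_iSup.1 hx
  have hgd : g ^ n ∈ 𝒜 n := by simpa using SetLike.pow_mem_graded n hg
  refine top_le_iff.1 fun z _ => ?_
  let L := Twist.twist 𝒜 (n : ℤ)
  obtain ⟨V, hxV, s, rfl⟩ := L.presheaf.exists_germ_eq z
  let W := V ⊓ Proj.basicOpen 𝒜 (g ^ n)
  have hxW : x ∈ W := ⟨hxV, fun h => hgx (x.isPrime.mem_of_pow_mem n h)⟩
  obtain ⟨r, hr⟩ := (Groth.Agent.Twist.bijective_smul_gsec 𝒜 ⟨_, hgd⟩ W inf_le_right).2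
    (Groth.Agent.M1.mres L (inf_le_left : W ≤ V) s)
  have hs := congrArg (L.presheaf.germ W x hxW) hr
  rw [Groth.Agent.M1.germ_mres, Groth.Agent.M1.germ_smul, Groth.Agent.M1.germ_mres] at hs
  refine hs ▸ Submodule.smul_mem _ _ (Submodule.subset_span ⟨⟨_, hgd⟩, ?_⟩)
  rfl

end Groth.Agent.S13172
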