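import Groth.Statements.S13173
import Groth.Agent.Lib.Twist.Ample
import Groth.Agent.Lib.TensorMod.Basic

set_option autoImplicit false
universe u
open AlgebraicGeometry
open ZeroCyc
open CategoryTheory TopologicalSpace

namespace Groth.Agent.S13173

/-- Let B be a graded R-algebra generated by elements of degree at most d, such that X = Proj B is
quasi-compact and covered by the opens D_+(g), g ∈ B_1. Then O_X(n) is ample for every n ≥ 1. (The
published statement does not assume X quasi-compact, which ampleness as used here requires and which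
fails for a polynomial ring in infinitely many degree-one variables; this row assumes it.) -/
theorem result {R A : Type u} [CommRing R] [CommRing A] [Algebra R A] (𝒜 : ℕ → Submodule R A) [GradedAlgebra 𝒜]
    (d : ℕ) (hgen : Algebra.adjoin R (⋃ i ∈ Finset.range (d + 1), (𝒜 i : Set A)) = ⊤)
    (hcov : (⨆ g : 𝒜 1, Proj.basicOpen 𝒜 (g : A)) = ⊤) [CompactSpace (Proj 𝒜)] (n : ℕ) (hn : 0 < n) :
    CohB1.IsAmple (Twist.twist 𝒜 (n : ℤ)) := by
  refine ⟨Groth.Agent.Twist.isInvertible_twist 𝒜 hcov _, inferInstance, fun x => ?_⟩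
  have hx : x ∈ (⨆ g : 𝒜 1, Proj.basicOpen 𝒜 (g : A)) := by rw [hcov]; trivial
  obtain ⟨⟨g, hg⟩, hgx⟩ := TopologicalSpace.Opens.mem_iSup.1 hx
  have hgd : g ^ n ∈ 𝒜 n := by simpa using SetLike.pow_mem_graded n hg
  let e : CohB1.tensorPow (Twist.twist 𝒜 (n : ℤ)) 1 ≅ Twist.twist 𝒜 (n : ℤ) := Groth.Agent.M2.tensorLUnit _
  refine ⟨0, Groth.Agent.M1.secHom (Groth.Agent.Twist.gsec 𝒜 ⟨_, hgd⟩) ≫ e.inv, ?_⟩
  have hl : CohB1.genLocus _ (Groth.Agent.M1.secHom (Groth.Agent.Twist.gsec 𝒜 ⟨_, hgd⟩) ≫ e.inv) =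
      Proj.basicOpen 𝒜 (g ^ n) :=
    (Groth.Agent.Twist.genLocus_comp_iso _ e.symm).trans (Groth.Agent.Twist.genLocus_gsec 𝒜 hcov _)
  rw [hl]
  exact ⟨fun h => hgx (x.isPrime.mem_of_pow_mem n h), Proj.isAffineOpen_basicOpen 𝒜 _ hgd hn⟩

end Groth.Agent.S13173
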