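import Groth.Statements.S13176
import Groth.Agent.Lib.QuotCmp26.Basic
-- import your own Groth.Agent.* helpers here

set_option autoImplicit false
universe u
open CategoryTheory CategoryTheory.Limits AlgebraicGeometry
open ZeroCyc

namespace Groth.Agent.S13176

/-- Let a finite group G act on a scheme X over S through ρ, let q : X → Y be a quotient of X by G over
S (affine, G-invariant, O_Y = the G-invariant sections of O_X), let S' → S be any morphism and X' =
X ×_S S' with the induced action ρ', and let r : X' → Y' be a quotient of X' by G. Then the morphism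
Y' → Y ×_S S' through which the canonical map X' → Y ×_S S' factors via r is a universal
homeomorphism. (The published statement assumes every G-orbit lies in an affine open, which is what
makes the quotients exist; here the two quotients are hypotheses.) -/
theorem result {X Y S S' Y' : Scheme.{u}} {G : Type u} [Group G] [Finite G]
    (ρ : G →* Aut X) (f : X ⟶ S) (hρ : ∀ σ : G, (ρ σ).hom ≫ f = f)
    (q : X ⟶ Y) (h : Y ⟶ S) (hq : q ≫ h = f) (hquot : SGA1.IsQuot ρ q)
    (g : S' ⟶ S)
    (ρ' : G →* Aut (pullback f g))
    (hρ' : ∀ σ : G, (ρ' σ).hom ≫ pullback.fst f g = pullback.fst f g ≫ (ρ σ).hom ∧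
      (ρ' σ).hom ≫ pullback.snd f g = pullback.snd f g)
    (r : pullback f g ⟶ Y') (hr : SGA1.IsQuot ρ' r)
    (m : Y' ⟶ pullback h g)
    (hm : r ≫ m = pullback.map f g h g q (𝟙 S') (𝟙 S)
      ((Category.comp_id f).trans hq.symm) ((Category.comp_id g).trans (Category.id_comp g).symm)) :
    FlatMor.IsUnivHomeo m := by
  exact QuotCmp26.baseChange_comparison ρ f q h hq hquot g ρ' hρ' r hr m
    (by rw [← Category.assoc, hm]; simp only [pullback.map, Category.comp_id]; first | exact pullback.lift_fst _ _ _ | exact pullback.lift_snd _ _ _)
    (by rw [← Category.assoc, hm]; simp only [pullback.map, Category.comp_id]; first | exact pullback.lift_fst _ _ _ | exact pullback.lift_snd _ _ _)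

end Groth.Agent.S13176
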