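import Groth.Statements.S13178
import Groth.Agent.Lib.GammaD.FieldLaw26b
-- import your own Groth.Agent.* helpers here

set_option autoImplicit false
universe u
open scoped TensorProduct
open ZeroCyc

namespace Groth.Agent.S13178

/-- Let K/k be a finite field extension with separable degree d_s and exponent e (the least e ≥ 1 such
that x^e is separable over k for every x ∈ K), and let d ≥ 0. The k-points of Γ^d(Spec K / Spec k)
are the multiplicative polynomial laws K → k over k that are homogeneous of degree d; there is at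
most one such law, and one exists if and only if the quasi-degree d_s·e divides d. (The
identification of k-points of Γ^d with multiplicative homogeneous laws is the universal property of
the algebra of divided powers; the row is stated directly for laws.) -/
theorem result {k : Type u} [Field k] {K : Type u} [Field K] [Algebra k K]
    [FiniteDimensional k K] (d e : ℕ) (he : 0 < e) (hexp : ∀ x : K, x ^ e ∈ separableClosure k K)
    (hmin : ∀ n : ℕ, 0 < n → (∀ x : K, x ^ n ∈ separableClosure k K) → e ≤ n) :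
    (∀ F F' : K →ₚₗ[k] k,
      ((∀ (S : Type u) [CommRing S] [Algebra k S], F.toFun' S 1 = 1 ∧
        ∀ x y : S ⊗[k] K, F.toFun' S (x * y) = F.toFun' S x * F.toFun' S y) ∧
      ∀ (S : Type u) [CommRing S] [Algebra k S] (a : S) (z : S ⊗[k] K), F.toFun' S (a • z) = a ^ d • F.toFun' S z) →
      ((∀ (S : Type u) [CommRing S] [Algebra k S], F'.toFun' S 1 = 1 ∧
        ∀ x y : S ⊗[k] K, F'.toFun' S (x * y) = F'.toFun' S x * F'.toFun' S y) ∧
      ∀ (S : Type u) [CommRing S] [Algebra k S] (a : S) (z : S ⊗[k] K), F'.toFun' S (a • z) = a ^ d • F'.toFun' S z) → F = F') ∧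
    ((∃ F : K →ₚₗ[k] k, ((∀ (S : Type u) [CommRing S] [Algebra k S], F.toFun' S 1 = 1 ∧
        ∀ x y : S ⊗[k] K, F.toFun' S (x * y) = F.toFun' S x * F.toFun' S y) ∧
      ∀ (S : Type u) [CommRing S] [Algebra k S] (a : S) (z : S ⊗[k] K), F.toFun' S (a • z) = a ^ d • F.toFun' S z)) ↔ Field.finSepDegree k K * e ∣ d) := by
  obtain ⟨hu, hiff⟩ := Groth.Agent.GammaD.FieldLaw.main (k := k) (K := K) d e he hexp hmin
  let mk : ∀ F : K →ₚₗ[k] k, ((∀ (S : Type u) [CommRing S] [Algebra k S], F.toFun' S 1 = 1 ∧
      ∀ x y : S ⊗[k] K, F.toFun' S (x * y) = F.toFun' S x * F.toFun' S y) ∧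
    ∀ (S : Type u) [CommRing S] [Algebra k S] (a : S) (z : S ⊗[k] K), F.toFun' S (a • z) = a ^ d • F.toFun' S z) →
    PolLaw.MulLaw k K k d := fun F hF =>
    ⟨F, fun S _ _ a z => by letI : CommRing S := { Algebra.semiringToRing k with mul_comm := mul_comm }; exact hF.2 S a z,
      fun S _ _ => by letI : CommRing S := { Algebra.semiringToRing k with mul_comm := mul_comm }; exact hF.1 S⟩
  refine ⟨fun F F' hF hF' => hu (mk F hF) (mk F' hF'), ?_⟩
  rw [← hiff]
  exact ⟨fun ⟨F, hF⟩ => ⟨mk F hF⟩, fun ⟨F⟩ => ⟨F.law, fun S _ _ => F.mult S, fun S _ _ a z => F.homog S a z⟩⟩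

end Groth.Agent.S13178
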