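import Groth.Statements.S13179
import Groth.Agent.Lib.QuotAmple14.Main
import Groth.Agent.S4418
import Groth.Agent.Lib.VeryAmple11.FT
import Groth.Agent.Lib.VeryAmple11.AmplePow

set_option autoImplicit false
universe u
open CategoryTheory CategoryTheory.Limits AlgebraicGeometry
open ZeroCyc

namespace Groth.Agent.S13179

/-- Let S be a Noetherian scheme, X → S projective and G a finite group acting on X by S-automorphisms.
Then a quotient q : X → X/G by G exists (affine, G-invariant, O_{X/G} = invariant sections) with X/G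
→ S projective. -/
theorem result {X S : Scheme.{u}} (f : X ⟶ S) [IsNoetherian S]
    {G : Type u} [Group G] [Finite G] (ρ : G →* Aut X) (hρ : ∀ σ : G, (ρ σ).hom ≫ f = f)
    (hf : RelProj.IsProjective f) :
    ∃ (Y : Scheme.{u}) (q : X ⟶ Y) (h : Y ⟶ S), q ≫ h = f ∧ SGA1.IsQuot ρ q ∧ RelProj.IsProjective h := by
  obtain ⟨hq', hprop⟩ := Groth.Agent.S4418.result f hf
  haveI := hprop
  obtain ⟨Y, q, h, hh, hq, hqp⟩ := Groth.Agent.QuotAmple14.exists_quot_isQuasiProjective f hρ hq'
  obtain ⟨hlft, hqc, L, hL⟩ := id hqp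
  haveI := hlft
  haveI := hqc
  haveI : IsProper (q ≫ h) := by rw [hh]; exact hprop
  haveI : IsSeparated h := (Groth.Agent.IsQuot25.isSeparated_iff hq h).1 inferInstance
  haveI : Surjective q := ⟨Groth.Agent.IsQuot25.surjective hq⟩
  haveI : UniversallyClosed h := UniversallyClosed.of_comp_surjective q h
  haveI : IsProper h := {}
  obtain ⟨n₀, -, hn⟩ := Groth.Agent.VA11.eventually_isRelVeryAmple h hL
  exact ⟨Y, q, h, hh, hq, Groth.Agent.VA11.isProjective_of_isProper_of_isRelVeryAmple (hn n₀ le_rfl)⟩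

end Groth.Agent.S13179
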