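import Groth.Statements.S13180
import Groth.Agent.Lib.QuotAmple14.Main

set_option autoImplicit false
universe u
open CategoryTheory CategoryTheory.Limits AlgebraicGeometry
open ZeroCyc

namespace Groth.Agent.S13180

/-- Let S be a Noetherian scheme, X → S quasi-projective (of finite type with a relatively ample
invertible module) and G a finite group acting on X by S-automorphisms. Then a quotient q : X → X/G
by G exists (affine, G-invariant, O_{X/G} = invariant sections) with X/G → S quasi-projective. -/
theorem result {X S : Scheme.{u}} (f : X ⟶ S) [IsNoetherian S]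
    {G : Type u} [Group G] [Finite G] (ρ : G →* Aut X) (hρ : ∀ σ : G, (ρ σ).hom ≫ f = f)
    (hf : RelProj.IsQuasiProjective f) :
    ∃ (Y : Scheme.{u}) (q : X ⟶ Y) (h : Y ⟶ S), q ≫ h = f ∧ SGA1.IsQuot ρ q ∧ RelProj.IsQuasiProjective h := by
  exact Groth.Agent.QuotAmple14.exists_quot_isQuasiProjective f hρ hf

end Groth.Agent.S13180
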