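import Groth.Statements.S13183
import Groth.Agent.Lib.Emb26.Mono

set_option autoImplicit false
universe u
open CategoryTheory CategoryTheory.Limits AlgebraicGeometry
open ZeroCyc

namespace Groth.Agent.S13183

/-- Let B be a graded R-algebra of finite type, generated by elements of degrees between 1 and d, such
that X = Proj B is covered by the opens D_+(g), g ∈ B_1. For n ≥ d, n ≥ 1, there is a closed
immersion i of X into a projective space over R, over Spec R, with O_X(n) ≅ i^*O(1); in particular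
O_X(n) is very ample relative to Spec R. (The published statement assumes neither finite generation
nor that the generators have positive degree, and its target is P(B_n) with i the canonical morphism
given by B_n; a closed immersion into a projective space of finite type over R needs X proper over
R, so B is taken of finite type with generators of positive degree; existence of the isomorphism
only.) -/
theorem result {R A : Type u} [CommRing R] [CommRing A] [Algebra R A] (𝒜 : ℕ → Submodule R A) [GradedAlgebra 𝒜]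
    (d : ℕ) (hgen : Algebra.adjoin R (⋃ i ∈ Finset.Icc 1 d, (𝒜 i : Set A)) = ⊤)
    (hcov : (⨆ g : 𝒜 1, Proj.basicOpen 𝒜 (g : A)) = ⊤) [Algebra.FiniteType R A] (n : ℕ) (hn : d ≤ n) (hn1 : 0 < n) :
    ∃ (N : ℕ) (i : Proj 𝒜 ⟶ CohB1.ProjSpaceOver N (Spec (CommRingCat.of R))), IsClosedImmersion i ∧
      i ≫ pullback.snd (CohB1.ProjSpace.toSpec N (ULift.{u} ℤ)) (specULiftZIsTerminal.from (Spec (CommRingCat.of R))) =
        Proj.toSpecZero 𝒜 ≫ Spec.map (CommRingCat.ofHom (algebraMap R (𝒜 0))) ∧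
      Nonempty (Twist.twist 𝒜 (n : ℤ) ≅
        (Scheme.Modules.pullback i).obj (Twist.twistOver N (Spec (CommRingCat.of R)) 1)) := by
  classical
  obtain ⟨S, hS⟩ := (Algebra.FiniteType.out : (⊤ : Subalgebra R A).FG)
  choose t htU ht using fun z : A => Groth.Agent.Emb26.exists_finset_adjoin
    (hgen.ge (Algebra.mem_top (R := R) (x := z)))
  let T : Finset A := S.biUnion t
  have hT : ∀ z : T, ∃ i, 1 ≤ i ∧ i ≤ d ∧ (z : A) ∈ 𝒜 i := fun z => by
    obtain ⟨b, -, hb⟩ := Finset.mem_biUnion.1 z.2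
    obtain ⟨i, hi, hz⟩ := Set.mem_iUnion₂.1 (htU b hb)
    exact ⟨i, (Finset.mem_Icc.1 hi).1, (Finset.mem_Icc.1 hi).2, hz⟩
  choose deg hdeg hdle hf using hT
  let f : T → A := fun z => z
  have hgenT : Algebra.adjoin R (Set.range f) = ⊤ := by
    rw [eq_top_iff, ← hS]
    refine Algebra.adjoin_le fun z hz => Algebra.adjoin_mono ?_ (ht z)
    intro y hy
    exact ⟨⟨y, Finset.mem_biUnion.2 ⟨z, hz, hy⟩⟩, rfl⟩
  refine Groth.Agent.Emb26.exists_closedImmersion_mon 𝒜 f deg hf hgenT hdeg hn1
    (fun e => ∃ i, deg i = 1 ∧ e = Pi.single i n) ?_ ?_ ?_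
  · rintro e ⟨i, hi, rfl⟩
    rw [Groth.Agent.Emb26.wt_single, hi, mul_one]
  · intro x
    by_contra hno
    push Not at hno
    obtain ⟨g, hg⟩ := TopologicalSpace.Opens.mem_iSup.1 (hcov.ge (Set.mem_univ (x : Proj 𝒜)))
    refine hg ((Submodule.span_le (p := (x.asHomogeneousIdeal.toIdeal.restrictScalars R))).2 ?_
      (Groth.Agent.Emb26.mem_span_mon 𝒜 f deg hf hgenT g.2))
    rintro _ ⟨e, he, rfl⟩
    obtain ⟨i, -, hi⟩ : ∃ i ∈ Finset.univ, e i * deg i ≠ 0 :=
      Finset.exists_ne_zero_of_sum_ne_zero (by rw [show ∑ i, e i * deg i = 1 from he]; omega)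
    have hle : e i * deg i ≤ 1 := he ▸ Finset.single_le_sum (f := fun j => e j * deg j)
      (fun j _ => Nat.zero_le _) (Finset.mem_univ i)
    have hei : e i ≠ 0 := fun h => hi (by simp [h])
    have hd1 : deg i = 1 := le_antisymm ((Nat.le_mul_of_pos_left _ (Nat.pos_of_ne_zero hei)).trans hle) (hdeg i)
    have h1 := hno _ ⟨i, hd1, rfl⟩
    rw [Groth.Agent.Emb26.mon_single] at h1
    show Groth.Agent.Emb26.mon f e ∈ x.asHomogeneousIdeal.toIdeal
    exact Ideal.mem_of_dvd _ (Finset.dvd_prod_of_mem _ (Finset.mem_univ i))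
      (Ideal.pow_mem_of_mem _ (x.isPrime.mem_of_pow_mem n h1) _ (Nat.pos_of_ne_zero hei))
  · rintro e₀ ⟨i₀, hi₀, rfl⟩ k e he
    have hke : k ≤ ∑ j, e j := by
      refine Nat.le_of_mul_le_mul_right ?_ hn1
      rw [← he, Groth.Agent.Emb26.wt, Finset.sum_mul]
      exact Finset.sum_le_sum fun j _ => Nat.mul_le_mul le_rfl ((hdle j).trans hn)
    refine ⟨∑ j, e j - k, ?_⟩
    have hsum : ∑ j, e j * (n - deg j) = (∑ j, e j - k) * n := by
      have h1 : ∑ j, e j * (n - deg j) + k * n = (∑ j, e j) * n := by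
        rw [← he, Groth.Agent.Emb26.wt, ← Finset.sum_add_distrib, Finset.sum_mul]
        refine Finset.sum_congr rfl fun j _ => ?_
        rw [← mul_add, Nat.sub_add_cancel ((hdle j).trans hn)]
      rw [Nat.sub_mul]; omega
    have key : Groth.Agent.Emb26.mon f (Pi.single i₀ n) ^ (∑ j, e j - k) * Groth.Agent.Emb26.mon f e =
        ∏ j, Groth.Agent.Emb26.mon f (Pi.single i₀ (n - deg j) + Pi.single j 1) ^ e j := by
      simp only [Groth.Agent.Emb26.mon_add, Groth.Agent.Emb26.mon_single, pow_one, mul_pow, ← pow_mul,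
        Finset.prod_mul_distrib, Finset.prod_pow_eq_pow_sum]
      congr 1
      rw [mul_comm n, ← hsum]
      exact congrArg (f i₀ ^ ·) (Finset.sum_congr rfl fun j _ => mul_comm _ _)
    rw [key]
    refine prod_mem fun j _ => pow_mem (Algebra.subset_adjoin ?_) _
    refine ⟨_, ?_, rfl⟩
    rw [Groth.Agent.Emb26.wt_add, Groth.Agent.Emb26.wt_single, Groth.Agent.Emb26.wt_single, hi₀, one_mul, mul_one,
      Nat.sub_add_cancel ((hdle j).trans hn)]

end Groth.Agent.S13183
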