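import Groth.Statements.S13186
import Groth.Agent.Lib.GalCoh25.Descent
import Mathlib.LinearAlgebra.Matrix.GeneralLinearGroup.Defs
import Mathlib.LinearAlgebra.Matrix.ToLin
import Mathlib.Data.Matrix.Mul

set_option autoImplicit false
universe u
open GalCoh

namespace Groth.Agent.S13186

lemma exists_basis_of_span_aux {L : Type u} [Field L] {n : ℕ} {S : Set (Fin n → L)}
    (h : Submodule.span L S = ⊤) :
    ∃ (t : Finset (Fin n → L)) (_ : (t : Set (Fin n → L)) ⊆ S) (b : Module.Basis t L (Fin n → L)), ∀ i, b i = i.1 := by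
  classical
  obtain ⟨t, htS, hspan, hli⟩ := exists_linearIndependent L S
  have hfin : t.Finite := hli.setFinite
  refine ⟨hfin.toFinset, by simpa using htS, ?_⟩
  let b₀ : Module.Basis t L (Fin n → L) := Module.Basis.mk hli (by rw [Subtype.range_coe, hspan, h])
  let e : t ≃ hfin.toFinset := Equiv.subtypeEquivRight fun x => hfin.mem_toFinset.symm
  exact ⟨b₀.reindex e, fun i => by simp [b₀, e]⟩


/-- Let L/K be a finite Galois extension of fields, n a natural number, and B a map from the Galois
group of L over K to the invertible n × n matrices over L such that B(σ) · σ(B(τ)) = B(στ) for all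
σ, τ (σ acting on matrices entrywise, στ applying τ first) and det B(σ) = 1 for every σ. Then there
is an invertible matrix A over L of determinant 1 with B(σ) = A⁻¹ · σ(A) for every σ; that is, every
1-cocycle of the Galois group with values in SL_n(L) is the coboundary of an element of SL_n(L), so
H¹ of the Galois group with values in SL_n(L) is a point. (The published statement says that every
torsor under the special linear group over K is trivial; this row is the finite-Galois-level cocycle
form that its proof establishes.) -/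
theorem result (K L : Type u) [Field K] [Field L]
    [Algebra K L] [FiniteDimensional K L] [IsGalois K L] (n : ℕ)
    (B : (L ≃ₐ[K] L) → GL (Fin n) L)
    (hB : ∀ σ τ : L ≃ₐ[K] L,
      (B σ : Matrix (Fin n) (Fin n) L) * (B τ : Matrix (Fin n) (Fin n) L).map σ =
        (B (σ * τ) : Matrix (Fin n) (Fin n) L))
    (hdet : ∀ σ : L ≃ₐ[K] L, Matrix.det (B σ : Matrix (Fin n) (Fin n) L) = 1) :
    ∃ A : GL (Fin n) L, Matrix.det (A : Matrix (Fin n) (Fin n) L) = 1 ∧ ∀ σ : L ≃ₐ[K] L,
      (B σ : Matrix (Fin n) (Fin n) L) =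
        ((A⁻¹ : GL (Fin n) L) : Matrix (Fin n) (Fin n) L) * (A : Matrix (Fin n) (Fin n) L).map σ := by
  classical
  let ρ : (L ≃ₐ[K] L) → (Fin n → L) → (Fin n → L) := fun σ v => (B σ : Matrix (Fin n) (Fin n) L).mulVec (σ ∘ v)
  have hB1 : (B 1 : Matrix (Fin n) (Fin n) L) = 1 := by
    have h := hB 1 1
    rw [one_mul, show ((B 1 : Matrix (Fin n) (Fin n) L).map (1 : L ≃ₐ[K] L)) = B 1 from Matrix.ext fun i j => rfl] at h
    exact (B 1).isUnit.mul_left_cancel (h.trans (mul_one _).symm)
  have hρ : GalCoh25.IsSemilinearAction ρ := by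
    refine ⟨fun v => ?_, fun σ τ v => ?_, fun σ v w => ?_, fun σ c v => ?_⟩
    · simp only [ρ, hB1, Matrix.one_mulVec]; rfl
    · simp only [ρ]
      rw [← hB σ τ, ← Matrix.mulVec_mulVec]
      congr 1
      funext i
      simp [Matrix.mulVec, dotProduct, map_sum, AlgEquiv.mul_apply]
    · simp only [ρ]
      rw [← Matrix.mulVec_add]
      congr 1
      funext i; simp
    · simp only [ρ]
      rw [← Matrix.mulVec_smul]
      congr 1
      funext i; simp
  obtain ⟨s, hs, b, hb⟩ := exists_basis_of_span_aux (GalCoh25.span_fixed_eq_top hρ)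
  let e : Fin n ≃ s := (Fintype.equivFinOfCardEq (by
    have := Module.finrank_eq_card_basis b
    rw [Module.finrank_fin_fun] at this
    exact this.symm)).symm
  let P : Matrix (Fin n) (Fin n) L := Matrix.of fun i j => (e j : Fin n → L) i
  have hP : IsUnit P := by
    rw [← Matrix.linearIndependent_cols_iff_isUnit]
    have : P.col = fun j => b.reindex e.symm j := by
      funext j i; simp [P, hb]
    rw [this]
    exact (b.reindex e.symm).linearIndependent
  have hfix : ∀ σ : L ≃ₐ[K] L, (B σ : Matrix (Fin n) (Fin n) L) * P.map σ = P := by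
    intro σ
    ext i j
    exact congrFun (hs (e j).2 σ) i
  obtain ⟨U, hU⟩ := hP
  have hdetfix : ∀ σ : L ≃ₐ[K] L, σ P.det = P.det := by
    intro σ
    have := congrArg Matrix.det (hfix σ)
    rw [Matrix.det_mul, hdet, one_mul] at this
    rw [← AlgEquiv.coe_algHom, AlgHom.map_det]
    exact this
  have hdet0 : P.det ≠ 0 := by
    rw [← hU]; exact ((Matrix.isUnit_iff_isUnit_det _).mp U.isUnit).ne_zero
  -- rescale the first column by the inverse determinant
  let D : Matrix (Fin n) (Fin n) L := Matrix.diagonal fun j => if (j : ℕ) = 0 then P.det⁻¹ else 1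
  have hD : ∀ σ : L ≃ₐ[K] L, D.map σ = D := by
    intro σ
    rw [Matrix.diagonal_map (map_zero σ)]
    congr 1; funext j
    by_cases hj : (j : ℕ) = 0 <;> simp [hj, hdetfix]
  have hQdet : (P * D).det = 1 := by
    rcases Nat.eq_zero_or_pos n with rfl | hn
    · simp
    · rw [Matrix.det_mul, Matrix.det_diagonal, Finset.prod_eq_single (⟨0, hn⟩ : Fin n)]
      · simp [mul_inv_cancel₀ hdet0]
      · intro j _ hj; rw [if_neg (fun h => hj (Fin.ext h))]
      · simp
  let Q : GL (Fin n) L := Matrix.GeneralLinearGroup.mkOfDetNeZero (P * D) (by rw [hQdet]; exact one_ne_zero)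
  have hQ : (Q : Matrix (Fin n) (Fin n) L) = P * D := rfl
  refine ⟨Q⁻¹, ?_, fun σ => ?_⟩
  · rw [Matrix.coe_units_inv, Matrix.det_nonsing_inv, hQ, hQdet, Ring.inverse_one]
  · rw [inv_inv, hQ]
    have h1 : (B σ : Matrix (Fin n) (Fin n) L) * (P * D).map σ = P * D := by
      rw [Matrix.map_mul, hD, ← mul_assoc, hfix]
    have h2 : (P * D).map σ * ((Q⁻¹ : GL (Fin n) L) : Matrix (Fin n) (Fin n) L).map σ = 1 := by
      rw [← Matrix.map_mul, ← hQ, ← Units.val_mul, mul_inv_cancel, Units.val_one, Matrix.map_one σ (map_zero σ) (map_one σ)]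
    calc (B σ : Matrix (Fin n) (Fin n) L) = B σ * ((P * D).map σ * ((Q⁻¹ : GL (Fin n) L) : Matrix (Fin n) (Fin n) L).map σ) := by rw [h2, mul_one]
      _ = (P * D) * ((Q⁻¹ : GL (Fin n) L) : Matrix (Fin n) (Fin n) L).map σ := by rw [← mul_assoc, h1]

end Groth.Agent.S13186
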