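import Groth.Statements.S13187
import Groth.Agent.Lib.TsenLang.Basic

set_option autoImplicit false
universe u v
open Curves

namespace Groth.Agent.S13187

/-- If a field k has property C_m for systems of forms and the extension field K of k has a finite
transcendence basis with t elements, then K has property C_{m+t} for systems of forms. (Property C_m
is the systems version: any r forms of positive degrees d_1, …, d_r in n variables with Σ d_i^m < n
have a common non-trivial zero.) -/
theorem result (k : Type u) [Field k] (K : Type v) [Field K] [Algebra k K]
    (m t : ℕ) (x : Fin t → K) (hx : IsTranscendenceBasis k x) (hk : Curves.IsCi k m) :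
    Curves.IsCi K (m + t) := by
  exact Groth.Agent.TsenLang.isCi_of_isTranscendenceBasis hx hk

end Groth.Agent.S13187
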