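import Groth.Statements.S13188
import Groth.Agent.Lib.RedNorm25.Basic

set_option autoImplicit false
universe u v w
open Brauer

namespace Groth.Agent.S13188

/-- Let K be a field with property C_2 for systems of forms and D a finite-dimensional central division
algebra over K with dim_K D = d². Let N : D → K be multiplicative, a reduced norm of D over K, and
given in the coordinates of a K-basis b of D by a homogeneous polynomial F of degree d, i.e. N(Σ x_i
b_i) = F(x) for every coordinate vector x (the reduced norm of a central simple algebra of dimension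
d² is such a polynomial map of degree d; these data record it). Then N : D → K is surjective. -/
theorem result (K : Type u) [Field K] (hK : Curves.IsCi K 2)
    (D : Type v) [DivisionRing D] [Algebra K D] [Algebra.IsCentral K D] [FiniteDimensional K D]
    (d : ℕ) (hd : Module.finrank K D = d ^ 2)
    (N : D →* K) (hN : CSAGal.IsRedNorm K D N)
    {ι : Type w} [Fintype ι] (b : Module.Basis ι K D)
    (F : MvPolynomial ι K) (hF : F.IsHomogeneous d)
    (hNF : ∀ x : ι → K, N (∑ i, x i • b i) = MvPolynomial.eval x F) :
    Function.Surjective N := by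
  classical
  intro c
  let e := Fintype.equivFin ι
  have hd0 : 0 < d := Nat.pos_of_ne_zero (RedNorm25.degree_ne_zero' hd)
  have hcard : Fintype.card ι = d ^ 2 := by rw [← Module.finrank_eq_card_basis b, hd]
  let f : MvPolynomial (Fin (Fintype.card ι + 1)) K :=
    MvPolynomial.rename (fun i => (e i).castSucc) F -
      MvPolynomial.C c * MvPolynomial.X (Fin.last _) ^ d
  have hf : f.IsHomogeneous d := by
    refine MvPolynomial.IsHomogeneous.sub (hF.rename_isHomogeneous) ?_
    simpa using ((MvPolynomial.isHomogeneous_X K (Fin.last (Fintype.card ι))).pow d).C_mul c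
  obtain ⟨a, ha, h⟩ := hK 1 (Fintype.card ι + 1) (fun _ => f) (fun _ => d) (fun _ => hf) (fun _ => hd0)
    (by simp [hcard])
  have h0 := h 0
  simp only [f, map_sub, MvPolynomial.eval_rename, map_mul, map_pow, MvPolynomial.eval_C,
    MvPolynomial.eval_X, sub_eq_zero] at h0
  set x := ∑ i, (a (e i).castSucc) • b i with hx
  have hN0 : N x = c * a (Fin.last _) ^ d := by rw [hx, hNF, ← h0]; rfl
  have hN1 : ∀ r : K, N (algebraMap K D r) = r ^ d := by
    intro r
    obtain ⟨m, hm, G, -⟩ := RedNorm25.exists_split K D
    obtain rfl : d = m := Nat.pow_left_injective two_ne_zero (hd.symm.trans hm)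
    apply (algebraMap K (AlgebraicClosure K)).injective
    rw [RedNorm25.redNorm_spec hN hd G, AlgHom.commutes, map_pow, Matrix.algebraMap_eq_diagonal,
      Matrix.det_diagonal]
    simp
  by_cases hz : a (Fin.last _) = 0
  · exfalso
    have hxne : x ≠ 0 := by
      intro hx0
      have hind := Fintype.linearIndependent_iff.1 b.linearIndependent (fun i => a (e i).castSucc)
        (hx.symm.trans hx0)
      refine ha (funext fun j => ?_)
      refine Fin.lastCases hz (fun j => ?_) j
      simpa using hind (e.symm j)
    refine RedNorm25.redNorm_ne_zero_of_isUnit (N := N) hxne.isUnit ?_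
    rw [hN0, hz, zero_pow hd0.ne', mul_zero]
  · refine ⟨x * algebraMap K D (a (Fin.last _))⁻¹, ?_⟩
    rw [map_mul, hN0, hN1, inv_pow, mul_assoc, mul_inv_cancel₀ (pow_ne_zero _ hz), mul_one]
end Groth.Agent.S13188
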