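import Groth.Statements.S13189
import Mathlib.Algebra.Module.FinitePresentation
import Mathlib.RingTheory.Henselian
import Mathlib.RingTheory.WittVector.Identities
import Mathlib.RingTheory.WittVector.Teichmuller
import Mathlib.RingTheory.WittVector.Domain
import Mathlib.Combinatorics.Nullstellensatz
import Mathlib.NumberTheory.Padics.PadicIntegers
import Mathlib.FieldTheory.Finite.Polynomial
import Mathlib.RingTheory.Polynomial.Basic
import Mathlib.RingTheory.Flat.Basic
import Mathlib.LinearAlgebra.Contraction
import Mathlib.LinearAlgebra.TensorProduct.RightExactness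

set_option autoImplicit false
universe u
open CAlg

namespace Groth.Agent.S13189
open TensorProduct

/-- For a finite field K of cardinality q and n ≥ 0, a polynomial p in n variables over K vanishes at
every point of K^n if and only if p belongs to the ideal generated by the X_i^q − X_i, i = 1, …, n;
in other words that ideal is the kernel of the evaluation homomorphism from K[X_1, …, X_n] to the
ring of K-valued functions on K^n. -/
theorem result (K : Type u) [Field K] [Fintype K]
    (n : ℕ) (p : MvPolynomial (Fin n) K) :
    (∀ a : Fin n → K, MvPolynomial.eval a p = 0) ↔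
      p ∈ Ideal.span (Set.range fun i : Fin n =>
        (MvPolynomial.X i ^ Fintype.card K - MvPolynomial.X i : MvPolynomial (Fin n) K)) := by
  classical
  set q := Fintype.card K
  have hq : 1 < q := Fintype.one_lt_card
  set I := Ideal.span (Set.range fun i : Fin n => (MvPolynomial.X i ^ q - MvPolynomial.X i : MvPolynomial (Fin n) K))
  have hI : ∀ x ∈ I, ∀ a : Fin n → K, MvPolynomial.eval a x = 0 := fun x hx a => by
    refine (Ideal.span_le (I := RingHom.ker (MvPolynomial.eval a))).2 ?_ hx
    rintro _ ⟨i, rfl⟩
    simp [q, FiniteField.pow_card]
  refine ⟨fun h => ?_, fun h => hI p h⟩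
  have hred : ∀ d : Fin n →₀ ℕ, ∀ c : K, ∃ r ∈ MvPolynomial.restrictDegree (Fin n) K (q - 1), MvPolynomial.monomial d c - r ∈ I := by
    intro d
    induction hN : d.degree using Nat.strong_induction_on generalizing d with
    | _ N ih =>
      intro c
      by_cases hd : ∀ i, d i ≤ q - 1
      · exact ⟨MvPolynomial.monomial d c, (MvPolynomial.mem_restrictDegree _ _ _).2 fun s hs i => by
          rw [Finset.mem_singleton.1 (MvPolynomial.support_monomial_subset hs)]; exact hd i, by simp⟩
      push Not at hd
      obtain ⟨i, hi⟩ := hd
      set e := d - Finsupp.single i q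
      have hde : d = e + Finsupp.single i q := (tsub_add_cancel_of_le (Finsupp.single_le_iff.2 (by omega))).symm
      have hdeg : (e + Finsupp.single i 1).degree < N := by
        rw [← hN, hde, map_add, map_add, Finsupp.degree_single, Finsupp.degree_single]; omega
      obtain ⟨r, hr, hr'⟩ := ih _ hdeg _ rfl c
      refine ⟨r, hr, ?_⟩
      have he : MvPolynomial.monomial d c - MvPolynomial.monomial (e + Finsupp.single i 1) c = MvPolynomial.monomial e c * (MvPolynomial.X i ^ q - MvPolynomial.X i) := by
        conv_lhs => rw [hde]
        rw [mul_sub, MvPolynomial.X_pow_eq_monomial, MvPolynomial.monomial_mul, mul_one, MvPolynomial.X, MvPolynomial.monomial_mul, mul_one]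
      have : MvPolynomial.monomial d c - r = (MvPolynomial.monomial d c - MvPolynomial.monomial (e + Finsupp.single i 1) c) + (MvPolynomial.monomial (e + Finsupp.single i 1) c - r) := by ring
      rw [this, he]
      exact add_mem (Ideal.mul_mem_left _ _ (Ideal.subset_span ⟨i, rfl⟩)) hr'
  obtain ⟨r, hr, hr'⟩ : ∃ r ∈ MvPolynomial.restrictDegree (Fin n) K (q - 1), p - r ∈ I := by
    induction p using MvPolynomial.induction_on' with
    | monomial d c => exact hred d c
    | add f g hf hg =>
      have hsum : ∀ x : MvPolynomial (Fin n) K, ∃ r ∈ MvPolynomial.restrictDegree (Fin n) K (q - 1), x - r ∈ I := fun x => by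
        induction x using MvPolynomial.induction_on' with
        | monomial d c => exact hred d c
        | add f g hf hg =>
          obtain ⟨r, hr, hr'⟩ := hf; obtain ⟨s, hs, hs'⟩ := hg
          exact ⟨r + s, add_mem hr hs, by rw [add_sub_add_comm]; exact add_mem hr' hs'⟩
      exact hsum _
  have hr0 : r = 0 := MvPolynomial.eq_zero_of_eval_zero_at_prod_finset r (fun _ => Finset.univ) (fun i => by
      rw [Finset.card_univ, MvPolynomial.degreeOf_lt_iff (by omega)]
      intro m hm
      have := (MvPolynomial.mem_restrictDegree _ _ _).1 hr m hm i
      omega) (fun v _ => by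
    have := hI _ hr' v; rw [map_sub, h v, zero_sub, neg_eq_zero] at this; exact this)
  simpa [hr0] using hr'

end Groth.Agent.S13189
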