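import Groth.Statements.S13190
-- import your own Groth.Agent.* helpers here

set_option autoImplicit false
universe u v w
open GalCoh

namespace Groth.Agent.S13190

/-- Let a group G act by automorphisms on a group A, and let E be a G-equivariant right A-torsor (a set
with a simply transitive right action of A, written m ↦ m·a, and a left action of G with g(m·a) =
(gm)·(ga)). If m is a point of E and a : G → A is the map with g·m = m·a(g) for all g, then a is a
1-cocycle: a(gh) = a(g)·g(a(h)) for all g, h. (The published statement is for a Galois group acting
on a discrete abelian module, extended by the author to non-abelian modules; this row takes an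
arbitrary group acting on a group, which is what the argument proves.) -/
theorem result {G : Type u} {A : Type v} {E : Type w}
    [Group G] [Group A] [MulDistribMulAction G A]
    [MulAction G E] [MulAction Aᵐᵒᵖ E]
    (hfree : ∀ m₁ m₂ : E, ∃! a : A, m₂ = MulOpposite.op a • m₁)
    (hcompat : ∀ (g : G) (a : A) (m : E), g • (MulOpposite.op a • m) = MulOpposite.op (g • a) • g • m)
    (m : E) (a : G → A) (ha : ∀ g : G, g • m = MulOpposite.op (a g) • m) :
    GpH1.IsOneCocycle a := by
  intro g h
  refine (hfree m ((g * h) • m)).unique (ha (g * h)) ?_
  rw [mul_smul, ha h, hcompat, ha g, ← mul_smul, ← MulOpposite.op_mul]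

end Groth.Agent.S13190
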