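import Groth.Statements.S13191
-- import your own Groth.Agent.* helpers here

set_option autoImplicit false
universe u v w x
open GalCoh

namespace Groth.Agent.S13191

/-- Let a group G act by automorphisms on a group A, and let E and E' each be a G-equivariant right
A-torsor (a set with a simply transitive right action of A, written m ↦ m·a, and a left action of G
with g(m·a) = (gm)·(ga)). Let m ∈ E and m' ∈ E' be points with attached maps a, a' : G → A (g·m =
m·a(g) and g·m' = m'·a'(g) for all g). Then there is a bijection E ≃ E' commuting with the actions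
of G and of A if and only if a and a' are cohomologous. (The published statement is for a Galois
group acting on discrete modules; this row takes an arbitrary group acting on a group.) -/
theorem result {G : Type u} {A : Type v} {E : Type w} {E' : Type x}
    [Group G] [Group A] [MulDistribMulAction G A]
    [MulAction G E] [MulAction Aᵐᵒᵖ E]
    (hfree : ∀ m₁ m₂ : E, ∃! a : A, m₂ = MulOpposite.op a • m₁)
    (hcompat : ∀ (g : G) (a : A) (m : E), g • (MulOpposite.op a • m) = MulOpposite.op (g • a) • g • m)
    [MulAction G E'] [MulAction Aᵐᵒᵖ E']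
    (hfree' : ∀ m₁ m₂ : E', ∃! a : A, m₂ = MulOpposite.op a • m₁)
    (hcompat' : ∀ (g : G) (a : A) (m : E'), g • (MulOpposite.op a • m) = MulOpposite.op (g • a) • g • m)
    (m : E) (a : G → A) (ha : ∀ g : G, g • m = MulOpposite.op (a g) • m)
    (m' : E') (a' : G → A) (ha' : ∀ g : G, g • m' = MulOpposite.op (a' g) • m') :
    (∃ f : E ≃ E', (∀ (g : G) (e : E), f (g • e) = g • f e) ∧
        ∀ (b : A) (e : E), f (MulOpposite.op b • e) = MulOpposite.op b • f e) ↔
      GpH1.Cohomologous a a' := by
  constructor
  · rintro ⟨f, hfG, hfA⟩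
    obtain ⟨c, hc, -⟩ := hfree' m' (f m)
    refine ⟨c, fun g => ?_⟩
    have h1 : f (g • m) = MulOpposite.op (c * a g) • m' := by
      rw [ha, hfA, hc, ← mul_smul, ← MulOpposite.op_mul]
    have h2 : f (g • m) = MulOpposite.op (a' g * g • c) • m' := by
      rw [hfG, hc, hcompat', ha', ← mul_smul, ← MulOpposite.op_mul]
    have := (hfree' m' (f (g • m))).unique h1 h2
    rw [mul_assoc, ← this, inv_mul_cancel_left]
  · rintro ⟨c, hc⟩
    have key : ∀ e : E, ∃ b : A, e = MulOpposite.op b • m := fun e => (hfree m e).exists
    have key' : ∀ e : E', ∃ b : A, e = MulOpposite.op (c * b) • m' := fun e => by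
      obtain ⟨b, hb, -⟩ := hfree' m' e
      exact ⟨c⁻¹ * b, by rwa [mul_inv_cancel_left]⟩
    choose β hβ using key
    choose β' hβ' using key'
    have hβu : ∀ b : A, β (MulOpposite.op b • m) = b := fun b =>
      ((hfree m _).unique rfl (hβ _)).symm
    have hβu' : ∀ b : A, β' (MulOpposite.op (c * b) • m') = b := fun b =>
      mul_left_cancel ((hfree' m' _).unique rfl (hβ' _)).symm
    let f : E ≃ E' :=
      { toFun := fun e => MulOpposite.op (c * β e) • m'
        invFun := fun e => MulOpposite.op (β' e) • m
        left_inv := fun e => by simp only [hβu']; exact (hβ e).symm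
        right_inv := fun e => by simp only [hβu]; exact (hβ' e).symm }
    refine ⟨f, fun g e => ?_, fun b e => ?_⟩
    · show MulOpposite.op (c * β (g • e)) • m' = g • MulOpposite.op (c * β e) • m'
      conv_lhs => rw [hβ e, hcompat, ha, ← mul_smul, ← MulOpposite.op_mul, hβu]
      rw [hcompat', ha', ← mul_smul, ← MulOpposite.op_mul, smul_mul', hc g]
      congr 2; group
    · show MulOpposite.op (c * β (MulOpposite.op b • e)) • m' = MulOpposite.op b • MulOpposite.op (c * β e) • m'
      conv_lhs => rw [hβ e, ← mul_smul, ← MulOpposite.op_mul, hβu]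
      rw [← mul_smul, ← MulOpposite.op_mul, mul_assoc]

end Groth.Agent.S13191
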