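import Groth.Statements.S13192
-- import your own Groth.Agent.* helpers here

set_option autoImplicit false
universe u v
open GalCoh

namespace Groth.Agent.S13192

/-- Let a group G act by automorphisms on a group A and let a : G → A be a 1-cocycle. Then there exist a
G-equivariant right A-torsor E (a set with a simply transitive right action of A, written m ↦ m·a,
and a left action of G with g(m·a) = (gm)·(ga)) and a point m of E whose attached map is a, i.e. g·m
= m·a(g) for every g in G. (E is taken in the universe of A. The published statement is for a Galois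
group acting on discrete modules; this row takes an arbitrary group acting on a group.) -/
theorem result {G : Type u} {A : Type v}
    [Group G] [Group A] [MulDistribMulAction G A] (a : G → A) (ha : GpH1.IsOneCocycle a) :
    ∃ (E : Type v) (_ : MulAction G E) (_ : MulAction Aᵐᵒᵖ E) (m : E),
      (∀ m₁ m₂ : E, ∃! b : A, m₂ = MulOpposite.op b • m₁) ∧
      (∀ (g : G) (b : A) (e : E), g • (MulOpposite.op b • e) = MulOpposite.op (g • b) • g • e) ∧
      ∀ g : G, g • m = MulOpposite.op (a g) • m := by
  let sm : G → A → A := fun g x => a g * g • x
  have hone : ∀ x, sm 1 x = x := fun x => by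
    have h1 := ha 1 1
    rw [mul_one, one_smul] at h1
    simp only [sm, one_smul, left_eq_mul.mp h1, one_mul]
  have hmul : ∀ g h x, sm (g * h) x = sm g (sm h x) := fun g h x => by
    simp only [sm]
    rw [ha g h, smul_mul', mul_smul, mul_assoc]
  have hcomp : ∀ g b e, sm g (e * b) = sm g e * g • b := fun g b e => by
    simp only [sm]
    rw [smul_mul', mul_assoc]
  have hm : ∀ g, sm g 1 = 1 * a g := fun g => by
    simp only [sm]
    rw [smul_one, mul_one, one_mul]
  refine ⟨A, { smul := sm, one_smul := hone, mul_smul := hmul }, inferInstance, (1 : A),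
    fun m₁ m₂ => ⟨m₁⁻¹ * m₂, ?_, ?_⟩, fun g b e => hcomp g b e, fun g => hm g⟩
  · show m₂ = m₁ * (m₁⁻¹ * m₂)
    rw [mul_inv_cancel_left]
  · intro b hb
    have hb' : m₂ = m₁ * b := hb
    rw [hb', inv_mul_cancel_left]

end Groth.Agent.S13192
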