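import Groth.Statements.S13196
import Groth.Agent.Lib.GalCoh25.Finite
import Mathlib.RingTheory.Trace.Basic

set_option autoImplicit false
universe u
open GalCoh

namespace Groth.Agent.S13196

/-- Let K be a field and L a separable closure of K. Every map a from the automorphism group of L over K
to L which is locally constant for the Krull topology and satisfies a(στ) = a(σ) + σ(a(τ)) for all
σ, τ is of the form a(σ) = σ(y) − y for a single y in L. (The published statement asserts vanishing
in every positive degree; this row is the degree-one statement for the absolute Galois group with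
continuous cochains.) -/
theorem result (K L : Type u) [Field K] [Field L] [Algebra K L]
    [IsSepClosure K L] (a : (L ≃ₐ[K] L) → L)
    (ha : ∀ σ τ : L ≃ₐ[K] L, a (σ * τ) = a σ + σ (a τ)) (hlc : IsLocallyConstant a) :
    ∃ y : L, ∀ σ : L ≃ₐ[K] L, a σ = σ y - y := by
  haveI : IsGalois K L := IsSepClosure.isGalois
  obtain ⟨F, hF, hG, hinv, hres⟩ := GalCoh25.exists_finite_level (fun (σ : L ≃ₐ[K] L) x => σ x) (· + ·) 0
    zero_add (fun x y h => add_eq_left.mp h) (fun x => rfl) a hlc ha
  have hmem : ∀ τ, a τ ∈ F := by
    intro τ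
    rw [← InfiniteGalois.fixedField_fixingSubgroup F]
    exact fun n => hinv n.1 n.2 τ
  obtain ⟨z, hz⟩ := Algebra.trace_surjective K F (1 : K)
  let f : (F ≃ₐ[K] F) → F := fun s => ⟨a (s.liftNormal L), hmem _⟩
  let S : F := ∑ s : F ≃ₐ[K] F, f s * s z
  refine ⟨-(S : L), fun σ => ?_⟩
  let g := σ.restrictNormal F
  have hlift : ∀ (s : F ≃ₐ[K] F) (x : F), s.liftNormal L x = (s x : L) := fun s x =>
    AlgEquiv.liftNormal_commutes s L x
  have hσ : ∀ x : F, σ x = (g x : L) := fun x => (AlgEquiv.restrictNormal_commutes σ F x).symm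
  have hag : a σ = (f g : L) := hres _ _ fun x => by rw [hlift, hσ]
  have hf : ∀ s t, f (s * t) = f s + s (f t) := by
    intro s t
    apply Subtype.ext
    show a ((s * t).liftNormal L) = a (s.liftNormal L) + (s (f t) : L)
    rw [hres ((s * t).liftNormal L) (s.liftNormal L * t.liftNormal L) (fun x => by
      rw [AlgEquiv.mul_apply, hlift, hlift, hlift]; rfl), ha]
    congr 1
    exact hlift s (f t)
  have hS : g S = S - f g := by
    calc g S = ∑ s : F ≃ₐ[K] F, (f (g * s) - f g) * (g * s) z := by
          simp [S, map_sum, hf]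
      _ = ∑ s : F ≃ₐ[K] F, (f s - f g) * s z :=
          Equiv.sum_comp (Equiv.mulLeft g) (fun s => (f s - f g) * s z)
      _ = S - f g := by
          simp only [sub_mul, Finset.sum_sub_distrib, ← Finset.mul_sum]
          rw [← trace_eq_sum_automorphisms, hz, map_one, mul_one]
  rw [map_neg, hσ S, hag, hS]
  push_cast
  ring

end Groth.Agent.S13196
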