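import Groth.Statements.S13194
import Groth.Agent.S13196
import Mathlib.FieldTheory.Galois.Infinite
import Mathlib.Algebra.CharP.Lemmas

set_option autoImplicit false
universe u
open GalCoh

namespace Groth.Agent.S13194

/-- Let K be a field of characteristic p > 0, L a separable closure of K, and χ a locally constant map
from the automorphism group of L over K (Krull topology) to Z/pZ with χ(στ) = χ(σ) + χ(τ) for all σ,
τ — a continuous 1-cocycle for the trivial action. Then there is an element x of L with x^p − x in K
such that σ(x) − x equals χ(σ), read in the prime field of L, for every σ. Together with the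
elementary facts that σ ↦ σ(x) − x is such a cocycle for every x with x^p − x in K and vanishes
exactly when x lies in K, this identifies the first continuous cohomology group of the absolute
Galois group of K with coefficients Z/pZ with K/℘(K), ℘(y) = y^p − y. -/
theorem result (p : ℕ) [Fact p.Prime]
    (K L : Type u) [Field K] [Field L] [Algebra K L] [CharP K p] [IsSepClosure K L]
    (χ : (L ≃ₐ[K] L) → ZMod p) (hχ : ∀ σ τ : L ≃ₐ[K] L, χ (σ * τ) = χ σ + χ τ)
    (hlc : IsLocallyConstant χ) :
    ∃ x : L, x ^ p - x ∈ Set.range (algebraMap K L) ∧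
      ∀ σ : L ≃ₐ[K] L, σ x - x = ((χ σ).val : L) := by
  haveI : IsGalois K L := IsSepClosure.isGalois
  haveI : CharP L p := charP_of_injective_algebraMap (algebraMap K L).injective p
  let a : (L ≃ₐ[K] L) → L := fun σ => ZMod.castHom dvd_rfl L (χ σ)
  obtain ⟨y, hy⟩ := Groth.Agent.S13196.result K L a (fun σ τ => by
    simp only [a, hχ, map_add]
    congr 1
    rw [ZMod.castHom_apply, ← ZMod.natCast_val, map_natCast]) (hlc.comp _)
  have hval : ∀ σ, σ y - y = ((χ σ).val : L) := by
    intro σ
    rw [← hy]
    show ZMod.castHom dvd_rfl L (χ σ) = _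
    rw [ZMod.castHom_apply, ← ZMod.natCast_val]
  refine ⟨y, ?_, hval⟩
  rw [InfiniteGalois.mem_range_algebraMap_iff_fixed]
  intro σ
  rw [map_sub, map_pow, show σ y = y + ((χ σ).val : L) by rw [← hval σ]; ring,
    add_pow_char, ← frobenius_def, ← frobenius_def p ((χ σ).val : L), map_natCast]
  ring

end Groth.Agent.S13194
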