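import Groth.Statements.S13195
import Groth.Agent.Lib.GalCoh25.Finite
import Mathlib.RepresentationTheory.Homological.GroupCohomology.Hilbert90

set_option autoImplicit false
universe u
open GalCoh

namespace Groth.Agent.S13195

/-- Let K be a field and L a separable closure of K. Every map a from the automorphism group of L over K
to the units of L which is locally constant for the Krull topology and satisfies the 1-cocycle
identity a(στ) = a(σ) · σ(a(τ)) for all σ, τ has the form a(σ) = c⁻¹ · σ(c) for a single unit c of
L; that is, the first cohomology set of the absolute Galois group of K with continuous cochains and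
values in the multiplicative group of the separable closure is reduced to its base point. (The
finite-level statement for a finite Galois extension is the classical Hilbert 90; this row is the
statement for the absolute Galois group.) -/
theorem result (K L : Type u) [Field K] [Field L]
    [Algebra K L] [IsSepClosure K L] (a : (L ≃ₐ[K] L) → Lˣ)
    (ha : ∀ σ τ : L ≃ₐ[K] L, a (σ * τ) = a σ * σ • a τ) (hlc : IsLocallyConstant a) :
    ∃ c : Lˣ, ∀ σ : L ≃ₐ[K] L, a σ = c⁻¹ * σ • c := by
  haveI : IsGalois K L := IsSepClosure.isGalois
  obtain ⟨F, hF, hG, hinv, hres⟩ := GalCoh25.exists_finite_level (fun (σ : L ≃ₐ[K] L) (x : Lˣ) => σ • x) (· * ·) 1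
    one_mul (fun x y h => mul_eq_left.mp h) (fun x => one_smul _ x) a hlc ha
  have hmem : ∀ τ, (a τ : L) ∈ F := by
    intro τ
    rw [← InfiniteGalois.fixedField_fixingSubgroup F]
    exact fun n => congrArg Units.val (hinv n.1 n.2 τ)
  let f : (F ≃ₐ[K] F) → Fˣ := fun s => Units.mk0 ⟨a (s.liftNormal L), hmem _⟩
    (fun h => (a (s.liftNormal L)).ne_zero congr(($h : L)))
  have hlift : ∀ (s : F ≃ₐ[K] F) (x : F), s.liftNormal L x = (s x : L) := fun s x =>
    AlgEquiv.liftNormal_commutes s L x
  have hf : groupCohomology.IsMulCocycle₁ f := by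
    intro s t
    apply Units.ext
    apply Subtype.ext
    show (a ((s * t).liftNormal L) : L) = ((s (f t : F) * (f s : F) : F) : L)
    rw [hres ((s * t).liftNormal L) (s.liftNormal L * t.liftNormal L) (fun x => by
      rw [AlgEquiv.mul_apply, hlift, hlift, hlift]; rfl), ha, MulMemClass.coe_mul, Units.val_mul, mul_comm]
    congr 1
    exact hlift s (f t : F)
  obtain ⟨β, hβ⟩ := groupCohomology.isMulCoboundary₁_of_isMulCocycle₁_of_aut_to_units f hf
  refine ⟨Units.map F.val.toMonoidHom β, fun σ => ?_⟩
  let g := σ.restrictNormal F
  have hσ : ∀ x : F, σ x = (g x : L) := fun x => (AlgEquiv.restrictNormal_commutes σ F x).symm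
  have hag : (a σ : L) = ((f g : F) : L) := congrArg Units.val (hres σ (g.liftNormal L) fun x => by rw [hlift, hσ])
  apply Units.ext
  rw [hag, ← hβ g, Units.val_div_eq_div_val, Units.val_mul, Units.val_inv_eq_inv_val]
  show ((g (β : F) / (β : F) : F) : L) = ((β : F) : L)⁻¹ * σ ((β : F) : L)
  rw [hσ, div_eq_inv_mul]
  rfl

end Groth.Agent.S13195
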