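import Groth.Statements.S13199
import Groth.Agent.Lib.Branch14.GUBaseChange
import Mathlib.RingTheory.LocalProperties.Reduced

set_option autoImplicit false
universe u
open Hensel

namespace Groth.Agent.S13199

theorem isReduced_of_normal {C : Type u} [CommRing C] (h : EGA4.IsNormalRing C) : _root_.IsReduced C := by
  refine ⟨fun x hx => ?_⟩
  by_contra h0
  obtain ⟨M, hM, hle⟩ := Ideal.exists_le_maximal (LinearMap.ker (LinearMap.mulRight C x))
    (fun htop => h0 (by simpa using (LinearMap.mem_ker.1 (htop ▸ Submodule.mem_top (x := (1 : C))) : (1 : C) * x = 0)))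
  haveI := (h M).1
  obtain ⟨⟨s, hs⟩, hsx⟩ := (IsLocalization.map_eq_zero_iff M.primeCompl (Localization.AtPrime M) x).1
    (hx.map (algebraMap C (Localization.AtPrime M))).eq_zero
  exact hs (hle (LinearMap.mem_ker.2 hsx))

open TensorProduct IsLocalRing

theorem isGeomUnibranch_self (R : Type u) [CommRing R] [IsDomain R] [HenselianLocalRing R]
    [IsSepClosed (ResidueField R)] : CAlg2.IsGeomUnibranch R := by
  haveI : IsLocalHom (algebraMap R R) := ⟨fun a ha => ha⟩
  haveI : IsSepClosure (ResidueField R) (ResidueField R) := ⟨inferInstance, inferInstance⟩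
  haveI hc : IsSepClosure (ResidueField R) (ResidueField R) := inferInstance
  haveI : Hensel.IsStrictHenselization R R := by
    refine ⟨inferInstance, ?_, ?_⟩
    · convert hc using 1
      exact Algebra.algebra_ext _ _ fun x => by
        obtain ⟨r, rfl⟩ := residue_surjective x
        rfl
    · intro T _ _ f hf τ hτ
      refine ⟨f, ⟨RingHom.ext fun r => rfl, fun x => ?_⟩, fun g hg => RingHom.ext fun r => RingHom.congr_fun hg.1 r⟩
      exact ((RingHom.congr_fun hτ (residue R x)).trans (ResidueField.map_residue f x)).symm
  exact (Branch14.isGeomUnibranch_iff R R).2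
    ⟨⊥, ⟨⟨Ideal.isPrime_bot, bot_le⟩, fun _ _ _ => bot_le⟩,
      fun q hq => eq_bot_iff.2 (hq.2 ⟨Ideal.isPrime_bot, bot_le⟩ bot_le)⟩


/-- Let R be a Noetherian integral domain which is a strictly henselian local ring (henselian with
separably closed residue field), R' a smooth R-algebra and p a prime ideal of R' lying over the
maximal ideal of R (that is, containing its image). Then the local ring R'_p is an integral domain
and is geometrically unibranch: the integral closure of R'_p in its fraction field is a local ring
whose residue field is purely inseparable over that of R'_p. (The published statement concludes that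
every strict henselization of R'_p is an integral domain; for a local ring this is equivalent to
being an integral domain which is geometrically unibranch, the conclusion stated here.) -/
theorem result
    (R R' : Type u) [CommRing R] [IsDomain R] [IsNoetherianRing R] [HenselianLocalRing R]
    [IsSepClosed (IsLocalRing.ResidueField R)]
    [CommRing R'] [Algebra R R'] [Algebra.Smooth R R']
    (p : Ideal R') [p.IsPrime] (hp : (IsLocalRing.maximalIdeal R).map (algebraMap R R') ≤ p) :
    IsDomain (Localization.AtPrime p) ∧ CAlg2.IsGeomUnibranch (Localization.AtPrime p) := by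
  have hR := isGeomUnibranch_self R
  haveI : Module.Flat R R' := Algebra.Smooth.flat R R'
  have hnorm : ∀ (N : Type u) [CommRing N] [IsDomain N] [IsIntegrallyClosed N] [Algebra R N],
      EGA4.IsNormalRing (N ⊗[R] R') := fun N _ _ _ _ =>
    NormalSmooth12.isNormalRing_of_smooth (A := N) (B := N ⊗[R] R')
      (Branch14.GUT.isNormalRing_of_isIntegrallyClosed N)
  let e : R ⊗[R] R' ≃+* R' := (Algebra.TensorProduct.lid R R').toRingEquiv
  let q : Ideal (R ⊗[R] R') := p.comap e.toRingHom
  have hqm : q.comap (algebraMap R (R ⊗[R] R')) = maximalIdeal R := by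
    refine le_antisymm (le_maximalIdeal (Ideal.IsPrime.ne_top inferInstance)) fun r hr => ?_
    show e (algebraMap R (R ⊗[R] R') r) ∈ p
    rw [show e (algebraMap R (R ⊗[R] R') r) = algebraMap R R' r by
      simp [e, Algebra.TensorProduct.algebraMap_apply, Algebra.smul_def]]
    exact hp (Ideal.mem_map_of_mem _ hr)
  have hgu : CAlg2.IsGeomUnibranch (Localization.AtPrime p) := by
    refine (Branch14.GUT.gu_atPrime_equiv e.symm p).1 fun P _ hP => ?_
    subst hP
    exact Branch14.GUT.isGeomUnibranch_tensor_normRed hR (fun N _ _ _ _ Q _ => by
      haveI := (hnorm N Q).1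
      haveI := (hnorm N Q).2
      exact Branch14.isGeomUnibranch_of_isIntegrallyClosed (Localization.AtPrime Q)) _ hqm
  refine ⟨?_, hgu⟩
  let N := integralClosure R (FractionRing R)
  haveI : IsFractionRing N (FractionRing R) :=
    integralClosure.isFractionRing_of_finite_extension (FractionRing R) (FractionRing R)
  haveI : IsIntegrallyClosed N :=
    (IsIntegrallyClosed.integralClosure_eq_bot_iff (FractionRing R)).mp integralClosure_idem
  haveI := isReduced_of_normal (hnorm N)
  have hinj : Function.Injective (algebraMap R N) := fun x y hxy =>
    IsFractionRing.injective R (FractionRing R) (congrArg Subtype.val hxy)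
  haveI : _root_.IsReduced R' := isReduced_of_injective
    (Algebra.TensorProduct.includeRight : R' →ₐ[R] N ⊗[R] R')
    (Algebra.TensorProduct.includeRight_injective hinj)
  haveI : _root_.IsReduced (Localization.AtPrime p) :=
    isReduced_localizationPreserves p.primeCompl _ inferInstance
  have hnil : (nilradical (Localization.AtPrime p)).IsPrime := (Ideal.Quotient.isDomain_iff_prime _).1 hgu.1.1
  rw [nilradical_eq_zero] at hnil
  exact IsDomain.of_bot_isPrime (Localization.AtPrime p)

end Groth.Agent.S13199
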