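import Mathlib.RingTheory.Henselian
import Mathlib.FieldTheory.IsSepClosed
import Mathlib.RingTheory.LocalRing.ResidueField.Basic
import Mathlib.RingTheory.AdicCompletion.Algebra
import Groth.Prelude.Def_EGA4b
import Groth.Agent.Lib.HensFib6.Apps

set_option autoImplicit false
universe u
open Hensel

namespace Groth.Agent.S13200

/-- Let R be an excellent local ring which is strictly henselian (henselian with separably closed
residue field), and let R^ denote its completion at the maximal ideal. An element Δ of R is a prime
element of R exactly when its image in R^ is a prime element of R^. -/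
theorem result
    (R : Type u) [CommRing R] [HenselianLocalRing R] [IsSepClosed (IsLocalRing.ResidueField R)]
    (hR : EGA4.IsExcellent R) (Δ : R) :
    Prime Δ ↔ Prime (algebraMap R (AdicCompletion (IsLocalRing.maximalIdeal R) R) Δ) := by
  haveI := hR.1
  exact Groth.Agent.HensFib6.prime_iff_cpl R ((Groth.Agent.GRing6.normalProp_cpl_iff R).1
    (Groth.Agent.GRing6.normalProp.hom_cpl_of_gAll R (Groth.Agent.GRing6.normalProp.gAll_of_isGRing R hR.2.2.1))) Δ

end Groth.Agent.S13200
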