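import Groth.Statements.S13203


set_option autoImplicit false
universe u
open CategoryTheory AlgebraicGeometry
open Neron

namespace Groth.Agent.S13203

open Groth.Agent CategoryTheory AlgebraicGeometry

/-- Composition with `g`. -/
noncomputable def push {S S' : Scheme.{u}} (g : S' ⟶ S) {Y' : Over S'} {N : Over S}
    (f : Y' ⟶ (Over.pullback g).obj N) : Over.mk (Y'.hom ≫ g) ⟶ N :=
  Over.homMk (f.left ≫ Limits.pullback.fst N.hom g) (by
    show (f.left ≫ Limits.pullback.fst N.hom g) ≫ N.hom = Y'.hom ≫ g
    rw [Category.assoc, Limits.pullback.condition, ← Category.assoc]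
    congr 1
    exact Over.w f)

theorem push_injective {S S' : Scheme.{u}} (g : S' ⟶ S) {Y' : Over S'} {N : Over S} :
    Function.Injective (push g (Y' := Y') (N := N)) := by
  intro a b h
  ext1
  refine Limits.pullback.hom_ext ?_ ?_
  · exact congr(($h).left)
  · exact (Over.w a).trans (Over.w b).symm

/-- The comparison between the two restrictions. -/
noncomputable def cmp {S S' : Scheme.{u}} (g : S' ⟶ S) (U : S.Opens) (Y' : Over S') :
    Limits.pullback (Y'.hom ≫ g) U.ι ⟶ Limits.pullback Y'.hom (g ⁻¹ᵁ U).ι :=
  Limits.pullback.lift (Limits.pullback.fst _ _)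
    ((isPullback_morphismRestrict g U).flip.lift (Limits.pullback.fst _ _ ≫ Y'.hom) (Limits.pullback.snd _ _)
      (by rw [Category.assoc, Limits.pullback.condition]))
    (IsPullback.lift_fst _ _ _ _).symm

noncomputable def cmpInv {S S' : Scheme.{u}} (g : S' ⟶ S) (U : S.Opens) (Y' : Over S') :
    Limits.pullback Y'.hom (g ⁻¹ᵁ U).ι ⟶ Limits.pullback (Y'.hom ≫ g) U.ι :=
  Limits.pullback.lift (Limits.pullback.fst _ _) (Limits.pullback.snd _ _ ≫ (g ∣_ U)) (by
    rw [Category.assoc, morphismRestrict_ι, Limits.pullback.condition_assoc])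

theorem cmp_fst {S S' : Scheme.{u}} (g : S' ⟶ S) (U : S.Opens) (Y' : Over S') :
    cmp g U Y' ≫ Limits.pullback.fst _ _ = Limits.pullback.fst _ _ := Limits.pullback.lift_fst _ _ _

theorem isIso_cmp {S S' : Scheme.{u}} (g : S' ⟶ S) (U : S.Opens) (Y' : Over S') : IsIso (cmp g U Y') := by
  refine ⟨cmpInv g U Y', ?_, ?_⟩
  · apply Limits.pullback.hom_ext
    · unfold cmp cmpInv
      rw [Category.assoc, Limits.pullback.lift_fst, Limits.pullback.lift_fst, Category.id_comp]
    · unfold cmp cmpInv
      rw [Category.assoc, Limits.pullback.lift_snd, ← Category.assoc, Limits.pullback.lift_snd, Category.id_comp]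
      exact IsPullback.lift_snd _ _ _ _
  · apply Limits.pullback.hom_ext
    · unfold cmp cmpInv
      rw [Category.assoc, Limits.pullback.lift_fst, Limits.pullback.lift_fst, Category.id_comp]
    · unfold cmp cmpInv
      rw [Category.assoc, Limits.pullback.lift_snd, Category.id_comp]
      apply (isPullback_morphismRestrict g U).flip.hom_ext
      · rw [Category.assoc, IsPullback.lift_fst, ← Category.assoc, Limits.pullback.lift_fst, Limits.pullback.condition]
      · rw [Category.assoc, IsPullback.lift_snd, Limits.pullback.lift_snd]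

theorem map_push_left {S S' : Scheme.{u}} (g : S' ⟶ S) (U : S.Opens) {Y' : Over S'} {N : Over S}
    (a : Y' ⟶ (Over.pullback g).obj N) :
    ((Over.pullback U.ι).map (push g a)).left ≫ Limits.pullback.fst N.hom U.ι =
      cmp g U Y' ≫ ((Over.pullback (g ⁻¹ᵁ U).ι).map a).left ≫
        Limits.pullback.fst ((Over.pullback g).obj N).hom (g ⁻¹ᵁ U).ι ≫ Limits.pullback.fst N.hom g := by
  rw [show ((Over.pullback U.ι).map (push g a)).left ≫ Limits.pullback.fst N.hom U.ι =
    Limits.pullback.fst (Y'.hom ≫ g) U.ι ≫ a.left ≫ Limits.pullback.fst N.hom g from Limits.pullback.lift_fst _ _ _]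
  have h : ((Over.pullback (g ⁻¹ᵁ U).ι).map a).left ≫ Limits.pullback.fst ((Over.pullback g).obj N).hom (g ⁻¹ᵁ U).ι =
      Limits.pullback.fst Y'.hom (g ⁻¹ᵁ U).ι ≫ a.left := Limits.pullback.lift_fst _ _ _
  rw [reassoc_of% h, ← Category.assoc, ← Category.assoc, ← Category.assoc, cmp_fst]


/-- Let S be a scheme, U ⊆ S a schematically dense open subscheme and N → S a smooth S-scheme with the
Néron mapping property with respect to U: for every smooth S-scheme Y, sending an S-morphism Y → N
to its restriction Y ×_S U → N ×_S U is a bijection onto the U-morphisms. Then for every smooth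
morphism g : S' → S the base change N ×_S S' → S' (again smooth) has the Néron mapping property with
respect to g⁻¹(U): for every smooth S'-scheme Y', restriction to g⁻¹(U) is a bijection from
S'-morphisms Y' → N ×_S S' onto g⁻¹(U)-morphisms. (The published statement is for models which are
algebraic spaces, tested against smooth algebraic spaces, and also says that separatedness is
preserved; this row states the case of a smooth scheme model tested against smooth schemes.) -/
theorem result
    {S S' : Scheme.{u}} (g : S' ⟶ S) [Smooth g]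
    (U : S.Opens) (hU : CInt.IsSchematicallyDense U) (N : Over S) [Smooth N.hom]
    (hN : ∀ Y : Over S, Smooth Y.hom →
      Function.Bijective (fun f : Y ⟶ N => (Over.pullback U.ι).map f))
    (Y' : Over S') [Smooth Y'.hom] :
    Function.Bijective (fun f : Y' ⟶ (Over.pullback g).obj N => (Over.pullback (g ⁻¹ᵁ U).ι).map f) := by
  refine ⟨?_, fun b => ?_⟩
  · intro a b hab
    apply push_injective g
    haveI : Smooth (Over.mk (Y'.hom ≫ g)).hom := inferInstanceAs (Smooth (Y'.hom ≫ g))
    refine (hN _ inferInstance).1 ?_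
    ext1
    refine Limits.pullback.hom_ext ?_ ((Over.w _).trans (Over.w _).symm)
    rw [map_push_left, map_push_left]
    simp only at hab
    rw [hab]
  · haveI : Smooth (Over.mk (Y'.hom ≫ g)).hom := inferInstanceAs (Smooth (Y'.hom ≫ g))
    let c : (Over.pullback U.ι).obj (Over.mk (Y'.hom ≫ g)) ⟶ (Over.pullback U.ι).obj N :=
      Over.homMk (Limits.pullback.lift (cmp g U Y' ≫ b.left ≫
          Limits.pullback.fst ((Over.pullback g).obj N).hom (g ⁻¹ᵁ U).ι ≫ Limits.pullback.fst N.hom g)
        (Limits.pullback.snd _ _) (by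
          have h1 : b.left ≫ Limits.pullback.snd ((Over.pullback g).obj N).hom (g ⁻¹ᵁ U).ι =
              Limits.pullback.snd Y'.hom (g ⁻¹ᵁ U).ι := Over.w b
          have h2 : Limits.pullback.fst ((Over.pullback g).obj N).hom (g ⁻¹ᵁ U).ι ≫ Limits.pullback.fst N.hom g ≫ N.hom =
              Limits.pullback.snd ((Over.pullback g).obj N).hom (g ⁻¹ᵁ U).ι ≫ (g ⁻¹ᵁ U).ι ≫ g := by
            rw [Limits.pullback.condition, ← Category.assoc, ← Category.assoc]
            congr 1
            exact Limits.pullback.condition
          have h3 : cmp g U Y' ≫ Limits.pullback.snd Y'.hom (g ⁻¹ᵁ U).ι ≫ (g ⁻¹ᵁ U).ι ≫ g =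
              Limits.pullback.snd (Y'.hom ≫ g) U.ι ≫ U.ι := by
            rw [← Limits.pullback.condition, ← Category.assoc (Limits.pullback.snd Y'.hom (g ⁻¹ᵁ U).ι),
              ← Limits.pullback.condition, Category.assoc, reassoc_of% cmp_fst]
          rw [Category.assoc, Category.assoc, Category.assoc, h2, reassoc_of% h1, h3]
          rfl))
        (Limits.pullback.lift_snd _ _ _)
    obtain ⟨f, hf⟩ := (hN _ inferInstance).2 c
    let a : Y' ⟶ (Over.pullback g).obj N := Over.homMk (Limits.pullback.lift f.left Y'.hom (Over.w f))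
      (Limits.pullback.lift_snd _ _ _)
    have hfa : push g a = f := by ext1; exact Limits.pullback.lift_fst _ _ _
    refine ⟨a, ?_⟩
    show (Over.pullback (g ⁻¹ᵁ U).ι).map a = b
    ext1
    refine Limits.pullback.hom_ext (Limits.pullback.hom_ext ?_ ?_) ((Over.w _).trans (Over.w _).symm)
    · have h := map_push_left g U a
      rw [hfa, show (Over.pullback U.ι).map f = c from hf] at h
      have hc : c.left ≫ Limits.pullback.fst N.hom U.ι = cmp g U Y' ≫ b.left ≫
          Limits.pullback.fst ((Over.pullback g).obj N).hom (g ⁻¹ᵁ U).ι ≫ Limits.pullback.fst N.hom g :=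
        Limits.pullback.lift_fst _ _ _
      haveI : IsIso (cmp g U Y') := isIso_cmp g U Y'
      rw [hc, cancel_epi] at h
      simpa only [Category.assoc] using h.symm
    · have h1 : ∀ t : ((Over.pullback (g ⁻¹ᵁ U).ι).obj Y') ⟶ ((Over.pullback (g ⁻¹ᵁ U).ι).obj ((Over.pullback g).obj N)),
          (t.left ≫ Limits.pullback.fst ((Over.pullback g).obj N).hom (g ⁻¹ᵁ U).ι) ≫ Limits.pullback.snd N.hom g =
            Limits.pullback.snd Y'.hom (g ⁻¹ᵁ U).ι ≫ (g ⁻¹ᵁ U).ι := fun t => by
        rw [Category.assoc]
        show t.left ≫ Limits.pullback.fst _ _ ≫ ((Over.pullback g).obj N).hom = _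
        rw [Limits.pullback.condition, ← Category.assoc]
        congr 1
        exact Over.w t
      rw [h1, h1]

end Groth.Agent.S13203
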