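import Groth.Statements.S13204
import Groth.Agent.Lib.KrullAkizuki.DVR
import Mathlib.RingTheory.Polynomial.UniqueFactorization
import Mathlib.RingTheory.Localization.AtPrime.Basic
import Mathlib.RingTheory.Polynomial.Basic

set_option autoImplicit false
universe u
open Neron

namespace Groth.Agent.S13204

/-- Let R be a strictly henselian Noetherian local unique factorization domain and Δ₁, Δ₂ two non-units
of R with no common prime factor. Then there are a discrete valuation ring A and an injective local
homomorphism f : R → A — so that Spec A → Spec R sends the closed point to the closed point and the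
generic point to the generic point, which lies in every dense open subset — such that f(Δ₁) is a
non-zero non-unit and f(Δ₁) = u · f(Δ₂) for some unit u of A congruent to 1 modulo the maximal
ideal. (The published statement asks for the images of Δ₁ and Δ₂ in A to be equal, with the generic
point of Spec A sent into a given dense open subset of Spec R; that cannot hold in general — for R =
ℂ[[a,b]], Δ₁ = a, Δ₂ = b and the dense open D(a − b), any local map to a discrete valuation ring
identifying a and b sends the generic point into V(a − b) — so this row asks instead for f(Δ₁) = u ·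
f(Δ₂) with u a unit congruent to 1 modulo the maximal ideal.) -/
theorem result
    (R : Type u) [CommRing R] [IsDomain R] [IsNoetherianRing R] [UniqueFactorizationMonoid R]
    [HenselianLocalRing R] [IsSepClosed (IsLocalRing.ResidueField R)]
    (Δ₁ Δ₂ : R) (h₁ : ¬ IsUnit Δ₁) (h₂ : ¬ IsUnit Δ₂) (hcop : IsRelPrime Δ₁ Δ₂) :
    ∃ (A : Type u) (_ : CommRing A) (_ : IsDomain A) (_ : IsDiscreteValuationRing A) (f : R →+* A),
      IsLocalHom f ∧ Function.Injective f ∧ ¬ IsUnit (f Δ₁) ∧
        ∃ u : Aˣ, (u : A) - 1 ∈ IsLocalRing.maximalIdeal A ∧ f Δ₁ = (u : A) * f Δ₂ := by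
  classical
  have hΔ2 : Δ₂ ≠ 0 := by
    rintro rfl
    exact h₁ (hcop dvd_rfl (dvd_zero _))
  let p : Polynomial R := Polynomial.C Δ₂ * Polynomial.X + Polynomial.C (-Δ₁)
  have hirr : Irreducible p := by
    refine Polynomial.irreducible_C_mul_X_add_C hΔ2 ?_
    intro d hd2 hd1
    exact hcop (dvd_neg.mp hd1) hd2
  haveI hP : (Ideal.span {p}).IsPrime :=
    (Ideal.span_singleton_prime hirr.ne_zero).mpr hirr.prime
  let D := Polynomial R ⧸ Ideal.span {p}
  let π : Polynomial R →+* D := Ideal.Quotient.mk _
  let M : Ideal (Polynomial R) :=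
    RingHom.ker ((IsLocalRing.residue R).comp (Polynomial.evalRingHom 1))
  haveI : M.IsMaximal := RingHom.ker_isMaximal_of_surjective _
    (IsLocalRing.residue_surjective.comp (fun r => ⟨Polynomial.C r, by simp⟩))
  have hpM : Ideal.span {p} ≤ M := by
    rw [Ideal.span_singleton_le_iff_mem]
    show IsLocalRing.residue R (Polynomial.eval 1 p) = 0
    rw [IsLocalRing.residue_eq_zero_iff]
    simp only [p, Polynomial.eval_add, Polynomial.eval_mul, Polynomial.eval_C, Polynomial.eval_X, mul_one]
    exact add_mem h₂ (neg_mem h₁)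
  let Q : Ideal D := M.map π
  haveI : Q.IsPrime := Ideal.isPrime_map_quotientMk_of_isPrime hpM
  let A := Localization.AtPrime Q
  haveI : IsDomain A := IsLocalization.isDomain_localization Q.primeCompl_le_nonZeroDivisors
  haveI : IsNoetherianRing A := IsLocalization.isNoetherianRing Q.primeCompl A inferInstance
  let ι : D →+* A := algebraMap D A
  have hιinj : Function.Injective ι := IsLocalization.injective A Q.primeCompl_le_nonZeroDivisors
  have hmem : ∀ g ∈ M, ι (π g) ∈ IsLocalRing.maximalIdeal A := fun g hg =>
    (IsLocalization.AtPrime.to_map_mem_maximal_iff A Q (π g)).mpr (Ideal.mem_map_of_mem π hg)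
  have hX : Polynomial.X - 1 ∈ M := by
    show IsLocalRing.residue R (Polynomial.eval 1 (Polynomial.X - 1)) = 0
    simp
  have hA : ¬ IsField A := by
    intro hfield
    have h0 := hmem _ hX
    rw [(IsLocalRing.isField_iff_maximalIdeal_eq.mp hfield), Ideal.mem_bot,
      map_eq_zero_iff ι hιinj] at h0
    obtain ⟨c, hc⟩ := Ideal.mem_span_singleton.mp (Ideal.Quotient.eq_zero_iff_mem.mp h0)
    have hd : p.natDegree = 1 := Polynomial.natDegree_linear hΔ2
    have hc0 : c ≠ 0 := fun e => by
      have := congrArg (fun q => Polynomial.coeff q 1) hc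
      simp [e, Polynomial.coeff_one] at this
    have h1 := congrArg Polynomial.natDegree hc
    rw [Polynomial.natDegree_mul hirr.ne_zero hc0, hd,
      show (Polynomial.X - 1 : Polynomial R) = Polynomial.X - Polynomial.C 1 by simp,
      Polynomial.natDegree_X_sub_C] at h1
    obtain ⟨r, rfl⟩ := Polynomial.natDegree_eq_zero.mp (show c.natDegree = 0 by omega)
    have h2 := congrArg (fun q => Polynomial.coeff q 1) hc
    simp [p, Polynomial.coeff_one] at h2
    exact h₂ (IsUnit.of_mul_eq_one r h2.symm)
  let K := FractionRing A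
  obtain ⟨V, hV, hAV, hm⟩ := Groth.Agent.KrullAkizuki.exists_dvr_dominating A hA K K
  let g : A →+* V := (algebraMap A K).codRestrict V.toSubring hAV
  let f : R →+* V := g.comp (ι.comp (π.comp Polynomial.C))
  have hlt : ∀ a ∈ IsLocalRing.maximalIdeal A, g a ∈ IsLocalRing.maximalIdeal V := fun a ha =>
    (V.valuation_lt_one_iff _).mpr (hm a ha)
  have hC : ∀ r : R, ¬ IsUnit r → Polynomial.C r ∈ M := fun r hr => by
    show IsLocalRing.residue R (Polynomial.eval 1 (Polynomial.C r)) = 0
    rw [Polynomial.eval_C, IsLocalRing.residue_eq_zero_iff]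
    exact hr
  refine ⟨V, inferInstance, inferInstance, hV, f, ⟨fun r hr => ?_⟩, ?_,
    hlt _ (hmem _ (hC _ h₁)), ?_⟩
  · by_contra hh
    exact hlt _ (hmem _ (hC r hh)) hr
  · intro r s hrs
    have h0 := congrArg (fun z : V => (z : K)) hrs
    have h1 : ι (π (Polynomial.C r)) = ι (π (Polynomial.C s)) := IsFractionRing.injective A K h0
    have h2 := Ideal.mem_span_singleton.mp (Ideal.Quotient.eq.mp (hιinj h1))
    rw [← map_sub] at h2
    by_contra hne
    have h3 := Polynomial.natDegree_le_of_dvd h2 (Polynomial.C_ne_zero.mpr (sub_ne_zero.mpr hne))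
    rw [Polynomial.natDegree_C, Polynomial.natDegree_linear hΔ2] at h3
    omega
  · have hu1 : g (ι (π Polynomial.X)) - 1 ∈ IsLocalRing.maximalIdeal V := by
      have := hlt _ (hmem _ hX)
      rwa [map_sub, map_sub, map_sub, map_one, map_one, map_one] at this
    have hu : IsUnit (g (ι (π Polynomial.X))) := by
      by_contra hh
      have h1 := sub_mem (show g (ι (π Polynomial.X)) ∈ IsLocalRing.maximalIdeal V from hh) hu1
      rw [sub_sub_cancel] at h1
      exact (IsLocalRing.maximalIdeal.isMaximal V).ne_top ((Ideal.eq_top_iff_one _).mpr h1)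
    refine ⟨hu.unit, hu1, ?_⟩
    have h0 : π p = 0 := Ideal.Quotient.eq_zero_iff_mem.mpr (Ideal.mem_span_singleton_self p)
    simp only [p, map_add, map_mul, map_neg] at h0
    show g (ι (π (Polynomial.C Δ₁))) = g (ι (π Polynomial.X)) * g (ι (π (Polynomial.C Δ₂)))
    rw [← map_mul, ← map_mul]
    exact congrArg (fun z => g (ι z)) (by linear_combination -h0)

end Groth.Agent.S13204
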