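import Groth.Statements.S13206
import Mathlib.AlgebraicGeometry.Morphisms.Separated

set_option autoImplicit false
universe u
open CategoryTheory AlgebraicGeometry
open AlgGrp

namespace Groth.Agent.S13206

/-- Let X → S be a separated morphism of schemes and let a finite group G act on X through
S-automorphisms. Then the functor of G-fixed points is represented by a closed subscheme of X: there
are a scheme Z and a closed immersion i : Z → X with i ∘ g = i for all g ∈ G such that every
morphism x : T → X with g ∘ x = x for all g ∈ G factors uniquely through i. (The published statement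
is for an algebraic space X over S, also treats the locally separated case and notes compatibility
with base change; this row is the separated case for schemes.) -/
theorem result
    {X S : Scheme.{u}} (p : X ⟶ S) [IsSeparated p]
    (G : Type u) [Group G] [Finite G] (ρ : G →* Aut X) (hρ : ∀ g : G, (ρ g).hom ≫ p = p) :
    ∃ (Z : Scheme.{u}) (i : Z ⟶ X), IsClosedImmersion i ∧ (∀ g : G, i ≫ (ρ g).hom = i) ∧
      ∀ (T : Scheme.{u}) (x : T ⟶ X), (∀ g : G, x ≫ (ρ g).hom = x) → ∃! z : T ⟶ Z, z ≫ i = x := by
  classical
  have key : ∀ s : Finset G, ∃ (Z : Scheme.{u}) (i : Z ⟶ X), IsClosedImmersion i ∧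
      (∀ g ∈ s, i ≫ (ρ g).hom = i) ∧
      ∀ (T : Scheme.{u}) (x : T ⟶ X), (∀ g ∈ s, x ≫ (ρ g).hom = x) → ∃ z : T ⟶ Z, z ≫ i = x := by
    intro s
    induction s using Finset.induction_on with
    | empty => exact ⟨X, 𝟙 X, inferInstance, fun g hg => absurd hg (Finset.notMem_empty g), fun T x _ => ⟨x, Category.comp_id x⟩⟩
    | insert a s ha ih =>
      obtain ⟨Z, i, hi, his, hu⟩ := ih
      let A : Over S := Over.mk (i ≫ p)
      let B : Over S := Over.mk p
      let f₁ : A ⟶ B := Over.homMk i
      let f₂ : A ⟶ B := Over.homMk (i ≫ (ρ a).hom) (by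
        show (i ≫ (ρ a).hom) ≫ p = i ≫ p
        rw [Category.assoc, hρ])
      have : IsSeparated B.hom := inferInstanceAs (IsSeparated p)
      let e := Limits.equalizer.ι f₁ f₂
      have he : e.left ≫ i = e.left ≫ i ≫ (ρ a).hom :=
        congrArg CommaMorphism.left (Limits.equalizer.condition f₁ f₂)
      refine ⟨_, e.left ≫ i, inferInstance, fun g hg => ?_, fun T x hx => ?_⟩
      · rw [Category.assoc]
        rcases Finset.mem_insert.mp hg with rfl | hg
        · exact he.symm
        · rw [his g hg]
      · obtain ⟨z, hz⟩ := hu T x fun g hg => hx g (Finset.mem_insert_of_mem hg)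
        let A' : Over S := Over.mk (x ≫ p)
        let k : A' ⟶ A := Over.homMk z (by show z ≫ i ≫ p = x ≫ p; rw [← Category.assoc, hz])
        have hk : k ≫ f₁ = k ≫ f₂ := by
          ext
          show z ≫ i = z ≫ i ≫ (ρ a).hom
          rw [← Category.assoc, hz, hx a (Finset.mem_insert_self _ _)]
        refine ⟨(Limits.equalizer.lift k hk).left, ?_⟩
        rw [← Category.assoc]
        erw [← Over.comp_left, Limits.equalizer.lift_ι]
        exact hz
  have := Fintype.ofFinite G
  obtain ⟨Z, i, hi, hfix, hu⟩ := key Finset.univ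
  refine ⟨Z, i, hi, fun g => hfix g (Finset.mem_univ _), fun T x hx => ?_⟩
  obtain ⟨z, hz⟩ := hu T x fun g _ => hx g
  exact ⟨z, hz, fun z' hz' => (cancel_mono i).mp (hz'.trans hz.symm)⟩

end Groth.Agent.S13206
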