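import Groth.Statements.S13207
import Groth.Agent.Lib.NeronMap.Basic
import Groth.Agent.Lib.SchDesc12.Descend

set_option autoImplicit false
set_option maxHeartbeats 1000000
set_option linter.style.haveILetI false
set_option backward.isDefEq.respectTransparency false
universe u
open CategoryTheory CategoryTheory.Limits AlgebraicGeometry
open Neron

namespace Groth.Agent.S13207

/-- Let (S_i)_{i ∈ I} be a family of schemes, (N_i → S_i)_{i ∈ I} morphisms of schemes, S = ∐ S_i and N
= ∐ N_i with the induced morphism N → S, and U ⊆ S a schematically dense open subscheme with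
preimages U_i ⊆ S_i. Then N → S is smooth with the Néron mapping property with respect to U — for
every smooth S-scheme Y, restriction to U is a bijection from S-morphisms Y → N onto U-morphisms Y
×_S U → N ×_S U — if and only if every N_i → S_i is smooth with the Néron mapping property with
respect to U_i. (The published statement is for algebraic spaces N_i tested against smooth algebraic
spaces, and has the same form for separated models; this row is the not-necessarily-separated case
for schemes tested against smooth schemes.) -/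
theorem result
    {I : Type u} (B N : I → Scheme.{u}) (f : ∀ i, N i ⟶ B i)
    (U : (∐ B).Opens) (hU : CInt.IsSchematicallyDense U) :
    (Smooth (Limits.Sigma.map f) ∧ ∀ Y : Over (∐ B), Smooth Y.hom →
        Function.Bijective (fun g : Y ⟶ Over.mk (Limits.Sigma.map f) => (Over.pullback U.ι).map g)) ↔
    ∀ i, Smooth (f i) ∧ ∀ Y : Over (B i), Smooth Y.hom →
        Function.Bijective (fun g : Y ⟶ Over.mk (f i) => (Over.pullback ((Limits.Sigma.ι B i) ⁻¹ᵁ U).ι).map g) := by
  classical
  -- the restricted square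
  have hsq : ∀ i, IsPullback ((Limits.Sigma.ι B i) ∣_ U) ((Limits.Sigma.ι B i) ⁻¹ᵁ U).ι U.ι (Limits.Sigma.ι B i) :=
    fun i => isPullback_morphismRestrict _ U
  have hN : ∀ i, IsPullback (Limits.Sigma.ι N i) (f i) (Limits.Sigma.map f) (Limits.Sigma.ι B i) :=
    fun i => Groth.Agent.SchDesc12.isPullback_sigmaMap f i
  constructor
  · rintro ⟨hs, hN'⟩ i
    refine ⟨MorphismProperty.of_isPullback (hN i) hs, fun Y hY => ?_⟩
    refine (Groth.Agent.NeronMap.ext_iff ((Limits.Sigma.ι B i) ⁻¹ᵁ U).ι (N := Over.mk (f i)) (Z := Y)).2 fun h w => ?_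
    let Z : Over (∐ B) := Over.mk (Y.hom ≫ Limits.Sigma.ι B i)
    haveI : Smooth Y.hom := hY
    have hZ : Smooth Z.hom := inferInstanceAs (Smooth (Y.hom ≫ Limits.Sigma.ι B i))
    have hp : IsPullback (pullback.fst Y.hom ((Limits.Sigma.ι B i) ⁻¹ᵁ U).ι)
        (pullback.snd Y.hom ((Limits.Sigma.ι B i) ⁻¹ᵁ U).ι ≫ (Limits.Sigma.ι B i) ∣_ U) Z.hom U.ι :=
      (IsPullback.of_hasPullback _ _).paste_vert (hsq i).flip
    change h ≫ f i = _ at w
    obtain ⟨g, hg, hgu⟩ := Groth.Agent.NeronMap.ext_of_isPullback U.ι (hN' Z hZ) hp (h ≫ Limits.Sigma.ι N i) (by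
      change (h ≫ Limits.Sigma.ι N i) ≫ Limits.Sigma.map f = _ ≫ Y.hom ≫ Limits.Sigma.ι B i
      rw [Category.assoc, (hN i).w, ← Category.assoc, w, Category.assoc])
    let g₀ : Y.left ⟶ N i := (hN i).lift g.left Y.hom (Over.w g)
    refine ⟨Over.homMk g₀ ((hN i).lift_snd _ _ _), ?_, fun g' hg' => ?_⟩
    · change pullback.fst _ _ ≫ g₀ = h
      rw [← cancel_mono (Limits.Sigma.ι N i), Category.assoc, (hN i).lift_fst]
      exact hg
    · have w' : g'.left ≫ f i = Y.hom := Over.w g'
      have := hgu (Over.homMk (g'.left ≫ Limits.Sigma.ι N i) (by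
        change (g'.left ≫ Limits.Sigma.ι N i) ≫ Limits.Sigma.map f = Y.hom ≫ Limits.Sigma.ι B i
        rw [Category.assoc, (hN i).w, ← Category.assoc, w'])) (by
        change pullback.fst _ _ ≫ g'.left ≫ Limits.Sigma.ι N i = _
        rw [← Category.assoc]; exact congrArg (· ≫ Limits.Sigma.ι N i) hg')
      apply Over.OverMorphism.ext
      change g'.left = g₀
      rw [← cancel_mono (Limits.Sigma.ι N i), (hN i).lift_fst, ← this]
      rfl
  · intro H
    refine ⟨?_, fun Z hZ => ?_⟩
    · refine IsZariskiLocalAtSource.of_openCover (sigmaOpenCover N) fun i => ?_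
      change Smooth (Limits.Sigma.ι N i ≫ Limits.Sigma.map f)
      haveI := (H i).1
      rw [(hN i).w]
      infer_instance
    haveI : Smooth Z.hom := hZ
    refine (Groth.Agent.NeronMap.ext_iff U.ι (N := Over.mk (Limits.Sigma.map f)) (Z := Z)).2 fun h w => ?_
    change h ≫ Limits.Sigma.map f = _ at w
    let c := (sigmaOpenCover B).pullback₁ Z.hom
    let Y : ∀ i, Over (B i) := fun i => Over.mk (pullback.snd Z.hom (Limits.Sigma.ι B i))
    have hY : ∀ i, Smooth (Y i).hom := fun i => MorphismProperty.pullback_snd Z.hom (Limits.Sigma.ι B i) hZ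
    let p : ∀ i, (Y i).left ⟶ Z.left := fun i => pullback.fst Z.hom (Limits.Sigma.ι B i)
    have hp : ∀ i, p i ≫ Z.hom = (Y i).hom ≫ Limits.Sigma.ι B i := fun i => pullback.condition
    let j : ∀ i, (((Limits.Sigma.ι B i) ⁻¹ᵁ U : (B i).Opens) : Scheme.{u}) ⟶ B i := fun i => ((Limits.Sigma.ι B i) ⁻¹ᵁ U).ι
    let φ : ∀ i, pullback (Y i).hom (j i) ⟶ pullback Z.hom U.ι := fun i => pullback.lift
      (pullback.fst _ _ ≫ p i) (pullback.snd _ _ ≫ (Limits.Sigma.ι B i) ∣_ U)
      (by rw [Category.assoc, hp, pullback.condition_assoc, Category.assoc, (hsq i).w])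
    have hφ : ∀ i, φ i ≫ pullback.fst Z.hom U.ι = pullback.fst (Y i).hom (j i) ≫ p i := fun i => pullback.lift_fst _ _ _
    have wi : ∀ i, (φ i ≫ h) ≫ Limits.Sigma.map f = (pullback.fst (Y i).hom (j i) ≫ (Y i).hom) ≫ Limits.Sigma.ι B i :=
      fun i => by rw [Category.assoc, w, ← Category.assoc, hφ, Category.assoc, hp, Category.assoc]
    choose g hg hgu using fun i => (Groth.Agent.NeronMap.ext_iff (j i) (N := Over.mk (f i)) (Z := Y i)).1
      ((H i).2 (Y i) (hY i)) ((hN i).lift (φ i ≫ h) (pullback.fst _ _ ≫ (Y i).hom) (wi i)) ((hN i).lift_snd _ _ _)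
    have hcov : ∀ i k, pullback.fst (p i) (p k) ≫ (g i).left ≫ Limits.Sigma.ι N i =
        pullback.snd (p i) (p k) ≫ (g k).left ≫ Limits.Sigma.ι N k := by
      intro i k
      have e : (pullback.fst (p i) (p k) ≫ (Y i).hom) ≫ Limits.Sigma.ι B i =
          (pullback.snd (p i) (p k) ≫ (Y k).hom) ≫ Limits.Sigma.ι B k := by
        rw [Category.assoc, ← hp, Category.assoc, ← hp, pullback.condition_assoc]
      rcases Groth.Agent.SchDesc12.sigma_eq_or_isEmpty _ _ e with hT | ⟨rfl, -⟩
      · exact Groth.Agent.SchDesc12.hom_eq_of_isEmpty hT _ _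
      · haveI : Mono (p i) := (inferInstance : Mono (pullback.fst Z.hom (Limits.Sigma.ι B i)))
        rw [fst_eq_snd_of_mono_eq]
    let G : Z.left ⟶ ∐ N := Scheme.Cover.glueMorphisms c (fun i => (g i).left ≫ Limits.Sigma.ι N i) hcov
    have hG : ∀ i, p i ≫ G = (g i).left ≫ Limits.Sigma.ι N i := fun i => Scheme.Cover.ι_glueMorphisms c _ hcov i
    have hGw : G ≫ Limits.Sigma.map f = Z.hom := by
      refine Scheme.Cover.hom_ext c _ _ fun i => ?_
      change p i ≫ G ≫ _ = p i ≫ _
      have w' : (g i).left ≫ f i = (Y i).hom := Over.w (g i)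
      rw [← Category.assoc, hG, Category.assoc, (hN i).w, ← Category.assoc, w', hp]
    refine ⟨Over.homMk G hGw, ?_, fun g' hg' => ?_⟩
    · change pullback.fst Z.hom U.ι ≫ G = h
      refine Scheme.Cover.hom_ext (c.pullback₁ (pullback.fst Z.hom U.ι)) _ _ fun i => ?_
      change pullback.fst (pullback.fst Z.hom U.ι) (p i) ≫ _ = pullback.fst (pullback.fst Z.hom U.ι) (p i) ≫ _
      let a := pullback.fst (pullback.fst Z.hom U.ι) (p i)
      let b := pullback.snd (pullback.fst Z.hom U.ι) (p i)
      have hab : a ≫ pullback.fst Z.hom U.ι = b ≫ p i := pullback.condition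
      let s := (hsq i).lift (a ≫ pullback.snd Z.hom U.ι) (b ≫ (Y i).hom)
        (by rw [Category.assoc, ← pullback.condition, ← Category.assoc, hab, Category.assoc, hp, Category.assoc])
      let ψ : pullback (pullback.fst Z.hom U.ι) (p i) ⟶ pullback (Y i).hom (j i) :=
        pullback.lift b s ((hsq i).lift_snd _ _ _).symm
      have hψ : ψ ≫ φ i = a := by
        apply pullback.hom_ext
        · rw [Category.assoc, hφ, ← Category.assoc, pullback.lift_fst]; exact hab.symm
        · rw [Category.assoc, pullback.lift_snd, ← Category.assoc, pullback.lift_snd]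
          exact (hsq i).lift_fst _ _ _
      change a ≫ pullback.fst Z.hom U.ι ≫ G = a ≫ h
      rw [← hψ, Category.assoc, Category.assoc, ← Category.assoc (φ i), hφ, Category.assoc, hG]
      congr 1
      have := hg i
      dsimp only at this
      rw [← Category.assoc, this, (hN i).lift_fst]
    · apply Over.OverMorphism.ext
      change g'.left = G
      refine Scheme.Cover.hom_ext c _ _ fun i => ?_
      change p i ≫ g'.left = p i ≫ G
      have w' : g'.left ≫ Limits.Sigma.map f = Z.hom := Over.w g'
      let g'' : Y i ⟶ Over.mk (f i) := Over.homMk ((hN i).lift (p i ≫ g'.left) (Y i).hom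
        (by rw [Category.assoc, w', hp])) ((hN i).lift_snd _ _ _)
      have h' : g'' = g i := hgu i g'' (by
        change pullback.fst _ _ ≫ (hN i).lift _ _ _ = _
        apply (hN i).hom_ext
        · rw [Category.assoc, (hN i).lift_fst, (hN i).lift_fst, ← Category.assoc, ← hφ, Category.assoc]
          exact congrArg (φ i ≫ ·) hg'
        · rw [Category.assoc, (hN i).lift_snd, (hN i).lift_snd])
      rw [hG, ← h']
      exact ((hN i).lift_fst _ _ _).symm

end Groth.Agent.S13207
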