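import Groth.Statements.S13209
import Groth.Agent.Lib.AlgSpDescent.LocSurj
import Mathlib.CategoryTheory.Sites.RegularEpi
-- import your own Groth.Agent.* helpers here

set_option autoImplicit false
universe u
open CategoryTheory CategoryTheory.Limits AlgebraicGeometry
open Neron

namespace Groth.Agent.S13209

set_option linter.style.haveILetI false
set_option backward.isDefEq.respectTransparency.types false


/-- Let S be a scheme, U ⊆ S a schematically dense open subscheme and N → S a smooth S-scheme with the
Néron mapping property for schemes with respect to U: for every smooth S-scheme Y, composition with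
the projection Y ×_S U → Y is a bijection from S-morphisms Y → N onto S-morphisms Y ×_S U → N
(equivalently, onto U-morphisms Y ×_S U → N ×_S U). Then N also has the Néron mapping property with
respect to smooth algebraic spaces: for every algebraic space F over S (an fppf sheaf of sets on
S-schemes with representable diagonal and an étale surjective chart from a scheme) whose structure
map to h_S is smooth, composition with the first projection F × h_U → F is a bijection from
morphisms of sheaves F → h_N onto morphisms F × h_U → h_N. -/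
theorem result
    {S : Scheme.{u}} (U : S.Opens) (hU : CInt.IsSchematicallyDense U) (N : Over S) [Smooth N.hom]
    (hN : ∀ Y : Over S, Smooth Y.hom →
      Function.Bijective (fun g : Y ⟶ N => (Over.mapPullbackAdj U.ι).counit.app Y ≫ g))
    (F : AlgSp.Sp S) (hF : AlgSp.IsAlgSpace F)
    (sF : F ⟶ (AlgSp.yon S).obj (Over.mk (𝟙 S))) (hsm : AlgSp.LocP @Smooth sF) :
    Function.Bijective (fun φ : F ⟶ (AlgSp.yon S).obj N =>
      (Limits.prod.fst : F ⨯ (AlgSp.yon S).obj (Over.mk U.ι) ⟶ F) ≫ φ) := by
  obtain ⟨Y, p, hpe, hps⟩ := hF.atlas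
  haveI := Groth.Agent.AlgSpace.isLocallySurjective_of_etale hpe hps
  haveI : Epi p := inferInstance
  let P : Over S ⥤ Over S := Over.pullback U.ι ⋙ Over.map U.ι
  let cn : ∀ X : Over S, P.obj X ⟶ X := fun X => (Over.mapPullbackAdj U.ι).counit.app X
  let toU : ∀ X : Over S, P.obj X ⟶ (Over.mk U.ι) := fun X => Over.homMk (pullback.snd X.hom U.ι) rfl
  have htoU : ∀ {V W : Over S} (a : V ⟶ W), P.map a ≫ toU W = toU V := fun {V W} a => by
    apply Over.OverMorphism.ext
    exact pullback.lift_snd _ _ _
  have hcn : ∀ {V W : Over S} (a : V ⟶ W), P.map a ≫ cn W = cn V ≫ a := fun {V W} a =>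
    (Over.mapPullbackAdj U.ι).counit.naturality a
  let pr₁ : F ⨯ (AlgSp.yon S).obj (Over.mk U.ι) ⟶ F := Limits.prod.fst
  let ρ : (AlgSp.yon S).obj (P.obj Y) ⟶ F ⨯ (AlgSp.yon S).obj (Over.mk U.ι) :=
    prod.lift ((AlgSp.yon S).map (cn Y) ≫ p) ((AlgSp.yon S).map (toU Y))
  have hY : Smooth Y.hom := by
    let h : Y ⟶ Over.mk (𝟙 S) := Over.homMk Y.hom
    have := hsm (U := Y) (V := Over.mk (𝟙 S)) p (𝟙 _) h hpe (AlgSp.repWith_id _ _) (by
      obtain ⟨h', hh'⟩ := (AlgSp.yon S).map_surjective (p ≫ sF)
      have : h' = h := by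
        apply Over.OverMorphism.ext
        have hw := Over.w h'
        simpa [h] using hw
      rw [Category.comp_id, ← hh', this])
    exact this
  refine ⟨fun φ φ' hφ => ?_, fun χ => ?_⟩
  · obtain ⟨g, hg⟩ := (AlgSp.yon S).map_surjective (p ≫ φ)
    obtain ⟨g', hg'⟩ := (AlgSp.yon S).map_surjective (p ≫ φ')
    have e : g = g' := by
      apply (hN Y hY).1
      apply (AlgSp.yon S).map_injective
      show (AlgSp.yon S).map (cn Y ≫ g) = (AlgSp.yon S).map (cn Y ≫ g')
      have h := congrArg (ρ ≫ ·) hφ
      simp only [ρ, prod.lift_fst_assoc, Category.assoc] at h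
      rw [Functor.map_comp, Functor.map_comp, hg, hg']
      exact h
    rw [← cancel_epi p, ← hg, ← hg', e]
  · obtain ⟨w, hw⟩ := (AlgSp.yon S).map_surjective (ρ ≫ χ)
    obtain ⟨g, hg⟩ := (hN Y hY).2 w
    have hg' : cn Y ≫ g = w := hg
    let reg := (CategoryTheory.IsRegularEpiCategory.regularEpiOfEpi p).regularEpi.some
    have sq := hpe.1.isPullback p
    obtain ⟨a, ha⟩ := (AlgSp.yon S).map_surjective (hpe.1.fst p)
    have hb : Etale (hpe.1.snd p).left := hpe.2 p _ _ sq
    let V := hpe.1.pullback p
    let b : V ⟶ Y := hpe.1.snd p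
    have hV : Smooth V.hom := by
      rw [← Over.w b]
      haveI := hb
      haveI := hY
      infer_instance
    have hab : a ≫ g = b ≫ g := by
      apply (hN V hV).1
      show cn V ≫ a ≫ g = cn V ≫ b ≫ g
      rw [← Category.assoc, ← hcn a, Category.assoc, hg', ← Category.assoc (cn V), ← hcn b, Category.assoc, hg']
      apply (AlgSp.yon S).map_injective
      rw [Functor.map_comp, Functor.map_comp, hw, ← Category.assoc, ← Category.assoc]
      congr 1
      apply Limits.prod.hom_ext
      · simp only [ρ, Category.assoc, prod.lift_fst, ← Functor.map_comp_assoc, hcn]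
        simp only [Functor.map_comp, Category.assoc, ha]
        rw [sq.w]
      · simp only [ρ, Category.assoc, prod.lift_snd, ← Functor.map_comp, htoU, V]
    have hk : reg.left ≫ (AlgSp.yon S).map g = reg.right ≫ (AlgSp.yon S).map g := by
      have h1 := sq.lift_fst reg.left reg.right reg.w
      have h2 := sq.lift_snd reg.left reg.right reg.w
      calc reg.left ≫ (AlgSp.yon S).map g
          = (sq.lift reg.left reg.right reg.w ≫ (AlgSp.yon S).map a) ≫ (AlgSp.yon S).map g := by rw [ha, h1]
        _ = sq.lift reg.left reg.right reg.w ≫ (AlgSp.yon S).map (b ≫ g) := by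
            rw [Category.assoc, ← Functor.map_comp, hab]
        _ = reg.right ≫ (AlgSp.yon S).map g := by rw [Functor.map_comp, ← Category.assoc, h2]
    obtain ⟨φ, hφ⟩ := reg.desc' _ hk
    refine ⟨φ, ?_⟩
    show pr₁ ≫ φ = χ
    have key : ∀ (T : Over S) (t : (AlgSp.yon S).obj T ⟶ F ⨯ (AlgSp.yon S).obj (Over.mk U.ι)), t ≫ pr₁ ≫ φ = t ≫ χ := by
      intro T t
      obtain ⟨𝒰, h𝒰⟩ := Groth.Agent.AlgSpace.exists_cover_lift p (t ≫ pr₁)
      refine Groth.Agent.AlgSpDescent.hom_ext_fppf 𝒰 fun i => ?_
      obtain ⟨l, hl⟩ := h𝒰 i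
      obtain ⟨c, hc⟩ := (AlgSp.yon S).map_surjective l
      let ti := (AlgSp.yon S).map (Groth.Agent.AlgSpace.overArrow (𝒰.f i)) ≫ t
      obtain ⟨d, hd⟩ := (AlgSp.yon S).map_surjective (ti ≫ Limits.prod.snd)
      let e : Over.mk (𝒰.f i ≫ T.hom) ⟶ P.obj Y := Over.homMk
        (pullback.lift c.left d.left ((Over.w c).trans (Over.w d).symm)) (by
          show pullback.lift c.left d.left _ ≫ pullback.snd Y.hom U.ι ≫ U.ι = _
          rw [pullback.lift_snd_assoc]
          exact Over.w d)
      have he1 : e ≫ cn Y = c := by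
        apply Over.OverMorphism.ext
        simp [e, cn]
        exact pullback.lift_fst _ _ _
      have he2 : e ≫ toU Y = d := by
        apply Over.OverMorphism.ext
        simp [e, toU]
        exact pullback.lift_snd _ _ _
      have heρ : (AlgSp.yon S).map e ≫ ρ = ti := by
        apply Limits.prod.hom_ext
        · simp only [ρ, Category.assoc, prod.lift_fst, ← Functor.map_comp_assoc, he1, hc, hl, ti, pr₁]
        · simp only [ρ, Category.assoc, prod.lift_snd, ← Functor.map_comp, he2, hd]
      show (AlgSp.yon S).map _ ≫ t ≫ pr₁ ≫ φ = (AlgSp.yon S).map _ ≫ t ≫ χ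
      rw [← Category.assoc, ← Category.assoc _ t χ]
      change ti ≫ pr₁ ≫ φ = ti ≫ χ
      rw [← heρ, Category.assoc, Category.assoc, ← hw, ← hg']
      simp only [ρ, pr₁, prod.lift_fst_assoc, Category.assoc, hφ, ← Functor.map_comp]
    ext1
    apply NatTrans.ext
    funext T
    ext x
    have h := congrArg (fun m => Groth.Agent.AlgSpace.sect m) (key T.unop ((Groth.Agent.AlgSpace.sect).symm x))
    simp only [GrothendieckTopology.uliftYonedaEquiv_comp, Equiv.apply_symm_apply] at h
    exact h

end Groth.Agent.S13209
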