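import Groth.Statements.S13210
import Groth.Agent.Lib.AlgSpace.Space
import Groth.Agent.Lib.AlgSpace.DVRSeparated
-- import your own Groth.Agent.* helpers here

set_option autoImplicit false
universe u
open CategoryTheory CategoryTheory.Limits AlgebraicGeometry
open AlgGrp

namespace Groth.Agent.S13210

set_option linter.style.haveILetI false
set_option backward.isDefEq.respectTransparency.types false


/-- Let S be a scheme, F an algebraic space over S which is separated over S, and G a finite group
acting on F by S-automorphisms. If i : Z → F exhibits the fppf sheaf Z as the sub-sheaf of G-fixed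
points of F (i is G-invariant and every G-invariant morphism W → F factors uniquely through i), then
Z is an algebraic space and i is a closed immersion (representable by closed immersions). (The
published statement also treats a locally separated F, whose fixed points form a subspace, and
compatibility with base change; this row states only the separated case.) -/
theorem result
    {S : Scheme.{u}} (F : AlgSp.Sp S) (hF : AlgSp.IsAlgSpace F) (hsep : AlgSp.IsSeparatedSp F)
    (G : Type u) [Group G] [Finite G] (ρ : G →* Aut F)
    (Z : AlgSp.Sp S) (i : Z ⟶ F) (hi : ∀ g : G, i ≫ (ρ g).hom = i)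
    (huniv : ∀ (W : AlgSp.Sp S) (x : W ⟶ F), (∀ g : G, x ≫ (ρ g).hom = x) → ∃! z : W ⟶ Z, z ≫ i = x) :
    AlgSp.IsAlgSpace Z ∧ AlgSp.RepWith @IsClosedImmersion i := by
  classical
  haveI : Fintype G := Fintype.ofFinite G
  have key : ∀ l : List G, ∃ (W : AlgSp.Sp S) (j : W ⟶ F), Mono j ∧ AlgSp.RepWith @IsClosedImmersion j ∧
      (∀ g ∈ l, j ≫ (ρ g).hom = j) ∧
      ∀ (V : AlgSp.Sp S) (x : V ⟶ F), (∀ g ∈ l, x ≫ (ρ g).hom = x) → ∃ z : V ⟶ W, z ≫ j = x := by
    intro l
    induction l with
    | nil =>
      exact ⟨F, 𝟙 F, inferInstance, AlgSpace.repWith_of_isIso _ (𝟙 F), by simp,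
        fun V x _ => ⟨x, Category.comp_id x⟩⟩
    | cons g l ih =>
      obtain ⟨W, j, hm, hj, hl, hu⟩ := ih
      let φ : W ⟶ F ⨯ F := prod.lift j (j ≫ (ρ g).hom)
      let E := pullback (Limits.diag F) φ
      have hE : AlgSp.RepWith @IsClosedImmersion (pullback.snd (Limits.diag F) φ) :=
        AlgSpace.repWith_of_isPullback (IsPullback.of_hasPullback (Limits.diag F) φ) hsep
      haveI : IsSplitMono (Limits.diag F) := IsSplitMono.mk' ⟨prod.fst, prod.lift_fst _ _⟩
      haveI := hm
      have hc := pullback.condition (f := Limits.diag F) (g := φ)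
      have h1 : pullback.fst (Limits.diag F) φ = pullback.snd _ φ ≫ j := by
        have := hc =≫ prod.fst
        rw [Category.assoc, Category.assoc] at this
        erw [prod.lift_fst, prod.lift_fst] at this
        exact (Category.comp_id _).symm.trans this
      have h2 : pullback.fst (Limits.diag F) φ = pullback.snd _ φ ≫ j ≫ (ρ g).hom := by
        have := hc =≫ prod.snd
        rw [Category.assoc, Category.assoc] at this
        erw [prod.lift_snd, prod.lift_snd] at this
        exact (Category.comp_id _).symm.trans this
      refine ⟨E, pullback.snd _ _ ≫ j, mono_comp _ _, AlgSpace.repWith_comp hE hj, ?_, fun V x hx => ?_⟩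
      · intro g' hg'
        rcases List.mem_cons.1 hg' with rfl | hg'
        · rw [Category.assoc, ← h2, h1]
        · rw [Category.assoc, hl g' hg']
      · obtain ⟨z, hz⟩ := hu V x fun g' hg' => hx g' (List.mem_cons_of_mem _ hg')
        refine ⟨pullback.lift x z ?_, by rw [pullback.lift_snd_assoc, hz]⟩
        apply prod.hom_ext
        · rw [Category.assoc, Category.assoc]
          erw [prod.lift_fst, prod.lift_fst]
          exact (Category.comp_id x).trans hz.symm
        · rw [Category.assoc, Category.assoc]
          erw [prod.lift_snd, prod.lift_snd]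
          rw [← Category.assoc, hz, hx g List.mem_cons_self]
          exact Category.comp_id x
  obtain ⟨W, j, hm, hj, hl, hu⟩ := key Finset.univ.toList
  haveI := hm
  obtain ⟨z, hz⟩ := hu Z i fun g _ => hi g
  obtain ⟨w, hw, -⟩ := huniv W j fun g => hl g (by simp)
  haveI : IsIso z := by
    refine ⟨w, ?_, ?_⟩
    · obtain ⟨v, hv, hv'⟩ := huniv Z i hi
      exact (hv' (z ≫ w) (show (z ≫ w) ≫ i = i by rw [Category.assoc, hw, hz])).trans
        (hv' (𝟙 Z) (Category.id_comp i)).symm
    · rw [← cancel_mono j, Category.assoc, hz, hw, Category.id_comp]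
  have hi' : AlgSp.RepWith @IsClosedImmersion i := hz ▸ (AlgSpace.repWith_respectsIso_left z).2 hj
  exact ⟨AlgSpace.isAlgSpace_of_representable hi'.1 hF, hi'⟩

end Groth.Agent.S13210
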