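import Mathlib.AlgebraicGeometry.Fiber
import Mathlib.AlgebraicGeometry.Morphisms.FiniteType
import Mathlib.AlgebraicGeometry.Morphisms.QuasiCompact
import Mathlib.AlgebraicGeometry.Properties
import Mathlib.Data.Set.Card
import Mathlib
import Groth.Agent.Lib.Stein6.GenFibreOpen

set_option autoImplicit false
universe u
namespace FlatMor
end FlatMor
open FlatMor

namespace Groth.Agent.S1328

open AlgebraicGeometry CategoryTheory Limits in
/-- Let f be of finite type with irreducible target. If the generic fibre has exactly n irreducible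
components, then over some nonempty open of the target every fibre has at least n irreducible
components. -/
theorem result {X Y : Scheme.{u}} (f : X ⟶ Y) [IrreducibleSpace ↑Y] [LocallyOfFiniteType f] [QuasiCompact f] (n : ℕ)
    (h : (irreducibleComponents ↑(f.fiber (genericPoint ↑Y))).encard = n) :
    ∃ V : Y.Opens, (V : Set ↑Y).Nonempty ∧ ∀ y ∈ V, (n : ℕ∞) ≤ (irreducibleComponents ↑(f.fiber y)).encard := by
  classical
  let η := genericPoint ↑Y
  let ι := ↥(irreducibleComponents ↑(f.fiber η))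
  haveI : Finite ι := (Set.finite_of_encard_eq_coe h).to_subtype
  have hA : ∀ c : ι, IsClosed c.1 := fun c => isClosed_of_mem_irreducibleComponents _ c.2
  let C : ι → TopologicalSpace.Closeds X := fun c => ⟨closure (f.fiberι η '' c.1), isClosed_closure⟩
  have hgen : ∀ c (x : X), f x = η → (x ∈ C c ↔ ∃ a ∈ c.1, f.fiberι η a = x) := by
    intro c x hx
    obtain ⟨a, rfl⟩ := (f.range_fiberι η).ge hx
    have he := (f.fiberι η).isEmbedding.isInducing.closure_eq_preimage_closure_image c.1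
    rw [(hA c).closure_eq] at he
    constructor
    · intro hm; exact ⟨a, he.ge hm, rfl⟩
    · rintro ⟨b, hb, hba⟩
      exact subset_closure ⟨b, hb, hba⟩
  -- for each component an affine open meeting it and missing the others
  let O : ι → X.Opens := fun c => ⟨(⋃ c' ∈ ({c}ᶜ : Set ι), (C c' : Set X))ᶜ,
    ((Set.toFinite _).isClosed_biUnion fun c' _ => (C c').isClosed).isOpen_compl⟩
  have hOmem : ∀ c x, x ∈ O c ↔ ∀ c', c' ≠ c → x ∉ C c' := fun c x => by
    show x ∈ (⋃ c' ∈ ({c}ᶜ : Set ι), (C c' : Set X))ᶜ ↔ _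
    simp
  have hV₁ : ∀ c, ∃ V : Y.Opens, η ∈ V ∧ ∀ y ∈ V, ∃ x ∈ O c, f x = y := by
    intro c
    obtain ⟨a, hag⟩ := QuasiSober.sober (c.2.1) (hA c)
    have hfa : f (f.fiberι η a) = η := (f.range_fiberι η).le ⟨a, rfl⟩
    refine Stein6.exists_nhd_meet f (O c) ((hOmem c _).2 fun c' hc' hm => ?_) hfa
    obtain ⟨b, hb, hba⟩ := (hgen c' _ hfa).1 hm
    obtain rfl := (f.fiberι η).isEmbedding.injective hba
    refine hc' (Subtype.ext ?_)
    exact c.2.eq_of_ge c'.2.1 (hag.def ▸ closure_minimal (Set.singleton_subset_iff.2 hb) (hA c'))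
  choose V₁ hV₁ hV₁' using hV₁
  obtain ⟨V₃, hV₃, hV₃'⟩ := Stein6.exists_nhd_generization f
  let W : Y.Opens := V₃ ⊓ ⟨⋂ c, (V₁ c : Set Y), isOpen_iInter_of_finite fun c => (V₁ c).isOpen⟩
  refine ⟨W, ⟨η, hV₃, Set.mem_iInter.2 hV₁⟩, fun y hy => ?_⟩
  have hcov : ∀ b : ↑(f.fiber y), ∃ c, f.fiberι y b ∈ C c := by
    intro b
    have hb : f (f.fiberι y b) = y := (f.range_fiberι y).le ⟨b, rfl⟩
    obtain ⟨w, hw, hwη⟩ := hV₃' (f.fiberι y b) (hb.symm ▸ hy.1)
    obtain ⟨a, rfl⟩ := (f.range_fiberι η).ge hwη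
    exact ⟨⟨_, irreducibleComponent_mem_irreducibleComponents a⟩,
      hw.mem_closed (C _).isClosed ((hgen _ _ hwη).2 ⟨a, mem_irreducibleComponent, rfl⟩)⟩
  have hsub : ∀ Z ∈ irreducibleComponents ↑(f.fiber y), ∃ c, Z ⊆ f.fiberι y ⁻¹' (C c : Set X) := by
    intro Z hZ
    obtain ⟨z, hz⟩ := QuasiSober.sober hZ.1 (isClosed_of_mem_irreducibleComponents _ hZ)
    obtain ⟨c, hc⟩ := hcov z
    exact ⟨c, hz.def ▸ closure_minimal (Set.singleton_subset_iff.2 hc) ((C c).isClosed.preimage (f.fiberι y).continuous)⟩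
  choose φ hφ using hsub
  let ψ : ↥(irreducibleComponents ↑(f.fiber y)) → ι := fun Z => φ Z.1 Z.2
  have hψ : Function.Surjective ψ := fun c => by
    obtain ⟨x, hx, hxy⟩ := hV₁' c y (Set.mem_iInter.1 hy.2 c)
    obtain ⟨b, rfl⟩ := (f.range_fiberι y).ge hxy
    refine ⟨⟨_, irreducibleComponent_mem_irreducibleComponents b⟩, ?_⟩
    by_contra hne
    exact (hOmem c _).1 hx _ hne (hφ _ _ mem_irreducibleComponent)
  calc (n : ℕ∞) = ENat.card ι := h.symm.trans (ENat.card_coe_set_eq _).symm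
    _ ≤ ENat.card ↥(irreducibleComponents ↑(f.fiber y)) := ENat.card_le_card_of_injective (Function.injective_surjInv hψ)
    _ = _ := ENat.card_coe_set_eq _

end Groth.Agent.S1328
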