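import Mathlib.AlgebraicGeometry.Fiber
import Mathlib.AlgebraicGeometry.Morphisms.FiniteType
import Mathlib.AlgebraicGeometry.Morphisms.QuasiCompact
import Mathlib.AlgebraicGeometry.Properties
import Mathlib.Data.Set.Card
import Mathlib.Topology.Connected.Clopen
import Mathlib.SetTheory.Cardinal.Finite
import Mathlib
import Groth.Agent.Lib.Stein6.GenFibre

set_option autoImplicit false
universe u
namespace FlatMor
end FlatMor
open FlatMor

namespace Groth.Agent.S1329

open AlgebraicGeometry CategoryTheory Limits in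
/-- Let f be of finite type with irreducible target. If the generic fibre has exactly n connected
components, then over some nonempty open of the target every fibre has at least n connected
components. -/
theorem result {X Y : Scheme.{u}} (f : X ⟶ Y) [IrreducibleSpace ↑Y] [LocallyOfFiniteType f] [QuasiCompact f] (n : ℕ)
    (h : ENat.card (_root_.ConnectedComponents ↑(f.fiber (genericPoint ↑Y))) = n) :
    ∃ V : Y.Opens, (V : Set ↑Y).Nonempty ∧ ∀ y ∈ V, (n : ℕ∞) ≤ ENat.card (_root_.ConnectedComponents ↑(f.fiber y)) := by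
  classical
  let η := genericPoint ↑Y
  obtain rfl | hn := Nat.eq_zero_or_pos n
  · exact ⟨⊤, ⟨η, trivial⟩, fun y _ => zero_le⟩
  haveI : Finite (_root_.ConnectedComponents ↑(f.fiber η)) := by
    rw [← not_infinite_iff_finite]
    intro hinf
    exact ENat.top_ne_coe n (ENat.card_eq_top_of_infinite.symm.trans h)
  let ι := _root_.ConnectedComponents ↑(f.fiber η)
  let A : ι → Set ↑(f.fiber η) := fun c => ConnectedComponents.mk ⁻¹' {c}
  have hA : ∀ c, IsClosed (A c) := fun c => isClosed_singleton.preimage ConnectedComponents.continuous_coe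
  let C : ι → TopologicalSpace.Closeds X := fun c => ⟨closure (f.fiberι η '' A c), isClosed_closure⟩
  have hgen : ∀ c (x : X), f x = η → (x ∈ C c ↔ ∃ a ∈ A c, f.fiberι η a = x) := by
    intro c x hx
    obtain ⟨a, rfl⟩ := (f.range_fiberι η).ge hx
    have he := (f.fiberι η).isEmbedding.isInducing.closure_eq_preimage_closure_image (A c)
    rw [(hA c).closure_eq] at he
    constructor
    · intro hm; exact ⟨a, he.ge hm, rfl⟩
    · rintro ⟨b, hb, hba⟩
      exact subset_closure ⟨b, hb, hba⟩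
  -- meeting, pairwise intersections, the complement
  choose V₁ hV₁ hV₁' using fun c => Stein6.exists_nhd_closed f (C c)
  choose V₂ hV₂ hV₂' using fun p : ι × ι => Stein6.exists_nhd_closed f (C p.1 ⊓ C p.2)
  obtain ⟨V₃, hV₃, hV₃'⟩ := Stein6.exists_nhd_generization f
  obtain ⟨W, hW, hηW, -⟩ : ∃ W : Y.Opens, (W ≤ V₃ ∧ (∀ c, W ≤ V₁ c) ∧ ∀ p, W ≤ V₂ p) ∧ η ∈ W ∧ True := by
    exact ⟨V₃ ⊓ ⟨(⋂ c, (V₁ c : Set Y)) ∩ ⋂ p, (V₂ p : Set Y),
        (isOpen_iInter_of_finite fun c => (V₁ c).isOpen).inter (isOpen_iInter_of_finite fun p => (V₂ p).isOpen)⟩,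
      ⟨inf_le_left, fun c y hy => Set.mem_iInter.1 hy.2.1 c, fun p y hy => Set.mem_iInter.1 hy.2.2 p⟩,
      ⟨hV₃, Set.mem_iInter.2 hV₁, Set.mem_iInter.2 hV₂⟩, trivial⟩
  refine ⟨W, ⟨η, hηW⟩, fun y hy => ?_⟩
  let B : ι → Set ↑(f.fiber y) := fun c => f.fiberι y ⁻¹' (C c : Set X)
  have hne : ∀ c, (B c).Nonempty := fun c => by
    obtain ⟨a, rfl⟩ := ConnectedComponents.surjective_coe c
    have hx : f (f.fiberι η a) = η := (f.range_fiberι η).le ⟨a, rfl⟩
    obtain ⟨x, hxC, hxy⟩ := (hV₁' _ y (hW.2.1 _ hy)).2 ⟨_, (hgen _ _ hx).2 ⟨a, rfl, rfl⟩, hx⟩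
    obtain ⟨b, rfl⟩ := (f.range_fiberι y).ge hxy
    exact ⟨b, hxC⟩
  have huniq : ∀ (b : ↑(f.fiber y)), ∀ c c', b ∈ B c → b ∈ B c' → c = c' := by
    intro b c c' hc hc'
    obtain ⟨x, hx, hxη⟩ := (hV₂' (c, c') y (hW.2.2 _ hy)).1 ⟨_, ⟨hc, hc'⟩, (f.range_fiberι y).le ⟨b, rfl⟩⟩
    obtain ⟨a, ha, haa⟩ := (hgen c x hxη).1 hx.1
    obtain ⟨a', ha', haa'⟩ := (hgen c' x hxη).1 hx.2
    obtain rfl := (f.fiberι η).isEmbedding.injective (haa.trans haa'.symm)
    exact ha.symm.trans ha'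
  have hcov : ∀ b : ↑(f.fiber y), ∃ c, b ∈ B c := by
    intro b
    have hb : f (f.fiberι y b) = y := (f.range_fiberι y).le ⟨b, rfl⟩
    obtain ⟨w, hw, hwη⟩ := hV₃' (f.fiberι y b) (hW.1 (hb.symm ▸ hy))
    obtain ⟨a, rfl⟩ := (f.range_fiberι η).ge hwη
    exact ⟨_, hw.mem_closed (C (ConnectedComponents.mk a)).isClosed ((hgen _ _ hwη).2 ⟨a, rfl, rfl⟩)⟩
  choose φ hφ using hcov
  have hpre : ∀ c, φ ⁻¹' {c} = B c := fun c => Set.ext fun b =>
    ⟨fun h => (show φ b = c from h) ▸ hφ b, fun h => huniq b _ _ (hφ b) h⟩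
  have hlc : IsLocallyConstant φ := (IsLocallyConstant.iff_isOpen_fiber).2 fun c => by
    rw [hpre, show B c = (⋃ c' ∈ ({c}ᶜ : Set ι), B c')ᶜ from ?_]
    · exact ((Set.toFinite _).isClosed_biUnion fun c' _ => (C c').isClosed.preimage (f.fiberι y).continuous).isOpen_compl
    · ext b
      simp only [Set.mem_compl_iff, Set.mem_iUnion, Set.mem_singleton_iff, exists_prop, not_exists, not_and]
      exact ⟨fun h c' hne hc' => hne (huniq b _ _ hc' h), fun h => by
        by_contra hb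
        exact h (φ b) (fun e => hb (e ▸ hφ b)) (hφ b)⟩
  letI : TopologicalSpace ι := ⊥
  haveI : DiscreteTopology ι := ⟨rfl⟩
  let ψ : _root_.ConnectedComponents ↑(f.fiber y) → ι := Continuous.connectedComponentsLift hlc.continuous
  have hψ : Function.Surjective ψ := fun c => by
    obtain ⟨b, hb⟩ := hne c
    refine ⟨ConnectedComponents.mk b, ?_⟩
    show φ b = c
    exact huniq b _ _ (hφ b) hb
  calc (n : ℕ∞) = ENat.card ι := h.symm
    _ ≤ _ := ENat.card_le_card_of_injective (Function.injective_surjInv hψ)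

end Groth.Agent.S1329
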