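import Mathlib.AlgebraicGeometry.Fiber
import Mathlib.AlgebraicGeometry.Morphisms.FiniteType
import Mathlib.AlgebraicGeometry.Morphisms.QuasiCompact
import Mathlib.AlgebraicGeometry.Properties
import Mathlib.Data.Set.Card
import Mathlib.AlgebraicGeometry.Geometrically.Reduced
import Groth.Agent.Lib.Stein6.Spread

set_option autoImplicit false
universe u
namespace FlatMor
end FlatMor
open FlatMor

namespace Groth.Agent.S1331

open AlgebraicGeometry CategoryTheory Limits in
/-- Let f be of finite type with irreducible target. If the generic fibre is not geometrically reduced,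
then over some nonempty open of the target no fibre is geometrically reduced. -/
theorem result {X Y : Scheme.{u}} (f : X ⟶ Y) [IrreducibleSpace ↑Y] [LocallyOfFiniteType f] [QuasiCompact f]
    (h : ¬ GeometricallyReduced (f.fiberToSpecResidueField (genericPoint ↑Y))) :
    ∃ V : Y.Opens, (V : Set ↑Y).Nonempty ∧ ∀ y ∈ V, ¬ GeometricallyReduced (f.fiberToSpecResidueField y) := by
  obtain ⟨V, hV, hVi⟩ := Stein6.geometricallyReduced_near_generic f
  exact ⟨V, ⟨_, hV⟩, fun y hy hr => h ((hVi y hy).1 hr)⟩

end Groth.Agent.S1331
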