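import Groth.Statements.S7174
import Groth.Agent.Lib.PCMor4.Perfect

set_option autoImplicit false
universe u
attribute [local instance] HasDerivedCategory.standard
open FlatMor

set_option backward.isDefEq.respectTransparency.types false

namespace Groth.Agent.S7174


open AlgebraicGeometry CategoryTheory Limits in
theorem td_stalk_iff {X S : Scheme.{u}} (f : X ⟶ S) {U : X.Opens} {V : S.Opens} (hU : IsAffineOpen U)
    (hV : IsAffineOpen V) (hUV : U ≤ f ⁻¹ᵁ V) {x : X} (hx : x ∈ U) :
    letI := (f.stalkMap x).hom.toAlgebra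
    letI := (f.appLE V U hUV).hom.toAlgebra
    DRing.HasFiniteTorDim ↑(S.presheaf.stalk (f x)) ↑(X.presheaf.stalk x) ↔
      DRing.HasFiniteTorDim Γ(S, V) (Localization.AtPrime (hU.primeIdealOf ⟨x, hx⟩).asIdeal) := by
  letI := (f.stalkMap x).hom.toAlgebra
  letI := (f.appLE V U hUV).hom.toAlgebra
  let B := Γ(X, U)
  let L := X.presheaf.stalk x
  let R := S.presheaf.stalk (f x)
  let Q := (hU.primeIdealOf ⟨x, hx⟩).asIdeal
  letI : Algebra Γ(X, U) L := X.presheaf.algebra_section_stalk ⟨x, hx⟩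
  haveI : IsLocalization.AtPrime L Q := hU.isLocalization_stalk ⟨x, hx⟩
  letI : Algebra Γ(S, V) R := S.presheaf.algebra_section_stalk ⟨f x, hUV hx⟩
  haveI : IsLocalization.AtPrime R (hV.primeIdealOf ⟨f x, hUV hx⟩).asIdeal := hV.isLocalization_stalk ⟨f x, hUV hx⟩
  letI : Algebra Γ(S, V) L := ((algebraMap Γ(X, U) L).comp (algebraMap Γ(S, V) Γ(X, U))).toAlgebra
  haveI : IsScalarTower Γ(S, V) Γ(X, U) L := IsScalarTower.of_algebraMap_eq fun _ => rfl
  haveI : IsScalarTower Γ(S, V) R L := IsScalarTower.of_algebraMap_eq fun a => by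
    show X.presheaf.germ U x hx ((f.appLE V U hUV) a) = f.stalkMap x (S.presheaf.germ V (f x) (hUV hx) a)
    rw [Scheme.Hom.germ_stalkMap_apply, Scheme.Hom.appLE, CommRingCat.comp_apply, TopCat.Presheaf.germ_res_apply]
  let e := ((IsLocalization.algEquiv Q.primeCompl (Localization.AtPrime Q) L).restrictScalars Γ(S, V)).toLinearEquiv
  refine exists_congr fun d => (PCMor4.td_localization_iff (hV.primeIdealOf ⟨f x, hUV hx⟩).asIdeal.primeCompl R L).trans
    ⟨fun h => PCMor4.td_equiv e.symm h, fun h => PCMor4.td_equiv e h⟩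

open AlgebraicGeometry CategoryTheory Limits in
/-- (1) ⇔ (3): for a pseudo-coherent f : X → S, f is perfect exactly when, at every point x of X, the
stalk O_{X,x}, viewed as a module over O_{S,f(x)} through the stalk map, is of finite tor dimension.
(The intermediate condition on the structure sheaf as a sheaf of f⁻¹O_S-modules is not restated.) -/
theorem result {X S : Scheme.{u}} (f : X ⟶ S) (hf : MoreMor.IsPseudoCoherentMor f) :
    MoreMor.IsPerfectMor f ↔ ∀ x : X,
      (letI := (f.stalkMap x).hom.toAlgebra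
       DRing.HasFiniteTorDim ↑(S.presheaf.stalk (f x)) ↑(X.presheaf.stalk x)) := by
  rw [PCMor4.isPerfectMor_iff]
  rw [PCMor4.isPseudoCoherentMor_iff] at hf
  rw [PCMor4.pcMor, affineLocally_iff_forall_isAffineOpen] at hf
  constructor
  · intro h x
    rw [PCMor4.pfMor, affineLocally_iff_forall_isAffineOpen] at h
    obtain ⟨V, hV, hxV, -⟩ := exists_isAffineOpen_mem_and_subset (X := S) (x := f x) (U := ⊤) trivial
    obtain ⟨U, hU, hxU, hUV⟩ := exists_isAffineOpen_mem_and_subset (X := X) (x := x) (U := f ⁻¹ᵁ V) hxV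
    refine (td_stalk_iff f hU hV hUV hxU).2 ?_
    letI := (f.appLE V U hUV).hom.toAlgebra
    let Q := (hU.primeIdealOf ⟨x, hxU⟩).asIdeal
    haveI : Module.Flat Γ(X, U) (Localization.AtPrime Q) := IsLocalization.flat _ Q.primeCompl
    exact PCMor4.td_atPrime_of_pfh (h hV hU hUV) (Localization.AtPrime Q)
  · intro h
    refine PCMor4.pfMor_of_forall_exists f fun x => ?_
    obtain ⟨V, hV, hxV, -⟩ := exists_isAffineOpen_mem_and_subset (X := S) (x := f x) (U := ⊤) trivial
    obtain ⟨U, hU, hxU, hUV⟩ := exists_isAffineOpen_mem_and_subset (X := X) (x := x) (U := f ⁻¹ᵁ V) hxV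
    refine ⟨U, V, hUV, hU, hV, hxU, ?_⟩
    letI := (f.appLE V U hUV).hom.toAlgebra
    refine PCMor4.pfh_of_forall_atPrime (hf hV hU hUV) fun Q hQ => ?_
    let y : X := hU.fromSpec ⟨Q, hQ⟩
    have hyU : y ∈ U := hU.range_fromSpec.le ⟨_, rfl⟩
    have hprime : (hU.primeIdealOf ⟨y, hyU⟩).asIdeal = Q := by
      have : hU.primeIdealOf ⟨y, hyU⟩ = ⟨Q, hQ⟩ := hU.fromSpec.isOpenEmbedding.injective (by
        rw [hU.fromSpec_primeIdealOf])
      rw [this]
    have h1 := (td_stalk_iff f hU hV hUV hyU).1 (h y)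
    have hcongr : ∀ (Q' : Ideal Γ(X, U)) [Q'.IsPrime], Q' = Q →
        DRing.HasFiniteTorDim Γ(S, V) (Localization.AtPrime Q') → DRing.HasFiniteTorDim Γ(S, V) (Localization.AtPrime Q) := by
      intro Q' _ hQ' h'
      subst hQ'
      exact h'
    exact hcongr _ hprime h1

end Groth.Agent.S7174
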