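import Groth.Statements.S9775
import Groth.Agent.Lib.PerfLCI4.Scheme
import Groth.Agent.Lib.PCMor4.Regular
import Groth.Agent.S7174
import Groth.Agent.Lib.CplDomain.GRegular

set_option autoImplicit false
universe u
open FlatMor

set_option backward.isDefEq.respectTransparency.types false

namespace Groth.Agent.S9775

open AlgebraicGeometry CategoryTheory Limits in
/-- Let S be a locally Noetherian scheme, g : Y ⟶ S locally of finite type with Y regular (all local
rings regular), f : X ⟶ Y a morphism, and assume the composite f ≫ g is Koszul at every point of X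
(a local complete intersection morphism). Then f is Koszul at every point of X, and g is Koszul at
the point f x for each x ∈ X. -/
theorem result {X Y S : Scheme.{u}} (f : X ⟶ Y) (g : Y ⟶ S) [IsLocallyNoetherian S] [LocallyOfFiniteType g]
    (hY : Models.IsRegularScheme Y) (h : ∀ x : X, Synt.IsKoszulAt (f ≫ g) x) :
    (∀ x : X, Synt.IsKoszulAt f x) ∧ ∀ x : X, Synt.IsKoszulAt g (f x) := by
  haveI : LocallyOfFiniteType (f ≫ g) := CI2.locallyOfFiniteType_of_isKoszulAt (f ≫ g) h
  haveI : LocallyOfFiniteType f := locallyOfFiniteType_of_comp f g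
  haveI : IsLocallyNoetherian Y := LocallyOfFiniteType.isLocallyNoetherian g
  have hpc : MoreMor.IsPseudoCoherentMor f := by
    rw [PCMor4.isPseudoCoherentMor_iff, PCMor4.pcMor, affineLocally_iff_forall_isAffineOpen]
    intro V hV U hU e
    haveI : IsNoetherianRing Γ(Y, V) := IsLocallyNoetherian.component_noetherian ⟨V, hV⟩
    exact PCMor4.pch_of_noetherian _ (f.finiteType_appLE hV hU e)
  have hperf : MoreMor.IsPerfectMor f := by
    refine (Groth.Agent.S7174.result f hpc).2 fun x => ?_
    letI := (f.stalkMap x).hom.toAlgebra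
    haveI : IsRegularLocalRing (Y.presheaf.stalk (f x)) := hY (f x)
    haveI := CplDomain.isRegularRing_of_regularLocal (Y.presheaf.stalk (f x))
    obtain ⟨d, hd⟩ := PCMor4.exists_torDim_le_of_regular (A := Y.presheaf.stalk (f x)) (by
      rw [← IsRegularLocalRing.spanFinrank_maximalIdeal]
      exact WithBot.coe_lt_coe.2 (ENat.natCast_lt_top _))
    exact ⟨d, hd _⟩
  have hf' := (PCMor4.isPerfectMor_iff f).1 hperf
  exact ⟨fun x => (PerfLCI4.koszulAt_both f g hf' h x).1, fun x => (PerfLCI4.koszulAt_both f g hf' h x).2⟩

end Groth.Agent.S9775
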