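import Groth.Statements.S13338
import Groth.Agent.Lib.FormalModH7.Coh
import Groth.Agent.Lib.FormalModH7.FreeFP
import Groth.Agent.S13342

set_option autoImplicit false
open CategoryTheory CategoryTheory.Limits
universe u
open FCompl

namespace Groth.Agent.S13338

open AlgebraicGeometry in
/-- The structure sheaf of a locally Noetherian formal scheme is a coherent sheaf of rings. Here the
formal scheme is presented as an adic system of locally Noetherian thickenings with common
underlying space and O_𝔛 is the limit of the O_{X_n}; the statement is that for every open subset U,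
with 𝔛|U the induced system, and every morphism of O_{𝔛|U}-modules from a free module of finite rank
to O_{𝔛|U}, the kernel is of finite type. -/
theorem result (𝔛 : FSch.Sys.{u}) (h𝔛 : 𝔛.IsLocNoethFormal)
    (U : (𝔛.X 0).Opens) (hU : (𝔛.restrictOpen h𝔛.1 U).IsFormal) (n : ℕ)
    (φ : SheafOfModules.free (ULift.{u} (Fin n)) ⟶ FSch.unitF (𝔛.restrictOpen h𝔛.1 U) hU) :
    SheafOfModules.IsFiniteType (R := ModSite.ringSh ((𝔛.restrictOpen h𝔛.1 U).Osh hU)) (kernel φ) := by
  have hN := (Groth.Agent.S13342.result 𝔛 h𝔛.1 U).2.1 h𝔛
  haveI := Groth.Agent.FormalModH7.isFinitePresentation_free (O := (𝔛.restrictOpen h𝔛.1 U).Osh hU) (ULift.{u} (Fin n))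
  haveI := Groth.Agent.FormalModH7.isFinitePresentation_unit (O := (𝔛.restrictOpen h𝔛.1 U).Osh hU)
  haveI := Groth.Agent.FormalModH7.isFinitePresentation_kernel hN φ
  infer_instance

end Groth.Agent.S13338
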