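import Groth.Statements.S13344
import Groth.Agent.Lib.FormalModH7.Level
import Groth.Agent.Lib.FormalModH7.FreeFP

set_option autoImplicit false
open CategoryTheory CategoryTheory.Limits
universe u
open FCompl

namespace Groth.Agent.S13344

open AlgebraicGeometry in
/-- On a locally Noetherian formal scheme the ideals of definition are coherent. Here the formal scheme
is presented as an adic system of locally Noetherian thickenings with common underlying space, O_𝔛 =
lim O_{X_n}, and the statement is made for the ideals of definition attached to the levels: for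
every n the kernel of the canonical morphism O_𝔛 → (u_n)_* u_n^* O_𝔛 (whose target is O_{X_n}) is an
O_𝔛-module of finite type. -/
theorem result (𝔛 : FSch.Sys.{u}) (h𝔛 : 𝔛.IsLocNoethFormal) (n : ℕ) :
    SheafOfModules.IsFiniteType (R := ModSite.ringSh (𝔛.Osh h𝔛.1))
      (kernel ((FSch.levelMor 𝔛 h𝔛.1 n).adj.unit.app (FSch.unitF 𝔛 h𝔛.1))) := by
  haveI := Groth.Agent.FormalModH7.isFinitePresentation_unit (O := 𝔛.Osh h𝔛.1)
  exact Groth.Agent.FormalModH7.isFiniteType_kernel_unitL (𝔉 := FSch.unitF 𝔛 h𝔛.1) h𝔛 n

end Groth.Agent.S13344
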