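import Groth.Statements.S13353
import Groth.Agent.Lib.RigH7.Adjoin
import Groth.Agent.Lib.RigH7.DimOne

set_option autoImplicit false
universe u
open scoped TensorProduct
open AdicRing

namespace Groth.Agent.S13353

/-- Let R be a complete valuation ring of height one with t a nonzero element generating an ideal of
definition and K its field of fractions, A an admissible R-algebra, f_1, ..., f_n elements of A ⊗_R
K integral over A, c a nonzero element of R and g_1, ..., g_n elements of A with g_i = c f_i in A
⊗_R K; put 𝔞 = (c, g_1, ..., g_n) and A' = A[f_1, ..., f_n] ⊂ A ⊗_R K. If D is an admissible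
R-algebra and φ : A → D an R-algebra homomorphism such that the ideal 𝔞D is generated by the image
of c, or by the image of some g_i, then 𝔞D is generated by c and φ extends to exactly one R-algebra
homomorphism A' → D. (This is the universal property through which Spf A' → Spf A is identified with
the formal blowing-up of 𝔞 on Spf A; the published hypothesis on the f_i is a supremum-seminorm
bound, from which their integrality over A is derived.) -/
theorem result
    (R : Type u) [CommRing R] [IsDomain R] [ValuationRing R] [Ring.KrullDimLE 1 R]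
    (t : R) (ht : t ≠ 0) [IsAdicComplete (Ideal.span {t}) R]
    (A : Type u) [CommRing A] [Algebra R A] (hA : AdicRing.Admissible R (Ideal.span {t}) A)
    (n : ℕ) (f : Fin n → A ⊗[R] FractionRing R) (hf : ∀ i, IsIntegral A (f i))
    (c : R) (hc : c ≠ 0) (g : Fin n → A)
    (hg : ∀ i, algebraMap A (A ⊗[R] FractionRing R) (g i) = c • f i)
    (D : Type u) [CommRing D] [Algebra R D] (hD : AdicRing.Admissible R (Ideal.span {t}) D)
    (φ : A →ₐ[R] D)
    (hgen : (Ideal.span (insert (algebraMap R A c) (Set.range g))).map φ =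
          Ideal.span {algebraMap R D c} ∨
      ∃ i, (Ideal.span (insert (algebraMap R A c) (Set.range g))).map φ = Ideal.span {φ (g i)}) :
    (Ideal.span (insert (algebraMap R A c) (Set.range g))).map φ = Ideal.span {algebraMap R D c} ∧
      ∃! ψ : ↥(Algebra.adjoin A (Set.range f)) →ₐ[R] D,
        ψ.comp (IsScalarTower.toAlgHom R A ↥(Algebra.adjoin A (Set.range f))) = φ := by
  classical
  have htu : ¬ IsUnit t := Groth.Agent.Lib.RigH7.not_isUnit_of_isAdicComplete
  set cD := algebraMap R D c with hcD
  have hDinj := Groth.Agent.Lib.RigH7.smul_injective_of_noPowTorsion htu hD.2 hc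
  have hcreg : ∀ x : D, cD * x = 0 → x = 0 := fun x hx => hDinj (by
    show c • x = c • 0
    rw [smul_zero, Algebra.smul_def]; exact hx)
  set a := Ideal.span (insert (algebraMap R A c) (Set.range g)) with hadef
  have hca : cD ∈ a.map φ := by
    rw [hcD, ← φ.commutes]
    exact Ideal.mem_map_of_mem φ (Ideal.subset_span (Set.mem_insert _ _))
  have hι := Groth.Agent.Lib.RigH7.includeLeft_injective htu hA.2
  -- first part
  have hmap : a.map φ = Ideal.span {cD} := by
    rcases hgen with h | ⟨i, h⟩
    · exact h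
    rw [h] at hca ⊢
    obtain ⟨d, hd⟩ := Ideal.mem_span_singleton'.mp hca
    have hgreg : ∀ x : D, φ (g i) * x = 0 → x = 0 := fun x hx => hcreg x (by
      rw [← hd, mul_assoc, hx, mul_zero])
    obtain ⟨p, hp, hp0⟩ := hf i
    set N := p.natDegree
    have h1 : ∑ j ∈ Finset.range (N + 1), p.coeff j * algebraMap R A c ^ (N - j) * g i ^ j = 0 := by
      apply hι
      rw [map_zero, ← mul_zero (algebraMap R (A ⊗[R] FractionRing R) c ^ N), ← hp0,
        Polynomial.eval₂_eq_sum_range, map_sum, Finset.mul_sum]
      refine Finset.sum_congr rfl fun j hj => ?_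
      rw [map_mul, map_mul, map_pow, map_pow, hg i,
        show c • f i = algebraMap R (A ⊗[R] FractionRing R) c * f i from Algebra.smul_def c (f i),
        ← IsScalarTower.algebraMap_apply R A (A ⊗[R] FractionRing R)]
      have hN : N = (N - j) + j := (Nat.sub_add_cancel (by simpa [Nat.lt_succ_iff] using hj)).symm
      conv_rhs => rw [hN, pow_add]
      rw [mul_pow]
      ring
    have h2 : φ (g i) ^ N * ∑ j ∈ Finset.range (N + 1), φ (p.coeff j) * d ^ (N - j) = 0 := by
      rw [← map_zero φ, ← h1, map_sum, Finset.mul_sum]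
      refine Finset.sum_congr rfl fun j hj => ?_
      rw [map_mul, map_mul, map_pow, map_pow, φ.commutes, ← hcD, ← hd]
      have hN : N = (N - j) + j := (Nat.sub_add_cancel (by simpa [Nat.lt_succ_iff] using hj)).symm
      conv_lhs => rw [hN, pow_add]
      rw [mul_pow, ← hN]
      ring
    have h3 : ∑ j ∈ Finset.range (N + 1), φ (p.coeff j) * d ^ (N - j) = 0 := by
      have : ∀ (m : ℕ) (x : D), φ (g i) ^ m * x = 0 → x = 0 := by
        intro m
        induction m with
        | zero => intro x hx; simpa using hx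
        | succ m ih => intro x hx; exact ih x (hgreg _ (by rw [← mul_assoc, ← pow_succ']; exact hx))
      exact this N _ h2
    have hdu : IsUnit d := by
      rw [Finset.sum_range_succ, Nat.sub_self, pow_zero, mul_one, hp.coeff_natDegree, map_one] at h3
      refine IsUnit.of_mul_eq_one (-∑ j ∈ Finset.range N, φ (p.coeff j) * d ^ (N - j - 1)) ?_
      rw [mul_neg, Finset.mul_sum, neg_eq_iff_add_eq_zero, ← h3]
      congr 1
      refine Finset.sum_congr rfl fun j hj => ?_
      rw [mul_left_comm, ← pow_succ', Nat.sub_add_cancel]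
      have := Finset.mem_range.mp hj
      omega
    rw [← hd, Ideal.span_singleton_mul_left_unit hdu]
  refine ⟨hmap, ?_⟩
  have hgc : ∀ j, ∃ e, e * cD = φ (g j) := fun j => Ideal.mem_span_singleton'.mp
    (hmap ▸ Ideal.mem_map_of_mem φ (Ideal.subset_span (Set.mem_insert_of_mem _ ⟨j, rfl⟩)))
  choose e he using hgc
  have hιD := Groth.Agent.Lib.RigH7.includeLeft_injective htu hD.2
  let ιD : D →ₐ[R] D ⊗[R] FractionRing R := Algebra.TensorProduct.includeLeft
  let Φ : A ⊗[R] FractionRing R →ₐ[R] D ⊗[R] FractionRing R :=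
    Algebra.TensorProduct.map φ (AlgHom.id R (FractionRing R))
  have hΦA : ∀ x, Φ (algebraMap A _ x) = ιD (φ x) := fun x => rfl
  have hΦf : ∀ j, Φ (f j) = ιD (e j) := by
    intro j
    refine Groth.Agent.Lib.RigH7.smul_injective_genericFibre hc ?_
    show c • Φ (f j) = c • ιD (e j)
    rw [← map_smul, ← hg j, hΦA, ← he j, ← map_smul, Algebra.smul_def, mul_comm]
  have hrange : ∀ x : Algebra.adjoin A (Set.range f), Φ (x : A ⊗[R] FractionRing R) ∈ ιD.range := by
    rintro ⟨x, hx⟩
    induction hx using Algebra.adjoin_induction with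
    | mem x hx =>
      obtain ⟨j, rfl⟩ := hx
      exact ⟨e j, (hΦf j).symm⟩
    | algebraMap r => exact ⟨φ r, (hΦA r).symm⟩
    | add x y _ _ hx hy => rw [map_add]; exact ιD.range.add_mem hx hy
    | mul x y _ _ hx hy => rw [map_mul]; exact ιD.range.mul_mem hx hy
  let ψ : Algebra.adjoin A (Set.range f) →ₐ[R] D :=
    ((AlgEquiv.ofInjective ιD hιD).symm : ιD.range →ₐ[R] D).comp
      ((Φ.comp ((Algebra.adjoin A (Set.range f)).val.restrictScalars R)).codRestrict _ hrange)
  have hψ : ∀ x, ιD (ψ x) = Φ (x : A ⊗[R] FractionRing R) := fun x =>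
    congrArg Subtype.val ((AlgEquiv.ofInjective ιD hιD).apply_symm_apply ⟨_, hrange x⟩)
  refine ⟨ψ, AlgHom.ext fun x => hιD ((hψ _).trans (hΦA x)), fun ψ' hψ' => AlgHom.ext fun x => ?_⟩
  obtain ⟨x, hx⟩ := x
  apply hιD
  show ιD (ψ' _) = ιD (ψ _)
  rw [hψ]
  induction hx using Algebra.adjoin_induction with
  | mem y hy =>
    obtain ⟨j, rfl⟩ := hy
    rw [hΦf]
    congr 1
    refine hDinj ?_
    show c • ψ' _ = c • e j
    have h4 : c • (⟨f j, Algebra.subset_adjoin ⟨j, rfl⟩⟩ : Algebra.adjoin A (Set.range f)) =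
        algebraMap A _ (g j) := Subtype.ext (hg j).symm
    rw [← map_smul, h4]
    exact (DFunLike.congr_fun hψ' (g j)).trans ((he j).symm.trans (by rw [Algebra.smul_def, mul_comm]))
  | algebraMap r => exact (congrArg ιD (DFunLike.congr_fun hψ' r)).trans (hΦA r).symm
  | add y z hy hz ihy ihz =>
    show ιD (ψ' (⟨y, hy⟩ + ⟨z, hz⟩)) = _
    rw [map_add, map_add, map_add, ihy, ihz]
  | mul y z hy hz ihy ihz =>
    show ιD (ψ' (⟨y, hy⟩ * ⟨z, hz⟩)) = _
    rw [map_mul, map_mul, map_mul, ihy, ihz]

end Groth.Agent.S13353
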