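import Groth.Statements.S13354
import Groth.Agent.Lib.RigH7.DimThree

set_option autoImplicit false
universe u
open AdicRing

namespace Groth.Agent.S13354

/-- Let R be a complete valuation ring of height one with t a nonzero element generating an ideal of
definition, B an admissible R-algebra which is a local integral domain of Krull dimension one (the
algebra of a rig-point), and b_1, ..., b_n elements of B, not all zero. Then there is a B-subalgebra
B' of the field of fractions of B which is finite over B, is again a local ring of Krull dimension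
one, and in which the ideal generated by b_1, ..., b_n is generated by one of the b_i alone (hence
is invertible). (This is the algebraic step by which a rig-point is lifted along the formal
blowing-up of a finitely generated open ideal; the resulting bijection between rig-points of the
blowing-up and of the base is not stated here.) -/
theorem result
    (R : Type u) [CommRing R] [IsDomain R] [ValuationRing R] [Ring.KrullDimLE 1 R]
    (t : R) (ht : t ≠ 0) [IsAdicComplete (Ideal.span {t}) R]
    (B : Type u) [CommRing B] [Algebra R B] [IsDomain B] [IsLocalRing B]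
    (hB : AdicRing.Admissible R (Ideal.span {t}) B) (hdim : ringKrullDim B = 1)
    (n : ℕ) (b : Fin n → B) (hb : ∃ i, b i ≠ 0) :
    ∃ B' : Subalgebra B (FractionRing B), Module.Finite B ↥B' ∧ IsLocalRing ↥B' ∧ ringKrullDim ↥B' = 1 ∧
      ∃ i, Ideal.span (Set.range (fun j => algebraMap B ↥B' (b j))) =
        Ideal.span {algebraMap B ↥B' (b i)} := by
  obtain ⟨hfin, hfaith⟩ := Groth.Agent.Lib.RigH7.finite_of_dim_one ht hB hdim
  haveI := hfin
  haveI := hfaith
  haveI : Algebra.IsIntegral R B := Algebra.IsIntegral.of_finite R B
  haveI := Groth.Agent.Lib.RigH7.faithfulSMul_of_tower (R := R) (B := B)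
  haveI := Groth.Agent.Lib.RigH7.valuationRing_integralClosure_fractionRing (R := R) (t := t) ht B
  obtain ⟨i₀, hi₀⟩ := hb
  obtain ⟨i, -, hdvd⟩ := Groth.Agent.Lib.RigH7.exists_dvd_all
    (R := integralClosure B (FractionRing B)) Finset.univ (fun j => algebraMap B _ (b j))
    ⟨i₀, Finset.mem_univ _⟩
  choose c hc using fun j => hdvd j (Finset.mem_univ j)
  let B' := Algebra.adjoin B (Set.range fun j => (c j : FractionRing B))
  haveI hB'fin : Module.Finite B B' := Module.Finite.iff_fg.mpr
    (fg_adjoin_of_finite (Set.finite_range _) (by rintro x ⟨j, rfl⟩; exact (c j).2))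
  haveI : Module.Finite R B' := Module.Finite.trans B B'
  haveI : Algebra.IsIntegral R B' := Algebra.IsIntegral.of_finite R B'
  haveI : FaithfulSMul R B' := (faithfulSMul_iff_algebraMap_injective R B').mpr fun a a' h =>
    FaithfulSMul.algebraMap_injective R (FractionRing B) (congrArg Subtype.val h)
  refine ⟨B', hB'fin, Groth.Agent.Lib.RigH7.isLocalRing_of_finite (R := R) ht B',
    Groth.Agent.Lib.RigH7.ringKrullDim_eq_one_of_isIntegral ht
      (Groth.Agent.Lib.RigH7.not_isUnit_of_isAdicComplete (t := t)) B', i, ?_⟩
  refine le_antisymm (Ideal.span_le.mpr ?_) (Ideal.span_le.mpr ?_)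
  · rintro _ ⟨j, rfl⟩
    refine Ideal.mem_span_singleton.mpr ⟨⟨c j, Algebra.subset_adjoin ⟨j, rfl⟩⟩, ?_⟩
    exact Subtype.ext (congrArg Subtype.val (hc j) :)
  · exact Set.singleton_subset_iff.mpr (Ideal.subset_span ⟨i, rfl⟩)

end Groth.Agent.S13354
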