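import Groth.Statements.S13356
import Groth.Agent.Lib.GaDual.Char

set_option autoImplicit false
universe u
open GaDual

namespace Groth.Agent.S13356

/-- Over a commutative algebra A over the rationals, the polynomials f with f(0) = 1 and f(X+Y) =
f(X)f(Y) (the characters of the additive group into the multiplicative group over A) are exactly the
polynomials exp(aX) with a in A nilpotent. -/
theorem result (A : Type u) [CommRing A] [Algebra ℚ A] (f : Polynomial A) :
    (f.eval 0 = 1 ∧
      Polynomial.aeval (MvPolynomial.X 0 + MvPolynomial.X 1 : MvPolynomial (Fin 2) A) f =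
        Polynomial.aeval (MvPolynomial.X 0 : MvPolynomial (Fin 2) A) f *
          Polynomial.aeval (MvPolynomial.X 1 : MvPolynomial (Fin 2) A) f) ↔
      ∃ a : A, IsNilpotent a ∧ (f : PowerSeries A) = PowerSeries.rescale a (PowerSeries.exp A) := by
  rw [Groth.Agent.GaDual.isCharacter_iff_coeff, ← Polynomial.coeff_zero_eq_eval_zero,
    Groth.Agent.GaDual.ratCharacter_iff (fun n => f.coeff n)]
  constructor
  · intro h
    refine ⟨f.coeff 1, ⟨f.natDegree + 1, ?_⟩, PowerSeries.ext fun n => ?_⟩
    · have hz := h (f.natDegree + 1)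
      rw [Polynomial.coeff_eq_zero_of_natDegree_lt (Nat.lt_succ_self _)] at hz
      refine (IsUnit.mul_left_eq_zero ?_).1 hz.symm
      exact (IsUnit.mk0 _ (one_div_ne_zero (Nat.cast_ne_zero.2 (Nat.factorial_ne_zero _)))).map _
    · rw [Groth.Agent.GaDual.coeff_rescale_exp, Polynomial.coeff_coe, h n]
  · rintro ⟨a, -, hfa⟩ n
    have key : ∀ m, f.coeff m = a ^ m * algebraMap ℚ A (1 / m.factorial) := fun m => by
      rw [← Polynomial.coeff_coe, hfa, Groth.Agent.GaDual.coeff_rescale_exp]
    rw [key n, key 1]
    simp

end Groth.Agent.S13356
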