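import Groth.Statements.S13359
import Mathlib

set_option autoImplicit false
set_option maxHeartbeats 1000000
set_option synthInstance.maxHeartbeats 100000
universe u
open UltraProd

namespace Groth.Agent.S13359

/-- If (R_i) is a nonempty family of integrally closed domains, then the localization of the product
ring ∏ R_i at any prime ideal is an integrally closed domain. -/
theorem result {ι : Type u} [Nonempty ι] (R : ι → Type u)
    [∀ i, CommRing (R i)] [∀ i, IsDomain (R i)] [∀ i, IsIntegrallyClosed (R i)]
    (P : Ideal (∀ i, R i)) [P.IsPrime] :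
    IsDomain (Localization.AtPrime P) ∧ IsIntegrallyClosed (Localization.AtPrime P) := by
  classical
  let L := Localization.AtPrime P
  have hzero : ∀ x : ∀ i, R i, algebraMap _ L x = 0 ↔ ∃ u, u ∉ P ∧ u * x = 0 := fun x => by
    rw [IsLocalization.map_eq_zero_iff P.primeCompl]
    exact ⟨fun ⟨u, hu⟩ => ⟨u, u.2, hu⟩, fun ⟨u, hu, h⟩ => ⟨⟨u, hu⟩, h⟩⟩
  have hdom : IsDomain L := by
    haveI : Nontrivial L := IsLocalization.AtPrime.nontrivial L P
    haveI : NoZeroDivisors L := ⟨fun {x y} hxy => by
      obtain ⟨⟨a, s⟩, hx⟩ := IsLocalization.surj P.primeCompl x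
      obtain ⟨⟨b, t⟩, hy⟩ := IsLocalization.surj P.primeCompl y
      have h1 : algebraMap _ L (a * b) = 0 := by
        rw [map_mul, ← hx, ← hy, mul_mul_mul_comm, hxy, zero_mul]
      obtain ⟨u, hu, hu0⟩ := (hzero _).1 h1
      let e : ∀ i, R i := fun i => if a i = 0 then 0 else 1
      have he : e * (1 - e) = 0 := funext fun i => by simp only [e, Pi.mul_apply, Pi.sub_apply, Pi.one_apply]; split_ifs <;> simp
      rcases Ideal.IsPrime.mem_or_mem ‹_› (show e * (1 - e) ∈ P by rw [he]; exact P.zero_mem) with h | h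
      · left
        have ha : algebraMap _ L a = 0 := (hzero a).2 ⟨1 - e, fun h' => Ideal.IsPrime.ne_top ‹_› ((Ideal.eq_top_iff_one P).2 (by simpa using P.add_mem h h')),
          funext fun i => by simp only [e, Pi.mul_apply, Pi.sub_apply, Pi.one_apply]; split_ifs with h2 <;> simp [h2]⟩
        exact (IsLocalization.map_units L s).mul_left_eq_zero.1 (hx.trans ha)
      · right
        have hb : algebraMap _ L b = 0 := (hzero b).2 ⟨e * u, fun h' => (Ideal.IsPrime.mem_or_mem ‹_› h').elim
          (fun h'' => Ideal.IsPrime.ne_top ‹_› ((Ideal.eq_top_iff_one P).2 (by simpa using P.add_mem h h''))) hu,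
          funext fun i => by
            have h3 := congrFun hu0 i
            simp only [e, Pi.mul_apply, Pi.zero_apply] at h3 ⊢
            split_ifs with h2
            · simp
            · rw [one_mul]
              rcases mul_eq_zero.1 h3 with h4 | h4
              · rw [h4, zero_mul]
              · rw [(mul_eq_zero.1 h4).resolve_left h2, mul_zero]⟩
        exact (IsLocalization.map_units L t).mul_left_eq_zero.1 (hy.trans hb)⟩
    exact NoZeroDivisors.to_isDomain L
  refine ⟨hdom, ?_⟩
  haveI := hdom
  let K := FractionRing L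
  haveI : IsScalarTower (∀ i, R i) L K := inferInstance
  refine (isIntegrallyClosed_iff K).2 fun {z} hz => ?_
  obtain ⟨⟨d, hd⟩, hw⟩ := IsIntegral.exists_multiple_integral_of_isLocalization P.primeCompl z hz
  obtain ⟨p, hpm, hp0⟩ := hw
  change Polynomial.eval₂ (algebraMap (∀ i, R i) K) (d • z) p = 0 at hp0
  obtain ⟨x, y, hy, hxy⟩ := IsFractionRing.div_surjective L (d • z)
  obtain ⟨⟨a, s⟩, hx⟩ := IsLocalization.surj P.primeCompl x
  obtain ⟨⟨b, t⟩, hb⟩ := IsLocalization.surj P.primeCompl y
  -- d • z = (a t) / (b s)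
  have hbne : algebraMap _ L (b * s) ≠ 0 := by
    rw [map_mul, ← hb]
    exact mul_ne_zero (mul_ne_zero (nonZeroDivisors.ne_zero hy) (IsLocalization.map_units L t).ne_zero) (IsLocalization.map_units L s).ne_zero
  have hwab : algebraMap _ K (b * s) * (d • z) = algebraMap _ K (a * t) := by
    simp only [IsScalarTower.algebraMap_apply (∀ i, R i) L K, map_mul, ← hb, ← hx, ← hxy]
    have hY : algebraMap L K y ≠ 0 := IsFractionRing.to_map_ne_zero_of_mem_nonZeroDivisors hy
    rw [div_eq_mul_inv]
    linear_combination (algebraMap L K x * algebraMap L K (algebraMap _ L (t : ∀ i, R i)) * algebraMap L K (algebraMap _ L (s : ∀ i, R i))) * mul_inv_cancel₀ hY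
  set A := a * t.1
  set B := b * s.1
  have hE : algebraMap _ L ((p.scaleRoots B).eval A) = 0 := by
    apply IsFractionRing.injective L K
    rw [map_zero, ← IsScalarTower.algebraMap_apply (∀ i, R i) L K, ← Polynomial.eval₂_at_apply, ← hwab,
      Polynomial.scaleRoots_eval₂_mul, hp0, mul_zero]
  obtain ⟨u, hu, hu0⟩ := (hzero _).1 hE
  let e : ∀ i, R i := fun i => if u i ≠ 0 ∧ B i ≠ 0 then 1 else 0
  have he0 : e * (1 - e) = 0 := funext fun i => by simp only [e, Pi.mul_apply, Pi.sub_apply, Pi.one_apply]; split_ifs <;> simp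
  have he : e ∉ P := fun h => hbne ((hzero B).2 ⟨(1 - e) * u, fun h' => (Ideal.IsPrime.mem_or_mem ‹_› h').elim
      (fun h'' => Ideal.IsPrime.ne_top ‹_› ((Ideal.eq_top_iff_one P).2 (by simpa using P.add_mem h h''))) hu,
      funext fun i => by
        simp only [e, Pi.mul_apply, Pi.sub_apply, Pi.one_apply, Pi.zero_apply]
        split_ifs with h2
        · simp
        · rw [not_and_or, not_not, not_not] at h2
          rcases h2 with h2 | h2 <;> simp [h2]⟩)
  have hq : ∀ i, ∃ q : R i, e i * A i = e i * (B i * q) := fun i => by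
    by_cases h2 : u i ≠ 0 ∧ B i ≠ 0
    · have h3 : (p.scaleRoots B).eval A i = 0 := (mul_eq_zero.1 (congrFun hu0 i)).resolve_left h2.1
      have h4 : ((p.map (Pi.evalRingHom R i)).scaleRoots (B i)).eval (A i) = 0 := by
        have h5 := Polynomial.map_scaleRoots p B (Pi.evalRingHom R i) (by rw [hpm.leadingCoeff, map_one]; exact one_ne_zero)
        rw [Pi.evalRingHom_apply] at h5
        rw [← h5, show A i = Pi.evalRingHom R i A from rfl, Polynomial.eval_map, Polynomial.eval₂_at_apply]
        exact h3
      let F := FractionRing (R i)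
      have hBF : algebraMap (R i) F (B i) ≠ 0 := fun h => h2.2 (IsFractionRing.injective (R i) F (by rw [h, map_zero]))
      have h6 : IsIntegral (R i) (algebraMap (R i) F (A i) / algebraMap (R i) F (B i)) := by
        refine ⟨p.map (Pi.evalRingHom R i), hpm.map _, ?_⟩
        have h7 := congrArg (algebraMap (R i) F) h4
        rw [← Polynomial.eval₂_at_apply, map_zero,
          show algebraMap (R i) F (A i) = algebraMap (R i) F (B i) * (algebraMap (R i) F (A i) / algebraMap (R i) F (B i)) from (mul_div_cancel₀ _ hBF).symm,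
          Polynomial.scaleRoots_eval₂_mul] at h7
        exact (mul_eq_zero.1 h7).resolve_left (pow_ne_zero _ hBF)
      obtain ⟨q, hq⟩ := IsIntegrallyClosed.algebraMap_eq_of_integral h6
      refine ⟨q, ?_⟩
      congr 1
      apply IsFractionRing.injective (R i) F
      rw [map_mul, hq, mul_div_cancel₀ _ hBF]
    · exact ⟨0, by simp [e, h2]⟩
  choose q hq using hq
  have hAq : algebraMap _ L A = algebraMap _ L B * algebraMap _ L q := by
    rw [← map_mul, ← sub_eq_zero, ← map_sub]
    exact (hzero _).2 ⟨e, he, funext fun i => by simp only [Pi.mul_apply, Pi.sub_apply, Pi.zero_apply, mul_sub, hq i, sub_self]⟩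
  refine ⟨algebraMap _ L q * ↑(IsLocalization.map_units L ⟨d, hd⟩).unit⁻¹, ?_⟩
  have hd0 : algebraMap (∀ i, R i) K d ≠ 0 := by
    rw [IsScalarTower.algebraMap_apply (∀ i, R i) L K]
    exact ((IsLocalization.map_units L ⟨d, hd⟩).map (algebraMap L K)).ne_zero
  have hB0 : algebraMap (∀ i, R i) K B ≠ 0 := fun h => hbne (IsFractionRing.injective L K (by
    rw [map_zero, ← IsScalarTower.algebraMap_apply (∀ i, R i) L K, h]))
  apply mul_left_cancel₀ (mul_ne_zero hB0 hd0)
  have hU : algebraMap L K ↑(IsLocalization.map_units L ⟨d, hd⟩).unit⁻¹ * algebraMap (∀ i, R i) K d = 1 := by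
    rw [IsScalarTower.algebraMap_apply (∀ i, R i) L K, ← map_mul, IsUnit.val_inv_mul, map_one]
  have hAq' : algebraMap (∀ i, R i) K A = algebraMap (∀ i, R i) K B * algebraMap L K (algebraMap _ L q) := by
    rw [IsScalarTower.algebraMap_apply (∀ i, R i) L K A, hAq, map_mul, ← IsScalarTower.algebraMap_apply (∀ i, R i) L K B]
  have hdz : algebraMap (∀ i, R i) K B * (algebraMap (∀ i, R i) K d * z) = algebraMap (∀ i, R i) K A := by
    rw [← Algebra.smul_def d z]; exact hwab
  rw [map_mul (algebraMap L K) (algebraMap _ L q)]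
  linear_combination (algebraMap (∀ i, R i) K B * algebraMap L K (algebraMap _ L q)) * hU - hdz - hAq'

end Groth.Agent.S13359
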