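import Groth.Statements.S13360
import Mathlib
import Groth.Agent.S13359
import Groth.Agent.S13359

set_option autoImplicit false
universe u
open UltraProd

namespace Groth.Agent.S13360

/-- If (R_i) is a nonempty family of valuation rings, then the localization of the product ring ∏ R_i at
any prime ideal is a valuation ring: a domain in which, of any two elements, one divides the other. -/
theorem result {ι : Type u} [Nonempty ι] (R : ι → Type u)
    [∀ i, CommRing (R i)] [∀ i, IsDomain (R i)] [∀ i, ValuationRing (R i)]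
    (P : Ideal (∀ i, R i)) [P.IsPrime] :
    IsDomain (Localization.AtPrime P) ∧ PreValuationRing (Localization.AtPrime P) := by
  classical
  let L := Localization.AtPrime P
  refine ⟨(Groth.Agent.S13359.result R P).1, ⟨fun x y => ?_⟩⟩
  obtain ⟨⟨a, s⟩, hx⟩ := IsLocalization.surj P.primeCompl x
  obtain ⟨⟨b, t⟩, hy⟩ := IsLocalization.surj P.primeCompl y
  have key : ∀ (a b : ∀ i, R i) (e : ∀ i, R i), e ∉ P → (∀ i, ∃ c, e i * b i = e i * (a i * c)) →
      ∃ c : L, algebraMap _ L a * c = algebraMap _ L b := fun a b e he h => by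
    choose c hc using h
    refine ⟨algebraMap _ L c, ?_⟩
    rw [← map_mul, IsLocalization.eq_iff_exists P.primeCompl]
    exact ⟨⟨e, he⟩, funext fun i => (hc i).symm⟩
  let e : ∀ i, R i := fun i => if a i ∣ b i then 1 else 0
  have he0 : e * (1 - e) = 0 := funext fun i => by simp only [e, Pi.mul_apply, Pi.sub_apply, Pi.one_apply]; split_ifs <;> simp
  have hsu := IsLocalization.map_units L s
  have htu := IsLocalization.map_units L t
  by_cases he : e ∈ P
  · obtain ⟨c, hc⟩ := key b a (1 - e) (fun h' => Ideal.IsPrime.ne_top ‹_› ((Ideal.eq_top_iff_one P).2 (by simpa using P.add_mem he h'))) fun i => by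
      simp only [e, Pi.sub_apply, Pi.one_apply]
      split_ifs with h
      · exact ⟨0, by simp⟩
      · obtain ⟨c, hc⟩ := (ValuationRing.dvd_total (a i) (b i)).resolve_left h
        exact ⟨c, by rw [hc]⟩
    refine ⟨algebraMap _ L (t : ∀ i, R i) * c * ↑hsu.unit⁻¹, Or.inr ?_⟩
    refine hsu.mul_right_cancel ?_
    rw [mul_assoc, mul_assoc, IsUnit.val_inv_mul, mul_one, ← mul_assoc, hy, hc, hx]
  · obtain ⟨c, hc⟩ := key a b e he fun i => by
      simp only [e]
      split_ifs with h
      · obtain ⟨c, hc⟩ := h
        exact ⟨c, by rw [hc]⟩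
      · exact ⟨0, by simp⟩
    refine ⟨algebraMap _ L (s : ∀ i, R i) * c * ↑htu.unit⁻¹, Or.inl ?_⟩
    refine htu.mul_right_cancel ?_
    rw [mul_assoc, mul_assoc, IsUnit.val_inv_mul, mul_one, ← mul_assoc, hx, hc, hy]

end Groth.Agent.S13360
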