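import Groth.Statements.S13361
import Mathlib.Order.Bounds.Defs
import Mathlib.Tactic
import Mathlib.LinearAlgebra.Dual.Lemmas
import Mathlib.LinearAlgebra.BilinearForm.Properties
import Mathlib.RepresentationTheory.Invariants
import Mathlib.LinearAlgebra.Matrix.GeneralLinearGroup.Defs
import Mathlib.GroupTheory.FiniteAbelian.Basic
import Mathlib.Topology.Algebra.ClopenNhdofOne

set_option autoImplicit false
universe u
open ProCompl

namespace Groth.Agent.S13361

/-- A finite abelian group with a nonzero element contained in every nonzero subgroup is isomorphic to a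
cyclic group of prime-power order Z/p^n. -/
theorem result {A : Type u} [AddCommGroup A] [Finite A]
    (a : A) (ha : a ≠ 0) (h : ∀ B : AddSubgroup A, B ≠ ⊥ → a ∈ B) :
    ∃ p n : ℕ, p.Prime ∧ Nonempty (A ≃+ ZMod (p ^ n)) := by
  classical
  obtain ⟨ι, _, p, hp, e, ⟨f⟩⟩ := AddCommGroup.equiv_directSum_zmod_of_finite A
  obtain ⟨i, hi⟩ : ∃ i, (f a) i ≠ 0 := by
    by_contra hc; push Not at hc
    exact ha (f.injective (by rw [map_zero]; exact DFinsupp.ext hc))
  refine ⟨p i, e i, hp i, ⟨f.trans ?_⟩⟩
  have key : ∀ j, j ≠ i → ∀ y : ZMod (p j ^ e j), y = 0 := by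
    intro j hj y
    by_contra hy
    let B : AddSubgroup A := AddSubgroup.zmultiples (f.symm (DirectSum.of _ j y))
    have : B ≠ ⊥ := by
      simp only [B, ne_eq, AddSubgroup.zmultiples_eq_bot]
      intro hz
      apply hy
      have := congrArg f hz
      simp only [AddEquiv.apply_symm_apply, map_zero] at this
      exact DirectSum.of_injective j (this.trans (map_zero _).symm)
    obtain ⟨k, hk : k • _ = a⟩ := h B this
    apply hi
    rw [← hk, map_zsmul, AddEquiv.apply_symm_apply, ← map_zsmul, DirectSum.of_eq_of_ne _ _ _ hj.symm]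
  exact
    { toFun := fun x => x i
      invFun := DirectSum.of (fun j => ZMod (p j ^ e j)) i
      left_inv := fun x => DFinsupp.ext fun j => by
        rcases eq_or_ne j i with rfl | hj
        · simp
        · exact (key j hj _).trans (key j hj (x j)).symm
      right_inv := fun y => by simp
      map_add' := fun x y => DFinsupp.add_apply x y i }

end Groth.Agent.S13361
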