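import Groth.Statements.S13362
import Mathlib.Order.Bounds.Defs
import Mathlib.Tactic
import Mathlib.LinearAlgebra.Dual.Lemmas
import Mathlib.LinearAlgebra.BilinearForm.Properties
import Mathlib.RepresentationTheory.Invariants
import Mathlib.LinearAlgebra.Matrix.GeneralLinearGroup.Defs
import Mathlib.GroupTheory.FiniteAbelian.Basic
import Mathlib.Topology.Algebra.ClopenNhdofOne

set_option autoImplicit false
universe u
open ProCompl

namespace Groth.Agent.S13362

/-- An abelian group of finite exponent having a nonzero element contained in every nonzero subgroup is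
finite. -/
theorem result {A : Type u} [AddCommGroup A]
    (hA : AddMonoid.exponent A ≠ 0) (a : A) (ha : a ≠ 0) (h : ∀ B : AddSubgroup A, B ≠ ⊥ → a ∈ B) :
    Finite A := by
  have hmul : (AddSubgroup.zmultiples a : Set A).Finite := by
    have : IsOfFinAddOrder a := AddMonoid.ExponentExists.isOfFinAddOrder (AddMonoid.exponent_ne_zero.1 hA)
    exact this.finite_zmultiples
  have hprime : ∀ q : ℕ, q.Prime → {x : A | q • x = 0}.Finite := by
    intro q hq
    refine (hmul.insert 0).subset fun x (hx : q • x = 0) => ?_
    rcases eq_or_ne x 0 with rfl | hx0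
    · exact Set.mem_insert _ _
    right
    have hne : AddSubgroup.zmultiples x ≠ ⊥ := by simpa using hx0
    obtain ⟨k, hk : k • x = a⟩ := h _ hne
    have hcop : IsCoprime k (q : ℤ) := by
      rw [Int.isCoprime_iff_gcd_eq_one]
      by_contra hg
      have : (q : ℤ) ∣ k := by
        have h2 : Int.gcd k q ∣ q := Int.natCast_dvd_natCast.1 (Int.gcd_dvd_right k q)
        rcases (Nat.dvd_prime hq).1 h2 with h3 | h3
        · exact absurd h3 hg
        · rw [← h3]; exact Int.gcd_dvd_left k q
      obtain ⟨c, rfl⟩ := this
      apply ha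
      rw [← hk, mul_comm, mul_smul, natCast_zsmul, hx, smul_zero]
    obtain ⟨c, d, hcd⟩ := hcop
    refine ⟨c, ?_⟩
    show c • a = x
    calc c • a = (c * k) • x := by rw [← hk, mul_smul]
      _ = (c * k + d * (q : ℤ)) • x := by rw [add_smul, mul_smul d, natCast_zsmul, hx, smul_zero, add_zero]
      _ = x := by rw [hcd, one_smul]
  have hall : ∀ n : ℕ, n ≠ 0 → {x : A | n • x = 0}.Finite := by
    intro n
    induction n using Nat.recOnMul with
    | zero => simp
    | one => intro _; simp
    | prime q hq => intro _; exact hprime q hq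
    | mul x y ihx ihy =>
      intro hn
      rw [mul_ne_zero_iff] at hn
      specialize ihx hn.1; specialize ihy hn.2
      have : {z : A | (x * y) • z = 0} = (fun z => y • z) ⁻¹' {w | x • w = 0} := by
        ext z; simp [mul_smul]
      rw [this]
      refine ihx.preimage' fun w _ => ?_
      by_cases hw : ∃ z₀, y • z₀ = w
      · obtain ⟨z₀, hz₀⟩ := hw
        refine (ihy.image (fun z => z₀ + z)).subset fun z (hz : y • z = w) => ⟨z - z₀, ?_, by abel⟩
        simp [smul_sub, hz, hz₀]
      · exact Set.Subsingleton.finite fun z hz => absurd ⟨z, hz⟩ hw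
  have := hall _ hA
  rw [show {x : A | AddMonoid.exponent A • x = 0} = Set.univ from
    Set.eq_univ_of_forall AddMonoid.exponent_nsmul_eq_zero] at this
  exact Set.finite_univ_iff.1 this

end Groth.Agent.S13362
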