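import Groth.Statements.S13363
import Mathlib.Order.Bounds.Defs
import Mathlib.Tactic
import Mathlib.LinearAlgebra.Dual.Lemmas
import Mathlib.LinearAlgebra.BilinearForm.Properties
import Mathlib.RepresentationTheory.Invariants
import Mathlib.LinearAlgebra.Matrix.GeneralLinearGroup.Defs
import Mathlib.GroupTheory.FiniteAbelian.Basic
import Mathlib.Topology.Algebra.ClopenNhdofOne
import Groth.Agent.S13362

set_option autoImplicit false
universe u
open ProCompl

namespace Groth.Agent.S13363

/-- Let A be a topological abelian group such that the subgroup n·A is open for each n > 0, and a ∈ A.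
Then A has an open subgroup of finite index not containing a if and only if a does not lie in the
subgroup of divisible elements ∩_n nA. -/
theorem result {A : Type u} [AddCommGroup A]
    [TopologicalSpace A] [IsTopologicalAddGroup A]
    (hn : ∀ n : ℕ, 0 < n → IsOpen (Set.range (fun x : A => n • x))) (a : A) :
    (∃ B : AddSubgroup A, IsOpen (B : Set A) ∧ B.FiniteIndex ∧ a ∉ B) ↔
      ¬ (∀ n : ℕ, 0 < n → ∃ b : A, n • b = a) := by
  constructor
  · rintro ⟨B, -, hB, haB⟩ hdiv
    obtain ⟨b, hb⟩ := hdiv B.index (Nat.pos_of_ne_zero hB.index_ne_zero)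
    exact haB (hb ▸ B.nsmul_index_mem b)
  · intro hdiv
    push Not at hdiv
    obtain ⟨n, hn0, hna⟩ := hdiv
    let N : AddSubgroup A := (nsmulAddMonoidHom n).range
    obtain ⟨B, hNB, hB⟩ := zorn_le_nonempty₀ {B : AddSubgroup A | N ≤ B ∧ a ∉ B}
      (fun c hc hchain y hy => by
        refine ⟨sSup c, ⟨(hc hy).1.trans (le_sSup hy), ?_⟩, fun z hz => le_sSup hz⟩
        intro hmem
        obtain ⟨z, hz, hza⟩ := (AddSubgroup.mem_sSup_of_directedOn ⟨y, hy⟩ hchain.directedOn).1 hmem
        exact (hc hz).2 hza)
      N ⟨le_rfl, fun ⟨b, hb⟩ => hna b hb⟩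
    refine ⟨B, AddSubgroup.isOpen_mono hNB (hn n hn0), ?_, hB.1.2⟩
    have : Finite (A ⧸ B) := by
      have hexp : AddMonoid.exponent (A ⧸ B) ≠ 0 := by
        apply AddMonoid.exponent_ne_zero.2
        refine ⟨n, hn0, fun x => ?_⟩
        induction x using QuotientAddGroup.induction_on with
        | H z => exact (QuotientAddGroup.eq_zero_iff _).2 (hNB ⟨z, rfl⟩)
      refine Groth.Agent.S13362.result hexp (a : A ⧸ B) (fun h0 => hB.1.2 ((QuotientAddGroup.eq_zero_iff a).1 h0)) ?_
      intro C hC
      by_contra haC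
      have h1 : B ≤ C.comap (QuotientAddGroup.mk' B) := fun x hx => by
        simp [(QuotientAddGroup.eq_zero_iff x).2 hx]
      have h2 := hB.2 ⟨hNB.trans h1, haC⟩ h1
      apply hC
      rw [eq_bot_iff]
      intro x hx
      induction x using QuotientAddGroup.induction_on with
      | H z => exact (QuotientAddGroup.eq_zero_iff z).2 (h2 hx)
    exact AddSubgroup.finiteIndex_of_finite_quotient

end Groth.Agent.S13363
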