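import Groth.Statements.S13364
import Mathlib.Order.Bounds.Defs
import Mathlib.Tactic
import Mathlib.LinearAlgebra.Dual.Lemmas
import Mathlib.LinearAlgebra.BilinearForm.Properties
import Mathlib.RepresentationTheory.Invariants
import Mathlib.LinearAlgebra.Matrix.GeneralLinearGroup.Defs
import Mathlib.GroupTheory.FiniteAbelian.Basic
import Mathlib.Topology.Algebra.ClopenNhdofOne

set_option autoImplicit false
universe u
open ProCompl

namespace Groth.Agent.S13364

/-- In a short exact sequence 0 → A' → A → A'' → 0 of abelian groups, if neither A' nor A'' has a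
nonzero divisible element (an element of nA for every n > 0) and the torsion elements of A'' are
killed by one positive integer, then A has no nonzero divisible element. -/
theorem result {A' A A'' : Type u} [AddCommGroup A'] [AddCommGroup A]
    [AddCommGroup A''] (f : A' →+ A) (g : A →+ A'') (hf : Function.Injective f) (hg : Function.Surjective g)
    (hfg : g.ker = f.range)
    (h' : ∀ x : A', (∀ n : ℕ, 0 < n → ∃ y : A', n • y = x) → x = 0)
    (h'' : ∀ x : A'', (∀ n : ℕ, 0 < n → ∃ y : A'', n • y = x) → x = 0)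
    (htors : ∃ N : ℕ, 0 < N ∧ ∀ x : A'', IsOfFinAddOrder x → N • x = 0)
    (x : A) (hx : ∀ n : ℕ, 0 < n → ∃ y : A, n • y = x) : x = 0 := by
  obtain ⟨N, hN0, hN⟩ := htors
  have hgx : g x = 0 := h'' _ fun n hn => by
    obtain ⟨y, hy⟩ := hx n hn; exact ⟨g y, by rw [← map_nsmul, hy]⟩
  obtain ⟨x', rfl⟩ : x ∈ f.range := hfg ▸ hgx
  rw [h' x', map_zero]
  intro n hn
  obtain ⟨y, hy⟩ := hx (n * N) (by positivity)
  have : IsOfFinAddOrder (g y) := by
    rw [isOfFinAddOrder_iff_nsmul_eq_zero]
    exact ⟨n * N, by positivity, by rw [← map_nsmul, hy, hgx]⟩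
  obtain ⟨z, hz⟩ : N • y ∈ f.range := hfg ▸ (show g (N • y) = 0 by rw [map_nsmul]; exact hN _ this)
  exact ⟨z, hf (by rw [map_nsmul, hz, smul_smul, hy])⟩

end Groth.Agent.S13364
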