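import Groth.Statements.S13365
import Mathlib.Order.Bounds.Defs
import Mathlib.Tactic
import Mathlib.LinearAlgebra.Dual.Lemmas
import Mathlib.LinearAlgebra.BilinearForm.Properties
import Mathlib.RepresentationTheory.Invariants
import Mathlib.LinearAlgebra.Matrix.GeneralLinearGroup.Defs
import Mathlib.GroupTheory.FiniteAbelian.Basic
import Mathlib.Topology.Algebra.ClopenNhdofOne

set_option autoImplicit false
universe u
open ProCompl

namespace Groth.Agent.S13365

/-- The quotient of a profinite (compact, Hausdorff, totally disconnected) abelian topological group by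
a compact subgroup is profinite. -/
theorem result {A : Type u} [AddCommGroup A] [TopologicalSpace A]
    [IsTopologicalAddGroup A] [CompactSpace A] [T2Space A] [TotallyDisconnectedSpace A]
    (B : AddSubgroup A) (hB : IsCompact (B : Set A)) :
    CompactSpace (A ⧸ B) ∧ T2Space (A ⧸ B) ∧ TotallyDisconnectedSpace (A ⧸ B) := by
  have : IsClosed (B : Set A) := hB.isClosed
  have hT2 : T2Space (A ⧸ B) := inferInstance
  refine ⟨inferInstance, hT2, ?_⟩
  have : TotallySeparatedSpace (A ⧸ B) := by
    rw [totallySeparatedSpace_iff_exists_isClopen]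
    intro x y hxy
    obtain ⟨a, rfl⟩ := QuotientAddGroup.mk_surjective x
    obtain ⟨b, rfl⟩ := QuotientAddGroup.mk_surjective y
    have hab : -a + b ∉ B := fun h => hxy (QuotientAddGroup.eq.2 h)
    have key := ProfiniteGrp.closedAddSubgroup_eq_sInf_open (⟨B, this⟩ : ClosedAddSubgroup A)
    obtain ⟨N, ⟨hNo, hBN⟩, hN⟩ : ∃ N : AddSubgroup A, (IsOpen (N : Set A) ∧ B ≤ N) ∧ -a + b ∉ N := by
      by_contra hc
      push Not at hc
      apply hab
      have : -a + b ∈ sInf {N : AddSubgroup A | IsOpen (N : Set A) ∧ B ≤ N} := by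
        rw [AddSubgroup.mem_sInf]; exact hc
      rw [← key] at this
      exact this
    let M : AddSubgroup (A ⧸ B) := N.map (QuotientAddGroup.mk' B)
    have hMo : IsOpen (M : Set (A ⧸ B)) := QuotientAddGroup.isOpenMap_coe _ hNo
    refine ⟨(fun z => z - (a : A ⧸ B)) ⁻¹' (M : Set (A ⧸ B)),
      IsClopen.preimage ⟨M.isClosed_of_isOpen hMo, hMo⟩ (continuous_id.sub continuous_const),
      by simp, ?_⟩
    rintro ⟨z, hz, hz'⟩
    apply hN
    have : (z : A ⧸ B) = ((b - a : A) : A ⧸ B) := by simpa using hz'
    rw [QuotientAddGroup.eq] at this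
    have h2 := N.add_mem hz (hBN this)
    rwa [add_neg_cancel_left, sub_eq_neg_add] at h2
  exact TotallySeparatedSpace.totallyDisconnectedSpace _

end Groth.Agent.S13365
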