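import Groth.Statements.S13368
import Mathlib.RingTheory.DiscreteValuationRing.Basic
import Mathlib.RingTheory.Kaehler.Basic
import Mathlib.Algebra.CharP.Lemmas
import Mathlib.Algebra.CharP.Algebra
import Mathlib.LinearAlgebra.Dimension.Finite
import Mathlib.LinearAlgebra.FiniteDimensional.Lemmas
import Mathlib.LinearAlgebra.FiniteDimensional.Basic
import Mathlib.Tactic.LinearCombination
-- import your own Groth.Agent.* helpers here

set_option autoImplicit false
universe u
open GaDual

namespace Groth.Agent.S13368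

/-- If `s ^ p` divides `Σ πⁱ aᵢᵖ` with `i < p`, then `s` divides every `aᵢ`. -/
theorem pi_dvd {p : ℕ} {R : Type u} [CommRing R] [IsDomain R] {π : R} (hπ : Prime π)
    (a : Fin p → R) (h : π ^ p ∣ ∑ i : Fin p, π ^ (i : ℕ) * a i ^ p) : ∀ i, π ∣ a i := by
  classical
  by_contra hne
  push Not at hne
  obtain ⟨i, hi, hmin⟩ : ∃ i : Fin p, ¬ π ∣ a i ∧ ∀ j, j < i → π ∣ a j := by
    obtain ⟨i, hi, hmin⟩ := (Finset.univ.filter fun i : Fin p => ¬ π ∣ a i).exists_min_image id
      (by obtain ⟨i, hi⟩ := hne; exact ⟨i, Finset.mem_filter.mpr ⟨Finset.mem_univ i, hi⟩⟩)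
    refine ⟨i, (Finset.mem_filter.mp hi).2, fun j hj => by_contra fun hjn => ?_⟩
    exact absurd (hmin j (Finset.mem_filter.mpr ⟨Finset.mem_univ j, hjn⟩)) (not_le.mpr hj)
  have hlt : (i : ℕ) + 1 ≤ p := i.2
  have hrest : π ^ ((i : ℕ) + 1) ∣ ∑ j ∈ Finset.univ.erase i, π ^ (j : ℕ) * a j ^ p := by
    refine Finset.dvd_sum fun j hj => ?_
    rcases lt_trichotomy j i with hji | hji | hji
    · obtain ⟨c, hc⟩ := hmin j hji
      rw [hc, mul_pow]
      exact ((pow_dvd_pow π hlt).mul_right _).mul_left _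
    · exact absurd hji (Finset.ne_of_mem_erase hj)
    · exact (pow_dvd_pow π (show (i : ℕ) + 1 ≤ (j : ℕ) from hji)).mul_right _
  have hall := (pow_dvd_pow π hlt).trans h
  rw [← Finset.add_sum_erase _ _ (Finset.mem_univ i)] at hall
  have hi2 := (dvd_add_left hrest).mp hall
  rw [pow_succ] at hi2
  exact hi (hπ.dvd_of_dvd_pow ((mul_dvd_mul_iff_left (pow_ne_zero _ hπ.ne_zero)).mp hi2))

theorem pi_pow_dvd {p : ℕ} {R : Type u} [CommRing R] [IsDomain R] {π : R} (hπ : Prime π) :
    ∀ (m : ℕ) (a : Fin p → R), (π ^ m) ^ p ∣ ∑ i : Fin p, π ^ (i : ℕ) * a i ^ p →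
      ∀ i, π ^ m ∣ a i := by
  intro m
  induction m with
  | zero => intro a _ i; simp
  | succ m ih =>
    intro a h
    have h1 : ∀ i, π ∣ a i := pi_dvd hπ a
      ((pow_dvd_pow_of_dvd (dvd_pow_self π (Nat.succ_ne_zero m)) p).trans h)
    choose c hc using h1
    have h2 : ∑ i : Fin p, π ^ (i : ℕ) * a i ^ p = π ^ p * ∑ i : Fin p, π ^ (i : ℕ) * c i ^ p := by
      rw [Finset.mul_sum]
      exact Finset.sum_congr rfl fun i _ => by rw [hc i, mul_pow]; ring
    rw [h2, pow_succ', mul_pow, mul_dvd_mul_iff_left (pow_ne_zero _ hπ.ne_zero)] at h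
    intro i
    rw [hc i, pow_succ']
    exact mul_dvd_mul_left π (ih c h i)

theorem sum_eq_zero {p : ℕ} (hp : p ≠ 0) {R : Type u} [CommRing R] [IsDomain R]
    [IsDiscreteValuationRing R] {π : R} (hπ : Irreducible π) (a : Fin p → R)
    (h : ∑ i : Fin p, π ^ (i : ℕ) * a i ^ p = 0) : ∀ i, a i = 0 := by
  intro i
  by_contra hne
  obtain ⟨n, u, hu⟩ := IsDiscreteValuationRing.eq_unit_mul_pow_irreducible hne hπ
  have hd := pi_pow_dvd hπ.prime (n + 1) a (by rw [h]; exact dvd_zero _) i
  rw [hu, pow_succ, mul_comm (u : R)] at hd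
  exact hπ.not_isUnit (isUnit_of_dvd_unit ((mul_dvd_mul_iff_left (pow_ne_zero _ hπ.ne_zero)).mp hd) u.isUnit)

/-- Let R be a discrete valuation ring of prime characteristic p whose fraction field k has degree p
over its subfield k^p of p-th powers, and π a uniformizer. Then every element of R is, in a unique
way, a sum of π^i c_i^p over 0 ≤ i < p with c_i in R, and the Kähler differentials of R (absolute,
i.e. over the integers, equivalently over the prime field) form a free module of rank one generated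
by dπ. -/
theorem result (p : ℕ) [Fact p.Prime] {R : Type u} [CommRing R]
    [IsDomain R] [IsDiscreteValuationRing R] [CharP R p]
    (kp : Subfield (FractionRing R)) (hkp : ∀ x : FractionRing R, x ∈ kp ↔ ∃ y : FractionRing R, y ^ p = x)
    (hdeg : Module.finrank kp (FractionRing R) = p)
    (π : R) (hπ : Irreducible π) :
    (∀ r : R, ∃! c : Fin p → R, r = ∑ i : Fin p, π ^ (i : ℕ) * c i ^ p) ∧
      Function.Bijective (fun r : R => r • KaehlerDifferential.D ℤ R π) := by
  classical
  have hp : p.Prime := Fact.out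
  haveI : NeZero p := ⟨hp.ne_zero⟩
  let K := FractionRing R
  haveI : CharP K p := charP_of_injective_algebraMap (IsFractionRing.injective R K) p
  haveI : ExpChar K p := ExpChar.prime hp
  haveI : ExpChar R p := ExpChar.prime hp
  have hint : ∀ (s : R), s ≠ 0 → ∀ a : Fin p → R,
      s ^ p ∣ ∑ i : Fin p, π ^ (i : ℕ) * a i ^ p → ∀ i, s ∣ a i := by
    intro s hs a h i
    obtain ⟨n, u, rfl⟩ := IsDiscreteValuationRing.eq_unit_mul_pow_irreducible hs hπ
    rw [mul_pow] at h
    exact Units.mul_left_dvd.mpr (pi_pow_dvd hπ.prime n a (dvd_of_mul_left_dvd h) i)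
  -- linear independence over `kp`
  let v : Fin p → K := fun i => algebraMap R K π ^ (i : ℕ)
  have hclear : ∀ y : Fin p → K, ∃ (s : R) (a : Fin p → R), s ≠ 0 ∧
      ∀ i, algebraMap R K s * y i = algebraMap R K (a i) := by
    intro y
    obtain ⟨s, hs⟩ := IsLocalization.exist_integer_multiples_of_finite (nonZeroDivisors R) y
    choose a ha using hs
    exact ⟨s, a, nonZeroDivisors.coe_ne_zero s, fun i => by
      rw [ha i, Algebra.smul_def]⟩
  have hli : LinearIndependent kp v := by
    rw [Fintype.linearIndependent_iff]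
    intro g hg i
    choose y hy using fun j => (hkp (g j : K)).mp (g j).2
    obtain ⟨s, a, hs, ha⟩ := hclear y
    have h0 : ∑ j : Fin p, π ^ (j : ℕ) * (a j) ^ p = 0 := by
      apply IsFractionRing.injective R K
      rw [map_sum, map_zero]
      calc ∑ j : Fin p, algebraMap R K (π ^ (j : ℕ) * a j ^ p)
          = ∑ j : Fin p, algebraMap R K s ^ p * (g j • v j) :=
            Finset.sum_congr rfl fun j _ => by
              rw [map_mul, map_pow, map_pow, ← ha, mul_pow, hy]
              show _ = _ * ((g j : K) * v j)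
              ring
        _ = 0 := by rw [← Finset.mul_sum, hg, mul_zero]
    have hai := sum_eq_zero hp.ne_zero hπ a h0 i
    have h1 := ha i
    rw [hai, map_zero, mul_eq_zero] at h1
    have hy0 : y i = 0 := h1.resolve_left fun e => hs (IsFractionRing.injective R K (by rw [e, map_zero]))
    apply Subtype.ext
    rw [← hy i, hy0, zero_pow hp.ne_zero]
    rfl
  let B := basisOfLinearIndependentOfCardEqFinrank hli (by rw [Fintype.card_fin, hdeg])
  have hex : ∀ r : R, ∃ c : Fin p → R, r = ∑ i : Fin p, π ^ (i : ℕ) * c i ^ p := by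
    intro r
    choose y hy using fun j => (hkp (B.repr (algebraMap R K r) j : K)).mp (B.repr (algebraMap R K r) j).2
    obtain ⟨s, a, hs, ha⟩ := hclear y
    have h1 : s ^ p * r = ∑ j : Fin p, π ^ (j : ℕ) * a j ^ p := by
      apply IsFractionRing.injective R K
      rw [map_sum, map_mul, map_pow]
      conv_lhs => rw [← B.sum_repr (algebraMap R K r), Finset.mul_sum]
      refine Finset.sum_congr rfl fun j _ => ?_
      rw [map_mul, map_pow, map_pow, ← ha, mul_pow, hy, coe_basisOfLinearIndependentOfCardEqFinrank]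
      show _ * ((B.repr (algebraMap R K r) j : K) * v j) = _
      ring
    choose c hc using hint s hs a ⟨r, h1.symm⟩
    refine ⟨c, mul_left_cancel₀ (pow_ne_zero p hs) ?_⟩
    rw [h1, Finset.mul_sum]
    exact Finset.sum_congr rfl fun j _ => by rw [hc j, mul_pow]; ring
  have huniq : ∀ c d : Fin p → R,
      ∑ i : Fin p, π ^ (i : ℕ) * c i ^ p = ∑ i : Fin p, π ^ (i : ℕ) * d i ^ p → c = d := by
    intro c d h
    funext i
    refine sub_eq_zero.mp (sum_eq_zero hp.ne_zero hπ (fun j => c j - d j) ?_ i)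
    simp only [sub_pow_expChar, mul_sub, Finset.sum_sub_distrib, h, sub_self]
  refine ⟨fun r => ?_, ?_⟩
  · obtain ⟨c, hc⟩ := hex r
    exact ⟨c, hc, fun d hd => huniq d c (hd.symm.trans hc)⟩
  choose co hco using hex
  have hcoadd : ∀ x y, co (x + y) = co x + co y := by
    intro x y
    apply huniq
    rw [← hco]
    simp only [Pi.add_apply, add_pow_expChar, mul_add, Finset.sum_add_distrib, ← hco]
  -- the Euler operator and the derivation
  let δ : R →+ R := AddMonoidHom.mk' (fun r => ∑ i : Fin p, ((i : ℕ) : R) * π ^ ((i : ℕ) - 1) * co r i ^ p)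
    (fun x y => by simp only [hcoadd, Pi.add_apply, add_pow_expChar, mul_add, Finset.sum_add_distrib])
  have hθ : ∀ (n : ℕ) (c : R), π * δ (c ^ p * π ^ n) = (n : R) * (c ^ p * π ^ n) := by
    intro n c
    have hnp : n % p < p := Nat.mod_lt _ hp.pos
    have hcoe : co (c ^ p * π ^ n) = Pi.single ⟨n % p, hnp⟩ (c * π ^ (n / p)) := by
      apply huniq
      rw [← hco, Finset.sum_eq_single (⟨n % p, hnp⟩ : Fin p)]
      · rw [Pi.single_eq_same, mul_pow, ← pow_mul]
        conv_lhs => rw [← Nat.div_add_mod n p, pow_add, mul_comm p (n / p)]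
        ring
      · intro j _ hj; rw [Pi.single_eq_of_ne hj, zero_pow hp.ne_zero, mul_zero]
      · intro h; exact absurd (Finset.mem_univ _) h
    show π * ∑ i : Fin p, _ = _
    rw [hcoe, Finset.sum_eq_single (⟨n % p, hnp⟩ : Fin p)]
    · rw [Pi.single_eq_same]
      have hn : (n : R) = ((n % p : ℕ) : R) := (CharP.natCast_eq_natCast R p).mpr (Nat.mod_modEq n p).symm
      rcases Nat.eq_zero_or_pos (n % p) with h0 | h0
      · simp [hn, h0]
      · obtain ⟨q, hq⟩ : ∃ q, n % p = q + 1 := ⟨n % p - 1, by omega⟩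
        have hπn : π ^ n = π ^ (q + 1) * (π ^ (n / p)) ^ p := by
          rw [← pow_mul, ← pow_add, ← hq, mul_comm, Nat.mod_add_div]
        rw [hn, hπn]
        simp only [hq, Nat.add_sub_cancel]
        ring
    · intro j _ hj; rw [Pi.single_eq_of_ne hj, zero_pow hp.ne_zero, mul_zero]
    · intro h; exact absurd (Finset.mem_univ _) h
  have hmono : ∀ (i j : ℕ) (c d : R), δ (π ^ i * c ^ p * (π ^ j * d ^ p)) =
      (π ^ i * c ^ p) • δ (π ^ j * d ^ p) + (π ^ j * d ^ p) • δ (π ^ i * c ^ p) := by
    intro i j c d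
    apply mul_left_cancel₀ hπ.ne_zero
    have h1 := hθ (i + j) (c * d)
    have h2 := hθ i c
    have h3 := hθ j d
    rw [mul_comm (c ^ p)] at h2
    rw [mul_comm (d ^ p)] at h3
    rw [Nat.cast_add, mul_pow, pow_add] at h1
    rw [show π ^ i * c ^ p * (π ^ j * d ^ p) = c ^ p * d ^ p * (π ^ i * π ^ j) by ring, h1,
      smul_eq_mul, smul_eq_mul]
    linear_combination (-(π ^ i * c ^ p)) * h3 - (π ^ j * d ^ p) * h2
  have hleib1 : ∀ (i : ℕ) (c : R) (y : R), δ (π ^ i * c ^ p * y) =
      (π ^ i * c ^ p) • δ y + y • δ (π ^ i * c ^ p) := by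
    intro i c y
    rw [hco y]
    simp only [Finset.mul_sum, map_sum, Finset.smul_sum, Finset.sum_smul, ← Finset.sum_add_distrib]
    exact Finset.sum_congr rfl fun j _ => hmono i j c _
  have hleib : ∀ x y, δ (x * y) = x • δ y + y • δ x := by
    intro x y
    rw [hco x]
    simp only [Finset.sum_mul, map_sum, Finset.smul_sum, Finset.sum_smul, ← Finset.sum_add_distrib]
    exact Finset.sum_congr rfl fun i _ => hleib1 i _ y
  let Dd : Derivation ℤ R R := Derivation.mk' δ.toIntLinearMap hleib
  have hδπ : δ π = 1 := by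
    apply mul_left_cancel₀ hπ.ne_zero
    have := hθ 1 1
    simpa using this
  refine ⟨?_, ?_⟩
  · intro r r' h
    have h2 := congrArg Dd.liftKaehlerDifferential h
    simp only [map_smul, Derivation.liftKaehlerDifferential_comp_D, smul_eq_mul] at h2
    have e : Dd π = 1 := hδπ
    rwa [e, mul_one, mul_one] at h2
  · intro ω
    have hmem : ω ∈ LinearMap.range (LinearMap.toSpanSingleton R (KaehlerDifferential ℤ R) (KaehlerDifferential.D ℤ R π)) := by
      have hspan : ω ∈ Submodule.span R (Set.range (KaehlerDifferential.D ℤ R)) := by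
        rw [KaehlerDifferential.span_range_derivation]; exact Submodule.mem_top
      refine (Submodule.span_le.mpr ?_) hspan
      rintro _ ⟨r, rfl⟩
      rw [hco r, map_sum]
      refine Submodule.sum_mem _ fun i _ => ?_
      have hpz : KaehlerDifferential.D ℤ R (co r i ^ p) = 0 := by
        rw [Derivation.leibniz_pow, ← Nat.cast_smul_eq_nsmul R p, CharP.cast_eq_zero R p, zero_smul]
      refine ⟨co r i ^ p * (((i : ℕ) : R) * π ^ ((i : ℕ) - 1)), ?_⟩
      rw [LinearMap.toSpanSingleton_apply, Derivation.leibniz, hpz, smul_zero, zero_add,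
        Derivation.leibniz_pow, ← Nat.cast_smul_eq_nsmul R (i : ℕ), smul_smul, smul_smul, mul_assoc]
    obtain ⟨r, hr⟩ := hmem
    exact ⟨r, hr⟩
end Groth.Agent.S13368
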