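import Groth.Statements.S13369
import Groth.Agent.Lib.PBasis.Field
import Mathlib.RingTheory.IntegralClosure.IntegrallyClosed

set_option autoImplicit false
universe u
open GaDual

namespace Groth.Agent.S13369

/-- For a normal Noetherian domain A of prime characteristic p, an element whose differential vanishes
in the absolute Kähler differentials of A is a p-th power; that is, the sequence F : A → A, d : A →
Ω_A (F the Frobenius) is exact at the middle term. (The published statement is for normal locally
Noetherian schemes of characteristic p; this row is the case of the spectrum of a normal Noetherian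
domain.) -/
theorem result (p : ℕ) [Fact p.Prime] {A : Type u} [CommRing A] [IsDomain A]
    [IsNoetherianRing A] [IsIntegrallyClosed A] [CharP A p] (s : A) (hs : KaehlerDifferential.D ℤ A s = 0) :
    ∃ f : A, f ^ p = s := by

  let K := FractionRing A
  haveI : CharP K p := charP_of_injective_algebraMap (IsFractionRing.injective A K) p
  let L : Subfield K := (frobenius K p).fieldRange
  have hL : ∀ x : K, x ^ p ∈ L := fun x => ⟨x, rfl⟩
  have hs' : algebraMap A K s ∈ L := by
    by_contra hnot
    obtain ⟨d, hd⟩ := Groth.Agent.KaehlerSubfield.exists_derivation p L hL hnot
    let dA : Derivation ℤ A K :=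
      Derivation.mk' (d.toLinearMap.toAddMonoidHom.comp (algebraMap A K).toAddMonoidHom).toIntLinearMap
        (fun a b => by
          show d (algebraMap A K (a * b)) = _
          rw [map_mul, Derivation.leibniz]
          simp [Algebra.smul_def])
    have h1 : dA s = 1 := hd
    rw [← Derivation.liftKaehlerDifferential_comp_D dA s, hs, map_zero] at h1
    exact zero_ne_one h1
  obtain ⟨y, hy⟩ := hs'
  have hy' : y ^ p = algebraMap A K s := hy
  have hint : IsIntegral A y :=
    IsIntegral.of_pow (Fact.out : p.Prime).pos (by rw [hy']; exact isIntegral_algebraMap)
  obtain ⟨f, rfl⟩ := IsIntegrallyClosed.isIntegral_iff.mp hint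
  exact ⟨f, IsFractionRing.injective A K (by rw [map_pow, hy'])⟩


end Groth.Agent.S13369
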