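import Groth.Statements.S13371
import Groth.Agent.Lib.GaDual.AffineUnits
import Mathlib.LinearAlgebra.SymmetricAlgebra.Basic

set_option autoImplicit false
universe u
open GaDual

namespace Groth.Agent.S13371

open CategoryTheory AlgebraicGeometry MonObj CartesianMonoidalCategory in
/-- If S is a reduced scheme, every homomorphism of S-group schemes from the additive group to the
multiplicative group over S is the trivial homomorphism. -/
theorem result (S : Scheme.{u}) [IsReduced S] (φ : Red.Ga S ⟶ Red.Gm S)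
    [IsMonHom φ] : φ = 1 := by
  let R0 := ULift.{u} ℤ
  let a : SymmetricAlgebra R0 R0 →ₐ[R0] MvPolynomial PUnit.{u+1} R0 :=
    SymmetricAlgebra.lift (LinearMap.toSpanSingleton R0 _ (MvPolynomial.X PUnit.unit))
  let b : MvPolynomial PUnit.{u+1} R0 →ₐ[R0] SymmetricAlgebra R0 R0 :=
    MvPolynomial.aeval fun _ => SymmetricAlgebra.ι R0 R0 1
  have hba : b.comp a = AlgHom.id R0 _ := by
    refine SymmetricAlgebra.algHom_ext (LinearMap.ext_ring ?_)
    simp [a, b]
  let θ : 𝔸(PUnit.{u+1}; S) ⟶ (Red.Ga S).left :=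
    Limits.pullback.lift (AffineSpace.toSpecMvPoly _ S ≫ Spec.map (CommRingCat.ofHom a.toRingHom))
      (𝔸(PUnit.{u+1}; S) ↘ S) (specULiftZIsTerminal.hom_ext _ _)
  let ψ : (Red.Ga S).left ⟶ 𝔸(PUnit.{u+1}; S) :=
    Limits.pullback.lift (Limits.pullback.snd _ _)
      (Limits.pullback.fst _ _ ≫ Spec.map (CommRingCat.ofHom b.toRingHom)) (Limits.terminalIsTerminal.hom_ext _ _)
  have hψ : ψ ≫ 𝔸(PUnit.{u+1}; S) ↘ S = (Red.Ga S).hom := Limits.pullback.lift_fst _ _ _
  have hθψ : ψ ≫ θ = 𝟙 _ := by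
    refine Limits.pullback.hom_ext ?_ ?_
    · rw [Category.assoc, Limits.pullback.lift_fst, Category.id_comp]
      refine (Category.assoc _ _ _).symm.trans ((congrArg (· ≫ _) (Limits.pullback.lift_snd _ _ _)).trans
        ((Category.assoc _ _ _).trans ?_))
      exact (congrArg (_ ≫ ·) ((Spec.map_comp _ _).symm.trans ((congrArg Spec.map
        (CommRingCat.hom_ext (congrArg AlgHom.toRingHom hba))).trans (Spec.map_id _)))).trans
        (Category.comp_id _)
    · rw [Category.assoc, Limits.pullback.lift_snd, Category.id_comp]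
      exact hψ
  set e : Red.Ga S ⟶ Red.Ga S := toUnit (Red.Ga S) ≫ η[Red.Ga S] with he
  have hunits : ∀ w : Γ((Red.Ga S).left, ⊤), IsUnit w → e.left.appTop w = w := by
    intro w hw
    have h1 := Groth.Agent.GaDual.appTop_zeroSection_of_isUnit PUnit.{u+1} S (θ.appTop w)
      (hw.map θ.appTop.hom)
    have h2 : ψ.appTop (θ.appTop w) = w := by
      rw [← CommRingCat.comp_apply, ← Scheme.Hom.comp_appTop, hθψ]; simp
    rw [← h1, ← CommRingCat.comp_apply, ← Scheme.Hom.comp_appTop, hψ] at h2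
    rw [← h2, ← CommRingCat.comp_apply, ← Scheme.Hom.comp_appTop, Over.w e]
  have key : φ = e ≫ φ := by
    refine Over.OverMorphism.ext (Limits.pullback.hom_ext ?_ ?_)
    · have specExt : ∀ (R : CommRingCat.{u}) (f g : (Red.Ga S).left ⟶ Spec R),
          ((Scheme.ΓSpecIso R).inv ≫ f.appTop).hom = ((Scheme.ΓSpecIso R).inv ≫ g.appTop).hom → f = g :=
        fun R f g h => ext_of_isAffine ((cancel_epi (Scheme.ΓSpecIso R).inv).1 (CommRingCat.hom_ext h))
      refine specExt (CommRingCat.of (MonoidAlgebra (ULift.{u} ℤ) (Multiplicative ℤ))) _ _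
        (MonoidAlgebra.ringHom_ext (fun r => ?_) (fun m => ?_))
      · obtain ⟨r⟩ := r
        have hr : (MonoidAlgebra.single 1 (ULift.up r) : MonoidAlgebra (ULift.{u} ℤ) (Multiplicative ℤ)) = (r : MonoidAlgebra (ULift.{u} ℤ) (Multiplicative ℤ)) := by
          rw [MonoidAlgebra.intCast_def]; rfl
        rw [hr, map_intCast, map_intCast]
      · rw [Over.comp_left, Category.assoc]
        simp only [CommRingCat.hom_comp, RingHom.comp_apply]
        symm
        apply hunits
        refine IsUnit.map _ (IsUnit.map _ ?_)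
        exact isUnit_iff_exists_inv.mpr ⟨MonoidAlgebra.single m⁻¹ 1, by simp [MonoidAlgebra.one_def]⟩
    · exact (Over.w φ).trans (Over.w (e ≫ φ)).symm
  have h1 : η[Red.Ga S] ≫ φ = η[Red.Gm S] := ‹IsMonHom φ›.one_hom
  calc φ = e ≫ φ := key
    _ = toUnit (Red.Ga S) ≫ η[Red.Gm S] := by rw [he, Category.assoc, h1]
    _ = 1 := rfl

end Groth.Agent.S13371
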