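import Groth.Statements.S13374
import Groth.Agent.Lib.GaDual.Char

set_option autoImplicit false
universe u
open GaDual

namespace Groth.Agent.S13374

/-- Over a commutative algebra A of prime characteristic p, every character of the kernel α_(p^n) of the
n-th Frobenius of the additive group — i.e. every polynomial f of degree < p^n with f(0) = 1 and
f(X+Y) ≡ f(X)f(Y) modulo (X^(p^n), Y^(p^n)) — is the product ∏_{i<n} exp_p(a_i X^(p^i)) for some a_i
with a_i^p = 0, exp_p(Y) = Σ_{j<p} Y^j/j!. -/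
theorem result (p : ℕ) [Fact p.Prime] (A : Type u) [CommRing A] [CharP A p]
    (n : ℕ) (f : Polynomial A) (hdeg : f.natDegree < p ^ n) (h0 : f.eval 0 = 1)
    (hmul : Ideal.Quotient.mk
        (Ideal.span {(MvPolynomial.X 0 ^ p ^ n : MvPolynomial (Fin 2) A), MvPolynomial.X 1 ^ p ^ n})
        (Polynomial.aeval (MvPolynomial.X 0 + MvPolynomial.X 1 : MvPolynomial (Fin 2) A) f) =
      Ideal.Quotient.mk
        (Ideal.span {(MvPolynomial.X 0 ^ p ^ n : MvPolynomial (Fin 2) A), MvPolynomial.X 1 ^ p ^ n})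
        (Polynomial.aeval (MvPolynomial.X 0 : MvPolynomial (Fin 2) A) f *
          Polynomial.aeval (MvPolynomial.X 1 : MvPolynomial (Fin 2) A) f)) :
    ∃ a : ℕ → A, (∀ i, a i ^ p = 0) ∧
      f = ∏ i ∈ Finset.range n, ∑ j ∈ Finset.range p,
          Polynomial.C (Ring.inverse (j.factorial : A) * a i ^ j) * Polynomial.X ^ (j * p ^ i) := by
  rw [← Polynomial.coeff_zero_eq_eval_zero] at h0
  refine Groth.Agent.GaDual.eq_chrProd_of_rel p f n hdeg h0 fun i j hi hj => ?_
  have := Groth.Agent.GaDual.mem_span_pow_coeff (Ideal.Quotient.eq.1 hmul) i j hi hj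
  rw [MvPolynomial.coeff_sub, sub_eq_zero, Groth.Agent.GaDual.coeff_aeval_add,
    Groth.Agent.GaDual.coeff_aeval_mul] at this
  exact this

end Groth.Agent.S13374
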