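import Groth.Statements.S13375
import Mathlib

set_option autoImplicit false
universe u v
open CechDer

namespace Groth.Agent.S13375

open CategoryTheory CategoryTheory.Limits HomologicalComplex
open ZeroObject
set_option backward.isDefEq.respectTransparency false

noncomputable section
variable {V : Type u} [Category.{v} V] [Abelian V]

theorem extend_of_kills {X Y c I : V} [Injective I] (u₁ : X ⟶ c) (u₂ : Y ⟶ c) (t₁ : X ⟶ I) (t₂ : Y ⟶ I)
    (h : ∀ {T : V} (x : T ⟶ X) (y : T ⟶ Y), x ≫ u₁ + y ≫ u₂ = 0 →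
      ∃ (T' : V) (π : T' ⟶ T) (_ : Epi π), π ≫ x ≫ t₁ + π ≫ y ≫ t₂ = 0) :
    ∃ f : c ⟶ I, u₁ ≫ f = t₁ ∧ u₂ ≫ f = t₂ := by
  let u := biprod.desc u₁ u₂
  have hS : (ShortComplex.mk (kernel.ι u) u (kernel.condition u)).Exact :=
    ShortComplex.exact_of_f_is_kernel _ (kernelIsKernel u)
  have hk : kernel.ι u ≫ biprod.desc t₁ t₂ = 0 := by
    obtain ⟨T', π, hπ, e⟩ := h (kernel.ι u ≫ biprod.fst) (kernel.ι u ≫ biprod.snd) (by
      have := kernel.condition u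
      simpa only [u, biprod.desc_eq, Preadditive.comp_add, ← Category.assoc] using this)
    rw [← cancel_epi π, comp_zero, biprod.desc_eq, Preadditive.comp_add, Preadditive.comp_add]
    simpa only [Category.assoc] using e
  refine ⟨hS.descToInjective _ hk, ?_, ?_⟩
  · have := congrArg (biprod.inl ≫ ·) (hS.comp_descToInjective (biprod.desc t₁ t₂) hk)
    simpa [u] using this
  · have := congrArg (biprod.inr ≫ ·) (hS.comp_descToInjective (biprod.desc t₁ t₂) hk)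
    simpa [u] using this

/-- An augmented left exact row of complexes. -/
structure Row (V : Type u) [Category.{v} V] [Abelian V] where
  A : ℕ → V
  B : ℕ → V
  C : ℕ → V
  dA : ∀ n, A n ⟶ A (n + 1)
  dB : ∀ n, B n ⟶ B (n + 1)
  dC : ∀ n, C n ⟶ C (n + 1)
  ddA : ∀ n, dA n ≫ dA (n + 1) = 0
  ddB : ∀ n, dB n ≫ dB (n + 1) = 0
  ddC : ∀ n, dC n ≫ dC (n + 1) = 0
  exA : ∀ n, (ShortComplex.mk _ _ (ddA n)).Exact
  exB : ∀ n, (ShortComplex.mk _ _ (ddB n)).Exact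
  exC : ∀ n, (ShortComplex.mk _ _ (ddC n)).Exact
  j : ∀ n, A n ⟶ B n
  p : ∀ n, B n ⟶ C n
  jd : ∀ n, j n ≫ dB n = dA n ≫ j (n + 1)
  pd : ∀ n, p n ≫ dC n = dB n ≫ p (n + 1)
  mono_j : ∀ n, Mono (j n)
  jp : ∀ n, j n ≫ p n = 0
  exRow : ∀ n, (ShortComplex.mk _ _ (jp n)).Exact

variable (R S : Row V)

/-- Maps at one stage. -/
structure Tri (n : ℕ) where
  a : R.A n ⟶ S.A n
  b : R.B n ⟶ S.B n
  c : R.C n ⟶ S.C n
  hj : R.j n ≫ b = a ≫ S.j n
  hp : R.p n ≫ c = b ≫ S.p n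

def Compat {n : ℕ} (s : Tri R S n) (s' : Tri R S (n + 1)) : Prop :=
  R.dA n ≫ s'.a = s.a ≫ S.dA n ∧ R.dB n ≫ s'.b = s.b ≫ S.dB n ∧ R.dC n ≫ s'.c = s.c ≫ S.dC n

theorem exists_next (hA : ∀ n, Injective (S.A (n + 2))) (hB : ∀ n, Injective (S.B (n + 2)))
    (hC : ∀ n, Injective (S.C (n + 2))) (k : ℕ) (s : Tri R S k) (s' : Tri R S (k + 1)) (h : Compat R S s s') :
    ∃ s'' : Tri R S (k + 2), Compat R S s' s'' := by
  obtain ⟨hda, hdb, hdc⟩ := h
  haveI := hA k; haveI := hB k; haveI := hC k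
  have ka : R.dA k ≫ s'.a ≫ S.dA (k + 1) = 0 := by rw [reassoc_of% hda, S.ddA, comp_zero]
  let a : R.A (k + 2) ⟶ S.A (k + 2) := (R.exA k).descToInjective (s'.a ≫ S.dA (k + 1)) ka
  have ha : R.dA (k + 1) ≫ a = s'.a ≫ S.dA (k + 1) := (R.exA k).comp_descToInjective _ ka
  obtain ⟨b, hbj, hbd⟩ := extend_of_kills (R.j (k + 2)) (R.dB (k + 1)) (a ≫ S.j (k + 2)) (s'.b ≫ S.dB (k + 1)) (by
    intro T x y hxy
    have hxd : x ≫ R.dA (k + 2) = 0 := by
      haveI := R.mono_j (k + 2 + 1)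
      rw [← cancel_mono (R.j (k + 2 + 1)), zero_comp, Category.assoc, ← R.jd, ← Category.assoc,
        eq_neg_of_add_eq_zero_left hxy, Preadditive.neg_comp, Category.assoc, R.ddB, comp_zero, neg_zero]
    obtain ⟨T₁, π₁, _, x', hx'⟩ := (R.exA (k + 1)).exact_up_to_refinements x hxd
    change T₁ ⟶ R.A (k + 1) at x'
    change π₁ ≫ x = x' ≫ R.dA (k + 1) at hx'
    have hyd : (π₁ ≫ y + x' ≫ R.j (k + 1)) ≫ R.dB (k + 1) = 0 := by
      rw [Preadditive.add_comp, Category.assoc, Category.assoc, R.jd, ← reassoc_of% hx', ← Preadditive.comp_add,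
        add_comm (y ≫ _) (x ≫ _), hxy, comp_zero]
    obtain ⟨T₂, π₂, _, w, hw⟩ := (R.exB k).exact_up_to_refinements _ hyd
    change T₂ ⟶ R.B k at w
    change π₂ ≫ (π₁ ≫ y + x' ≫ R.j (k + 1)) = w ≫ R.dB k at hw
    refine ⟨T₂, π₂ ≫ π₁, inferInstance, ?_⟩
    simp only [Category.assoc]
    rw [reassoc_of% hx', reassoc_of% ha, ← S.jd, ← reassoc_of% s'.hj]
    calc π₂ ≫ x' ≫ R.j (k + 1) ≫ s'.b ≫ S.dB (k + 1) + π₂ ≫ π₁ ≫ y ≫ s'.b ≫ S.dB (k + 1)
        = (π₂ ≫ (π₁ ≫ y + x' ≫ R.j (k + 1))) ≫ s'.b ≫ S.dB (k + 1) := by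
          simp only [Preadditive.add_comp, Preadditive.comp_add, Category.assoc]; abel
      _ = 0 := by rw [hw, Category.assoc, reassoc_of% hdb, S.ddB, comp_zero, comp_zero])
  obtain ⟨c, hcp, hcd⟩ := extend_of_kills (R.p (k + 2)) (R.dC (k + 1)) (b ≫ S.p (k + 2)) (s'.c ≫ S.dC (k + 1)) (by
    intro T y q hyq
    have hydp : (y ≫ R.dB (k + 2)) ≫ R.p (k + 2 + 1) = 0 := by
      rw [Category.assoc, ← R.pd, ← Category.assoc, eq_neg_of_add_eq_zero_left hyq, Preadditive.neg_comp,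
        Category.assoc, R.ddC, comp_zero, neg_zero]
    obtain ⟨T₀, π₀, _, x', hx'⟩ := (R.exRow (k + 2 + 1)).exact_up_to_refinements _ hydp
    change T₀ ⟶ R.A (k + 2 + 1) at x'
    change π₀ ≫ y ≫ R.dB (k + 2) = x' ≫ R.j (k + 2 + 1) at hx'
    have hx'd : x' ≫ R.dA (k + 2 + 1) = 0 := by
      haveI := R.mono_j (k + 2 + 1 + 1)
      rw [← cancel_mono (R.j (k + 2 + 1 + 1)), zero_comp, Category.assoc, ← R.jd, ← reassoc_of% hx', R.ddB,
        comp_zero, comp_zero]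
    obtain ⟨T₁, π₁, _, x'', hx''⟩ := (R.exA (k + 2)).exact_up_to_refinements x' hx'd
    change T₁ ⟶ R.A (k + 2) at x''
    change π₁ ≫ x' = x'' ≫ R.dA (k + 2) at hx''
    have hyc : (π₁ ≫ π₀ ≫ y - x'' ≫ R.j (k + 2)) ≫ R.dB (k + 2) = 0 := by
      rw [Preadditive.sub_comp, Category.assoc, Category.assoc, Category.assoc, hx', R.jd, reassoc_of% hx'', sub_self]
    obtain ⟨T₂, π₂, _, w, hw⟩ := (R.exB (k + 1)).exact_up_to_refinements _ hyc
    change T₂ ⟶ R.B (k + 1) at w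
    change π₂ ≫ (π₁ ≫ π₀ ≫ y - x'' ≫ R.j (k + 2)) = w ≫ R.dB (k + 1) at hw
    have hy : π₂ ≫ π₁ ≫ π₀ ≫ y = w ≫ R.dB (k + 1) + π₂ ≫ x'' ≫ R.j (k + 2) := by
      rw [← hw, Preadditive.comp_sub, sub_add_cancel]
    have hyp : π₂ ≫ π₁ ≫ π₀ ≫ y ≫ R.p (k + 2) = w ≫ R.p (k + 1) ≫ R.dC (k + 1) := by
      have := congrArg (· ≫ R.p (k + 2)) hy
      simpa only [Preadditive.add_comp, Category.assoc, R.jp, comp_zero, add_zero, ← R.pd] using this
    have hqc : (π₂ ≫ π₁ ≫ π₀ ≫ q + w ≫ R.p (k + 1)) ≫ R.dC (k + 1) = 0 := by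
      simp only [Preadditive.add_comp, Category.assoc, ← hyp]
      simp only [← Preadditive.comp_add]
      rw [add_comm (q ≫ _), hyq]
      simp
    obtain ⟨T₃, π₃, _, r, hr⟩ := (R.exC k).exact_up_to_refinements _ hqc
    change T₃ ⟶ R.C k at r
    change π₃ ≫ (π₂ ≫ π₁ ≫ π₀ ≫ q + w ≫ R.p (k + 1)) = r ≫ R.dC k at hr
    refine ⟨T₃, π₃ ≫ π₂ ≫ π₁ ≫ π₀, inferInstance, ?_⟩
    have h1 : π₂ ≫ π₁ ≫ π₀ ≫ y ≫ b ≫ S.p (k + 2) = w ≫ R.p (k + 1) ≫ s'.c ≫ S.dC (k + 1) := by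
      have := congrArg (· ≫ b ≫ S.p (k + 2)) hy
      simp only [Preadditive.add_comp, Category.assoc, reassoc_of% hbd, reassoc_of% hbj, S.jp, comp_zero, add_zero] at this
      rw [this, reassoc_of% s'.hp, S.pd]
    simp only [Category.assoc]
    rw [h1]
    calc π₃ ≫ w ≫ R.p (k + 1) ≫ s'.c ≫ S.dC (k + 1) + π₃ ≫ π₂ ≫ π₁ ≫ π₀ ≫ q ≫ s'.c ≫ S.dC (k + 1)
        = (π₃ ≫ (π₂ ≫ π₁ ≫ π₀ ≫ q + w ≫ R.p (k + 1))) ≫ s'.c ≫ S.dC (k + 1) := by
          simp only [Preadditive.add_comp, Preadditive.comp_add, Category.assoc]; abel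
      _ = 0 := by rw [hr, Category.assoc, reassoc_of% hdc, S.ddC, comp_zero, comp_zero])
  exact ⟨⟨a, b, c, hbj, hcp⟩, ha, hbd, hcd⟩

section aug
variable (K : CochainComplex V ℕ)

/-- Augmented terms `0, Z⁰, K⁰, K¹, …`. -/
def aug : ℕ → V
  | 0 => 0
  | 1 => K.cycles 0
  | n + 2 => K.X n

def augd : ∀ n, aug K n ⟶ aug K (n + 1)
  | 0 => 0
  | 1 => K.iCycles 0
  | n + 2 => K.d n (n + 1)

theorem augd_d : ∀ n, augd K n ≫ augd K (n + 1) = 0
  | 0 => zero_comp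
  | 1 => K.iCycles_d 0 1
  | n + 2 => K.d_comp_d n (n + 1) (n + 2)

theorem augd_exact (h : ∀ n, 0 < n → K.ExactAt n) : ∀ n, (ShortComplex.mk _ _ (augd_d K n)).Exact
  | 0 => (ShortComplex.exact_iff_mono _ rfl).2 (inferInstanceAs (Mono (K.iCycles 0)))
  | 1 => ShortComplex.exact_of_f_is_kernel _ (K.cyclesIsKernel 0 1 (by simp))
  | n + 2 => (K.exactAt_iff' n (n + 1) (n + 2) (by simp) (by simp)).1 (h (n + 1) (by omega))

variable {K} {L : CochainComplex V ℕ} (f : K ⟶ L)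

def augMap : ∀ n, aug K n ⟶ aug L n
  | 0 => 𝟙 _
  | 1 => cyclesMap f 0
  | n + 2 => f.f n

theorem augMap_d : ∀ n, augMap f n ≫ augd L n = augd K n ≫ augMap f (n + 1)
  | 0 => by simp [augd]
  | 1 => cyclesMap_i f 0
  | n + 2 => f.comm n (n + 1)

end aug

variable (K₁ K₂ K₃ : CochainComplex V ℕ) (j : K₁ ⟶ K₂) (p : K₂ ⟶ K₃) (mj : ∀ n, Mono (j.f n))
  (w : ∀ n, j.f n ≫ p.f n = 0) (ex : ∀ n, (ShortComplex.mk (j.f n) (p.f n) (w n)).Exact)

def row (h₁ : ∀ n, 0 < n → K₁.ExactAt n) (h₂ : ∀ n, 0 < n → K₂.ExactAt n) (h₃ : ∀ n, 0 < n → K₃.ExactAt n) : Row V where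
  A := aug K₁
  B := aug K₂
  C := aug K₃
  dA := augd K₁
  dB := augd K₂
  dC := augd K₃
  ddA := augd_d K₁
  ddB := augd_d K₂
  ddC := augd_d K₃
  exA := augd_exact K₁ h₁
  exB := augd_exact K₂ h₂
  exC := augd_exact K₃ h₃
  j := augMap j
  p := augMap p
  jd := augMap_d j
  pd := augMap_d p
  mono_j
    | 0 => inferInstanceAs (Mono (𝟙 (0 : V)))
    | 1 => haveI := mj 0; inferInstanceAs (Mono (cyclesMap j 0))
    | n + 2 => mj n
  jp
    | 0 => (isZero_zero V).eq_of_tgt _ _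
    | 1 => (cyclesMap_comp j p 0).symm.trans ((congrArg (fun φ => cyclesMap φ 0)
        (show j ≫ p = 0 from HomologicalComplex.hom_ext _ _ w)).trans (cyclesMap_zero _ _ _))
    | n + 2 => w n
  exRow
    | 0 => ShortComplex.exact_of_isZero_X₂ _ (isZero_zero V)
    | 1 => by
      haveI : Mono j := HomologicalComplex.mono_of_mono_f _ mj
      exact cycles_left_exact (ShortComplex.mk j p (HomologicalComplex.hom_ext _ _ w))
        (HomologicalComplex.exact_of_degreewise_exact _ ex) 0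
    | n + 2 => ex n

end


open CategoryTheory CategoryTheory.Limits in
/-- In an abelian category, given two degreewise left exact sequences of nonnegatively graded cochain
complexes 0 → C' → C → C'' and 0 → I' → I → I'', each complex exact in positive degrees and the I's
termwise injective, every commutative ladder of maps g', g, g'' between their degree-zero
cohomologies is induced by chain maps f' : C' → I', f : C → I, f'' : C'' → I'' commuting with the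
given maps of complexes. -/
theorem result {V : Type u} [Category.{v} V]
    [Abelian V] (C' C C'' I' I I'' : CochainComplex V ℕ)
    (jC : C' ⟶ C) (πC : C ⟶ C'') (jI : I' ⟶ I) (πI : I ⟶ I'')
    (mC : ∀ n, Mono (jC.f n)) (wC : ∀ n, jC.f n ≫ πC.f n = 0)
    (exC : ∀ n, (ShortComplex.mk (jC.f n) (πC.f n) (wC n)).Exact)
    (mI : ∀ n, Mono (jI.f n)) (wI : ∀ n, jI.f n ≫ πI.f n = 0)
    (exI : ∀ n, (ShortComplex.mk (jI.f n) (πI.f n) (wI n)).Exact)
    (hC' : ∀ n, 0 < n → C'.ExactAt n) (hC : ∀ n, 0 < n → C.ExactAt n) (hC'' : ∀ n, 0 < n → C''.ExactAt n)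
    (hI' : ∀ n, 0 < n → I'.ExactAt n) (hI : ∀ n, 0 < n → I.ExactAt n) (hI'' : ∀ n, 0 < n → I''.ExactAt n)
    (injI' : ∀ n, Injective (I'.X n)) (injI : ∀ n, Injective (I.X n)) (injI'' : ∀ n, Injective (I''.X n))
    (g' : C'.homology 0 ⟶ I'.homology 0) (g : C.homology 0 ⟶ I.homology 0)
    (g'' : C''.homology 0 ⟶ I''.homology 0)
    (hg1 : HomologicalComplex.homologyMap jC 0 ≫ g = g' ≫ HomologicalComplex.homologyMap jI 0)
    (hg2 : HomologicalComplex.homologyMap πC 0 ≫ g'' = g ≫ HomologicalComplex.homologyMap πI 0) :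
    ∃ (f' : C' ⟶ I') (f : C ⟶ I) (f'' : C'' ⟶ I''),
      jC ≫ f = f' ≫ jI ∧ πC ≫ f'' = f ≫ πI ∧
      HomologicalComplex.homologyMap f' 0 = g' ∧ HomologicalComplex.homologyMap f 0 = g ∧
      HomologicalComplex.homologyMap f'' 0 = g'' := by
  classical
  let R := row C' C C'' jC πC mC wC exC hC' hC hC''
  let S := row I' I I'' jI πI mI wI exI hI' hI hI''
  haveI iso0 : ∀ K : CochainComplex V ℕ, IsIso (K.homologyπ 0) := fun K =>
    K.isIso_homologyπ 0 0 (by simp) (K.shape _ _ (by simp))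
  let cy : ∀ {K L : CochainComplex V ℕ}, (K.homology 0 ⟶ L.homology 0) → (K.cycles 0 ⟶ L.cycles 0) :=
    fun {K L} g => K.homologyπ 0 ≫ g ≫ inv (L.homologyπ 0)
  let s0 : Tri R S 0 := ⟨0, 0, 0, (isZero_zero V).eq_of_tgt _ _, (isZero_zero V).eq_of_tgt _ _⟩
  have key : ∀ {K L M N : CochainComplex V ℕ} (φ : K ⟶ L) (ψ : M ⟶ N) (a : K.homology 0 ⟶ M.homology 0)
      (b : L.homology 0 ⟶ N.homology 0), HomologicalComplex.homologyMap φ 0 ≫ b = a ≫ HomologicalComplex.homologyMap ψ 0 →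
      HomologicalComplex.cyclesMap φ 0 ≫ cy b = cy a ≫ HomologicalComplex.cyclesMap ψ 0 := by
    intro K L M N φ ψ a b h
    rw [← cancel_mono (N.homologyπ 0)]
    simp only [cy, Category.assoc, IsIso.inv_hom_id, Category.comp_id, ← HomologicalComplex.homologyπ_naturality,
      IsIso.inv_hom_id_assoc, h]
    rw [← HomologicalComplex.homologyπ_naturality_assoc, h]
  let s1 : Tri R S 1 := ⟨cy g', cy g, cy g'', key jC jI g' g hg1, key πC πI g g'' hg2⟩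
  have h01 : Compat R S s0 s1 := ⟨(isZero_zero V).eq_of_src _ _, (isZero_zero V).eq_of_src _ _, (isZero_zero V).eq_of_src _ _⟩
  choose nx hnx using exists_next R S injI' injI injI''
  let seq : ∀ n, {P : Tri R S n × Tri R S (n + 1) // Compat R S P.1 P.2} := fun n =>
    Nat.rec (motive := fun n => {P : Tri R S n × Tri R S (n + 1) // Compat R S P.1 P.2}) ⟨(s0, s1), h01⟩
      (fun n P => ⟨(P.1.2, nx n P.1.1 P.1.2 P.2), hnx n P.1.1 P.1.2 P.2⟩) n
  let m : ∀ n, Tri R S n := fun n => (seq n).1.1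
  have hm : ∀ n, Compat R S (m n) (m (n + 1)) := fun n => (seq n).2
  let f' : C' ⟶ I' := { f := fun n => (m (n + 2)).a, comm' := by rintro i _ rfl; exact (hm (i + 2)).1.symm }
  let f : C ⟶ I := { f := fun n => (m (n + 2)).b, comm' := by rintro i _ rfl; exact (hm (i + 2)).2.1.symm }
  let f'' : C'' ⟶ I'' := { f := fun n => (m (n + 2)).c, comm' := by rintro i _ rfl; exact (hm (i + 2)).2.2.symm }
  have hH : ∀ {K L : CochainComplex V ℕ} (φ : K ⟶ L) (a : K.homology 0 ⟶ L.homology 0),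
      K.iCycles 0 ≫ φ.f 0 = cy a ≫ L.iCycles 0 → HomologicalComplex.homologyMap φ 0 = a := by
    intro K L φ a h
    rw [← HomologicalComplex.cyclesMap_i, cancel_mono] at h
    rw [← cancel_epi (K.homologyπ 0), HomologicalComplex.homologyπ_naturality, h]
    simp [cy]
  exact ⟨f', f, f'', HomologicalComplex.hom_ext _ _ fun n => (m (n + 2)).hj,
    HomologicalComplex.hom_ext _ _ fun n => (m (n + 2)).hp, hH f' g' (hm 1).1, hH f g (hm 1).2.1, hH f'' g'' (hm 1).2.2⟩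


end Groth.Agent.S13375
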