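import Groth.Statements.S13384
import Groth.Agent.Lib.TorusIsog19.Basic
-- import your own Groth.Agent.* helpers here

set_option autoImplicit false
universe u
open AlgGrpK

namespace Groth.Agent.S13384

set_option linter.style.haveILetI false
set_option backward.isDefEq.respectTransparency.types false
set_option backward.isDefEq.respectTransparency false
open CategoryTheory CategoryTheory.Limits CategoryTheory.MonoidalCategory CategoryTheory.CartesianMonoidalCategory CategoryTheory.MonObj AlgebraicGeometry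

variable {k : Type u} [Field k]

theorem isClosedImmersion_one (G : Over (Spec (CommRingCat.of k))) [GrpObj G] [IsSeparated G.hom] :
    IsClosedImmersion η[G].left := by
  haveI : IsClosedImmersion (η[G].left ≫ G.hom) := by
    rw [Over.w]; exact inferInstanceAs (IsClosedImmersion (𝟙 _))
  exact IsClosedImmersion.of_comp η[G].left G.hom

theorem isClosedImmersion_kernel {N G Q : Over (Spec (CommRingCat.of k))} [GrpObj Q] [IsSeparated Q.hom]
    {i : N ⟶ G} {q : G ⟶ Q} (h : AlgGrp.IsKernel i q) : IsClosedImmersion i.left ∧ Mono i :=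
  ⟨MorphismProperty.of_isPullback (P := @IsClosedImmersion) (h.map (Over.forget _)).flip
    (isClosedImmersion_one Q), ⟨fun _ _ e => h.hom_ext e (toUnit_unique _ _)⟩⟩

theorem isCommMonObj_quotient {G Q : Over (Spec (CommRingCat.of k))} [GrpObj G] [GrpObj Q] [IsCommMonObj G]
    (q : G ⟶ Q) [IsMonHom q] [Flat q.left] [Surjective q.left] [QuasiCompact q.left] : IsCommMonObj Q := by
    constructor
    haveI : Surjective (q ▷ G).left := MorphismProperty.of_isPullback (P := @Surjective)
      ((QuotField20.isPullback_whiskerRight_left q G).flip) inferInstance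
    haveI : Flat (q ▷ G).left := MorphismProperty.of_isPullback (P := @Flat)
      ((QuotField20.isPullback_whiskerRight_left q G).flip) inferInstance
    haveI : Surjective (Q ◁ q).left := MorphismProperty.of_isPullback (P := @Surjective)
      ((QuotField20.isPullback_whiskerLeft_left Q q).flip) inferInstance
    haveI : Flat (Q ◁ q).left := MorphismProperty.of_isPullback (P := @Flat)
      ((QuotField20.isPullback_whiskerLeft_left Q q).flip) inferInstance
    haveI : QuasiCompact (q ▷ G).left := MorphismProperty.of_isPullback (P := @QuasiCompact)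
      ((QuotField20.isPullback_whiskerRight_left q G).flip) inferInstance
    haveI : QuasiCompact (Q ◁ q).left := MorphismProperty.of_isPullback (P := @QuasiCompact)
      ((QuotField20.isPullback_whiskerLeft_left Q q).flip) inferInstance
    haveI : Epi (q ▷ G) := AlgGrpBasic19.epi_of_cover _
    haveI : Epi (Q ◁ q) := AlgGrpBasic19.epi_of_cover _
    have e : (q ▷ G) ≫ (Q ◁ q) = (q ⊗ₘ q) := by rw [MonoidalCategory.tensorHom_def]
    rw [← cancel_epi ((q ▷ G) ≫ (Q ◁ q)), e]
    rw [BraidedCategory.braiding_naturality_assoc, ← IsMonHom.mul_hom, IsCommMonObj.mul_comm_assoc]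

theorem eq_of_fst {W A T G : Over (Spec (CommRingCat.of k))} [GrpObj G] (a : A ⟶ G) (j : T ⟶ G) [Mono j]
    {u v : W ⟶ A ⊗ T} (h : u ≫ ((fst A T ≫ a) * (snd A T ≫ j)) = v ≫ ((fst A T ≫ a) * (snd A T ≫ j)))
    (e : u ≫ fst A T = v ≫ fst A T) : u = v := by
  rw [MonObj.comp_mul, MonObj.comp_mul, ← Category.assoc, ← Category.assoc, ← Category.assoc, ← Category.assoc, e] at h
  exact CartesianMonoidalCategory.hom_ext _ _ e ((cancel_mono j).1 (mul_left_cancel h))

theorem exists_order {Q : Over (Spec (CommRingCat.of k))} [GrpObj Q] [IsCommMonObj Q] [IsFinite Q.hom] :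
    ∃ m : ℕ, 0 < m ∧ (𝟙 Q : Q ⟶ Q) ^ m = 1 := by
  haveI : IsLocallyNoetherian Q.left := LocallyOfFiniteType.isLocallyNoetherian Q.hom
  have hm : Mor2.IsFinLocFreeOfDeg (Q.hom.finrank (IsLocalRing.closedPoint k)) Q.hom :=
    ⟨⟨inferInstance, inferInstance, inferInstance⟩,
      fun y => congrArg Q.hom.finrank (Subsingleton.elim (α := PrimeSpectrum k) _ _)⟩
  refine ⟨_, ?_, Deligne19.pow_card_eq_one Q _ hm⟩
  exact (Scheme.Hom.one_le_finrank_iff_surjective Q.hom).2
    ⟨fun z => ⟨η[Q].left (IsLocalRing.closedPoint k), Subsingleton.elim (α := PrimeSpectrum k) _ _⟩⟩ _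


open CategoryTheory AlgebraicGeometry MonoidalCategory in
/-- If an affine commutative group scheme G of finite type over a field k contains a subtorus T with
finite quotient G/T (given as a flat surjective homomorphism with kernel T onto a finite k-group),
then G receives an isogeny — a flat surjective homomorphism with finite kernel — from the product of
a finite k-group scheme and a k-torus. (The published statement also gives two further equivalent
conditions, on the reduced identity component over an algebraic closure and on Weil restrictions of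
split tori; this row states only this implication.) -/
theorem result (k : Type u) [Field k]
    (G : Over (Spec (CommRingCat.of k))) [GrpObj G] [IsCommMonObj G]
    [LocallyOfFiniteType G.hom] [QuasiCompact G.hom] [IsAffine G.left]
    (T Q : Over (Spec (CommRingCat.of k))) [GrpObj T] [GrpObj Q] (j : T ⟶ G) (q : G ⟶ Q)
    [IsMonHom j] [IsMonHom q] [Mono j] (hT : Red.IsTorus T) (hker : AlgGrp.IsKernel j q)
    [Flat q.left] [Surjective q.left] [IsFinite Q.hom] :
    ∃ (A T' : Over (Spec (CommRingCat.of k))) (_ : GrpObj A) (_ : GrpObj T') (f : A ⊗ T' ⟶ G) (_ : IsMonHom f),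
      IsFinite A.hom ∧ Red.IsTorus T' ∧ SGA7.IsIsogenyOver f ∧ Flat f.left := by
  classical
  letI : ∀ W : Over (Spec (CommRingCat.of k)), CommGroup (W ⟶ G) := fun W => Hom.commGroup
  obtain ⟨hTsm, -⟩ := TorPts21.smooth_connected_of_isTorus hT
  haveI := hTsm
  haveI : LocallyOfFiniteType T.hom := inferInstance
  haveI : IsSeparated G.hom := inferInstance
  haveI : IsSeparated Q.hom := inferInstance
  haveI : LocallyOfFiniteType Q.hom := inferInstance
  haveI : QuasiCompact q.left := AlgGrpBasic19.quasiCompact_left _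
  obtain ⟨hjc, -⟩ := S13384.isClosedImmersion_kernel hker
  haveI := hjc
  haveI : IsAffine T.left := isAffine_of_isAffineHom j.left
  haveI : IsSeparated T.hom := inferInstance
  haveI : QuasiCompact T.hom := inferInstance
  haveI : IsCommMonObj T := AbelGrp20.isCommMonObj_of_mono j
  haveI : IsCommMonObj Q := S13384.isCommMonObj_quotient q
  obtain ⟨m, hm0, hkill⟩ := S13384.exists_order (Q := Q)
  haveI hpG := TorusIsog19.isMonHom_pow G m
  haveI : Mono j := inferInstance
  obtain ⟨h, hh⟩ : ∃ h : G ⟶ T, h ≫ j = (𝟙 G : G ⟶ G) ^ m := by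
    refine ⟨hker.lift ((𝟙 G : G ⟶ G) ^ m) (toUnit G) ?_, hker.lift_fst _ _ _⟩
    rw [Isogeny14.hom_pow_comp q, Category.id_comp, ← TorusIsog19.comp_id_pow q, hkill, MonObj.comp_one,
      MonObj.one_eq_one, MonObj.comp_one]
  -- the finite part
  let A := Isogeny14.kerOver ((𝟙 G : G ⟶ G) ^ m)
  let ι₀ : A ⟶ G := Isogeny14.kerIncl _
  letI : GrpObj A := Isogeny14.kerGrp _
  haveI : IsMonHom ι₀ := Isogeny14.isMonHom_kerIncl _
  haveI := S13384.isClosedImmersion_one G
  haveI : IsSeparated A.hom := by
    haveI : IsClosedImmersion ι₀.left := MorphismProperty.pullback_fst _ _ inferInstance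
    rw [← Over.w ι₀]; infer_instance
  haveI : LocallyOfFiniteType A.hom := by
    haveI : IsClosedImmersion ι₀.left := MorphismProperty.pullback_fst _ _ inferInstance
    rw [← Over.w ι₀]; infer_instance
  let K := AlgebraicClosure k
  let W := TorusIsog19.geo k K
  have hApow : ∀ a : W ⟶ A, (a ≫ ι₀) ^ m = 1 := fun a => by
    rw [← TorusIsog19.comp_id_pow, Category.assoc, Isogeny14.kerIncl_comp, MonObj.comp_one]
  have hAfin : IsFinite A.hom := by
    refine TorusIsog19.finite_space_of_finite_pts K ?_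
    haveI : Finite (W ⟶ Q) := TorusIsog19.finite_pts_of_isFinite K
    haveI : Finite {τ : W ⟶ T | τ ^ m = 1} := (TorusIsog19.finite_torsion K hT hm0).to_subtype
    haveI := Isogeny14.mono_kerIncl ((𝟙 G : G ⟶ G) ^ m)
    let r : (W ⟶ Q) → (W ⟶ G) := fun c => if hc : ∃ b : W ⟶ A, b ≫ ι₀ ≫ q = c then hc.choose ≫ ι₀ else 1
    have hr : ∀ a : W ⟶ A, r (a ≫ ι₀ ≫ q) ≫ q = a ≫ ι₀ ≫ q ∧ r (a ≫ ι₀ ≫ q) ^ m = 1 := fun a => by
      have hc : ∃ b : W ⟶ A, b ≫ ι₀ ≫ q = a ≫ ι₀ ≫ q := ⟨a, rfl⟩
      simp only [r, dif_pos hc, Category.assoc]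
      exact ⟨hc.choose_spec, hApow _⟩
    have hτ : ∀ a : W ⟶ A, ∃ t : {τ : W ⟶ T | τ ^ m = 1},
        (t : W ⟶ T) ≫ j = (a ≫ ι₀) * (r (a ≫ ι₀ ≫ q))⁻¹ := fun a => by
      have h1 : ((a ≫ ι₀) * (r (a ≫ ι₀ ≫ q))⁻¹) ≫ q = 1 := by
        rw [MonObj.mul_comp, GrpObj.inv_comp, (hr a).1, Category.assoc, mul_inv_cancel]
      refine ⟨⟨hker.lift _ (toUnit W) (by rw [h1, MonObj.one_eq_one, MonObj.comp_one]), ?_⟩, hker.lift_fst _ _ _⟩
      show _ ^ m = (1 : W ⟶ T)
      rw [← cancel_mono j, Isogeny14.hom_pow_comp j, hker.lift_fst, MonObj.one_comp, mul_pow, inv_pow, hApow, (hr a).2,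
        inv_one, _root_.mul_one]
    choose τ hτ using hτ
    exact Finite.of_injective (fun a => (a ≫ ι₀ ≫ q, τ a)) fun a b hab => by
      simp only [Prod.mk.injEq] at hab
      have h2 := hτ a
      rw [hab.2, hτ b, hab.1] at h2
      exact (cancel_mono ι₀).1 (mul_right_cancel h2.symm)
  -- the isogeny
  haveI : IsMonHom (fst A T) := inferInstance
  let f : A ⊗ T ⟶ G := (fst A T ≫ ι₀) * (snd A T ≫ j)
  haveI hf : IsMonHom f := TorPts21.isMonHom_mul _ _
  haveI : LocallyOfFiniteType (A ⊗ T).hom := inferInstanceAs (LocallyOfFiniteType (pullback.fst A.hom T.hom ≫ A.hom))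
  haveI : IsSeparated (A ⊗ T).hom := inferInstanceAs (IsSeparated (pullback.fst A.hom T.hom ≫ A.hom))
  haveI : QuasiCompact (A ⊗ T).hom := by
    haveI := hAfin
    exact inferInstanceAs (QuasiCompact (pullback.fst A.hom T.hom ≫ A.hom))
  haveI : QuasiCompact f.left := AlgGrpBasic19.quasiCompact_left _
  -- a cover on which the isogeny has a section
  obtain ⟨hpf, hps⟩ := TorusIsog19.flat_surjective_pow hT hm0
  haveI := hpf
  haveI := hps
  let p : T ⟶ T := (𝟙 T : T ⟶ T) ^ m
  let Z : Over (Spec (CommRingCat.of k)) := Over.mk (pullback.fst h.left p.left ≫ G.hom)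
  let π : Z ⟶ G := Over.homMk (pullback.fst h.left p.left) rfl
  let t : Z ⟶ T := Over.homMk (pullback.snd h.left p.left) (by
    show pullback.snd h.left p.left ≫ T.hom = pullback.fst h.left p.left ≫ G.hom
    rw [← Over.w h, pullback.condition_assoc, Over.w p])
  have ht : π ≫ h = t ≫ p := Over.OverMorphism.ext pullback.condition
  have ha : (π * (t ≫ j)⁻¹) ≫ ((𝟙 G : G ⟶ G) ^ m) = 1 := by
    rw [TorusIsog19.comp_id_pow, mul_pow, inv_pow, ← Isogeny14.hom_pow_comp j, ← TorusIsog19.comp_id_pow π, ← hh,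
      ← Category.assoc π h j, ht, TorusIsog19.comp_id_pow t, mul_inv_cancel]
  let a : Z ⟶ A := Isogeny14.kerLift _ _ ha
  have hzf : lift a t ≫ f = π := by
    simp only [f, MonObj.comp_mul, lift_fst_assoc, lift_snd_assoc, a, ι₀]
    rw [Isogeny14.kerLift_incl, inv_mul_cancel_right]
  haveI : Flat (lift a t ≫ f).left := by
    rw [hzf]; exact inferInstanceAs (Flat (pullback.fst h.left p.left))
  haveI : Surjective (lift a t ≫ f).left := by
    rw [hzf]; exact inferInstanceAs (Surjective (pullback.fst h.left p.left))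
  haveI : QuasiCompact (lift a t ≫ f).left := by
    rw [hzf]
    haveI : QuasiCompact p.left := AlgGrpBasic19.quasiCompact_left _
    exact inferInstanceAs (QuasiCompact (pullback.fst h.left p.left))
  obtain ⟨hfl, hsu⟩ := TorusIsog19.flat_surjective_of_factor f (lift a t)
  refine ⟨A, T, inferInstance, inferInstance, f, hf, hAfin, hT, ⟨hsu, fun N i hi => ?_⟩, hfl⟩
  obtain ⟨hic, him⟩ := S13384.isClosedImmersion_kernel hi
  haveI := hic
  haveI := him
  haveI : LocallyOfFiniteType N.hom := by rw [← Over.w i]; infer_instance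
  haveI : IsSeparated N.hom := by rw [← Over.w i]; infer_instance
  refine TorusIsog19.finite_space_of_finite_pts K ?_
  haveI : Finite (W ⟶ A) := TorusIsog19.finite_pts_of_isFinite K
  refine Finite.of_injective (fun n => n ≫ i ≫ fst A T) fun n n' e => ?_
  have e' : (n ≫ i) ≫ fst A T = (n' ≫ i) ≫ fst A T := by simpa using e
  have h1 : ∀ n : W ⟶ N, (n ≫ i) ≫ f = 1 := fun n => by
    rw [Category.assoc, hi.w, MonObj.one_eq_one, MonObj.comp_one, MonObj.comp_one]
  exact (cancel_mono i).1 (S13384.eq_of_fst ι₀ j ((h1 n).trans (h1 n').symm) e')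

end Groth.Agent.S13384
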