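import Groth.Statements.S13395
import Groth.Agent.Lib.SymFlat14.Prod

set_option autoImplicit false
universe u
open CategoryTheory CategoryTheory.Limits AlgebraicGeometry
open ZeroCyc

namespace Groth.Agent.S13395

/-- Scheme case. Let f : X → S and g : Z → S be separated morphisms and suppose that either both are
flat or every positive integer is invertible in Γ(S, O_S) (S is a scheme over the rationals). Let
(P, q_X) be a d-th symmetric product of X over S and (Q, q_Z) an e-th symmetric product of Z over S,
i.e. quotients of the fibre powers (X/S)^d and (Z/S)^e by the symmetric groups permuting the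
factors, and let S_d × S_e act on (X/S)^d ×_S (Z/S)^e factorwise. Then q_X × q_Z : (X/S)^d ×_S
(Z/S)^e → P ×_S Q is a quotient by S_d × S_e (affine, invariant, with sections of P ×_S Q the
invariant sections): the mixed symmetric product Sym^{d,e}(X, Z) is Sym^d(X/S) ×_S Sym^e(Z/S). (The
published statement is for separated algebraic spaces, where these quotients always exist, and adds
the identification with Γ^d(X/S) ×_S Γ^e(Z/S); this row is the scheme case with the two symmetric
products taken as hypotheses.) -/
theorem result {X Z S P Q : Scheme.{u}} (f : X ⟶ S) (g : Z ⟶ S)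
    [IsSeparated f] [IsSeparated g] (d e : ℕ)
    (h : (Flat f ∧ Flat g) ∨ ∀ n : ℕ, 0 < n → IsUnit ((n : ℕ) : Γ(S, ⊤)))
    (qX : SymProd.fibPow f d ⟶ P) (pP : P ⟶ S) (hqX : SymProd.IsSymProd f d qX pP)
    (qZ : SymProd.fibPow g e ⟶ Q) (pQ : Q ⟶ S) (hqZ : SymProd.IsSymProd g e qZ pQ)
    (ρ : ULift.{u} (Equiv.Perm (Fin d) × Equiv.Perm (Fin e)) →*
      Aut (pullback (WidePullback.base fun _ : Fin d => f) (WidePullback.base fun _ : Fin e => g)))
    (hρ : ∀ σ, (ρ σ).hom ≫ pullback.fst (WidePullback.base fun _ : Fin d => f) (WidePullback.base fun _ : Fin e => g) =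
        pullback.fst (WidePullback.base fun _ : Fin d => f) (WidePullback.base fun _ : Fin e => g) ≫
          SymProd.permHom f d σ.down.1 ∧
      (ρ σ).hom ≫ pullback.snd (WidePullback.base fun _ : Fin d => f) (WidePullback.base fun _ : Fin e => g) =
        pullback.snd (WidePullback.base fun _ : Fin d => f) (WidePullback.base fun _ : Fin e => g) ≫
          SymProd.permHom g e σ.down.2) :
    SGA1.IsQuot ρ (pullback.map (WidePullback.base fun _ : Fin d => f) (WidePullback.base fun _ : Fin e => g) pP pQ
      qX qZ (𝟙 S) ((Category.comp_id _).trans hqX.over.symm) ((Category.comp_id _).trans hqZ.over.symm)) := by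
  exact Groth.Agent.SymFlat14.symProd_prod f g d e h qX pP hqX qZ pQ hqZ ρ hρ _
    (pullback.lift_fst _ _ _) (pullback.lift_snd _ _ _)

end Groth.Agent.S13395
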