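import Groth.Statements.S13399
import Groth.Agent.Lib.GammaD.Iversen26
-- import your own Groth.Agent.* helpers here

set_option autoImplicit false
universe u
open scoped TensorProduct
open ZeroCyc

namespace Groth.Agent.S13399

/-- Let A be a commutative ring, B an A-algebra and e ≥ 0; let (C_{e+1}, γ_{e+1}) and (C_e, γ_e) be the
divided power algebras Γ^{e+1}_A(B) and Γ^e_A(B) of B with their universal multiplicative laws of
degrees e + 1 and e (every multiplicative law of that degree out of B factors uniquely through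
them), and let ω : Γ^{e+1}_A(B) ⊗_A B → Γ^e_A(B) ⊗_A B be Iversen's canonical algebra homomorphism,
taken here as data characterised by ω(γ_{e+1}(x) ⊗ y) = γ_e(x) ⊗ x·y for all x, y ∈ S ⊗_A B and
every base change A → S. Then ω is surjective. -/
theorem result {A B Cd Ce : Type u} [CommRing A] [CommRing B] [Algebra A B]
    [CommRing Cd] [Algebra A Cd] [CommRing Ce] [Algebra A Ce] (e : ℕ)
    (γd : PolLaw.MulLaw A B Cd (e + 1)) (hγd : PolLaw.IsGammaD γd)
    (γe : PolLaw.MulLaw A B Ce e) (hγe : PolLaw.IsGammaD γe)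
    (ω : Cd ⊗[A] B →ₐ[A] Ce ⊗[A] B)
    (hω : ∀ (S : Type u) [CommSemiring S] [Algebra A S] (x y : S ⊗[A] B),
      ω.toLinearMap.lTensor S
        ((Algebra.TensorProduct.includeLeft : Cd →ₐ[A] Cd ⊗[A] B).toLinearMap.lTensor S (γd.law.toFun' S x) *
          (Algebra.TensorProduct.includeRight : B →ₐ[A] Cd ⊗[A] B).toLinearMap.lTensor S y) =
      (Algebra.TensorProduct.includeLeft : Ce →ₐ[A] Ce ⊗[A] B).toLinearMap.lTensor S (γe.law.toFun' S x) *
        (Algebra.TensorProduct.includeRight : B →ₐ[A] Ce ⊗[A] B).toLinearMap.lTensor S (x * y)) :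
    Function.Surjective ω := by
  exact Groth.Agent.GammaD.Iversen.surjective γd γe ω hγe hω

end Groth.Agent.S13399
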