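import Groth.Statements.S13401
import Groth.Agent.Lib.TraceEtale22.Scheme

set_option autoImplicit false
universe u
open CategoryTheory CategoryTheory.Limits MonoidalCategory CartesianMonoidalCategory MonObj GrpObj AlgebraicGeometry
open GrpSch

namespace Groth.Agent.S13401

/-- Let S be a scheme and G an S-group scheme whose structure morphism is finite, flat and locally of
finite presentation (a finite locally free group scheme), and suppose that at every point s of S the
rank of G → S at s is non-zero in the residue field κ(s), i.e. the order of G is invertible on the
base. Then G → S is étale. -/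
theorem result {S : Scheme.{u}} (G : Over S) [GrpObj G]
    [IsFinite G.hom] [Flat G.hom] [LocallyOfFinitePresentation G.hom]
    (h : ∀ s : S, (Scheme.Hom.finrank G.hom s : S.residueField s) ≠ 0) : Etale G.hom := by
  have hcast : ∀ (L : Type u) [Field L] (a : Spec (CommRingCat.of L) ⟶ S) (n : ℕ),
      (n : S.residueField (a (IsLocalRing.closedPoint L))) ≠ 0 → (n : L) ≠ 0 := by
    intro L _ a n hn
    rw [← map_natCast (Scheme.descResidueField (Scheme.stalkClosedPointTo a)).hom n]
    exact (_root_.map_ne_zero _).2 hn
  refine TraceEtale22.etale_of_fibres G (fun L _ a => inferInstance) fun L _ a => ?_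
  rw [Scheme.Hom.finrank_pullback_snd]
  exact hcast L a _ (h _)

end Groth.Agent.S13401
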