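import Groth.Statements.S13402
import Groth.Agent.Lib.HopfFF23.Range

set_option autoImplicit false
universe u v w
open Hopf

namespace Groth.Agent.S13402

open scoped TensorProduct
open WithConv

/-- Let k be a field and let A and B be finite-dimensional commutative and cocommutative Hopf algebras
over k (finite commutative k-group schemes G = Spec A and H = Spec B). Let f : B → A be a bialgebra
map (a homomorphism G → H) which is injective and such that the ideal of A generated by the image of
the augmentation ideal of B is the augmentation ideal of A (the homomorphism G → H has trivial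
kernel). Then f is bijective, so G → H is an isomorphism; this is what makes the category of finite
commutative k-group schemes abelian. -/
theorem result (k : Type u) [Field k] (A : Type v) (B : Type w)
    [CommRing A] [HopfAlgebra k A] [Module.Finite k A] [Coalgebra.IsCocomm k A]
    [CommRing B] [HopfAlgebra k B] [Module.Finite k B] [Coalgebra.IsCocomm k B]
    (f : B →ₐc[k] A) (hinj : Function.Injective f)
    (hker : Ideal.map f (RingHom.ker (Bialgebra.counitAlgHom k B)) = RingHom.ker (Bialgebra.counitAlgHom k A)) :
    Function.Bijective f := by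
  refine ⟨hinj, ?_⟩
  letI := (f : B →+* A).toAlgebra
  haveI : IsScalarTower k B A := IsScalarTower.of_algebraMap_eq fun c => ((f : B →ₐ[k] A).commutes c).symm
  haveI : Module.FaithfullyFlat B A := HopfFF23.faithfullyFlat_of_injective f hinj
  let x : A →ₐ[k] A ⊗[B] A := (Algebra.TensorProduct.includeLeft : A →ₐ[B] A ⊗[B] A).restrictScalars k
  let y : A →ₐ[k] A ⊗[B] A := (Algebra.TensorProduct.includeRight : A →ₐ[B] A ⊗[B] A).restrictScalars k
  have hxyf : x.comp (f : B →ₐ[k] A) = y.comp (f : B →ₐ[k] A) :=
    AlgHom.ext fun b => Eq.symm ((Algebra.TensorProduct.includeRight : A →ₐ[B] A ⊗[B] A).commutes b)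
  let S : WithConv (A →ₐ[k] A) := toConv (HopfAlgebra.antipodeAlgHom k A)
  let I : WithConv (A →ₐ[k] A) := toConv (AlgHom.id k A)
  have hSI : S * I = 1 := HopfFF23.conv_antipode_mul
  have hIS : I * S = 1 := by rw [mul_comm]; exact hSI
  let y' : WithConv (A →ₐ[k] A ⊗[B] A) := toConv (y.comp (HopfAlgebra.antipodeAlgHom k A))
  have hy'y : y' * toConv y = 1 := by
    have := congrArg (fun z : WithConv (A →ₐ[k] A) => toConv (y.comp z.ofConv)) hSI
    simp only [AlgHom.comp_convMul_distrib, HopfFF23.comp_convOne] at this
    exact this
  have hone : toConv x * y' = 1 := by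
    let d := toConv x * y'
    have hd : d.ofConv.comp (f : B →ₐ[k] A) =
        (1 : WithConv (B →ₐ[k] A ⊗[B] A)).ofConv := by
      have e1 : (toConv y * y' : WithConv (A →ₐ[k] A ⊗[B] A)) = 1 := by rw [mul_comm, hy'y]
      simp only [d, AlgHom.convMul_comp_bialgHom_distrib, ofConv_toConv, hxyf]
      rw [← AlgHom.convMul_comp_bialgHom_distrib, show toConv (toConv y).ofConv = toConv y from rfl, e1]
      exact HopfFF23.convOne_comp f
    have hker' : ∀ a, Bialgebra.counitAlgHom k A a = 0 → d.ofConv a = 0 := by
      intro a ha
      have : RingHom.ker (Bialgebra.counitAlgHom k A) ≤ RingHom.ker d.ofConv := by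
        rw [← hker, Ideal.map_le_iff_le_comap]
        intro b hb
        show d.ofConv (f b) = 0
        have := AlgHom.congr_fun hd b
        rw [AlgHom.comp_apply] at this
        refine this.trans ?_
        show algebraMap k _ (Coalgebra.counit b) = 0
        rw [show Coalgebra.counit (R := k) b = 0 from hb, map_zero]
      exact this ha
    apply ofConv_injective
    refine AlgHom.ext fun a => ?_
    have h0 := hker' (a - algebraMap k A (Coalgebra.counit a)) (by simp)
    rw [map_sub, AlgHom.commutes, sub_eq_zero] at h0
    exact h0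
  have hxy : x = y := by
    have : toConv x = toConv y := by
      calc toConv x = toConv x * (y' * toConv y) := by rw [hy'y, mul_one]
        _ = toConv y := by rw [← mul_assoc, hone, one_mul]
    exact congrArg ofConv this
  intro a
  let R := LinearMap.range (Algebra.linearMap B A)
  have h1 : R.mkQ.lTensor A ((1 : A) ⊗ₜ[B] a) = R.mkQ.lTensor A (a ⊗ₜ[B] (1 : A)) :=
    congrArg _ (AlgHom.congr_fun hxy a).symm
  have h2 : (1 : A) ⊗ₜ[B] R.mkQ a = (1 : A) ⊗ₜ[B] 0 := by
    rw [LinearMap.lTensor_tmul, LinearMap.lTensor_tmul] at h1
    have h0 : R.mkQ (1 : A) = 0 := (Submodule.Quotient.mk_eq_zero R).2 ⟨1, map_one (algebraMap B A)⟩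
    rw [h1, h0, TensorProduct.tmul_zero, TensorProduct.tmul_zero]
  exact (Submodule.Quotient.mk_eq_zero R).1 (Module.FaithfullyFlat.tensorProduct_mk_injective (A := B) (B := A) _ h2)

end Groth.Agent.S13402
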