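import Groth.Statements.S13404
import Groth.Agent.Lib.UnitComp23.Basic
import Groth.Agent.Lib.Hens.Local

set_option autoImplicit false
universe u v
open Hopf

namespace Groth.Agent.S13404


theorem henselian_of_ringEquiv {S T : Type*} [CommRing S] [CommRing T] [HenselianLocalRing S] (E : S ≃+* T) :
    HenselianLocalRing T := by
  haveI : IsLocalRing T := E.isLocalRing
  refine ⟨fun f hf a h₁ h₂ => ?_⟩
  have hev : ∀ (g : Polynomial T) (x : T), (g.map (E.symm : T →+* S)).eval (E.symm x) = E.symm (g.eval x) :=
    fun g x => by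
      rw [Polynomial.eval_map]
      exact (Polynomial.hom_eval₂ g (RingHom.id T) (E.symm : T →+* S) x).symm
  have h1' : (f.map (E.symm : T →+* S)).eval (E.symm a) ∈ IsLocalRing.maximalIdeal S := by
    rw [hev]
    exact map_mem_nonunits_iff E.symm _ |>.2 h₁
  have h2' : IsUnit ((f.map (E.symm : T →+* S)).derivative.eval (E.symm a)) := by
    rw [Polynomial.derivative_map, hev]
    exact h₂.map E.symm
  obtain ⟨r, hr, hra⟩ := HenselianLocalRing.is_henselian _ (hf.map _) (E.symm a) h1' h2'
  refine ⟨E r, ?_, ?_⟩
  · have h := hev f (E r)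
    rw [E.symm_apply_apply] at h
    have hr' : (f.map (E.symm : T →+* S)).eval r = 0 := hr
    rw [hr'] at h
    exact E.symm.injective (h.symm.trans (map_zero _).symm)
  · have h : E (r - E.symm a) = E r - a := by rw [map_sub, E.apply_symm_apply]
    rw [← h]
    exact map_mem_nonunits_iff E _ |>.2 hra

/-- Let R be a henselian local ring and G = Spec A a finite flat group scheme over R (A a commutative
Hopf algebra over R, finite and flat as an R-module; G need not be commutative). Let e be an
idempotent of A on which the counit takes the value 1 and such that A/(1 - e) is a local ring, so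
that Spec A/(1 - e) is the connected component G⁰ of G containing the unit section. Then the ideal
(1 - e) is a Hopf ideal (G⁰ is a closed subgroup scheme of G), A/(1 - e) is a henselian local ring
with the same residue field as R (the composite R → A/(1 - e) → residue field is surjective), and
A/(1 - e) is flat over R. (The published statement also asserts that G⁰ is normal in G; this row
does not state normality.) -/
theorem result (R : Type u) [CommRing R] [HenselianLocalRing R]
    (A : Type v) [CommRing A] [HopfAlgebra R A] [Module.Finite R A] [Module.Flat R A]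
    (e : A) (he : IsIdempotentElem e) (hε : Bialgebra.counitAlgHom R A e = 1)
    [IsLocalRing (A ⧸ Ideal.span ({1 - e} : Set A))] :
    (Ideal.span ({1 - e} : Set A)).IsHopfIdeal R ∧ HenselianLocalRing (A ⧸ Ideal.span ({1 - e} : Set A)) ∧
      Function.Surjective (⇑(IsLocalRing.residue (A ⧸ Ideal.span ({1 - e} : Set A))) ∘ ⇑(algebraMap R (A ⧸ Ideal.span ({1 - e} : Set A)))) ∧
      Module.Flat R (A ⧸ Ideal.span ({1 - e} : Set A)) := by
  set I := Ideal.span ({1 - e} : Set A)
  haveI : Small.{u} (A ⧸ I) := by
    obtain ⟨n, f, hf⟩ := Module.Finite.exists_fin' R (A ⧸ I)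
    exact small_of_surjective hf
  refine ⟨UnitComp23.isHopfIdeal e he hε, ?_, ?_, ?_⟩
  · haveI : IsLocalRing (Shrink.{u} (A ⧸ I)) := (Shrink.ringEquiv.{u} (A ⧸ I)).symm.isLocalRing
    haveI : Module.Finite R (Shrink.{u} (A ⧸ I)) :=
      Module.Finite.equiv (Shrink.algEquiv.{u} R (A ⧸ I)).toLinearEquiv.symm
    haveI : Algebra.IsIntegral R (Shrink.{u} (A ⧸ I)) := Algebra.IsIntegral.of_finite _ _
    haveI := Hens.henselianLocalRing_of_isIntegral R (Shrink.{u} (A ⧸ I))
    exact henselian_of_ringEquiv (Shrink.ringEquiv.{u} (A ⧸ I))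
  · intro x
    obtain ⟨y, rfl⟩ := IsLocalRing.residue_surjective x
    refine ⟨UnitComp23.eps0 e hε y, ?_⟩
    simp only [Function.comp_apply]
    rw [← sub_eq_zero, ← map_sub, IsLocalRing.residue_eq_zero_iff, IsLocalRing.mem_maximalIdeal]
    intro hu
    have h1 := hu.map (UnitComp23.eps0 e hε)
    rw [map_sub, AlgHom.commutes, Algebra.algebraMap_self, RingHom.id_apply, sub_self] at h1
    exact not_isUnit_zero h1
  · refine Module.Flat.of_retract (Submodule.liftQ (I.restrictScalars R) (LinearMap.mulLeft R e) ?_ ∘ₗ
      (Submodule.Quotient.restrictScalarsEquiv R I).symm.toLinearMap) ((Ideal.Quotient.mkₐ R I).toLinearMap) ?_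
    · intro x hx
      obtain ⟨c, rfl⟩ := Ideal.mem_span_singleton'.1 hx
      show e * (c * (1 - e)) = 0
      rw [mul_left_comm, mul_sub, mul_one, he.eq, sub_self, mul_zero]
    · refine LinearMap.ext fun x => ?_
      obtain ⟨a, rfl⟩ := Ideal.Quotient.mk_surjective x
      show Ideal.Quotient.mk I (e * a) = Ideal.Quotient.mk I a
      rw [map_mul, UnitComp23.mk_self, one_mul]

end Groth.Agent.S13404
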