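import Groth.Statements.S13405
import Groth.Agent.Lib.InfStruct23.Lift
-- import your own Groth.Agent.* helpers here

set_option autoImplicit false
universe u v
open Hopf

namespace Groth.Agent.S13405

/-- Let R be a complete discrete valuation ring whose residue field is perfect of characteristic p > 0,
and let G = Spec A be a connected finite flat group scheme over R: A is a commutative Hopf algebra
over R, finite and flat as an R-module, and a local ring. Then for some n there are natural numbers
e_1, ..., e_n and power series f_1, ..., f_n in R[[x_1, ..., x_n]] such that A is isomorphic as an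
R-algebra to R[[x_1, ..., x_n]]/(f_1, ..., f_n) and each f_i is x_i ^ (p ^ e_i) plus a polynomial
all of whose coefficients lie in the maximal ideal of R and whose degree in x_i is less than p ^
e_i. -/
theorem result (R : Type u) [CommRing R] [IsDomain R]
    [IsDiscreteValuationRing R] [IsAdicComplete (IsLocalRing.maximalIdeal R) R]
    (p : ℕ) [Fact p.Prime] [CharP (IsLocalRing.ResidueField R) p] [PerfectField (IsLocalRing.ResidueField R)]
    (A : Type v) [CommRing A] [HopfAlgebra R A] [Module.Finite R A] [Module.Flat R A] [IsLocalRing A] :
    ∃ (n : ℕ) (e : Fin n → ℕ) (g : Fin n → MvPolynomial (Fin n) R),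
      (∀ i, (∀ d, (g i).coeff d ∈ IsLocalRing.maximalIdeal R) ∧ (g i).degreeOf i < p ^ e i) ∧
      Nonempty (A ≃ₐ[R] (MvPowerSeries (Fin n) R ⧸
        Ideal.span (Set.range fun i => (MvPowerSeries.X i : MvPowerSeries (Fin n) R) ^ p ^ e i + ↑(g i)))) := Groth.Agent.InfStruct23.exists_presentation p A
end Groth.Agent.S13405
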