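import Groth.Statements.S13407
import Mathlib.RingTheory.HopfAlgebra.TensorProduct
import Mathlib.RingTheory.HopfAlgebra.Quotient
import Mathlib.RingTheory.Localization.BaseChange
import Mathlib.RingTheory.Flat.TorsionFree
import Mathlib.RingTheory.Localization.FractionRing

set_option autoImplicit false
universe u
open TensorProduct
open Hopf

namespace Groth.Agent.S13407

open Coalgebra

variable {R : Type u} [CommRing R] {K : Type u} [Field K] [Algebra R K] {A : Type u} [CommRing A] [HopfAlgebra R A]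

local notation "inc" => (Algebra.TensorProduct.includeRight : A →ₐ[R] K ⊗[R] A)

/-- The comparison map of the squares of two quotients. -/
noncomputable def sq (J0 : Ideal A) (J : Ideal (K ⊗[R] A)) (h : J0 ≤ J.comap inc) :
    (A ⧸ J0) ⊗[R] (A ⧸ J0) →ₐ[R] ((K ⊗[R] A) ⧸ J) ⊗[K] ((K ⊗[R] A) ⧸ J) :=
  Algebra.TensorProduct.lift
    ((Algebra.TensorProduct.includeLeft : ((K ⊗[R] A) ⧸ J) →ₐ[R] _).comp (Ideal.quotientMapₐ J inc h))
    (((Algebra.TensorProduct.includeRight : ((K ⊗[R] A) ⧸ J) →ₐ[K] _).restrictScalars R).comp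
      (Ideal.quotientMapₐ J inc h)) (fun _ _ => Commute.all (S := ((K ⊗[R] A) ⧸ J) ⊗[K] ((K ⊗[R] A) ⧸ J)) _ _)

theorem sq_comul (J0 : Ideal A) (J : Ideal (K ⊗[R] A)) (h : J0 ≤ J.comap inc) (a : A) :
    Algebra.TensorProduct.map (Ideal.Quotient.mkₐ K J) (Ideal.Quotient.mkₐ K J) (comul (R := K) (inc a)) =
      sq J0 J h (Algebra.TensorProduct.map (Ideal.Quotient.mkₐ R J0) (Ideal.Quotient.mkₐ R J0) (comul (R := R) a)) := by
  rw [Algebra.TensorProduct.includeRight_apply, TensorProduct.comul_tmul, CommSemiring.comul_apply]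
  generalize comul (R := R) a = z
  induction z with
  | zero => simp
  | tmul x y => simp [sq, Algebra.TensorProduct.tmul_mul_tmul]
  | add x y hx hy => simp only [TensorProduct.tmul_add, map_add, hx, hy]

theorem sq_injective (S : Submonoid R) [IsLocalization S K] (J0 : Ideal A) (J : Ideal (K ⊗[R] A))
    (h : J0 = J.comap inc) [Module.Flat R (A ⧸ J0)] [Module.Flat R K] :
    Function.Injective (sq J0 J h.le) := by
  let j : (A ⧸ J0) →ₐ[R] (K ⊗[R] A) ⧸ J := Ideal.quotientMapₐ J inc h.le
  have hj : Function.Injective j := by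
    rw [injective_iff_map_eq_zero]
    intro x hx
    obtain ⟨x, rfl⟩ := Ideal.Quotient.mk_surjective x
    rw [show j (Ideal.Quotient.mk J0 x) = Ideal.Quotient.mk J (inc x) from rfl, Ideal.Quotient.eq_zero_iff_mem] at hx
    exact Ideal.Quotient.eq_zero_iff_mem.2 (h ▸ Ideal.mem_comap.2 hx)
  haveI : Module.Flat R ((K ⊗[R] A) ⧸ J) := Module.Flat.trans R K _
  haveI : TensorProduct.CompatibleSMul R K ((K ⊗[R] A) ⧸ J) ((K ⊗[R] A) ⧸ J) :=
    IsLocalization.tensorProduct_compatibleSMul S K _ _
  let e := TensorProduct.equivOfCompatibleSMul R K K ((K ⊗[R] A) ⧸ J) ((K ⊗[R] A) ⧸ J)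
  have he : ∀ z, e (sq J0 J h.le z) = TensorProduct.map j.toLinearMap j.toLinearMap z := by
    intro z
    induction z with
    | zero => simp
    | tmul x y => simp [sq, e, j, Algebra.TensorProduct.tmul_mul_tmul]; rfl
    | add x y hx hy => simp only [map_add, hx, hy]
  intro x y hxy
  have := congrArg e hxy
  rw [he, he] at this
  exact TensorProduct.map_injective_of_flat_flat j.toLinearMap j.toLinearMap hj hj this

theorem isHopfIdeal_map (J0 : Ideal A) [J0.IsHopfIdeal R] : (J0.map inc).IsHopfIdeal K := by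
  have h : J0 ≤ (J0.map inc).comap inc := Ideal.le_comap_map
  refine { toIsCoideal := ⟨?_, ?_⟩, antipode_mem := ?_ }
  · intro x hx
    have hle : J0.map inc ≤ RingHom.ker (Bialgebra.counitAlgHom K (K ⊗[R] A)) := by
      refine Ideal.map_le_iff_le_comap.2 fun a ha => ?_
      rw [Ideal.mem_comap, RingHom.mem_ker, Bialgebra.counitAlgHom_apply, Algebra.TensorProduct.includeRight_apply,
        TensorProduct.counit_tmul, CommSemiring.counit_apply,
        Submodule.IsCoideal.counit_eq_zero (I := J0.restrictScalars R) ha, zero_smul]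
    exact hle hx
  · intro x hx
    have hle : J0.map inc ≤ RingHom.ker ((Algebra.TensorProduct.map (Ideal.Quotient.mkₐ K (J0.map inc))
        (Ideal.Quotient.mkₐ K (J0.map inc))).comp (Bialgebra.comulAlgHom K (K ⊗[R] A))) := by
      refine Ideal.map_le_iff_le_comap.2 fun a ha => ?_
      rw [Ideal.mem_comap, RingHom.mem_ker, AlgHom.comp_apply, Bialgebra.comulAlgHom_apply, sq_comul J0 _ h a]
      refine (congrArg (sq J0 (J0.map inc) h) ?_).trans (map_zero _)
      exact Submodule.IsCoideal.map_mkQ_comul_eq_zero (I := J0.restrictScalars R) ha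
    exact hle hx
  · intro x hx
    have hle : J0.map inc ≤ RingHom.ker ((Ideal.Quotient.mkₐ K (J0.map inc)).comp
        (HopfAlgebra.antipodeAlgHom K (K ⊗[R] A))) := by
      refine Ideal.map_le_iff_le_comap.2 fun a ha => ?_
      rw [Ideal.mem_comap, RingHom.mem_ker, AlgHom.comp_apply, Ideal.Quotient.mkₐ_eq_mk, Ideal.Quotient.eq_zero_iff_mem]
      show HopfAlgebra.antipode K ((1 : K) ⊗ₜ[R] a) ∈ J0.map inc
      rw [TensorProduct.antipode_def, AlgebraTensorModule.map_tmul]
      have := Ideal.mem_map_of_mem inc (Ideal.IsHopfIdeal.antipode_mem (R := R) ha)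
      simpa using this
    have := hle hx
    rwa [RingHom.mem_ker, AlgHom.comp_apply, Ideal.Quotient.mkₐ_eq_mk, Ideal.Quotient.eq_zero_iff_mem] at this

theorem isHopfIdeal_comap (S : Submonoid R) [IsLocalization S K] [Module.Flat R K] (hinj : Function.Injective (algebraMap R K))
    (J : Ideal (K ⊗[R] A)) [J.IsHopfIdeal K] [Module.Flat R (A ⧸ J.comap inc)] :
    (J.comap inc).IsHopfIdeal R := by
  refine { toIsCoideal := ⟨?_, ?_⟩, antipode_mem := ?_ }
  · intro x hx
    have h : counit (R := K) ((1 : K) ⊗ₜ[R] x) = 0 :=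
      Submodule.IsCoideal.counit_eq_zero (I := J.restrictScalars K) (show inc x ∈ J from hx)
    rw [TensorProduct.counit_tmul, CommSemiring.counit_apply, Algebra.smul_def, mul_one] at h
    exact (map_eq_zero_iff _ hinj).1 h
  · intro x hx
    have h := sq_comul (J.comap inc) J le_rfl x
    have h0 : Algebra.TensorProduct.map (Ideal.Quotient.mkₐ K J) (Ideal.Quotient.mkₐ K J) (comul (R := K) (inc x)) = 0 :=
      Submodule.IsCoideal.map_mkQ_comul_eq_zero (I := J.restrictScalars K) (show inc x ∈ J from hx)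
    rw [h0] at h
    exact sq_injective S (J.comap inc) J rfl (h.symm.trans (map_zero _).symm)
  · intro x hx
    rw [Ideal.mem_comap]
    have := Ideal.IsHopfIdeal.antipode_mem (R := K) (show inc x ∈ J from hx)
    rw [Algebra.TensorProduct.includeRight_apply] at this ⊢
    rwa [TensorProduct.antipode_def, AlgebraTensorModule.map_tmul, show HopfAlgebra.antipode K (1 : K) = 1 by simp] at this


/-- Let R be a Dedekind domain with fraction field K and let G = Spec A be a finite flat group scheme
over R (A a commutative Hopf algebra over R, finite and flat as an R-module). Closed flat R-subgroup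
schemes of G correspond one-to-one to closed K-subgroup schemes of the generic fibre G_K under H ↦
H_K: the map sending a Hopf ideal J' of A with A/J' flat over R to the ideal it generates in K ⊗_R A
is a bijection onto the set of Hopf ideals of the Hopf algebra K ⊗_R A over K (its inverse takes a
Hopf ideal of K ⊗_R A to its preimage in A). -/
theorem result (R : Type u) [CommRing R] [IsDedekindDomain R]
    (K : Type u) [Field K] [Algebra R K] [IsFractionRing R K]
    (A : Type u) [CommRing A] [HopfAlgebra R A] [Module.Finite R A] [Module.Flat R A] :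
    Set.BijOn (fun J' : Ideal A => Ideal.map (Algebra.TensorProduct.includeRight : A →ₐ[R] K ⊗[R] A) J')
      {J' : Ideal A | J'.IsHopfIdeal R ∧ Module.Flat R (A ⧸ J')}
      {J : Ideal (K ⊗[R] A) | J.IsHopfIdeal K} := by
  letI : Algebra A (K ⊗[R] A) := Algebra.TensorProduct.rightAlgebra
  haveI : Module.Flat R K := IsLocalization.flat K (nonZeroDivisors R)
  haveI : IsLocalization (Algebra.algebraMapSubmonoid A (nonZeroDivisors R)) (K ⊗[R] A) :=
    IsLocalization.tensorRight K (nonZeroDivisors R)
  have halg : ∀ a : A, algebraMap A (K ⊗[R] A) a = (Algebra.TensorProduct.includeRight : A →ₐ[R] K ⊗[R] A) a := fun a => rfl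
  have hcomap : ∀ J' : Ideal A, Module.Flat R (A ⧸ J') →
      (J'.map (Algebra.TensorProduct.includeRight : A →ₐ[R] K ⊗[R] A)).comap
        (Algebra.TensorProduct.includeRight : A →ₐ[R] K ⊗[R] A) = J' := by
    intro J' hflat
    refine le_antisymm (fun a ha => ?_) Ideal.le_comap_map
    obtain ⟨_, ⟨r, hr, rfl⟩, hra⟩ := (IsLocalization.algebraMap_mem_map_algebraMap_iff
      (Algebra.algebraMapSubmonoid A (nonZeroDivisors R)) (K ⊗[R] A) _ _).1 (show algebraMap A (K ⊗[R] A) a ∈ J'.map (algebraMap A (K ⊗[R] A)) from ha)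
    haveI := hflat
    refine Ideal.Quotient.eq_zero_iff_mem.1 ((Module.Flat.isSMulRegular_of_nonZeroDivisors hr) ?_)
    show r • Ideal.Quotient.mk J' a = r • (0 : A ⧸ J')
    rw [smul_zero, ← Ideal.Quotient.mkₐ_eq_mk R, ← map_smul, Ideal.Quotient.mkₐ_eq_mk, Ideal.Quotient.eq_zero_iff_mem,
      Algebra.smul_def]
    exact hra
  refine ⟨fun J' hJ' => ?_, fun J₁ h₁ J₂ h₂ h => ?_, fun J hJ => ?_⟩
  · haveI := hJ'.1
    exact isHopfIdeal_map J'
  · rw [← hcomap J₁ h₁.2, ← hcomap J₂ h₂.2]
    exact congrArg _ h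
  · haveI : J.IsHopfIdeal K := hJ
    haveI : Module.IsTorsionFree R (A ⧸ J.comap (Algebra.TensorProduct.includeRight : A →ₐ[R] K ⊗[R] A)) := by
      let j := Ideal.quotientMapₐ J (Algebra.TensorProduct.includeRight : A →ₐ[R] K ⊗[R] A) le_rfl
      haveI : Module.Flat R ((K ⊗[R] A) ⧸ J) := Module.Flat.trans R K _
      refine Function.Injective.moduleIsTorsionFree j ?_ (fun r x => map_smul j r x)
      exact Ideal.quotientMap_injective
    refine ⟨J.comap (Algebra.TensorProduct.includeRight : A →ₐ[R] K ⊗[R] A),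
      ⟨isHopfIdeal_comap (nonZeroDivisors R) (IsFractionRing.injective R K) J, inferInstance⟩, ?_⟩
    exact IsLocalization.map_under (Algebra.algebraMapSubmonoid A (nonZeroDivisors R)) (K ⊗[R] A) J


end Groth.Agent.S13407
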