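import Groth.Statements.S1341
import Groth.Agent.Lib.FibreCM5.Basic
import Groth.Agent.Lib.FlatH4.GenPt
-- import your own Groth.Agent.* helpers here

set_option autoImplicit false
universe u
open FlatMor

namespace Groth.Agent.S1341

open AlgebraicGeometry CategoryTheory Limits in
/-- Let f : X ⟶ S be flat and locally of finite presentation. Then the set of points of X at which f is
Cohen–Macaulay is open in X, and its intersection with every fibre of f is dense in that fibre. -/
theorem result {X S : Scheme.{u}} (f : X ⟶ S) [Flat f] [LocallyOfFinitePresentation f] :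
    IsOpen {x : ↑X | MoreMor.IsCMAt f x} ∧ ∀ s : S, Dense ((f.fiberι s) ⁻¹' {x : ↑X | MoreMor.IsCMAt f x}) := by
  refine ⟨Groth.Agent.FibreCM5.isOpen_isCMAt f, fun s z => ?_⟩
  obtain ⟨η, hη, hηz⟩ := Groth.Agent.FlatH4.exists_isMaxPt_specializes z
  refine closure_mono (Set.singleton_subset_iff.2 ?_) (specializes_iff_mem_closure.1 hηz)
  haveI : IsLocallyNoetherian (f.fiber s) :=
    haveI : LocallyOfFiniteType (f.fiberToSpecResidueField s) :=
      MorphismProperty.pullback_snd _ _ (inferInstance : LocallyOfFiniteType f)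
    LocallyOfFiniteType.isLocallyNoetherian (f.fiberToSpecResidueField s)
  have h0 : ringKrullDim ((f.fiber s).presheaf.stalk η) = 0 := by
    rw [ringKrullDim_stalk_eq_coheight η, Order.coheight_eq_zero.2 (fun y hy => (hη y hy).symm ▸ le_refl η)]
    rfl
  have hcm : LocCoh.IsCohenMacaulayLocalRing ((f.fiber s).presheaf.stalk η) := by
    rw [Groth.Agent.FibreCM5.isCM_iff_dim_eq_depth, h0]
    have h := Groth.Agent.DepthLib.depth_le_supportDim (R := (f.fiber s).presheaf.stalk η)
      (M := (f.fiber s).presheaf.stalk η)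
    rw [Module.supportDim_self_eq_ringKrullDim, h0] at h
    exact le_antisymm (WithBot.coe_le_coe.2 zero_le) h
  refine ⟨Flat.stalkMap f _, ?_⟩
  have hs : f (f.fiberι s η) = s := (Scheme.Hom.range_fiberι f s).le ⟨η, rfl⟩
  generalize hx : f.fiberι s η = x at hs ⊢
  subst hs
  rwa [show f.asFiber x = η from (f.fiberι _).isEmbedding.injective ((f.fiberι_asFiber x).trans hx.symm)]

end Groth.Agent.S1341
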