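import Groth.Prelude.Def_EtBase
import Groth.Prelude.Def_PBC
import Groth.Prelude.Def_EtGm
import Groth.Prelude.Def_EGA4b
import Mathlib.FieldTheory.IsAlgClosed.Basic
import Mathlib.RingTheory.IntegralClosure.IsIntegralClosure.Basic
import Mathlib.RingTheory.Henselian
import Mathlib.Order.KrullDimension
import Mathlib.RingTheory.KrullDimension.Basic
import Mathlib.AlgebraicGeometry.ResidueField
import Mathlib.RingTheory.Localization.FractionRing
import Groth.Agent.Lib.CdField3.HensSurfGm
import Groth.Agent.Lib.VarDim.Alg
-- import your own Groth.Agent.* helpers here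

namespace HLoc2
end HLoc2

set_option autoImplicit false
universe u
open CategoryTheory CategoryTheory.Limits AlgebraicGeometry
open HLoc2

namespace Groth.Agent.S13414

/-- Let `k` be an algebraically closed field of characteristic zero, `R₀` an excellent normal henselian
local `k`-domain of Krull dimension two with residue field `k`, `K` a finite extension of its
fraction field, `O_K` the integral closure of `R₀` in `K`, and `X` the open subscheme of `Spec O_K`
of non-closed points; let `U` be a nonempty open subscheme of `X`. Assume, as holds in this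
situation, that `K` has etale cohomological dimension at most 2 and that the residue field of every
closed point of `U` has cohomological dimension at most 1. (The published text asserts both facts
for this situation without proof; this row carries them as hypotheses.) Then `H^r(U, G_m) = 0` for
every `r ≥ 4`. (The published item also contains a four-term exact sequence involving the Brauer
groups of `K` and of its completions, which is not restated here.) -/
theorem result
    (k : Type u) [Field k] [IsAlgClosed k] [CharZero k]
    (R₀ : Type u) [CommRing R₀] [IsDomain R₀] [HenselianLocalRing R₀] [Algebra k R₀]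
    [IsIntegrallyClosed R₀] (hexc : EGA4.IsExcellent R₀) (hdim : ringKrullDim R₀ = 2)
    (hres : Function.Surjective (fun a : k => IsLocalRing.residue R₀ (algebraMap k R₀ a)))
    (K : Type u) [Field K] [Algebra R₀ K] [Algebra (FractionRing R₀) K]
    [IsScalarTower R₀ (FractionRing R₀) K] [FiniteDimensional (FractionRing R₀) K]
    (U : (Spec (CommRingCat.of ↥(integralClosure R₀ K))).Opens)
    (hU : ∀ x : ↥(Spec (CommRingCat.of ↥(integralClosure R₀ K))), x ∈ U →
      ¬ IsClosed ({x} : Set ↥(Spec (CommRingCat.of ↥(integralClosure R₀ K)))))
    (hne : Nonempty ↥(↑U : Scheme.{u}))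
    (hcdK : EtCoh.CohDimLE (Spec (CommRingCat.of K)) 2)
    (hcdv : ∀ x : ↥(↑U : Scheme.{u}), IsClosed ({x} : Set ↥(↑U : Scheme.{u})) →
      EtCoh.CohDimLE (Spec ((↑U : Scheme.{u}).residueField x)) 1)
    (r : ℕ) (hr : 4 ≤ r) :
    Subsingleton (EtCoh.H (↑U : Scheme.{u}) (EtCoh.Gm (↑U : Scheme.{u})) r) := by
  haveI : IsNoetherianRing R₀ := hexc.1
  letI : CharZero R₀ := charZero_of_injective_algebraMap (algebraMap k R₀).injective
  haveI : CharZero (FractionRing R₀) := charZero_of_injective_algebraMap (IsFractionRing.injective R₀ (FractionRing R₀))
  haveI : Algebra.IsSeparable (FractionRing R₀) K := inferInstance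
  haveI : Module.Finite R₀ ↥(integralClosure R₀ K) :=
    IsIntegralClosure.finite R₀ (FractionRing R₀) K ↥(integralClosure R₀ K)
  haveI : IsNoetherianRing ↥(integralClosure R₀ K) := IsNoetherianRing.of_finite R₀ _
  haveI : IsFractionRing ↥(integralClosure R₀ K) K :=
    IsIntegralClosure.isFractionRing_of_finite_extension R₀ (FractionRing R₀) K ↥(integralClosure R₀ K)
  haveI : IsIntegrallyClosed ↥(integralClosure R₀ K) :=
    integralClosure.isIntegrallyClosedOfFiniteExtension (FractionRing R₀)
  letI : Algebra k ↥(integralClosure R₀ K) :=
    ((algebraMap R₀ ↥(integralClosure R₀ K)).comp (algebraMap k R₀)).toAlgebra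
  have hinj : Function.Injective (algebraMap R₀ ↥(integralClosure R₀ K)) := fun x y h => by
    have h1 : algebraMap R₀ K x = algebraMap R₀ K y := congrArg Subtype.val h
    rw [IsScalarTower.algebraMap_apply R₀ (FractionRing R₀) K, IsScalarTower.algebraMap_apply R₀ (FractionRing R₀) K] at h1
    exact IsFractionRing.injective R₀ (FractionRing R₀) ((algebraMap (FractionRing R₀) K).injective h1)
  have hA : ringKrullDim ↥(integralClosure R₀ K) ≤ 2 :=
    (Groth.Agent.VarDim.ringKrullDim_eq_of_isIntegral hinj).le.trans hdim.le
  exact Groth.Agent.CdField3.subsingleton_H_Gm_surf _ hA k K U hU hcdK hcdv r hr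

end Groth.Agent.S13414
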