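import Groth.Prelude.Def_EtBase
import Groth.Prelude.Def_PBC
import Groth.Prelude.Def_EGA4b
import Mathlib.FieldTheory.IsAlgClosed.Basic
import Mathlib.RingTheory.IntegralClosure.IsIntegralClosure.Basic
import Mathlib.RingTheory.Henselian
import Mathlib.Order.KrullDimension
import Mathlib.RingTheory.KrullDimension.Basic
import Mathlib.AlgebraicGeometry.ResidueField
import Mathlib.RingTheory.Localization.FractionRing
import Mathlib.AlgebraicGeometry.Morphisms.Finite
import Mathlib.AlgebraicGeometry.Morphisms.Etale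
import Mathlib.AlgebraicGeometry.Restrict
import Mathlib.CategoryTheory.Limits.Shapes.BinaryBiproducts
import Groth.Agent.Lib.CdField3.EmbedSurf
import Groth.Agent.Lib.VarDim.Alg
import Groth.Agent.S0127
import Groth.Agent.S0137
-- import your own Groth.Agent.* helpers here

namespace HLoc2
end HLoc2

set_option autoImplicit false
universe u
open CategoryTheory CategoryTheory.Limits AlgebraicGeometry
open HLoc2

namespace Groth.Agent.S13416

/-- Let `k` be an algebraically closed field of characteristic zero, `R₀` an excellent normal henselian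
local `k`-domain of Krull dimension two with residue field `k`, `K` a finite extension of its
fraction field, `O_K` the integral closure of `R₀` in `K`, and `X` the open subscheme of `Spec O_K`
of non-closed points; let `U` be a nonempty open subscheme of `X`. Assume, as holds in this
situation, that `K` has etale cohomological dimension at most 2 and that the residue field of every
closed point of `U` has cohomological dimension at most 1. (The published text asserts both facts
for this situation without proof; this row carries them as hypotheses.) Let `F` be a constructible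
abelian etale sheaf on `U` with `mF = 0` for some `m ≥ 1`, `V` a nonempty open of `U`, and `π : U_n
→ U` a finite surjective morphism from an integral scheme with integrally closed local rings (for
instance the normalisation of `U` in a finite extension of `K`, which is the morphism the published
statement uses) that is etale over `V` and such that the pullback of `F` to `π⁻¹(V)` is a constant
sheaf with finite value group. Then there exist a finite abelian group `M` with `mM = 0`, a
constructible abelian etale sheaf `F_f` on `U` with finite support, and a monomorphism `F →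
π_*(M_{U_n}) ⊕ F_f` of abelian etale sheaves on `U`. -/
theorem result
    (k : Type u) [Field k] [IsAlgClosed k] [CharZero k]
    (R₀ : Type u) [CommRing R₀] [IsDomain R₀] [HenselianLocalRing R₀] [Algebra k R₀]
    [IsIntegrallyClosed R₀] (hexc : EGA4.IsExcellent R₀) (hdim : ringKrullDim R₀ = 2)
    (hres : Function.Surjective (fun a : k => IsLocalRing.residue R₀ (algebraMap k R₀ a)))
    (K : Type u) [Field K] [Algebra R₀ K] [Algebra (FractionRing R₀) K]
    [IsScalarTower R₀ (FractionRing R₀) K] [FiniteDimensional (FractionRing R₀) K]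
    (U : (Spec (CommRingCat.of ↥(integralClosure R₀ K))).Opens)
    (hU : ∀ x : ↥(Spec (CommRingCat.of ↥(integralClosure R₀ K))), x ∈ U →
      ¬ IsClosed ({x} : Set ↥(Spec (CommRingCat.of ↥(integralClosure R₀ K)))))
    (hne : Nonempty ↥(↑U : Scheme.{u}))
    (hcdK : EtCoh.CohDimLE (Spec (CommRingCat.of K)) 2)
    (hcdv : ∀ x : ↥(↑U : Scheme.{u}), IsClosed ({x} : Set ↥(↑U : Scheme.{u})) →
      EtCoh.CohDimLE (Spec ((↑U : Scheme.{u}).residueField x)) 1)
    (F : EtCoh.Ab (↑U : Scheme.{u})) (hF : EtPBC.IsConstructible F) (m : ℕ) (hm : 1 ≤ m)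
    (hmF : EtCoh.KilledBy m F) (V : (↑U : Scheme.{u}).Opens) (hV : Nonempty ↥(↑V : Scheme.{u}))
    (Un : Scheme.{u}) [IsIntegral Un] (hnorm : ∀ y : ↥Un, IsIntegrallyClosed ↑(Un.presheaf.stalk y))
    (π : Un ⟶ (↑U : Scheme.{u})) [IsFinite π] [Surjective π] [Etale (π ∣_ V)] (M₀ : Type) [AddCommGroup M₀] [Finite M₀]
    (hconst : Nonempty ((EtCoh.pull (π ⁻¹ᵁ V).ι).obj ((EtCoh.pull π).obj F) ≅
      EtCoh.const (↑(π ⁻¹ᵁ V) : Scheme.{u}) M₀)) :
    ∃ (M : Type) (_ : AddCommGroup M) (_ : Finite M), (∀ x : M, m • x = 0) ∧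
      ∃ (Ff : EtCoh.Ab (↑U : Scheme.{u})), EtPBC.IsConstructible Ff ∧ (EtPBC.supp Ff).Finite ∧
        ∃ ι : F ⟶ (EtCoh.push π).obj (EtCoh.const Un M) ⊞ Ff, Mono ι := by
  classical
  haveI : IsNoetherianRing R₀ := hexc.1
  letI : CharZero R₀ := charZero_of_injective_algebraMap (algebraMap k R₀).injective
  haveI : CharZero (FractionRing R₀) := charZero_of_injective_algebraMap (IsFractionRing.injective R₀ (FractionRing R₀))
  haveI : Algebra.IsSeparable (FractionRing R₀) K := inferInstance
  haveI : Module.Finite R₀ ↥(integralClosure R₀ K) :=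
    IsIntegralClosure.finite R₀ (FractionRing R₀) K ↥(integralClosure R₀ K)
  haveI : IsNoetherianRing ↥(integralClosure R₀ K) := IsNoetherianRing.of_finite R₀ _
  have hinj : Function.Injective (algebraMap R₀ ↥(integralClosure R₀ K)) := fun x y h => by
    have h1 : algebraMap R₀ K x = algebraMap R₀ K y := congrArg Subtype.val h
    rw [IsScalarTower.algebraMap_apply R₀ (FractionRing R₀) K, IsScalarTower.algebraMap_apply R₀ (FractionRing R₀) K] at h1
    exact IsFractionRing.injective R₀ (FractionRing R₀) ((algebraMap (FractionRing R₀) K).injective h1)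
  have hA : ringKrullDim ↥(integralClosure R₀ K) ≤ 2 :=
    (Groth.Agent.VarDim.ringKrullDim_eq_of_isIntegral hinj).le.trans hdim.le
  haveI : IsLocallyNoetherian (↑U : Scheme.{u}) := isLocallyNoetherian_of_isOpenImmersion U.ι
  let S : Scheme.{u} := ↑U
  have hZc : IsClosed ((V : Set ↥S)ᶜ) := V.isOpen.isClosed_compl
  have hZf : ((V : Set ↥S)ᶜ).Finite := by
    exact Groth.Agent.CdField3.finite_compl_open_surf _ hA U hU V hV
  let Z : Scheme.{u} := (Scheme.IdealSheafData.vanishingIdeal ⟨_, hZc⟩).subscheme
  let i : Z ⟶ S := (Scheme.IdealSheafData.vanishingIdeal ⟨_, hZc⟩).subschemeι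
  have hri : Set.range i = ((V : Set ↥S)ᶜ) := by
    rw [Scheme.IdealSheafData.range_subschemeι, Scheme.IdealSheafData.coe_support_vanishingIdeal]; rfl
  haveI : LocallyOfFinitePresentation i := Groth.Agent.CdField3.lfp_closedImmersion i
  let j' := (π ⁻¹ᵁ V).ι
  obtain ⟨c⟩ := hconst
  obtain ⟨x₀⟩ : Nonempty ↥(↑(π ⁻¹ᵁ V) : Scheme.{u}) := by
    obtain ⟨⟨v, hv⟩⟩ := hV
    obtain ⟨x, hx⟩ := π.surjective v
    exact ⟨⟨x, show π x ∈ V by rw [hx]; exact hv⟩⟩
  haveI hu : IsIso ((EtCoh.pullPushAdj j').unit.app (EtCoh.const Un M₀)) :=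
    Groth.Agent.NormSep24.isIso_unit_const_open hnorm (π ⁻¹ᵁ V) ⟨_, x₀.2⟩ M₀
  let a : (EtCoh.pull π).obj F ⟶ EtCoh.const Un M₀ :=
    (EtCoh.pullPushAdj j').unit.app _ ≫ (EtCoh.push j').map (c.hom ≫ (EtCore.pullConst j' M₀).inv) ≫
      inv ((EtCoh.pullPushAdj j').unit.app (EtCoh.const Un M₀))
  let ι₁ : F ⟶ (EtCoh.push π).obj (EtCoh.const Un M₀) := (EtCoh.pullPushAdj π).homEquiv _ _ a
  let ι₂ : F ⟶ (EtCoh.push i).obj ((EtCoh.pull i).obj F) := (EtCoh.pullPushAdj i).unit.app F
  refine ⟨M₀, inferInstance, inferInstance, fun x => ?_, (EtCoh.push i).obj ((EtCoh.pull i).obj F),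
    Groth.Agent.S0137.result i _ (Groth.Agent.S0127.result i F hF), ?_, biprod.lift ι₁ ι₂, ?_⟩
  · have h1 : m • 𝟙 F = 0 := Groth.Agent.CdField3.nsmul_id_of_killedBy hmF
    have h2 : m • 𝟙 (EtCoh.const (↑(π ⁻¹ᵁ V) : Scheme.{u}) M₀) = 0 := by
      haveI : (EtCoh.pull π).Additive := inferInstance
      haveI : (EtCoh.pull j').Additive := inferInstance
      have h3 := Groth.Agent.CdField3.nsmul_id_functor_obj (EtCoh.pull j')
        (Groth.Agent.CdField3.nsmul_id_functor_obj (EtCoh.pull π) h1)
      have h4 : c.inv ≫ (m • 𝟙 _) ≫ c.hom = m • 𝟙 (EtCoh.const (↑(π ⁻¹ᵁ V) : Scheme.{u}) M₀) := by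
        rw [Preadditive.nsmul_comp, Category.id_comp, Preadditive.comp_nsmul, Iso.inv_hom_id]
      rw [← h4, h3, zero_comp, comp_zero]
    exact Groth.Agent.CdField3.nsmul_eq_zero_of_const ⟨x₀⟩ h2 x
  · exact (hri ▸ hZf).subset (Groth.Agent.EtStalk.supp_push_subset i _)
  · refine Preadditive.mono_of_isZero_kernel _ (Groth.Agent.CdField3.isZero_of_stalks fun Ω _ _ η => ?_)
    let κ := kernel.ι (biprod.lift ι₁ ι₂)
    have hk0 : κ ≫ biprod.lift ι₁ ι₂ = 0 := kernel.condition _
    haveI : Mono κ := inferInstanceAs (Mono (kernel.ι _))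
    have hk1 : κ ≫ ι₁ = 0 :=
      (congrArg (κ ≫ ·) (biprod.lift_fst ι₁ ι₂).symm).trans
        ((Category.assoc _ _ _).symm.trans ((congrArg (· ≫ biprod.fst) hk0).trans zero_comp))
    have hk2 : κ ≫ ι₂ = 0 :=
      (congrArg (κ ≫ ·) (biprod.lift_snd ι₁ ι₂).symm).trans
        ((Category.assoc _ _ _).symm.trans ((congrArg (· ≫ biprod.snd) hk0).trans zero_comp))
    by_cases hη : η default ∈ V
    · obtain ⟨x, hx⟩ := π.surjective (η default)
      refine Groth.Agent.CdField3.subsingleton_stalk_of_pull_comp π j' _ η ⟨x, show π x ∈ V by rw [hx]; exact hη⟩ hx ?_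
      haveI := Groth.Agent.EtStalk.preservesFiniteLimits_pull π
      haveI := Groth.Agent.EtStalk.preservesFiniteLimits_pull j'
      haveI hm1 : Mono ((EtCoh.pull π).map κ) := inferInstance
      haveI : (EtCoh.pull j').PreservesMonomorphisms := inferInstance
      haveI : Mono ((EtCoh.pull j').map ((EtCoh.pull π).map κ)) := (EtCoh.pull j').map_mono _
      have h5 : (EtCoh.pull π).map κ ≫ a = 0 := by
        apply ((EtCoh.pullPushAdj π).homEquiv _ _).injective
        rw [Adjunction.homEquiv_naturality_left]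
        exact hk1.trans ((EtCoh.pullPushAdj π).homAddEquiv _ _).map_zero.symm
      refine Groth.Agent.CdField3.isZero_of_mono_zero ((EtCoh.pull j').map ((EtCoh.pull π).map κ)) ?_
      apply ((EtCoh.pullPushAdj j').homEquiv _ _).injective
      rw [← cancel_mono ((EtCoh.push j').map (c.hom ≫ (EtCore.pullConst j' M₀).inv) ≫
        inv ((EtCoh.pullPushAdj j').unit.app (EtCoh.const Un M₀)))]
      haveI : (EtCoh.push j').Additive := inferInstance
      rw [Adjunction.homEquiv_unit, Adjunction.homEquiv_unit, Functor.map_zero, comp_zero, zero_comp,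
        Adjunction.unit_naturality, Category.assoc]
      exact h5
    · obtain ⟨z, hz⟩ : η default ∈ Set.range i := by rw [hri]; exact hη
      refine Groth.Agent.CdField3.subsingleton_stalk_of_pull i _ η z hz ?_
      haveI := Groth.Agent.EtStalk.preservesFiniteLimits_pull i
      haveI : Mono ((EtCoh.pull i).map κ) := inferInstance
      refine Groth.Agent.CdField3.isZero_of_mono_zero ((EtCoh.pull i).map κ) ?_
      apply ((EtCoh.pullPushAdj i).homEquiv _ _).injective
      haveI : (EtCoh.push i).Additive := inferInstance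
      rw [Adjunction.homEquiv_unit, Adjunction.homEquiv_unit, Functor.map_zero, comp_zero,
        Adjunction.unit_naturality]
      exact hk2

end Groth.Agent.S13416
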