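import Groth.Prelude.Def_EGA4b
import Mathlib.FieldTheory.IsSepClosed
import Mathlib.RingTheory.Henselian
import Mathlib.RingTheory.TensorProduct.Basic
import Mathlib.RingTheory.IntegralClosure.IntegrallyClosed
import Mathlib.RingTheory.KrullDimension.Basic
import Mathlib.Order.KrullDimension
import Mathlib.RingTheory.LocalRing.ResidueField.Defs
import Groth.Agent.Lib.HensH7.Integral
import Groth.Agent.Lib.Hens.Local
import Groth.Agent.Lib.VarDim.Alg
import Groth.Agent.Lib.NormalBC6.Union
import Groth.Agent.Lib.Disc25.Normal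
import Groth.Agent.Lib.RamSam27.GeomFactorial
-- import your own Groth.Agent.* helpers here

namespace HLoc2
end HLoc2

set_option autoImplicit false
set_option linter.style.haveILetI false
set_option backward.isDefEq.respectTransparency false
set_option backward.isDefEq.respectTransparency.types false
set_option maxHeartbeats 2000000
set_option synthInstance.maxHeartbeats 200000
universe u
open scoped TensorProduct
open HLoc2

namespace Groth.Agent.S13417

/-- Let `k` be a field with separable closure `kˢ` and `R₀` a commutative local `k`-algebra which is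
excellent, henselian, integrally closed, of Krull dimension two, with residue field `k`, and
geometrically integral (`R₀ ⊗_k kˢ` is a domain). Then `R₀ ⊗_k kˢ` is a henselian local ring which
is integrally closed, of Krull dimension two, and whose residue field is `kˢ` (the composite `kˢ →
R₀ ⊗_k kˢ →` residue field is surjective). (The published statement also asserts that `R₀ ⊗_k kˢ` is
excellent; that assertion is not restated here.) -/
theorem result
    (k : Type u) [Field k] (R₀ : Type u) [CommRing R₀] [IsDomain R₀] [HenselianLocalRing R₀] [Algebra k R₀]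
    [IsIntegrallyClosed R₀] (hexc : EGA4.IsExcellent R₀) (hdim : ringKrullDim R₀ = 2)
    (hres : Function.Surjective (fun a : k => IsLocalRing.residue R₀ (algebraMap k R₀ a)))
    [IsDomain (R₀ ⊗[k] SeparableClosure k)] :
    ∃ _ : HenselianLocalRing (R₀ ⊗[k] SeparableClosure k),
      IsIntegrallyClosed (R₀ ⊗[k] SeparableClosure k) ∧
      ringKrullDim (R₀ ⊗[k] SeparableClosure k) = 2 ∧
      Function.Surjective (fun a : SeparableClosure k =>
        IsLocalRing.residue (R₀ ⊗[k] SeparableClosure k)
          ((Algebra.TensorProduct.includeRight : SeparableClosure k →ₐ[k] R₀ ⊗[k] SeparableClosure k) a)) := by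
  classical
  haveI : Algebra.IsIntegral k (SeparableClosure k) := Algebra.IsAlgebraic.isIntegral
  haveI hint : Algebra.IsIntegral R₀ (R₀ ⊗[k] SeparableClosure k) := inferInstance
  haveI : IsLocalRing (R₀ ⊗[k] SeparableClosure k) := Groth.Agent.HensH7.isLocalRing_of_integral_domain (B := R₀ ⊗[k] SeparableClosure k) R₀
  have hinj : Function.Injective (algebraMap R₀ (R₀ ⊗[k] SeparableClosure k)) :=
    fun x y h => Algebra.TensorProduct.includeLeft_injective (S := R₀) (A := R₀) (algebraMap k (SeparableClosure k)).injective (by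
      erw [Algebra.TensorProduct.algebraMap_apply, Algebra.TensorProduct.algebraMap_apply] at h
      exact h)
  haveI hloc : IsLocalHom (algebraMap R₀ (R₀ ⊗[k] SeparableClosure k)) := by
    refine ⟨fun a ha => ?_⟩
    by_contra h
    have hmax := Ideal.isMaximal_comap_of_isIntegral_of_isMaximal (R := R₀) (S := R₀ ⊗[k] SeparableClosure k)
      (IsLocalRing.maximalIdeal (R₀ ⊗[k] SeparableClosure k))
    have h1 : a ∈ (IsLocalRing.maximalIdeal (R₀ ⊗[k] SeparableClosure k)).comap (algebraMap R₀ _) := by
      rw [IsLocalRing.eq_maximalIdeal hmax]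
      exact h
    exact h1 ha
  haveI hh := Groth.Agent.Hens.henselianLocalRing_of_isIntegral R₀ (R₀ ⊗[k] SeparableClosure k)
  refine ⟨hh, ?_, (Groth.Agent.VarDim.ringKrullDim_eq_of_isIntegral (R := R₀) (S := R₀ ⊗[k] SeparableClosure k) hinj).trans hdim, fun z => ?_⟩
  · refine (Groth.Agent.RamSam27.isIntegrallyClosed_of_isNormalRing_local _ (Groth.Agent.NormalBC6.isNormalRing_of_directed fun s => ?_)).2
    have hspan : ∀ x : R₀ ⊗[k] SeparableClosure k, ∃ S : Finset (R₀ × SeparableClosure k),
        x = ∑ i ∈ S, i.1 ⊗ₜ[k] i.2 := fun x => TensorProduct.exists_finset x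
    choose S hS using hspan
    let L : IntermediateField k (SeparableClosure k) :=
      IntermediateField.adjoin k ((s.biUnion fun x => (S x).image Prod.snd : Finset _) : Set (SeparableClosure k))
    haveI : FiniteDimensional k L :=
      IntermediateField.finiteDimensional_adjoin fun x _ => Algebra.IsIntegral.isIntegral x
    haveI : Algebra.IsSeparable k L := Algebra.isSeparable_tower_bot_of_isSeparable k L (SeparableClosure k)
    haveI : Algebra.FormallyEtale k L := Algebra.FormallyEtale.of_isSeparable k L
    haveI : Algebra.Etale k L := { finitePresentation := Algebra.FinitePresentation.of_finiteType.1 inferInstance }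
    haveI : Algebra.Etale R₀ (R₀ ⊗[k] L) := inferInstance
    haveI : Module.Finite R₀ (R₀ ⊗[k] L) := inferInstance
    refine ⟨R₀ ⊗[k] L, inferInstance, (Algebra.TensorProduct.map (AlgHom.id R₀ R₀) L.val).toRingHom, fun q hq => ?_,
      Module.Flat.lTensor_preserves_injective_linearMap (M := R₀) L.val.toLinearMap L.val.injective, fun x hx => ?_⟩
    · haveI : IsDomain (Localization.AtPrime (q.under R₀)) := inferInstance
      haveI : IsIntegrallyClosed (Localization.AtPrime (q.under R₀)) :=
        isIntegrallyClosed_of_isLocalization _ _ (q.under R₀).primeCompl_le_nonZeroDivisors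
      exact Groth.Agent.Disc25.isNormal_localization (A := R₀) (B := R₀ ⊗[k] L) q
    · have hmem : ∀ i ∈ S x, i.2 ∈ L := fun i hi => IntermediateField.subset_adjoin k _
        (Finset.mem_coe.2 (Finset.mem_biUnion.2 ⟨x, hx, Finset.mem_image.2 ⟨i, hi, rfl⟩⟩))
      refine ⟨∑ i ∈ (S x).attach, i.1.1 ⊗ₜ[k] (⟨i.1.2, hmem i.1 i.2⟩ : L), ?_⟩
      rw [map_sum]
      refine Eq.trans (Finset.sum_congr rfl fun i _ => ?_)
        (((S x).sum_attach (fun i => i.1 ⊗ₜ[k] i.2)).trans (hS x).symm)
      rfl
  · obtain ⟨x, rfl⟩ := IsLocalRing.residue_surjective z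
    induction x with
    | zero => exact ⟨0, by simp⟩
    | tmul r a =>
      obtain ⟨c, hc⟩ := hres (IsLocalRing.residue R₀ r)
      refine ⟨c • a, ?_⟩
      have hd : r - algebraMap k R₀ c ∈ IsLocalRing.maximalIdeal R₀ := by
        rw [← IsLocalRing.residue_eq_zero_iff, map_sub, sub_eq_zero]
        exact hc.symm
      have hd' : algebraMap R₀ (R₀ ⊗[k] SeparableClosure k) (r - algebraMap k R₀ c) ∈
          IsLocalRing.maximalIdeal (R₀ ⊗[k] SeparableClosure k) :=
        fun h => hd (hloc.map_nonunit _ h)
      have heq : (r ⊗ₜ[k] a - (1 : R₀) ⊗ₜ[k] (c • a) : R₀ ⊗[k] SeparableClosure k) =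
          ((r - algebraMap k R₀ c) ⊗ₜ[k] (1 : SeparableClosure k)) * ((1 : R₀) ⊗ₜ[k] a) := by
        rw [Algebra.TensorProduct.tmul_mul_tmul, mul_one, one_mul, TensorProduct.sub_tmul,
          Algebra.algebraMap_eq_smul_one, TensorProduct.smul_tmul]
      show IsLocalRing.residue _ ((1 : R₀) ⊗ₜ[k] (c • a)) = _
      rw [eq_comm, ← sub_eq_zero, ← map_sub, IsLocalRing.residue_eq_zero_iff, heq]
      exact Ideal.mul_mem_right _ _ hd'
    | add x y hx hy =>
      obtain ⟨a, ha⟩ := hx
      obtain ⟨b, hb⟩ := hy
      exact ⟨a + b, by simp only [map_add] at ha hb ⊢; rw [ha, hb]⟩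

end Groth.Agent.S13417
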