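import Groth.Statements.S13419
import Groth.Agent.Lib.NeronMap.Basic

set_option autoImplicit false
universe u
open CategoryTheory AlgebraicGeometry
open NeronHD

namespace Groth.Agent.S13419

/-- Let S be a locally Noetherian scheme over a field of characteristic 0, S₀ ⊆ S₁ ⊆ S opens with S₀
scheme-theoretically dense in S, and N a smooth S-scheme. If N has the Néron mapping property for S₁
⊆ S and the restriction N|S₁ has the Néron mapping property for S₀ ⊆ S₁ (in both cases: restriction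
of morphisms from smooth schemes over the base is bijective), then N has the Néron mapping property
for S₀ ⊆ S. (Case of schemes, with smooth test schemes, of a statement about algebraic spaces.) -/
theorem result {k : Type u} [Field k] [CharZero k] {S : Scheme.{u}} (σ : S ⟶ Spec (CommRingCat.of k)) [IsLocallyNoetherian S] (S₀ S₁ : S.Opens) (h01 : S₀ ≤ S₁) (hS₀ : CInt.IsSchematicallyDense S₀)
    (N : Over S) [Smooth N.hom]
    (hN1 : ∀ Z : Over S, Smooth Z.hom → Function.Bijective (fun g : Z ⟶ N => (Over.pullback S₁.ι).map g))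
    (hN10 : ∀ Z : Over (S₁ : Scheme.{u}), Smooth Z.hom → Function.Bijective (fun g : Z ⟶ (Over.pullback S₁.ι).obj N => (Over.pullback (S₁.ι ⁻¹ᵁ S₀).ι).map g)) :
    ∀ Z : Over S, Smooth Z.hom → Function.Bijective (fun g : Z ⟶ N => (Over.pullback S₀.ι).map g) := by
  intro Z hZ
  haveI := hZ
  have e : (S₁.ι ⁻¹ᵁ S₀ : (S₁ : Scheme).Opens).ι ≫ S₁.ι = (Scheme.Opens.ι _ ≫ S₁.ι) := rfl
  let i := IsOpenImmersion.isoOfRangeEq ((S₁.ι ⁻¹ᵁ S₀).ι ≫ S₁.ι) S₀.ι (by
    simp [Set.range_comp]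
    ext x
    exact ⟨fun ⟨a, ha, hax⟩ => hax ▸ ha, fun h => ⟨⟨x, h01 h⟩, h, rfl⟩⟩)
  refine Groth.Agent.NeronMap.ext_of_iso ((S₁.ι ⁻¹ᵁ S₀).ι ≫ S₁.ι) i.symm S₀.ι ?_ ?_
  · exact (IsOpenImmersion.isoOfRangeEq_inv_fac ((S₁.ι ⁻¹ᵁ S₀).ι ≫ S₁.ι) S₀.ι (by simp [Set.range_comp]; ext x; exact ⟨fun ⟨a, ha, hax⟩ => hax ▸ ha, fun h => ⟨⟨x, h01 h⟩, h, rfl⟩⟩)).symm
  · exact Groth.Agent.NeronMap.ext_comp _ S₁.ι _ rfl (hN1 Z hZ)
      (hN10 _ (MorphismProperty.pullback_snd (P := @Smooth) Z.hom S₁.ι hZ))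

end Groth.Agent.S13419
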