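import Groth.Statements.S1342
import Groth.Agent.Lib.FibreCM5.Basic
-- import your own Groth.Agent.* helpers here

set_option autoImplicit false
universe u
open FlatMor

namespace Groth.Agent.S1342

open AlgebraicGeometry CategoryTheory Limits in
/-- For a flat morphism locally of finite presentation, the formation of the Cohen–Macaulay locus
commutes with arbitrary base change: in a cartesian square the Cohen–Macaulay locus of the
base-changed morphism is the preimage of the Cohen–Macaulay locus of f. -/
theorem result {X S X' S' : Scheme.{u}} (f : X ⟶ S) [Flat f] [LocallyOfFinitePresentation f]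
    (f' : X' ⟶ S') (g' : X' ⟶ X) (g : S' ⟶ S) (hc : IsPullback g' f' f g) :
    {x' : ↑X' | MoreMor.IsCMAt f' x'} = g' ⁻¹' {x : ↑X | MoreMor.IsCMAt f x} := by
  haveI : Flat f' := MorphismProperty.of_isPullback hc ‹Flat f›
  ext x'
  exact ⟨fun h => ⟨Flat.stalkMap f _, (Groth.Agent.FibreCM5.isCM_fibre_bc_iff hc x').1 h.2⟩,
    fun h => ⟨Flat.stalkMap f' _, (Groth.Agent.FibreCM5.isCM_fibre_bc_iff hc x').2 h.2⟩⟩

end Groth.Agent.S1342
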