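import Groth.Statements.S13422
import Groth.Agent.Lib.SectThrough19.Basic
import Groth.Agent.Lib.NeronMap.Basic
import Groth.Agent.Lib.NeronMap.Dense
import Mathlib.AlgebraicGeometry.AlgClosed.Basic

set_option autoImplicit false
universe u
open CategoryTheory AlgebraicGeometry
open NeronHD

namespace Groth.Agent.S13422

open Limits

set_option linter.style.haveILetI false
set_option backward.isDefEq.respectTransparency.types false

/-- Let S be a locally Noetherian scheme over a field of characteristic 0, S₀ ⊆ S a scheme-theoretically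
dense open, and N a smooth S-scheme with the weak Néron mapping property for S₀ ⊆ S: for every étale
S-scheme U, restriction to S₀ is a bijection from S-morphisms U → N onto S₀-morphisms U|S₀ → N|S₀.
Then N has the uniqueness half of the Néron mapping property: for every smooth S-scheme Z,
restriction of S-morphisms Z → N to S₀ is injective. (Case of schemes of a statement about algebraic
spaces.) -/
theorem result {k : Type u} [Field k] [CharZero k] {S : Scheme.{u}} (σ : S ⟶ Spec (CommRingCat.of k)) [IsLocallyNoetherian S] (S₀ : S.Opens) (hS₀ : CInt.IsSchematicallyDense S₀)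
    (N : Over S) [Smooth N.hom]
    (hN : ∀ U : Over S, Etale U.hom → Function.Bijective (fun g : U ⟶ N => (Over.pullback S₀.ι).map g))
    (Z : Over S) [Smooth Z.hom] :
    Function.Injective (fun g : Z ⟶ N => (Over.pullback S₀.ι).map g) := by
  intro g₁ g₂ hg
  have hg₀ : pullback.fst Z.hom S₀.ι ≫ g₁.left = pullback.fst Z.hom S₀.ι ≫ g₂.left :=
    (NeronMap.map_eq_iff S₀.ι g₁ g₂).1 hg
  let pr : Z.left ⟶ pullback N.hom N.hom := pullback.lift g₁.left g₂.left ((Over.w g₁).trans (Over.w g₂).symm)
  have hp1 : pr ≫ pullback.fst N.hom N.hom = g₁.left := pullback.lift_fst _ _ _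
  have hp2 : pr ≫ pullback.snd N.hom N.hom = g₂.left := pullback.lift_snd _ _ _
  let e := pullback.fst pr (pullback.diagonal N.hom)
  haveI : IsImmersion e := MorphismProperty.pullback_fst _ _ inferInstance
  have hfac : ∀ {W : Scheme.{u}} (w : W ⟶ Z.left), w ≫ g₁.left = w ≫ g₂.left →
      ∃ l, l ≫ e = w := fun w hw => ⟨pullback.lift w (w ≫ g₁.left) (by
        apply pullback.hom_ext
        · rw [Category.assoc, hp1, Category.assoc, pullback.diagonal_fst, Category.comp_id]
        · rw [Category.assoc, hp2, Category.assoc, pullback.diagonal_snd, Category.comp_id, hw]),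
      pullback.lift_fst _ _ _⟩
  have hall : ∀ z : Z.left, z ∈ Set.range e := by
    intro z
    let s := Z.hom z
    let Ω := AlgebraicClosure (S.residueField s)
    let σΩ : Spec (CommRingCat.of Ω) ⟶ S :=
      Spec.map (CommRingCat.ofHom (algebraMap (S.residueField s) Ω)) ≫ S.fromSpecResidueField s
    haveI : CharZero Ω := by
      let φ : k →+* Ω := (algebraMap (S.residueField s) Ω).comp
        (Spec.preimage (S.fromSpecResidueField s ≫ σ)).hom
      exact charZero_of_injective_ringHom φ.injective
    let G := pullback Z.hom σΩ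
    let pr₂ : G ⟶ Spec (CommRingCat.of Ω) := pullback.snd Z.hom σΩ
    let pr₁ : G ⟶ Z.left := pullback.fst Z.hom σΩ
    haveI : LocallyOfFiniteType pr₂ := inferInstanceAs (LocallyOfFiniteType (pullback.snd Z.hom σΩ))
    haveI : JacobsonSpace G := LocallyOfFiniteType.jacobsonSpace pr₂
    let A : Set G := pr₁ ⁻¹' Set.range e
    have hA : IsLocallyClosed A := e.isLocallyClosed_range.preimage pr₁.continuous
    have hclosed : ∀ x ∈ closedPoints G, x ∈ A := by
      intro x hx
      let t₀ : Spec (CommRingCat.of Ω) ⟶ G := pointOfClosedPoint pr₂ x hx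
      have ht₀ : t₀ ≫ pr₂ = 𝟙 _ := pointOfClosedPoint_comp pr₂ x hx
      have ht : (t₀ ≫ pr₁) ≫ Z.hom = σΩ := by
        rw [Category.assoc, pullback.condition, ← Category.assoc]
        exact (congrArg (· ≫ σΩ) ht₀).trans (Category.id_comp _)
      obtain ⟨U, g, h, w, hg, hh, hw⟩ :=
        SectThrough19.exists_etale_section_through Z.hom s Ω (t₀ ≫ pr₁) ht
      let Uo : Over S := Over.mk g
      let b₁ : Uo ⟶ N := Over.homMk (h ≫ g₁.left) (by rw [Category.assoc, Over.w]; exact hh)
      let b₂ : Uo ⟶ N := Over.homMk (h ≫ g₂.left) (by rw [Category.assoc, Over.w]; exact hh)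
      have hb : b₁ = b₂ := by
        refine (hN Uo hg).1 ((NeronMap.map_eq_iff S₀.ι b₁ b₂).2 ?_)
        have := congrArg (pullback.lift (pullback.fst g S₀.ι ≫ h) (pullback.snd g S₀.ι)
          (by rw [Category.assoc, hh, pullback.condition]) ≫ ·) hg₀
        simp only [pullback.lift_fst_assoc, Category.assoc] at this
        exact this
      obtain ⟨l, hl⟩ := hfac (t₀ ≫ pr₁) (by
        rw [← hw, Category.assoc, Category.assoc]
        exact congrArg (fun b : Uo ⟶ N => w ≫ b.left) hb)
      refine ⟨l (IsLocalRing.closedPoint Ω), ?_⟩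
      rw [← Scheme.Hom.comp_apply, hl, Scheme.Hom.comp_apply]
      exact congrArg pr₁ (pointOfClosedPoint_apply pr₂ x hx _)
    have hcl : closure A = Set.univ := by
      refine Set.univ_subset_iff.1 ?_
      rw [← closure_closedPoints (X := G)]
      exact closure_mono hclosed
    have hAo : IsOpen A := by
      obtain ⟨O, C, hO, hC, hAOC⟩ := hA
      have hCu : C = Set.univ := Set.univ_subset_iff.1 (hcl ▸ closure_minimal (hAOC ▸ Set.inter_subset_right) hC)
      rw [hAOC, hCu, Set.inter_univ]
      exact hO
    have hAu : A = Set.univ := by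
      by_contra hne
      obtain ⟨x, hx, hxc⟩ := nonempty_inter_closedPoints (Set.nonempty_compl.2 hne)
        hAo.isClosed_compl.isLocallyClosed
      exact hx (hclosed x hxc)
    obtain ⟨p, hp, -⟩ := Scheme.Pullback.exists_preimage_pullback (f := Z.hom) (g := σΩ) z
      (IsLocalRing.closedPoint Ω) (by
        rw [Scheme.Hom.comp_apply, Scheme.fromSpecResidueField_apply])
    have : p ∈ A := hAu ▸ Set.mem_univ p
    rw [← hp]
    exact this
  haveI : IsClosedImmersion e :=
    IsClosedImmersion.of_isPreimmersion e (by rw [Set.eq_univ_of_forall hall]; exact isClosed_univ)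
  haveI : IsLocallyNoetherian Z.left := LocallyOfFiniteType.isLocallyNoetherian Z.hom
  haveI : IsSchemeTheoreticallyDominant S₀.ι := ⟨NeronMap.ker_ι_eq_bot hS₀⟩
  haveI : IsSchemeTheoreticallyDominant (pullback.fst Z.hom S₀.ι) := inferInstance
  obtain ⟨l₀, hl₀⟩ := hfac (pullback.fst Z.hom S₀.ι) hg₀
  haveI : IsIso e := by
    refine IsClosedImmersion.isIso_iff_ker_eq_bot.2 (le_bot_iff.1 ?_)
    calc e.ker ≤ (l₀ ≫ e).ker := Scheme.Hom.le_ker_comp _ _
      _ = ⊥ := by rw [hl₀, Scheme.Hom.ker_eq_bot]
  have he : e ≫ g₁.left = e ≫ g₂.left := by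
    have h := pullback.condition (f := pr) (g := pullback.diagonal N.hom)
    have h1 := congrArg (· ≫ pullback.fst N.hom N.hom) h
    have h2 := congrArg (· ≫ pullback.snd N.hom N.hom) h
    simp only [Category.assoc, pullback.diagonal_fst, pullback.diagonal_snd, Category.comp_id, hp1, hp2] at h1 h2
    exact h1.trans h2.symm
  exact Over.OverMorphism.ext ((cancel_epi e).1 he)

end Groth.Agent.S13422
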