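import Groth.Statements.S13424
import Groth.Agent.Lib.Aligned15.Closure
-- import your own Groth.Agent.* helpers here

set_option autoImplicit false
universe u
open CategoryTheory AlgebraicGeometry
open GrpSch

namespace Groth.Agent.S13424

/-- Let S be a normal, locally Noetherian scheme over a field of characteristic 0. Let p : G → S and q :
H → S be smooth morphisms with sections e_G and e_H, and f : G → H an étale morphism over S with f ∘
e_G = e_H (the case in view: an étale homomorphism of smooth group schemes and their unit sections).
Call such a pointed S-scheme aligned when the scheme-theoretic image of its section is étale over S.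
If H is aligned then G is aligned. (The published statement has an arbitrary locally Noetherian
base; over the reducible curve xy = 0 the étale group scheme obtained from two copies of the base
glued along the complement of one branch maps to the trivial group by an étale homomorphism and is
not aligned, so the base is taken normal here, where the closure of the section is a union of
connected components of the preimage of the image of e_H. Schemes only.) -/
theorem result {k : Type u} [Field k] [CharZero k] {S : Scheme.{u}} (σ : S ⟶ Spec (CommRingCat.of k)) [IsLocallyNoetherian S] (hS : Pi1.IsNormalScheme S)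
    {G H : Scheme.{u}} (p : G ⟶ S) (q : H ⟶ S) [Smooth p] [Smooth q]
    (eG : S ⟶ G) (eH : S ⟶ H) (heG : eG ≫ p = 𝟙 S) (heH : eH ≫ q = 𝟙 S)
    (f : G ⟶ H) [Etale f] (hf : f ≫ q = p) (hfe : eG ≫ f = eH)
    (hH : Etale (eH.ker.subschemeι ≫ q)) :
    Etale (eG.ker.subschemeι ≫ p) := by

  haveI := hH
  set iH := eH.ker.subschemeι with hiH
  let π : Limits.pullback f iH ⟶ S := Limits.pullback.snd f iH ≫ iH ≫ q
  let s : S ⟶ Limits.pullback f iH := Limits.pullback.lift eG eH.toImage
    (by rw [hfe]; exact eH.toImage_imageι.symm)
  have hs : s ≫ π = 𝟙 S := by
    simp only [s, π, Limits.pullback.lift_snd_assoc]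
    rw [← Category.assoc]
    erw [eH.toImage_imageι]
    exact heH
  haveI : IsClosedImmersion (Limits.pullback.fst f iH) := MorphismProperty.pullback_fst _ _ inferInstance
  haveI : Etale (Limits.pullback.snd f iH) := MorphismProperty.pullback_snd _ _ inferInstance
  have hi : Limits.pullback.fst f iH ≫ p = π := by
    show _ = Limits.pullback.snd f iH ≫ iH ≫ q
    rw [← hf, Limits.pullback.condition_assoc]
  have h := Groth.Agent.Aligned15.etale_ker_subschemeι
    (Groth.Agent.NormalExt19.isNormalScheme_of_smooth π hS) π s hs (Limits.pullback.fst f iH) p hi
  have he : s ≫ Limits.pullback.fst f iH = eG := Limits.pullback.lift_fst _ _ _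
  rwa [he] at h


end Groth.Agent.S13424
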