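import Groth.Statements.S13425
import Groth.Agent.S2415
import Mathlib.AlgebraicGeometry.AlgClosed.Basic
import Mathlib.AlgebraicGeometry.Morphisms.UniversallyInjective
import Mathlib.FieldTheory.PurelyInseparable.Basic
import Mathlib.FieldTheory.Perfect
-- import your own Groth.Agent.* helpers here

set_option autoImplicit false
universe u
open CategoryTheory AlgebraicGeometry
open NeronHD

namespace Groth.Agent.S13425

/-- Let k be a characteristic-zero algebraically closed field and X, Y integral schemes, separated and
of finite type over k, with Y normal, and let f : X → Y be a dominant k-morphism which is injective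
on k-rational points. Then f is an open immersion. (Case of schemes of a statement about algebraic
spaces.) -/
theorem result {k : Type u} [Field k] [IsAlgClosed k] [CharZero k]
    {X Y : Scheme.{u}} (sX : X ⟶ Spec (CommRingCat.of k)) (sY : Y ⟶ Spec (CommRingCat.of k))
    [IsIntegral X] [IsIntegral Y] [IsSeparated sX] [IsSeparated sY]
    [LocallyOfFiniteType sX] [QuasiCompact sX] [LocallyOfFiniteType sY] [QuasiCompact sY]
    (hY : Pi1.IsNormalScheme Y)
    (f : X ⟶ Y) (hf : f ≫ sY = sX) [IsDominant f]
    (hinj : ∀ a b : Spec (CommRingCat.of k) ⟶ X, a ≫ sX = 𝟙 _ → b ≫ sX = 𝟙 _ → a ≫ f = b ≫ f → a = b) :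
    IsOpenImmersion f := by
  subst hf
  haveI : IsSeparated f := IsSeparated.of_comp f sY
  haveI : LocallyOfFiniteType f := locallyOfFiniteType_of_comp f sY
  haveI : QuasiCompact f := QuasiCompact.of_comp f sY
  haveI hinjU : UniversallyInjective f := by
    rw [UniversallyInjective.iff_diagonal]
    let P := Limits.pullback f f
    let sP : P ⟶ Spec (CommRingCat.of k) := Limits.pullback.fst f f ≫ f ≫ sY
    haveI : JacobsonSpace P := LocallyOfFiniteType.jacobsonSpace sP
    refine ⟨fun p => ?_⟩
    have hcl : IsClosed (Set.range (Limits.pullback.diagonal f).base) :=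
      (Limits.pullback.diagonal f).isClosedEmbedding.isClosed_range
    suffices h : closure (closedPoints P) ⊆ Set.range (Limits.pullback.diagonal f).base by
      exact h (by rw [closure_closedPoints]; trivial)
    refine closure_minimal (fun q hq => ?_) hcl
    let π : Spec (CommRingCat.of k) ⟶ P := pointOfClosedPoint sP q hq
    have hπ : π ≫ sP = 𝟙 _ := pointOfClosedPoint_comp sP q hq
    have e : π ≫ Limits.pullback.fst f f = π ≫ Limits.pullback.snd f f := by
      refine hinj _ _ ?_ ?_ ?_
      · rw [Category.assoc]; exact hπ
      · rw [Category.assoc, ← Limits.pullback.condition_assoc]; exact hπ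
      · rw [Category.assoc, Category.assoc, Limits.pullback.condition]
    refine ⟨(π ≫ Limits.pullback.fst f f).base (IsLocalRing.closedPoint k), ?_⟩
    have e2 : (π ≫ Limits.pullback.fst f f) ≫ Limits.pullback.diagonal f = π := by
      apply Limits.pullback.hom_ext <;> simp [e]
    show ((π ≫ Limits.pullback.fst f f) ≫ Limits.pullback.diagonal f).base _ = q
    rw [e2]
    exact pointOfClosedPoint_apply sP q hq _
  have hgen : f.base (genericPoint X) = genericPoint Y :=
    ((genericPoint_spec X).image f.continuous).eq (by
      rw [show closure (f.base '' Set.univ) = Set.univ by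
        rw [Set.image_univ]; exact f.denseRange.closure_range]
      exact genericPoint_spec Y)
  haveI : IsLocallyNoetherian Y := LocallyOfFiniteType.isLocallyNoetherian sY
  refine (Groth.Agent.S2415.result hY f hgen ?_ fun y => ?_).1
  · set x := genericPoint X
    have hy : f.base x = genericPoint Y := hgen
    have hYF : IsField (Y.presheaf.stalk (f.base x)) := by rw [hy]; exact Field.toIsField _
    have hp := ((tfae_universallyInjective f).out 0 2).1 hinjU
    have hsurj : Function.Surjective (f.residueFieldMap x).hom := by
      letI := (f.residueFieldMap x).hom.toAlgebra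
      haveI : IsPurelyInseparable (Y.residueField (f.base x)) (X.residueField x) := hp.2 x
      haveI : CharZero (Y.residueField (f.base x)) :=
        charZero_of_injective_ringHom (Spec.preimage (Y.fromSpecResidueField (f.base x) ≫ sY)).hom.injective
      haveI : Algebra.IsAlgebraic (Y.residueField (f.base x)) (X.residueField x) := inferInstance
      exact IsPurelyInseparable.surjective_algebraMap_of_isSeparable (Y.residueField (f.base x)) (X.residueField x)
    have hbot : ∀ {Z : Scheme.{u}} (z : Z), IsField (Z.presheaf.stalk z) →
        Function.Bijective (Z.residue z).hom := fun {Z} z hF => by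
      refine ⟨(injective_iff_map_eq_zero _).2 fun a ha => ?_, Z.residue_surjective z⟩
      letI := hF.toField
      by_contra h0
      exact ((IsLocalRing.residue_eq_zero_iff a).1 ha) (isUnit_iff_ne_zero.2 h0)
    have hX := hbot x (Field.toIsField _)
    have hYb := hbot (f.base x) hYF
    refine (ConcreteCategory.isIso_iff_bijective _).2 ⟨?_, fun b => ?_⟩
    · intro a a' haa
      exact hYb.1 ((f.residueFieldMap x).hom.injective (by
        rw [← CommRingCat.comp_apply, ← CommRingCat.comp_apply, Scheme.residue_residueFieldMap,
          CommRingCat.comp_apply, CommRingCat.comp_apply, haa]))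
    · obtain ⟨a', ha'⟩ := hsurj ((X.residue x).hom b)
      obtain ⟨a, rfl⟩ := hYb.2 a'
      refine ⟨a, hX.1 ?_⟩
      rw [← ha', ← CommRingCat.comp_apply, ← CommRingCat.comp_apply, Scheme.residue_residueFieldMap]
  · exact (Set.finite_singleton y).preimage f.injective.injOn

end Groth.Agent.S13425
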