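import Groth.Statements.S13426
import Groth.Agent.Lib.Aligned15.Basic
-- import your own Groth.Agent.* helpers here

set_option autoImplicit false
universe u
open CategoryTheory MonoidalCategory CartesianMonoidalCategory MonObj GrpObj AlgebraicGeometry
open GrpSch

namespace Groth.Agent.S13426

/-- Let S be a locally Noetherian scheme over a field of characteristic 0, S₀ ⊆ S a scheme-theoretically
dense open, and G a smooth S-scheme with the weak Néron mapping property for S₀ ⊆ S: for every étale
S-scheme U, restriction to S₀ is a bijection from S-morphisms U → G onto S₀-morphisms. Let H be a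
smooth group scheme over S together with a monomorphism H → G of S-schemes (the case in view: G a
group scheme and H a subgroup scheme), and assume that H is aligned, i.e. the scheme-theoretic image
of its unit section is étale over S, and that H ×_S S₀ → S₀ is separated. Then H → S is separated.
(Case of schemes of a statement about group algebraic spaces; only the injectivity of H → G on
morphisms is used of the subgroup condition.) -/
theorem result {k : Type u} [Field k] [CharZero k] {S : Scheme.{u}} (σ : S ⟶ Spec (CommRingCat.of k)) [IsLocallyNoetherian S] (S₀ : S.Opens) (hS₀ : CInt.IsSchematicallyDense S₀)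
    (G : Over S) [Smooth G.hom]
    (hG : ∀ U : Over S, Etale U.hom → Function.Bijective (fun g : U ⟶ G => (Over.pullback S₀.ι).map g))
    (H : Over S) [GrpObj H] [Smooth H.hom] (j : H ⟶ G) [Mono j.left]
    (hal : Etale (η[H].left.ker.subschemeι ≫ H.hom))
    (h0 : IsSeparated (Limits.pullback.snd H.hom S₀.ι)) :
    IsSeparated H.hom := by

  haveI := hal
  haveI : IsLocallyNoetherian H.left := LocallyOfFiniteType.isLocallyNoetherian H.hom
  let e : S ⟶ H.left := η[H].left
  have he : e ≫ H.hom = 𝟙 S := Over.w η[H]
  haveI : QuasiCompact (e ≫ H.hom) := by rw [he]; infer_instance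
  haveI : QuasiCompact e := QuasiCompact.of_comp e H.hom
  set iE := e.ker.subschemeι
  let U : Over S := Over.mk (iE ≫ H.hom)
  let g₁ : U ⟶ H := Over.homMk iE rfl
  let g₂ : U ⟶ H := Over.homMk ((iE ≫ H.hom) ≫ e) (by
    show ((iE ≫ H.hom) ≫ e) ≫ H.hom = iE ≫ H.hom
    rw [Category.assoc, he, Category.comp_id])
  have key := Groth.Agent.Aligned15.fst_subschemeι_eq H.hom e he S₀.ι h0
  have h : g₁ ≫ j = g₂ ≫ j := by
    apply (hG U hal).1
    apply Over.OverMorphism.ext
    apply Limits.pullback.hom_ext
    · simp only [Over.pullback_map_left, Limits.pullback.lift_fst]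
      show Limits.pullback.fst (iE ≫ H.hom) S₀.ι ≫ iE ≫ j.left =
        Limits.pullback.fst (iE ≫ H.hom) S₀.ι ≫ ((iE ≫ H.hom) ≫ e) ≫ j.left
      rw [reassoc_of% key, Category.assoc, Category.assoc]
    · simp only [Over.pullback_map_left, Limits.pullback.lift_snd]
  have hι : iE = (iE ≫ H.hom) ≫ e := (cancel_mono j.left).1 (congrArg CommaMorphism.left h)
  have hr : IsClosed (Set.range e) := by
    have : Set.range e = Set.range iE := by
      refine Set.Subset.antisymm ?_ ?_
      · rw [Scheme.IdealSheafData.range_subschemeι]; exact e.range_subset_ker_support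
      · rintro _ ⟨z, rfl⟩
        exact ⟨(iE ≫ H.hom) z, (congrArg (fun m : _ ⟶ H.left => m z) hι).symm⟩
    rw [this, Scheme.IdealSheafData.range_subschemeι]
    exact e.ker.support.isClosed
  haveI : IsImmersion (e ≫ H.hom) := by rw [he]; infer_instance
  haveI : IsImmersion e := IsImmersion.of_comp e H.hom
  haveI : IsClosedImmersion η[H].left := IsClosedImmersion.of_isPreimmersion _ hr
  exact Groth.Agent.Aligned15.isSeparated_of_isClosedImmersion_one H


end Groth.Agent.S13426
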