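import Groth.Statements.S13428
import Groth.Agent.Lib.EtDense19.Basic
import Groth.Agent.Lib.NeronMap.Basic
import Groth.Agent.Lib.NeronMap.Dense
import Groth.Agent.Lib.AbRigid.Epi
import Mathlib.AlgebraicGeometry.Morphisms.SchemeTheoreticallyDominant
import Mathlib.AlgebraicGeometry.Morphisms.FlatMono

set_option autoImplicit false
universe u
open CategoryTheory AlgebraicGeometry
open NeronHD

namespace Groth.Agent.S13428

open Limits

set_option linter.style.haveILetI false
set_option backward.isDefEq.respectTransparency.types false

/-- Let S be a normal Noetherian scheme over a field of characteristic 0 and S₀ ⊆ S a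
scheme-theoretically dense open. Let N be a smooth, separated and quasi-compact S-scheme with the
Néron mapping property for S₀ ⊆ S (restriction to S₀ of S-morphisms from smooth S-schemes is
bijective) such that N|S₀ → S₀ is étale, so that N is a quasi-projective Néron model of the
quasi-projective étale S₀-scheme N|S₀. If M is a separated, quasi-compact, étale S-scheme and φ : M
→ N is an S-morphism restricting to an isomorphism over S₀ (so M is another quasi-projective étale
extension of N|S₀, and φ is its canonical map to the Néron model), then φ is an open immersion.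
(Case of schemes of the published statement.) -/
theorem result {k : Type u} [Field k] [CharZero k] {S : Scheme.{u}} (σ : S ⟶ Spec (CommRingCat.of k)) [IsNoetherian S] (hS : Pi1.IsNormalScheme S) (S₀ : S.Opens) (hS₀ : CInt.IsSchematicallyDense S₀)
    (N : Over S) [Smooth N.hom] [IsSeparated N.hom] [QuasiCompact N.hom]
    (hN : ∀ Z : Over S, Smooth Z.hom → Function.Bijective (fun g : Z ⟶ N => (Over.pullback S₀.ι).map g))
    [Etale ((Over.pullback S₀.ι).obj N).hom]
    (M : Over S) [Etale M.hom] [IsSeparated M.hom] [QuasiCompact M.hom]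
    (φ : M ⟶ N) [IsIso ((Over.pullback S₀.ι).map φ)] :
    IsOpenImmersion φ.left := by
  haveI : IsSchemeTheoreticallyDominant S₀.ι := ⟨NeronMap.ker_ι_eq_bot hS₀⟩
  have hdom : ∀ {Z : Scheme.{u}} (q : Z ⟶ S) [Smooth q], IsDominant (pullback.fst q S₀.ι) := fun q _ => by
    haveI : IsSchemeTheoreticallyDominant (pullback.fst q S₀.ι) := inferInstance
    infer_instance
  -- `N` is etale over `S`
  haveI : Etale N.hom := by
    let d := pullback.fst N.hom S₀.ι
    haveI := hdom N.hom
    haveI : Etale (pullback.snd N.hom S₀.ι) := ‹Etale ((Over.pullback S₀.ι).obj N).hom›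
    haveI : Etale (d.opensRange.ι ≫ N.hom) := by
      rw [← d.isoOpensRange_inv_comp, Category.assoc, pullback.condition]
      infer_instance
    exact EtDense19.etale_of_smooth_of_dense N.hom d.opensRange d.denseRange
  haveI : Etale (φ.left ≫ N.hom) := by rw [Over.w φ]; infer_instance
  haveI : IsSeparated (φ.left ≫ N.hom) := by rw [Over.w φ]; infer_instance
  haveI : Etale φ.left := Etale.of_comp φ.left N.hom
  haveI : IsSeparated φ.left := IsSeparated.of_comp φ.left N.hom
  -- the diagonal is surjective
  let π₁ := pullback.fst φ.left φ.left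
  let π₂ := pullback.snd φ.left φ.left
  let p := π₁ ≫ M.hom
  haveI : Smooth p := inferInstance
  haveI := hdom p
  let d := pullback.fst p S₀.ι
  have hπ : π₂ ≫ M.hom = p := by
    show π₂ ≫ M.hom = π₁ ≫ M.hom
    rw [← Over.w φ, ← Category.assoc, ← Category.assoc, ← pullback.condition]
  let a : pullback p S₀.ι ⟶ pullback M.hom S₀.ι := pullback.lift (d ≫ π₁) (pullback.snd _ _)
    (by rw [Category.assoc]; exact pullback.condition)
  let b : pullback p S₀.ι ⟶ pullback M.hom S₀.ι := pullback.lift (d ≫ π₂) (pullback.snd _ _)
    (by rw [Category.assoc, hπ]; exact pullback.condition)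
  let φ₀ : pullback M.hom S₀.ι ⟶ pullback N.hom S₀.ι := ((Over.pullback S₀.ι).map φ).left
  haveI : Mono φ₀ := by
    haveI : IsIso φ₀ := inferInstanceAs (IsIso ((Over.forget _).map ((Over.pullback S₀.ι).map φ)))
    infer_instance
  have hfst : φ₀ ≫ pullback.fst N.hom S₀.ι = pullback.fst M.hom S₀.ι ≫ φ.left := NeronMap.map_left_fst S₀.ι φ
  have hsnd : φ₀ ≫ pullback.snd N.hom S₀.ι = pullback.snd M.hom S₀.ι := Over.w ((Over.pullback S₀.ι).map φ)
  have hab : a = b := by
    rw [← cancel_mono φ₀]
    apply pullback.hom_ext
    · rw [Category.assoc, Category.assoc, hfst, pullback.lift_fst_assoc, pullback.lift_fst_assoc, Category.assoc,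
        Category.assoc, pullback.condition]
    · rw [Category.assoc, Category.assoc, hsnd, pullback.lift_snd, pullback.lift_snd]
  have he : d ≫ π₁ = d ≫ π₂ := by
    have := congrArg (· ≫ pullback.fst M.hom S₀.ι) hab
    simpa only [a, b, pullback.lift_fst] using this
  have hd : d = (d ≫ π₁) ≫ pullback.diagonal φ.left := by
    apply pullback.hom_ext
    · simp [π₁]
    · rw [Category.assoc, pullback.diagonal_snd, Category.comp_id]
      exact he.symm
  haveI : Surjective (pullback.diagonal φ.left) := ⟨fun q => by
    refine closure_minimal ?_ (pullback.diagonal φ.left).isClosedEmbedding.isClosed_range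
      (d.denseRange q)
    rintro _ ⟨w, rfl⟩
    exact ⟨(d ≫ π₁) w, congrArg (fun m => m w) hd.symm⟩⟩
  haveI : IsOpenImmersion (pullback.diagonal φ.left) := inferInstance
  haveI : IsIso (pullback.diagonal φ.left) :=
    (isIso_iff_isOpenImmersion_and_surjective _).2 ⟨inferInstance, inferInstance⟩
  haveI : Mono φ.left := (pullback.isIso_diagonal_iff φ.left).1 inferInstance
  exact IsOpenImmersion.of_flat_of_mono φ.left

end Groth.Agent.S13428
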