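import Groth.Statements.S13432
import Groth.Agent.Lib.NormalExt19.Basic
import Groth.Agent.Lib.NeronGlue19.Dense
import Groth.Agent.Lib.NeronMap.Basic
import Groth.Agent.Lib.NeronMap.Dense
import Groth.Agent.Lib.Descend.BaseChangeAt

set_option autoImplicit false
universe u
open CategoryTheory AlgebraicGeometry
open NeronHD

namespace Groth.Agent.S13432

open Limits

set_option linter.style.haveILetI false
set_option backward.isDefEq.respectTransparency.types false

/-- Let S be a normal Noetherian scheme over a field of characteristic 0 and S₀ ⊆ S a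
scheme-theoretically dense open. Let π : T → S be finite with T normal, and let N ⊆ T be the open
subscheme where π is smooth (equivalently étale, π being finite). Then N → S has the Néron mapping
property for S₀ ⊆ S: for every smooth S-scheme Z, restriction to S₀ is a bijection from S-morphisms
Z → N onto S₀-morphisms Z|S₀ → N|S₀. (In the published statement T is the normal finite S-scheme
compactifying a given quasi-projective étale S-scheme and N is the maximal quasi-projective étale
scheme containing it; that origin of T plays no role in this part of the proof, so any finite T → S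
with T normal is allowed here. Case of schemes, with smooth test schemes, of a statement about
algebraic spaces.) -/
theorem result {k : Type u} [Field k] [CharZero k] {S : Scheme.{u}} (σ : S ⟶ Spec (CommRingCat.of k)) [IsNoetherian S] (hS : Pi1.IsNormalScheme S) (S₀ : S.Opens) (hS₀ : CInt.IsSchematicallyDense S₀)
    {T : Scheme.{u}} (π : T ⟶ S) [IsFinite π] [LocallyOfFinitePresentation π] (hT : Pi1.IsNormalScheme T) :
    ∀ Z : Over S, Smooth Z.hom → Function.Bijective (fun g : Z ⟶ Over.mk (π.smoothLocus.ι ≫ π) => (Over.pullback S₀.ι).map g) := by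
  intro Z hZs
  haveI := hZs
  haveI : IsLocallyNoetherian Z.left := LocallyOfFiniteType.isLocallyNoetherian Z.hom
  have hZn : Pi1.IsNormalScheme Z.left := NormalExt19.isNormalScheme_of_smooth Z.hom hS
  haveI : IsReduced Z.left := NeronGlue19.isReduced_of_isDomain fun y => (hZn y).1
  haveI : IsSchemeTheoreticallyDominant S₀.ι := ⟨NeronMap.ker_ι_eq_bot hS₀⟩
  let d := pullback.fst Z.hom S₀.ι
  haveI : IsSchemeTheoreticallyDominant d := inferInstanceAs (IsSchemeTheoreticallyDominant (pullback.fst Z.hom S₀.ι))
  haveI : IsOpenImmersion d := inferInstanceAs (IsOpenImmersion (pullback.fst Z.hom S₀.ι))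
  haveI : QuasiCompact d := inferInstance
  haveI : IsDominant d := inferInstance
  let N : Over S := Over.mk (π.smoothLocus.ι ≫ π)
  haveI : IsSeparated N.hom := inferInstanceAs (IsSeparated (π.smoothLocus.ι ≫ π))
  refine (NeronMap.ext_iff S₀.ι (N := N)).2 fun h w => ?_
  change pullback Z.hom S₀.ι ⟶ (π.smoothLocus : Scheme.{u}) at h
  change h ≫ π.smoothLocus.ι ≫ π = d ≫ Z.hom at w
  let h' := h ≫ π.smoothLocus.ι
  have key : ∀ y : Z.left, ∃ a : Spec (Z.left.presheaf.stalk y) ⟶ T,
      a ≫ π = Z.left.fromSpecStalk y ≫ Z.hom ∧ NeronGlue19.Compat d h' y a := by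
    intro y
    haveI := (hZn y).1
    haveI := (hZn y).2
    let O := Z.left.presheaf.stalk y
    let K := FractionRing O
    let j : Spec (CommRingCat.of K) ⟶ Spec O := Spec.map (CommRingCat.ofHom (algebraMap O K))
    obtain ⟨x₀, hx₀⟩ := NormalExt19.gen_mem_range y d
    have hr : Set.range (j ≫ Z.left.fromSpecStalk y) ⊆ Set.range d := by
      rintro _ ⟨z, rfl⟩
      refine ⟨x₀, ?_⟩
      rw [hx₀, Scheme.Hom.comp_apply]
      exact congrArg (Z.left.fromSpecStalk y) (NormalExt19.fromSpec_fraction y K z).symm
    let k₀ := IsOpenImmersion.lift d (j ≫ Z.left.fromSpecStalk y) hr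
    have hk₀ : k₀ ≫ d = j ≫ Z.left.fromSpecStalk y := IsOpenImmersion.lift_fac _ _ _
    obtain ⟨a, ha, hja⟩ := NormalExt19.exists_lift_finite K π (Z.left.fromSpecStalk y ≫ Z.hom) (k₀ ≫ h') (by
      show (k₀ ≫ h ≫ π.smoothLocus.ι) ≫ π = _
      rw [Category.assoc, Category.assoc, w, reassoc_of% hk₀]
      rfl)
    refine ⟨a, ha, fun {T'} t t' htt => ?_⟩
    let Q := pullback d (Z.left.fromSpecStalk y)
    suffices hQ : pullback.snd d (Z.left.fromSpecStalk y) ≫ a = pullback.fst d (Z.left.fromSpecStalk y) ≫ h' by
      have := congrArg (pullback.lift t' t htt.symm ≫ ·) hQ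
      simpa only [pullback.lift_snd_assoc, pullback.lift_fst_assoc] using this
    let l : Spec (CommRingCat.of K) ⟶ Q := pullback.lift k₀ j hk₀
    haveI : IsReduced (Spec O) := inferInstance
    haveI : IsReduced Q := isReduced_of_isOpenImmersion (pullback.snd d (Z.left.fromSpecStalk y))
    haveI : IsDominant l := by
      have hs : pullback.snd d (Z.left.fromSpecStalk y) (l (IsLocalRing.closedPoint K)) = NormalExt19.gen y := by
        rw [← Scheme.Hom.comp_apply, pullback.lift_snd]
        exact NormalExt19.fromSpec_fraction y K _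
      refine ⟨fun q => ?_⟩
      have h1 : l (IsLocalRing.closedPoint K) ⤳ q :=
        (pullback.snd d (Z.left.fromSpecStalk y)).isOpenEmbedding.isInducing.specializes_iff.1
          (hs ▸ NormalExt19.gen_specializes y _)
      exact h1.mem_closed isClosed_closure (subset_closure (Set.mem_range_self _))
    refine ext_of_isDominant_of_isSeparated π ?_ l ?_
    · show (_ ≫ a) ≫ π = (_ ≫ h ≫ π.smoothLocus.ι) ≫ π
      rw [Category.assoc, ha, Category.assoc, Category.assoc, w, pullback.condition_assoc]
    · rw [pullback.lift_snd_assoc, pullback.lift_fst_assoc]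
      exact hja
  choose a ha hc using key
  obtain ⟨g, hg, hdg⟩ := NeronGlue19.exists_extend_open Z.hom π d h' a ha hc
  have hmem : ∀ z : Z.left, g z ∈ π.smoothLocus := by
    intro z
    let P := pullback π Z.hom
    haveI : IsFinite (pullback.snd π Z.hom) := MorphismProperty.pullback_snd _ _ ‹_›
    haveI : LocallyOfFinitePresentation (pullback.snd π Z.hom) := MorphismProperty.pullback_snd _ _ ‹_›
    haveI : Smooth (pullback.fst π Z.hom) := MorphismProperty.pullback_fst _ _ hZs
    let s : Z.left ⟶ P := pullback.lift g (𝟙 _) (by rw [hg, Category.id_comp])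
    have hs := NormalExt19.section_mem_smoothLocus (pullback.snd π Z.hom)
      (NormalExt19.isNormalScheme_of_smooth (pullback.fst π Z.hom) hT) hZn s (pullback.lift_snd _ _ _) z
    have := Descend.mem_smoothLocus_of_flat_baseChange (IsPullback.of_hasPullback π Z.hom) (s z) hs
    rwa [← Scheme.Hom.comp_apply, pullback.lift_fst] at this
  let g₀ := IsOpenImmersion.lift π.smoothLocus.ι g (by
    rintro _ ⟨z, rfl⟩
    rw [Scheme.Opens.range_ι]
    exact hmem z)
  have hg₀ : g₀ ≫ π.smoothLocus.ι = g := IsOpenImmersion.lift_fac _ _ _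
  let G : Z ⟶ N := Over.homMk g₀ (by
    show g₀ ≫ π.smoothLocus.ι ≫ π = Z.hom
    rw [reassoc_of% hg₀, hg])
  have hG : d ≫ g₀ = h := by
    rw [← cancel_mono π.smoothLocus.ι, Category.assoc, hg₀, hdg]
  refine ⟨G, hG, fun g' hg' => ?_⟩
  exact Over.OverMorphism.ext
    (ext_of_isDominant_of_isSeparated N.hom ((Over.w g').trans (Over.w G).symm) d (hg'.trans hG.symm))

end Groth.Agent.S13432
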