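import Groth.Statements.S13429
import Groth.Agent.S13432
import Groth.Agent.Lib.NeronEt19.Exists
import Groth.Agent.Lib.EtDense19.Basic
import Groth.Agent.Lib.NeronMap.Basic

set_option autoImplicit false
universe u
open CategoryTheory AlgebraicGeometry
open NeronHD

namespace Groth.Agent.S13429

open Limits TopologicalSpace

set_option linter.style.haveILetI false
set_option backward.isDefEq.respectTransparency.types false

/-- Let S be a normal Noetherian scheme over a field of characteristic 0, S₀ ⊆ S a scheme-theoretically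
dense open, and N₀ → S₀ separated, quasi-compact and étale (a quasi-projective étale S₀-scheme).
Then N₀ has a quasi-projective Néron model: there exist a separated, quasi-compact, étale S-scheme N
and an isomorphism of S₀-schemes N|S₀ ≅ N₀ such that N has the Néron mapping property for S₀ ⊆ S,
i.e. for every smooth S-scheme Z restriction to S₀ is a bijection from S-morphisms Z → N onto
S₀-morphisms Z|S₀ → N|S₀ (this determines N up to unique isomorphism). (Case of schemes, with smooth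
test schemes, of the published statement.) -/
theorem result {k : Type u} [Field k] [CharZero k] {S : Scheme.{u}} (σ : S ⟶ Spec (CommRingCat.of k)) [IsNoetherian S] (hS : Pi1.IsNormalScheme S) (S₀ : S.Opens) (hS₀ : CInt.IsSchematicallyDense S₀)
    (N₀ : Over (S₀ : Scheme.{u})) [Etale N₀.hom] [IsSeparated N₀.hom] [QuasiCompact N₀.hom] :
    ∃ (N : Over S) (e : (Over.pullback S₀.ι).obj N ≅ N₀), Etale N.hom ∧ IsSeparated N.hom ∧ QuasiCompact N.hom ∧
      ∀ Z : Over S, Smooth Z.hom → Function.Bijective (fun g : Z ⟶ N => (Over.pullback S₀.ι).map g) := by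
  haveI : IsLocallyNoetherian (S₀ : Scheme.{u}) := inferInstance
  haveI : QuasiCompact S₀.ι := inferInstance
  let f := N₀.hom ≫ S₀.ι
  obtain ⟨T, j, π, hj, hjd, hπ, hT, hjπ⟩ := NeronEt19.exists_normal_compactification hS f
  haveI := hj; haveI := hjd; haveI := hπ
  haveI : IsLocallyNoetherian T := LocallyOfFiniteType.isLocallyNoetherian π
  haveI : LocallyOfFinitePresentation π := inferInstance
  let Ts : T.Opens := π.smoothLocus
  have hjTs : j.opensRange ≤ Ts := by
    rintro _ ⟨x, rfl⟩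
    show x ∈ j ⁻¹ᵁ π.smoothLocus
    rw [Scheme.Hom.preimage_smoothLocus_eq]
    haveI : Smooth (j ≫ π) := hjπ ▸ inferInstance
    rw [Scheme.Hom.smoothLocus_eq_top]
    trivial
  haveI hTsS : Smooth (Ts.ι ≫ π) := by
    haveI : LocallyOfFinitePresentation (Ts.ι ≫ π) := inferInstance
    rw [← Scheme.Hom.smoothLocus_eq_top_iff, ← Scheme.Hom.preimage_smoothLocus_eq, eq_top_iff]
    exact fun x _ => x.2
  haveI hTsE : Etale (Ts.ι ≫ π) := by
    let j' := IsOpenImmersion.lift Ts.ι j (by rw [Scheme.Opens.range_ι]; exact hjTs)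
    have hj' : j' ≫ Ts.ι = j := IsOpenImmersion.lift_fac _ _ _
    haveI : IsOpenImmersion (j' ≫ Ts.ι) := hj'.symm ▸ hj
    haveI : IsOpenImmersion j' := IsOpenImmersion.of_comp j' Ts.ι
    haveI : Etale (j'.opensRange.ι ≫ Ts.ι ≫ π) := by
      rw [← j'.isoOpensRange_inv_comp, Category.assoc, ← Category.assoc j' Ts.ι π, hj', hjπ]
      infer_instance
    refine EtDense19.etale_of_smooth_of_dense (Ts.ι ≫ π) j'.opensRange ?_
    have hd := (j.denseRange : Dense (Set.range j)).preimage Ts.ι.isOpenEmbedding.isOpenMap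
    refine hd.mono ?_
    rintro w ⟨x, hx⟩
    refine ⟨x, Ts.ι.isOpenEmbedding.injective ?_⟩
    rw [← Scheme.Hom.comp_apply, hj', hx]
  let E : Set T := {t | π t ∈ S₀ ∧ t ∉ Set.range j}
  let W : T.Opens := ⟨(Ts : Set T) ∩ (closure E)ᶜ, Ts.2.inter isClosed_closure.isOpen_compl⟩
  have hWT : W ≤ Ts := fun t ht => ht.1
  have hjW : Set.range j ⊆ (W : Set T) := fun t ht => ⟨hjTs ht, fun h => by
    obtain ⟨e, he, heE⟩ := mem_closure_iff.1 h _ j.opensRange.2 ht
    exact heE.2 he⟩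
  haveI : Etale (W.ι ≫ π) := by
    rw [← T.homOfLE_ι hWT, Category.assoc]
    infer_instance
  let j₀ := IsOpenImmersion.lift W.ι j (by rw [Scheme.Opens.range_ι]; exact hjW)
  have hj₀ : j₀ ≫ W.ι = j := IsOpenImmersion.lift_fac _ _ _
  haveI : IsOpenImmersion (j₀ ≫ W.ι) := hj₀.symm ▸ hj
  haveI : IsOpenImmersion j₀ := IsOpenImmersion.of_comp j₀ W.ι
  have hw : j₀ ≫ W.ι ≫ π = N₀.hom ≫ S₀.ι := by rw [← Category.assoc, hj₀, hjπ]
  have hp : IsPullback j₀ N₀.hom (W.ι ≫ π) S₀.ι := (IsOpenImmersion.isPullback N₀.hom j₀ S₀.ι (W.ι ≫ π) hw (by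
    ext w
    simp only [Scheme.Opens.opensRange_ι]
    constructor
    · intro hw0
      by_contra hne
      exact w.2.2 (subset_closure ⟨hw0, fun ⟨x, hx⟩ => hne ⟨x, W.ι.isOpenEmbedding.injective (by
        rw [← Scheme.Hom.comp_apply, hj₀, hx]; rfl)⟩⟩)
    · rintro ⟨x, rfl⟩
      show (W.ι ≫ π) (j₀ x) ∈ S₀
      rw [← Scheme.Hom.comp_apply, hw]
      exact (N₀.hom x).2)).flip
  let N : Over S := Over.mk (W.ι ≫ π)
  refine ⟨N, (Over.isoMk hp.isoPullback hp.isoPullback_hom_snd).symm, ‹Etale (W.ι ≫ π)›,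
    inferInstanceAs (IsSeparated (W.ι ≫ π)), inferInstanceAs (QuasiCompact (W.ι ≫ π)), fun Z hZ => ?_⟩
  haveI := hZ
  have hbig := S13432.result σ hS S₀ hS₀ π hT Z hZ
  refine (NeronMap.ext_iff S₀.ι (N := N)).2 fun h w => ?_
  change pullback Z.hom S₀.ι ⟶ (W : Scheme.{u}) at h
  change h ≫ W.ι ≫ π = pullback.fst Z.hom S₀.ι ≫ Z.hom at w
  obtain ⟨G, hG, huniq⟩ := (NeronMap.ext_iff S₀.ι (N := Over.mk (Ts.ι ≫ π))).1 hbig (h ≫ T.homOfLE hWT) (by
    show (h ≫ T.homOfLE hWT) ≫ Ts.ι ≫ π = _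
    rw [Category.assoc, Scheme.homOfLE_ι_assoc, w])
  dsimp only at hG huniq
  haveI : Smooth (G.left ≫ Ts.ι ≫ π) := by
    rw [show G.left ≫ Ts.ι ≫ π = Z.hom from Over.w G]
    exact hZ
  haveI : FormallyUnramified (Ts.ι ≫ π) := inferInstance
  haveI : Smooth G.left := NeronMap.smooth_of_comp G.left (Ts.ι ≫ π)
  have hr : Set.range (G.left ≫ Ts.ι) ⊆ Set.range W.ι := by
    rw [Scheme.Opens.range_ι]
    rintro _ ⟨z, rfl⟩
    refine ⟨(G.left z).2, fun hcl => ?_⟩
    have hop : IsOpen (Ts.ι '' Set.range G.left) :=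
      Ts.ι.isOpenEmbedding.isOpenMap _ G.left.isOpenMap.isOpen_range
    obtain ⟨_, ⟨_, ⟨z', rfl⟩, rfl⟩, hE⟩ := mem_closure_iff.1 hcl _ hop ⟨G.left z, ⟨z, rfl⟩, rfl⟩
    have hz' : z' ∈ Set.range (pullback.fst Z.hom S₀.ι) := by
      rw [IsOpenImmersion.range_pullbackFst, Scheme.Opens.opensRange_ι]
      show Z.hom z' ∈ S₀
      rw [← Over.w G]
      exact hE.1
    obtain ⟨p, rfl⟩ := hz'
    have e : (pullback.fst Z.hom S₀.ι ≫ G.left ≫ Ts.ι) = h ≫ W.ι := by
      rw [← Category.assoc, hG, Category.assoc, Scheme.homOfLE_ι]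
    have hmem : W.ι (h p) ∉ closure E := (h p).2.2
    refine hmem (subset_closure ?_)
    rw [← Scheme.Hom.comp_apply, ← e]
    exact hE
  let g₀ := IsOpenImmersion.lift W.ι (G.left ≫ Ts.ι) hr
  have hg₀ : g₀ ≫ W.ι = G.left ≫ Ts.ι := IsOpenImmersion.lift_fac _ _ _
  refine ⟨Over.homMk g₀ (by
    show g₀ ≫ W.ι ≫ π = Z.hom
    rw [reassoc_of% hg₀]
    exact Over.w G), ?_, fun g hg => ?_⟩
  · show pullback.fst Z.hom S₀.ι ≫ g₀ = h
    rw [← cancel_mono W.ι, Category.assoc, hg₀, ← Category.assoc, hG, Category.assoc, Scheme.homOfLE_ι]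
  · have := huniq (Over.homMk (g.left ≫ T.homOfLE hWT) (by
      show (g.left ≫ T.homOfLE hWT) ≫ Ts.ι ≫ π = Z.hom
      rw [Category.assoc, Scheme.homOfLE_ι_assoc]
      exact Over.w g)) (by
      show pullback.fst Z.hom S₀.ι ≫ g.left ≫ T.homOfLE hWT = _
      rw [← Category.assoc, hg])
    refine Over.OverMorphism.ext ?_
    show g.left = g₀
    rw [← cancel_mono W.ι, hg₀, ← this]
    show g.left ≫ W.ι = (g.left ≫ T.homOfLE hWT) ≫ Ts.ι
    rw [Category.assoc, Scheme.homOfLE_ι]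

end Groth.Agent.S13429
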