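import Groth.Statements.S1343
import Groth.Agent.S4949
import Groth.Agent.Lib.CMChart4
import Groth.Agent.Lib.SchBasic.Basic

set_option autoImplicit false
universe u
open FlatMor

set_option backward.isDefEq.respectTransparency.types false

namespace Groth.Agent.S1343

open AlgebraicGeometry CategoryTheory Limits in
/-- (1) ⇔ (3): let f be flat and locally of finite presentation and let x be a point whose fibre has
local dimension d at x. Then f is Cohen–Macaulay at x if and only if some open neighbourhood of x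
admits a flat, locally quasi-finite morphism to affine d-space over the base, compatible with the
structure morphisms. -/
theorem result {X S : Scheme.{u}} (f : X ⟶ S) [Flat f] [LocallyOfFinitePresentation f]
    (x : X) (d : ℕ) (hd : FlatMor.fibreDimAt f x = d) :
    MoreMor.IsCMAt f x ↔ ∃ (U : X.Opens) (g : (U : Scheme.{u}) ⟶ 𝔸(ULift.{u} (Fin d); S)), x ∈ U ∧
      g ≫ (𝔸(ULift.{u} (Fin d); S) ↘ S) = U.ι ≫ f ∧ Flat g ∧ LocallyQuasiFinite g := by
  constructor
  · intro h
    obtain ⟨n, W, hxW, g, hg, hqf, hfl, hn⟩ := Groth.Agent.CMEquiDim4.exists_flat_qf_toAffineSpace_dim f h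
    rw [hd] at hn
    obtain rfl : d = n := by exact_mod_cast hn
    haveI : LocallyOfFinitePresentation (g ≫ (𝔸(ULift.{u} (Fin d); S) ↘ S)) := hg.symm ▸ inferInstance
    haveI : LocallyOfFinitePresentation g := Groth.Agent.SchBasic.locallyOfFinitePresentation_of_comp g (𝔸(ULift.{u} (Fin d); S) ↘ S)
    let O : (W : Scheme.{u}).Opens := ⟨{y | (g.stalkMap y).hom.Flat}, Groth.Agent.FlatH4.isOpen_flatLocus g⟩
    refine ⟨W.ι ''ᵁ O, (W.ι.isoImage O).inv ≫ O.ι ≫ g, ⟨⟨x, hxW⟩, hfl, rfl⟩, ?_, ?_, inferInstance⟩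
    · rw [Category.assoc, Category.assoc, hg, ← Category.assoc, ← Category.assoc, Category.assoc _ O.ι,
        ← Scheme.Hom.isoImage_hom_ι W.ι O, Iso.inv_hom_id_assoc]
    · haveI : Flat (O.ι ≫ g) := by
        refine Flat.iff_flat_stalkMap _ |>.2 fun y => ?_
        rw [Groth.Agent.FlatH4.flat_stalkMap_comp_left_iff]
        exact y.2
      infer_instance
  · rintro ⟨U, g, hx, hg, hfl, hqf⟩
    exact (Groth.Agent.S4949.result f x).2 ⟨d, U, hx, g, hg, hqf, Flat.stalkMap g _⟩

end Groth.Agent.S1343
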