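import Groth.Statements.S13430
-- import your own Groth.Agent.* helpers here

set_option autoImplicit false
universe u
open CategoryTheory MonoidalCategory CartesianMonoidalCategory MonObj GrpObj AlgebraicGeometry
open NeronHD

namespace Groth.Agent.S13430

set_option linter.style.haveILetI false
set_option backward.isDefEq.respectTransparency.types false

/-- The implication ⇐: let S be a locally Noetherian scheme over a field of characteristic 0 and S₀ ⊆ S
a scheme-theoretically dense open. Let G be a smooth group scheme over S and N a smooth S-scheme,
both with the Néron mapping property for S₀ ⊆ S (restriction to S₀ of S-morphisms from smooth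
S-schemes is bijective), and let a be an action of G on N over S whose translation map G ×_S N → N
×_S N, (g, x) ↦ (g·x, x), restricts to an isomorphism over S₀, so that N|S₀ is a pseudo-torsor under
G|S₀ and a is the unique extension of that action. If N → S is surjective, then the translation map
is an isomorphism: N is a pseudo-torsor under G over all of S (and then a torsor for the étale
topology, N → S being smooth and surjective). (Case of schemes of a statement about group algebraic
spaces; the converse 'torsor ⇒ surjective' presumes local triviality.) -/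
theorem result {k : Type u} [Field k] [CharZero k] {S : Scheme.{u}} (σ : S ⟶ Spec (CommRingCat.of k)) [IsLocallyNoetherian S] (S₀ : S.Opens) (hS₀ : CInt.IsSchematicallyDense S₀)
    (G : Over S) [GrpObj G] [Smooth G.hom]
    (hG : ∀ Z : Over S, Smooth Z.hom → Function.Bijective (fun g : Z ⟶ G => (Over.pullback S₀.ι).map g))
    (N : Over S) [Smooth N.hom] [Surjective N.hom]
    (hN : ∀ Z : Over S, Smooth Z.hom → Function.Bijective (fun g : Z ⟶ N => (Over.pullback S₀.ι).map g))
    (a : AlgGrp.Action G N)
    (h0 : IsIso ((Over.pullback S₀.ι).map (lift a.act (snd G N)))) :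
    NonAbH1.IsPseudoTorsorSch a := by
  let F := Over.pullback S₀.ι
  let sh := lift a.act (snd G N)
  haveI : IsIso (F.map sh) := h0
  haveI : Smooth (G ⊗ N).hom := by
    haveI : Smooth (fst G N).left := MorphismProperty.pullback_fst G.hom N.hom ‹Smooth N.hom›
    rw [← Over.w (fst G N)]; infer_instance
  haveI : Smooth (N ⊗ N).hom := by
    haveI : Smooth (fst N N).left := MorphismProperty.pullback_fst N.hom N.hom ‹Smooth N.hom›
    rw [← Over.w (fst N N)]; infer_instance
  obtain ⟨g, hg⟩ := (hG (N ⊗ N) inferInstance).2 (inv (F.map sh) ≫ F.map (fst G N))
  simp only at hg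
  change F.map g = _ at hg
  have h2 : F.map sh ≫ F.map (snd N N) = F.map (snd G N) := by
    rw [← Functor.map_comp, lift_snd]
  have h2' : inv (F.map sh) ≫ F.map (snd G N) = F.map (snd N N) := by
    rw [← h2, IsIso.inv_hom_id_assoc]
  let t : N ⊗ N ⟶ G ⊗ N := lift g (snd N N)
  have ht : F.map t = inv (F.map sh) := by
    have e1 : F.map t ≫ F.map (fst G N) = inv (F.map sh) ≫ F.map (fst G N) := by
      rw [← Functor.map_comp, lift_fst, hg]
    have e2 : F.map t ≫ F.map (snd G N) = inv (F.map sh) ≫ F.map (snd G N) := by
      rw [← Functor.map_comp, lift_snd, h2']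
    refine (CartesianMonoidalCategory.prodComparisonIso F G N).cancel_iso_hom_right _ _ |>.1 ?_
    rw [CartesianMonoidalCategory.prodComparisonIso_hom, CartesianMonoidalCategory.prodComparison]
    exact CartesianMonoidalCategory.hom_ext _ _ (by simpa using e1) (by simpa using e2)
  show IsIso sh
  refine ⟨t, CartesianMonoidalCategory.hom_ext _ _ ((hG _ inferInstance).1 ?_) ((hN _ inferInstance).1 ?_),
    CartesianMonoidalCategory.hom_ext _ _ ((hN _ inferInstance).1 ?_) ((hN _ inferInstance).1 ?_)⟩
  all_goals (show F.map _ = F.map _; simp only [Functor.map_comp, ht, IsIso.hom_inv_id, IsIso.inv_hom_id,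
    Category.id_comp])

end Groth.Agent.S13430
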