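import Groth.Statements.S13431
import Groth.Agent.Lib.NeronGlue19.Descent

set_option autoImplicit false
universe u
open CategoryTheory MonoidalCategory CartesianMonoidalCategory MonObj GrpObj AlgebraicGeometry
open NeronHD

namespace Groth.Agent.S13431

open CategoryTheory Limits AlgebraicGeometry MonoidalCategory CartesianMonoidalCategory MonObj
open Groth.Agent.NeronGlue19

set_option linter.style.haveILetI false
set_option backward.isDefEq.respectTransparency.types false

/-- Let S be a locally Noetherian scheme over a field of characteristic 0 and S₀ ⊆ S a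
scheme-theoretically dense open. Let G be a smooth group scheme over S and N a smooth S-scheme with
N → S surjective, equipped with an action of G making N a pseudo-torsor: the translation map G ×_S N
→ N ×_S N, (g, x) ↦ (g·x, x), is an isomorphism. Then G has the Néron mapping property for S₀ ⊆ S
(restriction to S₀ of S-morphisms from smooth S-schemes is bijective) if and only if N has it. (The
published statement says 'G-torsor' with torsor defined as an action whose translation map is an
isomorphism; for N empty that holds and N has the mapping property while G need not, so surjectivity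
of N → S — which gives étale-local sections — is assumed here, as the published proof uses. Case of
schemes of a statement about algebraic spaces.) -/
theorem result {k : Type u} [Field k] [CharZero k] {S : Scheme.{u}} (σ : S ⟶ Spec (CommRingCat.of k)) [IsLocallyNoetherian S] (S₀ : S.Opens) (hS₀ : CInt.IsSchematicallyDense S₀)
    (G : Over S) [GrpObj G] [Smooth G.hom]
    (N : Over S) [Smooth N.hom] [Surjective N.hom]
    (a : AlgGrp.Action G N) (ha : NonAbH1.IsPseudoTorsorSch a) :
    (∀ Z : Over S, Smooth Z.hom → Function.Bijective (fun g : Z ⟶ G => (Over.pullback S₀.ι).map g)) ↔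
    (∀ Z : Over S, Smooth Z.hom → Function.Bijective (fun g : Z ⟶ N => (Over.pullback S₀.ι).map g)) := by
  simp only [bijective_iff]
  have hτ : IsIso (lift a.act (snd G N)) := ha
  let τ := lift a.act (snd G N)
  haveI : IsIso τ := hτ
  have hτl : ∀ {T : Over S} (g : T ⟶ G) (x : T ⟶ N), lift g x ≫ τ = lift (lift g x ≫ a.act) x := by
    intro T g x
    rw [comp_lift, lift_snd]
  have hone : ∀ {T : Over S} (x : T ⟶ N), lift (1 : T ⟶ G) x ≫ a.act = x := by
    intro T x
    have h1 : lift (1 : T ⟶ G) x = lift (toUnit T) x ≫ (η[G] ▷ N) := by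
      rw [lift_whiskerRight, Hom.one_def]
    rw [h1, Category.assoc, a.one_act, leftUnitor_hom, lift_snd]
  -- division of points
  have hdiv : ∀ {T : Over S} (x y : T ⟶ N), lift (lift x y ≫ inv τ ≫ fst G N) y ≫ a.act = x := by
    intro T x y
    have h2 : lift x y ≫ inv τ ≫ snd G N = y := by
      have : τ ≫ snd _ _ = snd G N := lift_snd _ _
      rw [← this, IsIso.inv_hom_id_assoc, lift_snd]
    have h3 : lift (lift x y ≫ inv τ ≫ fst G N) y = lift x y ≫ inv τ := by
      apply CartesianMonoidalCategory.hom_ext
      · rw [lift_fst, Category.assoc]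
      · rw [lift_snd, Category.assoc, h2]
    have h4 := congrArg (· ≫ fst N N) (hτl (lift x y ≫ inv τ ≫ fst G N) y)
    simp only [h3, Category.assoc, IsIso.inv_hom_id_assoc, lift_fst] at h4
    rw [h3]
    exact (h4.trans (Category.assoc _ _ _).symm).symm
  have hcancel : ∀ {T : Over S} (g g' : T ⟶ G) (x : T ⟶ N), lift g x ≫ a.act = lift g' x ≫ a.act → g = g' := by
    intro T g g' x h
    have h1 : lift g x ≫ τ = lift g' x ≫ τ := by rw [hτl, hτl, h]
    have h2 := congrArg (· ≫ fst G N) ((cancel_mono τ).1 h1)
    simpa only [lift_fst] using h2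
  constructor
  · intro hG
    have hinj : ∀ W : Over S, Smooth W.hom → Function.Injective (fun g : W ⟶ N => NeronGlue19.ι S₀.ι W ≫ g) := by
      intro W hW f₁ f₂ h
      simp only at h
      let t := lift f₁ f₂ ≫ inv τ ≫ fst G N
      have ht : NeronGlue19.ι S₀.ι W ≫ t = NeronGlue19.ι S₀.ι W ≫ (1 : W ⟶ G) := by
        refine hcancel _ _ (NeronGlue19.ι S₀.ι W ≫ f₂) ?_
        rw [MonObj.comp_one, hone, ← Category.assoc, comp_lift, h]
        exact hdiv _ _
      have ht' := (hG W hW).1 ht
      have h5 := hdiv f₁ f₂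
      rw [show lift f₁ f₂ ≫ inv τ ≫ fst G N = 1 from ht', hone] at h5
      exact h5.symm
    intro Z hZ
    refine ⟨hinj Z hZ, fun h => ?_⟩
    haveI := hZ
    let p : Z ⊗ N ⟶ Z := fst Z N
    haveI : Smooth p.left := MorphismProperty.pullback_fst Z.hom N.hom ‹Smooth N.hom›
    haveI : Surjective p.left := MorphismProperty.pullback_fst Z.hom N.hom ‹Surjective N.hom›
    haveI : Smooth (Z ⊗ N).hom := by rw [← Over.w p]; infer_instance
    let k := lift (resMap S₀.ι p ≫ h) (NeronGlue19.ι S₀.ι (Z ⊗ N) ≫ snd Z N) ≫ inv τ ≫ fst G N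
    obtain ⟨t, ht⟩ := (hG _ inferInstance).2 k
    simp only at ht
    refine exists_of_cover S₀.ι p hinj h (lift t (snd Z N) ≫ a.act) ?_
    rw [← Category.assoc, comp_lift, ht]
    exact hdiv _ _
  · intro hN
    have hinj : ∀ W : Over S, Smooth W.hom → Function.Injective (fun g : W ⟶ G => NeronGlue19.ι S₀.ι W ≫ g) := by
      intro W hW t t' h
      haveI := hW
      simp only at h
      let p : W ⊗ N ⟶ W := fst W N
      haveI : Smooth p.left := MorphismProperty.pullback_fst W.hom N.hom ‹Smooth N.hom›
      haveI : Surjective p.left := MorphismProperty.pullback_fst W.hom N.hom ‹Surjective N.hom›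
      haveI : Smooth (W ⊗ N).hom := by rw [← Over.w p]; infer_instance
      have hp : p ≫ t = p ≫ t' := by
        refine hcancel _ _ (snd W N) ((hN _ inferInstance).1 ?_)
        show NeronGlue19.ι S₀.ι (W ⊗ N) ≫ lift (p ≫ t) (snd W N) ≫ a.act = NeronGlue19.ι S₀.ι (W ⊗ N) ≫ lift (p ≫ t') (snd W N) ≫ a.act
        rw [← Category.assoc, ← Category.assoc, comp_lift, comp_lift, ← resMap_ι_assoc, ← resMap_ι_assoc, h]
      haveI : Epi p.left := inferInstance
      haveI : Epi p := Over.epi_of_epi_left _
      exact (cancel_epi p).1 hp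
    intro Z hZ
    refine ⟨hinj Z hZ, fun h => ?_⟩
    haveI := hZ
    let p : Z ⊗ N ⟶ Z := fst Z N
    haveI : Smooth p.left := MorphismProperty.pullback_fst Z.hom N.hom ‹Smooth N.hom›
    haveI : Surjective p.left := MorphismProperty.pullback_fst Z.hom N.hom ‹Surjective N.hom›
    haveI : Smooth (Z ⊗ N).hom := by rw [← Over.w p]; infer_instance
    obtain ⟨f', hf'⟩ := (hN _ inferInstance).2 (lift (resMap S₀.ι p ≫ h) (NeronGlue19.ι S₀.ι (Z ⊗ N) ≫ snd Z N) ≫ a.act)
    simp only at hf'
    refine exists_of_cover S₀.ι p hinj h (lift f' (snd Z N) ≫ inv τ ≫ fst G N) ?_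
    refine hcancel _ _ (NeronGlue19.ι S₀.ι (Z ⊗ N) ≫ snd Z N) ?_
    rw [← hf', ← Category.assoc (NeronGlue19.ι S₀.ι (Z ⊗ N)), comp_lift]
    exact hdiv _ _

end Groth.Agent.S13431
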