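import Groth.Statements.S13434
import Groth.Agent.Lib.HilbPt29.Piece

set_option autoImplicit false
universe u
open W4c1hilbpn

namespace Groth.Agent.S13434

open W4c1hilbpn in
/-- Let k be an infinite field, n ≥ 2, S the polynomial ring over k in n variables, I a monomial ideal
of S of finite colength and T(I) = Hom_S(I, S/I) with its grading by integer vectors. The graded
piece of T(I) in every multidegree all of whose entries are nonnegative, or all of whose entries are
negative, vanishes, and T(I) is spanned by its pieces of non-constant sign pattern (the spans, over
the sets N of variable indices that are neither empty nor all indices, of the graded pieces whose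
multidegree is negative exactly at N). -/
theorem result (k : Type u) [Field k] [Infinite k]
    (n : ℕ) (hn : 2 ≤ n) (I : Ideal (MvPolynomial (Fin n) k)) (hI : IsMonomial I)
    [Module.Finite k (MvPolynomial (Fin n) k ⧸ I)] :
    (∀ α : Fin n → ℤ, ((∀ i, 0 ≤ α i) ∨ (∀ i, α i < 0)) → tPiece I α = ⊥) ∧
      (⨆ N : {N : Set (Fin n) // N.Nonempty ∧ N ≠ Set.univ}, sigPiece I N.1) = ⊤ := by
  haveI : Nontrivial (Fin n) := Fin.nontrivial_iff_two_le.2 hn
  exact HilbPt29.vanishing hI

end Groth.Agent.S13434
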