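import Groth.Statements.S13439
import Groth.Agent.Lib.HilbPt29.Gens

set_option autoImplicit false
universe u
open W4c1hilbpn

namespace Groth.Agent.S13439

open W4c1hilbpn in
/-- Let k be an infinite field, S = k[x,y,z], and T(I) = Hom_S(I, S/I) graded by triples of integers (a
graded piece is indexed by its multidegree; its sign pattern records which of the three entries are
negative); let I be a strongly stable ideal of finite colength (variables ordered x > y > z). Then x
lies in I if and only if the three graded pieces of T(I) whose sign pattern is negative at exactly
two of the three variables all vanish. (The published statement phrases the right-hand side as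
smoothness of the corresponding point of the Hilbert scheme of points of affine 3-space, which for a
monomial point is equivalent to this vanishing; the row records the vanishing condition, which is
what the argument establishes.) -/
theorem result (k : Type u) [Field k] [Infinite k]
    (I : Ideal (MvPolynomial (Fin 3) k)) (hI : IsStronglyStable I) [Module.Finite k (MvPolynomial (Fin 3) k ⧸ I)] :
    (MvPolynomial.X 0 : MvPolynomial (Fin 3) k) ∈ I ↔
      (sigPiece I ({1, 2} : Set (Fin 3)) = ⊥ ∧ sigPiece I ({0, 2} : Set (Fin 3)) = ⊥ ∧
        sigPiece I ({0, 1} : Set (Fin 3)) = ⊥) := by
  exact HilbPt29.X_zero_mem_iff hI

end Groth.Agent.S13439
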