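import Groth.Statements.S1344
import Groth.Agent.Lib.CMEquiDim4
import Groth.Agent.Lib.VarDim.Irred

set_option autoImplicit false
universe u
open FlatMor

set_option backward.isDefEq.respectTransparency.types false

namespace Groth.Agent.S1344


open AlgebraicGeometry CategoryTheory TopologicalSpace in
theorem dim_opens {X : Scheme.{u}} (U : X.Opens) :
    topologicalKrullDim (U : Set X) = ⨆ z : U, ringKrullDim (X.presheaf.stalk z.1) := by
  show topologicalKrullDim (U : Scheme.{u}) = _
  rw [VarDim.scheme_dim_eq_iSup_height, ← Order.krullDim_eq_iSup_height, Order.krullDim_eq_iSup_coheight]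
  refine iSup_congr fun z => ?_
  rw [← ringKrullDim_stalk_eq_coheight]
  exact ringKrullDim_eq_of_ringEquiv (U.stalkIso z).commRingCatIsoToRingEquiv

theorem iSup_add_le {ι : Sort*} [Nonempty ι] (g : ι → WithBot ℕ∞) (e : ℕ) {D : WithBot ℕ∞}
    (h : ∀ i, g i + (e : WithBot ℕ∞) ≤ D) (hg : ∀ i, 0 ≤ g i) : (⨆ i, g i) + (e : WithBot ℕ∞) ≤ D := by
  obtain ⟨i⟩ := ‹Nonempty ι›
  induction D using WithBot.recBotCoe with
  | bot =>
    have := le_trans (add_le_add_left (hg i) _) (h i)
    rw [zero_add] at this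
    exact absurd this (by simp)
  | coe D =>
    induction D using ENat.recTopCoe with
    | top => exact le_top
    | coe N =>
      have hb : ∀ j, g j ≤ ((N - e : ℕ) : WithBot ℕ∞) := by
        intro j
        have hj := h j
        have hgj := hg j
        generalize g j = a at hj hgj ⊢
        induction a using WithBot.recBotCoe with
        | bot => exact bot_le
        | coe a =>
          induction a using ENat.recTopCoe with
          | top =>
            exfalso
            have h1 : (⊤ : ℕ∞) + (e : ℕ∞) ≤ (N : ℕ∞) := WithBot.coe_le_coe.1 hj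
            rw [top_add] at h1
            exact ENat.natCast_ne_top N (top_le_iff.1 h1)
          | coe n =>
            have : n + e ≤ N := by exact_mod_cast hj
            exact WithBot.coe_le_coe.2 (Nat.cast_le.2 (by omega : n ≤ N - e))
      have he : e ≤ N := by
        have := le_trans (add_le_add_left (hg i) _) (h i)
        rw [zero_add] at this
        exact_mod_cast this
      refine le_trans (add_le_add_left (iSup_le hb) _) ?_
      exact WithBot.coe_le_coe.2 (show ((N - e : ℕ) : ℕ∞) + (e : ℕ∞) ≤ (N : ℕ∞) by exact_mod_cast (by omega : N - e + e ≤ N))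

open AlgebraicGeometry CategoryTheory Limits in
/-- Let f be locally of finite type between locally Noetherian schemes and Cohen–Macaulay at every
point. Then for every point x of the source with image y, the local dimension of the source at x
equals the local dimension of the target at y plus the local dimension at x of the fibre over y. -/
theorem result {X Y : Scheme.{u}} (f : X ⟶ Y) [IsLocallyNoetherian X] [IsLocallyNoetherian Y] [LocallyOfFiniteType f]
    (hf : ∀ x : X, MoreMor.IsCMAt f x) (x : X) :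
    FlatMor.localDim ↑X x = FlatMor.localDim ↑Y (f x) + FlatMor.fibreDimAt f x := by
  haveI : Flat f := Flat.of_stalkMap _ fun z => (hf z).1
  haveI : LocallyOfFinitePresentation f := VarDim.locallyOfFinitePresentation_of_locallyNoetherian f
  obtain ⟨W, hxW, hW⟩ := CMEquiDim4.exists_nhd_fibreDimAt_eq f (hf x)
  obtain ⟨x₀, -, -, hd, -⟩ := FibDim14.exists_fibreDimAt_eq f x
  set e := FibDim14.rd f x₀
  rw [hd]
  have key : ∀ z ∈ W, ∃ b : ℕ, ringKrullDim (X.presheaf.stalk z) = ringKrullDim (Y.presheaf.stalk (f z)) + (b : WithBot ℕ∞) ∧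
      e = FibDim14.rd f z + b := by
    intro z hz
    obtain ⟨b, hb, hb'⟩ := CMEquiDim4.exists_stalk_dim (FibDim14.toPt f (f z)) (f.asFiber z)
    refine ⟨b, ?_, ?_⟩
    · rw [(FlatDepth.stalk_invariants f z).2, ← hb]
    · rw [show FlatMor.localDim (f.fiber (f z)) (f.asFiber z) = FlatMor.fibreDimAt f z from rfl, hW z hz, hd,
        ← FibDim14.rd_fiberι, f.fiberι_asFiber] at hb'
      exact_mod_cast hb'
  refine le_antisymm ?_ ?_
  · obtain ⟨V, hV⟩ := TopDimLib.exists_localDim_eq (X := Y) (f x)
    rw [← hV]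
    refine (TopDimLib.localDim_le_opens (W ⊓ f ⁻¹ᵁ (V.1 : Y.Opens) : X.Opens) ⟨hxW, V.2⟩).trans ?_
    rw [dim_opens]
    refine iSup_le fun z => ?_
    obtain ⟨b, hb, hbe⟩ := key z.1 z.2.1
    rw [hb]
    refine add_le_add ?_ ?_
    · rw [dim_opens (V.1 : Y.Opens)]
      exact le_iSup (fun y : (V.1 : Y.Opens) => ringKrullDim (Y.presheaf.stalk y.1)) ⟨f z.1, z.2.2⟩
    · exact_mod_cast (by omega : b ≤ e)
  · refine le_iInf fun U => ?_
    obtain ⟨U, hxU⟩ := U
    let U' : X.Opens := U ⊓ W
    let V' : Y.Opens := ⟨f '' (U' : Set X), f.isOpenMap _ U'.2⟩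
    have hstep : ∀ y ∈ V', ringKrullDim (Y.presheaf.stalk y) + (e : WithBot ℕ∞) ≤ topologicalKrullDim (U : Set X) := by
      rintro _ ⟨w, hw, rfl⟩
      haveI : JacobsonSpace (f.fiber (f w)) := LocallyOfFiniteType.jacobsonSpace (FibDim14.toPt f (f w))
      let O : Set (f.fiber (f w)) := f.fiberι (f w) ⁻¹' (U' : Set X)
      obtain ⟨c, hcO, hc⟩ := nonempty_inter_closedPoints (Z := O)
        ⟨f.asFiber w, by show f.fiberι _ _ ∈ U'; rw [f.fiberι_asFiber]; exact hw⟩
        (U'.2.preimage (f.fiberι (f w)).continuous).isLocallyClosed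
      let z := f.fiberι (f w) c
      have hfz : f z = f w := by
        have hm : z ∈ Set.range (f.fiberι (f w)) := ⟨c, rfl⟩
        rwa [f.range_fiberι] at hm
      obtain ⟨b, hb, hbe⟩ := key z hcO.2
      have h0 : FibDim14.rd f z = 0 := by
        rw [FibDim14.rd_fiberι]
        exact (VarDim.sdim_eq_zero_iff_isClosed _ c).2 hc
      rw [h0, zero_add] at hbe
      rw [hfz, ← hbe] at hb
      rw [← hb, dim_opens (U : X.Opens)]
      exact le_iSup (fun y : (U : X.Opens) => ringKrullDim (X.presheaf.stalk y.1)) ⟨z, hcO.1⟩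
    refine le_trans (add_le_add_left (TopDimLib.localDim_le_opens V' ⟨x, ⟨hxU, hxW⟩, rfl⟩) _) ?_
    rw [dim_opens V']
    haveI : Nonempty (V' : Set Y) := ⟨⟨f x, x, ⟨hxU, hxW⟩, rfl⟩⟩
    haveI : Nonempty ↥V' := ⟨⟨f x, x, ⟨hxU, hxW⟩, rfl⟩⟩
    exact iSup_add_le _ e (fun y => hstep y.1 y.2) fun y => ringKrullDim_nonneg_of_nontrivial

end Groth.Agent.S1344
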