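import Groth.Statements.S13447
import Groth.Agent.Lib.HilbPt29.BorelApp

set_option autoImplicit false
set_option maxHeartbeats 400000
universe u
open W4c1hilbpn

namespace Groth.Agent.S13447

open W4c1hilbpn in
/-- Let k be a field and S = k[x_0, ..., x_n] with its standard grading; for an ideal I write Hom_S(I,
S/I)_0 for the degree-0 homomorphisms (for a monomial ideal: the span of the multigraded pieces
whose multidegree has entry sum 0). Let n ≥ 4, q ≥ 1 and r be natural numbers with r + 3 ≤ n and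
either r ≥ 2, or r = 1 and q ≥ 3, and let I = x_0·(x_0, ..., x_{n-1}) + x_1^q·(x_1, ..., x_{n-r-1}).
Then Hom_S(I, S/I)_0 has dimension 3n - 1 + (n-r-2)(r+1) + C(n+q-1, n-1). (The published statement
gives this as the dimension of the tangent space to the Hilbert scheme at the point I, identified
with Hom_S(I, S/I)_0 through the comparison of graded pieces with global sections; the row records
the dimension count itself. The published statement also assumes r + 3 ≤ n, through its standing
conventions; for r = n − 2 the count is different.) -/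
theorem result (k : Type u) [Field k] (n q r : ℕ) (hn : 4 ≤ n)
    (hq : 1 ≤ q) (hr : r + 3 ≤ n) (hcase : 2 ≤ r ∨ (r = 1 ∧ 3 ≤ q)) :
    Module.finrank k ↥(⨆ α : {α : Fin (n + 1) → ℤ // ∑ i, α i = 0}, tPiece (Ideal.span ({f : MvPolynomial (Fin (n + 1)) k | ∃ i : Fin (n + 1), i.val + 1 ≤ n ∧ f = MvPolynomial.X 0 * MvPolynomial.X i} ∪ {f : MvPolynomial (Fin (n + 1)) k | ∃ i : Fin (n + 1), 1 ≤ i.val ∧ i.val ≤ n - r - 1 ∧ f = MvPolynomial.X 1 ^ q * MvPolynomial.X i})) α.1) =
      3 * n - 1 + (n - r - 2) * (r + 1) + Nat.choose (n + q - 1) (n - 1) := by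
  rw [HilbPt29.Borel.finrank_family n q (n - r - 1) (by omega) (by omega) hq ∅ ?_ (fun γ h => absurd h (Finset.notMem_empty γ))]
  · obtain ⟨t, rfl⟩ : ∃ t, n = t + r + 3 := ⟨n - r - 3, by omega⟩
    rw [show t + r + 3 - r - 1 = t + 2 by omega, show t + r + 3 - r - 2 = t + 1 by omega,
      show t + r + 3 - (t + 2) = r + 1 by omega, Finset.card_empty, add_mul, add_mul]
    have : 0 < (t + r + 3 + q - 1).choose (t + r + 3 - 1) := Nat.choose_pos (by omega)
    omega
  · intro γ hd _ _ _ hbe
    right
    have hoS : (1 : Fin (n + 1)) ∈ Finset.univ.filter fun i : Fin (n + 1) => 1 ≤ i.val ∧ i.val ≤ n - r - 1 := by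
      simp [Fin.val_one', Nat.mod_eq_of_lt (show 1 < n + 1 by omega)]; omega
    rcases hcase with hr2 | ⟨-, hq3⟩
    · refine ⟨⟨n - 2, by omega⟩, ?_, ?_, ?_, fun hb => hbe ?_⟩
      · rw [Ne, Fin.ext_iff]; simp; omega
      · rw [Ne, Fin.ext_iff]; simp; omega
      · rw [Ne, Fin.ext_iff]; simp; omega
      rw [HilbPt29.Borel.be_two hoS] at hb ⊢
      rw [Finsupp.add_apply, Finsupp.single_eq_of_ne (by
        rw [Ne, Fin.ext_iff]; simp [Fin.val_one', Nat.mod_eq_of_lt (show 1 < n + 1 by omega)]; omega), add_zero] at hb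
      simp only [Finsupp.add_apply, Finset.sum_add_distrib, HilbPt29.Borel.sum_single] at hb
      rw [if_neg (by simp; omega), add_zero] at hb
      exact hb
    · refine ⟨⟨2, by omega⟩, ?_, ?_, ?_, fun hb => ?_⟩
      · rw [Ne, Fin.ext_iff]; simp
      · rw [Ne, Fin.ext_iff]; simp; omega
      · rw [Ne, Fin.ext_iff]; simp; omega
      exact HilbPt29.Borel.not_be_two_of_lt (by simp [Finsupp.degree_single, hd]; omega) hb

end Groth.Agent.S13447
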