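import Groth.Statements.S13448
import Groth.Agent.Lib.HilbPt29.BorelApp

set_option autoImplicit false
set_option maxHeartbeats 400000
universe u
open W4c1hilbpn

namespace Groth.Agent.S13448

open W4c1hilbpn in
/-- Let k be a field and S = k[x_0, ..., x_n] with its standard grading; for an ideal I write Hom_S(I,
S/I)_0 for the degree-0 homomorphisms (for a monomial ideal: the span of the multigraded pieces
whose multidegree has entry sum 0). Let n ≥ 4 and I = x_0·(x_0, ..., x_{n-1}) + x_1·(x_1, ...,
x_{n-2}) (the case q = 1, r = 1 of the two-block family). Then Hom_S(I, S/I)_0 has dimension 6n - 6.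
(The published statement gives this as the dimension of the tangent space to the Hilbert scheme at
the point I; the row records the dimension count.) -/
theorem result (k : Type u) [Field k] (n : ℕ) (hn : 4 ≤ n) :
    Module.finrank k ↥(⨆ α : {α : Fin (n + 1) → ℤ // ∑ i, α i = 0}, tPiece (Ideal.span ({f : MvPolynomial (Fin (n + 1)) k | ∃ i : Fin (n + 1), i.val + 1 ≤ n ∧ f = MvPolynomial.X 0 * MvPolynomial.X i} ∪ {f : MvPolynomial (Fin (n + 1)) k | ∃ i : Fin (n + 1), 1 ≤ i.val ∧ i.val ≤ n - 2 ∧ f = MvPolynomial.X 1 * MvPolynomial.X i})) α.1) = 6 * n - 6 := by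
  have h1 : ((1 : Fin (n + 1)) : ℕ) = 1 := by simp [Fin.val_one', Nat.mod_eq_of_lt (show 1 < n + 1 by omega)]
  have key := HilbPt29.Borel.finrank_family (k := k) n 1 (n - 2) (by omega) (by omega) le_rfl
    {Finsupp.single (1 : Fin (n + 1)) 1 + Finsupp.single (Fin.last n) 1} ?_ ?_
  · rw [pow_one] at key
    rw [key,  Finset.card_singleton, Nat.add_sub_cancel, show n.choose (n - 1) = n by
      rw [Nat.choose_symm (by omega), Nat.choose_one_right]]
    rw [show n - (n - 2) = 2 by omega]
    omega
  all_goals set S : Finset (Fin (n + 1)) := Finset.univ.filter fun i => 1 ≤ i.val ∧ i.val ≤ n - 2 with hSdef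
  all_goals have hS : ∀ {i : Fin (n + 1)}, i ∈ S ↔ 1 ≤ i.val ∧ i.val ≤ n - 2 := by intro i; simp [S]
  all_goals have hoS : (1 : Fin (n + 1)) ∈ S := hS.2 ⟨by omega, by omega⟩
  all_goals have hNS : Fin.last n ∉ S := by rw [hS]; simp; omega
  · intro γ hd hz hh hlow hbe
    rw [HilbPt29.Borel.be_two hoS] at hbe
    have hsum : γ.degree = γ (Fin.last n) + ∑ i ∈ S, γ i := by
      rw [Finsupp.degree_eq_sum, ← Finset.add_sum_erase _ _ (Finset.mem_univ (Fin.last n))]
      congr 1
      refine (Finset.sum_subset (fun i hi => Finset.mem_erase.2 ⟨fun e => hNS (by rw [← e]; exact hi), Finset.mem_univ i⟩)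
        fun i hi hiS => ?_).symm
      have hi' := (Finset.mem_erase.1 hi).1
      rw [Ne, Fin.ext_iff, Fin.val_last] at hi'
      rw [hS] at hiS
      by_cases hi0 : i.val = 0
      · rw [show i = 0 from Fin.ext hi0]; exact hz
      · rw [show i = ⟨n - 1, by omega⟩ from Fin.ext (by simp; omega)]; exact hh
    have hle : γ 1 ≤ ∑ i ∈ S, γ i := Finset.single_le_sum (fun i _ => Nat.zero_le (γ i)) hoS
    by_cases ho : 1 ≤ γ 1
    · left
      have hs1 : ∑ i ∈ S, γ i < 2 := not_le.1 fun h => hbe ⟨ho, h⟩
      have hne : (1 : Fin (n + 1)) ≠ Fin.last n := fun e => hNS (e ▸ hoS)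
      rw [Finset.mem_singleton]
      refine Finsupp.ext fun i => ?_
      by_cases hi : i = Fin.last n
      · subst hi; simp [Finsupp.single_eq_of_ne hne.symm]; omega
      by_cases hi1 : i = 1
      · subst hi1; simp [Finsupp.single_eq_of_ne hne]; omega
      simp [Finsupp.single_eq_of_ne hi, Finsupp.single_eq_of_ne hi1]
      by_cases hiS : i ∈ S
      · have := Finset.single_le_sum (fun i _ => Nat.zero_le (γ i)) (Finset.mem_erase.2 ⟨hi1, hiS⟩)
        have := Finset.add_sum_erase S (fun i => γ i) hoS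
        omega
      · rw [hS] at hiS
        rw [Fin.ext_iff, Fin.val_last] at hi
        by_cases hi0 : i.val = 0
        · rw [show i = 0 from Fin.ext hi0]; exact hz
        · rw [show i = ⟨n - 1, by omega⟩ from Fin.ext (by simp; omega)]; exact hh
    · refine Or.inr ⟨⟨2, by omega⟩, ?_, ?_, ?_, fun hb => ho ?_⟩
      · rw [Ne, Fin.ext_iff]; simp
      · rw [Ne, Fin.ext_iff]; simp; omega
      · rw [Ne, Fin.ext_iff]; simp; omega
      have := ((HilbPt29.Borel.be_two hoS).1 hb).1
      rwa [Finsupp.add_apply, Finsupp.single_eq_of_ne (by rw [Ne, Fin.ext_iff, h1]; simp), add_zero] at this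
  · intro γ hγ
    rw [Finset.mem_singleton] at hγ; subst hγ
    refine ⟨by simp [Finsupp.degree_single], ?_, ?_, ?_, ?_, fun l l0 lh lN => ?_⟩
    · rw [Finsupp.add_apply, Finsupp.single_eq_of_ne (by rw [Ne, Fin.ext_iff, h1]; simp),
        Finsupp.single_eq_of_ne (by rw [Ne, Fin.ext_iff]; simp; omega), add_zero]
    · rw [Finsupp.add_apply, Finsupp.single_eq_of_ne (by rw [Ne, Fin.ext_iff, h1]; simp; omega),
        Finsupp.single_eq_of_ne (by rw [Ne, Fin.ext_iff]; simp; omega), add_zero]
    · rw [HilbPt29.N11.low_add, HilbPt29.N11.low_single_self, HilbPt29.N11.low_single _ (fun e => hNS (by rw [← e]; exact hoS))]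
    · rw [HilbPt29.Borel.be_two hoS]
      simp only [Finsupp.add_apply, Finset.sum_add_distrib, HilbPt29.Borel.sum_single, if_pos hoS, if_neg hNS]
      omega
    · rw [HilbPt29.Borel.be_two hoS]
      have hlS : l ∈ S := by
        rw [Ne, Fin.ext_iff] at l0 lh lN
        simp only [Fin.val_zero, Fin.val_last] at l0 lh lN
        exact hS.2 ⟨by omega, by omega⟩
      simp only [Finsupp.add_apply, Finset.sum_add_distrib, HilbPt29.Borel.sum_single, if_pos hoS, if_neg hNS, if_pos hlS,
        Finsupp.single_eq_same]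
      omega

end Groth.Agent.S13448
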