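import Groth.Statements.S13450
import Groth.Agent.Lib.HilbPt29.BorelApp

set_option autoImplicit false
set_option maxHeartbeats 400000
universe u
open W4c1hilbpn

namespace Groth.Agent.S13450

open W4c1hilbpn in
/-- Let k be a field and S = k[x_0, ..., x_n] with its standard grading; for an ideal I write Hom_S(I,
S/I)_0 for the degree-0 homomorphisms (for a monomial ideal: the span of the multigraded pieces
whose multidegree has entry sum 0). Let n and q satisfy n = 3 and q ≥ 4, or n ≥ 4 and q ≥ 2, and let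
I = x_0·(x_0, ..., x_{n-1}) + (x_1^q). Then Hom_S(I, S/I)_0 has dimension 2n - 1 + C(n+q-1, n-1).
(The published statement gives this as the dimension of the tangent space to the Hilbert scheme at
the point I; the row records the dimension count.) -/
theorem result (k : Type u) [Field k] (n q : ℕ)
    (hcase : (n = 3 ∧ 4 ≤ q) ∨ (4 ≤ n ∧ 2 ≤ q)) :
    Module.finrank k ↥(⨆ α : {α : Fin (n + 1) → ℤ // ∑ i, α i = 0},
      tPiece (Ideal.span ({f : MvPolynomial (Fin (n + 1)) k | ∃ i : Fin (n + 1), i.val + 1 ≤ n ∧ f = MvPolynomial.X 0 * MvPolynomial.X i} ∪ {MvPolynomial.X 1 ^ q})) α.1) =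
      2 * n - 1 + Nat.choose (n + q - 1) (n - 1) := by
  have h1 : ((1 : Fin (n + 1)) : ℕ) = 1 := by simp [Fin.val_one', Nat.mod_eq_of_lt (show 1 < n + 1 by omega)]
  rw [HilbPt29.Borel.span_eq _ {Finsupp.single (1 : Fin (n + 1)) q} ?_,
    HilbPt29.Borel.finrank_hom0_pow (h := (⟨2, by omega⟩ : Fin (n + 1))) ?_ ?_ ?_ ?_ ?_ ?_ (by omega) ?_]
  · rw [Fintype.card_fin, Nat.add_sub_cancel, HilbPt29.Borel.choose_two_block n q (by omega)]
    have : 2 ≤ (n + q - 1).choose (n - 1) := by
      rw [show n + q - 1 = (n + q - 2) + 1 by omega, show n - 1 = (n - 2) + 1 by omega, Nat.choose_succ_succ]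
      have := Nat.choose_pos (show n - 2 ≤ n + q - 2 by omega)
      have := Nat.choose_pos (show (n - 2).succ ≤ n + q - 2 by omega)
      omega
    omega
  · rw [Ne, Fin.ext_iff]; simp; omega
  · rw [Ne, Fin.ext_iff]; simp
  · rw [Ne, Fin.ext_iff]; simp; omega
  · rw [Ne, Fin.ext_iff, h1]; simp
  · rw [Ne, Fin.ext_iff, h1]; simp; omega
  · rw [Ne, Fin.ext_iff, h1]; simp
  · rcases hcase with ⟨-, h4⟩ | ⟨h4, -⟩
    · exact Or.inl h4
    · refine Or.inr ⟨⟨3, by omega⟩, ?_, ?_, ?_, ?_⟩ <;> rw [Ne, Fin.ext_iff] <;> simp [Fin.val_one', Nat.mod_eq_of_lt (show 1 < n + 1 by omega)]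
      omega
  · simp [MvPolynomial.X_pow_eq_monomial]

end Groth.Agent.S13450
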