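import Groth.Statements.S13451
import Groth.Agent.Lib.HilbPt29.Planes

set_option autoImplicit false
universe u
open W4c1hilbpn

namespace Groth.Agent.S13451

open W4c1hilbpn in
/-- Let k be an algebraically closed field of characteristic different from 2, S = k[x_0, ..., x_n] with
its standard grading, 2 ≤ c ≤ d with n ≥ c + d, and I = (x_0, ..., x_{c-1})·(x_{n-d+1}, ..., x_n),
the ideal of the union of two coordinate linear spaces of codimensions c and d meeting transversely
and not spanning the ambient space. Then the degree-0 homomorphisms Hom_S(I, S/I)_0 form a space of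
dimension c(n-c+1) + d(n-d+1). (The published statement gives this number as the dimension of the
tangent space to the Hilbert scheme at the pair of planes, for every n; the row records the count of
degree-0 homomorphisms in the non-spanning range n ≥ c + d, where that tangent space is Hom_S(I,
S/I)_0.) -/
theorem result (k : Type u) [Field k] [IsAlgClosed k] (hchar : ringChar k ≠ 2)
    (n c d : ℕ) (hc : 2 ≤ c) (hcd : c ≤ d) (hn : c + d ≤ n) :
    Module.finrank k ↥(⨆ α : {α : Fin (n + 1) → ℤ // ∑ i, α i = 0},
      tPiece (Ideal.span {f : MvPolynomial (Fin (n + 1)) k | ∃ i j : Fin (n + 1), i.val + 1 ≤ c ∧ n + 1 ≤ j.val + d ∧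
        f = MvPolynomial.X i * MvPolynomial.X j}) α.1) = c * (n - c + 1) + d * (n - d + 1) := by
  exact HilbPt29.finrank_hom0_two_planes k n c d hc hcd hn

end Groth.Agent.S13451
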