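import Groth.Statements.S13452
import Groth.Agent.Lib.HilbPt29.Comp

set_option autoImplicit false
universe u
open W4c1hilbpn

namespace Groth.Agent.S13452

open W4c1hilbpn in
/-- Let k be an infinite field, n ≥ 2, S the polynomial ring over k in n variables, I a monomial ideal
of finite colength with exponent set Ĩ, α an integer vector and T(I) = Hom_S(I, S/I) with its
grading by integer vectors. The dimension of the graded piece of T(I) of multidegree α equals the
number of bounded (finite) connected components of the region (Ĩ + α) ∖ Ĩ of the integer lattice,
two lattice points being joined when they differ by a unit vector. (The published statement allows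
any number of variables; in one variable it fails: for I = (x) and α = −2 the region {−1, 0} is one
bounded component while the piece is zero. This row assumes n ≥ 2.) -/
theorem result (k : Type u) [Field k] [Infinite k] (n : ℕ) (hn : 2 ≤ n)
    (I : Ideal (MvPolynomial (Fin n) k)) (hI : IsMonomial I) [Module.Finite k (MvPolynomial (Fin n) k ⧸ I)]
    (α : Fin n → ℤ) :
    Module.finrank k ↥(tPiece I α) = nBddComp I α := by
  haveI : Nontrivial (Fin n) := Fin.nontrivial_iff_two_le.2 hn
  exact HilbPt29.finrank_tPiece hI α

end Groth.Agent.S13452
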