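import Groth.Statements.S13455
import Mathlib

set_option autoImplicit false
universe u
open W4c1hilbpn

namespace Groth.Agent.S13455

/-- Let k be an algebraically closed field of characteristic different from 2, k0 ≥ 1 and n ≥ 2k0 - 1
natural numbers, S = k[x_0, ..., x_n], and e1 ≤ e2 ≤ k0 - 1. The ideal generated by all products x_p
x_q with e1 ≤ p, q ≤ e2 together with the products x_p x_{n-k0+1+q} for e1 ≤ p < q ≤ e2 is the
intersection, over j from e1 to e2, of the ideals generated by the variables x_i with e1 ≤ i ≤ e2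
and i ≠ j, the square x_j^2, and the variables x_{n-k0+1+q} for j < q ≤ e2 (a primary decomposition
of this monomial ideal). -/
theorem result (k : Type u) [Field k] [IsAlgClosed k] (hchar : ringChar k ≠ 2)
    (n k0 e1 e2 : ℕ) (hk : 1 ≤ k0) (hn : 2 * k0 ≤ n + 1) (he : e1 ≤ e2) (he2 : e2 + 1 ≤ k0) :
    Ideal.span ({f : MvPolynomial (Fin (n + 1)) k | ∃ p q : Fin (n + 1), e1 ≤ p.val ∧ p.val ≤ e2 ∧ e1 ≤ q.val ∧ q.val ≤ e2 ∧
        f = MvPolynomial.X p * MvPolynomial.X q} ∪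
      {f : MvPolynomial (Fin (n + 1)) k | ∃ p q m : Fin (n + 1), e1 ≤ p.val ∧ p.val < q.val ∧ q.val ≤ e2 ∧
        m.val + k0 = n + 1 + q.val ∧ f = MvPolynomial.X p * MvPolynomial.X m}) =
    ⨅ j : Fin (n + 1), ⨅ (_ : e1 ≤ j.val ∧ j.val ≤ e2),
      Ideal.span ({f : MvPolynomial (Fin (n + 1)) k | ∃ i : Fin (n + 1), e1 ≤ i.val ∧ i.val ≤ e2 ∧ i ≠ j ∧ f = MvPolynomial.X i} ∪
        {MvPolynomial.X j ^ 2} ∪
        {f : MvPolynomial (Fin (n + 1)) k | ∃ q m : Fin (n + 1), j.val < q.val ∧ q.val ≤ e2 ∧ m.val + k0 = n + 1 + q.val ∧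
          f = MvPolynomial.X m}) := by
  classical
  have hmid : ∀ q : Fin (n + 1), q.val ≤ e2 → ∀ m : Fin (n + 1), m.val + k0 = n + 1 + q.val → e2 < m.val := fun q hq m hm => by omega
  let single (p : Fin (n + 1)) : Fin (n + 1) →₀ ℕ := Finsupp.single p 1
  let A : Set (Fin (n + 1) →₀ ℕ) := {d | ∃ p q : Fin (n + 1), e1 ≤ p.val ∧ p.val ≤ e2 ∧ e1 ≤ q.val ∧ q.val ≤ e2 ∧ d = single p + single q} ∪
    {d | ∃ p q m : Fin (n + 1), e1 ≤ p.val ∧ p.val < q.val ∧ q.val ≤ e2 ∧ m.val + k0 = n + 1 + q.val ∧ d = single p + single m}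
  let B (j : Fin (n + 1)) : Set (Fin (n + 1) →₀ ℕ) := {d | ∃ i : Fin (n + 1), e1 ≤ i.val ∧ i.val ≤ e2 ∧ i ≠ j ∧ d = single i} ∪ {Finsupp.single j 2} ∪
    {d | ∃ q m : Fin (n + 1), j.val < q.val ∧ q.val ≤ e2 ∧ m.val + k0 = n + 1 + q.val ∧ d = single m}
  have hX : ∀ p, (MvPolynomial.X p : MvPolynomial (Fin (n + 1)) k) = MvPolynomial.monomial (single p) 1 := fun p => rfl
  have hXX : ∀ p q, (MvPolynomial.X p * MvPolynomial.X q : MvPolynomial (Fin (n + 1)) k) = MvPolynomial.monomial (single p + single q) 1 := fun p q => by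
    rw [hX, hX, MvPolynomial.monomial_mul, one_mul]
  have hA : Ideal.span ((fun d => MvPolynomial.monomial d (1 : k)) '' A) = Ideal.span ({f : MvPolynomial (Fin (n + 1)) k | ∃ p q : Fin (n + 1), e1 ≤ p.val ∧ p.val ≤ e2 ∧ e1 ≤ q.val ∧ q.val ≤ e2 ∧
        f = MvPolynomial.X p * MvPolynomial.X q} ∪
      {f : MvPolynomial (Fin (n + 1)) k | ∃ p q m : Fin (n + 1), e1 ≤ p.val ∧ p.val < q.val ∧ q.val ≤ e2 ∧
        m.val + k0 = n + 1 + q.val ∧ f = MvPolynomial.X p * MvPolynomial.X m}) := by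
    congr 1
    ext g
    constructor
    · rintro ⟨d, (⟨p, q, a, b, c, e, rfl⟩ | ⟨p, q, m, a, b, c, e, rfl⟩), rfl⟩
      · exact .inl ⟨p, q, a, b, c, e, (hXX p q).symm⟩
      · exact .inr ⟨p, q, m, a, b, c, e, (hXX p m).symm⟩
    · rintro (⟨p, q, a, b, c, e, rfl⟩ | ⟨p, q, m, a, b, c, e, rfl⟩)
      · exact ⟨_, .inl ⟨p, q, a, b, c, e, rfl⟩, (hXX p q).symm⟩
      · exact ⟨_, .inr ⟨p, q, m, a, b, c, e, rfl⟩, (hXX p m).symm⟩
  have hB : ∀ j : Fin (n + 1), Ideal.span ((fun d => MvPolynomial.monomial d (1 : k)) '' B j) = Ideal.span ({f : MvPolynomial (Fin (n + 1)) k | ∃ i : Fin (n + 1), e1 ≤ i.val ∧ i.val ≤ e2 ∧ i ≠ j ∧ f = MvPolynomial.X i} ∪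
        {MvPolynomial.X j ^ 2} ∪
        {f : MvPolynomial (Fin (n + 1)) k | ∃ q m : Fin (n + 1), j.val < q.val ∧ q.val ≤ e2 ∧ m.val + k0 = n + 1 + q.val ∧
          f = MvPolynomial.X m}) := by
    intro j
    congr 1
    ext g
    constructor
    · rintro ⟨d, ((⟨i, a, b, c, rfl⟩ | rfl) | ⟨q, m, a, b, c, rfl⟩), rfl⟩
      · exact .inl (.inl ⟨i, a, b, c, rfl⟩)
      · exact .inl (.inr (by rw [Set.mem_singleton_iff, MvPolynomial.X_pow_eq_monomial]))
      · exact .inr ⟨q, m, a, b, c, rfl⟩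
    · rintro ((⟨i, a, b, c, rfl⟩ | rfl) | ⟨q, m, a, b, c, rfl⟩)
      · exact ⟨_, .inl (.inl ⟨i, a, b, c, rfl⟩), rfl⟩
      · exact ⟨_, .inl (.inr rfl), MvPolynomial.X_pow_eq_monomial.symm⟩
      · exact ⟨_, .inr ⟨q, m, a, b, c, rfl⟩, rfl⟩
  simp only [← hA, ← hB]
  ext g
  simp only [Ideal.mem_iInf, MvPolynomial.mem_ideal_span_monomial_image]
  constructor
  · intro h j hj d hd
    obtain ⟨a, ha, hle⟩ := h d hd
    rcases ha with ⟨p, q, hp1, hp2, hq1, hq2, rfl⟩ | ⟨p, q, m, hp, hpq, hq, hm, rfl⟩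
    · by_cases hpj : p = j
      · by_cases hqj : q = j
        · subst hpj; subst hqj
          exact ⟨_, .inl (.inr rfl), by simpa [single, ← Finsupp.single_add] using hle⟩
        · exact ⟨single q, .inl (.inl ⟨q, hq1, hq2, hqj, rfl⟩), le_add_self.trans hle⟩
      · exact ⟨single p, .inl (.inl ⟨p, hp1, hp2, hpj, rfl⟩), le_self_add.trans hle⟩
    · by_cases hpj : p = j
      · subst hpj
        exact ⟨single m, .inr ⟨q, m, hpq, hq, hm, rfl⟩, le_add_self.trans hle⟩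
      · exact ⟨single p, .inl (.inl ⟨p, hp, by omega, hpj, rfl⟩), le_self_add.trans hle⟩
  · intro h d hd
    have hadd : ∀ a b : Fin (n + 1), a ≠ b → single a ≤ d → single b ≤ d → single a + single b ≤ d := by
      intro a b hab ha hb i
      have := ha i
      have := hb i
      simp only [single, Finsupp.add_apply, Finsupp.single_apply] at *
      split_ifs at * <;> simp_all
    obtain ⟨p, hp1, hp2, hp⟩ : ∃ p : Fin (n + 1), e1 ≤ p.val ∧ p.val ≤ e2 ∧ single p ≤ d := by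
      obtain ⟨a, ha, hle⟩ := h ⟨e2, by omega⟩ ⟨he, le_rfl⟩ d hd
      rcases ha with (⟨i, a, b, c, rfl⟩ | rfl) | ⟨q, m, a, b, c, rfl⟩
      · exact ⟨i, a, b, hle⟩
      · exact ⟨⟨e2, by omega⟩, he, le_rfl, le_trans (Finsupp.single_le_single.2 (by norm_num)) hle⟩
      · simp at a; omega
    obtain ⟨a, ha, hle⟩ := h p ⟨hp1, hp2⟩ d hd
    rcases ha with (⟨i, a, b, c, rfl⟩ | rfl) | ⟨q, m, a, b, c, rfl⟩
    · exact ⟨_, .inl ⟨p, i, hp1, hp2, a, b, rfl⟩, hadd p i c.symm hp hle⟩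
    · exact ⟨_, .inl ⟨p, p, hp1, hp2, hp1, hp2, rfl⟩, by simpa [single, ← Finsupp.single_add] using hle⟩
    · refine ⟨_, .inr ⟨p, q, m, hp1, a, b, c, rfl⟩, hadd p m ?_ hp hle⟩
      rintro rfl
      have := hmid q b p c
      omega

end Groth.Agent.S13455
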