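import Groth.Statements.S13458
import Groth.Agent.Lib.OmegaMono13.Main

set_option autoImplicit false
universe u
open CategoryTheory CategoryTheory.Limits AlgebraicGeometry TopologicalSpace
open SmVar

set_option backward.isDefEq.respectTransparency false
set_option backward.isDefEq.respectTransparency.types false

namespace Groth.Agent.S13458

/-- Let k be a field, X and Y integral schemes each smooth over Spec k and of the same dimension, and φ
: X → Y a morphism over k which is dominant and separable: the residue field of X at its generic
point is a separable algebraic extension of the residue field of Y at the image point (the function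
field of Y, as φ is dominant). Let Ω_Y and Ω_X be sheaves of differentials of Y and of X over k,
given as universal derivations, and c : φ^*Ω_Y → Ω_X the compatible map (it sends the pullback of
d_Y s to d_X(φ^♯ s)). Then c is a monomorphism of O_X-modules, so the relative cotangent sequence of
φ is exact on the left as well. (The injectivity is what is stated here; the identification of the
cokernel with Ω_{X/Y} is the general cotangent sequence.) -/
theorem result (k : Type u) [Field k] {X Y : Scheme.{u}}
    (pX : X ⟶ Spec (CommRingCat.of k)) (pY : Y ⟶ Spec (CommRingCat.of k)) (φ : X ⟶ Y) (w : φ ≫ pY = pX)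
    [IsIntegral X] [IsIntegral Y] [Smooth pX] [Smooth pY]
    (hdim : topologicalKrullDim X = topologicalKrullDim Y) (hdom : DenseRange φ.base)
    (hsep : letI := (φ.residueFieldMap (genericPoint X)).hom.toAlgebra
      Algebra.IsSeparable (Y.residueField (φ.base (genericPoint X))) (X.residueField (genericPoint X)))
    (ΩY : Y.Modules) (dY : OmegaSh.Der pY ΩY) (hY : OmegaSh.IsUniversal dY)
    (ΩX : X.Modules) (dX : OmegaSh.Der pX ΩX) (hX : OmegaSh.IsUniversal dX)
    (c : (Scheme.Modules.pullback φ).obj ΩY ⟶ ΩX) (hc : OmegaSh.IsDiffCompat φ dY dX c) :
    Mono c := by
  exact Groth.Agent.OmegaMono13.main w hdom hsep hY hX c hc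

end Groth.Agent.S13458
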