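import Groth.Statements.S13459
import Groth.Agent.Lib.NumPoly18.EffClass
import Groth.Agent.Lib.NumPoly18.SurfProj
import Groth.Agent.Lib.SchImage.ReducedKer

set_option autoImplicit false
universe u
open CategoryTheory CategoryTheory.Limits AlgebraicGeometry
open Surf

open Groth.Agent Groth.Agent.NumPoly18
namespace Groth.Agent.S13459

/-- Let k be a field and S an integral surface (dimension two) which is smooth over k and projective (a
closed immersion into some P^n_k over k). Let i : C → S be the closed immersion of an integral curve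
(dimension one) all of whose local rings are regular, with ideal sheaf I ⊆ O_S, and let L be an
invertible O_S-module with an inverse L' (L ⊗ L' ≅ O_S). Then the intersection number of O_S(C) with
L, namely the alternating sum χ(O_S) − χ(I) − χ(L') + χ(I ⊗ L') formed with the inverses I = O_S(−C)
and L' (packaged as FGA.intNum), equals the degree of the restriction of L to C, the degree of a
module M on C being χ(M) − χ(O_C). -/
theorem result (k : Type u) [Field k] (S : Scheme.{u}) [S.Over (Spec (CommRingCat.of k))]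
    [IsIntegral S] (hdim : topologicalKrullDim S = 2) [Smooth (S ↘ (Spec (CommRingCat.of k)))]
    (hproj : ∃ (n : ℕ) (ι : S ⟶ CohB1.ProjSpace n k), IsClosedImmersion ι ∧ ι ≫ CohB1.ProjSpace.toSpec n k = (S ↘ (Spec (CommRingCat.of k))))
    (C : Scheme.{u}) (i : C ⟶ S) [IsClosedImmersion i] [IsIntegral C] (hC : topologicalKrullDim C = 1)
    (hCreg : ∀ c : C, IsRegularLocalRing (C.presheaf.stalk c))
    (L L' : S.Modules) (hL : PicF.IsInvertible L) (hLL' : Nonempty (CohB1.tensorMod L L' ≅ Coh.structureModule S)) :
    letI : C.Over (Spec (CommRingCat.of k)) := ⟨i ≫ (S ↘ (Spec (CommRingCat.of k)))⟩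
    FGA.intNum k S 2 ![ClSub.idealMod i.ker, L'] (Coh.structureModule S) =
      Curv2.deg k C ((Scheme.Modules.pullback i).obj L) 1 := by
  obtain ⟨n₀, ι, hι, hιk⟩ := hproj
  haveI := hι
  haveI : IsProper (S ↘ (Spec (CommRingCat.of k))) := isProper_of_closedImmersion ι hιk
  haveI : IsNoetherian S := CohFound.isNoetherian_of_isProper (S ↘ (Spec (CommRingCat.of k)))
  letI : C.Over (Spec (CommRingCat.of k)) := ⟨i ≫ (S ↘ (Spec (CommRingCat.of k)))⟩
  have hd : topologicalKrullDim S = ((2 : ℕ) : WithBot ℕ∞) := by simpa using hdim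
  obtain ⟨eL⟩ := hLL'
  have hL' : PicF.IsInvertible L' := M2.isInvertible_of_tensor_iso hL (M2.tensorComm _ _ ≪≫ eL)
  let ξ : S := i (genericPoint C)
  have hrange : Set.range i = closure ({ξ} : Set S) := by
    rw [← Set.image_univ, ← genericPoint_closure C, ← Set.image_singleton]
    exact (i.isClosedEmbedding.closure_image_eq _).symm
  have hker : i.ker = ptIdeal ξ := by
    rw [RedSepLib.ker_eq_vanishingIdeal, ptIdeal]
    congr 1
    ext1
    change closure (Set.range i) = _
    rw [hrange, closure_closure]
    rfl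
  have hξd : topologicalKrullDim (closure ({ξ} : Set S)) = 1 := by
    rw [← hrange, ← i.isEmbedding.toHomeomorph.isHomeomorph.topologicalKrullDim_eq _, hC]
  have hcart : BlowUp.IsEffCartierIdeal i.ker := hker ▸ isEffCartier_ptIdeal (k := k) hd hξd
  have hI := M2.isInvertible_idealMod i.ker hcart
  have hQd : topologicalKrullDim (CohB1.support (ClSub.quotMod i.ker)) ≤ ((0 + 1 : ℕ) : WithBot ℕ∞) :=
    (support_quotMod i.ker).symm ▸ dim_support_effCartier hcart (e := 0 + 1) hd.le
  have h' := md_cons_inverse (k := k) (r := 0) hL hL' eL (M := fun _ : Fin 0 => L) (fun j => j.elim0)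
    (CurveCoh17.isCoh_quotMod i.ker) hQd
  have h : cdeg k L' (ClSub.quotMod i.ker) = - cdeg k L (ClSub.quotMod i.ker) := by
    rw [cdeg, cdeg, const_eq_cons L, const_eq_cons L',
      Subsingleton.elim (fun _ : Fin 0 => L') (fun _ : Fin 0 => L)]
    exact h'
  obtain ⟨eQ⟩ := nonempty_quotMod_ker i
  have key : (FGA.intNum k S 2 ![ClSub.idealMod i.ker, L'] (Coh.structureModule S) : ℚ) =
      (Curv2.deg k C ((Scheme.Modules.pullback i).obj L) 1 : ℚ) := by
    rw [intNum2 hd.le hI hL', dot_idealMod hcart hL', h, neg_neg, cdeg, md_iso _ eQ, ← cdeg, cdeg_push i rfl hL]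
  exact_mod_cast key

end Groth.Agent.S13459
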