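import Groth.Statements.S13460
import Groth.Agent.Lib.WDiv3.Basic
import Mathlib.AlgebraicGeometry.Noetherian
import Mathlib.RingTheory.UniqueFactorizationDomain.Ideal
import Mathlib.RingTheory.Length
import Mathlib.RingTheory.Localization.AtPrime.Basic
import Mathlib.RingTheory.SimpleModule.Basic

set_option autoImplicit false
universe u
open CategoryTheory CategoryTheory.Limits AlgebraicGeometry TopologicalSpace
open WDiv

namespace Groth.Agent.S13460

theorem alg_eq (A : CommRingCat.{u}) [IsDomain A] (x : ↥(Spec A)) (a : A) :
    algebraMap A (Spec A).functionField a =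
      algebraMap ((Spec A).presheaf.stalk x) (Spec A).functionField
        (StructureSheaf.toStalk A x a) :=
  (StructureSheaf.toStalk_stalkSpecializes_apply
    (show genericPoint (Spec A) ⤳ x from (genericPoint_spec _).specializes trivial) a).symm

theorem ord_prime (A : CommRingCat.{u}) [IsDomain A] [IsNoetherianRing A]
    (x : ↥(Spec A)) (hx : Order.coheight x = 1) (a : A) (ha : a ≠ 0) :
    (a ∉ x.asIdeal → Scheme.ord (algebraMap A (Spec A).functionField a) x = 0) ∧
    (x.asIdeal = Ideal.span {a} → Scheme.ord (algebraMap A (Spec A).functionField a) x = 1) := by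
  let R := (Spec A).presheaf.stalk x
  letI : Algebra A R := StructureSheaf.stalkAlgebra (R := A) x
  haveI : IsLocalization.AtPrime R x.asIdeal := StructureSheaf.IsLocalization.to_stalk A x
  haveI : Ring.KrullDimLE 1 R := krullDimLE_of_coheight_le hx.le
  have hne : algebraMap A (Spec A).functionField a ≠ 0 :=
    (map_ne_zero_iff _ (IsFractionRing.injective A _)).2 ha
  have h0 : algebraMap A R a ≠ 0 := fun h => hne (by
    rw [alg_eq A x a]; exact (congrArg _ h).trans (map_zero _))
  have key : (Spec A).ordHom x hx (algebraMap A _ a) = Ring.ordMonoidWithZeroHom R (algebraMap A R a) := by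
    rw [alg_eq A x a]
    exact Ring.ordFrac_eq_ord R h0
  constructor
  · intro h
    rw [Scheme.ord_eq_iff hx hne, key,
      Ring.ordMonoidWithZeroHom_eq_coe R (mem_nonZeroDivisors_of_ne_zero h0) (n := 0)
        (Ring.ord_of_isUnit (IsLocalization.map_units R (⟨a, h⟩ : x.asIdeal.primeCompl)))]
    rfl
  · intro h
    have hm : Ideal.span {algebraMap A R a} = IsLocalRing.maximalIdeal R := by
      rw [← IsLocalization.AtPrime.map_eq_maximalIdeal x.asIdeal R, h, Ideal.map_span, Set.image_singleton]
    have h1 : Ring.ord R (algebraMap A R a) = ((1 : ℕ) : ℕ∞) := by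
      rw [Ring.ord, hm, Nat.cast_one, Module.length_eq_one_iff, isSimpleModule_iff_isCoatom]
      exact Ideal.isMaximal_def.1 (IsLocalRing.maximalIdeal.isMaximal R)
    rw [Scheme.ord_eq_iff hx hne, key,
      Ring.ordMonoidWithZeroHom_eq_coe R (mem_nonZeroDivisors_of_ne_zero h0) h1]
    rfl

theorem main (A : CommRingCat.{u}) [IsDomain A] [IsNoetherianRing A] [UniqueFactorizationMonoid A]
    (D : ↥(Spec A) → ℤ) (hD : ∀ x, Order.coheight x ≠ 1 → D x = 0) (hfin : {x | D x ≠ 0}.Finite) :
    ∃ f : ↑(Spec A).functionField, f ≠ 0 ∧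
      ∀ x : ↥(Spec A), Order.coheight x = 1 → Scheme.ord f x = D x := by
  classical
  haveI : IsLocallyNoetherian (Spec A) := inferInstance
  have hgen : ∀ x : ↥(Spec A), Order.coheight x = 1 → ∃ a : A, a ≠ 0 ∧ x.asIdeal = Ideal.span {a} := by
    intro x hx
    have hne : x.asIdeal ≠ ⊥ := fun h => by
      have hg : x = genericPoint (Spec A) := by
        rw [genericPoint_eq_bot_of_affine]; exact PrimeSpectrum.ext h
      have hmax : IsMax (genericPoint (Spec A)) := fun y _ =>
        (genericPoint_spec (Spec A)).specializes trivial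
      rw [hg, Order.coheight_eq_zero.2 hmax] at hx
      exact zero_ne_one hx
    obtain ⟨π, hπx, hπ⟩ := x.isPrime.exists_mem_prime_of_ne_bot hne
    refine ⟨π, hπ.ne_zero, ?_⟩
    by_contra hne'
    let y : ↥(Spec A) := ⟨Ideal.span {π}, (Ideal.span_singleton_prime hπ.ne_zero).2 hπ⟩
    have hle : y.asIdeal ≤ x.asIdeal := (Ideal.span_singleton_le_iff_mem _).2 hπx
    have hxy : x < y := lt_of_le_not_ge ((PrimeSpectrum.le_iff_specializes y x).1 hle)
      fun hge => hne' (le_antisymm ((PrimeSpectrum.le_iff_specializes x y).2 hge) hle)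
    have h1 := Order.coheight_add_one_le hxy
    rw [hx] at h1
    have hy0 : Order.coheight y = 0 := by
      revert h1
      cases Order.coheight y using ENat.recTopCoe with
      | top => simp
      | coe n => intro h1; norm_cast at h1 ⊢; omega
    have hg : y = genericPoint (Spec A) :=
      ((genericPoint_spec (Spec A)).specializes trivial).antisymm
        (Order.coheight_eq_zero.1 hy0 ((genericPoint_spec (Spec A)).specializes trivial)) |>.eq.symm
    rw [genericPoint_eq_bot_of_affine] at hg
    exact hπ.ne_zero (Ideal.span_singleton_eq_bot.1 (congrArg PrimeSpectrum.asIdeal hg))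
  let g : ↥(Spec A) → A := fun x => if h : Order.coheight x = 1 then (hgen x h).choose else 1
  have hg : ∀ x (h : Order.coheight x = 1), g x ≠ 0 ∧ x.asIdeal = Ideal.span {g x} := fun x h => by
    simp only [g, dif_pos h]; exact (hgen x h).choose_spec
  let s := hfin.toFinset
  have hs : ∀ y ∈ s, Order.coheight y = 1 := fun y hy => by
    by_contra h; exact hfin.mem_toFinset.1 hy (hD y h)
  have hne : ∀ y ∈ s, algebraMap A (Spec A).functionField (g y) ≠ 0 := fun y hy =>
    (map_ne_zero_iff _ (IsFractionRing.injective A _)).2 (hg y (hs y hy)).1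
  refine ⟨∏ y ∈ s, (algebraMap A (Spec A).functionField (g y)) ^ D y,
    Finset.prod_ne_zero_iff.2 fun y hy => zpow_ne_zero _ (hne y hy), fun x hx => ?_⟩
  rw [Groth.Agent.WDiv3.ord_prod _ _ (fun y hy => zpow_ne_zero _ (hne y hy))]
  rw [Finset.sum_eq_single x]
  · by_cases hxs : x ∈ s
    · rw [Groth.Agent.WDiv3.ord_zpow (hne x hxs), (ord_prime A x hx _ (hg x hx).1).2 (hg x hx).2, mul_one]
    · have : D x = 0 := by_contra fun h => hxs (hfin.mem_toFinset.2 h)
      simp [this, Groth.Agent.WDiv3.ord_one]
  · intro y hy hyx
    have hy1 := hs y hy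
    rw [Groth.Agent.WDiv3.ord_zpow (hne y hy), (ord_prime A x hx _ (hg y hy1).1).1 ?_, mul_zero]
    intro hmem
    have hle : y.asIdeal ≤ x.asIdeal := (hg y hy1).2 ▸ (Ideal.span_singleton_le_iff_mem _).2 hmem
    have hlt : x < y := lt_of_le_not_ge ((PrimeSpectrum.le_iff_specializes y x).1 hle)
      fun hge => hyx (PrimeSpectrum.ext (le_antisymm hle ((PrimeSpectrum.le_iff_specializes x y).2 hge)))
    have := Order.coheight_add_one_le hlt
    rw [hx, hy1] at this
    exact absurd this (by decide)
  · intro hxs
    have : D x = 0 := by_contra fun h => hxs (hfin.mem_toFinset.2 h)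
    simp [this, Groth.Agent.WDiv3.ord_one]

/-- Let A be a Noetherian integral domain which is a unique factorization domain, and X = Spec A. Then
the divisor class group of X vanishes: every Weil divisor D on X, an integer-valued function on the
points of X with finite support inside the points of coheight 1 (codimension one), is the divisor of
a nonzero rational function f on X, i.e. the order of vanishing of f at every point x of coheight 1
is D(x). (The published statement assumes only that A is a unique factorization domain; this row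
also assumes A Noetherian.) -/
theorem result (A : Type u) [CommRing A] [IsDomain A] [IsNoetherianRing A]
    [UniqueFactorizationMonoid A]
    (D : ↥(Spec (CommRingCat.of A)) → ℤ) (hD : ∀ x, Order.coheight x ≠ 1 → D x = 0) (hfin : {x | D x ≠ 0}.Finite) :
    ∃ f : ↑(Spec (CommRingCat.of A)).functionField, f ≠ 0 ∧
      ∀ x : ↥(Spec (CommRingCat.of A)), Order.coheight x = 1 → Scheme.ord f x = D x := by
  exact main (CommRingCat.of A) D hD hfin

end Groth.Agent.S13460
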