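import Groth.Statements.S13461
import Groth.Agent.Lib.CurveOm17.AnyField
import Groth.Agent.Lib.AmpleFib.CurveRel
import Groth.Agent.Lib.NumPoly18.Trans
import Groth.Agent.Lib.PicPn.Aut
import Groth.Agent.Lib.GrSyz.Hilbert
import Groth.Agent.S0843
-- import your own Groth.Agent.* helpers here

set_option autoImplicit false
universe u
open CategoryTheory CategoryTheory.Limits AlgebraicGeometry TopologicalSpace
open Curves

namespace Groth.Agent.S13461

open Groth.Agent Groth.Agent.M1 Groth.Agent.M2 Groth.Agent.CurveCoh17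

set_option maxHeartbeats 1600000

/-- Let k be a field and X a smooth proper geometrically connected curve over k (proper, smooth and
geometrically connected over k, of dimension one) of genus dim_k H^1(X, O_X) = 4, and let i : X →
P^3_k be a closed immersion over k whose pullback of O(1) is isomorphic to the sheaf of
differentials Ω_{X/k} (X is canonically embedded, hence not hyperelliptic). Then X lies on a quadric
surface: there is a nonzero global section Q of O_{P^3_k}(2) whose pullback along i is the zero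
section of i^*O(2). (The published statement goes on to assert that X is the complete intersection
of such a quadric with a cubic surface; this row states only the existence of the quadric.) -/
theorem result (k : Type u) [Field k] (X : Scheme.{u}) [X.Over (Spec (CommRingCat.of k))]
    [IsProper (X ↘ (Spec (CommRingCat.of k)))] [Smooth (X ↘ (Spec (CommRingCat.of k)))] [GeometricallyConnected (X ↘ (Spec (CommRingCat.of k)))]
    (hdim : topologicalKrullDim X = 1) (hg : Curv2.genus k X = 4)
    (i : X ⟶ CohB1.ProjSpace 3 k) [IsClosedImmersion i] (hi : i ≫ CohB1.ProjSpace.toSpec 3 k = X ↘ (Spec (CommRingCat.of k)))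
    (hcan : Nonempty ((Scheme.Modules.pullback i).obj (Twist.twistProjSpace 3 k 1) ≅ Omega.sheaf (X ↘ (Spec (CommRingCat.of k))))) :
    ∃ Q : Γ(Twist.twistProjSpace 3 k 2, ⊤), Q ≠ 0 ∧
      OmegaSh.pullSect i (Twist.twistProjSpace 3 k 2) ⊤ Q = 0 := by
  haveI : IsIntegral X := VB17.isIntegral_of_smooth (k := k) (X := X)
  haveI := AbRigid.geometricallyReduced_of_smooth (X ↘ Spec (CommRingCat.of k))
  have h0 := S1536.result k X
  obtain ⟨hX, -, hΩ, hdeg, -⟩ := CurveOm17.exists_isDualizing_omega' hdim h0
    (Omega12.isUniversal_dOmega (f := X ↘ Spec (CommRingCat.of k)))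
  haveI := hX.like.noetherian
  set O2 := Twist.twistProjSpace 3 k 2
  let N := (Scheme.Modules.pullback i).obj O2
  obtain ⟨eN⟩ : Nonempty (N ≅ CohB1.tensorPow (Omega.sheaf (X ↘ Spec (CommRingCat.of k))) 2) := by
    obtain ⟨t⟩ := PicPn.nonempty_tensorPow_twist (n := 3) (k := k) 1 2
    let pp := M2.pullTensorPowIso i (Twist.twistProjSpace 3 k 1) 2
    exact ⟨(Scheme.Modules.pullback i).mapIso t.symm ≪≫ pp ≪≫
      M2.tensorIso (M2.tensorIso (Iso.refl _) hcan.some) hcan.some⟩
  have hN : PicF.IsInvertible N := Twist.isInvertible_pullback i (Twist.isInvertible_twistProjSpace 3 k 2)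
  have hdN : Curv2.deg k X N 1 = 12 := by
    rw [deg_iso eN, hX.like.deg_tensorPow hΩ, hdeg, hg]; norm_num
  have hk := rkOne_of_invertible hdim.le hN
  haveI hs1 : Subsingleton (Coh.HH X N 1) := by
    by_contra h
    rw [not_subsingleton_iff_nontrivial] at h
    have h6 := hX.like.deg_le_of_h1 hk h0 h
    rw [hdN, hg] at h6
    norm_num at h6
  have hrr := hX.like.rr hk.coh
  rw [h0, Module.finrank_zero_of_subsingleton (M := Coh.HH X N 1), hdN, hg] at hrr
  letI : (CohB1.ProjSpace 3 k).Over (Spec (CommRingCat.of k)) := ⟨CohB1.ProjSpace.toSpec 3 k⟩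
  obtain ⟨e⟩ := S0843.result k 3 2
  let φ : Coh.HH (CohB1.ProjSpace 3 k) O2 0 →ₗ[k] Coh.HH X N 0 :=
    { toFun := fun z => (hh0 N).symm (OmegaSh.pullSect i O2 ⊤ (hh0 O2 z))
      map_add' := fun a b => by
        rw [map_add]
        exact (congrArg (hh0 N).symm (map_add (OmegaSh.pullSect i O2 ⊤).hom _ _)).trans (map_add _ _ _)
      map_smul' := fun c a => by
        refine (hh0 N).injective ?_
        refine ((hh0 N).apply_symm_apply _).trans ?_
        rw [RingHom.id_apply]
        refine Eq.trans ?_ (hh0_smul (M := N) _ _).symm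
        refine (congrArg (OmegaSh.pullSect i O2 ⊤) (hh0_smul (M := O2) _ a)).trans ?_
        refine (OmegaSh.pullSect_smul i O2 ⊤ _ _).trans ?_
        refine Eq.trans ?_ (congrArg (fun t => (show Γ(X, ⊤) from Coh.toGlobal (X ↘ Spec (CommRingCat.of k)) c) • t)
          ((hh0 N).apply_symm_apply _).symm)
        congr 1
        rw [← hi]
        rfl }
  have h10 : Module.finrank k (Coh.HH (CohB1.ProjSpace 3 k) O2 0) = 10 := by
    refine e.finrank_eq.trans ?_
    have h : CohB1.polyGrading 3 k 2 = GrSyz.stdGr k (Fin (3 + 1)) ((2 : ℕ) : ℤ) := by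
      refine SetLike.ext fun p => Iff.symm ((GrSyz.mem_stdGr_iff k _ _ p).trans ?_)
      have hw : ∀ d : Fin (3 + 1) →₀ ℕ,
          Finsupp.weight (fun _ : Fin (3 + 1) => (1 : ℤ)) d = ((Finsupp.weight (1 : Fin (3 + 1) → ℕ) d : ℕ) : ℤ) :=
        fun d => by simp [Finsupp.weight_apply, Finsupp.sum]
      exact ⟨fun h d hd => by have := h hd; rw [hw] at this; exact_mod_cast this,
        fun h d hd => by rw [hw]; exact_mod_cast h hd⟩
    show Module.finrank k ↥(CohB1.polyGrading 3 k 2) = 10
    rw [h, (GrSyzLib.finrank_stdGr (k := k) (r := 3) ((2 : ℕ) : ℤ)).2, GrSyzLib.H, if_pos (Int.natCast_nonneg 2), Int.toNat_natCast]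
    rfl
  haveI : Module.Finite k (Coh.HH (CohB1.ProjSpace 3 k) O2 0) := Module.finite_of_finrank_pos (by omega)
  haveI := hX.like.fin _ hk.coh 0
  have hker : LinearMap.ker φ ≠ ⊥ := fun h => by
    have := LinearMap.finrank_le_finrank_of_injective (LinearMap.ker_eq_bot.1 h)
    rw [h10] at this
    omega
  obtain ⟨z, hz, hz0⟩ := (Submodule.ne_bot_iff _).1 hker
  refine ⟨hh0 O2 z, fun h => hz0 ((hh0 O2).injective (h.trans (map_zero _).symm)), ?_⟩
  exact (hh0 N).symm.injective ((LinearMap.mem_ker.1 hz).trans (map_zero _).symm)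

end Groth.Agent.S13461
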