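import Groth.Statements.S13465
import Groth.Agent.Lib.GaExt23.BidualPts
import Groth.Agent.Lib.GaExt23.BidualEval

set_option autoImplicit false
universe u
open GaDual

namespace Groth.Agent.S13465

open CategoryTheory AlgebraicGeometry in
/-- For a scheme X over the prime field with p elements (p = 0 in the global sections of X), the
canonical map from the additive group to its double dual, as abelian sheaves on the big fppf site of
X with the dual taken as internal Hom into the multiplicative group, is an isomorphism. (The
published statement also covers schemes over the rationals; that case is a separate row.) -/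
theorem result (X : Scheme.{u}) (p : ℕ) [Fact p.Prime]
    (hp : (p : Γ(X, ⊤)) = 0) :
    IsIso (CGrpSh2.toDoubleDual Scheme.fppfPrecoverage (CGrpSh2.Ga Scheme.fppfPrecoverage X)) := by
  refine Groth.Agent.GaExt23.BP.isIso_toDoubleDual ?_
  intro R a Φ hΦ B _ _ f hf
  rcases subsingleton_or_nontrivial R with hR | hR
  · haveI : Subsingleton B := Module.subsingleton R B
    exact Subsingleton.elim _ _
  haveI : CharP R p := (CharP.charP_iff_prime_eq_zero (Fact.out : p.Prime)).2 (by
    have h : (p : Γ(Spec R, ⊤)) = 0 := by rw [← map_natCast a.appTop.hom, hp, map_zero]
    have h' := congrArg (Scheme.ΓSpecIso R).hom.hom h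
    rwa [map_natCast, map_zero] at h')
  exact Groth.Agent.GaExt23.BC.eq_eval_of_charP p hΦ hf

end Groth.Agent.S13465
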