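import Groth.Agent.Lib.CharExt23.Main
import Groth.Prelude.Def_CGrpSh2
import Mathlib.AlgebraicGeometry.Morphisms.FiniteType
import Mathlib.AlgebraicGeometry.Morphisms.ClosedImmersion
import Mathlib.GroupTheory.Index
-- import your own Groth.Agent.* helpers here

set_option autoImplicit false
universe u
namespace GmDual
end GmDual
open GmDual

namespace Groth.Agent.S13469

open CategoryTheory AlgebraicGeometry MonObj in
/-- Let k be a field and i : H → G a homomorphism of affine commutative k-group schemes of finite type
which is a closed immersion. Then the restriction map Ĝ(k) → Ĥ(k) on characters defined over k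
(morphisms of abelian sheaves on the big fppf site of Spec k from the sheaf of points to the
multiplicative group, restricted along i) has finite cokernel: its image is a subgroup of finite
index. -/
theorem result (k : Type u) [Field k]
    (H G : Over (Spec (CommRingCat.of k))) [GrpObj H] [IsCommMonObj H] [GrpObj G] [IsCommMonObj G]
    [IsAffine H.left] [LocallyOfFiniteType H.hom] [IsAffine G.left] [LocallyOfFiniteType G.hom]
    (i : H ⟶ G) [IsMonHom i] [IsClosedImmersion i.left] :
    (Preadditive.leftComp (CGrpSh2.Gm Scheme.fppfPrecoverage (Spec (CommRingCat.of k)))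
      (CGrpSh.ptsMap Scheme.fppfPrecoverage i)).range.FiniteIndex := by
  obtain ⟨B, _, _, _, _, eB, _⟩ := CharExt23.exists_model H
  obtain ⟨A, _, _, _, _, eA, _⟩ := CharExt23.exists_model G
  obtain ⟨f, hf, hpt⟩ := CharExt23.exists_surj eA eB i
  exact CharExt23.finiteIndex eA eB i f hf hpt

end Groth.Agent.S13469
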