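import Groth.Agent.Lib.CharExt23.Scheme
import Groth.Prelude.Def_CGrpSh2
import Mathlib.AlgebraicGeometry.Morphisms.FiniteType
import Mathlib.AlgebraicGeometry.Morphisms.ClosedImmersion
import Mathlib.FieldTheory.IsAlgClosed.Basic
-- import your own Groth.Agent.* helpers here

set_option autoImplicit false
universe u
namespace GmDual
end GmDual
open GmDual

namespace Groth.Agent.S13470

open CategoryTheory AlgebraicGeometry MonObj in
/-- Let k be an algebraically closed field and i : H → G a homomorphism of affine commutative k-group
schemes of finite type which is a closed immersion. Then the restriction map Ĝ(k) → Ĥ(k) on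
characters defined over k (morphisms of abelian sheaves on the big fppf site of Spec k from the
sheaf of points to the multiplicative group, restricted along i) is surjective. -/
theorem result (k : Type u) [Field k] [IsAlgClosed k]
    (H G : Over (Spec (CommRingCat.of k))) [GrpObj H] [IsCommMonObj H] [GrpObj G] [IsCommMonObj G]
    [IsAffine H.left] [LocallyOfFiniteType H.hom] [IsAffine G.left] [LocallyOfFiniteType G.hom]
    (i : H ⟶ G) [IsMonHom i] [IsClosedImmersion i.left] :
    Function.Surjective (Preadditive.leftComp (CGrpSh2.Gm Scheme.fppfPrecoverage (Spec (CommRingCat.of k)))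
      (CGrpSh.ptsMap Scheme.fppfPrecoverage i)) := by
  obtain ⟨B, _, _, _, _, eB, _⟩ := CharExt23.exists_model H
  obtain ⟨A, _, _, _, _, eA, _⟩ := CharExt23.exists_model G
  obtain ⟨f, hf, hpt⟩ := CharExt23.exists_surj eA eB i
  intro σ
  obtain ⟨χ, hχ, hfχ⟩ := CharExt23.exists_lift f hf (CharExt23.groupLike_fn (eB.hom ≫ CharExt23.homOf σ))
  exact CharExt23.exists_preimage eA eB i f hpt σ hχ hfχ

end Groth.Agent.S13470
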