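import Groth.Statements.S13478
import Groth.Agent.Lib.GaExt23.ExtShGaMain

set_option autoImplicit false
universe u
open GaDual

namespace Groth.Agent.S13478

open CategoryTheory AlgebraicGeometry CategoryTheory.Limits in
/-- For a scheme S over the prime field with p elements (p = 0 in the global sections of S), the fppf
sheaf 𝓔xt^1_S(G_a, G_m), the first Ext sheaf of the additive group with values in the multiplicative
group on the big fppf site of S, vanishes. (This fails for schemes over the rationals.) -/
theorem result (S : Scheme.{u}) (p : ℕ) [Fact p.Prime]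
    (hp : (p : Γ(S, ⊤)) = 0) :
    IsZero ((HomSh.extSh (QuotSh.J Scheme.fppfPrecoverage S) (CGrpSh2.Ga Scheme.fppfPrecoverage S) 1).obj (CGrpSh2.Gm Scheme.fppfPrecoverage S)) := by
  exact Groth.Agent.GaExt23.isZero_extSh_one_Ga_Gm p hp

end Groth.Agent.S13478
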