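import Groth.Statements.S1348
import Groth.Agent.Lib.FlatH4.SliceFlat
import Groth.Agent.Lib.FlatH4.FlatLocusScheme

set_option autoImplicit false
universe u
open FlatMor

namespace Groth.Agent.S1348

open AlgebraicGeometry CategoryTheory Limits in
/-- Let f be locally of finite presentation and flat at a point x with image s, and let h be an element
of the maximal ideal of the local ring at x whose image in the local ring of the fibre (the local
ring at x modulo the ideal generated by the maximal ideal at s) is a nonzerodivisor. Then there is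
an affine open neighbourhood U of x and a nonzerodivisor of its coordinate ring with germ h at x (so
its zero locus is an effective Cartier divisor of U through x) whose zero scheme is flat and locally
of finite presentation over the base. -/
theorem result {X S : Scheme.{u}} (f : X ⟶ S) [LocallyOfFinitePresentation f] (x : X)
    (hflat : (f.stalkMap x).hom.Flat) (h : X.presheaf.stalk x) (hm : h ∈ IsLocalRing.maximalIdeal (X.presheaf.stalk x))
    (hreg : Ideal.Quotient.mk (Ideal.map (f.stalkMap x).hom (IsLocalRing.maximalIdeal (S.presheaf.stalk (f x)))) h ∈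
      nonZeroDivisors (X.presheaf.stalk x ⧸ Ideal.map (f.stalkMap x).hom (IsLocalRing.maximalIdeal (S.presheaf.stalk (f x))))) :
    ∃ (U : X.Opens) (hU : IsAffineOpen U) (hx : x ∈ U) (h' : Γ(X, U)), X.presheaf.germ U x hx h' = h ∧ h' ∈ nonZeroDivisors Γ(X, U) ∧
      Flat (Spec.map (CommRingCat.ofHom (Ideal.Quotient.mk (Ideal.span {h'}))) ≫ hU.fromSpec ≫ f) ∧
      LocallyOfFinitePresentation (Spec.map (CommRingCat.ofHom (Ideal.Quotient.mk (Ideal.span {h'}))) ≫ hU.fromSpec ≫ f) := by
  obtain ⟨V, hV, hfxV, -⟩ :=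
    exists_isAffineOpen_mem_and_subset (X := S) (x := f x) (U := ⊤) trivial
  obtain ⟨U₁, hxU₁, h₁, hgerm⟩ := X.presheaf.exists_germ_eq h
  obtain ⟨W, hW, hxW, hWle⟩ :=
    exists_isAffineOpen_mem_and_subset (X := X) (x := x) (U := U₁ ⊓ f ⁻¹ᵁ V) ⟨hxU₁, hfxV⟩
  have hWU₁ : W ≤ U₁ := fun z hz => (hWle hz).1
  have hWV : W ≤ f ⁻¹ᵁ V := fun z hz => (hWle hz).2
  let h₀ : Γ(X, W) := X.presheaf.map (homOfLE hWU₁).op h₁
  have hgerm₀ : X.presheaf.germ W x hxW h₀ = h :=
    (X.presheaf.germ_res_apply (homOfLE hWU₁) x hxW h₁).trans hgerm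
  let α := f.appLE V W hWV
  letI : Algebra Γ(S, V) Γ(X, W) := α.hom.toAlgebra
  haveI : Algebra.FinitePresentation Γ(S, V) Γ(X, W) := f.finitePresentation_appLE hV hW hWV
  let q := (hW.primeIdealOf ⟨x, hxW⟩).asIdeal
  letI : Algebra Γ(X, W) (X.presheaf.stalk x) := X.presheaf.algebra_section_stalk ⟨x, hxW⟩
  haveI hloc : IsLocalization.AtPrime (X.presheaf.stalk x) q := hW.isLocalization_stalk ⟨x, hxW⟩
  letI : Algebra Γ(S, V) (S.presheaf.stalk (f x)) := S.presheaf.algebra_section_stalk ⟨f x, hfxV⟩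
  haveI hlocS : IsLocalization.AtPrime (S.presheaf.stalk (f x)) (hV.primeIdealOf ⟨f x, hfxV⟩).asIdeal :=
    hV.isLocalization_stalk ⟨f x, hfxV⟩
  have hp : q.comap (algebraMap Γ(S, V) Γ(X, W)) = (hV.primeIdealOf ⟨f x, hfxV⟩).asIdeal := by
    exact congr($(IsAffineOpen.comap_primeIdealOf_appLE V hV W hW hWV hxW).1)
  have hhq : h₀ ∈ q := by
    by_contra hc
    have := IsLocalization.map_units (X.presheaf.stalk x) (⟨h₀, hc⟩ : q.primeCompl)
    exact (IsLocalRing.mem_maximalIdeal _).1 hm (by rw [← hgerm₀]; exact this)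
  have hmS : Ideal.map (f.stalkMap x).hom (IsLocalRing.maximalIdeal (S.presheaf.stalk (f x))) =
      ((q.comap (algebraMap Γ(S, V) Γ(X, W))).map (algebraMap Γ(S, V) Γ(X, W))).map
        (algebraMap Γ(X, W) (X.presheaf.stalk x)) := by
    rw [← IsLocalization.AtPrime.map_eq_maximalIdeal (hV.primeIdealOf ⟨f x, hfxV⟩).asIdeal
      (S.presheaf.stalk (f x)), hp, Ideal.map_map, Ideal.map_map]
    congr 1
    ext r
    show f.stalkMap x (S.presheaf.germ V (f x) hfxV r) = X.presheaf.germ W x hxW (α r)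
    rw [Scheme.Hom.germ_stalkMap_apply]
    exact (X.presheaf.germ_res_apply (homOfLE hWV) x hxW _).symm
  have hflat₀ := (Groth.Agent.FlatH4.flat_stalkMap_iff f V hV W hW hWV hxW).1 hflat
  haveI : Module.Flat Γ(S, V) (LocalizedModule q.primeCompl Γ(X, W)) := hflat₀
  obtain ⟨e, heq, he⟩ := Groth.Agent.FlatH4.exists_slice (A := Γ(S, V)) q h₀ hhq (by
    intro c t ht hmem
    have hmem' : h * algebraMap _ (X.presheaf.stalk x) c ∈
        Ideal.map (f.stalkMap x).hom (IsLocalRing.maximalIdeal (S.presheaf.stalk (f x))) := by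
      rw [hmS]
      have h1 := Ideal.mem_map_of_mem (algebraMap Γ(X, W) (X.presheaf.stalk x)) hmem
      rw [map_mul, map_mul, mul_assoc,
        (IsLocalization.map_units (X.presheaf.stalk x) (⟨t, ht⟩ : q.primeCompl)).unit_spec.symm,
        Ideal.unit_mul_mem_iff_mem _ (IsUnit.unit _).isUnit] at h1
      rw [← hgerm₀]
      exact h1
    have hc : algebraMap _ (X.presheaf.stalk x) c ∈
        Ideal.map (f.stalkMap x).hom (IsLocalRing.maximalIdeal (S.presheaf.stalk (f x))) := by
      rw [← Ideal.Quotient.eq_zero_iff_mem] at hmem' ⊢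
      rw [map_mul, mul_comm] at hmem'
      exact (mem_nonZeroDivisors_iff_right.1 hreg) _ hmem'
    rw [hmS, IsLocalization.algebraMap_mem_map_algebraMap_iff q.primeCompl] at hc
    exact hc)
  let U := X.basicOpen e
  have hU : IsAffineOpen U := hW.basicOpen e
  have hUW : U ≤ W := X.basicOpen_le e
  have hxU : x ∈ U := by
    rw [Scheme.mem_basicOpen _ _ _ hxW]
    exact IsLocalization.map_units (X.presheaf.stalk x) (⟨e, heq⟩ : q.primeCompl)
  haveI : IsLocalization.Away e Γ(X, U) := hW.isLocalization_basicOpen e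
  letI : Algebra Γ(S, V) Γ(X, U) := ((algebraMap Γ(X, W) Γ(X, U)).comp (algebraMap Γ(S, V) Γ(X, W))).toAlgebra
  haveI : IsScalarTower Γ(S, V) Γ(X, W) Γ(X, U) := IsScalarTower.of_algebraMap_eq fun _ => rfl
  obtain ⟨hnzd, hfl⟩ := he Γ(X, U)
  let h' : Γ(X, U) := algebraMap Γ(X, W) Γ(X, U) h₀
  have hcomp : (Spec.map (CommRingCat.ofHom (Ideal.Quotient.mk (Ideal.span {h'}))) ≫ hU.fromSpec ≫ f) =
      Spec.map (CommRingCat.ofHom (algebraMap Γ(S, V) (Γ(X, U) ⧸ Ideal.span {h'}))) ≫ hV.fromSpec := by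
    rw [← hV.SpecMap_appLE_fromSpec f hU (hUW.trans hWV), ← Category.assoc, ← Spec.map_comp]
    congr 2
    rw [← f.appLE_map hWV (homOfLE hUW).op]
    rfl
  refine ⟨U, hU, hxU, h', ?_, hnzd, ?_, ?_⟩
  · exact (X.presheaf.germ_res_apply (homOfLE hUW) x hxU h₀).trans hgerm₀
  · rw [hcomp]
    haveI : Flat (Spec.map (CommRingCat.ofHom (algebraMap Γ(S, V) (Γ(X, U) ⧸ Ideal.span {h'})))) := by
      rw [HasRingHomProperty.Spec_iff (P := @Flat), CommRingCat.hom_ofHom, RingHom.flat_algebraMap_iff]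
      exact hfl
    infer_instance
  · rw [hcomp]
    haveI : LocallyOfFinitePresentation
        (Spec.map (CommRingCat.ofHom (algebraMap Γ(S, V) (Γ(X, U) ⧸ Ideal.span {h'})))) := by
      rw [HasRingHomProperty.Spec_iff (P := @LocallyOfFinitePresentation), CommRingCat.hom_ofHom,
        RingHom.finitePresentation_algebraMap]
      haveI : Algebra.FinitePresentation Γ(X, W) Γ(X, U) := IsLocalization.Away.finitePresentation e
      haveI : Algebra.FinitePresentation Γ(S, V) Γ(X, U) := Algebra.FinitePresentation.trans Γ(S, V) Γ(X, W) _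
      exact Algebra.FinitePresentation.quotient ⟨{h'}, by simp⟩
    infer_instance

end Groth.Agent.S1348
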