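import Groth.Statements.S13483
import Groth.Agent.Lib.KInjLocal9.DerComp

set_option autoImplicit false
set_option linter.style.haveILetI false
set_option backward.isDefEq.respectTransparency false
universe u
open CategoryTheory CategoryTheory.Limits Opposite
attribute [local instance] HasDerivedCategory.standard
open DerComp

namespace Groth.Agent.S13483

/-- On a ringed site (C, O), for a sheaf of ideals I of O of finite type the inclusion of the derived
complete objects D_comp(O, I) into D(O) has a left adjoint (derived completion with respect to I
exists). -/
theorem result {C : Type u} [SmallCategory C] {J : GrothendieckTopology C} (O : Sheaf J CommRingCat.{u}) (I : DerComp.IdealSh O) (hI : I.IsFiniteType) : DerComp.HasDerCompletion O I := by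
  exact Groth.Agent.KInjLocal9.hasDerCompletion O I

end Groth.Agent.S13483
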