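import Groth.Statements.S13490
import Groth.Agent.Lib.DerNull9.Push

set_option autoImplicit false
set_option linter.style.haveILetI false
set_option backward.isDefEq.respectTransparency false
universe u
open CategoryTheory CategoryTheory.Limits Opposite
attribute [local instance] HasDerivedCategory.standard
open DerComp

namespace Groth.Agent.S13490

/-- Let f be a morphism of ringed sites from (C, O_C) to (D, O_D), let I be a finite type sheaf of
ideals of O_D and let I' be the sheaf of ideals of O_C generated by the image of I under the ring
map of f. Then Rf_* commutes with derived completion: for K in D(O_C) the canonical map from the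
I-completion of Rf_*K to Rf_* of the I'-completion of K, obtained from the universal property of
derived completion and the fact (taken as a hypothesis) that the target is derived complete, is an
isomorphism. (The published statement is for a morphism of ringed topoi; this row takes a morphism
of ringed sites.) -/
theorem result {C D : Type u} [SmallCategory C] [SmallCategory D] {J : GrothendieckTopology C} {K : GrothendieckTopology D} {O_C : Sheaf J CommRingCat.{u}} {O_D : Sheaf K CommRingCat.{u}} (f : ModSite.RMor O_C O_D) [SiteCmp.HasRpushD f] (I : DerComp.IdealSh O_D) (hI : I.IsFiniteType) (I' : DerComp.IdealSh O_C) (hI' : DerComp.RIsIdealExt f I I') [DerComp.HasDerCompletion O_D I] [DerComp.HasDerCompletion O_C I'] (M : DerivedCategory (ModSite.Mod O_C)) (h : DerComp.IsDerComp O_D I ((SiteCmp.RpushD f).obj ((DerComp.derCompletion O_C I').obj M).obj)) : IsIso (((DerComp.derCompletionAdj O_D I).homEquiv ((SiteCmp.RpushD f).obj M) ⟨(SiteCmp.RpushD f).obj ((DerComp.derCompletion O_C I').obj M).obj, h⟩).symm ((SiteCmp.RpushD f).map (DerComp.toDerCompletion I' M))) := by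
  classical
  let adjI := DerComp.derCompletionAdj O_D I
  let adjC := DerComp.derCompletionAdj O_C I'
  let η := adjC.unit.app M
  have hη : ∀ Y, DerComp.IsDerComp O_C I' Y →
      Function.Bijective fun g : ((DerComp.derCompletion O_C I').obj M).obj ⟶ Y => η ≫ g := fun Y hY => by
    let e := ((DerComp.IsDerComp O_C I').fullyFaithfulι.homEquiv (X := (DerComp.derCompletion O_C I').obj M)
      (Y := ⟨Y, hY⟩)).symm.trans (adjC.homEquiv M ⟨Y, hY⟩)
    convert e.bijective using 1
    funext g
    exact (adjC.homEquiv_unit M ⟨Y, hY⟩ _).symm
  rw [isIso_iff_coyoneda_map_bijective]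
  intro Z
  have key := DerNull9.bijective_rpushD_precomp f I hI I' hI' η hη Z.obj Z.property
  have e : ∀ g : (⟨(SiteCmp.RpushD f).obj ((DerComp.derCompletion O_C I').obj M).obj, h⟩ :
      DerComp.DComp O_D I) ⟶ Z,
      (adjI.homEquiv ((SiteCmp.RpushD f).obj M) ⟨_, h⟩).symm ((SiteCmp.RpushD f).map η) ≫ g =
        (adjI.homEquiv _ Z).symm ((SiteCmp.RpushD f).map η ≫ g.hom) := fun g =>
    (adjI.homEquiv_naturality_right_symm _ g).symm
  have hb := ((adjI.homEquiv _ Z).symm.bijective.comp key).comp
    ((DerComp.IsDerComp O_D I).fullyFaithfulι.homEquiv (X := ⟨_, h⟩) (Y := Z)).bijective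
  convert hb using 1
  exact funext e

end Groth.Agent.S13490
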