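import Groth.Statements.S13496
import Groth.Agent.Lib.DerAdic9.Affine

set_option autoImplicit false
set_option linter.style.haveILetI false
set_option backward.isDefEq.respectTransparency false
universe u
open CategoryTheory CategoryTheory.Limits Opposite TopologicalSpace AlgebraicGeometry
attribute [local instance] HasDerivedCategory.standard
open DerComp

namespace Groth.Agent.S13496

/-- Affine case U = X: let X be an affine Noetherian scheme, A its ring of global sections, I an ideal
of A and J = I O_X the (quasi-coherent) sheaf of ideals generated by the elements of I; take a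
pseudo-coherent K in D(O_X), and write K^ for its derived J-completion. Then for every p, H^p(X, K^)
= lim_n H^p(X, K)/I^n H^p(X, K), the I-adic completion of H^p(X, K): precisely, H^p(X, K^) is
I-adically complete and the map H^p(X, K) -> H^p(X, K^) induced by K -> K^ identifies H^p(X, K)/I^n
with H^p(X, K^)/I^n for every n. Here H^p(X, -) is the A-module of morphisms from O_X in degree 0 to
the p-th shift. (The published statement is for an affine open U of a locally Noetherian scheme;
restricting to U reduces it to this case since derived completion commutes with restriction to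
opens; its second equality, with the derived completion of the module H^p(X, K), is not stated.) -/
theorem result (X : Scheme.{u}) [IsAffine X] [IsNoetherian X] (I : Ideal (DerComp.GSec X.sheaf)) (𝓘 : DerComp.IdealSh X.sheaf) (h𝓘 : 𝓘.IsGenBy (fun a : I => (a : DerComp.GSec X.sheaf))) [DerComp.HasDerCompletion X.sheaf 𝓘] (K : DerivedCategory (ModSite.Mod X.sheaf)) (hK : ∀ m : ℤ, DCoh.IsPseudoCoherentD (X := X) m K) (p : ℤ) : IsAdicComplete I (SiteCmp.inD X.sheaf (ModSite.unit X.sheaf) ⟶ ((DerComp.derCompletion X.sheaf 𝓘).obj K).obj⟦p⟧) ∧ ∀ n : ℕ, (∀ y : (SiteCmp.inD X.sheaf (ModSite.unit X.sheaf) ⟶ ((DerComp.derCompletion X.sheaf 𝓘).obj K).obj⟦p⟧), ∃ x : (SiteCmp.inD X.sheaf (ModSite.unit X.sheaf) ⟶ K⟦p⟧), (Linear.rightComp (DerComp.GSec X.sheaf) (SiteCmp.inD X.sheaf (ModSite.unit X.sheaf)) ((shiftFunctor (DerivedCategory (ModSite.Mod X.sheaf)) p).map (DerComp.toDerCompletion 𝓘 K))) x - y ∈ (I ^ n • ⊤ : Submodule (DerComp.GSec X.sheaf) (SiteCmp.inD X.sheaf (ModSite.unit X.sheaf) ⟶ ((DerComp.derCompletion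 X.sheaf 𝓘).obj K).obj⟦p⟧))) ∧ (∀ x : (SiteCmp.inD X.sheaf (ModSite.unit X.sheaf) ⟶ K⟦p⟧), (Linear.rightComp (DerComp.GSec X.sheaf) (SiteCmp.inD X.sheaf (ModSite.unit X.sheaf)) ((shiftFunctor (DerivedCategory (ModSite.Mod X.sheaf)) p).map (DerComp.toDerCompletion 𝓘 K))) x ∈ (I ^ n • ⊤ : Submodule (DerComp.GSec X.sheaf) (SiteCmp.inD X.sheaf (ModSite.unit X.sheaf) ⟶ ((DerComp.derCompletion X.sheaf 𝓘).obj K).obj⟦p⟧)) → x ∈ (I ^ n • ⊤ : Submodule (DerComp.GSec X.sheaf) (SiteCmp.inD X.sheaf (ModSite.unit X.sheaf) ⟶ K⟦p⟧))) := by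
  exact Groth.Agent.DerAdic9.completion_adic I 𝓘 h𝓘 K hK p

end Groth.Agent.S13496
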