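import Groth.Statements.S13499
import Groth.Agent.Lib.FieldH25.RatModInt

set_option autoImplicit false
universe u
open CategoryTheory CategoryTheory.Limits AlgebraicGeometry Opposite
open GalCoh

namespace Groth.Agent.S13499

/-- For a field k and i ≥ 2 there is an isomorphism between H^i(Spec k, Z) and H^{i-1}(Spec k, Q/Z),
étale cohomology of Spec k with coefficients in the constant sheaves Z and Q/Z (existence of an
additive isomorphism only; the published statement is for an arbitrary profinite group with trivial
action and identifies the two groups through the boundary map of 0 → Z → Q → Q/Z → 0). -/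
theorem result (k : Type u) [Field k] (i : ℕ) (hi : 2 ≤ i) :
    Nonempty (EtCoh.H (Spec (CommRingCat.of k)) (EtCoh.const (Spec (CommRingCat.of k)) ℤ) i ≃+
      EtCoh.H (Spec (CommRingCat.of k))
        (EtCoh.const (Spec (CommRingCat.of k)) (ℚ ⧸ AddSubgroup.zmultiples (1 : ℚ))) (i - 1)) := by
  obtain ⟨i, rfl⟩ : ∃ i', i = i' + 1 := ⟨i - 1, by omega⟩
  exact FieldH25.nonempty_H_int_equiv_ratModInt k i (by omega)

end Groth.Agent.S13499
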