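import Groth.Statements.S13500
import Groth.Agent.Lib.FieldBr3.CurveDiv
-- import your own Groth.Agent.* helpers here

set_option autoImplicit false
universe u
open CategoryTheory CategoryTheory.Limits AlgebraicGeometry Opposite
open Curves

namespace Groth.Agent.S13500

/-- Let k be an algebraically closed field and Y an integral scheme of dimension one which is locally of
finite type, quasi-compact and quasi-separated over k. For every abelian sheaf F on the small étale
site of Y on which multiplication by n is an isomorphism for every n > 0 (a sheaf of vector spaces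
over the rationals), H^i(Y_et, F) vanishes for all i ≥ 2. -/
theorem result {k : Type u} [Field k] [IsAlgClosed k]
    (Y : Scheme.{u}) [IsIntegral Y] (f : Y ⟶ Spec (CommRingCat.of k)) [LocallyOfFiniteType f]
    [QuasiCompact f] [QuasiSeparated f] (hdim : topologicalKrullDim Y = 1)
    (F : EtCoh.Ab Y) (hdiv : ∀ n : ℕ, 0 < n → IsIso (n • 𝟙 F)) (i : ℕ) (hi : 2 ≤ i) :
    Subsingleton (EtCoh.H Y F i) := by
  haveI : IsLocallyNoetherian Y := LocallyOfFiniteType.isLocallyNoetherian f
  haveI : CompactSpace Y := QuasiCompact.compactSpace_of_compactSpace f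
  haveI : IsNoetherian Y := ⟨⟩
  obtain ⟨n, rfl⟩ := Nat.exists_eq_add_one.2 (show 0 < i by omega)
  refine subsingleton_of_forall_eq 0 fun ξ => ?_
  obtain ⟨N, hN, h⟩ := Groth.Agent.FieldBr3.killed_H_uniquelyDivisible (P := ⊥) hdim.le
    (Groth.Agent.EtPic3.pointsKilled_of_sepClosed ⊥ fun x hx => Groth.Agent.FieldBr3.isSepClosed_residueField f hx)
    F hdiv n (by omega) ξ
  rwa [Submonoid.mem_bot.1 hN, one_nsmul] at h

end Groth.Agent.S13500
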