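import Groth.Statements.S13501
import Groth.Agent.Lib.Constr24.IndConstr

set_option autoImplicit false
universe u
open CategoryTheory CategoryTheory.Limits AlgebraicGeometry Opposite
open EtPBC

namespace Groth.Agent.S13501

/-- Let X be a quasi-compact and quasi-separated scheme and F a torsion abelian sheaf on X_et. If Hom(F,
-) commutes with filtered colimits (of shape any small filtered category in the universe of the
sheaf category's morphisms), then F is constructible. This is the converse of the compactness of
constructible sheaves. -/
theorem result (X : Scheme.{u}) [CompactSpace X]
    [QuasiSeparatedSpace X] (F : EtCoh.Ab X) (hF : EtCoh.IsTorsion F)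
    (hc : ∀ (J : Type (u + 1)) [SmallCategory J] [IsFiltered J],
      PreservesColimitsOfShape J (coyoneda.obj (op F))) :
    EtPBC.IsConstructible F := by
  exact Groth.Agent.Constr24.isConstructible_of_compact hF hc

end Groth.Agent.S13501
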