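import Groth.Statements.S13504
import Groth.Agent.Lib.Embed24.Efface

set_option autoImplicit false
universe u
open CategoryTheory CategoryTheory.Limits AlgebraicGeometry
open EtPBC

namespace Groth.Agent.S13504

/-- Let X be a quasi-compact and quasi-separated scheme. For every constructible abelian sheaf F on the
small étale site of X, every q > 0 and every class α in H^q(X, F) there are a constructible abelian
sheaf G and a monomorphism u : F → G such that H^q(u) sends α to 0. -/
theorem result (X : Scheme.{u}) [CompactSpace X] [QuasiSeparatedSpace X]
    (F : EtCoh.Ab X) (hF : EtPBC.IsConstructible F) (q : ℕ) (hq : 0 < q) (α : EtCoh.H X F q) :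
    ∃ (G : EtCoh.Ab X) (u : F ⟶ G), EtPBC.IsConstructible G ∧ Mono u ∧
      (EtCoh.HF X q).map u α = 0 := by
  exact Groth.Agent.Embed24.exists_efface hF q hq α

end Groth.Agent.S13504
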