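import Groth.Statements.S13505
import Groth.Agent.Lib.ExtShriek24.Constructible

set_option autoImplicit false
universe u
open CategoryTheory CategoryTheory.Limits AlgebraicGeometry
open EtPBC

namespace Groth.Agent.S13505

/-- Let f : U → X be an étale morphism with U and X quasi-compact and quasi-separated, and F an abelian
sheaf on the small étale site of U which is finite locally constant (on some étale covering of U it
becomes constant with finite value group). Then the extension by zero f_! F is constructible on X.
(Continuity of the functor V ↦ (V → U → X) between the small étale sites, which always holds, is
carried as an instance hypothesis.) -/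
theorem result {U X : Scheme.{u}} [CompactSpace X]
    [QuasiSeparatedSpace X] [CompactSpace U] [QuasiSeparatedSpace U] (f : U ⟶ X) [Etale f]
    [EtShriek.JCont f] (F : EtCoh.Ab U) (hF : EtCoh.IsFiniteLocallyConstant F) :
    EtPBC.IsConstructible ((EtShriek.extZero f).obj F) := by
  exact Groth.Agent.ExtShriek24.isConstructible_extZero f (Groth.Agent.Constr24.isConstructible_of_flc hF)

end Groth.Agent.S13505
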