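import Mathlib.AlgebraicGeometry.Morphisms.Proper
import Mathlib.RingTheory.AdicCompletion.Basic
import Mathlib.Topology.Connected.TotallyDisconnected
import Mathlib.RingTheory.Noetherian.Basic
import Mathlib.AlgebraicGeometry.Pullbacks
import Groth.Agent.Lib.HensProper6.Apps

set_option autoImplicit false
universe u
open CategoryTheory CategoryTheory.Limits AlgebraicGeometry
open Hensel

namespace Groth.Agent.S13506

/-- Let A be a Noetherian ring which is complete for the adic topology of an ideal I, f : X → Spec A
proper and X_0 = X ×_{Spec A} Spec (A/I). Then the projection X_0 → X induces a bijection from the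
connected components of X_0 to the connected components of X. -/
theorem result (A : Type u) [CommRing A]
    [IsNoetherianRing A] (I : Ideal A) [IsAdicComplete I A] {X : Scheme.{u}}
    (f : X ⟶ Spec (CommRingCat.of A)) [IsProper f] :
    Function.Bijective
      (Continuous.connectedComponentsMap
        (pullback.fst f (Spec.map (CommRingCat.ofHom (Ideal.Quotient.mk I)))).continuous) := by
  haveI : CompactSpace X := QuasiCompact.compactSpace_of_compactSpace f
  haveI : QuasiSeparatedSpace X := quasiSeparatedSpace_of_quasiSeparated f
  have hA : HenselianRing A I := inferInstance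
  let i := pullback.fst f (Spec.map (CommRingCat.ofHom (Ideal.Quotient.mk I)))
  haveI : CompactSpace ↥(pullback f (Spec.map (CommRingCat.ofHom (Ideal.Quotient.mk I)))) :=
    QuasiCompact.compactSpace_of_compactSpace i
  haveI : QuasiSeparatedSpace ↥(pullback f (Spec.map (CommRingCat.ofHom (Ideal.Quotient.mk I)))) :=
    quasiSeparatedSpace_of_quasiSeparated i
  exact Groth.Agent.HensProper6.bijective_connectedComponentsMap i.continuous
    (Groth.Agent.HensProper6.clopenLift_of_range hA f i.base i.isClosedEmbedding.isEmbedding
      (Groth.Agent.HensProper6.range_fst_quotient f I))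

end Groth.Agent.S13506
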