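import Groth.Statements.S13512
import Groth.Agent.Lib.FC16.FibTotal

set_option autoImplicit false
universe v₁ u₁ v₂ u₂ v₃ u₃
open CategoryTheory Opposite Pseudofunctor.CoGrothendieck
open FibSite

namespace Groth.Agent.S13512
open Groth.Agent.FC16.FibTotal

/-- For a fibred category `F` over `𝒮` with topologies `J` on its fibres all of whose inverse-image
functors are continuous, a functor `m` from the total category to a site `(D, K)` is continuous for
the total topology (the topology generated by the coverings of the fibres) if and only if, for every
object `S` of the base, its restriction `ι F S ⋙ m` to the fibre over `S` is continuous for `J S`.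
(The published statement is for a fibred site over a small category; neither the smallness nor the
exactness of the inverse images is used.) -/
theorem result {𝒮 : Type u₁} [Category.{v₁} 𝒮]
    (F : Pseudofunctor (LocallyDiscrete 𝒮ᵒᵖ) Cat.{v₂, u₂}) (J : FibSite.Topologies F)
    (hF : FibSite.IsPreFibSite F J) {D : Type u₃} [Category.{v₃} D] (K : GrothendieckTopology D)
    (m : ∫ᶜ F ⥤ D) :
    m.IsContinuous (FibSite.totalTopology F J) K ↔
      ∀ S : 𝒮, (ι F S ⋙ m).IsContinuous (J S) K := by
  exact Groth.Agent.FC16.FibTotal.isContinuous_iff hF K m

end Groth.Agent.S13512
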