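import Groth.Statements.S13513
import Groth.Agent.Lib.FibRan16.Sheaf

set_option autoImplicit false
universe u
open CategoryTheory CategoryTheory.Limits Opposite Pseudofunctor.CoGrothendieck
open FibSite

namespace Groth.Agent.S13513
set_option linter.style.haveILetI false
set_option backward.isDefEq.respectTransparency false
set_option backward.isDefEq.respectTransparency.types false
open CategoryTheory.Limits Groth.Agent.FC16.FibTotal


/-- Let `F` be a fibred site over a small category `𝒮` with small fibres (every inverse-image functor is
a morphism of sites) and let `i` be a final object of `𝒮`. Then the left adjoint `α_{i!}` of the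
restriction of sheaves of sets from the total site to the fibre over `i` is full and faithful;
equivalently the composite "extend from the fibre over `i`, then restrict back" is isomorphic to the
identity through the unit of the adjunction. The continuity of the fibre inclusion and the existence
of the left adjoint are carried as instance hypotheses. -/
theorem result {𝒮 : Type u} [SmallCategory 𝒮]
    (F : Pseudofunctor (LocallyDiscrete 𝒮ᵒᵖ) Cat.{u, u}) (J : FibSite.Topologies F)
    (hF : FibSite.IsFibSite F J) (i : 𝒮) (hi : IsTerminal i)
    [(ι F i).IsContinuous (J i) (FibSite.totalTopology F J)]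
    [((ι F i).sheafPushforwardContinuous (Type u) (J i) (FibSite.totalTopology F J)).IsRightAdjoint] :
    (FibSite.extend F J (Type u) i).Full ∧ (FibSite.extend F J (Type u) i).Faithful := by
  haveI := ι_isCocontinuous hF.isPreFibSite i
  haveI : (ι F i).Faithful := ⟨fun h => ι_map_injective h⟩
  haveI : (ι F i).Full := ⟨fun φ => (exists_ι φ (hi.hom_ext _ _)).imp fun g hg => hg.symm⟩
  let ad := (ι F i).sheafAdjunctionCocontinuous (Type u) (J i) (FibSite.totalTopology F J)
  haveI : ∀ G, IsIso (ad.counit.app G) := fun G => by
    haveI : IsIso ((sheafToPresheaf (J i) (Type u)).map (ad.counit.app G)) := by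
      change IsIso (ad.counit.app G).hom
      rw [Functor.sheafAdjunctionCocontinuous_counit_app_hom, Functor.ranAdjunction_counit]
      infer_instance
    exact isIso_of_reflects_iso _ (sheafToPresheaf (J i) (Type u))
  haveI : IsIso ad.counit := NatIso.isIso_of_isIso_app _
  let t : Adjunction.Triple (FibSite.extend F J (Type u) i) (FibSite.restr F J (Type u) i)
      (FibSite.coextend F J (Type u) i) :=
    ⟨(ι F i).sheafAdjunctionContinuous (Type u) (J i) (FibSite.totalTopology F J), ad⟩
  have h := t.fullyFaithfulEquiv.symm ad.fullyFaithfulROfIsIsoCounit
  exact ⟨h.full, h.faithful⟩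

end Groth.Agent.S13513
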