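import Groth.Statements.S13514
import Groth.Agent.Lib.FibRan16.Sheaf

set_option autoImplicit false
universe u
open CategoryTheory CategoryTheory.Limits Opposite Pseudofunctor.CoGrothendieck
open FibSite

namespace Groth.Agent.S13514
set_option linter.style.haveILetI false
set_option backward.isDefEq.respectTransparency false
set_option backward.isDefEq.respectTransparency.types false
open CategoryTheory.Limits Groth.Agent.FC16.FibTotal


/-- Let `F` be a fibred site over a small category `𝒮` with small fibres (every inverse-image functor is
a morphism of sites) and let `i` be a final object of `𝒮`. Then the left adjoint `α_{i!}` of the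
restriction of sheaves of sets from the total site to the fibre over `i` is left exact (it preserves
finite limits), so that the pair (`α_{i!}`, restriction) is a morphism of topoi from the total topos
to the topos of the fibre. The continuity of the fibre inclusion and the existence of the left
adjoint are carried as instance hypotheses. -/
theorem result {𝒮 : Type u} [SmallCategory 𝒮]
    (F : Pseudofunctor (LocallyDiscrete 𝒮ᵒᵖ) Cat.{u, u}) (J : FibSite.Topologies F)
    (hF : FibSite.IsFibSite F J) (i : 𝒮) (hi : IsTerminal i)
    [(ι F i).IsContinuous (J i) (FibSite.totalTopology F J)]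
    [((ι F i).sheafPushforwardContinuous (Type u) (J i) (FibSite.totalTopology F J)).IsRightAdjoint] :
    PreservesFiniteLimits (FibSite.extend F J (Type u) i) := by
  haveI hc := fun S => ι_isContinuous hF.isPreFibSite S
  haveI hcc := fun S => ι_isCocontinuous hF.isPreFibSite S
  have key : ∀ j : 𝒮, PreservesFiniteLimits (FibSite.extend F J (Type u) i ⋙ FibSite.restr F J (Type u) j) := by
    intro j
    haveI : ∀ f : j ⟶ i, (FibSite.invImage F f).IsContinuous (J i) (J j) := hF.isPreFibSite (R := j) (S := i)
    let f := hi.from j
    obtain ⟨_, _, hlex⟩ := hF f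
    let adL := ((ι F i).sheafAdjunctionContinuous (Type u) (J i) (FibSite.totalTopology F J)).comp
      ((ι F j).sheafAdjunctionCocontinuous (Type u) (J j) (FibSite.totalTopology F J))
    haveI : ∀ b : Sheaf (J j) (Type u), IsIso ((FibRan16.shProj (F := F) (J := J) j i f).app b) := fun b => by
      have hl := FibRan16.isLimit_shProj (F := F) (J := J) j i b
      refine ⟨Fan.IsLimit.lift hl (fun g => eqToHom (by rw [hi.hom_ext g f])),
        Fan.IsLimit.hom_ext hl _ _ fun g => ?_, ?_⟩
      · obtain rfl := hi.hom_ext g f
        rw [Category.assoc, Fan.IsLimit.fac, eqToHom_refl, Category.comp_id, Category.id_comp]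
        rfl
      · exact Fan.IsLimit.fac hl _ f
    haveI : IsIso (FibRan16.shProj (F := F) (J := J) j i f) := NatIso.isIso_of_isIso_app _
    exact preservesFiniteLimits_of_natIso
      ((adL.ofNatIsoRight (asIso (FibRan16.shProj (F := F) (J := J) j i f))).leftAdjointUniq
        ((FibSite.invImage F f).sheafAdjunctionContinuous (Type u) (J i) (J j))).symm
  refine ⟨fun D _ _ => ⟨fun {K} => ⟨fun {c} hl => ⟨?_⟩⟩⟩⟩
  refine isLimitOfReflects (sheafToPresheaf (FibSite.totalTopology F J) (Type u)) ?_
  refine evaluationJointlyReflectsLimits _ fun Y => ?_
  haveI := key Y.unop.base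
  haveI : PreservesLimitsOfShape D (FibSite.extend F J (Type u) i ⋙ FibSite.restr F J (Type u) Y.unop.base) :=
    PreservesFiniteLimits.preservesFiniteLimits D
  haveI : PreservesLimit K (FibSite.extend F J (Type u) i ⋙ FibSite.restr F J (Type u) Y.unop.base) :=
    PreservesLimitsOfShape.preservesLimit
  have h1 := isLimitOfPreserves (FibSite.extend F J (Type u) i ⋙ FibSite.restr F J (Type u) Y.unop.base) hl
  exact isLimitOfPreserves ((evaluation _ (Type u)).obj (op Y.unop.fiber))
    (isLimitOfPreserves (sheafToPresheaf (J Y.unop.base) (Type u)) h1)

end Groth.Agent.S13514
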