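import Groth.Statements.S13515
import Groth.Agent.Lib.FibRan16.Map

set_option autoImplicit false
universe u
open CategoryTheory CategoryTheory.Limits Opposite Pseudofunctor.CoGrothendieck
open scoped CategoryTheory.Pseudofunctor.StrongTrans
open FibSite

namespace Groth.Agent.S13515
set_option linter.style.haveILetI false
set_option backward.isDefEq.respectTransparency false
set_option backward.isDefEq.respectTransparency.types false
open Groth.Agent.FC16.FibTotal


/-- Let `F` and `G` be fibred sites over a small category `𝒮` with small fibres and let `α : G ⟶ F` be a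
strong transformation of pseudofunctors, i.e. a cartesian functor `∫ᶜ G ⥤ ∫ᶜ F` over `𝒮`, which is a
morphism of fibred sites: on each fibre the functor `α_S : G(S) ⥤ F(S)` is a morphism of sites from
`(F(S), J S)` to `(G(S), K S)` (continuous, with left exact inverse image on sheaves of sets). Then
the induced functor between the total categories is a morphism of sites from the total site of `F`
to the total site of `G`: it is continuous for the total topologies and the inverse image of sheaves
of sets along it exists and is left exact. -/
theorem result {𝒮 : Type u} [SmallCategory 𝒮]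
    (F G : Pseudofunctor (LocallyDiscrete 𝒮ᵒᵖ) Cat.{u, u}) (J : FibSite.Topologies F) (K : FibSite.Topologies G)
    (hF : FibSite.IsFibSite F J) (hG : FibSite.IsFibSite G K) (α : G ⟶ F)
    (hα : ∀ S : 𝒮, ∃ (_ : (α.app ⟨op S⟩).toFunctor.IsContinuous (K S) (J S))
      (_ : ((α.app ⟨op S⟩).toFunctor.sheafPushforwardContinuous (Type u) (K S) (J S)).IsRightAdjoint),
      PreservesFiniteLimits ((α.app ⟨op S⟩).toFunctor.sheafPullback (Type u) (K S) (J S))) :
    ∃ (_ : (Pseudofunctor.CoGrothendieck.map α).IsContinuous
        (FibSite.totalTopology G K) (FibSite.totalTopology F J))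
      (_ : ((Pseudofunctor.CoGrothendieck.map α).sheafPushforwardContinuous (Type u)
        (FibSite.totalTopology G K) (FibSite.totalTopology F J)).IsRightAdjoint),
      PreservesFiniteLimits ((Pseudofunctor.CoGrothendieck.map α).sheafPullback (Type u)
        (FibSite.totalTopology G K) (FibSite.totalTopology F J)) := by
  haveI hcG := fun S => ι_isContinuous hG.isPreFibSite S
  haveI hccG := fun S => ι_isCocontinuous hG.isPreFibSite S
  haveI hcF := fun S => ι_isContinuous hF.isPreFibSite S
  haveI hccF := fun S => ι_isCocontinuous hF.isPreFibSite S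
  haveI hαc : ∀ S : 𝒮, (α.app ⟨op S⟩).toFunctor.IsContinuous (K S) (J S) := fun S => (hα S).1
  haveI hc : (Pseudofunctor.CoGrothendieck.map α).IsContinuous
      (FibSite.totalTopology G K) (FibSite.totalTopology F J) := by
    refine (isContinuous_iff hG.isPreFibSite _ _).2 fun S => ?_
    haveI : ((α.app ⟨op S⟩).toFunctor ⋙ ι F S).IsContinuous (K S) (FibSite.totalTopology F J) :=
      Functor.isContinuous_comp _ _ (K S) (J S) _
    exact Functor.isContinuous_of_iso (FibRan16.ιMapIso α S).symm (K S) _
  refine ⟨hc, inferInstance, ⟨fun D _ _ => ⟨fun {P} => ⟨fun {c} hl => ⟨?_⟩⟩⟩⟩⟩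
  refine isLimitOfReflects (sheafToPresheaf (FibSite.totalTopology F J) (Type u)) ?_
  refine evaluationJointlyReflectsLimits _ fun Y => ?_
  haveI hlex := (hα Y.unop.base).choose_spec.choose_spec
  let e := FibRan16.pullbackRestrIso α Y.unop.base (J := J) (K := K)
  haveI : PreservesFiniteLimits (FibSite.restr G K (Type u) Y.unop.base) :=
    ⟨fun E _ _ => Adjunction.rightAdjoint_preservesLimits ((ι G Y.unop.base).sheafAdjunctionContinuous (Type u) (K Y.unop.base) (FibSite.totalTopology G K)) |>.preservesLimitsOfShape⟩
  haveI : PreservesFiniteLimits (FibSite.restr G K (Type u) Y.unop.base ⋙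
      (α.app ⟨op Y.unop.base⟩).toFunctor.sheafPullback (Type u) (K Y.unop.base) (J Y.unop.base)) :=
    comp_preservesFiniteLimits _ _
  haveI := preservesFiniteLimits_of_natIso e.symm
  haveI : PreservesLimitsOfShape D ((Pseudofunctor.CoGrothendieck.map α).sheafPullback (Type u)
      (FibSite.totalTopology G K) (FibSite.totalTopology F J) ⋙
      (ι F Y.unop.base).sheafPushforwardContinuous (Type u) (J Y.unop.base) (FibSite.totalTopology F J)) :=
    PreservesFiniteLimits.preservesFiniteLimits D
  haveI : PreservesLimit P ((Pseudofunctor.CoGrothendieck.map α).sheafPullback (Type u)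
      (FibSite.totalTopology G K) (FibSite.totalTopology F J) ⋙
      (ι F Y.unop.base).sheafPushforwardContinuous (Type u) (J Y.unop.base) (FibSite.totalTopology F J)) :=
    PreservesLimitsOfShape.preservesLimit
  have h1 := isLimitOfPreserves ((Pseudofunctor.CoGrothendieck.map α).sheafPullback (Type u)
      (FibSite.totalTopology G K) (FibSite.totalTopology F J) ⋙
      (ι F Y.unop.base).sheafPushforwardContinuous (Type u) (J Y.unop.base) (FibSite.totalTopology F J)) hl
  exact isLimitOfPreserves ((evaluation _ (Type u)).obj (op Y.unop.fiber))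
    (isLimitOfPreserves (sheafToPresheaf (J Y.unop.base) (Type u)) h1)

end Groth.Agent.S13515
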