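import Groth.Statements.S13516
import Groth.Agent.Lib.FibRan16.Map
import Groth.Agent.Lib.FibRan16.Retract

set_option autoImplicit false
universe u
open CategoryTheory CategoryTheory.Limits Opposite Pseudofunctor.CoGrothendieck
open scoped CategoryTheory.Pseudofunctor.StrongTrans
open FibSite

namespace Groth.Agent.S13516
set_option linter.style.haveILetI false
set_option backward.isDefEq.respectTransparency false
set_option backward.isDefEq.respectTransparency.types false
open Groth.Agent.FC16.FibTotal Groth.Agent.FibRan16

/-- the section given by a global point -/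
noncomputable def pts {C : Type u} [SmallCategory C] {J : GrothendieckTopology C} (A : Sheaf J (Type u))
    (q : ⊤_ (Sheaf J (Type u)) ⟶ A) : A.obj.sections := by
  let τ : (Functor.const Cᵒᵖ).obj PUnit.{u + 1} ⟶ (⊤_ (Sheaf J (Type u))).obj :=
    (terminalIsTerminal.isTerminalObj (sheafToPresheaf J (Type u)) _).from _
  refine ⟨fun V => q.hom.app V (τ.app V PUnit.unit), fun {V W} k => ?_⟩
  refine (NatTrans.naturality_apply q.hom k _).symm.trans (congrArg _ ?_)
  exact (NatTrans.naturality_apply τ k PUnit.unit).symm


/-- Let `F` and `G` be fibred sites over a small category `𝒮` with small fibres and let `α : G ⟶ F` be a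
strong transformation of pseudofunctors, i.e. a cartesian functor `∫ᶜ G ⥤ ∫ᶜ F` over `𝒮`. If the
induced functor between the total categories is a morphism of sites from the total site of `F` to
the total site of `G` (continuous, with left exact inverse image on sheaves of sets), then `α` is a
morphism of fibred sites: for every `S` the fibre functor `α_S : G(S) ⥤ F(S)` is a morphism of sites
from `(F(S), J S)` to `(G(S), K S)`. (The published statement is for an arbitrary functor over `𝒮`
between the total categories; this row takes a cartesian one.) -/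
theorem result {𝒮 : Type u} [SmallCategory 𝒮]
    (F G : Pseudofunctor (LocallyDiscrete 𝒮ᵒᵖ) Cat.{u, u}) (J : FibSite.Topologies F) (K : FibSite.Topologies G)
    (hF : FibSite.IsFibSite F J) (hG : FibSite.IsFibSite G K) (α : G ⟶ F)
    (hα : ∃ (_ : (Pseudofunctor.CoGrothendieck.map α).IsContinuous
        (FibSite.totalTopology G K) (FibSite.totalTopology F J))
      (_ : ((Pseudofunctor.CoGrothendieck.map α).sheafPushforwardContinuous (Type u)
        (FibSite.totalTopology G K) (FibSite.totalTopology F J)).IsRightAdjoint),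
      PreservesFiniteLimits ((Pseudofunctor.CoGrothendieck.map α).sheafPullback (Type u)
        (FibSite.totalTopology G K) (FibSite.totalTopology F J))) (S : 𝒮) :
    ∃ (_ : (α.app ⟨op S⟩).toFunctor.IsContinuous (K S) (J S))
      (_ : ((α.app ⟨op S⟩).toFunctor.sheafPushforwardContinuous (Type u) (K S) (J S)).IsRightAdjoint),
      PreservesFiniteLimits ((α.app ⟨op S⟩).toFunctor.sheafPullback (Type u) (K S) (J S)) := by
  obtain ⟨hc, _, hlex⟩ := hα
  haveI hcG := fun S => ι_isContinuous hG.isPreFibSite S
  haveI hccG := fun S => ι_isCocontinuous hG.isPreFibSite S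
  haveI hcF := fun S => ι_isContinuous hF.isPreFibSite S
  haveI hccF := fun S => ι_isCocontinuous hF.isPreFibSite S
  let a := (α.app ⟨op S⟩).toFunctor
  have pointed : ∀ b : Sheaf (J S) (Type u), (⊤_ (Sheaf (J S) (Type u)) ⟶ b) →
      Presheaf.IsSheaf (K S) (a.op ⋙ b.obj) := by
    intro b q
    rw [isSheaf_iff_isSheaf_of_type]
    refine isSheaf_of_retract (Functor.whiskerLeft a.op (sec b.obj (pts b q)))
      (Functor.whiskerLeft a.op ((ι F S).op.ranCounit.app b.obj)) ?_ ?_
    · rw [← Functor.whiskerLeft_comp]
      exact (congrArg (Functor.whiskerLeft a.op) (sec_counit b.obj (pts b q))).trans rfl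
    · exact Presieve.isSheaf_iso (K S) (Functor.isoWhiskerRight (NatIso.op (ιMapIso α S).symm)
        ((ι F S).op.ran.obj b.obj))
        ((isSheaf_iff_isSheaf_of_type _ _).1 ((FibSite.restr G K (Type u) S).obj
          (((Pseudofunctor.CoGrothendieck.map α).sheafPushforwardContinuous (Type u) (FibSite.totalTopology G K)
            (FibSite.totalTopology F J)).obj ((FibSite.coextend F J (Type u) S).obj b))).2)
  haveI hac : a.IsContinuous (K S) (J S) := by
    refine ⟨fun b => ?_⟩
    rw [← isSheaf_iff_isSheaf_of_type]
    let T := ⊤_ (Sheaf (J S) (Type u))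
    have sq := ((BinaryCofan.isVanKampen_iff _).1 (FinitaryExtensive.vanKampen _ (coprodIsCoprod T T))
      (BinaryCofan.mk (coprod.inl : b ⟶ b ⨿ T) coprod.inr) (terminal.from b) (𝟙 T)
      (coprod.map (terminal.from b) (𝟙 T)) (coprod.inl_map _ _).symm (coprod.inr_map _ _).symm).1
        ⟨coprodIsCoprod b T⟩
    have sq' := sq.1.map (sheafToPresheaf (J S) (Type u) ⋙ (Functor.whiskeringLeft _ _ (Type u)).obj a.op)
    let A : Sheaf (K S) (Type u) := ⟨_, pointed (b ⨿ T) coprod.inr⟩
    let B : Sheaf (K S) (Type u) := ⟨_, pointed T (𝟙 _)⟩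
    let Z : Sheaf (K S) (Type u) := ⟨_, pointed (T ⨿ T) coprod.inr⟩
    let f : A ⟶ Z := ⟨Functor.whiskerLeft a.op (coprod.map (terminal.from b) (𝟙 T)).hom⟩
    let g : B ⟶ Z := ⟨Functor.whiskerLeft a.op (coprod.inl : T ⟶ T ⨿ T).hom⟩
    exact Presheaf.isSheaf_of_iso_iff (sq'.isoPullback ≪≫ (PreservesPullback.iso (sheafToPresheaf (K S) (Type u)) f g).symm)
      |>.2 (pullback f g).2
  refine ⟨hac, inferInstance, ?_⟩
  let L := a.sheafPullback (Type u) (K S) (J S)
  haveI : PreservesLimitsOfSize.{0, 0} (FibSite.restr F J (Type u) S) :=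
    ((ι F S).sheafAdjunctionContinuous (Type u) (J S) (FibSite.totalTopology F J)).rightAdjoint_preservesLimits
  haveI : PreservesFiniteLimits ((Pseudofunctor.CoGrothendieck.map α).sheafPullback (Type u)
      (FibSite.totalTopology G K) (FibSite.totalTopology F J) ⋙ FibSite.restr F J (Type u) S) :=
    comp_preservesFiniteLimits _ _
  haveI hRL : PreservesFiniteLimits (FibSite.restr G K (Type u) S ⋙ L) :=
    preservesFiniteLimits_of_natIso (pullbackRestrIso α S (J := J) (K := K))
  haveI : PreservesLimitsOfSize.{0, 0} (FibSite.restr G K (Type u) S) :=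
    ((ι G S).sheafAdjunctionContinuous (Type u) (K S) (FibSite.totalTopology G K)).rightAdjoint_preservesLimits
  haveI : PreservesLimitsOfSize.{0, 0} (FibSite.coextend G K (Type u) S) :=
    ((ι G S).sheafAdjunctionCocontinuous (Type u) (K S) (FibSite.totalTopology G K)).rightAdjoint_preservesLimits
  haveI : PreservesColimitsOfSize.{0, 0} L :=
    (a.sheafAdjunctionContinuous (Type u) (K S) (J S)).leftAdjoint_preservesColimits
  haveI : PreservesLimitsOfShape (Discrete.{0} PEmpty) L := by
    have hT : IsTerminal ((FibSite.restr G K (Type u) S).obj (⊤_ _)) :=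
      IsTerminal.isTerminalObj _ _ terminalIsTerminal
    haveI : PreservesLimit (Functor.empty.{0} (FibSite.TotSh G K (Type u))) (FibSite.restr G K (Type u) S ⋙ L) :=
      (PreservesFiniteLimits.preservesFiniteLimits (Discrete.{0} PEmpty)).preservesLimit
    have hLT : IsTerminal (L.obj ((FibSite.restr G K (Type u) S).obj (⊤_ _))) :=
      IsTerminal.isTerminalObj (FibSite.restr G K (Type u) S ⋙ L) _ terminalIsTerminal
    haveI : PreservesLimit (Functor.empty.{0} (Sheaf (K S) (Type u))) L :=
      preservesTerminal_of_iso L (hLT.uniqueUpToIso terminalIsTerminal |> fun e =>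
        L.mapIso (terminalIsTerminal.uniqueUpToIso hT) ≪≫ e)
    exact preservesLimitsOfShape_pempty_of_preservesTerminal L
  let L' := FibSite.coextend G K (Type u) S ⋙ FibSite.restr G K (Type u) S ⋙ L
  haveI : PreservesFiniteLimits L' := comp_preservesFiniteLimits _ _
  haveI : PreservesLimitsOfShape WalkingCospan L' := PreservesFiniteLimits.preservesFiniteLimits WalkingCospan
  let ad := (ι G S).sheafAdjunctionCocontinuous (Type u) (K S) (FibSite.totalTopology G K)
  let s : ∀ A : Sheaf (K S) (Type u), (⊤_ _ ⟶ A) → (A ⟶ (FibSite.restr G K (Type u) S).obj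
      ((FibSite.coextend G K (Type u) S).obj A)) := fun A q => ⟨sec A.obj (pts A q)⟩
  haveI : PreservesLimitsOfShape WalkingCospan L := by
    refine preservesPullbacks_of_pointed L fun {P A B Z p₁ p₂ x y} h q => ?_
    refine isPullback_map_of_retract L (L' := L') (Functor.whiskerRight ad.counit L)
      (fun A q => L.map (s A q)) (fun A q => ?_) (fun {A B} f q => ?_) h q
    · change L.map (s A q) ≫ L.map (ad.counit.app A) = 𝟙 (L.obj A)
      rw [← L.map_comp, ← L.map_id]
      refine congrArg L.map (ObjectProperty.hom_ext _ ?_)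
      change sec A.obj (pts A q) ≫ (ad.counit.app A).hom = 𝟙 _
      rw [Functor.sheafAdjunctionCocontinuous_counit_app_hom, Functor.ranAdjunction_counit]
      exact sec_counit A.obj (pts A q)
    · change L.map (s A q) ≫ L.map _ = L.map f ≫ L.map (s B (q ≫ f))
      rw [← L.map_comp, ← L.map_comp]
      exact congrArg L.map (ObjectProperty.hom_ext _
        (sec_naturality f.hom (pts A q) (pts B (q ≫ f)) fun V => rfl))
  exact preservesFiniteLimits_of_preservesTerminal_and_pullbacks L

end Groth.Agent.S13516
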