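import Groth.Statements.S13517
import Groth.Agent.Lib.FibSplit8.Cech

set_option autoImplicit false
universe u
open CategoryTheory CategoryTheory.Limits Opposite TopologicalSpace
open FibDesc

namespace Groth.Agent.S13517


/-- In the category of topological spaces with all abelian sheaves as coefficients (where every
continuous map is flat), a continuous map `f : X ⟶ S` admitting a continuous section is universally
of cohomological descent: for every base change `S' ⟶ S`, the augmented Cech simplicial space of the
base-changed map is an augmentation of cohomological 1-descent (its inverse image functor on bounded
below derived categories of abelian sheaves is fully faithful). (The published statement concludes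
2-descent, i.e. adds effective descent; this row states the 1-descent part.) -/
theorem result {X S : TopCat.{u}} (f : X ⟶ S) (s : S ⟶ X)
    (h : s ≫ f = 𝟙 S) : FibDesc.IsUnivCohDescentMap f := by
  exact FibSplit8.isUnivCohDescentMap_of_section f s h


end Groth.Agent.S13517
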