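import Groth.Statements.S13523
import Groth.Agent.Lib.FibLocal8.Cech

set_option autoImplicit false
universe u
open CategoryTheory CategoryTheory.Limits Opposite TopologicalSpace
open FibDesc

namespace Groth.Agent.S13523


/-- A surjective local homeomorphism `f : X ⟶ S` of topological spaces is universally of cohomological
1-descent for abelian sheaves. -/
theorem result {X S : TopCat.{u}} (f : X ⟶ S)
    (hf : IsLocalHomeomorph f) (hsurj : Function.Surjective f) : FibDesc.IsUnivCohDescentMap f := by
  exact FibLocal8.isUnivCohDescentMap_of_isLocalHomeomorph f hf hsurj


end Groth.Agent.S13523
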