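import Groth.Statements.S13528
import Groth.Agent.Lib.FibRan16.Ran
import Mathlib.CategoryTheory.Sites.LocallyBijective

set_option autoImplicit false
universe u
open CategoryTheory CategoryTheory.Limits Opposite Pseudofunctor.CoGrothendieck
open FibSite

namespace Groth.Agent.S13528
set_option linter.style.haveILetI false
set_option backward.isDefEq.respectTransparency false
set_option backward.isDefEq.respectTransparency.types false
open CategoryTheory.Limits Groth.Agent.FC16.FibTotal Pseudofunctor Pseudofunctor.CoGrothendieck

/-- the unit of the left Kan extension along a fibre inclusion is injective -/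
theorem unit_injective {𝒮 : Type u} [SmallCategory 𝒮] {F : Pseudofunctor (LocallyDiscrete 𝒮ᵒᵖ) Cat.{u, u}} (i : 𝒮)
    (R : (F.obj ⟨op i⟩)ᵒᵖ ⥤ Type u) (V : (F.obj ⟨op i⟩)ᵒᵖ) :
    Function.Injective (((ι F i).op.lanUnit.app R).app V) := by
  classical
  let R' : (F.obj ⟨op i⟩)ᵒᵖ ⥤ Type u :=
    { obj := fun W => Option (R.obj W)
      map := fun k => TypeCat.ofHom (Option.map (R.map k))
      map_id := fun W => by ext (_ | x) <;> simp
      map_comp := fun k k' => by ext (_ | x) <;> simp }
  let e : ∀ W : F.obj ⟨op i⟩, (FibSite.invImage F (𝟙 i)).obj W ≅ W := fun W =>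
    (Cat.Hom.toNatIso (F.mapId ⟨op i⟩)).app W
  let t1 : R ⟶ (FibSite.invImage F (𝟙 i)).op ⋙ R' :=
    { app := fun W => TypeCat.ofHom fun r => some (R.map (e W.unop).hom.op r)
      naturality := fun W W' k => by
        ext r
        change some _ = some _
        have h := (Cat.Hom.toNatIso (F.mapId ⟨op i⟩)).hom.naturality k.unop
        have := congrArg (fun m => R.map (Quiver.Hom.op m) r) h
        simp only [op_comp, Functor.map_comp, ConcreteCategory.comp_apply] at this
        exact congrArg some this.symm }
  let tn : ∀ f : i ⟶ i, R ⟶ (FibSite.invImage F f).op ⋙ R' := fun f =>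
    { app := fun W => TypeCat.ofHom fun _ => none
      naturality := fun W W' k => by ext r; rfl }
  let t : ∀ f : i ⟶ i, R ⟶ (FibSite.invImage F f).op ⋙ R' := fun f =>
    if h : f = 𝟙 i then h ▸ t1 else tn f
  let m := Fan.IsLimit.lift (FibRan16.isLimit_proj i R') t
  let ad := (ι F i).op.lanAdjunction (Type u)
  let α := (ad.homEquiv R _).symm m
  have hm : (ι F i).op.lanUnit.app R ≫ Functor.whiskerLeft (ι F i).op α = m := by
    have h := (ad.homEquiv R _).apply_symm_apply m
    rw [Adjunction.homEquiv_unit, Functor.lanAdjunction_unit] at h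
    exact h
  have h1 : m ≫ (FibRan16.proj i (𝟙 i)).app R' = t1 :=
    (Fan.IsLimit.fac (FibRan16.isLimit_proj i R') t (𝟙 i)).trans (dif_pos rfl)
  intro r s hrs
  have h2 : m.app V r = m.app V s := by
    rw [← hm]
    exact congrArg (fun z => α.app _ z) hrs
  have h3 : t1.app V r = t1.app V s := by
    rw [← h1]
    exact congrArg (fun z => ((FibRan16.proj i (𝟙 i)).app R').app V z) h2
  have h4 := Option.some_injective _ h3
  exact (((R.mapIso (e V.unop).op).toEquiv).injective h4)


/-- Let `F` be a fibred category over a small category `𝒮` with small fibres and topologies `J` on the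
fibres all of whose inverse-image functors are continuous, let `i` be an object of `𝒮`, `U` an
object of the fibre over `i`, and `u : R ⟶ h_U` a morphism of presheaves of sets on that fibre into
the presheaf represented by `U`. Then `u` is bicovering for `J i` (inverted by every `J i`-sheaf) if
and only if its left Kan extension along the fibre inclusion `ι F i` is bicovering for the topology
on the total category generated by the coverings of the fibres. (The published statement is for
fibred sites; its proof uses only the continuity of the inverse-image functors.) -/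
theorem result {𝒮 : Type u} [SmallCategory 𝒮]
    (F : Pseudofunctor (LocallyDiscrete 𝒮ᵒᵖ) Cat.{u, u}) (J : FibSite.Topologies F)
    (hF : FibSite.IsPreFibSite F J) (i : 𝒮) {R : (F.obj ⟨op i⟩)ᵒᵖ ⥤ Type u} {U : F.obj ⟨op i⟩}
    (u : R ⟶ yoneda.obj U) :
    (J i).W u ↔ (FibSite.totalTopology F J).W (((ι F i).op.lan (H := Type u)).map u) := by
  haveI hc := ι_isContinuous hF i
  let ad := (ι F i).op.lanAdjunction (Type u)
  refine ⟨fun hu P hP => ?_, fun hu => ?_⟩
  · have h := hu ((ι F i).op ⋙ P) ((presheaf_iff hF P).1 hP i)
    have e : (fun g => ((ι F i).op.lan (H := Type u)).map u ≫ g) =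
        (ad.homEquiv R P).symm ∘ (fun g => u ≫ g) ∘ (ad.homEquiv (yoneda.obj U) P) := by
      funext g
      apply (ad.homEquiv R P).injective
      simp only [Function.comp_apply, Equiv.apply_symm_apply]
      exact ad.homEquiv_naturality_left u g
    rw [e]
    exact (ad.homEquiv R P).symm.bijective.comp (h.comp (ad.homEquiv _ P).bijective)
  obtain ⟨hi', hs'⟩ := ((FibSite.totalTopology F J).W_iff_isLocallyBijective _).1 hu
  let η := (ι F i).op.lanUnit.app R
  let ηU := (ι F i).op.lanUnit.app (yoneda.obj U)
  have hnat : ∀ (V : (F.obj ⟨op i⟩)ᵒᵖ) (r : R.obj V),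
      (((ι F i).op.lan (H := Type u)).map u).app ((ι F i).op.obj V) (η.app V r) = ηU.app V (u.app V r) :=
    fun V r => (ConcreteCategory.congr_hom (NatTrans.congr_app ((ι F i).op.lanUnit.naturality u) V) r).symm
  rw [GrothendieckTopology.W_iff_isLocallyBijective]
  constructor
  · refine ⟨fun {V} r s hrs => ?_⟩
    have h := Presheaf.equalizerSieve_mem (FibSite.totalTopology F J) (((ι F i).op.lan (H := Type u)).map u)
      (η.app V r) (η.app V s) (by rw [hnat, hnat, hrs])
    refine GrothendieckTopology.superset_covering _ ?_ ((mem_total hF _).1 h)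
    intro W g hg
    apply unit_injective i R (op W)
    refine (NatTrans.naturality_apply η g.op r).trans ?_
    exact hg.trans (NatTrans.naturality_apply η g.op s).symm
  · refine ⟨fun {V} k => ?_⟩
    have h := Presheaf.imageSieve_mem (FibSite.totalTopology F J) (((ι F i).op.lan (H := Type u)).map u)
      (U := op ((ι F i).obj V)) (ηU.app (op V) k)
    refine GrothendieckTopology.superset_covering _ ?_ ((mem_total hF _).1 h)
    rintro W g ⟨z, hz⟩
    obtain ⟨A, r, hr⟩ := Types.jointly_surjective_of_isColimit
      ((ι F i).op.isPointwiseLeftKanExtensionLeftKanExtensionUnit R (op ((ι F i).obj W))) z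
    let τ := (ad.homEquiv (yoneda.obj U) (yoneda.obj ((ι F i).obj U))).symm (yonedaMap (ι F i) U)
    have hτ : ∀ (B : (F.obj ⟨op i⟩)ᵒᵖ) (q : B.unop ⟶ U),
        τ.app ((ι F i).op.obj B) (ηU.app B q) = (ι F i).map q := fun B q => by
      have h := (ad.homEquiv (yoneda.obj U) _).apply_symm_apply (yonedaMap (ι F i) U)
      rw [Adjunction.homEquiv_unit, Functor.lanAdjunction_unit] at h
      exact (ConcreteCategory.congr_hom (NatTrans.congr_app h B) q).trans rfl
    have e1 : τ.app _ ((((ι F i).op.lan (H := Type u)).map u).app _ z) =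
        A.hom.unop ≫ (ι F i).map (u.app A.left r) := by
      rw [← hr]
      change τ.app _ ((((ι F i).op.lan (H := Type u)).map u).app _
        ((((ι F i).op.lan (H := Type u)).obj R).map A.hom (η.app A.left r))) = _
      rw [NatTrans.naturality_apply, NatTrans.naturality_apply, hnat, hτ]
      rfl
    have e2 : τ.app _ ((((ι F i).op.lan (H := Type u)).map u).app _ z) = (ι F i).map (g ≫ k) := by
      rw [hz]
      refine (congrArg (fun t => τ.app _ t) (NatTrans.naturality_apply ηU g.op k).symm).trans ?_
      exact hτ (op W) (g ≫ k)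
    have e := e1.symm.trans e2
    have hb : A.hom.unop.base = 𝟙 i := by
      have h := congrArg Hom.base e
      simp at h
      exact (Category.comp_id _).symm.trans (h.trans (Category.id_comp _))
    obtain ⟨m, hm⟩ := exists_ι (S := i) (a := W) (b := A.left.unop) A.hom.unop hb
    rw [hm, ← Functor.map_comp] at e
    refine ⟨R.map m.op r, ?_⟩
    rw [NatTrans.naturality_apply]
    exact ι_map_injective e

end Groth.Agent.S13528
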