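import Groth.Statements.S13530
import Groth.Agent.Lib.DeligneFP18.Res

set_option autoImplicit false
universe u
open CategoryTheory CategoryTheory.Limits AlgebraicGeometry
open ResProp

namespace Groth.Agent.S13530

/-- On a quasi-compact quasi-separated scheme there is a finitely presented quasi-coherent module F such
that every finitely presented quasi-coherent module is a quotient of a finite direct sum of copies
of a tensor power of F; more precisely, for all sufficiently large n and m there is an epimorphism
from the direct sum of m copies of the n-th tensor power of F. -/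
theorem result (X : Scheme.{u}) [CompactSpace X] [QuasiSeparatedSpace X] :
    ∃ F : X.Modules, Coh.IsQCoh F ∧ CohB1.IsFP F ∧
      ∀ M : X.Modules, Coh.IsQCoh M → CohB1.IsFP M →
        ∃ n₀ m₀ : ℕ, ∀ n m : ℕ, n₀ ≤ n → m₀ ≤ m →
          ∃ π : (∐ fun _ : Fin m => CohB1.tensorPow F n) ⟶ M, Epi π := by
  obtain ⟨F, hF, hF', h⟩ := Groth.Agent.DeligneFP18.exists_generator (X := X)
  exact ⟨F, hF, hF', fun M hM hMf => h M hM (Groth.Agent.M1.isFP_isFT hMf)⟩

end Groth.Agent.S13530
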