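import Groth.Statements.S13533
import Groth.Agent.Lib.BasicElt14.Local

set_option autoImplicit false
universe u
open ResProp

set_option backward.isDefEq.respectTransparency.types false

namespace Groth.Agent.S13533

/-- Let k ≤ r, let A be a Noetherian ring none of whose associated primes has height greater than k, and
let M be a finitely generated A-module which is free of rank r at every prime of height at most k.
Then M has a free submodule N of rank r - k such that M/N is free of rank k at every prime of height
at most k. Freeness of a given rank is expressed by linear isomorphisms with coordinate modules.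
(The published statement has no hypothesis on the associated primes of A; for A = ℤ[X]/(X², 2X), M =
A/(X), k = 0 and r = 1 every other hypothesis holds while X annihilates M, so M contains no free
submodule of rank 1. The printed argument produces an element of M that is part of a basis at every
prime of height at most k; the submodule it generates is free exactly when its annihilator vanishes
at the associated primes of A, which the added hypothesis guarantees.) -/
theorem result (A : Type u) [CommRing A] [IsNoetherianRing A]
    (M : Type u) [AddCommGroup M] [Module A M] [Module.Finite A M] (k r : ℕ) (hkr : k ≤ r)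
    (hAss : ∀ p ∈ associatedPrimes A A, p.height ≤ k)
    (hM : ∀ p : PrimeSpectrum A, p.asIdeal.height ≤ k →
      Nonempty (LocalizedModule p.asIdeal.primeCompl M ≃ₗ[Localization.AtPrime p.asIdeal]
        (Fin r → Localization.AtPrime p.asIdeal))) :
    ∃ N : Submodule A M, Nonempty (N ≃ₗ[A] (Fin (r - k) → A)) ∧
      ∀ p : PrimeSpectrum A, p.asIdeal.height ≤ k →
        Nonempty (LocalizedModule p.asIdeal.primeCompl (M ⧸ N) ≃ₗ[Localization.AtPrime p.asIdeal]
          (Fin k → Localization.AtPrime p.asIdeal)) := by
  classical
  obtain ⟨v, hv⟩ := BasicElt14.exists_independent (M := M) r k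
    (fun p hp => (hM p hp).elim fun e => BasicElt14.finrank_fib e) (r - k) (by omega)
  have hloc : ∀ p : PrimeSpectrum A, p.asIdeal.height ≤ k →
      Nonempty (LocalizedModule p.asIdeal.primeCompl (M ⧸ Submodule.span A (Set.range v)) ≃ₗ[Localization.AtPrime p.asIdeal]
        (Fin k → Localization.AtPrime p.asIdeal)) ∧
      ∀ c : Fin (r - k) → A, ∑ i, c i • v i = 0 → ∀ i, ∃ f : A, f ∉ p.asIdeal ∧ f * c i = 0 :=
    fun p hp => (hM p hp).elim fun e => BasicElt14.nonempty_quotient_equiv (k := k) (by omega) e v (hv p hp)
  refine ⟨Submodule.span A (Set.range v), ?_, fun p hp => (hloc p hp).1⟩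
  have hli : LinearIndependent A v := by
    rw [Fintype.linearIndependent_iff]
    intro c hc i
    by_contra hne
    obtain ⟨P, hP, hle⟩ := exists_le_isAssociatedPrime_of_isNoetherianRing A (c i) hne
    obtain ⟨f, hf, hfc⟩ := (hloc ⟨P, hP.isPrime⟩ (hAss P hP)).2 c hc i
    exact hf (hle (Submodule.mem_colon_singleton.2 ((Submodule.mem_bot A).2 hfc)))
  exact ⟨(Module.Basis.span hli).equivFun⟩

end Groth.Agent.S13533
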