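import Groth.Statements.S13536
import Groth.Agent.Lib.OffClosed5.Basic

set_option autoImplicit false
universe u
open CategoryTheory CategoryTheory.Limits AlgebraicGeometry
open ResProp
open Groth.Agent

namespace Groth.Agent.S13536

/-- On a Noetherian scheme X let Z be a closed subscheme of cohomological dimension at most k (every
quasi-coherent module on Z has zero cohomology in degrees ≥ k + 1) and let F, F' be coherent modules
which are isomorphic on the open complement of Z. Then H^i(X, F) and H^i(X, F') are isomorphic for
all i ≥ k + 2 (existence of an additive isomorphism only; the identification depends on choices). -/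
theorem result (X : Scheme.{u}) [IsNoetherian X]
    {Z : Scheme.{u}} (ι : Z ⟶ X) [IsClosedImmersion ι] (k : ℕ)
    (hcd : ∀ G : Z.Modules, Coh.IsQCoh G → ∀ i : ℕ, k + 1 ≤ i → Subsingleton (Coh.HH Z G i))
    (U : X.Opens) (hU : (U : Set X) = (Set.range ι.base)ᶜ)
    (F F' : X.Modules) (hF : Coh.IsCoh F) (hF' : Coh.IsCoh F')
    (hiso : Nonempty (F.restrict U.ι ≅ F'.restrict U.ι)) (i : ℕ) (hi : k + 2 ≤ i) :
    Nonempty (Coh.HH X F i ≃+ Coh.HH X F' i) := by
  obtain ⟨e⟩ := hiso
  exact OffClosed5.nonempty_HH_addEquiv ι k hcd U hU hF hF' e.symm i hi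

end Groth.Agent.S13536
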