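import Groth.Statements.S13548
import Groth.Agent.Lib.FMAdj9.DiagBC

set_option autoImplicit false
set_option linter.style.haveILetI false
set_option backward.isDefEq.respectTransparency false
universe u
open CategoryTheory AlgebraicGeometry
attribute [local instance] HasDerivedCategory.standard
open DEquiv

namespace Groth.Agent.S13548

/-- Let X → S and Y → S be smooth proper morphisms, K (a complex of modules on X ×_S Y) a Fourier–Mukai
kernel giving a relative equivalence over S from X to Y, and S₁ → S a morphism of schemes; put X₁ =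
X ×_S S₁ and Y₁ = Y ×_S S₁. The derived functors involved are assumed to exist (instance binders).
Then every complex K₁ of modules on X₁ ×_{S₁} Y₁ whose image in D(O_{X₁ ×_{S₁} Y₁}) is isomorphic to
the derived inverse image of K along the induced morphism X₁ ×_{S₁} Y₁ → X ×_S Y is a Fourier–Mukai
kernel giving a relative equivalence over S₁ from X₁ to Y₁. -/
theorem result {S S₁ X Y : Scheme.{u}} (a : X ⟶ S) (b : Y ⟶ S) (g : S₁ ⟶ S)
    [Smooth a] [IsProper a] [Smooth b] [IsProper b]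
    (K : CochainComplex (Limits.pullback a b).Modules ℤ)
    [DCoh.HasLpull (FMK.p12 a b a)] [DCoh.HasRpush (FMK.p13 a b a)]
    [∀ L : CochainComplex (FMK.T a b a).Modules ℤ, DCoh.HasLTensorCx L]
    [DCoh.HasLpull (FMK.p12 b a b)] [DCoh.HasRpush (FMK.p13 b a b)]
    [∀ L : CochainComplex (FMK.T b a b).Modules ℤ, DCoh.HasLTensorCx L]
    (hK : FMK.IsRelEquivKernel a b K)
    [DCoh.HasLpull (FMK.p12 (Limits.pullback.snd a g) (Limits.pullback.snd b g) (Limits.pullback.snd a g))]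
    [DCoh.HasRpush (FMK.p13 (Limits.pullback.snd a g) (Limits.pullback.snd b g) (Limits.pullback.snd a g))]
    [∀ L : CochainComplex (FMK.T (Limits.pullback.snd a g) (Limits.pullback.snd b g) (Limits.pullback.snd a g)).Modules ℤ, DCoh.HasLTensorCx L]
    [DCoh.HasLpull (FMK.p12 (Limits.pullback.snd b g) (Limits.pullback.snd a g) (Limits.pullback.snd b g))]
    [DCoh.HasRpush (FMK.p13 (Limits.pullback.snd b g) (Limits.pullback.snd a g) (Limits.pullback.snd b g))]
    [∀ L : CochainComplex (FMK.T (Limits.pullback.snd b g) (Limits.pullback.snd a g) (Limits.pullback.snd b g)).Modules ℤ, DCoh.HasLTensorCx L]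
    [DCoh.HasLpull (Limits.pullback.map (Limits.pullback.snd a g) (Limits.pullback.snd b g) a b
      (Limits.pullback.fst a g) (Limits.pullback.fst b g) g (Limits.pullback.condition).symm (Limits.pullback.condition).symm)]
    (K₁ : CochainComplex (Limits.pullback (Limits.pullback.snd a g) (Limits.pullback.snd b g)).Modules ℤ)
    (hK₁ : Nonempty (DCoh.toD _ K₁ ≅ (DCoh.Lpull (Limits.pullback.map (Limits.pullback.snd a g) (Limits.pullback.snd b g) a b
      (Limits.pullback.fst a g) (Limits.pullback.fst b g) g (Limits.pullback.condition).symm (Limits.pullback.condition).symm)).obj (DCoh.toD _ K))) :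
    FMK.IsRelEquivKernel (Limits.pullback.snd a g) (Limits.pullback.snd b g) K₁ := by
  obtain ⟨hKp, K', hK'p, ⟨hX⟩, ⟨hY⟩⟩ := hK
  haveI : DCoh.HasLpull (FMAdj9.bcMap₂ a b g) := KFlat.Sch.hasLpull _
  haveI : DCoh.HasLpull (FMAdj9.bcMap₂ b a g) := KFlat.Sch.hasLpull _
  haveI : DCoh.HasLpull (FMAdj9.bcMap₂ a a g) := KFlat.Sch.hasLpull _
  haveI : DCoh.HasLpull (FMAdj9.bcMap₂ b b g) := KFlat.Sch.hasLpull _
  haveI : DCoh.HasLpull (FMK.p23 a b a) := KFlat.Sch.hasLpull _
  haveI : DCoh.HasLpull (FMK.p23 b a b) := KFlat.Sch.hasLpull _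
  haveI : DCoh.HasLpull (FMK.p23 (Limits.pullback.snd a g) (Limits.pullback.snd b g) (Limits.pullback.snd a g)) :=
    KFlat.Sch.hasLpull _
  haveI : DCoh.HasLpull (FMK.p23 (Limits.pullback.snd b g) (Limits.pullback.snd a g) (Limits.pullback.snd b g)) :=
    KFlat.Sch.hasLpull _
  haveI : QuasiCompact (FMK.p13 a b a) := FMAdj9.qc_p13 a b a
  haveI : QuasiSeparated (FMK.p13 a b a) := FMAdj9.qs_p13 a b a
  haveI : QuasiCompact (FMK.p13 b a b) := FMAdj9.qc_p13 b a b
  haveI : QuasiSeparated (FMK.p13 b a b) := FMAdj9.qs_p13 b a b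
  haveI : Flat (FMK.p23 a b a) := inferInstance
  haveI : Flat (FMK.p23 b a b) := inferInstance
  haveI : Flat (FMK.p23 (Limits.pullback.snd a g) (Limits.pullback.snd b g) (Limits.pullback.snd a g)) := inferInstance
  haveI : Flat (FMK.p23 (Limits.pullback.snd b g) (Limits.pullback.snd a g) (Limits.pullback.snd b g)) := inferInstance
  obtain ⟨K₁', ⟨eK₁'⟩⟩ : ∃ N : CochainComplex (Limits.pullback (Limits.pullback.snd b g) (Limits.pullback.snd a g)).Modules ℤ,
      Nonempty (DCoh.toD _ N ≅ (DCoh.Lpull (FMAdj9.bcMap₂ b a g)).obj (DCoh.toD _ K')) :=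
    ⟨_, ⟨DerivedCategory.Q.objObjPreimageIso _⟩⟩
  obtain ⟨eK₁⟩ := hK₁
  obtain ⟨dX⟩ := FMAdj9.nonempty_pull_diagO a g
  obtain ⟨dY⟩ := FMAdj9.nonempty_pull_diagO b g
  obtain ⟨cX⟩ := FMAdj9.nonempty_pull_conv a b a g inferInstance K (DGen9.isQCohD_of_isPerfect hKp)
    K' (DGen9.isQCohD_of_isPerfect hK'p) _ (FMAdj9.nonempty_cxPull_iso _ K') K₁ ⟨eK₁⟩ K₁' ⟨eK₁'⟩ _
    (FMAdj9.nonempty_cxPull_iso _ K₁')
  obtain ⟨cY⟩ := FMAdj9.nonempty_pull_conv b a b g inferInstance K' (DGen9.isQCohD_of_isPerfect hK'p)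
    K (DGen9.isQCohD_of_isPerfect hKp) _ (FMAdj9.nonempty_cxPull_iso _ K) K₁' ⟨eK₁'⟩ K₁ ⟨eK₁⟩ _
    (FMAdj9.nonempty_cxPull_iso _ K₁)
  exact ⟨DGen9.isPerfect_of_iso eK₁.symm (KFlat.Sch.isPerfect_lpull _ hKp), K₁',
    DGen9.isPerfect_of_iso eK₁'.symm (KFlat.Sch.isPerfect_lpull _ hK'p),
    ⟨dX.symm ≪≫ Functor.mapIso _ hX ≪≫ cX⟩, ⟨dY.symm ≪≫ Functor.mapIso _ hY ≪≫ cY⟩⟩

end Groth.Agent.S13548
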