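import Mathlib.AlgebraicGeometry.Morphisms.Etale
import Mathlib.AlgebraicGeometry.Geometrically.Connected
import Mathlib.AlgebraicGeometry.Fiber
import Mathlib.AlgebraicGeometry.Pullbacks
import Mathlib
import Groth.Agent.Lib.GeomIrr18.Scheme
import Groth.Agent.Lib.GeomIrr18.FinCrit
import Groth.Agent.Lib.EtaleRes4.Ext

set_option autoImplicit false
universe u
namespace FlatMor
end FlatMor
open FlatMor

namespace Groth.Agent.S1355

open AlgebraicGeometry CategoryTheory Limits in
/-- Let f : X → S and s a point of S. The fibre of f over s is geometrically connected if and only if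
for every étale morphism U → S and every point u over s, the fibre over u of the base change of f to
U is connected. -/
theorem result {X S : Scheme.{u}} (f : X ⟶ S) (s : S) :
    GeometricallyConnected (f.fiberToSpecResidueField s) ↔
      ∀ (U : Scheme.{u}) (g : U ⟶ S) (u : U), Etale g → g u = s → ConnectedSpace ↑((pullback.snd f g).fiber u) := by
  constructor
  · rintro hGC U g u - rfl
    haveI := hGC
    let k : Spec (U.residueField u) ⟶ Spec (S.residueField (g u)) := Spec.map (g.residueFieldMap u)
    haveI : ConnectedSpace ↥(pullback (f.fiberToSpecResidueField (g u)) k) :=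
      GeometricallyConnected.geometrically_connectedSpace (f := f.fiberToSpecResidueField (g u)) (K := U.residueField u)
        k (pullback.fst _ _) (pullback.snd _ _) (IsPullback.of_hasPullback _ _)
    let e : pullback (f.fiberToSpecResidueField (g u)) k ≅ (pullback.snd f g).fiber u :=
      pullbackLeftPullbackSndIso f (S.fromSpecResidueField (g u)) k ≪≫
        pullback.congrHom rfl (Scheme.Hom.SpecMap_residueFieldMap_fromSpecResidueField g u) ≪≫
        (pullbackLeftPullbackSndIso f g (U.fromSpecResidueField u)).symm
    exact GeomIrr.connectedSpace_of_surjective e.hom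
  · intro h
    obtain ⟨U₀, hU₀, hsU, -⟩ := exists_isAffineOpen_mem_and_subset (X := S) (x := s) (U := ⊤) trivial
    let A : Type u := Γ(S, U₀)
    let pp := hU₀.primeIdealOf ⟨s, hsU⟩
    let p : Ideal A := pp.asIdeal
    let K : Type u := p.ResidueField
    let ι : Spec (CommRingCat.of K) ⟶ Spec Γ(S, U₀) := Spec.map (CommRingCat.ofHom (algebraMap A K))
    let σ : Spec (CommRingCat.of K) ⟶ S := ι ≫ hU₀.fromSpec
    have hι : ∀ t, ι t = pp := fun t => PrimeSpectrum.ext (by
      show Ideal.comap (algebraMap A K) (show PrimeSpectrum K from t).asIdeal = p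
      rw [(IsSimpleOrder.eq_bot_or_eq_top (show PrimeSpectrum K from t).asIdeal).resolve_right
        (show PrimeSpectrum K from t).isPrime.ne_top, ← RingHom.ker_eq_comap_bot, Ideal.ker_algebraMap_residueField])
    let c : Spec (CommRingCat.of K) := IsLocalRing.closedPoint K
    have hσ : σ c = s := (congrArg hU₀.fromSpec (hι c)).trans (hU₀.fromSpec_primeIdealOf ⟨s, hsU⟩)
    let a : Spec (CommRingCat.of K) ⟶ Spec (S.residueField s) :=
      Spec.map (S.descResidueField (Scheme.stalkClosedPointTo σ)) ≫ Spec.map (S.residueFieldCongr hσ.symm).hom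
    have ha : a ≫ S.fromSpecResidueField s = σ := by
      rw [Category.assoc, show Spec.map (S.residueFieldCongr hσ.symm).hom ≫ S.fromSpecResidueField s = S.fromSpecResidueField (σ c) from
        Scheme.residueFieldCongr_fromSpecResidueField _]
      exact Scheme.descResidueField_stalkClosedPointTo_fromSpecResidueField K S σ
    haveI : Subsingleton ↥(Spec (S.residueField s)) := inferInstanceAs (Subsingleton (PrimeSpectrum (S.residueField s)))
    haveI : Surjective a := ⟨fun x => ⟨c, Subsingleton.elim _ _⟩⟩
    let X' := pullback (f.fiberToSpecResidueField s) a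
    letI : X'.Over (Spec (CommRingCat.of K)) := ⟨pullback.snd _ _⟩
    haveI : ConnectedSpace ↥(Curv2.bc K X' (SeparableClosure K)) := by
      refine GeomIrr.connectedSpace_bc_separableClosure K X' fun L _ _ _ _ => ?_
      letI : Algebra A L := ((algebraMap K L).comp (algebraMap A K)).toAlgebra
      haveI : IsScalarTower A K L := IsScalarTower.of_algebraMap_eq' rfl
      obtain ⟨R', _, _, _, q, _, hq, ⟨eqv⟩⟩ := ER4.exists_etale_residueField_ext p L
      let g : Spec (CommRingCat.of R') ⟶ S := Spec.map (CommRingCat.ofHom (algebraMap A R')) ≫ hU₀.fromSpec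
      haveI : Etale (Spec.map (CommRingCat.ofHom (algebraMap A R'))) :=
        (HasRingHomProperty.Spec_iff (P := @Etale)).mpr (RingHom.etale_algebraMap.mpr inferInstance)
      haveI : Etale g := inferInstance
      let u : Spec (CommRingCat.of R') := ⟨q, inferInstance⟩
      have hgu : g u = s := by
        refine (congrArg hU₀.fromSpec ?_).trans (hU₀.fromSpec_primeIdealOf ⟨s, hsU⟩)
        exact PrimeSpectrum.ext hq
      haveI := h _ g u inferInstance hgu
      let t : Spec (CommRingCat.of L) ⟶ Spec (CommRingCat.of K) := Spec.map (CommRingCat.ofHom (algebraMap K L))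
      let θ : Spec (CommRingCat.of L) ⟶ Spec ((Spec (CommRingCat.of R')).residueField u) :=
        Spec.map ((Scheme.Spec.residueFieldIso (CommRingCat.of R') u).hom ≫
          (show q.ResidueField ≃+* L from eqv.symm.toRingEquiv).toCommRingCatIso.hom)
      have hθ : θ ≫ (Spec (CommRingCat.of R')).fromSpecResidueField u ≫ g = t ≫ a ≫ S.fromSpecResidueField s := by
        rw [ha, ← Scheme.Spec.map_residueFieldIso_inv_eq_fromSpecResidueField]
        show Spec.map _ ≫ (Spec.map _ ≫ Spec.map _) ≫ Spec.map _ ≫ hU₀.fromSpec = Spec.map _ ≫ Spec.map _ ≫ hU₀.fromSpec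
        simp only [← Spec.map_comp_assoc, ← Spec.map_comp, Category.assoc]
        congr 2
        ext x
        show eqv.symm ((Scheme.Spec.residueFieldIso (CommRingCat.of R') u).hom
          ((Scheme.Spec.residueFieldIso (CommRingCat.of R') u).inv (algebraMap R' _ (algebraMap A R' x)))) = algebraMap A L x
        rw [Iso.inv_hom_id_apply, ← IsScalarTower.algebraMap_apply A R' q.ResidueField, AlgEquiv.commutes]
      haveI : IsIso θ := inferInstance
      let e : pullback ((pullback.snd f g).fiberToSpecResidueField u) θ ≅ Curv2.bc K X' L :=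
        pullbackLeftPullbackSndIso (pullback.snd f g) ((Spec (CommRingCat.of R')).fromSpecResidueField u) θ ≪≫
          pullbackLeftPullbackSndIso f g _ ≪≫
          pullback.congrHom rfl (show (θ ≫ (Spec (CommRingCat.of R')).fromSpecResidueField u) ≫ g = (t ≫ a) ≫ S.fromSpecResidueField s by
            simpa only [Category.assoc] using hθ) ≪≫
          (pullbackLeftPullbackSndIso f (S.fromSpecResidueField s) (t ≫ a)).symm ≪≫
          (pullbackLeftPullbackSndIso (f.fiberToSpecResidueField s) a t).symm
      haveI : ConnectedSpace ↥(pullback ((pullback.snd f g).fiberToSpecResidueField u) θ) :=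
        (pullback.fst ((pullback.snd f g).fiberToSpecResidueField u) θ).homeomorph.symm.surjective.connectedSpace
          (pullback.fst ((pullback.snd f g).fiberToSpecResidueField u) θ).homeomorph.symm.continuous
      exact GeomIrr.connectedSpace_of_surjective e.hom
    haveI : GeometricallyConnected (pullback.snd (f.fiberToSpecResidueField s) a) :=
      @GeomIrr.geometricallyConnected_of_bc K _ _ (pullback.snd (f.fiberToSpecResidueField s) a) (SeparableClosure K) _ _ _
        ‹ConnectedSpace ↥(Curv2.bc K X' (SeparableClosure K))›
    exact GeomIrr.geometricallyConnected_of_pullback (f.fiberToSpecResidueField s) a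

end Groth.Agent.S1355
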