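import Groth.Statements.S1453
import Groth.Agent.S1324
import Groth.Agent.S1326
import Groth.Agent.S1327
import Groth.Agent.Lib.Nis27.ConstrCompact
-- import your own Groth.Agent.* helpers here

set_option autoImplicit false
universe u
open FlatMor

namespace Groth.Agent.S1453

open AlgebraicGeometry CategoryTheory Limits in
/-- Let f : X → Y be flat and of finite presentation with all fibres geometrically reduced, let Z → Y be
finite locally free with a Y-morphism σ : Z → X, and let y be a point with Z_y nonempty and X_y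
geometrically connected. Then there is a quasi-compact open X⁰ of X containing the whole fibre X_y
such that every nonempty fibre of X⁰ → Y is geometrically connected. -/
theorem result {X Y Z : Scheme.{u}} (f : X ⟶ Y) [Flat f] [LocallyOfFinitePresentation f] [QuasiCompact f] [QuasiSeparated f]
    [GeometricallyReduced f] (g : Z ⟶ Y) (hg : Mor2.IsFinLocFree g) (σ : Z ⟶ X) (hσ : σ ≫ f = g) (y : Y) (hZy : y ∈ Set.range ⇑g)
    (hXy : GeometricallyConnected (f.fiberToSpecResidueField y)) :
    ∃ U : X.Opens, IsCompact (U : Set ↑X) ∧ f ⁻¹' {y} ⊆ (U : Set ↑X) ∧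
      ∀ y' : Y, (∃ x ∈ U, f x = y') → GeometricallyConnected ((U.ι ≫ f).fiberToSpecResidueField y') := by
  classical
  haveI := hg.1
  haveI := hg.2.1
  haveI := hg.2.2
  let P := pullback f g
  let F : P ⟶ Z := pullback.snd f g
  let q : P ⟶ X := pullback.fst f g
  let s : Z ⟶ P := pullback.lift σ (𝟙 Z) (by rw [hσ, Category.id_comp])
  have hs : s ≫ F = 𝟙 Z := pullback.lift_snd _ _ _
  have hsq : s ≫ q = σ := pullback.lift_fst _ _ _
  let C := MoreMor.sectionComponents F s
  have hCo : IsOpen C := by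
    refine isOpen_iff_mem_nhds.2 fun x hx => mem_interior_iff_mem_nhds.1 ?_
    exact S1327.result F s hs (F x) inferInstance hx
  have hCc : Topology.IsLocallyConstructible C := S1326.result F s hs
  -- over y the fibres are connected
  have hover : ∀ p : P, g (F p) = y → p ∈ C := fun p hp => by
    subst hp
    haveI := hXy
    haveI : GeometricallyConnected (F.fiberToSpecResidueField (F p)) :=
      MorphismProperty.of_isPullback (P := @GeometricallyConnected)
        (isPullback_fiberToSpecResidueField_of_isPullback (IsPullback.of_hasPullback f g) (F p)) hXy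
    haveI : ConnectedSpace (F.fiber (F p)) :=
      GeometricallyConnected.connectedSpace_of_subsingleton (F.fiberToSpecResidueField (F p))
    have h1 : _root_.IsPreconnected (F ⁻¹' {F p}) := by
      rw [← Scheme.Hom.range_fiberι]
      exact isPreconnected_range (F.fiberι (F p)).continuous
    refine h1.subset_connectedComponentIn ?_ subset_rfl rfl
    show F (s (F p)) = F p
    rw [← Scheme.Hom.comp_apply s F, hs]; rfl
  -- pairs
  let ψ : pullback g g ⟶ P := pullback.lift (pullback.snd g g ≫ σ) (pullback.fst g g) (by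
    rw [Category.assoc, hσ, pullback.condition])
  let bad : Set Y := (pullback.fst g g ≫ g) '' (ψ ⁻¹' C)ᶜ
  have hbad : IsClosed bad := (pullback.fst g g ≫ g).isClosedMap _ ((hCo.preimage ψ.continuous).isClosed_compl)
  have hybad : y ∉ bad := by
    rintro ⟨w, hw, e⟩
    refine hw (hover _ ?_)
    rw [← e, ← Scheme.Hom.comp_apply ψ F]
    show g ((ψ ≫ pullback.snd f g) w) = _
    rw [pullback.lift_snd]
    rfl
  haveI : UniversallyOpen g := UniversallyOpen.of_flat g
  obtain ⟨Y₁, hY₁, hyY₁, hY₁sub⟩ := exists_isAffineOpen_mem_and_subset (X := Y) (x := y)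
    (U := ⟨badᶜ ∩ Set.range g, hbad.isOpen_compl.inter g.isOpenMap.isOpen_range⟩) ⟨hybad, hZy⟩
  haveI : UniversallyOpen q := inferInstance
  let S : P.Opens := (F ≫ g) ⁻¹ᵁ Y₁
  have hU : IsCompact (q '' (C ∩ (S : Set P))) := by
    refine IsCompact.image ?_ q.continuous
    haveI : CompactSpace S := isCompact_iff_compactSpace.1 ((F ≫ g).isCompact_preimage hY₁.isCompact)
    haveI : IsAffine Y₁ := hY₁
    haveI : QuasiSeparatedSpace (S : Scheme.{u}) :=
      (quasiSeparated_iff_quasiSeparatedSpace ((F ≫ g) ∣_ Y₁)).1 inferInstance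
    have h1 := Nis27.isCompact_constructible
      (hCc.preimage_of_isOpenEmbedding S.ι.isOpenEmbedding).isConstructible
    have h2 := h1.image S.ι.continuous
    rwa [Set.image_preimage_eq_inter_range, Scheme.Opens.range_ι] at h2
  let U : X.Opens := ⟨q '' (C ∩ (S : Set P)), q.isOpenMap _ (hCo.inter S.isOpen)⟩
  refine ⟨U, hU, fun x hx => ?_, ?_⟩
  · obtain ⟨z, hz⟩ := hZy
    have hx' : f x = y := hx
    obtain ⟨p, hp1, hp2⟩ := Scheme.Pullback.exists_preimage_pullback (f := f) (g := g) x z (by rw [hx', hz])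
    refine ⟨p, ⟨hover p ?_, ?_⟩, hp1⟩
    · show g (pullback.snd f g p) = y
      rw [hp2, hz]
    · show g (pullback.snd f g p) ∈ Y₁
      rw [hp2, hz]; exact hyY₁
  intro y' hy'
  have hy'Y₁ : y' ∈ Y₁ := by
    obtain ⟨x, ⟨p, ⟨hpC, hpS⟩, rfl⟩, rfl⟩ := hy'
    show f (q p) ∈ Y₁
    rw [← Scheme.Hom.comp_apply, pullback.condition]
    exact hpS
  refine ⟨fun K _ t T fst snd h => ?_⟩
  let τ : Spec (CommRingCat.of K) ⟶ Y := t ≫ Y.fromSpecResidueField y'
  have hτ : ∀ k, τ k = y' := fun k => by
    rw [Scheme.Hom.comp_apply]; exact Scheme.fromSpecResidueField_apply _ _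
  have hT : IsPullback (fst ≫ (U.ι ≫ f).fiberι y') snd (U.ι ≫ f) τ :=
    h.paste_horiz (IsPullback.of_hasPullback (U.ι ≫ f) (Y.fromSpecResidueField y'))
  let XK := pullback f τ
  let xK : XK ⟶ X := pullback.fst f τ
  let πZ : pullback g τ ⟶ Z := pullback.fst g τ
  let bZ : pullback g τ ⟶ Spec (CommRingCat.of K) := pullback.snd g τ
  let F' : pullback F πZ ⟶ pullback g τ := pullback.snd F πZ
  let g' : pullback F πZ ⟶ P := pullback.fst F πZ
  let s' : pullback g τ ⟶ pullback F πZ := pullback.lift (πZ ≫ s) (𝟙 _) (by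
    rw [Category.assoc, hs, Category.comp_id, Category.id_comp])
  have hsF' : s' ≫ F' = 𝟙 _ := pullback.lift_snd _ _ _
  have hsg' : s' ≫ g' = πZ ≫ s := pullback.lift_fst _ _ _
  have hC' : MoreMor.sectionComponents F' s' = g' ⁻¹' C :=
    S1324.result F s hs F' g' πZ (IsPullback.of_hasPullback F πZ) s' hsF' hsg'
  let q' : pullback F πZ ⟶ XK := pullback.lift (g' ≫ q) (F' ≫ bZ) (by
    rw [Category.assoc, show q ≫ f = F ≫ g from pullback.condition, ← Category.assoc,
      show g' ≫ F = F' ≫ πZ from pullback.condition, Category.assoc, Category.assoc,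
      show πZ ≫ g = bZ ≫ τ from pullback.condition])
  have hsq' : IsPullback g' q' q xK := by
    refine IsPullback.of_bot ?_ (pullback.lift_fst _ _ _).symm (IsPullback.of_hasPullback f τ)
    rw [show q' ≫ pullback.snd f τ = F' ≫ bZ from pullback.lift_snd _ _ _,
      show q ≫ f = F ≫ g from pullback.condition]
    exact (IsPullback.of_hasPullback F πZ).paste_vert (IsPullback.of_hasPullback g τ)
  -- the fibre of `U` inside the base change
  let j : T ⟶ XK := pullback.lift (fst ≫ (U.ι ≫ f).fiberι y' ≫ U.ι) snd (by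
    simpa only [Category.assoc] using hT.w)
  have hj : IsPullback (fst ≫ (U.ι ≫ f).fiberι y') j U.ι xK := by
    refine IsPullback.of_bot ?_ ?_ (IsPullback.of_hasPullback f τ)
    · rw [show j ≫ pullback.snd f τ = snd from pullback.lift_snd _ _ _]
      exact hT
    · rw [show j ≫ xK = _ from pullback.lift_fst _ _ _, Category.assoc]
  haveI : IsOpenImmersion j := MorphismProperty.of_isPullback hj inferInstance
  have hrange : Set.range j = q' '' MoreMor.sectionComponents F' s' := by
    rw [hC']
    ext x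
    constructor
    · rintro ⟨w, rfl⟩
      have h1 : xK (j w) ∈ (U : Set X) := by
        rw [← Scheme.Hom.comp_apply, show j ≫ xK = _ from pullback.lift_fst _ _ _, Scheme.Hom.comp_apply,
          Scheme.Hom.comp_apply]
        exact (((U.ι ≫ f).fiberι y') (fst w)).2
      obtain ⟨p, ⟨hpC, -⟩, hp⟩ := h1
      obtain ⟨p', hp'1, hp'2⟩ := Scheme.exists_preimage_of_isPullback hsq' p (j w) hp
      exact ⟨p', show g' p' ∈ C by rw [hp'1]; exact hpC, hp'2⟩
    · rintro ⟨p', hp', rfl⟩
      have h1 : xK (q' p') ∈ (U : Set X) := by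
        refine ⟨g' p', ⟨hp', ?_⟩, ?_⟩
        · show (F ≫ g) (g' p') ∈ Y₁
          rw [← Scheme.Hom.comp_apply, ← Category.assoc, show g' ≫ F = F' ≫ πZ from pullback.condition,
            Category.assoc, show πZ ≫ g = bZ ≫ τ from pullback.condition, ← Category.assoc,
            Scheme.Hom.comp_apply, hτ]
          exact hy'Y₁
        · rw [← Scheme.Hom.comp_apply, ← Scheme.Hom.comp_apply, hsq'.w]
      obtain ⟨w, -, hw⟩ := Scheme.exists_preimage_of_isPullback hj ⟨_, h1⟩ (q' p') rfl
      exact ⟨w, hw⟩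
  obtain ⟨z₀⟩ : Nonempty ↥(pullback g τ) := by
    obtain ⟨z, hz⟩ := (hY₁sub hy'Y₁).2
    obtain ⟨z', -, -⟩ := Scheme.Pullback.exists_preimage_pullback (f := g) (g := τ) z (IsLocalRing.closedPoint K)
      (by rw [hz, hτ])
    exact ⟨z'⟩
  have hA : ∀ z, _root_.IsPreconnected (q' '' connectedComponentIn (F' ⁻¹' {z}) (s' z)) := fun z =>
    isPreconnected_connectedComponentIn.image _ q'.continuous.continuousOn
  have hself : ∀ z, s' z ∈ F' ⁻¹' {z} := fun z => by
    show F' (s' z) = z
    rw [← Scheme.Hom.comp_apply, hsF']; rfl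
  have hmeet : ∀ z z', q' (s' z') ∈ q' '' connectedComponentIn (F' ⁻¹' {z}) (s' z) := fun z z' => by
    obtain ⟨w, hw1, hw2⟩ := Scheme.Pullback.exists_preimage_pullback (f := bZ) (g := bZ) z z'
      (Subsingleton.elim (α := Spec (CommRingCat.of K)) _ _)
    let l : pullback bZ bZ ⟶ pullback g g := pullback.map _ _ _ _ πZ πZ τ pullback.condition.symm
      pullback.condition.symm
    let ψ' : pullback bZ bZ ⟶ pullback F πZ := pullback.lift (l ≫ ψ) (pullback.fst bZ bZ) (by
      rw [Category.assoc, show ψ ≫ F = pullback.fst g g from pullback.lift_snd _ _ _,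
        show l ≫ pullback.fst g g = pullback.fst bZ bZ ≫ πZ from pullback.lift_fst _ _ _])
    have e1 : ψ' ≫ q' = pullback.snd bZ bZ ≫ s' ≫ q' := by
      refine pullback.hom_ext ?_ ?_
      · simp only [Category.assoc]
        rw [show q' ≫ pullback.fst f τ = g' ≫ q from pullback.lift_fst _ _ _, reassoc_of% hsg', hsq,
          show ψ' ≫ g' ≫ q = l ≫ ψ ≫ q from by
            rw [← Category.assoc, show ψ' ≫ g' = l ≫ ψ from pullback.lift_fst _ _ _, Category.assoc],
          show ψ ≫ q = pullback.snd g g ≫ σ from pullback.lift_fst _ _ _, ← Category.assoc,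
          show l ≫ pullback.snd g g = pullback.snd bZ bZ ≫ πZ from pullback.lift_snd _ _ _, Category.assoc]
      · simp only [Category.assoc]
        rw [show q' ≫ pullback.snd f τ = F' ≫ bZ from pullback.lift_snd _ _ _, reassoc_of% hsF',
          show ψ' ≫ F' ≫ bZ = pullback.fst bZ bZ ≫ bZ from by
            rw [← Category.assoc, show ψ' ≫ F' = pullback.fst bZ bZ from pullback.lift_snd _ _ _],
          pullback.condition]
    refine ⟨ψ' w, ?_, ?_⟩
    · have hF : F' (ψ' w) = z := by
        rw [← Scheme.Hom.comp_apply, show ψ' ≫ F' = pullback.fst bZ bZ from pullback.lift_snd _ _ _, hw1]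
      have hmem : ψ' w ∈ MoreMor.sectionComponents F' s' := by
        rw [hC']
        show g' (ψ' w) ∈ C
        rw [← Scheme.Hom.comp_apply, show ψ' ≫ g' = l ≫ ψ from pullback.lift_fst _ _ _, Scheme.Hom.comp_apply]
        refine by_contra fun hn => (hY₁sub hy'Y₁).1 ⟨l w, hn, ?_⟩
        rw [← Scheme.Hom.comp_apply, ← Category.assoc,
          show l ≫ pullback.fst g g = pullback.fst bZ bZ ≫ πZ from pullback.lift_fst _ _ _, Category.assoc,
          show πZ ≫ g = bZ ≫ τ from pullback.condition, ← Category.assoc, Scheme.Hom.comp_apply, hτ]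
      have hmem' : ψ' w ∈ connectedComponentIn (F' ⁻¹' {F' (ψ' w)}) (s' (F' (ψ' w))) := hmem
      rwa [hF] at hmem'
    · rw [← Scheme.Hom.comp_apply, e1, Scheme.Hom.comp_apply, Scheme.Hom.comp_apply, hw2]
  have hconn : _root_.IsConnected (Set.range j) := by
    rw [hrange]
    refine ⟨⟨_, s' z₀, by
      show s' z₀ ∈ connectedComponentIn _ _
      rw [show F' (s' z₀) = z₀ from hself z₀]
      exact mem_connectedComponentIn (hself z₀), rfl⟩, ?_⟩
    refine isPreconnected_of_forall (q' (s' z₀)) ?_
    rintro _ ⟨p, hp, rfl⟩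
    refine ⟨q' '' connectedComponentIn (F' ⁻¹' {F' p}) (s' (F' p)), ?_, hmeet _ _, ⟨p, hp, rfl⟩, hA _⟩
    rintro _ ⟨p₁, hp₁, rfl⟩
    refine ⟨p₁, ?_, rfl⟩
    have e : F' p₁ = F' p := connectedComponentIn_subset (F' ⁻¹' {F' p}) _ hp₁
    show p₁ ∈ connectedComponentIn _ _
    rw [e]; exact hp₁
  haveI : ConnectedSpace (Set.range j) := Subtype.connectedSpace hconn
  exact (j.isOpenEmbedding.isEmbedding.toHomeomorph.connectedSpace_iff).2 inferInstance

end Groth.Agent.S1453
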