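import Groth.Statements.S1356
import Groth.Agent.Lib.Spread4.EtNbhd
import Groth.Agent.Lib.Spread4.OpenPart
import Groth.Agent.S1453
-- import your own Groth.Agent.* helpers here

set_option autoImplicit false
universe u
open FlatMor

namespace Groth.Agent.S1356

open AlgebraicGeometry CategoryTheory Limits in
/-- Let h : Y → S be flat and of finite presentation with all fibres geometrically reduced, let s be a
point of S and T an open of the fibre over s which is geometrically connected over the residue field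
of s. Then there are an affine elementary étale neighbourhood (S', s') of (S, s) and a quasi-compact
open V of the base change of Y to S', with every fibre of V → S' geometrically connected, whose
points over s' are exactly the points of the base change over s' whose image in Y lies in T. -/
theorem result {Y S : Scheme.{u}} (h : Y ⟶ S) [Flat h] [LocallyOfFinitePresentation h] [QuasiCompact h] [QuasiSeparated h]
    [GeometricallyReduced h] (s : S) (T : (h.fiber s).Opens) (hT : GeometricallyConnected (T.ι ≫ h.fiberToSpecResidueField s)) :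
    ∃ (S' : Scheme.{u}) (g : S' ⟶ S) (s' : S'), IsAffine S' ∧ Hens2.IsEtaleNbhd g s' s ∧
      ∃ V : (pullback h g).Opens, IsCompact (V : Set ↑(pullback h g)) ∧ GeometricallyConnected (V.ι ≫ pullback.snd h g) ∧
        ∀ y' : ↑(pullback h g), pullback.snd h g y' = s' → (y' ∈ V ↔ pullback.fst h g y' ∈ (h.fiberι s) '' (T : Set ↑(h.fiber s))) := by
  classical
  obtain ⟨S₀, hS₀, hs₀, -⟩ := exists_isAffineOpen_mem_and_subset (X := S) (x := s) (U := ⊤) trivial
  haveI : IsAffine S₀ := hS₀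
  let Y₀ : Y.Opens := h ⁻¹ᵁ S₀
  haveI : QuasiSeparatedSpace (Y₀ : Scheme.{u}) := quasiSeparatedSpace_of_quasiSeparated (h ∣_ S₀)
  -- an open of `Y` with fibre `T`
  obtain ⟨O, hO, hOS₀, hOT⟩ : ∃ O : Y.Opens, IsCompact (O : Set Y) ∧ O ≤ Y₀ ∧
      h.fiberι s ⁻¹ᵁ O = T := by
    obtain ⟨O', hO', hO'T⟩ := (h.fiberι s).isEmbedding.isInducing.isOpen_iff.1 T.isOpen
    haveI : IsNoetherian (h.fiber s) := by
      haveI : LocallyOfFiniteType (h.fiberToSpecResidueField s) := MorphismProperty.pullback_snd _ _ inferInstance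
      haveI : QuasiCompact (h.fiberToSpecResidueField s) := MorphismProperty.pullback_snd _ _ inferInstance
      haveI : IsLocallyNoetherian (h.fiber s) := LocallyOfFiniteType.isLocallyNoetherian (h.fiberToSpecResidueField s)
      haveI : CompactSpace (h.fiber s) := QuasiCompact.compactSpace_of_compactSpace (h.fiberToSpecResidueField s)
      exact {}
    have hTc : IsCompact (h.fiberι s '' (T : Set ↥(h.fiber s))) :=
      (TopologicalSpace.NoetherianSpace.isCompact _).image (h.fiberι s).continuous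
    have hx : ∀ x : ↥(h.fiberι s '' (T : Set ↥(h.fiber s))), ∃ W : Y.Opens, IsAffineOpen W ∧ (x : Y) ∈ W ∧
        (W : Set Y) ⊆ ((⟨O', hO'⟩ ⊓ Y₀ : Y.Opens) : Set Y) :=
      fun x => exists_isAffineOpen_mem_and_subset (U := ⟨O', hO'⟩ ⊓ Y₀) (x := (x : Y)) (by
        obtain ⟨t, ht, e⟩ := x.2
        rw [← e]
        refine ⟨by rw [← hO'T] at ht; exact ht, ?_⟩
        have h1 : h.fiberι s t ∈ Set.range (h.fiberι s) := ⟨t, rfl⟩
        rw [Scheme.Hom.range_fiberι] at h1
        show h (h.fiberι s t) ∈ S₀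
        rw [show h (h.fiberι s t) = s from h1]; exact hs₀)
    choose W hW hxW hWO using hx
    obtain ⟨t, ht⟩ := hTc.elim_finite_subcover (fun x => (W x : Set Y)) (fun x => (W x).isOpen)
      (fun x hx => Set.mem_iUnion.2 ⟨⟨x, hx⟩, hxW ⟨x, hx⟩⟩)
    refine ⟨⟨⋃ x ∈ t, (W x : Set Y), isOpen_biUnion fun x _ => (W x).isOpen⟩,
      t.finite_toSet.isCompact_biUnion fun x _ => (hW x).isCompact, ?_, ?_⟩
    · intro z hz
      obtain ⟨x, hx, hzx⟩ := Set.mem_iUnion₂.1 (show z ∈ ⋃ x ∈ t, (W x : Set Y) from hz)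
      exact (hWO x hzx).2
    · refine TopologicalSpace.Opens.ext (Set.Subset.antisymm ?_ ?_)
      · intro z hz
        obtain ⟨x, hx, hzx⟩ := Set.mem_iUnion₂.1 (show h.fiberι s z ∈ ⋃ x ∈ t, (W x : Set Y) from hz)
        rw [← hO'T]
        exact (hWO x hzx).1
      · intro z hz
        exact ht ⟨z, hz, rfl⟩
  subst hOT
  let hO₀ : (O : Scheme.{u}) ⟶ (S₀ : Scheme.{u}) := h.resLE S₀ O hOS₀
  haveI : CompactSpace O := isCompact_iff_compactSpace.1 hO
  haveI : QuasiSeparatedSpace (O : Scheme.{u}) :=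
    QuasiSeparatedSpace.of_isOpenEmbedding (Y.homOfLE hOS₀).isOpenEmbedding
  haveI : QuasiCompact hO₀ := (HasAffineProperty.iff_of_isAffine (P := @QuasiCompact)).2 inferInstance
  haveI : QuasiSeparated hO₀ := (quasiSeparated_iff_quasiSeparatedSpace _).2 inferInstance
  haveI : Flat hO₀ := inferInstanceAs (Flat (Y.homOfLE hOS₀ ≫ (h ∣_ S₀)))
  haveI : LocallyOfFinitePresentation hO₀ :=
    inferInstanceAs (LocallyOfFinitePresentation (Y.homOfLE hOS₀ ≫ (h ∣_ S₀)))
  haveI : GeometricallyReduced (h ∣_ S₀) :=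
    MorphismProperty.of_isPullback (P := @GeometricallyReduced) (isPullback_morphismRestrict h S₀).flip inferInstance
  haveI : GeometricallyReduced hO₀ := Spread4.geometricallyReduced_comp_open (Y.homOfLE hOS₀) (h ∣_ S₀)
  let s₀ : (S₀ : Scheme.{u}) := ⟨s, hs₀⟩
  have hres : hO₀ ≫ S₀.ι = O.ι ≫ h := Scheme.Hom.resLE_comp_ι _ _
  -- the fibre at `s₀`
  have hGC : GeometricallyConnected (hO₀.fiberToSpecResidueField s₀) := by
    have h1 : IsPullback ((h.fiberι s) ∣_ O) ((h.fiberι s ⁻¹ᵁ O).ι ≫ h.fiberToSpecResidueField s) (O.ι ≫ h)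
        (S.fromSpecResidueField s) :=
      ((isPullback_morphismRestrict (h.fiberι s) O)).paste_vert
        (IsPullback.of_hasPullback h (S.fromSpecResidueField s))
    have h2 : IsPullback (hO₀.fiberι s₀) (hO₀.fiberToSpecResidueField s₀) (hO₀ ≫ S₀.ι)
        ((S₀ : Scheme.{u}).fromSpecResidueField s₀ ≫ S₀.ι) :=
      Spread4.isPullback_comp_mono (IsPullback.of_hasPullback hO₀ _) S₀.ι
    rw [hres, ← Scheme.Hom.SpecMap_residueFieldMap_fromSpecResidueField] at h2
    let a := h1.lift (hO₀.fiberι s₀) (hO₀.fiberToSpecResidueField s₀ ≫ Spec.map (S₀.ι.residueFieldMap s₀))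
      (h2.w.trans (Category.assoc _ _ _).symm)
    have ha : IsPullback a (hO₀.fiberToSpecResidueField s₀)
        ((h.fiberι s ⁻¹ᵁ O).ι ≫ h.fiberToSpecResidueField s) (Spec.map (S₀.ι.residueFieldMap s₀)) := by
      refine IsPullback.of_right ?_ (h1.lift_snd _ _ _) h1
      rw [show a ≫ ((h.fiberι s) ∣_ O) = _ from h1.lift_fst _ _ _]
      exact h2
    exact MorphismProperty.of_isPullback (P := @GeometricallyConnected) ha hT
  haveI hne : Nonempty (hO₀.fiber s₀) := by
    haveI := hGC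
    obtain ⟨z, -⟩ := (hO₀.fiberToSpecResidueField s₀).surjective (IsLocalRing.closedPoint _)
    exact ⟨z⟩
  obtain ⟨x, hxs, hxsm⟩ := Spread4.exists_smooth_point hO₀ s₀
    (MorphismProperty.pullback_snd _ _ (inferInstance : GeometricallyReduced hO₀)) hne
  haveI : Smooth (hO₀.smoothLocus.ι ≫ hO₀) := by
    rw [← Scheme.Hom.smoothLocus_eq_top_iff, ← Scheme.Hom.preimage_smoothLocus_eq]
    exact top_le_iff.mp fun x _ => x.2
  obtain ⟨U₀, e, u₀, he, heu, sec, hsec⟩ :=
    S0412.result (hO₀.smoothLocus.ι ≫ hO₀) s₀ ⟨⟨x, hxsm⟩, hxs⟩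
  obtain ⟨S₁, g₁, s₁, Z, gZ, τ, hS₁, hg₁, hgZ, hsZ, hτ⟩ := Spread4.exists_finLocFree_over_nbhd e u₀ s₀ heu
  haveI := hS₁
  haveI := hg₁.etale
  let P₁ := pullback hO₀ g₁
  let F : P₁ ⟶ S₁ := pullback.snd hO₀ g₁
  let σ : Z ⟶ P₁ := pullback.lift (τ ≫ sec ≫ hO₀.smoothLocus.ι) gZ (by
    rw [← hτ, ← hsec]; simp only [Category.assoc])
  have hFc : GeometricallyConnected (F.fiberToSpecResidueField s₁) := by
    refine MorphismProperty.of_isPullback (P := @GeometricallyConnected)
      (isPullback_fiberToSpecResidueField_of_isPullback (IsPullback.of_hasPullback hO₀ g₁) s₁) ?_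
    rw [hg₁.base_eq]
    exact hGC
  obtain ⟨U, hUc, hUs, hUconn⟩ := S1453.result F gZ hgZ σ (pullback.lift_snd _ _ _) s₁ hsZ hFc
  haveI : UniversallyOpen F := UniversallyOpen.of_flat F
  have hs₁U : s₁ ∈ F '' (U : Set P₁) := by
    haveI := hFc
    obtain ⟨z, -⟩ := (F.fiberToSpecResidueField s₁).surjective (IsLocalRing.closedPoint _)
    have hz : F.fiberι s₁ z ∈ Set.range (F.fiberι s₁) := ⟨z, rfl⟩
    rw [Scheme.Hom.range_fiberι] at hz
    exact ⟨_, hUs hz, hz⟩
  obtain ⟨S₂, hS₂, hs₁S₂, hS₂U⟩ := exists_isAffineOpen_mem_and_subset (X := S₁) (x := s₁)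
    (U := ⟨F '' (U : Set P₁), F.isOpenMap _ U.isOpen⟩) hs₁U
  haveI : IsAffine S₂ := hS₂
  let g : S₁ ⟶ S := g₁ ≫ S₀.ι
  have hJcond : (pullback.fst hO₀ g₁ ≫ O.ι) ≫ h = F ≫ g := by
    rw [Category.assoc, ← hres]; exact pullback.condition_assoc _
  let J : P₁ ⟶ pullback h g := pullback.lift (pullback.fst hO₀ g₁ ≫ O.ι) F hJcond
  have hJ : IsPullback (pullback.fst hO₀ g₁) J O.ι (pullback.fst h g) := by
    refine IsPullback.of_bot ?_ (pullback.lift_fst _ _ _).symm (IsPullback.of_hasPullback h g)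
    rw [show J ≫ pullback.snd h g = F from pullback.lift_snd _ _ _, ← hres]
    exact Spread4.isPullback_comp_mono (IsPullback.of_hasPullback hO₀ g₁) S₀.ι
  haveI : IsOpenImmersion J := MorphismProperty.of_isPullback hJ inferInstance
  let m : pullback h (S₂.ι ≫ g) ⟶ pullback h g := pullback.lift (pullback.fst _ _) (pullback.snd _ _ ≫ S₂.ι) (by
    rw [pullback.condition, Category.assoc])
  have hm : IsPullback m (pullback.snd h (S₂.ι ≫ g)) (pullback.snd h g) S₂.ι := by
    refine IsPullback.of_right ?_ (pullback.lift_snd _ _ _) (IsPullback.of_hasPullback h g)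
    rw [pullback.lift_fst]
    exact IsPullback.of_hasPullback _ _
  haveI : IsOpenImmersion m := MorphismProperty.of_isPullback hm.flip inferInstance
  let j : (U : Scheme.{u}) ⟶ pullback h g := U.ι ≫ J
  let V₁ : (pullback h g).Opens := j.opensRange
  let V : (pullback h (S₂.ι ≫ g)).Opens := m ⁻¹ᵁ V₁
  have hmrange : Set.range m = pullback.snd h g ⁻¹' (S₂ : Set S₁) := by
    ext q
    constructor
    · rintro ⟨p, rfl⟩
      show pullback.snd h g (m p) ∈ (S₂ : Set S₁)
      rw [← Scheme.Hom.comp_apply, hm.w, Scheme.Hom.comp_apply]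
      exact (pullback.snd h (S₂.ι ≫ g) p).2
    · intro hq
      obtain ⟨p, hp, -⟩ := Scheme.exists_preimage_of_isPullback hm q ⟨_, hq⟩ rfl
      exact ⟨p, hp⟩
  refine ⟨S₂, S₂.ι ≫ g, ⟨s₁, hs₁S₂⟩, inferInstance, ?_, V, ?_, ?_, ?_⟩
  · refine Spread4.isEtaleNbhd_comp S₂.ι g ⟨s₁, hs₁S₂⟩ s ?_ (ConcreteCategory.bijective_of_isIso _) ?_
    · show S₀.ι (g₁ s₁) = s
      rw [hg₁.base_eq]; rfl
    · show Function.Bijective ((g₁ ≫ S₀.ι).residueFieldMap s₁)
      rw [Scheme.residueFieldMap_comp]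
      exact hg₁.residue_bijective.comp (ConcreteCategory.bijective_of_isIso (S₀.ι.residueFieldMap (g₁ s₁)))
  · rw [m.isOpenEmbedding.isEmbedding.isCompact_iff]
    show IsCompact (m '' (m ⁻¹' (V₁ : Set _)))
    rw [Set.image_preimage_eq_inter_range, hmrange]
    haveI : QuasiSeparatedSpace P₁ := quasiSeparatedSpace_of_quasiSeparated F
    have h1 : IsCompact ((U : Set P₁) ∩ F ⁻¹' (S₂ : Set S₁)) :=
      QuasiSeparatedSpace.inter_isCompact _ _ U.isOpen hUc (F ⁻¹ᵁ S₂).isOpen (F.isCompact_preimage hS₂.isCompact)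
    convert h1.image J.continuous using 1
    ext q
    constructor
    · rintro ⟨⟨w, rfl⟩, hq⟩
      refine ⟨U.ι w, ⟨w.2, ?_⟩, rfl⟩
      show F (U.ι w) ∈ (S₂ : Set S₁)
      rw [show F = J ≫ pullback.snd h g from (pullback.lift_snd _ _ _).symm]
      exact hq
    · rintro ⟨w, ⟨hwU, hwS⟩, rfl⟩
      refine ⟨⟨⟨w, hwU⟩, rfl⟩, ?_⟩
      show pullback.snd h g (J w) ∈ (S₂ : Set S₁)
      rw [← Scheme.Hom.comp_apply, show J ≫ pullback.snd h g = F from pullback.lift_snd _ _ _]
      exact hwS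
  · have hsq : IsPullback ((m ∣_ V₁) ≫ j.isoOpensRange.inv) (V.ι ≫ pullback.snd h (S₂.ι ≫ g)) (U.ι ≫ F) S₂.ι := by
      have h1 : IsPullback (m ∣_ V₁) (V.ι ≫ pullback.snd h (S₂.ι ≫ g)) (V₁.ι ≫ pullback.snd h g) S₂.ι :=
        (isPullback_morphismRestrict m V₁).paste_vert hm
      have h2 : IsPullback j.isoOpensRange.inv (V₁.ι ≫ pullback.snd h g) (U.ι ≫ F) (𝟙 S₁) :=
        IsPullback.of_horiz_isIso ⟨by
          rw [Category.comp_id, Iso.inv_comp_eq, Scheme.Hom.isoOpensRange_hom_ι_assoc]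
          simp only [j, Category.assoc]
          rw [show J ≫ pullback.snd h g = F from pullback.lift_snd _ _ _]⟩
      have h3 := h1.paste_horiz h2
      rwa [Category.comp_id] at h3
    rw [GeometricallyConnected.iff_geometricallyConnected_fiber]
    intro y'
    refine MorphismProperty.of_isPullback (P := @GeometricallyConnected)
      (isPullback_fiberToSpecResidueField_of_isPullback hsq y') (hUconn _ ?_)
    obtain ⟨w, hw, hw'⟩ := hS₂U y'.2
    exact ⟨w, hw, hw'⟩
  · intro y' hy'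
    have hms : pullback.snd h g (m y') = s₁ := by
      rw [← Scheme.Hom.comp_apply, hm.w, Scheme.Hom.comp_apply, hy']; rfl
    have hfst : pullback.fst h (S₂.ι ≫ g) y' = pullback.fst h g (m y') := by
      rw [← Scheme.Hom.comp_apply, show m ≫ pullback.fst h g = _ from pullback.lift_fst _ _ _]
    rw [hfst]
    constructor
    · rintro ⟨w, hw⟩
      have h1 : O.ι (pullback.fst hO₀ g₁ (U.ι w)) = pullback.fst h g (m y') := by
        rw [← hw, ← Scheme.Hom.comp_apply, ← Scheme.Hom.comp_apply, ← Scheme.Hom.comp_apply, Category.assoc,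
          show J ≫ pullback.fst h g = pullback.fst hO₀ g₁ ≫ O.ι from pullback.lift_fst _ _ _]
      have h2 : h (pullback.fst h g (m y')) = s := by
        rw [← Scheme.Hom.comp_apply, pullback.condition, Scheme.Hom.comp_apply, hms, Scheme.Hom.comp_apply,
          hg₁.base_eq]
        rfl
      obtain ⟨z, hz⟩ : pullback.fst h g (m y') ∈ Set.range (h.fiberι s) := by
        rw [Scheme.Hom.range_fiberι]; exact h2
      refine ⟨z, ?_, hz⟩
      show h.fiberι s z ∈ O
      rw [hz, ← h1]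
      exact (pullback.fst hO₀ g₁ (U.ι w)).2
    · rintro ⟨z, hz, hz'⟩
      obtain ⟨w, -, hw⟩ := Scheme.exists_preimage_of_isPullback hJ ⟨h.fiberι s z, hz⟩ (m y') hz'
      have hFw : F w = s₁ := by
        rw [show F = J ≫ pullback.snd h g from (pullback.lift_snd _ _ _).symm, Scheme.Hom.comp_apply, hw, hms]
      exact ⟨⟨w, hUs hFw⟩, hw⟩

end Groth.Agent.S1356
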