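import Groth.Statements.S13561
import Groth.Agent.Lib.FMAdj9.Main
import Groth.Agent.Lib.FMAdj9.GorShift

set_option autoImplicit false
set_option linter.style.haveILetI false
set_option backward.isDefEq.respectTransparency false
universe u
open CategoryTheory AlgebraicGeometry
attribute [local instance] HasDerivedCategory.standard
open DEquiv

namespace Groth.Agent.S13561

/-- Let S be a Noetherian scheme, Y → S a flat proper Gorenstein morphism, X → S a morphism of finite
type, and K a complex of modules on X ×_S Y defining a perfect object with quasi-coherent cohomology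
sheaves, with dual K^∨ = RHom(K, O). Let ω_{Y/S} = a(O_S) be the relative dualizing complex of Y
over S, a being the right adjoint of R(Y → S)_* on D_QCoh (assumed to exist) and O_S the structure
sheaf in degree 0. The derived functors involved are assumed to exist (instance binders). Then for
every complex W on X ×_S Y representing Lpr_2^* ω_{Y/S} and every complex K' on Y ×_S X whose image
in the derived category is isomorphic to the derived pullback, along the symmetry Y ×_S X → X ×_S Y,
of K^∨ ⊗^L W, and assuming the two Fourier–Mukai functors preserve objects with quasi-coherent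
cohomology sheaves (hypotheses h, h'), Φ_{K'} : D_QCoh(O_Y) ⥤ D_QCoh(O_X) is left adjoint to Φ_K :
D_QCoh(O_X) ⥤ D_QCoh(O_Y) (existence of an adjunction; the published statement names the isomorphism
Hom(N, Φ_K M) → Hom(Φ_{K'} N, M), which is not constructed here). -/
theorem result {S X Y : Scheme.{u}} [IsNoetherian S]
    (a : X ⟶ S) (b : Y ⟶ S) [LocallyOfFiniteType a] [QuasiCompact a] [IsProper b] [Flat b]
    (hG : Dual3.IsGorensteinMor b)
    (K : CochainComplex (Limits.pullback a b).Modules ℤ) (hK : DCoh.IsPerfect (DCoh.toD _ K))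
    (hKq : DCoh.IsQCohD (DCoh.toD _ K))
    [DCoh.HasLpull (Limits.pullback.fst a b)] [DCoh.HasLTensorCx K] [DCoh.HasRpush (Limits.pullback.snd a b)]
    [DCoh.HasRSheafHom K]
    [DCoh.HasRpush b] (hRb : DCoh.RpushPreservesQCoh b) [DCoh.HasShriek b hRb]
    (OS : DCoh.DQCoh S) (hOS : OS.obj ≅ DCoh.inD S (Coh.structureModule S))
    [DCoh.HasLpull (Limits.pullback.snd a b)]
    (W : CochainComplex (Limits.pullback a b).Modules ℤ) [DCoh.HasLTensorCx W]
    (hW : Nonempty (DCoh.toD _ W ≅ (DCoh.Lpull (Limits.pullback.snd a b)).obj (DCoh.dualizingCx b hRb OS)))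
    [DCoh.HasLpull (Limits.pullbackSymmetry b a).hom]
    (K' : CochainComplex (Limits.pullback b a).Modules ℤ)
    (hK' : Nonempty (DCoh.toD _ K' ≅ (DCoh.Lpull (Limits.pullbackSymmetry b a).hom).obj
      ((DCoh.LTensorCx W).obj ((DCoh.RSheafHom K).obj (DCoh.inD _ (Coh.structureModule (Limits.pullback a b)))))))
    [DCoh.HasLpull (Limits.pullback.fst b a)] [DCoh.HasLTensorCx K'] [DCoh.HasRpush (Limits.pullback.snd b a)]
    (h : ∀ M : DCoh.D X, DCoh.IsQCohD M → DCoh.IsQCohD ((FMK.phi a b K).obj M))
    (h' : ∀ N : DCoh.D Y, DCoh.IsQCohD N → DCoh.IsQCohD ((FMK.phi b a K').obj N)) :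
    Nonempty (FMK.phiOn b a K' DCoh.IsQCohD DCoh.IsQCohD h' ⊣ FMK.phiOn a b K DCoh.IsQCohD DCoh.IsQCohD h) := by
  haveI : CompactSpace X := QuasiCompact.compactSpace_of_compactSpace a
  haveI : IsLocallyNoetherian X := LocallyOfFiniteType.isLocallyNoetherian a
  haveI : IsNoetherian X := { }
  obtain ⟨hp, hq, hq', ⟨adj⟩⟩ := FMAdj9.nonempty_left_rel a b K hK hRb OS hOS
    (FMAdj9.locShift_gorenstein b hG (DCoh.shriekAdj b hRb) OS hOS) W hW K' hK'
  exact ⟨adj⟩

end Groth.Agent.S13561
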