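import Groth.Statements.S13563
import Groth.Agent.Lib.DBC9.Affine

set_option autoImplicit false
set_option linter.style.haveILetI false
set_option backward.isDefEq.respectTransparency false
universe u
open CategoryTheory
attribute [local instance] HasDerivedCategory.standard
open DRing

namespace Groth.Agent.S13563

/-- Let R → A and R → R' be ring maps and A' = A ⊗_R R' (a cocartesian square of commutative rings),
with A and R' tor independent over R (Tor_p^R(A, R') = 0 for p ≥ 1). The derived base-change
functors − ⊗^L_R R' and − ⊗^L_A A' are given together with adjunctions making them left adjoint to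
restriction of scalars. Then for every K in D(A) the comparison map (K|_R) ⊗^L_R R' → (K ⊗^L_A
A')|_{R'} is an isomorphism. (Both hypotheses are needed: for a square that is not cocartesian tor
independence alone does not suffice.) -/
theorem result (R A R' A' : Type u) [CommRing R] [CommRing A] [CommRing R'] [CommRing A']
    [Algebra R A] [Algebra R R'] [Algebra A A'] [Algebra R' A'] [Algebra R A'] [IsScalarTower R A A'] [IsScalarTower R R' A']
    [Algebra.IsPushout R A R' A']
    (htor : ∀ p : ℕ, 1 ≤ p → Subsingleton (DRing.Tor R p A R'))
    [DRing.HasLBaseChange (algebraMap R R')] [DRing.HasLBaseChange (algebraMap A A')]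
    (adjρ : DRing.LBaseChange (algebraMap R R') ⊣ DRing.restrictD (algebraMap R R'))
    (adjα : DRing.LBaseChange (algebraMap A A') ⊣ DRing.restrictD (algebraMap A A'))
    (h : (algebraMap A A').comp (algebraMap R A) = (algebraMap R' A').comp (algebraMap R R'))
    (K : Dual.D A) : IsIso (TrivBC.cmp adjρ adjα h K) := by
  haveI := DQC.hasLBaseChange (algebraMap R A)
  haveI := DQC.hasLBaseChange (algebraMap R' A')
  obtain ⟨adj⟩ := DBaseChange.nonempty_adjunction (algebraMap R A)
  obtain ⟨adj'⟩ := DBaseChange.nonempty_adjunction (algebraMap R' A')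
  let σ : DRing.LBaseChange (algebraMap R R') ⋙ DRing.LBaseChange (algebraMap R' A') ≅
      DRing.LBaseChange (algebraMap R A) ⋙ DRing.LBaseChange (algebraMap A A') :=
    (conjugateIsoEquiv (adj.comp adjα) (adjρ.comp adj')).symm (TrivBC.resComm h)
  have hr : DBC9.rightIso adj adj' σ adjρ adjα = TrivBC.resComm h := by
    simp only [DBC9.rightIso, σ]
    exact (Iso.symm_symm_eq _).trans (Equiv.apply_symm_apply _ _)
  have hP : IsPushout (CommRingCat.ofHom (algebraMap R R')) (CommRingCat.ofHom (algebraMap R A))
      (CommRingCat.ofHom (algebraMap R' A')) (CommRingCat.ofHom (algebraMap A A')) :=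
    CommRingCat.isPushout_iff_isPushout.2 (Algebra.IsPushout.symm inferInstance)
  have hν : ∀ a, IsIso ((DBC9.νT (algebraMap R R') a).app
      ((ModuleCat.restrictScalars (algebraMap R A)).obj (ModuleCat.of A A))) := fun a =>
    DBC9.isIso_νT_of_tor _ _ (fun q hq => by
      obtain ⟨n⟩ := TorBal27.nonempty_tor_iso_flip (R := R) q
      have h0 : Subsingleton (DRing.Tor R q A R') := htor q hq
      have h2 := @ModuleCat.isZero_of_subsingleton R _
        (((CategoryTheory.Tor (ModuleCat.{u} R) q).obj (ModuleCat.of R A)).obj (ModuleCat.of R R')) h0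
      have h1 : Subsingleton (DRing.Tor R q R' A) :=
        ModuleCat.subsingleton_of_isZero (h2.of_iso ((n.app (ModuleCat.of R R')).app (ModuleCat.of R A)))
      have e1 : (algebraMap R R').toModule = (Algebra.toModule : Module R R') :=
        Module.ext' _ _ fun r x => (Algebra.smul_def r x).symm
      have e2 : (algebraMap R A).toModule = (Algebra.toModule : Module R A) :=
        Module.ext' _ _ fun r x => (Algebra.smul_def r x).symm
      change Subsingleton (@DRing.Tor R _ q R' A _ (algebraMap R R').toModule _ (algebraMap R A).toModule)
      rw [e1, e2]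
      exact h1) a
  have := DBC9.isIso_bc_algebra (algebraMap R A) (algebraMap R R') (algebraMap R' A') (algebraMap A A') adj adj' σ hν
    (DBC9.exists_pushIso _ _ _ _ hP) K
  rw [DBC9.bc_eq_transpose adj adj' σ adjρ adjα, hr] at this
  exact this

end Groth.Agent.S13563
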