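import Groth.Statements.S1357
import Groth.Agent.Lib.Spread4.Gen
import Groth.Agent.S1654
import Groth.Agent.S4623
import Groth.Agent.Lib.Modif26.Main
import Groth.Agent.Lib.RedSep.Basic
-- import your own Groth.Agent.* helpers here

set_option autoImplicit false
universe u
open FlatMor

namespace Groth.Agent.S1357

open AlgebraicGeometry CategoryTheory Limits in
/-- Let f be of finite type with irreducible target Y. Then there are a nonempty open V of Y and a
surjective finite étale morphism g from an irreducible affine scheme Y' to V such that, for the base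
change f' of f to Y', every irreducible component of the generic fibre of f' (with its reduced
induced structure) is geometrically irreducible over the residue field of the generic point of Y'. -/
theorem result {X Y : Scheme.{u}} (f : X ⟶ Y) [IrreducibleSpace ↑Y] [LocallyOfFiniteType f] [QuasiCompact f] :
    ∃ (V : Y.Opens) (Y' : Scheme.{u}) (g : Y' ⟶ (V : Scheme.{u})) (hY' : IrreducibleSpace ↑Y'), (V : Set ↑Y).Nonempty ∧ IsAffine Y' ∧ Surjective g ∧ IsFinite g ∧ Etale g ∧
      ∀ (Z : Set ↑((pullback.snd f (g ≫ V.ι)).fiber (genericPoint ↑Y'))) (hZ : Z ∈ irreducibleComponents ↑((pullback.snd f (g ≫ V.ι)).fiber (genericPoint ↑Y'))),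
        GeometricallyIrreducible ((Scheme.IdealSheafData.vanishingIdeal (⟨Z, isClosed_of_mem_irreducibleComponents Z hZ⟩ : TopologicalSpace.Closeds _)).subschemeι ≫
          (pullback.snd f (g ≫ V.ι)).fiberToSpecResidueField (genericPoint ↑Y')) := by
  classical
  obtain ⟨A, j, K, _, φ, hj, hker, hfr⟩ := Spread4.exists_chart Y
  let p : Spec (CommRingCat.of K) ⟶ Y := Spec.map (CommRingCat.ofHom φ) ≫ j
  letI : (pullback f p).Over (Spec (CommRingCat.of K)) := ⟨pullback.snd f p⟩
  haveI : LocallyOfFiniteType (pullback f p ↘ Spec (CommRingCat.of K)) :=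
    inferInstanceAs (LocallyOfFiniteType (pullback.snd f p))
  haveI : IsLocallyNoetherian (pullback f p) := LocallyOfFiniteType.isLocallyNoetherian (pullback.snd f p)
  haveI : CompactSpace ↥(pullback f p) := QuasiCompact.compactSpace_of_compactSpace (pullback.snd f p)
  haveI : IsNoetherian (pullback f p) := {}
  obtain ⟨L, _, _, hfin, hsep, hL⟩ := S1654.result K (pullback f p)
    TopologicalSpace.NoetherianSpace.finite_irreducibleComponents
  haveI := hfin
  haveI := hsep
  obtain ⟨c, B, _, _, χ, hc, hBfin, hBet, hχ, hBsurj, hkerB, hBfr⟩ :=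
    Spread4.exists_finite_etale (L := L) φ hker hfr
  let lc : A ⟶ CommRingCat.of (Localization.Away c) := CommRingCat.ofHom (algebraMap A (Localization.Away c))
  let j' : Spec (CommRingCat.of (Localization.Away c)) ⟶ Y := Spec.map lc ≫ j
  haveI : IsOpenImmersion (Spec.map lc) := IsOpenImmersion.of_isLocalization c
  let g₀ : Spec (CommRingCat.of B) ⟶ Spec (CommRingCat.of (Localization.Away c)) :=
    Spec.map (CommRingCat.ofHom (algebraMap (Localization.Away c) B))
  let g : Spec (CommRingCat.of B) ⟶ (j'.opensRange : Scheme.{u}) := g₀ ≫ j'.isoOpensRange.hom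
  haveI hY' : IrreducibleSpace (Spec (CommRingCat.of B)) := Spread4.irreducibleSpace_spec χ hkerB
  obtain ⟨σ, hσ, hσχ⟩ := Spread4.exists_iso_generic χ hkerB hBfr
  haveI := hσ
  have hg : g ≫ j'.opensRange.ι = g₀ ≫ j' := by
    simp only [g, Category.assoc]
    rw [Scheme.Hom.isoOpensRange_hom_ι]
  haveI : IsFinite g₀ := (IsFinite.SpecMap_iff _).2 (RingHom.finite_algebraMap.2 hBfin)
  haveI : Etale g₀ := (HasRingHomProperty.Spec_iff (P := @Etale)).2 (RingHom.etale_algebraMap.2 hBet)
  haveI : Surjective g₀ := ⟨hBsurj⟩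
  obtain ⟨a, ha⟩ := Spread4.exists_fibre_comparison f (g ≫ j'.opensRange.ι) _ p
    (Spec.map (CommRingCat.ofHom (algebraMap K L))) σ (by
      rw [hg]
      simp only [g₀, j', p, ← Category.assoc]
      rw [hσχ]
      congr 1
      simp only [← Spec.map_comp, lc, ← CommRingCat.ofHom_comp]
      exact congrArg (fun t => Spec.map (CommRingCat.ofHom t)) hχ)
  haveI : IsIso a := MorphismProperty.of_isPullback (P := MorphismProperty.isomorphisms Scheme) ha.flip
    (inferInstanceAs (IsIso σ))
  refine ⟨j'.opensRange, Spec (CommRingCat.of B), g, hY', ⟨_, ⟨g₀ (genericPoint _), rfl⟩⟩, inferInstance,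
    inferInstance, inferInstance, inferInstance, fun Z hZ => ?_⟩
  let P' := pullback (pullback.snd f p) (Spec.map (CommRingCat.ofHom (algebraMap K L)))
  let T : Set ↥P' := a ⁻¹' Z
  have hT : T ∈ irreducibleComponents ↥P' := preimage_mem_irreducibleComponents hZ a.isOpenEmbedding (by
    obtain ⟨z, hz⟩ := hZ.1.1
    obtain ⟨w, rfl⟩ := a.surjective z
    exact ⟨a w, hz, w, rfl⟩)
  have hGI := hL T hT
  let IT : P'.IdealSheafData := Scheme.IdealSheafData.vanishingIdeal ⟨T, isClosed_of_mem_irreducibleComponents T hT⟩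
  let IZ := Scheme.IdealSheafData.vanishingIdeal
    (⟨Z, isClosed_of_mem_irreducibleComponents Z hZ⟩ : TopologicalSpace.Closeds _)
  haveI : IsReduced IT.subscheme := RedSepLib.isReduced_vanishingIdeal_subscheme _
  have hrange : Set.range (IT.subschemeι ≫ a) ⊆ Z := by
    rintro _ ⟨w, rfl⟩
    have h1 : IT.subschemeι w ∈ Set.range IT.subschemeι := ⟨w, rfl⟩
    rw [Scheme.IdealSheafData.range_subschemeι, Scheme.IdealSheafData.coe_support_vanishingIdeal] at h1
    rw [Scheme.Hom.comp_apply]
    exact h1
  let l : IT.subscheme ⟶ IZ.subscheme := IsClosedImmersion.lift IZ.subschemeι (IT.subschemeι ≫ a) (by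
    rw [Scheme.IdealSheafData.ker_subschemeι]
    exact Modif26.vanishingIdeal_le_ker _ _ hrange)
  have hl : l ≫ IZ.subschemeι = IT.subschemeι ≫ a := IsClosedImmersion.lift_fac _ _ _
  haveI : Surjective l := ⟨fun z => by
    have hz : IZ.subschemeι z ∈ Z := by
      have h1 : IZ.subschemeι z ∈ Set.range IZ.subschemeι := ⟨z, rfl⟩
      rw [Scheme.IdealSheafData.range_subschemeι, Scheme.IdealSheafData.coe_support_vanishingIdeal] at h1
      exact h1
    obtain ⟨w, hw⟩ := a.surjective (IZ.subschemeι z)
    obtain ⟨t, ht⟩ : w ∈ Set.range IT.subschemeι := by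
      rw [Scheme.IdealSheafData.range_subschemeι, Scheme.IdealSheafData.coe_support_vanishingIdeal]
      show a w ∈ Z
      rwa [hw]
    refine ⟨t, IZ.subschemeι.isClosedEmbedding.injective ?_⟩
    rw [← Scheme.Hom.comp_apply, hl, Scheme.Hom.comp_apply, ht, hw]⟩
  have hw : l ≫ (IZ.subschemeι ≫ (pullback.snd f (g ≫ j'.opensRange.ι)).fiberToSpecResidueField _ ≫ inv σ) =
      IT.subschemeι ≫ Curv2.bcSnd K (pullback f p) L := by
    rw [← Category.assoc, hl, Category.assoc]
    congr 1
    rw [← Category.assoc, ha.w]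
    simp
    rfl
  haveI : GeometricallyIrreducible (IT.subschemeι ≫ Curv2.bcSnd K (pullback f p) L) := hGI
  have h := S4623.result _ _ l hw
  have : GeometricallyIrreducible
      ((IZ.subschemeι ≫ (pullback.snd f (g ≫ j'.opensRange.ι)).fiberToSpecResidueField _ ≫ inv σ) ≫ σ) :=
    (MorphismProperty.cancel_right_of_respectsIso (P := @GeometricallyIrreducible) _ σ).2 h
  simpa only [Category.assoc, IsIso.inv_hom_id, Category.comp_id] using this

end Groth.Agent.S1357
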