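import Groth.Statements.S13570
import Groth.Agent.Lib.StAlg16.UnivInjLocal

set_option autoImplicit false
universe u
open CategoryTheory AlgebraicGeometry
open AlgSt

namespace Groth.Agent.S13570
set_option linter.style.haveILetI false
set_option backward.isDefEq.respectTransparency false
set_option backward.isDefEq.respectTransparency.types false


/-- Let `f : 𝒳 ⟶ 𝒴` be a morphism of algebraic stacks over `S` and `W ⟶ 𝒴` a surjective, flat, locally
finitely presented morphism from an algebraic space. If the projection `W ×_𝒴 𝒳 ⟶ W` is universally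
injective (every base change to an algebraic stack is injective on points), then so is `f`. -/
theorem result {S : Scheme.{u}} {𝒳 𝒴 : AlgSt.Cat S}
    (h𝒳 : AlgSt.IsAlgStack Scheme.fppfPrecoverage 𝒳) (h𝒴 : AlgSt.IsAlgStack Scheme.fppfPrecoverage 𝒴) (f : 𝒳 ⥤ᵇ 𝒴)
    (W : AlgSp.Space S) (w : AlgSt.ofSp W.obj ⥤ᵇ 𝒴)
    (hw₁ : AlgSt.RepByAlgSpWith (AlgSp.LocP @Flat) w)
    (hw₂ : AlgSt.RepByAlgSpWith (AlgSp.LocP @LocallyOfFinitePresentation) w)
    (hw₃ : AlgSt.RepByAlgSpWith AlgSp.IsSurjectiveMor w)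
    (h : AlgSt.IsUnivInjective Scheme.fppfPrecoverage (FibCat.fpFst w f)) :
    AlgSt.IsUnivInjective Scheme.fppfPrecoverage f := by
  have hW : AlgSt.IsAlgStack Scheme.fppfPrecoverage (AlgSt.ofSp W.obj) :=
    (Groth.Agent.StAlg.isDM_of_rep (𝒳 := AlgSt.ofSp W.obj) ⟨W, CategoryTheory.BasedFunctor.id _, Groth.Agent.FC16.isEquivOver_id⟩).1
  exact Groth.Agent.StAlg16.isUnivInjective_of_cover h𝒳.isStack.1 h𝒴 hW w
    (Groth.Agent.StAlg16.isSurjective_of_with h𝒴.isStack.1 hw₃) h

end Groth.Agent.S13570
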