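import Groth.Statements.S13576
import Groth.Agent.Lib.KFlat.DTen
-- import your own Groth.Agent.* helpers here

set_option autoImplicit false
universe u
open CategoryTheory CategoryTheory.Limits MonoidalCategory
attribute [local instance] HasDerivedCategory.standard
open DTen

namespace Groth.Agent.S13576

/-- For a commutative ring `A` and objects `K`, `L` of `D(A)`, the canonical symmetry morphism `L ⊗^L K
⟶ K ⊗^L L` of the derived tensor product, the one compatible with the swap of complexes carrying the
sign `(-1)^{pq}` on `K^p ⊗ L^q`, is an isomorphism. -/
theorem result (A : Type u) [CommRing A] [DTen.HasLTen A] (K L : Dual.D A) :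
    IsIso ((DTen.symm A).app (K, L)) := by
  exact Groth.Agent.KFlat.DT.isIso_symm_app K L

end Groth.Agent.S13576
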