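import Groth.Statements.S13584
import Groth.Agent.Lib.SuppQCoh13.Modules

set_option autoImplicit false
universe u
open CategoryTheory TopologicalSpace AlgebraicGeometry
open SuppFam

namespace Groth.Agent.S13584

/-- Let `Y` be a scheme, `V₂ ≤ V₁` opens of `Y` whose inclusion morphisms into `Y` are quasi-compact, `Z
= V₁ ∖ V₂`, and `F` a quasi-coherent `O_Y`-module. Then the local cohomology sheaves `ℋ^i_Z(F)` are
quasi-coherent: the `i`-th right derived functor of sections with supports in `Z`, applied to the
underlying abelian sheaf of `F`, is isomorphic to the underlying abelian sheaf of a quasi-coherent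
`O_Y`-module. Existence of the module structure and of the isomorphism only. -/
theorem result (Y : Scheme.{u}) {V₂ V₁ : Y.Opens} (h : V₂ ≤ V₁)
    [QuasiCompact V₁.ι] [QuasiCompact V₂.ι] (F : Y.Modules) (hF : Coh.IsQCoh F) (i : ℕ) :
    ∃ M : Y.Modules, Coh.IsQCoh M ∧
      Nonempty (Coh.toAb M ≅ (SuppFam.HZshLC (X := Y.carrier) h i).obj (Coh.toAb F)) := by
  exact SuppQCoh13.exists_isQCoh h F hF i

end Groth.Agent.S13584
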