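import Groth.Statements.S13588
import Groth.Agent.Lib.ExtSupp8.Spectral

set_option autoImplicit false
universe u
open CategoryTheory CategoryTheory.Limits
open ExtSupp

namespace Groth.Agent.S13588


/-- On a ringed site, for an object `U` with closed complement `Z` and sheaves of modules `M`, `N`,
there is a bounded `E_2` spectral sequence of abelian groups with `E_2^{p,q}` isomorphic to
`Ext^p_O(M, ℋ^q_Z(N))` for `p, q ≥ 0` and zero otherwise, together with abutment data whose
filtrations are finite on `Ext^n_Z(M, N)` (`n ≥ 0`; zero for `n < 0`). The `E_2` identifications and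
the abutment isomorphisms are asserted to exist only and are not pinned to the canonical maps, so
edge maps are not part of this statement; the internal hom out of `M`, the right adjoint of
restriction to `U` and injective resolutions of sheaves of modules are assumed to exist. (The
published statement, on a ringed topos and likewise on a ringed space, is functorial in `M`, `N` and
in an object `X` of the topos; this row is the case of the final object.) -/
theorem result {C : Type u} [SmallCategory C]
    {J : GrothendieckTopology C} {O : Sheaf J CommRingCat.{u}} [HasExt.{u} (ModSite.Mod O)]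
    (U : C) [ModSite.HasPushOver O U] (M N : ModSite.Mod O) [ModSite.HasSheafHom M]
    [HasInjectiveResolutions (ModSite.Mod O)] :
    ∃ (E : E₂CohomologicalSpectralSequence AddCommGrpCat.{u})
      (a : SpSeq.Abutment E (fun n : ℤ =>
        if 0 ≤ n then AddCommGrpCat.of (ExtSupp.ExtZ U M N n.toNat) else AddCommGrpCat.of PUnit.{u + 1})),
      (∀ n, a.IsFinite n) ∧ SpSeq.IsBounded E ∧
      ∀ p q : ℤ, Nonempty ((E.page 2 le_rfl).X (p, q) ≅
        (if 0 ≤ p ∧ 0 ≤ q then AddCommGrpCat.of (Abelian.Ext.{u} M ((ModSite.HZsh O U q.toNat).obj N) p.toNat)
         else AddCommGrpCat.of PUnit.{u + 1})) := by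
  exact Groth.Agent.ExtSupp8.ext_spectralSequence (ModSite.sectOn O U) M ((ModSite.quotOn O U).obj M)
    (Groth.Agent.ExtSupp8.coyonedaSectIso O U M)
    (fun I hI k => by
      haveI := hI
      haveI := Groth.Agent.ExtSupp8.injective_sectOn O U I
      exact Groth.Agent.SiteCoh.subsingleton_ext_injective _ _ k) N
    (fun n => AddCommGrpCat.of (ExtSupp.ExtZ U M N n)) (fun n => ⟨AddEquiv.refl _⟩)
    (fun p q => AddCommGrpCat.of (Abelian.Ext.{u} M ((ModSite.HZsh O U q).obj N) p))
    (fun p q => ⟨AddEquiv.refl _⟩)


end Groth.Agent.S13588
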