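import Groth.Statements.S13590
import Groth.Agent.Lib.LocCohZ.OpenSeq

set_option autoImplicit false
set_option linter.style.haveILetI false
universe u
open CategoryTheory TopologicalSpace
open SuppFam

namespace Groth.Agent.S13590

open Opposite Limits in
/-- Sections supported in the complement of an open of an injective sheaf form an injective sheaf. -/
theorem injective_sectSupp {Y : TopCat.{u}} (U : Opens Y) (I : CohTop.Ab Y) [Injective I] :
    Injective (kernel (LocCohZ.η U I)) where
  factors {A B} φ ι hι := by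
    classical
    let J := Opens.grothendieckTopology Y
    let f : A ⟶ I := φ ≫ kernel.ι (LocCohZ.η U I)
    have hfη : f ≫ LocCohZ.η U I = 0 := by rw [Category.assoc, kernel.condition, comp_zero]
    have hz : ∀ (V : Opens Y), V ≤ U → ∀ a, (f.hom.app (op V)).hom a = 0 := fun V hV a => by
      have h := congrArg (fun g : A ⟶ _ => (g.hom.app (op V)).hom a) hfη
      exact (LocCohZ.restr_le U V hV I _).1 ((LocCohZ.η_app_eq_zero_iff U I V _).1 h)
    haveI hιp : Mono ι.hom := (sheafToPresheaf J AddCommGrpCat.{u}).map_mono ι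
    have hinj : ∀ V, Function.Injective (ι.hom.app V).hom := fun V =>
      (AddCommGrpCat.mono_iff_injective _).1 ((NatTrans.mono_iff_mono_app ι.hom).1 hιp V)
    let S (V : (Opens Y)ᵒᵖ) : AddSubgroup (B.obj.obj V) :=
      if V.unop ≤ U then ⊤ else (ι.hom.app V).hom.range
    have hS : ∀ V (b : B.obj.obj V), b ∈ S V ↔ (¬ V.unop ≤ U → ∃ a, (ι.hom.app V).hom a = b) := fun V b => by
      simp only [S]
      split <;> simp_all [AddMonoidHom.mem_range]
    have hmap : ∀ {V W} (g : V ⟶ W) (b : B.obj.obj V), b ∈ S V → (B.obj.map g).hom b ∈ S W := fun {V W} g b hb => by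
      rw [hS] at hb ⊢
      intro hW
      obtain ⟨a, rfl⟩ := hb fun hV => hW ((leOfHom g.unop).trans hV)
      exact ⟨(A.obj.map g).hom a, ConcreteCategory.congr_hom (ι.hom.naturality g) a⟩
    let Q : (Opens Y)ᵒᵖ ⥤ AddCommGrpCat.{u} :=
      { obj := fun V => AddCommGrpCat.of (S V)
        map := fun g => AddCommGrpCat.ofHom (((B.obj.map g).hom.comp (S _).subtype).codRestrict _
          fun b => hmap g b.1 b.2)
        map_id := fun V => by
          ext b
          exact ConcreteCategory.congr_hom (B.obj.map_id V) b.1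
        map_comp := fun g g' => by
          ext b
          exact ConcreteCategory.congr_hom (B.obj.map_comp g g') b.1 }
    let j : Q ⟶ B.obj := { app := fun V => AddCommGrpCat.ofHom (S V).subtype, naturality := fun _ _ _ => rfl }
    haveI : ∀ V, Mono (j.app V) := fun V => (AddCommGrpCat.mono_iff_injective _).2 Subtype.val_injective
    haveI : Mono j := NatTrans.mono_of_mono_app _
    have ex : ∀ V (b : S V), ∃ y, ∃ a, y = (f.hom.app V).hom a ∧ (¬ V.unop ≤ U → (ι.hom.app V).hom a = b.1) :=
      fun V b => by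
        by_cases hV : V.unop ≤ U
        · exact ⟨_, 0, rfl, fun h => absurd hV h⟩
        · obtain ⟨a, ha⟩ := (hS V b.1).1 b.2 hV
          exact ⟨_, a, rfl, fun _ => ha⟩
    have uniq : ∀ V (b : S V) (y y' : I.obj.obj V),
        (∃ a, y = (f.hom.app V).hom a ∧ (¬ V.unop ≤ U → (ι.hom.app V).hom a = b.1)) →
        (∃ a, y' = (f.hom.app V).hom a ∧ (¬ V.unop ≤ U → (ι.hom.app V).hom a = b.1)) → y = y' := by
      rintro V b _ _ ⟨a, rfl, ha⟩ ⟨a', rfl, ha'⟩
      by_cases hV : V.unop ≤ U
      · exact (hz V.unop hV a).trans (hz V.unop hV a').symm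
      · rw [hinj V ((ha hV).trans (ha' hV).symm)]
    choose y a hy ha using ex
    let g : Q ⟶ I.obj :=
      { app := fun V => AddCommGrpCat.ofHom (AddMonoidHom.mk' (y V) fun b b' =>
          uniq V _ _ _ ⟨a V (b + b'), hy V _, ha V _⟩ ⟨a V b + a V b', by rw [map_add, ← hy, ← hy], fun hV => by
            rw [map_add, ha V b hV, ha V b' hV]; rfl⟩)
        naturality := fun V W r => by
          ext b
          refine uniq W _ _ _ ⟨a W _, hy W _, ha W _⟩ ⟨(A.obj.map r).hom (a V b), ?_, fun hW => ?_⟩
          · show (I.obj.map r).hom (y V b) = _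
            rw [hy]
            exact (ConcreteCategory.congr_hom (f.hom.naturality r) _).symm
          · refine (ConcreteCategory.congr_hom (ι.hom.naturality r) _).trans ?_
            exact congrArg (B.obj.map r).hom (ha V b fun hV => hW ((leOfHom r.unop).trans hV)) }
    let adj := sheafificationAdjunction J AddCommGrpCat.{u}
    let k : (presheafToSheaf J _).obj Q ⟶ B := (adj.homEquiv Q B).symm j
    haveI : Mono ((presheafToSheaf J AddCommGrpCat.{u}).map j) := (presheafToSheaf J _).map_mono j
    haveI : Mono k := by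
      rw [show k = (presheafToSheaf J _).map j ≫ adj.counit.app B from adj.homEquiv_counit ..]
      infer_instance
    obtain ⟨ψ, hψ⟩ := Injective.factors ((adj.homEquiv Q I).symm g) k
    have hψ' : j ≫ ψ.hom = g := by
      have h := congrArg (adj.homEquiv Q I) hψ
      rw [adj.homEquiv_naturality_right, Equiv.apply_symm_apply, Equiv.apply_symm_apply] at h
      exact h
    have hel : ∀ V (b : S V), (ψ.hom.app V).hom b.1 = y V b := fun V b => by
      exact ConcreteCategory.congr_hom (NatTrans.congr_app hψ' V) b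
    have hK : ψ ≫ LocCohZ.η U I = 0 := by
      refine ObjectProperty.hom_ext _ (NatTrans.ext (funext fun V => ?_))
      ext b
      refine (LocCohZ.η_app_eq_zero_iff U I V.unop ((ψ.hom.app V).hom b)).2 ?_
      refine (ConcreteCategory.congr_hom (ψ.hom.naturality (homOfLE (inf_le_left : V.unop ⊓ U ≤ V.unop)).op) b).symm.trans ?_
      refine (hel (op (V.unop ⊓ U)) ⟨_, (hS _ _).2 fun h => absurd inf_le_right h⟩).trans ((hy _ _).trans ?_)
      exact hz _ inf_le_right _
    refine ⟨kernel.lift _ ψ hK, ?_⟩
    rw [← cancel_mono (kernel.ι (LocCohZ.η U I)), Category.assoc, kernel.lift_ι]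
    refine ObjectProperty.hom_ext _ (NatTrans.ext (funext fun V => ?_))
    ext x
    refine (hel V ⟨(ι.hom.app V).hom x, (hS _ _).2 fun _ => ⟨x, rfl⟩⟩).trans ?_
    exact uniq V _ _ _ ⟨_, hy V _, ha V _⟩ ⟨x, rfl, fun _ => rfl⟩

/-- For an abelian sheaf `F` on a topological space `X` and a locally closed `Z = V ∖ W` (`W ≤ V`
opens), if `F` is injective then the sheaf `Γ_Z(F) = i_* i^!(F)` of sections of `F` with supports in
`Z` is injective. -/
theorem result {X : TopCat.{u}} (F : CohTop.Ab X) {W V : Opens X} (h : W ≤ V)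
    (hF : Injective F) : Injective ((SuppFam.sectSuppLC h).obj F) := by
  haveI := LocCohZ.injective_restr V F
  haveI : Injective ((CohTop.restrFunctor V ⋙ _root_.LocCohZ.sectSuppF (SuppFam.inOpen V W)).obj F) :=
    injective_sectSupp (Y := TopCat.of V) (SuppFam.inOpen V W) ((CohTop.restrFunctor V).obj F)
  exact Injective.injective_of_adjoint (LocCohZ.restrAdj V)
    ((CohTop.restrFunctor V ⋙ _root_.LocCohZ.sectSuppF (SuppFam.inOpen V W)).obj F)

end Groth.Agent.S13590
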