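import Groth.Statements.S13594
import Groth.Agent.Lib.Bootst16.SpQuotAlg
-- import your own Groth.Agent.* helpers here

set_option autoImplicit false
universe u
open CategoryTheory AlgebraicGeometry MonoidalCategory
open AlgSt

namespace Groth.Agent.S13594

/-- For a group action: let `B` be an algebraic space over `S`, `G` a group algebraic space over `B`
with `G ⟶ B` flat and locally of finite presentation, and `X` an algebraic space over `B` with a
`G`-action. Then the quotient stack `[X/G]` (objects over `T`: `b : T ⟶ B`, an fppf `G_T`-torsor
given as a sheaf, and a `G`-equivariant map to `X`) is an algebraic stack over `S`. (The published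
statement is for a groupoid in algebraic spaces with flat, locally finitely presented source and
target; this row is the action groupoid, with no affineness hypothesis.) -/
theorem result (S : Scheme.{u}) (B : AlgSp.Sp S)
    (hB : AlgSp.IsAlgSpace B) (G : Over B) [GrpObj G] (hG : AlgSp.IsAlgSpace G.left)
    (hf : AlgSp.LocP (@Flat ⊓ @LocallyOfFinitePresentation) G.hom)
    (X : Over B) (hX : AlgSp.IsAlgSpace X.left) (aX : AlgSp.GAction G X) :
    AlgSt.IsAlgStack Scheme.fppfPrecoverage (AlgSt.SpQuotSt Scheme.fppfPrecoverage G aX) := by
  have h₁ : AlgSp.LocP @Flat G.hom := fun _ _ a b h ha hb w => (hf a b h ha hb w).1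
  have h₂ : AlgSp.LocP @LocallyOfFinitePresentation G.hom := fun _ _ a b h ha hb w => (hf a b h ha hb w).2
  exact Groth.Agent.Bootst16.isAlgStack_spQuotSt hB hG h₁ h₂ hX aX

end Groth.Agent.S13594
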