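import Groth.Statements.S13595
import Groth.Agent.Lib.SpQuot16.Chart
import Groth.Agent.Lib.AlgSpDescent.SchemeSmooth
import Groth.Agent.Lib.AlgSpDescent.Instances

set_option autoImplicit false
universe u
open CategoryTheory AlgebraicGeometry MonoidalCategory
open AlgSt

namespace Groth.Agent.S13595

/-- For a group action: let `B` be an algebraic space over `S`, `G` a group algebraic space over `B`
with `G ⟶ B` smooth, and `X` an algebraic space over `B` with a `G`-action. Then the canonical
morphism `X ⟶ [X/G]` (a `T`-point `x` of `X` goes to the trivial torsor `G ×_B T` with the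
equivariant map `(g, t) ↦ g · x(t)`; torsors given as sheaves) is representable by algebraic spaces,
smooth, and surjective. (The published statement is for a smooth groupoid in algebraic spaces; this
row is the action groupoid.) -/
theorem result (S : Scheme.{u}) (B : AlgSp.Sp S)
    (hB : AlgSp.IsAlgSpace B) (G : Over B) [GrpObj G] (hG : AlgSp.IsAlgSpace G.left)
    (hs : AlgSp.LocP @Smooth G.hom)
    (X : Over B) (hX : AlgSp.IsAlgSpace X.left) (aX : AlgSp.GAction G X) :
    AlgSt.RepByAlgSpWith (AlgSp.LocP @Smooth) (AlgSt.spQuotMap Scheme.fppfPrecoverage G aX) ∧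
      AlgSt.RepByAlgSpWith AlgSp.IsSurjectiveMor (AlgSt.spQuotMap Scheme.fppfPrecoverage G aX) := by
  refine ⟨Groth.Agent.SpQuot16.repWith_spQuotMap _ hB hG fun A => ?_,
    Groth.Agent.SpQuot16.repWith_spQuotMap _ hB hG fun A => Groth.Agent.SpQuot16.π_surjective A⟩
  refine Groth.Agent.SpQuot16.π_prop ?_ hB hG (fun W hW =>
    Groth.Agent.AlgSpace.locP_of_isPullback hG hB hW (Groth.Agent.SpQuot16.isPullback_left_unit' W) hs) A
  exact Groth.Agent.StAlg.isLocalOnBase_fppf_of_fpqc
    (Groth.Agent.AlgSpDescent.isLocalOnBase_fpqc_locP Groth.Agent.AlgSpDescent.precompEtale_smooth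
      Groth.Agent.AlgSpDescent.descendsEtaleSource_smooth)

end Groth.Agent.S13595
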