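import Groth.Statements.S13597
import Groth.Agent.Lib.IsQuot25.Residue

set_option autoImplicit false
universe u
open CategoryTheory AlgebraicGeometry
open SGA1

namespace Groth.Agent.S13597

/-- Let a finite group G act on a scheme X and let p : X ⟶ Y be a quotient of X by G (affine,
G-invariant, sections of O_Y = G-invariant sections of O_X). For a point x of X with image y, the
residue field κ(x) is a normal algebraic extension of κ(y) through the map induced by p, and the
stabilizer of x in G maps onto the group of κ(y)-automorphisms of κ(x): every automorphism τ of κ(x)
over κ(y) is the map on residue fields induced by some g ∈ G with g·x = x (composed with the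
identification of the residue fields at g·x and x). -/
theorem result {X Y : Scheme.{u}} {G : Type u}
    [Group G] [Finite G] (ρ : G →* Aut X) (p : X ⟶ Y) (hp : SGA1.IsQuot ρ p) (x : X) :
    (letI := (p.residueFieldMap x).hom.toAlgebra
     Normal (Y.residueField (p.base x)) (X.residueField x)) ∧
    ∀ τ : X.residueField x ≅ X.residueField x,
      p.residueFieldMap x ≫ τ.hom = p.residueFieldMap x →
      ∃ (g : G) (e : (ρ g).hom.base x = x),
        τ.hom = (X.residueFieldCongr e).inv ≫ (ρ g).hom.residueFieldMap x := by
  exact ⟨IsQuot25.normal_residueField hp x, IsQuot25.exists_act_eq_residueField hp x⟩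
end Groth.Agent.S13597
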