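import Groth.Prelude.Def_Hensel
import Mathlib.RingTheory.Ideal.Over
import Groth.Agent.Lib.Hens.BaseChange

set_option autoImplicit false
universe u
namespace Hensel
end Hensel
open Hensel

namespace Groth.Agent.S13598

/-- For a local ring A, a henselization A ⟶ S of A (S a henselian local ring, the structure map local,
and initial among local homomorphisms from A to henselian local rings) and an ideal I of A inside
the maximal ideal, the quotient S/IS with its induced algebra structure over A/I is a henselization
of A/I. (The local-ring and local-homomorphism instances on the quotients hold automatically; they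
are taken as hypotheses only so that the conclusion can be stated.) -/
theorem result {A S : Type u} [CommRing A] [IsLocalRing A] [CommRing S]
    [IsLocalRing S] [Algebra A S] [IsLocalHom (algebraMap A S)] [Hensel.IsHenselization A S]
    (I : Ideal A) (hI : I ≤ IsLocalRing.maximalIdeal A)
    [IsLocalRing (A ⧸ I)] [IsLocalRing (S ⧸ I.map (algebraMap A S))]
    [IsLocalHom (algebraMap (A ⧸ I) (S ⧸ I.map (algebraMap A S)))] :
    Hensel.IsHenselization (A ⧸ I) (S ⧸ I.map (algebraMap A S)) := by
  exact Groth.Agent.Hens.isHenselization_quotient I

end Groth.Agent.S13598
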