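import Groth.Statements.S13599
import Groth.Agent.Lib.Cyc26.NormalDescent

set_option autoImplicit false
universe u
open CategoryTheory AlgebraicGeometry
open CategoryTheory.Limits
open Cyc

namespace Groth.Agent.S13599

/-- Let k be a field, X a separated k-scheme of finite type, and k' a finite normal extension field of
k, with G the group of k-automorphisms of k'; put X' = X ×_k Spec k' with first projection p. The
group G acts on X' over X (σ acts through Spec σ on the second factor). If Z' is a cycle on X' (an
integer-valued function on the points of X' with locally finite support) invariant under every σ ∈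
G, then there is exactly one cycle Z on X with [k' : k]_insep · Z' = p^*Z, where [k' : k]_insep is
the inseparable degree and p^*Z is the flat pullback of cycles along p: its coefficient at x' is Z(p
x') times the length of the Artinian local ring O_{X',x'}/𝔪_{p x'}O_{X',x'} (p has discrete fibres,
so there is no dimension condition; the two auxiliary dimension functions are taken to be zero). -/
theorem result
    {k : Type u} [Field k] {k' : Type u} [Field k'] [Algebra k k'] [FiniteDimensional k k'] [Normal k k']
    {X : Scheme.{u}} (f : X ⟶ Spec (CommRingCat.of k)) [LocallyOfFiniteType f] [QuasiCompact f]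
    [IsSeparated f]
    (Z' : AlgebraicCycle (pullback f (Spec.map (CommRingCat.ofHom (algebraMap k k')))) ℤ)
    (hZ' : ∀ (σ : k' ≃ₐ[k] k')
      (t : pullback f (Spec.map (CommRingCat.ofHom (algebraMap k k'))) ⟶
        pullback f (Spec.map (CommRingCat.ofHom (algebraMap k k')))),
      t ≫ pullback.fst f _ = pullback.fst f _ →
      t ≫ pullback.snd f _ = pullback.snd f _ ≫ Spec.map (CommRingCat.ofHom σ.toAlgHom.toRingHom) →
      ∀ x', Z' (t.base x') = Z' x') :
    ∃! Z : AlgebraicCycle X ℤ, ∀ x' : ↥(pullback f (Spec.map (CommRingCat.ofHom (algebraMap k k')))),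
      (Field.finInsepDegree k k' : ℤ) * Z' x' =
        Cyc.pullFun (pullback.fst f (Spec.map (CommRingCat.ofHom (algebraMap k k'))))
          (fun _ => 0) (fun _ => 0) 0 ⇑Z x' := by
  classical
  let p := pullback.fst f (Spec.map (CommRingCat.ofHom (algebraMap k k')))
  let n : _ → ℕ := fun x' => (Groth.Agent.Cyc26.NormalDescent.L p x').toNat
  let e := Field.finInsepDegree k k'
  have hn : ∀ x', n x' ∣ e ∧ n x' ≠ 0 := fun x' => Groth.Agent.Cyc26.NormalDescent.L_fst_dvd f x'
  haveI : IsFinite p := MorphismProperty.pullback_fst _ _ (inferInstance : IsFinite (Groth.Agent.Cyc26.NormalDescent.g k k'))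
  have hsurj : Function.Surjective p := by
    haveI : Surjective (Groth.Agent.Cyc26.NormalDescent.g k k') :=
      ⟨fun x => ⟨IsLocalRing.closedPoint k', Subsingleton.elim _ _⟩⟩
    haveI : Surjective p := MorphismProperty.pullback_fst _ _ inferInstance
    exact p.surjective
  let F : _ → ℤ := fun x' => ((e / n x' : ℕ) : ℤ) * Z' x'
  have horb : ∀ x' x'', p x' = p x'' → n x' = n x'' ∧ Z' x'' = Z' x' := by
    intro x' x'' h
    obtain ⟨σ, t, ht1, ht2, hiso, rfl⟩ := Groth.Agent.Cyc26.NormalDescent.exists_twist f h
    refine ⟨?_, hZ' σ t ht1 ht2 x'⟩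
    show (Groth.Agent.Cyc26.NormalDescent.L p x').toNat = (Groth.Agent.Cyc26.NormalDescent.L p (t x')).toNat
    have h1 := congrArg (fun m => Groth.Agent.Cyc26.NormalDescent.L m x') ht1
    simp only [Groth.Agent.Cyc26.NormalDescent.L_comp, Groth.Agent.Cyc26.NormalDescent.L_eq_one_of_isIso, mul_one] at h1
    rw [← h1]
  have hF : ∀ x', F (Function.surjInv hsurj (p x')) = F x' := by
    intro x'
    obtain ⟨h1, h2⟩ := horb _ _ (Function.surjInv_eq hsurj (p x')).symm
    simp only [F, h1, h2]
  let Z : AlgebraicCycle X ℤ :=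
    { toFun := fun x => F (Function.surjInv hsurj x)
      supportWithinDomain' := Set.subset_univ _
      supportLocallyFiniteWithinDomain' := fun z _ => by
        obtain ⟨s, hs, hfin⟩ := Groth.Agent.Cyc26.NormalDescent.finite_image_support p Z' z
        refine ⟨s, hs, hfin.subset fun x hx => ⟨hx.1, Function.surjInv hsurj x, ?_, Function.surjInv_eq hsurj x⟩⟩
        intro h0
        exact hx.2 (show ((_ : ℕ) : ℤ) * Z' _ = 0 by rw [h0, mul_zero]) }
  refine ⟨Z, fun x' => ?_, fun W hW => Function.locallyFinsuppWithin.ext fun x => ?_⟩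
  · rw [Groth.Agent.Cyc26.NormalDescent.pullFun_eq]
    show _ = F (Function.surjInv hsurj (p x')) * (n x' : ℤ)
    rw [hF]
    show (e : ℤ) * Z' x' = ((e / n x' : ℕ) : ℤ) * Z' x' * (n x' : ℤ)
    rw [mul_right_comm, ← Nat.cast_mul, Nat.div_mul_cancel (hn x').1]
  · obtain ⟨x', rfl⟩ := hsurj x
    have h := hW x'
    rw [Groth.Agent.Cyc26.NormalDescent.pullFun_eq] at h
    show W (p x') = F (Function.surjInv hsurj (p x'))
    rw [hF]
    refine mul_right_cancel₀ (Nat.cast_ne_zero.2 (hn x').2) (h.symm.trans ?_)
    show (e : ℤ) * Z' x' = ((e / n x' : ℕ) : ℤ) * Z' x' * (n x' : ℤ)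
    rw [mul_right_comm, ← Nat.cast_mul, Nat.div_mul_cancel (hn x').1]
end Groth.Agent.S13599
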