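import Groth.Statements.S13600
import Groth.Agent.Lib.SecDiv18.Factorial
import Groth.Agent.Lib.IntMult26.Local
import Mathlib.RingTheory.OrderOfVanishing.Basic
import Mathlib.RingTheory.DiscreteValuationRing.TFAE

set_option autoImplicit false
set_option maxHeartbeats 800000
universe u
open CategoryTheory AlgebraicGeometry TopologicalSpace
open Cyc

set_option backward.isDefEq.respectTransparency false

namespace Groth.Agent.S13600

open IsLocalRing

variable {X : Scheme.{u}}

/-- The symbolic power ideal sheaf of a point. -/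
noncomputable def powAt (z : X) (n : ℕ) : X.IdealSheafData := by
  classical
  exact {
    ideal := fun U => if h : z ∈ U.1 then (maximalIdeal _ ^ n).comap (X.presheaf.germ U.1 z h).hom else ⊤
    map_ideal_basicOpen := fun U f => by
      let V := X.affineBasicOpen f
      let ρ : Γ(X, U.1) →+* Γ(X, V.1) := (X.presheaf.map (homOfLE <| X.basicOpen_le f).op).hom
      letI : Algebra Γ(X, U.1) Γ(X, V.1) := ρ.toAlgebra
      haveI : IsLocalization.Away f Γ(X, V.1) := U.2.isLocalization_basicOpen f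
      change Ideal.map ρ _ = _
      by_cases hV : z ∈ V.1
      · have hU : z ∈ U.1 := X.basicOpen_le f hV
        rw [dif_pos hU, dif_pos hV]
        conv_rhs => rw [← IsLocalization.map_comap (Submonoid.powers f) Γ(X, V.1)
          (Ideal.comap (X.presheaf.germ V.1 z hV).hom (maximalIdeal _ ^ n))]
        congr 1
        ext a
        simp only [Ideal.mem_comap]
        erw [TopCat.Presheaf.germ_res_apply]
      · rw [dif_neg hV, Ideal.eq_top_iff_one]
        have hu : IsUnit (ρ (f ^ n)) := by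
          rw [map_pow]; exact (X.toRingedSpace.isUnit_res_basicOpen f).pow n
        suffices h : f ^ n ∈ (if h : z ∈ U.1 then (maximalIdeal _ ^ n).comap (X.presheaf.germ U.1 z h).hom
            else ⊤ : Ideal Γ(X, U.1)) by
          rw [Ideal.eq_top_of_isUnit_mem _ (Ideal.mem_map_of_mem ρ h) hu]; trivial
        split_ifs with hU
        · rw [Ideal.mem_comap, map_pow]
          exact Ideal.pow_mem_pow ((mem_maximalIdeal _).mpr fun h => hV ((X.mem_basicOpen f z hU).mpr h)) n
        · trivial }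

theorem mem_powAt {z : X} {n : ℕ} {U : X.affineOpens} (a : Γ(X, U.1)) :
    a ∈ (powAt z n).ideal U ↔ ∀ h : z ∈ U.1, X.presheaf.germ U.1 z h a ∈ maximalIdeal _ ^ n := by
  classical
  simp only [powAt]
  split_ifs with h
  · exact ⟨fun ha _ => ha, fun ha => ha h⟩
  · exact ⟨fun _ h' => absurd h' h, fun _ => trivial⟩

/-- The ideal sheaf of a cycle. -/
noncomputable def cycIdeal (S : Finset X) (n : X → ℕ) : X.IdealSheafData :=
  ⨅ z : S, powAt z.1 (n z.1)

theorem mem_cycIdeal {S : Finset X} {n : X → ℕ} {U : X.affineOpens} (a : Γ(X, U.1)) :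
    a ∈ (cycIdeal S n).ideal U ↔
      ∀ z ∈ S, ∀ h : z ∈ U.1, X.presheaf.germ U.1 z h a ∈ maximalIdeal _ ^ n z := by
  rw [cycIdeal, Scheme.IdealSheafData.ideal_iInf, iInf_apply, Ideal.mem_iInf]
  simp only [mem_powAt, Subtype.forall]

/-- The stalks of the ideal sheaf of a cycle. -/
theorem stalkMap_eq_zero_iff {S : Finset X} {n : X → ℕ} (U : X.affineOpens) (d : (cycIdeal S n).subscheme)
    (hd : (cycIdeal S n).subschemeι d ∈ U.1) (a : Γ(X, U.1)) :
    (cycIdeal S n).subschemeι.stalkMap d (X.presheaf.germ U.1 _ hd a) = 0 ↔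
      ∀ z ∈ S, ∀ h : z ⤳ (cycIdeal S n).subschemeι d,
        X.presheaf.germ U.1 z (h.mem_open U.1.2 hd) a ∈ maximalIdeal _ ^ n z := by
  classical
  rw [SecDiv.mem_ker_stalkMap_iff]
  constructor
  · rintro ⟨e, he, hea⟩ z hz h
    have hzU : z ∈ U.1 := h.mem_open U.1.2 hd
    have hu : IsUnit (X.presheaf.germ U.1 z hzU e) :=
      (X.mem_basicOpen e z hzU).mp (h.mem_open (X.basicOpen e).2 ((X.mem_basicOpen e _ hd).mpr he))
    have h1 := (mem_cycIdeal _).mp hea z hz hzU
    rw [map_mul] at h1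
    exact (Ideal.unit_mul_mem_iff_mem _ hu).mp h1
  · intro ha
    have hsep : ∀ z ∈ S, ∃ e : Γ(X, U.1), IsUnit (X.presheaf.germ U.1 _ hd e) ∧
        ∀ h : z ∈ U.1, X.presheaf.germ U.1 z h (e * a) ∈ maximalIdeal _ ^ n z := by
      intro z hz
      by_cases h : z ⤳ (cycIdeal S n).subschemeι d
      · exact ⟨1, by rw [map_one]; exact isUnit_one, fun hzU => by rw [one_mul]; exact ha z hz h⟩
      · rw [specializes_iff_forall_open] at h
        push Not at h
        obtain ⟨W, hW, hdW, hzW⟩ := h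
        obtain ⟨f, hfW, hdf⟩ := U.2.exists_basicOpen_le (V := ⟨W, hW⟩) ⟨_, hdW⟩ hd
        refine ⟨f ^ n z, by rw [map_pow]; exact ((X.mem_basicOpen f _ hd).mp hdf).pow _, fun hzU => ?_⟩
        rw [map_mul, map_pow]
        exact Ideal.mul_mem_right _ _ (Ideal.pow_mem_pow ((mem_maximalIdeal _).mpr
          fun hu => hzW (hfW ((X.mem_basicOpen f z hzU).mpr hu))) _)
    choose! e he he' using hsep
    refine ⟨∏ z ∈ S, e z, ?_, (mem_cycIdeal _).mpr fun z hz hzU => ?_⟩
    · rw [map_prod]
      exact IsUnit.prod_iff.mpr he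
    · rw [← Finset.prod_erase_mul S e hz, mul_assoc, map_mul]
      exact Ideal.mul_mem_left _ _ (he' z hz hzU)

/-- An ideal sheaf without embedded points is cut out at its minimal points. -/
theorem mem_ideal_of_minimal [IsLocallyNoetherian X] (J : X.IdealSheafData)
    (h1 : ∀ z : ↥J.subscheme,
      IsAssociatedPrime (maximalIdeal ↑(J.subscheme.presheaf.stalk z))
        ↑(J.subscheme.presheaf.stalk z) → ∀ z' : ↥J.subscheme, z' ⤳ z → z' = z)
    (U : X.affineOpens) (a : Γ(X, U.1))
    (ha : ∀ d : J.subscheme, (∀ d' : J.subscheme, d' ⤳ d → d' = d) → ∀ h : J.subschemeι d ∈ U.1,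
      J.subschemeι.stalkMap d (X.presheaf.germ U.1 _ h a) = 0) :
    a ∈ J.ideal U := by
  rw [← J.ker_subschemeι_app U, RingHom.mem_ker]
  by_contra hne
  haveI : IsLocallyNoetherian J.subscheme := LocallyOfFiniteType.isLocallyNoetherian J.subschemeι
  have hV := U.2.preimage J.subschemeι
  haveI : IsNoetherianRing Γ(J.subscheme, J.subschemeι ⁻¹ᵁ U.1) :=
    IsLocallyNoetherian.component_noetherian ⟨_, hV⟩
  obtain ⟨q, hq, hle⟩ := exists_le_isAssociatedPrime_of_isNoetherianRing (R := Γ(J.subscheme, J.subschemeι ⁻¹ᵁ U.1))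
    (J.subschemeι.app U.1 a) hne
  obtain ⟨hqp, r, hr⟩ := isAssociatedPrime_iff.mp hq
  haveI := hqp
  obtain ⟨d, hd, hdu⟩ := WA.exists_point hV q
  let := TopCat.Presheaf.algebra_section_stalk J.subscheme.presheaf (⟨d, hd⟩ : (J.subschemeι ⁻¹ᵁ U.1 : J.subscheme.Opens))
  have := hV.isLocalization_stalk ⟨d, hd⟩
  let g := (J.subscheme.presheaf.germ (J.subschemeι ⁻¹ᵁ U.1) d hd).hom
  have hg0 : ∀ b, g b = 0 → ∃ s, s ∉ q ∧ s * b = 0 := by
    intro b hb
    obtain ⟨⟨s, hs⟩, hsb⟩ := (IsLocalization.map_eq_zero_iff (hV.primeIdealOf ⟨d, hd⟩).asIdeal.primeCompl _ b).mp hb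
    exact ⟨s, (hdu s).mp ((M1.isUnit_germ_iff hV hd s).mpr hs), hsb⟩
  haveI : IsNoetherianRing (J.subscheme.presheaf.stalk d) := inferInstance
  have hass : IsAssociatedPrime (maximalIdeal ↑(J.subscheme.presheaf.stalk d)) ↑(J.subscheme.presheaf.stalk d) := by
    refine isAssociatedPrime_iff.mpr ⟨inferInstance, g r,
      le_antisymm (fun y hy => ?_) (IsLocalRing.le_maximalIdeal fun htop => ?_)⟩
    · rw [Submodule.mem_colon_singleton, Submodule.mem_bot, smul_eq_mul]
      obtain ⟨⟨c, s⟩, hcs⟩ := IsLocalization.surj (hV.primeIdealOf ⟨d, hd⟩).asIdeal.primeCompl y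
      have hcs : y * g s = g c := hcs
      have hcu : ¬ IsUnit (g c) := fun h => by
        rw [← hcs, IsUnit.mul_iff] at h
        exact (IsLocalRing.mem_maximalIdeal _).mp hy h.1
      have hcq : c ∈ q := not_not.mp fun h => hcu ((hdu c).mpr h)
      rw [hr, Submodule.mem_colon_singleton, Submodule.mem_bot, smul_eq_mul] at hcq
      have h2 : y * g r * g s = 0 := by rw [mul_right_comm, hcs, ← map_mul, hcq, map_zero]
      exact (((M1.isUnit_germ_iff hV hd s.1).mpr s.2)).mul_left_eq_zero.mp h2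
    · have h1' : (1 : J.subscheme.presheaf.stalk d) ∈
          Submodule.colon (⊥ : Submodule (J.subscheme.presheaf.stalk d) (J.subscheme.presheaf.stalk d)) {g r} :=
        (Ideal.eq_top_iff_one _).mp htop
      rw [Submodule.mem_colon_singleton, Submodule.mem_bot, one_smul] at h1'
      obtain ⟨s, hs, hsr⟩ := hg0 r h1'
      exact hs (hr ▸ Submodule.mem_colon_singleton.mpr ((Submodule.mem_bot _).mpr hsr))
  have h2 := ha d (h1 d hass) hd
  rw [Scheme.Hom.germ_stalkMap_apply J.subschemeι U.1 d hd a] at h2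
  obtain ⟨s, hs, hsb⟩ := hg0 _ h2
  exact hs (hle (Submodule.mem_colon_singleton.mpr ((Submodule.mem_bot _).mpr hsb)))

theorem eq_of_specializes {z z' : X} (h : z ⤳ z')
    (h1 : ringKrullDim (X.presheaf.stalk z) = 1) (h2 : ringKrullDim (X.presheaf.stalk z') = 1) : z = z' := by
  by_contra hne
  have hlt : z' < z := lt_of_le_not_ge (Scheme.le_iff_specializes.mpr h) fun hge =>
    hne (h.antisymm (Scheme.le_iff_specializes.mp hge)).eq
  have h3 := Order.coheight_add_one_le hlt
  rw [ringKrullDim_stalk_eq_coheight] at h1 h2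
  have h1' : Order.coheight z = 1 := by exact_mod_cast h1
  have h2' : Order.coheight z' = 1 := by exact_mod_cast h2
  rw [h1', h2'] at h3
  exact absurd (show (2 : ℕ∞) ≤ 1 from h3) (by norm_num)

theorem length_quot_pow (R : Type u) [CommRing R] [IsDomain R] [IsDiscreteValuationRing R] (n : ℕ) :
    Module.length R (R ⧸ maximalIdeal R ^ n) = n := by
  obtain ⟨ϖ, hϖ⟩ := IsDiscreteValuationRing.exists_irreducible R
  rw [hϖ.maximalIdeal_eq, Ideal.span_singleton_pow]
  change Ring.ord R (ϖ ^ n) = n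
  rw [Ring.ord_pow (mem_nonZeroDivisors_of_ne_zero hϖ.ne_zero), Ring.ord_of_irreducible hϖ, nsmul_one]

theorem eq_pow_of_length (R : Type u) [CommRing R] [IsDomain R] [IsDiscreteValuationRing R] (K : Ideal R) (n : ℕ)
    (h : Module.length R (R ⧸ K) = n) : K = maximalIdeal R ^ n := by
  obtain ⟨ϖ, hϖ⟩ := IsDiscreteValuationRing.exists_irreducible R
  by_cases hK : K = ⊥
  · exfalso
    subst hK
    rw [(Submodule.quotEquivOfEqBot (⊥ : Ideal R) rfl).length_eq] at h
    have h' : Module.length R R ≠ ⊤ := by rw [h]; exact ENat.coe_ne_top _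
    rw [Module.length_ne_top_iff, isFiniteLength_iff_isNoetherian_isArtinian] at h'
    haveI : IsArtinianRing R := h'.2
    exact IsDiscreteValuationRing.not_isField R (IsArtinianRing.isField_of_isDomain R)
  obtain ⟨k, rfl⟩ := IsDiscreteValuationRing.ideal_eq_span_pow_irreducible hK hϖ
  rw [← Ideal.span_singleton_pow, ← hϖ.maximalIdeal_eq] at h ⊢
  rw [length_quot_pow] at h
  rw [show k = n from by exact_mod_cast h]

/-- The length of the stalk of a closed subscheme, computed in the ambient local ring. -/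
theorem length_stalk (J : X.IdealSheafData) (d : J.subscheme) (K : Ideal (X.presheaf.stalk (J.subschemeι d)))
    (hK : RingHom.ker (J.subschemeι.stalkMap d).hom = K) :
    Module.length ↑(J.subscheme.presheaf.stalk d) ↑(J.subscheme.presheaf.stalk d) =
      Module.length ↑(X.presheaf.stalk (J.subschemeι d)) (↑(X.presheaf.stalk (J.subschemeι d)) ⧸ K) := by
  letI : Algebra (X.presheaf.stalk (J.subschemeι d)) (J.subscheme.presheaf.stalk d) :=
    (J.subschemeι.stalkMap d).hom.toAlgebra
  have hs : Function.Surjective (algebraMap (X.presheaf.stalk (J.subschemeι d)) (J.subscheme.presheaf.stalk d)) :=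
    J.subschemeι.stalkMap_surjective d
  refine (Module.length_eq_of_surjective (S := X.presheaf.stalk (J.subschemeι d))
    (R := J.subscheme.presheaf.stalk d) (M := J.subscheme.presheaf.stalk d) hs).symm.trans ?_
  refine LinearEquiv.length_eq ?_
  refine ((Submodule.quotEquivOfEq _ _ ?_).trans ((Algebra.linearMap (X.presheaf.stalk (J.subschemeι d))
    (J.subscheme.presheaf.stalk d)).quotKerEquivOfSurjective hs)).symm
  rw [← hK]; rfl

/-- Let X be a separated Noetherian scheme and W = Σ a_i z_i an effective cycle on X (a function from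
the points of X to the integers, non-negative and with finite support) whose points z_i (those with
a_i ≠ 0) have codimension 1 with X regular there, i.e. O_{X,z_i} is a discrete valuation ring. Then
X has a unique closed subscheme Z (a quasi-coherent ideal sheaf) such that (1) Z has no embedded
components (every point of Z at which the maximal ideal of the local ring of Z is an associated
prime is a maximal point of Z) and (2) the cycle of Z is W: every maximal point z of Z has O_{Z,z}
of length W(z), and every point with W ≠ 0 is a maximal point of Z. -/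
theorem result (X : Scheme.{u}) [IsNoetherian X]
    [X.IsSeparated] (W : X → ℤ) (hfin : {x | W x ≠ 0}.Finite) (hpos : ∀ x, 0 ≤ W x)
    (hreg : ∀ x, W x ≠ 0 → ∃ _ : IsDomain ↑(X.presheaf.stalk x), IsDiscreteValuationRing ↑(X.presheaf.stalk x)) :
    ∃! 𝓘 : X.IdealSheafData,
      (∀ z : ↥𝓘.subscheme,
        IsAssociatedPrime (IsLocalRing.maximalIdeal ↑(𝓘.subscheme.presheaf.stalk z))
          ↑(𝓘.subscheme.presheaf.stalk z) → ∀ z' : ↥𝓘.subscheme, z' ⤳ z → z' = z) ∧
      (∀ z : ↥𝓘.subscheme, (∀ z' : ↥𝓘.subscheme, z' ⤳ z → z' = z) →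
        Module.length ↑(𝓘.subscheme.presheaf.stalk z) ↑(𝓘.subscheme.presheaf.stalk z) =
          ((W (𝓘.subschemeι.base z)).toNat : ℕ∞)) ∧
      (∀ x : X, W x ≠ 0 → ∃ z : ↥𝓘.subscheme, 𝓘.subschemeι.base z = x ∧
        ∀ z' : ↥𝓘.subscheme, z' ⤳ z → z' = z) := by
  classical
  let S : Finset X := hfin.toFinset
  have hS : ∀ {x}, x ∈ S ↔ W x ≠ 0 := fun {x} => hfin.mem_toFinset
  let n : X → ℕ := fun x => (W x).toNat
  have hn : ∀ z ∈ S, n z ≠ 0 := fun z hz => by
    have := hpos z
    have := hS.mp hz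
    simp only [n]; omega
  let I := cycIdeal S n
  let ι := I.subschemeι
  have hdim : ∀ z ∈ S, ringKrullDim (X.presheaf.stalk z) = 1 := fun z hz => by
    obtain ⟨_, _⟩ := hreg z (hS.mp hz)
    exact IsDiscreteValuationRing.ringKrullDim_eq_one _
  have hinc : ∀ z ∈ S, ∀ z' ∈ S, z ⤳ z' → z = z' := fun z hz z' hz' h =>
    eq_of_specializes h (hdim z hz) (hdim z' hz')
  have hpow : ∀ z ∈ S, (maximalIdeal (X.presheaf.stalk z)) ^ n z ≤ maximalIdeal _ :=
    fun z hz => Ideal.pow_le_self (hn z hz)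
  -- the support
  have hsupp : ∀ z ∈ S, ∃ d, ι d = z := by
    intro z hz
    obtain ⟨V, hV, hzV, -⟩ := exists_isAffineOpen_mem_and_subset (show z ∈ (⊤ : X.Opens) from trivial)
    refine (show z ∈ Set.range ι from I.range_subschemeι.ge ?_)
    change z ∈ I.support
    rw [Scheme.IdealSheafData.mem_support_iff_of_mem (U := ⟨V, hV⟩) hzV, Scheme.mem_zeroLocus_iff]
    intro a ha hza
    exact (mem_maximalIdeal _).mp (hpow z hz ((mem_cycIdeal (U := ⟨V, hV⟩) a).mp ha z hz hzV))
      ((X.mem_basicOpen a z hzV).mp hza)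
  have hgen : ∀ d, ∃ z ∈ S, z ⤳ ι d := by
    intro d
    obtain ⟨V, hV, hdV, -⟩ := exists_isAffineOpen_mem_and_subset (show ι d ∈ (⊤ : X.Opens) from trivial)
    by_contra hc
    push Not at hc
    have h := (stalkMap_eq_zero_iff ⟨V, hV⟩ d hdV 1).mpr fun z hz h => absurd h (hc z hz)
    rw [map_one, map_one] at h
    exact one_ne_zero h
  have hspec : ∀ d d', d' ⤳ d ↔ ι d' ⤳ ι d := fun d d' =>
    ι.isClosedEmbedding.isInducing.specializes_iff.symm
  have hmin : ∀ d, ι d ∈ S → ∀ d', d' ⤳ d → d' = d := by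
    intro d hd d' h
    obtain ⟨z, hz, hzd⟩ := hgen d'
    have h' := (hspec _ _).mp h
    have := hinc z hz _ hd (hzd.trans h')
    subst this
    exact ι.isClosedEmbedding.injective (h'.antisymm hzd).eq
  have hker : ∀ d, ι d ∈ S → RingHom.ker (ι.stalkMap d).hom = maximalIdeal _ ^ n (ι d) := by
    intro d hd
    obtain ⟨V, hV, hdV, -⟩ := exists_isAffineOpen_mem_and_subset (show ι d ∈ (⊤ : X.Opens) from trivial)
    let := TopCat.Presheaf.algebra_section_stalk X.presheaf (⟨ι d, hdV⟩ : V)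
    have := hV.isLocalization_stalk ⟨ι d, hdV⟩
    ext w
    obtain ⟨⟨a, e⟩, hae⟩ := IsLocalization.surj (hV.primeIdealOf ⟨ι d, hdV⟩).asIdeal.primeCompl w
    have hae : w * X.presheaf.germ V (ι d) hdV e = X.presheaf.germ V (ι d) hdV a := hae
    have heu : IsUnit (X.presheaf.germ V (ι d) hdV e) := (M1.isUnit_germ_iff hV hdV e.1).mpr e.2
    rw [RingHom.mem_ker, ← Ideal.mul_unit_mem_iff_mem _ heu (x := w), hae,
      ← (heu.map (ι.stalkMap d).hom).mul_left_eq_zero (a := (ι.stalkMap d).hom w), ← map_mul, hae]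
    refine (stalkMap_eq_zero_iff ⟨V, hV⟩ d hdV a).trans ⟨fun h => h _ hd specializes_rfl, fun h z hz hzd => ?_⟩
    obtain rfl := hinc z hz _ hd hzd
    exact h
  refine ⟨I, ⟨?_, ?_, ?_⟩, ?_⟩
  · intro d hd
    refine hmin d ?_
    haveI : IsNoetherianRing (I.subscheme.presheaf.stalk d) :=
      isNoetherianRing_of_surjective _ _ (ι.stalkMap d).hom (ι.stalkMap_surjective d)
    obtain ⟨V, hV, hdV, -⟩ := exists_isAffineOpen_mem_and_subset (show ι d ∈ (⊤ : X.Opens) from trivial)
    let := TopCat.Presheaf.algebra_section_stalk X.presheaf (⟨ι d, hdV⟩ : V)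
    have := hV.isLocalization_stalk ⟨ι d, hdV⟩
    obtain ⟨-, m, hm⟩ := isAssociatedPrime_iff.mp hd
    obtain ⟨w, rfl⟩ := ι.stalkMap_surjective d m
    obtain ⟨⟨a, e⟩, hae⟩ := IsLocalization.surj (hV.primeIdealOf ⟨ι d, hdV⟩).asIdeal.primeCompl w
    have hae : w * X.presheaf.germ V (ι d) hdV e = X.presheaf.germ V (ι d) hdV a := hae
    have heu : IsUnit (ι.stalkMap d (X.presheaf.germ V (ι d) hdV e)) :=
      ((M1.isUnit_germ_iff hV hdV e.1).mpr e.2).map _
    have hne : ι.stalkMap d (X.presheaf.germ V (ι d) hdV a) ≠ 0 := by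
      rw [← hae, map_mul, ne_eq, heu.mul_left_eq_zero]
      intro h0
      refine (maximalIdeal.isMaximal (I.subscheme.presheaf.stalk d)).ne_top (hm.trans ?_)
      rw [h0, Ideal.eq_top_iff_one]
      exact Submodule.mem_colon_singleton.mpr (by rw [smul_zero]; exact Submodule.zero_mem _)
    rw [ne_eq, stalkMap_eq_zero_iff ⟨V, hV⟩ d hdV a] at hne
    push Not at hne
    obtain ⟨z, hz, hzd, hza⟩ := hne
    have hzV : z ∈ V := hzd.mem_open V.2 hdV
    have hdz : ι d ⤳ z := WA.specializes_of_isUnit hV hzV hdV fun b hb => by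
      by_contra hbu
      have hb' : ι.stalkMap d (X.presheaf.germ V (ι d) hdV b) ∈ maximalIdeal _ :=
        (mem_maximalIdeal _).mpr fun h => hbu ((isUnit_map_iff (ι.stalkMap d).hom _).mp h)
      rw [hm, Submodule.mem_colon_singleton, Submodule.mem_bot, smul_eq_mul] at hb'
      have h0 : ι.stalkMap d (X.presheaf.germ V (ι d) hdV (b * a)) = 0 := by
        rw [map_mul, map_mul, ← hae, map_mul, ← mul_assoc, hb', zero_mul]
      have h1 := (stalkMap_eq_zero_iff ⟨V, hV⟩ d hdV _).mp h0 z hz hzd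
      rw [map_mul] at h1
      exact hza ((Ideal.unit_mul_mem_iff_mem _ hb).mp h1)
    rwa [(hdz.antisymm hzd).eq]
  · intro d hd
    obtain ⟨z, hz, hzd⟩ := hgen d
    obtain ⟨d', rfl⟩ := hsupp z hz
    obtain rfl := hd d' ((hspec _ _).mpr hzd)
    obtain ⟨_, _⟩ := hreg _ (hS.mp hz)
    rw [length_stalk I d' _ (hker d' hz), length_quot_pow]
  · intro x hx
    obtain ⟨d, rfl⟩ := hsupp x (hS.mpr hx)
    exact ⟨d, rfl, hmin d (hS.mpr hx)⟩
  · rintro J ⟨hJ1, hJ2, hJ3⟩
    refine Scheme.IdealSheafData.ext (funext fun U => ?_)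
    ext a
    rw [mem_cycIdeal]
    have hJmin : ∀ d : J.subscheme, (∀ d', d' ⤳ d → d' = d) → J.subschemeι d ∈ S ∧
        RingHom.ker (J.subschemeι.stalkMap d).hom = maximalIdeal _ ^ n (J.subschemeι d) := by
      intro d hd
      have h2 := hJ2 d hd
      have hd' : W (J.subschemeι d) ≠ 0 := by
        intro h0
        have hpos' := Module.length_pos (R := J.subscheme.presheaf.stalk d) (M := J.subscheme.presheaf.stalk d)
        rw [h2, show W (J.subschemeι.base d) = 0 from h0] at hpos'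
        simp at hpos'
      obtain ⟨_, _⟩ := hreg _ hd'
      rw [length_stalk J d _ rfl] at h2
      exact ⟨hS.mpr hd', eq_pow_of_length _ _ _ h2⟩
    constructor
    · intro ha z hz hzU
      obtain ⟨d, rfl, hd⟩ := hJ3 z (hS.mp hz)
      rw [← (hJmin d hd).2, RingHom.mem_ker]
      exact (SecDiv.mem_ker_stalkMap_iff J U d hzU a).mpr ⟨1, by rw [map_one]; exact isUnit_one, by rwa [one_mul]⟩
    · intro ha
      refine mem_ideal_of_minimal J hJ1 U a fun d hd hdU => ?_
      rw [← RingHom.mem_ker, (hJmin d hd).2]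
      exact ha _ (hJmin d hd).1 hdU

end Groth.Agent.S13600
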