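import Groth.Statements.S13603
import Mathlib.RingTheory.GradedAlgebra.Homogeneous.Ideal
import Mathlib.RingTheory.Artinian.Ring
import Mathlib.RingTheory.FiniteType
import Mathlib.RingTheory.IntegralClosure.IsIntegralClosure.Basic
import Mathlib.RingTheory.Localization.FractionRing
import Mathlib.RingTheory.Localization.Integral
import Mathlib.Algebra.Module.FinitePresentation
import Mathlib.RingTheory.Flat.Basic
import Mathlib.LinearAlgebra.Contraction
import Mathlib.RingTheory.LocalRing.Module
import Mathlib.RingTheory.Support
import Mathlib.RingTheory.FiniteLength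
import Mathlib.LinearAlgebra.Dimension.Finrank
import Mathlib.LinearAlgebra.FiniteDimensional.Basic
import Mathlib.Algebra.Ring.Action.Basic
import Mathlib.Algebra.GroupWithZero.Action.End
import Mathlib.RingTheory.HopkinsLevitzki
import Mathlib.Algebra.CharP.Invertible

set_option autoImplicit false
universe u v
open CAlg

namespace Groth.Agent.S13603
open TensorProduct

/-- Let a group G act on a commutative ring B by ring automorphisms so that every element of B has a
finite orbit, and let S ⊆ B be a multiplicative set of G-fixed elements (so each g ∈ G induces an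
endomorphism of the localization S⁻¹B; the hypothesis that g maps S into S is implied by the
previous one and is only carried to name that endomorphism). Then an element of S⁻¹B is fixed by all
of G if and only if it is a fraction b/s with b fixed by G and s ∈ S: the canonical map S⁻¹(B^G) →
(S⁻¹B)^G is onto. -/
theorem result {B : Type u} [CommRing B]
    {G : Type v} [Group G] [MulSemiringAction G B] (hfin : ∀ b : B, (MulAction.orbit G b).Finite)
    (S : Submonoid B) (hS : ∀ (g : G) (s : B), s ∈ S → g • s = s)
    (hS' : ∀ g : G, S ≤ S.comap (MulSemiringAction.toRingHom G B g)) (x : Localization S) :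
    (∀ g : G, IsLocalization.map (Localization S) (MulSemiringAction.toRingHom G B g) (hS' g) x = x) ↔
      ∃ (b : B) (s : S), (∀ g : G, g • b = b) ∧ x = IsLocalization.mk' (Localization S) b s := by
  classical
  have hmap : ∀ (g : G) (b : B) (s : S),
      IsLocalization.map (Localization S) (MulSemiringAction.toRingHom G B g) (hS' g) (IsLocalization.mk' (Localization S) b s) = IsLocalization.mk' (Localization S) (g • b) s := by
    intro g b s
    rw [IsLocalization.map_mk']
    congr 1
    exact Subtype.ext (hS g _ s.2)
  constructor
  · intro h
    obtain ⟨⟨b, s⟩, rfl⟩ := IsLocalization.mk'_surjective S x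
    have key : ∀ c : MulAction.orbit G b, ∃ t : S, (t : B) * c.1 = t * b := by
      rintro ⟨c, g, rfl⟩
      have e := h g
      rw [hmap] at e
      obtain ⟨t, ht⟩ := IsLocalization.eq.1 e
      refine ⟨t * s, ?_⟩
      simp only [Submonoid.coe_mul] at ht ⊢
      linear_combination ht
    choose t ht using key
    have := (hfin b).fintype
    refine ⟨((∏ c, t c : S) : B) * b, (∏ c, t c) * s, fun g => ?_, ?_⟩
    · rw [smul_mul', hS g _ (∏ c, t c).2]
      obtain ⟨u, hu⟩ := Finset.dvd_prod_of_mem t (Finset.mem_univ (⟨g • b, g, rfl⟩ : MulAction.orbit G b))
      rw [hu, Submonoid.coe_mul]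
      linear_combination (u : B) * ht ⟨g • b, g, rfl⟩
    · rw [eq_comm, IsLocalization.eq]
      exact ⟨1, by push_cast; ring⟩
  · rintro ⟨b, s, hb, rfl⟩ g
    rw [hmap, hb]

end Groth.Agent.S13603
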