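import Groth.Statements.S13605
import Groth.Agent.Lib.SymProd14.Chart
import Groth.Agent.Lib.IsQuot25.Props

set_option autoImplicit false
universe u
open CategoryTheory AlgebraicGeometry
open CategoryTheory.Limits
open SymProd

namespace Groth.Agent.S13605

open CategoryTheory CategoryTheory.Limits AlgebraicGeometry Groth.Agent

/-- Let f : X ⟶ S be a morphism of schemes satisfying (AF) (every finite set of points of X over a
single point of S lies in an affine open of X), let 𝒮 be a cover of S by affine opens, let d ≥ 1 and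
let (Y, q, g) be a d-th symmetric power of X over S: q : X ×_S ⋯ ×_S X ⟶ Y is a quotient by the
symmetric group on d letters permuting the factors (affine, invariant, sections of O_Y = invariant
sections) and q ≫ g is the structure map of the fibre power. Then Y is covered by affine opens of
the form Sym^d(U/V) with V in the given cover: for every point y of Y there are V ∈ 𝒮 and an affine
open U ⊆ f⁻¹V of X such that the open W = ⋂_i pr_i⁻¹ U of the fibre power (the fibre power of U over
V) is affine and stable under every permutation of the factors, and an affine open W' of Y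
containing y with q⁻¹ W' = W. (The published statement also fixes an affine open cover of X
subordinate to the cover of S, in which any d points over a common point of a member V lie in a
common member mapping into V, and concludes that the corresponding opens Sym^d(U/V) cover Y; this
row states the pointwise form, producing U for each y.) -/
theorem result {X S Y : Scheme.{u}} (f : X ⟶ S) (hAF : SymProd.IsAF f)
    (𝒮 : Set S.Opens) (h𝒮 : ∀ V ∈ 𝒮, IsAffineOpen V) (hcov : ∀ s : S, ∃ V ∈ 𝒮, s ∈ V)
    (d : ℕ) (hd : 0 < d) (q : SymProd.fibPow f d ⟶ Y) (g : Y ⟶ S) (hq : SymProd.IsSymProd f d q g) (y : Y) :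
    ∃ V ∈ 𝒮, ∃ U : X.Opens, IsAffineOpen U ∧ U ≤ f ⁻¹ᵁ V ∧
      ∃ W : (SymProd.fibPow f d).Opens,
        (W : Set ↥(SymProd.fibPow f d)) =
          ⋂ i : Fin d, (WidePullback.π (fun _ : Fin d => f) i).base ⁻¹' (U : Set X) ∧
        IsAffineOpen W ∧ (∀ σ : Equiv.Perm (Fin d), (SymProd.permHom f d σ) ⁻¹ᵁ W = W) ∧
        ∃ W' : Y.Opens, y ∈ W' ∧ IsAffineOpen W' ∧ q ⁻¹ᵁ W' = W := by
  obtain ⟨x, rfl⟩ := IsQuot25.surjective hq.isQuot y
  obtain ⟨V, hV𝒮, hxV⟩ := hcov (WidePullback.base (fun _ : Fin d => f) x)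
  obtain ⟨U, hU, hUV, hxU⟩ := SymProd14.exists_box hAF x (h𝒮 V hV𝒮) hxV
  let W := SymProd14.box (f := f) (d := d) U V
  have hW : IsAffineOpen W := SymProd14.isAffineOpen_box hU (h𝒮 V hV𝒮) hUV
  have hinv : ∀ σ : ULift.{u} (Equiv.Perm (Fin d)), (SymProd.permActU f d σ).hom ⁻¹ᵁ W = W := fun σ => by
    rw [SymProd.permActU_hom]; exact SymProd14.preimage_box U V σ.down
  refine ⟨V, hV𝒮, U, hU, hUV, W, ?_, hW, fun σ => SymProd14.preimage_box U V σ, ?_⟩
  · ext z
    refine ⟨fun h => h.2, fun h => ⟨?_, h⟩⟩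
    have h0 := Set.mem_iInter.1 h ⟨0, hd⟩
    show WidePullback.base (fun _ : Fin d => f) z ∈ V
    rw [← WidePullback.π_arrow (fun _ : Fin d => f) ⟨0, hd⟩, Scheme.Hom.comp_apply]
    exact hUV h0
  · obtain ⟨W', p', hp', hq', hpre⟩ := IsQuot25.exists_isQuot_of_le hq.isQuot W.ι
      (IsQuot25.restr _ W hinv) (IsQuot25.restr_ι _ W hinv)
    rw [Scheme.Opens.opensRange_ι] at hpre
    haveI : IsAffine (W : Scheme.{u}) := hW
    obtain ⟨M, π, hM, hπ⟩ := IsQuot25.exists_isQuot_of_isAffine (IsQuot25.restr _ W hinv)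
    obtain ⟨e, -⟩ := IsQuot25.exists_iso hq' hπ
    haveI := hM
    refine ⟨W', ?_, IsAffine.of_isIso e.hom, hpre⟩
    have : x ∈ q ⁻¹ᵁ W' := hpre.ge ⟨hxV, Set.mem_iInter.2 hxU⟩
    exact this

end Groth.Agent.S13605
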