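import Groth.Statements.S13607
import Groth.Agent.Lib.ARSys.Quot

set_option autoImplicit false
open CategoryTheory CategoryTheory.Limits Opposite
universe w v u
open ARSys

namespace Groth.Agent.S13607
open Groth.Agent.AR

/-- In an abelian category linear over a commutative ring A with an ideal J, let X be a J-adic
projective system indexed by the natural numbers and Y a projective system whose n-th term is killed
by J^(n+1) for every n. Then for every r, every morphism from the translate X[r] to Y factors
uniquely through the canonical translation map X[r] ⟶ X: there is exactly one morphism g : X ⟶ Y
whose n-th component, precomposed with the transition map X_(n+r) ⟶ X_n, is the n-th component of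
the given morphism. In particular morphisms X ⟶ Y up to translation are the same as morphisms X ⟶ Y.
(The published statement is for systems of finitely generated modules over a Noetherian ring, and
for systems of sheaves of modules on the small etale site; this row states it in any linear abelian
category, which is all the argument uses.) -/
theorem result {C : Type u} [Category.{v} C] [Abelian C] {A : Type w} [CommRing A] [Linear A C]
    (J : Ideal A) (X Y : ARSys.PS C) (hX : ARSys.IsAdic J X) (hY : ARSys.TermKilled J Y) (r : ℕ)
    (f : (ARSys.shift C r).obj X ⟶ Y) :
    ∃! g : X ⟶ Y, ∀ n : ℕ, f.app (op n) = ARSys.shiftMap X r n ≫ g.app (op n) := by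
  have key := fun n : ℕ => (hX.2 n (n + r) (Nat.le_add_right n r)).2 (Y.obj (op n)) (f.app (op n))
    (smul_eq_zero_of_killed_target (hY n) _)
  choose g hg hu using key
  refine ⟨mkHom g fun {n m} h => ?_, fun n => (hg n).symm, fun g' hg' => ?_⟩
  · have := isAdic_epi hX (Nat.le_add_right m r)
    rw [← cancel_epi (ARSys.tr X (Nat.le_add_right m r)), tr_tr_assoc, ← Category.assoc _ (g m), hg m,
      ← tr_tr X (Nat.le_add_right n r) (Nat.add_le_add_right h r), Category.assoc, hg n]
    exact f.naturality (homOfLE h).op
  · ext ⟨n⟩
    exact hu n _ (hg' n).symm

end Groth.Agent.S13607
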