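import Groth.Statements.S13608
import Mathlib.RingTheory.Etale.Basic
import Mathlib.RingTheory.AdicCompletion.Basic
import Mathlib.RingTheory.Ideal.AssociatedPrime.Basic
import Mathlib.RingTheory.Ideal.Operations
import Mathlib.RingTheory.Support
import Mathlib.RingTheory.Spectrum.Prime.Basic
import Mathlib.RingTheory.Filtration
import Mathlib.RingTheory.Flat.Basic
import Mathlib.RingTheory.LocalRing.Module
import Mathlib.RingTheory.Localization.FractionRing
import Mathlib.LinearAlgebra.FiniteDimensional.Basic
import Groth.Agent.Lib.H2Alg.ArtinFlat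

set_option autoImplicit false
universe u v
open CAlg

namespace Groth.Agent.S13608
open TensorProduct

/-- Let A be a commutative ring, I a finitely generated ideal of A and (M_n) an inverse system of
A-modules with transition maps f_n : M_(n+1) → M_n such that I^(n+1) M_n = 0 for every n. If L is an
inverse limit of the system (projections π_n compatible with the f_n, jointly injective, and such
that every compatible family of elements lifts to L), then L is complete and separated for the
I-adic topology. No surjectivity of the transition maps is assumed. -/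
theorem result
    (A : Type u) [CommRing A] (I : Ideal A) (hI : I.FG)
    (M : ℕ → Type v) [∀ n, AddCommGroup (M n)] [∀ n, Module A (M n)]
    (f : ∀ n, M (n + 1) →ₗ[A] M n)
    (hkill : ∀ n, I ^ (n + 1) • (⊤ : Submodule A (M n)) = ⊥)
    (L : Type v) [AddCommGroup L] [Module A L] (π : ∀ n, L →ₗ[A] M n)
    (hπ : ∀ n, f n ∘ₗ π (n + 1) = π n)
    (hinj : ∀ x : L, (∀ n, π n x = 0) → x = 0)
    (hlift : ∀ y : (∀ n, M n), (∀ n, f n (y (n + 1)) = y n) → ∃ x : L, ∀ n, π n x = y n) :
    IsAdicComplete I L := by
  classical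
  have hvan : ∀ m (x : L), x ∈ (I ^ (m + 1) • ⊤ : Submodule A L) → π m x = 0 := fun m x hx => by
    have := Submodule.mem_map_of_mem (f := π m) hx
    rw [Submodule.map_smul''] at this
    have h2 : π m x ∈ (I ^ (m + 1) • ⊤ : Submodule A (M m)) := Submodule.smul_mono le_rfl le_top this
    rwa [hkill, Submodule.mem_bot] at h2
  refine { haus' := fun x hx => hinj x fun n => hvan n x (SModEq.zero.1 (hx (n + 1))), prec' := fun g hg => ?_ }
  have hlim : ∀ z : ℕ → L, (∀ m, z (m + 1) - z m ∈ (I ^ (m + 1) • ⊤ : Submodule A L)) → ∃ x, ∀ m, π m x = π m (z m) := fun z hz =>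
    hlift (fun m => π m (z m)) fun m => by
      rw [← LinearMap.comp_apply, hπ, ← sub_eq_zero, ← map_sub]
      exact hvan m _ (hz m)
  obtain ⟨x, hx⟩ := hlim (fun m => g (m + 1)) fun m => SModEq.sub_mem.1 (hg (Nat.le_succ _)).symm
  refine ⟨x, fun n => SModEq.sub_mem.2 ?_⟩
  obtain ⟨G, hG⟩ := hI.pow (n := n)
  have hdec : ∀ i, ∃ z : A → L, (∀ a, z a ∈ (I ^ i • ⊤ : Submodule A L)) ∧ g (n + i + 1) - g (n + i) = ∑ a ∈ G, a • z a := by
    intro i
    have h0 : g (n + i + 1) - g (n + i) ∈ (I ^ n • (I ^ i • ⊤ : Submodule A L)) := by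
      rw [← Submodule.mul_smul, ← pow_add]; exact SModEq.sub_mem.1 (hg (Nat.le_succ _)).symm
    refine Submodule.smul_induction_on h0 (fun c hc m hm => ?_) (fun u v hu hv => ?_)
    · rw [← hG] at hc
      obtain ⟨w, hw⟩ := Submodule.mem_span_finset.1 hc
      refine ⟨fun a => w a • m, fun a => Submodule.smul_mem _ _ hm, ?_⟩
      simp only [← hw.2, Finset.sum_smul, smul_eq_mul, smul_smul, mul_comm]
    · obtain ⟨z, hz, rfl⟩ := hu; obtain ⟨z', hz', rfl⟩ := hv
      exact ⟨z + z', fun a => add_mem (hz a) (hz' a), by simp [smul_add, Finset.sum_add_distrib]⟩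
  choose z hz hd using hdec
  choose w hw using fun a : A => hlim (fun m => ∑ i ∈ Finset.range (m + 1), z i a) fun m => by
    rw [Finset.sum_range_succ _ (m + 1), add_sub_cancel_left]; exact hz (m + 1) a
  have key : g n - x = - ∑ a ∈ G, a • w a := by
    rw [← sub_eq_zero]
    refine hinj _ fun m => ?_
    simp only [map_sub, map_neg, map_sum, map_smul, hx, hw]
    have e : ∑ a ∈ G, a • π m (∑ i ∈ Finset.range (m + 1), z i a) = π m (g (n + (m + 1)) - g n) := by
      rw [show g (n + (m + 1)) - g n = ∑ i ∈ Finset.range (m + 1), (g (n + i + 1) - g (n + i)) from (Finset.sum_range_sub (fun i => g (n + i)) (m + 1)).symm]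
      simp only [hd, map_sum, map_smul, Finset.smul_sum]
      exact Finset.sum_comm
    have e2 : π m (g (n + (m + 1))) = π m (g (m + 1)) := by
      rw [← sub_eq_zero, ← map_sub]; exact hvan m _ (SModEq.sub_mem.1 (hg (Nat.le_add_left _ _)).symm)
    simp only [map_sum] at e
    rw [e, map_sub, e2]; abel
  rw [key]
  exact neg_mem (Submodule.sum_mem _ fun a ha => Submodule.smul_mem_smul (hG ▸ Ideal.subset_span ha) Submodule.mem_top)

end Groth.Agent.S13608
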