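import Groth.Statements.S13609
import Mathlib.RingTheory.Ideal.AssociatedPrime.Finiteness
import Mathlib.RingTheory.Jacobson.Ring
import Mathlib.RingTheory.Artinian.Module
import Mathlib.RingTheory.Artinian.Ring
import Mathlib.RingTheory.Regular.IsSMulRegular
import Mathlib.RingTheory.AdicCompletion.Basic
import Mathlib.RingTheory.IntegralDomain
import Mathlib.RingTheory.FinitePresentation
import Mathlib.RingTheory.Flat.FaithfullyFlat.Basic
import Mathlib.RingTheory.Flat.FaithfullyFlat.Algebra
import Mathlib.RingTheory.IntegralClosure.IntegrallyClosed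
import Mathlib.LinearAlgebra.Matrix.MvPolynomial
import Mathlib.RingTheory.Polynomial.Basic
import Mathlib.RingTheory.Localization.FractionRing
import Mathlib.RingTheory.IntegralClosure.IsIntegral.Basic
import Mathlib.LinearAlgebra.TensorProduct.Tower
import Mathlib.RingTheory.Ideal.Quotient.Operations
import Mathlib.RingTheory.Ideal.Colon
import Mathlib.RingTheory.Support
import Mathlib.RingTheory.Noetherian.OfPrime
import Mathlib.RingTheory.HopkinsLevitzki
import Mathlib.RingTheory.Ideal.AssociatedPrime.Localization
import Mathlib.RingTheory.Flat.FaithfullyFlat.Descent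
import Mathlib.LinearAlgebra.TensorProduct.Quotient
import Mathlib.LinearAlgebra.TensorProduct.RightExactness
import Mathlib.RingTheory.PrincipalIdealDomain
import Mathlib.LinearAlgebra.Matrix.Charpoly.Basic
import Mathlib.RingTheory.Flat.Stability
import Mathlib.RingTheory.Nilpotent.Lemmas
import Mathlib.Algebra.Module.Projective
import Mathlib.RingTheory.LocalRing.ResidueField.Basic
import Mathlib.GroupTheory.OrderOfElement
import Mathlib.Algebra.EuclideanDomain.Int
import Mathlib.RingTheory.Spectrum.Maximal.Basic

set_option autoImplicit false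
universe u v
open CAlg

namespace Groth.Agent.S13609
open TensorProduct

/-- A direct summand of a module that is complete and separated for the I-adic topology is again
complete and separated: for a commutative ring A, an ideal I and A-modules M₁, M₂, if M₁ × M₂ is
I-adically complete then so is M₁. -/
theorem result (A : Type u) [CommRing A] (I : Ideal A)
    (M₁ M₂ : Type v) [AddCommGroup M₁] [Module A M₁] [AddCommGroup M₂] [Module A M₂]
    [IsAdicComplete I (M₁ × M₂)] : IsAdicComplete I M₁ := by
  have hm : ∀ n (x : M₁), x ∈ (I ^ n • ⊤ : Submodule A M₁) → ((x, 0) : M₁ × M₂) ∈ (I ^ n • ⊤ : Submodule A (M₁ × M₂)) := fun n x hx => by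
    have := Submodule.mem_map_of_mem (f := LinearMap.inl A M₁ M₂) hx
    rw [Submodule.map_smul''] at this
    exact Submodule.smul_mono le_rfl le_top this
  have hp : ∀ n (x : M₁ × M₂), x ∈ (I ^ n • ⊤ : Submodule A (M₁ × M₂)) → x.1 ∈ (I ^ n • ⊤ : Submodule A M₁) := fun n x hx => by
    have := Submodule.mem_map_of_mem (f := LinearMap.fst A M₁ M₂) hx
    rw [Submodule.map_smul''] at this
    exact Submodule.smul_mono le_rfl le_top this
  refine { haus' := fun x hx => ?_, prec' := fun f hf => ?_ }
  · have := IsHausdorff.haus' (I := I) ((x, 0) : M₁ × M₂) fun n => SModEq.zero.2 (hm n x (SModEq.zero.1 (hx n)))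
    exact congrArg Prod.fst this
  · obtain ⟨L, hL⟩ := IsPrecomplete.prec' (I := I) (fun n => ((f n, 0) : M₁ × M₂)) fun {m n} h => SModEq.sub_mem.2 (by simpa using hm m _ (SModEq.sub_mem.1 (hf h)))
    exact ⟨L.1, fun n => SModEq.sub_mem.2 (by simpa using hp n _ (SModEq.sub_mem.1 (hL n)))⟩

end Groth.Agent.S13609
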