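import Groth.Statements.S1361
import Groth.Agent.Lib.Spread4.CompNbhd
import Groth.Agent.Lib.Spread4.Gen
import Groth.Agent.Lib.Spread4.OpenPart
import Groth.Agent.Lib.EtaleRes4.Ext
import Groth.Agent.S1654
import Groth.Agent.S1356
-- import your own Groth.Agent.* helpers here

set_option autoImplicit false
universe u
open FlatMor

namespace Groth.Agent.S1361

open AlgebraicGeometry CategoryTheory Limits in
/-- Let f : X → S be flat, locally of finite presentation, with geometrically reduced fibres. Then for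
every point x of X there are an étale morphism X' → X whose image contains x, an étale morphism S' →
S and a factorization X' → S' → S of X' → X → S such that X' → S' is a flat morphism of finite
presentation all of whose fibres are geometrically connected and geometrically reduced. -/
theorem result {X S : Scheme.{u}} (f : X ⟶ S) [Flat f] [LocallyOfFinitePresentation f] [GeometricallyReduced f] (x : X) :
    ∃ (X' S' : Scheme.{u}) (a : X' ⟶ X) (b : X' ⟶ S') (c : S' ⟶ S), Etale a ∧ x ∈ Set.range ⇑a ∧ Etale c ∧ a ≫ f = b ≫ c ∧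
      Flat b ∧ LocallyOfFinitePresentation b ∧ QuasiCompact b ∧ QuasiSeparated b ∧ GeometricallyConnected b ∧ GeometricallyReduced b := by
  classical
  obtain ⟨S₀, hS₀, hs₀, -⟩ := exists_isAffineOpen_mem_and_subset (X := S) (x := f x) (U := ⊤) trivial
  obtain ⟨W, hW, hxW, hWS⟩ := exists_isAffineOpen_mem_and_subset (X := X) (x := x) (U := f ⁻¹ᵁ S₀) hs₀
  haveI : IsAffine S₀ := hS₀
  haveI : IsAffine W := hW
  let j : Spec Γ(S, S₀) ⟶ S := hS₀.fromSpec
  let f₀ : (W : Scheme.{u}) ⟶ Spec Γ(S, S₀) := f.resLE S₀ W hWS ≫ hS₀.isoSpec.hom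
  have hf₀ : f₀ ≫ j = W.ι ≫ f := by
    simp only [f₀, j, Category.assoc, IsAffineOpen.isoSpec_hom, IsAffineOpen.toSpecΓ_fromSpec,
      Scheme.Hom.resLE_comp_ι]
  haveI : Flat (f.resLE S₀ W hWS) := inferInstanceAs (Flat (X.homOfLE hWS ≫ (f ∣_ S₀)))
  haveI : LocallyOfFinitePresentation (f.resLE S₀ W hWS) :=
    inferInstanceAs (LocallyOfFinitePresentation (X.homOfLE hWS ≫ (f ∣_ S₀)))
  haveI : GeometricallyReduced (f ∣_ S₀) :=
    MorphismProperty.of_isPullback (P := @GeometricallyReduced) (isPullback_morphismRestrict f S₀).flip inferInstance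
  haveI : GeometricallyReduced f₀ := by
    have h1 : GeometricallyReduced (f.resLE S₀ W hWS) :=
      Spread4.geometricallyReduced_comp_open (X.homOfLE hWS) (f ∣_ S₀)
    exact (MorphismProperty.cancel_right_of_respectsIso (P := @GeometricallyReduced) _ hS₀.isoSpec.hom).2 h1
  let pp : Spec Γ(S, S₀) := f₀ ⟨x, hxW⟩
  let p : Ideal Γ(S, S₀) := pp.asIdeal
  let K : Type u := p.ResidueField
  let ι : Spec (CommRingCat.of K) ⟶ Spec Γ(S, S₀) := Spec.map (CommRingCat.ofHom (algebraMap Γ(S, S₀) K))
  letI : (pullback f₀ ι).Over (Spec (CommRingCat.of K)) := ⟨pullback.snd f₀ ι⟩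
  haveI : LocallyOfFiniteType (pullback f₀ ι ↘ Spec (CommRingCat.of K)) :=
    inferInstanceAs (LocallyOfFiniteType (pullback.snd f₀ ι))
  haveI : IsLocallyNoetherian (pullback f₀ ι) := LocallyOfFiniteType.isLocallyNoetherian (pullback.snd f₀ ι)
  haveI : CompactSpace ↥(pullback f₀ ι) := QuasiCompact.compactSpace_of_compactSpace (pullback.snd f₀ ι)
  haveI : IsNoetherian (pullback f₀ ι) := {}
  obtain ⟨L, _, _, hfin, hsep, hL⟩ := S1654.result K (pullback f₀ ι)
    TopologicalSpace.NoetherianSpace.finite_irreducibleComponents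
  haveI := hfin
  haveI := hsep
  letI : Algebra Γ(S, S₀) L := ((algebraMap K L).comp (algebraMap Γ(S, S₀) K)).toAlgebra
  haveI : IsScalarTower Γ(S, S₀) K L := IsScalarTower.of_algebraMap_eq' rfl
  obtain ⟨R', _, _, _, q, _, hq, ⟨eqv⟩⟩ := ER4.exists_etale_residueField_ext p L
  let g : Spec (CommRingCat.of R') ⟶ Spec Γ(S, S₀) := Spec.map (CommRingCat.ofHom (algebraMap Γ(S, S₀) R'))
  haveI : Etale g := (HasRingHomProperty.Spec_iff (P := @Etale)).mpr (RingHom.etale_algebraMap.mpr inferInstance)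
  let u : Spec (CommRingCat.of R') := ⟨q, inferInstance⟩
  have hgu : g u = pp := PrimeSpectrum.ext hq
  let θ : Spec (CommRingCat.of L) ⟶ Spec ((Spec (CommRingCat.of R')).residueField u) :=
    Spec.map ((Scheme.Spec.residueFieldIso (CommRingCat.of R') u).hom ≫
      (show q.ResidueField ≃+* L from eqv.symm.toRingEquiv).toCommRingCatIso.hom)
  have hθ : θ ≫ (Spec (CommRingCat.of R')).fromSpecResidueField u ≫ g =
      Spec.map (CommRingCat.ofHom (algebraMap K L)) ≫ ι := by
    rw [← Scheme.Spec.map_residueFieldIso_inv_eq_fromSpecResidueField]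
    show Spec.map _ ≫ (Spec.map _ ≫ Spec.map _) ≫ Spec.map _ = Spec.map _ ≫ Spec.map _
    simp only [← Spec.map_comp, Category.assoc]
    congr 1
    ext x
    show eqv.symm ((Scheme.Spec.residueFieldIso (CommRingCat.of R') u).hom
      ((Scheme.Spec.residueFieldIso (CommRingCat.of R') u).inv
        (algebraMap R' _ (algebraMap Γ(S, S₀) R' x)))) = algebraMap Γ(S, S₀) L x
    rw [Iso.inv_hom_id_apply, ← IsScalarTower.algebraMap_apply Γ(S, S₀) R' q.ResidueField, AlgEquiv.commutes]
  haveI : IsIso θ := inferInstance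
  let F := pullback.snd f₀ g
  obtain ⟨a, ha⟩ := Spread4.exists_fibre_comparison f₀ g u ι
    (Spec.map (CommRingCat.ofHom (algebraMap K L))) θ hθ
  haveI : IsIso a := MorphismProperty.of_isPullback (P := MorphismProperty.isomorphisms Scheme) ha.flip
    (inferInstanceAs (IsIso θ))
  obtain ⟨x₁, hx₁, hx₁u⟩ := Scheme.Pullback.exists_preimage_pullback (f := f₀) (g := g) ⟨x, hxW⟩ u (by rw [hgu])
  obtain ⟨z, hz⟩ : x₁ ∈ Set.range (F.fiberι u) := by rw [Scheme.Hom.range_fiberι]; exact hx₁u
  obtain ⟨w, hw⟩ := a.surjective z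
  let π := pullback.snd (pullback.snd f₀ ι) (Spec.map (CommRingCat.ofHom (algebraMap K L)))
  haveI : IsNoetherian (pullback (pullback.snd f₀ ι) (Spec.map (CommRingCat.ofHom (algebraMap K L)))) := by
    haveI : IsLocallyNoetherian (pullback (pullback.snd f₀ ι) (Spec.map (CommRingCat.ofHom (algebraMap K L)))) :=
      LocallyOfFiniteType.isLocallyNoetherian π
    haveI : CompactSpace ↥(pullback (pullback.snd f₀ ι) (Spec.map (CommRingCat.ofHom (algebraMap K L)))) :=
      QuasiCompact.compactSpace_of_compactSpace π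
    exact {}
  obtain ⟨O, hwO, hO⟩ := Spread4.exists_geometricallyConnected_nhd π
    TopologicalSpace.NoetherianSpace.finite_irreducibleComponents (fun T hT => hL T hT) w
  let jT := O.ι ≫ a
  let T : (F.fiber u).Opens := jT.opensRange
  have hTc : GeometricallyConnected (T.ι ≫ F.fiberToSpecResidueField u) := by
    have h1 : GeometricallyConnected (jT.isoOpensRange.inv ≫ (O.ι ≫ π) ≫ θ) :=
      (MorphismProperty.cancel_left_of_respectsIso (P := @GeometricallyConnected) _ _).2
        ((MorphismProperty.cancel_right_of_respectsIso (P := @GeometricallyConnected) _ θ).2 hO)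
    have h2 : jT.isoOpensRange.inv ≫ (O.ι ≫ π) ≫ θ = T.ι ≫ F.fiberToSpecResidueField u := by
      rw [Iso.inv_comp_eq, Scheme.Hom.isoOpensRange_hom_ι_assoc]
      simp only [jT, Category.assoc]
      rw [← ha.w]
    rwa [h2] at h1
  obtain ⟨S', g', s', hS', hg', V, hV, hVc, hVmem⟩ := S1356.result F u T hTc
  haveI := hS'
  haveI := hg'.etale
  haveI : QuasiSeparatedSpace ↥(pullback F g') := quasiSeparatedSpace_of_quasiSeparated (pullback.snd F g')
  haveI : CompactSpace V := isCompact_iff_compactSpace.1 hV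
  haveI : QuasiSeparatedSpace (V : Scheme.{u}) :=
    QuasiSeparatedSpace.of_isOpenEmbedding V.ι.isOpenEmbedding
  refine ⟨V, S', V.ι ≫ pullback.fst F g' ≫ pullback.fst f₀ g ≫ W.ι, V.ι ≫ pullback.snd F g',
    g' ≫ g ≫ j, inferInstance, ?_, inferInstance, ?_, inferInstance, inferInstance,
    (HasAffineProperty.iff_of_isAffine (P := @QuasiCompact)).2 inferInstance,
    (quasiSeparated_iff_quasiSeparatedSpace _).2 inferInstance, hVc,
    Spread4.geometricallyReduced_comp_open V.ι (pullback.snd F g')⟩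
  · obtain ⟨y', hy'1, hy'2⟩ := Scheme.Pullback.exists_preimage_pullback (f := F) (g := g') x₁ s'
      (by rw [hx₁u, hg'.base_eq])
    have hy'V : y' ∈ V := (hVmem y' hy'2).2 ⟨z, ⟨⟨w, hwO⟩, hw⟩, by rw [hz, hy'1]⟩
    refine ⟨⟨y', hy'V⟩, ?_⟩
    show W.ι (pullback.fst f₀ g (pullback.fst F g' y')) = x
    rw [hy'1, hx₁]; rfl
  · simp only [Category.assoc]
    rw [← hf₀, pullback.condition_assoc, show pullback.fst F g' ≫ F ≫ g ≫ j = pullback.snd F g' ≫ g' ≫ g ≫ j from
      pullback.condition_assoc _]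

end Groth.Agent.S1361
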