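import Groth.Statements.S13611
import Groth.Agent.Lib.EtModEps19.LisseStrata
-- import your own Groth.Agent.* helpers here

set_option autoImplicit false
open CategoryTheory CategoryTheory.Limits AlgebraicGeometry Opposite
universe u
open EtModW

namespace Groth.Agent.S13611

set_option linter.style.haveILetI false
set_option backward.isDefEq.respectTransparency.types false


/-- For a Noetherian scheme X, a Noetherian coefficient ring Λ and an ideal I of Λ, let F = (F_n) be an
I-adic inverse system of sheaves of Λ-modules on the small etale site of X (I^(n+1) F_n = 0 and the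
transition maps identify F_n with F_m modulo I^(n+1)) whose members F_n are all constructible. Then
X is the disjoint union of finitely many locally closed strata (images of immersions) such that the
pullback of every F_n to every stratum is locally constant of finite type — a single finite
partition serving all n. -/
theorem result
    (Λ : Type (u + 1)) [CommRing Λ] [IsNoetherianRing Λ] (I : Ideal Λ)
    (X : Scheme.{u}) [IsNoetherian X]
    (F : ARSys.PS (EtModW.Mod Λ X)) (hF : ARSys.IsAdic I F)
    (hc : ∀ n : ℕ, EtModW.IsConstructible Λ (F.obj (op n))) :
    ∃ (m : ℕ) (T : Fin m → Scheme.{u}) (g : ∀ i, T i ⟶ X),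
      (∀ i, IsImmersion (g i)) ∧
      Pairwise (fun i j => Disjoint (Set.range (fun t => (g i).base t)) (Set.range (fun t => (g j).base t))) ∧
      (⋃ i, Set.range (fun t => (g i).base t)) = Set.univ ∧
      ∀ (i : Fin m) (n : ℕ), EtModW.IsFTLocConst Λ ((EtModW.pull Λ (g i)).obj (F.obj (op n))) := by
  classical
  obtain ⟨m, T, g, h₁, h₂, h₃, h₄⟩ := Groth.Agent.EtModEps19.exists_strata hF hc ⊤
  exact ⟨m, T, g, h₁, h₂, h₃, h₄⟩

end Groth.Agent.S13611
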