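import Groth.Statements.S13613
import Groth.Agent.Lib.EtModEps19.ARMod
-- import your own Groth.Agent.* helpers here

set_option autoImplicit false
open CategoryTheory CategoryTheory.Limits AlgebraicGeometry Opposite
universe u
open EtModW

namespace Groth.Agent.S13613

set_option linter.style.haveILetI false
set_option backward.isDefEq.respectTransparency.types false


/-- Let X be a scheme, Λ a Noetherian ring, I an ideal of Λ and F = (F_n) an inverse system of sheaves
of Λ-modules on the small etale site of X which is AR I-adic: I^(n+1) F_n = 0 for all n and F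
receives a morphism with kernel and cokernel null up to translation from an I-adic system of
constructible sheaves. Then for every geometric point s of X the system of stalks (F_n,s)_n is an AR
I-adic system of Λ-modules: I^(n+1) kills F_n,s and it receives a morphism with kernel and cokernel
null up to translation from an I-adic system of finitely generated Λ-modules. (The termwise killing
of F itself is part of the notion of AR I-adic used in this row.) -/
theorem result
    (Λ : Type (u + 1)) [CommRing Λ] [IsNoetherianRing Λ] (I : Ideal Λ) (X : Scheme.{u})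
    (F : ARSys.PS (EtModW.Mod Λ X))
    (hF : (ARSys.TermKilled I F ∧ ∃ (Y : ARSys.PS (EtModW.Mod Λ X)) (v : Y ⟶ F), ARSys.IsAdic I Y ∧ (∀ n : ℕ, EtModW.IsConstructible Λ (Y.obj (op n))) ∧ ARSys.IsARIso v))
    {Ω : Type u} [Field Ω] [IsSepClosed Ω] (s : Spec (CommRingCat.of Ω) ⟶ X) :
    (ARSys.TermKilled I (F ⋙ EtModW.stalk Λ s) ∧ ∃ (Y : ARSys.PS (ModuleCat.{u + 1} Λ)) (v : Y ⟶ F ⋙ EtModW.stalk Λ s), ARSys.IsAdic I Y ∧ (∀ n : ℕ, Module.Finite Λ (Y.obj (op n))) ∧ ARSys.IsARIso v) := by
  classical
  exact Groth.Agent.EtModEps19.stalk_ARC s hF

end Groth.Agent.S13613
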