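import Groth.Statements.S13615
import Groth.Agent.Lib.EtModEps19.ARMod
-- import your own Groth.Agent.* helpers here

set_option autoImplicit false
open CategoryTheory CategoryTheory.Limits AlgebraicGeometry Opposite
universe u
open EtModW

namespace Groth.Agent.S13615

set_option linter.style.haveILetI false
set_option backward.isDefEq.respectTransparency.types false


/-- Let X be a Noetherian scheme, i : A → X a closed immersion and j : U → X an open immersion whose
images are complementary, Λ a Noetherian ring, I an ideal of Λ and F = (F_n) an inverse system of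
constructible sheaves of Λ-modules on the small etale site of X with I^(n+1) F_n = 0 for all n. Then
F is AR I-adic (receives a morphism with kernel and cokernel null up to translation from an I-adic
system of constructible sheaves) if and only if both restricted systems (j^* F_n)_n on U and (i^*
F_n)_n on A are AR I-adic in the same sense. -/
theorem result
    (Λ : Type (u + 1)) [CommRing Λ] [IsNoetherianRing Λ] (I : Ideal Λ)
    {X A U : Scheme.{u}} [IsNoetherian X] (i : A ⟶ X) [IsClosedImmersion i] (j : U ⟶ X) [IsOpenImmersion j]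
    (hAU : Set.range (fun a => i.base a) = (Set.range (fun t => j.base t))ᶜ)
    (F : ARSys.PS (EtModW.Mod Λ X)) (hc : ∀ n : ℕ, EtModW.IsConstructible Λ (F.obj (op n)))
    (hk : ARSys.TermKilled I F) :
    (ARSys.TermKilled I F ∧ ∃ (Y : ARSys.PS (EtModW.Mod Λ X)) (v : Y ⟶ F), ARSys.IsAdic I Y ∧ (∀ n : ℕ, EtModW.IsConstructible Λ (Y.obj (op n))) ∧ ARSys.IsARIso v) ↔
      ((ARSys.TermKilled I (F ⋙ EtModW.pull Λ j) ∧ ∃ (Y : ARSys.PS (EtModW.Mod Λ U)) (v : Y ⟶ (F ⋙ EtModW.pull Λ j)), ARSys.IsAdic I Y ∧ (∀ n : ℕ, EtModW.IsConstructible Λ (Y.obj (op n))) ∧ ARSys.IsARIso v) ∧ (ARSys.TermKilled I (F ⋙ EtModW.pull Λ i) ∧ ∃ (Y : ARSys.PS (EtModW.Mod Λ A)) (v : Y ⟶ (F ⋙ EtModW.pull Λ i)), ARSys.IsAdic I Y ∧ (∀ n : ℕ, EtModW.IsConstructible Λ (Y.obj (op n))) ∧ ARSys.IsARIso v)) := by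
  classical
  refine ⟨fun h => ⟨Groth.Agent.EtModEps19.ARC_pull j h, Groth.Agent.EtModEps19.ARC_pull i h⟩, fun ⟨hU, hA⟩ => ?_⟩
  let T : Bool → Scheme.{u} := fun b => cond b U A
  let g : ∀ b, T b ⟶ X := fun b => match b with
    | true => j
    | false => i
  refine Groth.Agent.EtModEps19.ARC_of_cover g (fun y => ?_) hc hk (fun b => match b with
    | true => hU
    | false => hA)
  by_cases h : y ∈ Set.range (fun t => j.base t)
  · exact ⟨true, h⟩
  · have h' : y ∈ Set.range (fun a => i.base a) := by rw [hAU]; exact h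
    exact ⟨false, h'⟩

end Groth.Agent.S13615
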