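import Groth.Statements.S13619
import Groth.Agent.Lib.EtModEps19.ARMod
import Groth.Agent.Lib.ARSys.AdicNoeth
-- import your own Groth.Agent.* helpers here

set_option autoImplicit false
open CategoryTheory CategoryTheory.Limits AlgebraicGeometry Opposite
universe u
open EtModW

namespace Groth.Agent.S13619

set_option linter.style.haveILetI false
set_option backward.isDefEq.respectTransparency.types false


/-- For a Noetherian scheme X, a Noetherian coefficient ring Λ and an ideal I of Λ, let F be an I-adic
inverse system of constructible sheaves of Λ-modules on the small etale site of X. Then every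
increasing sequence Z_0 ≤ Z_1 ≤ … of subobjects of F in the abelian category of inverse systems, all
of whose underlying systems are AR I-adic (termwise killed by I^(n+1) and receiving a morphism with
null kernel and cokernel from an I-adic system of constructible sheaves), becomes constant up to
translation: there is k₀ such that for every k ≥ k₀ the inclusion of Z_k into Z_(k+1) has kernel and
cokernel null up to translation. (The published statement is for AR-injective maps into an AR I-adic
object; replacing each by the image of a representing morphism of systems and F by an I-adic system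
gives the case of genuine subobjects stated here.) -/
theorem result
    (Λ : Type (u + 1)) [CommRing Λ] [IsNoetherianRing Λ] (I : Ideal Λ)
    {X : Scheme.{u}} [IsNoetherian X]
    (F : ARSys.PS (EtModW.Mod Λ X)) (hF : ARSys.IsAdic I F)
    (hFc : ∀ n : ℕ, EtModW.IsConstructible Λ (F.obj (op n)))
    (Z : ℕ →o Subobject F)
    (hZ : ∀ k : ℕ, (ARSys.TermKilled I (Subobject.underlying.obj (Z k) : ARSys.PS (EtModW.Mod Λ X)) ∧ ∃ (Y : ARSys.PS (EtModW.Mod Λ X)) (v : Y ⟶ (Subobject.underlying.obj (Z k) : ARSys.PS (EtModW.Mod Λ X))), ARSys.IsAdic I Y ∧ (∀ n : ℕ, EtModW.IsConstructible Λ (Y.obj (op n))) ∧ ARSys.IsARIso v)) :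
    ∃ k₀ : ℕ, ∀ k : ℕ, k₀ ≤ k → ARSys.IsARIso (Subobject.ofLE (Z k) (Z (k + 1)) (Z.monotone (Nat.le_succ k))) := by
  classical

  have hFN : ARSys.IsAdicNoeth I F := ⟨hF, fun n => Groth.Agent.EtModEps19.isNoetherianObject_of_isConstructible (hFc n)⟩
  let U : ℕ → ARSys.PS (EtModW.Mod Λ X) := fun k => Subobject.underlying.obj (Z k)
  have hml : ∀ k, ARSys.IsMLAR (U k) := fun k => by
    obtain ⟨-, Y, v, hY, -, hv⟩ := hZ k
    exact (Groth.Agent.S3151.result _).2 ⟨Y, v, Groth.Agent.AR.isAdic_isStrict hY, hv⟩
  choose r Y ι hmono hstrict hAR himg hlift using fun k => Groth.Agent.AR.exists_strict_sub (hml k)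
  haveI := hmono
  let j : ∀ k, Y k ⟶ F := fun k => ι k ≫ (Z k).arrow
  let S : ℕ → Subobject F := fun k => Subobject.mk (j k)
  have hle : ∀ {k l : ℕ}, k ≤ l → ∀ n, imageSubobject ((j k).app (op n)) ≤ imageSubobject ((j l).app (op n)) := by
    intro k l hkl n
    obtain ⟨z, hz⟩ := hlift l n (n + r l) le_rfl
    haveI := hstrict k n (n + r l) (Nat.le_add_right n (r l))
    rw [← Groth.Agent.AR.imageSubobject_comp_epi (ARSys.tr (Y k) (Nat.le_add_right n (r l)))]
    have e : ARSys.tr (Y k) (Nat.le_add_right n (r l)) ≫ (j k).app (op n) =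
        ((ι k).app (op (n + r l)) ≫ (Subobject.ofLE _ _ (Z.monotone hkl)).app (op (n + r l)) ≫ z) ≫ (j l).app (op n) := by
      simp only [j, NatTrans.comp_app, Category.assoc]
      rw [reassoc_of% hz, Groth.Agent.AR.tr_nat_assoc, ← Subobject.ofLE_arrow (Z.monotone hkl), NatTrans.comp_app,
        Groth.Agent.AR.tr_nat_assoc]
    rw [e]
    exact imageSubobject_comp_le _ _
  have hS : Monotone S := fun k l hkl => Groth.Agent.AR.subobject_le_of_image_le fun q => by
    have e : ∀ k, imageSubobject ((S k).arrow.app (op q)) = imageSubobject ((j k).app (op q)) := fun k => by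
      rw [show (S k).arrow = (Subobject.underlyingIso (j k)).hom ≫ j k from (Subobject.underlyingIso_hom_comp_eq_mk _).symm,
        NatTrans.comp_app, imageSubobject_iso_comp]
    rw [e, e]
    exact hle hkl q
  have hSs : ∀ k, ARSys.IsStrict (Subobject.underlying.obj (S k) : ARSys.PS (EtModW.Mod Λ X)) := fun k =>
    Groth.Agent.AR.isStrict_of_epi (Subobject.underlyingIso (j k)).inv (hstrict k)
  obtain ⟨k₀, hk₀⟩ := Groth.Agent.AR.strict_chain_stationary hFN ⟨S, hS⟩ hSs
  refine ⟨k₀, fun k hk => ?_⟩
  have he : Subobject.mk (j k) = Subobject.mk (j (k + 1)) := (hk₀ k hk).trans (hk₀ (k + 1) (by omega)).symm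
  let e := Subobject.isoOfMkEqMk (j k) (j (k + 1)) he
  refine Groth.Agent.EtModEps19.ARX.isARIso_of_comp_left (hAR k) ?_
  have hc : ι k ≫ Subobject.ofLE (Z k) (Z (k + 1)) (Z.monotone (Nat.le_succ k)) = e.hom ≫ ι (k + 1) := by
    rw [← cancel_mono (Z (k + 1)).arrow, Category.assoc, Subobject.ofLE_arrow, Category.assoc]
    exact (Subobject.ofMkLEMk_comp _).symm
  rw [hc]
  exact Groth.Agent.AR.isARIso_comp ((Groth.Agent.AR.isARIso_iff _).2 (Groth.Agent.AR.hasPInv_iso _)) (hAR (k + 1))

end Groth.Agent.S13619
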