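import Groth.Statements.S1362
import Groth.Agent.Lib.ConsTop3.Basic
import Groth.Agent.Lib.VarDim.Alg
import Groth.Agent.Lib.SchDom.FlatNZD
import Mathlib

set_option autoImplicit false
universe u
open FlatMor

namespace Groth.Agent.S1362


section Aux
open TensorProduct Topology

variable {R S : Type u} [CommRing R] [CommRing S] [Algebra R S]

theorem exists_clear {m : ℕ} (p : Ideal R) [p.IsPrime] (h : MvPolynomial (Fin m) p.ResidueField) :
    ∃ r : R, r ∉ p ∧ ∃ g : MvPolynomial (Fin m) R,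
      MvPolynomial.map (algebraMap R p.ResidueField) g = MvPolynomial.C (algebraMap R p.ResidueField r) * h := by
  induction h using MvPolynomial.induction_on with
  | C c =>
    obtain ⟨a, ⟨s, hs⟩, rfl⟩ := IsLocalization.exists_mk'_eq (nonZeroDivisors (R ⧸ p)) c
    obtain ⟨a, rfl⟩ := Ideal.Quotient.mk_surjective a
    obtain ⟨s, rfl⟩ := Ideal.Quotient.mk_surjective s
    refine ⟨s, fun h => ?_, MvPolynomial.C a, ?_⟩
    · exact (mem_nonZeroDivisors_iff_ne_zero.1 hs) (Ideal.Quotient.eq_zero_iff_mem.2 h)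
    · rw [MvPolynomial.map_C, ← map_mul, IsScalarTower.algebraMap_apply R (R ⧸ p) p.ResidueField,
        IsScalarTower.algebraMap_apply R (R ⧸ p) p.ResidueField]
      congr 1
      exact ((IsLocalization.mk'_spec' _ _ _)).symm
  | add f g hf hg =>
    obtain ⟨r, hr, f', hf'⟩ := hf
    obtain ⟨s, hs, g', hg'⟩ := hg
    refine ⟨r * s, fun h => ((‹p.IsPrime›).mem_or_mem h).elim hr hs,
      MvPolynomial.C s * f' + MvPolynomial.C r * g', ?_⟩
    simp only [map_add, map_mul, MvPolynomial.map_C, hf', hg']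
    ring
  | mul_X f i hf =>
    obtain ⟨r, hr, f', hf'⟩ := hf
    exact ⟨r, hr, f' * MvPolynomial.X i, by rw [map_mul, MvPolynomial.map_X, hf', mul_assoc]⟩

/-- Over a prime whose fibre has small dimension some polynomial nonzero mod `p` dies on the fibre. -/
theorem exists_dying [Algebra.FiniteType R S] {m d : ℕ} (hdm : d < m) (p : Ideal R) [p.IsPrime]
    (hd : ringKrullDim (p.Fiber S) ≤ (d : WithBot ℕ∞)) (φ : MvPolynomial (Fin m) R →ₐ[R] S) :
    ∃ (f : MvPolynomial (Fin m) R) (k : ℕ) (r : R), (∃ v, f.coeff v ∉ p) ∧ r ∉ p ∧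
      r • φ (f ^ k) ∈ p • (⊤ : Submodule R S) := by
  by_contra hne
  push Not at hne
  let K := p.ResidueField
  let F := p.Fiber S
  have hinjR : ∀ f : MvPolynomial (Fin m) R, (∃ v, f.coeff v ∉ p) →
      ¬ IsNilpotent ((1 : K) ⊗ₜ[R] φ f : F) := by
    rintro f ⟨v, hv⟩ ⟨k, hk⟩
    rw [Algebra.TensorProduct.tmul_pow, one_pow, ← map_pow] at hk
    obtain ⟨r, hr, hrm⟩ := Groth.Agent.SchDom.exists_smul_mem_of_one_tmul_eq_zero p _ hk
    exact hne f k r ⟨v, hv⟩ hr hrm
  let Φ : MvPolynomial (Fin m) K →ₐ[K] F := MvPolynomial.aeval fun i => (1 : K) ⊗ₜ[R] φ (MvPolynomial.X i)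
  have hΦ : ∀ g : MvPolynomial (Fin m) R,
      Φ (MvPolynomial.map (algebraMap R K) g) = (1 : K) ⊗ₜ[R] φ g := by
    intro g
    have : Φ.toRingHom.comp (MvPolynomial.map (algebraMap R K)) =
        (Algebra.TensorProduct.includeRight : S →ₐ[R] F).toRingHom.comp φ.toRingHom := by
      refine MvPolynomial.ringHom_ext (fun c => ?_) (fun i => ?_)
      · simp only [RingHom.comp_apply, AlgHom.toRingHom_eq_coe, RingHom.coe_coe, MvPolynomial.map_C, Φ,
          MvPolynomial.aeval_C]
        rw [← MvPolynomial.algebraMap_eq, φ.commutes, AlgHom.commutes]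
        exact (IsScalarTower.algebraMap_apply R K F c).symm
      · simp [Φ]
    exact RingHom.congr_fun this g
  have hinj : ∀ h : MvPolynomial (Fin m) K, h ≠ 0 → ¬ IsNilpotent (Φ h) := by
    intro h hh hnil
    obtain ⟨r, hr, g, hg⟩ := exists_clear p h
    have hr0 : algebraMap R K r ≠ 0 := fun h0 => hr (Ideal.algebraMap_residueField_eq_zero.1 h0)
    have hg0 : MvPolynomial.map (algebraMap R K) g ≠ 0 := by
      rw [hg]; exact mul_ne_zero (fun h0 => hr0 (MvPolynomial.C_eq_zero.1 h0)) hh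
    obtain ⟨v, hv⟩ := MvPolynomial.ne_zero_iff.1 hg0
    rw [MvPolynomial.coeff_map] at hv
    refine hinjR g ⟨v, fun h0 => hv (Ideal.algebraMap_residueField_eq_zero.2 h0)⟩ ?_
    rw [← hΦ, hg, map_mul]
    exact (Commute.all _ _).isNilpotent_mul_left hnil
  have hdis : Disjoint ((⊥ : Ideal F) : Set F)
      (Submonoid.map Φ (nonZeroDivisors (MvPolynomial (Fin m) K)) : Set F) := by
    rw [Set.disjoint_left]
    intro z hz hz'
    obtain ⟨h, hh, rfl⟩ := hz'
    exact hinj h (nonZeroDivisors.ne_zero hh) ⟨1, by rw [pow_one]; exact (Submodule.mem_bot _).1 hz⟩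
  obtain ⟨Q, hQ, -, hQd⟩ := Ideal.exists_le_prime_disjoint _ _ hdis
  haveI := hQ
  have hind : AlgebraicIndependent K fun i => Ideal.Quotient.mkₐ K Q ((1 : K) ⊗ₜ[R] φ (MvPolynomial.X i)) := by
    rw [algebraicIndependent_iff]
    intro h h0
    by_contra hh
    refine Set.disjoint_left.1 hQd ?_ ⟨h, mem_nonZeroDivisors_of_ne_zero hh, rfl⟩
    rw [SetLike.mem_coe, ← Ideal.Quotient.eq_zero_iff_mem]
    rw [← h0]
    have : ∀ g : MvPolynomial (Fin m) K, Ideal.Quotient.mk Q (Φ g) = MvPolynomial.aeval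
        (fun i => Ideal.Quotient.mkₐ K Q ((1 : K) ⊗ₜ[R] φ (MvPolynomial.X i))) g := by
      intro g
      induction g using MvPolynomial.induction_on with
      | C a => rw [MvPolynomial.aeval_C, MvPolynomial.aeval_C]; rfl
      | add a b ha hb => rw [map_add, map_add, map_add, ha, hb]
      | mul_X a i ha => rw [map_mul, map_mul, map_mul, ha, MvPolynomial.aeval_X, MvPolynomial.aeval_X]; rfl
    exact this h
  have h1 := hind.lift_cardinalMk_le_trdeg
  rw [Groth.Agent.VarDim.trdeg_eq_tdeg K (F ⧸ Q), Cardinal.mk_fin, Cardinal.lift_natCast,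
    Cardinal.lift_natCast] at h1
  have h2 : m ≤ Groth.Agent.VarDim.tdeg K (F ⧸ Q) := by exact_mod_cast h1
  have h3 := (ringKrullDim_quotient_le Q).trans hd
  rw [Groth.Agent.VarDim.ringKrullDim_eq_tdeg K (F ⧸ Q)] at h3
  have h4 : Groth.Agent.VarDim.tdeg K (F ⧸ Q) ≤ d := by exact_mod_cast h3
  omega

theorem isConstructible_D (r : R) (s : Finset R) :
    Topology.IsConstructible
      {q : PrimeSpectrum R | r ∉ q.asIdeal ∧ (s : Set R) ⊆ q.asIdeal} := by
  classical
  induction s using Finset.induction_on with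
  | empty =>
    convert PrimeSpectrum.isConstructible_basicOpen (R := R) (f := r) using 1
    ext q
    simp
  | insert a s ha ih =>
    convert ih.inter (PrimeSpectrum.isConstructible_basicOpen (R := R) (f := a)).compl using 1
    ext q
    rw [Set.mem_inter_iff, Set.mem_compl_iff, SetLike.mem_coe, PrimeSpectrum.mem_basicOpen, not_not]
    simp only [Set.mem_ofPred_eq, Finset.coe_insert, Set.insert_subset_iff, SetLike.mem_coe]
    exact ⟨fun h => ⟨⟨h.1, h.2.2⟩, h.2.1⟩, fun h => ⟨h.1.1, h.2, h.1.2⟩⟩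

/-- Uniform bound: a finite set of polynomials detecting all fibres. -/
theorem exists_bound [Algebra.FiniteType R S] {m d : ℕ} (hdm : d < m)
    (hd : ∀ p : PrimeSpectrum R, ringKrullDim (p.asIdeal.Fiber S) ≤ (d : WithBot ℕ∞))
    (φ : MvPolynomial (Fin m) R →ₐ[R] S) :
    ∃ N : ℕ, ∀ q : PrimeSpectrum R, ∃ f : MvPolynomial (Fin m) R, f.totalDegree < N ∧
      (∃ v, f.coeff v ∉ q.asIdeal) ∧
      ∀ Q : Ideal S, Q.IsPrime → Q.comap (algebraMap R S) = q.asIdeal → φ f ∈ Q := by
  classical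
  have key : ∀ p : PrimeSpectrum R, ∃ (f : MvPolynomial (Fin m) R) (U : Set (PrimeSpectrum R)),
      Topology.IsConstructible U ∧ p ∈ U ∧ ∀ q ∈ U, (∃ v, f.coeff v ∉ q.asIdeal) ∧
        ∀ Q : Ideal S, Q.IsPrime → Q.comap (algebraMap R S) = q.asIdeal → φ f ∈ Q := by
    intro p
    obtain ⟨f, k, r, ⟨v, hv⟩, hr, hmem⟩ := exists_dying hdm p.asIdeal (hd p) φ
    obtain ⟨s, hsp, hs⟩ : ∃ s : Finset R, (s : Set R) ⊆ p.asIdeal ∧
        r • φ (f ^ k) ∈ Ideal.span (s : Set R) • (⊤ : Submodule R S) := by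
      refine Submodule.smul_induction_on hmem (fun a ha x _ => ⟨{a}, by simpa using ha,
        Submodule.smul_mem_smul (Ideal.subset_span (by simp)) trivial⟩) ?_
      rintro x y ⟨s, hs, hx⟩ ⟨t, ht, hy⟩
      refine ⟨s ∪ t, by rw [Finset.coe_union]; exact Set.union_subset hs ht, add_mem ?_ ?_⟩
      · exact Submodule.smul_mono (Ideal.span_mono (by simp)) le_rfl hx
      · exact Submodule.smul_mono (Ideal.span_mono (by simp)) le_rfl hy
    refine ⟨f, _, isConstructible_D (r * f.coeff v) s,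
      ⟨fun h => (p.isPrime.mem_or_mem h).elim hr hv, hsp⟩, fun q hq => ⟨⟨v, fun h => hq.1 (Ideal.mul_mem_left _ _ h)⟩, ?_⟩⟩
    intro Q hQ hQq
    have h1 : r • φ (f ^ k) ∈ Q := by
      refine Submodule.smul_induction_on hs (fun a ha x _ => ?_) fun _ _ => add_mem
      rw [Algebra.smul_def]
      have : a ∈ Q.comap (algebraMap R S) := by
        rw [hQq]; exact Ideal.span_le.2 hq.2 ha
      exact Q.mul_mem_right x this
    rw [Algebra.smul_def, map_pow] at h1
    rcases hQ.mem_or_mem h1 with h2 | h2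
    · exact absurd (Ideal.mul_mem_right (f.coeff v) _ ((Set.ext_iff.1 (congrArg SetLike.coe hQq) r).1 h2)) hq.1
    · exact hQ.mem_of_pow_mem k h2
  choose f U hU hpU hUq using key
  have hop : ∀ p, IsOpen[constructibleTopology (PrimeSpectrum R)] (U p) :=
    fun p => Groth.Agent.ConsTop3.isOpen_of_isConstructible (hU p)
  have hc := Groth.Agent.ConsTop3.compactSpace_top (X := PrimeSpectrum R)
  obtain ⟨t, ht⟩ := @IsCompact.elim_finite_subcover (PrimeSpectrum R) (constructibleTopology (PrimeSpectrum R))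
    Set.univ _ (@CompactSpace.isCompact_univ _ (constructibleTopology (PrimeSpectrum R)) hc) U hop
    (fun q _ => Set.mem_iUnion.2 ⟨q, hpU q⟩)
  refine ⟨t.sup (fun p => (f p).totalDegree) + 1, fun q => ?_⟩
  obtain ⟨p, hp, hqp⟩ := Set.mem_iUnion₂.1 (ht (Set.mem_univ q))
  exact ⟨f p, Nat.lt_succ_of_le (Finset.le_sup (f := fun p => (f p).totalDegree) hp), hUq p q hqp⟩

/-- Nagata substitution, evaluated. -/
noncomputable def nag {B : Type u} [CommRing B] (n N : ℕ) (b : R →+* B) (y : Fin n → B) :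
    MvPolynomial (Fin (n + 1)) R →+* Polynomial B :=
  MvPolynomial.eval₂Hom (Polynomial.C.comp b)
    (Fin.cons Polynomial.X fun j => Polynomial.C (y j) + Polynomial.X ^ N ^ (j.1 + 1))

theorem nag_ne_zero {K : Type u} [Field K] (n N : ℕ) (b : R →+* K) (y : Fin n → K)
    (f : MvPolynomial (Fin (n + 1)) R) (hN : f.totalDegree < N) (v : Fin (n + 1) →₀ ℕ)
    (hv : b (f.coeff v) ≠ 0) : nag n N b y f ≠ 0 := by
  classical
  let M : (Fin (n + 1) →₀ ℕ) → Polynomial K := fun w =>
    Polynomial.X ^ w 0 * ∏ j : Fin n, (Polynomial.C (y j) + Polynomial.X ^ N ^ (j.1 + 1)) ^ w j.succ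
  let wt : (Fin (n + 1) →₀ ℕ) → ℕ := fun w => ∑ i, w i * N ^ (i : ℕ)
  have hmon : ∀ j : Fin n, (Polynomial.C (y j) + Polynomial.X ^ N ^ (j.1 + 1)).Monic := fun j => by
    rw [add_comm]; exact Polynomial.monic_X_pow_add_C _ (pow_ne_zero _ (by omega))
  have hM : ∀ w, (M w).Monic ∧ (M w).natDegree = wt w := fun w => by
    have hp : (∏ j : Fin n, (Polynomial.C (y j) + Polynomial.X ^ N ^ (j.1 + 1)) ^ w j.succ).Monic :=
      Polynomial.monic_prod_of_monic _ _ fun j _ => (hmon j).pow _
    refine ⟨(Polynomial.monic_X_pow _).mul hp, ?_⟩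
    rw [(Polynomial.monic_X_pow _).natDegree_mul hp,
      Polynomial.natDegree_prod_of_monic _ _ fun j _ => (hmon j).pow _, Polynomial.natDegree_X_pow]
    simp only [wt, Fin.sum_univ_succ, Fin.val_zero, pow_zero, mul_one, Fin.val_succ]
    congr 1
    refine Finset.sum_congr rfl fun j _ => ?_
    rw [(hmon j).natDegree_pow, add_comm (Polynomial.C (y j)), Polynomial.natDegree_X_pow_add_C]
  have hf : nag n N b y f = ∑ w ∈ f.support, Polynomial.C (b (f.coeff w)) * M w := by
    conv_lhs => rw [f.as_sum]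
    rw [map_sum]
    refine Finset.sum_congr rfl fun w _ => ?_
    rw [nag, MvPolynomial.eval₂Hom_monomial, Finsupp.prod_fintype _ _ (fun i => pow_zero _),
      Fin.prod_univ_succ]
    simp [M]
  let T := f.support.filter fun w => b (f.coeff w) ≠ 0
  have hT : T.Nonempty := ⟨v, Finset.mem_filter.2
    ⟨MvPolynomial.mem_support_iff.2 fun h => hv (by rw [h, map_zero]), hv⟩⟩
  obtain ⟨w₀, hw₀, hmax⟩ := Finset.exists_max_image T wt hT
  obtain ⟨hw₀s, hw₀c⟩ := Finset.mem_filter.1 hw₀
  have hwinj : ∀ w ∈ f.support, ∀ w' ∈ f.support, wt w = wt w' → w = w' := by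
    intro w hw w' hw' h
    have hlt : ∀ w ∈ f.support, ∀ i, w i < N := fun w hw i =>
      ((MvPolynomial.monomial_le_degreeOf i hw).trans (MvPolynomial.degreeOf_le_totalDegree f i)).trans_lt hN
    have h2 : (fun i => (⟨w i, hlt w hw i⟩ : Fin N)) = fun i => ⟨w' i, hlt w' hw' i⟩ := by
      apply finFunctionFinEquiv.injective
      apply Fin.ext
      rw [finFunctionFinEquiv_apply, finFunctionFinEquiv_apply]
      exact h
    exact Finsupp.ext fun i => congrArg Fin.val (congrFun h2 i)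
  intro h0
  have h1 := congrArg (fun P => Polynomial.coeff P (wt w₀)) (hf.symm.trans h0)
  simp only [Polynomial.finsetSum_coeff, Polynomial.coeff_C_mul, Polynomial.coeff_zero] at h1
  rw [Finset.sum_eq_single w₀] at h1
  · rw [← (hM w₀).2, Polynomial.Monic.coeff_natDegree (hM w₀).1, mul_one] at h1
    exact hw₀c h1
  · intro w hw hne
    by_cases hc : b (f.coeff w) = 0
    · rw [hc, zero_mul]
    · rw [Polynomial.coeff_eq_zero_of_natDegree_lt, mul_zero]
      rw [(hM w).2]
      exact lt_of_le_of_ne (hmax w (Finset.mem_filter.2 ⟨hw, hc⟩))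
        fun he => hne (hwinj w hw w₀ hw₀s he)
  · exact fun hn => absurd hw₀s hn

theorem step [Algebra.FiniteType R S] {n d : ℕ} (hdn : d < n + 1)
    (hd : ∀ p : PrimeSpectrum R, ringKrullDim (p.asIdeal.Fiber S) ≤ (d : WithBot ℕ∞))
    (φ : MvPolynomial (Fin (n + 1)) R →ₐ[R] S)
    (hφ : ∀ P, (PrimeSpectrum.comap φ.toRingHom ⁻¹' {P}).Finite) :
    ∃ ψ : MvPolynomial (Fin n) R →ₐ[R] S, ∀ P, (PrimeSpectrum.comap ψ.toRingHom ⁻¹' {P}).Finite := by
  classical
  obtain ⟨N, hN⟩ := exists_bound hdn hd φ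
  let ψ : MvPolynomial (Fin n) R →ₐ[R] S := MvPolynomial.aeval fun j =>
    φ (MvPolynomial.X j.succ) - φ (MvPolynomial.X 0) ^ N ^ (j.1 + 1)
  refine ⟨ψ, fun P => ?_⟩
  let q : PrimeSpectrum R := PrimeSpectrum.comap (algebraMap R (MvPolynomial (Fin n) R)) P
  obtain ⟨f, hfN, ⟨v, hv⟩, hfQ⟩ := hN q
  let K := P.asIdeal.ResidueField
  let ι : MvPolynomial (Fin n) R →+* K := algebraMap _ K
  let b : R →+* K := ι.comp (algebraMap R (MvPolynomial (Fin n) R))
  let g : Polynomial K := nag n N b (fun j => ι (MvPolynomial.X j)) f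
  have hg : g ≠ 0 := nag_ne_zero n N b _ f hfN v fun h => hv (show algebraMap R _ (f.coeff v) ∈ P.asIdeal from Ideal.algebraMap_residueField_eq_zero.1 h)
  let Kb := AlgebraicClosure K
  have hkey : ∀ Q : PrimeSpectrum S, PrimeSpectrum.comap ψ.toRingHom Q = P →
      ∃ r : Kb, r ∈ (g.map (algebraMap K Kb)).roots ∧
        (PrimeSpectrum.comap φ.toRingHom Q).asIdeal =
          RingHom.ker (((Polynomial.eval₂RingHom (algebraMap K Kb) r)).comp
            (nag n N b (fun j => ι (MvPolynomial.X j)))) := by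
    intro Q hQ
    let L := Q.asIdeal.ResidueField
    let j : K →+* L := Ideal.ResidueField.map P.asIdeal Q.asIdeal ψ.toRingHom
      (congrArg PrimeSpectrum.asIdeal hQ).symm
    letI : Algebra K L := j.toAlgebra
    let π : S →+* L := algebraMap S L
    have hjι : ∀ x, j (ι x) = π (ψ x) := fun x =>
      Ideal.ResidueField.map_algebraMap _ _ _ _ x
    let x : L := π (φ (MvPolynomial.X 0))
    have hev : ∀ h, Polynomial.aeval x (nag n N b (fun j => ι (MvPolynomial.X j)) h) = π (φ h) := by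
      intro h
      have : ((Polynomial.aeval x : Polynomial K →ₐ[K] L) : Polynomial K →+* L).comp
          (nag n N b (fun j => ι (MvPolynomial.X j))) = π.comp φ.toRingHom := by
        refine MvPolynomial.ringHom_ext (fun c => ?_) (fun i => ?_)
        · simp only [RingHom.comp_apply, nag, MvPolynomial.eval₂Hom_C, RingHom.coe_coe,
            Polynomial.aeval_C, AlgHom.toRingHom_eq_coe]
          show j (ι _) = _
          rw [hjι, AlgHom.commutes, ← MvPolynomial.algebraMap_eq, AlgHom.commutes]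
        · simp only [RingHom.comp_apply, nag, MvPolynomial.eval₂Hom_X', RingHom.coe_coe,
            AlgHom.toRingHom_eq_coe]
          refine Fin.cases ?_ (fun k => ?_) i
          · simp [x]
          · simp only [Fin.cons_succ, map_add, map_pow, Polynomial.aeval_C, Polynomial.aeval_X]
            show j (ι _) + _ = _
            rw [hjι]
            simp [ψ, x]
      exact RingHom.congr_fun this h
    have hroot : Polynomial.aeval x g = 0 := by
      rw [hev]
      refine Ideal.algebraMap_residueField_eq_zero.2 (hfQ Q.asIdeal Q.isPrime ?_)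
      show Q.asIdeal.comap (algebraMap R S) = P.asIdeal.comap (algebraMap R _)
      rw [← hQ]
      ext c
      simp
    have hint : IsIntegral K x := (isAlgebraic_iff_isIntegral).1 ⟨g, hg, hroot⟩
    obtain ⟨r, hr⟩ := IsAlgClosed.exists_aeval_eq_zero Kb (minpoly K x) (minpoly.degree_pos hint).ne'
    have hmr : minpoly K r = minpoly K x := (minpoly.eq_of_irreducible_of_monic
      (minpoly.irreducible hint) hr (minpoly.monic hint)).symm
    refine ⟨r, ?_, ?_⟩
    · rw [Polynomial.mem_roots (Polynomial.map_ne_zero hg), Polynomial.IsRoot, Polynomial.eval_map,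
        ← Polynomial.aeval_def]
      obtain ⟨c, hc⟩ := minpoly.dvd K x hroot
      rw [hc, map_mul, hr, zero_mul]
    · ext h
      show φ h ∈ Q.asIdeal ↔ Polynomial.eval₂ (algebraMap K Kb) r _ = 0
      rw [← Polynomial.aeval_def, ← minpoly.dvd_iff, hmr, minpoly.dvd_iff, hev]
      exact Ideal.algebraMap_residueField_eq_zero.symm
  let Z : Set (PrimeSpectrum (MvPolynomial (Fin (n + 1)) R)) :=
    (fun r => (⟨RingHom.ker (((Polynomial.eval₂RingHom (algebraMap K Kb) r)).comp
        (nag n N b (fun j => ι (MvPolynomial.X j)))), RingHom.ker_isPrime _⟩ : PrimeSpectrum _)) ''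
      {r | r ∈ (g.map (algebraMap K Kb)).roots}
  have hZ : Z.Finite := ((g.map (algebraMap K Kb)).roots.toFinset.finite_toSet.subset
    fun r hr => Multiset.mem_toFinset.2 hr).image _
  refine (hZ.biUnion fun P' _ => hφ P').subset fun Q hQ => ?_
  obtain ⟨r, hr, hker⟩ := hkey Q hQ
  exact Set.mem_biUnion ⟨r, hr, rfl⟩ (PrimeSpectrum.ext hker)

theorem descend [Algebra.FiniteType R S] {d : ℕ}
    (hd : ∀ p : PrimeSpectrum R, ringKrullDim (p.asIdeal.Fiber S) ≤ (d : WithBot ℕ∞)) :
    ∀ (k : ℕ) (φ : MvPolynomial (Fin (d + k)) R →ₐ[R] S),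
      (∀ P, (PrimeSpectrum.comap φ.toRingHom ⁻¹' {P}).Finite) →
      ∃ ψ : MvPolynomial (Fin d) R →ₐ[R] S, ∀ P, (PrimeSpectrum.comap ψ.toRingHom ⁻¹' {P}).Finite
  | 0, φ, h => ⟨φ, h⟩
  | k + 1, φ, h => by
    obtain ⟨ψ, hψ⟩ := step (n := d + k) (by omega) hd φ h
    exact descend hd k ψ hψ

theorem main [Algebra.FiniteType R S] (d : ℕ)
    (hd : ⨆ p : PrimeSpectrum R, ringKrullDim (p.asIdeal.Fiber S) = (d : WithBot ℕ∞)) :
    ∃ φ : MvPolynomial (Fin d) R →ₐ[R] S, φ.toRingHom.QuasiFinite := by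
  obtain ⟨n, π, hπ⟩ := Algebra.FiniteType.iff_quotient_mvPolynomial''.1 ‹Algebra.FiniteType R S›
  let e : Fin (d + n) → MvPolynomial (Fin n) R :=
    Fin.append (fun _ => 0) (fun i => MvPolynomial.X i)
  let φ : MvPolynomial (Fin (d + n)) R →ₐ[R] S := π.comp (MvPolynomial.aeval e)
  have hs : Function.Surjective φ := by
    refine hπ.comp fun h => ⟨MvPolynomial.rename (Fin.natAdd d) h, ?_⟩
    show MvPolynomial.aeval e (MvPolynomial.rename (Fin.natAdd d) h) = h
    rw [MvPolynomial.aeval_rename]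
    have : e ∘ Fin.natAdd d = MvPolynomial.X := funext fun i => Fin.append_right _ _ i
    rw [this, MvPolynomial.aeval_X_left_apply]
  obtain ⟨ψ, hψ⟩ := descend
    (fun p => le_iSup (fun p : PrimeSpectrum R => ringKrullDim (p.asIdeal.Fiber S)) p |>.trans hd.le) n φ
    (fun P => (Set.finite_singleton P).preimage
      ((PrimeSpectrum.comap_injective_of_surjective φ.toRingHom hs).injOn))
  refine ⟨ψ, ?_⟩
  letI := ψ.toRingHom.toAlgebra
  haveI : IsScalarTower R (MvPolynomial (Fin d) R) S := IsScalarTower.of_algHom ψ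
  haveI : Algebra.FiniteType (MvPolynomial (Fin d) R) S :=
    Algebra.FiniteType.of_restrictScalars_finiteType R _ _
  exact Algebra.QuasiFinite.iff_finite_comap_preimage_singleton.2 hψ

end Aux



/-- For a finite type ring map R → S whose fibre rings have dimensions with maximum exactly d: there is
an R-algebra map from the polynomial ring R[t_1, ..., t_d] to S which is quasi-finite (here: every
fibre ring is finite over the residue field; S is of finite type over the polynomial ring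
automatically). -/
theorem result {R S : Type u} [CommRing R] [CommRing S] [Algebra R S] [Algebra.FiniteType R S] (d : ℕ)
    (hd : ⨆ p : PrimeSpectrum R, ringKrullDim (p.asIdeal.Fiber S) = (d : WithBot ℕ∞)) :
    ∃ φ : MvPolynomial (Fin d) R →ₐ[R] S, φ.toRingHom.QuasiFinite := by
  exact main d hd

end Groth.Agent.S1362
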