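import Groth.Statements.S13620
import Groth.Agent.Lib.EtModEps19.ARMod
import Groth.Agent.S13621
import Mathlib.CategoryTheory.Limits.ConcreteCategory.Basic
import Mathlib.Algebra.Category.ModuleCat.EpiMono
-- import your own Groth.Agent.* helpers here

set_option autoImplicit false
open CategoryTheory CategoryTheory.Limits AlgebraicGeometry Opposite
universe u
open EtModW

namespace Groth.Agent.S13620

set_option linter.style.haveILetI false
set_option backward.isDefEq.respectTransparency.types false


/-- For a Noetherian scheme X, a Noetherian coefficient ring Λ and an ideal I of Λ, let F = (F_n) be an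
inverse system of sheaves of Λ-modules on the small etale site of X which is AR I-adic (I^(n+1) F_n
= 0 for all n, and F receives a morphism with kernel and cokernel null up to translation from an
I-adic system of constructible sheaves). Then F is null up to translation if and only if for every
geometric point x of X the limit of the stalk system, lim_n F_n,x, is the zero module. (The
published lemma assumes Λ I-adically complete, which only its first assertion uses; this row states
the second assertion without it.) -/
theorem result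
    (Λ : Type (u + 1)) [CommRing Λ] [IsNoetherianRing Λ] (I : Ideal Λ)
    {X : Scheme.{u}} [IsNoetherian X]
    (F : ARSys.PS (EtModW.Mod Λ X))
    (hF : (ARSys.TermKilled I F ∧ ∃ (Y : ARSys.PS (EtModW.Mod Λ X)) (v : Y ⟶ F), ARSys.IsAdic I Y ∧ (∀ n : ℕ, EtModW.IsConstructible Λ (Y.obj (op n))) ∧ ARSys.IsARIso v)) :
    ARSys.IsARNull F ↔
      ∀ (Ω : Type u) [Field Ω] [IsSepClosed Ω] (x : Spec (CommRingCat.of Ω) ⟶ X),
        IsZero (limit (F ⋙ EtModW.stalk Λ x)) := by
  classical
  refine ⟨fun ⟨r, hr⟩ Ω _ _ x => ?_, fun h => ?_⟩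
  · rw [IsZero.iff_id_eq_zero]
    refine limit.hom_ext fun a => ?_
    obtain ⟨n⟩ := a
    rw [Category.id_comp, zero_comp, ← limit.w (F ⋙ EtModW.stalk Λ x) (homOfLE (Nat.le_add_right n r)).op]
    show _ ≫ (EtModW.stalk Λ x).map (ARSys.shiftMap F r n) = 0
    rw [hr n, Functor.map_zero, comp_zero]
  · obtain ⟨-, Y, v, hY, -, hv⟩ := hF
    have hz : ∀ x : X, (EtModW.stalk Λ (EtStalk.geomPt X x)).map (𝟙 (Y.obj (op 0))) = 0 := fun x => by
      let E := EtModW.stalk Λ (EtStalk.geomPt X x)
      haveI := Groth.Agent.S13621.result _ (Groth.Agent.EtModEps19.ARX.isARIso_map E hv)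
      haveI : Subsingleton (limit (Y ⋙ E) : ModuleCat.{u + 1} Λ) :=
        ModuleCat.subsingleton_of_isZero ((h _ (EtStalk.geomPt X x)).of_iso (asIso (limMap (Functor.whiskerRight v E))))
      have hs : ∀ n : ℕ, Function.Surjective ((Y ⋙ E).map (homOfLE (Nat.le_succ n)).op) := fun n => by
        haveI := Groth.Agent.AR.isAdic_epi hY (Nat.le_succ n)
        exact (ModuleCat.epi_iff_surjective _).1 (inferInstanceAs (Epi (E.map (ARSys.tr Y (Nat.le_succ n)))))
      have hsurj := Limits.Concrete.surjective_π_app_zero_of_surjective_map (limit.isLimit (Y ⋙ E)) hs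
      ext a
      obtain ⟨z, hz⟩ := hsurj a
      show (E.map (𝟙 _)).hom a = 0
      have hz0 : z = 0 := Subsingleton.elim (α := (limit (Y ⋙ E) : ModuleCat.{u + 1} Λ)) z 0
      rw [← hz, hz0, map_zero, map_zero]
    have h0 : 𝟙 (Y.obj (op 0)) = 0 := Groth.Agent.EtModEps19.hom_eq_zero_of_stalk _ hz
    have key : ∀ (j m : ℕ) (T : EtModW.Mod Λ X) (φ : Y.obj (op m) ⟶ T),
        ARSys.HomKilledBy (I ^ j) φ → φ = 0 := by
      intro j
      induction j with
      | zero =>
        intro m T φ hφ
        have := hφ 1 (by simp)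
        rwa [one_smul] at this
      | succ j ih =>
        intro m T φ hφ
        have h1 : ARSys.HomKilledBy (I ^ (0 + 1)) φ := fun a ha => by
          refine ih m T (a • φ) fun b hb => ?_
          rw [smul_smul]
          refine hφ _ ?_
          rw [pow_succ]
          rw [zero_add, pow_one] at ha
          exact Ideal.mul_mem_mul hb ha
        rw [← Groth.Agent.AR.quotDesc_fac (hY.2 0 m (Nat.zero_le m)) φ h1]
        rw [← Category.id_comp (Groth.Agent.AR.quotDesc _ _ h1), h0, zero_comp, comp_zero]
    obtain ⟨r, ⟨p⟩⟩ := (Groth.Agent.AR.isARIso_iff v).1 hv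
    refine ⟨r, fun n => ?_⟩
    show ARSys.tr F (Nat.le_add_right n r) = 0
    have hY0 : 𝟙 (Y.obj (op n)) = 0 := key (n + 1) n _ _ (fun a ha => (hY.1 n) a ha)
    rw [← p.w_u (show n + r ≤ n + r from le_rfl), ← Category.id_comp (v.app (op n)), hY0, zero_comp, comp_zero]

end Groth.Agent.S13620
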