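import Groth.Statements.S13622
import Mathlib

set_option autoImplicit false
universe u v
open CAlg

namespace Groth.Agent.S13622
open CAlg

theorem smul_span {A : Type u} [CommRing A] {M : Type v} [AddCommGroup M] [Module A M] {k : ℕ} (e : Fin k → M)
    (J : Ideal A) {m : M} (hm : m ∈ J • Submodule.span A (Set.range e)) :
    ∃ b : Fin k → A, (∀ j, b j ∈ J) ∧ ∑ j, b j • e j = m := by
  refine Submodule.smul_induction_on hm (fun a ha y hy => ?_) fun x y hx hy => ?_
  · obtain ⟨c, rfl⟩ := (Submodule.mem_span_range_iff_exists_fun A).1 hy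
    exact ⟨fun j => a * c j, fun j => Ideal.mul_mem_right _ _ ha, by simp [Finset.smul_sum, smul_smul]⟩
  · obtain ⟨b, hb, rfl⟩ := hx
    obtain ⟨c, hc, rfl⟩ := hy
    exact ⟨b + c, fun j => add_mem (hb j) (hc j), by simp [add_smul, Finset.sum_add_distrib]⟩

/-- Let A be a commutative ring, I a finitely generated ideal and (M_n) an inverse system of finitely
generated A-modules whose transition maps f_n : M_(n+1) → M_n are surjective with kernel I^(n+1)
M_(n+1), and with I^(n+1) M_n = 0 for all n. If L is an inverse limit of the system (projections π_n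
compatible with the f_n, jointly injective, every compatible family lifting to L), endowed with a
module structure over the I-adic completion A^ of A that is compatible with its A-module structure,
then L is finitely generated as an A^-module. No completeness of A is assumed. -/
theorem result
    (A : Type u) [CommRing A] (I : Ideal A) (hI : I.FG)
    (M : ℕ → Type v) [∀ n, AddCommGroup (M n)] [∀ n, Module A (M n)] [∀ n, Module.Finite A (M n)]
    (f : ∀ n, M (n + 1) →ₗ[A] M n) (hf : ∀ n, Function.Surjective (f n))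
    (hker : ∀ n, LinearMap.ker (f n) = I ^ (n + 1) • (⊤ : Submodule A (M (n + 1))))
    (hkill : ∀ n, I ^ (n + 1) • (⊤ : Submodule A (M n)) = ⊥)
    (L : Type v) [AddCommGroup L] [Module A L] (π : ∀ n, L →ₗ[A] M n)
    (hπ : ∀ n, f n ∘ₗ π (n + 1) = π n)
    (hinj : ∀ x : L, (∀ n, π n x = 0) → x = 0)
    (hlift : ∀ y : (∀ n, M n), (∀ n, f n (y (n + 1)) = y n) → ∃ x : L, ∀ n, π n x = y n)
    [Module (AdicCompletion I A) L] [IsScalarTower A (AdicCompletion I A) L] :
    Module.Finite (AdicCompletion I A) L := by
  obtain ⟨k, e, he⟩ := Module.Finite.exists_fin (R := A) (M := M 0)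
  have hlift0 : ∀ m : M 0, ∃ x : L, π 0 x = m := fun m => by
    let y : ∀ n, M n := fun n => Nat.rec m (fun n z => (hf n z).choose) n
    obtain ⟨x, hx⟩ := hlift y fun n => (hf n (y n)).choose_spec
    exact ⟨x, hx 0⟩
  choose y hy using fun j => hlift0 (e j)
  have hfπ : ∀ n x, f n (π (n + 1) x) = π n x := fun n x => LinearMap.congr_fun (hπ n) x
  have hgen : ∀ n, Submodule.span A (Set.range fun j => π n (y j)) = ⊤ := by
    intro n
    induction n with
    | zero => simp only [hy]; exact he
    | succ n ih =>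
      let P := Submodule.span A (Set.range fun j => π (n + 1) (y j))
      have h1 : (⊤ : Submodule A (M (n + 1))) ≤ P ⊔ I ^ (n + 1) • ⊤ := fun m _ => by
        obtain ⟨c, hc⟩ := (Submodule.mem_span_range_iff_exists_fun A).1 (ih ▸ Submodule.mem_top : f n m ∈ _)
        have hk : m - ∑ j, c j • π (n + 1) (y j) ∈ LinearMap.ker (f n) := by
          simp [LinearMap.mem_ker, map_sum, hfπ, hc]
        rw [hker] at hk
        rw [← add_sub_cancel (∑ j, c j • π (n + 1) (y j)) m]
        exact Submodule.add_mem_sup (Submodule.sum_mem _ fun j _ => Submodule.smul_mem _ _ (Submodule.subset_span ⟨j, rfl⟩)) hk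
      refine top_unique (h1.trans (sup_le le_rfl ?_))
      refine le_trans (Submodule.smul_mono le_rfl h1) ?_
      rw [Submodule.smul_sup, ← Submodule.mul_smul, ← pow_add]
      refine sup_le Submodule.smul_le_right (le_trans (Submodule.smul_mono_left (Ideal.pow_le_pow_right (by omega : n + 1 + 1 ≤ n + 1 + (n + 1)))) ?_)
      rw [hkill (n + 1)]
      exact bot_le
  refine ⟨(Submodule.fg_def).2 ⟨Set.range y, Set.finite_range y, top_unique fun x _ => ?_⟩⟩
  have h0 : ∃ c : Fin k → A, π 0 x = ∑ j, c j • π 0 (y j) := by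
    obtain ⟨c, hc⟩ := (Submodule.mem_span_range_iff_exists_fun A).1 (hgen 0 ▸ Submodule.mem_top : π 0 x ∈ _)
    exact ⟨c, hc.symm⟩
  have hstep : ∀ n (c : Fin k → A), π n x = ∑ j, c j • π n (y j) →
      ∃ d : Fin k → A, π (n + 1) x = ∑ j, d j • π (n + 1) (y j) ∧ ∀ j, d j - c j ∈ I ^ (n + 1) := by
    intro n c hc
    have hk : π (n + 1) x - ∑ j, c j • π (n + 1) (y j) ∈ LinearMap.ker (f n) := by
      simp [LinearMap.mem_ker, map_sum, hfπ, hc]
    rw [hker, ← hgen (n + 1)] at hk
    obtain ⟨b, hb, hbs⟩ := smul_span _ _ hk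
    refine ⟨c + b, ?_, fun j => by simpa using hb j⟩
    simp only [Pi.add_apply, add_smul, Finset.sum_add_distrib, hbs, add_sub_cancel]
  choose next hnext hdiff using hstep
  let seq : ∀ n, {c : Fin k → A // π n x = ∑ j, c j • π n (y j)} := fun n =>
    Nat.rec ⟨h0.choose, h0.choose_spec⟩ (fun n c => ⟨next n c.1 c.2, hnext n c.1 c.2⟩) n
  have hd : ∀ n j, (seq (n + 1)).1 j - (seq n).1 j ∈ I ^ (n + 1) := fun n j => hdiff n (seq n).1 (seq n).2 j
  have hch : ∀ j a b, a ≤ b → (seq b).1 j - (seq a).1 j ∈ I ^ (a + 1) := by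
    intro j a b hab
    induction b, hab using Nat.le_induction with
    | base => simp
    | succ b hb ih =>
      have := add_mem (Ideal.pow_le_pow_right (by omega : a + 1 ≤ b + 1) (hd b j)) ih
      simpa using this
  let ahat : Fin k → AdicCompletion I A := fun j => AdicCompletion.mk I A ⟨fun n => (seq n).1 j, fun {a b} hab => by
    rw [SModEq.sub_mem, smul_eq_mul, Ideal.mul_top]
    have := Ideal.pow_le_pow_right (Nat.le_succ a) (hch j a b hab)
    rw [← neg_mem_iff]
    simpa using this⟩
  have hx : x = ∑ j, ahat j • y j := by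
    refine sub_eq_zero.1 (hinj _ fun n => ?_)
    have hterm : ∀ j, π n (ahat j • y j) = (seq (n + 1)).1 j • π n (y j) := by
      intro j
      have hk : ahat j - algebraMap A (AdicCompletion I A) ((seq (n + 1)).1 j) ∈ (I ^ (n + 1) • ⊤ : Submodule A (AdicCompletion I A)) := by
        rw [AdicCompletion.pow_smul_top_eq_ker_eval hI, LinearMap.mem_ker, map_sub, sub_eq_zero]
        have : algebraMap A (AdicCompletion I A) ((seq (n + 1)).1 j) = AdicCompletion.of I A ((seq (n + 1)).1 j) := by
          rw [AdicCompletion.algebraMap_apply]; rfl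
        rw [this, AdicCompletion.eval_of]
        rfl
      have hz : π n ((ahat j - algebraMap A (AdicCompletion I A) ((seq (n + 1)).1 j)) • y j) = 0 := by
        refine Submodule.smul_induction_on hk (fun a ha b _ => ?_) fun b c hb hc => by rw [add_smul, map_add, hb, hc, add_zero]
        rw [smul_assoc, map_smul]
        have : a • π n (b • y j) ∈ I ^ (n + 1) • (⊤ : Submodule A (M n)) := Submodule.smul_mem_smul ha trivial
        rwa [hkill, Submodule.mem_bot] at this
      rw [sub_smul, map_sub, algebraMap_smul, sub_eq_zero] at hz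
      rw [hz, map_smul]
    rw [map_sub, map_sum]
    simp only [hterm]
    rw [← hfπ n x, congrArg (f n) (seq (n + 1)).2, map_sum]
    simp [hfπ]
  rw [hx]
  exact Submodule.sum_mem _ fun j _ => Submodule.smul_mem _ _ (Submodule.subset_span ⟨j, rfl⟩)

end Groth.Agent.S13622
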