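import Groth.Statements.S13623
import Mathlib

set_option autoImplicit false
universe u
open TensorProduct
open CAlg

namespace Groth.Agent.S13623

open TensorProduct
lemma proj_mem_adjoin {A B : Type u} [CommRing A] [CommRing B] [Algebra A B]
    (𝒜 : ℕ → Submodule A B) [GradedAlgebra 𝒜] (m : ℕ) (b : B) (hb : b ∈ Algebra.adjoin A (𝒜 1 : Set B)) :
    (DirectSum.decompose 𝒜 b m : B) ∈ Algebra.adjoin A (𝒜 1 : Set B) := by
  classical
  rw [← Subalgebra.mem_toSubmodule, Algebra.adjoin_eq_span] at hb
  induction hb using Submodule.span_induction with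
  | mem b hb =>
    obtain ⟨j, hj⟩ : ∃ j, b ∈ 𝒜 j := by
      induction hb using Submonoid.closure_induction with
      | mem b hb => exact ⟨1, hb⟩
      | one => exact ⟨0, SetLike.one_mem_graded 𝒜⟩
      | mul a c _ _ ha hc =>
        obtain ⟨i, hi⟩ := ha; obtain ⟨j, hj⟩ := hc
        exact ⟨i + j, SetLike.mul_mem_graded hi hj⟩
    by_cases h : j = m
    · subst h
      rw [DirectSum.decompose_of_mem_same _ hj, ← Subalgebra.mem_toSubmodule, Algebra.adjoin_eq_span]
      exact Submodule.subset_span hb
    · rw [DirectSum.decompose_of_mem_ne _ hj h]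
      exact zero_mem _
  | zero => simp
  | add x y _ _ hx hy => rw [DirectSum.decompose_add, DirectSum.add_apply, Submodule.coe_add]; exact add_mem hx hy
  | smul r x _ hx =>
    rw [DirectSum.decompose_smul, DirectSum.smul_apply, Submodule.coe_smul]
    exact Subalgebra.smul_mem _ hx r


/-- Let A be a commutative ring and B a commutative A-algebra, graded by A-submodules B_m (m ≥ 0)
forming a graded-algebra structure, such that every B_m is a finitely generated A-module. If for
every algebraically closed field k and every A-algebra structure on k the k-algebra k ⊗_A B is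
generated by the image of B_1 under b ↦ 1 ⊗ b, then its degree-one part B_1 generates the A-algebra
B. (Algebraically closed fields are taken in the universe of A.) -/
theorem result
    (A : Type u) [CommRing A] (B : Type u) [CommRing B] [Algebra A B]
    (𝒜 : ℕ → Submodule A B) [GradedAlgebra 𝒜]
    (hfin : ∀ m : ℕ, Module.Finite A (𝒜 m))
    (hgen : ∀ (k : Type u) [Field k] [IsAlgClosed k] [Algebra A k],
      Algebra.adjoin k ((Algebra.TensorProduct.includeRight : B →ₐ[A] k ⊗[A] B) '' (𝒜 1 : Set B)) = ⊤) :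
    Algebra.adjoin A (𝒜 1 : Set B) = ⊤ := by
  classical
  rw [Algebra.eq_top_iff]
  intro b
  rw [← DirectSum.sum_support_decompose 𝒜 b]
  refine Subalgebra.sum_mem _ fun m _ => ?_
  generalize (DirectSum.decompose 𝒜 b m) = c
  let N : Submodule A (𝒜 m) := (Algebra.adjoin A (𝒜 1 : Set B)).toSubmodule.comap (𝒜 m).subtype
  suffices Subsingleton (𝒜 m ⧸ N) from
    (Submodule.Quotient.mk_eq_zero N).1 (Subsingleton.elim (Submodule.Quotient.mk c) 0)
  haveI := hfin m
  rw [← Module.support_eq_empty_iff (R := A), Set.eq_empty_iff_forall_notMem]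
  intro p hp
  rw [Module.mem_support_iff_nontrivial_residueField_tensorProduct] at hp
  let κ := p.asIdeal.ResidueField
  let k := AlgebraicClosure κ
  haveI : IsScalarTower A κ k := inferInstance
  let π : B →ₗ[A] 𝒜 m ⧸ N :=
    N.mkQ ∘ₗ (DirectSum.component A ℕ (fun i => 𝒜 i) m) ∘ₗ (DirectSum.decomposeLinearEquiv 𝒜).toLinearMap
  have hπ : Function.Surjective π := by
    intro y
    obtain ⟨⟨x, hx⟩, rfl⟩ := N.mkQ_surjective y
    refine ⟨x, ?_⟩
    show N.mkQ (DirectSum.decompose 𝒜 x m) = _
    congr 1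
    exact Subtype.ext (DirectSum.decompose_of_mem_same _ hx)
  have hzero : ∀ x ∈ Algebra.adjoin A (𝒜 1 : Set B), π x = 0 := fun x hx =>
    (Submodule.Quotient.mk_eq_zero N).2 (proj_mem_adjoin 𝒜 m x hx)
  have hall : ∀ t : k ⊗[A] B, π.lTensor k t = 0 := by
    intro t
    have h1 : t ∈ Algebra.adjoin k ((Algebra.TensorProduct.includeRight : B →ₐ[A] k ⊗[A] B) '' (𝒜 1 : Set B)) := by
      rw [hgen k]; exact Algebra.mem_top
    rw [← Subalgebra.mem_toSubmodule, Algebra.adjoin_eq_span] at h1
    induction h1 using Submodule.span_induction with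
    | mem t ht =>
      obtain ⟨x, hx, rfl⟩ : ∃ x ∈ Algebra.adjoin A (𝒜 1 : Set B), (1 : k) ⊗ₜ[A] x = t := by
        induction ht using Submonoid.closure_induction with
        | mem t ht =>
          obtain ⟨x, hx, rfl⟩ := ht
          exact ⟨x, Algebra.subset_adjoin hx, rfl⟩
        | one => exact ⟨1, one_mem _, rfl⟩
        | mul a c _ _ ha hc =>
          obtain ⟨x, hx, rfl⟩ := ha; obtain ⟨y, hy, rfl⟩ := hc
          exact ⟨x * y, mul_mem hx hy, by rw [Algebra.TensorProduct.tmul_mul_tmul, one_mul]⟩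
      rw [LinearMap.lTensor_tmul, hzero x hx, tmul_zero]
    | zero => exact map_zero _
    | add a c _ _ ha hc => rw [map_add, ha, hc, add_zero]
    | smul r a _ ha =>
      have : π.lTensor k (r • a) = r • π.lTensor k a := (LinearMap.baseChange k π).map_smul r a
      rw [this, ha, smul_zero]
  haveI : Subsingleton (k ⊗[A] (𝒜 m ⧸ N)) := subsingleton_of_forall_eq 0 fun y => by
    obtain ⟨t, rfl⟩ := LinearMap.lTensor_surjective k hπ y
    exact hall t
  haveI : Subsingleton (k ⊗[κ] (κ ⊗[A] (𝒜 m ⧸ N))) :=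
    (TensorProduct.AlgebraTensorModule.cancelBaseChange A κ κ k (𝒜 m ⧸ N)).toEquiv.subsingleton
  exact not_subsingleton (κ ⊗[A] (𝒜 m ⧸ N))
    (Module.FaithfullyFlat.lTensor_reflects_triviality κ k (κ ⊗[A] (𝒜 m ⧸ N)))

end Groth.Agent.S13623
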