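import Groth.Statements.S13626
import Groth.Agent.Lib.ProjForm2.Basic

set_option autoImplicit false
universe u
open CategoryTheory CategoryTheory.Limits AlgebraicGeometry
open Coh

namespace Groth.Agent.S13626

/-- Let f : X → Y be a morphism of schemes with R^i f_* O_X = 0 for every i ≥ 1 and f_* O_X ≅ O_Y. Then
for every invertible O_Y-module L and every p ≥ 0 the groups H^p(X, f^* L) and H^p(Y, L) are
isomorphic (existence of a group isomorphism; the higher direct images are the right derived
functors of f_* on O_X-modules, under the instance argument recording that O_X-modules have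
injective resolutions). -/
theorem result
    {X Y : Scheme.{u}} (f : X ⟶ Y) [HasInjectiveResolutions X.Modules]
    (hR : ∀ i : ℕ, IsZero ((Coh.Rpush f (i + 1)).obj (Coh.structureModule X)))
    (h0 : Nonempty ((Coh.push f).obj (Coh.structureModule X) ≅ Coh.structureModule Y))
    (L : Y.Modules) (hL : PicF.IsInvertible L) (p : ℕ) :
    Nonempty (Coh.HH X ((Scheme.Modules.pullback f).obj L) p ≃+ Coh.HH Y L p) :=
  Groth.Agent.ProjForm2.nonempty_hh_pullback_invertible f hR h0 L hL p

end Groth.Agent.S13626
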