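import Groth.Statements.S13627
import Mathlib.FieldTheory.IsAlgClosed.AlgebraicClosure
import Mathlib.AlgebraicGeometry.ResidueField

set_option autoImplicit false
universe u
open CategoryTheory CategoryTheory.Limits AlgebraicGeometry Opposite
open FBase

namespace Groth.Agent.S13627

/-- Let P be a property of schemes over fields, invariant under isomorphisms of schemes over the base
field and ascending along every field extension k → K (if Z over k has P then Z ×_k Spec K over K
has P). For a morphism of schemes f : X → T, these conditions are equivalent: (1) for every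
algebraically closed field k and every morphism Spec k → T the fibre X ×_T Spec k has P over k; (2)
for every point t of T the fibre of f over Spec of an algebraic closure of the residue field κ(t)
has P. (Fields are taken in the universe of the schemes. The published statement also treats a
morphism from an algebraic space X to a scheme T; this row treats morphisms of schemes.) -/
theorem result
    (P : ∀ (k : Type u) [Field k] (Z : Scheme.{u}), (Z ⟶ Spec (CommRingCat.of k)) → Prop)
    (hiso : ∀ (k : Type u) [Field k] (Z Z' : Scheme.{u}) (e : Z ≅ Z') (g : Z' ⟶ Spec (CommRingCat.of k)),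
      P k Z' g → P k Z (e.hom ≫ g))
    (hext : ∀ (k K : Type u) [Field k] [Field K] (i : k →+* K) (Z : Scheme.{u}) (g : Z ⟶ Spec (CommRingCat.of k)),
      P k Z g → P K (pullback g (Spec.map (CommRingCat.ofHom i))) (pullback.snd g (Spec.map (CommRingCat.ofHom i))))
    {X T : Scheme.{u}} (f : X ⟶ T) :
    (∀ (k : Type u) [Field k] [IsAlgClosed k] (σ : Spec (CommRingCat.of k) ⟶ T),
        P k (pullback f σ) (pullback.snd f σ)) ↔
      ∀ t : T, P (AlgebraicClosure ↥(T.residueField t))
        (pullback f (Spec.map (CommRingCat.ofHom (algebraMap ↥(T.residueField t) (AlgebraicClosure ↥(T.residueField t)))) ≫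
          T.fromSpecResidueField t))
        (pullback.snd f (Spec.map (CommRingCat.ofHom (algebraMap ↥(T.residueField t) (AlgebraicClosure ↥(T.residueField t)))) ≫
          T.fromSpecResidueField t)) := by
  refine ⟨fun h t => h _ _, fun h k _ _ σ => ?_⟩
  haveI : Subsingleton ↥(Spec (CommRingCat.of k)) := inferInstanceAs (Subsingleton (PrimeSpectrum k))
  obtain ⟨⟨t, φ⟩, rfl⟩ := (Scheme.SpecToEquivOfField k T).symm.surjective σ
  let L := AlgebraicClosure ↥(T.residueField t)
  letI : Algebra ↥(T.residueField t) k := φ.hom.toAlgebra
  let i : L →ₐ[↥(T.residueField t)] k := IsAlgClosed.lift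
  let a := Spec.map (CommRingCat.ofHom (algebraMap ↥(T.residueField t) L)) ≫ T.fromSpecResidueField t
  have hσ : Spec.map (CommRingCat.ofHom i.toRingHom) ≫ a = (Scheme.SpecToEquivOfField k T).symm ⟨t, φ⟩ := by
    rw [← Category.assoc, ← Spec.map_comp, ← CommRingCat.ofHom_comp]
    change Spec.map (CommRingCat.ofHom (i.toRingHom.comp _)) ≫ _ = Spec.map φ ≫ _
    rw [show i.toRingHom.comp (algebraMap ↥(T.residueField t) L) = φ.hom from i.comp_algebraMap]
    rfl
  rw [← hσ]
  let e := (pullbackLeftPullbackSndIso f a (Spec.map (CommRingCat.ofHom i.toRingHom))).symm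
  have he : e.hom ≫ Limits.pullback.snd (Limits.pullback.snd f a) (Spec.map (CommRingCat.ofHom i.toRingHom)) =
      Limits.pullback.snd f (Spec.map (CommRingCat.ofHom i.toRingHom) ≫ a) := by
    simp [e]
  rw [← he]
  exact hiso _ _ _ e _ (hext _ _ i.toRingHom _ _ (h t))

end Groth.Agent.S13627
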