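import Groth.Statements.S13628
import Mathlib.FieldTheory.IsAlgClosed.AlgebraicClosure
import Mathlib.AlgebraicGeometry.ResidueField
import Mathlib.AlgebraicGeometry.Morphisms.UnderlyingMap
import Mathlib.AlgebraicGeometry.PullbackCarrier

set_option autoImplicit false
universe u
open CategoryTheory CategoryTheory.Limits AlgebraicGeometry Opposite
open FBase

namespace Groth.Agent.S13628

/-- Let P be a property of schemes over fields, invariant under isomorphisms of schemes over the base
field and invariant in both directions under every field extension k → K (Z over k has P if and only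
if Z ×_k Spec K over K has P). Let f : X → T be a morphism of schemes, h : T' → T a surjective
morphism of schemes and f' : X' → T' a base change of f along h. If for every algebraically closed
field k and every Spec k → T' the fibre X' ×_{T'} Spec k has P, then for every algebraically closed
field k and every Spec k → T the fibre X ×_T Spec k has P. (Fields are taken in the universe of the
schemes. The published statement is that families of del Pezzo surfaces form a stack for the étale
topology; this row is the step of its proof that descends the condition on geometric fibres along a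
surjective base change, stated for any fibre property with the invariance above.) -/
theorem result
    (P : ∀ (k : Type u) [Field k] (Z : Scheme.{u}), (Z ⟶ Spec (CommRingCat.of k)) → Prop)
    (hiso : ∀ (k : Type u) [Field k] (Z Z' : Scheme.{u}) (e : Z ≅ Z') (g : Z' ⟶ Spec (CommRingCat.of k)),
      P k Z' g → P k Z (e.hom ≫ g))
    (hext : ∀ (k K : Type u) [Field k] [Field K] (i : k →+* K) (Z : Scheme.{u}) (g : Z ⟶ Spec (CommRingCat.of k)),
      P k Z g ↔ P K (pullback g (Spec.map (CommRingCat.ofHom i))) (pullback.snd g (Spec.map (CommRingCat.ofHom i))))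
    {X T X' T' : Scheme.{u}} (f : X ⟶ T) (h : T' ⟶ T) [Surjective h] (f' : X' ⟶ T') (h' : X' ⟶ X)
    (sq : IsPullback h' f' f h)
    (H : ∀ (k : Type u) [Field k] [IsAlgClosed k] (σ' : Spec (CommRingCat.of k) ⟶ T'),
        P k (pullback f' σ') (pullback.snd f' σ'))
    (k : Type u) [Field k] [IsAlgClosed k] (σ : Spec (CommRingCat.of k) ⟶ T) :
    P k (pullback f σ) (pullback.snd f σ) := by
  haveI : Surjective (Limits.pullback.fst σ h) := MorphismProperty.pullback_fst _ _ inferInstance
  haveI : Nonempty ↥(Spec (CommRingCat.of k)) := inferInstanceAs (Nonempty (PrimeSpectrum k))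
  obtain ⟨z, -⟩ := (Limits.pullback.fst σ h).surjective (Classical.arbitrary ↥(Spec (CommRingCat.of k)))
  let Z := Limits.pullback σ h
  let K := AlgebraicClosure ↥(Z.residueField z)
  let a : Spec (CommRingCat.of K) ⟶ Z :=
    Spec.map (CommRingCat.ofHom (algebraMap ↥(Z.residueField z) K)) ≫ Z.fromSpecResidueField z
  let i : k →+* K := (Spec.preimage (a ≫ Limits.pullback.fst σ h)).hom
  have hi : Spec.map (CommRingCat.ofHom i) = a ≫ Limits.pullback.fst σ h := Spec.map_preimage _
  let σ' : Spec (CommRingCat.of K) ⟶ T' := a ≫ Limits.pullback.snd σ h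
  have hσ : σ' ≫ h = Spec.map (CommRingCat.ofHom i) ≫ σ := by
    rw [hi]; simp [σ', pullback.condition]
  have hP := H K σ'
  rw [hext k K i]
  have hA : IsPullback (Limits.pullback.fst f' σ' ≫ h') (Limits.pullback.snd f' σ') f (Spec.map (CommRingCat.ofHom i) ≫ σ) :=
    hσ ▸ (IsPullback.of_hasPullback f' σ').paste_horiz sq
  have hB : IsPullback (Limits.pullback.fst (Limits.pullback.snd f σ) (Spec.map (CommRingCat.ofHom i)) ≫ Limits.pullback.fst f σ)
      (Limits.pullback.snd (Limits.pullback.snd f σ) (Spec.map (CommRingCat.ofHom i))) f (Spec.map (CommRingCat.ofHom i) ≫ σ) :=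
    (IsPullback.of_hasPullback _ _).paste_horiz (IsPullback.of_hasPullback f σ)
  rw [← IsPullback.isoIsPullback_hom_snd _ _ hB hA]
  exact hiso K _ _ (IsPullback.isoIsPullback _ _ hB hA) _ hP

end Groth.Agent.S13628
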