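import Groth.Statements.S13629
import Groth.Agent.Lib.DGen9.FibEuler
import Groth.Agent.Lib.Snapper.IntNum
import Groth.Agent.Lib.CurveR1_10.Basic
import Groth.Agent.Lib.Twist.Pullback

set_option autoImplicit false
universe u
open CategoryTheory CategoryTheory.Limits AlgebraicGeometry Opposite
open FGA

namespace Groth.Agent.S13629

open CategoryTheory CategoryTheory.Limits AlgebraicGeometry

/-- Pull-back commutes with tensor products of lists. -/
theorem nonempty_pullback_tensorList {X Y : Scheme.{u}} (g : Y ⟶ X) :
    ∀ l : List X.Modules, Nonempty ((Scheme.Modules.pullback g).obj (FGA.tensorList l) ≅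
      FGA.tensorList (l.map (Scheme.Modules.pullback g).obj))
  | [] => ⟨Twist.pullbackUnitIso g⟩
  | A :: l => by
    obtain ⟨e⟩ := nonempty_pullback_tensorList g l
    exact ⟨M2.pullTensorIso g A (FGA.tensorList l) ≪≫ M2.tensorIso (Iso.refl _) e⟩


/-- Let f : X → Y be a proper, flat morphism of schemes, locally of finite presentation, whose
scheme-theoretic fibres X_y all have Krull dimension at most 2, and let L be an invertible
O_X-module with a tensor inverse M (M ⊗ L ≅ O_X). Then the self-intersection number (L_y · L_y) of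
the restriction of L to the fibre X_y over κ(y), namely the alternating sum χ(O_{X_y}) − 2χ(M_y) +
χ(M_y ⊗ M_y) of Euler characteristics in degrees ≤ 2, is a locally constant function of y: every
point y₀ of Y has an open neighbourhood on which it equals its value at y₀. (The published statement
is the case where the fibres are integral normal Gorenstein surfaces and L is the relative dualizing
sheaf, so that the number is the self-intersection K² of the canonical class of the fibre; the fibre
X_y is regarded as a scheme over Spec κ(y) through the second projection.) -/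
theorem result
    {X Y : Scheme.{u}} (f : X ⟶ Y) [IsProper f] [Flat f] [LocallyOfFinitePresentation f]
    (hdim : ∀ y : Y, topologicalKrullDim ↥(f.fiber y) ≤ 2)
    (L M : X.Modules) (hL : PicF.IsInvertible L) (hM : ClSub.IsInverseOf M L) (y₀ : Y) :
    ∃ U : Y.Opens, y₀ ∈ U ∧ ∀ y : Y, y ∈ U →
      @FGA.intNum ↥(Y.residueField y) _ (f.fiber y) ⟨f.fiberToSpecResidueField y⟩ 2 2
            ![(Scheme.Modules.pullback (f.fiberι y)).obj M, (Scheme.Modules.pullback (f.fiberι y)).obj M]
            (Coh.structureModule (f.fiber y)) =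
        @FGA.intNum ↥(Y.residueField y₀) _ (f.fiber y₀) ⟨f.fiberToSpecResidueField y₀⟩ 2 2
            ![(Scheme.Modules.pullback (f.fiberι y₀)).obj M, (Scheme.Modules.pullback (f.fiberι y₀)).obj M]
            (Coh.structureModule (f.fiber y₀)) := by
  classical
  have hMi : PicF.IsInvertible M := by
    obtain ⟨e⟩ := hM
    obtain ⟨D, hD, ⟨eD⟩⟩ := M2.exists_inverse hL
    exact M2.isInvertible_of_iso (M2.inverseUnique eD (M2.tensorComm L M ≪≫ e)) hD
  let G : Finset (Fin 2) → X.Modules := fun I =>
    CohB1.tensorMod (FGA.tensorList ((I.sort (· ≤ ·)).map ![M, M])) (Coh.structureModule X)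
  have hG : ∀ I, PicF.IsInvertible (G I) := fun I =>
    M2.isInvertible_tensor (Snapper.isInvertible_tensorList fun N hN => by
      obtain ⟨i, -, rfl⟩ := List.mem_map.1 hN
      fin_cases i <;> exact hMi) CurveR1_10.isInvertible_structure
  have hlc : ∀ I, IsLocallyConstant fun y : Y => PerfAux.eulerChar f (G I) y := fun I =>
    FibEuler9.isLocallyConstant_eulerChar f (G I) (M1.isFP_of_isFinLocFree (M2.isFinLocFree_of_isInvertible (hG I)))
      (DPerf.isFlatOver_of_isFlat f (KFlat.Sch.isFlat_of_isFinLocFree (M2.isFinLocFree_of_isInvertible (hG I))))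
  have key : ∀ y : Y, @FGA.intNum ↥(Y.residueField y) _ (f.fiber y) ⟨f.fiberToSpecResidueField y⟩ 2 2
      ![(Scheme.Modules.pullback (f.fiberι y)).obj M, (Scheme.Modules.pullback (f.fiberι y)).obj M]
      (Coh.structureModule (f.fiber y)) =
        ∑ I : Finset (Fin 2), (-1 : ℤ) ^ I.card * PerfAux.eulerChar f (G I) y := fun y => by
    letI : (f.fiber y).Over (Spec (CommRingCat.of (Y.residueField y))) := ⟨f.fiberToSpecResidueField y⟩
    haveI : IsProper ((f.fiber y) ↘ Spec (CommRingCat.of (Y.residueField y))) :=
      MorphismProperty.of_isPullback (P := @IsProper) (IsPullback.of_hasPullback f (Y.fromSpecResidueField y)) inferInstance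
    rw [FGA.intNum]
    refine Finset.sum_congr rfl fun I _ => ?_
    congr 1
    have hl : ∀ N ∈ (I.sort (· ≤ ·)).map ![(Scheme.Modules.pullback (f.fiberι y)).obj M,
        (Scheme.Modules.pullback (f.fiberι y)).obj M], PicF.IsInvertible N := fun N hN => by
      obtain ⟨i, -, rfl⟩ := List.mem_map.1 hN
      fin_cases i <;> exact PicLoc.isInvertible_pullback _ hMi
    rw [Snapper.eulerCharLE_eq_euler 2 (hdim y) (Snapper.isCoh_of_isInvertible
      (M2.isInvertible_tensor (Snapper.isInvertible_tensorList hl) CurveR1_10.isInvertible_structure))]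
    obtain ⟨e₁⟩ := nonempty_pullback_tensorList (f.fiberι y) ((I.sort (· ≤ ·)).map ![M, M])
    have hmap : ((I.sort (· ≤ ·)).map ![M, M]).map (Scheme.Modules.pullback (f.fiberι y)).obj =
        (I.sort (· ≤ ·)).map ![(Scheme.Modules.pullback (f.fiberι y)).obj M,
          (Scheme.Modules.pullback (f.fiberι y)).obj M] := by
      rw [List.map_map]
      exact List.map_congr_left fun i _ => by fin_cases i <;> rfl
    rw [hmap] at e₁
    refine (CurveCoh17.euler_iso (M2.pullTensorIso (f.fiberι y) _ _ ≪≫
      M2.tensorIso e₁ (Twist.pullbackUnitIso (f.fiberι y)))).symm.trans ?_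
    rfl
  obtain ⟨U, hU, hy₀, hUc⟩ := (IsLocallyConstant.iff_exists_open _).1
    (show IsLocallyConstant fun y : Y => ∑ I : Finset (Fin 2), (-1 : ℤ) ^ I.card * PerfAux.eulerChar f (G I) y from by
      refine (IsLocallyConstant.iff_eventually_eq _).2 fun y => ?_
      filter_upwards [Filter.eventually_all.2 fun I => (hlc I).eventually_eq y] with z hz
      exact Finset.sum_congr rfl fun I _ => by rw [hz I]) y₀
  exact ⟨⟨U, hU⟩, hy₀, fun y hy => by rw [key, key]; exact hUc y hy⟩

end Groth.Agent.S13629
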