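import Groth.Statements.S13630
import Groth.Agent.Lib.FpqcDesc.Basic
import Groth.Agent.Lib.LimH13.Reduced
import Groth.Agent.Lib.SmDim19.RelDimVariety
import Groth.Agent.Lib.SymSq10.Canon
import Groth.Agent.Lib.Wedge2.Exists
import Groth.Agent.Lib.Wedge2.Props
import Groth.Agent.Lib.PicPn.CanonTriv
import Groth.Agent.Lib.AutBound14.ExtPull
import Groth.Agent.Lib.AmpleDesc12.Main
import Groth.Agent.Lib.RelAmple18.Basic
import Groth.Agent.Lib.Ample18.Ample
import Groth.Agent.S4642
import Mathlib.AlgebraicGeometry.Morphisms.LocalFlatDescent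
-- import your own Groth.Agent.* helpers here

set_option autoImplicit false
universe u
open CategoryTheory CategoryTheory.Limits AlgebraicGeometry Opposite
open FBase

namespace Groth.Agent.S13630

/-- Say that a morphism of schemes p : S → T is a family of del Pezzo surfaces when p is proper and
smooth (hence of finite presentation) and for every algebraically closed field k and every morphism
Spec k → T the fibre S_k = S ×_T Spec k is an integral scheme of Krull dimension 2 whose
anti-canonical sheaf is ample — there are a second exterior power ω of the sheaf of differentials of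
S_k → Spec k and a tensor inverse D of ω with D ample. This property descends along flat,
surjective, quasi-compact morphisms: if T' → T is such a morphism and the base change S ×_T T' → T'
is a family of del Pezzo surfaces, then so is p. (Stated for a single quasi-compact faithfully flat
base change; together with Zariski-locality on T this is locality for the fpqc topology. Fields are
taken in the universe of the schemes. The published statement is that families of del Pezzo surfaces
form a stack for the étale topology; this row is the locality of the family condition that its proof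
establishes.) -/
theorem result :
    MorphismProperty.DescendsAlong
      (fun ⦃S T : Scheme.{u}⦄ (p : S ⟶ T) =>
        IsProper p ∧ Smooth p ∧
          ∀ (k : Type u) [Field k] [IsAlgClosed k] (σ : Spec (CommRingCat.of k) ⟶ T),
            IsIntegral (pullback p σ) ∧ topologicalKrullDim ↥(pullback p σ) = 2 ∧
              ∃ ω D : (pullback p σ).Modules, Canon.IsTopDiff (pullback.snd p σ) 2 ω ∧
                ClSub.IsInverseOf D ω ∧ CohB1.IsAmple D)
      (@Surjective ⊓ @Flat ⊓ @QuasiCompact : MorphismProperty Scheme.{u}) := by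
  refine ⟨fun {A X Y Z fst snd f g} hsq hf h => ?_⟩
  obtain ⟨hpr, hsm, hfib⟩ := h
  haveI := Groth.Agent.FpqcDesc.descendsAlong_isProper.{u}
  haveI hgp : IsProper g := MorphismProperty.of_isPullback_of_descendsAlong (P := @IsProper) hsq hf hpr
  haveI hgs : Smooth g := MorphismProperty.of_isPullback_of_descendsAlong (P := @Smooth) hsq hf hsm
  refine ⟨hgp, hgs, fun k _ _ σ => ?_⟩
  haveI hfs : Surjective f := hf.1.1
  obtain ⟨x, hx⟩ := f.surjective (σ (IsLocalRing.closedPoint k))
  obtain ⟨w, -, -⟩ := Scheme.Pullback.exists_preimage_pullback (f := σ) (g := f) (IsLocalRing.closedPoint k) x hx.symm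
  let P := pullback σ f
  let τ : Spec (CommRingCat.of (AlgebraicClosure (P.residueField w))) ⟶ P :=
    Spec.map (CommRingCat.ofHom (algebraMap (P.residueField w) (AlgebraicClosure (P.residueField w)))) ≫
      P.fromSpecResidueField w
  let K := AlgebraicClosure (P.residueField w)
  let φ : Spec (CommRingCat.of K) ⟶ Spec (CommRingCat.of k) := τ ≫ pullback.fst σ f
  let σ' : Spec (CommRingCat.of K) ⟶ X := τ ≫ pullback.snd σ f
  have hw : σ' ≫ f = φ ≫ σ := by simp [σ', φ, pullback.condition]
  obtain ⟨hWi, hWd, ω', D', hω', hD', hA'⟩ := hfib K σ'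
  let p := pullback.snd g σ
  let a := pullback.fst fst σ'
  let q := pullback.snd fst σ'
  have sq0 : IsPullback (a ≫ snd) q g (φ ≫ σ) := by
    rw [← hw]
    exact (IsPullback.of_hasPullback fst σ').paste_horiz hsq.flip
  let m := pullback.lift (f := g) (g := σ) (a ≫ snd) (q ≫ φ) (sq0.w.trans (Category.assoc _ _ _).symm)
  have hm : m ≫ pullback.fst g σ = a ≫ snd := pullback.lift_fst _ _ _
  have sq : IsPullback m q p φ :=
    IsPullback.of_right (by rw [hm]; exact sq0) (pullback.lift_snd _ _ _) (IsPullback.of_hasPullback g σ)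
  obtain ⟨j, hj⟩ : ∃ j, φ = Spec.map j := ⟨Spec.preimage φ, (Spec.map_preimage φ).symm⟩
  letI : Algebra k K := j.hom.toAlgebra
  haveI : Surjective φ := ⟨fun z => ⟨IsLocalRing.closedPoint K, Subsingleton.elim _ _⟩⟩
  haveI : Flat φ := by
    rw [hj]
    exact (HasRingHomProperty.Spec_iff (P := @Flat)).2 (RingHom.flat_algebraMap_iff.2 (inferInstance : Module.Flat k K))
  haveI : Surjective m := MorphismProperty.of_isPullback (P := @Surjective) sq.flip inferInstance
  haveI : Flat m := MorphismProperty.of_isPullback (P := @Flat) sq.flip inferInstance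
  haveI : IsProper p := inferInstanceAs (IsProper (pullback.snd g σ))
  haveI : Smooth p := inferInstanceAs (Smooth (pullback.snd g σ))
  haveI : IsProper q := MorphismProperty.of_isPullback (P := @IsProper) sq inferInstance
  haveI := hWi
  haveI : IsReduced (pullback g σ) := Groth.Agent.LimH13.isReduced_of_flat_of_surjective m
  haveI : IrreducibleSpace ↥(pullback g σ) :=
    { toPreirreducibleSpace := ⟨by
        have := (PreirreducibleSpace.isPreirreducible_univ (X := ↥(pullback fst σ'))).image m
          m.continuous.continuousOn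
        rwa [Set.image_univ, m.surjective.range_eq] at this⟩
      toNonempty := ⟨m (Classical.arbitrary _)⟩ }
  haveI hZi : IsIntegral (pullback g σ) := isIntegral_of_irreducibleSpace_of_isReduced _
  let e := sq.isoPullback
  have hdim : topologicalKrullDim ↥(pullback g σ) = 2 := by
    have h1 := IsHomeomorph.topologicalKrullDim_eq _ (Scheme.Hom.homeomorph e.hom).isHomeomorph
    have h2 : topologicalKrullDim ↥(FBase.bc p K) = topologicalKrullDim ↥(pullback g σ) := Groth.Agent.S4642.result p
    rw [← h2, ← hWd, h1, hj]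
    rfl
  haveI : SmoothOfRelativeDimension 2 p := Groth.Agent.SmDim19.smoothOfRelativeDimension_of_smooth p 2 hdim
  have hΩ := Groth.Agent.SymSq10.isFinLocFreeOfRank_omega 2 p
  haveI hΩq : Coh.IsQCoh (Omega.sheaf p) := (Groth.Agent.CurveCoh17.isCoh_of_ofRank hΩ).1
  let ω := Groth.Agent.Wedge2.extMod 2 (Omega.sheaf p)
  have hω : ExtPow.IsExtPow 2 (Omega.sheaf p) ω := Groth.Agent.Wedge2.isExtPow_extMod 2 _
  obtain ⟨D, hDi, ⟨eD⟩⟩ := Groth.Agent.M2.exists_inverse (Groth.Agent.PicPn.isInvertible_of_isExtPow hΩ hω)
  refine ⟨hZi, hdim, ω, D, hω, ⟨Groth.Agent.M2.tensorComm _ _ ≪≫ eD⟩, ?_⟩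
  obtain ⟨eΩ⟩ := Groth.Agent.AmpleFib.nonempty_omega_pullback sq
  obtain ⟨eω⟩ := Groth.Agent.ExtFil4.isoExtPow
    (Groth.Agent.AutBound14.isExtPow_of_iso (Groth.Agent.Wedge2.isExtPow_pullback' m hΩq hω) eΩ (Iso.refl _)) hω'
  obtain ⟨eD'⟩ := hD'
  let Dp := (Scheme.Modules.pullback m).obj D
  let u : CohB1.tensorMod ω' Dp ≅ Coh.structureModule _ :=
    Groth.Agent.M2.tensorIso eω.symm (Iso.refl _) ≪≫ (Groth.Agent.M2.pullTensorIso m ω D).symm ≪≫
      (Scheme.Modules.pullback m).mapIso eD ≪≫ Groth.Agent.Twist.pullbackUnitIso _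
  let v : D' ≅ Dp :=
    (Groth.Agent.M2.tensorRUnit _).symm ≪≫ Groth.Agent.M2.tensorIso (Iso.refl _) u.symm ≪≫
      (Groth.Agent.M2.tensorAssoc _ ω' Dp).symm ≪≫ Groth.Agent.M2.tensorIso eD' (Iso.refl _) ≪≫
      Groth.Agent.M2.tensorComm _ _ ≪≫ Groth.Agent.M2.tensorRUnit _
  have hA : CohB1.IsAmple Dp := Groth.Agent.Amp.isAmple_of_iso v hA'
  have hA2 : CohB1.IsAmple ((Scheme.Modules.pullback (pullback.fst p φ)).obj D) :=
    (Groth.Agent.RA.isAmple_pullback_iso_iff e.hom).1 ((Groth.Agent.RA.isAmple_pullback_comp_iff _ _).2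
      ((Groth.Agent.RA.isAmple_pullback_congr sq.isoPullback_hom_fst).2 hA))
  exact Groth.Agent.AmpleDesc12.isAmple_of_isAmple_pullback p φ D hDi hA2

end Groth.Agent.S13630
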