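import Groth.Statements.S13631
import Groth.Statements.S14308
import Groth.Statements.S14309
import Groth.Statements.S12045
import Groth.Statements.S11083
import Mathlib.RingTheory.Kaehler.Polynomial
import Mathlib.RingTheory.Smooth.Field
import Mathlib.RingTheory.Etale.Kaehler
import Mathlib.RingTheory.Etale.Field
import Mathlib.RingTheory.AlgebraicIndependent.Transcendental
import Mathlib.RingTheory.AlgebraicIndependent.TranscendenceBasis
import Mathlib.FieldTheory.SeparablyGenerated
import Mathlib.FieldTheory.Perfect
import Mathlib.LinearAlgebra.Dimension.Constructions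
import Mathlib.RingTheory.Smooth.StandardSmoothCotangent
import Groth.Agent.Lib.FlatH4.LocCrit
import Mathlib.LinearAlgebra.Matrix.ToLinearEquiv
import Mathlib.LinearAlgebra.Matrix.NonsingularInverse
import Mathlib.RingTheory.Etale.Basic
import Mathlib.RingTheory.Flat.Stability
import Mathlib.RingTheory.Smooth.Flat
import Mathlib.RingTheory.TensorProduct.Quotient
import Mathlib.RingTheory.AdicCompletion.Basic
import Mathlib.FieldTheory.IntermediateField.Adjoin.Algebra

set_option autoImplicit false
universe u v w
open CAlg

namespace Groth.Agent.S13631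
open CAlg

open Matrix

/-- Let k be a field, R an integral domain which is a k-algebra of infinite dimension over k, M a finite
free R-module, σ a ring automorphism of R mapping the image of k onto itself, and φ : M → M a
σ-semilinear map. If the cokernel of φ is finite-dimensional over k, in the sense that some finitely
generated k-subspace N of M satisfies M = N + φ(M), then φ is injective. -/
theorem result
    {k : Type u} {R : Type v} {M : Type w} [Field k] [CommRing R] [IsDomain R] [Algebra k R]
    (hR : ¬ Module.Finite k R)
    [AddCommGroup M] [Module R M] [Module k M] [IsScalarTower k R M]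
    [Module.Finite R M] [Module.Free R M]
    (σ : R ≃+* R)
    (hσ : ∀ x : k, ∃ y : k, σ (algebraMap k R x) = algebraMap k R y)
    (hσ' : ∀ y : k, ∃ x : k, σ (algebraMap k R x) = algebraMap k R y)
    (φ : M →ₛₗ[(σ : R →+* R)] M)
    (hcoker : ∃ N : Submodule k M, N.FG ∧ ∀ m : M, ∃ n ∈ N, ∃ m' : M, m = n + φ m') :
    Function.Injective φ := by
  classical
  rw [injective_iff_map_eq_zero]
  intro m hm
  by_contra hm0
  let b := Module.Free.chooseBasis R M
  let A : Matrix (Module.Free.ChooseBasisIndex R M) (Module.Free.ChooseBasisIndex R M) R :=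
    Matrix.of fun i j => b.repr (φ (b j)) i
  have hφ : ∀ m i, b.repr (φ m) i = (A *ᵥ fun j => σ (b.repr m j)) i := by
    intro m i
    conv_lhs => rw [← b.sum_repr m, map_sum, map_sum, Finset.sum_apply']
    refine Finset.sum_congr rfl fun j _ => ?_
    rw [φ.map_smulₛₗ, map_smul, Finsupp.smul_apply, smul_eq_mul]
    exact mul_comm _ _
  have hdet : A.det = 0 := by
    refine Matrix.exists_mulVec_eq_zero_iff.1 ⟨fun j => σ (b.repr m j), fun h => hm0 ?_, ?_⟩
    · refine b.repr.map_eq_zero_iff.1 (Finsupp.ext fun j => ?_)
      exact σ.map_eq_zero_iff.1 (congrFun h j)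
    · funext i
      rw [← hφ, hm, map_zero]; rfl
  obtain ⟨w, hw0, hw⟩ := Matrix.exists_vecMul_eq_zero_iff.2 hdet
  let lam : M →ₗ[R] R := (Fintype.linearCombination R w).comp b.equivFun.toLinearMap
  have hlam : ∀ m, lam m = b.equivFun m ⬝ᵥ w := fun m => by
    simp [lam, Fintype.linearCombination_apply, dotProduct]
  have hzero : ∀ m', lam (φ m') = 0 := by
    intro m'
    rw [hlam, show b.equivFun (φ m') = A *ᵥ fun j => σ (b.repr m' j) from funext (hφ m'), dotProduct_comm,
      Matrix.dotProduct_mulVec, hw, zero_dotProduct]
  obtain ⟨i, hi⟩ := Function.ne_iff.1 hw0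
  have hlami : lam (b i) = w i := by
    rw [hlam, Module.Basis.equivFun_apply, Module.Basis.repr_self, Finsupp.single_eq_pi_single, single_dotProduct, one_mul]
  obtain ⟨N, hN, hcov⟩ := hcoker
  let g : M →ₗ[k] R := lam.restrictScalars k
  have hfg : (N.map g).FG := hN.map g
  haveI : Module.Finite k (N.map g) := Module.Finite.iff_fg.2 hfg
  let h : R →ₗ[k] N.map g := (g.comp (LinearMap.toSpanSingleton R M (b i) |>.restrictScalars k)).codRestrict (N.map g) fun r => by
    obtain ⟨n, hn, m', e⟩ := hcov (r • b i)
    refine ⟨n, hn, ?_⟩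
    show lam n = lam (r • b i)
    rw [e, map_add, hzero, add_zero]
  refine hR (Module.Finite.of_injective h fun r s e => ?_)
  have e' : lam (r • b i) = lam (s • b i) := congrArg Subtype.val e
  rw [map_smul, map_smul, hlami, smul_eq_mul, smul_eq_mul] at e'
  exact mul_right_cancel₀ hi e'

end Groth.Agent.S13631
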