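import Groth.Statements.S13632
import Mathlib

set_option autoImplicit false
universe u
open TensorProduct
open CAlg

namespace Groth.Agent.S13632

open TensorProduct

lemma exists_smul_mem_of_one_tmul_eq_zero {R B : Type*} [CommRing R] [AddCommGroup B] [Module R B] (p : Ideal R) [p.IsPrime]
    (x : B) (h : (1 : p.ResidueField) ⊗ₜ[R] x = 0) : ∃ s ∉ p, s • x ∈ p • (⊤ : Submodule R B) := by
  let L : (R ⧸ p) →ₗ[R] p.ResidueField := Algebra.linearMap (R ⧸ p) p.ResidueField |>.restrictScalars R
  have hL : IsLocalizedModule p.primeCompl L := by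
    refine ⟨fun s => ?_, fun y => ?_, fun {a b} h => ?_⟩
    · rw [Module.End.isUnit_iff]
      have hs : algebraMap R p.ResidueField (s : R) ≠ 0 := fun h0 => s.2 (Ideal.algebraMap_residueField_eq_zero.1 h0)
      refine ⟨fun a b hab => ?_, fun a => ⟨(algebraMap R p.ResidueField (s : R))⁻¹ * a, ?_⟩⟩
      · simp only [Module.algebraMap_end_apply, Algebra.smul_def] at hab
        exact mul_left_cancel₀ hs hab
      · simp only [Module.algebraMap_end_apply, Algebra.smul_def]
        rw [← mul_assoc, mul_inv_cancel₀ hs, one_mul]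
    · obtain ⟨a, b, hb, rfl⟩ := IsFractionRing.div_surjective (A := R ⧸ p) y
      obtain ⟨b, rfl⟩ := Ideal.Quotient.mk_surjective b
      have hbp : b ∉ p := fun hbp => nonZeroDivisors.ne_zero hb (Ideal.Quotient.eq_zero_iff_mem.2 hbp)
      refine ⟨⟨a, b, hbp⟩, ?_⟩
      have hne : algebraMap (R ⧸ p) p.ResidueField (Ideal.Quotient.mk p b) ≠ 0 :=
        fun h0 => nonZeroDivisors.ne_zero hb (IsFractionRing.injective (R ⧸ p) p.ResidueField (h0.trans (map_zero _).symm))
      show b • _ = algebraMap (R ⧸ p) p.ResidueField a
      rw [Algebra.smul_def, IsScalarTower.algebraMap_apply R (R ⧸ p) p.ResidueField]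
      exact mul_div_cancel₀ _ hne
    · exact ⟨1, by rw [one_smul, one_smul]; exact IsFractionRing.injective (R ⧸ p) p.ResidueField h⟩
  haveI hL' : IsLocalizedModule p.primeCompl (L.rTensor B) := IsLocalizedModule.rTensor (S := p.primeCompl) (R := R) (N := B) (g := L)
  have h1 : L.rTensor B ((1 : R ⧸ p) ⊗ₜ[R] x) = 0 := by
    rw [LinearMap.rTensor_tmul, ← h]
    congr 1
    exact map_one (algebraMap (R ⧸ p) p.ResidueField)
  obtain ⟨s, hs⟩ := (IsLocalizedModule.eq_zero_iff p.primeCompl (L.rTensor B)).1 h1
  refine ⟨s, s.2, ?_⟩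
  have h2 := congrArg (TensorProduct.quotTensorEquivQuotSMul B p) hs
  rw [Submonoid.smul_def, map_smul, map_zero] at h2
  rw [← Submodule.Quotient.mk_eq_zero, Submodule.Quotient.mk_smul]
  convert h2 using 2
  simp

lemma ker_eq_bot_of_local {R A B : Type*} [CommRing R] [CommRing A] [CommRing B] [Algebra R A] [Algebra R B]
    [Module.Flat R A] [Algebra.FinitePresentation R A] [Algebra.FiniteType R B]
    (f : B →ₐ[R] A) (hf : Function.Surjective f)
    (H : ∀ (p : Ideal R), p.IsPrime → ∀ x, f x = 0 → ∃ s ∉ p, s • x ∈ p • (⊤ : Submodule R B))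
    (x : B) (hx : f x = 0) : x = 0 := by
  obtain ⟨n, g, hg⟩ := Algebra.FiniteType.iff_quotient_mvPolynomial''.1 (inferInstance : Algebra.FiniteType R B)
  let K : Ideal B := RingHom.ker f.toRingHom
  have hK : K.FG := by
    have h1 := (Algebra.FinitePresentation.ker_fG_of_surjective (f.comp g) (hf.comp hg)).map g.toRingHom
    have : (RingHom.ker (f.comp g).toRingHom).map g.toRingHom = K := by
      rw [show (f.comp g).toRingHom = f.toRingHom.comp g.toRingHom from rfl, ← RingHom.comap_ker]
      exact Ideal.map_comap_of_surjective _ hg _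
    exact this ▸ h1
  by_contra hne
  obtain ⟨Q, hQ, hle⟩ := Ideal.exists_le_maximal ((Submodule.span B {x}).annihilator) (by
    simpa [Submodule.annihilator_eq_top_iff] using hne)
  let L := Localization.AtPrime Q
  let KL : Ideal L := K.map (algebraMap B L)
  let p := Q.comap (algebraMap R B)
  have hKQ : KL ≤ IsLocalRing.maximalIdeal L • KL := by
    refine Ideal.map_le_iff_le_comap.2 fun y hy => ?_
    obtain ⟨s, hs, hsy⟩ := H p inferInstance y hy
    have h1 : s • y ∈ LinearMap.ker f.toLinearMap ⊓ p • (⊤ : Submodule R B) :=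
      ⟨by show f (s • y) = 0; rw [map_smul, show f y = 0 from hy, smul_zero], hsy⟩
    rw [LinearMap.ker_inf_smul_top_eq_smul_of_flat p f.toLinearMap hf] at h1
    have h2 : algebraMap B L (s • y) ∈ IsLocalRing.maximalIdeal L • KL := by
      refine Submodule.smul_induction_on h1 (fun r hr z hz => ?_) (fun u v hu hv => ?_)
      · rw [Algebra.smul_def, map_mul]
        refine Submodule.smul_mem_smul ((IsLocalization.AtPrime.to_map_mem_maximal_iff L Q _).2 hr) ?_
        exact Ideal.mem_map_of_mem _ hz
      · rw [map_add]; exact add_mem hu hv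
    rw [Algebra.smul_def, map_mul] at h2
    have hu : IsUnit (algebraMap B L (algebraMap R B s)) := IsLocalization.map_units L (⟨_, hs⟩ : Q.primeCompl)
    exact (Ideal.unit_mul_mem_iff_mem _ hu).1 h2
  have h0 : KL = ⊥ := Submodule.eq_bot_of_le_smul_of_le_jacobson_bot _ KL (hK.map _) hKQ
    (IsLocalRing.maximalIdeal_le_jacobson _)
  have hx0 : algebraMap B L x = 0 := by
    have := Ideal.mem_map_of_mem (algebraMap B L) (show x ∈ K from hx)
    rwa [show K.map (algebraMap B L) = ⊥ from h0, Ideal.mem_bot] at this
  obtain ⟨t, ht⟩ := (IsLocalization.map_eq_zero_iff Q.primeCompl L x).1 hx0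
  exact t.2 (hle (Submodule.mem_annihilator_span_singleton _ _ |>.2 ht))



/-- Let S = Spec R, X = Spec A finite and flat over S, Y = Spec B of finite type over S, and φ : X → Y
an S-morphism given by f : B → A. If for every point s of S the fibres X_s and Y_s have the same
order (the κ(s)-dimension of their rings of global sections κ(s) ⊗ A and κ(s) ⊗ B; equivalently at
every geometric point) and φ is an isomorphism over every closed point of S (κ(m) ⊗ f bijective for
every maximal ideal m), then φ is an isomorphism, i.e. f is bijective. (The published statement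
allows an arbitrary base scheme S and Y separated of finite type over S; this row is the case of an
affine base with X and Y affine, the case its proof treats directly. Over a base with no closed
points the general statement fails: the hypothesis at closed points is then empty.) -/
theorem result
    {R A B : Type u} [CommRing R] [CommRing A] [CommRing B] [Algebra R A] [Algebra R B]
    [Module.Finite R A] [Module.Flat R A] [Algebra.FiniteType R B]
    (f : B →ₐ[R] A)
    (hrank : ∀ p : PrimeSpectrum R,
      Module.rank p.asIdeal.ResidueField (p.asIdeal.ResidueField ⊗[R] B) =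
        Module.rank p.asIdeal.ResidueField (p.asIdeal.ResidueField ⊗[R] A))
    (hmax : ∀ (m : Ideal R) [m.IsMaximal],
      Function.Bijective (LinearMap.lTensor m.ResidueField f.toLinearMap)) :
    Function.Bijective f := by
  classical
  haveI : ∀ p : PrimeSpectrum R, Module.Finite p.asIdeal.ResidueField (p.asIdeal.ResidueField ⊗[R] A) := fun _ => inferInstance
  have hsurj : Function.Surjective f := by
    rw [← AlgHom.coe_toLinearMap, ← LinearMap.range_eq_top, ← Submodule.Quotient.subsingleton_iff]
    rw [← Module.support_eq_empty_iff (R := R), Set.eq_empty_iff_forall_notMem]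
    intro q hq
    obtain ⟨m, hm, hle⟩ := Ideal.exists_le_maximal q.asIdeal q.isPrime.ne_top
    have hq' : (⟨m, hm.isPrime⟩ : PrimeSpectrum R) ∈ Module.support R (A ⧸ LinearMap.range f.toLinearMap) :=
      Module.mem_support_mono hle hq
    rw [Module.mem_support_iff_nontrivial_residueField_tensorProduct] at hq'
    have hex : Function.Exact (f.toLinearMap.lTensor m.ResidueField) ((LinearMap.range f.toLinearMap).mkQ.lTensor m.ResidueField) :=
      lTensor_exact _ (LinearMap.exact_map_mkQ_range _) (Submodule.mkQ_surjective _)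
    refine not_subsingleton (m.ResidueField ⊗[R] (A ⧸ LinearMap.range f.toLinearMap)) (subsingleton_of_forall_eq 0 fun z => ?_)
    obtain ⟨w, rfl⟩ := LinearMap.lTensor_surjective m.ResidueField (Submodule.mkQ_surjective _) z
    exact (hex w).2 ((hmax m).2 w)
  refine ⟨?_, hsurj⟩
  have hfib : ∀ (p : Ideal R), p.IsPrime → ∀ x, f x = 0 → ∃ s ∉ p, s • x ∈ p • (⊤ : Submodule R B) := by
    intro p hp x hx
    refine exists_smul_mem_of_one_tmul_eq_zero p x ?_
    let φ := f.toLinearMap.baseChange p.ResidueField
    have hφs : Function.Surjective φ := LinearMap.lTensor_surjective p.ResidueField hsurj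
    haveI : Module.Finite p.ResidueField (p.ResidueField ⊗[R] B) := by
      rw [← Module.rank_lt_aleph0_iff, hrank ⟨p, hp⟩, Module.rank_lt_aleph0_iff]; infer_instance
    have hfr : Module.finrank p.ResidueField (p.ResidueField ⊗[R] B) = Module.finrank p.ResidueField (p.ResidueField ⊗[R] A) :=
      congrArg Cardinal.toNat (hrank ⟨p, hp⟩)
    refine (LinearMap.injective_iff_surjective_of_finrank_eq_finrank hfr).2 hφs ?_
    rw [map_zero]
    show (1 : p.ResidueField) ⊗ₜ[R] f x = 0
    rw [hx, tmul_zero]
  rw [injective_iff_map_eq_zero]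
  intro x hx
  by_contra hne
  obtain ⟨m, hm, hle⟩ := Ideal.exists_le_maximal ((Submodule.span R {x}).annihilator) (by
    simpa [Submodule.annihilator_eq_top_iff] using hne)
  let R' := Localization.AtPrime m
  let f' : R' ⊗[R] B →ₐ[R'] R' ⊗[R] A := Algebra.TensorProduct.map (AlgHom.id R' R') f
  haveI : Module.Free R' (R' ⊗[R] A) := Module.free_of_flat_of_isLocalRing
  haveI : Module.FinitePresentation R' (R' ⊗[R] A) := Module.finitePresentation_of_projective R' _
  haveI : Algebra.FinitePresentation R' (R' ⊗[R] A) := inferInstance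
  let ι : B →ₗ[R] R' ⊗[R] B := TensorProduct.mk R R' B 1
  haveI : IsLocalizedModule m.primeCompl ι :=
    (isLocalizedModule_iff_isBaseChange m.primeCompl R' _).2 (TensorProduct.isBaseChange R B R')
  haveI : IsLocalizedModule m.primeCompl (TensorProduct.mk R R' A 1) :=
    (isLocalizedModule_iff_isBaseChange m.primeCompl R' _).2 (TensorProduct.isBaseChange R A R')
  have hmain : ι x = 0 := by
    refine ker_eq_bot_of_local f' (fun y => ?_) (fun p' hp' y hy => ?_) _ ?_
    · obtain ⟨z, hz⟩ := LinearMap.lTensor_surjective R' (g := f.toLinearMap) hsurj y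
      exact ⟨z, hz⟩
    · obtain ⟨⟨b, t⟩, hbt⟩ := IsLocalizedModule.surj m.primeCompl ι y
      replace hbt : algebraMap R R' (t : R) • y = ι b := by rw [algebraMap_smul]; exact hbt
      have h1 : TensorProduct.mk R R' A 1 (f b) = 0 := by
        have h2 := congrArg f' hbt
        rw [map_smul, hy, smul_zero] at h2
        exact h2.symm
      obtain ⟨t', ht'⟩ := (IsLocalizedModule.eq_zero_iff m.primeCompl (TensorProduct.mk R R' A 1)).1 h1
      rw [Submonoid.smul_def] at ht'
      obtain ⟨s, hs, hsb⟩ := hfib (p'.comap (algebraMap R R')) inferInstance ((t' : R) • b) (by rw [map_smul, ht'])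
      refine ⟨algebraMap R R' (s * t' * t), fun hmem => ?_, ?_⟩
      · have hut : ∀ u : m.primeCompl, algebraMap R R' (u : R) ∉ p' := fun u hu =>
          hp'.ne_top (Ideal.eq_top_of_isUnit_mem _ hu (IsLocalization.map_units R' u))
        rw [map_mul, map_mul] at hmem
        rcases hp'.mem_or_mem hmem with h | h
        · rcases hp'.mem_or_mem h with h' | h'
          · exact hs h'
          · exact hut t' h'
        · exact hut t h
      · rw [map_mul, mul_smul, hbt, algebraMap_smul, ← map_smul, mul_smul]
        refine Submodule.smul_induction_on hsb (fun r hr z _ => ?_) (fun u v hu hv => ?_)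
        · rw [map_smul, ← algebraMap_smul R' r (ι z)]
          exact Submodule.smul_mem_smul hr Submodule.mem_top
        · rw [map_add]; exact add_mem hu hv
    · show (1 : R') ⊗ₜ[R] f x = 0
      rw [hx, tmul_zero]
  obtain ⟨t, ht⟩ := (IsLocalizedModule.eq_zero_iff m.primeCompl ι).1 hmain
  exact t.2 (hle ((Submodule.mem_annihilator_span_singleton _ _).2 ht))

end Groth.Agent.S13632
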