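import Mathlib.AlgebraicGeometry.Morphisms.Finite
import Mathlib.AlgebraicGeometry.Morphisms.FiniteType
import Mathlib.CategoryTheory.Monoidal.Cartesian.Over
import Mathlib.CategoryTheory.Monoidal.Cartesian.Grp
import Mathlib.FieldTheory.IsAlgClosed.AlgebraicClosure
import Groth.Agent.Lib.FinTestIso3.Scheme
-- import your own Groth.Agent.* helpers here

namespace GrpSch
end GrpSch

set_option autoImplicit false
universe u
open CategoryTheory CategoryTheory.Limits MonoidalCategory CartesianMonoidalCategory MonObj AlgebraicGeometry
open GrpSch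

namespace Groth.Agent.S13633

/-- Let k be a field, K an algebraic closure of k, and ψ : G → H a homomorphism of commutative affine
group schemes of finite type over k. Assume that for every finite commutative group scheme I over k
the map Hom(I, G) → Hom(I, H), f ↦ f ≫ ψ, on group-scheme homomorphisms is bijective, and that ψ
induces a bijection G(K) → H(K) on K-valued points. Then ψ is an isomorphism. (All group schemes are
commutative by the standing convention.) -/
theorem result
    {k : Type u} [Field k] (K : Type u) [Field K] [Algebra k K] [IsAlgClosure k K]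
    (G H : Over (Spec (CommRingCat.of k)))
    [GrpObj G] [IsCommMonObj G] [GrpObj H] [IsCommMonObj H]
    [IsAffine G.left] [IsAffine H.left] [LocallyOfFiniteType G.hom] [LocallyOfFiniteType H.hom]
    (ψ : G ⟶ H) [IsMonHom ψ]
    (hinj : ∀ (I : Over (Spec (CommRingCat.of k))) [GrpObj I] [IsCommMonObj I] [IsFinite I.hom]
      (f g : I ⟶ G) [IsMonHom f] [IsMonHom g], f ≫ ψ = g ≫ ψ → f = g)
    (hsurj : ∀ (I : Over (Spec (CommRingCat.of k))) [GrpObj I] [IsCommMonObj I] [IsFinite I.hom]
      (h : I ⟶ H) [IsMonHom h], ∃ f : I ⟶ G, IsMonHom f ∧ f ≫ ψ = h)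
    (hpts : Function.Bijective fun x : Over.mk (Spec.map (CommRingCat.ofHom (algebraMap k K))) ⟶ G => x ≫ ψ) :
    IsIso ψ := by
  exact Groth.Agent.FinTestIso3.isIso_of_finite_tests K G H ψ hinj hsurj hpts

end Groth.Agent.S13633
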