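import Groth.Statements.S13635
import Groth.Agent.Lib.MultSch23.Basic

set_option autoImplicit false
universe u w
open CategoryTheory CategoryTheory.Limits MonoidalCategory CartesianMonoidalCategory MonObj AlgebraicGeometry
open MultSch

namespace Groth.Agent.S13635

/-- Let M₁ → M₂ → M₃ → 0 be a sequence of R-module schemes over a scheme S, with R-linear homomorphisms
j : M₁ → M₂ and π : M₂ → M₃, exact as a sequence of fppf sheaves. For n ≥ 1 and an R-module scheme
N, the sequence 0 → Alt(M₃^n, N) → Alt(M₂^n, N) → Alt(M₁ × M₂^(n-1), N) of R-multilinear alternating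
morphisms is exact: an R-multilinear alternating φ : M₂^n → N which is trivial on all points with
first coordinate in the image of j is of the form φ' ∘ π^n for a unique morphism φ' : M₃^n → N
(unique among all morphisms), and this φ' is R-multilinear and alternating. -/
theorem result
    {S : Scheme.{u}} {R : Type w} [CommRing R] {M₁ M₂ M₃ N : Over S}
    [GrpObj M₁] [IsCommMonObj M₁] [GrpObj M₂] [IsCommMonObj M₂] [GrpObj M₃] [IsCommMonObj M₃]
    [GrpObj N] [IsCommMonObj N]
    (ρ₁ : MultSch.RMod R M₁) (ρ₂ : MultSch.RMod R M₂) (ρ₃ : MultSch.RMod R M₃) (ρN : MultSch.RMod R N)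
    (j : M₁ ⟶ M₂) (π : M₂ ⟶ M₃) [IsMonHom j] [IsMonHom π]
    (hj : ∀ a : R, j ≫ ρ₂.act a = ρ₁.act a ≫ j) (hπ : ∀ a : R, π ≫ ρ₃.act a = ρ₂.act a ≫ π)
    (w : j ≫ π = 1) (hex : (CGrpSh.seq Scheme.fppfPrecoverage j π w).Exact)
    (hepi : Epi (CGrpSh.ptsMap Scheme.fppfPrecoverage π))
    {n : ℕ} (hn : 1 ≤ n) (φ : MultSch.pow M₂ n ⟶ N)
    (hmult : MultSch.IsMultilinear φ) (hlin : MultSch.IsRLinear ρ₂ ρN φ) (halt : MultSch.IsAlternating φ)
    (hvan : ∀ (T : Over S) (y : T ⟶ M₁) (x : Fin n → (T ⟶ M₂)), x ⟨0, hn⟩ = y ≫ j →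
      MultSch.tuple x ≫ φ = 1) :
    ∃ φ' : MultSch.pow M₃ n ⟶ N,
      (∀ (T : Over S) (x : Fin n → (T ⟶ M₂)), MultSch.tuple x ≫ φ = MultSch.tuple (fun l => x l ≫ π) ≫ φ') ∧
      MultSch.IsMultilinear φ' ∧ MultSch.IsRLinear ρ₃ ρN φ' ∧ MultSch.IsAlternating φ' ∧
      ∀ φ'' : MultSch.pow M₃ n ⟶ N,
        (∀ (T : Over S) (x : Fin n → (T ⟶ M₂)), MultSch.tuple x ≫ φ = MultSch.tuple (fun l => x l ≫ π) ≫ φ'') →
          φ'' = φ' := by
  classical
  let K := Scheme.fppfPrecoverage.{u}
  haveI := hepi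
  have hup : ∀ {A B : Over S} {T V : Over S} (f : (T ⟶ A) → (V ⟶ B)) (x : Fin n → (T ⟶ A)) (i : Fin n) (b : T ⟶ A),
      (fun l => f (Function.update x i b l)) = Function.update (fun l => f (x l)) i (f b) := by
    intro A B T V f x i b
    exact Function.comp_update f x i b
  have hnat : ∀ {T V : Over S} (g : V ⟶ T) (x : Fin n → (T ⟶ M₂)),
      g ≫ MultSch.tuple x ≫ φ = MultSch.tuple (fun l => g ≫ x l) ≫ φ := fun g x => by
    rw [← Category.assoc, MultSch23.comp_tuple]
  -- vanishing in every slot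
  have hslot : ∀ (T : Over S) (i : Fin n) (y : T ⟶ M₁) (x : Fin n → (T ⟶ M₂)), x i = y ≫ j →
      MultSch.tuple x ≫ φ = 1 := by
    intro T i y x hx
    by_cases h : i = ⟨0, hn⟩
    · exact hvan T y x (h ▸ hx)
    · have h1 : MultSch23.val φ (Function.update (Function.update x ⟨0, hn⟩ (x i)) i (x ⟨0, hn⟩)) = 1 :=
        hvan T y _ (by rw [Function.update_of_ne (Ne.symm h), Function.update_self, hx])
      have h2 := MultSch23.val_swap φ hmult halt x ⟨0, hn⟩ i (Ne.symm h)
      rwa [h1, _root_.one_mul] at h2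
  -- the value in one slot depends only on the image in the quotient
  have hone : ∀ (T : Over S) (x : Fin n → (T ⟶ M₂)) (i : Fin n) (y : T ⟶ M₂), y ≫ π = x i ≫ π →
      MultSch.tuple (Function.update x i y) ≫ φ = MultSch.tuple x ≫ φ := by
    intro T x i y hy
    have hd : (y * (x i)⁻¹) ≫ π = 1 := by rw [MonObj.mul_comp, GrpObj.inv_comp, hy, mul_inv_cancel]
    have hv : MultSch.tuple (Function.update x i (y * (x i)⁻¹)) ≫ φ = 1 := by
      refine GrpShEx23.hom_ext_of_cover K (GrpShEx23.liftSieve_mem_of_exact K j π w hex _ hd) _ _ ?_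
      rintro V g ⟨y', hy'⟩
      rw [hnat, MonObj.comp_one, hup (g ≫ ·)]
      exact hslot V i y' _ (by rw [Function.update_self, ← hy'])
    conv_lhs => rw [← inv_mul_cancel_right y (x i), hmult, hv, _root_.one_mul, Function.update_eq_self]
  -- the value depends only on the images in the quotient
  have hwell : ∀ (T : Over S) (x y : Fin n → (T ⟶ M₂)), (∀ l, x l ≫ π = y l ≫ π) →
      MultSch.tuple x ≫ φ = MultSch.tuple y ≫ φ := by
    intro T x y h
    have hs : ∀ s : Finset (Fin n), MultSch.tuple (s.piecewise x y) ≫ φ = MultSch.tuple y ≫ φ := by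
      intro s
      induction s using Finset.induction_on with
      | empty => rw [Finset.piecewise_empty]
      | insert a s ha ih =>
        rw [Finset.piecewise_insert, hone _ _ _ _ (by rw [Finset.piecewise_eq_of_notMem _ _ _ ha, h a]), ih]
    simpa using hs Finset.univ
  let c : Fin n → (MultSch.pow M₃ n ⟶ M₃) := fun l => MultSch23.coord l
  obtain ⟨φ', hφ'⟩ := GrpShEx23.exists_glue K (MultSch23.liftsSieve_mem K π c)
    (fun V g hg => MultSch.tuple (fun l => (hg l).choose) ≫ φ) (fun V W g hg e => by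
      rw [hnat]
      refine hwell _ _ _ fun l => ?_
      refine (Exists.choose_spec ((GrpShEx23.liftSieve π (c l)).downward_closed (hg l) e :
        ∃ a, a ≫ π = (e ≫ g) ≫ c l)).trans ?_
      simp only [Category.assoc]
      exact congrArg (e ≫ ·) (Exists.choose_spec (hg l : ∃ a, a ≫ π = g ≫ c l)).symm)
  have hkey : ∀ (T : Over S) (x : Fin n → (T ⟶ M₂)),
      MultSch.tuple x ≫ φ = MultSch.tuple (fun l => x l ≫ π) ≫ φ' := by
    intro T x
    have hτ : MultSch23.liftsSieve π c (MultSch.tuple fun l => x l ≫ π) :=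
      fun l => ⟨x l, (MultSch23.tuple_comp_coord (fun l => x l ≫ π) l).symm⟩
    rw [hφ' _ hτ]
    refine hwell _ _ _ fun l => ?_
    exact (MultSch23.tuple_comp_coord (fun l => x l ≫ π) l).symm.trans (hτ l).choose_spec.symm
  refine ⟨φ', hkey, ?_, ?_, ?_, ?_⟩
  · intro T x i y z
    refine GrpShEx23.hom_ext_of_cover K (GrothendieckTopology.intersection_covering _ (MultSch23.liftsSieve_mem K π x)
      (GrothendieckTopology.intersection_covering _ (GrpShEx23.liftSieve_mem K π y) (GrpShEx23.liftSieve_mem K π z))) _ _ ?_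
    rintro V g ⟨hx, ⟨a, ha⟩, ⟨b, hb⟩⟩
    choose e he using hx
    simp only [MonObj.comp_mul, ← Category.assoc, MultSch23.comp_tuple, hup (g ≫ ·), MonObj.comp_mul]
    rw [← funext he, ← ha, ← hb, ← MonObj.mul_comp, ← hup (· ≫ π), ← hup (· ≫ π), ← hup (· ≫ π),
      ← hkey, ← hkey, ← hkey]
    exact hmult V e i a b
  · intro T x i r
    refine GrpShEx23.hom_ext_of_cover K (MultSch23.liftsSieve_mem K π x) _ _ ?_
    intro V g hx
    choose e he using hx
    simp only [← Category.assoc, MultSch23.comp_tuple, hup (g ≫ ·)]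
    rw [← funext he, ← he i, Category.assoc (e i) π, hπ, ← Category.assoc (e i), ← hup (· ≫ π), ← hkey, ← hkey]
    exact hlin V e i r
  · intro T x i i' hii hx
    refine GrpShEx23.hom_ext_of_cover K (MultSch23.liftsSieve_mem K π x) _ _ ?_
    intro V g hg
    let f : (T ⟶ M₃) → (V ⟶ M₂) := fun y => if h : ∃ b : V ⟶ M₂, b ≫ π = g ≫ y then h.choose else 1
    have hf : ∀ l, f (x l) ≫ π = g ≫ x l := fun l => by
      simp only [f, dif_pos (show ∃ b : V ⟶ M₂, b ≫ π = g ≫ x l from hg l)]
      exact (show ∃ b : V ⟶ M₂, b ≫ π = g ≫ x l from hg l).choose_spec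
    rw [MonObj.comp_one, ← Category.assoc, MultSch23.comp_tuple, ← funext hf, ← hkey]
    exact halt V (fun l => f (x l)) i i' hii (congrArg f hx)
  · intro φ'' h''
    refine GrpShEx23.hom_ext_of_cover K (MultSch23.liftsSieve_mem K π c) _ _ ?_
    intro V g hg
    choose e he using hg
    have eg : g = MultSch.tuple (fun l => e l ≫ π) := by
      rw [funext he, ← MultSch23.comp_tuple, MultSch23.tuple_coord, Category.comp_id]
    rw [eg, ← h'', ← hkey]
end Groth.Agent.S13635
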