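import Groth.Statements.S13636
import Groth.Agent.Lib.GrpShEx23.Glue

set_option autoImplicit false
universe u w
open CategoryTheory CategoryTheory.Limits MonoidalCategory CartesianMonoidalCategory MonObj AlgebraicGeometry
open MultSch

namespace Groth.Agent.S13636

/-- Let M' → M → M'' → 0 be a sequence of R-module schemes over a scheme S, with R-linear homomorphisms
j and π, exact as fppf sheaves, and let ψ : P × M × Q → N be a morphism to an R-module scheme N
which is additive and R-linear in the coordinate M (on T-valued points) and trivial on all points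
whose M-coordinate lies in the image of j. Then ψ = ψ' ∘ (id × π × id) for a unique morphism ψ' : P
× M'' × Q → N, and ψ' is additive and R-linear in the coordinate M''. (The published statement has a
product M₁ × ⋯ × M_r of R-module schemes with the exact sequence in the i-th factor and ψ
R-multilinear; here the factors before and after the i-th are collected into single S-schemes P and
Q, and only linearity in the i-th coordinate, the one the statement is about, is carried; linearity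
in the other coordinates passes between ψ and ψ' formally.) -/
theorem result
    {S : Scheme.{u}} {R : Type w} [CommRing R] {P Q M' M M'' N : Over S}
    [GrpObj M'] [IsCommMonObj M'] [GrpObj M] [IsCommMonObj M] [GrpObj M''] [IsCommMonObj M'']
    [GrpObj N] [IsCommMonObj N]
    (ρ' : MultSch.RMod R M') (ρ : MultSch.RMod R M) (ρ'' : MultSch.RMod R M'') (ρN : MultSch.RMod R N)
    (j : M' ⟶ M) (π : M ⟶ M'') [IsMonHom j] [IsMonHom π]
    (hj : ∀ a : R, j ≫ ρ.act a = ρ'.act a ≫ j) (hπ : ∀ a : R, π ≫ ρ''.act a = ρ.act a ≫ π)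
    (w : j ≫ π = 1) (hex : (CGrpSh.seq Scheme.fppfPrecoverage j π w).Exact)
    (hepi : Epi (CGrpSh.ptsMap Scheme.fppfPrecoverage π))
    (ψ : P ⊗ (M ⊗ Q) ⟶ N)
    (hadd : ∀ (T : Over S) (p : T ⟶ P) (q : T ⟶ Q) (y z : T ⟶ M),
      lift p (lift (y * z) q) ≫ ψ = (lift p (lift y q) ≫ ψ) * (lift p (lift z q) ≫ ψ))
    (hlin : ∀ (T : Over S) (p : T ⟶ P) (q : T ⟶ Q) (y : T ⟶ M) (a : R),
      lift p (lift (y ≫ ρ.act a) q) ≫ ψ = (lift p (lift y q) ≫ ψ) ≫ ρN.act a)
    (hvan : ∀ (T : Over S) (p : T ⟶ P) (q : T ⟶ Q) (y' : T ⟶ M'), lift p (lift (y' ≫ j) q) ≫ ψ = 1) :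
    ∃ ψ' : P ⊗ (M'' ⊗ Q) ⟶ N,
      (P ◁ (π ▷ Q)) ≫ ψ' = ψ ∧
      (∀ (T : Over S) (p : T ⟶ P) (q : T ⟶ Q) (y z : T ⟶ M''),
        lift p (lift (y * z) q) ≫ ψ' = (lift p (lift y q) ≫ ψ') * (lift p (lift z q) ≫ ψ')) ∧
      (∀ (T : Over S) (p : T ⟶ P) (q : T ⟶ Q) (y : T ⟶ M'') (a : R),
        lift p (lift (y ≫ ρ''.act a) q) ≫ ψ' = (lift p (lift y q) ≫ ψ') ≫ ρN.act a) ∧
      ∀ ψ'' : P ⊗ (M'' ⊗ Q) ⟶ N, (P ◁ (π ▷ Q)) ≫ ψ'' = ψ → ψ'' = ψ' := by
  classical
  let K := Scheme.fppfPrecoverage.{u}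
  haveI := hepi
  let val : ∀ {T : Over S}, (T ⟶ P) → (T ⟶ M) → (T ⟶ Q) → (T ⟶ N) := fun p y q => lift p (lift y q) ≫ ψ
  have hnat : ∀ {T V : Over S} (g : V ⟶ T) (p : T ⟶ P) (y : T ⟶ M) (q : T ⟶ Q),
      g ≫ val p y q = val (g ≫ p) (g ≫ y) (g ≫ q) := fun g p y q => by
    simp only [val, ← Category.assoc, comp_lift]
  -- the value depends only on the image in the quotient
  have hwell : ∀ {T : Over S} (p : T ⟶ P) (q : T ⟶ Q) (y₁ y₂ : T ⟶ M), y₁ ≫ π = y₂ ≫ π →
      val p y₁ q = val p y₂ q := by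
    intro T p q y₁ y₂ hy
    have hd : (y₁ * y₂⁻¹) ≫ π = 1 := by rw [MonObj.mul_comp, GrpObj.inv_comp, hy, mul_inv_cancel]
    have hv : val p (y₁ * y₂⁻¹) q = 1 := by
      refine GrpShEx23.hom_ext_of_cover K (GrpShEx23.liftSieve_mem_of_exact K j π w hex _ hd) _ _ ?_
      rintro V g ⟨y', hy'⟩
      rw [hnat, MonObj.comp_one, ← hy']
      exact hvan V _ _ y'
    calc val p y₁ q = val p (y₁ * y₂⁻¹ * y₂) q := by rw [inv_mul_cancel_right]
      _ = val p (y₁ * y₂⁻¹) q * val p y₂ q := hadd T p q _ _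
      _ = val p y₂ q := by rw [hv, _root_.one_mul]
  let T₀ := P ⊗ (M'' ⊗ Q)
  let p₀ : T₀ ⟶ P := fst P _
  let y₀ : T₀ ⟶ M'' := snd P _ ≫ fst M'' Q
  let q₀ : T₀ ⟶ Q := snd P _ ≫ snd M'' Q
  obtain ⟨ψ', hψ'⟩ := GrpShEx23.exists_glue K (GrpShEx23.liftSieve_mem K π y₀)
    (fun V g hg => val (g ≫ p₀) hg.choose (g ≫ q₀)) (fun V W g hg e => by
      rw [hnat]
      simp only [Category.assoc]
      refine hwell _ _ _ _ (Eq.trans (Exists.choose_spec
        ((GrpShEx23.liftSieve π y₀).downward_closed hg e : ∃ a, a ≫ π = (e ≫ g) ≫ y₀)) ?_)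
      simp only [Category.assoc]
      exact congrArg (e ≫ ·) (Exists.choose_spec (hg : ∃ a, a ≫ π = g ≫ y₀)).symm)
  have hkey : ∀ (T : Over S) (p : T ⟶ P) (y : T ⟶ M) (q : T ⟶ Q),
      lift p (lift (y ≫ π) q) ≫ ψ' = lift p (lift y q) ≫ ψ := by
    intro T p y q
    set τ := lift p (lift (y ≫ π) q)
    have hτ : GrpShEx23.liftSieve π y₀ τ := ⟨y, by simp [τ, y₀]⟩
    rw [hψ' τ hτ]
    have e1 : τ ≫ p₀ = p := by simp [τ, p₀]
    have e2 : τ ≫ q₀ = q := by simp [τ, q₀]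
    rw [e1, e2]
    exact hwell _ _ _ _ (by rw [hτ.choose_spec]; simp [τ, y₀])
  refine ⟨ψ', ?_, ?_, ?_, ?_⟩
  · have e0 : lift (fst P (M ⊗ Q)) (lift (snd P _ ≫ fst M Q) (snd P _ ≫ snd M Q)) = 𝟙 (P ⊗ (M ⊗ Q)) := by
      refine CartesianMonoidalCategory.hom_ext _ _ ?_ ?_
      · simp
      · refine CartesianMonoidalCategory.hom_ext _ _ ?_ ?_ <;> simp
    have h := hkey (P ⊗ (M ⊗ Q)) (fst P _) (snd P _ ≫ fst M Q) (snd P _ ≫ snd M Q)
    rw [e0, Category.id_comp] at h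
    rw [← h]
    congr 1
    refine CartesianMonoidalCategory.hom_ext _ _ ?_ ?_
    · simp
    · refine CartesianMonoidalCategory.hom_ext _ _ ?_ ?_ <;> simp
  · intro T p q y z
    refine GrpShEx23.hom_ext_of_cover K (GrothendieckTopology.intersection_covering _
      (GrpShEx23.liftSieve_mem K π y) (GrpShEx23.liftSieve_mem K π z)) _ _ ?_
    rintro V g ⟨⟨a, ha⟩, ⟨b, hb⟩⟩
    simp only [← Category.assoc, MonObj.comp_mul, comp_lift]
    rw [← ha, ← hb, ← MonObj.mul_comp, hkey, hkey, hkey]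
    exact hadd V _ _ a b
  · intro T p q y r
    refine GrpShEx23.hom_ext_of_cover K (GrpShEx23.liftSieve_mem K π y) _ _ ?_
    rintro V g ⟨a, ha⟩
    simp only [← Category.assoc, comp_lift]
    rw [← ha, Category.assoc a π, hπ, ← Category.assoc a, hkey, hkey]
    exact hlin V _ _ a r
  · intro ψ'' hψ''
    refine GrpShEx23.hom_ext_of_cover K (GrpShEx23.liftSieve_mem K π y₀) _ _ ?_
    rintro V g ⟨a, ha⟩
    have eg : g = lift (g ≫ p₀) (lift (a ≫ π) (g ≫ q₀)) := by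
      apply CartesianMonoidalCategory.hom_ext
      · simp [p₀]
      · apply CartesianMonoidalCategory.hom_ext <;> simp [q₀, y₀, ha]
    rw [eg, hkey, ← hψ'', ← Category.assoc (lift (g ≫ p₀) (lift a (g ≫ q₀)))]
    congr 1
    refine CartesianMonoidalCategory.hom_ext _ _ ?_ ?_
    · simp
    · refine CartesianMonoidalCategory.hom_ext _ _ ?_ ?_ <;> simp
end Groth.Agent.S13636
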