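import Groth.Statements.S13644
import Groth.Agent.Lib.FormalModH7.CplAlgKer
import Groth.Agent.Lib.ClSub24.Proper

set_option autoImplicit false
open CategoryTheory CategoryTheory.Limits AlgebraicGeometry
universe u
open FSch

namespace Groth.Agent.S13644

/-- Suppose A is a Noetherian ring that is adic with J as an ideal of definition, put Y = Spec A, and
take f : X ⟶ Y separated of finite type, with X̂ the completion of X along f⁻¹(V(J)). Say an
O_X̂-module is algebraizable if it is isomorphic to the completion of some coherent O_X-module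
having support proper over Y. Then, given any morphism u : 𝔉 ⟶ 𝔊 between algebraizable O_X̂-modules,
each of Ker(u), Im(u) and Coker(u) is again algebraizable. -/
theorem result (A : Type u) [CommRing A] [IsNoetherianRing A] (J : Ideal A) [IsAdicComplete J A]
    {X : Scheme.{u}} (f : X ⟶ Spec (CommRingCat.of A)) [IsSeparated f] [LocallyOfFiniteType f] [QuasiCompact f]
    (𝓘 : X.IdealSheafData) (h𝓘 : 𝓘 = (FSch.idealSpec A J).comap f)
    (hX : (FSch.completionAlong X 𝓘).IsFormal)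
    (𝔉 𝔊 : FSch.ModF (FSch.completionAlong X 𝓘) hX)
    (h𝔉 : (∃ G : X.Modules, Coh.IsCoh G ∧ ClSub.IsProperOver f (CohB1.support G) ∧
        Nonempty (𝔉 ≅ (FSch.complMod 𝓘 G).realMod hX)))
    (h𝔊 : (∃ G : X.Modules, Coh.IsCoh G ∧ ClSub.IsProperOver f (CohB1.support G) ∧
        Nonempty (𝔊 ≅ (FSch.complMod 𝓘 G).realMod hX))) (u : 𝔉 ⟶ 𝔊) :
    (∃ G : X.Modules, Coh.IsCoh G ∧ ClSub.IsProperOver f (CohB1.support G) ∧
        Nonempty (kernel u ≅ (FSch.complMod 𝓘 G).realMod hX)) ∧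
    (∃ G : X.Modules, Coh.IsCoh G ∧ ClSub.IsProperOver f (CohB1.support G) ∧
        Nonempty (Abelian.image u ≅ (FSch.complMod 𝓘 G).realMod hX)) ∧
    (∃ G : X.Modules, Coh.IsCoh G ∧ ClSub.IsProperOver f (CohB1.support G) ∧
        Nonempty (cokernel u ≅ (FSch.complMod 𝓘 G).realMod hX)) := by
  haveI : IsLocallyNoetherian X := LocallyOfFiniteType.isLocallyNoetherian f
  letI : X.Over (Spec (CommRingCat.of A)) := ⟨f⟩
  haveI : LocallyOfFiniteType (X ↘ Spec (CommRingCat.of A)) := ‹LocallyOfFiniteType f›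
  haveI : QuasiCompact (X ↘ Spec (CommRingCat.of A)) := ‹QuasiCompact f›
  obtain ⟨F, hF, hFs, ⟨eF⟩⟩ := h𝔉
  obtain ⟨G, hG, hGs, ⟨eG⟩⟩ := h𝔊
  obtain ⟨φ, hφ⟩ := Groth.Agent.FormalModH7.exists_complModMap_eq J 𝓘 h𝓘 hX hF hG
    (Groth.Agent.ClSub24.isProperOver_subset _ Set.inter_subset_left
      ((Groth.Agent.M1.isClosed_support hF.2).inter (Groth.Agent.M1.isClosed_support hG.2)) hFs)
    (eF.inv ≫ u ≫ eG.hom)
  have w : u ≫ eG.hom = eF.hom ≫ Groth.Agent.FormalModH7.cplHom hX φ := by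
    rw [show Groth.Agent.FormalModH7.cplHom hX φ = eF.inv ≫ u ≫ eG.hom from hφ, Iso.hom_inv_id_assoc]
  have sub : ∀ (M : X.Modules), Coh.IsCoh M → ∀ S : Set X, ClSub.IsProperOver f S → CohB1.support M ⊆ S →
      ClSub.IsProperOver f (CohB1.support M) := fun M hM S hS hsub =>
    Groth.Agent.ClSub24.isProperOver_subset f hsub (Groth.Agent.M1.isClosed_support hM.2) hS
  obtain ⟨e₁⟩ := Groth.Agent.FormalModH7.nonempty_kernel_cplHom hX hF hG φ
  obtain ⟨e₂⟩ := Groth.Agent.FormalModH7.nonempty_image_cplHom hX hF hG φ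
  obtain ⟨e₃⟩ := Groth.Agent.FormalModH7.nonempty_cokernel_cplHom hX hF hG φ
  have hC := Groth.Agent.M1.isCoh_cokernel hF.1 hG φ
  have hI : Coh.IsCoh (Abelian.image φ) := Groth.Agent.M1.isCoh_kernel hG hC.1 _
  let c := cokernel.mapIso u (Groth.Agent.FormalModH7.cplHom hX φ) eF eG w
  refine ⟨⟨kernel φ, Groth.Agent.M1.isCoh_kernel hF hG.1 φ,
      sub _ (Groth.Agent.M1.isCoh_kernel hF hG.1 φ) _ hFs (Groth.Agent.CohFound.support_subset_of_mono (kernel.ι φ)),
      ⟨kernel.mapIso u _ eF eG w ≪≫ e₁⟩⟩,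
    ⟨Abelian.image φ, hI, sub _ hI _ hGs (Groth.Agent.CohFound.support_subset_of_mono (Abelian.image.ι φ)),
      ⟨kernel.mapIso (cokernel.π u) (cokernel.π _) eG c (by simp [c]) ≪≫ e₂⟩⟩,
    ⟨cokernel φ, hC, sub _ hC _ hGs (Groth.Agent.CohFound.support_subset_of_epi (cokernel.π φ)), ⟨c ≪≫ e₃⟩⟩⟩

end Groth.Agent.S13644
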