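import Groth.Statements.S13647
import Groth.Agent.Lib.ProperFormalH7.Bc
import Groth.Agent.Lib.ClSub24.Proper
import Groth.Agent.Lib.ProperFormalH7.SuppPush
import Groth.Agent.Lib.ModM1.Coh

set_option autoImplicit false
open CategoryTheory CategoryTheory.Limits AlgebraicGeometry
universe u
open FSch

namespace Groth.Agent.S13647

/-- Suppose A is a Noetherian ring that is adic with J as an ideal of definition, and put Y = Spec A.
Consider finite-type morphisms f : X ⟶ Y and h : Z ⟶ Y together with a proper Y-morphism g : Z ⟶ X.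
Write X̂ and Ẑ for the completions along the preimages of V(J), and ĝ : Ẑ ⟶ X̂ for the map on
completions induced by g. A module on X̂ (resp. Ẑ) is termed algebraizable if it is isomorphic to
the completion of some coherent module on X (resp. Z) having support proper over Y. Under these
assumptions, whenever 𝔉 is an algebraizable O_Ẑ-module, its direct image ĝ_* 𝔉 is again an
algebraizable O_X̂-module. -/
theorem result (A : Type u) [CommRing A] [IsNoetherianRing A]
    (J : Ideal A) [IsAdicComplete J A] {X Z : Scheme.{u}} (f : X ⟶ Spec (CommRingCat.of A))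
    [LocallyOfFiniteType f] [QuasiCompact f] (h : Z ⟶ Spec (CommRingCat.of A)) [LocallyOfFiniteType h]
    [QuasiCompact h] (g : Z ⟶ X) (hg : g ≫ f = h) [IsProper g]
    (𝓘 : X.IdealSheafData) (h𝓘 : 𝓘 = (FSch.idealSpec A J).comap f)
    (𝓚 : Z.IdealSheafData) (h𝓚 : 𝓚 = (FSch.idealSpec A J).comap h)
    (hX : (FSch.completionAlong X 𝓘).IsFormal) (hZ : (FSch.completionAlong Z 𝓚).IsFormal)
    (hpc : FSch.PowCompat g 𝓚 𝓘) (𝔉 : FSch.ModF (FSch.completionAlong Z 𝓚) hZ)
    (a𝔉 : (∃ G : Z.Modules, Coh.IsCoh G ∧ ClSub.IsProperOver h (CohB1.support G) ∧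
        Nonempty (𝔉 ≅ (FSch.complMod 𝓚 G).realMod hZ))) :
    (∃ G : X.Modules, Coh.IsCoh G ∧ ClSub.IsProperOver f (CohB1.support G) ∧
        Nonempty ((FSch.pushF (FSch.completionMap g 𝓚 𝓘 hpc) hZ hX).obj 𝔉 ≅ (FSch.complMod 𝓘 G).realMod hX)) := by
  obtain ⟨G, hG, hs, ⟨e⟩⟩ := a𝔉
  haveI : IsLocallyNoetherian X := LocallyOfFiniteType.isLocallyNoetherian f
  haveI : IsLocallyNoetherian Z := LocallyOfFiniteType.isLocallyNoetherian h
  have hK : 𝓚 = 𝓘.comap g := by
    rw [h𝓚, h𝓘, ← hg, Scheme.IdealSheafData.comap_comp]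
  haveI := ProperFormalH7.isIso_schBcMap_completionMap g 𝓘 𝓚 hpc hZ hX G hK hG
  have hgG := ProperFormalH7.isCoh_pushforward_of_isProper g hG
  haveI := FormalModH7.isIso_gam 𝓚 hZ (F := G) hG
  haveI := FormalModH7.isIso_gam 𝓘 hX (F := (Scheme.Modules.pushforward g).obj G) hgG
  have himg := ClSub24.isProperOver_image h f g hg (Or.inr inferInstance) hs
  refine ⟨_, hgG, ?_, ⟨?_⟩⟩
  · exact ClSub24.isProperOver_subset f
      (ProperFormalH7.support_push_subset g himg.1) (M1.isClosed_support hgG.2) himg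
  · exact (FSch.pushF (FSch.completionMap g 𝓚 𝓘 hpc) hZ hX).mapIso (e ≪≫ (asIso (FormalModH7.gam 𝓚 hZ G)).symm) ≪≫
      (asIso (FSch.schBcMap (FSch.completionMap g 𝓚 𝓘 hpc) hZ hX g
        (FSch.completionToX Z 𝓚) (FSch.completionToX_comm Z 𝓚)
        (FSch.completionToX X 𝓘) (FSch.completionToX_comm X 𝓘)
        (FSch.completionMap_sq g 𝓚 𝓘 hpc) G)).symm ≪≫ asIso (FormalModH7.gam 𝓘 hX ((Scheme.Modules.pushforward g).obj G))

end Groth.Agent.S13647
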