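import Groth.Prelude.Def_Pi1
import Mathlib.AlgebraicGeometry.Morphisms.Proper
import Mathlib.AlgebraicGeometry.Geometrically.Connected
import Mathlib.AlgebraicGeometry.Fiber
import Mathlib.AlgebraicGeometry.Properties
import Groth.Agent.Lib.Stein6.NormalBase

set_option autoImplicit false
universe u
namespace FlatMor
end FlatMor
open FlatMor

namespace Groth.Agent.S1365

open AlgebraicGeometry CategoryTheory Limits in
/-- Let f : X → S be proper with S integral and normal and X reduced, such that the generic points of
the irreducible components of X all lie over the generic point ξ of S, and such that the global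
functions of the generic fibre are just the residue field of ξ. Then the structure sheaf of S is the
pushforward of that of X (all components of f on opens are isomorphisms) and f has geometrically
connected fibres. -/
theorem result {X S : Scheme.{u}} (f : X ⟶ S) [IsProper f] [IsIntegral S] (hS : Pi1.IsNormalScheme S) [IsReduced X]
    (hgen : ∀ Z ∈ irreducibleComponents ↑X, ∀ x : X, IsGenericPoint x Z → f x = genericPoint ↑S)
    (h0 : Function.Bijective ((f.fiberToSpecResidueField (genericPoint ↑S)).appTop)) :
    (∀ U : S.Opens, IsIso (f.app U)) ∧ GeometricallyConnected f := by
  have hiso : ∀ U : S.Opens, IsIso (f.app U) := Groth.Agent.RigidRel.isIso_app_of_bijective f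
    (Groth.Agent.Stein6.bijective_app_of_normal f hS hgen h0)
  refine ⟨hiso, Groth.Agent.Stein6.geometricallyConnected_of_app_bijective f fun U => ?_⟩
  haveI := hiso U
  exact (ConcreteCategory.isIso_iff_bijective _).mp inferInstance

end Groth.Agent.S1365
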