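import Groth.Statements.S13651
import Groth.Agent.Lib.FormalModH7.CplNak
import Groth.Agent.Lib.FormalModH7.CplAlgKer

set_option autoImplicit false
open CategoryTheory CategoryTheory.Limits AlgebraicGeometry
universe u
open FSch

namespace Groth.Agent.S13651

/-- Let A be an adic Noetherian ring with ideal of definition J, Y = Spec A, f : X ⟶ Y of finite type
and closed (a closed map on underlying spaces), X̂ the completion of X along f⁻¹(V(J)), F and G
coherent O_X-modules whose supports have intersection proper over Y, and u : F ⟶ G a homomorphism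
with completion û : F̂ ⟶ Ĝ. Then û is injective (a monomorphism of O_X̂-modules) if and only if u is
injective, and û is surjective if and only if u is surjective. -/
theorem result (A : Type u) [CommRing A] [IsNoetherianRing A]
    (J : Ideal A) [IsAdicComplete J A] {X : Scheme.{u}} (f : X ⟶ Spec (CommRingCat.of A)) [LocallyOfFiniteType f]
    [QuasiCompact f] (hf : IsClosedMap f.base) (𝓘 : X.IdealSheafData) (h𝓘 : 𝓘 = (FSch.idealSpec A J).comap f)
    (hX : (FSch.completionAlong X 𝓘).IsFormal) (F G : X.Modules) (hF : Coh.IsCoh F) (hG : Coh.IsCoh G)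
    (hs : ClSub.IsProperOver f (CohB1.support F ∩ CohB1.support G)) (u : F ⟶ G) :
    (Mono (FSch.ModSys.realModMap hX (FSch.complModMap 𝓘 u)) ↔ Mono u) ∧
    (Epi (FSch.ModSys.realModMap hX (FSch.complModMap 𝓘 u)) ↔ Epi u) := by
  haveI : IsLocallyNoetherian X := LocallyOfFiniteType.isLocallyNoetherian f
  obtain ⟨e₁⟩ := Groth.Agent.FormalModH7.nonempty_kernel_cplHom hX hF hG u
  obtain ⟨e₃⟩ := Groth.Agent.FormalModH7.nonempty_cokernel_cplHom hX hF hG u
  refine ⟨⟨fun hm => ?_, fun hm => Groth.Agent.FormalModH7.mono_cpl hX hF hG u⟩,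
    ⟨fun hm => ?_, fun hm => Groth.Agent.FormalModH7.epi_cpl hX hF hG u⟩⟩
  · have hz := Groth.Agent.FormalModH7.isZero_of_cpl_isZero 𝓘 hX J f hf h𝓘
      (Groth.Agent.M1.isCoh_kernel hF hG.1 u) (IsZero.of_iso (isZero_kernel_of_mono _) e₁.symm)
    exact Preadditive.mono_of_kernel_zero (hz.eq_of_src _ _)
  · have hz := Groth.Agent.FormalModH7.isZero_of_cpl_isZero 𝓘 hX J f hf h𝓘
      (Groth.Agent.M1.isCoh_cokernel hF.1 hG u) (IsZero.of_iso (isZero_cokernel_of_epi _) e₃.symm)
    exact Preadditive.epi_of_cokernel_zero (hz.eq_of_tgt _ _)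

end Groth.Agent.S13651
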