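import Groth.Statements.S13663
import Mathlib

set_option autoImplicit false
universe u
open GrRing

namespace Groth.Agent.S13663

/-- Let A be a commutative ring graded by the integers whose ideal generated by the homogeneous elements
of positive degree has homogeneous generators f_1, …, f_p, of positive degrees d_1, …, d_p, and let
d be a positive integer divisible by each d_i. Then A_N = A_d · A_{N-d} for every integer N > dp -
(d_1 + ⋯ + d_p). -/
theorem result {R A : Type u} [CommRing R] [CommRing A] [Algebra R A]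
    (𝒜 : ℤ → Submodule R A) [GradedAlgebra 𝒜]
    {p : ℕ} (f : Fin p → A) (deg : Fin p → ℤ) (hdeg : ∀ i, 0 < deg i) (hf : ∀ i, f i ∈ 𝒜 (deg i))
    (hgen : Ideal.span {a : A | ∃ n : ℤ, 0 < n ∧ a ∈ 𝒜 n} = Ideal.span (Set.range f))
    (d : ℤ) (hd : 0 < d) (hdvd : ∀ i, deg i ∣ d) (N : ℤ) (hN : d * p - ∑ i, deg i < N) :
    𝒜 N = 𝒜 d * 𝒜 (N - d) := by
  classical
  have he : ∀ i, ∃ e : ℕ, d = deg i * e ∧ 0 < e := by
    intro i
    obtain ⟨c, hc⟩ := hdvd i
    have : 0 < c := by nlinarith [hdeg i]
    exact ⟨c.toNat, by rwa [Int.toNat_of_nonneg this.le], by omega⟩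
  refine le_antisymm (fun a ha => ?_) (Submodule.mul_le.2 fun x hx y hy => ?_)
  swap
  · have := SetLike.GradedMul.mul_mem hx hy
    rwa [add_sub_cancel] at this
  let W : (Fin p → ℕ) → ℤ := fun e => ∑ i, (e i : ℤ) * deg i
  have hWadd : ∀ e e' : Fin p → ℕ, W (e + e') = W e + W e' := fun e e' => by
    simp [W, add_mul, Finset.sum_add_distrib]
  have hWsingle : ∀ i (m : ℕ), W (Pi.single i m) = deg i * m := fun i m => by
    simp only [W]
    rw [Finset.sum_eq_single i (fun j _ hj => by simp [hj]) (fun h => absurd (Finset.mem_univ i) h)]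
    simp [mul_comm]
  have hPadd : ∀ e e' : Fin p → ℕ, (∏ j, f j ^ (e + e') j) = (∏ j, f j ^ e j) * ∏ j, f j ^ e' j := fun e e' => by
    simp [pow_add, Finset.prod_mul_distrib]
  have hPsingle : ∀ i (m : ℕ), (∏ j, f j ^ (Pi.single i m : Fin p → ℕ) j) = f i ^ m := fun i m => by
    rw [Finset.prod_eq_single i (fun j _ hj => by simp [hj]) (fun h => absurd (Finset.mem_univ i) h)]
    simp
  suffices H : ∀ (r : ℕ) (e : Fin p → ℕ) (b : A), N - W e ≤ r → b ∈ 𝒜 (N - W e) →
      (∏ i, f i ^ e i) * b ∈ 𝒜 d * 𝒜 (N - d) by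
    have := H N.toNat 0 a (by simp [W]) (by simpa [W] using ha)
    simpa using this
  intro r
  induction r using Nat.strong_induction_on with
  | _ r ih =>
    intro e b hle hb
    by_cases hbig : ∃ i, d ≤ (e i : ℤ) * deg i
    · obtain ⟨i, hi⟩ := hbig
      obtain ⟨m, hm, hm0⟩ := he i
      have hme : m ≤ e i := by
        have : (m : ℤ) ≤ e i := by nlinarith [hdeg i]
        exact_mod_cast this
      have hmem : ∀ e : Fin p → ℕ, (∏ j, f j ^ e j) ∈ 𝒜 (W e) := by
        intro e
        rw [show W e = ∑ j, e j • deg j by simp [W, nsmul_eq_mul]]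
        exact SetLike.prod_mem_graded (A := 𝒜) _ _ fun j _ => SetLike.pow_mem_graded _ (hf j)
      obtain ⟨e', rfl⟩ : ∃ e' : Fin p → ℕ, e = e' + Pi.single i m := ⟨e - Pi.single i m, funext fun j => by
        rcases eq_or_ne j i with rfl | hj <;> simp [*]⟩
      have hW : W e' = W (e' + Pi.single i m) - d := by rw [hWadd, hWsingle, hm]; ring
      rw [hPadd, hPsingle, mul_comm (∏ j, f j ^ e' j), mul_assoc]
      refine Submodule.mul_mem_mul ?_ ?_
      · rw [show d = m • deg i by rw [nsmul_eq_mul, hm]; ring]
        exact SetLike.pow_mem_graded m (hf i)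
      · rw [show N - d = W e' + (N - W (e' + Pi.single i m)) by rw [hW]; ring]
        exact SetLike.GradedMul.mul_mem (hmem _) hb
    · push Not at hbig
      have hpos : 0 < N - W e := by
        have : W e ≤ ∑ i, (d - deg i) := by
          refine Finset.sum_le_sum fun i _ => ?_
          obtain ⟨m, hm, -⟩ := he i
          have h1 := hbig i
          rw [hm] at h1 ⊢
          have : (e i : ℤ) < m := lt_of_mul_lt_mul_right (by linarith) (hdeg i).le
          nlinarith [hdeg i]
        rw [Finset.sum_sub_distrib, Finset.sum_const, Finset.card_univ, Fintype.card_fin, nsmul_eq_mul] at this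
        linarith
      have hspan : b ∈ Ideal.span (Set.range f) := hgen ▸ Ideal.subset_span ⟨_, hpos, hb⟩
      obtain ⟨c, hc⟩ := (Submodule.mem_span_range_iff_exists_fun A).1 hspan
      simp only [smul_eq_mul] at hc
      have hb' : b = ∑ i, f i * GradedRing.proj 𝒜 (N - W e - deg i) (c i) := by
        have := congrArg (GradedRing.proj 𝒜 (N - W e)) hc
        rw [map_sum, GradedRing.proj_apply, DirectSum.decompose_of_mem_same 𝒜 hb] at this
        rw [← this]
        refine Finset.sum_congr rfl fun i _ => ?_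
        rw [mul_comm (c i) (f i), GradedRing.proj_apply, GradedRing.proj_apply]
        rw [show N - W e = deg i + (N - W e - deg i) by ring, DirectSum.coe_decompose_mul_add_of_left_mem 𝒜 (hf i)]
        rw [show deg i + (N - W e - deg i) - deg i = N - W e - deg i by ring]
      rw [hb', Finset.mul_sum]
      refine Submodule.sum_mem _ fun i _ => ?_
      rw [← mul_assoc]
      have hW : W (e + Pi.single i 1) = W e + deg i := by rw [hWadd, hWsingle]; simp
      have hprod : (∏ j, f j ^ e j) * f i = ∏ j, f j ^ (e + Pi.single i 1 : Fin p → ℕ) j := by rw [hPadd, hPsingle, pow_one]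
      rw [hprod]
      refine ih (r - 1) (by omega) _ _ (by rw [hW]; have := hdeg i; omega) ?_
      rw [hW, show N - (W e + deg i) = N - W e - deg i by ring, GradedRing.proj_apply]
      exact SetLike.coe_mem _

end Groth.Agent.S13663
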