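import Groth.Statements.S13664
import Groth.Agent.S13663

set_option autoImplicit false
universe u
open GrRing

namespace Groth.Agent.S13664

/-- Let A be a commutative ring graded by the integers whose ideal I generated by the homogeneous
elements of positive degree has homogeneous generators f_1, …, f_p, of positive degrees d_1, …, d_p,
let d be a positive integer divisible by each d_i, and let x be an element of an A-module M. The
following are equivalent: x is annihilated by some power of I; x is annihilated by (A_d)^n for all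
sufficiently large n; there is an integer s such that A_n x = 0 for all n ≥ s. (The published
statement is for a homogeneous element of a graded module; this row drops both the grading of M and
the homogeneity of x, which play no role.) -/
theorem result {R A : Type u} [CommRing R] [CommRing A] [Algebra R A]
    (𝒜 : ℤ → Submodule R A) [GradedAlgebra 𝒜]
    {p : ℕ} (f : Fin p → A) (deg : Fin p → ℤ) (hdeg : ∀ i, 0 < deg i) (hf : ∀ i, f i ∈ 𝒜 (deg i))
    (hgen : Ideal.span {a : A | ∃ n : ℤ, 0 < n ∧ a ∈ 𝒜 n} = Ideal.span (Set.range f))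
    (d : ℤ) (hd : 0 < d) (hdvd : ∀ i, deg i ∣ d)
    {M : Type u} [AddCommGroup M] [Module A M] (x : M) :
    [x ∈ GrLC.gam (Ideal.span (Set.range f)) M,
     ∃ n₀ : ℕ, ∀ n : ℕ, n₀ ≤ n → ∀ r ∈ (𝒜 d) ^ n, r • x = 0,
     ∃ s : ℤ, ∀ n : ℤ, s ≤ n → ∀ r ∈ 𝒜 n, r • x = 0].TFAE := by
  classical
  set I := Ideal.span (Set.range f) with hI
  tfae_have 1 → 2 := by
    rintro ⟨N, hN⟩
    refine ⟨N, fun n hn r hr => hN r ?_⟩
    have hd' : 𝒜 d ≤ I.restrictScalars R := fun a ha => hgen ▸ Ideal.subset_span ⟨d, hd, ha⟩
    have hpow : ∀ m : ℕ, ∀ a ∈ (𝒜 d) ^ m, a ∈ I ^ m := by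
      intro m
      induction m with
      | zero => intro a _; rw [pow_zero, Ideal.one_eq_top]; trivial
      | succ m ih =>
        intro a ha
        rw [pow_succ] at ha ⊢
        exact Submodule.mul_induction_on ha (fun b hb c hc => Ideal.mul_mem_mul (ih b hb) (hd' hc)) (fun b c hb hc => add_mem hb hc)
    exact Ideal.pow_le_pow_right hn (hpow n r hr)
  tfae_have 2 → 3 := by
    rintro ⟨n₀, hn₀⟩
    set B := d * p - ∑ i, deg i with hB
    have key : ∀ (j : ℕ) (m : ℤ), max B 0 + j * d < m → 𝒜 m ≤ (𝒜 d) ^ j * 𝒜 (m - j * d) := by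
      intro j
      induction j with
      | zero => intro m _; simp
      | succ j ih =>
        intro m hm
        push_cast at hm
        refine (ih m (by nlinarith)).trans ?_
        rw [Groth.Agent.S13663.result 𝒜 f deg hdeg hf hgen d hd hdvd (m - j * d) (by
          have := le_max_left B 0
          nlinarith), ← mul_assoc, ← pow_succ]
        rw [show m - (j : ℤ) * d - d = m - ((j + 1 : ℕ) : ℤ) * d by push_cast; ring]
    refine ⟨max B 0 + n₀ * d + 1, fun m hm r hr => ?_⟩
    have hr' := key n₀ m (by linarith) hr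
    exact Submodule.mul_induction_on hr' (fun b hb c _ => by rw [mul_comm, mul_smul, hn₀ n₀ le_rfl b hb, smul_zero])
      (fun b c hb hc => by rw [add_smul, hb, hc, add_zero])
  tfae_have 3 → 1 := by
    rintro ⟨s, hs⟩
    have hK : ∀ N : ℕ, I ^ N ≤ Ideal.span {a : A | ∃ n : ℤ, (N : ℤ) ≤ n ∧ a ∈ 𝒜 n} := by
      intro N
      induction N with
      | zero =>
        rw [pow_zero, Ideal.one_eq_top, ← Ideal.span_singleton_one]
        exact Ideal.span_mono fun a ha => ⟨0, le_rfl, by rw [Set.mem_singleton_iff.1 ha]; exact SetLike.one_mem_graded 𝒜⟩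
      | succ N ih =>
        rw [pow_succ]
        refine (Ideal.mul_mono ih le_rfl).trans ?_
        rw [hI, Ideal.span_mul_span']
        refine Ideal.span_mono ?_
        rintro _ ⟨a, ⟨n, hn, ha⟩, b, ⟨i, rfl⟩, rfl⟩
        exact ⟨n + deg i, by have := hdeg i; push_cast; omega, SetLike.mul_mem_graded ha (hf i)⟩
    refine ⟨s.toNat, fun r hr => ?_⟩
    have hle : Ideal.span {a : A | ∃ n : ℤ, (s.toNat : ℤ) ≤ n ∧ a ∈ 𝒜 n} ≤ LinearMap.ker (LinearMap.toSpanSingleton A M x) := by
      rw [Ideal.span_le]
      rintro a ⟨n, hn, ha⟩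
      exact hs n (by omega) a ha
    exact hle (hK _ hr)
  tfae_finish

end Groth.Agent.S13664
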