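import Groth.Statements.S13665
import Mathlib

set_option autoImplicit false
universe u
open GrRing

namespace Groth.Agent.S13665

/-- For a commutative ring A graded by the integers, with degree-zero subring A_0, the following are
equivalent: A is Noetherian; each homogeneous ideal of A has a finite generating set; A_0 is
Noetherian and the subalgebras A_{≥0}, A_{≤0} are each of finite type over A_0; A_0 is Noetherian
and A is an A_0-algebra of finite type. -/
theorem result {R A : Type u} [CommRing R] [CommRing A] [Algebra R A]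
    (𝒜 : ℤ → Submodule R A) [GradedAlgebra 𝒜] :
    [IsNoetherianRing A,
     ∀ I : Ideal A, I.IsHomogeneous 𝒜 → I.FG,
     IsNoetherianRing (𝒜 0) ∧ (Algebra.adjoin (𝒜 0) {a : A | ∃ n : ℤ, 0 ≤ n ∧ a ∈ 𝒜 n}).FG ∧
       (Algebra.adjoin (𝒜 0) {a : A | ∃ n : ℤ, n ≤ 0 ∧ a ∈ 𝒜 n}).FG,
     IsNoetherianRing (𝒜 0) ∧ Algebra.FiniteType (𝒜 0) A].TFAE := by
  classical
  tfae_have 1 → 2 := fun h I _ => IsNoetherian.noetherian I
  tfae_have 2 → 3 := by
    intro h2
    have hfin : ∀ n : ℤ, ∃ s : Finset A, (∀ g ∈ s, g ∈ 𝒜 n) ∧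
        ∀ a ∈ 𝒜 n, a ∈ Submodule.span (𝒜 0) (s : Set A) := by
      intro n
      have hh : (Ideal.span ((𝒜 n : Set A))).IsHomogeneous 𝒜 := Ideal.homogeneous_span 𝒜 _ fun a ha => ⟨n, ha⟩
      obtain ⟨s, hs, hspan⟩ := (Submodule.fg_span_iff_fg_span_finset_subset (R := A) ((𝒜 n : Set A))).1 (h2 _ hh)
      refine ⟨s, fun g hg => hs hg, fun a ha => ?_⟩
      have ha' : a ∈ Submodule.span A (s : Set A) := hspan ▸ Submodule.subset_span ha
      have key : ∀ x ∈ Submodule.span A (s : Set A), (DirectSum.decompose 𝒜 x n : A) ∈ Submodule.span (𝒜 0) (s : Set A) := by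
        intro x hx
        obtain ⟨c, -, rfl⟩ := Submodule.mem_span_finset.1 hx
        rw [DirectSum.decompose_sum, DFinsupp.finsetSum_apply, AddSubmonoidClass.coe_finsetSum]
        refine Submodule.sum_mem _ fun g hg => ?_
        have e : (DirectSum.decompose 𝒜 (g * c g) (n + 0) : A) = g * (DirectSum.decompose 𝒜 (c g) 0 : A) :=
          DirectSum.coe_decompose_mul_add_of_left_mem 𝒜 (hs hg)
        rw [add_zero] at e
        rw [smul_eq_mul, mul_comm (c g) g, e, mul_comm]
        exact Submodule.smul_mem _ (DirectSum.decompose 𝒜 (c g) 0) (Submodule.subset_span hg)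
      rw [← DirectSum.decompose_of_mem_same 𝒜 ha]
      exact key a ha'
    choose G hG1 hG2 using hfin
    refine ⟨?_, ?_⟩
    · refine (isNoetherianRing_iff_ideal_fg (𝒜 0)).2 fun J => ?_
      have hh : (J.map (algebraMap (𝒜 0) A)).IsHomogeneous 𝒜 :=
        Ideal.homogeneous_span 𝒜 _ (by rintro _ ⟨c, -, rfl⟩; exact ⟨0, c.2⟩)
      obtain ⟨s, hs, hspan⟩ := (Submodule.fg_span_iff_fg_span_finset_subset (R := A) ((algebraMap (𝒜 0) A) '' J)).1 (h2 _ hh)
      have hinj : Function.Injective (algebraMap (𝒜 0) A) := fun a b hab => Subtype.ext hab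
      let s₀ : Finset (𝒜 0) := s.preimage _ hinj.injOn
      refine ⟨s₀, le_antisymm (Submodule.span_le.2 fun c hc => ?_) fun c hc => ?_⟩
      · obtain ⟨d, hd, hdc⟩ := hs (Finset.mem_preimage.1 hc)
        rwa [← hinj hdc]
      · have hc' : (c : A) ∈ Submodule.span A (s : Set A) := by
          have h' : (algebraMap (𝒜 0) A) c ∈ Submodule.span A ((algebraMap (𝒜 0) A) '' J) := Submodule.subset_span ⟨c, hc, rfl⟩
          rw [hspan] at h'
          exact h'
        have key : ∀ x ∈ Submodule.span A (s : Set A), DirectSum.decompose 𝒜 x 0 ∈ Submodule.span (𝒜 0) (s₀ : Set (𝒜 0)) := by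
          intro x hx
          obtain ⟨e, -, rfl⟩ := Submodule.mem_span_finset.1 hx
          rw [DirectSum.decompose_sum, DFinsupp.finsetSum_apply]
          refine Submodule.sum_mem _ fun g hg => ?_
          obtain ⟨d, -, rfl⟩ := hs hg
          have : DirectSum.decompose 𝒜 (e ((algebraMap (𝒜 0) A) d) • (algebraMap (𝒜 0) A) d) 0 =
              DirectSum.decompose 𝒜 (e ((algebraMap (𝒜 0) A) d)) 0 • d := by
            refine Subtype.ext ?_
            have e' := DirectSum.coe_decompose_mul_add_of_right_mem 𝒜 (i := 0) (a := e ((algebraMap (𝒜 0) A) d)) d.2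
            rw [add_zero] at e'
            exact e'
          rw [this]
          exact Submodule.smul_mem _ _ (Submodule.subset_span (Finset.mem_preimage.2 hg))
        have := key _ hc'
        rwa [show DirectSum.decompose 𝒜 (c : A) 0 = c from Subtype.ext (DirectSum.decompose_of_mem_same 𝒜 c.2)] at this
    have hside : ∀ ε : ℤ, ε * ε = 1 → (Algebra.adjoin (𝒜 0) {a : A | ∃ n : ℤ, 0 ≤ ε * n ∧ a ∈ 𝒜 n}).FG := by
      intro ε hε
      have hh : (Ideal.span {a : A | ∃ n : ℤ, 0 < ε * n ∧ a ∈ 𝒜 n}).IsHomogeneous 𝒜 :=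
        Ideal.homogeneous_span 𝒜 _ fun a ⟨n, _, ha⟩ => ⟨n, ha⟩
      obtain ⟨s, hs, hspan⟩ := (Submodule.fg_span_iff_fg_span_finset_subset (R := A) {a : A | ∃ n : ℤ, 0 < ε * n ∧ a ∈ 𝒜 n}).1 (h2 _ hh)
      choose dg hdg1 hdg2 using fun g : {x // x ∈ s} => hs g.2
      let D : ℕ := Finset.univ.sup fun g => (ε * dg g).toNat
      let F : Finset A := (Finset.range (D + 1)).biUnion fun m : ℕ => G (ε * m)
      have hFm : ∀ m : ℕ, m ≤ D → ∀ g ∈ G (ε * m), g ∈ F := fun m hm g hg =>
        Finset.mem_biUnion.2 ⟨m, Finset.mem_range.2 (by omega), hg⟩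
      have hsmall : ∀ m : ℕ, m ≤ D → ∀ a ∈ 𝒜 (ε * m), a ∈ Algebra.adjoin (𝒜 0) (F : Set A) := fun m hm a ha => by
        have : Submodule.span (𝒜 0) (G (ε * m) : Set A) ≤ Subalgebra.toSubmodule (Algebra.adjoin (𝒜 0) (F : Set A)) :=
          Submodule.span_le.2 fun g hg => Algebra.subset_adjoin (hFm m hm g hg)
        exact this (hG2 _ a ha)
      have hε' : ∀ n : ℤ, ε * (ε * n) = n := fun n => by rw [← mul_assoc, hε, one_mul]
      have hall : ∀ m : ℕ, ∀ a ∈ 𝒜 (ε * m), a ∈ Algebra.adjoin (𝒜 0) (F : Set A) := by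
        intro m
        induction m using Nat.strong_induction_on with
        | _ m ih =>
        intro a ha
        rcases Nat.lt_or_ge D m with hm | hm
        swap
        · exact hsmall m hm a ha
        have ha' : a ∈ Submodule.span A (s : Set A) :=
          hspan ▸ Submodule.subset_span ⟨ε * m, by rw [hε']; omega, ha⟩
        obtain ⟨c, -, hc⟩ := Submodule.mem_span_finset.1 ha'
        rw [← DirectSum.decompose_of_mem_same 𝒜 ha, ← hc, DirectSum.decompose_sum, DFinsupp.finsetSum_apply, AddSubmonoidClass.coe_finsetSum]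
        refine Subalgebra.sum_mem _ fun g hg => ?_
        set d := (ε * dg ⟨g, hg⟩).toNat with hd
        have hdD : d ≤ D := Finset.le_sup (f := fun g => (ε * dg g).toNat) (Finset.mem_univ _)
        have hd0 : 0 < d := by have := hdg1 ⟨g, hg⟩; omega
        have hdeg : dg ⟨g, hg⟩ = ε * d := by
          rw [hd, Int.toNat_of_nonneg (hdg1 ⟨g, hg⟩).le, hε']
        have e : (DirectSum.decompose 𝒜 (g * c g) (dg ⟨g, hg⟩ + ε * ((m - d : ℕ) : ℤ)) : A) = g * (DirectSum.decompose 𝒜 (c g) (ε * ((m - d : ℕ) : ℤ)) : A) :=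
          DirectSum.coe_decompose_mul_add_of_left_mem 𝒜 (hdg2 ⟨g, hg⟩)
        rw [hdeg, ← mul_add, show (d : ℤ) + ((m - d : ℕ) : ℤ) = (m : ℤ) by omega] at e
        rw [smul_eq_mul, mul_comm (c g) g, e]
        refine Subalgebra.mul_mem _ (hsmall d hdD g ?_) (ih (m - d) (by omega) _ (SetLike.coe_mem _))
        rw [← hdeg]; exact hdg2 ⟨g, hg⟩
      refine ⟨F, le_antisymm (Algebra.adjoin_le ?_) (Algebra.adjoin_le ?_)⟩
      · intro g hg
        obtain ⟨m, -, hg'⟩ := Finset.mem_biUnion.1 hg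
        exact Algebra.subset_adjoin ⟨ε * m, by rw [hε']; omega, hG1 _ g hg'⟩
      · rintro a ⟨n, hn, ha⟩
        refine hall (ε * n).toNat a ?_
        rwa [Int.toNat_of_nonneg hn, hε']
    refine ⟨?_, ?_⟩
    · simpa using hside 1 (one_mul 1)
    · have := hside (-1) (by norm_num)
      simpa using this
  tfae_have 3 → 4 := by
    rintro ⟨h0, hp, hq⟩
    refine ⟨h0, ⟨?_⟩⟩
    have : Algebra.adjoin (𝒜 0) {a : A | ∃ n : ℤ, 0 ≤ n ∧ a ∈ 𝒜 n} ⊔ Algebra.adjoin (𝒜 0) {a : A | ∃ n : ℤ, n ≤ 0 ∧ a ∈ 𝒜 n} = ⊤ := by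
      rw [eq_top_iff]
      rintro a -
      induction a using DirectSum.Decomposition.inductionOn 𝒜 with
      | zero => exact Subalgebra.zero_mem _
      | homogeneous x =>
        rename_i n
        rcases le_total 0 n with h | h
        · exact (le_sup_left : _ ≤ (Algebra.adjoin (𝒜 0) {a : A | ∃ n : ℤ, 0 ≤ n ∧ a ∈ 𝒜 n} ⊔ _)) (Algebra.subset_adjoin ⟨n, h, x.2⟩)
        · exact (le_sup_right : _ ≤ (_ ⊔ Algebra.adjoin (𝒜 0) {a : A | ∃ n : ℤ, n ≤ 0 ∧ a ∈ 𝒜 n})) (Algebra.subset_adjoin ⟨n, h, x.2⟩)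
      | add a b ha hb => exact Subalgebra.add_mem _ ha hb
    rw [← this]
    exact hp.sup hq
  tfae_have 4 → 1 := by
    rintro ⟨h0, hft⟩
    exact Algebra.FiniteType.isNoetherianRing (𝒜 0) A
  tfae_finish

end Groth.Agent.S13665
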