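import Groth.Statements.S1367
import Groth.Agent.Lib.FibH1_18.Point

set_option autoImplicit false
set_option linter.style.haveILetI false
set_option maxHeartbeats 1000000
set_option backward.isDefEq.respectTransparency false
set_option backward.isDefEq.respectTransparency.types false
-- import your own Groth.Agent.* helpers here

set_option autoImplicit false
universe u
open FlatMor

namespace Groth.Agent.S1367

open AlgebraicGeometry CategoryTheory Limits in
/-- Let f : X → Y be proper and y a point whose fibre has dimension at most 1 and satisfies H^1(X_y, O)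
= 0. Then there is an open neighbourhood V of y such that R^1 f_* O_X vanishes on V, in the concrete
sense that H^1 of the structure sheaf vanishes on the preimage of every affine open of V, and the
same holds for the base change of f along any morphism to V. -/
theorem result {X Y : Scheme.{u}} (f : X ⟶ Y) [IsProper f] (y : Y)
    (hdim : topologicalKrullDim ↑(f.fiber y) ≤ 1) (hH1 : Subsingleton (Coh.HH (f.fiber y) (Coh.structureModule (f.fiber y)) 1)) :
    ∃ V : Y.Opens, y ∈ V ∧ ∀ (Y' : Scheme.{u}) (g : Y' ⟶ (V : Scheme.{u})) (U : Y'.Opens), IsAffineOpen U →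
      Subsingleton (Coh.HHon (pullback f (g ≫ V.ι)) (Coh.structureModule (pullback f (g ≫ V.ι))) (pullback.snd f (g ≫ V.ι) ⁻¹ᵁ U) 1) := by
  obtain ⟨V₀, hyV, hV, hd'⟩ := Groth.Agent.VanFib13.exists_affine_nhd f y 1 (by simpa using hdim)
  have hd : ∀ w ∈ V₀, topologicalKrullDim ↥(f ⁻¹' {w} : Set X) ≤ 1 := fun w hw => by simpa using hd' w hw
  obtain ⟨c⟩ := Groth.Agent.FibH1_18.nonempty_cov (A := Γ(Y, V₀)) (pullback.snd f hV.fromSpec)
  have hO := Groth.Agent.M1.isCoh_structureModule (pullback f hV.fromSpec)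
  have hp := Groth.Agent.FibH1_18.vanH_prime_of_fibre f hV hd c hyV hH1
  obtain ⟨t, ht, hv⟩ := Groth.Agent.FibH1_18.exists_vanH_away (A := Γ(Y, V₀)) _
    (Groth.Agent.FibH1_18.dim_chart f hV hd) c hO.1 hO.2 _ hp
  refine ⟨Y.basicOpen t, ?_, fun Y' g U hU => ?_⟩
  · have h : hV.primeIdealOf ⟨y, hyV⟩ ∈ PrimeSpectrum.basicOpen t := ht
    rw [← hV.fromSpec_preimage_basicOpen t] at h
    have h' : hV.fromSpec (hV.primeIdealOf ⟨y, hyV⟩) ∈ Y.basicOpen t := h
    rwa [hV.fromSpec_primeIdealOf] at h'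
  · let g₁ : Y' ⟶ Y := g ≫ (Y.basicOpen t).ι
    have hb : ∀ x : Y', g₁ x ∈ Y.basicOpen t := fun x => (g x).2
    have e : U ≤ g₁ ⁻¹ᵁ V₀ := fun x _ => Y.basicOpen_le t (hb x)
    letI : Algebra Γ(Y, V₀) Γ(Y', U) := (g₁.appLE V₀ U e).hom.toAlgebra
    have hu : IsUnit (algebraMap Γ(Y, V₀) Γ(Y', U) t) :=
      Groth.Agent.FibH1_18.isUnit_appLE g₁ e t fun x _ => hb x
    let l : Localization.Away t →+* Γ(Y', U) := IsLocalization.Away.lift t hu
    letI : Algebra (Localization.Away t) Γ(Y', U) := l.toAlgebra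
    haveI : IsScalarTower Γ(Y, V₀) (Localization.Away t) Γ(Y', U) :=
      IsScalarTower.of_algebraMap_eq fun a => (IsLocalization.Away.lift_eq t hu a).symm
    exact (Groth.Agent.FibH1_18.vanH_iff_HHon f (IsPullback.of_hasPullback f g₁) hV c hU e).1
      (Groth.Agent.FibH1_18.vanH_of_algebra (A := Γ(Y, V₀)) _ (Groth.Agent.FibH1_18.dim_chart f hV hd) c hO.1
        (Localization.Away t) _ hv)

end Groth.Agent.S1367
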