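import Groth.Statements.S1368
import Groth.Agent.Lib.Dev4.RelAssNearOpen

set_option autoImplicit false
universe u
open FlatMor
set_option maxSynthPendingDepth 3
open TensorProduct

set_option backward.isDefEq.respectTransparency.types false

namespace Groth.Agent.S1368

open AlgebraicGeometry CategoryTheory Limits in
/-- Let f be of finite type with irreducible target, F a quasi-coherent module of finite type on the
source and U an open of the source. If the associated points of F restricted to the generic fibre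
all lie in U, then over some nonempty open of the target the associated points of F restricted to
every fibre lie in U. -/
theorem result {X Y : Scheme.{u}} (f : X ⟶ Y) [IrreducibleSpace ↑Y] [LocallyOfFiniteType f] [QuasiCompact f]
    (F : X.Modules) (hF : Coh.IsCoh F) (U : X.Opens)
    (h : ∀ x ∈ MoreMor.relAss f F, f x = genericPoint ↑Y → x ∈ U) :
    ∃ V : Y.Opens, (V : Set ↑Y).Nonempty ∧ ∀ x ∈ MoreMor.relAss f F, f x ∈ V → x ∈ U := by
  classical
  obtain ⟨V₀, hV₀, hηV, -⟩ := exists_isAffineOpen_mem_and_subset (X := Y) (x := genericPoint ↑Y) (U := ⊤) trivial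
  choose W hW hxW hWV using fun x : ↥(f ⁻¹ᵁ V₀) =>
    exists_isAffineOpen_mem_and_subset (X := X) (x := x.1) (U := f ⁻¹ᵁ V₀) x.2
  obtain ⟨t, ht⟩ := (QuasiCompact.isCompact_preimage (f := f) _ V₀.2 hV₀.isCompact).elim_finite_subcover
    (fun x => (W x : Set X)) (fun x => (W x).2) fun x hx => Set.mem_iUnion.2 ⟨⟨x, hx⟩, hxW ⟨x, hx⟩⟩
  choose O hO hsub using fun i => Groth.Agent.Dev4.exists_open_relAss_subset f F hF hV₀ hηV (hW i) (hWV i) U h
  have key : ∀ s : Finset ↥(f ⁻¹ᵁ V₀), ∃ V : Y.Opens, genericPoint ↑Y ∈ V ∧ ∀ y ∈ V, y ∈ V₀ ∧ ∀ i ∈ s, y ∈ O i := fun s => by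
    induction s using Finset.induction_on with
    | empty => exact ⟨V₀, hηV, fun y hy => ⟨hy, by simp⟩⟩
    | insert a s _ ih =>
      obtain ⟨V, hV, hV'⟩ := ih
      refine ⟨O a ⊓ V, ⟨hO a, hV⟩, fun y hy => ⟨(hV' y hy.2).1, fun i hi => ?_⟩⟩
      rcases Finset.mem_insert.1 hi with rfl | hi
      · exact hy.1
      · exact (hV' y hy.2).2 i hi
  obtain ⟨V, hV, hV'⟩ := key t
  refine ⟨V, ⟨_, hV⟩, fun x hxa hxV => ?_⟩
  obtain ⟨i, hi, hxi⟩ := Set.mem_iUnion₂.1 (ht (show x ∈ f ⁻¹ᵁ V₀ from (hV' _ hxV).1))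
  exact hsub i x hxi hxa ((hV' _ hxV).2 i hi)

end Groth.Agent.S1368
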