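import Groth.Statements.S13682
import Mathlib.LinearAlgebra.Multilinear.Curry
import Mathlib.Algebra.BigOperators.Fin
import Mathlib.RingTheory.Ideal.Quotient.Basic

set_option autoImplicit false
universe u v w
open scoped BigOperators
open BTGrp

namespace Groth.Agent.S13682

theorem step {A : Type u} [CommRing A] (α : A) : ∀ {r : ℕ} (M : Fin r → Type v) (N : Type w)
    [∀ i, AddCommGroup (M i)] [∀ i, Module A (M i)] [AddCommGroup N] [Module A N] (φ : MultilinearMap A M N)
    (y a b : ∀ i, M i), (∀ i, b i = a i + α • y i) →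
    φ b - φ a = α • ∑ i : Fin r, φ (fun k => if k < i then b k else if k = i then y k else a k) := by
  intro r
  induction r with
  | zero =>
    intro M N _ _ _ _ φ y a b _
    rw [Subsingleton.elim b a]; simp
  | succ r ih =>
    intro M N _ _ _ _ φ y a b h
    have e0 : (fun k => if k < (0 : Fin (r + 1)) then b k else if k = 0 then y k else a k) = Fin.cons (y 0) (Fin.tail a) := by
      funext k
      refine Fin.cases ?_ (fun j => ?_) k
      · simp
      · simp [Fin.succ_ne_zero, Fin.tail]
    have e1 : ∀ i : Fin r, (fun k => if k < i.succ then b k else if k = i.succ then y k else a k) =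
        Fin.cons (b 0) (fun k : Fin r => if k < i then b k.succ else if k = i then y k.succ else a k.succ) := by
      intro i
      funext k
      refine Fin.cases ?_ (fun j => ?_) k
      · simp [Fin.succ_pos]
      · simp [Fin.succ_lt_succ_iff, Fin.succ_inj]
    have h2 := ih (fun i : Fin r => M i.succ) N (φ.curryLeft (b 0)) (Fin.tail y) (Fin.tail a) (Fin.tail b) (fun i => h i.succ)
    simp only [MultilinearMap.curryLeft_apply, Fin.tail] at h2
    rw [Fin.sum_univ_succ, smul_add, e0]
    simp only [e1]
    rw [← h2]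
    have hb : φ b = φ (Fin.cons (b 0) (Fin.tail b)) := by rw [Fin.cons_self_tail]
    have ha : φ a = φ (Fin.cons (a 0) (Fin.tail a)) := by rw [Fin.cons_self_tail]
    have hd : α • φ (Fin.cons (y 0) (Fin.tail a)) =
        φ (Fin.cons (b 0) (Fin.tail a)) - φ (Fin.cons (a 0) (Fin.tail a)) := by
      rw [h 0, MultilinearMap.cons_add, MultilinearMap.cons_smul]; abel
    rw [hd, hb, ha]
    show _ = _ + (φ (Fin.cons (b 0) (Fin.tail b)) - φ (Fin.cons (b 0) (Fin.tail a)))
    abel

theorem telescope {N : Type w} [AddCommGroup N] (f : ℕ → N) : ∀ j, ∑ l ∈ Finset.range j, (f (l + 1) - f l) = f j - f 0 :=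
  fun j => Finset.sum_range_sub f j

theorem main {A : Type u} [CommRing A] (α : A) : ∀ {r : ℕ} (M : Fin r → Type v) (N : Type w)
    [∀ i, AddCommGroup (M i)] [∀ i, Module A (M i)] [AddCommGroup N] [Module A N] (φ : MultilinearMap A M N) (n : ℕ)
    (y w : ∀ i, ℕ → M i), (∀ i, ∀ j < n, w i (j + 1) = w i j + α • y i j) →
    (∑ i : Fin r, ∑ j ∈ Finset.range n,
        φ (fun k => if k < i then w k (j + 1) else if k = i then y k j else w k j)) =
      ∑ i : Fin r, ∑ j ∈ Finset.range n,
        φ (fun k => if k < i then w k n else if k = i then y k j else w k 0) := by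
  intro r
  induction r with
  | zero => intros; simp
  | succ r ih =>
    intro M N _ _ _ _ φ n y w hw
    rw [Fin.sum_univ_succ, Fin.sum_univ_succ]
    have e0 : ∀ (c : ∀ k, M k) (b a : ∀ k, M k),
        (fun k => if k < (0 : Fin (r + 1)) then b k else if k = 0 then c k else a k) = Fin.cons (c 0) (Fin.tail a) := by
      intro c b a
      funext k
      refine Fin.cases ?_ (fun j => ?_) k
      · simp
      · simp [Fin.succ_ne_zero, Fin.tail]
    have e1 : ∀ (c b a : ∀ k, M k) (i : Fin r), (fun k => if k < i.succ then b k else if k = i.succ then c k else a k) =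
        Fin.cons (b 0) (fun k : Fin r => if k < i then b k.succ else if k = i then c k.succ else a k.succ) := by
      intro c b a i
      funext k
      refine Fin.cases ?_ (fun j => ?_) k
      · simp [Fin.succ_pos]
      · simp [Fin.succ_lt_succ_iff, Fin.succ_inj]
    simp only [e0 (fun k => y k _) (fun k => w k _) (fun k => w k _),
      e1 (fun k => y k _) (fun k => w k _) (fun k => w k _)]
    let S : ℕ → M 0 → N := fun l u => ∑ i : Fin r, φ (Fin.cons u
      (fun k : Fin r => if k < i then w k.succ (l + 1) else if k = i then y k.succ l else w k.succ l))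
    have hSadd : ∀ l u v, S l (u + v) = S l u + S l v := fun l u v => by
      simp only [S, MultilinearMap.cons_add, Finset.sum_add_distrib]
    have hSsmul : ∀ l (c : A) u, S l (c • u) = c • S l u := fun l c u => by
      simp only [S, MultilinearMap.cons_smul, Finset.smul_sum]
    have hS0 : ∀ l, S l 0 = 0 := fun l => by simpa using hSsmul l 0 0
    have hSsum : ∀ l (s : Finset ℕ) (f : ℕ → M 0), S l (∑ j ∈ s, f j) = ∑ j ∈ s, S l (f j) := fun l s f =>
      map_sum (AddMonoidHom.mk' (S l) (hSadd l)) f s
    let t : ℕ → ∀ k : Fin r, M k.succ := fun l k => w k.succ l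
    have hstep : ∀ (u : M 0), ∀ l < n, φ (Fin.cons u (t (l + 1))) - φ (Fin.cons u (t l)) = α • S l u := by
      intro u l hl
      have := step α (fun i : Fin r => M i.succ) N (φ.curryLeft u) (fun k => y k.succ l) (t l) (t (l + 1))
        (fun i => hw i.succ l hl)
      simpa [S, t, MultilinearMap.curryLeft_apply] using this
    have hw0 : ∀ l ≤ n, w 0 l = w 0 0 + α • ∑ j ∈ Finset.range l, y 0 j := by
      intro l hl
      induction l with
      | zero => simp
      | succ l ihl =>
        rw [hw 0 l (by omega), ihl (by omega), Finset.sum_range_succ, smul_add, add_assoc]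
    have h1 : ∀ j ∈ Finset.range n, φ (Fin.cons (y 0 j) (t j)) =
        φ (Fin.cons (y 0 j) (t 0)) + α • ∑ l ∈ Finset.range j, S l (y 0 j) := by
      intro j hj
      rw [Finset.smul_sum, Finset.sum_congr rfl fun l hl => (hstep (y 0 j) l (by
          simp only [Finset.mem_range] at hl hj; omega)).symm,
        Finset.sum_range_sub (fun l => φ (Fin.cons (y 0 j) (t l))) j]
      abel
    have h2 : ∑ i : Fin r, ∑ j ∈ Finset.range n, φ (Fin.cons (w 0 (j + 1))
        (fun k : Fin r => if k < i then w k.succ (j + 1) else if k = i then y k.succ j else w k.succ j)) =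
        ∑ l ∈ Finset.range n, S l (w 0 (l + 1)) := Finset.sum_comm
    have h3 : ∑ i : Fin r, ∑ j ∈ Finset.range n, φ (Fin.cons (w 0 n)
        (fun k : Fin r => if k < i then w k.succ n else if k = i then y k.succ j else w k.succ 0)) =
        ∑ l ∈ Finset.range n, S l (w 0 n) := by
      have := ih (fun i : Fin r => M i.succ) N (φ.curryLeft (w 0 n)) n (fun i => y i.succ) (fun i => w i.succ)
        (fun i => hw i.succ)
      simp only [MultilinearMap.curryLeft_apply] at this
      rw [← this]
      exact Finset.sum_comm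
    rw [h2, h3]
    have hL : ∀ f : ℕ → N, (∑ j ∈ Finset.range n, φ (Fin.cons (y 0 j) (Fin.tail fun k => w k j))) =
        ∑ j ∈ Finset.range n, φ (Fin.cons (y 0 j) (t j)) := fun _ => rfl
    rw [hL (fun _ => 0), Finset.sum_congr rfl h1, Finset.sum_add_distrib]
    show _ = (∑ j ∈ Finset.range n, φ (Fin.cons (y 0 j) (t 0))) + _
    rw [add_assoc]
    congr 1
    rw [← Finset.smul_sum]
    rw [Finset.sum_congr rfl fun l hl => show S l (w 0 (l + 1)) = S l (w 0 0) + α • ∑ j ∈ Finset.range (l + 1), S l (y 0 j) by
        rw [hw0 _ (by simp only [Finset.mem_range] at hl; omega), hSadd, hSsmul, hSsum],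
      Finset.sum_congr rfl fun l hl => show S l (w 0 n) = S l (w 0 0) + α • ∑ j ∈ Finset.range n, S l (y 0 j) by
        rw [hw0 _ le_rfl, hSadd, hSsmul, hSsum],
      Finset.sum_add_distrib, Finset.sum_add_distrib, ← Finset.smul_sum, ← Finset.smul_sum,
      ← add_assoc, add_comm (α • _), add_assoc, ← smul_add]
    congr 2
    have hswap : (∑ j ∈ Finset.range n, ∑ l ∈ Finset.range j, S l (y 0 j)) =
        ∑ l ∈ Finset.range n, ∑ j ∈ Finset.Ico (l + 1) n, S l (y 0 j) := by
      apply Finset.sum_comm'
      intro x y
      simp only [Finset.mem_range, Finset.mem_Ico]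
      omega
    rw [hswap, ← Finset.sum_add_distrib]
    refine Finset.sum_congr rfl fun l hl => ?_
    simp only [Finset.mem_range] at hl
    rw [add_comm, Finset.range_eq_Ico, Finset.range_eq_Ico, Finset.sum_Ico_consecutive _ (Nat.zero_le _) (by omega)]


/-- Let A be a commutative ring, α ∈ A a non-zero-divisor, M_1, …, M_r and N modules over A and φ : M_1
× ⋯ × M_r → N an A-multilinear map. Let n be a natural number and let y_{i,j} (j < n) and w_{i,j} (j
≤ n) be elements of M_i with w_{i,j+1} = w_{i,j} + α y_{i,j} for all i and all j < n. Then Σ_i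
Σ_{j<n} φ(w_{1,j+1}, …, w_{i-1,j+1}, y_{i,j}, w_{i+1,j}, …, w_{r,j}) = Σ_i Σ_{j<n} φ(w_{1,n}, …,
w_{i-1,n}, y_{i,j}, w_{i+1,0}, …, w_{r,0}). (The published statement takes n ≥ 1; for n = 0 both
sides are empty sums. The families y, w are indexed by all natural numbers here and only the indices
named above enter.) -/
theorem result {A : Type u} [CommRing A] (α : A) (hα : α ∈ nonZeroDivisors A)
    {r : ℕ} (M : Fin r → Type v) (N : Type w) [∀ i, AddCommGroup (M i)] [∀ i, Module A (M i)]
    [AddCommGroup N] [Module A N] (φ : MultilinearMap A M N) (n : ℕ)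
    (y w : ∀ i, ℕ → M i) (hw : ∀ i, ∀ j < n, w i (j + 1) = w i j + α • y i j) :
    (∑ i : Fin r, ∑ j ∈ Finset.range n,
        φ (fun k => if k < i then w k (j + 1) else if k = i then y k j else w k j)) =
      ∑ i : Fin r, ∑ j ∈ Finset.range n,
        φ (fun k => if k < i then w k n else if k = i then y k j else w k 0) := by
  exact main α M N φ n y w hw


end Groth.Agent.S13682
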