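import Groth.Statements.S13683
import Mathlib.LinearAlgebra.Multilinear.Basic
import Mathlib.Algebra.Module.Basic

set_option autoImplicit false
universe u v
open BTGrp

namespace Groth.Agent.S13683

theorem iter_nsmul {X : Type*} [AddCommGroup X] (f : X →+ X) (n : ℕ) (c : ℕ) (x : X) :
    (⇑f)^[n] (c • x) = c • (⇑f)^[n] x := by
  induction n with
  | zero => simp
  | succ n ih => simp only [Function.iterate_succ_apply', ih, map_nsmul]

theorem iter_VF {X : Type*} [AddCommGroup X] (p : ℕ) (F V : X →+ X) (h : ∀ x, V (F x) = p • x) :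
    ∀ (n : ℕ) (x : X), (⇑V)^[n] ((⇑F)^[n] x) = p ^ n • x := by
  intro n
  induction n with
  | zero => intro x; simp
  | succ n ih =>
    intro x
    rw [Function.iterate_succ_apply, Function.iterate_succ_apply' (⇑F), h, iter_nsmul, ih, smul_smul, pow_succ']


/-- Let p be a natural number and r ≥ 1; let M_1, …, M_r and N be abelian groups carrying additive
endomorphisms F_i, V_i (on M_i) and F_0, V_0 (on N) with V_i ∘ F_i and V_0 ∘ F_0 equal to
multiplication by p and V_0 injective; let φ : M_1 × ⋯ × M_r → N be additive in each variable with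
φ(V_1 x_1, …, V_r x_r) = V_0 φ(x_1, …, x_r). If y_i, z_i ∈ M_i satisfy F_i^N z_i = V_i^M y_i for all
i, then for every d ∈ N^r one has F_0^N (p^{(r-1)N} φ(V_1^{d_1} z_1, …, V_r^{d_r} z_r)) = V_0^M
φ(V_1^{d_1} y_1, …, V_r^{d_r} y_r). (The published statement is the case of Dieudonné modules over a
perfect field of characteristic p, with F and V the Frobenius and Verschiebung and φ a multilinear
morphism of the associated displays; only the structure listed here enters its proof. For r = 0 the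
assertion fails, so r ≥ 1 is required.) -/
theorem result (p : ℕ) {r : ℕ} (hr : 0 < r)
    (M : Fin r → Type u) (N : Type v) [∀ i, AddCommGroup (M i)] [AddCommGroup N]
    (F V : ∀ i, M i →+ M i) (F₀ V₀ : N →+ N)
    (hVF : ∀ i (x : M i), V i (F i x) = p • x) (hVF₀ : ∀ x : N, V₀ (F₀ x) = p • x)
    (hV₀ : Function.Injective V₀)
    (φ : MultilinearMap ℤ M N) (hφ : ∀ x : ∀ i, M i, φ (fun i => V i (x i)) = V₀ (φ x))
    (Nn Mm : ℕ) (d : Fin r → ℕ) (y z : ∀ i, M i)
    (hyz : ∀ i, (⇑(F i))^[Nn] (z i) = (⇑(V i))^[Mm] (y i)) :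
    (⇑F₀)^[Nn] (p ^ ((r - 1) * Nn) • φ (fun i => (⇑(V i))^[d i] (z i))) =
      (⇑V₀)^[Mm] (φ (fun i => (⇑(V i))^[d i] (y i))) := by
  have hcomm : ∀ {X : Type v} [AddCommGroup X] (f : X →+ X) (n : ℕ) (c : ℕ) (x : X),
      (⇑f)^[n] (c • x) = c • (⇑f)^[n] x := fun f n c x => iter_nsmul f n c x
  have hN : ∀ (n : ℕ) (x : N), (⇑V₀)^[n] ((⇑F₀)^[n] x) = p ^ n • x := fun n x => iter_VF p F₀ V₀ hVF₀ n x
  have hM : ∀ i (n : ℕ) (x : M i), (⇑(V i))^[n] ((⇑(F i))^[n] x) = p ^ n • x :=
    fun i n x => iter_VF p (F i) (V i) (hVF i) n x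
  have hφn : ∀ (n : ℕ) (x : ∀ i, M i), φ (fun i => (⇑(V i))^[n] (x i)) = (⇑V₀)^[n] (φ x) := by
    intro n
    induction n with
    | zero => intro x; simp
    | succ n ih =>
      intro x
      simp only [Function.iterate_succ_apply']
      rw [hφ, ih]
  apply (hV₀.iterate Nn)
  rw [hN, smul_smul, ← pow_add, show Nn + (r - 1) * Nn = r * Nn by
    obtain ⟨r, rfl⟩ : ∃ r', r = r' + 1 := ⟨r - 1, by omega⟩
    rw [Nat.add_sub_cancel, Nat.add_one_mul, add_comm]]
  rw [← Function.iterate_add_apply, ← hφn]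
  have h1 : p ^ (r * Nn) • φ (fun i => (⇑(V i))^[d i] (z i)) =
      φ (fun i => ((p ^ Nn : ℕ) : ℤ) • (⇑(V i))^[d i] (z i)) := by
    rw [MultilinearMap.map_smul_univ, Finset.prod_const, Finset.card_univ, Fintype.card_fin, ← Nat.cast_pow,
      ← pow_mul, mul_comm Nn r, natCast_zsmul]
  rw [h1]
  congr 1
  funext i
  rw [natCast_zsmul, ← iter_nsmul, ← hM, hyz, ← Function.iterate_add_apply, ← Function.iterate_add_apply,
    ← Function.iterate_add_apply]
  congr 1
  omega


end Groth.Agent.S13683
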