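import Groth.Statements.S13687
import Groth.Agent.Lib.KS29.Descent
-- import your own Groth.Agent.* helpers here

set_option autoImplicit false
universe u
open CategoryTheory CategoryTheory.Limits AlgebraicGeometry
open ASBun

namespace Groth.Agent.S13687

open W4c1astiltbs12 in
/-- Let X be a scheme proper over a field k, F and G coherent O_X-modules (quasi-coherent of finite
type; X is Noetherian) and K an algebraic field extension of k, with projection π : X_K → X. If π^*F
and π^*G are isomorphic, then F and G are isomorphic (existence of an isomorphism). (The published
statement takes K to be an algebraic closure of k; the argument treats a finite extension and passes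
to the limit over finite subextensions, which covers every algebraic extension.) -/
theorem result (k : Type u) [Field k] {X : Scheme.{u}}
    (p : X ⟶ Spec (CommRingCat.of k)) [IsProper p] (K : Type u) [Field K] [Algebra k K]
    [Algebra.IsAlgebraic k K] (F G : X.Modules) (hF : Coh.IsCoh F) (hG : Coh.IsCoh G)
    (e : bcMod p K F ≅ bcMod p K G) : Nonempty (F ≅ G) := by
  exact Groth.Agent.KS29.iso_of_bc_iso p hF hG e

end Groth.Agent.S13687
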