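import Groth.Statements.S1369
import Groth.Agent.Lib.Dev4.RelAssNear

set_option autoImplicit false
universe u
open FlatMor
set_option maxSynthPendingDepth 3
open TensorProduct

set_option backward.isDefEq.respectTransparency.types false

namespace Groth.Agent.S1369

open AlgebraicGeometry CategoryTheory Limits in
/-- Let f be of finite type with irreducible target, F a quasi-coherent module of finite type on the
source and U an open of the source. If some associated point of F restricted to the generic fibre is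
not in U, then over some nonempty open of the target every fibre carries an associated point of F
(restricted to that fibre) outside U. -/
theorem result {X Y : Scheme.{u}} (f : X ⟶ Y) [IrreducibleSpace ↑Y] [LocallyOfFiniteType f] [QuasiCompact f]
    (F : X.Modules) (hF : Coh.IsCoh F) (U : X.Opens)
    (h : ∃ x ∈ MoreMor.relAss f F, f x = genericPoint ↑Y ∧ x ∉ U) :
    ∃ V : Y.Opens, (V : Set ↑Y).Nonempty ∧ ∀ y ∈ V, ∃ x ∈ MoreMor.relAss f F, f x = y ∧ x ∉ U := by
  obtain ⟨x₀, hx₀, hgen, hxU⟩ := h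
  obtain ⟨V₀, hV₀, hV₀x, -⟩ := exists_isAffineOpen_mem_and_subset (X := Y) (x := f x₀) (U := ⊤) trivial
  obtain ⟨U₀, hU₀, hxU₀, hUV⟩ := exists_isAffineOpen_mem_and_subset (X := X) (x := x₀) (U := f ⁻¹ᵁ V₀) hV₀x
  obtain ⟨O, hO, hrel, hmeet⟩ := Groth.Agent.Dev4.exists_open_relAss_near f F hF hx₀ hV₀ hU₀ hxU₀ hUV
  refine ⟨O, ⟨_, hO⟩, fun y hy => ?_⟩
  obtain ⟨z, hzU, hxz, hfz⟩ := hmeet y hy (hgen ▸ genericPoint_specializes y)
  obtain ⟨a, hxa, haz, hfa, hmax⟩ := Groth.Agent.Dev4.exists_max_in_closure f hxz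
  refine ⟨a, hrel a (haz.mem_open U₀.2 hzU) (by rw [hfa, hfz]; exact hy) hxa hmax, hfa.trans hfz, fun haU => hxU ?_⟩
  exact hxa.mem_open U.2 haU

end Groth.Agent.S1369
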