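import Groth.Statements.S13691
import Groth.Agent.Lib.KS29.InvSplit
-- import your own Groth.Agent.* helpers here

set_option autoImplicit false
universe u
open CategoryTheory CategoryTheory.Limits AlgebraicGeometry
open ASBun

namespace Groth.Agent.S13691

open W4c1astiltbs12 in
/-- Let X be proper over a field k and K a separable closure of k such that X_K is connected, with
projection π : X_K → X, and write σ_X for the automorphism of X_K induced by a k-automorphism σ of
K. Let M be an indecomposable finite locally free O_X-module (nonzero, and in any decomposition as a
direct sum one summand is zero) which splits over K into invertible modules with Galois-invariant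
classes: π^*M ≅ L_1 ⊕ ⋯ ⊕ L_n with each L_i invertible and σ_X^*L_i ≅ L_i for all σ and i. Then M is
isotypical of invertible type: π^*M ≅ L^{⊕r} for some invertible O_{X_K}-module L and some r ≥ 1,
and L is unique up to isomorphism with this property. (The published statement omits the invariance
of the summands L_i, and is then contradicted by the direct image on an elliptic curve of the
invertible module of a point defined over a quadratic extension but not over k; its argument also
treats invertible modules on X_K as indecomposable, whence the connectedness hypothesis.) -/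
theorem result (k : Type u) [Field k]
    {X : Scheme.{u}} (p : X ⟶ Spec (CommRingCat.of k)) [IsProper p] (K : Type u) [Field K]
    [Algebra k K] [IsSepClosure k K] [ConnectedSpace ↥(W4bk4gw11416.baseChange p K)]
    (M : X.Modules) (hM : FlatMod.IsFinLocFree M)
    (hMi : (¬ IsZero M ∧ ∀ A B : X.Modules, Nonempty (M ≅ A ⊞ B) → IsZero A ∨ IsZero B))
    (n : ℕ) (Ls : Fin n → (W4bk4gw11416.baseChange p K).Modules) (hLs : ∀ i, PicF.IsInvertible (Ls i))
    (hinv : ∀ (σ : K ≃ₐ[k] K) (i : Fin n),
      Nonempty ((Scheme.Modules.pullback (galAct p K σ)).obj (Ls i) ≅ Ls i))
    (e : Nonempty (bcMod p K M ≅ ∐ Ls)) :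
    ∃ (L : (W4bk4gw11416.baseChange p K).Modules) (r : ℕ), PicF.IsInvertible L ∧ 0 < r ∧
      Nonempty (bcMod p K M ≅ pow L r) ∧
      ∀ (L' : (W4bk4gw11416.baseChange p K).Modules) (r' : ℕ), PicF.IsInvertible L' →
        Nonempty (bcMod p K M ≅ pow L' r') → Nonempty (L' ≅ L) := by
  exact Groth.Agent.KS29.exists_isotypical_of_invariant p K hM hMi hLs hinv e

end Groth.Agent.S13691
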