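import Groth.Statements.S13692
import Groth.Agent.Lib.GalCoh25.Descent
import Groth.Agent.Lib.GalCoh25.DescentIso
import Groth.Agent.Lib.GalCoh25.FiniteCancel
import Mathlib.Algebra.MvPolynomial.Funext
import Mathlib.RingTheory.Norm.Defs
import Mathlib.RingTheory.TensorProduct.Free
import Mathlib.LinearAlgebra.FiniteDimensional.Basic

set_option autoImplicit false
universe u v w
open scoped TensorProduct
attribute [local instance] CSAGal.tensorAction GpH1.unitsAction
open GalCoh

namespace Groth.Agent.S13692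

/-- Let K be a finite Galois extension of a field k with Galois group G = Aut_k(K), and A a
finite-dimensional associative unital k-algebra, not assumed simple or central. Then H¹(G, (K ⊗_k
A)ˣ) is trivial, G acting on K ⊗_k A through the first factor. (The published statement allows any
Galois extension and reduces to the finite case by a direct limit; the finite case is stated.) -/
theorem result (k : Type u) [Field k] (K : Type v)
    [Field K] [Algebra k K] [FiniteDimensional k K] [IsGalois k K]
    (A : Type w) [Ring A] [Algebra k A] [FiniteDimensional k A] :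
    GpH1.H1.IsTrivial (K ≃ₐ[k] K) (K ⊗[k] A)ˣ := by
  classical
  intro x
  obtain ⟨a, rfl⟩ := GpH1.OneCocycle.cl_surjective x
  let aL : GpH1.OneCocycle (K ≃ₐ[k] K) ((K ⊗[k] A) ≃ₗ[K] (K ⊗[k] A)) :=
    ⟨fun σ => Units.mulLeftLinearEquiv (R := K) (K ⊗[k] A) (a.1 σ), fun σ τ => LinearEquiv.ext fun z => by
      have h := congrArg Units.val (a.2 σ τ)
      show ((a.1 (σ * τ) : (K ⊗[k] A)ˣ) : K ⊗[k] A) * z =
        (a.1 σ : K ⊗[k] A) * σ • ((a.1 τ : K ⊗[k] A) * σ⁻¹ • z)
      rw [h, Units.val_mul, smul_mul', smul_inv_smul, mul_assoc]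
      rfl⟩
  have haL : ∀ σ z, aL.1 σ z = (a.1 σ : K ⊗[k] A) * z := fun σ z => rfl
  have hsl := GalCoh25.isSemilinearAction_twist aL
  let W : Submodule k (K ⊗[k] A) := GalDesc.fixedSub aL
  have hfix : ∀ z, z ∈ W ↔ ∀ σ : K ≃ₐ[k] K, (a.1 σ : K ⊗[k] A) * σ • z = z := fun z => Iff.rfl
  have hspan : Submodule.span K (W : Set (K ⊗[k] A)) = ⊤ := GalCoh25.span_fixed_eq_top hsl
  have hfin : IsDedekindFiniteMonoid (K ⊗[k] A) := ⟨fun {p q} hpq => by
    have hs : Function.Surjective (LinearMap.mulLeft K p) := fun z => ⟨q * z, by simp [← mul_assoc, hpq]⟩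
    have hi := LinearMap.injective_iff_surjective.mpr hs
    apply hi
    simp [← mul_assoc, hpq]⟩
  suffices ∃ w ∈ W, IsUnit w by
    obtain ⟨w, hw, u, rfl⟩ := this
    refine (GpH1.OneCocycle.cl_eq_cl_iff a GpH1.OneCocycle.trivial).mpr ⟨u⁻¹, fun σ => ?_⟩
    show a.1 σ = u⁻¹⁻¹ * 1 * σ • u⁻¹
    rw [inv_inv, mul_one, smul_inv', eq_mul_inv_iff_mul_eq]
    exact Units.ext ((hfix _).mp hw σ)
  rcases finite_or_infinite k with hk | hk
  · -- finite field: the fixed space is free of rank one over `A` by counting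
    haveI : Finite A := Module.finite_of_finite k
    haveI : Finite K := Module.finite_of_finite k
    haveI : Finite (K ⊗[k] A) := Module.finite_of_finite K
    letI : Module Aᵐᵒᵖ (K ⊗[k] A) :=
      Module.compHom (K ⊗[k] A) (RingHom.op (Algebra.TensorProduct.includeRight (R := k) (A := K) (B := A)).toRingHom)
    have hsmul : ∀ (b : A) (z : K ⊗[k] A), MulOpposite.op b • z = z * ((1 : K) ⊗ₜ[k] b) := fun b z => rfl
    have hfixr : ∀ (σ : K ≃ₐ[k] K) (b : A), σ • ((1 : K) ⊗ₜ[k] b) = (1 : K) ⊗ₜ[k] b := fun σ b => by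
      exact (TensorProduct.smul_tmul' σ (1 : K) b).trans (by rw [smul_one])
    let WA : Submodule Aᵐᵒᵖ (K ⊗[k] A) :=
      { W.toAddSubmonoid with
        smul_mem' := fun b z hz => (hfix _).mpr fun σ => by
          obtain ⟨b, rfl⟩ : ∃ b', MulOpposite.op b' = b := ⟨b.unop, rfl⟩
          rw [hsmul, smul_mul', hfixr, ← mul_assoc, (hfix _).mp hz σ] }
    obtain ⟨g, hg, -⟩ := GalCoh25.exists_descentEquiv aL W.subtype W.subtype_injective (fun z => by
      rw [← GalDesc.mem_fixedSub]; exact ⟨fun ⟨w, hw⟩ => hw ▸ w.2, fun h => ⟨⟨z, h⟩, rfl⟩⟩)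
    let c := Module.finBasis k K
    let FW : (Fin (Module.finrank k K) → WA) →ₗ[Aᵐᵒᵖ] K ⊗[k] A :=
      { toFun := fun f => ∑ i, c i • (f i : K ⊗[k] A)
        map_add' := fun f f' => by simp [smul_add, Finset.sum_add_distrib]
        map_smul' := fun b f => by
          obtain ⟨b, rfl⟩ : ∃ b', MulOpposite.op b' = b := ⟨b.unop, rfl⟩
          rw [RingHom.id_apply, hsmul, Finset.sum_mul]
          refine Finset.sum_congr rfl fun i _ => ?_
          show c i • (MulOpposite.op b • (f i : K ⊗[k] A)) = _
          rw [hsmul, smul_mul_assoc] }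
    let FA : (Fin (Module.finrank k K) → A) →ₗ[Aᵐᵒᵖ] K ⊗[k] A :=
      { toFun := fun f => ∑ i, c i ⊗ₜ[k] f i
        map_add' := fun f f' => by simp [TensorProduct.tmul_add, Finset.sum_add_distrib]
        map_smul' := fun b f => by
          obtain ⟨b, rfl⟩ : ∃ b', MulOpposite.op b' = b := ⟨b.unop, rfl⟩
          rw [RingHom.id_apply, hsmul, Finset.sum_mul]
          simp }
    have hFA : Function.Bijective FA := by
      let e := (TensorProduct.equivFinsuppOfBasisLeft (N := A) c).trans (Finsupp.linearEquivFunOnFinite k A _)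
      have h : (FA : _ → K ⊗[k] A) = e.symm := funext fun f => by
        apply e.injective
        rw [e.apply_symm_apply]
        ext i
        simp [FA, e, Finsupp.single_apply, Finset.sum_ite_eq', Finset.sum_ite_eq, eq_comm]
      rw [h]; exact e.symm.bijective
    have hFW : Function.Bijective FW := by
      let e : (Fin (Module.finrank k K) → WA) ≃ (Fin (Module.finrank k K) → W) :=
        Equiv.refl _
      let e' := (TensorProduct.equivFinsuppOfBasisLeft (N := W) c).trans (Finsupp.linearEquivFunOnFinite k W _)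
      have h : (FW : _ → K ⊗[k] A) = g.symm ∘ e'.symm ∘ e := funext fun f => by
        have : e'.symm (e f) = ∑ i, c i ⊗ₜ[k] (e f i) := by
          apply e'.injective
          rw [e'.apply_symm_apply]
          ext i
          simp [e', Finsupp.single_apply, Finset.sum_ite_eq', Finset.sum_ite_eq, eq_comm]
        simp only [Function.comp_apply, this, map_sum, hg]
        rfl
      rw [h]
      exact g.symm.bijective.comp (e'.symm.bijective.comp e.bijective)
    obtain ⟨φ⟩ := GalCoh25.nonempty_linearEquiv_of_pow (Module.finrank_pos (R := k) (M := K)).ne'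
      ((LinearEquiv.ofBijective FA hFA).trans (LinearEquiv.ofBijective FW hFW).symm)
    refine ⟨_, (φ 1).2, ?_⟩
    have hle : Submodule.span K (W : Set (K ⊗[k] A)) ≤
        LinearMap.range (LinearMap.mulLeft K ((φ 1 : WA) : K ⊗[k] A)) := by
      rw [Submodule.span_le]
      intro z hz
      refine ⟨(1 : K) ⊗ₜ[k] φ.symm ⟨z, hz⟩, ?_⟩
      have : φ (MulOpposite.op (φ.symm ⟨z, hz⟩) • (1 : A)) = MulOpposite.op (φ.symm ⟨z, hz⟩) • φ 1 := map_smul φ _ _
      rw [op_smul_eq_mul, one_mul, φ.apply_symm_apply] at this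
      exact (congrArg Subtype.val this).symm
    obtain ⟨q, hq⟩ := hle (hspan ▸ Submodule.mem_top : (1 : K ⊗[k] A) ∈ _)
    exact IsUnit.of_mul_eq_one q hq
  · -- infinite field: a norm polynomial
    let B := Module.finBasis K (K ⊗[k] A)
    let L : (K ⊗[k] A) →ₐ[K] Matrix _ _ K := Algebra.leftMulMatrix B
    obtain ⟨l, hl⟩ : ∃ l : ↥(Set.range (Module.finBasis k W)) →₀ K,
        Finsupp.linearCombination K (fun i : ↥(Set.range (Module.finBasis k W)) => ((i.1 : W) : K ⊗[k] A)) l = 1 := by
      rw [← LinearMap.mem_range, Finsupp.range_linearCombination]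
      have : Submodule.span K (W : Set (K ⊗[k] A)) ≤ Submodule.span K
          (Set.range fun i : ↥(Set.range (Module.finBasis k W)) => ((i.1 : W) : K ⊗[k] A)) := by
        rw [Submodule.span_le]
        intro z hz
        show ((⟨z, hz⟩ : W) : K ⊗[k] A) ∈ _
        rw [← (Module.finBasis k W).sum_repr ⟨z, hz⟩, Submodule.coe_sum]
        refine Submodule.sum_mem _ fun i _ => ?_
        rw [Submodule.coe_smul, ← algebraMap_smul K]
        exact Submodule.smul_mem _ _ (Submodule.subset_span ⟨⟨_, i, rfl⟩, rfl⟩)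
      exact this (hspan ▸ Submodule.mem_top)
    haveI : Finite ↥(Set.range (Module.finBasis k W)) := Set.finite_range _
    haveI := Fintype.ofFinite ↥(Set.range (Module.finBasis k W))
    let p : MvPolynomial ↥(Set.range (Module.finBasis k W)) K :=
      Matrix.det (∑ i : ↥(Set.range (Module.finBasis k W)), (MvPolynomial.X i : MvPolynomial _ K) •
        (L ((i.1 : W) : K ⊗[k] A)).map MvPolynomial.C)
    have heval : ∀ t, MvPolynomial.eval t p = (L (∑ i, t i • ((i.1 : W) : K ⊗[k] A))).det := by
      intro t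
      rw [RingHom.map_det, map_sum]
      congr 1
      ext r s
      simp [RingHom.mapMatrix_apply, Matrix.sum_apply]
    have hp : p ≠ 0 := fun h0 => by
      have := heval (fun i => l i)
      have hsum : ∑ i : ↥(Set.range (Module.finBasis k W)), l i • ((i.1 : W) : K ⊗[k] A) = 1 := by
        rw [← hl, Finsupp.linearCombination_apply, Finsupp.sum_fintype]
        simp
      rw [h0, map_zero, hsum, map_one, Matrix.det_one] at this
      exact zero_ne_one this
    obtain ⟨t, ht⟩ : ∃ t : ↥(Set.range (Module.finBasis k W)) → k, MvPolynomial.eval (fun i => algebraMap k K (t i)) p ≠ 0 := by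
      by_contra hcon
      apply hp
      refine MvPolynomial.funext_set (fun _ => Set.range (algebraMap k K))
        (fun _ => Set.infinite_range_of_injective (algebraMap k K).injective) fun z hz => ?_
      choose t ht using fun i => hz i (Set.mem_univ i)
      rw [map_zero, ← show (fun i => algebraMap k K (t i)) = z from funext ht]
      exact not_not.mp fun hne => hcon ⟨t, hne⟩
    refine ⟨∑ i, algebraMap k K (t i) • ((i.1 : W) : K ⊗[k] A), Submodule.sum_mem _ fun i _ => ?_, ?_⟩
    · rw [algebraMap_smul]; exact W.smul_mem _ i.1.2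
    · rw [heval] at ht
      have hu := (Matrix.isUnit_iff_isUnit_det _).mpr (isUnit_iff_ne_zero.mpr ht)
      have hs : Function.Surjective (LinearMap.mulLeft K (∑ i, algebraMap k K (t i) • ((i.1 : W) : K ⊗[k] A))) := by
        have := (LinearMap.isUnit_toMatrix_iff B).mp (by rwa [← Algebra.toMatrix_lmul_eq] at hu)
        exact ((Module.End.isUnit_iff _).mp this).2
      obtain ⟨q, hq⟩ := hs 1
      exact IsUnit.of_mul_eq_one q hq

end Groth.Agent.S13692
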