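import Groth.Statements.S13694
import Groth.Agent.Lib.KS29.Simple
-- import your own Groth.Agent.* helpers here

set_option autoImplicit false
universe u
open CategoryTheory CategoryTheory.Limits AlgebraicGeometry
open ASBun

namespace Groth.Agent.S13694

open W4c1astiltbs12 in
/-- Let X be a proper, geometrically integral scheme over a field k, K an algebraic closure of k with
projection π : X_K → X, and E an indecomposable finite locally free O_X-module (nonzero, and in any
decomposition as a direct sum one summand is zero) which is absolutely rank-one-isotypical: π^*E ≅
L^{⊕r} for some invertible O_{X_K}-module L and some r. Then the endomorphism ring of E is a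
division ring: every nonzero endomorphism of E is an isomorphism. (The published statement says more
precisely that this ring is a central division algebra over k; only the division-ring property is
stated here.) -/
theorem result (k : Type u) [Field k]
    {X : Scheme.{u}} (p : X ⟶ Spec (CommRingCat.of k)) [IsProper p] [GeometricallyIntegral p]
    (K : Type u) [Field K] [Algebra k K] [IsAlgClosure k K]
    (E : X.Modules) (hE : FlatMod.IsFinLocFree E)
    (hEi : (¬ IsZero E ∧ ∀ A B : X.Modules, Nonempty (E ≅ A ⊞ B) → IsZero A ∨ IsZero B))
    (L : (W4bk4gw11416.baseChange p K).Modules) (hL : PicF.IsInvertible L) (r : ℕ)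
    (e : Nonempty (bcMod p K E ≅ pow L r)) (f : E ⟶ E) (hf : f ≠ 0) : IsIso f := by
  haveI := Groth.Agent.KS29.isSimpleRing_end p (Groth.Agent.CohFound.isCoh_of_isFinLocFree hE) hEi.1 hL e.some
  exact Groth.Agent.KS29.isIso_of_ne_zero p (Groth.Agent.CohFound.isCoh_of_isFinLocFree hE) hEi f hf

end Groth.Agent.S13694
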