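import Groth.Statements.S13695
import Groth.Agent.Lib.GammaD.Image2
-- import your own Groth.Agent.* helpers here

set_option autoImplicit false
universe u
open scoped TensorProduct
open ZeroCyc

namespace Groth.Agent.S13695

/-- For a commutative ring A, a commutative A-algebra B and a multiplicative polynomial law F : B → A
homogeneous of degree d, the quotient of B by the kernel of F (the largest ideal I of B such that F
factors through B/I) is integral over A. Geometrically: the image of a family of zero-cycles of
degree d on Spec B parametrised by Spec A is integral over Spec A. -/
theorem result {A : Type u} [CommRing A] {B : Type u} [CommRing B] [Algebra A B]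
    {d : ℕ} (F : PolLaw.MulLaw A B A d) :
    Algebra.IsIntegral A (PolLaw.image F.law) := by
  exact GammaD.isIntegral_image

end Groth.Agent.S13695
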