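import Groth.Statements.S13696
import Groth.Agent.Lib.GammaD.Image2
-- import your own Groth.Agent.* helpers here

set_option autoImplicit false
universe u
open scoped TensorProduct
open ZeroCyc

namespace Groth.Agent.S13696

/-- Let F : B → A be a multiplicative polynomial law homogeneous of degree d, where B is a commutative
algebra over the commutative ring A. For b ∈ B the characteristic polynomial of b with respect to F
is χ_b = F_{A[X]}(1 ⊗ b − X ⊗ 1) ∈ A[X] ⊗_A A = A[X], and the Cayley–Hamilton ideal of F is the
ideal of B generated by the elements χ_b(b), b ∈ B. Then the Cayley–Hamilton ideal is contained in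
the kernel of F, and the kernel of F is contained in the radical of the Cayley–Hamilton ideal. -/
theorem result {A : Type u} [CommRing A] {B : Type u} [CommRing B] [Algebra A B]
    {d : ℕ} (F : PolLaw.MulLaw A B A d) (χ : B → Polynomial A)
    (hχ : ∀ b : B, χ b = TensorProduct.rid A (Polynomial A)
      (F.law.toFun' (Polynomial A) ((1 : Polynomial A) ⊗ₜ[A] b - Polynomial.X ⊗ₜ[A] (1 : B)))) :
    Ideal.span (Set.range fun b : B => Polynomial.aeval b (χ b)) ≤ PolLaw.ker F.law ∧
      PolLaw.ker F.law ≤ (Ideal.span (Set.range fun b : B => Polynomial.aeval b (χ b))).radical := by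
  have hc : ∀ b, χ b = GammaD.chi F A ((1 : A) ⊗ₜ[A] b) := by
    intro b
    rw [hχ, GammaD.chi, GammaD.nv, Algebra.TensorProduct.map_tmul, map_one, AlgHom.id_apply]
    rfl
  refine ⟨Ideal.span_le.2 ?_, fun b hb => ⟨d, ?_⟩⟩
  · rintro _ ⟨b, rfl⟩
    show Polynomial.aeval b (χ b) ∈ _
    rw [hc]
    exact GammaD.aeval_chi_mem_ker b
  · refine Ideal.span_le.2 ?_ (GammaD.pow_mem_span_of_mem_ker hb)
    rintro _ rfl
    exact Ideal.subset_span ⟨b, by simp only [hc]⟩

end Groth.Agent.S13696
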