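import Groth.Statements.S13702
import Groth.Agent.Lib.GammaD.Misc26
-- import your own Groth.Agent.* helpers here

set_option autoImplicit false
universe u
open ZeroCyc

namespace Groth.Agent.S13702

/-- Let A be a local ring with residue field of characteristic p > 0, let g ∈ A[X] be monic and
separable of degree n, so that A' = A[X]/(g) is an étale A-algebra, and let q = p^s with s ≥ 0. Then
the powers 1, t^q, t^{2q}, …, t^{(n-1)q} of the class t of X form a basis of A' as an A-module. -/
theorem result {A : Type u} [CommRing A] [IsLocalRing A] (p : ℕ) [Fact p.Prime]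
    [CharP (IsLocalRing.ResidueField A) p] (g : Polynomial A) (hg : g.Monic) (hsep : g.Separable) (s : ℕ) :
    ∃ b : Module.Basis (Fin g.natDegree) A (AdjoinRoot g),
      ∀ i : Fin g.natDegree, b i = AdjoinRoot.root g ^ (p ^ s * (i : ℕ)) := by
  exact Groth.Agent.GammaD.Misc26.exists_basis p g hg hsep s

end Groth.Agent.S13702
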