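import Groth.Statements.S13706
import Groth.Agent.Lib.GammaD.Image2
-- import your own Groth.Agent.* helpers here

set_option autoImplicit false
universe u
open scoped TensorProduct
open ZeroCyc

namespace Groth.Agent.S13706

/-- Let A be a commutative ring, B an A-algebra of finite type and F : B → A a multiplicative polynomial
law homogeneous of degree d. Then there is a finitely generated ideal J of B, contained in the
kernel of F and with the same radical; thus the support of the family of zero-cycles defined by F is
carried by a bijective closed immersion into Spec(B/J), a scheme of finite presentation over A. -/
theorem result {A : Type u} [CommRing A] {B : Type u} [CommRing B] [Algebra A B]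
    [Algebra.FiniteType A B] {d : ℕ} (F : PolLaw.MulLaw A B A d) :
    ∃ J : Ideal B, J.FG ∧ J ≤ PolLaw.ker F.law ∧ J.radical = (PolLaw.ker F.law).radical := by
  exact GammaD.exists_fg_le_ker

end Groth.Agent.S13706
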