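import Groth.Statements.S13708
import Mathlib
-- import your own Groth.Agent.* helpers here

set_option autoImplicit false
universe u
open CategoryTheory CategoryTheory.Limits AlgebraicGeometry
open ZeroCyc

namespace Groth.Agent.S13708

/-- Let X be a scheme over S such that every finite set of points of X over a common point of S lies in
some affine open subscheme of X (the condition (AF)). Then X is separated over S. (The published
condition (AF) asks for an open U with U → S quasi-affine rather than U affine; with U affine, as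
here, the same argument applies verbatim, and the two conditions agree over a quasi-separated base.) -/
theorem result {X S : Scheme.{u}} (f : X ⟶ S) (hX : SymProd.IsAF f) :
    IsSeparated f := by
  classical
  constructor
  let 𝒰 := S.affineCover
  let 𝒱 (i) : (pullback f (𝒰.f i)).OpenCover := (pullback f (𝒰.f i)).openCoverOfIsOpenCover
      (fun W : (pullback f (𝒰.f i)).affineOpens => W.1) (iSup_affineOpens_eq_top _)
  haveI : ∀ i, IsAffine (𝒰.X i) := fun i => inferInstanceAs (IsAffine (Spec _))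
  haveI : ∀ i j, IsAffine ((𝒱 i).X j) := fun i j => j.2
  have htop : Scheme.Pullback.diagonalCoverDiagonalRange f 𝒰 𝒱 = ⊤ := by
    rw [← top_le_iff]
    rintro x -
    set a := pullback.fst f f x
    set b := pullback.snd f f x
    have hab : f a = f b := by
      rw [← Scheme.Hom.comp_apply, ← Scheme.Hom.comp_apply, pullback.condition]
    let i := 𝒰.idx (f a)
    obtain ⟨y, hy⟩ := 𝒰.covers (f a)
    obtain ⟨za, hza, -⟩ := Scheme.Pullback.exists_preimage_pullback _ _ hy.symm
    obtain ⟨zb, hzb, -⟩ := Scheme.Pullback.exists_preimage_pullback _ _ (hy.trans hab).symm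
    let p : pullback f (𝒰.f i) ⟶ X := pullback.fst f (𝒰.f i)
    obtain ⟨A, hA, hAT⟩ := hX (f a) {a, b} (by simp [hab])
    have haA : a ∈ A := hAT a (by simp)
    have hbA : b ∈ A := hAT b (by simp)
    -- a basic open of A inside the range of p
    obtain ⟨I, hI⟩ := (PrimeSpectrum.isClosed_iff_zeroLocus_ideal _).1
      (hA.fromSpec ⁻¹ᵁ p.opensRange).isOpen.isClosed_compl
    have hnot : ∀ c (hc : c ∈ A), c ∈ p.opensRange → ¬ I ≤ (hA.primeIdealOf ⟨c, hc⟩).asIdeal := by
      intro c hc hcp hle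
      have h1 : hA.primeIdealOf ⟨c, hc⟩ ∈ PrimeSpectrum.zeroLocus (I : Set Γ(X, A)) := hle
      rw [← hI] at h1
      apply h1
      show hA.fromSpec _ ∈ p.opensRange
      rw [hA.fromSpec_primeIdealOf]
      exact hcp
    have ha' := hnot a haA ⟨za, hza⟩
    have hb' := hnot b hbA ⟨zb, hzb⟩
    obtain ⟨g, hgI, hg⟩ : ∃ g ∈ I, g ∉ (hA.primeIdealOf ⟨a, haA⟩).asIdeal ∧ g ∉ (hA.primeIdealOf ⟨b, hbA⟩).asIdeal := by
      by_contra hcon
      push Not at hcon
      rcases (Ideal.subset_union.1 (fun g hg => or_iff_not_imp_left.2 (hcon g hg) :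
        (I : Set Γ(X, A)) ⊆ _ ∪ _)) with h | h
      · exact ha' h
      · exact hb' h
    have hle : X.basicOpen g ≤ p.opensRange := by
      intro c hc
      have hcA : c ∈ A := X.basicOpen_le g hc
      by_contra hcp
      have h1 : hA.primeIdealOf ⟨c, hcA⟩ ∈ (((hA.fromSpec ⁻¹ᵁ p.opensRange : (Spec Γ(X, A)).Opens) : Set ↥(Spec Γ(X, A)))ᶜ : Set ↥(Spec Γ(X, A))) := by
        intro h2
        apply hcp
        change hA.fromSpec _ ∈ p.opensRange at h2
        rwa [hA.fromSpec_primeIdealOf] at h2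
      rw [hI] at h1
      have h3 : hA.primeIdealOf ⟨c, hcA⟩ ∈ PrimeSpectrum.basicOpen g := by
        rw [← hA.fromSpec_preimage_basicOpen g]
        show hA.fromSpec _ ∈ X.basicOpen g
        rwa [hA.fromSpec_primeIdealOf]
      exact h3 (h1 hgI)
    have hmem : ∀ c (hc : c ∈ A), g ∉ (hA.primeIdealOf ⟨c, hc⟩).asIdeal → c ∈ X.basicOpen g := by
      intro c hc hgc
      have h3 : hA.primeIdealOf ⟨c, hc⟩ ∈ PrimeSpectrum.basicOpen g := hgc
      rw [← hA.fromSpec_preimage_basicOpen g] at h3
      change hA.fromSpec _ ∈ X.basicOpen g at h3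
      rwa [hA.fromSpec_primeIdealOf] at h3
    let W₀ : (pullback f (𝒰.f i)).affineOpens :=
      ⟨p ⁻¹ᵁ X.basicOpen g, (hA.basicOpen g).preimage_of_isOpenImmersion p hle⟩
    let W : (𝒱 i).I₀ := W₀
    simp only [Scheme.Pullback.diagonalCoverDiagonalRange, Scheme.Pullback.openCoverOfBase_I₀,
      Scheme.Pullback.openCoverOfBase_X, Scheme.Pullback.openCoverOfLeftRight_I₀, TopologicalSpace.Opens.iSup_mk,
      TopologicalSpace.Opens.carrier_eq_coe, Scheme.Hom.coe_opensRange, TopologicalSpace.Opens.mem_mk, Set.mem_iUnion,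
      Set.mem_range, Sigma.exists]
    refine ⟨i, W, ?_⟩
    change x ∈ Set.range ((Scheme.Pullback.diagonalCover f 𝒰 𝒱).f ⟨i, (W, W)⟩)
    erw [Scheme.Pullback.diagonalCover_map f 𝒰 𝒱 ⟨i, (W, W)⟩]
    erw [Scheme.Pullback.range_map]
    have hrange : Set.range ((𝒱 i).f W ≫ p) = p '' (W₀.1 : Set ↥(pullback f (𝒰.f i))) := by
      rw [Scheme.Hom.comp_base, TopCat.coe_comp, Set.range_comp]
      congr 1
      exact W₀.1.range_ι
    constructor <;> (show _ ∈ Set.range ((𝒱 i).f W ≫ p); rw [hrange])
    · exact ⟨za, show p za ∈ X.basicOpen g by rw [hza]; exact hmem a haA hg.1, hza⟩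
    · exact ⟨zb, show p zb ∈ X.basicOpen g by rw [hzb]; exact hmem b hbA hg.2, hzb⟩
  refine IsZariskiLocalAtTarget.of_iSup_eq_top (fun _ : PUnit.{1} => (⊤ : (pullback f f).Opens)) (by simp) fun _ => ?_
  rw [← htop]
  exact isClosedImmersion_diagonal_restrict_diagonalCoverDiagonalRange f 𝒰 𝒱

end Groth.Agent.S13708
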