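import Groth.Statements.S13709
import Groth.Agent.Lib.FlatDesc26.Basic
-- import your own Groth.Agent.* helpers here

set_option autoImplicit false
universe u
open CategoryTheory CategoryTheory.Limits AlgebraicGeometry
open ZeroCyc

namespace Groth.Agent.S13709

/-- Let f : X → Y be a quasi-compact morphism of schemes and g : Y' → Y a faithfully flat morphism, i.e.
flat and surjective, with no quasi-compactness assumption on g. If the base change X ×_Y Y' → Y' of
f along g is a homeomorphism on underlying spaces, then so is f. -/
theorem result {X Y Y' : Scheme.{u}} (f : X ⟶ Y) (g : Y' ⟶ Y)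
    [Flat g] [Surjective g] [QuasiCompact f] (h : IsHomeomorph (pullback.snd f g).base) :
    IsHomeomorph f.base := by
  exact FlatDesc26.isHomeomorph_of_forall_point f fun y => ⟨Y', g, inferInstance, g.surjective y, h⟩

end Groth.Agent.S13709
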