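import Groth.Statements.S1371
import Groth.Agent.Lib.FlatH4.GenFreeCoker
import Mathlib.RingTheory.Localization.BaseChange

set_option autoImplicit false
universe u
open FlatMor

namespace Groth.Agent.S1371

/-- Let R be a Noetherian domain, R → A → B ring maps of finite type, M a finite A-module, N a finite
B-module and u : M → N an A-linear map. Then there is a nonzero f in R such that the cokernel of u,
localized at f, is a flat module over R[1/f]. -/
theorem result {R A B : Type u} [CommRing R] [IsDomain R] [IsNoetherianRing R] [CommRing A] [CommRing B]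
    [Algebra R A] [Algebra A B] [Algebra R B] [IsScalarTower R A B] [Algebra.FiniteType R A] [Algebra.FiniteType A B]
    {M N : Type u} [AddCommGroup M] [Module A M] [Module R M] [IsScalarTower R A M] [Module.Finite A M]
    [AddCommGroup N] [Module B N] [Module A N] [Module R N] [IsScalarTower A B N] [IsScalarTower R A N] [Module.Finite B N]
    (u : M →ₗ[A] N) :
    ∃ f : R, f ≠ 0 ∧ Module.Flat (Localization.Away f)
      (LocalizedModule (Submonoid.powers f) (N ⧸ (LinearMap.range u).restrictScalars R)) := by
  obtain ⟨n, φ, hφ⟩ := Algebra.FiniteType.iff_quotient_mvPolynomial''.1 ‹Algebra.FiniteType A B›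
  letI : Algebra (MvPolynomial (Fin n) A) B := φ.toRingHom.toAlgebra
  letI : Module (MvPolynomial (Fin n) A) N := Module.compHom N φ.toRingHom
  haveI : IsScalarTower (MvPolynomial (Fin n) A) B N :=
    IsScalarTower.of_algebraMap_smul fun p m => rfl
  haveI : IsScalarTower A (MvPolynomial (Fin n) A) N := IsScalarTower.of_algebraMap_smul fun r m => by
    show φ (algebraMap A _ r) • m = r • m
    rw [AlgHom.commutes, algebraMap_smul]
  haveI : Module.Finite (MvPolynomial (Fin n) A) B :=
    Module.Finite.of_surjective (Algebra.linearMap _ B) hφ
  haveI : Module.Finite (MvPolynomial (Fin n) A) N := Module.Finite.trans B N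
  obtain ⟨f, hf, h⟩ := Groth.Agent.FlatH4.GenFree.of_equiv
    (Submodule.Quotient.restrictScalarsEquiv R (LinearMap.range u)).symm
    (Groth.Agent.FlatH4.GenFree.quotient_of_mvPolynomial A n N (LinearMap.range u)
      (LinearMap.range_eq_map u ▸ Module.Finite.fg_top.map u))
  refine ⟨f, hf, ?_⟩
  haveI := h (Localization.Away f) (IsLocalization.flat _ (Submonoid.powers f))
    (IsLocalization.Away.algebraMap_isUnit f)
  exact Module.Flat.of_linearEquiv
    (LocalizedModule.equivTensorProduct (Submonoid.powers f) (N ⧸ (LinearMap.range u).restrictScalars R))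

end Groth.Agent.S1371
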