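import Groth.Statements.S13712
import Groth.Agent.Lib.IntImage26.Basic
import Mathlib.AlgebraicGeometry.IdealSheaf.Functorial
-- import your own Groth.Agent.* helpers here

set_option autoImplicit false
universe u
open CategoryTheory CategoryTheory.Limits AlgebraicGeometry
open ZeroCyc

namespace Groth.Agent.S13712

/-- Let f : X → Y and g : Y → S be morphisms of schemes with g separated, such that the composite X → S
is integral with topologically finite fibres (every fibre is a finite set). Then the
scheme-theoretic image Y' of f, with its closed immersion Y' → Y, is integral over S, and Y' → S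
again has topologically finite fibres. (The published statement is for algebraic spaces; this row is
the case of schemes.) -/
theorem result {X Y S : Scheme.{u}} (f : X ⟶ Y) (g : Y ⟶ S)
    [IsSeparated g] [IsIntegralHom (f ≫ g)] (hfin : ∀ s : S, Set.Finite ((f ≫ g).base ⁻¹' {s})) :
    IsIntegralHom (f.imageι ≫ g) ∧ ∀ s : S, Set.Finite ((f.imageι ≫ g).base ⁻¹' {s}) := by
  haveI : IsIntegralHom (f.toImage ≫ f.imageι ≫ g) := by rw [Scheme.Hom.toImage_imageι_assoc]; infer_instance
  haveI : UniversallyClosed f := UniversallyClosed.of_comp_of_isSeparated f g
  haveI : Surjective f.toImage := by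
    haveI : UniversallyClosed f.toImage := by
      haveI : UniversallyClosed (f.toImage ≫ f.imageι) := by rw [Scheme.Hom.toImage_imageι]; infer_instance
      exact UniversallyClosed.of_comp_of_isSeparated f.toImage f.imageι
    exact ⟨fun z => by
      have hd : DenseRange f.toImage := Scheme.Hom.denseRange _
      have := hd.closure_range
      rw [(f.toImage.isClosedMap.isClosed_range).closure_eq] at this
      exact this.ge trivial⟩
  exact IntImage26.isIntegralHom_of_surjective_comp f.toImage (f.imageι ≫ g) fun s => by
    rw [Scheme.Hom.toImage_imageι_assoc]; exact hfin s

end Groth.Agent.S13712
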