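import Groth.Statements.S13720
import Groth.Agent.Lib.GammaD.KerUniv
-- import your own Groth.Agent.* helpers here

set_option autoImplicit false
universe u
open scoped TensorProduct
open ZeroCyc

namespace Groth.Agent.S13720

/-- Let B be the filtered direct limit of a directed system (B_i, t_ij : B_i → B_j) of commutative
algebras over the commutative ring A, with structure maps φ_i : B_i → B (jointly surjective, and an
element of B_i vanishing in B already vanishes in some B_j), and let F : B → C be a multiplicative
polynomial law homogeneous of degree d, with restrictions F_i = F ∘ φ_i. Then an element b of B lies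
in the kernel of F if and only if it is the image of some x ∈ B_i whose images in B_j lie in the
kernel of F_j for every j ≥ i; that is, the kernel of F is the direct limit of the kernels of the
F_i. -/
theorem result {A : Type u} [CommRing A] {B : Type u} [CommRing B] [Algebra A B]
    {C : Type u} [CommRing C] [Algebra A C] {ι : Type u} [Preorder ι] [IsDirected ι (fun i j => i ≤ j)] [Nonempty ι]
    (Bi : ι → Type u) [∀ i, CommRing (Bi i)] [∀ i, Algebra A (Bi i)]
    (t : ∀ i j : ι, i ≤ j → (Bi i →ₐ[A] Bi j)) (φ : ∀ i : ι, Bi i →ₐ[A] B)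
    (hcomp : ∀ (i j : ι) (h : i ≤ j), (φ j).comp (t i j h) = φ i)
    (hsurj : ∀ b : B, ∃ (i : ι) (x : Bi i), φ i x = b)
    (hzero : ∀ (i : ι) (x : Bi i), φ i x = 0 → ∃ (j : ι) (h : i ≤ j), t i j h x = 0)
    {d : ℕ} (F : PolLaw.MulLaw A B C d) (b : B) :
    b ∈ PolLaw.ker F.law ↔ ∃ (i : ι) (x : Bi i), φ i x = b ∧
      ∀ (j : ι) (h : i ≤ j), t i j h x ∈ PolLaw.ker (F.precomp (φ j)).law := by
  exact GammaD.mem_ker_limit Bi t φ hcomp hsurj F b

end Groth.Agent.S13720
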