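import Groth.Statements.S13729
import Groth.Agent.Lib.GammaD.Functorial
-- import your own Groth.Agent.* helpers here

set_option autoImplicit false
universe u
open scoped TensorProduct
open ZeroCyc

namespace Groth.Agent.S13729

/-- Let (C, γ) be the algebra of divided powers Γ^d_A(B) of a commutative A-algebra B with its universal
multiplicative law γ : B → C homogeneous of degree d (every multiplicative law B → C' homogeneous of
degree d factors uniquely through γ by an algebra map C → C'). If B is flat over A then C = Γ^d_A(B)
is flat over A. (The published statement is that Γ^d(X/S) → S inherits flatness from X → S for any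
separated algebraic space X over S; this row is the case X and S affine, where Γ^d(X/S) = Spec
Γ^d_A(B).) -/
theorem result {A : Type u} [CommRing A] {B : Type u} [CommRing B] [Algebra A B] {C : Type u} [CommRing C] [Algebra A C]
    {d : ℕ} (γ : PolLaw.MulLaw A B C d) (hγ : PolLaw.IsGammaD γ) [Module.Flat A B] :
    Module.Flat A C := by
  exact GammaD.moduleFlat hγ

end Groth.Agent.S13729
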