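import Groth.Statements.S13731
import Groth.Agent.Lib.HTop26.DVRLift
-- import your own Groth.Agent.* helpers here

set_option autoImplicit false
universe u
open HTop

namespace Groth.Agent.S13731

open CategoryTheory CategoryTheory.Limits AlgebraicGeometry in
/-- Let X be a separated Noetherian scheme and {p_i : U_i → X} a finite family of separated morphisms of
finite type whose induced morphism from the disjoint union of the U_i to X is universally submersive
(an h-covering). Then every point x of X is p_i(u) for some i and some point u of U_i admitting a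
generization ξ in U_i whose image p_i(ξ) is a generic point of an irreducible component of X.
Equivalently, the irreducible components of the U_i dominating an irreducible component of X jointly
cover X. -/
theorem result {X : Scheme.{u}} [IsNoetherian X] [X.IsSeparated] (E : PreZeroHypercover.{u} X) [Finite E.I₀] [∀ i, LocallyOfFiniteType (E.f i)] [∀ i, QuasiCompact (E.f i)] [∀ i, IsSeparated (E.f i)] (hE : SGA1.UnivSubmersive (Sigma.desc E.f)) (x : X) : ∃ (i : E.I₀) (ξ u : E.X i), ξ ⤳ u ∧ E.f i u = x ∧ closure {E.f i ξ} ∈ irreducibleComponents ↥X := by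
  obtain ⟨η, hηx, hcomp, -⟩ := HTop26.exists_maximal_generalization x
  have key : ∀ y₀ y : ↥(∐ E.X), y₀ ⤳ y → Sigma.desc E.f y₀ = η → Sigma.desc E.f y = x → ∃ (i : E.I₀) (ξ u : E.X i), ξ ⤳ u ∧ E.f i u = x ∧ closure {E.f i ξ} ∈ irreducibleComponents ↥X := by
    intro y₀ y hy h₀ h₁
    obtain ⟨i, u, rfl⟩ := Groth.Agent.CurveNF.exists_sigma_eq y
    have hmem : y₀ ∈ Set.range (Sigma.ι E.X i) := hy.mem_open (Sigma.ι E.X i).isOpenEmbedding.isOpen_range ⟨u, rfl⟩
    obtain ⟨ξ, rfl⟩ := hmem
    have hf : ∀ z, E.f i z = Sigma.desc E.f (Sigma.ι E.X i z) := fun z => by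
      rw [← Scheme.Hom.comp_apply, Sigma.ι_desc]
    exact ⟨i, ξ, u, (Sigma.ι E.X i).isOpenEmbedding.isInducing.specializes_iff.mp hy, (hf u).trans h₁, by rw [hf ξ, h₀]; exact hcomp⟩
  by_cases hx : x = η
  · obtain ⟨y, hy⟩ := HTop26.surjective_of_univSubmersive _ hE x
    exact key y y specializes_rfl (hy.trans hx) hy
  · obtain ⟨R, _, _, m, hm₀, hm₁⟩ := HTop26.exists_dvr_of_specializes hηx hx
    have := HTop26.quasiCompact_sigmaDesc E.f
    obtain ⟨p₀, p, hp, h₀, h₁⟩ := HTop26.exists_specializes_of_univSubmersive _ hE m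
    refine key _ _ (hp.map (pullback.snd m (Sigma.desc E.f)).continuous) ?_ ?_
    · rw [← Scheme.Hom.comp_apply, ← pullback.condition, Scheme.Hom.comp_apply, h₀, hm₀]
    · rw [← Scheme.Hom.comp_apply, ← pullback.condition, Scheme.Hom.comp_apply, h₁, hm₁]

end Groth.Agent.S13731
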