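import Groth.Statements.S13732
import Groth.Agent.Lib.VRefine5.Main
import Groth.Agent.Lib.HTop26.DVRLift
import Groth.Agent.S14770
import Groth.Agent.S14781

set_option linter.style.haveILetI false
set_option backward.isDefEq.respectTransparency false
set_option backward.isDefEq.respectTransparency.types false

set_option autoImplicit false
universe u
open HTop

namespace Groth.Agent.S13732

open CategoryTheory CategoryTheory.Limits AlgebraicGeometry in
/-- Let Y be a separated Noetherian scheme and {p_j : Y_j → Y} a finite family of separated quasi-finite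
morphisms of finite type whose induced morphism from the disjoint union of the Y_j to Y is
universally submersive (a qfh-covering). Then there are a finite surjective morphism p : Y' → Y and
finitely many open subschemes V_1, …, V_n covering Y' such that every composite V_i → Y' → Y factors
through some member of the family. -/
theorem result {Y : Scheme.{u}} [IsNoetherian Y] [Y.IsSeparated] (E : PreZeroHypercover.{u} Y) [Finite E.I₀] [∀ j, LocallyOfFiniteType (E.f j)] [∀ j, QuasiCompact (E.f j)] [∀ j, LocallyQuasiFinite (E.f j)] [∀ j, IsSeparated (E.f j)] (hE : SGA1.UnivSubmersive (Sigma.desc E.f)) : ∃ (Y' : Scheme.{u}) (p : Y' ⟶ Y) (n : ℕ) (V : Fin n → Y'.Opens), IsFinite p ∧ Surjective p ∧ ⨆ i, V i = ⊤ ∧ ∀ i, ∃ (j : E.I₀) (h : (↑(V i) : Scheme.{u}) ⟶ E.X j), h ≫ E.f j = (V i).ι ≫ p := by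
  let f := Sigma.desc E.f
  haveI : LocallyOfFiniteType f := IsZariskiLocalAtSource.sigmaDesc (fun j => inferInstance)
  haveI : LocallyOfFinitePresentation f := LocallyOfFinitePresentation.iff_locallyOfFiniteType.2 inferInstance
  haveI : LocallyQuasiFinite f := IsZariskiLocalAtSource.sigmaDesc (fun j => inferInstance)
  haveI : QuasiCompact f := HTop26.quasiCompact_sigmaDesc E.f
  haveI : IsLocallyNoetherian (∐ E.X) := LocallyOfFiniteType.isLocallyNoetherian f
  obtain ⟨X', Y', h, p, q, hpq, hps, -, -, hploc, hq, hqs, -⟩ :=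
    Groth.Agent.S14781.result f (Or.inr ‹_›) ((Groth.Agent.S14770.result f).1 hE)
  haveI := hq
  haveI := hps
  haveI : CompactSpace Y' := QuasiCompact.compactSpace_of_compactSpace q
  obtain ⟨n, V, -, hsup, hlift⟩ := Groth.Agent.VRefine5.exists_opens p hploc h
  refine ⟨Y', q, n, V, hq, hqs, hsup, fun i => ?_⟩
  obtain ⟨j, s, t, hs, ht⟩ := hlift i
  refine ⟨j, t, ?_⟩
  rw [← show Sigma.ι E.X j ≫ f = E.f j from Sigma.ι_desc _ _, reassoc_of% ht, hpq, reassoc_of% hs]

end Groth.Agent.S13732
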