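import Groth.Statements.S14771
import Groth.Agent.S14770
import Mathlib.RingTheory.PowerSeries.Inverse
import Mathlib.Tactic.TFAE


set_option autoImplicit false
universe u
open CategoryTheory CategoryTheory.Limits AlgebraicGeometry
open Subtr

namespace Groth.Agent.S14771

set_option backward.isDefEq.respectTransparency.types false

/-- A pair over the ends of a discrete valuation ring is realised by a discrete valuation ring. -/
theorem exists_dvr_lift {X Y : Scheme.{u}} (f : X ⟶ Y) [LocallyOfFiniteType f]
    (hf : Subtr.UnivSSubtrusive f) (D : Type u) [CommRing D] [IsDomain D] [IsDiscreteValuationRing D]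
    (g : Spec (CommRingCat.of D) ⟶ Y) :
    ∃ (D' : Type u) (_ : CommRing D') (_ : IsDomain D') (_ : IsDiscreteValuationRing D')
      (a : Spec (CommRingCat.of D') ⟶ X) (b : Spec (CommRingCat.of D') ⟶ Spec (CommRingCat.of D)),
      Surjective b ∧ a ≫ f = b ≫ g := by
  obtain ⟨x, x', hxx', hx, hx'⟩ := Groth.Agent.Subtr12.isSSubtrusive_pullback hf g
    (y := IsLocalRing.closedPoint D) (y' := (⟨⊥, Ideal.isPrime_bot⟩ : PrimeSpectrum D))
    (IsLocalRing.specializes_closedPoint _)
  have hne : (⟨⊥, Ideal.isPrime_bot⟩ : PrimeSpectrum D) ≠ IsLocalRing.closedPoint D := fun e =>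
    IsDiscreteValuationRing.not_a_field D (congrArg PrimeSpectrum.asIdeal e).symm
  have : IsLocallyNoetherian (pullback f g) :=
    LocallyOfFiniteType.isLocallyNoetherian (pullback.snd f g)
  obtain ⟨A, a, hA, ha, hag⟩ := Groth.Agent.DVRVal.exists_dvr_specializes (𝟙 (pullback f g)) x' x
    hxx' (fun e => hne (by rw [← hx', ← hx, e]; rfl))
  let η : Spec (CommRingCat.of A) := (⟨⊥, Ideal.isPrime_bot⟩ : PrimeSpectrum A)
  have hη : a η = x' := by
    have e := Groth.Agent.ValSq12.spec_generic_of_field A.subtype Subtype.val_injective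
      (IsLocalRing.closedPoint ((pullback f g).residueField x'))
    rw [Category.comp_id] at hag
    have e' : (Spec.map (CommRingCat.ofHom A.subtype) ≫ a)
        (IsLocalRing.closedPoint ((pullback f g).residueField x')) = x' := by
      rw [hag]
      exact Scheme.fromSpecResidueField_apply _ _
    rw [Scheme.Hom.comp_apply] at e'
    exact (congrArg a e.symm).trans e'
  refine ⟨A, inferInstance, inferInstance, hA, a ≫ pullback.fst f g, a ≫ pullback.snd f g, ?_,
    by rw [Category.assoc, pullback.condition, Category.assoc]⟩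
  exact Groth.Agent.ValSq12.surjective_of_closed_generic _
    (by rw [Scheme.Hom.comp_apply, ha, hx]) (by rw [Scheme.Hom.comp_apply, hη, hx'])

/-- Lifts of discrete valuation rings give pairs over their ends. -/
theorem exists_pair_of_lift {X Y : Scheme.{u}} (f : X ⟶ Y)
    (h : ∀ (D : Type u) [CommRing D] [IsDomain D] [IsDiscreteValuationRing D]
      (g : Spec (CommRingCat.of D) ⟶ Y), ∃ (D' : Type u) (_ : CommRing D') (_ : IsDomain D')
      (_ : IsDiscreteValuationRing D') (a : Spec (CommRingCat.of D') ⟶ X)
      (b : Spec (CommRingCat.of D') ⟶ Spec (CommRingCat.of D)), Surjective b ∧ a ≫ f = b ≫ g)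
    (D : Type u) [CommRing D] [IsDomain D] [IsDiscreteValuationRing D]
    (g : Spec (CommRingCat.of D) ⟶ Y) : ∃ x x' : ↥(pullback f g), x' ⤳ x ∧
      pullback.snd f g x = IsLocalRing.closedPoint D ∧
      pullback.snd f g x' = (⟨⊥, Ideal.isPrime_bot⟩ : PrimeSpectrum D) := by
  obtain ⟨D', _, _, _, a, b, hb, hab⟩ := h D g
  obtain ⟨σ, hσ, hσ'⟩ := Groth.Agent.Subtr12.exists_section b
  let l := pullback.lift a b hab
  have hl : ∀ p, pullback.snd f g (l (σ p)) = p := fun p => by
    rw [← Scheme.Hom.comp_apply, pullback.lift_snd, hσ]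
  exact ⟨l (σ _), l (σ _), (hσ' _ _ (IsLocalRing.specializes_closedPoint _)).map l.continuous,
    hl _, hl _⟩

/-- Pairs over discrete valuation rings give surjectivity. -/
theorem surjective_of_pairs {X Y : Scheme.{u}} (f : X ⟶ Y)
    (hlift : ∀ (D : Type u) [CommRing D] [IsDomain D] [IsDiscreteValuationRing D]
      (g : Spec (CommRingCat.of D) ⟶ Y), ∃ x x' : ↥(pullback f g), x' ⤳ x ∧
      pullback.snd f g x = IsLocalRing.closedPoint D ∧
      pullback.snd f g x' = (⟨⊥, Ideal.isPrime_bot⟩ : PrimeSpectrum D)) :
    Function.Surjective f := fun y => by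
  let K := Y.residueField y
  let g := Spec.map (CommRingCat.ofHom (PowerSeries.C (R := K))) ≫ Y.fromSpecResidueField y
  obtain ⟨x, -, -, hx, -⟩ := hlift (PowerSeries K) g
  refine ⟨pullback.fst f g x, ?_⟩
  rw [← Scheme.Hom.comp_apply, pullback.condition, Scheme.Hom.comp_apply, hx]
  show (Spec.map (CommRingCat.ofHom (PowerSeries.C (R := K))) ≫ Y.fromSpecResidueField y) _ = y
  rw [Scheme.Hom.comp_apply]
  exact Scheme.fromSpecResidueField_apply y _

/-- Lifts of discrete valuation rings give S-subtrusiveness after every base change. -/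
theorem univ_of_lift {X Y : Scheme.{u}} [IsLocallyNoetherian Y] (f : X ⟶ Y) [QuasiCompact f]
    (hlift : ∀ (D : Type u) [CommRing D] [IsDomain D] [IsDiscreteValuationRing D]
      (g : Spec (CommRingCat.of D) ⟶ Y), ∃ x x' : ↥(pullback f g), x' ⤳ x ∧
      pullback.snd f g x = IsLocalRing.closedPoint D ∧
      pullback.snd f g x' = (⟨⊥, Ideal.isPrime_bot⟩ : PrimeSpectrum D)) :
    Subtr.UnivSSubtrusive f := by
  have hs := surjective_of_pairs f hlift
  refine Groth.Agent.Subtr12.univ_of_forall_valRing f fun V _ _ _ g => ?_
  refine ((Groth.Agent.S14765.result V (pullback.snd f g)).out 3 1 rfl rfl).1 ?_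
  obtain ⟨U, hU, hgU, -⟩ := exists_isAffineOpen_mem_and_subset (X := Y)
    (x := g (IsLocalRing.closedPoint V)) (U := ⊤) trivial
  have : IsNoetherianRing Γ(Y, U) := IsLocallyNoetherian.component_noetherian ⟨U, hU⟩
  have hrange : Set.range g ⊆ Set.range hU.fromSpec := by
    rintro _ ⟨z, rfl⟩
    rw [hU.range_fromSpec]
    exact ((IsLocalRing.specializes_closedPoint z).map g.continuous).mem_open U.isOpen hgU
  let g' := IsOpenImmersion.lift hU.fromSpec g hrange
  let fR := pullback.snd f hU.fromSpec
  let ψ := Spec.preimage g'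
  let : Algebra Γ(Y, U) V := ψ.hom.toAlgebra
  have : Surjective f := ⟨hs⟩
  obtain ⟨x, x', hxx', hx, hx'⟩ :=
    Groth.Agent.Subtr12.exists_pair_of_forall_dvr (R := Γ(Y, U)) fR fR.surjective
      (fun D _ _ _ _ => by
        let gD := Spec.map (CommRingCat.ofHom (algebraMap Γ(Y, U) D))
        obtain ⟨x, x', hxx', hx, hx'⟩ := hlift D (gD ≫ hU.fromSpec)
        let m : pullback f (gD ≫ hU.fromSpec) ⟶ pullback fR gD :=
          pullback.lift (pullback.lift (pullback.fst _ _) (pullback.snd _ _ ≫ gD)
            (by rw [Category.assoc]; exact pullback.condition)) (pullback.snd _ _)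
            (pullback.lift_snd _ _ _)
        exact ⟨m x, m x', hxx'.map m.continuous,
          by rw [← Scheme.Hom.comp_apply, pullback.lift_snd]; exact hx,
          by rw [← Scheme.Hom.comp_apply, pullback.lift_snd]; exact hx'⟩) V
  let gV := Spec.map (CommRingCat.ofHom (algebraMap Γ(Y, U) V))
  have hgV : gV ≫ hU.fromSpec = g := by
    show Spec.map ψ ≫ _ = g
    rw [Spec.map_preimage, IsOpenImmersion.lift_fac]
  let m : pullback fR gV ⟶ pullback f g :=
    pullback.lift (pullback.fst fR gV ≫ pullback.fst f hU.fromSpec) (pullback.snd fR gV) (by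
      rw [Category.assoc, pullback.condition, ← Category.assoc, pullback.condition, Category.assoc,
        hgV])
  refine ⟨m x, m x', hxx'.map m.continuous, ?_, ?_⟩
  · rw [← Scheme.Hom.comp_apply, pullback.lift_snd]
    exact hx
  · rw [← Scheme.Hom.comp_apply, pullback.lift_snd]
    exact hx'

/-- Let Y be locally Noetherian and f : X ⟶ Y quasi-compact and locally of finite type. The following
are equivalent: (i) f is universally submersive; (ii) every base change of f has the lifting
property for ordered pairs of points; (iii) for every discrete valuation ring D and morphism g :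
Spec D ⟶ Y there are a discrete valuation ring D', a morphism a : Spec D' ⟶ X and a surjective
morphism b : Spec D' ⟶ Spec D with a ≫ f = b ≫ g. (The published statement assumes f only locally of
finite type. Quasi-compactness cannot be dropped: over the local ring of a regular surface at a
closed point s, the disjoint union of the punctured surface, a regular curve C through s and, for
every n ≥ 1, the n-fold blow-up along successive points of the strict transform of C with the n-th
such point removed, satisfies (iii) with D' = D, while (ii) fails at a valuation ring of rank two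
whose centres are exactly the removed points; the limit argument behind the published proof uses
quasi-compactness of the fibres.) -/
theorem result {X Y : Scheme.{u}} [IsLocallyNoetherian Y]
    (f : X ⟶ Y) [LocallyOfFiniteType f] [QuasiCompact f] :
    List.TFAE [
      SGA1.UnivSubmersive f,
      Subtr.UnivSSubtrusive f,
      ∀ (D : Type u) [CommRing D] [IsDomain D] [IsDiscreteValuationRing D] (g : Spec (CommRingCat.of D) ⟶ Y),
        ∃ (D' : Type u) (_ : CommRing D') (_ : IsDomain D') (_ : IsDiscreteValuationRing D')
          (a : Spec (CommRingCat.of D') ⟶ X) (b : Spec (CommRingCat.of D') ⟶ Spec (CommRingCat.of D)),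
          Surjective b ∧ a ≫ f = b ≫ g] := by
  tfae_have 1 → 2 := (Groth.Agent.S14770.result f).1
  tfae_have 2 → 1 := (Groth.Agent.S14770.result f).2
  tfae_have 2 → 3 := fun hf D _ _ _ g => exists_dvr_lift f hf D g
  tfae_have 3 → 2 := fun h => univ_of_lift f (exists_pair_of_lift f h)
  tfae_finish


end Groth.Agent.S14771
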