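import Groth.Statements.S1454
import Groth.Agent.Lib.Unibr4.GoDown

set_option autoImplicit false
universe u
open FlatMor

set_option backward.isDefEq.respectTransparency.types false

namespace Groth.Agent.S1454

open AlgebraicGeometry CategoryTheory Limits in
/-- Consider a locally quasi-finite f : X → Y whose target is locally Noetherian with geometrically
unibranch local rings, and assume every irreducible component of X dominates an irreducible
component of Y (its generic point maps to a generic point of an irreducible component of Y). Then f
is universally open. -/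
theorem result {X Y : Scheme.{u}} (f : X ⟶ Y) [LocallyQuasiFinite f] [LocallyOfFiniteType f] [IsLocallyNoetherian Y]
    (hY : ∀ y : Y, CAlg2.IsGeomUnibranch (Y.presheaf.stalk y))
    (hdom : ∀ Z ∈ irreducibleComponents ↑X, ∀ x : X, IsGenericPoint x Z → ∃ W ∈ irreducibleComponents ↑Y, IsGenericPoint (f x) W) :
    UniversallyOpen f := by
  refine Unibr4.universallyOpen_of_forall f fun x => ?_
  obtain ⟨t, htx, ht⟩ := Unibr4.exists_max x
  obtain ⟨W, hW, hgen⟩ := hdom _ ((VarDim.maximal_iff_mem_irreducibleComponents (X := X) t).1 ht) t isGenericPoint_closure
  have hW' : closure {f t} ∈ irreducibleComponents Y := by rw [hgen.def]; exact hW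
  refine Unibr4.isUnivOpenAt f x t (Or.inl inferInstance) (hY _) htx
    ((VarDim.maximal_iff_mem_irreducibleComponents (X := Y) _).2 hW') ?_
  rw [FibDim14.fibreDimAt_eq_zero f x]
  exact_mod_cast Nat.zero_le _

end Groth.Agent.S1454
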