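import Groth.Statements.S13736
import Groth.Agent.S13731
import Groth.Agent.S1454
-- import your own Groth.Agent.* helpers here

set_option autoImplicit false
set_option backward.isDefEq.respectTransparency false
universe u
open HTop

namespace Groth.Agent.S13736

open CategoryTheory CategoryTheory.Limits AlgebraicGeometry in
/-- Let X be a separated irreducible Noetherian scheme whose local rings are all geometrically
unibranch, and {p_i : U_i → X} a finite family of separated quasi-finite morphisms of finite type
with every U_i irreducible. Then the induced morphism from the disjoint union of the U_i to X is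
universally submersive (a qfh-covering) if and only if the dominant members p_i are jointly
surjective onto X; in that case the induced morphism from the disjoint union of the dominant members
alone is already universally submersive. (The published statement does not require the U_i
irreducible; for the affine line X over a field and the single member U = (X minus a closed point) ⊔
(that point) → X, which is dominant and surjective, the quotient property fails, and the published
proof uses that every irreducible component of a dominant member dominates X, so the members are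
taken irreducible here.) -/
theorem result {X : Scheme.{u}} [IsNoetherian X] [X.IsSeparated] [IrreducibleSpace ↥X] (hX : ∀ x : X, CAlg2.IsGeomUnibranch (X.presheaf.stalk x)) (E : PreZeroHypercover.{u} X) [Finite E.I₀] [∀ i, LocallyOfFiniteType (E.f i)] [∀ i, QuasiCompact (E.f i)] [∀ i, LocallyQuasiFinite (E.f i)] [∀ i, IsSeparated (E.f i)] [∀ i, IrreducibleSpace ↥(E.X i)] : (SGA1.UnivSubmersive (Sigma.desc E.f) ↔ ∀ x : X, ∃ (i : E.I₀) (u : E.X i), IsDominant (E.f i) ∧ E.f i u = x) ∧ ((∀ x : X, ∃ (i : E.I₀) (u : E.X i), IsDominant (E.f i) ∧ E.f i u = x) → SGA1.UnivSubmersive (Sigma.desc fun j : {i : E.I₀ // IsDominant (E.f i)} => E.f j.1)) := by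
  classical
  have hsub : (∀ x : X, ∃ (i : E.I₀) (u : E.X i), IsDominant (E.f i) ∧ E.f i u = x) →
      SGA1.UnivSubmersive (Sigma.desc fun j : {i : E.I₀ // IsDominant (E.f i)} => E.f j.1) := by
    intro h
    have hopen : ∀ j : {i : E.I₀ // IsDominant (E.f i)}, UniversallyOpen (E.f j.1) := fun j => by
      haveI := j.2
      refine Groth.Agent.S1454.result (E.f j.1) hX fun Z hZ x hx => ?_
      have hZu : Z = Set.univ := by
        rw [irreducibleComponents_eq_singleton, Set.mem_singleton_iff] at hZ
        exact hZ
      refine ⟨Set.univ, by rw [irreducibleComponents_eq_singleton]; rfl, ?_⟩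
      have hxd : Dense ({x} : Set (E.X j.1)) := dense_iff_closure_eq.2 (hx.def.trans hZu)
      show closure {E.f j.1 x} = Set.univ
      rw [← dense_iff_closure_eq, ← Set.image_singleton]
      exact (E.f j.1).denseRange.dense_image (E.f j.1).continuous hxd
    haveI : UniversallyOpen (Sigma.desc fun j : {i : E.I₀ // IsDominant (E.f i)} => E.f j.1) :=
      IsZariskiLocalAtSource.sigmaDesc (P := @UniversallyOpen) hopen
    haveI : Surjective (Sigma.desc fun j : {i : E.I₀ // IsDominant (E.f i)} => E.f j.1) := ⟨fun x => by
      obtain ⟨i, u, hi, hu⟩ := h x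
      refine ⟨Sigma.ι (fun j : {i : E.I₀ // IsDominant (E.f i)} => E.X j.1) ⟨i, hi⟩ u, ?_⟩
      rw [← Scheme.Hom.comp_apply, Sigma.ι_desc]
      exact hu⟩
    intro X' Y' i₁ i₂ f' hsq
    haveI : UniversallyOpen f' := MorphismProperty.of_isPullback (P := @UniversallyOpen) hsq.flip inferInstance
    haveI : Surjective f' := MorphismProperty.of_isPullback (P := @Surjective) hsq.flip inferInstance
    exact f'.isOpenMap.isQuotientMap f'.continuous f'.surjective
  refine ⟨⟨fun h x => ?_, fun h => ?_⟩, hsub⟩
  · obtain ⟨i, ξ, u, -, hu, hξ⟩ := Groth.Agent.S13731.result E h x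
    rw [irreducibleComponents_eq_singleton, Set.mem_singleton_iff] at hξ
    exact ⟨i, u, ⟨(dense_iff_closure_eq.2 hξ).mono (Set.singleton_subset_iff.2 ⟨ξ, rfl⟩)⟩, hu⟩
  · let p : (∐ fun j : {i : E.I₀ // IsDominant (E.f i)} => E.X j.1) ⟶ ∐ E.X := Sigma.desc fun j => Sigma.ι E.X j.1
    have hp : p ≫ Sigma.desc E.f = Sigma.desc fun j : {i : E.I₀ // IsDominant (E.f i)} => E.f j.1 :=
      Sigma.hom_ext _ _ fun j => by simp only [p, Sigma.ι_desc_assoc, Sigma.ι_desc]
    intro X' Y' i₁ i₂ f' hsq
    have hq : Topology.IsQuotientMap (pullback.snd p i₁ ≫ f') :=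
      hsub h (pullback.fst p i₁) i₂ (pullback.snd p i₁ ≫ f')
        (hp ▸ ((IsPullback.of_hasPullback p i₁).flip.paste_horiz hsq))
    exact Topology.IsQuotientMap.of_comp (pullback.snd p i₁).continuous f'.continuous hq

end Groth.Agent.S13736
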