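import Groth.Statements.S13737
import Groth.Agent.Lib.HTop26.DVRLift
-- import your own Groth.Agent.* helpers here

set_option autoImplicit false
universe u
open HTop

namespace Groth.Agent.S13737

open CategoryTheory CategoryTheory.Limits AlgebraicGeometry in
/-- Let X be a separated integral Noetherian scheme, b : X' → X a blow-up of X in a quasi-coherent sheaf
of ideals (characterised by the universal property of blowing up), with X' separated and b of finite
type, and let U be an open subscheme of X' whose composite U → X' → X is universally submersive (an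
h-covering). Then U = X'. (The published statement takes X only integral; its proof applies the
surjectivity of dominating components for Noetherian schemes, so this row takes X Noetherian.) -/
theorem result {X X' : Scheme.{u}} [IsNoetherian X] [X.IsSeparated] [IsIntegral X] [X'.IsSeparated] (𝓘 : X.IdealSheafData) (b : X' ⟶ X) [LocallyOfFiniteType b] [QuasiCompact b] (hb : BlowUp.IsBlowUp b 𝓘) (U : X'.Opens) (hU : SGA1.UnivSubmersive (U.ι ≫ b)) : U = ⊤ := by
  have : IsLocallyNoetherian X' := LocallyOfFiniteType.isLocallyNoetherian b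
  have : CompactSpace X' := QuasiCompact.compactSpace_of_compactSpace b
  have : IsNoetherian X' := {}
  have : QuasiCompact (U.ι ≫ b) := inferInstance
  have : IsSeparated (b ≫ terminal.from X) := by
    rw [terminal.comp_from]; infer_instance
  have : IsSeparated b := IsSeparated.of_comp b (terminal.from X)
  let C := 𝓘.support
  have hinj : ∀ a a' : X', b a = b a' → b a ∉ C → a = a' := by
    intro a a' h hC
    let A : X.Opens := 𝓘.support.compl
    obtain ⟨s, hs, -⟩ := hb.2 _ A.ι (by
      rw [HTop26.comap_eq_top 𝓘 A.ι fun y => y.2]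
      exact HTop26.isEffCartierIdeal_top)
    let O : X'.Opens := b ⁻¹ᵁ A
    have hO : O.ι = (b ∣_ A) ≫ s := by
      refine HTop26.eq_of_away hb _ _ ?_ fun p => ?_
      · rw [Category.assoc, hs, morphismRestrict_ι]
      · exact p.2
    have e : ∀ (z : X') (hz : b z ∈ A), z = s ⟨b z, hz⟩ := fun z hz => by
      have := congrArg (fun φ : (O : Scheme.{u}) ⟶ X' => φ ⟨z, hz⟩) hO
      exact this.trans (congrArg s (Subtype.ext (morphismRestrict_base_coe b A ⟨z, hz⟩)))
    rw [e a hC, e a' (h ▸ hC)]
    exact congrArg s (Subtype.ext h)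
  have hsurj := HTop26.surjective_of_univSubmersive _ hU
  rw [eq_top_iff]
  rintro x' -
  by_cases hx' : b x' ∈ C
  swap
  · obtain ⟨z, hz⟩ := hsurj (b x')
    rw [hinj x' (U.ι z) (hz.symm.trans (Scheme.Hom.comp_apply _ _ _)) hx']
    exact z.2
  obtain ⟨η, hη, -, hmax⟩ := HTop26.exists_maximal_generalization x'
  have hηC : b η ∉ C := by
    have := HTop26.notMem_support_of_forall_generalization hb.1 hmax
    rwa [Scheme.IdealSheafData.support_comap] at this
  have hne : x' ≠ η := fun h => hηC (h ▸ hx')
  obtain ⟨R, _, _, m, hm₀, hm₁⟩ := HTop26.exists_dvr_of_specializes hη hne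
  obtain ⟨p₀, p, hp, h₀, h₁⟩ := HTop26.exists_specializes_of_univSubmersive (U.ι ≫ b) hU (m ≫ b)
  obtain ⟨W, hW1, hW2, φ, hφ, l, hl⟩ := HTop26.exists_ext_of_specializes (pullback.fst (m ≫ b) (U.ι ≫ b)) hp h₀ h₁
  let a : Spec W ⟶ X' := Spec.map φ ≫ m
  let a' : Spec W ⟶ X' := l ≫ pullback.snd (m ≫ b) (U.ι ≫ b) ≫ U.ι
  have hab : a ≫ b = a' ≫ b := by
    calc a ≫ b = Spec.map φ ≫ m ≫ b := Category.assoc _ _ _
      _ = (l ≫ pullback.fst (m ≫ b) (U.ι ≫ b)) ≫ m ≫ b := by rw [hl]
      _ = a' ≫ b := by simp only [a', Category.assoc]; rw [pullback.condition]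
  let K := FractionRing W
  let j : Spec (CommRingCat.of K) ⟶ Spec W := Spec.map (CommRingCat.ofHom (algebraMap W K))
  have hj : ∀ z, j z = HTop26.gen W := fun z => by
    apply PrimeSpectrum.ext
    show Ideal.comap (algebraMap W K) z.asIdeal = ⊥
    rw [(Ideal.eq_bot_or_top z.asIdeal).resolve_right z.isPrime.ne_top]
    exact (RingHom.injective_iff_ker_eq_bot _).mp (IsFractionRing.injective W K)
  have hgen : j ≫ a = j ≫ a' := by
    refine HTop26.eq_of_away hb _ _ ((Category.assoc j a b).trans ((congrArg (j ≫ ·) hab).trans (Category.assoc j a' b).symm)) fun z => ?_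
    rw [Scheme.Hom.comp_apply, hj, Scheme.Hom.comp_apply, HTop26.map_gen φ hφ.1, hm₀]
    exact hηC
  let sq : ValuativeCommSq b := { R := W, K := K, i₁ := j ≫ a, i₂ := a ≫ b, commSq := ⟨by rw [Category.assoc]⟩ }
  have : a = a' := by
    have := (IsSeparated.valuativeCriterion b sq)
    exact congrArg CommSq.LiftStruct.l (Subsingleton.elim (α := sq.commSq.LiftStruct) ⟨a, rfl, rfl⟩ ⟨a', hgen.symm, hab.symm⟩)
  have hmem : a (IsLocalRing.closedPoint W) ∈ U := by
    rw [this]
    simp only [a', Scheme.Hom.comp_apply]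
    exact Subtype.mem _
  have := hφ.2
  rwa [Scheme.Hom.comp_apply, Spec_closedPoint, hm₁] at hmem

end Groth.Agent.S13737
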