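import Groth.Statements.S13738
import Mathlib.AlgebraicGeometry.ResidueField
import Mathlib.FieldTheory.IsAlgClosed.AlgebraicClosure
import Mathlib.AlgebraicGeometry.Morphisms.Finite
import Mathlib.AlgebraicGeometry.Noetherian

set_option autoImplicit false
universe u
open SGA1

namespace Groth.Agent.S13738

open CategoryTheory CategoryTheory.Limits AlgebraicGeometry in
/-- Let S be a separated irreducible Noetherian scheme, q : X → S finite and surjective with X
separated, and G a finite group acting on X by S-automorphisms, transitively on the geometric points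
of X over every geometric point of S. Then every irreducible component of X maps onto S and G acts
transitively on the set of irreducible components of X. -/
theorem result {X S : Scheme.{u}} [IsNoetherian S] [S.IsSeparated] [X.IsSeparated] [IrreducibleSpace ↥S] (q : X ⟶ S) [IsFinite q] [Surjective q] {G : Type u} [Group G] [Finite G] (ρ : G →* Aut X) (hρ : ∀ g : G, (ρ g).hom ≫ q = q) (htrans : ∀ (Ω : Type u) [Field Ω] [IsAlgClosed Ω] (τ₁ τ₂ : Spec (CommRingCat.of Ω) ⟶ X), τ₁ ≫ q = τ₂ ≫ q → ∃ g : G, τ₁ ≫ (ρ g).hom = τ₂) : (∀ T ∈ irreducibleComponents ↥X, Set.image (fun x => q x) T = Set.univ) ∧ ∀ T₁ ∈ irreducibleComponents ↥X, ∀ T₂ ∈ irreducibleComponents ↥X, ∃ g : G, Set.image (fun x => (ρ g).hom x) T₁ = T₂ := by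
  haveI : IsLocallyNoetherian X := LocallyOfFiniteType.isLocallyNoetherian q
  haveI : CompactSpace X := QuasiCompact.compactSpace_of_compactSpace q
  haveI : IsNoetherian X := {}
  have horb : ∀ x y : X, q x = q y → ∃ g : G, (ρ g).hom x = y := by
    intro x y h
    obtain ⟨z, hz₁, hz₂⟩ := Scheme.Pullback.exists_preimage_pullback x y h
    let P : Scheme.{u} := pullback q q
    let K := AlgebraicClosure (P.residueField z)
    let c : Spec (CommRingCat.of K) ⟶ P :=
      Spec.map (CommRingCat.ofHom (algebraMap (P.residueField z) K)) ≫ P.fromSpecResidueField z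
    obtain ⟨g, hg⟩ := htrans K (c ≫ pullback.fst q q) (c ≫ pullback.snd q q)
      (by simp only [Category.assoc, pullback.condition])
    have hc : c (IsLocalRing.closedPoint K) = z := by
      rw [Scheme.Hom.comp_apply]; exact Scheme.fromSpecResidueField_apply z _
    have := congr($hg (IsLocalRing.closedPoint K))
    simp only [Scheme.Hom.comp_apply, hc] at this
    exact ⟨g, by rw [← hz₁, ← hz₂]; exact this⟩
  have himg : ∀ (g : G) (T : Set X), T ∈ irreducibleComponents X →
      (fun x => (ρ g).hom x) '' T ∈ irreducibleComponents X := by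
    intro g T hT
    let e : X ≃ₜ X := (ρ g).hom.homeomorph
    refine ⟨hT.1.image _ e.continuous.continuousOn, fun W hW hTW w hw => ?_⟩
    refine ⟨e.symm w, hT.2 (hW.image _ e.symm.continuous.continuousOn) (fun t ht => ?_) ⟨w, hw, rfl⟩,
      e.apply_symm_apply w⟩
    exact ⟨e t, hTW ⟨t, ht, rfl⟩, e.symm_apply_apply t⟩
  have hqT : ∀ (g : G) (T : Set X), (fun x => q x) '' ((fun x => (ρ g).hom x) '' T) = (fun x => q x) '' T := by
    intro g T
    rw [Set.image_image]
    refine Set.image_congr fun x _ => ?_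
    rw [← Scheme.Hom.comp_apply, hρ]
  have hclosed : ∀ T ∈ irreducibleComponents X, IsClosed ((fun x => q x) '' T) := fun T hT =>
    q.isClosedMap _ (isClosed_of_mem_irreducibleComponents T hT)
  obtain ⟨T₀, hT₀, hgen⟩ : ∃ T₀ ∈ irreducibleComponents X, genericPoint S ∈ (fun x => q x) '' T₀ := by
    obtain ⟨x, hx⟩ := q.surjective (genericPoint S)
    exact ⟨irreducibleComponent x, irreducibleComponent_mem_irreducibleComponents x, x, mem_irreducibleComponent, hx⟩
  have hT₀' : (fun x => q x) '' T₀ = Set.univ := Set.eq_univ_of_forall fun s =>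
    (genericPoint_specializes s).mem_closed (hclosed T₀ hT₀) hgen
  have hsame : ∀ T ∈ irreducibleComponents X, ∃ g : G, (fun x => (ρ g).hom x) '' T₀ = T := by
    intro T hT
    obtain ⟨t, ht⟩ : ∃ t, IsGenericPoint t T :=
      QuasiSober.sober hT.1 (isClosed_of_mem_irreducibleComponents T hT)
    obtain ⟨a, ha, hat⟩ : q t ∈ (fun x => q x) '' T₀ := hT₀' ▸ Set.mem_univ _
    obtain ⟨g, hg⟩ := horb a t hat
    refine ⟨g, ?_⟩
    have hsub : T ⊆ (fun x => (ρ g).hom x) '' T₀ := fun z hz =>
      (ht.specializes hz).mem_closed (isClosed_of_mem_irreducibleComponents _ (himg g T₀ hT₀)) ⟨a, ha, hg⟩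
    exact Set.Subset.antisymm (hT.2 (himg g T₀ hT₀).1 hsub) hsub
  refine ⟨fun T hT => ?_, fun T₁ h₁ T₂ h₂ => ?_⟩
  · obtain ⟨g, rfl⟩ := hsame T hT
    rw [hqT]; exact hT₀'
  · obtain ⟨g₁, rfl⟩ := hsame T₁ h₁
    obtain ⟨g₂, rfl⟩ := hsame T₂ h₂
    refine ⟨g₂ * g₁⁻¹, ?_⟩
    rw [Set.image_image]
    refine Set.image_congr fun x _ => ?_
    have e : (ρ g₂).hom = (ρ g₁).hom ≫ (ρ (g₂ * g₁⁻¹)).hom := by
      conv_lhs => rw [← inv_mul_cancel_right g₂ g₁, map_mul]
      rfl
    rw [e, Scheme.Hom.comp_apply]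
end Groth.Agent.S13738
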