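import Groth.Statements.S13739
import Groth.Agent.Lib.HTop25.Basic
import Mathlib.AlgebraicGeometry.ResidueField
import Mathlib.FieldTheory.IsAlgClosed.AlgebraicClosure

set_option autoImplicit false
universe u
open SGA1

namespace Groth.Agent.S13739

open CategoryTheory CategoryTheory.Limits AlgebraicGeometry in
/-- Let S be a separated Noetherian scheme, q : X → S finite surjective with X separated, G a finite
group acting on X by S-automorphisms and transitively on the geometric points of X over every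
geometric point of S, and r : Y → X a morphism with Y separated. If υ is the morphism from the
disjoint union of G copies of Y to Y ×_S X (Y over S through r ≫ q) whose σ-th component is (id_Y, r
≫ σ), then υ is finite and surjective. -/
theorem result {X S Y : Scheme.{u}} [IsNoetherian S] [S.IsSeparated] [X.IsSeparated] [Y.IsSeparated] (q : X ⟶ S) [IsFinite q] [Surjective q] {G : Type u} [Group G] [Finite G] (ρ : G →* Aut X) (hρ : ∀ g : G, (ρ g).hom ≫ q = q) (htrans : ∀ (Ω : Type u) [Field Ω] [IsAlgClosed Ω] (τ₁ τ₂ : Spec (CommRingCat.of Ω) ⟶ X), τ₁ ≫ q = τ₂ ≫ q → ∃ g : G, τ₁ ≫ (ρ g).hom = τ₂) (r : Y ⟶ X) (υ : (∐ fun _ : G => Y) ⟶ pullback (r ≫ q) q) (hυ₁ : ∀ σ : G, Sigma.ι (fun _ : G => Y) σ ≫ υ ≫ pullback.fst (r ≫ q) q = 𝟙 Y) (hυ₂ : ∀ σ : G, Sigma.ι (fun _ : G => Y) σ ≫ υ ≫ pullback.snd (r ≫ q) q = r ≫ (ρ σ).hom) : IsFinite υ ∧ Surjective υ := by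
  have e1 : υ ≫ pullback.fst (r ≫ q) q = Sigma.desc (fun _ : G => 𝟙 Y) := by
    refine Sigma.hom_ext _ _ fun σ => ?_
    rw [Sigma.ι_desc]
    exact hυ₁ σ
  haveI : IsFinite (υ ≫ pullback.fst (r ≫ q) q) := by
    rw [e1]
    exact HTop25.isFinite_sigmaDesc _
  refine ⟨MorphismProperty.of_postcomp (W := @IsFinite) (W' := @IsSeparated) υ (pullback.fst (r ≫ q) q)
    inferInstance ‹_›, ⟨fun z => ?_⟩⟩
  let P : Scheme.{u} := pullback (r ≫ q) q
  let K := AlgebraicClosure (P.residueField z)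
  let c : Spec (CommRingCat.of K) ⟶ P :=
    Spec.map (CommRingCat.ofHom (algebraMap (P.residueField z) K)) ≫ P.fromSpecResidueField z
  obtain ⟨σ, hσ⟩ := htrans K (c ≫ pullback.fst (r ≫ q) q ≫ r) (c ≫ pullback.snd (r ≫ q) q)
    (by simp only [Category.assoc, pullback.condition])
  have e2 : (c ≫ pullback.fst (r ≫ q) q ≫ Sigma.ι (fun _ : G => Y) σ) ≫ υ = c := by
    apply pullback.hom_ext
    · simp only [Category.assoc]
      erw [hυ₁ σ, Category.comp_id]
    · simp only [Category.assoc]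
      erw [hυ₂ σ]
      simpa only [Category.assoc] using hσ
  refine ⟨(c ≫ pullback.fst (r ≫ q) q ≫ Sigma.ι (fun _ : G => Y) σ) (IsLocalRing.closedPoint K), ?_⟩
  rw [← Scheme.Hom.comp_apply, e2, Scheme.Hom.comp_apply]
  exact Scheme.fromSpecResidueField_apply z _
end Groth.Agent.S13739
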