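import Groth.Statements.S1374
import Groth.Agent.Lib.FlatH4.ClosedBetween
import Mathlib.AlgebraicGeometry.Fiber

set_option autoImplicit false
universe u
open FlatMor

namespace Groth.Agent.S1374

open AlgebraicGeometry CategoryTheory Limits Topology in
theorem dense_aux {X S : Scheme.{u}} (f : X ⟶ S) [LocallyOfFiniteType f] (x x' : X) (hsp : x ⤳ x') (hne : f x ≠ f x')
    (hcl : IsClosed (Subtype.val ⁻¹' {x'} : Set ↑(f ⁻¹' {f x'}))) :
    Dense (Subtype.val ⁻¹' {x₁ : ↑X | f x₁ = f x ∧ IsClosed (Subtype.val ⁻¹' {x₁} : Set ↑(f ⁻¹' {f x})) ∧ x ⤳ x₁ ∧ x₁ ⤳ x'} :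
      Set ↑(closure {x} ∩ f ⁻¹' {f x})) := by
  classical
  rw [dense_iff_inter_open]
  rintro O hO ⟨⟨y, hy⟩, hyO⟩
  obtain ⟨O', hO', rfl⟩ := isOpen_induced_iff.1 hO
  have hxO : x ∈ O' := (specializes_iff_mem_closure.2 hy.1).mem_open hO' hyO
  obtain ⟨W, hW, hxW, -⟩ := exists_isAffineOpen_mem_and_subset (U := ⊤) (x := f x') (Set.mem_univ _)
  obtain ⟨U, hU, hx'U, hUW⟩ := exists_isAffineOpen_mem_and_subset (U := f ⁻¹ᵁ W) (x := x') hxW
  have hxU : x ∈ U := hsp.mem_open U.2 hx'U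
  letI := (f.appLE W U hUW).hom.toAlgebra
  have : Algebra.FiniteType Γ(S, W) Γ(X, U) := f.finiteType_appLE hW hU hUW
  let ι : PrimeSpectrum Γ(X, U) → X := fun Q => hU.fromSpec Q
  have hιemb : IsOpenEmbedding ι := hU.fromSpec.isOpenEmbedding
  have hιrange : ∀ z ∈ U, ∃ Q, ι Q = z := fun z hz => (hU.range_fromSpec.ge hz)
  have hιle : ∀ Q Q', ι Q ⤳ ι Q' ↔ Q.asIdeal ≤ Q'.asIdeal := fun Q Q' => by
    rw [hιemb.isInducing.specializes_iff, ← PrimeSpectrum.le_iff_specializes]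
    rfl
  have hf : ∀ Q, f (ι Q) = hW.fromSpec (PrimeSpectrum.comap (algebraMap Γ(S, W) Γ(X, U)) Q) := fun Q => by
    exact (congr($(hW.SpecMap_appLE_fromSpec f hU hUW) Q)).symm
  have hfeq : ∀ Q Q', f (ι Q) = f (ι Q') ↔ Q.asIdeal.under Γ(S, W) = Q'.asIdeal.under Γ(S, W) := fun Q Q' => by
    rw [hf, hf]
    refine ⟨fun h => congrArg PrimeSpectrum.asIdeal (hW.fromSpec.isOpenEmbedding.injective h), fun h => ?_⟩
    exact congrArg _ (PrimeSpectrum.ext h)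
  obtain ⟨Q, hQ⟩ := hιrange x hxU
  obtain ⟨Q', hQ'⟩ := hιrange x' hx'U
  have hQQ : Q.asIdeal ≤ Q'.asIdeal := (hιle _ _).1 (by rw [hQ, hQ']; exact hsp)
  obtain ⟨_, ⟨b, rfl⟩, hbQ, hbO⟩ := PrimeSpectrum.isTopologicalBasis_basic_opens.exists_subset_of_mem_open
    (show Q ∈ ι ⁻¹' O' from show ι Q ∈ O' by rw [hQ]; exact hxO) (hO'.preimage hιemb.continuous)
  let p := Q.asIdeal.under Γ(S, W)
  have hker : ∀ J : Ideal Γ(X, U), Q.asIdeal ≤ J →
      (J.map (Ideal.Quotient.mk Q.asIdeal)).comap (Ideal.Quotient.mk Q.asIdeal) = J := fun J hJ =>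
    Ideal.comap_map_mk hJ
  have hu : ∀ J : Ideal (Γ(X, U) ⧸ Q.asIdeal), (J.under (Γ(S, W) ⧸ p)).comap (Ideal.Quotient.mk p) =
      (J.comap (Ideal.Quotient.mk Q.asIdeal)).under Γ(S, W) := fun J => rfl
  haveI : FaithfulSMul (Γ(S, W) ⧸ p) (Γ(X, U) ⧸ Q.asIdeal) :=
    (faithfulSMul_iff_algebraMap_injective _ _).2 (Ideal.algebraMap_quotient_injective)
  haveI : Algebra.FiniteType (Γ(S, W) ⧸ p) (Γ(X, U) ⧸ Q.asIdeal) :=
    Algebra.FiniteType.of_restrictScalars_finiteType Γ(S, W) _ _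
  let q' := Q'.asIdeal.map (Ideal.Quotient.mk Q.asIdeal)
  haveI : q'.IsPrime := Ideal.map_isPrime_of_surjective Ideal.Quotient.mk_surjective (by rwa [Ideal.mk_ker])
  have hpne : q'.under (Γ(S, W) ⧸ p) ≠ ⊥ := fun h => hne (by
    rw [← hQ, ← hQ', hfeq]
    have h1 := hu q'
    rw [h, hker _ hQQ, ← RingHom.ker_eq_comap_bot, Ideal.mk_ker] at h1
    exact h1)
  have hmax : ∀ J : Ideal (Γ(X, U) ⧸ Q.asIdeal), J.IsPrime → q' ≤ J →
      J.under (Γ(S, W) ⧸ p) = q'.under (Γ(S, W) ⧸ p) → J = q' := by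
    intro J hJ hle heq
    haveI := hJ
    let P : PrimeSpectrum Γ(X, U) := ⟨J.comap (Ideal.Quotient.mk _), Ideal.IsPrime.comap _⟩
    have hQP : Q'.asIdeal ≤ P.asIdeal := (hker _ hQQ).ge.trans (Ideal.comap_mono hle)
    have hfib : f (ι P) = f x' := by
      rw [← hQ', hfeq, ← hu J, heq, hu q', hker _ hQQ]
    have hmem := hcl.closure_subset (show (⟨ι P, hfib⟩ : ↥(f ⁻¹' {f x'})) ∈
        closure (Subtype.val ⁻¹' {x'}) from by
      rw [show (Subtype.val ⁻¹' {x'} : Set ↥(f ⁻¹' {f x'})) = {⟨x', rfl⟩} from by ext; simp [Subtype.ext_iff],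
        ← specializes_iff_mem_closure, subtype_specializes_iff]
      show x' ⤳ ι P
      rw [← hQ']
      exact (hιle _ _).2 hQP)
    have hPQ : P = Q' := hιemb.injective ((show ι P = x' from hmem).trans hQ'.symm)
    rw [← Ideal.map_comap_of_surjective _ Ideal.Quotient.mk_surjective J,
      show J.comap (Ideal.Quotient.mk _) = Q'.asIdeal from congrArg PrimeSpectrum.asIdeal hPQ]
  obtain ⟨q₁, hq₁, hq₁le, hbq₁, hq₁p, hq₁max⟩ := Groth.Agent.FlatH4.exists_closed_prime_between q' hpne hmax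
    (Ideal.Quotient.mk Q.asIdeal b) (by rwa [Ne, Ideal.Quotient.eq_zero_iff_mem])
  let Q₁ : PrimeSpectrum Γ(X, U) := ⟨q₁.comap (Ideal.Quotient.mk _), Ideal.IsPrime.comap _⟩
  have hQQ₁ : Q.asIdeal ≤ Q₁.asIdeal := fun z hz => by
    show Ideal.Quotient.mk Q.asIdeal z ∈ q₁
    rw [Ideal.Quotient.eq_zero_iff_mem.2 hz]; exact zero_mem _
  have hQ₁u : Q₁.asIdeal.under Γ(S, W) = p := by
    rw [← hu q₁, hq₁p, ← RingHom.ker_eq_comap_bot, Ideal.mk_ker]
  have hf₁ : f (ι Q₁) = f x := by rw [← hQ, hfeq, hQ₁u]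
  have hx₁ : x ⤳ ι Q₁ := by rw [← hQ]; exact (hιle _ _).2 hQQ₁
  have hx₁' : ι Q₁ ⤳ x' := by
    rw [← hQ']
    exact (hιle _ _).2 ((Ideal.comap_mono hq₁le).trans (hker _ hQQ).le)
  have hclosed : IsClosed (Subtype.val ⁻¹' {ι Q₁} : Set ↥(f ⁻¹' {f x})) := by
    let z₁ : ↥(f ⁻¹' {f x}) := ⟨ι Q₁, hf₁⟩
    rw [show (Subtype.val ⁻¹' {ι Q₁} : Set ↥(f ⁻¹' {f x})) = {z₁} from by ext; simp [z₁, Subtype.ext_iff]]
    haveI : JacobsonSpace ↥(f ⁻¹' {f x}) :=
      JacobsonSpace.of_isOpenEmbedding (f.fiberHomeo (f x)).symm.isOpenEmbedding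
    apply isClosed_singleton_of_isLocallyClosed_singleton
    refine ⟨Subtype.val ⁻¹' (U : Set X), closure {z₁}, U.2.preimage continuous_subtype_val, isClosed_closure, ?_⟩
    refine Set.Subset.antisymm ?_ ?_
    · rintro _ rfl
      exact ⟨hU.range_fromSpec.le ⟨Q₁, rfl⟩, subset_closure rfl⟩
    · rintro ⟨z, hz⟩ ⟨hzU, hzc⟩
      obtain ⟨P, rfl⟩ := hιrange z hzU
      rw [← specializes_iff_mem_closure, subtype_specializes_iff] at hzc
      have hle : Q₁.asIdeal ≤ P.asIdeal := (hιle _ _).1 hzc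
      have hPu : P.asIdeal.under Γ(S, W) = p := (hfeq P Q).1 (hz.trans (by rw [hQ]))
      have hQP : Q.asIdeal ≤ P.asIdeal := hQQ₁.trans hle
      have h := hq₁max (P.asIdeal.map (Ideal.Quotient.mk Q.asIdeal))
        (Ideal.map_isPrime_of_surjective Ideal.Quotient.mk_surjective (by rwa [Ideal.mk_ker]))
        (by
          rw [← Ideal.map_comap_of_surjective _ Ideal.Quotient.mk_surjective q₁]
          exact Ideal.map_mono hle)
        (Ideal.comap_injective_of_surjective (Ideal.Quotient.mk p) Ideal.Quotient.mk_surjective (by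
          rw [hu, hker _ hQP, hPu, ← RingHom.ker_eq_comap_bot, Ideal.mk_ker]))
      have : P = Q₁ := PrimeSpectrum.ext (by
        show P.asIdeal = q₁.comap (Ideal.Quotient.mk _)
        rw [← h, hker _ hQP])
      subst this
      exact Subtype.ext rfl
  refine ⟨⟨ι Q₁, specializes_iff_mem_closure.1 hx₁, hf₁⟩, hbO ?_, hf₁, hclosed, hx₁, hx₁'⟩
  exact hbq₁

open AlgebraicGeometry CategoryTheory Limits in
/-- Let f : X ⟶ S be locally of finite type and x ⤳ x' a specialization of points of X, with x' a closed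
point of its fibre f⁻¹(f(x')) and f(x) ≠ f(x'). Then the points x₁ with f(x₁) = f(x) which are
closed in the fibre f⁻¹(f(x)) and satisfy x ⤳ x₁ ⤳ x' are dense in the closure of {x} intersected
with the fibre f⁻¹(f(x)) (fibres taken as subspaces of X). (The published statement omits the
condition f(x) ≠ f(x'), but the claim fails without it; it is stated here with that condition.) -/
theorem result {X S : Scheme.{u}} (f : X ⟶ S) [LocallyOfFiniteType f] (x x' : X) (hsp : x ⤳ x') (hne : f x ≠ f x')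
    (hcl : IsClosed (Subtype.val ⁻¹' {x'} : Set ↑(f ⁻¹' {f x'}))) :
    Dense (Subtype.val ⁻¹' {x₁ : ↑X | f x₁ = f x ∧ IsClosed (Subtype.val ⁻¹' {x₁} : Set ↑(f ⁻¹' {f x})) ∧ x ⤳ x₁ ∧ x₁ ⤳ x'} :
      Set ↑(closure {x} ∩ f ⁻¹' {f x})) := by
  exact dense_aux f x x' hsp hne hcl

end Groth.Agent.S1374
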