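import Groth.Statements.S13740
import Groth.Agent.S13739

set_option autoImplicit false
universe w u
open SGA1

namespace Groth.Agent.S13740

open CategoryTheory CategoryTheory.Limits AlgebraicGeometry in
/-- Let S be a separated Noetherian scheme, π : X → S finite and surjective with X separated, G a finite
group acting on X by S-automorphisms and transitively on the geometric points of X over every
geometric point of S, and F a presheaf of sets on schemes satisfying the sheaf condition for every
finite family of quasi-finite morphisms of finite type whose induced morphism from the disjoint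
union is universally submersive (a qfh-sheaf). Then pulling back along π identifies F(S) with the
G-invariant elements of F(X): F(π) is injective with image the invariants. (The published statement
takes F a qfh-sheaf on Noetherian schemes over S; this row takes a presheaf on all schemes with the
sheaf property for every such family, a stronger hypothesis.) -/
theorem result {X S : Scheme.{u}} [IsNoetherian S] [S.IsSeparated] [X.IsSeparated] (q : X ⟶ S) [IsFinite q] [Surjective q] {G : Type u} [Group G] [Finite G] (ρ : G →* Aut X) (hρ : ∀ g : G, (ρ g).hom ≫ q = q) (htrans : ∀ (Ω : Type u) [Field Ω] [IsAlgClosed Ω] (τ₁ τ₂ : Spec (CommRingCat.of Ω) ⟶ X), τ₁ ≫ q = τ₂ ≫ q → ∃ g : G, τ₁ ≫ (ρ g).hom = τ₂) (F : Scheme.{u}ᵒᵖ ⥤ Type w) (hF : ∀ ⦃T : Scheme.{u}⦄ (E : PreZeroHypercover.{u} T), Finite E.I₀ → (∀ i, LocallyOfFiniteType (E.f i)) → (∀ i, QuasiCompact (E.f i)) → (∀ i, LocallyQuasiFinite (E.f i)) → SGA1.UnivSubmersive (Sigma.desc E.f) → Presieve.IsSheafFor F E.presieve₀) : Function.Injective (F.map q.op) ∧ Set.range (F.map q.op) = {f : F.obj (Opposite.op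 X) | ∀ g : G, F.map (ρ g).hom.op f = f} := by
  classical
  haveI : LocallyQuasiFinite q := inferInstance
  let E₁ : PreZeroHypercover.{u} S := ⟨PUnit.{u + 1}, fun _ => X, fun _ => q⟩
  haveI : IsFinite (Sigma.desc E₁.f) := HTop25.isFinite_sigmaDesc (fun _ : PUnit.{u + 1} => q)
  haveI : Surjective (Sigma.desc E₁.f) := ⟨fun s => by
    obtain ⟨x, rfl⟩ := q.surjective s
    exact ⟨Sigma.ι E₁.X PUnit.unit x, by rw [← Scheme.Hom.comp_apply, Sigma.ι_desc]⟩⟩
  have h₁ := (Presieve.isSheafFor_arrows_iff F _).1 (hF E₁ inferInstance
    (fun _ => inferInstanceAs (LocallyOfFiniteType q)) (fun _ => inferInstanceAs (QuasiCompact q))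
    (fun _ => inferInstanceAs (LocallyQuasiFinite q))
    (HTop25.univSubmersive_of_universallyClosed _))
  let gr : G → (X ⟶ pullback q q) := fun g =>
    pullback.lift (𝟙 X) (ρ g).hom ((Category.id_comp q).trans (hρ g).symm)
  have hgr : ∀ g, IsFinite (gr g) := fun g => by
    haveI : IsFinite (gr g ≫ pullback.fst q q) := by rw [pullback.lift_fst]; infer_instance
    exact MorphismProperty.of_postcomp (W := @IsFinite) (W' := @IsSeparated) (gr g) (pullback.fst q q)
      inferInstance ‹_›
  let E₂ : PreZeroHypercover.{u} (pullback q q : Scheme.{u}) := ⟨G, fun _ => X, gr⟩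
  haveI := hgr
  haveI : IsFinite (Sigma.desc E₂.f) := HTop25.isFinite_sigmaDesc gr
  haveI : Surjective (Sigma.desc E₂.f) := by
    have hp : pullback (𝟙 X ≫ q) q = (pullback q q : Scheme.{u}) := by rw [Category.id_comp]
    refine ⟨fun z => ?_⟩
    let e := pullback.congrHom (Category.id_comp q) (rfl : q = q)
    have := (S13739.result (Y := X) q ρ hρ htrans (𝟙 X) (Sigma.desc gr ≫ e.inv)
      (fun σ => by simp [e, gr, Sigma.ι_desc_assoc, pullback.lift_fst])
      (fun σ => by simp [e, gr, Sigma.ι_desc_assoc, pullback.lift_snd])).2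
    obtain ⟨w, hw⟩ := this.surj (e.inv z)
    rw [Scheme.Hom.comp_apply] at hw
    exact ⟨w, e.inv.homeomorph.injective hw⟩
  have h₂ := (Presieve.isSheafFor_arrows_iff F _).1 (hF E₂ inferInstance
    (fun g => have := hgr g; inferInstanceAs (LocallyOfFiniteType (gr g)))
    (fun g => have := hgr g; inferInstanceAs (QuasiCompact (gr g)))
    (fun g => have := hgr g; inferInstanceAs (LocallyQuasiFinite (gr g)))
    (HTop25.univSubmersive_of_universallyClosed _))
  have key : ∀ {W Z : Scheme.{u}} {A B : W ⟶ Z} (t : F.obj (Opposite.op Z)), A = B → F.map A.op t = F.map B.op t := by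
    intro W Z A B t h; rw [h]
  refine ⟨fun a b hab => ?_, Set.ext fun f => ⟨?_, fun hf => ?_⟩⟩
  · obtain ⟨t, -, ht⟩ := h₁ (fun _ => F.map q.op a) (fun i j Z gi gj e => by
      rw [← Functor.map_comp_apply, ← Functor.map_comp_apply, ← op_comp, ← op_comp]
      exact congrArg (fun m : Z ⟶ S => F.map m.op a) e)
    exact (ht a fun _ => rfl).trans (ht b fun _ => hab.symm).symm
  · rintro ⟨a, rfl⟩ g
    rw [← Functor.map_comp_apply, ← op_comp, hρ]
  · have heq : F.map (pullback.fst q q).op f = F.map (pullback.snd q q).op f := by
      obtain ⟨t, -, ht⟩ := h₂ (fun g => F.map (gr g).op (F.map (pullback.fst q q).op f))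
        (fun i j Z gi gj e => by
          simp only [← Functor.map_comp_apply, ← op_comp]
          refine key f ?_
          rw [← Category.assoc, ← Category.assoc]
          exact congrArg (· ≫ pullback.fst q q) e)
      refine (ht _ fun g => rfl).trans (ht _ fun g => ?_).symm
      show F.map (gr g).op _ = F.map (gr g).op _
      rw [← Functor.map_comp_apply, ← Functor.map_comp_apply, ← op_comp, ← op_comp,
        pullback.lift_fst, pullback.lift_snd, op_id, Functor.map_id_apply]
      exact hf g
    obtain ⟨t, ht, -⟩ := h₁ (fun _ => f) (fun i j Z gi gj e => by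
      have h := congrArg (F.map (pullback.lift gi gj e).op) heq
      rw [← Functor.map_comp_apply, ← Functor.map_comp_apply, ← op_comp, ← op_comp,
        pullback.lift_fst, pullback.lift_snd] at h
      exact h)
    exact ⟨t, ht PUnit.unit⟩
end Groth.Agent.S13740
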