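import Groth.Statements.S13741
import Mathlib.AlgebraicGeometry.ResidueField
import Mathlib.FieldTheory.Normal.Basic

set_option autoImplicit false
universe u
open SGA1

namespace Groth.Agent.S13741

open CategoryTheory CategoryTheory.Limits AlgebraicGeometry in
/-- Let S be a separated Noetherian scheme, q : X → S finite and surjective with X separated, and G a
finite group acting on X by S-automorphisms. Assume that G acts transitively on every fibre of q,
that each residue field extension k(x)/k(q x) is normal, and that for each x every k(q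
x)-automorphism of k(x) is induced by an element of G fixing x. Then for every algebraically closed
field Ω, any two Ω-points of X with the same composite to S are conjugate under G. -/
theorem result {X S : Scheme.{u}} [IsNoetherian S] [S.IsSeparated] [X.IsSeparated] (q : X ⟶ S) [IsFinite q] [Surjective q] {G : Type u} [Group G] [Finite G] (ρ : G →* Aut X) (hρ : ∀ g : G, (ρ g).hom ≫ q = q) (h1 : ∀ x y : X, q x = q y → ∃ g : G, (ρ g).hom x = y) (h2 : ∀ x : X, @Normal (S.residueField (q x)) (X.residueField x) _ _ (q.residueFieldMap x).hom.toAlgebra) (h3 : ∀ (x : X) (σ : X.residueField x ≅ X.residueField x), q.residueFieldMap x ≫ σ.hom = q.residueFieldMap x → ∃ g : G, X.fromSpecResidueField x ≫ (ρ g).hom = Spec.map σ.hom ≫ X.fromSpecResidueField x) (Ω : Type u) [Field Ω] [IsAlgClosed Ω] (τ₁ τ₂ : Spec (CommRingCat.of Ω) ⟶ X) (hτ : τ₁ ≫ q = τ₂ ≫ q) : ∃ g : G, τ₁ ≫ (ρ g).hom = τ₂ := by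
  obtain ⟨g₀, hg₀⟩ := h1 (τ₁ (IsLocalRing.closedPoint Ω)) (τ₂ (IsLocalRing.closedPoint Ω)) (by
    rw [← Scheme.Hom.comp_apply, ← Scheme.Hom.comp_apply, hτ])
  set τ := τ₁ ≫ (ρ g₀).hom with hτdef
  have hτq : τ ≫ q = τ₂ ≫ q := by rw [hτdef, Category.assoc, hρ, hτ]
  have hdec : ∀ (π : Spec (CommRingCat.of Ω) ⟶ X) (x : X), π (IsLocalRing.closedPoint Ω) = x →
      ∃ κ : X.residueField x ⟶ CommRingCat.of Ω, Spec.map κ ≫ X.fromSpecResidueField x = π := by
    rintro π x rfl
    exact ⟨_, Scheme.descResidueField_stalkClosedPointTo_fromSpecResidueField Ω X π⟩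
  set x := τ₂ (IsLocalRing.closedPoint Ω) with hx
  obtain ⟨ι₁, hι₁⟩ := hdec τ x (by rw [hτdef, Scheme.Hom.comp_apply]; exact hg₀)
  obtain ⟨ι₂, hι₂⟩ := hdec τ₂ x rfl
  have hcomm : q.residueFieldMap x ≫ ι₁ = q.residueFieldMap x ≫ ι₂ := by
    apply Spec.map_injective
    rw [← cancel_mono (S.fromSpecResidueField (q x)), Spec.map_comp, Spec.map_comp, Category.assoc,
      Category.assoc, Scheme.Hom.SpecMap_residueFieldMap_fromSpecResidueField,
      reassoc_of% hι₁, reassoc_of% hι₂, hτq]
  letI := (q.residueFieldMap x).hom.toAlgebra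
  letI : Algebra (X.residueField x) Ω := ι₁.hom.toAlgebra
  letI : Algebra (S.residueField (q x)) Ω := (q.residueFieldMap x ≫ ι₁).hom.toAlgebra
  haveI : IsScalarTower (S.residueField (q x)) (X.residueField x) Ω := .of_algebraMap_eq' rfl
  haveI := h2 x
  let φ : X.residueField x →ₐ[S.residueField (q x)] Ω :=
    { ι₂.hom with
      commutes' := fun r => (congr($hcomm r)).symm }
  let σ := φ.restrictNormal' (X.residueField x)
  have hσ : ∀ l, ι₁ (σ l) = ι₂ l := fun l => φ.restrictNormal_commutes (X.residueField x) l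
  let e : X.residueField x ≅ X.residueField x := σ.toRingEquiv.toCommRingCatIso
  obtain ⟨g, hg⟩ := h3 x e (by
    ext r
    exact σ.commutes r)
  have hιe : e.hom ≫ ι₁ = ι₂ := by
    ext l
    exact hσ l
  refine ⟨g * g₀, ?_⟩
  have hmul : (ρ (g * g₀)).hom = (ρ g₀).hom ≫ (ρ g).hom := by rw [map_mul]; rfl
  rw [hmul, ← Category.assoc, ← hτdef, ← hι₁, Category.assoc, hg, ← Spec.map_comp_assoc, hιe, hι₂]
end Groth.Agent.S13741
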