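import Groth.Statements.S13742
import Groth.Agent.Lib.Descend.BaseChangeAt
-- import your own Groth.Agent.* helpers here

set_option autoImplicit false
set_option linter.style.haveILetI false
universe u
open Cyc

namespace Groth.Agent.S13742


open CategoryTheory CategoryTheory.Limits AlgebraicGeometry in
/-- A flat preimmersion into a reduced scheme has reduced source. -/
theorem isReduced_of_flat_preimmersion {P X : Scheme.{u}} (f : P ⟶ X) [Flat f] [IsPreimmersion f]
    [IsReduced X] : IsReduced P := by
  suffices ∀ x : P, _root_.IsReduced (P.presheaf.stalk x) from isReduced_of_isReduced_stalk P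
  intro x
  have hflat : (f.stalkMap x).hom.Flat := Flat.stalkMap f x
  have hsurj : Function.Surjective (f.stalkMap x).hom := f.stalkMap_surjective x
  have hinj : Function.Injective (f.stalkMap x).hom := by
    letI : Algebra (X.presheaf.stalk (f x)) (P.presheaf.stalk x) := (f.stalkMap x).hom.toAlgebra
    haveI : Module.Flat (X.presheaf.stalk (f x)) (P.presheaf.stalk x) := hflat
    haveI : IsLocalHom (algebraMap (X.presheaf.stalk (f x)) (P.presheaf.stalk x)) :=
      inferInstanceAs (IsLocalHom (f.stalkMap x).hom)
    haveI : Module.FaithfullyFlat (X.presheaf.stalk (f x)) (P.presheaf.stalk x) :=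
      Module.FaithfullyFlat.of_flat_of_isLocalHom
    exact FaithfulSMul.algebraMap_injective (X.presheaf.stalk (f x)) (P.presheaf.stalk x)
  exact isReduced_of_injective (RingEquiv.ofBijective _ ⟨hinj, hsurj⟩).symm.toRingHom
    (RingEquiv.ofBijective _ ⟨hinj, hsurj⟩).symm.injective

open CategoryTheory CategoryTheory.Limits AlgebraicGeometry in
/-- The fibre of a reduced scheme over a maximal point of the base is reduced. -/
theorem isReduced_fibre_of_maximal {Z S : Scheme.{u}} [IsReduced Z] (g : Z ⟶ S) (η : S)
    (hη : ∀ y : S, y ⤳ η → y = η) : IsReduced (pullback g (S.fromSpecResidueField η)) := by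
  haveI hpre : IsPreimmersion (S.fromSpecStalk η) := IsAffineOpen.fromSpecStalk_isPreimmersion _ _ _
  haveI : Flat (S.fromSpecStalk η) := Descend.flat_fromSpecStalk η
  haveI : IsPreimmersion (pullback.fst g (S.fromSpecStalk η)) := inferInstance
  haveI : Flat (pullback.fst g (S.fromSpecStalk η)) := inferInstance
  haveI : IsReduced (pullback g (S.fromSpecStalk η)) :=
    isReduced_of_flat_preimmersion (pullback.fst g (S.fromSpecStalk η))
  let r : Spec (S.residueField η) ⟶ Spec (S.presheaf.stalk η) := Spec.map (S.residue η)
  haveI hr : IsClosedImmersion r :=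
    IsClosedImmersion.spec_of_surjective _ IsLocalRing.residue_surjective
  haveI hrs : Surjective r := by
    refine ⟨fun p => ⟨default, ?_⟩⟩
    apply (S.fromSpecStalk η).isEmbedding.injective
    have hall : ∀ q : Spec (S.presheaf.stalk η), S.fromSpecStalk η q = η := fun q =>
      hη _ ((Scheme.range_fromSpecStalk (X := S) (x := η)).subset (Set.mem_range_self q))
    rw [hall, hall]
  let j := pullback.fst (pullback.snd g (S.fromSpecStalk η)) r
  haveI : IsClosedImmersion j := inferInstance
  haveI : Surjective j := inferInstance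
  haveI : IsIso j := isIso_of_isClosedImmersion_of_surjective j
  haveI : IsReduced (pullback (pullback.snd g (S.fromSpecStalk η)) r) :=
    isReduced_of_isOpenImmersion j
  exact (pullbackLeftPullbackSndIso g (S.fromSpecStalk η) r).symm.hom.isEmbedding |> fun _ => isReduced_of_isOpenImmersion (pullbackLeftPullbackSndIso g (S.fromSpecStalk η) r).symm.hom

open CategoryTheory CategoryTheory.Limits AlgebraicGeometry in
/-- Let S be a separated Noetherian scheme, f : X → S separated of finite type, z a point of X mapping
to a generic point of an irreducible component of S, and ι : Z → X a closed immersion from a reduced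
scheme with image the closure of z (the closure of z with its reduced structure). Then Z ×_S Spec
k(f z) is an integral scheme, and its image in the fibre X ×_S Spec k(f z) is the closure of the
unique point w of that fibre lying over z: Z ×_S Spec k(f z) is the closure of z in its fibre, with
reduced structure. -/
theorem result {X S Z : Scheme.{u}} [IsNoetherian S] [S.IsSeparated] [X.IsSeparated] (f : X ⟶ S) [LocallyOfFiniteType f] [QuasiCompact f] (z : X) (hz : closure {f z} ∈ irreducibleComponents ↥S) (ι : Z ⟶ X) [IsClosedImmersion ι] [IsReduced Z] (hZ : Set.range ι = closure {z}) : IsIntegral (pullback (ι ≫ f) (S.fromSpecResidueField (f z))) ∧ ∃ w : ↥(pullback f (S.fromSpecResidueField (f z))), pullback.fst f (S.fromSpecResidueField (f z)) w = z ∧ Set.range (pullback.map (ι ≫ f) (S.fromSpecResidueField (f z)) f (S.fromSpecResidueField (f z)) ι (𝟙 _) (𝟙 S) (Category.comp_id _) ((Category.comp_id _).trans (Category.id_comp _).symm)) = closure {w} := by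
  set η := f z
  have hη : ∀ y : S, y ⤳ η → y = η := by
    intro y hy
    have h1 : closure ({η} : Set S) ⊆ closure {y} :=
      closure_minimal (Set.singleton_subset_iff.2 hy.mem_closure) isClosed_closure
    have h2 : closure ({y} : Set S) ⊆ closure {η} := hz.2 isIrreducible_singleton.closure h1
    exact (hy.antisymm (specializes_iff_mem_closure.2 (h2 (subset_closure rfl)))).eq
  haveI := isReduced_fibre_of_maximal (ι ≫ f) η hη
  set σ := S.fromSpecResidueField η
  set q := pullback.fst f σ
  haveI : IsPreimmersion q := inferInstance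
  set m := pullback.map (ι ≫ f) σ f σ ι (𝟙 _) (𝟙 S) (Category.comp_id _)
    ((Category.comp_id _).trans (Category.id_comp _).symm) with hm
  have hq : Set.range q = f ⁻¹' {η} := by
    rw [Scheme.Pullback.range_fst]
    simp [σ, Scheme.range_fromSpecResidueField]
  obtain ⟨w, hw⟩ : z ∈ Set.range q := by rw [hq]; rfl
  have hsq : IsPullback m (pullback.fst (ι ≫ f) σ) q ι := by
    refine IsPullback.of_right ?_ ?_ (IsPullback.of_hasPullback f σ).flip
    · rw [show m ≫ pullback.snd f σ = pullback.snd (ι ≫ f) σ by rw [hm]; exact pullback.lift_snd _ _ _]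
      exact (IsPullback.of_hasPullback (ι ≫ f) σ).flip
    · rw [hm]; exact pullback.lift_fst _ _ _
  have hmi : IsClosedImmersion m :=
    MorphismProperty.of_isPullback (P := @IsClosedImmersion) hsq.flip inferInstance
  have hrange : Set.range m = closure {w} := by
    rw [q.isEmbedding.isInducing.closure_eq_preimage_closure_image, Set.image_singleton, hw, ← hZ]
    rw [Scheme.Pullback.range_map]
    ext a
    simp [q]
  refine ⟨?_, w, hw, hrange⟩
  have hirr : IsIrreducible (Set.univ : Set ↥(pullback (ι ≫ f) σ)) := by
    have h1 : IsIrreducible (Set.range m) := hrange ▸ isIrreducible_singleton.closure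
    have h2 : Set.range m = m '' Set.univ := Set.image_univ.symm
    rw [h2] at h1
    obtain ⟨a, ha⟩ := h1.1
    obtain ⟨b, hb, -⟩ := ha
    refine ⟨⟨b, hb⟩, ?_⟩
    intro U V hU hV ⟨u, _, hu⟩ ⟨v, _, hv⟩
    obtain ⟨U', hU', rfl⟩ := m.isClosedEmbedding.isInducing.isOpen_iff.1 hU
    obtain ⟨V', hV', rfl⟩ := m.isClosedEmbedding.isInducing.isOpen_iff.1 hV
    obtain ⟨c, hc, hd⟩ := h1.2 U' V' hU' hV' ⟨m u, ⟨u, trivial, rfl⟩, hu⟩ ⟨m v, ⟨v, trivial, rfl⟩, hv⟩
    obtain ⟨d, -, rfl⟩ := hc
    exact ⟨d, trivial, hd⟩
  haveI : IrreducibleSpace ↥(pullback (ι ≫ f) σ) := (irreducibleSpace_def _).2 hirr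
  exact isIntegral_of_irreducibleSpace_of_isReduced _

end Groth.Agent.S13742
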