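import Groth.Statements.S13744
import Groth.Agent.Lib.Cyc26.UnivEquidim
import Groth.Agent.Lib.RootExt25.Generic

set_option autoImplicit false
universe u
open Cyc

namespace Groth.Agent.S13744

open CategoryTheory CategoryTheory.Limits AlgebraicGeometry

theorem length_self_eq {A B : Type u} [CommRing A] [CommRing B] (φ : A →+* B) (h : Function.Bijective φ) :
    Module.length A A = Module.length B B := by
  letI := φ.toAlgebra
  rw [← Module.length_eq_of_surjective (R := B) (S := A) (M := B) h.2]
  exact (LinearEquiv.ofBijective (Algebra.linearMap A B) h).length_eq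

theorem length_toNat_eq_zero {R : Type u} [CommRing R] [IsDomain R] {W : Scheme.{u}}
    (q : W ⟶ Spec (CommRingCat.of R)) [Flat q] (w : W) (hw : (q w : PrimeSpectrum R).asIdeal ≠ ⊥) :
    (Module.length (W.presheaf.stalk w) (W.presheaf.stalk w)).toNat = 0 := by
  by_contra hne
  have hfin : Module.length (W.presheaf.stalk w) (W.presheaf.stalk w) ≠ ⊤ := fun h => hne (by rw [h]; rfl)
  haveI : IsArtinianRing (W.presheaf.stalk w) :=
    (isFiniteLength_iff_isNoetherian_isArtinian.1 (Module.length_ne_top_iff.1 hfin)).2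
  obtain ⟨a, ha, ha0⟩ := Submodule.exists_mem_ne_zero_of_ne_bot hw
  let O := (Spec (CommRingCat.of R)).presheaf.stalk (q w)
  let P : Ideal R := (q w : PrimeSpectrum R).asIdeal
  letI algO : Algebra R O := StructureSheaf.stalkAlgebra R (q w)
  haveI : IsLocalization.AtPrime O P := StructureSheaf.IsLocalization.to_stalk R (q w)
  have hmem : algebraMap R O a ∈ IsLocalRing.maximalIdeal O := (IsLocalization.AtPrime.to_map_mem_maximal_iff O P a).2 ha
  haveI : IsDomain O := IsLocalization.isDomain_of_atPrime (A := R) O P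
  have hne0 : algebraMap R O a ≠ 0 := fun h => ha0
    (IsLocalization.injective O (P.primeCompl_le_nonZeroDivisors) (h.trans (map_zero _).symm))
  letI : Algebra O (W.presheaf.stalk w) := (q.stalkMap w).hom.toAlgebra
  haveI : Module.Flat O (W.presheaf.stalk w) := (Flat.iff_flat_stalkMap q).1 inferInstance w
  have hreg : IsSMulRegular (W.presheaf.stalk w) (algebraMap R O a) :=
    Module.Flat.isSMulRegular_of_nonZeroDivisors (mem_nonZeroDivisors_of_ne_zero hne0)
  have hnzd : algebraMap O (W.presheaf.stalk w) (algebraMap R O a) ∈ nonZeroDivisors (W.presheaf.stalk w) :=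
    mem_nonZeroDivisors_iff_right.2 fun z hz => hreg.right_eq_zero_of_smul (by rw [Algebra.smul_def, mul_comm]; exact hz)
  exact hmem ((isUnit_map_iff (q.stalkMap w).hom _).1 (IsArtinianRing.isUnit_of_mem_nonZeroDivisors hnzd))


open CategoryTheory CategoryTheory.Limits AlgebraicGeometry in
/-- Let S be a separated Noetherian scheme, p : X → S separated of finite type, ι : Z → X a closed
immersion with Z integral, R a discrete valuation ring with fraction field K and x : Spec R → S. Let
φ be the scheme-theoretic image in Z ×_S Spec R of Z ×_S Spec K (the flat closure of the generic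
fibre), regarded as a closed subscheme of X ×_S Spec R. Then the cycle of φ (coefficient at t =
length of the local ring of φ above t, an infinite length read as 0) equals the cycle of Z ×_S Spec
K pushed forward along the inclusion X ×_S Spec K → X ×_S Spec R. -/
theorem result {X S Z : Scheme.{u}} [IsNoetherian S] [S.IsSeparated] [X.IsSeparated] (p : X ⟶ S) [LocallyOfFiniteType p] [QuasiCompact p] (ι : Z ⟶ X) [IsClosedImmersion ι] [IsIntegral Z] (R : Type u) [CommRing R] [IsDomain R] [IsDiscreteValuationRing R] (x : Spec (CommRingCat.of R) ⟶ S) (t : ↥(pullback p x)) : Cyc.subschemeFun (fun _ => (0 : ℤ)) 0 ((pullback.map (ι ≫ p) (Spec.map (CommRingCat.ofHom (algebraMap R (FractionRing R))) ≫ x) (ι ≫ p) x (𝟙 Z) (Spec.map (CommRingCat.ofHom (algebraMap R (FractionRing R)))) (𝟙 S) ((Category.comp_id _).trans (Category.id_comp _).symm) (Category.comp_id _)).ker.subschemeι ≫ pullback.map (ι ≫ p) x p x ι (𝟙 _) (𝟙 S) (Category.comp_id _) ((Category.comp_id _).trans (Category.id_comp _).symm)) t = ∑ᶠ t' ∈ {t' : ↥(pullback p (Spec.map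 (CommRingCat.ofHom (algebraMap R (FractionRing R))) ≫ x)) | (pullback.map p (Spec.map (CommRingCat.ofHom (algebraMap R (FractionRing R))) ≫ x) p x (𝟙 X) (Spec.map (CommRingCat.ofHom (algebraMap R (FractionRing R)))) (𝟙 S) ((Category.comp_id _).trans (Category.id_comp _).symm) (Category.comp_id _)) t' = t}, Cyc.subschemeFun (fun _ => (0 : ℤ)) 0 (pullback.map (ι ≫ p) (Spec.map (CommRingCat.ofHom (algebraMap R (FractionRing R))) ≫ x) p (Spec.map (CommRingCat.ofHom (algebraMap R (FractionRing R))) ≫ x) ι (𝟙 _) (𝟙 S) (Category.comp_id _) ((Category.comp_id _).trans (Category.id_comp _).symm)) t' := by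
  let ψ := Spec.map (CommRingCat.ofHom (algebraMap R (FractionRing R)))
  let m := pullback.map (ι ≫ p) (ψ ≫ x) (ι ≫ p) x (𝟙 Z) ψ (𝟙 S) ((Category.comp_id _).trans (Category.id_comp _).symm) (Category.comp_id _)
  let jZ := pullback.map (ι ≫ p) x p x ι (𝟙 _) (𝟙 S) (Category.comp_id _) ((Category.comp_id _).trans (Category.id_comp _).symm)
  let jK := pullback.map (ι ≫ p) (ψ ≫ x) p (ψ ≫ x) ι (𝟙 _) (𝟙 S) (Category.comp_id _) ((Category.comp_id _).trans (Category.id_comp _).symm)
  let mX := pullback.map p (ψ ≫ x) p x (𝟙 X) ψ (𝟙 S) ((Category.comp_id _).trans (Category.id_comp _).symm) (Category.comp_id _)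
  haveI : IsOpenImmersion ψ := RootExt25.isOpenImmersion_specMap_fractionRing R (FractionRing R)
  have hm : IsPullback m (pullback.snd _ _) (pullback.snd (ι ≫ p) x) ψ := by
    refine IsPullback.of_right ?_ (pullback.lift_snd _ _ _) (IsPullback.of_hasPullback (ι ≫ p) x)
    rw [show m ≫ pullback.fst (ι ≫ p) x = pullback.fst _ _ by rw [pullback.lift_fst]; exact Category.comp_id _]
    exact IsPullback.of_hasPullback _ _
  have hmX : IsPullback mX (pullback.snd _ _) (pullback.snd p x) ψ := by
    refine IsPullback.of_right ?_ (pullback.lift_snd _ _ _) (IsPullback.of_hasPullback p x)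
    rw [show mX ≫ pullback.fst p x = pullback.fst _ _ by rw [pullback.lift_fst]; exact Category.comp_id _]
    exact IsPullback.of_hasPullback _ _
  haveI : IsOpenImmersion mX := MorphismProperty.of_isPullback hmX.flip ‹IsOpenImmersion ψ›
  haveI : IsClosedImmersion jZ := by
    have h : IsPullback jZ (pullback.fst _ _) (pullback.fst p x) ι :=
      IsPullback.of_right (by
        rw [show jZ ≫ pullback.snd p x = pullback.snd _ _ by rw [pullback.lift_snd]; exact Category.comp_id _]
        exact (IsPullback.of_hasPullback (ι ≫ p) x).flip)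
        (pullback.lift_fst _ _ _) (IsPullback.of_hasPullback p x).flip
    exact MorphismProperty.of_isPullback h.flip ‹IsClosedImmersion ι›
  have hsqr : jK ≫ mX = m ≫ jZ := by
    have e1 : jK ≫ pullback.fst _ _ = pullback.fst _ _ ≫ ι := pullback.lift_fst _ _ _
    have e2 : mX ≫ pullback.fst _ _ = pullback.fst _ _ := (pullback.lift_fst _ _ _).trans (Category.comp_id _)
    have e3 : m ≫ pullback.fst _ _ = pullback.fst _ _ := (pullback.lift_fst _ _ _).trans (Category.comp_id _)
    have e4 : jZ ≫ pullback.fst _ _ = pullback.fst _ _ ≫ ι := pullback.lift_fst _ _ _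
    have e5 : jK ≫ pullback.snd _ _ = pullback.snd _ _ := (pullback.lift_snd _ _ _).trans (Category.comp_id _)
    have e6 : mX ≫ pullback.snd _ _ = pullback.snd _ _ ≫ ψ := pullback.lift_snd _ _ _
    have e7 : m ≫ pullback.snd _ _ = pullback.snd _ _ ≫ ψ := pullback.lift_snd _ _ _
    have e8 : jZ ≫ pullback.snd _ _ = pullback.snd _ _ := (pullback.lift_snd _ _ _).trans (Category.comp_id _)
    refine pullback.hom_ext ?_ ?_
    · rw [Category.assoc, Category.assoc, e2, e1, e4, ← Category.assoc, e3]
    · rw [Category.assoc, Category.assoc, e6, ← Category.assoc, e5, e8, e7]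
  haveI : QuasiCompact ψ := inferInstance
  haveI : QuasiCompact m := MorphismProperty.of_isPullback hm.flip ‹QuasiCompact ψ›
  haveI : IsSchemeTheoreticallyDominant m.toImage := EffCartier.dominant_toImage m
  haveI : Flat (m.imageι ≫ pullback.snd (ι ≫ p) x) :=
    Cyc26.UnivEquidim.flat_of_dominant _ m.toImage (pullback.snd _ _) (by rw [m.toImage_imageι_assoc]; exact hm.w)
  have hti : m.toImage ≫ m.imageι = m := m.toImage_imageι
  obtain ⟨tI, htI⟩ : ∃ tI, tI = m.toImage := ⟨_, rfl⟩
  have hl : IsPullback m.toImage (pullback.snd _ _) (m.imageι ≫ pullback.snd (ι ≫ p) x) ψ := by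
    have h1 : IsPullback m.toImage (𝟙 _) m.imageι m :=
      IsPullback.of_isLimit (PullbackCone.IsLimit.mk (by rw [Category.id_comp]; exact hti)
        (fun c => c.snd) (fun c => by rw [← cancel_mono m.imageι, Category.assoc]; exact (congrArg (c.snd ≫ ·) hti).trans c.condition.symm)
        (fun c => Category.comp_id _) (fun c n _ h2 => by rwa [Category.comp_id] at h2))
    simpa using h1.paste_vert hm
  haveI : IsOpenImmersion m.toImage := MorphismProperty.of_isPullback hl.flip ‹IsOpenImmersion ψ›
  haveI : IsClosedImmersion jK := by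
    have h : IsPullback jK (pullback.fst _ _) (pullback.fst p (ψ ≫ x)) ι :=
      IsPullback.of_right (by
        rw [show jK ≫ pullback.snd p (ψ ≫ x) = pullback.snd _ _ by rw [pullback.lift_snd]; exact Category.comp_id _]
        exact (IsPullback.of_hasPullback (ι ≫ p) (ψ ≫ x)).flip)
        (pullback.lift_fst _ _ _) (IsPullback.of_hasPullback p (ψ ≫ x)).flip
    exact MorphismProperty.of_isPullback h.flip ‹IsClosedImmersion ι›
  let len := fun (W : Scheme.{u}) (w : W) => ((Module.length (W.presheaf.stalk w) (W.presheaf.stalk w)).toNat : ℤ)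
  have hinner : ∀ t', Cyc.subschemeFun (fun _ => (0 : ℤ)) 0 jK t' = ∑ᶠ c ∈ {c | jK c = t'}, len _ c :=
    fun t' => if_pos rfl
  refine (if_pos rfl).trans ?_
  show ∑ᶠ w ∈ {w : ↥m.image | (m.imageι ≫ jZ) w = t}, len _ w = ∑ᶠ t' ∈ {t' | mX t' = t}, _
  have hinj : Function.Injective (m.imageι ≫ jZ) := (m.imageι ≫ jZ).isEmbedding.injective
  have hcomp : ∀ c, mX (jK c) = (m.imageι ≫ jZ) (m.toImage c) := fun c => by
    rw [← Scheme.Hom.comp_apply, hsqr, ← Scheme.Hom.comp_apply, m.toImage_imageι_assoc]
  by_cases hex : ∃ c, (m.imageι ≫ jZ) (m.toImage c) = t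
  · obtain ⟨c, rfl⟩ := hex
    rw [show {w : ↥m.image | (m.imageι ≫ jZ) w = (m.imageι ≫ jZ) (m.toImage c)} = {m.toImage c} from
        Set.ext fun w => ⟨fun h => hinj h, fun h => by rw [h]; exact (rfl : _ = _)⟩,
      finsum_mem_singleton,
      show {t' | mX t' = (m.imageι ≫ jZ) (m.toImage c)} = {jK c} from
        Set.ext fun w => ⟨fun h => mX.isOpenEmbedding.injective (h.trans (hcomp c).symm), fun h => by rw [h]; exact hcomp c⟩,
      finsum_mem_singleton, hinner,
      show {c' | jK c' = jK c} = {c} from
        Set.ext fun w => ⟨fun h => jK.isEmbedding.injective h, fun h => by rw [h]; exact (rfl : _ = _)⟩,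
      finsum_mem_singleton]
    exact congrArg (fun n : ℕ∞ => (n.toNat : ℤ))
      (length_self_eq (m.toImage.stalkMap c).hom (ConcreteCategory.bijective_of_isIso (m.toImage.stalkMap c)))
  · rw [finsum_mem_congr rfl (fun w hw => ?_), (finsum_mem_zero _), finsum_mem_congr rfl (fun t' ht' => ?_), (finsum_mem_zero _)]
    · rw [hinner]
      refine (finsum_mem_congr rfl fun c hc => ?_).trans (finsum_mem_zero _)
      exact absurd ⟨c, (hcomp c).symm.trans ((congrArg mX hc).trans ht')⟩ hex
    · refine Int.natCast_eq_zero.2 (length_toNat_eq_zero (m.imageι ≫ pullback.snd (ι ≫ p) x) w fun hbot => ?_)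
      obtain ⟨c, hc, -⟩ := Scheme.exists_preimage_of_isPullback hl w
        ((⊥ : PrimeSpectrum (FractionRing R)) : ↥(Spec (CommRingCat.of (FractionRing R))))
        (PrimeSpectrum.ext (hbot.trans (Ideal.comap_bot_of_injective _ (IsFractionRing.injective R (FractionRing R))).symm))
      exact hex ⟨c, by rw [hc]; exact hw⟩
end Groth.Agent.S13744
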