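import Groth.Statements.S13747
import Groth.Agent.Lib.NodeBlow14.Main

set_option autoImplicit false
universe u
open CategoryTheory AlgebraicGeometry
open SemiFact

namespace Groth.Agent.S13747

/-- Let R be a discrete valuation ring and f : X → Spec R a nodal curve — f is proper, flat and locally
of finite presentation, its geometric fibres are connected, and every fibre has one-dimensional
irreducible components and at most ordinary double points as singularities. Let x be a closed point
of X lying over the closed point of Spec R at which the local ring O_{X,x} is not regular, and let b
: X' → X be the blowing-up of X in the reduced closed subscheme {x}. Then the composite X' → Spec R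
is again proper, flat, locally of finite presentation, with fibres having one-dimensional
irreducible components and at most ordinary double points. (Connectedness of the geometric fibres of
X', part of the definition of a nodal curve, is not restated in the conclusion.) -/
theorem result
    (R : Type u) [CommRing R] [IsDomain R] [IsDiscreteValuationRing R]
    {X X' : Scheme.{u}} (f : X ⟶ Spec (CommRingCat.of R)) [IsProper f]
    (hf : Curv2.IsNodalFamily f)
    (hconn : ∀ (L : Type u) [Field L] (t : Spec (CommRingCat.of L) ⟶ Spec (CommRingCat.of R)),
      ConnectedSpace ↑(Limits.pullback f t))
    (x : X) (hx : f.base x = IsLocalRing.closedPoint R) (hxc : IsClosed ({x} : Set X))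
    (hreg : ¬ IsRegularLocalRing (X.presheaf.stalk x))
    (b : X' ⟶ X) (hb : BlowUp.IsBlowUp b (Scheme.IdealSheafData.vanishingIdeal ⟨{x}, hxc⟩)) :
    IsProper (b ≫ f) ∧ Curv2.IsNodalFamily (b ≫ f) := by
  exact NodeBlow14.isNodalFamily_blowUp f hf x hx hxc hreg b hb

end Groth.Agent.S13747
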