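import Groth.Statements.S13749
import Groth.Agent.Lib.NeronGlue19.Dense
import Groth.Agent.Lib.NeronMap.Dense
import Groth.Agent.Lib.NeronMap.Basic
import Mathlib.AlgebraicGeometry.Sites.Fpqc
import Groth.Agent.Lib.AbRigid.Isogeny
import Mathlib.RingTheory.Flat.FaithfullyFlat.Basic

set_option autoImplicit false
universe u
open CategoryTheory AlgebraicGeometry
open Neron

namespace Groth.Agent.S13749

open CategoryTheory CategoryTheory.Limits AlgebraicGeometry

set_option linter.style.haveILetI false
set_option backward.isDefEq.respectTransparency.types false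

/-- Let S be a locally Noetherian scheme, U ⊆ S a schematically dense open subscheme, N → S a smooth
separated morphism of finite type and g : S' → S a flat surjective morphism, and put U' = g⁻¹(U).
Suppose the base change N ×_S S' → S' has the Néron mapping property with respect to U': for every
smooth S'-scheme Y', sending an S'-morphism Y' → N ×_S S' to its restriction over U' is a bijection
onto the U'-morphisms Y' ×_{S'} U' → (N ×_S S') ×_{S'} U'. Then N → S has the Néron mapping property
with respect to U: for every smooth S-scheme Y, restriction to U is a bijection from S-morphisms Y →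
N onto U-morphisms Y ×_S U → N ×_S U. (The published statement is for an arbitrary base S and open
U, with N an algebraic space which is a model of an abelian scheme over U, tested against smooth
schemes; this row takes N a scheme, drops the abelian-scheme hypothesis, and assumes S locally
Noetherian with U schematically dense, the setting in which schematic closures of U-sections commute
with flat base change and fill S'.) -/
theorem result
    {S S' : Scheme.{u}} [IsLocallyNoetherian S] (g : S' ⟶ S) [Flat g] [Surjective g]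
    (U : S.Opens) (hU : CInt.IsSchematicallyDense U)
    (N : Over S) [Smooth N.hom] [IsSeparated N.hom] [QuasiCompact N.hom]
    (hN' : ∀ Y' : Over S', Smooth Y'.hom →
      Function.Bijective (fun f : Y' ⟶ (Over.pullback g).obj N => (Over.pullback (g ⁻¹ᵁ U).ι).map f))
    (Y : Over S) [Smooth Y.hom] :
    Function.Bijective (fun f : Y ⟶ N => (Over.pullback U.ι).map f) := by
  haveI : IsSchemeTheoreticallyDominant U.ι := ⟨NeronMap.ker_ι_eq_bot hU⟩
  haveI : IsLocallyNoetherian Y.left := LocallyOfFiniteType.isLocallyNoetherian Y.hom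
  let d := pullback.fst Y.hom U.ι
  haveI : IsSchemeTheoreticallyDominant d := inferInstance
  refine (NeronMap.ext_iff U.ι).2 fun h hw => existsUnique_of_exists_of_unique ?_ (fun g₁ g₂ h₁ h₂ =>
    Over.OverMorphism.ext (AbRigid.eq_of_comp_eq_of_ker_eq_bot d (IsSchemeTheoreticallyDominant.ker_eq_bot _)
      N.hom _ _ ((Over.w g₁).trans (Over.w g₂).symm) (h₁.trans h₂.symm)))
  let Y' := (Over.pullback g).obj Y
  let b := pullback.fst Y.hom g
  haveI : Flat b := inferInstance
  haveI : Surjective b := inferInstance
  haveI : Smooth Y'.hom := inferInstanceAs (Smooth (pullback.snd Y.hom g))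
  let d' := pullback.fst Y'.hom (g ⁻¹ᵁ U).ι
  have hsq := isPullback_morphismRestrict g U
  let e : pullback Y'.hom (g ⁻¹ᵁ U).ι ⟶ pullback Y.hom U.ι :=
    pullback.lift (d' ≫ b) (pullback.snd Y'.hom (g ⁻¹ᵁ U).ι ≫ (g ∣_ U)) (by
      rw [Category.assoc, Category.assoc, morphismRestrict_ι, ← pullback.condition_assoc]
      exact congrArg (d' ≫ ·) pullback.condition)
  let h' : pullback Y'.hom (g ⁻¹ᵁ U).ι ⟶ ((Over.pullback g).obj N).left :=
    pullback.lift (e ≫ h) (d' ≫ Y'.hom) (by
      rw [Category.assoc, hw, pullback.lift_fst_assoc, Category.assoc, Category.assoc]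
      exact congrArg (d' ≫ ·) pullback.condition)
  obtain ⟨f', hf', -⟩ := (NeronMap.ext_iff (g ⁻¹ᵁ U).ι).1 (hN' Y' inferInstance) h' (pullback.lift_snd _ _ _)
  suffices key : ∀ y : Y.left, ∃ a : Spec (Y.left.presheaf.stalk y) ⟶ N.left,
      a ≫ N.hom = Y.left.fromSpecStalk y ≫ Y.hom ∧ NeronGlue19.Compat d h y a by
    choose a ha hc using key
    obtain ⟨w, hwq, hwd⟩ := NeronGlue19.exists_extend_open Y.hom N.hom d h a ha hc
    exact ⟨Over.homMk w hwq, hwd⟩
  intro y
  obtain ⟨y', rfl⟩ := b.surjective y
  let π := Spec.map (b.stalkMap y')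
  haveI hflat : Flat π := by
    rw [HasRingHomProperty.Spec_iff (P := @Flat)]
    exact Flat.stalkMap b y'
  haveI : Surjective π := by
    algebraize [(b.stalkMap y').hom]
    have : Module.FaithfullyFlat (Y.left.presheaf.stalk (b y')) ((pullback Y.hom g).presheaf.stalk y') :=
      @Module.FaithfullyFlat.of_flat_of_isLocalHom _ _ _ _ _ _ _
        (Flat.stalkMap b y') (b.toLRSHom.prop y')
    exact ⟨(RingHom.FaithfullyFlat.iff_flat_and_comap_surjective.1 ‹RingHom.FaithfullyFlat _›).2⟩
  let φ : Spec (Y'.left.presheaf.stalk y') ⟶ N.left :=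
    Y'.left.fromSpecStalk y' ≫ f'.left ≫ pullback.fst N.hom g
  have hπ : π ≫ Y.left.fromSpecStalk (b y') = Y'.left.fromSpecStalk y' ≫ b :=
    Scheme.SpecMap_stalkMap_fromSpecStalk b
  have hφc : ∀ {T : Scheme.{u}} (t : T ⟶ Spec (Y'.left.presheaf.stalk y')) (t' : T ⟶ pullback Y.hom U.ι),
      t ≫ π ≫ Y.left.fromSpecStalk (b y') = t' ≫ d → t ≫ φ = t' ≫ h := by
    intro T t t' ht
    rw [hπ] at ht
    have hm : (t' ≫ pullback.snd Y.hom U.ι) ≫ U.ι = (t ≫ Y'.left.fromSpecStalk y' ≫ Y'.hom) ≫ g := by
      rw [Category.assoc, ← pullback.condition, ← reassoc_of% ht]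
      simp only [Category.assoc]
      exact congrArg (fun z => t ≫ Y'.left.fromSpecStalk y' ≫ z) pullback.condition
    let v : T ⟶ pullback Y'.hom (g ⁻¹ᵁ U).ι :=
      pullback.lift (t ≫ Y'.left.fromSpecStalk y') (hsq.lift _ _ hm) (by
        rw [Category.assoc, hsq.lift_snd])
    have hv : v ≫ e = t' := by
      rw [← cancel_mono d, Category.assoc, pullback.lift_fst, ← ht]
      exact (pullback.lift_fst_assoc _ _ _ b).trans (Category.assoc _ _ _)
    have h1 : v ≫ d' ≫ f'.left ≫ pullback.fst N.hom g = v ≫ e ≫ h := by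
      rw [reassoc_of% hf', pullback.lift_fst]
    rw [reassoc_of% hv, pullback.lift_fst_assoc, Category.assoc] at h1
    exact h1
  have hφw : φ ≫ N.hom = π ≫ Y.left.fromSpecStalk (b y') ≫ Y.hom := by
    rw [reassoc_of% hπ]
    simp only [φ, Category.assoc, pullback.condition]
    exact congrArg (fun z => Y'.left.fromSpecStalk y' ≫ z)
      ((reassoc_of% (Over.w f')) g |>.trans pullback.condition.symm)
  clear_value φ
  have hcoeq : ∀ {T : Scheme.{u}} (s₁ s₂ : T ⟶ Spec (Y'.left.presheaf.stalk y')),
      s₁ ≫ π = s₂ ≫ π → s₁ ≫ φ = s₂ ≫ φ := by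
    intro T s₁ s₂ hs
    suffices hQ : pullback.fst π π ≫ φ = pullback.snd π π ≫ φ by
      rw [← pullback.lift_fst (f := π) (g := π) s₁ s₂ hs, Category.assoc, hQ, pullback.lift_snd_assoc]
    let c : pullback π π ⟶ Y.left := pullback.fst π π ≫ π ≫ Y.left.fromSpecStalk (b y')
    haveI : Flat (Y.left.fromSpecStalk (b y')) := AbRigid.flat_fromSpecStalk _
    haveI : Flat c := inferInstance
    refine AbRigid.eq_of_comp_eq_of_ker_eq_bot (pullback.fst c d) (IsSchemeTheoreticallyDominant.ker_eq_bot _)
      N.hom _ _ (by rw [Category.assoc, Category.assoc, hφw, pullback.condition_assoc]) ?_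
    rw [← Category.assoc, ← Category.assoc,
      hφc (pullback.fst c d ≫ pullback.fst π π) (pullback.snd c d) (by
        rw [Category.assoc]; exact pullback.condition (f := c) (g := d)),
      hφc (pullback.fst c d ≫ pullback.snd π π) (pullback.snd c d) (by
        rw [Category.assoc, ← pullback.condition_assoc]; exact pullback.condition (f := c) (g := d))]
  refine ⟨EffectiveEpi.desc π φ fun s₁ s₂ hs => hcoeq s₁ s₂ hs, ?_, fun {T} t t' ht => ?_⟩
  · rw [← cancel_epi π, EffectiveEpi.fac_assoc, hφw]
  · rw [← cancel_epi (pullback.fst t π)]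
    rw [← Category.assoc, pullback.condition, Category.assoc, EffectiveEpi.fac,
      hφc (pullback.snd t π) (pullback.fst t π ≫ t') (by
        rw [← pullback.condition_assoc, ht, Category.assoc]), Category.assoc]

end Groth.Agent.S13749
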