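import Groth.Statements.S13750
import Groth.Agent.Lib.NeronGlue19.Localise

set_option autoImplicit false
universe u
open CategoryTheory AlgebraicGeometry
open Neron

namespace Groth.Agent.S13750

open Limits

set_option linter.style.haveILetI false
set_option backward.isDefEq.respectTransparency.types false

/-- Let S be a locally Noetherian scheme, U ⊆ S an open subscheme and N → S a smooth separated morphism
of finite type having the Néron mapping property with respect to U: for every smooth S-scheme Y,
restriction to U is a bijection from S-morphisms Y → N onto U-morphisms Y ×_S U → N ×_S U. Let s be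
a point of S and S̃ = Spec O_{S,s} → S the canonical morphism. Then N ×_S S̃ → S̃ has the Néron
mapping property with respect to the preimage Ũ of U: for every smooth S̃-scheme Ỹ, restriction to Ũ
is a bijection from S̃-morphisms Ỹ → N ×_S S̃ onto Ũ-morphisms. (The published statement is for N an
algebraic space which is a Néron model of an abelian scheme over U and also covers the strict
henselisation at a geometric point; this row is the localisation case for a scheme N, with no
abelian-scheme hypothesis.) -/
theorem result
    {S : Scheme.{u}} [IsLocallyNoetherian S] (U : S.Opens)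
    (N : Over S) [Smooth N.hom] [IsSeparated N.hom] [QuasiCompact N.hom]
    (hN : ∀ Y : Over S, Smooth Y.hom →
      Function.Bijective (fun f : Y ⟶ N => (Over.pullback U.ι).map f))
    (s : S) (Y' : Over (Spec (S.presheaf.stalk s))) [Smooth Y'.hom] :
    Function.Bijective (fun f : Y' ⟶ (Over.pullback (S.fromSpecStalk s)).obj N =>
      (Over.pullback ((S.fromSpecStalk s) ⁻¹ᵁ U).ι).map f) := by
  obtain ⟨V, hV, hsV, -⟩ := exists_isAffineOpen_mem_and_subset (x := s) (U := ⊤) trivial
  let V' : S.affineOpens := ⟨V, hV⟩
  haveI := LimH13.Nhd.isDirected s V'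
  haveI : Nonempty (LimH13.Nhd.Idx s V') := ⟨⟨1, by rw [Scheme.basicOpen_of_isUnit _ isUnit_one]; exact hsV⟩⟩
  haveI : IsFiltered (LimH13.Nhd.Idx s V') := isFiltered_of_directed_le_nonempty _
  let D := LimH13.Nhd.diag s V'
  haveI : ∀ k, IsAffine (D.obj k) := fun k => V'.2.basicOpen _
  let j : ∀ k, D.obj k ⟶ S := fun k => (S.basicOpen k.unop.1).ι
  haveI : ∀ k, IsOpenImmersion (j k) := fun k => inferInstanceAs (IsOpenImmersion (Scheme.Opens.ι _))
  have hj : ∀ {k k'} (e : k ⟶ k'), D.map e ≫ j k' = j k := fun e =>
    Scheme.homOfLE_ι S ((LimH13.Nhd.le_iff s V').1 e.unop.le)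
  have hσ : ∀ k, (LimH13.Nhd.cone s V').π.app k ≫ j k = S.fromSpecStalk s := fun k =>
    Scheme.Opens.fromSpecStalkOfMem_ι _ _ _
  refine NeronMap.ext_pullback (f := S.fromSpecStalk s)
    (isPullback_morphismRestrict (S.fromSpecStalk s) U).flip ?_
  refine NeronGlue19.Localise.ext_of_forall_isAffine U N (S.fromSpecStalk s) ?_ Y'.hom
  intro P p _ hp
  haveI : Smooth (X := P) (Y := (LimH13.Nhd.cone s V').pt) p := hp
  exact NeronGlue19.Localise.ext_of_isAffine U N j hj (c := LimH13.Nhd.cone s V') (S.fromSpecStalk s) hσ
    (LimH13.Nhd.isLimit s V' hsV) hN p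

end Groth.Agent.S13750
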