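import Groth.Statements.S13751
import Groth.Agent.Lib.RegExt.Global
import Mathlib.AlgebraicGeometry.Morphisms.UniversallyOpen

set_option autoImplicit false
set_option linter.style.haveILetI false
universe u
open CategoryTheory CategoryTheory.Limits AlgebraicGeometry MonObj
open Neron

namespace Groth.Agent.S13751

/-- Let S be a locally Noetherian scheme all of whose local rings are regular, let U ⊆ S be a dense open
subscheme and let A → S be an abelian scheme: a proper smooth group scheme over S whose geometric
fibres are connected. Then A is a Néron model of its restriction A ×_S U over S, in the sense that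
for every smooth S-scheme Y the restriction map from S-morphisms Y → A to U-morphisms Y ×_S U → A
×_S U is a bijection. (The published statement is for an abelian algebraic space over a regular base
and does not ask U to be dense; for U empty and A of positive relative dimension the identity and
the zero map of A both restrict to the empty morphism, so uniqueness fails, and the published
uniqueness argument uses density — this row takes A a scheme and U dense.) -/
theorem result
    {S : Scheme.{u}} [IsLocallyNoetherian S] (hreg : ∀ s : S, IsRegularLocalRing (S.presheaf.stalk s))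
    (U : S.Opens) (hU : Dense (U : Set S))
    (A : Over S) [GrpObj A] [IsProper A.hom] [Smooth A.hom]
    (hconn : ∀ (L : Type u) [Field L] (t : Spec (CommRingCat.of L) ⟶ S), ConnectedSpace ↑(pullback A.hom t))
    (Y : Over S) [Smooth Y.hom] :
    Function.Bijective (fun f : Y ⟶ A => (Over.pullback U.ι).map f) := by
  haveI : IsLocallyNoetherian Y.left := LocallyOfFiniteType.isLocallyNoetherian Y.hom
  have hY := WeilExt.isRegularLocalRing_of_smooth Y.hom hreg
  haveI : ∀ y : Y.left, IsDomain (Y.left.presheaf.stalk y) := fun y => haveI := hY y; RegLoc.isDomain _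
  haveI : IsReduced Y.left := isReduced_of_isReduced_stalk _
  have hd : Dense ((Y.hom ⁻¹ᵁ U : Y.left.Opens) : Set Y.left) := hU.preimage Y.hom.isOpenMap
  haveI : IsDominant (Y.hom ⁻¹ᵁ U).ι := ⟨by rw [DenseRange, Scheme.Opens.range_ι]; exact hd⟩
  let e := pullbackRestrictIsoRestrict Y.hom U
  have he : e.inv ≫ pullback.fst Y.hom U.ι = (Y.hom ⁻¹ᵁ U).ι := by simp [e]
  constructor
  · intro f f' h
    have h1 := congrArg (fun a => e.inv ≫ a.left ≫ pullback.fst A.hom U.ι) h
    simp only [Over.pullback_map_left, pullback.lift_fst] at h1
    rw [reassoc_of% he, reassoc_of% he] at h1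
    ext1
    exact ext_of_isDominant_of_isSeparated A.hom ((Over.w f).trans (Over.w f').symm) (Y.hom ⁻¹ᵁ U).ι h1
  · intro φ
    have hφ : φ.left ≫ pullback.snd A.hom U.ι = pullback.snd Y.hom U.ι := Over.w φ
    let G := (Over.pullback Y.hom).obj A
    letI : GrpObj G := Functor.grpObjObj
    haveI : IsProper G.hom := by dsimp [G]; infer_instance
    haveI : Smooth G.hom := by dsimp [G]; infer_instance
    obtain ⟨g, hg, hgf⟩ := RegExt.exists_section hY G (Y.hom ⁻¹ᵁ U) hd
      (pullback.lift (e.inv ≫ φ.left ≫ pullback.fst A.hom U.ι) (Y.hom ⁻¹ᵁ U).ι (by
        simp only [Category.assoc, pullback.condition]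
        rw [reassoc_of% hφ, ← pullback.condition, reassoc_of% he]))
      (pullback.lift_snd _ _ _)
    refine ⟨Over.homMk (g ≫ pullback.fst A.hom Y.hom) ?_, ?_⟩
    · rw [Category.assoc, pullback.condition, ← Category.assoc]
      exact (congrArg (· ≫ Y.hom) hg).trans (Category.id_comp _)
    · ext1
      apply pullback.hom_ext
      · simp only [Over.pullback_map_left, pullback.lift_fst, Over.homMk_left]
        rw [← cancel_epi e.inv, ← Category.assoc, he, reassoc_of% hgf, pullback.lift_fst]
      · simp only [Over.pullback_map_left, pullback.lift_snd]
        exact hφ.symm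

end Groth.Agent.S13751
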