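import Groth.Statements.S13756
import Groth.Agent.Lib.NodeDefect14.Main

set_option autoImplicit false
universe u
open CategoryTheory AlgebraicGeometry
open SemiFact

namespace Groth.Agent.S13756

theorem bijective_closedStalk (R' : Type u) [CommRing R'] [IsLocalRing R'] :
    Function.Bijective (NodeDefect14.baseHom (𝟙 (Spec (CommRingCat.of R'))) (IsLocalRing.closedPoint R')) := by
  let S := (Spec (CommRingCat.of R')).presheaf.stalk (IsLocalRing.closedPoint R')
  letI : Algebra R' S := (NodeDefect14.baseHom (𝟙 (Spec (CommRingCat.of R'))) (IsLocalRing.closedPoint R')).toAlgebra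
  have hU := isAffineOpen_top (Spec (CommRingCat.of R'))
  let Γ₀ := Γ(Spec (CommRingCat.of R'), ⊤)
  letI := (Spec (CommRingCat.of R')).presheaf.algebra_section_stalk (U := ⊤) ⟨IsLocalRing.closedPoint R', trivial⟩
  haveI := hU.isLocalization_stalk ⟨IsLocalRing.closedPoint R', trivial⟩
  have hi : Function.Bijective (Scheme.ΓSpecIso (CommRingCat.of R')).inv :=
    ConcreteCategory.bijective_of_isIso (Scheme.ΓSpecIso (CommRingCat.of R')).inv
  have hunit : ∀ a ∈ (hU.primeIdealOf ⟨IsLocalRing.closedPoint R', trivial⟩).asIdeal.primeCompl,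
      IsUnit (a : Γ₀) := by
    intro a ha
    obtain ⟨b, rfl⟩ := hi.2 a
    refine IsUnit.map _ (IsLocalRing.notMem_maximalIdeal.1 fun hb => ha ?_)
    have h : IsLocalRing.closedPoint R' ∉ (Spec (CommRingCat.of R')).basicOpen ((Scheme.ΓSpecIso (CommRingCat.of R')).inv b) := by
      rw [basicOpen_eq_of_affine]
      exact fun h => h hb
    by_contra hne
    exact h ((Scheme.mem_basicOpen (U := ⊤) (Spec (CommRingCat.of R')) _ (IsLocalRing.closedPoint R') trivial).2
      (IsLocalization.map_units _ (⟨_, hne⟩ : (hU.primeIdealOf ⟨IsLocalRing.closedPoint R', trivial⟩).asIdeal.primeCompl)))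
  exact ((IsLocalization.atUnits Γ₀ (hU.primeIdealOf ⟨IsLocalRing.closedPoint R', trivial⟩).asIdeal.primeCompl
    (S := S) hunit).bijective).comp hi


/-- Let R → R' be an injective finite extension of discrete valuation rings with ramification index r,
let f : Z → Spec R be a nodal curve (proper, flat, locally of finite presentation, geometric fibres
connected with one-dimensional irreducible components and at most ordinary double points), and let a
: Spec R' → Z be a morphism over Spec R sending the generic point of Spec R' into the smooth locus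
of f and the closed point to a point p at which the local ring of Z is not regular. Let π : Z' → Z
be the blowing-up of Z in the reduced closed point p and ã : Spec R' → Z' the lift of a (ã followed
by π is a). For an R'-point c of an R-scheme W write δ(c) for the length of the torsion submodule of
the stalk at the closed point of c*Ω_{W/R} (Néron's measure for the defect of smoothness, here with
Ω taken as the conormal sheaf of the diagonal). Then either the local ring of Z' at the image of the
closed point under ã is regular, or δ(ã) ≤ max(δ(a) − r, 0) (truncated subtraction). -/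
theorem result
    (R R' : Type u) [CommRing R] [IsDomain R] [IsDiscreteValuationRing R]
    [CommRing R'] [IsDomain R'] [IsDiscreteValuationRing R'] [Algebra R R'] [Module.Finite R R']
    (hinj : Function.Injective (algebraMap R R'))
    {Z Z' : Scheme.{u}} (f : Z ⟶ Spec (CommRingCat.of R)) [IsProper f] (hf : Curv2.IsNodalFamily f)
    (hconn : ∀ (L : Type u) [Field L] (t : Spec (CommRingCat.of L) ⟶ Spec (CommRingCat.of R)),
      ConnectedSpace ↑(Limits.pullback f t))
    (a : (Spec (CommRingCat.of R')) ⟶ Z) (ha : a ≫ f = Spec.map (CommRingCat.ofHom (algebraMap R R')))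
    (hgen : ∀ y : ↥(Spec (CommRingCat.of R')), y ≠ (IsLocalRing.closedPoint R') → a.base y ∈ f.smoothLocus)
    (hreg : ¬ IsRegularLocalRing (Z.presheaf.stalk (a.base (IsLocalRing.closedPoint R'))))
    (π : Z' ⟶ Z) (hπ : BlowUp.IsBlowUp π (Scheme.IdealSheafData.vanishingIdeal
      ⟨closure {a.base (IsLocalRing.closedPoint R')}, isClosed_closure⟩))
    (ã : (Spec (CommRingCat.of R')) ⟶ Z') (hã : ã ≫ π = a) :
    IsRegularLocalRing (Z'.presheaf.stalk (ã.base (IsLocalRing.closedPoint R'))) ∨
      Module.length ↑((Spec (CommRingCat.of R')).presheaf.stalk (IsLocalRing.closedPoint R'))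
          ↥(Submodule.torsion ↑((Spec (CommRingCat.of R')).presheaf.stalk (IsLocalRing.closedPoint R'))
            ↑(((Scheme.Modules.pullback ã).obj (Omega.sheaf (π ≫ f))).presheaf.stalk (IsLocalRing.closedPoint R'))) ≤
        Module.length ↑((Spec (CommRingCat.of R')).presheaf.stalk (IsLocalRing.closedPoint R'))
          ↥(Submodule.torsion ↑((Spec (CommRingCat.of R')).presheaf.stalk (IsLocalRing.closedPoint R'))
            ↑(((Scheme.Modules.pullback a).obj (Omega.sheaf (f))).presheaf.stalk (IsLocalRing.closedPoint R'))) -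
          (Ideal.ramificationIdx' (IsLocalRing.maximalIdeal R) (IsLocalRing.maximalIdeal R') : ℕ∞) := by
  obtain rfl : a = ã ≫ π := hã.symm
  haveI hloc : IsLocalHom (algebraMap R R') := by
    haveI : FaithfulSMul R R' := (faithfulSMul_iff_algebraMap_injective R R').2 hinj
    exact RingHom.IsIntegral.isLocalHom (f := algebraMap R R') (fun x => (Algebra.IsIntegral.of_finite R R').isIntegral x) hinj
  obtain ⟨ϖ, hϖ⟩ := IsDiscreteValuationRing.exists_irreducible R
  haveI : IsLocallyNoetherian Z := LocallyOfFiniteType.isLocallyNoetherian f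
  haveI : IsProper π := BlowUpExist.isProper (BlowUpReg6.isFiniteTypeIdeal _) hπ
  let τ : ↥(Spec (CommRingCat.of R')) := IsLocalRing.closedPoint R'
  have hxc : IsClosed ({(ã ≫ π) τ} : Set Z) := by
    haveI : IsFinite (Spec.map (CommRingCat.ofHom (algebraMap R R'))) :=
      (IsFinite.SpecMap_iff _).2 (RingHom.finite_algebraMap.2 inferInstance)
    haveI : IsFinite ((ã ≫ π) ≫ f) := by rw [ha]; infer_instance
    haveI : IsFinite (ã ≫ π) := IsFinite.of_comp (ã ≫ π) f
    rw [← Set.image_singleton]
    exact (ã ≫ π).isClosedMap _ (IsLocalRing.isClosed_singleton_closedPoint (R := R'))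
  have hx : f ((ã ≫ π) τ) = IsLocalRing.closedPoint R := by
    rw [← Scheme.Hom.comp_apply, ha]
    exact IsLocalRing.comap_closedPoint (algebraMap R R')
  have hcl : (⟨closure {(ã ≫ π) τ}, isClosed_closure⟩ : TopologicalSpace.Closeds Z) = ⟨{(ã ≫ π) τ}, hxc⟩ :=
    TopologicalSpace.Closeds.ext hxc.closure_eq
  rw [hcl] at hπ
  let S : Type u := (Spec (CommRingCat.of R')).presheaf.stalk τ
  let eS : R' ≃+* S := RingEquiv.ofBijective _ (bijective_closedStalk R')
  haveI : IsDomain S := eS.symm.toMulEquiv.isDomain R'
  haveI : IsDiscreteValuationRing S := IsDiscreteValuationRing.RingEquivClass.isDiscreteValuationRing eS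
  obtain ⟨p, hp⟩ := IsDiscreteValuationRing.exists_irreducible R'
  have hne : algebraMap R R' ϖ ≠ 0 := (map_ne_zero_iff _ hinj).2 hϖ.ne_zero
  obtain ⟨n, v, hn⟩ := IsDiscreteValuationRing.eq_unit_mul_pow_irreducible hne hp
  have hr : Ideal.ramificationIdx' (IsLocalRing.maximalIdeal R) (IsLocalRing.maximalIdeal R') = n := by
    have hmap : (IsLocalRing.maximalIdeal R).map (algebraMap R R') = IsLocalRing.maximalIdeal R' ^ n := by
      rw [hϖ.maximalIdeal_eq, Ideal.map_span, Set.image_singleton, hn, hp.maximalIdeal_eq,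
        Ideal.span_singleton_pow, Ideal.span_singleton_mul_left_unit v.isUnit]
    refine Ideal.ramificationIdx'_spec hmap.le fun hle => ?_
    rw [hmap, hp.maximalIdeal_eq, Ideal.span_singleton_pow, Ideal.span_singleton_pow,
      Ideal.span_singleton_le_span_singleton, pow_dvd_pow_iff hp.ne_zero hp.not_isUnit] at hle
    omega
  have hb : NodeDefect14.baseHom (ã ≫ π ≫ f) τ ϖ = eS (algebraMap R R' ϖ) := by
    have h : ã ≫ π ≫ f = 𝟙 _ ≫ Spec.map (CommRingCat.ofHom (algebraMap R R')) := by
      rw [Category.id_comp, ← Category.assoc, ha]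
    rw [h, NodeDefect14.baseHom_Spec_map]
    rfl
  have h0 : NodeDefect14.baseHom (ã ≫ π ≫ f) τ ϖ ≠ 0 := by
    rw [hb]; exact (map_ne_zero_iff _ eS.injective).2 hne
  have hord : Ring.ord S (NodeDefect14.baseHom (ã ≫ π ≫ f) τ ϖ) = (n : ℕ∞) := by
    rw [hb, hn, map_mul, map_pow, Ring.ord_mul_of_isUnit_left (v.isUnit.map eS)]
    exact NodeDefect14.ord_pow_irreducible ((MulEquiv.irreducible_iff eS).2 hp) n
  rcases NodeDefect14.regular_or_KD_le hϖ f hf _ hx hxc hreg π hπ ã τ rfl h0 with h | h
  · exact Or.inl h
  · refine Or.inr ?_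
    rw [← NodeDefect14.KD_tlen, ← NodeDefect14.KD_tlen, hord, ← hr] at h
    exact h

end Groth.Agent.S13756
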