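import Groth.Statements.S13757
import Groth.Agent.Lib.LabCycH28.Basic

set_option autoImplicit false
universe u
open LabGraph

namespace Groth.Agent.S13757

open Finset

/-- Let G be a finite connected multigraph (loops and multiple edges allowed) with vertex set V, edge
set E, endpoint map E → V × V and a labelling of the edges by positive integers l. A vertex
labelling φ : V → ℤ is Cartier when l(e) divides the difference of the values of φ at the two
endpoints of every edge e; its multidegree is the vertex labelling whose value at v is the sum, over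
the edge-ends at v, of (value of φ at the other endpoint − φ(v)) / l(e). Then the Cartier vertex
labellings of multidegree zero are exactly the constant ones: the kernel of the multidegree operator
on Cartier labellings is ℤ, embedded as the constants. -/
theorem result
    {V E : Type u} [Fintype V] [Fintype E] [DecidableEq V] [DecidableEq E]
    (ends : E → V × V) (l : E → ℕ) (hl : ∀ e, 0 < l e) (hconn : LabGraph.Connected ends)
    (φ : V → ℤ) (hφ : LabGraph.IsCartier ends l φ) :
    (∀ v : V, LabGraph.mdeg ends l φ v = 0) ↔ ∀ v w : V, φ v = φ w := by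
  constructor
  · intro h
    have hΔ : ∀ e, φ (ends e).1 = φ (ends e).2 := by
      have h0 : ∑ e, (φ (ends e).2 - φ (ends e).1) * ((φ (ends e).2 - φ (ends e).1) / (l e : ℤ)) = 0 := by
        have h1 : ∑ v, φ v * LabGraph.mdeg ends l φ v = 0 := by simp [h]
        simp only [LabGraph.mdeg, Finset.mul_sum] at h1
        rw [Finset.sum_comm] at h1
        rw [← neg_eq_zero, ← Finset.sum_neg_distrib, ← h1]
        refine Finset.sum_congr rfl fun e _ => ?_
        simp only [mul_add, mul_ite, mul_zero, Finset.sum_add_distrib, Finset.sum_ite_eq, mem_univ, if_true]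
        obtain ⟨c, hc⟩ := hφ e
        have hl' : (l e : ℤ) ≠ 0 := by exact_mod_cast (hl e).ne'
        rw [show φ (ends e).2 - φ (ends e).1 = (l e : ℤ) * (-c) by linarith, hc,
          Int.mul_ediv_cancel_left _ hl', Int.mul_ediv_cancel_left _ hl']
        linear_combination c * hc
      have hnn : ∀ e, 0 ≤ (φ (ends e).2 - φ (ends e).1) * ((φ (ends e).2 - φ (ends e).1) / (l e : ℤ)) := by
        intro e
        obtain ⟨c, hc⟩ := hφ e
        have hl' : (0 : ℤ) < (l e : ℤ) := by exact_mod_cast hl e
        rw [show φ (ends e).2 - φ (ends e).1 = (l e : ℤ) * (-c) by linarith, Int.mul_ediv_cancel_left _ hl'.ne']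
        nlinarith [mul_self_nonneg c]
      intro e
      have h2 := (Finset.sum_eq_zero_iff_of_nonneg fun e _ => hnn e).1 h0 e (mem_univ e)
      obtain ⟨c, hc⟩ := hφ e
      have hl' : (0 : ℤ) < (l e : ℤ) := by exact_mod_cast hl e
      rw [show φ (ends e).2 - φ (ends e).1 = (l e : ℤ) * (-c) by linarith, Int.mul_ediv_cancel_left _ hl'.ne'] at h2
      have hc0 : c = 0 := by
        rcases mul_eq_zero.1 h2 with h3 | h3
        · exact neg_eq_zero.1 ((mul_eq_zero.1 h3).resolve_left hl'.ne')
        · exact neg_eq_zero.1 h3
      rw [hc0, mul_zero] at hc; linarith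
    intro v w
    induction hconn.2 v w with
    | refl => rfl
    | @tail b c _ hbc ih =>
      obtain ⟨e, he⟩ := hbc
      rw [ih]
      have := hΔ e
      rcases he with he | he <;> rw [he] at this
      · exact this
      · exact this.symm
  · intro h v
    refine Finset.sum_eq_zero fun e _ => ?_
    simp [h (ends e).2 (ends e).1]

end Groth.Agent.S13757
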