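import Groth.Statements.S13759
import Groth.Agent.Lib.LabCycH28.BlowUp

set_option autoImplicit false
universe u
open LabGraph

namespace Groth.Agent.S13759

/-- Let G be a finite connected multigraph with vertex set V, edge set E, endpoint map E → V × V and
positive integer edge labels l, and let G̃ be its total blow-up graph: every edge e is replaced by a
path of l(e) edges through l(e) − 1 new vertices, all new edges labelled 1 (so every vertex
labelling of G̃ is Cartier and its multidegree is the sum over edge-ends of the differences of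
values). Let H, resp. H̃, be the cokernel of the multidegree operator from Cartier vertex labellings
of G to ℤ^V, resp. of G̃ to ℤ^Ṽ, and ε : H → H̃ the map induced by extending vertex labellings of G
by zero on the new vertices. Then ε is injective: if a vertex labelling α of G, extended by zero, is
the multidegree of some vertex labelling of G̃, then α is the multidegree of some Cartier vertex
labelling of G. -/
theorem result
    {V E : Type u} [Fintype V] [Fintype E] [DecidableEq V] [DecidableEq E]
    (ends : E → V × V) (l : E → ℕ) (hl : ∀ e, 0 < l e) (hconn : LabGraph.Connected ends)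
    (α : V → ℤ) (ψ : LabGraph.BlVert V E l → ℤ)
    (hψ : ∀ w : LabGraph.BlVert V E l,
      LabGraph.mdeg (LabGraph.blEnds ends l) (fun _ => 1) ψ w = Sum.elim α (fun _ => (0 : ℤ)) w) :
    ∃ φ : V → ℤ, LabGraph.IsCartier ends l φ ∧ ∀ v : V, LabGraph.mdeg ends l φ v = α v := by
  have hd : ∀ e, ∀ j, j ≤ l e → ψ (LabGraph.pathVert ends l e j) = ψ (LabGraph.pathVert ends l e 0) +
      (j : ℤ) * (ψ (LabGraph.pathVert ends l e 1) - ψ (LabGraph.pathVert ends l e 0)) := by
    intro e j
    induction j using Nat.strongRecOn with
    | _ j ih =>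
      intro hj
      match j with
      | 0 => simp
      | 1 => simp
      | i + 2 =>
        have h := hψ (Sum.inr ⟨e, ⟨i, by omega⟩⟩)
        rw [LabCycH28.mdeg_inr, Sum.elim_inr] at h
        simp only at h
        rw [ih i (by omega) (by omega), ih (i + 1) (by omega) (by omega)] at h
        push_cast at h ⊢
        linarith
  have hdiff : ∀ e, ψ (Sum.inl (ends e).2) - ψ (Sum.inl (ends e).1) =
      (l e : ℤ) * (ψ (LabGraph.pathVert ends l e 1) - ψ (LabGraph.pathVert ends l e 0)) := fun e => by
    rw [← LabCycH28.pathVert_last ends l e (hl e), hd e (l e) le_rfl, LabCycH28.pathVert_zero]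
    ring
  refine ⟨fun v => ψ (Sum.inl v), fun e => ⟨-(ψ (LabGraph.pathVert ends l e 1) - ψ (LabGraph.pathVert ends l e 0)), ?_⟩, fun v => ?_⟩
  · linear_combination (-1 : ℤ) * hdiff e
  · have h := hψ (Sum.inl v)
    rw [LabCycH28.mdeg_inl ends l hl, Sum.elim_inl] at h
    rw [← h, LabGraph.mdeg]
    refine Finset.sum_congr rfl fun e _ => ?_
    have hl' : (l e : ℤ) ≠ 0 := by exact_mod_cast (hl e).ne'
    have hle : ((l e - 1 : ℕ) : ℤ) = (l e : ℤ) - 1 := by
      rw [Nat.cast_sub (hl e)]; simp
    rw [hd e (l e - 1) (Nat.sub_le _ _), hd e (l e) le_rfl, hle, hdiff e,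
      show ψ (Sum.inl (ends e).1) - ψ (Sum.inl (ends e).2) = (l e : ℤ) * -(ψ (LabGraph.pathVert ends l e 1) - ψ (LabGraph.pathVert ends l e 0)) by linarith [hdiff e],
      Int.mul_ediv_cancel_left _ hl', Int.mul_ediv_cancel_left _ hl']
    split_ifs <;> ring

end Groth.Agent.S13759
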