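import Groth.Statements.S13760
import Groth.Agent.Lib.LabCycH28.BlowUp

set_option autoImplicit false
universe u
open LabGraph

namespace Groth.Agent.S13760

open Finset

/-- Let G be a finite connected multigraph with vertex set V, edge set E, endpoint map E → V × V and
positive integer edge labels l, let G̃ be its total blow-up graph (every edge e replaced by a path
of l(e) edges through l(e) − 1 new vertices, all labelled 1), and let ε : H → H̃ be the map from the
cokernel of the multidegree operator on Cartier vertex labellings of G to the cokernel of the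
multidegree operator on vertex labellings of G̃ induced by extension by zero. Then ε is surjective —
every vertex labelling β of G̃ can be corrected by the multidegree of a vertex labelling of G̃ so as
to vanish at all new vertices — if and only if G is circuit-coprime (the labels along every circuit
have greatest common divisor 1). (The published statement is 'ε is an isomorphism if and only if the
labelled graph is circuit-coprime'; injectivity of ε holds for every labelled graph, so the content
is the equivalence for surjectivity, stated here with the cokernels unpacked.) -/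
theorem result
    {V E : Type u} [Fintype V] [Fintype E] [DecidableEq V] [DecidableEq E]
    (ends : E → V × V) (l : E → ℕ) (hl : ∀ e, 0 < l e) (hconn : LabGraph.Connected ends) :
    (∀ β : LabGraph.BlVert V E l → ℤ, ∃ (ψ : LabGraph.BlVert V E l → ℤ) (α : V → ℤ),
        ∀ w : LabGraph.BlVert V E l,
          LabGraph.mdeg (LabGraph.blEnds ends l) (fun _ => 1) ψ w + β w = Sum.elim α (fun _ => (0 : ℤ)) w) ↔
      LabGraph.IsCircuitCoprime ends l := by
  classical
  constructor
  · intro h
    refine LabCycH28.coprime_of_orth ends l fun x => ?_
    let β : LabGraph.BlVert V E l → ℤ := fun w => Sum.elim (fun _ => 0) (fun q => if (q.2 : ℕ) = 0 then x q.1 else 0) w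
    obtain ⟨ψ, α, hw⟩ := h β
    have hd : ∀ e, ∀ j, j + 1 ≤ l e → ψ (LabGraph.pathVert ends l e (j + 1)) = ψ (LabGraph.pathVert ends l e 0) +
        ((j : ℤ) + 1) * (ψ (LabGraph.pathVert ends l e 1) - ψ (LabGraph.pathVert ends l e 0)) - (j : ℤ) * x e := by
      intro e j
      induction j using Nat.strongRecOn with
      | _ j ih =>
        intro hj
        match j with
        | 0 => simp
        | i + 1 =>
          have h := hw (Sum.inr ⟨e, ⟨i, by omega⟩⟩)
          rw [LabCycH28.mdeg_inr, Sum.elim_inr] at h
          simp only [β, Sum.elim_inr] at h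
          rcases i with - | i
          · simp only [Nat.zero_add, Nat.cast_zero, if_true] at h ⊢
            push_cast
            linarith
          · rw [if_neg (by omega), ih i (by omega) (by omega), ih (i + 1) (by omega) (by omega)] at h
            push_cast at h ⊢
            linarith
    refine ⟨fun e => x e - (ψ (LabGraph.pathVert ends l e 1) - ψ (LabGraph.pathVert ends l e 0)), fun γ hγ => ?_⟩
    rw [← LabCycH28.orth_cob ends hγ (fun v => ψ (Sum.inl v))]
    refine Finset.sum_congr rfl fun e _ => ?_
    have h1 := hd e (l e - 1) (by have := hl e; omega)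
    rw [Nat.sub_add_cancel (hl e), LabCycH28.pathVert_last ends l e (hl e), LabCycH28.pathVert_zero,
      Nat.cast_sub (hl e)] at h1
    show _ = γ e * (ψ (Sum.inl (ends e).2) - ψ (Sum.inl (ends e).1))
    simp only [LabCycH28.pathVert_zero]
    rw [h1]
    push_cast
    ring
  · intro hcop β
    let b : E → ℕ → ℤ := fun e i => if h : i < l e - 1 then β (Sum.inr ⟨e, ⟨i, h⟩⟩) else 0
    let q : E → ℕ → ℤ := fun e j => -∑ i ∈ range j, ((j : ℤ) - 1 - i) * b e i
    have hq : ∀ e i, q e i - 2 * q e (i + 1) + q e (i + 2) = -b e i := fun e i => by
      simp only [q, Finset.sum_range_succ]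
      push_cast
      simp only [mul_neg, sub_neg_eq_add, Finset.mul_sum]
      have : ∑ x ∈ range i, ((i : ℤ) - 1 - x) * b e x - 2 * ∑ x ∈ range i, ((i : ℤ) + 1 - 1 - x) * b e x
          + ∑ x ∈ range i, ((i : ℤ) + 2 - 1 - x) * b e x = 0 := by
        rw [Finset.mul_sum, ← Finset.sum_sub_distrib, ← Finset.sum_add_distrib]
        exact Finset.sum_eq_zero fun x _ => by ring
      rw [Finset.mul_sum] at this
      simp only [mul_add, Finset.mul_sum]
      linarith
    obtain ⟨φ, y, hy⟩ := LabCycH28.decompose ends l hl hcop (fun e => q e (l e))
    let p : E → ℕ → ℤ := fun e j => φ (ends e).1 + q e j - (j : ℤ) * y e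
    let ψ : LabGraph.BlVert V E l → ℤ := fun w => Sum.elim φ (fun r => p r.1 ((r.2 : ℕ) + 1)) w
    have hp : ∀ e, ∀ j, j ≤ l e → ψ (LabGraph.pathVert ends l e j) = p e j := by
      intro e j hj
      rcases j with - | j
      · simp [LabCycH28.pathVert_zero, ψ, p, q]
      · rcases lt_or_eq_of_le hj with h | h
        · rw [LabCycH28.pathVert_mid ends l e j h]; rfl
        · rw [h, LabCycH28.pathVert_last ends l e (hl e)]
          have h1 := hy e
          simp only [LabCycH28.cob, LinearMap.coe_mk, AddHom.coe_mk] at h1
          simp only [ψ, Sum.elim_inl, p]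
          linarith
    refine ⟨ψ, fun v => LabGraph.mdeg (LabGraph.blEnds ends l) (fun _ => 1) ψ (Sum.inl v) + β (Sum.inl v), fun w => ?_⟩
    rcases w with v | ⟨e, i⟩
    · rfl
    · have hi := i.2
      rw [LabCycH28.mdeg_inr, Sum.elim_inr, hp e _ (by omega), hp e _ (by omega), hp e _ (by omega)]
      have h1 := hq e i
      have h2 : b e i = β (Sum.inr ⟨e, i⟩) := by simp [b, hi]
      simp only [p]
      push_cast
      linarith

end Groth.Agent.S13760
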