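import Groth.Statements.S13763
import Groth.Agent.Lib.Omega12.Unram
import Groth.Agent.Lib.CurveOm17.Cotangent
import Groth.Agent.Lib.VB17.Proper
import Groth.Agent.Lib.CurveCoh17.Euler
import Groth.Agent.Lib.TFOne27.Basic
-- import your own Groth.Agent.* helpers here

set_option autoImplicit false
universe u
open CategoryTheory CategoryTheory.Limits MonoidalCategory CartesianMonoidalCategory MonObj GrpObj AlgebraicGeometry
open CanPar

namespace Groth.Agent.S13763

set_option backward.isDefEq.respectTransparency false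
set_option backward.isDefEq.respectTransparency.types false
set_option maxHeartbeats 1000000

open Groth.Agent Groth.Agent.CurveCoh17

theorem isCoh_omega {X : Scheme.{u}} (G : Over X) [GrpObj G] [LocallyOfFiniteType G.hom] [QuasiSeparated G.hom] :
    Coh.IsCoh (LieS.omega G) := by
  have h : Coh.IsCoh (Omega.sheaf G.hom) :=
    ⟨Omega12.isQCoh_receptacle _ (Omega12.isUniversal_dOmega G.hom),
      Omega12.isFT_receptacle _ (Omega12.isUniversal_dOmega G.hom)⟩
  exact M1.isCoh_pullback _ h

/-- A closed subgroup gives a quotient of the invariant differentials. -/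
theorem exists_epi_omega {X : Scheme.{u}} {P G : Over X} [GrpObj P] [GrpObj G] (i : P ⟶ G) [IsMonHom i]
    [IsClosedImmersion i.left] [QuasiSeparated G.hom] [QuasiSeparated P.hom] [LocallyOfFiniteType G.hom] :
    ∃ p : LieS.omega G ⟶ LieS.omega P, Epi p := by
  have hsq : P.hom ≫ 𝟙 X = i.left ≫ G.hom := by rw [Category.comp_id, Over.w]
  obtain ⟨c, hc, -⟩ := Omega12.existsUnique_diffCompat hsq (Omega12.isUniversal_dOmega G.hom) (OmegaSh.dOmega P.hom)
  obtain ⟨e⟩ := CurveOm17.exists_cokernel_iso (Over.w i) (Omega12.isUniversal_dOmega G.hom)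
    (Omega12.isUniversal_dOmega P.hom) (Omega12.isUniversal_dOmega i.left) hc
  have hz : IsZero (Omega.sheaf i.left) :=
    (Omega12.formallyUnramified_iff_isZero _ (Omega12.isUniversal_dOmega i.left)).1 inferInstance
  haveI : Epi c := Preadditive.epi_of_isZero_cokernel c (hz.of_iso e)
  have he : (η[P]).left ≫ i.left = (η[G]).left := by
    rw [← Over.comp_left, IsMonHom.one_hom]
  haveI : Epi ((Scheme.Modules.pullback (η[P]).left).map c) :=
    haveI := (Scheme.Modules.pullbackPushforwardAdjunction (η[P]).left).isLeftAdjoint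
    inferInstance
  let a := eqToIso (congrArg (fun f => (Scheme.Modules.pullback f).obj (Omega.sheaf G.hom)) he.symm) ≪≫
    ((Scheme.Modules.pullbackComp (η[P]).left i.left).app (Omega.sheaf G.hom)).symm
  exact ⟨a.hom ≫ (Scheme.Modules.pullback (η[P]).left).map c, epi_comp _ _⟩


/-- Let X be a smooth proper geometrically connected curve over a field k and G a reductive group scheme
over X. Then there is an integer M such that every parabolic subgroup P of G has degree at most M.
Here the degree of P means the degree of its Lie algebra, a vector bundle on X; it is written as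
minus the degree of the module of invariant differentials e^*Ω_{P/X}, which for P smooth over X is
locally free (of the rank n quantified below) and dual to the Lie algebra bundle. -/
theorem result (k : Type u) [Field k] (X : Scheme.{u}) [X.Over (Spec (CommRingCat.of k))]
    [IsIntegral X] [IsProper (X ↘ Spec (CommRingCat.of k))] [Smooth (X ↘ Spec (CommRingCat.of k))]
    [GeometricallyConnected (X ↘ Spec (CommRingCat.of k))] (hdim : topologicalKrullDim X = 1)
    (G : Over X) [GrpObj G] (hG : Red.IsReductive G) :
    ∃ M : ℤ, ∀ (P : Over X) [GrpObj P] (i : P ⟶ G), Red.IsParabolic i →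
      ∀ n : ℕ, FlatMod.IsFinLocFreeOfRank n (LieS.omega P) →
        -Curv2.deg k X (LieS.omega P) n ≤ M := by
  haveI : IsNoetherian X := VB17.isNoetherian_of_over (k := k) (X := X)
  have hX : CurveLike k X := VB17.curveLike hdim
  haveI := hX.separated
  haveI : IsAffineHom G.hom := hG.1
  haveI : Smooth G.hom := hG.2.1
  have hE := isCoh_omega G
  obtain ⟨x⟩ : Nonempty X := inferInstance
  haveI : Module.Finite (X.presheaf.stalk x) ((LieS.omega G).presheaf.stalk x) := M1.finite_stalk hE.1 hE.2 x
  obtain ⟨N, f, hf⟩ := Module.Finite.exists_fin' (X.presheaf.stalk x) ((LieS.omega G).presheaf.stalk x)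
  refine ⟨(Module.finrank k (Coh.HH X (LieS.omega G) 1) : ℤ) + N * |Curv2.euler k X (Coh.structureModule X)|,
    fun P _ i hi n hn => ?_⟩
  haveI := hi.1
  haveI := hi.2.1
  haveI : QuasiSeparated P.hom := by
    rw [← Over.w i]; infer_instance
  obtain ⟨p, hp⟩ := exists_epi_omega i
  haveI := hp
  have hQ : Coh.IsCoh (LieS.omega P) := isCoh_of_ofRank hn
  obtain ⟨u⟩ := nonempty_stalk_equiv hn x
  have hnN : n ≤ N := le_of_fin_surjective (X.presheaf.stalk x) (u.toLinearMap ∘ₗ (stalkLin p x) ∘ₗ f)
    (u.surjective.comp ((TFOne27.surjective_stalkLin p x).comp hf))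
  have hT := kerSC_shortExact p
  haveI : Subsingleton (Coh.HH X (kerSC p).X₁ (1 + 1)) :=
    subsingleton_HH_of_dim hdim.le _ (M1.isQCoh_kernel hE.1 hQ.1 p) 0
  have hsurj : Function.Surjective (hmap k (kerSC p).g 1) := fun y =>
    (exact_hmap_hdelta k hT 1 y).1 (Subsingleton.elim _ _)
  haveI := hX.fin _ hE 1
  have h1 : Module.finrank k (Coh.HH X (Abelian.image p) 1) ≤ Module.finrank k (Coh.HH X (LieS.omega G) 1) :=
    LinearMap.finrank_le_finrank_of_surjective hsurj
  rw [LinearEquiv.finrank_eq (hequiv k (asIso (Abelian.image.ι p)) 1)] at h1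
  rw [Curv2.deg, (hX.adm hQ).euler_eq]
  have h2 : (n : ℤ) * Curv2.euler k X (Coh.structureModule X) ≤
      (N : ℤ) * |Curv2.euler k X (Coh.structureModule X)| :=
    (mul_le_mul_of_nonneg_left (le_abs_self _) (Int.natCast_nonneg n)).trans
      (mul_le_mul_of_nonneg_right (Int.ofNat_le.2 hnN) (abs_nonneg _))
  have h1' : (Module.finrank k (Coh.HH X (LieS.omega P) 1) : ℤ) ≤ Module.finrank k (Coh.HH X (LieS.omega G) 1) :=
    Int.ofNat_le.2 h1
  have h3 : (0 : ℤ) ≤ Module.finrank k (Coh.HH X (LieS.omega P) 0) := Int.natCast_nonneg _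
  linarith

end Groth.Agent.S13763
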