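import Groth.Statements.S1377
import Mathlib.AlgebraicGeometry.Normalization
import Mathlib.AlgebraicGeometry.IdealSheaf.Subscheme


set_option autoImplicit false
universe u
open FlatMor

namespace Groth.Agent.S1377

open AlgebraicGeometry CategoryTheory Limits in
/-- Let S be a scheme, U ⊆ S an open subscheme whose inclusion U → S is quasi-compact (U retrocompact in
S), and V → U a surjective integral morphism. Then there are a scheme V' and a surjective integral
morphism V' → S whose base change to U is V → U. (The published statement puts no condition on U,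
and in that generality it is false: e.g. S = Spec ∏_i ℤ/4^i with U = D(2) ∪ ⋃_i D(e_i), e_i the
idempotents, and V equal to U except that over D(2) it is cut out by x = (2^i)_i. Stated here with U
→ S quasi-compact, under which hypothesis the published argument applies.) -/
theorem result {S V : Scheme.{u}} (U : S.Opens) [QuasiCompact U.ι]
    (v : V ⟶ (U : Scheme.{u})) [IsIntegralHom v] [Surjective v] :
    ∃ (V' : Scheme.{u}) (π : V' ⟶ S) (i : V ⟶ V'), Surjective π ∧ IsIntegralHom π ∧ IsPullback i v π U.ι := by
  let g : V ⟶ S := v ≫ U.ι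
  have : QuasiCompact g := MorphismProperty.comp_mem _ v U.ι inferInstance ‹QuasiCompact U.ι›
  have : QuasiSeparated g := MorphismProperty.comp_mem _ v U.ι inferInstance inferInstance
  let p := pullback.snd g U.ι
  let l : V ⟶ pullback g U.ι := pullback.lift (𝟙 V) v (by simp [g])
  have hfst : pullback.fst g U.ι ≫ v = p := by
    rw [← cancel_mono U.ι, Category.assoc]
    exact pullback.condition
  have hl : IsIso l := ⟨pullback.fst g U.ι, pullback.lift_fst _ _ _, by
    apply pullback.hom_ext
    · rw [Category.assoc, show l ≫ pullback.fst g U.ι = 𝟙 V from pullback.lift_fst _ _ _]; simp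
    · rw [Category.assoc, show l ≫ pullback.snd g U.ι = v from pullback.lift_snd _ _ _]; simpa using hfst⟩
  have : IsIntegralHom p := by
    rw [← hfst]
    have : IsIso (pullback.fst g U.ι) := IsIso.of_isIso_fac_left (f := l) (h := 𝟙 V) (pullback.lift_fst _ _ _)
    infer_instance
  let e : V ⟶ pullback g.fromNormalization U.ι :=
    l ≫ p.toNormalization ≫ g.normalizationPullback U.ι
  have : IsIso e := inferInstanceAs (IsIso (l ≫ p.toNormalization ≫ g.normalizationPullback U.ι))
  let i₀ : V ⟶ g.normalization := e ≫ pullback.fst g.fromNormalization U.ι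
  have hev : e ≫ pullback.snd g.fromNormalization U.ι = v := by
    simp only [e, p, Category.assoc, Scheme.Hom.normalizationPullback_snd,
      Scheme.Hom.toNormalization_fromNormalization]
    exact pullback.lift_snd _ _ _
  have hi₀ : IsPullback i₀ v g.fromNormalization U.ι :=
    (IsPullback.of_hasPullback g.fromNormalization U.ι).of_iso (asIso e).symm (Iso.refl _)
      (Iso.refl _) (Iso.refl _) (by simp [i₀]) (by simp [← hev]) (by simp) (by simp)
  let Zc : TopologicalSpace.Closeds S := ⟨(U : Set S)ᶜ, U.2.isClosed_compl⟩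
  let J : S.IdealSheafData := Scheme.IdealSheafData.vanishingIdeal Zc
  have hJ : Set.range J.subschemeι = (U : Set S)ᶜ := by
    rw [Scheme.IdealSheafData.range_subschemeι, Scheme.IdealSheafData.coe_support_vanishingIdeal]
    rfl
  have : IsOpenImmersion i₀ := MorphismProperty.of_isPullback hi₀.flip inferInstance
  have : IsOpenImmersion (i₀ ≫ coprod.inl : V ⟶ g.normalization ⨿ J.subscheme) := inferInstance
  refine ⟨g.normalization ⨿ J.subscheme, coprod.desc g.fromNormalization J.subschemeι,
    i₀ ≫ coprod.inl, ⟨fun s => ?_⟩, inferInstance, ?_⟩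
  · by_cases hs : s ∈ U
    · obtain ⟨x, hx⟩ := v.surjective ⟨s, hs⟩
      refine ⟨(i₀ ≫ coprod.inl : V ⟶ g.normalization ⨿ J.subscheme) x, ?_⟩
      rw [← Scheme.Hom.comp_apply, Category.assoc, coprod.inl_desc, hi₀.w, Scheme.Hom.comp_apply, hx]
      rfl
    · obtain ⟨z, hz⟩ : s ∈ Set.range J.subschemeι := hJ ▸ hs
      refine ⟨(coprod.inr : J.subscheme ⟶ g.normalization ⨿ J.subscheme) z, ?_⟩
      rw [← Scheme.Hom.comp_apply, coprod.inr_desc, hz]
  · refine (IsOpenImmersion.isPullback v (i₀ ≫ coprod.inl) U.ι _
      (by rw [Category.assoc, coprod.inl_desc]; exact hi₀.w) ?_).flip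
    ext y
    show coprod.desc g.fromNormalization J.subschemeι y ∈ Set.range U.ι ↔
      y ∈ Set.range (i₀ ≫ coprod.inl : V ⟶ g.normalization ⨿ J.subscheme)
    constructor
    · intro hy
      obtain ⟨(n | z), rfl⟩ := (coprodMk g.normalization J.subscheme).surjective y
      · rw [coprodMk_inl, ← Scheme.Hom.comp_apply, coprod.inl_desc] at hy
        obtain ⟨u, hu⟩ := hy
        obtain ⟨a, ha, -⟩ := Scheme.exists_preimage_of_isPullback hi₀ n u hu.symm
        exact ⟨a, by rw [coprodMk_inl, Scheme.Hom.comp_apply, ha]⟩
      · rw [coprodMk_inr, ← Scheme.Hom.comp_apply, coprod.inr_desc, Scheme.Opens.range_ι] at hy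
        exact absurd hy (hJ.le ⟨z, rfl⟩)
    · rintro ⟨a, rfl⟩
      refine ⟨v a, ?_⟩
      rw [← Scheme.Hom.comp_apply, ← Scheme.Hom.comp_apply, Category.assoc, coprod.inl_desc, hi₀.w]

end Groth.Agent.S1377
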