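import Groth.Statements.S13770
import Groth.Agent.S13763
import Groth.Agent.Lib.Comp17.FibreBound
import Groth.Agent.Lib.Omega12.LocFree
import Groth.Agent.Lib.Omega12.BaseChange
import Groth.Agent.Lib.FinLocExt4.Ranks
import Groth.Agent.Lib.CurveLocus.GeomFibre
import Groth.Agent.Lib.CartExt13.Divisor
-- import your own Groth.Agent.* helpers here

set_option autoImplicit false
universe u
open CategoryTheory CategoryTheory.Limits MonoidalCategory CartesianMonoidalCategory MonObj GrpObj AlgebraicGeometry
open CanPar

namespace Groth.Agent.S13770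

set_option backward.isDefEq.respectTransparency false
set_option backward.isDefEq.respectTransparency.types false
set_option maxHeartbeats 1000000

open Groth.Agent Groth.Agent.CurveCoh17

theorem nonempty_omega_bc {X Y : Scheme.{u}} (q : Y ⟶ X) (G : Over X) [GrpObj G] [QuasiSeparated G.hom] :
    Nonempty ((Scheme.Modules.pullback q).obj (LieS.omega G) ≅ LieS.omega (Red.bc q G)) := by
  haveI : QuasiSeparated (Red.bc q G).hom := inferInstanceAs (QuasiSeparated (pullback.snd G.hom q))
  have hsq : IsPullback (pullback.fst G.hom q) (Red.bc q G).hom G.hom q := IsPullback.of_hasPullback G.hom q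
  obtain ⟨c, hc, -⟩ := Omega12.existsUnique_diffCompat hsq.w.symm (Omega12.isUniversal_dOmega G.hom)
    (OmegaSh.dOmega (Red.bc q G).hom)
  haveI := Omega12.isIso_diffCompat_of_isPullback hsq (Omega12.isUniversal_dOmega G.hom)
    (Omega12.isUniversal_dOmega (Red.bc q G).hom) c hc
  have e1 : (η[Red.bc q G]).left ≫ pullback.fst G.hom q = q ≫ η[G].left := by
    have h0 : (Functor.LaxMonoidal.ε (Over.pullback q)).left ≫ pullback.fst (𝟙_ (Over X)).hom q = q := by
      have hw : (Functor.LaxMonoidal.ε (Over.pullback q)).left ≫ pullback.snd (𝟙_ (Over X)).hom q = 𝟙 Y :=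
        Over.w (Functor.LaxMonoidal.ε (Over.pullback q))
      have hcond : pullback.fst (𝟙_ (Over X)).hom q ≫ 𝟙 X = pullback.snd (𝟙_ (Over X)).hom q ≫ q := pullback.condition
      have hcond' : pullback.fst (𝟙_ (Over X)).hom q = pullback.snd (𝟙_ (Over X)).hom q ≫ q :=
        (Category.comp_id _).symm.trans hcond
      rw [hcond', ← Category.assoc, hw]
      exact Category.id_comp q
    have : (η[Red.bc q G]).left ≫ pullback.fst G.hom q =
        (Functor.LaxMonoidal.ε (Over.pullback q)).left ≫ pullback.fst (𝟙_ (Over X)).hom q ≫ η[G].left := by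
      rw [show η[Red.bc q G] = Functor.LaxMonoidal.ε (Over.pullback q) ≫ (Over.pullback q).map η[G] from rfl,
        Over.comp_left, Category.assoc]
      congr 1
      exact pullback.lift_fst _ _ _
    rw [this, reassoc_of% h0]
  exact ⟨(Scheme.Modules.pullbackComp q η[G].left).app _ ≪≫
    eqToIso (congrArg (fun f => (Scheme.Modules.pullback f).obj (Omega.sheaf G.hom)) e1.symm) ≪≫
    ((Scheme.Modules.pullbackComp (η[Red.bc q G]).left (pullback.fst G.hom q)).app _).symm ≪≫
    (Scheme.Modules.pullback (η[Red.bc q G]).left).mapIso (asIso c)⟩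

theorem rank_le {X Y : Scheme.{u}} (q : Y ⟶ X) {E : X.Modules} {R : ℕ}
    (hR : ∀ z : X, ∃ r : Fin R, z ∈ FinLocExt4.rankLocus E r) (y : Y) {Q : Y.Modules} {n : ℕ}
    (hQ : FlatMod.IsFinLocFreeOfRank n Q) (p : (Scheme.Modules.pullback q).obj E ⟶ Q) [Epi p] : n ≤ R := by
  obtain ⟨r, hr⟩ := hR (q y)
  obtain ⟨W, hW, ⟨i⟩⟩ := FinLocExt4.mem_rankLocus.1 hr
  let V : Y.Opens := q ⁻¹ᵁ W
  let iE : ((Scheme.Modules.pullback q).obj E).restrict V.ι ≅ FlatMod.freeMod (V : Scheme.{u}) r :=
    M2.pullbackRestrictIso q E W ≪≫ (Scheme.Modules.pullback _).mapIso i ≪≫ M2.freeModPullbackIso _ r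
  have hE' := M2.isFinLocFreeOfRank_of_iso iE.symm (M2.isFinLocFreeOfRank_freeMod _ r)
  have hQ' : FlatMod.IsFinLocFreeOfRank n (Q.restrict V.ι) :=
    M2.isFinLocFreeOfRank_of_iso ((Scheme.Modules.restrictFunctorIsoPullback V.ι).app Q).symm
      (M2.isFinLocFreeOfRank_pullback V.ι hQ)
  let z : (V : Scheme.{u}) := ⟨y, hW⟩
  haveI : Epi ((Scheme.Modules.restrictFunctor V.ι).map p) :=
    haveI := (Scheme.Modules.restrictFunctor V.ι).preservesEpimorphisms_of_isLeftAdjoint
    inferInstance
  obtain ⟨uE⟩ := nonempty_stalk_equiv hE' z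
  obtain ⟨uQ⟩ := nonempty_stalk_equiv hQ' z
  exact (le_of_fin_surjective ((V : Scheme.{u}).presheaf.stalk z)
    (uQ.toLinearMap ∘ₗ (stalkLin ((Scheme.Modules.restrictFunctor V.ι).map p) z) ∘ₗ uE.symm.toLinearMap)
    (uQ.surjective.comp ((TFOne27.surjective_stalkLin _ z).comp uE.symm.surjective))).trans r.2.le


/-- Let S be a Noetherian scheme, p : X → S a curve over S (smooth, proper, with geometrically connected
fibres of dimension one) and G a reductive group scheme over X. Then the degrees of instability of
the fibres of G are uniformly bounded: there is an integer M such that for every field K and every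
morphism x : Spec K → S, every parabolic subgroup P of the restriction G_K of G to the curve X_K = X
×_S Spec K over K has degree at most M. The degree of a parabolic subgroup is that of its Lie
algebra bundle, written as minus the degree over K of the locally free module e^*Ω of invariant
differentials (dual to the Lie algebra, of the rank quantified in the statement). (The published
statement takes X projective over S; this row takes X proper over S, which is all that its proof
uses: the bound for a single curve over a field applied fibre by fibre, local constancy of the rank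
and of the genus, upper semicontinuity of the dimension of the space of global sections in a proper
flat family, and Noetherian induction on S.) -/
theorem result
    (S X : Scheme.{u}) [IsNoetherian S] (p : X ⟶ S) [Smooth p] [IsProper p] [GeometricallyConnected p]
    (hdim : ∀ s : S, topologicalKrullDim (p.fiber s) = 1)
    (G : Over X) [GrpObj G] (hG : Red.IsReductive G) :
    ∃ M : ℤ, ∀ (K : Type u) [Field K] (x : Spec (CommRingCat.of K) ⟶ S)
      (P : Over (pullback p x)) [GrpObj P] (i : P ⟶ Red.bc (pullback.fst p x) G), Red.IsParabolic i →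
      ∀ n : ℕ, FlatMod.IsFinLocFreeOfRank n (LieS.omega P) →
        -@Curv2.deg K _ (pullback p x) ⟨pullback.snd p x⟩ (LieS.omega P) n ≤ M := by
  haveI : IsLocallyNoetherian X := LocallyOfFiniteType.isLocallyNoetherian p
  haveI : CompactSpace X := QuasiCompact.compactSpace_of_compactSpace p
  haveI : IsAffineHom G.hom := hG.1
  haveI : Smooth G.hom := hG.2.1
  let E := LieS.omega G
  have hEf : FlatMod.IsFinLocFree E :=
    M2.isFinLocFree_pullback _ (Omega12.isFinLocFree_receptacle_of_smooth G.hom (Omega12.isUniversal_dOmega G.hom))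
  obtain ⟨R, hR⟩ := FinLocExt4.exists_bound E hEf
  have hOf : FlatMod.IsFinLocFree (Coh.structureModule X) :=
    M2.isFinLocFree_of_ofRank (M2.isFinLocFreeOfRank_of_iso (M2.freeModOneIso X)
      (M2.isFinLocFreeOfRank_freeMod X 1))
  obtain ⟨C, hC⟩ := Comp17.exists_fibre_bound_global p hEf 1
  obtain ⟨C₀, hC₀⟩ := Comp17.exists_fibre_bound_global p hOf 0
  refine ⟨(C : ℤ) + R * C₀, fun K _ x P _ i hi n hn => ?_⟩
  letI : (pullback p x).Over (Spec (CommRingCat.of K)) := ⟨pullback.snd p x⟩
  haveI : IsProper ((pullback p x) ↘ Spec (CommRingCat.of K)) := inferInstanceAs (IsProper (pullback.snd p x))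
  have hdX : topologicalKrullDim (pullback p x : Scheme.{u}) = 1 := by
    obtain ⟨pt⟩ : Nonempty (Spec (CommRingCat.of K)) := inferInstance
    let s := ((Scheme.SpecToEquivOfField K S) x).1
    let φ := ((Scheme.SpecToEquivOfField K S) x).2
    have hx : Spec.map φ ≫ S.fromSpecResidueField s = x := (Scheme.SpecToEquivOfField K S).symm_apply_apply x
    have hs : IsPullback (p.fiberι s) (p.fiberToSpecResidueField s) p (S.fromSpecResidueField s) :=
      IsPullback.of_hasPullback _ _
    let pr := hs.lift (pullback.fst p x) (pullback.snd p x ≫ Spec.map φ) (by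
      rw [Category.assoc, hx, pullback.condition])
    have hsq : IsPullback pr (pullback.snd p x) (p.fiberToSpecResidueField s) (Spec.map φ) :=
      IsPullback.of_right (by rw [hs.lift_fst, hx]; exact IsPullback.of_hasPullback p x) (hs.lift_snd _ _ _) hs
    haveI : LocallyOfFiniteType (p.fiberToSpecResidueField s) :=
      MorphismProperty.of_isPullback (P := @LocallyOfFiniteType) hs inferInstance
    exact (CurveLocus.topologicalKrullDim_bc (k := S.residueField s) (p.fiberToSpecResidueField s) hsq).trans (hdim s)
  have hX : CurveLike K (pullback p x) := VB17.curveLike hdX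
  haveI := hX.separated
  haveI := hX.noetherian
  haveI := hi.1
  haveI := hi.2.1
  haveI : IsAffineHom (Red.bc (pullback.fst p x) G).hom :=
    MorphismProperty.pullback_snd (P := @IsAffineHom) G.hom (pullback.fst p x) inferInstance
  haveI : Smooth (Red.bc (pullback.fst p x) G).hom :=
    MorphismProperty.pullback_snd (P := @Smooth) G.hom (pullback.fst p x) inferInstance
  haveI : QuasiSeparated P.hom := by rw [← Over.w i]; infer_instance
  obtain ⟨f, hf⟩ := Groth.Agent.S13763.exists_epi_omega i
  haveI := hf
  obtain ⟨u⟩ := nonempty_omega_bc (pullback.fst p x) G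
  haveI : Epi (u.hom ≫ f) := epi_comp _ _
  obtain ⟨y⟩ : Nonempty (pullback p x : Scheme.{u}) := by
    by_contra hemp
    haveI := not_nonempty_iff.1 hemp
    haveI : IsEmpty (TopologicalSpace.IrreducibleCloseds (pullback p x : Scheme.{u})) :=
      ⟨fun Z => isEmptyElim Z.isIrreducible.nonempty.some⟩
    have : topologicalKrullDim (pullback p x : Scheme.{u}) = ⊥ := Order.krullDim_eq_bot
    rw [hdX] at this
    exact WithBot.one_ne_bot this
  have hnR : n ≤ R := rank_le (pullback.fst p x) hR y hn (u.hom ≫ f)
  have hQ : Coh.IsCoh (LieS.omega P) := isCoh_of_ofRank hn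
  have hE : Coh.IsCoh ((Scheme.Modules.pullback (pullback.fst p x)).obj E) :=
    CohFound.isCoh_of_isFinLocFree (M2.isFinLocFree_pullback _ hEf)
  have hT := kerSC_shortExact (u.hom ≫ f)
  haveI : Subsingleton (Coh.HH (pullback p x) (kerSC (u.hom ≫ f)).X₁ (1 + 1)) :=
    subsingleton_HH_of_dim hdX.le _ (M1.isQCoh_kernel hE.1 hQ.1 _) 0
  have hsurj : Function.Surjective (hmap K (kerSC (u.hom ≫ f)).g 1) := fun y =>
    (exact_hmap_hdelta K hT 1 y).1 (Subsingleton.elim _ _)
  haveI := hX.fin _ hE 1
  have h1 : Module.finrank K (Coh.HH (pullback p x) (Abelian.image (u.hom ≫ f)) 1) ≤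
      Module.finrank K (Coh.HH (pullback p x) ((Scheme.Modules.pullback (pullback.fst p x)).obj E) 1) :=
    LinearMap.finrank_le_finrank_of_surjective hsurj
  rw [LinearEquiv.finrank_eq (hequiv K (asIso (Abelian.image.ι (u.hom ≫ f))) 1)] at h1
  have hO := hC₀ K x
  rw [LinearEquiv.finrank_eq (hequiv K (PicLoc.pullbackStructureIso (pullback.fst p x)) 0)] at hO
  have hE1 := h1.trans (hC K x)
  have eQ := (hX.adm hQ).euler_eq
  have eO := (hX.adm CurveCoh17.isCoh_structureModule).euler_eq
  rw [Curv2.deg, eQ, eO]
  have h2 : (n : ℤ) * (Module.finrank K (Coh.HH (pullback p x) (Coh.structureModule (pullback p x)) 0) : ℤ) ≤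
      (R : ℤ) * C₀ := by exact_mod_cast Nat.mul_le_mul hnR hO
  have h3 : (0 : ℤ) ≤ (n : ℤ) * (Module.finrank K (Coh.HH (pullback p x) (Coh.structureModule (pullback p x)) 1) : ℤ) :=
    mul_nonneg (Int.natCast_nonneg _) (Int.natCast_nonneg _)
  have h4 : (Module.finrank K (Coh.HH (pullback p x) (LieS.omega P) 1) : ℤ) ≤ C := Int.ofNat_le.2 hE1
  have h5 : (0 : ℤ) ≤ (Module.finrank K (Coh.HH (pullback p x) (LieS.omega P) 0) : ℤ) := Int.natCast_nonneg _
  linarith

end Groth.Agent.S13770
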