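import Groth.Statements.S13771
import Groth.Agent.Lib.PLie23.Basic

set_option autoImplicit false
universe u v w
open PLie

namespace Groth.Agent.S13771

/-- Let R be a commutative ring of prime characteristic p, L₁ and L₂ Lie algebras over R, φ a p-mapping
on L₁ and f : L₁ → L₂ a morphism of Lie algebras whose kernel is stable under φ (a p-ideal). Then
the image f(L₁), a Lie subalgebra of L₂, carries exactly one p-mapping ψ for which the corestriction
of f to its image is a morphism of p-Lie algebras, i.e. ψ (f x) = f (φ x) for all x. -/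
theorem result (R : Type u) [CommRing R] (p : ℕ) [Fact p.Prime] [CharP R p]
    (L₁ : Type v) [LieRing L₁] [LieAlgebra R L₁] (L₂ : Type w) [LieRing L₂] [LieAlgebra R L₂]
    (φ : PLie.PMap R p L₁) (f : L₁ →ₗ⁅R⁆ L₂) (hker : ∀ x : L₁, f x = 0 → f (φ x) = 0) :
    ∃! ψ : PLie.PMap R p f.range, PLie.IsPHom φ ψ f.rangeRestrict := by

  have hp : p ≠ 0 := (Fact.out : p.Prime).ne_zero
  choose g hg using fun y : f.range => f.surjective_rangeRestrict y
  have hval : ∀ x : L₁, (f.rangeRestrict x : L₂) = f x := fun x => rfl
  let F : f.range → f.range := fun y => f.rangeRestrict (φ (g y))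
  have hF : ∀ x : L₁, F (f.rangeRestrict x) = f.rangeRestrict (φ x) := by
    intro x
    apply Subtype.ext
    show f (φ (g (f.rangeRestrict x))) = f (φ x)
    exact Groth.Agent.PLie23.map_pMap_eq_of_map_eq φ f hker
      (congrArg Subtype.val (hg (f.rangeRestrict x)))
  let ψ : PLie.PMap R p f.range :=
  { toFun := F
    map_smul := by
      intro c y
      obtain ⟨x, rfl⟩ := f.surjective_rangeRestrict y
      rw [← _root_.map_smul, hF, hF, φ.map_smul, _root_.map_smul]
    ad_map := by
      intro y
      obtain ⟨x, rfl⟩ := f.surjective_rangeRestrict y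
      rw [hF]
      refine LinearMap.ext fun z => ?_
      obtain ⟨w, rfl⟩ := f.surjective_rangeRestrict z
      rw [LieAlgebra.ad_apply, ← LieHom.map_lie, Groth.Agent.PLie23.ad_pow_lie]
      generalize p = n
      induction n with
      | zero => simp
      | succ n ih =>
        rw [pow_succ', Module.End.mul_apply, pow_succ', Module.End.mul_apply, ← ih,
          LieAlgebra.ad_apply, LieAlgebra.ad_apply, LieHom.map_lie]
    map_add := by
      intro y₀ y₁
      obtain ⟨x₀, rfl⟩ := f.surjective_rangeRestrict y₀
      obtain ⟨x₁, rfl⟩ := f.surjective_rangeRestrict y₁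
      rw [← _root_.map_add, hF, hF, hF, φ.map_add, _root_.map_sub, _root_.map_add,
        Groth.Agent.PLie23.map_jacobson] }
  refine ⟨ψ, fun x => (hF x).symm, ?_⟩
  intro ψ' hψ'
  rcases ψ' with ⟨t, a, b, c⟩
  have : t = F := by
    funext y
    obtain ⟨x, rfl⟩ := f.surjective_rangeRestrict y
    rw [hF]
    exact (hψ' x).symm
  subst this
  rfl


end Groth.Agent.S13771
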