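import Groth.Statements.S13775
import Groth.Agent.Lib.PLie23.Basic

set_option autoImplicit false
universe u v
open PLie

namespace Groth.Agent.S13775

/-- Let R be a commutative ring of prime characteristic p and L a Lie algebra over R, free as a module
with basis x = bs 0, y = bs 1, z = bs 2 and brackets [x,y] = y, [x,z] = y + z, [y,z] = 0. Then L
carries no p-mapping. (The published statement is the corresponding entry of the classification
table of three-dimensional Lie algebras over an algebraically closed field of characteristic p; this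
row states it over every commutative ring of characteristic p.) -/
theorem result (R : Type u) [CommRing R] (p : ℕ) [Fact p.Prime] [CharP R p]
    (L : Type v) [LieRing L] [LieAlgebra R L] (bs : Module.Basis (Fin 3) R L)
    (hxy : ⁅bs 0, bs 1⁆ = bs 1) (hxz : ⁅bs 0, bs 2⁆ = bs 1 + bs 2) (hyz : ⁅bs 1, bs 2⁆ = 0) :
    IsEmpty (PLie.PMap R p L) := by

  refine ⟨fun φ => ?_⟩
  haveI : Nontrivial R := CharP.nontrivial_of_char_ne_one (Fact.out : p.Prime).ne_one
  have hp := (Fact.out : p.Prime).ne_zero
  have hz : ∀ n : ℕ, ((LieAlgebra.ad R L (bs 0)) ^ n) (bs 1) = bs 1 ∧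
      ((LieAlgebra.ad R L (bs 0)) ^ n) (bs 2) = (n : R) • bs 1 + bs 2 := by
    intro n
    induction n with
    | zero => simp
    | succ n ih =>
      rw [pow_succ', Module.End.mul_apply, Module.End.mul_apply, ih.1, ih.2, _root_.map_add,
        _root_.map_smul, LieAlgebra.ad_apply, LieAlgebra.ad_apply, hxy, hxz]
      refine ⟨rfl, ?_⟩
      rw [Nat.cast_succ, add_smul, one_smul, add_assoc]
  have h1 := Groth.Agent.PLie23.ad_pow_lie φ (bs 0) (bs 1)
  have h2 := Groth.Agent.PLie23.ad_pow_lie φ (bs 0) (bs 2)
  rw [(hz p).1] at h1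
  rw [(hz p).2, CharP.cast_eq_zero, zero_smul, zero_add] at h2
  rw [← bs.sum_repr (φ.toFun (bs 0)), Fin.sum_univ_three] at h1 h2
  simp only [add_lie, smul_lie, hxy, hxz, hyz, lie_self, ← lie_skew (bs 2) (bs 1), neg_zero,
    smul_zero, add_zero] at h1 h2
  have e1 := congrArg (fun v => bs.repr v 1) h1
  have e2 := congrArg (fun v => bs.repr v 1) h2
  simp at e1 e2
  rw [e2] at e1
  exact zero_ne_one e1


end Groth.Agent.S13775
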