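import Groth.Statements.S13776
import Groth.Agent.Lib.PLie23.Jacobson

set_option autoImplicit false
universe u v
open PLie

namespace Groth.Agent.S13776

/-- Let R be a commutative ring of prime characteristic p, t ∈ R, and L a Lie algebra over R, free as a
module with basis x = bs 0, y = bs 1, z = bs 2 and brackets [x,y] = y, [x,z] = t • z, [y,z] = 0.
Then L carries a p-mapping if and only if t ^ p = t. (The published statement is the corresponding
entry of the classification table over an algebraically closed field of characteristic p, where the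
condition reads: t lies in the prime field; this row states it over every commutative ring of
characteristic p.) -/
theorem result (R : Type u) [CommRing R] (p : ℕ) [Fact p.Prime] [CharP R p] (t : R)
    (L : Type v) [LieRing L] [LieAlgebra R L] (bs : Module.Basis (Fin 3) R L)
    (hxy : ⁅bs 0, bs 1⁆ = bs 1) (hxz : ⁅bs 0, bs 2⁆ = t • bs 2) (hyz : ⁅bs 1, bs 2⁆ = 0) :
    Nonempty (PLie.PMap R p L) ↔ t ^ p = t := by

  haveI : Nontrivial R := CharP.nontrivial_of_char_ne_one (Fact.out : p.Prime).ne_one
  have hp2 := (Fact.out : p.Prime).two_le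
  have hz : ∀ n : ℕ, ((LieAlgebra.ad R L (bs 0)) ^ n) (bs 1) = bs 1 ∧
      ((LieAlgebra.ad R L (bs 0)) ^ n) (bs 2) = t ^ n • bs 2 := by
    intro n
    induction n with
    | zero => simp
    | succ n ih =>
      rw [pow_succ', Module.End.mul_apply, Module.End.mul_apply, ih.1, ih.2, map_smul,
        LieAlgebra.ad_apply, LieAlgebra.ad_apply, hxy, hxz, smul_smul, pow_succ]
      exact ⟨rfl, rfl⟩
  constructor
  · rintro ⟨φ⟩
    have h1 := Groth.Agent.PLie23.ad_pow_lie φ (bs 0) (bs 1)
    have h2 := Groth.Agent.PLie23.ad_pow_lie φ (bs 0) (bs 2)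
    rw [(hz p).1] at h1
    rw [(hz p).2] at h2
    rw [← bs.sum_repr (φ.toFun (bs 0)), Fin.sum_univ_three] at h1 h2
    simp only [add_lie, smul_lie, hxy, hxz, hyz, lie_self, ← lie_skew (bs 2) (bs 1), neg_zero,
      smul_zero, add_zero] at h1 h2
    have e1 := congrArg (fun v => bs.repr v 1) h1
    have e2 := congrArg (fun v => bs.repr v 2) h2
    simp at e1 e2
    rw [e1, one_mul] at e2
    exact e2.symm
  · intro ht
    have hsq : ∀ i : Fin 3, i ≠ 0 → (LieAlgebra.ad R L (bs i)) ^ 2 = 0 := by
      intro i hi
      refine bs.ext fun j => ?_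
      fin_cases i <;> first | exact absurd rfl hi | (fin_cases j <;>
        simp [pow_two, Module.End.mul_apply, hxy, hxz, hyz, ← lie_skew (bs 1) (bs 0),
          ← lie_skew (bs 2) (bs 0), ← lie_skew (bs 2) (bs 1)])
    obtain ⟨φ, -⟩ := Groth.Agent.PLie23.exists_pMap_of_basis bs
      (fun i => if i = 0 then bs 0 else 0) (p := p) fun i => by
        by_cases hi : i = 0
        · subst hi
          refine bs.ext fun j => ?_
          rw [if_pos rfl]
          fin_cases j
          · obtain ⟨q, rfl⟩ := Nat.exists_eq_succ_of_ne_zero (Fact.out : p.Prime).ne_zero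
            simp [pow_succ]
          · exact (hz p).1.trans (by simp [hxy])
          · exact (hz p).2.trans (by simp [hxz, ht])
        · rw [if_neg hi, pow_eq_zero_of_le hp2 (hsq i hi), map_zero]
    exact ⟨φ⟩


end Groth.Agent.S13776
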