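import Groth.Statements.S13778
import Groth.Agent.Lib.PLie23.Jacobson
import Mathlib.Algebra.DualNumber
import Mathlib.Tactic.LinearCombination

set_option autoImplicit false
universe u v
open PLie

namespace Groth.Agent.S13778

open scoped DualNumber
open TrivSqZeroExt

open DualNumber in
/-- Let K be a field of prime characteristic p, K[ε] the ring of dual numbers (taken with its
characteristic-p structure), t ∈ K with t ^ p = t (an element of the prime field), and a, …, i ∈ K.
Let L be a Lie algebra over K[ε], free as a module with basis x = bs 0, y = bs 1, z = bs 2 and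
brackets [x,y] = aε x + (1 + bε) y + cε z, [x,z] = dε x + eε y + (t + fε) z, [y,z] = gε x + hε y +
iε z. Then L carries a p-mapping over K[ε] if and only if b t = f, c = e = 0 when t = 1, and g = 0
when p = 2. (The published statement determines the singular locus of the restrictable locus in the
centreless stratum of the moduli scheme of based three-dimensional Lie algebras, for t non-zero, and
the rank-one-centre stratum treats t = 0; this row states the restrictability criterion for the
first-order deformations of l_t that the proofs compute, over any field of characteristic p in place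
of the prime field and for every t in the prime field.) -/
theorem result (K : Type u) [Field K] (p : ℕ) [Fact p.Prime] [CharP K p]
    [CharP (DualNumber K) p] (t a b c d e f g h i : K) (ht : t ^ p = t)
    (L : Type v) [LieRing L] [LieAlgebra (DualNumber K) L] (bs : Module.Basis (Fin 3) (DualNumber K) L)
    (hxy : ⁅bs 0, bs 1⁆ = (a • ε : DualNumber K) • bs 0 + (1 + b • ε : DualNumber K) • bs 1 + (c • ε : DualNumber K) • bs 2)
    (hxz : ⁅bs 0, bs 2⁆ = (d • ε : DualNumber K) • bs 0 + (e • ε : DualNumber K) • bs 1 +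
      (algebraMap K (DualNumber K) t + f • ε) • bs 2)
    (hyz : ⁅bs 1, bs 2⁆ = (g • ε : DualNumber K) • bs 0 + (h • ε : DualNumber K) • bs 1 + (i • ε : DualNumber K) • bs 2) :
    Nonempty (PLie.PMap (DualNumber K) p L) ↔ (b * t = f ∧ (t = 1 → c = 0 ∧ e = 0) ∧ (p = 2 → g = 0)) := by

  have hp := (Fact.out : p.Prime)
  have hyx : ⁅bs 1, bs 0⁆ = -⁅bs 0, bs 1⁆ := (lie_skew _ _).symm
  have hzx : ⁅bs 2, bs 0⁆ = -⁅bs 0, bs 2⁆ := (lie_skew _ _).symm
  have hzy : ⁅bs 2, bs 1⁆ = -⁅bs 1, bs 2⁆ := (lie_skew _ _).symm
  -- Jacobi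
  obtain ⟨hd, hi⟩ : d = t * h ∧ i = -(a * t) := by
    have hJ := lie_jacobi (bs 0) (bs 1) (bs 2)
    have h1 := congrArg (fun v => (bs.repr v 1).snd) hJ
    have h2 := congrArg (fun v => (bs.repr v 2).snd) hJ
    simp [hxy, hxz, hyz, hyx, hzx, hzy, Algebra.algebraMap_eq_smul_one] at h1 h2
    constructor
    · linear_combination h1
    · linear_combination -h2
  let S : K → K → ℕ → K := fun l m n => Nat.rec 0 (fun n r => l * r + m ^ n) n
  have hS0 : ∀ l m, S l m 0 = 0 := fun _ _ => rfl
  have hSs : ∀ l m n, S l m (n + 1) = l * S l m n + m ^ n := fun _ _ _ => rfl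
  have hSeq : ∀ l, S l l p = 0 := by
    have h1 : ∀ l n, S l l (n + 1) = (n + 1 : ℕ) * l ^ n := by
      intro l n
      induction n with
      | zero => simp [hSs, hS0]
      | succ n ih => rw [hSs l l (n + 1), ih]; push_cast; ring
    intro l
    obtain ⟨q, hq⟩ := Nat.exists_eq_succ_of_ne_zero hp.ne_zero
    rw [hq, h1, ← Nat.succ_eq_add_one, ← hq, CharP.cast_eq_zero, zero_mul]
  have hSne : ∀ l m, l ^ p = l → m ^ p = m → l ≠ m → S l m p = 1 := by
    intro l m hl hm hlm
    have h1 : ∀ n, S l m n * (l - m) = l ^ n - m ^ n := by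
      intro n
      induction n with
      | zero => simp [hS0]
      | succ n ih => rw [hSs, add_mul, mul_assoc, ih]; ring
    have := h1 p
    rw [hl, hm] at this
    exact mul_right_cancel₀ (sub_ne_zero.mpr hlm) (by rw [this, one_mul])
  set X := LieAlgebra.ad (DualNumber K) L (bs 0) with hX
  set Y := LieAlgebra.ad (DualNumber K) L (bs 1) with hY
  set Z := LieAlgebra.ad (DualNumber K) L (bs 2) with hZ
  have hXy : ∀ n, (X ^ n) (bs 1) = ((a * S 0 1 n) • ε : DualNumber K) • bs 0
      + (1 + (b * S 1 1 n) • ε : DualNumber K) • bs 1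
      + ((c * S t 1 n) • ε : DualNumber K) • bs 2 := by
    intro n
    induction n with
    | zero =>
      refine bs.ext_elem fun k => ?_
      fin_cases k <;> ext <;> simp [hS0, Algebra.algebraMap_eq_smul_one]
    | succ n ih =>
      rw [pow_succ', Module.End.mul_apply, ih]
      refine bs.ext_elem fun k => ?_
      fin_cases k <;> ext <;>
        simp [hX, hxy, hxz, hSs, Algebra.algebraMap_eq_smul_one] <;> ring
  have hXz : ∀ n, (X ^ n) (bs 2) = ((d * S 0 t n) • ε : DualNumber K) • bs 0
      + ((e * S 1 t n) • ε : DualNumber K) • bs 1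
      + (algebraMap K (DualNumber K) (t ^ n) + (f * S t t n) • ε : DualNumber K) • bs 2 := by
    intro n
    induction n with
    | zero =>
      refine bs.ext_elem fun k => ?_
      fin_cases k <;> ext <;> simp [hS0, Algebra.algebraMap_eq_smul_one]
    | succ n ih =>
      rw [pow_succ', Module.End.mul_apply, ih]
      refine bs.ext_elem fun k => ?_
      fin_cases k <;> ext <;>
        simp [hX, hxy, hxz, hSs, Algebra.algebraMap_eq_smul_one] <;> ring
  have hXx : (X ^ p) (bs 0) = 0 := by
    obtain ⟨q, hq⟩ := Nat.exists_eq_succ_of_ne_zero hp.ne_zero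
    rw [hq, pow_succ, Module.End.mul_apply, hX, LieAlgebra.ad_apply, lie_self, map_zero]
  have h00 : (0 : K) ^ p = 0 := zero_pow hp.ne_zero
  have h11 : (1 : K) ^ p = 1 := one_pow p
  have hS01 : S 0 1 p = 1 := hSne 0 1 h00 h11 zero_ne_one
  have hY20 : (Y ^ 2) (bs 0) = (a • ε : DualNumber K) • bs 1 := by
    refine bs.ext_elem fun k => ?_
    fin_cases k <;> ext <;>
      simp [hY, pow_two, hxy, hxz, hyz, hyx, hzx, hzy, Algebra.algebraMap_eq_smul_one]
  have hY21 : (Y ^ 2) (bs 1) = 0 := by simp [hY, pow_two]
  have hY22 : (Y ^ 2) (bs 2) = (-(g • ε) : DualNumber K) • bs 1 := by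
    refine bs.ext_elem fun k => ?_
    fin_cases k <;> ext <;>
      simp [hY, pow_two, hxy, hxz, hyz, hyx, hzx, hzy, Algebra.algebraMap_eq_smul_one]
  have hZ20 : (Z ^ 2) (bs 0) = ((d * t) • ε : DualNumber K) • bs 2 := by
    refine bs.ext_elem fun k => ?_
    fin_cases k <;> ext <;>
      simp [hZ, pow_two, hxy, hxz, hyz, hyx, hzx, hzy, Algebra.algebraMap_eq_smul_one] <;> ring
  have hZ21 : (Z ^ 2) (bs 1) = ((g * t) • ε : DualNumber K) • bs 2 := by
    refine bs.ext_elem fun k => ?_
    fin_cases k <;> ext <;>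
      simp [hZ, pow_two, hxy, hxz, hyz, hyx, hzx, hzy, Algebra.algebraMap_eq_smul_one] <;> ring
  have hZ22 : (Z ^ 2) (bs 2) = 0 := by simp [hZ, pow_two]
  constructor
  · rintro ⟨φ⟩
    have main : ∀ (i' j : Fin 3) (k : Fin 3),
        bs.repr ((LieAlgebra.ad (DualNumber K) L (bs i') ^ p) (bs j)) k =
        bs.repr (⁅∑ l, (bs.repr (φ.toFun (bs i')) l) • bs l, bs j⁆) k := by
      intro i' j k
      rw [bs.sum_repr, Groth.Agent.PLie23.ad_pow_lie]
    simp only [Fin.sum_univ_three, add_lie, smul_lie] at main
    have A1 := congrArg TrivSqZeroExt.fst (main 0 0 1)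
    have A1' := congrArg TrivSqZeroExt.fst (main 0 0 2)
    have A2 := congrArg TrivSqZeroExt.fst (main 0 1 1)
    have A3 := congrArg TrivSqZeroExt.snd (main 0 1 1)
    have A4 := congrArg TrivSqZeroExt.snd (main 0 2 2)
    have A5 := congrArg TrivSqZeroExt.snd (main 0 1 2)
    have A6 := congrArg TrivSqZeroExt.snd (main 0 2 1)
    rw [← hX] at A1 A1' A2 A3 A4 A5 A6
    simp [hXx, hXy, hXz, hxy, hxz, hyz, hyx, hzx, hzy, hSeq, hS01, ht,
      Algebra.algebraMap_eq_smul_one] at A1 A1' A2 A3 A4 A5 A6
    set w0 := bs.repr (φ.toFun (bs 0)) 0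
    set w1 := bs.repr (φ.toFun (bs 0)) 1
    set w2 := bs.repr (φ.toFun (bs 0)) 2
    refine ⟨?_, ?_, ?_⟩
    · by_cases ht0 : t = 0
      · simp [ht0, A1, ← A2] at A4 ⊢
        exact A4
      · have hw2 : w2.fst = 0 := by simpa [ht0] using A1'
        simp [hw2, A1, ← A2] at A3 A4
        linear_combination A4 - t * A3
    · rintro rfl
      simp [hSeq] at A5 A6
      have hw2 : w2.fst = 0 := by simpa using A1'
      simp [hw2, A1, ← A2] at A5 A6
      exact ⟨A5.symm, A6.symm⟩
    · rintro rfl
      have B1 := congrArg TrivSqZeroExt.fst (main 1 0 1)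
      have B2 := congrArg TrivSqZeroExt.fst (main 1 1 1)
      have B3 := congrArg TrivSqZeroExt.snd (main 1 2 1)
      rw [← hY] at B1 B2 B3
      simp [hY20, hY21, hY22, hxy, hxz, hyz, hyx, hzx, hzy, Algebra.algebraMap_eq_smul_one]
        at B1 B2 B3
      simpa [B1, B2.symm] using B3
  · rintro ⟨hf, ht1, hg⟩
    obtain ⟨φ, -⟩ := Groth.Agent.PLie23.exists_pMap_of_basis bs
      (![(1 + (-b) • ε : DualNumber K) • bs 0,
        if p = 2 then ((-a) • ε : DualNumber K) • bs 1 else 0,
        if p = 2 then ((-d) • ε : DualNumber K) • bs 2 else 0]) (p := p) fun j => by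
      fin_cases j
      · show X ^ p = LieAlgebra.ad (DualNumber K) L ((1 + (-b) • ε : DualNumber K) • bs 0)
        have hct : c * S t 1 p = c := by
          by_cases h1 : t = 1
          · rw [(ht1 h1).1, zero_mul]
          · rw [hSne t 1 ht h11 h1, mul_one]
        have het : e * S 1 t p = e := by
          by_cases h1 : t = 1
          · rw [(ht1 h1).2, zero_mul]
          · rw [hSne 1 t h11 ht (Ne.symm h1), mul_one]
        have hdt : d * S 0 t p = d := by
          by_cases h0 : t = 0
          · rw [hd, h0, zero_mul, zero_mul]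
          · rw [hSne 0 t h00 ht (Ne.symm h0), mul_one]
        refine bs.ext fun j => bs.ext_elem fun k => ?_
        fin_cases j <;> fin_cases k <;> ext <;>
          simp [hXx, hXy, hXz, hxy, hxz, hSeq, hS01, hct, het, hdt, ht, ← hf,
            Algebra.algebraMap_eq_smul_one] <;> ring
      · show Y ^ p = LieAlgebra.ad (DualNumber K) L (if p = 2 then ((-a) • ε : DualNumber K) • bs 1 else 0)
        split_ifs with h2
        · subst h2
          refine bs.ext fun j => bs.ext_elem fun k => ?_
          fin_cases j <;> fin_cases k <;> ext <;>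
            simp [hY20, hY21, hY22, hxy, hxz, hyz, hyx, hzx, hzy, hg rfl,
              Algebra.algebraMap_eq_smul_one]
        · have hY3 : Y ^ 3 = 0 := by
            refine bs.ext fun j => ?_
            rw [pow_succ' Y 2, Module.End.mul_apply, show ∀ z, Y z = ⁅bs 1, z⁆ from fun _ => rfl]
            fin_cases j <;> simp [hY20, hY21, hY22]
          rw [map_zero]
          exact pow_eq_zero_of_le (by have := hp.two_le; omega) hY3
      · show Z ^ p = LieAlgebra.ad (DualNumber K) L (if p = 2 then ((-d) • ε : DualNumber K) • bs 2 else 0)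
        split_ifs with h2
        · subst h2
          refine bs.ext fun j => bs.ext_elem fun k => ?_
          fin_cases j <;> fin_cases k <;> ext <;>
            simp [hZ20, hZ21, hZ22, hxy, hxz, hyz, hyx, hzx, hzy, hg rfl,
              Algebra.algebraMap_eq_smul_one]
        · have hZ3 : Z ^ 3 = 0 := by
            refine bs.ext fun j => ?_
            rw [pow_succ' Z 2, Module.End.mul_apply, show ∀ z, Z z = ⁅bs 2, z⁆ from fun _ => rfl]
            fin_cases j <;> simp [hZ20, hZ21, hZ22]
          rw [map_zero]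
          exact pow_eq_zero_of_le (by have := hp.two_le; omega) hZ3
    exact ⟨φ⟩


end Groth.Agent.S13778
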