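import Groth.Statements.S13779
import Groth.Agent.Lib.PLie23.Jacobson

set_option autoImplicit false
universe u v
open PLie

namespace Groth.Agent.S13779

/-- Let p be an odd prime, R a commutative ring of characteristic p, t ∈ R, and L a Lie algebra over R,
free as a module with basis x = bs 0, y = bs 1, z = bs 2 and brackets [x,y] = z, [x,z] = t • y,
[y,z] = 0. Then L carries a p-mapping φ with φ x = t ^ ((p - 1) / 2) • x, φ y = 0 and φ z = 0. (The
published statement concerns the Lie algebra with these brackets over a field of Laurent series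
k((t)), k algebraically closed of odd characteristic, t the variable; this row states its
restrictability over every commutative ring of odd prime characteristic and every t.) -/
theorem result (R : Type u) [CommRing R] (p : ℕ) [Fact p.Prime] [CharP R p] (hp : p ≠ 2)
    (t : R) (L : Type v) [LieRing L] [LieAlgebra R L] (bs : Module.Basis (Fin 3) R L)
    (hxy : ⁅bs 0, bs 1⁆ = bs 2) (hxz : ⁅bs 0, bs 2⁆ = t • bs 1) (hyz : ⁅bs 1, bs 2⁆ = 0) :
    ∃ φ : PLie.PMap R p L, φ (bs 0) = t ^ ((p - 1) / 2) • bs 0 ∧ φ (bs 1) = 0 ∧ φ (bs 2) = 0 := by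

  have hp2 : 3 ≤ p := by
    have := (Fact.out : p.Prime).two_le
    omega
  have hsq : ∀ i : Fin 3, i ≠ 0 → (LieAlgebra.ad R L (bs i)) ^ 3 = 0 := by
    intro i hi
    refine bs.ext fun j => ?_
    fin_cases i <;> first | exact absurd rfl hi | (fin_cases j <;>
      simp [pow_succ, Module.End.mul_apply, hxy, hxz, hyz, ← lie_skew (bs 1) (bs 0),
        ← lie_skew (bs 2) (bs 0), ← lie_skew (bs 2) (bs 1)])
  have hz : ∀ m : ℕ, ((LieAlgebra.ad R L (bs 0)) ^ (2 * m + 1)) (bs 1) = t ^ m • bs 2 ∧
      ((LieAlgebra.ad R L (bs 0)) ^ (2 * m + 1)) (bs 2) = t ^ (m + 1) • bs 1 := by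
    intro m
    induction m with
    | zero => simp [hxy, hxz]
    | succ m ih =>
      have e : 2 * (m + 1) + 1 = (2 * m + 1) + 1 + 1 := by ring
      rw [e, pow_succ', pow_succ' _ (2 * m + 1)]
      simp only [Module.End.mul_apply, ih.1, ih.2, map_smul, LieAlgebra.ad_apply, hxy, hxz,
        smul_smul]
      exact ⟨by rw [pow_succ], by rw [pow_succ t (m + 1)]⟩
  obtain ⟨φ, hφ⟩ := Groth.Agent.PLie23.exists_pMap_of_basis bs
    (fun i => if i = 0 then t ^ ((p - 1) / 2) • bs 0 else 0) (p := p) fun i => by
      by_cases hi : i = 0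
      · subst hi
        rw [if_pos rfl]
        have hodd : p = 2 * ((p - 1) / 2) + 1 := by
          rcases (Fact.out : p.Prime).eq_two_or_odd with h | h <;> omega
        refine bs.ext fun j => ?_
        fin_cases j
        · obtain ⟨q, rfl⟩ := Nat.exists_eq_succ_of_ne_zero (Fact.out : p.Prime).ne_zero
          simp [pow_succ]
        · conv_lhs => rw [hodd]
          exact (hz _).1.trans (by simp [hxy])
        · conv_lhs => rw [hodd]
          exact (hz _).2.trans (by simp [hxz, smul_smul, pow_succ])
      · rw [if_neg hi, pow_eq_zero_of_le hp2 (hsq i hi), map_zero]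
  exact ⟨φ, (hφ 0).trans (if_pos rfl), (hφ 1).trans (if_neg (by decide)),
    (hφ 2).trans (if_neg (by decide))⟩


end Groth.Agent.S13779
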