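import Groth.Statements.S13780
import Groth.Agent.Lib.PLie23.Basic

set_option autoImplicit false
universe u v w
open PLie

namespace Groth.Agent.S13780

/-- Let R be a commutative ring of prime characteristic p, L and L' Lie algebras over R with p-mappings
γ and γ', the centre of L' being zero, and φ : L ≃ L' an isomorphism of Lie algebras over R. Then φ
(γ x) = γ' (φ x) for every x: φ is an isomorphism of p-Lie algebras. (The published statement is the
case L' = L of a centreless restrictable Lie algebra over a field with its unique p-mapping and a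
Lie algebra automorphism; this row allows two algebras and any commutative base ring of
characteristic p.) -/
theorem result (R : Type u) [CommRing R] (p : ℕ) [Fact p.Prime] [CharP R p]
    (L : Type v) [LieRing L] [LieAlgebra R L] (L' : Type w) [LieRing L'] [LieAlgebra R L']
    (γ : PLie.PMap R p L) (γ' : PLie.PMap R p L') (hZ : LieAlgebra.center R L' = ⊥) (φ : L ≃ₗ⁅R⁆ L') :
    PLie.IsPHom γ γ' φ.toLieHom := by

  intro x
  show φ (γ.toFun x) = γ'.toFun (φ x)
  refine sub_eq_zero.mp ?_
  have hc : φ (γ.toFun x) - γ'.toFun (φ x) ∈ LieAlgebra.center R L' := by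
    rw [← Groth.Agent.PLie23.ad_eq_zero_iff, _root_.map_sub, sub_eq_zero, γ'.ad_map]
    refine LinearMap.ext fun z => ?_
    obtain ⟨w, rfl⟩ := φ.surjective z
    rw [LieAlgebra.ad_apply]
    change ⁅φ.toLieHom (γ.toFun x), φ.toLieHom w⁆ = ((LieAlgebra.ad R L' (φ.toLieHom x)) ^ p) (φ.toLieHom w)
    rw [← LieHom.map_lie, Groth.Agent.PLie23.ad_pow_lie]
    generalize p = n
    induction n with
    | zero => simp
    | succ n ih =>
      rw [pow_succ', Module.End.mul_apply, pow_succ', Module.End.mul_apply, ← ih,
        LieAlgebra.ad_apply, LieAlgebra.ad_apply, LieHom.map_lie]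
  rw [hZ] at hc
  simpa using hc


end Groth.Agent.S13780
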