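import Groth.Statements.S13781
import Mathlib
import Groth.Agent.Lib.RegLoc.Basic
import Groth.Agent.Lib.RegLoc.Quotient
import Groth.Agent.Lib.SmoothReg17.Basic

set_option autoImplicit false
universe u
open CAlg

namespace Groth.Agent.S13781

theorem of_away {B : Type u} [CommRing B] (f : B) (P : Ideal B) [P.IsPrime] (hf : f ∉ P)
    (h : ∀ (Q : Ideal (Localization.Away f)) [Q.IsPrime], IsRegularLocalRing (Localization.AtPrime Q)) :
    IsRegularLocalRing (Localization.AtPrime P) := by
  let Bf := Localization.Away f
  have hd : Disjoint (Submonoid.powers f : Set B) (P : Set B) := by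
    rw [Set.disjoint_left]
    rintro _ ⟨n, rfl⟩ hn
    exact hf (Ideal.IsPrime.mem_of_pow_mem ‹P.IsPrime› n hn)
  haveI hP : (P.map (algebraMap B Bf)).IsPrime :=
    IsLocalization.isPrime_of_isPrime_disjoint (Submonoid.powers f) Bf P ‹_› hd
  have hc : (P.map (algebraMap B Bf)).comap (algebraMap B Bf) = P :=
    IsLocalization.comap_map_of_isPrime_disjoint (Submonoid.powers f) Bf ‹P.IsPrime› hd
  haveI := h (P.map (algebraMap B Bf))
  let e := IsLocalization.localizationLocalizationAtPrimeIsoLocalization (Submonoid.powers f) (P.map (algebraMap B Bf))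
  have e2 : Localization.AtPrime ((P.map (algebraMap B Bf)).comap (algebraMap B Bf)) ≃+* Localization.AtPrime P :=
    IsLocalization.ringEquivOfRingEquiv (M := ((P.map (algebraMap B Bf)).comap (algebraMap B Bf)).primeCompl)
      (T := P.primeCompl) _ _ (RingEquiv.refl B) (by ext x; simp [Ideal.primeCompl, hc])
  exact IsRegularLocalRing.of_ringEquiv (e.symm.toRingEquiv.trans e2)

open Polynomial in

/-- Let A be a regular local ring, s a non-zero element of A such that A/(s) is regular, and e a
positive integer invertible in A. Then A[t]/(t^e - s) is regular. (Regularity of a ring is taken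
throughout as: Noetherian, with every localization at a prime ideal a regular local ring; the
hypotheses on A and on A/(s) and the conclusion on A[t]/(t^e - s) are all read this way, which for
the local rings A and A/(s) is the usual notion once localizations of regular local rings are known
to be regular.) -/
theorem result (A : Type u) [CommRing A] [IsLocalRing A]
    [IsRegularRing A] (s : A) (hs : s ≠ 0) (hreg : IsRegularRing (A ⧸ Ideal.span {s}))
    (e : ℕ) (he : 0 < e) (heu : IsUnit (e : A)) :
    IsRegularRing (AdjoinRoot (Polynomial.X ^ e - Polynomial.C s)) := by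
  haveI := IsRegularLocalRing.of_isRegularRing_of_isLocalRing (R := A)
  haveI := Groth.Agent.RegLoc.isDomain A
  let g : A[X] := X ^ e - C s
  have hg : g.Monic := monic_X_pow_sub_C s he.ne'
  let B := AdjoinRoot g
  haveI : Module.Finite A B := hg.finite_adjoinRoot
  haveI : Module.Free A B := hg.free_adjoinRoot
  haveI : Module.Flat A B := inferInstance
  haveI : IsNoetherianRing B := isNoetherianRing_of_surjective A[X] B (AdjoinRoot.mk g) AdjoinRoot.mk_surjective
  let x : B := AdjoinRoot.root g
  have hxs : x ^ e = algebraMap A B s := by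
    have h := AdjoinRoot.mk_self (f := g)
    simp only [g, map_sub, map_pow, AdjoinRoot.mk_X, AdjoinRoot.mk_C, sub_eq_zero] at h
    exact h
  rw [isRegularRing_iff]
  intro P hP
  by_cases hx : x ∈ P
  · have hsreg : IsSMulRegular B s := fun a b hab => by
      let bb := Module.Free.chooseBasis A B
      apply bb.repr.injective
      ext i
      have := congrArg (fun z => bb.repr z i) hab
      simp only [map_smul, Finsupp.smul_apply, smul_eq_mul] at this
      exact mul_left_cancel₀ hs this
    have hxnzd : x ∈ nonZeroDivisors B := by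
      rw [mem_nonZeroDivisors_iff_right]
      intro z hz
      apply hsreg
      show s • z = s • (0 : B)
      rw [smul_zero, Algebra.smul_def, ← hxs, ← Nat.sub_add_cancel he, pow_succ, mul_assoc, mul_comm x z, hz, mul_zero]
    -- the quotient by `x`
    let I : Ideal B := Ideal.span {x}
    let Ā := A ⧸ Ideal.span {s}
    let π : B →+* Ā := AdjoinRoot.lift (Ideal.Quotient.mk (Ideal.span {s})) 0 (by
      simp [g, zero_pow he.ne', Ideal.Quotient.eq_zero_iff_mem.2 (Ideal.mem_span_singleton_self s)])
    have hπs : Function.Surjective π := fun a => by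
      obtain ⟨a, rfl⟩ := Ideal.Quotient.mk_surjective a
      exact ⟨AdjoinRoot.of g a, AdjoinRoot.lift_of _⟩
    have hker : RingHom.ker π = I := by
      refine le_antisymm (fun b hb => ?_) ?_
      · obtain ⟨p, rfl⟩ := AdjoinRoot.mk_surjective b
        rw [RingHom.mem_ker, AdjoinRoot.lift_mk, eval₂_at_zero] at hb
        obtain ⟨c, hc⟩ := Ideal.mem_span_singleton'.1 (Ideal.Quotient.eq_zero_iff_mem.1 hb)
        rw [← p.X_mul_divX_add, map_add, map_mul, AdjoinRoot.mk_X, AdjoinRoot.mk_C]
        refine add_mem (Ideal.mul_mem_right _ _ (Ideal.mem_span_singleton_self x)) ?_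
        rw [← hc, map_mul, show AdjoinRoot.of g s = x ^ e from hxs.symm]
        exact Ideal.mul_mem_left _ _ (Ideal.pow_mem_of_mem _ (Ideal.mem_span_singleton_self x) e he)
      · rw [Ideal.span_le, Set.singleton_subset_iff, SetLike.mem_coe, RingHom.mem_ker, AdjoinRoot.lift_root]
    let eq : B ⧸ I ≃+* Ā := (Ideal.quotEquivOfEq hker.symm).trans (RingHom.quotientKerEquivOfSurjective hπs)
    haveI : IsRegularRing (B ⧸ I) := IsRegularRing.of_ringEquiv eq.symm
    haveI hP' : (P.map (Ideal.Quotient.mk I)).IsPrime :=
      Ideal.map_isPrime_of_surjective Ideal.Quotient.mk_surjective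
        (by rw [Ideal.mk_ker]; exact (Ideal.span_singleton_le_iff_mem P).2 hx)
    have hc : (P.map (Ideal.Quotient.mk I)).comap (Ideal.Quotient.mk I) = P := by
      rw [Ideal.comap_map_of_surjective _ Ideal.Quotient.mk_surjective, ← RingHom.ker_eq_comap_bot, Ideal.mk_ker]
      exact sup_eq_left.2 ((Ideal.span_singleton_le_iff_mem P).2 hx)
    let Q := P.map (Ideal.Quotient.mk I)
    haveI : IsRegularLocalRing (Localization.AtPrime Q) := isRegularRing_iff.1 inferInstance Q
    let eQ := Groth.Agent.RegLoc.localizationQuotientEquiv I Q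
    let P' := Q.comap (Ideal.Quotient.mk I)
    let L := Localization.AtPrime P'
    have hspan : I.map (algebraMap B L) = Ideal.span ({algebraMap B L x} : Set L) := by
      rw [Ideal.map_span, Set.image_singleton]
    haveI : IsRegularLocalRing (L ⧸ Ideal.span ({algebraMap B L x} : Set L)) :=
      IsRegularLocalRing.of_ringEquiv (eQ.symm.trans (Ideal.quotEquivOfEq hspan))
    haveI : IsNoetherianRing L := IsLocalization.isNoetherianRing P'.primeCompl L inferInstance
    have hxL : algebraMap B L x ∈ IsLocalRing.maximalIdeal L := by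
      rw [← Localization.AtPrime.map_eq_maximalIdeal]
      exact Ideal.mem_map_of_mem _ (show Ideal.Quotient.mk I x ∈ Q from Ideal.mem_map_of_mem _ hx)
    have hxLreg : algebraMap B L x ∈ nonZeroDivisors L :=
      IsLocalization.map_nonZeroDivisors_le P'.primeCompl L ⟨x, hxnzd, rfl⟩
    haveI : IsRegularLocalRing L := Groth.Agent.RegLoc.of_quotient_span_singleton hxL hxLreg
    exact IsRegularLocalRing.of_ringEquiv
      (IsLocalization.ringEquivOfRingEquiv (M := P'.primeCompl) (T := P.primeCompl) L (Localization.AtPrime P)
        (RingEquiv.refl B) (by ext z; simp [Ideal.primeCompl, P', Q, hc]))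
  · obtain ⟨u, hu⟩ := heu.exists_left_inv
    let SP : StandardEtalePair A :=
      { f := g, monic_f := hg, g := X
        cond := ⟨C u, 0, e - 1, by
          simp only [g, derivative_sub, derivative_X_pow, derivative_C, sub_zero, mul_zero, add_zero]
          rw [mul_comm _ (C u), ← mul_assoc, ← map_mul, hu, map_one, one_mul]⟩ }
    have hf : AdjoinRoot.mk g X ∉ P := by rwa [AdjoinRoot.mk_X]
    refine of_away (AdjoinRoot.mk g X) P hf fun Q _ => ?_
    haveI : Algebra.Etale A (Localization.Away (AdjoinRoot.mk g X)) :=
      Algebra.Etale.of_equiv (SP.equivAwayAdjoinRoot)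
    exact Groth.Agent.SmoothReg17.isRegularLocalRing_of_etale (A := A) Q

end Groth.Agent.S13781
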