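import Groth.Statements.S13782
import Mathlib
import Groth.Agent.Lib.RegLoc.Basic
import Groth.Agent.Lib.SmoothReg17.Basic

set_option autoImplicit false
universe u
open CAlg

namespace Groth.Agent.S13782
open TensorProduct

theorem smooth_quot_iff (k R : Type u) [Field k] [CommRing R] [Algebra k R] [Algebra.Smooth k R]
    (f : R) (hf : f ∈ nonZeroDivisors R) :
    Algebra.Smooth k (R ⧸ Ideal.span {f}) ↔
      ∃ D : Derivation k R (R ⧸ Ideal.span {f}), D f = 1 := by
  let B := R ⧸ Ideal.span {f}
  have hsurj : Function.Surjective (algebraMap R B) := Ideal.Quotient.mk_surjective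
  have hker : RingHom.ker (algebraMap R B) = Ideal.span {f} := Ideal.mk_ker
  let J := RingHom.ker (algebraMap R B)
  have hfJ : f ∈ J := hker.ge (Ideal.mem_span_singleton_self f)
  let v : J.Cotangent := J.toCotangent ⟨f, hfJ⟩
  have hgen : ∀ x : J, ∃ r : R, x = r • (⟨f, hfJ⟩ : J) := fun x => by
    obtain ⟨r, hr⟩ := Ideal.mem_span_singleton'.1 (hker.le x.2)
    exact ⟨r, Subtype.ext hr.symm⟩
  constructor
  · intro h
    obtain ⟨l, hl⟩ := (Algebra.FormallySmooth.iff_split_injection (R := k) (P := R) (A := B) hsurj).1 inferInstance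
    let e₀ : R →ₗ[R] J := LinearMap.toSpanSingleton R J ⟨f, hfJ⟩
    have he₀ : Function.Bijective e₀ :=
      ⟨fun a b hab => (mul_cancel_right_mem_nonZeroDivisors hf).1 (congrArg Subtype.val hab),
        fun x => (hgen x).elim fun r hr => ⟨r, hr.symm⟩⟩
    let e := LinearEquiv.ofBijective e₀ he₀
    let φ₀ : J →ₗ[R] B := (Algebra.linearMap R B).comp e.symm.toLinearMap
    let φ : J.Cotangent →ₗ[R] B := Submodule.liftQ _ φ₀ (Submodule.smul_le.2 fun r hr x _ => by
      rw [LinearMap.mem_ker, map_smul, Algebra.smul_def, show algebraMap R B r = 0 from hr, zero_mul])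
    let L : Ω[R⁄k] →ₗ[R] B := φ.comp (l.comp (TensorProduct.mk R B Ω[R⁄k] 1))
    refine ⟨L.compDer (KaehlerDifferential.D k R), ?_⟩
    show φ (l ((1 : B) ⊗ₜ KaehlerDifferential.D k R f)) = 1
    have h1 : l (KaehlerDifferential.kerCotangentToTensor k R B v) = v := DFunLike.congr_fun hl v
    rw [KaehlerDifferential.kerCotangentToTensor_toCotangent] at h1
    rw [h1]
    show φ₀ ⟨f, hfJ⟩ = 1
    have : e.symm ⟨f, hfJ⟩ = 1 := e.injective (by
      rw [e.apply_symm_apply]
      show _ = e₀ 1
      simp [e₀])
    show algebraMap R B (e.symm ⟨f, hfJ⟩) = 1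
    rw [this, map_one]
  · rintro ⟨D, hD⟩
    let ψ : B →ₗ[R] J.Cotangent := Submodule.liftQ (Ideal.span {f}) (LinearMap.toSpanSingleton R _ v) (by
      intro r hr
      obtain ⟨c, rfl⟩ := Ideal.mem_span_singleton'.1 hr
      rw [LinearMap.mem_ker, LinearMap.toSpanSingleton_apply, mul_smul, ← map_smul J.toCotangent f]
      rw [show f • (⟨f, hfJ⟩ : J) = ⟨f * f, J.mul_mem_left f hfJ⟩ from rfl]
      rw [(Ideal.toCotangent_eq_zero J _).2 (by rw [pow_two]; exact Ideal.mul_mem_mul hfJ hfJ), smul_zero])
    let L : B ⊗[R] Ω[R⁄k] →ₗ[B] B := LinearMap.liftBaseChange B D.liftKaehlerDifferential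
    haveI : Algebra.FormallySmooth k B :=
      (Algebra.FormallySmooth.iff_split_injection (R := k) (P := R) (A := B) hsurj).2
        ⟨ψ.comp (L.restrictScalars R), LinearMap.ext fun z => by
          obtain ⟨x, rfl⟩ := J.toCotangent_surjective z
          obtain ⟨r, rfl⟩ := hgen x
          rw [map_smul, map_smul, LinearMap.id_apply]
          congr 1
          show ψ (L (KaehlerDifferential.kerCotangentToTensor k R B (J.toCotangent ⟨f, hfJ⟩))) = _
          rw [KaehlerDifferential.kerCotangentToTensor_toCotangent]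
          show ψ (L ((1 : B) ⊗ₜ KaehlerDifferential.D k R f)) = _
          rw [show L ((1 : B) ⊗ₜ KaehlerDifferential.D k R f) = 1 by
            simp [L, Derivation.liftKaehlerDifferential_comp_D, hD]]
          show (LinearMap.toSpanSingleton R _ v) 1 = _
          rw [LinearMap.toSpanSingleton_apply, one_smul]⟩
    haveI : Algebra.FinitePresentation k B :=
      Algebra.FinitePresentation.quotient ⟨{f}, by simp⟩
    exact ⟨inferInstance, inferInstance⟩

theorem nzd_of_irreducible (k A : Type u) [Field k] [CommRing A] [Algebra k A] [Algebra.Smooth k A]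
    (s : A) (hs : Irreducible s) : s ∈ nonZeroDivisors A := by
  classical
  haveI : IsNoetherianRing A := Algebra.FiniteType.isNoetherianRing k A
  let J : Ideal A := LinearMap.ker (LinearMap.mulRight A s)
  let K : Ideal A := (Submodule.annihilator J)
  have hJK : J ⊔ K = ⊤ := by
    by_contra h
    obtain ⟨M, hM, hle⟩ := Ideal.exists_le_maximal _ h
    have := Groth.Agent.SmoothReg17.isRegularLocalRing_of_smooth (algebraMap k A)
      (RingHom.smooth_algebraMap.2 inferInstance) M
    haveI := Groth.Agent.RegLoc.isDomain (Localization.AtPrime M)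
    obtain ⟨T, hT⟩ := IsNoetherian.noetherian J
    have hkill : ∀ j ∈ T, ∃ t, t ∉ M ∧ t * j = 0 := by
      intro j hj
      have hjJ : j * s = 0 := show j ∈ J from hT.le (Submodule.subset_span hj)
      have h0 : algebraMap A (Localization.AtPrime M) j * algebraMap A _ s = 0 := by
        rw [← map_mul, hjJ, map_zero]
      rcases mul_eq_zero.1 h0 with h1 | h1
      · obtain ⟨t, ht⟩ := (IsLocalization.map_eq_zero_iff M.primeCompl (Localization.AtPrime M) j).1 h1
        exact ⟨t, t.2, ht⟩
      · obtain ⟨t, ht⟩ := (IsLocalization.map_eq_zero_iff M.primeCompl (Localization.AtPrime M) s).1 h1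
        exact absurd (hle (Submodule.mem_sup_left (show (t : A) ∈ J from ht))) t.2
    choose! t htM ht using hkill
    have hK : ∏ j ∈ T, t j ∈ K := by
      show _ ∈ Submodule.annihilator J
      rw [Submodule.mem_annihilator]
      intro x hx
      rw [← hT] at hx
      induction hx using Submodule.span_induction with
      | mem y hy => rw [← Finset.mul_prod_erase T t hy, smul_eq_mul, mul_comm (t y), mul_assoc, ht y hy, mul_zero]
      | zero => simp
      | add a b _ _ ha hb => rw [smul_add, ha, hb, add_zero]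
      | smul a b _ hb => rw [smul_comm, hb, smul_zero]
    rcases hM.isPrime.prod_mem_iff.1 (hle (Submodule.mem_sup_right hK)) with ⟨j, hj, hj'⟩
    exact htM j hj hj'
  obtain ⟨j, hj, l, hl, hjl⟩ := Submodule.mem_sup.1 ((Ideal.eq_top_iff_one _).1 hJK)
  have hsl : s = s * l := by
    calc s = s * (j + l) := by rw [hjl, mul_one]
    _ = j * s + s * l := by ring
    _ = s * l := by rw [show j * s = 0 from hj, zero_add]
  rcases hs.isUnit_or_isUnit hsl with h | h
  · exact absurd h hs.not_isUnit
  · rw [mem_nonZeroDivisors_iff_right]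
    intro z hz
    have := Submodule.mem_annihilator.1 hl z (show z ∈ J from hz)
    rw [smul_eq_mul] at this
    exact h.mul_right_eq_zero.1 this

open Polynomial in

/-- Let k be a field, A a smooth k-algebra, s an irreducible element of A and e an integer, at least 2,
that is invertible in k. Then the k-algebra A[t]/(t^e - s) is smooth exactly when the quotient ring
A/(s) is a smooth k-algebra. (Smooth over k means formally smooth and of finite presentation over
k.) -/
theorem result (k A : Type u) [Field k] [CommRing A] [Algebra k A]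
    [Algebra.Smooth k A] (s : A) (hs : Irreducible s) (e : ℕ) (he : 2 ≤ e) (hek : (e : k) ≠ 0) :
    Algebra.Smooth k (AdjoinRoot (Polynomial.X ^ e - Polynomial.C s)) ↔
      Algebra.Smooth k (A ⧸ Ideal.span {s}) := by
  have hnzd := nzd_of_irreducible k A s hs
  let g : A[X] := X ^ e - C s
  have hg : g.Monic := monic_X_pow_sub_C s (by omega)
  haveI : Algebra.Smooth A A[X] := ⟨inferInstance, inferInstance⟩
  haveI : Algebra.Smooth k A[X] := Algebra.Smooth.comp k A A[X]
  show Algebra.Smooth k (A[X] ⧸ Ideal.span {g}) ↔ _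
  rw [smooth_quot_iff k A[X] g hg.mem_nonZeroDivisors, smooth_quot_iff k A s hnzd]
  let B := A[X] ⧸ Ideal.span {g}
  let Ā := A ⧸ Ideal.span {s}
  constructor
  · rintro ⟨D, hD⟩
    -- reduce modulo `X`
    let π : A[X] →ₐ[k] Ā := ((Ideal.Quotient.mkₐ A (Ideal.span {s})).comp (Polynomial.aeval (0 : A))).restrictScalars k
    have hπ : ∀ p : A[X], π p = Ideal.Quotient.mk _ (p.eval 0) := fun p => by
      simp [π, Polynomial.coe_aeval_eq_eval]
    let πB : B →+* Ā := Ideal.Quotient.lift _ π.toRingHom (fun p hp => by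
      obtain ⟨c, rfl⟩ := Ideal.mem_span_singleton'.1 hp
      show π (c * g) = 0
      rw [hπ, Ideal.Quotient.eq_zero_iff_mem]
      simp [g, zero_pow (show e ≠ 0 by omega)]
      exact Ideal.mul_mem_left _ _ (Ideal.mem_span_singleton_self s))
    have hπB : ∀ p : A[X], πB (Ideal.Quotient.mk _ p) = Ideal.Quotient.mk _ (p.eval 0) := fun p => hπ p
    have hsm : ∀ (p : A[X]) (b : B), πB (p • b) = p.eval 0 • πB b := fun p b => by
      obtain ⟨q, rfl⟩ := Ideal.Quotient.mk_surjective b
      show πB (Ideal.Quotient.mk _ (p * q)) = _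
      rw [hπB, hπB, eval_mul]; rfl
    let F : A →ₗ[k] Ā :=
      { toFun := fun a => - πB (D (C a))
        map_add' := fun a b => by rw [C_add, map_add, map_add, neg_add]
        map_smul' := fun t a => by
          rw [RingHom.id_apply, ← smul_C, Derivation.map_smul, ← algebraMap_smul A[X] t (D (C a)), hsm,
            Polynomial.algebraMap_apply, eval_C, algebraMap_smul, smul_neg] }
    refine ⟨Derivation.mk' F (fun a b => ?_), ?_⟩
    · show - πB (D (C (a * b))) = a • -πB (D (C b)) + b • -πB (D (C a))
      rw [C_mul, Derivation.leibniz, map_add, hsm, hsm, eval_C, eval_C, smul_neg, smul_neg, neg_add]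
    · show - πB (D (C s)) = 1
      have h : πB (D (X ^ e - C s)) = πB 1 := congrArg πB hD
      rw [map_sub, map_sub, Derivation.leibniz_pow, map_nsmul, hsm, eval_pow, eval_X,
        zero_pow (show e - 1 ≠ 0 by omega), zero_smul, smul_zero, zero_sub, map_one] at h
      exact h
  · rintro ⟨D, hD⟩
    -- lift the derivation to `A`
    obtain ⟨l, hl⟩ := Module.projective_lifting_property (Submodule.mkQ (Ideal.span {s} : Submodule A A))
      D.liftKaehlerDifferential (Submodule.mkQ_surjective _)
    let D₁ : Derivation k A A := l.compDer (KaehlerDifferential.D k A)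
    have hD₁ : Ideal.Quotient.mk (Ideal.span {s}) (D₁ s) = 1 := by
      show (Submodule.mkQ (Ideal.span {s} : Submodule A A) ∘ₗ l) (KaehlerDifferential.D k A s) = _
      rw [hl, Derivation.liftKaehlerDifferential_comp_D, hD]
    obtain ⟨a, ha⟩ := Ideal.mem_span_singleton'.1 (Ideal.Quotient.eq.1 (hD₁.trans (map_one _).symm))
    let D₂ : Derivation k A[X] A[X] :=
      (PolynomialModule.equivPolynomialSelf : PolynomialModule A A ≃ₗ[A[X]] A[X]).toLinearMap.compDer D₁.mapCoeffs
    let D₀ : Derivation k A[X] A[X] :=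
      Derivation.restrictScalars k (Polynomial.derivative' : Derivation A A[X] A[X])
    obtain ⟨u, hu⟩ : ∃ u : k, u * e = 1 := ⟨(e : k)⁻¹, inv_mul_cancel₀ hek⟩
    let α : A[X] := -(C (algebraMap k A u) * C a) * X
    let E : Derivation k A[X] A[X] := α • D₀ - D₂
    let q : A[X] →ₗ[A[X]] B := Submodule.mkQ _
    refine ⟨q.compDer E, ?_⟩
    show Ideal.Quotient.mk (Ideal.span {g}) (α * derivative g - D₂ g) = 1
    have h2 : D₂ g = - C (D₁ s) := by
      show PolynomialModule.equivPolynomialSelf (D₁.mapCoeffs g) = _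
      rw [show g = X ^ e - C s from rfl, map_sub, Derivation.leibniz_pow, Derivation.mapCoeffs_X, smul_zero, smul_zero,
        zero_sub, Derivation.mapCoeffs_C, map_neg, PolynomialModule.equivPolynomialSelf_apply_eq,
        PolynomialModule.equivPolynomial_single, monomial_zero_left]
    have h3 : D₁ s = 1 + a * s := by rw [ha]; ring
    have h4 : α * derivative g = - (C a * X ^ e) := by
      have he' : C (algebraMap k A u) * (e : A[X]) = 1 := by
        rw [← map_natCast (C : A →+* A[X]) e, ← map_natCast (algebraMap k A) e, ← map_mul, ← map_mul, hu, map_one, map_one]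
      simp only [g, derivative_sub, derivative_X_pow, derivative_C, sub_zero, α, map_natCast]
      calc -(C (algebraMap k A u) * C a) * X * ((e : A[X]) * X ^ (e - 1))
          = -((C (algebraMap k A u) * (e : A[X])) * C a * (X ^ (e - 1) * X)) := by ring
        _ = - (C a * X ^ e) := by rw [he', one_mul, ← pow_succ, Nat.sub_add_cancel (show 1 ≤ e by omega)]
    rw [← map_one (Ideal.Quotient.mk (Ideal.span {g})), Ideal.Quotient.eq, h2, h3, h4, C_add, C_mul, C_1]
    exact Ideal.mem_span_singleton'.2 ⟨-C a, by simp only [g]; ring⟩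

end Groth.Agent.S13782
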