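import Groth.Statements.S13783
-- import your own Groth.Agent.* helpers here

set_option autoImplicit false
universe u
open Curves

namespace Groth.Agent.S13783

open Matrix W4c1stackycurves

section Aux

variable {K : Type u} [Field K]

/-- The standard frame. -/
def frameVec (K : Type u) [Field K] : Fin 3 → Fin 2 → K := ![![1, 0], ![0, 1], ![1, 1]]

theorem frameVec_ne (i : Fin 3) : frameVec K i ≠ 0 := by
  intro h
  fin_cases i
  · simpa [frameVec] using congrFun h 0
  · simpa [frameVec] using congrFun h 1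
  · simpa [frameVec] using congrFun h 0

theorem frameVec_mk_injective :
    Function.Injective (fun i => Projectivization.mk K (frameVec K i) (frameVec_ne i)) := by
  intro i j h
  obtain ⟨a, ha⟩ := (Projectivization.mk_eq_mk_iff' K _ _ _ _).mp h
  have h0 := congrFun ha 0
  have h1 := congrFun ha 1
  fin_cases i <;> fin_cases j <;> first | rfl | (simp [frameVec] at h0 h1; done) | (simp [frameVec] at h0 h1; rw [h0] at h1; simp at h1)

/-- The cross product of two vectors of the plane. -/
def cr (u v : Fin 2 → K) : K := u 0 * v 1 - u 1 * v 0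

theorem cr_ne_zero {x y : Projectivization K (Fin 2 → K)} (h : x ≠ y) : cr x.rep y.rep ≠ 0 := by
  intro h0
  apply h
  have hu := x.rep_nonzero
  have hv := y.rep_nonzero
  rw [← x.mk_rep, ← y.mk_rep, Projectivization.mk_eq_mk_iff']
  unfold cr at h0
  by_cases hv0 : y.rep 0 = 0
  · have hv1 : y.rep 1 ≠ 0 := by
      intro hv1; exact hv (funext fun i => by fin_cases i <;> assumption)
    refine ⟨x.rep 1 / y.rep 1, funext fun i => ?_⟩
    fin_cases i
    · simp only [hv0, mul_zero, sub_zero, mul_eq_zero, hv1, or_false] at h0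
      simp [hv0, h0]
    · simp [hv1]
  · refine ⟨x.rep 0 / y.rep 0, funext fun i => ?_⟩
    fin_cases i
    · simp [hv0]
    · show x.rep 0 / y.rep 0 * y.rep 1 = x.rep 1
      field_simp
      linear_combination h0

theorem exists_frame {x : Fin 3 → Projectivization K (Fin 2 → K)} (hx : Function.Injective x) :
    ∃ V : Matrix (Fin 2) (Fin 2) K, V.det ≠ 0 ∧
      ∀ i, ∃ c : K, c ≠ 0 ∧ V *ᵥ frameVec K i = c • (x i).rep := by
  have h01 := cr_ne_zero (hx.ne (show (0 : Fin 3) ≠ 1 by decide))
  have h21 := cr_ne_zero (hx.ne (show (2 : Fin 3) ≠ 1 by decide))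
  have h02 := cr_ne_zero (hx.ne (show (0 : Fin 3) ≠ 2 by decide))
  set u := (x 0).rep
  set v := (x 1).rep
  set w := (x 2).rep
  refine ⟨!![cr w v * u 0, cr u w * v 0; cr w v * u 1, cr u w * v 1], ?_, ?_⟩
  · rw [Matrix.det_fin_two_of,
      show cr w v * u 0 * (cr u w * v 1) - cr u w * v 0 * (cr w v * u 1)
        = cr w v * cr u w * cr u v by simp [cr]; ring]
    exact mul_ne_zero (mul_ne_zero h21 h02) h01
  · intro i
    fin_cases i
    · refine ⟨cr w v, h21, funext fun j => ?_⟩
      fin_cases j <;> simp [frameVec, u]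
    · refine ⟨cr u w, h02, funext fun j => ?_⟩
      fin_cases j <;> simp [frameVec, v]
    · refine ⟨cr u v, h01, funext fun j => ?_⟩
      fin_cases j <;> simp [frameVec, cr, u, v, w] <;> ring

theorem frame_unique {W D : Matrix (Fin 2) (Fin 2) K} (hW : W.det ≠ 0)
    (h : ∀ i, ∃ c : K, D *ᵥ frameVec K i = c • (W *ᵥ frameVec K i)) :
    ∃ c : K, D = c • W := by
  obtain ⟨a, ha⟩ := h 0
  obtain ⟨b, hb⟩ := h 1
  obtain ⟨c, hc⟩ := h 2
  have a0 := congrFun ha 0
  have a1 := congrFun ha 1
  have b0 := congrFun hb 0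
  have b1 := congrFun hb 1
  have c0 := congrFun hc 0
  have c1 := congrFun hc 1
  simp [frameVec, Matrix.mulVec, dotProduct, Fin.sum_univ_two] at a0 a1 b0 b1 c0 c1
  rw [Matrix.det_fin_two] at hW
  have eac : a = c := by
    have : (a - c) * (W 0 0 * W 1 1 - W 0 1 * W 1 0) = 0 := by
      linear_combination (W 1 1) * (c0 - a0 - b0) - (W 0 1) * (c1 - a1 - b1)
    exact sub_eq_zero.mp ((mul_eq_zero.mp this).resolve_right hW)
  have ebc : b = c := by
    have : (b - c) * (W 0 0 * W 1 1 - W 0 1 * W 1 0) = 0 := by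
      linear_combination (W 0 0) * (c1 - a1 - b1) - (W 1 0) * (c0 - a0 - b0)
    exact sub_eq_zero.mp ((mul_eq_zero.mp this).resolve_right hW)
  refine ⟨c, Matrix.ext fun i j => ?_⟩
  fin_cases i <;> fin_cases j <;> simp [a0, a1, b0, b1, eac, ebc]

/-- `H` sends the representative of `x i` to a multiple of that of `y i`. -/
def Maps (x y : Fin 3 → Projectivization K (Fin 2 → K)) (H : Matrix (Fin 2) (Fin 2) K) : Prop :=
  ∀ i, ∃ c : K, H *ᵥ (x i).rep = c • (y i).rep

theorem exists_maps_unique {x y : Fin 3 → Projectivization K (Fin 2 → K)}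
    (hx : Function.Injective x) (hy : Function.Injective y) :
    ∃ G : Matrix (Fin 2) (Fin 2) K, G.det ≠ 0 ∧ Maps x y G ∧
      ∀ H, Maps x y H → ∃ c : K, H = c • G := by
  obtain ⟨V, hV, hV'⟩ := exists_frame hx
  obtain ⟨W, hW, hW'⟩ := exists_frame hy
  have hVu : IsUnit V.det := isUnit_iff_ne_zero.mpr hV
  refine ⟨W * V⁻¹, ?_, ?_, ?_⟩
  · rw [Matrix.det_mul, Matrix.det_nonsing_inv, Ring.inverse_eq_inv]
    exact mul_ne_zero hW (inv_ne_zero hV)
  · intro i
    obtain ⟨a, ha, ha'⟩ := hV' i
    obtain ⟨b, -, hb'⟩ := hW' i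
    refine ⟨a⁻¹ * b, ?_⟩
    rw [show (x i).rep = a⁻¹ • (V *ᵥ frameVec K i) by rw [ha', inv_smul_smul₀ ha],
      Matrix.mulVec_smul, Matrix.mulVec_mulVec, Matrix.mul_assoc, Matrix.nonsing_inv_mul V hVu,
      Matrix.mul_one, hb', smul_smul]
  · intro H hH
    obtain ⟨c, hc⟩ := frame_unique (D := H * V) hW (fun i => by
      obtain ⟨a, -, ha'⟩ := hV' i
      obtain ⟨b, hb, hb'⟩ := hW' i
      obtain ⟨c, hc⟩ := hH i
      refine ⟨a * c * b⁻¹, ?_⟩
      rw [← Matrix.mulVec_mulVec, ha', Matrix.mulVec_smul, hc, hb', smul_smul, smul_smul,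
        inv_mul_cancel_right₀ hb])
    refine ⟨c, ?_⟩
    rw [← Matrix.smul_mul, ← hc, Matrix.mul_assoc, Matrix.mul_nonsing_inv V hVu, Matrix.mul_one]

variable {k : Type u} [Field k] [Algebra k K]

theorem galP_injective (σ : K ≃ₐ[k] K) :
    Function.Injective (galP σ (ι := Fin 2)) := by
  intro p q h
  induction p using Projectivization.ind with | h u hu => ?_
  induction q using Projectivization.ind with | h v hv => ?_
  simp only [galP, Projectivization.map_mk, Projectivization.mk_eq_mk_iff'] at h ⊢
  obtain ⟨a, ha⟩ := h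
  refine ⟨σ.symm a, funext fun i => σ.injective ?_⟩
  simpa [galVec_apply] using congrFun ha i

theorem rep_galP (σ : K ≃ₐ[k] K) (p : Projectivization K (Fin 2 → K)) :
    ∃ a : K, a ≠ 0 ∧ (galP σ p).rep = a • (fun i => σ (p.rep i)) := by
  have h : galP σ p = galP σ (Projectivization.mk K p.rep p.rep_nonzero) := by
    rw [Projectivization.mk_rep]
  rw [h, galP, Projectivization.map_mk]
  obtain ⟨a, ha⟩ := Projectivization.exists_smul_eq_mk_rep K (galVec σ (Fin 2) p.rep)
    ((galVec σ (Fin 2)).map_zero ▸ (galVec_injective σ _).ne p.rep_nonzero)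
  exact ⟨a, a.ne_zero, ha.symm⟩

theorem galP_frameVec (σ : K ≃ₐ[k] K) (i : Fin 3) :
    galP σ (Projectivization.mk K (frameVec K i) (frameVec_ne i))
      = Projectivization.mk K (frameVec K i) (frameVec_ne i) := by
  rw [galP, Projectivization.map_mk, Projectivization.mk_eq_mk_iff']
  refine ⟨1, funext fun j => ?_⟩
  fin_cases i <;> fin_cases j <;> simp [frameVec, galVec_apply]

theorem main_three [FiniteDimensional k K] [IsGalois k K]
    {x y : Fin 3 → Projectivization K (Fin 2 → K)}
    (hx : Function.Injective x) (hy : Function.Injective y)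
    (hπ : ∀ σ : K ≃ₐ[k] K, ∀ i, ∃ j, galP σ (x i) = x j ∧ galP σ (y i) = y j) :
    ∃ g : Matrix.GeneralLinearGroup (Fin 2) k, ∀ i,
      (Matrix.GeneralLinearGroup.toLin ((Matrix.GeneralLinearGroup.map (algebraMap k K)) g)) • x i
        = y i := by
  obtain ⟨G, hG, hGm, huniq⟩ := exists_maps_unique hx hy
  have hscal : ∀ σ : K ≃ₐ[k] K, ∃ c : K, G.map σ = c • G := by
    intro σ
    apply huniq
    choose π hπx hπy using hπ σ
    have hπi : Function.Injective π := fun i j h =>
      hx (galP_injective σ ((hπx i).trans (h ▸ (hπx j).symm)))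
    intro j
    obtain ⟨i, rfl⟩ := (Finite.injective_iff_surjective.mp hπi) j
    obtain ⟨a, -, ha⟩ := rep_galP σ (x i)
    obtain ⟨b, hb, hb'⟩ := rep_galP σ (y i)
    obtain ⟨c, hc⟩ := hGm i
    refine ⟨a * σ c * b⁻¹, ?_⟩
    rw [← hπx, ha, ← hπy, hb', Matrix.mulVec_smul, smul_smul, inv_mul_cancel_right₀ hb, ← smul_smul]
    congr 1
    funext l
    have h1 := congrArg σ (congrFun hc l)
    simp only [Pi.smul_apply, smul_eq_mul, map_mul] at h1 ⊢
    rw [← h1]
    simp [Matrix.mulVec, dotProduct, map_sum, Matrix.map_apply]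
  obtain ⟨a, b, hab⟩ : ∃ a b, G a b ≠ 0 := by
    by_contra h
    push Not at h
    exact hG (by rw [show G = 0 from Matrix.ext h]; simp)
  have hfix : ∀ i j, ∃ t : k, algebraMap k K t = (G a b)⁻¹ * G i j := by
    intro i j
    rw [← RingHom.mem_range]
    refine (IsGalois.mem_range_algebraMap_iff_fixed _).mpr fun σ => ?_
    obtain ⟨c, hc⟩ := hscal σ
    have e1 : σ (G a b) = c * G a b := congrFun (congrFun hc a) b
    have e2 : σ (G i j) = c * G i j := congrFun (congrFun hc i) j
    have hc0 : c ≠ 0 := by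
      rintro rfl
      exact hab (σ.injective (by rw [e1, zero_mul, map_zero]))
    rw [map_mul, map_inv₀, e1, e2, mul_inv, mul_mul_mul_comm, inv_mul_cancel₀ hc0, one_mul]
  choose t ht using hfix
  have hmap : (Matrix.of t).map (algebraMap k K) = (G a b)⁻¹ • G :=
    Matrix.ext fun i j => ht i j
  have hdet : (Matrix.of t).det ≠ 0 := by
    intro h
    have := congrArg (algebraMap k K) h
    rw [map_zero, RingHom.map_det, RingHom.mapMatrix_apply, hmap, Matrix.det_smul] at this
    exact hG ((mul_eq_zero.mp this).resolve_left (pow_ne_zero _ (inv_ne_zero hab)))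
  refine ⟨Matrix.GeneralLinearGroup.mkOfDetNeZero (Matrix.of t) hdet, fun i => ?_⟩
  obtain ⟨c, hc⟩ := hGm i
  conv_lhs => rw [← (x i).mk_rep]
  rw [Projectivization.smul_mk]
  conv_rhs => rw [← (y i).mk_rep]
  rw [Projectivization.mk_eq_mk_iff']
  refine ⟨(G a b)⁻¹ * c, ?_⟩
  show _ = ((Matrix.of t).map (algebraMap k K)) *ᵥ (x i).rep
  rw [hmap, Matrix.smul_mulVec, hc, smul_smul]

theorem main_le [FiniteDimensional k K] [IsGalois k K] :
    ∀ (m n : ℕ) (_ : n + m = 3) (x y : Fin n → Projectivization K (Fin 2 → K))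
    (_ : Function.Injective x) (_ : Function.Injective y)
    (_ : ∀ σ : K ≃ₐ[k] K, ∀ i, ∃ j, galP σ (x i) = x j ∧ galP σ (y i) = y j),
    ∃ g : Matrix.GeneralLinearGroup (Fin 2) k, ∀ i,
      (Matrix.GeneralLinearGroup.toLin ((Matrix.GeneralLinearGroup.map (algebraMap k K)) g)) • x i
        = y i := by
  intro m
  induction m with
  | zero =>
    intro n hn x y hx hy hπ
    obtain rfl : n = 3 := by omega
    exact main_three hx hy hπ
  | succ m ih =>
    intro n hn x y hx hy hπ
    have hex : ∀ z : Fin n → Projectivization K (Fin 2 → K), ∃ i : Fin 3,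
        Projectivization.mk K (frameVec K i) (frameVec_ne i) ∉ Set.range z := by
      intro z
      by_contra h
      push Not at h
      choose f hf using h
      have hfi : Function.Injective f := fun i j e =>
        frameVec_mk_injective ((hf i).symm.trans (e ▸ hf j))
      have := Fintype.card_le_of_injective f hfi
      simp at this
      omega
    obtain ⟨p, hp⟩ := hex x
    obtain ⟨q, hq⟩ := hex y
    obtain ⟨g, hg⟩ := ih (n + 1) (by omega)
      (Fin.snoc x (Projectivization.mk K (frameVec K p) (frameVec_ne p)))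
      (Fin.snoc y (Projectivization.mk K (frameVec K q) (frameVec_ne q)))
      (Fin.snoc_injective_iff.mpr ⟨hx, hp⟩) (Fin.snoc_injective_iff.mpr ⟨hy, hq⟩)
      (fun σ i => by
        induction i using Fin.lastCases with
        | last => exact ⟨Fin.last n, by simp [galP_frameVec], by simp [galP_frameVec]⟩
        | cast i =>
          obtain ⟨j, hj1, hj2⟩ := hπ σ i
          exact ⟨j.castSucc, by simp [hj1], by simp [hj2]⟩)
    exact ⟨g, fun i => by simpa using hg i.castSucc⟩

end Aux

/-- Let k be a field and K a finite Galois extension of k. Let S be a finite set of at most three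
K-points of the projective line that is stable under the Galois group of K over k, and let b be a
Galois-equivariant bijection from S onto another set S' of K-points. Then some element of GL_2(k)
maps S onto S'. (This is the statement that two closed subschemes of the projective line over k
which are etale over k of the same degree at most 3 and have isomorphic k-algebras of functions are
exchanged by a k-automorphism of the line, written for their sets of points over a finite Galois
extension K of k splitting both; an isomorphism of the function algebras is the same as a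
Galois-equivariant bijection of these point sets.) -/
theorem result (k K : Type u) [Field k] [Field K]
    [Algebra k K] [FiniteDimensional k K] [IsGalois k K]
    (S S' : Set (Projectivization K (Fin 2 → K))) (hfin : S.Finite) (h3 : S.ncard ≤ 3)
    (hS : ∀ (σ : K ≃ₐ[k] K) (x : Projectivization K (Fin 2 → K)), x ∈ S → W4c1stackycurves.galP σ x ∈ S)
    (b : S ≃ S')
    (hb : ∀ (σ : K ≃ₐ[k] K) (x : S),
      (b ⟨W4c1stackycurves.galP σ x.1, hS σ x.1 x.2⟩ : Projectivization K (Fin 2 → K)) =
        W4c1stackycurves.galP σ (b x).1) :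
    ∃ g : Matrix.GeneralLinearGroup (Fin 2) k,
      (fun x => (Matrix.GeneralLinearGroup.toLin ((Matrix.GeneralLinearGroup.map (algebraMap k K)) g)) • x) '' S = S' := by
  haveI := hfin.fintype
  let e : Fin (Fintype.card S) ≃ S := (Fintype.equivFin S).symm
  have hcard : Fintype.card S ≤ 3 := by
    rw [← Nat.card_eq_fintype_card, Nat.card_coe_set_eq]; exact h3
  obtain ⟨g, hg⟩ := main_le (k := k) (3 - Fintype.card S) (Fintype.card S) (by omega)
    (fun i => (e i).1) (fun i => (b (e i)).1) (Subtype.val_injective.comp e.injective)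
    (Subtype.val_injective.comp (b.injective.comp e.injective))
    (fun σ i => ⟨e.symm ⟨galP σ (e i).1, hS σ _ (e i).2⟩, by simp, by simp [hb σ (e i)]⟩)
  have hg' : ∀ x : S, (Matrix.GeneralLinearGroup.toLin
      ((Matrix.GeneralLinearGroup.map (algebraMap k K)) g)) • (x : Projectivization K (Fin 2 → K))
        = b x := fun x => by simpa using hg (e.symm x)
  refine ⟨g, ?_⟩
  ext z
  constructor
  · rintro ⟨x, hx, rfl⟩
    exact Set.mem_of_eq_of_mem (hg' ⟨x, hx⟩) (b ⟨x, hx⟩).2
  · intro hz
    refine ⟨b.symm ⟨z, hz⟩, (b.symm ⟨z, hz⟩).2, ?_⟩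
    show _ • _ = z
    rw [hg', Equiv.apply_symm_apply]

end Groth.Agent.S13783
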