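import Groth.Statements.S13785
import Mathlib.RingTheory.Ideal.AssociatedPrime.Finiteness
import Mathlib.RingTheory.Jacobson.Ring
import Mathlib.RingTheory.Artinian.Module
import Mathlib.RingTheory.Artinian.Ring
import Mathlib.RingTheory.Regular.IsSMulRegular
import Mathlib.RingTheory.AdicCompletion.Basic
import Mathlib.RingTheory.IntegralDomain
import Mathlib.RingTheory.FinitePresentation
import Mathlib.RingTheory.Flat.FaithfullyFlat.Basic
import Mathlib.RingTheory.Flat.FaithfullyFlat.Algebra
import Mathlib.RingTheory.IntegralClosure.IntegrallyClosed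
import Mathlib.LinearAlgebra.Matrix.MvPolynomial
import Mathlib.RingTheory.Polynomial.Basic
import Mathlib.RingTheory.Localization.FractionRing
import Mathlib.RingTheory.IntegralClosure.IsIntegral.Basic
import Mathlib.LinearAlgebra.TensorProduct.Tower
import Mathlib.RingTheory.Ideal.Quotient.Operations
import Mathlib.RingTheory.Ideal.Colon
import Mathlib.RingTheory.Support
import Mathlib.RingTheory.Noetherian.OfPrime
import Mathlib.RingTheory.HopkinsLevitzki
import Mathlib.RingTheory.Ideal.AssociatedPrime.Localization
import Mathlib.RingTheory.Flat.FaithfullyFlat.Descent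
import Mathlib.LinearAlgebra.TensorProduct.Quotient
import Mathlib.LinearAlgebra.TensorProduct.RightExactness
import Mathlib.RingTheory.PrincipalIdealDomain
import Mathlib.LinearAlgebra.Matrix.Charpoly.Basic
import Mathlib.RingTheory.Flat.Stability
import Mathlib.RingTheory.Nilpotent.Lemmas
import Mathlib.Algebra.Module.Projective
import Mathlib.RingTheory.LocalRing.ResidueField.Basic
import Mathlib.GroupTheory.OrderOfElement
import Mathlib.Algebra.EuclideanDomain.Int
import Mathlib.RingTheory.Spectrum.Maximal.Basic

set_option autoImplicit false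
universe u
open CAlg

namespace Groth.Agent.S13785
open TensorProduct

/-- For any commutative ring A, the determinant of the generic n × n matrix is a nonzerodivisor of the
polynomial ring over A in the n² matrix entries. -/
theorem result (A : Type u) [CommRing A] (n : ℕ) :
    (Matrix.mvPolynomialX (Fin n) (Fin n) A).det ∈ nonZeroDivisors (MvPolynomial (Fin n × Fin n) A) := by
  set P := MvPolynomial (Fin n × Fin n) A
  set X := Matrix.mvPolynomialX (Fin n) (Fin n) A
  let φ : P →ₐ[A] Polynomial P := MvPolynomial.aeval fun ij => Matrix.charmatrix (-X) ij.1 ij.2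
  have hd : φ X.det = Matrix.charpoly (-X) := by
    rw [AlgHom.map_det]; congr 1
    refine Matrix.ext fun i j => ?_
    exact MvPolynomial.aeval_X (fun ij : Fin n × Fin n => Matrix.charmatrix (-X) ij.1 ij.2) (i, j)
  have hm : (φ X.det).Monic := hd ▸ Matrix.charpoly_monic _
  have hinv : ∀ f, (φ f).eval 0 = f := by
    intro f
    have : (Polynomial.evalRingHom 0).comp φ.toRingHom = RingHom.id P := by
      apply MvPolynomial.ringHom_ext
      · intro a
        change Polynomial.eval 0 (φ (algebraMap A P a)) = _
        rw [φ.commutes, IsScalarTower.algebraMap_apply A P (Polynomial P), Polynomial.algebraMap_eq, Polynomial.eval_C]; rfl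
      · intro ij
        change Polynomial.eval 0 (φ (MvPolynomial.X ij)) = MvPolynomial.X ij
        rw [show φ (MvPolynomial.X ij) = _ from MvPolynomial.aeval_X _ ij]
        obtain ⟨i, j⟩ := ij
        rcases eq_or_ne i j with rfl | h
        · simp [X, Matrix.mvPolynomialX_apply]
        · simp [X, Matrix.mvPolynomialX_apply, h]
    exact RingHom.congr_fun this f
  rw [mem_nonZeroDivisors_iff_right]
  intro f hf
  have h0 : φ f * φ X.det = 0 := by rw [← map_mul, hf, map_zero]
  rw [← hinv f, hm.mul_left_eq_zero_iff.1 h0, Polynomial.eval_zero]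

end Groth.Agent.S13785
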