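import Groth.Statements.S13786
import Mathlib

set_option autoImplicit false
universe u
open CAlg

namespace Groth.Agent.S13786

open TensorProduct in

/-- For a commutative ring A and n ≥ 1, with det the determinant of the generic n × n matrix in the
polynomial ring A[X] in n² indeterminates, the A-algebra A[X]/(det) is faithfully flat over A. (For
n = 0 the determinant is 1 and the quotient is the zero ring, so n ≥ 1 is required.) -/
theorem result (A : Type u) [CommRing A] (n : ℕ) (hn : 0 < n) :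
    Module.FaithfullyFlat A
      (MvPolynomial (Fin n × Fin n) A ⧸ Ideal.span {(Matrix.mvPolynomialX (Fin n) (Fin n) A).det}) := by
  classical
  set σ := Fin n × Fin n
  set D := (Matrix.mvPolynomialX (Fin n) (Fin n) ℤ).det
  set DA := (Matrix.mvPolynomialX (Fin n) (Fin n) A).det
  have hmap : ∀ (S : Type u) [CommRing S] (g : ℤ →+* S), MvPolynomial.map g D = (Matrix.mvPolynomialX (Fin n) (Fin n) S).det := by
    intro S _ g
    rw [RingHom.map_det]
    congr 1
    ext i j
    simp [Matrix.mvPolynomialX]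
  -- torsion free over ℤ
  have htf : ∀ (c : ℤ) (s : MvPolynomial σ ℤ), c ≠ 0 → MvPolynomial.C c * s ∈ Ideal.span {D} → s ∈ Ideal.span {D} := by
    intro c s hc hs
    obtain ⟨h, hh⟩ := Ideal.mem_span_singleton'.1 hs
    clear hs
    induction hN : c.natAbs using Nat.strong_induction_on generalizing c h with
    | _ N ih =>
      by_cases h1 : c.natAbs = 1
      · rcases Int.natAbs_eq_iff.1 h1 with rfl | rfl
        · exact Ideal.mem_span_singleton'.2 ⟨h, by simpa using hh⟩
        · exact Ideal.mem_span_singleton'.2 ⟨-h, by simp only [Nat.cast_one, map_neg, map_one, neg_mul, one_mul] at hh ⊢; rw [hh, neg_neg]⟩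
      · obtain ⟨p, hp, hpd⟩ := Nat.exists_prime_and_dvd h1
        have : Fact p.Prime := ⟨hp⟩
        obtain ⟨c', rfl⟩ : (p : ℤ) ∣ c := Int.natCast_dvd.2 hpd
        have h0 : MvPolynomial.map (Int.castRingHom (ZMod p)) h = 0 := by
          have e := congrArg (MvPolynomial.map (Int.castRingHom (ZMod p))) hh
          rw [map_mul, map_mul, MvPolynomial.map_C] at e
          simp only [map_mul, map_natCast, ZMod.natCast_self, zero_mul, map_zero] at e
          refine (mul_eq_zero.1 e).resolve_right ?_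
          have : MvPolynomial.map (Int.castRingHom (ZMod p)) D = (Matrix.mvPolynomialX (Fin n) (Fin n) (ZMod p)).det := by
            rw [RingHom.map_det]
            congr 1
            ext i j
            simp [Matrix.mvPolynomialX]
          rw [this]
          exact Matrix.det_mvPolynomialX_ne_zero (Fin n) (ZMod p)
        obtain ⟨h', rfl⟩ : MvPolynomial.C (p : ℤ) ∣ h := by
          rw [MvPolynomial.C_dvd_iff_dvd_coeff]
          intro m
          have := congrArg (MvPolynomial.coeff m) h0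
          rw [MvPolynomial.coeff_map, MvPolynomial.coeff_zero] at this
          exact (ZMod.intCast_zmod_eq_zero_iff_dvd _ _).1 this
        have hc' : c' ≠ 0 := fun h => hc (by simp [h])
        refine ih c'.natAbs ?_ c' hc' h' ?_ rfl
        · rw [← hN, Int.natAbs_mul, Int.natAbs_natCast]
          exact lt_mul_of_one_lt_left (Int.natAbs_pos.2 hc') hp.one_lt
        · have e : MvPolynomial.C (p : ℤ) * (h' * D) = MvPolynomial.C (p : ℤ) * (MvPolynomial.C c' * s) := by
            rw [← mul_assoc, hh, map_mul, mul_assoc]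
          have hne : (MvPolynomial.C (p : ℤ) : MvPolynomial σ ℤ) ≠ 0 := by
            rw [Ne, MvPolynomial.C_eq_zero]; exact_mod_cast hp.ne_zero
          exact mul_left_cancel₀ hne e
  have hflatZ : Module.Flat ℤ (MvPolynomial σ ℤ ⧸ Ideal.span {D}) := by
    rw [Module.Flat.flat_iff_torsion_eq_bot_of_isBezout, eq_bot_iff]
    rintro x ⟨⟨c, hc⟩, hcx⟩
    obtain ⟨s, rfl⟩ := Ideal.Quotient.mk_surjective x
    rw [Submodule.mem_bot, Ideal.Quotient.eq_zero_iff_mem]
    refine htf c s (nonZeroDivisors.ne_zero hc) ?_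
    rw [← Ideal.Quotient.eq_zero_iff_mem, ← hcx]
    show _ = c • Ideal.Quotient.mk _ s
    rw [zsmul_eq_mul, map_mul]
    simp
  have : Module.Flat A (A ⊗[ℤ] (MvPolynomial σ ℤ ⧸ Ideal.span {D})) := inferInstance
  -- the base change map
  let mA := Ideal.Quotient.mkₐ A (Ideal.span {DA})
  let ι : (MvPolynomial σ ℤ ⧸ Ideal.span {D}) →ₐ[ℤ] (MvPolynomial σ A ⧸ Ideal.span {DA}) :=
    RingHom.toIntAlgHom (Ideal.Quotient.lift _ ((Ideal.Quotient.mk (Ideal.span {DA})).comp (MvPolynomial.map (Int.castRingHom A))) (by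
      intro a ha
      obtain ⟨c, rfl⟩ := Ideal.mem_span_singleton'.1 ha
      rw [RingHom.comp_apply, map_mul, hmap, map_mul]
      have : Ideal.Quotient.mk (Ideal.span {DA}) DA = 0 := Ideal.Quotient.eq_zero_iff_mem.2 (Ideal.mem_span_singleton_self DA)
      rw [this, mul_zero]))
  let Φ : A ⊗[ℤ] (MvPolynomial σ ℤ ⧸ Ideal.span {D}) →ₐ[A] MvPolynomial σ A ⧸ Ideal.span {DA} :=
    Algebra.TensorProduct.lift (Algebra.ofId A _) ι fun _ _ => Commute.all _ _
  let G : MvPolynomial σ A →ₐ[A] A ⊗[ℤ] (MvPolynomial σ ℤ ⧸ Ideal.span {D}) :=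
    MvPolynomial.aeval fun i => (1 : A) ⊗ₜ[ℤ] (Ideal.Quotient.mk (Ideal.span {D}) (MvPolynomial.X i))
  have hG : ∀ p : MvPolynomial σ ℤ, G (MvPolynomial.map (Int.castRingHom A) p) = (1 : A) ⊗ₜ[ℤ] Ideal.Quotient.mk _ p := by
    intro p
    have : (G.toRingHom.comp (MvPolynomial.map (Int.castRingHom A))) =
        (Algebra.TensorProduct.includeRight : (MvPolynomial σ ℤ ⧸ Ideal.span {D}) →ₐ[ℤ] _).toRingHom.comp (Ideal.Quotient.mk _) := by
      apply MvPolynomial.ringHom_ext
      · intro r; simp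
      · intro i; simp [G]
    exact RingHom.congr_fun this p
  let Ψ : (MvPolynomial σ A ⧸ Ideal.span {DA}) →ₐ[A] A ⊗[ℤ] (MvPolynomial σ ℤ ⧸ Ideal.span {D}) :=
    Ideal.Quotient.liftₐ _ G (by
      intro a ha
      obtain ⟨c, rfl⟩ := Ideal.mem_span_singleton'.1 ha
      rw [map_mul, show DA = MvPolynomial.map (Int.castRingHom A) D from (hmap A _).symm, hG,
        Ideal.Quotient.eq_zero_iff_mem.2 (Ideal.mem_span_singleton_self D), TensorProduct.tmul_zero]
      exact mul_zero (G c))
  have h1 : Φ.comp Ψ = AlgHom.id A _ := by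
    apply Ideal.Quotient.algHom_ext
    apply MvPolynomial.algHom_ext
    intro i
    show Φ (G (MvPolynomial.X i)) = _
    rw [show G (MvPolynomial.X i) = (1 : A) ⊗ₜ[ℤ] Ideal.Quotient.mk (Ideal.span {D}) (MvPolynomial.X i) from MvPolynomial.aeval_X _ i,
      Algebra.TensorProduct.lift_tmul, map_one, one_mul]
    show Ideal.Quotient.mk _ (MvPolynomial.map (Int.castRingHom A) (MvPolynomial.X i)) = _
    rw [MvPolynomial.map_X]
    rfl
  have h2 : Ψ.comp Φ = AlgHom.id A _ := by
    apply Algebra.TensorProduct.ext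
    · ext
    · apply AlgHom.coe_ringHom_injective
      apply Ideal.Quotient.ringHom_ext
      refine RingHom.ext fun p => ?_
      show Ψ (Φ ((1 : A) ⊗ₜ[ℤ] Ideal.Quotient.mk _ p)) = (1 : A) ⊗ₜ[ℤ] Ideal.Quotient.mk _ p
      rw [Algebra.TensorProduct.lift_tmul, map_one, one_mul]
      exact hG p
  have hflat : Module.Flat A (MvPolynomial σ A ⧸ Ideal.span {DA}) :=
    Module.Flat.of_linearEquiv (AlgEquiv.ofAlgHom Φ Ψ h1 h2).symm.toLinearEquiv
  -- retraction
  let r : (MvPolynomial σ A ⧸ Ideal.span {DA}) →ₐ[A] A :=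
    Ideal.Quotient.liftₐ _ (MvPolynomial.aeval fun _ => (0 : A)) (by
      intro a ha
      obtain ⟨c, rfl⟩ := Ideal.mem_span_singleton'.1 ha
      rw [map_mul, AlgHom.map_det]
      have : (AlgHom.mapMatrix (MvPolynomial.aeval fun _ : σ => (0 : A))) (Matrix.mvPolynomialX (Fin n) (Fin n) A) = 0 := by
        ext i j
        simp [Matrix.mvPolynomialX]
      have : Nonempty (Fin n) := ⟨⟨0, hn⟩⟩
      rw [‹AlgHom.mapMatrix _ _ = _›, Matrix.det_zero, mul_zero])
  refine ⟨fun m hm htop => hm.ne_top ?_⟩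
  rw [Ideal.eq_top_iff_one, ← map_one r]
  have h1mem : (1 : MvPolynomial σ A ⧸ Ideal.span {DA}) ∈ (m • ⊤ : Submodule A _) := by rw [htop]; trivial
  refine Submodule.smul_induction_on h1mem (fun a ha z _ => ?_) (fun a b ha hb => ?_)
  · rw [map_smul, smul_eq_mul]; exact Ideal.mul_mem_right _ _ ha
  · rw [map_add]; exact add_mem ha hb

end Groth.Agent.S13786
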