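import Groth.Statements.S13787
import Mathlib
import Groth.Agent.Lib.H2Alg.GLUnits

set_option autoImplicit false
universe u
open CAlg

namespace Groth.Agent.S13787
open MvPolynomial Groth.Agent.H2Alg

/-- the substitution of `diag(t,1,…,1)` -/
noncomputable def δ (A : Type u) [CommRing A] (n : ℕ) (hn : 0 < n) :
    MvPolynomial (Fin n × Fin n) A →ₐ[A] Polynomial A :=
  MvPolynomial.aeval (fun ab => (Matrix.diagonal (Pi.mulSingle (⟨0, hn⟩ : Fin n) (Polynomial.X : Polynomial A))) ab.1 ab.2)

theorem δ_det (A : Type u) [CommRing A] (n : ℕ) (hn : 0 < n) :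
    δ A n hn (Matrix.mvPolynomialX (Fin n) (Fin n) A).det = Polynomial.X := by
  rw [AlgHom.map_det, AlgHom.mapMatrix_apply]
  have : (Matrix.mvPolynomialX (Fin n) (Fin n) A).map (δ A n hn) =
      Matrix.diagonal (Pi.mulSingle (⟨0, hn⟩ : Fin n) (Polynomial.X : Polynomial A)) := by
    ext a b
    rw [Matrix.map_apply, Matrix.mvPolynomialX_apply, δ, MvPolynomial.aeval_X]
  rw [this, Matrix.det_diagonal, Finset.prod_pi_mulSingle', if_pos (Finset.mem_univ _)]

theorem key (A : Type u) [CommRing A] [Nontrivial A] (n : ℕ) (hn : 0 < n) (u : Aˣ) (j : ℤ)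
    (h : Units.map (algebraMap A (Localization.Away (Matrix.mvPolynomialX (Fin n) (Fin n) A).det)).toMonoidHom u *
          (IsLocalization.Away.algebraMap_isUnit (S := Localization.Away (Matrix.mvPolynomialX (Fin n) (Fin n) A).det)
            (Matrix.mvPolynomialX (Fin n) (Fin n) A).det).unit ^ j = 1) : u = 1 ∧ j = 0 := by
  let D := (Matrix.mvPolynomialX (Fin n) (Fin n) A).det
  let L := Localization.Away D
  let a := j.toNat
  let b := (-j).toNat
  have hj : j = (a : ℤ) - b := (Int.toNat_sub_toNat_neg j).symm
  let w : Lˣ := (IsLocalization.Away.algebraMap_isUnit (S := L) D).unit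
  have h' : Units.map (algebraMap A L).toMonoidHom u * w ^ a = w ^ b := by
    rw [hj, zpow_sub, zpow_natCast, zpow_natCast, ← mul_assoc, mul_inv_eq_one] at h
    exact h
  have h2 : algebraMap (MvPolynomial (Fin n × Fin n) A) L (C (u : A) * D ^ a) = algebraMap _ L (D ^ b) := by
    have := congrArg Units.val h'
    simp only [Units.val_mul, Units.val_pow_eq_pow_val, w, IsUnit.unit_spec, Units.coe_map] at this
    rw [map_mul, map_pow, map_pow, ← MvPolynomial.algebraMap_eq, ← IsScalarTower.algebraMap_apply]
    exact this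
  obtain ⟨⟨_, c, rfl⟩, hc⟩ := (IsLocalization.eq_iff_exists (Submonoid.powers D) L).1 h2
  have h3 := congrArg (δ A n hn) hc
  simp only [map_mul, map_pow] at h3
  rw [show δ A n hn D = Polynomial.X from δ_det A n hn, show δ A n hn (C (u : A)) = Polynomial.C (u : A) from MvPolynomial.aeval_C _ _] at h3
  have h4 : Polynomial.monomial (c + a) (u : A) = Polynomial.monomial (c + b) (1 : A) := by
    rw [← Polynomial.C_mul_X_pow_eq_monomial, ← Polynomial.C_mul_X_pow_eq_monomial, map_one, one_mul, pow_add, pow_add, ← h3]
    ring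
  rcases (Polynomial.monomial_eq_monomial_iff).1 h4 with ⟨e1, e2⟩ | ⟨e1, -⟩
  · exact ⟨Units.ext e2, by omega⟩
  · exact absurd e1 u.ne_zero

/-- Let A be a nonzero commutative ring and n ≥ 1, let det be the determinant of the generic n × n
matrix in the polynomial ring A[X] in its n² entries, and let A[X, 1/det] be the localization at det
(the coordinate ring of GL_n over A). The homomorphism Aˣ × ℤ → (A[X, 1/det])ˣ sending (a, e) to a ·
det^e is injective. (The published statement takes the exponent in the group of locally constant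
ℤ-valued functions on Spec A, which also covers A = 0; with integer exponents as here, A must be
nonzero and n ≥ 1.) -/
theorem result (A : Type u) [CommRing A] [Nontrivial A] (n : ℕ) (hn : 0 < n) :
    Function.Injective (fun p : Aˣ × ℤ =>
        Units.map (algebraMap A (Localization.Away (Matrix.mvPolynomialX (Fin n) (Fin n) A).det)).toMonoidHom p.1 *
          (IsLocalization.Away.algebraMap_isUnit (S := Localization.Away (Matrix.mvPolynomialX (Fin n) (Fin n) A).det)
            (Matrix.mvPolynomialX (Fin n) (Fin n) A).det).unit ^ p.2) := by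
  rintro ⟨u, j⟩ ⟨v, i⟩ h
  obtain ⟨h1, h2⟩ := key A n hn (u / v) (j - i) (by
    simp only at h
    rw [map_div, zpow_sub, div_eq_mul_inv, mul_mul_mul_comm, h, ← mul_inv, mul_inv_cancel])
  exact Prod.ext (div_eq_one.1 h1) (by simp only; omega)

end Groth.Agent.S13787
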