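import Groth.Statements.S13788
import Groth.Agent.S13787
import Mathlib
import Groth.Agent.Lib.H2Alg.GLUnits

set_option autoImplicit false
universe u
open CAlg

namespace Groth.Agent.S13788
open MvPolynomial Groth.Agent.H2Alg

open S13787

theorem ν_one_map {A B : Type u} [CommRing A] [CommRing B] {n : ℕ} (r : A →+* B) (f : MvPolynomial (Fin n × Fin n) A) :
    GLUnits.ν (MvPolynomial.map r f) 1 = r (GLUnits.ν f 1) := by
  unfold GLUnits.ν
  rw [MvPolynomial.eval_map, MvPolynomial.eval₂_comp]
  refine congrArg (fun g => MvPolynomial.eval₂ r g f) (funext fun ab => ?_)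
  by_cases h : ab.1 = ab.2
  · simp [Matrix.one_apply, h]
  · simp [Matrix.one_apply, h]

theorem det_map {A B : Type u} [CommRing A] [CommRing B] {n : ℕ} (r : A →+* B) :
    MvPolynomial.map r (Matrix.mvPolynomialX (Fin n) (Fin n) A).det = (Matrix.mvPolynomialX (Fin n) (Fin n) B).det := by
  rw [RingHom.map_det]
  congr 1
  ext a b
  simp [Matrix.mvPolynomialX_apply]

/-- Units of GL_n: let A be a nonzero commutative ring whose only idempotents are 0 and 1, let n ≥ 1,
let det be the determinant of the generic n × n matrix in the polynomial ring A[X] in its n²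
entries, and let A[X, 1/det] be the coordinate ring of GL_n over A. The homomorphism Aˣ × ℤ → (A[X,
1/det])ˣ, (a, e) ↦ a · det^e, is bijective if and only if A is reduced. (The published statement
allows Spec A disconnected, with exponents locally constant ℤ-valued functions on Spec A; this row
is the connected case, to which the published proof reduces.) -/
theorem result (A : Type u) [CommRing A] [Nontrivial A]
    (hconn : ∀ e : A, IsIdempotentElem e → e = 0 ∨ e = 1) (n : ℕ) (hn : 0 < n) :
    Function.Bijective (fun p : Aˣ × ℤ =>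
        Units.map (algebraMap A (Localization.Away (Matrix.mvPolynomialX (Fin n) (Fin n) A).det)).toMonoidHom p.1 *
          (IsLocalization.Away.algebraMap_isUnit (S := Localization.Away (Matrix.mvPolynomialX (Fin n) (Fin n) A).det)
            (Matrix.mvPolynomialX (Fin n) (Fin n) A).det).unit ^ p.2) ↔ IsReduced A := by
  classical
  let D := (Matrix.mvPolynomialX (Fin n) (Fin n) A).det
  let L := Localization.Away D
  let P := MvPolynomial (Fin n × Fin n) A
  let w : Lˣ := (IsLocalization.Away.algebraMap_isUnit (S := L) D).unit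
  constructor
  · intro hbij
    refine isReduced_iff_pow_one_lt 2 one_lt_two |>.2 fun a ha => ?_
    by_contra ha0
    let i0 : Fin n := ⟨0, hn⟩
    have hunit : IsUnit (algebraMap (MvPolynomial (Fin n × Fin n) A) L (1 + C a * MvPolynomial.X (i0, i0))) := by
      refine (IsUnit.of_mul_eq_one (1 - C a * MvPolynomial.X (i0, i0)) ?_).map _
      have hCa : (C a : MvPolynomial (Fin n × Fin n) A) * C a = 0 := by rw [← C_mul, ← pow_two, ha, C_0]
      calc (1 + C a * MvPolynomial.X (i0, i0)) * (1 - C a * MvPolynomial.X (i0, i0))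
          = 1 - (C a * C a) * (MvPolynomial.X (i0, i0) * MvPolynomial.X (i0, i0)) := by ring
        _ = 1 := by rw [hCa, zero_mul, sub_zero]
    obtain ⟨⟨u, j⟩, hu⟩ := hbij.2 hunit.unit
    let p := j.toNat
    let q := (-j).toNat
    have hj : j = (p : ℤ) - q := (Int.toNat_sub_toNat_neg j).symm
    have h' : Units.map (algebraMap A L).toMonoidHom u * w ^ p = hunit.unit * w ^ q := by
      rw [← hu]
      show _ = _ * w ^ j * w ^ q
      rw [hj, mul_assoc, zpow_sub, zpow_natCast, zpow_natCast, inv_mul_cancel_right]
    have h2 : algebraMap (MvPolynomial (Fin n × Fin n) A) L (C (u : A) * D ^ p) =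
        algebraMap _ L ((1 + C a * MvPolynomial.X (i0, i0)) * D ^ q) := by
      have := congrArg Units.val h'
      simp only [Units.val_mul, Units.val_pow_eq_pow_val, w, IsUnit.unit_spec, Units.coe_map] at this
      rw [map_mul, map_mul, map_pow, map_pow, ← MvPolynomial.algebraMap_eq, ← IsScalarTower.algebraMap_apply]
      exact this
    obtain ⟨⟨_, c, rfl⟩, hc⟩ := (IsLocalization.eq_iff_exists (Submonoid.powers D) L).1 h2
    have h3 := congrArg (δ A n hn) hc
    simp only [map_mul, map_pow, map_add, map_one] at h3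
    rw [show δ A n hn D = Polynomial.X from δ_det A n hn,
      show δ A n hn (C (u : A)) = Polynomial.C (u : A) from MvPolynomial.aeval_C _ _,
      show δ A n hn (C a) = Polynomial.C a from MvPolynomial.aeval_C _ _,
      show δ A n hn (MvPolynomial.X (i0, i0)) = Polynomial.X by rw [δ, MvPolynomial.aeval_X]; simp [i0]] at h3
    have h4 : Polynomial.C (u : A) * Polynomial.X ^ (c + p) =
        Polynomial.C (1 : A) * Polynomial.X ^ (c + q) + Polynomial.C a * Polynomial.X ^ (c + q + 1) := by
      rw [map_one, one_mul, pow_succ, pow_add, pow_add]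
      linear_combination h3
    have c1 := congrArg (fun z => z.coeff (c + q)) h4
    have c2 := congrArg (fun z => z.coeff (c + q + 1)) h4
    simp only [Polynomial.coeff_add, Polynomial.coeff_C_mul_X_pow] at c1 c2
    by_cases hpq : c + q = c + p
    · rw [if_neg (by omega), if_neg (by omega), zero_add] at c2
      exact ha0 c2.symm
    · rw [if_neg hpq, if_pos trivial, if_neg (by omega), add_zero] at c1
      exact zero_ne_one c1
  · intro hred
    refine ⟨S13787.result A n hn, fun v => ?_⟩
    obtain ⟨a, f, hf⟩ : ∃ (a : ℕ) (f : P), (v : L) * algebraMap _ L (D ^ a) = algebraMap _ L f := by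
      obtain ⟨⟨f, _, a, rfl⟩, hf⟩ := IsLocalization.surj (Submonoid.powers D) (v : L)
      exact ⟨a, f, hf⟩
    obtain ⟨b, g, hg⟩ : ∃ (b : ℕ) (g : P), ((v⁻¹ : Lˣ) : L) * algebraMap _ L (D ^ b) = algebraMap _ L g := by
      obtain ⟨⟨f, _, a, rfl⟩, hf⟩ := IsLocalization.surj (Submonoid.powers D) ((v⁻¹ : Lˣ) : L)
      exact ⟨a, f, hf⟩
    have h1 : algebraMap P L (f * g) = algebraMap P L (D ^ (a + b)) := by
      rw [map_mul, ← hf, ← hg, pow_add, map_mul, mul_mul_mul_comm, Units.mul_inv, one_mul]
    obtain ⟨⟨_, c, rfl⟩, hc⟩ := (IsLocalization.eq_iff_exists (Submonoid.powers D) L).1 h1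
    have hN : f * (g * D ^ c) = D ^ (c + (a + b)) := by
      rw [pow_add]
      linear_combination hc
    let N := c + (a + b)
    let c0 := GLUnits.ν f 1
    have hc0 : IsUnit c0 := by
      have := congrArg (fun z => GLUnits.ν z 1) hN
      simp only [GLUnits.ν_pow, GLUnits.ν_det, Matrix.det_one, one_pow, D] at this
      exact IsUnit.of_mul_eq_one _ ((GLUnits.ν_mul f _ 1).symm.trans this)
    -- at every geometric point
    have hpt : ∀ (p : Ideal A) [p.IsPrime], ∃ (K : Type u) (_ : Field K) (r : A →+* K),
        RingHom.ker r = p ∧ ∃ m : ℕ,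
          MvPolynomial.map r f = C (r c0) * (Matrix.mvPolynomialX (Fin n) (Fin n) K).det ^ m := by
      intro p _
      let K := AlgebraicClosure (FractionRing (A ⧸ p))
      let r : A →+* K := ((algebraMap (FractionRing (A ⧸ p)) K).comp (algebraMap (A ⧸ p) _)).comp (Ideal.Quotient.mk p)
      have hr : RingHom.ker r = p := by
        ext x
        rw [RingHom.mem_ker]
        show algebraMap (FractionRing (A ⧸ p)) K (algebraMap (A ⧸ p) _ (Ideal.Quotient.mk p x)) = 0 ↔ _
        rw [map_eq_zero, map_eq_zero_iff _ (IsFractionRing.injective (A ⧸ p) (FractionRing (A ⧸ p))),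
          Ideal.Quotient.eq_zero_iff_mem]
      obtain ⟨m, hm⟩ := GLUnits.eq_of_mul_eq_det_pow (MvPolynomial.map r f) (MvPolynomial.map r (g * D ^ c)) N (by
        rw [← map_mul, hN, map_pow, det_map])
      exact ⟨K, inferInstance, r, hr, m, by rw [ν_one_map] at hm; exact hm⟩
    -- the exponent is constant
    let F := δ A n hn f
    have hF : ∀ (p : Ideal A) [p.IsPrime], ∃ m : ℕ, ∀ k : ℕ, F.coeff k - (if k = m then c0 else 0) ∈ p ∧
        ∀ (d : Fin n × Fin n →₀ ℕ), MvPolynomial.coeff d (f - C c0 * D ^ m) ∈ p := by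
      intro p _
      obtain ⟨K, _, r, hr, m, hm⟩ := hpt p
      refine ⟨m, fun k => ⟨?_, fun d => ?_⟩⟩
      · rw [← hr, RingHom.mem_ker, map_sub]
        have hnat : ∀ z : P, (δ A n hn z).map r = δ K n hn (MvPolynomial.map r z) := by
          intro z
          refine RingHom.congr_fun (f := (Polynomial.mapRingHom r).comp (δ A n hn).toRingHom)
            (g := (δ K n hn).toRingHom.comp (MvPolynomial.map r)) ?_ z
          refine MvPolynomial.ringHom_ext (fun x => ?_) (fun ab => ?_)
          · simp [δ]
          · by_cases h : ab.1 = ab.2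
            · by_cases h' : ab.2 = ⟨0, hn⟩
              · simp [δ, Matrix.diagonal_apply, h, h']
              · simp [δ, Matrix.diagonal_apply, h, h']
            · simp [δ, Matrix.diagonal_apply, h]
        have : F.map r = Polynomial.C (r c0) * Polynomial.X ^ m := by
          rw [hnat, hm, map_mul, map_pow, δ_det, δ, MvPolynomial.aeval_C]
          rfl
        have := congrArg (fun z => z.coeff k) this
        simp only [Polynomial.coeff_map, Polynomial.coeff_C_mul_X_pow] at this
        rw [this, sub_eq_zero]
        split_ifs <;> simp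
      · rw [← hr, RingHom.mem_ker, ← MvPolynomial.coeff_map, map_sub, map_mul, map_pow, MvPolynomial.map_C, det_map, hm, sub_self, MvPolynomial.coeff_zero]
    obtain ⟨u0, hu0⟩ := hc0
    have hzero : ∀ x : A, (∀ (p : Ideal A), p.IsPrime → x ∈ p) → x = 0 := fun x hx =>
      (isNilpotent_iff_eq_zero (R := A)).1 (nilpotent_iff_mem_prime.2 hx)
    have hidem : ∀ k, IsIdempotentElem ((↑u0⁻¹ : A) * F.coeff k) := by
      intro k
      have : F.coeff k * F.coeff k - c0 * F.coeff k = 0 := hzero _ fun p hp => by
        obtain ⟨m, hm⟩ := hF p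
        have h := (hm k).1
        have e : F.coeff k * F.coeff k - c0 * F.coeff k = F.coeff k * (F.coeff k - c0) := by ring
        rw [e]
        split_ifs at h
        · exact Ideal.mul_mem_left _ _ h
        · rw [sub_zero] at h; exact Ideal.mul_mem_right _ _ h
      rw [IsIdempotentElem, mul_mul_mul_comm, sub_eq_zero.1 this, ← hu0, ← mul_assoc, mul_assoc (↑u0⁻¹ : A) _ (u0 : A),
        Units.inv_mul, mul_one]
    have hex : ∃ k, F.coeff k = c0 := by
      by_contra hno
      push Not at hno
      have hall : ∀ k, F.coeff k = 0 := fun k => by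
        rcases hconn _ (hidem k) with h | h
        · exact (Units.mul_right_eq_zero _).1 h
        · exact absurd (by rw [Units.inv_mul_eq_iff_eq_mul, mul_one] at h; rw [h, hu0]) (hno k)
      obtain ⟨p, hp⟩ := Ideal.exists_maximal A
      obtain ⟨m, hm⟩ := hF p
      have h := (hm m).1
      rw [if_pos rfl, hall, zero_sub, neg_mem_iff, ← hu0] at h
      exact hp.ne_top (Ideal.eq_top_of_isUnit_mem _ h u0.isUnit)
    obtain ⟨k0, hk0⟩ := hex
    have hfeq : f = C c0 * D ^ k0 := by
      rw [← sub_eq_zero]
      ext d
      rw [MvPolynomial.coeff_zero]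
      refine hzero _ fun p hp => ?_
      obtain ⟨m, hm⟩ := hF p
      have h := (hm k0).1
      rw [hk0] at h
      split_ifs at h with hkm
      · exact hkm ▸ (hm k0).2 d
      · rw [sub_zero, ← hu0] at h
        exact absurd (Ideal.eq_top_of_isUnit_mem _ h u0.isUnit) hp.ne_top
    refine ⟨(u0, (k0 : ℤ) - a), ?_⟩
    show Units.map (algebraMap A L).toMonoidHom u0 * w ^ ((k0 : ℤ) - a) = v
    rw [zpow_sub, zpow_natCast, zpow_natCast, ← mul_assoc, mul_inv_eq_iff_eq_mul]
    ext
    simp only [Units.val_mul, Units.val_pow_eq_pow_val, w, IsUnit.unit_spec, Units.coe_map]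
    rw [← map_pow, ← map_pow, hf, hfeq, map_mul, map_pow, ← MvPolynomial.algebraMap_eq, ← IsScalarTower.algebraMap_apply, hu0]
    rfl

end Groth.Agent.S13788
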